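import Groth.Statements.S1573
import Groth.Agent.Lib.Helper13.PuncturedAffine
import Groth.Agent.Lib.Helper13.Dominant

set_option autoImplicit false
universe u
open CategoryTheory CategoryTheory.Limits AlgebraicGeometry
open Divisors

namespace Groth.Agent.S1573

/-- Let X be locally Noetherian and U an open subscheme whose inclusion is an affine morphism. At every
point ξ outside U which is maximal under generisation among points outside U, the local ring of X
has dimension at most one; if U is dense the dimension equals one. -/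
theorem result (X : Scheme.{u}) [IsLocallyNoetherian X]
    (U : X.Opens) [IsAffineHom U.ι] (ξ : X) (hξ : ξ ∉ U) (hgen : ∀ y : X, y ∉ U → y ⤳ ξ → y = ξ) :
    ringKrullDim (X.presheaf.stalk ξ) ≤ 1 ∧ (Dense (U : Set X) → ringKrullDim (X.presheaf.stalk ξ) = 1) := by
  set j := X.fromSpecStalk ξ with hj
  -- the preimage of `U` in `Spec O_{X,ξ}` is affine
  have hV : IsAffineOpen (j ⁻¹ᵁ U) := by
    haveI : IsAffineHom (j ⁻¹ᵁ U).ι :=
      MorphismProperty.of_isPullback (isPullback_morphismRestrict j U) ‹IsAffineHom U.ι›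
    exact isAffine_of_isAffineHom (j ⁻¹ᵁ U).ι
  have hjinj : Function.Injective j := j.isEmbedding.injective
  have hcl : j (IsLocalRing.closedPoint (X.presheaf.stalk ξ)) = ξ :=
    Scheme.fromSpecStalk_closedPoint
  have hmemV : ∀ q : PrimeSpectrum (X.presheaf.stalk ξ),
      q ∈ j ⁻¹ᵁ U ↔ q ≠ IsLocalRing.closedPoint (X.presheaf.stalk ξ) := by
    intro q
    have hq : q ∈ j ⁻¹ᵁ U ↔ j q ∈ U := Iff.rfl
    rw [hq]
    constructor
    · intro h hqc
      rw [hqc, hcl] at h
      exact hξ h
    · intro h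
      by_contra hn
      have hsp : j q ⤳ ξ := by
        have : j q ∈ Set.range j := ⟨q, rfl⟩
        rw [hj, Scheme.range_fromSpecStalk] at this
        exact this
      exact h (hjinj ((hgen _ hn hsp).trans hcl.symm))
  have h1 : ringKrullDim (X.presheaf.stalk ξ) ≤ 1 :=
    Groth.Agent.Lib.Helper13.PuncturedAffine.ringKrullDim_le_one_of_isAffineOpen_punctured
      (X.presheaf.stalk ξ) (j ⁻¹ᵁ U) hmemV hV
  refine ⟨h1, fun hd => le_antisymm h1 ?_⟩
  by_contra hlt
  have h0 : ringKrullDim (X.presheaf.stalk ξ) ≤ 0 := by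
    rcases h : ringKrullDim (X.presheaf.stalk ξ) with _ | n
    · exact bot_le
    · rw [h] at hlt
      have : ¬ (1 : ℕ∞) ≤ n := fun hle => hlt (WithBot.coe_le_coe.mpr hle)
      have hn : n = 0 := ENat.lt_one_iff_eq_zero.mp (not_le.mp this)
      rw [hn]
      rfl
  have hK : Ring.KrullDimLE 0 (X.presheaf.stalk ξ) := Ring.krullDimLE_iff.mpr h0
  -- a proper generization of `ξ` inside `U`
  have hdr : DenseRange U.ι := by
    rw [DenseRange, Scheme.Opens.range_ι]
    exact hd
  obtain ⟨z, hz⟩ := Groth.Agent.Lib.Helper13.Dominant.exists_specializes_of_denseRange U.ι hdr ξ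
  have hzr : U.ι z ∈ Set.range j := by
    rw [hj, Scheme.range_fromSpecStalk]
    exact hz
  obtain ⟨q, hq⟩ := hzr
  have hqmax : q.asIdeal.IsMaximal := Ring.krullDimLE_zero_iff.mp hK q.asIdeal q.isPrime
  have hqc : q = IsLocalRing.closedPoint (X.presheaf.stalk ξ) :=
    PrimeSpectrum.ext (IsLocalRing.eq_maximalIdeal hqmax)
  rw [hqc, hcl] at hq
  exact hξ (hq ▸ z.2)

end Groth.Agent.S1573
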