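import Groth.Statements.S5161
import Groth.Agent.S1573

set_option autoImplicit false
universe u
open AlgebraicGeometry
open LocCoh

namespace Groth.Agent.S5161

/-- Let A be a Noetherian ring, X = Spec A and Y ⊆ X a closed subset whose complement U is an affine
open. Then every irreducible component of Y has codimension ≤ 1 in X, i.e. the generic point of each
irreducible component of Y is a prime of height at most 1. -/
theorem result (A : Type u) [CommRing A] [IsNoetherianRing A] (U : (Spec (CommRingCat.of A)).Opens) (hU : IsAffineOpen U) (p : PrimeSpectrum A) (hpU : (p : (Spec (CommRingCat.of A) : Type u)) ∉ (U : Set (Spec (CommRingCat.of A) : Type u))) (hmin : ∀ q : PrimeSpectrum A, q.asIdeal ≤ p.asIdeal → (q : (Spec (CommRingCat.of A) : Type u)) ∉ (U : Set (Spec (CommRingCat.of A) : Type u)) → q = p) : p.asIdeal.height ≤ 1 := by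
  haveI : IsAffine (U : Scheme.{u}) := hU
  haveI : IsAffineHom U.ι := inferInstance
  have h1 := (Groth.Agent.S1573.result (Spec (CommRingCat.of A)) U p hpU (by
    intro y hy hsp
    exact hmin y ((PrimeSpectrum.le_iff_specializes y p).mpr hsp) hy)).1
  let k : Algebra A ((Spec (CommRingCat.of A)).presheaf.stalk p) :=
    StructureSheaf.stalkAlgebra A p
  have : IsLocalization.AtPrime ((Spec (CommRingCat.of A)).presheaf.stalk p) p.asIdeal :=
    StructureSheaf.IsLocalization.to_stalk A p
  rw [IsLocalization.AtPrime.ringKrullDim_eq_height p.asIdeal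
    ((Spec (CommRingCat.of A)).presheaf.stalk p)] at h1
  exact_mod_cast h1

end Groth.Agent.S5161
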