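import Groth.Statements.S12709
import Groth.Agent.Lib.Helper1.ArtFunSurj

set_option autoImplicit false
universe u v
open CategoryTheory
open ArtFun ArtFun.Art

namespace Groth.Agent.S12709

/-- Given a morphism f : A → B in the category of Artinian local Λ-algebras with residue field k, three
conditions coincide: (1) surjectivity of f; (2) f induces an onto map from the cotangent space of A
to the cotangent space of B, which in ideal-theoretic form says f(m_A)B + m_B² = m_B; (3) the
induced map on cotangent spaces relative to Λ is surjective, written as m_Λ B + f(m_A)B + m_B² = m_B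
with m_Λ the kernel of Λ → k. -/
theorem result {Λ : Type u} {k : Type u} [CommRing Λ] [Field k] [Algebra Λ k]
    [IsNoetherianRing Λ] [Module.Finite Λ k]
    {A B : ArtFun.Art Λ k} (f : A ⟶ B) :
    List.TFAE [Function.Surjective f,
      Ideal.map f.toAlgHom (IsLocalRing.maximalIdeal A) ⊔ IsLocalRing.maximalIdeal B ^ 2 = IsLocalRing.maximalIdeal B,
      Ideal.map (algebraMap Λ B) (RingHom.ker (algebraMap Λ k)) ⊔ Ideal.map f.toAlgHom (IsLocalRing.maximalIdeal A) ⊔
        IsLocalRing.maximalIdeal B ^ 2 = IsLocalRing.maximalIdeal B] := by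
  have hfr : ∀ r : A, B.res (f.toAlgHom r) = A.res r := fun r => Art.res_app f r
  have hmaple : Ideal.map f.toAlgHom (IsLocalRing.maximalIdeal A) ≤
      IsLocalRing.maximalIdeal B := by
    rw [Ideal.map_le_iff_le_comap]
    intro r hr
    rw [Ideal.mem_comap, Art.mem_maximalIdeal_iff, hfr, ← Art.mem_maximalIdeal_iff]
    exact hr
  have hΛle : Ideal.map (algebraMap Λ B) (RingHom.ker (algebraMap Λ k)) ≤
      Ideal.map f.toAlgHom (IsLocalRing.maximalIdeal A) := by
    rw [Ideal.map_le_iff_le_comap]
    intro l hl
    rw [Ideal.mem_comap, ← f.toAlgHom.commutes l]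
    apply Ideal.mem_map_of_mem
    rw [Art.mem_maximalIdeal_iff, A.res.commutes]
    exact hl
  tfae_have 1 → 2 := by
    intro hs
    apply le_antisymm (sup_le hmaple (Ideal.pow_le_self two_ne_zero))
    intro s hs'
    obtain ⟨r, rfl⟩ := hs s
    apply Ideal.mem_sup_left
    apply Ideal.mem_map_of_mem
    rw [Art.mem_maximalIdeal_iff, ← hfr, ← Art.mem_maximalIdeal_iff]
    exact hs'
  tfae_have 2 → 3 := by
    intro h
    rw [sup_eq_right.2 hΛle]
    exact h
  tfae_have 3 → 1 := by
    intro h
    rw [sup_eq_right.2 hΛle] at h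
    have : Function.Surjective (f.toAlgHom : A →+* B) := by
      apply Groth.Agent.Lib.Helper1.ArtFunSurj.surjective_of_map_sup_sq (f.toAlgHom : A →+* B) ?_ h
      intro s
      obtain ⟨r, hr⟩ := A.res_surjective (B.res s)
      exact ⟨r, by rw [Art.mem_maximalIdeal_iff, map_sub]; erw [hfr, hr, sub_self]⟩
    exact this
  tfae_finish

end Groth.Agent.S12709
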