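import Groth.Statements.S12712
-- import your own Groth.Agent.* helpers here
import Groth.Agent.Lib.Helper1.ArtFunPullback
import Mathlib.RingTheory.Henselian
import Mathlib.FieldTheory.Separable
import Mathlib.Algebra.Polynomial.Lifts

set_option autoImplicit false
universe u v
open CategoryTheory
open ArtFun ArtFun.Art

namespace Groth.Agent.S12712


section

open Polynomial Groth.Agent.Lib.Helper1.ArtFunPullback Groth.Agent.Lib.Helper1.ArtFunBasic

theorem isAdicComplete_of_pow_eq_bot {R : Type u} [CommRing R] (J : Ideal R) (N : ℕ)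
    (hN : J ^ N = ⊥) : IsAdicComplete J R := by
  have hb : (J ^ N • ⊤ : Submodule R R) = ⊥ := by rw [hN]; simp
  refine { haus' := ?_, prec' := ?_ }
  · intro x hx
    have := hx N
    rw [hb, SModEq.bot] at this
    exact this
  · intro f hf
    refine ⟨f N, fun n => ?_⟩
    rcases le_total n N with h | h
    · exact hf h
    · have := hf h
      rw [hb, SModEq.bot] at this
      rw [this]

variable {Λ : Type u} {k : Type u} [CommRing Λ] [Field k] [Algebra Λ k]

/-- a monic polynomial over `Λ` having `c` as a simple root in `k`. -/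
lemma exists_poly [Module.Finite Λ k] [Algebra.IsSeparable (↥(algebraMap Λ k).range) k] (c : k) :
    ∃ G : Λ[X], G.Monic ∧ aeval c G = 0 ∧ aeval c (derivative G) ≠ 0 := by
  set K₀ := (algebraMap Λ k).range with hK₀
  let φ : Λ →+* K₀ := (algebraMap Λ k).rangeRestrict
  have hφ : Function.Surjective φ := (algebraMap Λ k).rangeRestrict_surjective
  have hint : IsIntegral K₀ c := Algebra.IsSeparable.isIntegral K₀ c
  have hsep : (minpoly K₀ c).Separable := Algebra.IsSeparable.isSeparable K₀ c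
  obtain ⟨G, hG, -, hGm⟩ := lifts_and_degree_eq_and_monic
    (mem_lifts_of_surjective hφ (minpoly K₀ c)) (minpoly.monic hint)
  have hcomp : (algebraMap K₀ k).comp φ = algebraMap Λ k := by
    ext x; rfl
  have key : ∀ H : Λ[X], aeval c H = aeval c (H.map φ) := by
    intro H
    rw [aeval_def, aeval_def, eval₂_map, hcomp]
  refine ⟨G, hGm, ?_, ?_⟩
  · rw [key, hG, minpoly.aeval]
  · rw [key, ← derivative_map, hG]
    exact hsep.aeval_derivative_ne_zero (minpoly.aeval K₀ c)

lemma res_aeval (A : ArtFun.Art Λ k) (a : A) (G : Λ[X]) : A.res (aeval a G) = aeval (A.res a) G :=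
  (aeval_algHom_apply A.res a G).symm

/-- Hensel: lifting the simple root. -/
lemma exists_root (A : ArtFun.Art Λ k) (c : k) (G : Λ[X]) (hGm : G.Monic) (h0 : aeval c G = 0)
    (h1 : aeval c (derivative G) ≠ 0) : ∃ α : A, aeval α G = 0 ∧ A.res α = c := by
  obtain ⟨n, hn⟩ := exists_pow_maximalIdeal_eq_bot A
  haveI : IsAdicComplete (IsLocalRing.maximalIdeal A) A := isAdicComplete_of_pow_eq_bot _ n hn
  obtain ⟨a₀, ha₀⟩ := A.res_surjective c
  have h₁ : (G.map (algebraMap Λ A)).eval a₀ ∈ IsLocalRing.maximalIdeal A := by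
    rw [ArtFun.Art.mem_maximalIdeal_iff, eval_map_algebraMap, res_aeval, ha₀, h0]
  have h₂ : IsUnit (Ideal.Quotient.mk (IsLocalRing.maximalIdeal A)
      ((G.map (algebraMap Λ A)).derivative.eval a₀)) := by
    apply IsUnit.map
    rw [← IsLocalRing.notMem_maximalIdeal, ArtFun.Art.mem_maximalIdeal_iff, derivative_map,
      eval_map_algebraMap, res_aeval, ha₀]
    exact h1
  obtain ⟨a, har, ham⟩ := HenselianRing.is_henselian (R := A) (I := IsLocalRing.maximalIdeal A)
    (G.map (algebraMap Λ A)) (hGm.map _) a₀ h₁ h₂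
  refine ⟨a, ?_, ?_⟩
  · rw [← eval_map_algebraMap]; exact har
  · rw [ArtFun.Art.mem_maximalIdeal_iff, map_sub, sub_eq_zero] at ham
    rw [ham, ha₀]

lemma root_unique (A : ArtFun.Art Λ k) (c : k) (G : Λ[X])
    (h1 : aeval c (derivative G) ≠ 0) (α β : A) (hα : aeval α G = 0) (hβ : aeval β G = 0)
    (hαc : A.res α = c) (hβc : A.res β = c) : α = β := by
  apply IsLocalRing.eq_of_eval_eq_zero_of_not_isUnit_sub (f := G.map (algebraMap Λ A))
  · rw [eval_map_algebraMap]; exact hα
  · rw [eval_map_algebraMap]; exact hβ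
  · rw [← mem_nonunits_iff, ← IsLocalRing.mem_maximalIdeal, ArtFun.Art.mem_maximalIdeal_iff, map_sub,
      hαc, hβc, sub_self]
  · rw [← IsLocalRing.notMem_maximalIdeal, ArtFun.Art.mem_maximalIdeal_iff, derivative_map,
      eval_map_algebraMap, res_aeval, hαc]
    exact h1

end

/-- If k is separable over the image of Λ → k, then for any two morphisms f₁ : A₁ → A and f₂ : A₂ → A in
the category of Artinian local Λ-algebras with residue field k the set-theoretic fibre product A₁
×_A A₂ is again an object of the category. -/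
theorem result {Λ : Type u} {k : Type u} [CommRing Λ] [Field k] [Algebra Λ k]
    [IsNoetherianRing Λ] [Module.Finite Λ k]
    [Algebra.IsSeparable (↥(algebraMap Λ k).range) k]
    {A A₁ A₂ : ArtFun.Art Λ k} (f₁ : A₁ ⟶ A) (f₂ : A₂ ⟶ A) :
    ∃ (B : ArtFun.Art Λ k) (p₁ : B ⟶ A₁) (p₂ : B ⟶ A₂), ArtFun.Art.IsFibreProd p₁ p₂ f₁ f₂ := by
  classical
  have hsurj : Function.Surjective
      (A₁.res.comp (AlgHom.pullbackFst f₁.toAlgHom f₂.toAlgHom)) := by
    intro c
    obtain ⟨G, hGm, h0, h1⟩ := exists_poly (Λ := Λ) c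
    obtain ⟨α₁, hα₁, hc₁⟩ := exists_root A₁ c G hGm h0 h1
    obtain ⟨α₂, hα₂, hc₂⟩ := exists_root A₂ c G hGm h0 h1
    have hmem : f₁.toAlgHom α₁ = f₂.toAlgHom α₂ := by
      apply root_unique A c G h1
      · rw [Polynomial.aeval_algHom_apply, hα₁, map_zero]
      · rw [Polynomial.aeval_algHom_apply, hα₂, map_zero]
      · exact (ArtFun.Art.res_app f₁ α₁).trans hc₁
      · exact (ArtFun.Art.res_app f₂ α₂).trans hc₂
    exact ⟨⟨(α₁, α₂), hmem⟩, hc₁⟩
  let Bo : ArtFun.Art Λ k :=
    { carrier := Groth.Agent.Lib.Helper1.ArtFunPullback.PB f₁ f₂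
      isLocalRing := Groth.Agent.Lib.Helper1.ArtFunPullback.pb_isLocalRing f₁ f₂
      isArtinianRing := Groth.Agent.Lib.Helper1.ArtFunPullback.pb_isArtinianRing f₁ f₂
      res := A₁.res.comp (AlgHom.pullbackFst f₁.toAlgHom f₂.toAlgHom)
      res_surjective := hsurj }
  let p₁ : Bo ⟶ A₁ := ⟨AlgHom.pullbackFst f₁.toAlgHom f₂.toAlgHom, rfl⟩
  let p₂ : Bo ⟶ A₂ := ⟨AlgHom.pullbackSnd f₁.toAlgHom f₂.toAlgHom, by
    apply AlgHom.ext
    intro (x : Groth.Agent.Lib.Helper1.ArtFunPullback.PB f₁ f₂)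
    change A₂.res (x : A₁ × A₂).2 = A₁.res (x : A₁ × A₂).1
    have hx : f₁.toAlgHom (x : A₁ × A₂).1 = f₂.toAlgHom (x : A₁ × A₂).2 := x.2
    rw [← ArtFun.Art.res_app f₂, ← ArtFun.Art.res_app f₁]
    exact congrArg A.res hx.symm⟩
  refine ⟨Bo, p₁, p₂, ?_⟩
  exact
    { w := by
        apply ArtFun.Art.hom_ext; apply AlgHom.ext
        intro (x : Groth.Agent.Lib.Helper1.ArtFunPullback.PB f₁ f₂)
        exact x.2
      inj := fun (x y : Groth.Agent.Lib.Helper1.ArtFunPullback.PB f₁ f₂) h1 h2 =>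
        Subtype.ext (Prod.ext h1 h2)
      surj := fun a₁ a₂ h => ⟨⟨(a₁, a₂), h⟩, rfl, rfl⟩ }

end Groth.Agent.S12712
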