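import Groth.Statements.S12716
import Groth.Agent.Lib.Helper1.ArtFunSurj

set_option autoImplicit false
universe u v
open CategoryTheory
open ArtFun

namespace Groth.Agent.S12716

/-- Let f : R → S be a morphism of complete local Noetherian Λ-algebras with residue field k (Λ
Noetherian, Λ → k finite). If the restriction map Der_Λ(S, k) → Der_Λ(R, k) is injective — two
Λ-derivations S → k that agree after composing with f are equal — then f is surjective. -/
theorem result {Λ : Type u} {k : Type u} [CommRing Λ] [Field k] [Algebra Λ k]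
    [IsNoetherianRing Λ] [Module.Finite Λ k]
    (R : ArtFun.CRing Λ k)
    (S : Type u) [CommRing S] [Algebra Λ S] [IsLocalRing S] [IsNoetherianRing S]
    [IsAdicComplete (IsLocalRing.maximalIdeal S) S] [Algebra S k] [IsScalarTower Λ S k]
    (hres : Function.Surjective (algebraMap S k))
    (f : R.carrier →ₐ[Λ] S) (hf : (IsScalarTower.toAlgHom Λ S k).comp f = R.res)
    (hinj : ∀ D₁ D₂ : Derivation Λ S k, (∀ r : R.carrier, D₁ (f r) = D₂ (f r)) → D₁ = D₂) :
    Function.Surjective f := by
  have hk := Groth.Agent.Lib.Helper1.ArtFunSurj.algebraMap_eq_zero_iff (k := k) hres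
  have hfr : ∀ r : R.carrier, algebraMap S k (f r) = R.res r := fun r => by
    rw [← hf]; rfl
  have hfres : ∀ s : S, ∃ r : R.carrier, s - f r ∈ IsLocalRing.maximalIdeal S := by
    intro s
    obtain ⟨r, hr⟩ := R.res_surjective (algebraMap S k s)
    exact ⟨r, by rw [← hk, map_sub, hfr, hr, sub_self]⟩
  have hmem : ∀ r : R.carrier, f r ∈ IsLocalRing.maximalIdeal S ↔
      r ∈ IsLocalRing.maximalIdeal R.carrier := fun r => by
    rw [← hk, hfr, CRing.mem_maximalIdeal_iff]
  haveI : IsAdicComplete (IsLocalRing.maximalIdeal R.carrier) R.carrier := R.isAdicComplete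
  have hsurj : Function.Surjective (f : R.carrier →+* S) := by
    apply Groth.Agent.Lib.Helper1.ArtFunSurj.surjective_of_map_sup_sq (f : R.carrier →+* S) hfres
    by_contra hne
    have hJ1 : Ideal.map (f : R.carrier →+* S) (IsLocalRing.maximalIdeal R.carrier) ⊔
        IsLocalRing.maximalIdeal S ^ 2 ≤ IsLocalRing.maximalIdeal S := by
      refine sup_le ?_ (Ideal.pow_le_self two_ne_zero)
      rw [Ideal.map_le_iff_le_comap]
      intro r hr
      exact (hmem r).2 hr
    have hJ3 : ∀ r, f r ∈ IsLocalRing.maximalIdeal S →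
        f r ∈ Ideal.map (f : R.carrier →+* S) (IsLocalRing.maximalIdeal R.carrier) ⊔
        IsLocalRing.maximalIdeal S ^ 2 := by
      intro r hr
      exact Ideal.mem_sup_left (Ideal.mem_map_of_mem _ ((hmem r).1 hr))
    obtain ⟨D, hD0, hDf⟩ := Groth.Agent.Lib.Helper1.ArtFunSurj.exists_derivation_ne_zero
      (Λ := Λ) (k := k) hres f hfres _ hJ1 le_sup_right hJ3 hne
    exact hD0 (hinj D 0 (fun r => by rw [hDf]; rfl))
  exact hsurj

end Groth.Agent.S12716
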