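import Groth.Statements.S12715
import Groth.Agent.Lib.Helper1.ArtFunSurj

set_option autoImplicit false
universe u v
open CategoryTheory
open ArtFun

namespace Groth.Agent.S12715

/-- For Λ Noetherian with a finite map to the field k and S a complete local Noetherian Λ-algebra with
residue field k (through a surjective map S → k over Λ), the space of Λ-derivations S → k is
finite-dimensional over k. -/
theorem result {Λ : Type u} {k : Type u} [CommRing Λ] [Field k] [Algebra Λ k]
    [IsNoetherianRing Λ] [Module.Finite Λ k]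
    (S : Type u) [CommRing S] [Algebra Λ S] [IsLocalRing S] [IsNoetherianRing S]
    [IsAdicComplete (IsLocalRing.maximalIdeal S) S] [Algebra S k] [IsScalarTower Λ S k]
    (hres : Function.Surjective (algebraMap S k)) :
    Module.Finite k (Derivation Λ S k) := by
  classical
  have hk := Groth.Agent.Lib.Helper1.ArtFunSurj.algebraMap_eq_zero_iff (k := k) hres
  let R₀ : CRing Λ k :=
    { carrier := S
      res := IsScalarTower.toAlgHom Λ S k
      res_surjective := hres
      isAdicComplete := inferInstance }
  have hfin : Module.Finite Λ (R₀.trunc 1) :=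
    Groth.Agent.Lib.Helper1.ArtFunPullback.finite (R₀.trunc 1)
  obtain ⟨T, hT⟩ : ∃ T : Finset (S ⧸ CRing.mpow R₀ 1), Submodule.span Λ (T : Set (S ⧸ CRing.mpow R₀ 1)) = ⊤ := hfin.fg_top
  let π : S →ₗ[Λ] (S ⧸ CRing.mpow R₀ 1) := (Ideal.Quotient.mkₐ Λ (CRing.mpow R₀ 1)).toLinearMap
  have hπ : Function.Surjective π := Ideal.Quotient.mk_surjective
  choose g hg using hπ
  let ev : Derivation Λ S k →ₗ[k] ({x // x ∈ T} → k) :=
    { toFun := fun D t => D (g t.1)
      map_add' := fun D D' => rfl
      map_smul' := fun c D => rfl }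
  apply Module.Finite.of_injective ev
  rw [← LinearMap.ker_eq_bot, LinearMap.ker_eq_bot']
  intro D hD
  -- D kills m²
  have hsq : ∀ z ∈ IsLocalRing.maximalIdeal S ^ (1 + 1), D z = 0 := by
    intro z hz
    rw [pow_succ, pow_one] at hz
    refine Submodule.mul_induction_on hz ?_ ?_
    · intro x hx y hy
      rw [D.leibniz, Algebra.smul_def, Algebra.smul_def, (hk x).2 hx, (hk y).2 hy, zero_mul,
        zero_mul, add_zero]
    · intro x y hx hy
      rw [map_add, hx, hy, add_zero]
  have hker : (⊤ : Submodule Λ S) ≤ LinearMap.ker (D : S →ₗ[Λ] k) := by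
    have h1 : Submodule.span Λ (g '' (T : Set (S ⧸ CRing.mpow R₀ 1))) ⊔ LinearMap.ker π = ⊤ := by
      rw [← Submodule.comap_map_eq, Submodule.map_span, ← Set.image_comp]
      have : (π ∘ g) = id := funext hg
      rw [this, Set.image_id]
      erw [hT]
      exact Submodule.comap_top _
    rw [← h1]
    apply sup_le
    · rw [Submodule.span_le]
      rintro _ ⟨t, ht, rfl⟩
      exact congrFun hD ⟨t, Finset.mem_coe.1 ht⟩
    · intro z hz
      have hz' : z ∈ CRing.mpow R₀ 1 := Ideal.Quotient.eq_zero_iff_mem.1 hz
      exact hsq z hz'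
  ext s
  exact hker (Submodule.mem_top : s ∈ ⊤)

end Groth.Agent.S12715
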