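import Groth.Statements.S12731
import Groth.Agent.Lib.Helper1.ArtFunDer
import Groth.Agent.Lib.Helper1.ArtFunVersal
import Groth.Agent.S12715

set_option autoImplicit false
universe u v
open CategoryTheory
open ArtFun

namespace Groth.Agent.S12731

/-- For functors, if a functor F on Artinian local Λ-algebras with residue field k with F(k) a point has
a versal family over a complete local Noetherian ring with residue field k which is bijective on
tangent spaces (a hull), then F satisfies (S1) and (S2) and has finite-dimensional tangent space. -/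
theorem result {Λ : Type u} {k : Type u} [CommRing Λ] [Field k] [Algebra Λ k]
    [IsNoetherianRing Λ] [Module.Finite Λ k]
    (F : ArtFun.Art Λ k ⥤ Type v) [ArtFun.TangentStr F] (h0 : ArtFun.H0 F) (h : ArtFun.HasHull F) :
    ArtFun.S1 F ∧ ArtFun.Heps F ∧ ArtFun.Hfin F := by
  obtain ⟨P⟩ := h
  have hsurj := Groth.Agent.Lib.Helper1.ArtFunVersal.surjective_app_of_isVersal h0 P.family
    P.miniversal.1
  refine ⟨Groth.Agent.Lib.Helper1.ArtFunVersal.s1_of_isVersal h0 P.family P.miniversal.1,
    Groth.Agent.Lib.Helper5.ArtFunLift.heps_of_isMiniversal P.family P.miniversal hsurj, ?_⟩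
  letI : Algebra P.ring.carrier k := P.ring.res.toRingHom.toAlgebra
  haveI : IsScalarTower Λ P.ring.carrier k :=
    IsScalarTower.of_algebraMap_eq (fun l => (P.ring.res.commutes l).symm)
  haveI : IsAdicComplete (IsLocalRing.maximalIdeal P.ring.carrier) P.ring.carrier :=
    P.ring.isAdicComplete
  have hres : ∀ r, algebraMap P.ring.carrier k r = P.ring.res r := fun _ => rfl
  haveI : Module.Finite k (Derivation Λ P.ring.carrier k) :=
    Groth.Agent.S12715.result P.ring.carrier P.ring.res_surjective
  exact Module.Finite.of_surjective (Groth.Agent.Lib.Helper1.ArtFunDer.tangentLin hres P.family)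
    (Groth.Agent.Lib.Helper1.ArtFunDer.tangentLin_surjective hres P.family (hsurj _))

end Groth.Agent.S12731
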