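import Groth.Statements.S0934
import Groth.Agent.Lib.Helper29.FreeIso2
import Groth.Agent.Lib.Helper17.StalkExact

set_option autoImplicit false
universe u
open CategoryTheory
open Coh

namespace Groth.Agent.S0934

open CategoryTheory.Limits AlgebraicGeometry TopologicalSpace
open Groth.Agent.Lib.Helper28.QCohLoc Groth.Agent.Lib.Helper28.TwistGen Groth.Agent.Lib.Helper29.FreeIso
open Groth.Agent.Lib.Helper17.StalkExact

/-- sections lift locally along an epimorphism -/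
theorem exists_local_lift {X : Scheme.{u}} {F G : X.Modules} (p : G ⟶ F) [Epi p] {U : X.Opens} (f : Γ(F, U))
    (x : X) (hx : x ∈ U) :
    ∃ (V : X.Opens) (hV : V ≤ U) (_ : x ∈ V) (g : Γ(G, V)), p.app V g = res F hV f := by
  obtain ⟨γ, hγ⟩ := stalkHom_surjective_of_epi p x (F.presheaf.germ U x hx f)
  obtain ⟨V₁, hxV₁, g₁, rfl⟩ := TopCat.Presheaf.exists_germ_eq G.presheaf γ
  rw [stalkHom_germ] at hγ
  obtain ⟨W, hxW, i1, i2, hres⟩ := TopCat.Presheaf.germ_eq F.presheaf x hxV₁ hx _ _ hγ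
  refine ⟨W, i2.le, hxW, res G i1.le g₁, ?_⟩
  rw [app_res]
  exact hres

theorem exists_local_lift_fin {X : Scheme.{u}} {F G : X.Modules} (p : G ⟶ F) [Epi p] {U : X.Opens} {n : ℕ}
    (f : Fin n → Γ(F, U)) (x : X) (hx : x ∈ U) :
    ∃ (V : X.Opens) (hV : V ≤ U) (_ : x ∈ V) (g : Fin n → Γ(G, V)), ∀ j, p.app V (g j) = res F hV (f j) := by
  have h := fun j => exists_local_lift p (f j) x hx
  choose V hV hxV g hg using h
  have hW : ∀ j, U ⊓ ⨅ j, V j ≤ V j := fun j => inf_le_right.trans (iInf_le V j)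
  refine ⟨U ⊓ ⨅ j, V j, inf_le_left, ⟨hx, ?_⟩, fun j => res G (hW j) (g j), fun j => ?_⟩
  · rw [SetLike.mem_coe, ← SetLike.mem_coe, Opens.coe_iInf]
    exact Set.mem_iInter.2 hxV
  · rw [app_res, hg j, res_res]

open AlgebraicGeometry in
/-- Schemes; E finite locally free, which on a scheme is locally the same as a direct summand of a
finite free module: let p : G -> F be an epimorphism of O_X-modules and φ : E -> F a morphism with E
finite locally free. Then every point has an open neighbourhood V and a morphism ψ : E|_V -> G|_V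
with ψ ≫ p|_V = φ|_V. -/
theorem result {X : Scheme.{u}} {E F G : X.Modules} (p : G ⟶ F) [Epi p] (φ : E ⟶ F)
    (hE : FlatMod.IsFinLocFree E) (x : X) :
    ∃ (V : X.Opens) (ψ : E.restrict V.ι ⟶ G.restrict V.ι), x ∈ V ∧
      ψ ≫ (Scheme.Modules.restrictFunctor V.ι).map p = (Scheme.Modules.restrictFunctor V.ι).map φ := by
  obtain ⟨U₀, n, hxU₀, ⟨e⟩⟩ := hE x
  obtain ⟨τ, hτ⟩ := exists_isBasisOn_of_iso E U₀ n e
  obtain ⟨V, hV, hxV, g, hg⟩ := exists_local_lift_fin p (fun j => φ.app U₀ (τ j)) x hxU₀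
  have hτV := hτ.mono hV
  let γ : Fin n → Γ(G.restrict V.ι, ⊤) := restrictSections G V g
  refine ⟨V, hτV.iso.inv ≫ ψ (G.restrict V.ι) γ, hxV, ?_⟩
  rw [Category.assoc, Iso.inv_comp_eq, hτV.iso_hom]
  apply biproduct.hom_ext'
  intro j
  unfold ψ
  rw [biproduct.ι_desc_assoc, biproduct.ι_desc_assoc]
  apply hom_ext_unit
  have h1 : ∀ (M N : X.Modules) (q : M ⟶ N) (σ : Γ(M.restrict V.ι, ⊤)),
      (ofSection (M.restrict V.ι) σ ≫ (Scheme.Modules.restrictFunctor V.ι).map q).app ⊤ (1 : Γ(↑V, ⊤)) =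
        q.app (V.ι ''ᵁ ⊤) (show Γ(M, V.ι ''ᵁ ⊤) from σ) := by
    intro M N q σ
    have h2 : (ofSection (M.restrict V.ι) σ ≫ (Scheme.Modules.restrictFunctor V.ι).map q).app ⊤ (1 : Γ(↑V, ⊤)) =
      ((Scheme.Modules.restrictFunctor V.ι).map q).app ⊤ ((ofSection (M.restrict V.ι) σ).app ⊤ (1 : Γ(↑V, ⊤))) := rfl
    rw [h2, ofSection_app_one, res_self]
    rfl
  rw [h1, h1]
  unfold γ restrictSections
  rw [app_res, app_res, hg j, app_res, res_res]



end Groth.Agent.S0934
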