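import Groth.Statements.S1034
import Groth.Agent.Lib.Helper8.SeqColim2

set_option autoImplicit false
universe v v' u u'
open CategoryTheory CategoryTheory.Limits
open DerLim

namespace Groth.Agent.S1034

section Aux

open CategoryTheory.Pretriangulated Groth.Agent.Lib.Helper8.SeqColim

theorem aux {D : Type u} [Category.{v} D] [Preadditive D] [Limits.HasZeroObject D] [HasShift D ℤ]
    [∀ n : ℤ, (shiftFunctor D n).Additive] [Pretriangulated D] [IsTriangulated D] [HasColimitsOfShape (Discrete ℕ) D]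
    {A : Type u'} [Category.{v'} A] [Abelian A] [HasColimitsOfShape ℕ A] [HasExactColimitsOfShape ℕ A]
    (H : D ⥤ A) [H.IsHomological] [PreservesColimitsOfShape (Discrete ℕ) H]
    (K : ℕ → D) (f : ∀ n, K n ⟶ K (n + 1)) (L : D) (i : ∀ n, K n ⟶ L) (hL : DerLim.IsHocolim K f L i) :
    ∃ e : colimit (Functor.ofSequence (fun n => H.map (f n))) ≅ H.obj L,
      ∀ n : ℕ, colimit.ι (Functor.ofSequence (fun n => H.map (f n))) n ≫ e.hom = H.map (i n) := by
  obtain ⟨δ, hT⟩ := hL
  have hιφ : ∀ n, Sigma.ι K n ≫ (𝟙 (∐ K) - shiftMap K f) = Sigma.ι K n - f n ≫ Sigma.ι K (n + 1) := by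
    intro n
    rw [Preadditive.comp_sub, Category.comp_id, ι_shiftMap]
  have hφπ : (𝟙 (∐ K) - shiftMap K f) ≫ Sigma.desc i = 0 := comp_distTriang_mor_zero₁₂ _ hT
  have hi : ∀ n, f n ≫ i (n + 1) = i n := by
    intro n
    have := congrArg (fun x => Sigma.ι K n ≫ x) hφπ
    simp only [comp_zero] at this
    rw [reassoc_of% (hιφ n), Preadditive.sub_comp, Sigma.ι_desc, Category.assoc, Sigma.ι_desc,
      sub_eq_zero] at this
    exact this.symm
  have hmono : Mono (H.map ((shiftFunctor D (1 : ℤ)).map (𝟙 (∐ K) - shiftMap K f))) := by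
    let G := shiftFunctor D (1 : ℤ) ⋙ H
    have hcG : IsColimit (Cofan.mk (G.obj (∐ K)) (fun n => G.map (Sigma.ι K n))) :=
      isColimitMapCoconeCofanMkEquiv G _ _ (isColimitOfPreserves G (coproductIsCoproduct K))
    exact mono_of_isColimit_cofan (fun n => G.map (f n)) _ hcG (G.map (𝟙 (∐ K) - shiftMap K f))
      (fun n => by
        change G.map (Sigma.ι K n) ≫ G.map _ = G.map (Sigma.ι K n) - G.map (f n) ≫ G.map (Sigma.ι K (n + 1))
        rw [← G.map_comp, ← G.map_comp, ← G.map_sub, hιφ])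
  have hδ : H.map δ = 0 := by
    have h1 : δ ≫ (shiftFunctor D (1 : ℤ)).map (𝟙 (∐ K) - shiftMap K f) = 0 :=
      comp_distTriang_mor_zero₃₁ _ hT
    rw [← cancel_mono (H.map ((shiftFunctor D (1 : ℤ)).map (𝟙 (∐ K) - shiftMap K f))), zero_comp,
      ← H.map_comp, h1, H.map_zero]
  have hepi : Epi (H.map (Sigma.desc i)) := by
    have ex := H.map_distinguished_exact _ (rot_of_distTriang _ hT)
    exact ex.epi_f hδ
  have ex := H.map_distinguished_exact _ hT
  have : Epi ((shortComplexOfDistTriangle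
      (Triangle.mk (𝟙 (∐ K) - shiftMap K f) (Sigma.desc i) δ) hT).map H).g := hepi
  have hcok := ex.gIsCokernel
  -- the colimit cofan of the `H (K n)`
  have hcH : IsColimit (Cofan.mk (H.obj (∐ K)) (fun n => H.map (Sigma.ι K n))) :=
    isColimitMapCoconeCofanMkEquiv H _ _ (isColimitOfPreserves H (coproductIsCoproduct K))
  let F' : ℕ ⥤ A := Functor.ofSequence (fun n => H.map (f n))
  let ιc : ∀ n, H.obj (K n) ⟶ colimit F' := fun n => colimit.ι F' n
  let g : H.obj (∐ K) ⟶ colimit F' := Cofan.IsColimit.desc hcH ιc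
  have hg : ∀ n, H.map (Sigma.ι K n) ≫ g = ιc n := fun n => Cofan.IsColimit.fac hcH _ n
  have hw : ∀ n, H.map (f n) ≫ ιc (n + 1) = ιc n := by
    intro n
    have := colimit.w F' (homOfLE (Nat.le_add_right n 1))
    rw [Functor.ofSequence_map_homOfLE_succ] at this
    exact this
  have hφg : H.map (𝟙 (∐ K) - shiftMap K f) ≫ g = 0 := by
    apply Cofan.IsColimit.hom_ext hcH
    intro n
    change H.map (Sigma.ι K n) ≫ H.map (𝟙 (∐ K) - shiftMap K f) ≫ g = H.map (Sigma.ι K n) ≫ 0
    rw [← H.map_comp_assoc, hιφ, H.map_sub, Preadditive.sub_comp, H.map_comp, Category.assoc, hg, hg,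
      hw, sub_self, comp_zero]
  obtain ⟨inv, hinv⟩ : ∃ inv : H.obj L ⟶ colimit F', H.map (Sigma.desc i) ≫ inv = g :=
    ⟨(CokernelCofork.IsColimit.desc' hcok g hφg).1, (CokernelCofork.IsColimit.desc' hcok g hφg).2⟩
  let hom : colimit F' ⟶ H.obj L := colimit.desc F' ⟨H.obj L,
    NatTrans.ofSequence (F := F') (G := (Functor.const ℕ).obj (H.obj L)) (fun n => H.map (i n))
      (fun n => by
        rw [Functor.ofSequence_map_homOfLE_succ]
        have h1 : H.map (f n) ≫ H.map (i (n + 1)) = H.map (i n) := by rw [← H.map_comp, hi]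
        exact h1.trans (Category.comp_id _).symm)⟩
  have hhom : ∀ n, ιc n ≫ hom = H.map (i n) := fun n => colimit.ι_desc _ _
  refine ⟨⟨hom, inv, ?_, ?_⟩, hhom⟩
  · apply colimit.hom_ext
    intro n
    change ιc n ≫ hom ≫ inv = ιc n ≫ 𝟙 _
    rw [reassoc_of% (hhom n), Category.comp_id, ← hg n, ← hinv, ← H.map_comp_assoc, Sigma.ι_desc]
  · rw [← cancel_epi (H.map (Sigma.desc i)), reassoc_of% hinv, Category.comp_id]
    apply Cofan.IsColimit.hom_ext hcH
    intro n
    change H.map (Sigma.ι K n) ≫ g ≫ hom = H.map (Sigma.ι K n) ≫ H.map (Sigma.desc i)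
    rw [reassoc_of% (hg n), hhom, ← H.map_comp, Sigma.ι_desc]

end Aux

open CategoryTheory.Pretriangulated in
/-- Let D be a pretriangulated category with countable direct sums, A an abelian category with exact
colimits of shape ℕ, and H : D ⥤ A a homological functor that preserves countable direct sums. If L
(with maps iₙ : Kₙ ⟶ L) is a homotopy colimit of a system (Kₙ, fₙ), then H(L) is the colimit of the
H(Kₙ): there is an isomorphism colimₙ H(Kₙ) ≅ H(L) compatible with the maps H(iₙ). -/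
theorem result {D : Type u} [Category.{v} D] [Preadditive D] [Limits.HasZeroObject D] [HasShift D ℤ]
    [∀ n : ℤ, (shiftFunctor D n).Additive] [Pretriangulated D] [IsTriangulated D] [HasColimitsOfShape (Discrete ℕ) D]
    {A : Type u'} [Category.{v'} A] [Abelian A] [HasColimitsOfShape ℕ A] [HasExactColimitsOfShape ℕ A]
    (H : D ⥤ A) [H.IsHomological] [PreservesColimitsOfShape (Discrete ℕ) H]
    (K : ℕ → D) (f : ∀ n, K n ⟶ K (n + 1)) (L : D) (i : ∀ n, K n ⟶ L) (hL : DerLim.IsHocolim K f L i) :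
    ∃ e : colimit (Functor.ofSequence (fun n => H.map (f n))) ≅ H.obj L,
      ∀ n : ℕ, colimit.ι (Functor.ofSequence (fun n => H.map (f n))) n ≫ e.hom = H.map (i n) := by
  exact aux H K f L i hL

end Groth.Agent.S1034
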