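import Groth.Statements.S2068
import Mathlib.Algebra.Homology.ShortComplex.ModuleCat
import Mathlib.Algebra.Module.FinitePresentation
-- import your own Groth.Agent.* helpers here

set_option autoImplicit false
universe u
open CategoryTheory
attribute [local instance] HasDerivedCategory.standard
open CAlg

namespace Groth.Agent.S2068

open CategoryTheory.Limits

/-- A submodule admitting a retraction from a finite projective module is finite projective. -/
lemma fp_of_retract {A : Type u} [CommRing A] {M : Type u} [AddCommGroup M] [Module A M]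
    [Module.Finite A M] [Module.Projective A M] (N : Submodule A M)
    (r : M →ₗ[A] N) (hr : ∀ x : N, r x = x) :
    Module.Finite A N ∧ Module.Projective A N := by
  constructor
  · exact Module.Finite.of_surjective r (fun x => ⟨x, hr x⟩)
  · exact Module.Projective.of_split N.subtype r (LinearMap.ext fun x => by simpa using hr x)

lemma kerFP {A : Type u} [CommRing A] (E : CochainComplex (ModuleCat.{u} A) ℤ) (b : ℤ)
    (hb : ∀ i : ℤ, b < i → IsZero (E.X i))
    (hP : ∀ i : ℤ, Module.Finite A (E.X i) ∧ Module.Projective A (E.X i)) :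
    ∀ (k : ℕ) (n : ℤ), b - n ≤ k → (∀ i : ℤ, n < i → E.ExactAt i) →
      Module.Finite A (LinearMap.ker (E.d n (n + 1)).hom) ∧
        Module.Projective A (LinearMap.ker (E.d n (n + 1)).hom) := by
  intro k
  induction k with
  | zero =>
    intro n hn _
    have := (hP n).1
    have := (hP n).2
    have hz : IsZero (E.X (n + 1)) := hb _ (by omega)
    have hd : ∀ x : E.X n, (E.d n (n + 1)).hom x = 0 := by
      intro x
      haveI := ModuleCat.subsingleton_of_isZero hz
      exact Subsingleton.elim _ _
    refine fp_of_retract _ (LinearMap.codRestrict _ LinearMap.id (fun x => ?_)) (fun x => ?_)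
    · simpa using hd x
    · ext; simp
  | succ k ih =>
    intro n hn hex
    have := (hP n).1
    have := (hP n).2
    obtain ⟨hf', hp'⟩ := ih (n + 1) (by push_cast at hn ⊢; omega) (fun i hi => hex i (by omega))
    -- the map φ : E^n → ker d^{n+1}
    have hdd : ∀ x : E.X n, (E.d (n + 1) (n + 1 + 1)).hom ((E.d n (n + 1)).hom x) = 0 := by
      intro x
      have h2 := ConcreteCategory.congr_hom (E.d_comp_d n (n + 1) (n + 1 + 1)) x
      rw [ConcreteCategory.comp_apply] at h2
      exact h2
    let φ : E.X n →ₗ[A] LinearMap.ker (E.d (n + 1) (n + 1 + 1)).hom :=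
      LinearMap.codRestrict _ (E.d n (n + 1)).hom (fun x => by simpa using hdd x)
    have hφ : Function.Surjective φ := by
      have h1 : E.ExactAt (n + 1) := hex _ (by omega)
      rw [E.exactAt_iff' n (n + 1) (n + 1 + 1) (by simp) (by simp)] at h1
      rw [ShortComplex.moduleCat_exact_iff] at h1
      rintro ⟨y, hy⟩
      obtain ⟨x, hx⟩ := h1 y (LinearMap.mem_ker.1 hy)
      exact ⟨x, Subtype.ext hx⟩
    obtain ⟨s, hs⟩ := Module.projective_lifting_property φ LinearMap.id hφ
    have hs' : ∀ z, φ (s z) = z := fun z => by simpa using LinearMap.congr_fun hs z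
    refine fp_of_retract _ (LinearMap.codRestrict _ (LinearMap.id - s.comp φ) (fun x => ?_))
      (fun x => ?_)
    · have h3 : ((φ (s (φ x)) : LinearMap.ker (E.d (n + 1) (n + 1 + 1)).hom) : E.X (n + 1)) =
          (E.d n (n + 1)).hom (s (φ x)) := rfl
      have h4 : ((φ x : LinearMap.ker (E.d (n + 1) (n + 1 + 1)).hom) : E.X (n + 1)) =
          (E.d n (n + 1)).hom x := rfl
      rw [LinearMap.mem_ker]
      simp only [LinearMap.sub_apply, LinearMap.id_apply, LinearMap.comp_apply, map_sub]
      rw [← h3, hs', h4, sub_self]
    · have hx : φ x = 0 := Subtype.ext (LinearMap.mem_ker.1 x.2)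
      ext
      simp [hx]


lemma fg_range_toCycles {A : Type u} [CommRing A] (S : ShortComplex (ModuleCat.{u} A))
    (hfin : Module.Finite A S.X₁) : (LinearMap.range S.moduleCatToCycles).FG := by
  rw [LinearMap.range_eq_map]
  exact Submodule.FG.map _ (Module.finite_def.1 hfin)

/-- Homology of a cochain complex of modules in degree `n` as a quotient of `ker d^n` by a
finitely generated submodule when `E^{n-1}` is finite. -/
lemma homology_desc {A : Type u} [CommRing A] (E : CochainComplex (ModuleCat.{u} A) ℤ) (n : ℤ)
    (hfin : Module.Finite A (E.X (n - 1))) :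
    ∃ (N : Submodule A (LinearMap.ker (E.d n (n + 1)).hom)), N.FG ∧
      Nonempty (E.homology n ≅ ModuleCat.of A (LinearMap.ker (E.d n (n + 1)).hom ⧸ N)) := by
  let S := E.sc' (n - 1) n (n + 1)
  refine ⟨LinearMap.range S.moduleCatToCycles, ?_, ⟨?_⟩⟩
  · exact fg_range_toCycles S hfin
  · exact ShortComplex.homologyMapIso (E.isoSc' (n - 1) n (n + 1) (by simp) (by simp)) ≪≫
      S.moduleCatHomologyIso

lemma exactAt_of {A : Type u} [CommRing A] {E : CochainComplex (ModuleCat.{u} A) ℤ} {K : Dual.D A}
    (α : DerivedCategory.Q.obj E ⟶ K) (i : ℤ)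
    (hiso : IsIso ((DerivedCategory.homologyFunctor (ModuleCat.{u} A) i).map α))
    (hz : IsZero ((DerivedCategory.homologyFunctor (ModuleCat.{u} A) i).obj K)) :
    E.ExactAt i := by
  rw [HomologicalComplex.exactAt_iff_isZero_homology]
  have h1 : IsZero ((DerivedCategory.homologyFunctor (ModuleCat.{u} A) i).obj
      (DerivedCategory.Q.obj E)) :=
    hz.of_iso (asIso ((DerivedCategory.homologyFunctor (ModuleCat.{u} A) i).map α))
  exact h1.of_iso ((DerivedCategory.homologyFunctorFactors (ModuleCat.{u} A) i).app E).symm


/-- If `K` is `m`-pseudo-coherent in `D(A)`, its cohomology in degree `m` is a finitely generated module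
when nothing above degree `m` survives, and its cohomology in degree `m+1` is finitely presented
when nothing above degree `m+1` survives. -/
theorem result {A : Type u} [CommRing A] (K : Dual.D A) (m : ℤ)
    (hK : DRing.IsPseudoCoherent A m K) :
    ((∀ i : ℤ, m < i → Limits.IsZero ((DerivedCategory.homologyFunctor (ModuleCat.{u} A) i).obj K)) →
        Module.Finite A ((DerivedCategory.homologyFunctor (ModuleCat.{u} A) m).obj K)) ∧
      ((∀ i : ℤ, m + 1 < i → Limits.IsZero ((DerivedCategory.homologyFunctor (ModuleCat.{u} A) i).obj K)) →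
        Module.FinitePresentation A ((DerivedCategory.homologyFunctor (ModuleCat.{u} A) (m + 1)).obj K)) := by
  obtain ⟨E, a, b, α, hv, hff, hiso, hepi⟩ := hK
  have hP : ∀ i : ℤ, Module.Finite A (E.X i) ∧ Module.Projective A (E.X i) := fun i => by
    have := (hff i).2
    exact ⟨(hff i).1, Module.Projective.of_free⟩
  have hb : ∀ i : ℤ, b < i → IsZero (E.X i) := fun i hi => hv i (Or.inr hi)
  constructor
  · intro hz
    obtain ⟨hf, hp⟩ := kerFP E b hb hP (b - m).toNat m (by omega)
      (fun i hi => exactAt_of α i (hiso i hi) (hz i hi))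
    obtain ⟨N, hN, ⟨e⟩⟩ := homology_desc E m (hP _).1
    have h1 : Module.Finite A
        ((HomologicalComplex.homologyFunctor (ModuleCat.{u} A) (ComplexShape.up ℤ) m).obj E) :=
      Module.Finite.equiv e.toLinearEquiv.symm
    have h2 : Module.Finite A ((DerivedCategory.homologyFunctor (ModuleCat.{u} A) m).obj
        (DerivedCategory.Q.obj E)) :=
      Module.Finite.equiv
        ((DerivedCategory.homologyFunctorFactors (ModuleCat.{u} A) m).app E).toLinearEquiv.symm
    exact Module.Finite.of_surjective
      ((DerivedCategory.homologyFunctor (ModuleCat.{u} A) m).map α).hom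
      ((ModuleCat.epi_iff_surjective _).1 hepi)
  · intro hz
    obtain ⟨hf, hp⟩ := kerFP E b hb hP (b - (m + 1)).toNat (m + 1) (by omega)
      (fun i hi => exactAt_of α i (hiso i (by omega)) (hz i hi))
    obtain ⟨N, hN, ⟨e⟩⟩ := homology_desc E (m + 1) (hP _).1
    have h0 : Module.FinitePresentation A (LinearMap.ker (E.d (m + 1) (m + 1 + 1)).hom) :=
      Module.finitePresentation_of_projective _ _
    have h0' : Module.FinitePresentation A (LinearMap.ker (E.d (m + 1) (m + 1 + 1)).hom ⧸ N) :=
      Module.finitePresentation_of_surjective N.mkQ (Submodule.mkQ_surjective N)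
        (by rw [Submodule.ker_mkQ]; exact hN)
    have h1 : Module.FinitePresentation A
        ((HomologicalComplex.homologyFunctor (ModuleCat.{u} A) (ComplexShape.up ℤ) (m + 1)).obj E) :=
      Module.FinitePresentation.of_equiv e.toLinearEquiv.symm
    have h2 : Module.FinitePresentation A
        ((DerivedCategory.homologyFunctor (ModuleCat.{u} A) (m + 1)).obj
        (DerivedCategory.Q.obj E)) :=
      Module.FinitePresentation.of_equiv
        ((DerivedCategory.homologyFunctorFactors (ModuleCat.{u} A) (m + 1)).app E).toLinearEquiv.symm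
    haveI := hiso (m + 1) (by omega)
    exact Module.FinitePresentation.of_equiv
      (asIso ((DerivedCategory.homologyFunctor (ModuleCat.{u} A) (m + 1)).map α)).toLinearEquiv

end Groth.Agent.S2068
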