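import Groth.Statements.S9265
-- import your own Groth.Agent.* helpers here

set_option autoImplicit false
universe u
attribute [local instance] HasDerivedCategory.standard
open CategoryTheory
open DerCA

namespace Groth.Agent.S9265

section helpers
open Limits Pretriangulated

variable {R : Type u} [CommRing R]

theorem locFunctor_map_exact (S : Submonoid R) (T : ShortComplex (ModuleCat.{u} R)) (h : T.Exact) :
    (T.map (locFunctor S)).Exact := by
  rw [CategoryTheory.ShortComplex.ShortExact.moduleCat_exact_iff_function_exact] at h ⊢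
  exact IsLocalizedModule.map_exact S (LocalizedModule.mkLinearMap S T.X₁)
    (LocalizedModule.mkLinearMap S T.X₂) (LocalizedModule.mkLinearMap S T.X₃) _ _ h

instance (S : Submonoid R) : PreservesFiniteLimits (locFunctor (R := R) S) := by
  have := ((Functor.exact_tfae _).out 1 3).mp (locFunctor_map_exact S)
  exact this.1

instance (S : Submonoid R) : PreservesFiniteColimits (locFunctor (R := R) S) := by
  have := ((Functor.exact_tfae _).out 1 3).mp (locFunctor_map_exact S)
  exact this.2

theorem isLocalizedModule_of_isos (S : Submonoid R) {A B A' B' : ModuleCat.{u} R}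
    (g : A ⟶ B) (hg : IsLocalizedModule S g.hom) (e1 : A' ≅ A) (e2 : B ≅ B') :
    IsLocalizedModule S (e1.hom ≫ g ≫ e2.hom).hom := by
  have h1 : IsLocalizedModule S (e2.toLinearEquiv.toLinearMap ∘ₗ g.hom) :=
    IsLocalizedModule.of_linearEquiv S g.hom e2.toLinearEquiv
  have h2 : IsLocalizedModule S ((e2.toLinearEquiv.toLinearMap ∘ₗ g.hom) ∘ₗ e1.toLinearEquiv.toLinearMap) :=
    IsLocalizedModule.of_linearEquiv_right S _ e1.toLinearEquiv
  exact h2

theorem isLocalizedModule_homologyMap (S : Submonoid R) (K : DRing.Cx R) (q : ℤ) :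
    IsLocalizedModule S (HomologicalComplex.homologyMap (locCxUnit S K) q).hom := by
  have h := NatTrans.app_homology (locUnit S) (K.sc q)
  have h2 : ShortComplex.homologyMap ((K.sc q).mapNatTrans (locUnit S)) =
      ((K.sc q).mapHomologyIso (𝟭 _)).hom ≫ (locUnit S).app (K.sc q).homology ≫
        ((K.sc q).mapHomologyIso (locFunctor S)).inv := by
    rw [h, Category.assoc, Category.assoc, Iso.hom_inv_id, Category.comp_id, Iso.hom_inv_id_assoc]
  have h3 : HomologicalComplex.homologyMap (locCxUnit S K) q =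
      ShortComplex.homologyMap ((K.sc q).mapNatTrans (locUnit S)) := rfl
  rw [h3, h2]
  refine isLocalizedModule_of_isos S _ ?_ ((K.sc q).mapHomologyIso (𝟭 _))
    ((K.sc q).mapHomologyIso (locFunctor S)).symm
  change IsLocalizedModule S (LocalizedModule.mkLinearMap S _)
  infer_instance

theorem les {K L : DRing.Cx R} (φ : K ⟶ L) (q : ℤ) :
    ∃ δ : L.homology (q - 1) ⟶ (CochainComplex.mappingCocone φ).homology q,
      HomologicalComplex.homologyMap φ (q - 1) ≫ δ = 0 ∧
      (∀ x, (HomologicalComplex.homologyMap (CochainComplex.mappingCocone.fst φ) q).hom x = 0 →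
        ∃ y, δ.hom y = x) ∧
      HomologicalComplex.homologyMap (CochainComplex.mappingCocone.fst φ) q ≫
        HomologicalComplex.homologyMap φ q = 0 := by
  have hT := DerivedCategory.mappingCocone_triangle_distinguished φ
  refine ⟨CochainComplex.homologyδOfTriangle (CochainComplex.mappingCocone.triangle φ) (q-1) q
    (by omega), ?_, ?_, ?_⟩
  · exact CochainComplex.homologyMap_homologyδOfTriangle _ hT _ _ _
  · have := CochainComplex.homologyMap_exact₁_of_distTriang _ hT (q-1) q (by omega)
    rw [ShortComplex.ShortExact.moduleCat_exact_iff_function_exact] at this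
    intro x hx
    exact (this x).1 hx
  · exact CochainComplex.homologyMap_comp_eq_zero_of_distTriang _ hT q

theorem step (K : DRing.Cx R) (f' : R) (q : ℤ)
    (x : (CochainComplex.mappingCocone (locCxUnit (Submonoid.powers f') K)).homology q) (f : R)
    (hf : f = f' ∨ ∀ (q : ℤ) (z : K.homology q), ∃ n : ℕ, (f ^ n) • z = 0) :
    ∃ n : ℕ, (f ^ n) • x = 0 := by
  obtain ⟨δ, hδ0, hδex, hcomp⟩ := les (locCxUnit (Submonoid.powers f') K) q
  have hloc := isLocalizedModule_homologyMap (Submonoid.powers f') K
  obtain ⟨x1, hx1def⟩ : ∃ x1, x1 = (HomologicalComplex.homologyMap (CochainComplex.mappingCocone.fst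
    (locCxUnit (Submonoid.powers f') K)) q).hom x := ⟨_, rfl⟩
  have hx1 : (HomologicalComplex.homologyMap (locCxUnit (Submonoid.powers f') K) q).hom
      x1 = 0 := by
    have := ConcreteCategory.congr_hom hcomp x
    rw [hx1def]
    exact this
  have c1 : ∃ n : ℕ, (f ^ n) • x1 = 0 := by
    rcases hf with rfl | hf'
    · have := (hloc q).exists_of_eq (x₁ := x1) (x₂ := 0) (by rw [hx1, map_zero])
      obtain ⟨⟨c, n, rfl⟩, hc⟩ := this
      exact ⟨n, by simpa [Submonoid.smul_def] using hc⟩
    · exact hf' q x1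
  obtain ⟨n, hn⟩ := c1
  obtain ⟨y, hy⟩ := hδex (f ^ n • x) (by rw [map_smul, ← hx1def]; exact hn)
  have c2 : ∃ m : ℕ, δ.hom ((f ^ m) • y) = 0 := by
    obtain ⟨⟨z, ⟨c, m, rfl⟩⟩, hz⟩ := (hloc (q - 1)).surj y
    change (f' ^ m) • y = _ at hz
    rcases hf with rfl | hf'
    · refine ⟨m, ?_⟩
      rw [hz]
      exact ConcreteCategory.congr_hom hδ0 z
    · obtain ⟨k, hk⟩ := hf' (q - 1) z
      refine ⟨k, ?_⟩
      have : (f ^ k) • y = 0 := by
        have hu := (hloc (q - 1)).map_units ⟨f' ^ m, m, rfl⟩
        have hinj := ((Module.End.isUnit_iff _).1 hu).1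
        apply hinj
        change (f' ^ m) • ((f ^ k) • y) = (f' ^ m) • 0
        rw [smul_comm, hz, ← map_smul, hk, map_zero, smul_zero]
      rw [this, map_zero]
  obtain ⟨m, hm⟩ := c2
  refine ⟨m + n, ?_⟩
  rw [pow_add, mul_smul, ← hy, ← map_smul, hm]

theorem torsion (M : ModuleCat.{u} R) (fs : List R) :
    ∀ (q : ℤ) (x : (extCech M fs).homology q), ∀ f ∈ fs, ∃ n : ℕ, (f ^ n) • x = 0 := by
  induction fs with
  | nil => intro q x f hf; simp at hf
  | cons f' fs ih =>
    intro q x f hf
    refine step (extCech M fs) f' q x f ?_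
    rcases List.mem_cons.1 hf with h | h
    · exact Or.inl h
    · exact Or.inr (fun q z => ih q z f h)

theorem common_power {N : Type*} [AddCommGroup N] [Module R N] (x : N) (l : List R)
    (h : ∀ f ∈ l, ∃ n : ℕ, (f ^ n) • x = 0) :
    ∃ n : ℕ, 1 ≤ n ∧ ∀ f ∈ l, (f ^ n) • x = 0 := by
  induction l with
  | nil => exact ⟨1, le_refl _, by simp⟩
  | cons g l ih =>
    obtain ⟨n, hn1, hn⟩ := ih (fun f hf => h f (List.mem_cons_of_mem _ hf))
    obtain ⟨k, hk⟩ := h g List.mem_cons_self
    refine ⟨k + n, by omega, ?_⟩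
    intro f hf
    rcases List.mem_cons.1 hf with rfl | hf'
    · rw [add_comm, pow_add, mul_smul, hk, smul_zero]
    · rw [pow_add, mul_smul, hn f hf', smul_zero]

end helpers

theorem aux (R : Type u) [CommRing R] (fs : List R) (M : ModuleCat.{u} R)
    (q : ℤ) (x : DerCA.extCechH fs M q) :
    ∃ n : ℕ, 1 ≤ n ∧ ∀ f ∈ fs, (f ^ n) • x = 0 :=
  common_power x fs (torsion M fs q x)

/-- Every element of the cohomology of the extended alternating Cech complex of M with respect to f_1,
..., f_r is killed by a common power of the f_i; in particular these cohomology modules are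
supported on V(f_1, ..., f_r). -/
theorem result (R : Type u) [CommRing R] (fs : List R) (M : ModuleCat.{u} R)
    (q : ℤ) (x : DerCA.extCechH fs M q) :
    ∃ n : ℕ, 1 ≤ n ∧ ∀ f ∈ fs, (f ^ n) • x = 0 := by
  exact aux R fs M q x

end Groth.Agent.S9265
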