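import Groth.Statements.S0301
-- import your own Groth.Agent.* helpers here
import Groth.Agent.Lib.Helper26.InjHull
import Mathlib.RingTheory.Noetherian.Basic
import Mathlib.Algebra.Module.Torsion.Basic

set_option autoImplicit false
universe u v
open InjHull

namespace Groth.Agent.S0301

/-- membership in the power torsion submodule -/
lemma mem_iSup_torsionBySet_pow {R : Type u} [CommRing R] {I : Type u} [AddCommGroup I] [Module R I]
    (J : Ideal R) (x : I) :
    x ∈ (⨆ n : ℕ, Submodule.torsionBySet R I ((J ^ n : Ideal R) : Set R)) ↔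
      ∃ n : ℕ, ∀ a ∈ J ^ n, a • x = 0 := by
  rw [Submodule.mem_iSup_of_directed]
  · constructor
    · rintro ⟨n, hn⟩
      exact ⟨n, fun a ha => (Submodule.mem_torsionBySet_iff _ _).1 hn ⟨a, ha⟩⟩
    · rintro ⟨n, hn⟩
      exact ⟨n, (Submodule.mem_torsionBySet_iff _ _).2 (fun a => hn a.1 a.2)⟩
  · apply Monotone.directed_le
    intro m n hmn
    apply Submodule.torsionBySet_le_torsionBySet_of_subset
    exact Ideal.pow_le_pow_right hmn

/-- over a Noetherian ring, an essential extension of a `J`-power torsion module is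
`J`-power torsion -/
lemma powerTorsion_of_essIn {R : Type u} [CommRing R] [IsNoetherianRing R] {I : Type u}
    [AddCommGroup I] [Module R I] (J : Ideal R) {G E' : Submodule R I}
    (hG : ∀ x ∈ G, ∃ n : ℕ, ∀ a ∈ J ^ n, a • x = 0)
    (hess : Groth.Agent.Lib.Helper26.InjHull.EssIn G E') :
    ∀ x ∈ E', ∃ n : ℕ, ∀ a ∈ J ^ n, a • x = 0 := by
  intro x hx
  set K : Ideal R := LinearMap.ker (LinearMap.toSpanSingleton R I x) with hK
  have hmem : ∀ r : R, r ∈ K ↔ r • x = 0 := fun r => by
    rw [hK, LinearMap.mem_ker, LinearMap.toSpanSingleton_apply]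
  suffices h : J ≤ K.radical by
    obtain ⟨n, hn⟩ := Ideal.exists_pow_le_of_le_radical_of_fg h (IsNoetherian.noetherian _)
    exact ⟨n, fun a ha => (hmem a).1 (hn ha)⟩
  intro a ha
  by_contra hna
  have hne : ∀ n, a ^ n • x ≠ 0 := fun n h => hna ⟨n, (hmem _).2 h⟩
  let chain : ℕ →o Ideal R :=
    ⟨fun n => LinearMap.ker (LinearMap.toSpanSingleton R I (a ^ n • x)), by
      apply monotone_nat_of_le_succ
      intro n r hr
      rw [LinearMap.mem_ker, LinearMap.toSpanSingleton_apply] at hr ⊢
      rw [pow_succ', mul_smul, smul_comm, hr, smul_zero]⟩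
  obtain ⟨n, hn⟩ := monotone_stabilizes_iff_noetherian.2 inferInstance chain
  have hyE' : a ^ n • x ∈ E' := E'.smul_mem _ hx
  obtain ⟨r, hr1, hr2⟩ := hess.2 _ hyE' (hne n)
  obtain ⟨k, hk⟩ := hG _ hr1
  have h0 : a ^ k • (r • a ^ n • x) = 0 := hk _ (Ideal.pow_mem_pow ha k)
  have hr' : r ∈ chain (n + k) := by
    show r ∈ LinearMap.ker (LinearMap.toSpanSingleton R I (a ^ (n + k) • x))
    rw [LinearMap.mem_ker, LinearMap.toSpanSingleton_apply, pow_add, mul_comm, mul_smul, smul_comm]
    exact h0
  rw [← hn (n + k) (Nat.le_add_right n k)] at hr'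
  apply hr2
  have : r ∈ LinearMap.ker (LinearMap.toSpanSingleton R I (a ^ n • x)) := hr'
  rwa [LinearMap.mem_ker, LinearMap.toSpanSingleton_apply] at this

/-- Over a Noetherian ring, the submodule of an injective module consisting of the elements killed by
some power of a given ideal is again injective. -/
theorem result (R : Type u) [CommRing R] [IsNoetherianRing R] (I : Type u) [AddCommGroup I] [Module R I] (hI : Module.Injective R I) (J : Ideal R) : Module.Injective R ↥(⨆ n : ℕ, Submodule.torsionBySet R I ((J ^ n : Ideal R) : Set R)) := by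
  haveI := hI
  apply Groth.Agent.Lib.Helper26.InjHull.injective_of_forall_essIn_eq
  intro E' hE'
  apply le_antisymm _ hE'.1
  intro x hx
  rw [mem_iSup_torsionBySet_pow]
  exact powerTorsion_of_essIn J (fun y hy => (mem_iSup_torsionBySet_pow J y).1 hy) hE' x hx

end Groth.Agent.S0301
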