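import Groth.Statements.S9266
import Groth.Agent.S9265
import Mathlib.Algebra.Homology.ShortComplex.Linear

set_option autoImplicit false
universe u
attribute [local instance] HasDerivedCategory.standard
open CategoryTheory
open DerCA

namespace Groth.Agent.S9266

section helpers
open Limits

variable {R : Type u} [CommRing R]

theorem T1 (f : R) {A B : ModuleCat.{u} R} (e : A ≅ B) (h : IsIso (f • 𝟙 B)) : IsIso (f • 𝟙 A) := by
  have : f • 𝟙 A = e.hom ≫ (f • 𝟙 B) ≫ e.inv := by
    rw [Linear.smul_comp, Linear.comp_smul, Category.id_comp, e.hom_inv_id]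
  rw [this]
  infer_instance

theorem T2 (f : R) {A B : ModuleCat.{u} R} (hA : IsIso (f • 𝟙 A)) (hB : IsIso (f • 𝟙 B)) :
    IsIso (f • 𝟙 (A ⊞ B)) := by
  have : f • 𝟙 (A ⊞ B) = (biprod.mapIso (asIso (f • 𝟙 A)) (asIso (f • 𝟙 B))).hom := by
    apply biprod.hom_ext <;> simp [Linear.smul_comp, Linear.comp_smul]
  rw [this]
  infer_instance

theorem locFunctor_map_smul (S : Submonoid R) (f : R) {A B : ModuleCat.{u} R} (g : A ⟶ B) :
    (locFunctor S).map (f • g) = f • (locFunctor S).map g := by
  ext x
  change (IsLocalizedModule.map S (LocalizedModule.mkLinearMap S A) (LocalizedModule.mkLinearMap S B))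
    (f • g.hom) x = _
  rw [LinearMap.map_smul]
  rfl

theorem T3 (S : Submonoid R) (f : R) {A : ModuleCat.{u} R} (hA : IsIso (f • 𝟙 A)) :
    IsIso (f • 𝟙 ((locFunctor S).obj A)) := by
  have : f • 𝟙 ((locFunctor S).obj A) = (locFunctor S).map (f • 𝟙 A) := by
    rw [locFunctor_map_smul, CategoryTheory.Functor.map_id]
  rw [this]
  infer_instance

theorem T0 (f : R) {A : ModuleCat.{u} R} (hA : IsZero A) : IsIso (f • 𝟙 A) :=
  ⟨0, hA.eq_of_src _ _, hA.eq_of_src _ _⟩

theorem isIso_X (f : R) (M : ModuleCat.{u} R) (hM : IsIso (f • 𝟙 M)) (fs : List R) :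
    ∀ n : ℤ, IsIso (f • 𝟙 ((extCech M fs).X n)) := by
  induction fs with
  | nil =>
    intro n
    by_cases hn : n = 0
    · subst hn
      exact T1 f (HomologicalComplex.singleObjXSelf (ComplexShape.up ℤ) 0 M) hM
    · exact T0 f (HomologicalComplex.isZero_single_obj_X _ _ _ _ hn)
  | cons g fs ih =>
    intro n
    exact T1 f (mappingCoconeXIso _ n) (T2 f (ih n) (T3 _ f (ih (n - 1))))

theorem homologyMap_smul_id (f : R) (K : DRing.Cx R) (q : ℤ) :
    HomologicalComplex.homologyMap (f • 𝟙 K) q = f • 𝟙 (K.homology q) := by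
  have : HomologicalComplex.homologyMap (f • 𝟙 K) q =
      ShortComplex.homologyMap (f • 𝟙 (K.sc q)) := rfl
  rw [this, ShortComplex.homologyMap_smul, ShortComplex.homologyMap_id]
  rfl

theorem inj_homology (f : R) (K : DRing.Cx R) (hK : ∀ n, IsIso (f • 𝟙 (K.X n))) (q : ℤ) :
    Function.Injective (fun x : K.homology q => f • x) := by
  have h1 : IsIso (f • 𝟙 K) := by
    have : ∀ n, IsIso ((f • 𝟙 K).f n) := fun n => by
      rw [HomologicalComplex.smul_f_apply, HomologicalComplex.id_f]
      exact hK n
    exact HomologicalComplex.Hom.isIso_of_components _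
  have h2 : IsIso (HomologicalComplex.homologyMap (f • 𝟙 K) q) := by
    change IsIso ((HomologicalComplex.homologyFunctor _ _ q).map (f • 𝟙 K))
    infer_instance
  rw [homologyMap_smul_id] at h2
  have := (ConcreteCategory.isIso_iff_bijective _).1 h2
  exact this.1

end helpers

theorem aux (R : Type u) [CommRing R] (fs : List R)
    (M : ModuleCat.{u} R) (f : R) (hf : f ∈ Ideal.span {a : R | a ∈ fs})
    (hbij : Function.Bijective (fun m : M => f • m)) (q : ℤ) :
    Limits.IsZero (DerCA.extCechH fs M q) := by
  have hM : IsIso (f • 𝟙 M) := by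
    rw [ConcreteCategory.isIso_iff_bijective]
    exact hbij
  have hinj := inj_homology f (extCech M fs) (isIso_X f M hM fs) q
  have hsub : Subsingleton (DerCA.extCechH fs M q) := by
    refine ⟨fun x y => ?_⟩
    suffices h : ∀ x : DerCA.extCechH fs M q, x = 0 by rw [h x, h y]
    intro x
    obtain ⟨n, -, hn⟩ := Groth.Agent.S9265.result R fs M q x
    have hle : Ideal.span {a : R | a ∈ fs} ≤ (Ideal.torsionOf R _ x).radical := by
      rw [Ideal.span_le]
      intro a ha
      exact ⟨n, (Ideal.mem_torsionOf_iff _ _).2 (hn a ha)⟩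
    obtain ⟨k, hk⟩ := hle hf
    rw [Ideal.mem_torsionOf_iff] at hk
    clear hn hle
    induction k with
    | zero => simpa using hk
    | succ k ih =>
      apply ih
      apply hinj
      change f • (f ^ k • x) = f • 0
      rw [smul_zero, ← mul_smul, ← pow_succ']
      exact hk
  exact ModuleCat.isZero_of_subsingleton _

/-- If some element f of the ideal (f_1, ..., f_r) acts invertibly on the module M, then the extended
alternating Cech complex of M with respect to f_1, ..., f_r has zero cohomology in every degree. -/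
theorem result (R : Type u) [CommRing R] (fs : List R)
    (M : ModuleCat.{u} R) (f : R) (hf : f ∈ Ideal.span {a : R | a ∈ fs})
    (hbij : Function.Bijective (fun m : M => f • m)) (q : ℤ) :
    Limits.IsZero (DerCA.extCechH fs M q) := by
  exact aux R fs M f hf hbij q

end Groth.Agent.S9266
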