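import Groth.Statements.S0319
import Mathlib.RingTheory.Depth.Rees
import Mathlib.RingTheory.Support
import Mathlib.RingTheory.Ideal.Colon

set_option autoImplicit false
universe u v
open CategoryTheory
open LocCoh

namespace Groth.Agent.S0319

open CategoryTheory Abelian RingTheory.Sequence

section
variable (R : Type u) [CommRing R] [IsNoetherianRing R] (I : Ideal R) (M : Type u) [AddCommGroup M]
  [Module R M] [Module.Finite R M]

/-- vanishing of Ext below `n`. -/
def A (n : ℕ) : Prop :=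
  ∀ i : ℕ, i < n → Subsingleton (Abelian.Ext (ModuleCat.of R (R ⧸ I)) (ModuleCat.of R M) i)

theorem A_mono {m n : ℕ} (h : n ≤ m) (hA : A R I M m) : A R I M n :=
  fun i hi => hA i (lt_of_lt_of_le hi h)

theorem supp_quot : Module.support R (R ⧸ I) = PrimeSpectrum.zeroLocus I := by
  rw [Module.support_eq_zeroLocus, Ideal.annihilator_quotient]

theorem A_of_seq (hIM : I • (⊤ : Submodule R M) ≠ ⊤) (rs : List R)
    (hreg : IsWeaklyRegular M rs) (hmem : ∀ r ∈ rs, r ∈ I) : A R I M rs.length := by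
  have hlt : I • (⊤ : Submodule R (ModuleCat.of R M)) < ⊤ := lt_top_iff_ne_top.mpr hIM
  have hle : Ideal.ofList rs ≤ I := by
    rw [Ideal.ofList, Ideal.span_le]
    intro r hr
    exact hmem r hr
  have hreg' : IsRegular (ModuleCat.of R M) rs := by
    refine ⟨hreg, ?_⟩
    intro h
    apply hIM
    rw [eq_top_iff]
    calc (⊤ : Submodule R M) = Ideal.ofList rs • ⊤ := h
      _ ≤ I • ⊤ := Submodule.smul_mono_left hle
  exact ModuleCat.subsingleton_ext_of_exists_isRegular I (ModuleCat.of R (R ⧸ I))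
    (supp_quot R I).subset (ModuleCat.of R M) hlt rs hmem hreg'

theorem seq_of_A (hIM : I • (⊤ : Submodule R M) ≠ ⊤) (n : ℕ) (hA : A R I M n) :
    ∃ rs : List R, rs.length = n ∧ (∀ r ∈ rs, r ∈ I) ∧ IsWeaklyRegular M rs := by
  have hlt : I • (⊤ : Submodule R (ModuleCat.of R M)) < ⊤ := lt_top_iff_ne_top.mpr hIM
  obtain ⟨rs, h1, h2, h3⟩ := ModuleCat.exists_isRegular_of_exists_subsingleton_ext I n
    (ModuleCat.of R M) hlt (ModuleCat.of R (R ⧸ I)) (supp_quot R I) hA
  exact ⟨rs, h1, h2, h3.toIsWeaklyRegular⟩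

theorem depth_eq_iff (hIM : I • (⊤ : Submodule R M) ≠ ⊤) (n : ℕ) :
    LocCoh.idealDepth I M = n ↔ A R I M n ∧ ¬ A R I M (n + 1) := by
  rw [LocCoh.idealDepth, if_neg hIM]
  constructor
  · intro h
    have hle : ∀ rs : List R, IsWeaklyRegular M rs ∧ (∀ r ∈ rs, r ∈ I) → rs.length ≤ n := by
      intro rs hrs
      have : (rs.length : ℕ∞) ≤ n := by
        rw [← h]
        exact le_iSup₂ (f := fun (rs : List R)
          (_ : IsWeaklyRegular M rs ∧ ∀ r ∈ rs, r ∈ I) => (rs.length : ℕ∞)) rs hrs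
      exact_mod_cast this
    have hAn : A R I M n := by
      by_contra hnA
      have hn0 : n ≠ 0 := by
        rintro rfl
        exact hnA (fun i hi => absurd hi (Nat.not_lt_zero i))
      have hlt : ∀ rs : List R, IsWeaklyRegular M rs ∧ (∀ r ∈ rs, r ∈ I) → rs.length ≤ n - 1 := by
        intro rs hrs
        by_contra hcon
        exact hnA (A_mono R I M (by omega) (A_of_seq R I M hIM rs hrs.1 hrs.2))
      have : (n : ℕ∞) ≤ ((n - 1 : ℕ) : ℕ∞) := by
        rw [← h]
        exact iSup₂_le fun rs hrs => by exact_mod_cast hlt rs hrs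
      have : n ≤ n - 1 := by exact_mod_cast this
      omega
    refine ⟨hAn, ?_⟩
    intro hA1
    obtain ⟨rs, h1, h2, h3⟩ := seq_of_A R I M hIM (n + 1) hA1
    have := hle rs ⟨h3, h2⟩
    omega
  · rintro ⟨hAn, hnA1⟩
    apply le_antisymm
    · refine iSup₂_le fun rs hrs => ?_
      have : rs.length ≤ n := by
        by_contra hcon
        exact hnA1 (A_mono R I M (by omega) (A_of_seq R I M hIM rs hrs.1 hrs.2))
      exact_mod_cast this
    · obtain ⟨rs, h1, h2, h3⟩ := seq_of_A R I M hIM n hAn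
      rw [← h1]
      exact le_iSup₂ (f := fun (rs : List R)
        (_ : IsWeaklyRegular M rs ∧ ∀ r ∈ rs, r ∈ I) => (rs.length : ℕ∞)) rs ⟨h3, h2⟩

end

/-- Part (1): =(2): for a finite module M over a Noetherian ring and an ideal I with IM ≠ M, the I-depth
of M is the least i with Ext^i(R/I, M) nonzero. (Close to Mathlib's Rees criterion; kept at low
weight to pin our depth to Mathlib's Ext.) -/
theorem result (R : Type u) [CommRing R] [IsNoetherianRing R] (I : Ideal R) (M : Type u) [AddCommGroup M] [Module R M] [Module.Finite R M] (hIM : I • (⊤ : Submodule R M) ≠ ⊤) (n : ℕ) : LocCoh.idealDepth I M = n ↔ ((∀ i : ℕ, i < n → Subsingleton (Abelian.Ext (ModuleCat.of R (R ⧸ I)) (ModuleCat.of R M) i)) ∧ Nontrivial (Abelian.Ext (ModuleCat.of R (R ⧸ I)) (ModuleCat.of R M) n)) := by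
  rw [depth_eq_iff R I M hIM n]
  constructor
  · rintro ⟨hA, hnA⟩
    refine ⟨hA, ?_⟩
    rw [← not_subsingleton_iff_nontrivial]
    intro hsub
    apply hnA
    intro i hi
    rcases Nat.lt_succ_iff_lt_or_eq.mp hi with h | rfl
    · exact hA i h
    · exact hsub
  · rintro ⟨hA, hnt⟩
    refine ⟨hA, ?_⟩
    intro hA1
    have := hA1 n (Nat.lt_succ_self n)
    exact not_subsingleton_iff_nontrivial.mpr hnt this

end Groth.Agent.S0319
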