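import Groth.Statements.S0320
import Groth.Agent.S0319

set_option autoImplicit false
universe u v
open LocCoh

namespace Groth.Agent.S0320

open CategoryTheory Abelian RingTheory.Sequence Groth.Agent.S0319

section
variable (R : Type u) [CommRing R] [IsNoetherianRing R] (I : Ideal R) (M : Type u) [AddCommGroup M]
  [Module R M] [Module.Finite R M]

theorem natCast_le_depth_iff (hIM : I • (⊤ : Submodule R M) ≠ ⊤) (n : ℕ) :
    (n : ℕ∞) ≤ LocCoh.idealDepth I M ↔ A R I M n := by
  rw [LocCoh.idealDepth, if_neg hIM]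
  constructor
  · intro h
    by_contra hnA
    have hn0 : n ≠ 0 := by
      rintro rfl
      exact hnA (fun i hi => absurd hi (Nat.not_lt_zero i))
    have hlt : ∀ rs : List R, IsWeaklyRegular M rs ∧ (∀ r ∈ rs, r ∈ I) → rs.length ≤ n - 1 := by
      intro rs hrs
      by_contra hcon
      exact hnA (A_mono R I M (by omega) (A_of_seq R I M hIM rs hrs.1 hrs.2))
    have : (n : ℕ∞) ≤ ((n - 1 : ℕ) : ℕ∞) :=
      h.trans (iSup₂_le fun rs hrs => by exact_mod_cast hlt rs hrs)
    have : n ≤ n - 1 := by exact_mod_cast this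
    omega
  · intro hAn
    obtain ⟨rs, h1, h2, h3⟩ := seq_of_A R I M hIM n hAn
    rw [← h1]
    exact le_iSup₂ (f := fun (rs : List R)
      (_ : IsWeaklyRegular M rs ∧ ∀ r ∈ rs, r ∈ I) => (rs.length : ℕ∞)) rs ⟨h3, h2⟩

open Pointwise Ideal in
theorem smul_top_quot_ne_top (hIM : I • (⊤ : Submodule R M) ≠ ⊤) (x : R) (hx : x ∈ I) :
    I • (⊤ : Submodule R (QuotSMulTop x M)) ≠ ⊤ := by
  by_contra eq
  absurd congrArg (Submodule.comap (Submodule.mkQ _)) eq
  simpa [Submodule.comap_smul_top_of_surjective I _ (Submodule.mkQ_surjective _),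
    Submodule.smul_mono_left ((span_singleton_le_iff_mem I).mpr hx),
    ← Submodule.ideal_span_singleton_smul] using hIM

theorem A_quot_iff (hIM : I • (⊤ : Submodule R M) ≠ ⊤) (x : R) (hx : x ∈ I)
    (hreg : IsSMulRegular M x) (k : ℕ) :
    A R I (QuotSMulTop x M) k ↔ A R I M (k + 1) := by
  have hIM' := smul_top_quot_ne_top R I M hIM x hx
  constructor
  · intro hA
    obtain ⟨rs, h1, h2, h3⟩ := seq_of_A R I (QuotSMulTop x M) hIM' k hA
    have := A_of_seq R I M hIM (x :: rs)
      ((isWeaklyRegular_cons_iff M x rs).mpr ⟨hreg, h3⟩) (by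
        intro r hr
        rcases List.mem_cons.mp hr with rfl | hr
        · exact hx
        · exact h2 r hr)
    rwa [List.length_cons, h1] at this
  · intro hA i hi
    have hreg' : IsSMulRegular (ModuleCat.of R M) x := hreg
    have zero1 := AddCommGrpCat.isZero_of_iff_subsingleton.mpr (hA i (by omega))
    have zero2 := AddCommGrpCat.isZero_of_iff_subsingleton.mpr (hA (i + 1) (by omega))
    exact AddCommGrpCat.subsingleton_of_isZero <| ShortComplex.Exact.isZero_of_both_zeros
      ((Ext.covariant_sequence_exact₃' (ModuleCat.of R (R ⧸ I))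
        hreg'.smulShortComplex_shortExact) i (i + 1) rfl)
      (zero1.eq_zero_of_src _) (zero2.eq_zero_of_tgt _)

end

/-- For a finite module M over a Noetherian ring with IM ≠ M and x ∈ I a non-zero-divisor on M, the
I-depth of M/xM is one less than that of M. -/
theorem result (R : Type u) [CommRing R] [IsNoetherianRing R] (I : Ideal R) (M : Type u) [AddCommGroup M] [Module R M] [Module.Finite R M] (hIM : I • (⊤ : Submodule R M) ≠ ⊤) (x : R) (hx : x ∈ I) (hreg : IsSMulRegular M x) : LocCoh.idealDepth I (QuotSMulTop x M) + 1 = LocCoh.idealDepth I M := by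
  have hIM' := smul_top_quot_ne_top R I M hIM x hx
  apply ENat.eq_of_forall_natCast_le_iff
  intro m
  cases m with
  | zero => simp
  | succ k =>
    rw [natCast_le_depth_iff R I M hIM, ← A_quot_iff R I M hIM x hx hreg k,
      ← natCast_le_depth_iff R I _ hIM']
    push_cast
    exact ENat.add_le_add_iff_right (by simp)

end Groth.Agent.S0320
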