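import Groth.Statements.S0321
import Groth.Agent.S0320
import Mathlib.Algebra.Homology.DerivedCategory.Ext.Linear
import Mathlib.Algebra.Homology.DerivedCategory.Ext.ExactSequences
import Mathlib.RingTheory.Finiteness.Nakayama

set_option autoImplicit false
universe u v
open LocCoh

namespace Groth.Agent.S0321

open CategoryTheory Abelian RingTheory.Sequence Groth.Agent.S0319 Groth.Agent.S0320

section
variable (R : Type u) [CommRing R] [IsNoetherianRing R] (I : Ideal R) (M : Type u) [AddCommGroup M]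
  [Module R M] [Module.Finite R M]

theorem ext_subsingleton_of_smul_top_eq_top (hIM : I • (⊤ : Submodule R M) = ⊤) (i : ℕ) :
    Subsingleton (Abelian.Ext (ModuleCat.of R (R ⧸ I)) (ModuleCat.of R M) i) := by
  obtain ⟨r, hr, hr0⟩ := Submodule.exists_sub_one_mem_and_smul_eq_zero_of_fg_of_le_smul I
    (⊤ : Submodule R M) (Module.Finite.fg_top) (by rw [hIM])
  refine ⟨fun x y => ?_⟩
  suffices h : ∀ z : Abelian.Ext (ModuleCat.of R (R ⧸ I)) (ModuleCat.of R M) i, z = 0 by
    rw [h x, h y]
  intro z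
  have h1 : r • z = 0 := by
    rw [Ext.smul_eq_comp_mk₀]
    have : r • 𝟙 (ModuleCat.of R M) = 0 := by
      ext m
      exact hr0 m trivial
    rw [this, Ext.mk₀_zero, Ext.comp_zero]
  have h2 : (r - 1) • z = 0 := by
    have e : (r - 1) • z = (Ext.mk₀ ((r - 1) • 𝟙 (ModuleCat.of R (R ⧸ I)))).comp z (zero_add i) := by
      rw [Ext.mk₀_smul, Ext.smul_comp, Ext.mk₀_id_comp]
    have : (r - 1) • 𝟙 (ModuleCat.of R (R ⧸ I)) = 0 := by
      ext
      change (r - 1) • ((1 : R ⧸ I)) = 0
      rw [Algebra.smul_def, mul_one]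
      exact Ideal.Quotient.eq_zero_iff_mem.mpr hr
    rw [e, this, Ext.mk₀_zero, Ext.zero_comp]
  have : z = r • z - (r - 1) • z := by
    rw [sub_smul, one_smul]; abel
  rw [this, h1, h2, sub_zero]

theorem le_depth_iff (n : ℕ) : (n : ℕ∞) ≤ LocCoh.idealDepth I M ↔ A R I M n := by
  by_cases hIM : I • (⊤ : Submodule R M) = ⊤
  · rw [LocCoh.idealDepth, if_pos hIM]
    simp only [le_top, true_iff]
    intro i _
    exact ext_subsingleton_of_smul_top_eq_top R I M hIM i
  · exact natCast_le_depth_iff R I M hIM n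

end

section LES
variable {C : Type*} [Category C] [Abelian C] [HasExt C] (X : C) {S : ShortComplex C}
  (hS : S.ShortExact)

include hS in
theorem sub2 (i : ℕ) (h1 : Subsingleton (Ext X S.X₁ i)) (h3 : Subsingleton (Ext X S.X₃ i)) :
    Subsingleton (Ext X S.X₂ i) := by
  refine ⟨fun x y => ?_⟩
  suffices h : ∀ z : Ext X S.X₂ i, z = 0 by rw [h x, h y]
  intro z
  obtain ⟨x₁, rfl⟩ := Ext.covariant_sequence_exact₂ X hS z (Subsingleton.elim _ _)
  rw [Subsingleton.elim x₁ 0, Ext.zero_comp]

include hS in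
theorem sub3 (i : ℕ) (h2 : Subsingleton (Ext X S.X₂ i)) (h1 : Subsingleton (Ext X S.X₁ (i + 1))) :
    Subsingleton (Ext X S.X₃ i) := by
  refine ⟨fun x y => ?_⟩
  suffices h : ∀ z : Ext X S.X₃ i, z = 0 by rw [h x, h y]
  intro z
  obtain ⟨x₂, rfl⟩ := Ext.covariant_sequence_exact₃ X hS z rfl (Subsingleton.elim _ _)
  rw [Subsingleton.elim x₂ 0, Ext.zero_comp]

include hS in
theorem sub1 (i : ℕ) (h2 : Subsingleton (Ext X S.X₂ i))
    (h3 : ∀ j, j + 1 = i → Subsingleton (Ext X S.X₃ j)) :
    Subsingleton (Ext X S.X₁ i) := by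
  refine ⟨fun x y => ?_⟩
  suffices h : ∀ z : Ext X S.X₁ i, z = 0 by rw [h x, h y]
  intro z
  cases i with
  | zero =>
    have := hS.mono_f
    apply Ext.postcomp_mk₀_injective_of_mono X S.f
    exact Subsingleton.elim _ _
  | succ j =>
    have := h3 j rfl
    obtain ⟨x₃, rfl⟩ := Ext.covariant_sequence_exact₁ X hS z (Subsingleton.elim _ _) rfl
    rw [Subsingleton.elim x₃ 0, Ext.zero_comp]

end LES

/-- Depth inequalities along a short exact sequence 0 → N' → N → N'' → 0 of finite modules over a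
Noetherian ring: depth N ≥ min(depth N', depth N''), depth N'' ≥ min(depth N, depth N' − 1), depth
N' ≥ min(depth N, depth N'' + 1). -/
theorem result (R : Type u) [CommRing R] [IsNoetherianRing R] (I : Ideal R) (N' : Type u) [AddCommGroup N'] [Module R N'] [Module.Finite R N'] (N : Type u) [AddCommGroup N] [Module R N] [Module.Finite R N] (N'' : Type u) [AddCommGroup N''] [Module R N''] [Module.Finite R N''] (f : N' →ₗ[R] N) (g : N →ₗ[R] N'') (hf : Function.Injective f) (hg : Function.Surjective g) (hfg : Function.Exact f g) : min (LocCoh.idealDepth I N') (LocCoh.idealDepth I N'') ≤ LocCoh.idealDepth I N ∧ min (LocCoh.idealDepth I N) (LocCoh.idealDepth I N' - 1) ≤ LocCoh.idealDepth I N'' ∧ min (LocCoh.idealDepth I N) (LocCoh.idealDepth I N'' + 1) ≤ LocCoh.idealDepth I N' := by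
  let S : ShortComplex (ModuleCat.{u} R) :=
    ModuleCat.shortComplexOfCompEqZero f g hfg.linearMap_comp_eq_zero
  have hS : S.ShortExact := ModuleCat.shortComplex_shortExact S hfg hf hg
  have key1 : ∀ n, A R I N' n → A R I N'' n → A R I N n := fun n h' h'' i hi =>
    sub2 (ModuleCat.of R (R ⧸ I)) hS i (h' i hi) (h'' i hi)
  have key2 : ∀ n, A R I N n → A R I N' (n + 1) → A R I N'' n := fun n h h' i hi =>
    sub3 (ModuleCat.of R (R ⧸ I)) hS i (h i hi) (h' (i + 1) (by omega))
  have key3 : ∀ n, A R I N (n + 1) → A R I N'' n → A R I N' (n + 1) := fun n h h'' i hi =>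
    sub1 (ModuleCat.of R (R ⧸ I)) hS i (h i hi) (fun j hj => h'' j (by omega))
  refine ⟨?_, ?_, ?_⟩
  · rw [← ENat.forall_natCast_le_iff_le]
    intro a ha
    rw [le_min_iff, le_depth_iff, le_depth_iff] at ha
    rw [le_depth_iff]
    exact key1 a ha.1 ha.2
  · rw [← ENat.forall_natCast_le_iff_le]
    intro a ha
    rw [le_min_iff] at ha
    rcases Nat.eq_zero_or_pos a with rfl | hapos
    · simp
    rw [le_depth_iff]
    apply key2 a ((le_depth_iff R I N a).mp ha.1)
    rw [← le_depth_iff]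
    have h2 := ha.2
    rcases eq_or_ne (LocCoh.idealDepth I N') ⊤ with htop | hne
    · rw [htop]; exact le_top
    · obtain ⟨k, hk⟩ := ENat.ne_top_iff_exists.mp hne
      rw [← hk] at h2 ⊢
      have : a ≤ k - 1 := by exact_mod_cast h2
      have : a + 1 ≤ k := by omega
      exact_mod_cast this
  · rw [← ENat.forall_natCast_le_iff_le]
    intro a ha
    rw [le_min_iff] at ha
    rcases Nat.eq_zero_or_pos a with rfl | hapos
    · simp
    obtain ⟨b, rfl⟩ : ∃ b, a = b + 1 := ⟨a - 1, by omega⟩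
    rw [le_depth_iff]
    apply key3 b ((le_depth_iff R I N (b + 1)).mp ha.1)
    rw [← le_depth_iff]
    have h2 := ha.2
    push_cast at h2
    exact (ENat.add_le_add_iff_right (by simp)).mp h2

end Groth.Agent.S0321
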