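import Groth.Statements.S5752
import Mathlib

set_option autoImplicit false
universe u
open EGA41

namespace Groth.Agent.S5752

/-- Let A be a Noetherian local ring with maximal ideal m and M a finitely generated A-module. Then M
has depth 0 if and only if m is an associated prime of M, i.e. if and only if M contains a copy of
the residue field. (For M = 0 the depth is ⊤ and there are no associated primes.) -/
theorem result (A : Type u) [CommRing A] [IsLocalRing A]
    [IsNoetherianRing A] (M : Type u) [AddCommGroup M] [Module A M] [Module.Finite A M] :
    LocCoh.depth A M = 0 ↔ IsLocalRing.maximalIdeal A ∈ associatedPrimes A M := by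
  classical
  unfold LocCoh.depth LocCoh.idealDepth
  constructor
  · intro h
    split_ifs at h with htop
    · exact absurd h (by simp)
    · -- the supremum is zero
      simp only [ENat.iSup_eq_zero] at h
      have hnt : Nontrivial M := by
        by_contra hcon
        rw [not_nontrivial_iff_subsingleton] at hcon
        exact htop (Subsingleton.elim _ _)
      have hnr : ∀ r ∈ IsLocalRing.maximalIdeal A, ¬ IsSMulRegular M r := by
        intro r hr hreg
        have := h [r] ⟨(RingTheory.Sequence.isWeaklyRegular_singleton_iff M r).mpr hreg,
          by simpa using hr⟩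
        simp at this
      obtain ⟨Ia, hIa⟩ := associatedPrimes.nonempty A M
      have hexist : ∃ p ∈ associatedPrimes A M, IsLocalRing.maximalIdeal A ≤ p := by
        apply (Ideal.subset_union_prime_finite (associatedPrimes.finite A M) Ia Ia _).mp
        · rw [biUnion_associatedPrimes_eq_compl_regular A M]
          exact fun r hr => hnr r hr
        · exact fun I hin _ _ => IsAssociatedPrime.isPrime hin
      obtain ⟨p, hp, hle⟩ := hexist
      have hpp : p.IsPrime := IsAssociatedPrime.isPrime hp
      have : IsLocalRing.maximalIdeal A = p :=
        (IsLocalRing.maximalIdeal.isMaximal A).eq_of_le hpp.ne_top hle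
      rw [this]
      exact hp
  · intro hm
    obtain ⟨hprime, x, hx⟩ := (isAssociatedPrime_iff).mp (AssociatedPrimes.mem_iff.mp hm)
    have hx0 : x ≠ 0 := by
      intro e
      have : (1 : A) ∈ IsLocalRing.maximalIdeal A := by
        rw [hx, e]; simp
      exact (IsLocalRing.maximalIdeal.isMaximal A).ne_top
        ((Ideal.eq_top_iff_one _).mpr this)
    have hnt : Nontrivial M := ⟨⟨x, 0, hx0⟩⟩
    have htop : ¬ (IsLocalRing.maximalIdeal A • (⊤ : Submodule A M) = ⊤) := by
      intro e
      exact Submodule.top_ne_ideal_smul_of_le_jacobson_annihilator
        (IsLocalRing.maximalIdeal_le_jacobson _) e.symm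
    rw [if_neg htop]
    simp only [ENat.iSup_eq_zero]
    rintro rs ⟨hreg, hmem⟩
    cases rs with
    | nil => simp
    | cons r rs' =>
      exfalso
      have hr : IsSMulRegular M r := ((RingTheory.Sequence.isWeaklyRegular_cons_iff M r rs').mp hreg).1
      have hrm : r ∈ IsLocalRing.maximalIdeal A := hmem r (by simp)
      rw [hx] at hrm
      have h0 : r • x = 0 := by simpa using hrm
      have : r • x = r • (0 : M) := by rw [h0, smul_zero]
      exact hx0 (hr this)

end Groth.Agent.S5752
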