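import Groth.Statements.S5754
import Mathlib.RingTheory.Ideal.AssociatedPrime.Localization
import Mathlib.RingTheory.Support
import Mathlib.RingTheory.QuotSMulTop
-- import your own Groth.Agent.* helpers here

set_option autoImplicit false
universe u
open EGA41

namespace Groth.Agent.S5754

/-- Let A be a Noetherian ring, M a finitely generated A-module and t an element of A which is
M-regular. For every associated prime p of M, every prime ideal minimal among those containing p +
tA is an associated prime of M/tM. -/
theorem result (A : Type u) [CommRing A]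
    [IsNoetherianRing A] (M : Type u) [AddCommGroup M] [Module A M] [Module.Finite A M] (t : A)
    (ht : IsSMulRegular M t) (p : Ideal A) (hp : p ∈ associatedPrimes A M) (q : Ideal A)
    (hq : q ∈ (p ⊔ Ideal.span {t}).minimalPrimes) : q ∈ associatedPrimes A (QuotSMulTop t M) := by
  classical
  rw [AssociatedPrimes.mem_iff, isAssociatedPrime_iff] at hp
  obtain ⟨hpp, x, hx⟩ := hp
  -- the submodule of elements killed by p
  let N : Submodule A M := Submodule.torsionBySet A M (p : Set A)
  have hxN : x ∈ N := by
    rw [Submodule.mem_torsionBySet_iff]
    rintro ⟨a, ha⟩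
    have : a ∈ Submodule.colon ⊥ {x} := hx ▸ ha
    simpa [Submodule.mem_colon_singleton] using this
  have hann : Module.annihilator A N = p := by
    apply le_antisymm
    · intro a ha
      rw [Module.mem_annihilator] at ha
      have h1 := ha ⟨x, hxN⟩
      rw [hx, Submodule.mem_colon_singleton, Submodule.mem_bot]
      simpa using congrArg Subtype.val h1
    · intro a ha
      rw [Module.mem_annihilator]
      rintro ⟨n, hn⟩
      rw [Submodule.mem_torsionBySet_iff] at hn
      ext
      simpa using hn ⟨a, ha⟩
  haveI : IsNoetherian A M := isNoetherian_of_isNoetherianRing_of_finite A M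
  haveI : Module.Finite A N := Module.IsNoetherian.finite A N
  -- injectivity of N/tN → M/tM
  have hinj : Function.Injective (QuotSMulTop.map t N.subtype) := by
    rw [← LinearMap.ker_eq_bot, LinearMap.ker_eq_bot']
    intro z hz
    obtain ⟨n, rfl⟩ := Submodule.Quotient.mk_surjective _ z
    rw [QuotSMulTop.map_apply_mk, Submodule.Quotient.mk_eq_zero] at hz
    rw [Submodule.Quotient.mk_eq_zero]
    rw [Submodule.mem_smul_pointwise_iff_exists] at hz ⊢
    obtain ⟨m, _, hm⟩ := hz
    have hmN : m ∈ N := by
      rw [Submodule.mem_torsionBySet_iff]
      rintro ⟨a, ha⟩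
      apply ht
      have hn := n.2
      rw [Submodule.mem_torsionBySet_iff] at hn
      have h2 := hn ⟨a, ha⟩
      simp only [smul_zero]
      rw [smul_comm, hm]
      exact h2
    exact ⟨⟨m, hmN⟩, trivial, Subtype.ext hm⟩
  apply associatedPrimes.subset_of_injective hinj
  apply Module.associatedPrimes.minimalPrimes_annihilator_subset_associatedPrimes
  have hrad : (Module.annihilator A (QuotSMulTop t N)).radical = (p ⊔ Ideal.span {t}).radical := by
    rw [← PrimeSpectrum.zeroLocus_eq_iff, ← Module.support_eq_zeroLocus, Module.support_quotSMulTop,
      Module.support_eq_zeroLocus, hann, PrimeSpectrum.zeroLocus_sup, PrimeSpectrum.zeroLocus_span]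
  rw [← Ideal.radical_minimalPrimes, hrad, Ideal.radical_minimalPrimes]
  exact hq

end Groth.Agent.S5754
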