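import Groth.Statements.S5151
import Mathlib
import Groth.Agent.Lib.Helper21.DepthKit7

set_option autoImplicit false
universe u
open LocCoh

namespace Groth.Agent.S5151
open Groth.Agent.Lib.Helper21.DepthKit RingTheory.Sequence

theorem maximal_length {A : Type u} [CommRing A] [IsNoetherianRing A] (I : Ideal A) {M : Type u} [AddCommGroup M] [Module A M] [Module.Finite A M] (hIM : I • (⊤ : Submodule A M) ≠ ⊤)
    (rs : List A) (hreg : IsWeaklyRegular M rs) (hm : ∀ r ∈ rs, r ∈ I)
    (hmax : ∀ r ∈ I, ¬ IsWeaklyRegular M (rs ++ [r])) :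
    (rs.length : ℕ∞) = LocCoh.idealDepth I M := by
  have h1 := idealDepth_quot_ofList I rs M hIM hm hreg
  have hIM' := smul_top_quot_ofList_ne_top I hIM rs hm
  have h0 : LocCoh.idealDepth I (M ⧸ (Ideal.ofList rs • ⊤ : Submodule A M)) = 0 := by
    by_contra hne
    have h1' : 1 ≤ LocCoh.idealDepth I (M ⧸ (Ideal.ofList rs • ⊤ : Submodule A M)) :=
      ENat.one_le_iff_ne_zero.2 hne
    obtain ⟨x, hxI, hx⟩ := exists_regular_of_one_le_idealDepth I hIM' h1'
    apply hmax x hxI
    rw [isWeaklyRegular_append_iff]
    refine ⟨hreg, ?_⟩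
    rw [isWeaklyRegular_cons_iff]
    exact ⟨hx, IsWeaklyRegular.nil _ _⟩
  rw [h0, zero_add] at h1
  exact h1

theorem exists_extension {A : Type u} [CommRing A] [IsNoetherianRing A] (I : Ideal A) {M : Type u} [AddCommGroup M] [Module A M] [Module.Finite A M] (hIM : I • (⊤ : Submodule A M) ≠ ⊤) (k : ℕ) (hk : LocCoh.idealDepth I M = k) :
    ∀ (n : ℕ) (rs : List A), k - rs.length = n → IsWeaklyRegular M rs → (∀ r ∈ rs, r ∈ I) →
      ∃ rs' : List A, rs <+: rs' ∧ IsWeaklyRegular M rs' ∧ (∀ r ∈ rs', r ∈ I) ∧
        ∀ r ∈ I, ¬ IsWeaklyRegular M (rs' ++ [r]) := by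
  intro n
  induction n with
  | zero =>
    intro rs hn hreg hm
    refine ⟨rs, List.prefix_refl _, hreg, hm, ?_⟩
    intro r hr hreg'
    have hm' : ∀ x ∈ rs ++ [r], x ∈ I := by
      intro x hx
      rcases List.mem_append.1 hx with h | h
      · exact hm x h
      · rw [List.mem_singleton.1 h]; exact hr
    have := length_le_idealDepth I (rs ++ [r]) hreg' hm'
    rw [hk, List.length_append, List.length_singleton] at this
    have : rs.length + 1 ≤ k := by exact_mod_cast this
    omega
  | succ n ih =>
    intro rs hn hreg hm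
    by_cases hmax : ∀ r ∈ I, ¬ IsWeaklyRegular M (rs ++ [r])
    · exact ⟨rs, List.prefix_refl _, hreg, hm, hmax⟩
    · push Not at hmax
      obtain ⟨r, hr, hreg'⟩ := hmax
      have hm' : ∀ x ∈ rs ++ [r], x ∈ I := by
        intro x hx
        rcases List.mem_append.1 hx with h | h
        · exact hm x h
        · rw [List.mem_singleton.1 h]; exact hr
      obtain ⟨rs', h1, h2, h3, h4⟩ := ih (rs ++ [r])
        (by rw [List.length_append, List.length_singleton]; omega) hreg' hm'
      exact ⟨rs', (List.prefix_append rs [r]).trans h1, h2, h3, h4⟩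


/-- Let A be a Noetherian ring, I an ideal and M a finite A-module with IM ≠ M. Every weakly M-regular
sequence of elements of I can be extended to a maximal one (one after which no element of I is
M-regular on the quotient), and any maximal weakly M-regular sequence of elements of I has length
equal to the I-depth of M. (The published statement does not assume IM ≠ M; without it the first
assertion fails: over ℤ with I = (2) and M = ℤ/3 the element 2 is M-regular with M/2M = 0, after
which every element of I is regular on the zero module, so no weakly M-regular sequence of elements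
of I is maximal, while the I-depth is infinite. With IM ≠ M every weakly M-regular sequence in I is
M-regular and the I-depth is finite.) -/
theorem result (A : Type u) [CommRing A] [IsNoetherianRing A] (I : Ideal A) (M : Type u) [AddCommGroup M] [Module A M] [Module.Finite A M] (hIM : I • (⊤ : Submodule A M) ≠ ⊤) : (∀ rs : List A, RingTheory.Sequence.IsWeaklyRegular M rs → (∀ r ∈ rs, r ∈ I) → ∃ rs' : List A, rs <+: rs' ∧ RingTheory.Sequence.IsWeaklyRegular M rs' ∧ (∀ r ∈ rs', r ∈ I) ∧ ∀ r ∈ I, ¬ RingTheory.Sequence.IsWeaklyRegular M (rs' ++ [r])) ∧ (∀ rs : List A, RingTheory.Sequence.IsWeaklyRegular M rs → (∀ r ∈ rs, r ∈ I) → (∀ r ∈ I, ¬ RingTheory.Sequence.IsWeaklyRegular M (rs ++ [r])) → (rs.length : ℕ∞) = LocCoh.idealDepth I M) := by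
  obtain ⟨k, hk⟩ := exists_nat_idealDepth I hIM
  refine ⟨fun rs hreg hm => exists_extension I hIM k hk _ rs rfl hreg hm, ?_⟩
  intro rs hreg hm hmax
  exact maximal_length I hIM rs hreg hm hmax

end Groth.Agent.S5151
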