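import Groth.Statements.S6876
import Mathlib
import Groth.Agent.Lib.Helper21.DepthKit1

set_option autoImplicit false
universe u
open CAlg

namespace Groth.Agent.S6876

open RingTheory.Sequence IsLocalRing Module Pointwise
open Groth.Agent.Lib.Helper21.DepthKit

section
variable {R : Type u} [CommRing R] {M N : Type u} [AddCommGroup M] [Module R M]
  [AddCommGroup N] [Module R N]

theorem isSMulRegular_hom (x : R) (hx : IsSMulRegular N x) : IsSMulRegular (M →ₗ[R] N) x := by
  intro f g hfg
  ext m
  apply hx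
  have := LinearMap.congr_fun hfg m
  simpa using this

/-- `Hom(M,N) → Hom(M, N/xN)`. -/
noncomputable def phi (M N : Type u) [AddCommGroup M] [Module R M]
    [AddCommGroup N] [Module R N] (x : R) : (M →ₗ[R] N) →ₗ[R] (M →ₗ[R] QuotSMulTop x N) :=
  LinearMap.compRight R (Submodule.mkQ (x • (⊤ : Submodule R N)))

theorem ker_phi (x : R) (hx : IsSMulRegular N x) :
    LinearMap.ker (phi M N x) = x • (⊤ : Submodule R (M →ₗ[R] N)) := by
  apply le_antisymm
  · intro f hf
    rw [LinearMap.mem_ker] at hf
    have hmem : ∀ m, f m ∈ LinearMap.range (LinearMap.lsmul R N x) := by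
      intro m
      have h1 : (phi M N x f) m = 0 := by rw [hf]; rfl
      have h2 : Submodule.mkQ (x • (⊤ : Submodule R N)) (f m) = 0 := h1
      rw [Submodule.mkQ_apply, Submodule.Quotient.mk_eq_zero] at h2
      obtain ⟨n, -, hn⟩ := (Submodule.mem_smul_pointwise_iff_exists _ _ _).1 h2
      exact ⟨n, hn⟩
    have hinj : Function.Injective (LinearMap.lsmul R N x) := hx
    let e := LinearEquiv.ofInjective (LinearMap.lsmul R N x) hinj
    let g : M →ₗ[R] N := e.symm.toLinearMap ∘ₗ f.codRestrict _ hmem
    have hg : x • g = f := by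
      ext m
      have h3 : (e (g m) : N) = f m := by
        show (e (e.symm (f.codRestrict _ hmem m)) : N) = f m
        rw [LinearEquiv.apply_symm_apply]; rfl
      rw [LinearMap.smul_apply, ← h3]
      rfl
    rw [← hg]
    exact Submodule.smul_mem_pointwise_smul _ _ _ Submodule.mem_top
  · intro f hf
    obtain ⟨g, -, rfl⟩ := (Submodule.mem_smul_pointwise_iff_exists _ _ _).1 hf
    rw [LinearMap.mem_ker]
    ext m
    show Submodule.mkQ (x • (⊤ : Submodule R N)) ((x • g) m) = 0
    rw [Submodule.mkQ_apply, Submodule.Quotient.mk_eq_zero, LinearMap.smul_apply]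
    exact Submodule.smul_mem_pointwise_smul _ _ _ Submodule.mem_top

theorem isWeaklyRegular_hom_pair (x y : R) (h : IsWeaklyRegular N [x, y]) :
    IsWeaklyRegular (M →ₗ[R] N) [x, y] := by
  rw [isWeaklyRegular_cons_iff] at h ⊢
  obtain ⟨hx, hy⟩ := h
  rw [isWeaklyRegular_singleton_iff] at hy
  refine ⟨isSMulRegular_hom x hx, ?_⟩
  rw [isWeaklyRegular_singleton_iff]
  let ψ : QuotSMulTop x (M →ₗ[R] N) →ₗ[R] (M →ₗ[R] QuotSMulTop x N) :=
    Submodule.liftQ _ (phi M N x) (ker_phi x hx).ge
  have hψ : Function.Injective ψ := by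
    rw [← LinearMap.ker_eq_bot]
    exact Submodule.ker_liftQ_eq_bot _ _ _ (ker_phi x hx).le
  have hy' : IsSMulRegular (M →ₗ[R] QuotSMulTop x N) y := isSMulRegular_hom y hy
  intro a b hab
  apply hψ
  apply hy'
  have := congrArg ψ hab
  simpa using this

theorem finite_hom [IsNoetherianRing R] [Module.Finite R M] [Module.Finite R N] :
    Module.Finite R (M →ₗ[R] N) := by
  obtain ⟨n, g, hg⟩ := Module.Finite.exists_fin' R M
  have hinj : Function.Injective (LinearMap.lcomp R N g) :=
    LinearMap.lcomp_injective_of_surjective g hg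
  haveI : IsNoetherian R ((Fin n → R) →ₗ[R] N) := isNoetherian_of_isNoetherianRing_of_finite R _
  exact Module.Finite.of_injective (LinearMap.lcomp R N g) hinj

end


/-- Let `R` be a Noetherian local ring and `M, N` finite `R`-modules. If `N` has depth `≥ 1` then so
does `Hom_R(M, N)`; if `N` has depth `≥ 2` then so does `Hom_R(M, N)`. -/
theorem result (R : Type u) [CommRing R] [IsNoetherianRing R] [IsLocalRing R]
    (M N : Type u) [AddCommGroup M] [Module R M] [Module.Finite R M] [AddCommGroup N] [Module R N] [Module.Finite R N] :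
    (1 ≤ LocCoh.depth R N → 1 ≤ LocCoh.depth R (M →ₗ[R] N)) ∧
    (2 ≤ LocCoh.depth R N → 2 ≤ LocCoh.depth R (M →ₗ[R] N)) := by
  rcases subsingleton_or_nontrivial (M →ₗ[R] N) with hs | hnt
  · rw [depth_of_subsingleton (M := M →ₗ[R] N)]; exact ⟨fun _ => le_top, fun _ => le_top⟩
  · haveI : Module.Finite R (M →ₗ[R] N) := finite_hom
    have hNnt : Nontrivial N := by
      by_contra h
      rw [not_nontrivial_iff_subsingleton] at h
      exact not_subsingleton (M →ₗ[R] N) ⟨fun f g => by ext m; exact Subsingleton.elim _ _⟩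
    constructor
    · intro h
      have h' : ((1 : ℕ) : ℕ∞) ≤ LocCoh.depth R N := by simpa using h
      obtain ⟨rs, hlen, hmem, hreg⟩ := (natCast_le_depth_iff 1).1 h'
      match rs, hlen with
      | [x], _ =>
        have : ((1 : ℕ) : ℕ∞) ≤ LocCoh.depth R (M →ₗ[R] N) :=
          (natCast_le_depth_iff 1).2 ⟨[x], rfl, hmem, by
            rw [isWeaklyRegular_singleton_iff] at hreg ⊢
            exact isSMulRegular_hom x hreg⟩
        simpa using this
    · intro h
      have h' : ((2 : ℕ) : ℕ∞) ≤ LocCoh.depth R N := by simpa using h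
      obtain ⟨rs, hlen, hmem, hreg⟩ := (natCast_le_depth_iff 2).1 h'
      match rs, hlen with
      | [x, y], _ =>
        have : ((2 : ℕ) : ℕ∞) ≤ LocCoh.depth R (M →ₗ[R] N) :=
          (natCast_le_depth_iff 2).2 ⟨[x, y], rfl, hmem, isWeaklyRegular_hom_pair x y hreg⟩
        simpa using this

end Groth.Agent.S6876
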