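import Groth.Statements.S18700
import Mathlib
import Groth.Agent.Lib.Helper21.DepthKit1
import Groth.Agent.S0321

set_option autoImplicit false
universe u
open QGor

namespace Groth.Agent.S18700

open Groth.Agent.Lib.Helper21.DepthKit

section
variable {A : Type u} [CommRing A] [IsNoetherianRing A] (I : Ideal A)

/-- depth lemma for a kernel: `min (depth E0) (depth (range u) + 1) ≤ depth (ker u)`. -/
theorem min_le_idealDepth_ker {E0 E1 : Type u} [AddCommGroup E0] [Module A E0] [Module.Finite A E0]
    [AddCommGroup E1] [Module A E1] [Module.Finite A E1] (u : E0 →ₗ[A] E1) :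
    min (LocCoh.idealDepth I E0) (LocCoh.idealDepth I (LinearMap.range u) + 1) ≤
      LocCoh.idealDepth I (LinearMap.ker u) := by
  have h := (Groth.Agent.S0321.result A I (LinearMap.ker u) E0 (LinearMap.range u)
    (LinearMap.ker u).subtype u.rangeRestrict (Submodule.injective_subtype _)
    u.surjective_rangeRestrict (by
      intro x
      constructor
      · intro h
        have hx : u x = 0 := by
          have := congrArg Subtype.val h
          simpa using this
        exact ⟨⟨x, hx⟩, rfl⟩
      · rintro ⟨y, rfl⟩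
        apply Subtype.ext
        simpa using y.2)).2.2
  exact h

/-- depth `≥ 1` passes to kernels. -/
theorem one_le_idealDepth_ker {E0 E1 : Type u} [AddCommGroup E0] [Module A E0] [Module.Finite A E0]
    [AddCommGroup E1] [Module A E1] [Module.Finite A E1] (u : E0 →ₗ[A] E1)
    (h : 1 ≤ LocCoh.idealDepth I E0) : 1 ≤ LocCoh.idealDepth I (LinearMap.ker u) :=
  (le_min h le_add_self).trans (min_le_idealDepth_ker I u)

/-- depth `≥ 1` passes to submodules. -/
theorem one_le_idealDepth_submodule {E : Type u} [AddCommGroup E] [Module A E] [Module.Finite A E]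
    (N : Submodule A E) (h : 1 ≤ LocCoh.idealDepth I E) : 1 ≤ LocCoh.idealDepth I N := by
  have h1 := one_le_idealDepth_ker I N.mkQ h
  rwa [idealDepth_congr I (LinearEquiv.ofEq _ _ (Submodule.ker_mkQ N))] at h1

end


/-- Affine form. Let A be a Noetherian ring, I an ideal, and G the kernel of a linear map u : E⁰ → E¹ of
finite A-modules. If depth_I E⁰ ≥ 1 then depth_I G ≥ 1; if depth_I E⁰ ≥ 2 and depth_I E¹ ≥ 1 then
depth_I G ≥ 2. -/
theorem result (A : Type u) [CommRing A] [IsNoetherianRing A] (I : Ideal A)
    (E0 E1 : Type u) [AddCommGroup E0] [Module A E0] [Module.Finite A E0] [AddCommGroup E1] [Module A E1]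
    [Module.Finite A E1] (u : E0 →ₗ[A] E1) :
    (1 ≤ LocCoh.idealDepth I E0 → 1 ≤ LocCoh.idealDepth I (LinearMap.ker u)) ∧
    (2 ≤ LocCoh.idealDepth I E0 → 1 ≤ LocCoh.idealDepth I E1 → 2 ≤ LocCoh.idealDepth I (LinearMap.ker u)) := by
  refine ⟨one_le_idealDepth_ker I u, fun h0 h1 => ?_⟩
  have h2 := one_le_idealDepth_submodule I (LinearMap.range u) h1
  refine le_trans (le_min h0 ?_) (min_le_idealDepth_ker I u)
  calc (2 : ℕ∞) = 1 + 1 := by norm_num
    _ ≤ LocCoh.idealDepth I (LinearMap.range u) + 1 := by gcongr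

end Groth.Agent.S18700
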