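import Groth.Statements.S0602
import Groth.Agent.Lib.Helper2.R0S1

set_option autoImplicit false
universe u
open CAlg

namespace Groth.Agent.S0602

/-- A Noetherian ring is reduced exactly when it satisfies the conditions R₀ and S₁. -/
theorem result (R : Type u) [CommRing R] [IsNoetherianRing R] :
    IsReduced R ↔ (LocCoh.HasRk 0 R ∧ LocCoh.HasSk 1 R R) := by
  classical
  constructor
  · intro hred
    refine ⟨?_, ?_⟩
    · -- R0
      intro p hp hht
      have hht0 : p.height = 0 := by
        have : p.height ≤ 0 := by exact_mod_cast hht
        exact le_antisymm this zero_le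
      have hmin : p ∈ minimalPrimes R := Ideal.height_eq_zero_iff.mp hht0
      have hK : Ring.KrullDimLE 0 (Localization.AtPrime p) :=
        Ring.KrullDimLE.of_isLocalization p hmin _
      have hfield : IsField (Localization.AtPrime p) := Ring.KrullDimLE.isField_of_isReduced
      have hbot : IsLocalRing.maximalIdeal (Localization.AtPrime p) = ⊥ :=
        IsLocalRing.isField_iff_maximalIdeal_eq.mp hfield
      apply IsRegularLocalRing.of_spanFinrank_maximalIdeal_le
      rw [hbot, Submodule.spanFinrank_bot]
      exact ringKrullDim_nonneg_of_nontrivial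
    · -- S1
      intro p hp
      rw [Groth.Agent.Lib.Helper2.R0S1.supportDim_loc]
      by_cases hht0 : p.height = 0
      · rw [hht0]
        have : min ((1 : ℕ) : WithBot ℕ∞) ((0 : ℕ∞) : WithBot ℕ∞) = ((0 : ℕ∞) : WithBot ℕ∞) := by
          apply min_eq_right
          exact_mod_cast (zero_le : (0 : ℕ∞) ≤ 1)
        rw [this]
        exact WithBot.coe_le_coe.mpr zero_le
      · have hm : IsLocalRing.maximalIdeal (Localization.AtPrime p) ∉
            minimalPrimes (Localization.AtPrime p) := by
          intro hmin
          have h0 := Ideal.height_eq_zero_iff.mpr hmin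
          have h1 : ((IsLocalRing.maximalIdeal (Localization.AtPrime p)).height : WithBot ℕ∞) =
              p.height := by
            rw [IsLocalRing.maximalIdeal_height_eq_ringKrullDim,
              IsLocalization.AtPrime.ringKrullDim_eq_height p]
          rw [h0] at h1
          exact hht0 (by exact_mod_cast h1.symm)
        obtain ⟨x, hxm, hxn⟩ := Groth.Agent.Lib.Helper2.R0S1.exists_nzd_of_reduced hm
        have hreg := Groth.Agent.Lib.Helper2.R0S1.isSMulRegular_loc_of_mem_nonZeroDivisors p hxn
        have hdep := Groth.Agent.Lib.Helper2.R0S1.one_le_depth_of_regular hxm hreg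
        refine le_trans (min_le_left _ _) ?_
        exact_mod_cast hdep
  · rintro ⟨hR0, hS1⟩
    constructor
    intro r hr
    by_contra hne
    let N : Submodule R R := Submodule.span R {r}
    have hN : Nontrivial N :=
      ⟨⟨⟨r, Submodule.mem_span_singleton_self r⟩, 0, fun h => hne (congrArg Subtype.val h)⟩⟩
    obtain ⟨p, hp⟩ := associatedPrimes.nonempty R N
    obtain ⟨hpp, ⟨y, hy⟩⟩ := (isAssociatedPrime_iff).mp hp
    have hpy : ∀ a : R, a ∈ p ↔ a * (y : R) = 0 := by
      intro a
      rw [hy, Submodule.mem_colon_singleton, Submodule.mem_bot]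
      constructor
      · intro h
        have := congrArg Subtype.val h
        simpa using this
      · intro h
        apply Subtype.ext
        simpa using h
    have hynil : IsNilpotent (y : R) := by
      obtain ⟨c, hc⟩ := Submodule.mem_span_singleton.mp y.2
      rw [← hc, smul_eq_mul]
      exact (Commute.all c r).isNilpotent_mul_left hr
    have hcompl : ∀ s : p.primeCompl, (s : R) * (y : R) ≠ 0 := by
      intro s hs
      exact s.2 ((hpy s).mpr hs)
    by_cases hht0 : p.height = 0
    · have hreg : IsRegularLocalRing (Localization.AtPrime p) := hR0 p (by simp [hht0])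
      have h1 := hreg.spanFinrank_maximalIdeal
      rw [IsLocalization.AtPrime.ringKrullDim_eq_height p, hht0] at h1
      have h2 : (IsLocalRing.maximalIdeal (Localization.AtPrime p)).spanFinrank = 0 := by
        exact_mod_cast h1
      have hbot : IsLocalRing.maximalIdeal (Localization.AtPrime p) = ⊥ :=
        (Submodule.spanFinrank_eq_zero_iff_eq_bot
          (IsNoetherian.noetherian (IsLocalRing.maximalIdeal (Localization.AtPrime p)))).mp h2
      have hz : algebraMap R (Localization.AtPrime p) (y : R) ∈
          IsLocalRing.maximalIdeal (Localization.AtPrime p) :=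
        nilradical_le_prime _ (mem_nilradical.mpr (hynil.map (algebraMap R (Localization.AtPrime p))))
      rw [hbot, Ideal.mem_bot] at hz
      obtain ⟨s, hs⟩ := (IsLocalization.map_eq_zero_iff p.primeCompl _ _).mp hz
      exact hcompl s hs
    · have h1 := hS1 p
      rw [Groth.Agent.Lib.Helper2.R0S1.supportDim_loc] at h1
      have hge : (1 : ℕ∞) ≤ p.height := Order.one_le_iff_ne_zero.mpr hht0
      have hmin : min ((1 : ℕ) : WithBot ℕ∞) ((p.height : ℕ∞) : WithBot ℕ∞) =
          ((1 : ℕ∞) : WithBot ℕ∞) := by
        rw [min_eq_left]
        · rfl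
        · exact_mod_cast hge
      rw [hmin] at h1
      have hdep : (1 : ℕ∞) ≤ LocCoh.depth (Localization.AtPrime p)
          (LocalizedModule p.primeCompl R) := WithBot.coe_le_coe.mp h1
      obtain ⟨x, hxm, hxreg⟩ := Groth.Agent.Lib.Helper2.R0S1.exists_regular_of_one_le_depth hdep
        (Groth.Agent.Lib.Helper2.R0S1.smul_top_ne_top p)
      have hkill : x • (LocalizedModule.mk (y : R) 1 : LocalizedModule p.primeCompl R) = 0 := by
        have hle : IsLocalRing.maximalIdeal (Localization.AtPrime p) ≤
            LinearMap.ker (LinearMap.toSpanSingleton (Localization.AtPrime p)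
              (LocalizedModule p.primeCompl R) (LocalizedModule.mk (y : R) 1)) := by
          rw [← Localization.AtPrime.map_eq_maximalIdeal, Ideal.map_le_iff_le_comap]
          intro a ha
          rw [Ideal.mem_comap, LinearMap.mem_ker, LinearMap.toSpanSingleton_apply, algebraMap_smul,
            LocalizedModule.smul'_mk, smul_eq_mul, (hpy a).mp ha, LocalizedModule.zero_mk]
        have := hle hxm
        rwa [LinearMap.mem_ker, LinearMap.toSpanSingleton_apply] at this
      have hmk0 : (LocalizedModule.mk (y : R) 1 : LocalizedModule p.primeCompl R) ≠ 0 := by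
        intro h0
        have h0' : LocalizedModule.mkLinearMap p.primeCompl R (y : R) = 0 := h0
        rw [IsLocalizedModule.eq_zero_iff p.primeCompl] at h0'
        obtain ⟨s, hs⟩ := h0'
        exact hcompl s hs
      apply hmk0
      apply hxreg
      simp only [smul_zero]
      exact hkill

end Groth.Agent.S0602
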