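import Groth.Statements.S6983
import Groth.Agent.Lib.Helper16.RelPC2
-- import your own Groth.Agent.* helpers here

set_option autoImplicit false
universe u
open CategoryTheory CategoryTheory.Limits
attribute [local instance] HasDerivedCategory.standard
open DerCA

namespace Groth.Agent.S6983

open CategoryTheory.Limits DerivedCategory
open Groth.Agent.Lib.Helper16.PC Groth.Agent.Lib.Helper16.RestrictD Groth.Agent.Lib.Helper16.RelPC

lemma pc_congr {R : Type u} [CommRing R] {K K' : Dual.D R} (e : K ≅ K') (m : ℤ) :
    DRing.IsPseudoCoherent R m K ↔ DRing.IsPseudoCoherent R m K' :=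
  ⟨fun h => pc_of_iso h e, fun h => pc_of_iso h e.symm⟩



/-- Let R → A be a homomorphism of commutative rings, α : R[x_1, ..., x_n] → A and β : R[y_1, ..., y_k]
→ A surjective R-algebra homomorphisms, K an object of D(A) and m an integer. Then K, restricted
along α, is m-pseudo-coherent over R[x_1, ..., x_n] if and only if K, restricted along β, is
m-pseudo-coherent over R[y_1, ..., y_k]. -/
theorem result {R A : Type u} [CommRing R] [CommRing A] [Algebra R A]
    {n k : ℕ} (α : MvPolynomial (Fin n) R →ₐ[R] A) (hα : Function.Surjective α)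
    (β : MvPolynomial (Fin k) R →ₐ[R] A) (hβ : Function.Surjective β) (K : Dual.D A) (m : ℤ) :
    DerCA.IsRelPseudoCoherentVia α m K ↔ DerCA.IsRelPseudoCoherentVia β m K := by
  choose f hf using fun j : Fin k => hα (β (MvPolynomial.X j))
  choose g hg using fun i : Fin n => hβ (α (MvPolynomial.X i))
  let αr : (MvPolynomial (Fin n) R) →+* A := (α : (MvPolynomial (Fin n) R) →+* A)
  let βr : (MvPolynomial (Fin k) R) →+* A := (β : (MvPolynomial (Fin k) R) →+* A)
  let evf : MvPolynomial (Fin k) (MvPolynomial (Fin n) R) →+* (MvPolynomial (Fin n) R) := ((MvPolynomial.aeval f : MvPolynomial (Fin k) (MvPolynomial (Fin n) R) →ₐ[(MvPolynomial (Fin n) R)] (MvPolynomial (Fin n) R)) :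
    MvPolynomial (Fin k) (MvPolynomial (Fin n) R) →+* (MvPolynomial (Fin n) R))
  let evg : MvPolynomial (Fin n) (MvPolynomial (Fin k) R) →+* (MvPolynomial (Fin k) R) :=
    ((MvPolynomial.aeval g : MvPolynomial (Fin n) (MvPolynomial (Fin k) R) →ₐ[(MvPolynomial (Fin k) R)] (MvPolynomial (Fin k) R)) : MvPolynomial (Fin n) (MvPolynomial (Fin k) R) →+* (MvPolynomial (Fin k) R))
  let θ : MvPolynomial (Fin k) (MvPolynomial (Fin n) R) →+* MvPolynomial (Fin n) (MvPolynomial (Fin k) R) :=
    ((MvPolynomial.commAlgEquiv R (Fin k) (Fin n) :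
      MvPolynomial (Fin k) (MvPolynomial (Fin n) R) ≃ₐ[R] MvPolynomial (Fin n) (MvPolynomial (Fin k) R)) :
        MvPolynomial (Fin k) (MvPolynomial (Fin n) R) →+* MvPolynomial (Fin n) (MvPolynomial (Fin k) R))
  have hθ : Function.Bijective θ := (MvPolynomial.commAlgEquiv R (Fin k) (Fin n)).bijective
  have heq : αr.comp evf = (βr.comp evg).comp θ := by
    apply MvPolynomial.ringHom_ext
    · intro p
      have : ∀ p : (MvPolynomial (Fin n) R), αr (evf (MvPolynomial.C p)) = βr (evg (θ (MvPolynomial.C p))) := by
        intro p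
        induction p using MvPolynomial.induction_on with
        | C r =>
          simp only [αr, βr, evf, evg, θ, RingHom.coe_coe, MvPolynomial.commAlgEquiv_C,
            MvPolynomial.map_C, MvPolynomial.aeval_C]
          simp
        | add p q hp hq =>
          simp only [map_add] at hp hq ⊢
          rw [hp, hq]
        | mul_X p i hp =>
          simp only [map_mul] at hp ⊢
          rw [hp]
          congr 1
          simp only [αr, βr, evf, evg, θ, RingHom.coe_coe, MvPolynomial.commAlgEquiv_C_X,
            MvPolynomial.aeval_C, MvPolynomial.aeval_X, hg]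
          simp
      exact this p
    · intro j
      simp [αr, βr, evf, evg, θ, hf]
  unfold DerCA.IsRelPseudoCoherentVia
  change DRing.IsPseudoCoherent (MvPolynomial (Fin n) R) m ((DRing.restrictD αr).obj K) ↔
    DRing.IsPseudoCoherent (MvPolynomial (Fin k) R) m ((DRing.restrictD βr).obj K)
  rw [pc_iff_of_pcHom (pcHom_aeval (MvPolynomial (Fin n) R) k f) ((DRing.restrictD αr).obj K) m,
    pc_iff_of_pcHom (pcHom_aeval (MvPolynomial (Fin k) R) n g) ((DRing.restrictD βr).obj K) m,
    pc_iff_of_pcHom (pcHom_of_bijective θ hθ) _ m,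
    pc_congr (restrictDCompIso evf αr K).symm m,
    pc_congr (restrictDCompIso θ evg _).symm m,
    pc_congr (restrictDCompIso (evg.comp θ) βr K).symm m]
  have heq' : αr.comp evf = βr.comp (evg.comp θ) := heq
  rw [heq']

end Groth.Agent.S6983
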