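import Groth.Statements.S6985
import Groth.Agent.Lib.Helper16.RelPC3
import Groth.Agent.Lib.Helper16.RelPC4
-- import your own Groth.Agent.* helpers here

set_option autoImplicit false
universe u
open CategoryTheory CategoryTheory.Limits
attribute [local instance] HasDerivedCategory.standard
open DerCA

namespace Groth.Agent.S6985

open CategoryTheory.Limits DerivedCategory
open Groth.Agent.Lib.Helper16.PC Groth.Agent.Lib.Helper16.RestrictD Groth.Agent.Lib.Helper16.RelPC

lemma pc_congr {R : Type u} [CommRing R] {K K' : Dual.D R} (e : K ≅ K') (m : ℤ) :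
    DRing.IsPseudoCoherent R m K ↔ DRing.IsPseudoCoherent R m K' :=
  ⟨fun h => pc_of_iso h e, fun h => pc_of_iso h e.symm⟩

theorem key {R A B : Type u} [CommRing R] [CommRing A]
    [CommRing B] [Algebra R A] [Algebra A B] [Algebra R B] [IsScalarTower R A B] [Algebra.FiniteType R A]
    [Algebra.FiniteType R B] [Algebra.FiniteType A B] (hA : DerCA.IsRelPseudoCoherentModuleAll R A A)
    (K : Dual.D B) (m : ℤ) :
    DerCA.IsRelPseudoCoherent A B m K ↔ DerCA.IsRelPseudoCoherent R B m K := by
  obtain ⟨n, α, hα⟩ := exists_presentation R A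
  obtain ⟨k, β, hβ⟩ := exists_presentation A B
  -- `A` is pseudo-coherent over `P`
  have hpcα : PCHom (α : MvPolynomial (Fin n) R →+* A) := by
    intro m'
    exact (rel_iff_via α hα m' _).1 (hA m')
  have hμ := pcHom_mvPolynomial_map (α : MvPolynomial (Fin n) R →+* A) hpcα (Fin k)
  -- the presentation of `B` over `R`
  let ι : MvPolynomial (Fin (k + n)) R ≃ₐ[R] MvPolynomial (Fin k) (MvPolynomial (Fin n) R) :=
    (MvPolynomial.renameEquiv R finSumFinEquiv).symm.trans (MvPolynomial.sumAlgEquiv R (Fin k) (Fin n))
  let μ : MvPolynomial (Fin k) (MvPolynomial (Fin n) R) →ₐ[R] MvPolynomial (Fin k) A :=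
    MvPolynomial.mapAlgHom α
  let γ : MvPolynomial (Fin (k + n)) R →ₐ[R] B :=
    ((β.restrictScalars R).comp μ).comp ι.toAlgHom
  have hγ : Function.Surjective γ := by
    refine (hβ.comp ?_).comp ι.surjective
    exact MvPolynomial.map_surjective _ hα
  rw [rel_iff_via β hβ, rel_iff_via γ hγ]
  unfold DerCA.IsRelPseudoCoherentVia
  let βr : MvPolynomial (Fin k) A →+* B := (β : MvPolynomial (Fin k) A →+* B)
  let μr : MvPolynomial (Fin k) (MvPolynomial (Fin n) R) →+* MvPolynomial (Fin k) A :=
    MvPolynomial.map (α : MvPolynomial (Fin n) R →+* A)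
  let ιr : MvPolynomial (Fin (k + n)) R →+* MvPolynomial (Fin k) (MvPolynomial (Fin n) R) :=
    (ι : MvPolynomial (Fin (k + n)) R →+* MvPolynomial (Fin k) (MvPolynomial (Fin n) R))
  have hγr : (γ : MvPolynomial (Fin (k + n)) R →+* B) = (βr.comp μr).comp ιr := rfl
  have hι : PCHom ιr := pcHom_of_bijective ιr ι.bijective
  change DRing.IsPseudoCoherent _ m ((DRing.restrictD βr).obj K) ↔ _
  rw [hγr, pc_iff_of_pcHom hμ ((DRing.restrictD βr).obj K) m,
    pc_congr (restrictDCompIso μr βr K).symm m,
    pc_iff_of_pcHom hι _ m, pc_congr (restrictDCompIso ιr (βr.comp μr) K).symm m]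



/-- Let R be a commutative ring and A → B a homomorphism of finite type R-algebras such that A, as an
A-module, is pseudo-coherent relative to R. Let K be an object of D(B) and m an integer. Then K is
m-pseudo-coherent relative to A if and only if K is m-pseudo-coherent relative to R; and K is
pseudo-coherent relative to A if and only if it is pseudo-coherent relative to R. -/
theorem result {R A B : Type u} [CommRing R] [CommRing A]
    [CommRing B] [Algebra R A] [Algebra A B] [Algebra R B] [IsScalarTower R A B] [Algebra.FiniteType R A]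
    [Algebra.FiniteType R B] [Algebra.FiniteType A B] (hA : DerCA.IsRelPseudoCoherentModuleAll R A A)
    (K : Dual.D B) (m : ℤ) :
    (DerCA.IsRelPseudoCoherent A B m K ↔ DerCA.IsRelPseudoCoherent R B m K) ∧
      (DerCA.IsRelPseudoCoherentAll A B K ↔ DerCA.IsRelPseudoCoherentAll R B K) := by
  exact ⟨key hA K m, forall_congr' (fun m' => key hA K m')⟩

end Groth.Agent.S6985
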