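import Groth.Statements.S6935
import Groth.Agent.Lib.Helper16.PC6
import Groth.Agent.S2068
-- import your own Groth.Agent.* helpers here

set_option autoImplicit false
universe u
open CategoryTheory CategoryTheory.Limits
attribute [local instance] HasDerivedCategory.standard
open DRing

namespace Groth.Agent.S6935

open DerivedCategory Groth.Agent.Lib.Helper16.PC


/-- Let R be a commutative ring and M an R-module, viewed as the complex M[0] in D(R). Then M[0] is
0-pseudo-coherent exactly when M is finitely generated over R, and M[0] is (-1)-pseudo-coherent
exactly when M admits a finite presentation over R. -/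
theorem result (R : Type u) [CommRing R]
    (M : Type u) [AddCommGroup M] [Module R M] :
    (DRing.IsPseudoCoherentModule R 0 M ↔ Module.Finite R M) ∧
      (DRing.IsPseudoCoherentModule R (-1) M ↔ Module.FinitePresentation R M) := by
  set K : Dual.D R := Dual.inD R M with hKdef
  let e : ((homologyFunctor (ModuleCat.{u} R) 0).obj K) ≃ₗ[R] M :=
    ((singleFunctorCompHomologyFunctorIso (ModuleCat.{u} R) 0).app (ModuleCat.of R M)).toLinearEquiv
  have hle : K.IsLE 0 := (inferInstance : ((singleFunctor (ModuleCat.{u} R) 0).obj _).IsLE 0)
  have hge : K.IsGE 0 := (inferInstance : ((singleFunctor (ModuleCat.{u} R) 0).obj _).IsGE 0)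
  have hpos : ∀ i : ℤ, 0 < i → IsZero ((homologyFunctor (ModuleCat.{u} R) i).obj K) :=
    (isLE_iff K 0).1 hle
  have hneg : ∀ i : ℤ, i < 0 → IsZero ((homologyFunctor (ModuleCat.{u} R) i).obj K) :=
    (isGE_iff K 0).1 hge
  constructor
  · constructor
    · intro h
      have := (Groth.Agent.S2068.result K 0 h).1 hpos
      exact Module.Finite.equiv e
    · intro h
      exact pc_of_isLE_of_finite K 0 hle (Module.Finite.equiv e.symm)
  · constructor
    · intro h
      have h2 := (Groth.Agent.S2068.result K (-1) h).2 (fun i hi => hpos i (by omega))
      have h3 : Module.FinitePresentation R ((homologyFunctor (ModuleCat.{u} R) 0).obj K) := h2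
      exact Module.FinitePresentation.of_equiv e
    · intro h
      refine pc_of_homology (-1) K (fun i hi => hpos i (by omega)) ?_ ?_
      · have h3 : Module.FinitePresentation R ((homologyFunctor (ModuleCat.{u} R) 0).obj K) :=
          Module.FinitePresentation.of_equiv e.symm
        exact h3
      · have := ModuleCat.subsingleton_of_isZero (hneg (-1) (by norm_num))
        infer_instance

end Groth.Agent.S6935
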