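import Groth.Statements.S9252
import Groth.Agent.Lib.Helper21.QRDescent
import Groth.Agent.Lib.Helper26.QRegCot

set_option autoImplicit false
universe u
attribute [local instance] HasDerivedCategory.standard
open CategoryTheory
open PP16

namespace Groth.Agent.S9252

open Groth.Agent.Lib.Helper21.QRDescent

variable {A B : Type u} [CommRing A] [CommRing B] [Algebra A B]

/-- push a quasi-regular generating sequence from `B_g` to `B_Q`. -/
theorem qr_atPrime_of_away (J : Ideal B) (g : B) {s : ℕ} (γ : Fin s → Localization.Away g)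
    (hγ : CAlgX.IsQuasiRegular γ)
    (hspan : Ideal.span (Set.range γ) = J.map (algebraMap B (Localization.Away g)))
    (Q : Ideal B) [Q.IsPrime] (hg : g ∉ Q) :
    ∃ γ' : Fin s → Localization.AtPrime Q, CAlgX.IsQuasiRegular γ' ∧
      Ideal.span (Set.range γ') = J.map (algebraMap B (Localization.AtPrime Q)) := by
  have hu : IsUnit (algebraMap B (Localization.AtPrime Q) g) :=
    IsLocalization.map_units _ (⟨g, hg⟩ : Q.primeCompl)
  let φ : Localization.Away g →+* Localization.AtPrime Q := IsLocalization.Away.lift g hu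
  letI : Algebra (Localization.Away g) (Localization.AtPrime Q) := φ.toAlgebra
  haveI : IsScalarTower B (Localization.Away g) (Localization.AtPrime Q) :=
    IsScalarTower.of_algebraMap_eq fun x => (IsLocalization.Away.lift_eq g hu x).symm
  haveI : Module.Flat (Localization.Away g) (Localization.AtPrime Q) := by
    have hle : Submonoid.powers g ≤ Q.primeCompl := by
      rintro _ ⟨n, rfl⟩
      exact fun h => hg (Ideal.IsPrime.mem_of_pow_mem inferInstance n h)
    haveI : IsLocalization ((Q.primeCompl).map (algebraMap B (Localization.Away g)))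
        (Localization.AtPrime Q) :=
      IsLocalization.isLocalization_of_submonoid_le (Localization.Away g) (Localization.AtPrime Q)
        (Submonoid.powers g) Q.primeCompl hle
    exact IsLocalization.flat _ ((Q.primeCompl).map (algebraMap B (Localization.Away g)))
  refine ⟨algebraMap _ _ ∘ γ, qr_of_flat γ hγ, ?_⟩
  rw [span_range_comp, hspan, Ideal.map_map, ← IsScalarTower.algebraMap_eq]

/-- two quasi-regular sequences generating the same proper ideal have the same length -/
theorem length_eq_of_qr {R : Type u} [CommRing R] {s s' : ℕ} (γ : Fin s → R) (γ' : Fin s' → R)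
    (hγ : CAlgX.IsQuasiRegular γ) (hγ' : CAlgX.IsQuasiRegular γ')
    (hspan : Ideal.span (Set.range γ') = Ideal.span (Set.range γ))
    (hne : Ideal.span (Set.range γ) ≠ ⊤) : s = s' := by
  set L := Ideal.span (Set.range γ) with hL
  haveI : Nontrivial (R ⧸ L) := Ideal.Quotient.nontrivial_iff.2 hne
  let f : Fin s → L := fun i => ⟨γ i, Ideal.subset_span ⟨i, rfl⟩⟩
  let f' : Fin s' → L := fun i => ⟨γ' i, hspan ▸ Ideal.subset_span ⟨i, rfl⟩⟩
  obtain ⟨h1, h2⟩ := Groth.Agent.Lib.Helper26.QRegCot.basis_of_qreg L f hγ rfl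
  obtain ⟨h1', h2'⟩ := Groth.Agent.Lib.Helper26.QRegCot.basis_of_qreg L f' hγ' hspan
  let b := Module.Basis.mk h1 h2.ge
  let b' := Module.Basis.mk h1' h2'.ge
  have := Fintype.card_congr (b.indexEquiv b')
  simpa using this

/-- (Gen) -/
theorem span_eq_map_of_isUnit (I : Ideal A) {s : ℕ} (a : Fin s → A) (ha : ∀ i, a i ∈ I) (h0 : A)
    (hgen : ∀ x ∈ I, h0 * x ∈ Ideal.span (Set.range a))
    (T : Type u) [CommRing T] [Algebra A T] (hu : IsUnit (algebraMap A T h0)) :
    Ideal.span (Set.range (algebraMap A T ∘ a)) = I.map (algebraMap A T) := by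
  rw [span_range_comp]
  apply le_antisymm
  · apply Ideal.map_mono
    rw [Ideal.span_le]
    rintro _ ⟨i, rfl⟩
    exact ha i
  · rw [Ideal.map_le_iff_le_comap]
    intro x hx
    rw [Ideal.mem_comap]
    have h1 := Ideal.mem_map_of_mem (algebraMap A T) (hgen x hx)
    rw [map_mul] at h1
    obtain ⟨u, hu'⟩ := hu
    have h2 := Ideal.mul_mem_left _ (↑u⁻¹ : T) h1
    rwa [← mul_assoc, ← hu', Units.inv_mul, one_mul] at h2

theorem isOpen_W (I : Ideal A)
    (hB : PP16.IsLocallyQuasiRegular B (I.map (algebraMap A B)))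
    {s : ℕ} (a : Fin s → A) (ha : ∀ i, a i ∈ I) (h0 : A)
    (hgen : ∀ x ∈ I, h0 * x ∈ Ideal.span (Set.range a)) :
    IsOpen {Q' : PrimeSpectrum B | algebraMap A B h0 ∉ Q'.asIdeal ∧
      CAlgX.IsQuasiRegular (algebraMap A (Localization.AtPrime Q'.asIdeal) ∘ a)} := by
  -- span of `a` at primes where `h0` is invertible
  have hsp : ∀ (Q : Ideal B) [Q.IsPrime], algebraMap A B h0 ∉ Q →
      Ideal.span (Set.range (algebraMap A (Localization.AtPrime Q) ∘ a)) =
        (I.map (algebraMap A B)).map (algebraMap B (Localization.AtPrime Q)) := by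
    intro Q _ hQ
    rw [span_eq_map_of_isUnit I a ha h0 hgen (Localization.AtPrime Q), Ideal.map_map,
      ← IsScalarTower.algebraMap_eq]
    rw [IsScalarTower.algebraMap_apply A B (Localization.AtPrime Q)]
    exact IsLocalization.map_units _ (⟨_, hQ⟩ : Q.primeCompl)
  rw [isOpen_iff_forall_mem_open]
  rintro Q' ⟨hh0, hqr⟩
  by_cases hJQ : I.map (algebraMap A B) ≤ Q'.asIdeal
  · obtain ⟨g, hg, s', γ, hγ, hspan⟩ := hB Q'.asIdeal hJQ
    obtain ⟨γ', hγ', hspan'⟩ := qr_atPrime_of_away _ g γ hγ hspan Q'.asIdeal hg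
    have hne : Ideal.span (Set.range γ') ≠ ⊤ := by
      rw [hspan']
      intro htop
      have h1 : (I.map (algebraMap A B)).map (algebraMap B (Localization.AtPrime Q'.asIdeal)) ≤
          IsLocalRing.maximalIdeal (Localization.AtPrime Q'.asIdeal) := by
        rw [← Localization.AtPrime.map_eq_maximalIdeal]
        exact Ideal.map_mono hJQ
      rw [htop] at h1
      exact (IsLocalRing.maximalIdeal.isMaximal _).ne_top (top_le_iff.1 h1)
    have hss : s' = s := length_eq_of_qr γ' _ hγ' hqr (by rw [hsp _ hh0, hspan']) hne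
    subst hss
    refine ⟨(PrimeSpectrum.basicOpen (g * algebraMap A B h0) : Set (PrimeSpectrum B)), ?_,
      (PrimeSpectrum.basicOpen _).2, ?_⟩
    · intro Q'' hQ''
      have hQ''2 : g * algebraMap A B h0 ∉ Q''.asIdeal := hQ''
      have hg'' : g ∉ Q''.asIdeal := fun h => hQ''2 (Ideal.mul_mem_right _ _ h)
      have hh'' : algebraMap A B h0 ∉ Q''.asIdeal := fun h => hQ''2 (Ideal.mul_mem_left _ _ h)
      refine ⟨hh'', ?_⟩
      obtain ⟨γ'', hγ'', hspan''⟩ := qr_atPrime_of_away _ g γ hγ hspan Q''.asIdeal hg''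
      exact Groth.Agent.Lib.Helper26.QRegSpan.main γ'' _ hγ'' (by rw [hsp _ hh'', hspan''])
    · show g * algebraMap A B h0 ∉ Q'.asIdeal
      exact fun h => (Ideal.IsPrime.mem_or_mem Q'.2 h).elim hg hh0
  · obtain ⟨g, hgJ, hgQ⟩ := Set.not_subset.1 hJQ
    refine ⟨(PrimeSpectrum.basicOpen (g * algebraMap A B h0) : Set (PrimeSpectrum B)), ?_,
      (PrimeSpectrum.basicOpen _).2, ?_⟩
    · intro Q'' hQ''
      have hQ''2 : g * algebraMap A B h0 ∉ Q''.asIdeal := hQ''
      have hg'' : g ∉ Q''.asIdeal := fun h => hQ''2 (Ideal.mul_mem_right _ _ h)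
      have hh'' : algebraMap A B h0 ∉ Q''.asIdeal := fun h => hQ''2 (Ideal.mul_mem_left _ _ h)
      refine ⟨hh'', qr_of_span_eq_top _ ?_⟩
      rw [hsp _ hh'']
      apply Ideal.eq_top_of_isUnit_mem _ (Ideal.mem_map_of_mem _ hgJ)
      exact IsLocalization.map_units _ (⟨g, hg''⟩ : Q''.asIdeal.primeCompl)
    · show g * algebraMap A B h0 ∉ Q'.asIdeal
      exact fun h => (Ideal.IsPrime.mem_or_mem Q'.2 h).elim hgQ hh0

theorem fg_of_locallyQR (J : Ideal B) (h : PP16.IsLocallyQuasiRegular B J) : J.FG := by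
  classical
  let t : Set B := {g | (J.map (algebraMap B (Localization.Away g))).FG}
  apply Ideal.fg_of_localizationSpan t ?_ (fun g => g.2)
  by_contra hne
  obtain ⟨Q, hQmax, hQ⟩ := Ideal.exists_le_maximal _ hne
  haveI := hQmax.isPrime
  by_cases hJQ : J ≤ Q
  · obtain ⟨g, hg, r, f, -, hspan⟩ := h Q hJQ
    apply hg
    apply hQ
    apply Ideal.subset_span
    show (J.map _).FG
    rw [← hspan]
    exact ⟨Finset.univ.image f, by simp⟩
  · obtain ⟨g, hgJ, hgQ⟩ := Set.not_subset.1 hJQ
    apply hgQ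
    apply hQ
    apply Ideal.subset_span
    show (J.map _).FG
    have : J.map (algebraMap B (Localization.Away g)) = ⊤ := by
      apply Ideal.eq_top_of_isUnit_mem _ (Ideal.mem_map_of_mem _ hgJ)
      exact IsLocalization.Away.algebraMap_isUnit g
    rw [this]
    exact ⟨{1}, by simp⟩

section
attribute [local instance] Localization.AtPrime.algebraOfLiesOver

theorem qr_atPrime_iff [Module.Flat A B] {s : ℕ} (a : Fin s → A) (P' : Ideal A) [P'.IsPrime]
    (Q' : Ideal B) [Q'.IsPrime] [Q'.LiesOver P'] :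
    CAlgX.IsQuasiRegular (algebraMap A (Localization.AtPrime Q') ∘ a) ↔
      CAlgX.IsQuasiRegular (algebraMap A (Localization.AtPrime P') ∘ a) := by
  haveI : Module.FaithfullyFlat (Localization.AtPrime P') (Localization.AtPrime Q') :=
    Module.FaithfullyFlat.of_flat_of_isLocalHom
  have hcomp : algebraMap A (Localization.AtPrime Q') ∘ a =
      algebraMap (Localization.AtPrime P') (Localization.AtPrime Q') ∘
        (algebraMap A (Localization.AtPrime P') ∘ a) := by
    funext i
    exact IsScalarTower.algebraMap_apply A (Localization.AtPrime P') (Localization.AtPrime Q') _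
  rw [hcomp]
  constructor
  · intro h
    apply qr_of_map (algebraMap _ _) _ _ h
    rw [Ideal.comap_map_eq_self_of_faithfullyFlat]
  · exact qr_of_flat _

/-- `(span a) A_P` is the contraction of `(span a) B_Q`. -/
theorem mem_map_atPrime_of_mem_map [Module.Flat A B] (K : Ideal A) (P' : Ideal A) [P'.IsPrime]
    (Q' : Ideal B) [Q'.IsPrime] [Q'.LiesOver P'] (x : A)
    (hx : algebraMap A (Localization.AtPrime Q') x ∈ K.map (algebraMap A (Localization.AtPrime Q'))) :
    algebraMap A (Localization.AtPrime P') x ∈ K.map (algebraMap A (Localization.AtPrime P')) := by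
  haveI : Module.FaithfullyFlat (Localization.AtPrime P') (Localization.AtPrime Q') :=
    Module.FaithfullyFlat.of_flat_of_isLocalHom
  rw [← Ideal.comap_map_eq_self_of_faithfullyFlat (B := Localization.AtPrime Q')
    (K.map (algebraMap A (Localization.AtPrime P'))), Ideal.mem_comap, Ideal.map_map,
    ← IsScalarTower.algebraMap_eq, ← IsScalarTower.algebraMap_apply]
  exact hx

end

theorem isOpen_U [Module.FaithfullyFlat A B] (I : Ideal A)
    (hB : PP16.IsLocallyQuasiRegular B (I.map (algebraMap A B)))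
    {s : ℕ} (a : Fin s → A) (ha : ∀ i, a i ∈ I) (h0 : A)
    (hgen : ∀ x ∈ I, h0 * x ∈ Ideal.span (Set.range a)) :
    IsOpen {P' : PrimeSpectrum A | h0 ∉ P'.asIdeal ∧
      CAlgX.IsQuasiRegular (algebraMap A (Localization.AtPrime P'.asIdeal) ∘ a)} := by
  have hq : Topology.IsQuotientMap (PrimeSpectrum.comap (algebraMap A B)) :=
    PrimeSpectrum.isQuotientMap_of_generalizingMap
      PrimeSpectrum.comap_surjective_of_faithfullyFlat
      (RingHom.Flat.generalizingMap_comap (f := algebraMap A B)
        (by rw [RingHom.flat_algebraMap_iff]; infer_instance))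
  rw [← hq.isOpen_preimage]
  convert isOpen_W (B := B) I hB a ha h0 hgen using 1
  ext Q'
  simp only [Set.mem_preimage, Set.mem_setOf_eq]
  haveI : Q'.asIdeal.LiesOver (Q'.asIdeal.comap (algebraMap A B)) := ⟨rfl⟩
  exact and_congr Iff.rfl (qr_atPrime_iff a (Q'.asIdeal.comap (algebraMap A B)) Q'.asIdeal).symm

/-- quasi-regularity in `A_g` from quasi-regularity at all primes of `D(g)`. -/
theorem qr_away_of_forall {s : ℕ} (a : Fin s → A) (g : A)
    (h : ∀ (P' : Ideal A) [P'.IsPrime], g ∉ P' →
      CAlgX.IsQuasiRegular (algebraMap A (Localization.AtPrime P') ∘ a)) :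
    CAlgX.IsQuasiRegular (algebraMap A (Localization.Away g) ∘ a) := by
  apply qr_of_localization_maximal
  intro mm hmm
  set T := Localization.Away g
  let P' : Ideal A := mm.comap (algebraMap A T)
  haveI : P'.IsPrime := Ideal.comap_isPrime _ _
  have hg : g ∉ P' := by
    intro hmem
    have hu : IsUnit (algebraMap A T g) := IsLocalization.Away.algebraMap_isUnit g
    exact (Ideal.IsPrime.ne_top inferInstance) (mm.eq_top_of_isUnit_mem hmem hu)
  haveI : IsLocalization.AtPrime (Localization.AtPrime mm) P' :=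
    IsLocalization.isLocalization_isLocalization_atPrime_isLocalization (Submonoid.powers g)
      (Localization.AtPrime mm) mm
  let e : Localization.AtPrime P' ≃ₐ[A] Localization.AtPrime mm :=
    IsLocalization.algEquiv P'.primeCompl _ _
  have h1 := qr_ringEquiv e.toRingEquiv _ (h P' hg)
  convert h1 using 1
  funext i
  simp only [Function.comp_apply]
  rw [← IsScalarTower.algebraMap_apply A T (Localization.AtPrime mm)]
  exact (e.commutes (a i)).symm


/-- Let A → B be faithfully flat and I an ideal of A. If IB is a quasi-regular ideal of B then I is a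
quasi-regular ideal of A. -/
theorem result (A B : Type u) [CommRing A] [CommRing B]
    [Algebra A B] [Module.FaithfullyFlat A B] (I : Ideal A)
    (h : PP16.IsLocallyQuasiRegular B (Ideal.map (algebraMap A B) I)) :
    PP16.IsLocallyQuasiRegular A I := by
  classical
  intro P hPprime hIP
  have hIfg : I.FG := Ideal.FG.of_FG_map_of_faithfullyFlat (fg_of_locallyQR _ h)
  obtain ⟨m, b, hb⟩ : ∃ (m : ℕ) (b : Fin m → A), Ideal.span (Set.range b) = I := by
    obtain ⟨t, ht⟩ := hIfg
    refine ⟨t.card, fun i => (t.equivFin.symm i : A), ?_⟩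
    rw [← ht]
    congr 1
    ext x
    simp only [Set.mem_range, Finset.mem_coe]
    constructor
    · rintro ⟨i, rfl⟩; exact (t.equivFin.symm i).2
    · intro hx; exact ⟨t.equivFin ⟨x, hx⟩, by simp⟩
  obtain ⟨Q, hQprime, hQP⟩ := Ideal.exists_isPrime_liesOver_of_faithfullyFlat (B := B) P
  have hJQ : I.map (algebraMap A B) ≤ Q := by
    rw [Ideal.map_le_iff_le_comap]
    exact hIP.trans (le_of_eq (Ideal.LiesOver.over (p := P) (P := Q)))
  obtain ⟨g0, hg0, s, γ, hγ, hγspan⟩ := h Q hJQ
  obtain ⟨γQ, hγQ, hγQspan⟩ := qr_atPrime_of_away _ g0 γ hγ hγspan Q hg0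
  have hbQ : Ideal.span (Set.range (algebraMap A (Localization.AtPrime Q) ∘ b)) =
      Ideal.span (Set.range γQ) := by
    rw [span_range_comp, hb, hγQspan, Ideal.map_map, ← IsScalarTower.algebraMap_eq]
  have hLmax : Ideal.span (Set.range γQ) ≤ IsLocalRing.maximalIdeal (Localization.AtPrime Q) := by
    rw [hγQspan, ← Localization.AtPrime.map_eq_maximalIdeal]
    exact Ideal.map_mono hJQ
  obtain ⟨e, hespan, heqr⟩ := exists_sub_qr γQ hγQ hLmax _ hbQ
  let a : Fin s → A := b ∘ e
  have ha : ∀ i, a i ∈ I := fun i => hb ▸ Ideal.subset_span ⟨e i, rfl⟩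
  have hΦ : CAlgX.IsQuasiRegular (algebraMap A (Localization.AtPrime Q) ∘ a) := heqr
  have hΨ : CAlgX.IsQuasiRegular (algebraMap A (Localization.AtPrime P) ∘ a) :=
    (qr_atPrime_iff a P Q).1 hΦ
  -- `a` generates `I` near `P`
  have hex : ∀ i, ∃ t : A, t ∉ P ∧ t * b i ∈ Ideal.span (Set.range a) := by
    intro i
    have h1 : algebraMap A (Localization.AtPrime Q) (b i) ∈
        (Ideal.span (Set.range a)).map (algebraMap A (Localization.AtPrime Q)) := by
      rw [← span_range_comp]
      change _ ∈ Ideal.span (Set.range ((algebraMap A (Localization.AtPrime Q) ∘ b) ∘ e))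
      rw [hespan, ← hbQ]
      exact Ideal.subset_span ⟨i, rfl⟩
    have h2 := mem_map_atPrime_of_mem_map _ P Q _ h1
    rw [IsLocalization.mem_map_algebraMap_iff P.primeCompl] at h2
    obtain ⟨⟨x, t⟩, hxt⟩ := h2
    rw [← map_mul] at hxt
    obtain ⟨c, hc⟩ := (IsLocalization.eq_iff_exists P.primeCompl _).1 hxt
    refine ⟨c * t, fun hmem => ?_, ?_⟩
    · exact (Submonoid.mul_mem _ c.2 t.2) hmem
    · have : (c : A) * (t : A) * b i = c * (x : A) := by
        rw [mul_assoc, mul_comm (t : A), hc]
      rw [this]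
      exact Ideal.mul_mem_left _ _ x.2
  choose t ht htb using hex
  let h0 : A := ∏ i, t i
  have hh0 : h0 ∉ P := by
    intro hmem
    obtain ⟨i, -, hi⟩ := (Ideal.IsPrime.prod_mem_iff).1 hmem
    exact ht i hi
  have hgen : ∀ x ∈ I, h0 * x ∈ Ideal.span (Set.range a) := by
    intro x hx
    rw [← hb] at hx
    obtain ⟨c, rfl⟩ := (Ideal.mem_span_range_iff_exists_fun).1 hx
    rw [Finset.mul_sum]
    refine Ideal.sum_mem _ fun i _ => ?_
    have : h0 * (c i * b i) = (c i * ∏ j ∈ Finset.univ.erase i, t j) * (t i * b i) := by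
      simp only [h0]
      rw [← Finset.mul_prod_erase Finset.univ t (Finset.mem_univ i)]
      ring
    rw [this]
    exact Ideal.mul_mem_left _ _ (htb i)
  have hU := isOpen_U (B := B) I h a ha h0 hgen
  have hPU : (⟨P, hPprime⟩ : PrimeSpectrum A) ∈ {P' : PrimeSpectrum A | h0 ∉ P'.asIdeal ∧
      CAlgX.IsQuasiRegular (algebraMap A (Localization.AtPrime P'.asIdeal) ∘ a)} := ⟨hh0, hΨ⟩
  obtain ⟨_, ⟨h1, rfl⟩, hP1, hsub⟩ :=
    PrimeSpectrum.isTopologicalBasis_basic_opens.exists_subset_of_mem_open hPU hU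
  have hh1 : h1 ∉ P := hP1
  refine ⟨h1 * h0, fun hmem => (Ideal.IsPrime.mem_or_mem hPprime hmem).elim hh1 hh0, s,
    algebraMap A (Localization.Away (h1 * h0)) ∘ a, ?_, ?_⟩
  · apply qr_away_of_forall
    intro P' _ hP'
    have h1' : h1 ∉ P' := fun hm => hP' (Ideal.mul_mem_right _ _ hm)
    exact (hsub (show (⟨P', inferInstance⟩ : PrimeSpectrum A) ∈
      (PrimeSpectrum.basicOpen h1 : Set (PrimeSpectrum A)) from h1')).2
  · apply span_eq_map_of_isUnit I a ha h0 hgen
    have hu : IsUnit (algebraMap A (Localization.Away (h1 * h0)) (h1 * h0)) :=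
      IsLocalization.Away.algebraMap_isUnit _
    rw [map_mul] at hu
    exact isUnit_of_mul_isUnit_right hu

end Groth.Agent.S9252
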