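import Groth.Statements.S0973
import Groth.Agent.Lib.Helper16.DerTrunc2
-- import your own Groth.Agent.* helpers here

set_option autoImplicit false
universe w v u
open CategoryTheory CategoryTheory.Limits
open CohDer

namespace Groth.Agent.S0973

open CategoryTheory Limits DerivedCategory Pretriangulated Groth.Agent.Lib.Helper16.DerT

variable {A : Type u} [Category.{v} A] [Abelian A] [HasDerivedCategory.{w} A]

lemma hom_single_shift_eq_zero (M N : A) (i j : ℤ) (p : ℕ) (hp : (p : ℤ) = i - j + 1)
    (h : ∀ f : (singleFunctor A 0).obj M ⟶ ((singleFunctor A 0).obj N)⟦(p : ℤ)⟧, f = 0)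
    (g : (singleFunctor A i).obj M ⟶ ((singleFunctor A j).obj N)⟦(1 : ℤ)⟧) : g = 0 := by
  let e1 : ((singleFunctor A i).obj M)⟦i⟧ ≅ (singleFunctor A 0).obj M :=
    ((singleFunctors A).shiftIso i 0 i (by simp)).app M
  let X := (singleFunctor A j).obj N
  let e2 : (X⟦(1 : ℤ)⟧)⟦i⟧ ≅ ((singleFunctor A 0).obj N)⟦(p : ℤ)⟧ :=
    ((shiftFunctorAdd' (DerivedCategory A) 1 i (j + p) (by omega)).app X).symm ≪≫
      (shiftFunctorAdd' (DerivedCategory A) j p (j + p) rfl).app X ≪≫
      (shiftFunctor (DerivedCategory A) (p : ℤ)).mapIso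
        (((singleFunctors A).shiftIso j 0 j (by simp)).app N)
  have h1 := h (e1.inv ≫ g⟦i⟧' ≫ e2.hom)
  have h2 : g⟦i⟧' = 0 := by
    have : g⟦i⟧' = e1.hom ≫ (e1.inv ≫ g⟦i⟧' ≫ e2.hom) ≫ e2.inv := by simp
    rw [this, h1, zero_comp, comp_zero]
  apply (shiftFunctor (DerivedCategory A) i).map_injective
  rw [h2, Functor.map_zero]

/-- the class of objects `Y'` with `Hom(Z, Y'[1]) = 0` is closed under extensions -/
lemma hom_shift_zero_ext (Z : DerivedCategory A) (T : Triangle (DerivedCategory A))
    (hT : T ∈ distTriang (DerivedCategory A))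
    (h1 : ∀ g : Z ⟶ T.obj₁⟦(1 : ℤ)⟧, g = 0) (h3 : ∀ g : Z ⟶ T.obj₃⟦(1 : ℤ)⟧, g = 0)
    (g : Z ⟶ T.obj₂⟦(1 : ℤ)⟧) : g = 0 := by
  have hT' := rot_of_distTriang _ (rot_of_distTriang _ (rot_of_distTriang _ hT))
  obtain ⟨g', hg'⟩ : ∃ g' : Z ⟶ T.obj₁⟦(1 : ℤ)⟧, g = g' ≫ (-T.mor₁⟦(1 : ℤ)⟧') :=
    Triangle.coyoneda_exact₂ _ hT' g (h3 _)
  rw [hg', h1 g', zero_comp]

set_option backward.defeqAttrib.useBackward true in
lemma exists_section (K : DerivedCategory A) (a : ℤ) [K.IsGE a]
    (hExt : ∀ (i j : ℤ) (p : ℕ), j < i → 2 ≤ p →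
      ∀ f : (singleFunctor A 0).obj ((homologyFunctor A i).obj K) ⟶
        ((singleFunctor A 0).obj ((homologyFunctor A j).obj K))⟦(p : ℤ)⟧, f = 0)
    (i : ℤ) (hi : a ≤ i) :
    ∃ s : (singleFunctor A i).obj ((homologyFunctor A i).obj K) ⟶ K,
      IsIso ((homologyFunctor A i).map s) := by
  let t := TStructure.t (C := A)
  let T := (t.truncLT (i + 1)).obj K
  let ιT : T ⟶ K := (t.truncLTι (i + 1)).app K
  have : T.IsGE a := by show t.IsGE _ a; infer_instance
  have : T.IsLE i := by show t.IsLE _ i; infer_instance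
  let Z := (t.truncGE i).obj T
  let Y := (t.truncLT i).obj T
  let π : T ⟶ Z := (t.truncGEπ i).app T
  have : Z.IsGE i := by show t.IsGE _ i; infer_instance
  have : Z.IsLE i := by show t.IsLE _ i; infer_instance
  have : Y.IsGE a := by show t.IsGE _ a; infer_instance
  have : Y.IsLE (i - 1) := by show t.IsLE _ (i - 1); infer_instance
  have hιT : ∀ j, j ≤ i → IsIso ((homologyFunctor A j).map ιT) := fun j hj =>
    isIso_homologyMap_truncLTι K (i + 1) j (by omega)
  have hπ : IsIso ((homologyFunctor A i).map π) := isIso_homologyMap_truncGEπ T i i le_rfl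
  have hιY : ∀ j, j < i → IsIso ((homologyFunctor A j).map ((t.truncLTι i).app T)) :=
    fun j hj => isIso_homologyMap_truncLTι T i j hj
  obtain ⟨eZ0⟩ := nonempty_iso_single_homology Z i
  have := hιT i le_rfl
  let eZ : Z ≅ (singleFunctor A i).obj ((homologyFunctor A i).obj K) :=
    eZ0 ≪≫ (singleFunctor A i).mapIso ((asIso ((homologyFunctor A i).map π)).symm ≪≫
      asIso ((homologyFunctor A i).map ιT))
  have hT := t.triangleLTGE_distinguished i T
  -- δ = 0
  have hδ : ∀ g : Z ⟶ Y⟦(1 : ℤ)⟧, g = 0 := by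
    refine bounded_induction (fun Y' => ∀ g : Z ⟶ Y'⟦(1 : ℤ)⟧, g = 0) ?_ ?_ ?_ (i - a).toNat a (i - 1)
      (by rw [Int.toNat_of_nonneg (by omega)]; omega) Y ?_
    · intro X X' e hX g
      have h := hX (g ≫ e.inv⟦(1 : ℤ)⟧')
      have : g = (g ≫ e.inv⟦(1 : ℤ)⟧') ≫ e.hom⟦(1 : ℤ)⟧' := by
        rw [Category.assoc, ← Functor.map_comp, e.inv_hom_id, CategoryTheory.Functor.map_id, Category.comp_id]
      rw [this, h, zero_comp]
    · intro X hX g
      exact ((shiftFunctor (DerivedCategory A) (1 : ℤ)).map_isZero hX).eq_of_tgt _ _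
    · intro T' hT' h1 h3 g
      exact hom_shift_zero_ext Z T' hT' h1 h3 g
    · intro j hj1 hj2 g
      have := hιT j (by omega)
      have := hιY j (by omega)
      let eN : (homologyFunctor A j).obj Y ≅ (homologyFunctor A j).obj K :=
        asIso ((homologyFunctor A j).map ((t.truncLTι i).app T)) ≪≫
          asIso ((homologyFunctor A j).map ιT)
      have h0 := hom_single_shift_eq_zero ((homologyFunctor A i).obj K)
        ((homologyFunctor A j).obj K) i j (i - j + 1).toNat
        (by rw [Int.toNat_of_nonneg (by omega)])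
        (hExt i j _ (by omega) (by omega))
        (eZ.inv ≫ g ≫ ((singleFunctor A j).map eN.hom)⟦(1 : ℤ)⟧')
      have : g = eZ.hom ≫ (eZ.inv ≫ g ≫ ((singleFunctor A j).map eN.hom)⟦(1 : ℤ)⟧') ≫
          ((singleFunctor A j).map eN.inv)⟦(1 : ℤ)⟧' := by
        simp only [Category.assoc, Iso.hom_inv_id_assoc, ← Functor.map_comp, Iso.hom_inv_id,
          CategoryTheory.Functor.map_id, Category.comp_id]
      rw [this, h0, zero_comp, comp_zero]
  obtain ⟨r, hr⟩ : ∃ r : Z ⟶ T, 𝟙 Z = r ≫ π := Triangle.coyoneda_exact₃ _ hT (𝟙 Z) (hδ _)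
  have hr' : r ≫ π = 𝟙 Z := hr.symm
  refine ⟨eZ.inv ≫ r ≫ ιT, ?_⟩
  have hrH : IsIso ((homologyFunctor A i).map r) := by
    have h1 : (homologyFunctor A i).map r ≫ (homologyFunctor A i).map π = 𝟙 _ := by
      rw [← Functor.map_comp, hr', CategoryTheory.Functor.map_id]
    have : (homologyFunctor A i).map r = inv ((homologyFunctor A i).map π) := by
      rw [← cancel_mono ((homologyFunctor A i).map π), h1, IsIso.inv_hom_id]
    rw [this]; infer_instance
  rw [Functor.map_comp, Functor.map_comp]
  infer_instance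




/-- Let K be an object of the derived category of an abelian category with cohomology concentrated in
degrees a, …, b. Suppose that for all i > j and p ≥ 2 every morphism H^i(K) ⟶ H^j(K)[p] in the
derived category (an element of Ext^p) vanishes. Then K splits: it is isomorphic to ⨁_{a ≤ i ≤ b}
Hⁱ(K)[-i]. -/
theorem result {A : Type u} [Category.{v} A] [Abelian A] [HasDerivedCategory.{w} A]
    (K : DerivedCategory A) (a b : ℤ) [K.IsGE a] [K.IsLE b]
    (hExt : ∀ (i j : ℤ) (p : ℕ), j < i → 2 ≤ p →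
      ∀ f : (DerivedCategory.singleFunctor A 0).obj ((DerivedCategory.homologyFunctor A i).obj K) ⟶
        ((DerivedCategory.singleFunctor A 0).obj ((DerivedCategory.homologyFunctor A j).obj K))⟦(p : ℤ)⟧, f = 0)
    [HasBiproduct (fun i : Finset.Icc a b => (DerivedCategory.singleFunctor A (i : ℤ)).obj ((DerivedCategory.homologyFunctor A (i : ℤ)).obj K))] :
    Nonempty (K ≅ ⨁ (fun i : Finset.Icc a b => (DerivedCategory.singleFunctor A (i : ℤ)).obj ((DerivedCategory.homologyFunctor A (i : ℤ)).obj K))) := by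
  classical
  let F : Finset.Icc a b → DerivedCategory A := fun i =>
    (DerivedCategory.singleFunctor A (i : ℤ)).obj ((DerivedCategory.homologyFunctor A (i : ℤ)).obj K)
  have hs : ∀ i : Finset.Icc a b, ∃ s : F i ⟶ K, IsIso ((homologyFunctor A (i : ℤ)).map s) :=
    fun i => exists_section K a hExt i (Finset.mem_Icc.1 i.2).1
  choose s hs using hs
  let φ : ⨁ F ⟶ K := biproduct.desc s
  -- vanishing of H^j of the other summands
  have hz : ∀ (j : ℤ) (i : Finset.Icc a b), (i : ℤ) ≠ j →
      IsZero ((homologyFunctor A j).obj (F i)) := by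
    intro j i hij
    rcases lt_or_gt_of_ne hij with h | h
    · exact isZero_of_isLE _ (i : ℤ) j h
    · exact isZero_of_isGE _ (i : ℤ) j h
  have htot : ∀ j : ℤ, 𝟙 ((homologyFunctor A j).obj (⨁ F)) =
      ∑ i : Finset.Icc a b, (homologyFunctor A j).map (biproduct.π F i) ≫
        (homologyFunctor A j).map (biproduct.ι F i) := by
    intro j
    rw [← CategoryTheory.Functor.map_id, ← biproduct.total, Functor.map_sum]
    simp only [Functor.map_comp]
  have : IsIso φ := by
    rw [DerivedCategory.isIso_iff]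
    intro j
    by_cases hj : j ∈ Finset.Icc a b
    · let jj : Finset.Icc a b := ⟨j, hj⟩
      have h1 : (homologyFunctor A j).map (biproduct.π F jj) ≫
          (homologyFunctor A j).map (biproduct.ι F jj) = 𝟙 _ := by
        rw [htot j]
        symm
        apply Finset.sum_eq_single jj
        · intro i _ hi
          have : (i : ℤ) ≠ j := fun h => hi (Subtype.ext h)
          rw [(hz j i this).eq_of_tgt ((homologyFunctor A j).map (biproduct.π F i)) 0, zero_comp]
        · intro h; exact absurd (Finset.mem_univ _) h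
      have h2 : (homologyFunctor A j).map (biproduct.ι F jj) ≫
          (homologyFunctor A j).map (biproduct.π F jj) = 𝟙 _ := by
        rw [← Functor.map_comp, biproduct.ι_π_self, CategoryTheory.Functor.map_id]
      have hι : IsIso ((homologyFunctor A j).map (biproduct.ι F jj)) :=
        ⟨⟨_, h2, h1⟩⟩
      have h3 : (homologyFunctor A j).map (biproduct.ι F jj) ≫ (homologyFunctor A j).map φ =
          (homologyFunctor A j).map (s jj) := by
        rw [← Functor.map_comp, biproduct.ι_desc]
      have h4 : IsIso ((homologyFunctor A j).map (biproduct.ι F jj) ≫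
          (homologyFunctor A j).map φ) := by
        rw [h3]; exact hs jj
      exact IsIso.of_isIso_comp_left ((homologyFunctor A j).map (biproduct.ι F jj)) _
    · have hK : IsZero ((homologyFunctor A j).obj K) := by
        rw [Finset.mem_Icc, not_and_or, not_le, not_le] at hj
        rcases hj with h | h
        · exact isZero_of_isGE _ a j h
        · exact isZero_of_isLE _ b j h
      have hB : IsZero ((homologyFunctor A j).obj (⨁ F)) := by
        rw [IsZero.iff_id_eq_zero, htot j]
        apply Finset.sum_eq_zero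
        intro i _
        have : (i : ℤ) ≠ j := fun h => hj (h ▸ i.2)
        rw [(hz j i this).eq_of_tgt ((homologyFunctor A j).map (biproduct.π F i)) 0, zero_comp]
      exact ⟨⟨0, hB.eq_of_src _ _, hK.eq_of_src _ _⟩⟩
  exact ⟨(asIso φ).symm⟩

end Groth.Agent.S0973
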