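import Groth.Statements.S0303
import Mathlib

set_option autoImplicit false
universe u v
open InjHull

namespace Groth.Agent.S0303


/-- a left-invertible linear map has complemented range -/
lemma isCompl_range_ker_of_leftInverse {R : Type*} [Ring R] {E I : Type*} [AddCommGroup E]
    [Module R E] [AddCommGroup I] [Module R I] (α : E →ₗ[R] I) (r : I →ₗ[R] E)
    (h : r ∘ₗ α = LinearMap.id) : IsCompl (LinearMap.range α) (LinearMap.ker r) := by
  have h' : ∀ x, r (α x) = x := fun x => LinearMap.congr_fun h x
  constructor
  · rw [Submodule.disjoint_def]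
    rintro _ ⟨x, rfl⟩ hx
    rw [LinearMap.mem_ker, h'] at hx
    rw [hx, map_zero]
  · rw [codisjoint_iff, eq_top_iff]
    intro y _
    have : y = α (r y) + (y - α (r y)) := by abel
    rw [this]
    refine Submodule.add_mem_sup ⟨_, rfl⟩ ?_
    rw [LinearMap.mem_ker, map_sub, h', sub_self]

/-- the kernel of a map out of an essential extension that is injective on the base is trivial -/
lemma injective_of_essential {R : Type u} [CommRing R] {M E I : Type u} [AddCommGroup M]
    [Module R M] [AddCommGroup E] [Module R E] [AddCommGroup I] [Module R I]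
    {f : M →ₗ[R] E} (hf : InjHull.IsEssentialInj f) (α : E →ₗ[R] I)
    (hα : Function.Injective (α ∘ₗ f)) : Function.Injective α := by
  rw [← LinearMap.ker_eq_bot]
  by_contra hne
  apply hf.essential _ hne
  rw [eq_bot_iff]
  rintro _ ⟨hx, ⟨m, rfl⟩⟩
  have : (α ∘ₗ f) m = (α ∘ₗ f) 0 := by simpa using hx
  rw [hα this, map_zero]
  exact Submodule.zero_mem _


/-- If M → E is an injective hull and M → I is any embedding into an injective module, then E embeds
into I compatibly with M and its image is a direct summand of I. -/
theorem result (R : Type u) [CommRing R] (M : Type u) [AddCommGroup M] [Module R M] (E : Type u) [AddCommGroup E] [Module R E] (I : Type u) [AddCommGroup I] [Module R I] (f : M →ₗ[R] E) (hf : InjHull.IsInjectiveHull f) (i : M →ₗ[R] I) (hi : Function.Injective i) (hI : Module.Injective R I) : ∃ α : E →ₗ[R] I, Function.Injective α ∧ α ∘ₗ f = i ∧ ∃ I' : Submodule R I, IsCompl (LinearMap.range α) I' := by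
  obtain ⟨α, hα⟩ := Module.Injective.extension_property R I M E f hf.injective i
  have hαinj : Function.Injective α := injective_of_essential hf.toIsEssentialInj α (by rw [hα]; exact hi)
  have := hf.isInjective
  obtain ⟨r, hr⟩ := Module.Injective.extension_property R E E I α hαinj LinearMap.id
  exact ⟨α, hαinj, hα, _, isCompl_range_ker_of_leftInverse α r hr⟩

end Groth.Agent.S0303
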