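import Groth.Statements.S0302
import Mathlib
import Groth.Agent.S0303

set_option autoImplicit false
universe u v
open InjHull

namespace Groth.Agent.S0302

/-- Two injective hulls of the same module are isomorphic by an isomorphism compatible with the two
embeddings. -/
theorem result (R : Type u) [CommRing R] (M : Type u) [AddCommGroup M] [Module R M] (E : Type u) [AddCommGroup E] [Module R E] (E' : Type u) [AddCommGroup E'] [Module R E'] (f : M →ₗ[R] E) (hf : InjHull.IsInjectiveHull f) (g : M →ₗ[R] E') (hg : InjHull.IsInjectiveHull g) : ∃ e : E ≃ₗ[R] E', e.toLinearMap ∘ₗ f = g := by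
  obtain ⟨α, hαinj, hα, C, hC⟩ := Groth.Agent.S0303.result R M E E' f hf g hg.injective hg.isInjective
  have hCbot : C = ⊥ := by
    by_contra hne
    apply hg.essential C hne
    rw [eq_bot_iff]
    have : LinearMap.range g ≤ LinearMap.range α := by
      rw [← hα]; exact LinearMap.range_comp_le_range f α
    calc C ⊓ LinearMap.range g ≤ C ⊓ LinearMap.range α := inf_le_inf_left _ this
      _ = ⊥ := by rw [inf_comm]; exact hC.inf_eq_bot
      _ ≤ ⊥ := le_rfl
  have hsurj : Function.Surjective α := by
    rw [← LinearMap.range_eq_top, ← hC.sup_eq_top, hCbot, sup_bot_eq]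
  exact ⟨LinearEquiv.ofBijective α ⟨hαinj, hsurj⟩, by rw [← hα]; rfl⟩

end Groth.Agent.S0302
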