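import Groth.Statements.S5155
-- import your own Groth.Agent.* helpers here
import Groth.Agent.Lib.Helper26.Matlis

set_option autoImplicit false
universe u
open Matlis

namespace Groth.Agent.S5155

/-- Let A be a Noetherian local ring with residue field k. An A-module E is an injective hull of k if
and only if E is injective, E is m-power torsion, and Hom_A(k, E) is simple (one-dimensional over
k). (The torsion condition is needed: for a prime p ≠ m the module E(k) ⊕ E(A/p) is injective with
Hom_A(k, −) simple, represents the same functor on modules of finite length, and is not an injective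
hull of k; the published definition of a dualizing module leaves this condition implicit and the
published proof uses it.) -/
theorem result (A : Type u) [CommRing A] [IsLocalRing A] [IsNoetherianRing A] (E : Type u) [AddCommGroup E] [Module A E] : (∃ f : IsLocalRing.ResidueField A →ₗ[A] E, InjHull.IsInjectiveHull f) ↔ (Module.Injective A E ∧ LocCoh.IsPowerTorsion (IsLocalRing.maximalIdeal A) E ∧ IsSimpleModule A (IsLocalRing.ResidueField A →ₗ[A] E)) := by
  classical
  constructor
  · rintro ⟨f, hf⟩
    refine ⟨hf.isInjective, Groth.Agent.Lib.Helper26.Matlis.isPowerTorsion hf.toIsEssentialInj, ?_⟩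
    haveI : IsSimpleModule A (IsLocalRing.ResidueField A) := by
      have : IsCoatom (IsLocalRing.maximalIdeal A) :=
        Ideal.isMaximal_def.1 (IsLocalRing.maximalIdeal.isMaximal A)
      exact isSimpleModule_iff_isCoatom.2 this
    exact Groth.Agent.Lib.Helper26.Matlis.isSimpleModule_linearMap hf (IsLocalRing.ResidueField A)
  · rintro ⟨hinj, htors, hsimple⟩
    haveI : IsSimpleModule A (IsLocalRing.ResidueField A) := by
      have : IsCoatom (IsLocalRing.maximalIdeal A) :=
        Ideal.isMaximal_def.1 (IsLocalRing.maximalIdeal.isMaximal A)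
      exact isSimpleModule_iff_isCoatom.2 this
    have := IsSimpleModule.nontrivial A (IsLocalRing.ResidueField A →ₗ[A] E)
    obtain ⟨φ, hφ⟩ := exists_ne (0 : IsLocalRing.ResidueField A →ₗ[A] E)
    have hφinj : Function.Injective φ := (LinearMap.injective_or_eq_zero φ).resolve_right hφ
    refine ⟨φ, ⟨⟨hφinj, ?_⟩, hinj⟩⟩
    intro N hN
    obtain ⟨x, hxN, hx0⟩ := (Submodule.ne_bot_iff _).1 hN
    have hex := htors x
    have hn0 : Nat.find hex ≠ 0 := by
      intro h0
      have := Nat.find_spec hex
      rw [h0, pow_zero] at this
      exact hx0 (by simpa using this 1 (by simp))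
    obtain ⟨k, hk⟩ := Nat.exists_eq_succ_of_ne_zero hn0
    have hmin : ¬ ∀ a ∈ IsLocalRing.maximalIdeal A ^ k, a • x = 0 :=
      Nat.find_min hex (by rw [hk]; exact Nat.lt_succ_self k)
    push_neg at hmin
    obtain ⟨a, hak, hax⟩ := hmin
    have hsoc : ∀ b ∈ IsLocalRing.maximalIdeal A, b • (a • x) = 0 := by
      intro b hb
      rw [smul_smul]
      apply Nat.find_spec hex
      rw [hk, pow_succ']
      exact Ideal.mul_mem_mul hb hak
    -- the map k → E attached to the socle element a • x
    let ψ' : (A ⧸ IsLocalRing.maximalIdeal A) →ₗ[A] E :=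
      Submodule.liftQ (IsLocalRing.maximalIdeal A) (LinearMap.toSpanSingleton A E (a • x)) (by
        intro b hb
        rw [LinearMap.mem_ker, LinearMap.toSpanSingleton_apply]
        exact hsoc b hb)
    let ψ : IsLocalRing.ResidueField A →ₗ[A] E := ψ'
    have hψ1 : ψ 1 = a • x := by
      have h1 : ψ' (Submodule.Quotient.mk 1) = a • x := by
        rw [Submodule.liftQ_apply, LinearMap.toSpanSingleton_apply, one_smul]
      exact h1
    obtain ⟨r, hr⟩ := IsSimpleModule.toSpanSingleton_surjective A hφ ψ
    rw [LinearMap.toSpanSingleton_apply] at hr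
    refine (Submodule.ne_bot_iff _).2 ⟨a • x, Submodule.mem_inf.2 ⟨N.smul_mem a hxN, ?_⟩, hax⟩
    refine ⟨r • 1, ?_⟩
    rw [map_smul, ← hψ1, ← hr]
    rfl

end Groth.Agent.S5155
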