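import Groth.Statements.S5157
-- import your own Groth.Agent.* helpers here
import Groth.Agent.S11662

set_option autoImplicit false
universe u
open Matlis

namespace Groth.Agent.S5157

/-- Let A be a Noetherian local ring, a an ideal with A/a local (i.e. a ≠ A) and E an injective hull of
the residue field of A. Then the annihilator of a in E, E[a] = {e | a e = 0}, is an injective hull
of the residue field of A/a over A/a. -/
theorem result (A : Type u) [CommRing A] [IsLocalRing A] [IsNoetherianRing A] (a : Ideal A) [IsLocalRing (A ⧸ a)] (E : Type u) [AddCommGroup E] [Module A E] (f : IsLocalRing.ResidueField A →ₗ[A] E) (hf : InjHull.IsInjectiveHull f) : ∃ g : IsLocalRing.ResidueField (A ⧸ a) →ₗ[A ⧸ a] (LocCoh.torsionBy a E), InjHull.IsInjectiveHull g := by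
  classical
  -- the A-linear surjection A → residue field of A ⧸ a
  let lin : A →ₗ[A] IsLocalRing.ResidueField (A ⧸ a) :=
    Algebra.linearMap A (IsLocalRing.ResidueField (A ⧸ a))
  have hlin : ∀ r : A, lin r = IsLocalRing.residue (A ⧸ a) (Ideal.Quotient.mk a r) := fun r => rfl
  have hsurj : Function.Surjective lin := by
    intro y
    obtain ⟨z, rfl⟩ := IsLocalRing.residue_surjective y
    obtain ⟨r, rfl⟩ := Ideal.Quotient.mk_surjective z
    exact ⟨r, hlin r⟩
  have hloc : IsLocalHom (Ideal.Quotient.mk a) :=
    IsLocalHom.of_surjective (Ideal.Quotient.mk a) Ideal.Quotient.mk_surjective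
  have hker : LinearMap.ker lin = IsLocalRing.maximalIdeal A := by
    ext r
    rw [LinearMap.mem_ker, hlin, IsLocalRing.residue_eq_zero_iff, IsLocalRing.mem_maximalIdeal,
      IsLocalRing.mem_maximalIdeal, mem_nonunits_iff, mem_nonunits_iff]
    constructor
    · intro h hr
      exact h (hr.map _)
    · intro h hr
      exact h (hloc.map_nonunit r hr)
  let e : IsLocalRing.ResidueField A ≃ₗ[A] IsLocalRing.ResidueField (A ⧸ a) :=
    (Submodule.quotEquivOfEq _ _ hker.symm).trans (LinearMap.quotKerEquivOfSurjective lin hsurj)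
  let f' : IsLocalRing.ResidueField (A ⧸ a) →ₗ[A] E := f ∘ₗ e.symm.toLinearMap
  have hf' : InjHull.IsInjectiveHull f' := by
    refine ⟨⟨hf.injective.comp e.symm.injective, ?_⟩, hf.isInjective⟩
    intro N hN
    have : LinearMap.range f' = LinearMap.range f := by
      apply LinearMap.range_comp_of_range_eq_top
      exact LinearEquiv.range e.symm
    rw [this]
    exact hf.essential N hN
  obtain ⟨g, hg, -⟩ := Groth.Agent.S11662.result A a (IsLocalRing.ResidueField (A ⧸ a)) E f' hf'
  exact ⟨g, hg⟩

end Groth.Agent.S5157
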