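import Groth.Statements.S0299
-- import your own Groth.Agent.* helpers here
import Groth.Agent.Lib.Helper26.InjHull
import Mathlib.Algebra.Category.ModuleCat.EnoughInjectives
import Mathlib.Algebra.Category.ModuleCat.Injective

set_option autoImplicit false
universe u v
open InjHull

namespace Groth.Agent.S0299

/-- every module embeds into an injective module of the same universe -/
lemma exists_injective_embedding (R : Type u) [CommRing R] (M : Type u) [AddCommGroup M]
    [Module R M] :
    ∃ (I : Type u) (_ : AddCommGroup I) (_ : Module R I) (_ : Module.Injective R I)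
      (i : M →ₗ[R] I), Function.Injective i := by
  let X : ModuleCat.{u} R := ModuleCat.of R M
  let J : ModuleCat.{u} R := CategoryTheory.Injective.under X
  haveI : CategoryTheory.Injective (ModuleCat.of R J) :=
    (inferInstance : CategoryTheory.Injective J)
  refine ⟨J, inferInstance, inferInstance, Module.injective_module_of_injective_object R J,
    (CategoryTheory.Injective.ι X).hom, ?_⟩
  exact (ModuleCat.mono_iff_injective _).1 inferInstance

/-- a maximal essential extension of the image of `M` inside an injective module is an injective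
hull of `M` -/
lemma exists_injectiveHull_in (R : Type u) [CommRing R] (M : Type u) [AddCommGroup M] [Module R M]
    (I : Type u) [AddCommGroup I] [Module R I] [Module.Injective R I] (i : M →ₗ[R] I)
    (hi : Function.Injective i) :
    ∃ (E' : Submodule R I) (f : M →ₗ[R] E'), InjHull.IsInjectiveHull f ∧ ∀ m, (f m : I) = i m := by
  obtain ⟨E', hE', hmax⟩ :=
    Groth.Agent.Lib.Helper26.InjHull.exists_maximal_essIn (LinearMap.range i)
  have hinj : Module.Injective R E' :=
    Groth.Agent.Lib.Helper26.InjHull.injective_of_maximal_essIn hmax hE'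
  let f : M →ₗ[R] E' := LinearMap.codRestrict E' i (fun m => hE'.1 ⟨m, rfl⟩)
  refine ⟨E', f, ⟨⟨?_, ?_⟩, hinj⟩, fun m => rfl⟩
  · intro m m' h
    exact hi (congrArg Subtype.val h)
  · intro N hN
    obtain ⟨x, hx, hx0⟩ := (Submodule.ne_bot_iff _).1 hN
    have hx0' : (x : I) ≠ 0 := fun h => hx0 (Subtype.ext h)
    obtain ⟨r, ⟨m, hm⟩, hr2⟩ := hE'.2 x x.2 hx0'
    refine (Submodule.ne_bot_iff _).2 ⟨r • x, ⟨N.smul_mem r hx, ⟨m, Subtype.ext hm⟩⟩, ?_⟩
    intro h
    exact hr2 (congrArg Subtype.val h)

/-- Every module over a commutative ring has an injective hull, i.e. an essential injection into an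
injective module. -/
theorem result (R : Type u) [CommRing R] (M : Type u) [AddCommGroup M] [Module R M] : ∃ (E : Type u) (_ : AddCommGroup E) (_ : Module R E) (f : M →ₗ[R] E), InjHull.IsInjectiveHull f := by
  obtain ⟨I, _, _, _, i, hi⟩ := exists_injective_embedding R M
  obtain ⟨E', f, hf, -⟩ := exists_injectiveHull_in R M I i hi
  exact ⟨E', inferInstance, inferInstance, f, hf⟩

end Groth.Agent.S0299
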