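import Groth.Statements.S0364
import Groth.Agent.Lib.Helper8.Res2

set_option autoImplicit false
universe u v
open CategoryTheory
attribute [local instance] HasDerivedCategory.standard
open Dual

namespace Groth.Agent.S0364

/-- For a dualizing complex ω over a Noetherian ring and a maximal ideal m with residue field κ = A/m,
the groups Hom(κ, ω[i]) in D(A) vanish except in one degree n, where the group is isomorphic to κ as
an A-module. -/
theorem result (A : Type u) [CommRing A] [IsNoetherianRing A] (ω : Dual.D A) (hω : Dual.IsDualizing A ω) (m : Ideal A) [m.IsMaximal] : ∃ n : ℤ, (∀ i : ℤ, i ≠ n → Subsingleton (Dual.inD A (A ⧸ m) ⟶ ω⟦i⟧)) ∧ Nonempty ((Dual.inD A (A ⧸ m) ⟶ ω⟦n⟧) ≃ₗ[A] (A ⧸ m)) := by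
  letI : Field (A ⧸ m) := Ideal.Quotient.field m
  haveI : Module.Finite A (A ⧸ m) := Module.Finite.of_surjective (Ideal.Quotient.mkₐ A m).toLinearMap
    (Ideal.Quotient.mkₐ_surjective A m)
  obtain ⟨n, h1, ⟨h2⟩⟩ := Groth.Agent.Lib.Helper8.Bidual.ext_field_single_degree
    (A := A) (B := A ⧸ m) ω hω
  let eM : (A ⧸ m) ≃ₗ[A] Groth.Agent.Lib.Helper8.Bidual.BA (algebraMap A (A ⧸ m)) :=
    Groth.Agent.Lib.Helper16.FlatBC.bEquiv (A := A) (B := A ⧸ m)
  let j : Dual.inD A (A ⧸ m) ≅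
      Dual.inD A (Groth.Agent.Lib.Helper8.Bidual.BA (algebraMap A (A ⧸ m))) :=
    (DerivedCategory.singleFunctor (ModuleCat.{u} A) 0).mapIso eM.toModuleIso
  refine ⟨n, fun i hi => ?_, ?_⟩
  · haveI := h1 i hi
    exact (Groth.Agent.Lib.Helper8.EFB.precompEquivLin j.symm (ω⟦i⟧)).toEquiv.subsingleton
  · exact ⟨((Groth.Agent.Lib.Helper8.EFB.precompEquivLin j.symm (ω⟦n⟧)).trans h2).trans eM.symm⟩

end Groth.Agent.S0364
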