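import Groth.Statements.S5765
import Mathlib.RingTheory.Spectrum.Prime.Module

set_option autoImplicit false
universe u
open EGA41

namespace Groth.Agent.S5765

/-- Let A be a ring, M a finitely generated A-module and p a prime ideal of A. Then dim_{A_p}(M_p) +
dim_A(M/pM) ≤ dim_A(M). -/
theorem result (A : Type u) [CommRing A] (M : Type u)
    [AddCommGroup M] [Module A M] [Module.Finite A M] (p : Ideal A) [p.IsPrime] :
    Module.supportDim (Localization.AtPrime p) (LocalizedModule p.primeCompl M) +
        Module.supportDim A (M ⧸ (p • (⊤ : Submodule A M))) ≤ Module.supportDim A M := by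
  classical
  set Ap := Localization.AtPrime p with hAp
  set Mp := LocalizedModule p.primeCompl M with hMp
  set X := Module.support A M with hX
  set Y1 := Module.support Ap Mp with hY1
  set Y2 := Module.support A (M ⧸ (p • (⊤ : Submodule A M))) with hY2
  unfold Module.supportDim
  by_cases hE1 : IsEmpty Y1
  · rw [Order.krullDim_eq_bot_iff.mpr hE1, WithBot.bot_add]; exact bot_le
  by_cases hE2 : IsEmpty Y2
  · rw [Order.krullDim_eq_bot_iff.mpr hE2, WithBot.add_bot]; exact bot_le
  rw [not_isEmpty_iff] at hE1 hE2
  -- the comparison map on supports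
  have hsub : ∀ q' : PrimeSpectrum Ap, q' ∈ Y1 →
      PrimeSpectrum.comap (algebraMap A Ap) q' ∈ X := by
    intro q' hq'
    have h1 := Module.support_subset_preimage_comap (R := A) (A := Ap) (M := Mp) hq'
    rw [Set.mem_preimage, Module.mem_support_iff'] at h1
    obtain ⟨x, hx⟩ := h1
    obtain ⟨⟨m, s⟩, rfl⟩ := Quotient.exists_rep x
    rw [Module.mem_support_iff']
    refine ⟨m, fun r hr hrm => hx r hr ?_⟩
    change r • LocalizedModule.mk m s = 0
    rw [LocalizedModule.smul'_mk, hrm, LocalizedModule.zero_mk]
  have hle : ∀ q' : PrimeSpectrum Ap, (PrimeSpectrum.comap (algebraMap A Ap) q').asIdeal ≤ p := by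
    intro q'
    have h1 : q'.asIdeal ≤ IsLocalRing.maximalIdeal Ap :=
      IsLocalRing.le_maximalIdeal q'.isPrime.ne_top
    have h2 := Ideal.comap_mono (f := algebraMap A Ap) h1
    rwa [show Ideal.comap (algebraMap A Ap) (IsLocalRing.maximalIdeal Ap) = p from
      Localization.AtPrime.under_maximalIdeal] at h2
  have hpX : (⟨p, inferInstance⟩ : PrimeSpectrum A) ∈ X := by
    obtain ⟨⟨q', hq'⟩⟩ := hE1
    exact Module.mem_support_mono (hle q') (hsub q' hq')
  let P : X := ⟨⟨p, inferInstance⟩, hpX⟩
  let f : Y1 → X := fun q' => ⟨PrimeSpectrum.comap (algebraMap A Ap) q'.1, hsub q'.1 q'.2⟩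
  have hf : StrictMono f := by
    intro a b hab
    have hab' : a.1.asIdeal < b.1.asIdeal := hab
    change (a.1.asIdeal.comap (algebraMap A Ap)) < (b.1.asIdeal.comap (algebraMap A Ap))
    refine lt_of_le_of_ne (Ideal.comap_mono hab'.le) ?_
    intro heq
    have := congrArg (Ideal.map (algebraMap A Ap)) heq
    rw [IsLocalization.map_comap p.primeCompl, IsLocalization.map_comap p.primeCompl] at this
    exact hab'.ne this
  have hY2X : Y2 = X ∩ PrimeSpectrum.zeroLocus p := Module.support_quotient p
  let g : Y2 → X := fun q => ⟨q.1, ((Set.ext_iff.mp hY2X q.1).mp q.2).1⟩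
  have hg : StrictMono g := fun a b hab => hab
  have hgP : ∀ q : Y2, P ≤ g q := by
    intro q
    exact ((Set.ext_iff.mp hY2X q.1).mp q.2).2
  have h1 : Order.krullDim Y1 ≤ ((Order.height P : ℕ∞) : WithBot ℕ∞) := by
    unfold Order.krullDim
    refine iSup_le fun l => ?_
    have : ((l.map f hf).length : ℕ∞) ≤ Order.height P :=
      Order.length_le_height (by
        rw [LTSeries.last_map]
        exact hle _)
    exact_mod_cast this
  have h2 : Order.krullDim Y2 ≤ ((Order.coheight P : ℕ∞) : WithBot ℕ∞) := by
    unfold Order.krullDim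
    refine iSup_le fun l => ?_
    have : ((l.map g hg).length : ℕ∞) ≤ Order.coheight P :=
      Order.length_le_coheight (by
        rw [LTSeries.head_map]
        exact hgP _)
    exact_mod_cast this
  haveI : Nonempty X := ⟨P⟩
  calc Order.krullDim Y1 + Order.krullDim Y2
      ≤ ((Order.height P : ℕ∞) : WithBot ℕ∞) + ((Order.coheight P : ℕ∞) : WithBot ℕ∞) :=
        add_le_add h1 h2
    _ = ((Order.height P + Order.coheight P : ℕ∞) : WithBot ℕ∞) := by norm_cast
    _ ≤ Order.krullDim X := by
        rw [Order.krullDim_eq_iSup_height_add_coheight_of_nonempty]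
        exact_mod_cast le_iSup (fun a : X => Order.height a + Order.coheight a) P

end Groth.Agent.S5765
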