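import Groth.Statements.S6880
import Mathlib
import Groth.Agent.Lib.Helper21.DepthKit9

set_option autoImplicit false
universe u
open CAlg

namespace Groth.Agent.S6880

open RingTheory.Sequence IsLocalRing Module Pointwise
open Groth.Agent.Lib.Helper21.DepthKit

section
variable {R : Type u} [CommRing R]

/-- `R_p` as the localized module of `R`. -/
noncomputable def locSelfEquiv (p : Ideal R) [p.IsPrime] :
    LocalizedModule p.primeCompl R ≃ₗ[Localization.AtPrime p] Localization.AtPrime p :=
  LinearEquiv.extendScalarsOfIsLocalization p.primeCompl (Localization.AtPrime p)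
    (IsLocalizedModule.iso p.primeCompl (Algebra.linearMap R (Localization.AtPrime p)))

variable [IsNoetherianRing R] {M : Type u} [AddCommGroup M] [Module R M] [Module.Finite R M]
  [Module.IsReflexive R M]

theorem le_depth_localization_of_reflexive (p : Ideal R) [p.IsPrime] (j : ℕ) (hj : j ≤ 2)
    (h : (j : ℕ∞) ≤ LocCoh.depth (Localization.AtPrime p) (Localization.AtPrime p)) :
    (j : ℕ∞) ≤ LocCoh.depth (Localization.AtPrime p) (LocalizedModule p.primeCompl M) := by
  haveI : Module.Finite R (Module.Dual R M) := Groth.Agent.S6876.finite_hom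
  let e : M ≃ₗ[R] (Module.Dual R M →ₗ[R] R) := Module.evalEquiv R M
  let ep : LocalizedModule p.primeCompl M ≃ₗ[Localization.AtPrime p]
      LocalizedModule p.primeCompl (Module.Dual R M →ₗ[R] R) :=
    IsLocalizedModule.mapEquiv p.primeCompl (LocalizedModule.mkLinearMap p.primeCompl M)
      (LocalizedModule.mkLinearMap p.primeCompl (Module.Dual R M →ₗ[R] R))
      (Localization.AtPrime p) e
  rw [depth_congr (N := LocalizedModule p.primeCompl (Module.Dual R M →ₗ[R] R)) ep]
  rw [← depth_congr (locSelfEquiv p)] at h
  have hj2 : j = 0 ∨ j = 1 ∨ j = 2 := by omega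
  rcases hj2 with rfl | rfl | rfl
  · simp
  · have := one_le_depth_localization_hom (M := Module.Dual R M) (N := R) p (by simpa using h)
    simpa using this
  · have := two_le_depth_localization_hom (M := Module.Dual R M) (N := R) p (by simpa using h)
    simpa using this

end


/-- Let `R` be a Noetherian domain and `M` a finite reflexive `R`-module. For a prime `𝔭` with
`depth(R_𝔭) ≥ 2` one has `depth(M_𝔭) ≥ 2`; and if `R` has `(S_2)` then `M` has `(S_2)`. -/
theorem result (R : Type u) [CommRing R] [IsDomain R] [IsNoetherianRing R] (M : Type u)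
    [AddCommGroup M] [Module R M] [Module.Finite R M] [Module.IsReflexive R M] :
    (∀ (p : Ideal R) [p.IsPrime], 2 ≤ LocCoh.depth (Localization.AtPrime p) (Localization.AtPrime p) →
      2 ≤ LocCoh.depth (Localization.AtPrime p) (LocalizedModule p.primeCompl M)) ∧
    (LocCoh.HasSk 2 R R → LocCoh.HasSk 2 R M) := by
  constructor
  · intro p _ h
    have := le_depth_localization_of_reflexive (M := M) p 2 le_rfl (by simpa using h)
    simpa using this
  · intro h p _
    refine sk_transfer ?_ ?_ (h p)
    · rw [supportDim_eq_of_equiv (locSelfEquiv p), supportDim_self_eq_ringKrullDim]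
      exact supportDim_le_ringKrullDim _ _
    · intro j hj hjN
      rw [depth_congr (locSelfEquiv p)] at hjN
      exact le_depth_localization_of_reflexive (M := M) p j hj hjN

end Groth.Agent.S6880
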