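import Groth.Statements.S10834
import Mathlib
import Groth.Agent.Lib.Helper21.DepthKit12
import Groth.Agent.Lib.helper11.RegularSop
import Groth.Agent.Lib.helper19.RegularLocal
import Groth.Agent.S0601
import Groth.Agent.S6880
import Groth.Agent.S2659

set_option autoImplicit false
universe u
open CAlg

namespace Groth.Agent.S10834

open IsLocalRing Module Pointwise RingTheory.Sequence
open Groth.Agent.Lib.Helper21.DepthKit

/-- a regular local ring is Cohen–Macaulay. -/
theorem isCM_of_isRegularLocalRing (R : Type u) [CommRing R] [IsRegularLocalRing R] :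
    LocCoh.IsCohenMacaulayModule R R := by
  obtain ⟨n, hn⟩ := exists_nat_supportDim (A := R) (M := R)
  have hd : ringKrullDim R = n := by rw [← supportDim_self_eq_ringKrullDim, hn]
  obtain ⟨rs, hlen, -, hmem, hreg⟩ := Groth.Agent.Lib.helper11.RegularSop.exists_regular_sop n hd
  have h1 : (rs.length : ℕ∞) ≤ LocCoh.depth R R := length_le_idealDepth _ rs hreg.1 hmem
  have h2 := depth_le_supportDim (A := R) (M := R)
  unfold LocCoh.IsCohenMacaulayModule
  apply le_antisymm _ h2
  rw [hn, ← hlen]
  exact_mod_cast h1

/-- a CM module over a local ring, modulo an element of the maximal ideal which is zero or regular, is CM-/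
theorem isCM_quot_singleton {R : Type u} [CommRing R] [IsLocalRing R] [IsNoetherianRing R]
    {M : Type u} [AddCommGroup M] [Module R M] [Module.Finite R M]
    (h : LocCoh.IsCohenMacaulayModule R M) (x : R) (hx : x ∈ maximalIdeal R)
    (hreg : x = 0 ∨ IsSMulRegular M x) :
    LocCoh.IsCohenMacaulayModule R (M ⧸ (Ideal.ofList [x] • ⊤ : Submodule R M)) := by
  rcases hreg with rfl | hreg
  · have h0 : (Ideal.ofList [(0 : R)] • ⊤ : Submodule R M) = ⊥ := by
      simp
    exact isCM_congr (Submodule.quotEquivOfEqBot _ h0).symm h
  · exact isCM_quot_ofList [x] M h (by simpa using hx) ((isWeaklyRegular_singleton_iff M x).2 hreg)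

section
variable {A : Type u} [CommRing A] [IsNoetherianRing A]

/-- `(A/fA)_q` is a CM module over the regular local ring `A_q`. -/
theorem isCM_localized_quot (f : A) (q : Ideal A) [q.IsPrime] (hfq : f ∈ q)
    [IsRegularLocalRing (Localization.AtPrime q)] :
    LocCoh.IsCohenMacaulayModule (Localization.AtPrime q)
      (LocalizedModule q.primeCompl (A ⧸ Ideal.span {f})) := by
  haveI : IsDomain (Localization.AtPrime q) :=
    Groth.Agent.Lib.helper19.isDomain_of_isRegularLocalRing _
  have h0 : LocCoh.IsCohenMacaulayModule (Localization.AtPrime q)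
      (LocalizedModule q.primeCompl A) :=
    isCM_congr (Groth.Agent.S6880.locSelfEquiv q).symm (isCM_of_isRegularLocalRing _)
  set x : Localization.AtPrime q := algebraMap A (Localization.AtPrime q) f with hx
  have hxm : x ∈ maximalIdeal (Localization.AtPrime q) :=
    (IsLocalization.AtPrime.to_map_mem_maximal_iff _ q f).2 hfq
  have hreg : x = 0 ∨ IsSMulRegular (LocalizedModule q.primeCompl A) x := by
    by_cases hx0 : x = 0
    · exact Or.inl hx0
    · right
      have h1 : IsSMulRegular (Localization.AtPrime q) x :=
        (isRegular_of_ne_zero hx0).isSMulRegular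
      exact ((Groth.Agent.S6880.locSelfEquiv q).isSMulRegular_congr x).2 h1
  have h1 := isCM_quot_singleton h0 x hxm hreg
  have h2 := isCM_congr (localizedQuotOfListEquiv (M := A) q [f]) h1
  have heq : (Ideal.ofList [f] • ⊤ : Submodule A A) = Ideal.span {f} := by
    simp [Ideal.ofList_singleton]
  let e1 : (A ⧸ (Ideal.ofList [f] • ⊤ : Submodule A A)) ≃ₗ[A] (A ⧸ Ideal.span {f}) :=
    Submodule.quotEquivOfEq _ _ heq
  let e1L : LocalizedModule q.primeCompl (A ⧸ (Ideal.ofList [f] • ⊤ : Submodule A A))
      ≃ₗ[Localization.AtPrime q] LocalizedModule q.primeCompl (A ⧸ Ideal.span {f}) :=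
    IsLocalizedModule.mapEquiv q.primeCompl
      (LocalizedModule.mkLinearMap q.primeCompl (A ⧸ (Ideal.ofList [f] • ⊤ : Submodule A A)))
      (LocalizedModule.mkLinearMap q.primeCompl (A ⧸ Ideal.span {f})) (Localization.AtPrime q) e1
  exact isCM_congr e1L h2

/-- a hypersurface in a regular ring satisfies `(S_k)` for every `k` (it is CM). -/
theorem hasSk_quot
    (hreg : ∀ (p : Ideal A) (_ : p.IsPrime), IsRegularLocalRing (Localization.AtPrime p))
    (f : A) (k : ℕ) :
    LocCoh.HasSk k (A ⧸ Ideal.span {f}) (A ⧸ Ideal.span {f}) := by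
  intro P hP
  have hs : Function.Surjective (algebraMap A (A ⧸ Ideal.span {f})) :=
    Ideal.Quotient.mk_surjective
  rw [← supportDim_localization_of_surjective (N := A ⧸ Ideal.span {f}) hs P,
    ← depth_localization_of_surjective (N := A ⧸ Ideal.span {f}) hs P]
  haveI hqp : (P.comap (algebraMap A (A ⧸ Ideal.span {f}))).IsPrime := Ideal.comap_isPrime _ P
  haveI := hreg _ hqp
  have hfq : f ∈ P.comap (algebraMap A (A ⧸ Ideal.span {f})) := by
    rw [Ideal.mem_comap, Ideal.Quotient.algebraMap_eq,
      Ideal.Quotient.eq_zero_iff_mem.2 (Ideal.mem_span_singleton_self f)]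
    exact P.zero_mem
  have hcm := isCM_localized_quot f _ hfq
  unfold LocCoh.IsCohenMacaulayModule at hcm
  rw [hcm]
  exact min_le_right _ _

end

section
variable {B : Type u} [CommRing B] [IsNoetherianRing B] [IsDomain B]

theorem hasRk_one_of_dim_one
    (h : ∀ q : PrimeSpectrum B, ringKrullDim (Localization.AtPrime q.asIdeal) = 1 →
      IsRegularLocalRing (Localization.AtPrime q.asIdeal)) : LocCoh.HasRk 1 B := by
  intro p hp hp1
  have hdim : ringKrullDim (Localization.AtPrime p) = p.height :=
    IsLocalization.AtPrime.ringKrullDim_eq_height p _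
  rcases (le_iff_lt_or_eq.1 (show p.height ≤ 1 by exact_mod_cast hp1)) with h0 | h1
  · -- `dim B_p = 0`, so `B_p` is a field
    have h0' : p.height = 0 := ENat.lt_one_iff_eq_zero.1 h0
    rw [h0'] at hdim
    haveI : Ring.KrullDimLE 0 (Localization.AtPrime p) := by
      rw [Ring.krullDimLE_iff, hdim]; rfl
    haveI : IsDomain (Localization.AtPrime p) :=
      IsLocalization.isDomain_localization p.primeCompl_le_nonZeroDivisors
    have hf : IsField (Localization.AtPrime p) := Ring.KrullDimLE.isField_of_isDomain
    haveI : IsPrincipalIdealRing (Localization.AtPrime p) := hf.isPrincipalIdealRing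
    infer_instance
  · exact h ⟨p, hp⟩ (by rw [hdim, h1]; rfl)

end


/-- Let A be a Noetherian ring whose localizations at all prime ideals are regular local rings, and f an
element of A generating a prime ideal, so that A/(f) is an integral domain (an integral hypersurface
in the regular affine scheme Spec A). Then A/(f) is normal (integrally closed in its fraction field)
if and only if it is regular in codimension 1, i.e. its localization at every prime at which the
local ring has dimension 1 is a regular local ring. -/
theorem result (A : Type u) [CommRing A]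
    [IsNoetherianRing A] (hreg : ∀ (p : Ideal A) (_ : p.IsPrime), IsRegularLocalRing (Localization.AtPrime p))
    (f : A) (hf : (Ideal.span ({f} : Set A)).IsPrime) :
    IsIntegrallyClosed (A ⧸ Ideal.span ({f} : Set A)) ↔
      ∀ q : PrimeSpectrum (A ⧸ Ideal.span ({f} : Set A)),
        ringKrullDim (Localization.AtPrime q.asIdeal) = 1 →
          IsRegularLocalRing (Localization.AtPrime q.asIdeal) := by
  haveI : IsDomain (A ⧸ Ideal.span {f}) := Ideal.Quotient.isDomain _
  constructor
  · intro hic q hq
    have h1 : ∀ (p : Ideal (A ⧸ Ideal.span {f})) [p.IsPrime],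
        IsDomain (Localization.AtPrime p) ∧ IsIntegrallyClosed (Localization.AtPrime p) := by
      intro p hp
      exact ⟨IsLocalization.isDomain_localization p.primeCompl_le_nonZeroDivisors,
        isIntegrallyClosed_of_isLocalization _ p.primeCompl p.primeCompl_le_nonZeroDivisors⟩
    have h2 := ((Groth.Agent.S0601.result (A ⧸ Ideal.span {f})).1 h1).1
    apply h2 q.asIdeal
    have hdim : ringKrullDim (Localization.AtPrime q.asIdeal) = q.asIdeal.height :=
      IsLocalization.AtPrime.ringKrullDim_eq_height q.asIdeal _
    rw [hdim] at hq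
    have : q.asIdeal.height = 1 := by exact_mod_cast hq
    rw [this]; rfl
  · intro h
    have h1 := (Groth.Agent.S0601.result (A ⧸ Ideal.span {f})).2
      ⟨hasRk_one_of_dim_one h, hasSk_quot hreg f 2⟩
    exact IsIntegrallyClosed.of_localization_maximal fun p _ _ => (h1 p).2

end Groth.Agent.S10834
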