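import Groth.Statements.S6200
import Groth.Agent.Lib.Helper16.KD9
import Groth.Agent.Lib.Helper16.TorAmp4
import Groth.Agent.Lib.Helper16.FlatAcyc2

set_option autoImplicit false
universe u
open CategoryTheory CategoryTheory.Limits AlgebraicGeometry
attribute [local instance] HasDerivedCategory.standard
open KSix

namespace Groth.Agent.S6200


open Groth.Agent.Lib.Helper16 Groth.Agent.Lib.Helper16.Stk Groth.Agent.Lib.Helper16.KD ZeroObject

variable {X : Scheme.{u}}

/-- the stalk functor over the identity is the stalk functor. -/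
noncomputable def stalkOverIdIso (x : X) : DerSch.stalkOver (𝟙 X) x ≅ stk x :=
  Functor.isoWhiskerLeft (stk x)
    (ModuleCat.restrictScalarsId'.{u} ((𝟙 X : X ⟶ X).stalkMap x).hom
      (by rw [Scheme.Hom.stalkMap_id]; rfl)) ≪≫ Functor.rightUnitor _

/-- complex version. -/
noncomputable def stalkCxOverIdIso (x : X) (K : CochainComplex X.Modules ℤ) :
    (DerSch.stalkCxOver (𝟙 X) x).obj K ≅ stkCx x K :=
  HomologicalComplex.Hom.isoOfComponents (fun i => (stalkOverIdIso x).app (K.X i))
    (fun i j _ => ((stalkOverIdIso x).hom.naturality (K.d i j)).symm)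

lemma hasTorAmplitudeAt_id_iff (F : CochainComplex X.Modules ℤ) (a b : ℤ) (x : X) :
    DerSch.HasTorAmplitudeAt (𝟙 X) a b F x ↔
      DRing.HasTorAmplitudeIn (X.presheaf.stalk x) a b (DRing.toD (stkCx x F)) := by
  constructor
  · intro h
    exact TorAmp.hasTorAmplitudeIn_of_iso (DerivedCategory.Q.mapIso (stalkCxOverIdIso x F)) a b h
  · intro h
    exact TorAmp.hasTorAmplitudeIn_of_iso
      (DerivedCategory.Q.mapIso (stalkCxOverIdIso x F)).symm a b h

/-- the derived stalk functor. -/
noncomputable abbrev stkD (x : X) : DCoh.D X ⥤ Dual.D (X.presheaf.stalk x) :=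
  (stk x).mapDerivedCategory

/-- an isomorphism in `D(O_X)` gives isomorphisms of the complexes of stalks in `D(O_{X,x})`. -/
noncomputable def stkIsoOfIso (x : X) {E F : CochainComplex X.Modules ℤ}
    (e : DCoh.toD X E ≅ DCoh.toD X F) :
    DRing.toD (stkCx x E) ≅ DRing.toD (stkCx x F) :=
  ((stk x).mapDerivedCategoryFactors.app E).symm ≪≫ (stkD x).mapIso e ≪≫
    (stk x).mapDerivedCategoryFactors.app F

lemma stalk_vanishesOutside (x : X) (E : CochainComplex X.Modules ℤ) (a b : ℤ)
    (hE : DCoh.VanishesOutside E a b) : DRing.VanishesOutside (stkCx x E) a b :=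
  fun i hi => (stk x).map_isZero (hE i hi)

theorem forward (F : CochainComplex X.Modules ℤ) (a b : ℤ)
    (h : DCoh.HasFlatAmplitudeIn a b (DCoh.toD X F)) (x : X) :
    DRing.HasTorAmplitudeIn (X.presheaf.stalk x) a b (DRing.toD (stkCx x F)) := by
  obtain ⟨E, hE, hEfl, ⟨e⟩⟩ := h
  exact ⟨stkCx x E, stalk_vanishesOutside x E a b hE, fun i => hEfl i x, ⟨stkIsoOfIso x e⟩⟩

theorem backward (F : CochainComplex X.Modules ℤ) (d : ℤ) [(DCoh.toD X F).IsLE d] (a b : ℤ)
    (h : ∀ x : X, DRing.HasTorAmplitudeIn (X.presheaf.stalk x) a b (DRing.toD (stkCx x F))) :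
    DCoh.HasFlatAmplitudeIn a b (DCoh.toD X F) := by
  have hFle : F.IsLE d := (DerivedCategory.isLE_Q_obj_iff F d).1 inferInstance
  have hex : ∀ i : ℤ, d < i → F.ExactAt i := (CochainComplex.isLE_iff F d).1 hFle
  obtain ⟨E, q, hEle, hEfl, hq⟩ := exists_boundedAbove_flat_resolution F d hex
  haveI := hq
  have hEK : DCoh.IsKFlat E := isKFlat_of_boundedAbove_flat E d hEle hEfl
  have hx : ∀ x : X, DRing.HasTorAmplitudeIn (X.presheaf.stalk x) a b (DRing.toD (stkCx x E)) :=
    fun x => TorAmp.hasTorAmplitudeIn_of_iso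
      (stkIsoOfIso x (asIso (DerivedCategory.Q.map q))).symm a b (h x)
  have hG : ∀ (G : X.Modules) (i : ℤ), i < a ∨ b < i → ((tensModCx G).obj E).ExactAt i := by
    intro G i hi
    rw [exactAt_iff_forall_stalk]
    intro x
    refine HomologicalComplex.ExactAt.of_iso ?_ (tensModCxStkIso G x E).symm
    exact (TorAmp.torAmp_iff_exactAt_tensCx (stkCx x E) d
      (fun j hj => (stk x).map_isZero (E.isZero_of_isStrictlyLE d j hj))
      (fun j => hEfl j x) a b).1 (hx x) _ i hi
  by_cases hab : a ≤ b
  · obtain ⟨E', hE', hE'fl, ⟨e⟩⟩ := exists_flat_amplitude_model E hEK hEfl a b hab hG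
    exact ⟨E', hE', hE'fl, ⟨e ≪≫ asIso (DerivedCategory.Q.map q)⟩⟩
  · have hEex : ∀ i : ℤ, E.ExactAt i := fun i =>
      exactAt_of_forall_tensModCx E i (fun G => hG G i (by omega))
    have hz : IsZero (DCoh.toD X E) := FlatAcyc.isZero_Q_obj_of_exactAt E hEex
    refine ⟨0, fun i _ => ?_, fun i => ?_,
      ⟨(Functor.map_isZero DerivedCategory.Q (isZero_zero _)).iso hz ≪≫
        asIso (DerivedCategory.Q.map q)⟩⟩
    · exact Functor.map_isZero (HomologicalComplex.eval _ _ i) (isZero_zero _)
    · exact isFlat_of_isZero (Functor.map_isZero (HomologicalComplex.eval _ _ i) (isZero_zero _))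

/-- For the identity morphism of a scheme: let X be a scheme and E ∈ D⁻(O_X) be given by a cochain
complex F. Then E has tor amplitude in [a, b] in the absolute sense (it is isomorphic in D(O_X) to a
complex of flat O_X-modules placed in [a, b]) if and only if at every point x the complex of stalks
F_x has tor amplitude in [a, b] over the local ring of X at x (tor amplitude relative to the
identity of X, stalkwise form). (The published statement is for a morphism of ringed topoi with
enough points and tor amplitude over the inverse image of the structure sheaf of the base; this row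
is the case of the identity of a scheme.) -/
theorem result {X : Scheme.{u}} (F : CochainComplex X.Modules ℤ) (d : ℤ)
    [(DCoh.toD X F).IsLE d] (a b : ℤ) :
    DCoh.HasFlatAmplitudeIn a b (DCoh.toD X F) ↔ DerSch.HasTorAmplitude (𝟙 X) a b F := by
  constructor
  · intro h x
    exact (hasTorAmplitudeAt_id_iff F a b x).2 (forward F a b h x)
  · intro h
    exact backward F d a b (fun x => (hasTorAmplitudeAt_id_iff F a b x).1 (h x))

end Groth.Agent.S6200
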