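import Groth.Statements.S6188
import Groth.Agent.Lib.Helper16.TorLoc5
import Groth.Agent.Lib.Helper16.StalkTor1
import Groth.Agent.Lib.Helper16.KD3
import Groth.Agent.Lib.Helper16.PB1
import Groth.Agent.Lib.Helper16.Fl2
import Groth.Agent.S6200

set_option autoImplicit false
universe u
open CategoryTheory CategoryTheory.Limits AlgebraicGeometry
attribute [local instance] HasDerivedCategory.standard
open KSix

namespace Groth.Agent.S6188

open Groth.Agent.Lib.Helper16 Groth.Agent.Lib.Helper16.TorLoc Groth.Agent.Lib.Helper16.Stk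
  DerivedCategory

section Ring

variable {A B C : Type u} [CommRing A] [CommRing B] [CommRing C] (φ : A →+* B) (χ : B →+* C)

/-- an isomorphism in `D(C)` gives an isomorphism of the double restrictions in `D(A)`. -/
noncomputable def resResIsoOfIso {W W' : DRing.Cx C} (e : DRing.toD W ≅ DRing.toD W') :
    DRing.toD ((resCx φ).obj ((resCx χ).obj W)) ≅ DRing.toD ((resCx φ).obj ((resCx χ).obj W')) :=
  (RestrictD.restrictQIso φ _).symm ≪≫
    (DRing.restrictD φ).mapIso ((RestrictD.restrictQIso χ W).symm ≪≫
      (DRing.restrictD χ).mapIso e ≪≫ RestrictD.restrictQIso χ W') ≪≫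
    RestrictD.restrictQIso φ _

end Ring

section Sch

variable {X Y : Scheme.{u}} (f : X ⟶ Y)

/-- the stalk complex over the base is the restriction of the stalk complex. -/
noncomputable def stalkCxOverIso (x : X) (F : CochainComplex X.Modules ℤ) :
    (DerSch.stalkCxOver f x).obj F ≅ (resCx (f.stalkMap x).hom).obj (stkCx x F) :=
  HomologicalComplex.Hom.isoOfComponents (fun _ => Iso.refl _) (fun i j _ => by
    simp only [Iso.refl_hom, Category.comp_id, Category.id_comp]
    rfl)

lemma quasiIso_stkCx_map (x : X) {F F' : CochainComplex X.Modules ℤ} (p : F ⟶ F') [QuasiIso p] :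
    QuasiIso (((stk x).mapHomologicalComplex (ComplexShape.up ℤ)).map p) :=
  HomologicalComplex.quasiIso_map_of_preservesHomology _ _

end Sch

/-- Case of schemes: let f : X ⟶ Y and g : Y ⟶ Z be morphisms of schemes with composite h, let m be a
natural number such that f has tor dimension at most m (the structure sheaf of X has tor amplitude
in [-m, 0] relative to f, stalkwise), and let G be a cochain complex of O_Y-modules with tor
amplitude in [c, d] relative to g (stalkwise flat models placed in [c, d] over the local rings of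
Z). Then, the derived pullback Lf^* being assumed to exist, Lf^* G has tor amplitude in [c - m, d]
relative to h: every cochain complex representing it has stalkwise flat models placed in [c - m, d]
over the local rings of Z. (The published statement is for a commutative triangle of ringed topoi in
which X has enough points; this row is the case of schemes, with tor amplitude relative to a
morphism in its stalkwise form.) -/
theorem result {X Y Z : Scheme.{u}} (f : X ⟶ Y) (g : Y ⟶ Z) (h : X ⟶ Z)
    (w : f ≫ g = h) (m : ℕ) (hf : DerSch.HasTorDimLE f m) [DCoh.HasLpull f]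
    (G : CochainComplex Y.Modules ℤ) (c d : ℤ) (hG : DerSch.HasTorAmplitude g c d G) :
    DerSch.HasTorAmplitudeD h (c - m) d ((DCoh.Lpull f).obj (DCoh.toD Y G)) := by
  subst w
  intro F ⟨eF⟩ x
  obtain ⟨G', p, hG'K, -, hp, -⟩ := exists_kFlat_resolution G
  haveI := hp
  haveI : IsIso (Q.map p) := by rw [isIso_Q_map_iff_quasiIso]; infer_instance
  have e : DCoh.toD X F ≅ DCoh.toD X ((KD.pullCx f).obj G') :=
    eF ≪≫ (DCoh.Lpull f).mapIso (asIso (Q.map p)).symm ≪≫ KD.LpullIso f G' hG'K
  letI : Algebra (Y.presheaf.stalk (f.base x)) (X.presheaf.stalk x) :=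
    (f.stalkMap x).hom.toAlgebra
  have hC : DRing.HasTorAmplitudeIn (Y.presheaf.stalk (f.base x)) (-(m : ℤ)) 0
      (Dual.inD (Y.presheaf.stalk (f.base x)) (X.presheaf.stalk x)) :=
    TorAmp.hasTorAmplitudeIn_of_iso (StalkTor.unitStalkIso f x) _ _ (hf x)
  have hPK : DRing.IsKFlat (Y.presheaf.stalk (f.base x)) (stkCx (f.base x) G') :=
    stalk_isKFlat_of_isKFlat (f.base x) G' hG'K
  have hPA : DRing.HasTorAmplitudeIn (Z.presheaf.stalk (g.base (f.base x))) c d
      (DRing.toD ((resCx (g.stalkMap (f.base x)).hom).obj (stkCx (f.base x) G'))) := by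
    haveI := quasiIso_stkCx_map (f.base x) p
    refine (torAmp_resCx_of_quasiIso (g.stalkMap (f.base x)).hom
      (((stk (f.base x)).mapHomologicalComplex (ComplexShape.up ℤ)).map p) c d).2 ?_
    exact TorAmp.hasTorAmplitudeIn_of_iso (Q.mapIso (stalkCxOverIso g (f.base x) G)) c d
      (hG (f.base x))
  have key := torAmp_restrict_ext (g.stalkMap (f.base x)).hom m hC (stkCx (f.base x) G') hPK c d hPA
  have e2 : DRing.toD (stkCx x F) ≅
      DRing.toD ((extCx (f.stalkMap x).hom).obj (stkCx (f.base x) G')) :=
    Groth.Agent.S6200.stkIsoOfIso x e ≪≫ Q.mapIso (pullbackStkCxIso f x G')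
  have e3 : DRing.toD ((DerSch.stalkCxOver (f ≫ g) x).obj F) ≅
      DRing.toD ((resCx (g.stalkMap (f.base x)).hom).obj
        ((resCx (f.stalkMap x).hom).obj (stkCx x F))) :=
    Q.mapIso (StalkTor.stalkCxOverCompIso f g x F ≪≫
      (resCx (g.stalkMap (f.base x)).hom).mapIso (stalkCxOverIso f x F))
  exact TorAmp.hasTorAmplitudeIn_of_iso
    (e3 ≪≫ resResIsoOfIso (g.stalkMap (f.base x)).hom (f.stalkMap x).hom e2).symm _ _ key

end Groth.Agent.S6188
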