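import Groth.Statements.S5626
import Groth.Agent.Lib.Helper29.FreeIso2

set_option autoImplicit false
universe u
open CategoryTheory CategoryTheory.Limits AlgebraicGeometry
open FlatMod

namespace Groth.Agent.S5626

open TopologicalSpace
open Groth.Agent.Lib.Helper28.QCohLoc Groth.Agent.Lib.Helper28.TwistGen Groth.Agent.Lib.Helper29.FreeIso
open Module

theorem exists_li_subfamily {k : Type*} [Field k] {n : ℕ} {ι : Type*} (w : ι → (Fin n → k))
    (hw : Submodule.span k (Set.range w) = ⊤) :
    ∃ f : Fin n → ι, LinearIndependent k (w ∘ f) := by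
  classical
  let b' := Module.Basis.ofSpan (K := k) (s := Set.range w) (le_of_eq hw.symm)
  haveI : Fintype ((linearIndepOn_empty k id).extend (Set.empty_subset (Set.range w))) :=
    FiniteDimensional.fintypeBasisIndex b'
  have hcard : Fintype.card ((linearIndepOn_empty k id).extend (Set.empty_subset (Set.range w))) = n := by
    rw [← Module.finrank_eq_card_basis b', Module.finrank_fin_fun]
  let σ : Fin n ≃ ((linearIndepOn_empty k id).extend (Set.empty_subset (Set.range w))) :=
    (Fintype.equivFinOfCardEq hcard).symm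
  have hmem : ∀ i, ((σ i : (linearIndepOn_empty k id).extend (Set.empty_subset (Set.range w))) : Fin n → k) ∈
      Set.range w := fun i => by
    apply Module.Basis.ofSpan_subset (K := k) (le_of_eq hw.symm)
    exact ⟨σ i, Module.Basis.ofSpan_apply_self _ _⟩
  choose f hf using hmem
  refine ⟨f, ?_⟩
  have h1 : w ∘ f = b' ∘ σ := by
    funext i
    simp only [Function.comp_apply]
    rw [hf i]
    exact (Module.Basis.ofSpan_apply_self _ _).symm
  rw [h1]
  exact b'.linearIndependent.comp σ σ.injective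

theorem exists_adapted {A : Type*} [CommRing A] {k : Type*} [Field k] (ρ : A →+* k) {V : Type*} [AddCommGroup V]
    [Module A V] {n : ℕ} (b : Module.Basis (Fin n) A V) (Q : V →ₗ[A] V) (hQ : ∀ v, Q (Q v) = Q v) :
    ∃ s : Fin n → V, (∀ i, Q (s i) = s i ∨ Q (s i) = 0) ∧ ρ (Matrix.det (b.toMatrix s)) ≠ 0 := by
  classical
  let w : Fin n ⊕ Fin n → V := Sum.elim (fun j => Q (b j)) (fun j => b j - Q (b j))
  let wbar : Fin n ⊕ Fin n → (Fin n → k) := fun idx i => ρ (b.repr (w idx) i)
  have hspan : Submodule.span k (Set.range wbar) = ⊤ := by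
    rw [eq_top_iff, ← (Pi.basisFun k (Fin n)).span_eq, Submodule.span_le]
    rintro _ ⟨j, rfl⟩
    have h1 : (Pi.basisFun k (Fin n)) j = wbar (Sum.inl j) + wbar (Sum.inr j) := by
      funext i
      simp only [wbar, w, Sum.elim_inl, Sum.elim_inr, Pi.add_apply, Pi.basisFun_apply]
      rw [← map_add, ← Finsupp.add_apply, ← map_add, add_sub_cancel, Module.Basis.repr_self,
        Finsupp.single_apply, Pi.single_apply]
      split_ifs with h1 h2 h2
      · simp
      · exact absurd h1.symm h2
      · exact absurd h2.symm h1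
      · simp
    rw [h1]
    exact Submodule.add_mem _ (Submodule.subset_span ⟨_, rfl⟩) (Submodule.subset_span ⟨_, rfl⟩)
  obtain ⟨f, hf⟩ := exists_li_subfamily wbar hspan
  refine ⟨w ∘ f, fun i => ?_, ?_⟩
  · simp only [Function.comp_apply]
    rcases f i with j | j
    · left
      simp only [w, Sum.elim_inl]
      exact hQ _
    · right
      simp only [w, Sum.elim_inr]
      rw [map_sub, hQ, sub_self]
  · rw [RingHom.map_det]
    have h2 : ρ.mapMatrix (b.toMatrix (w ∘ f)) = (Matrix.of (wbar ∘ f)).transpose := by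
      ext i j
      simp [wbar, Module.Basis.toMatrix_apply]
    rw [h2, Matrix.det_transpose]
    have h3 : IsUnit (Matrix.of (wbar ∘ f)) := by
      rw [← Matrix.linearIndependent_rows_iff_isUnit]
      exact hf
    exact ((Matrix.isUnit_iff_isUnit_det _).1 h3).ne_zero

section basisT

variable {Y : Scheme.{u}} {n : ℕ} (G : Y.Modules) (e : B Y n ≅ G)

/-- the basis of sections over `T` given by a trivialisation -/
noncomputable def basisT (T : Y.Opens) : Module.Basis (Fin n) Γ(Y, T) Γ(G, T) :=
  Module.Basis.mk (v := fun j => res G (le_top : T ≤ ⊤) (stdSections G e j))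
    (Fintype.linearIndependent_iff.2 fun c hc j => stdSections_ind G e T c hc j)
    (by
      intro t _
      obtain ⟨c, hc⟩ := stdSections_gen G e T t
      rw [hc]
      exact Submodule.sum_mem _ fun j _ => Submodule.smul_mem _ _ (Submodule.subset_span ⟨j, rfl⟩))

theorem basisT_apply (T : Y.Opens) (j : Fin n) :
    basisT G e T j = res G (le_top : T ≤ ⊤) (stdSections G e j) := by
  unfold basisT
  rw [Module.Basis.mk_apply]

/-- the matrix of restricted sections is the restricted matrix -/
theorem toMatrix_res (T : Y.Opens) (s : Fin n → Γ(G, ⊤)) :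
    (basisT G e T).toMatrix (fun i => res G (le_top : T ≤ ⊤) (s i)) =
      ((basisT G e ⊤).toMatrix s).map (resO (le_top : T ≤ ⊤)) := by
  ext k i
  rw [Matrix.map_apply, Module.Basis.toMatrix_apply, Module.Basis.toMatrix_apply]
  have h1 : s i = ∑ k, (basisT G e ⊤).repr (s i) k • (basisT G e ⊤) k :=
    ((basisT G e ⊤).sum_repr (s i)).symm
  have h2 : res G (le_top : T ≤ ⊤) (s i) =
      ∑ k, resO (le_top : T ≤ ⊤) ((basisT G e ⊤).repr (s i) k) • (basisT G e T) k := by
    conv_lhs => rw [h1]
    rw [res_sum_smul]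
    refine Finset.sum_congr rfl fun k _ => ?_
    rw [basisT_apply, basisT_apply, res_res]
  rw [h2, Module.Basis.repr_sum_self]

theorem isUnit_det_res {T : Y.Opens} (s : Fin n → Γ(G, ⊤))
    (hT : T ≤ Y.basicOpen (Matrix.det ((basisT G e ⊤).toMatrix s))) :
    IsUnit ((basisT G e T).det (fun i => res G (le_top : T ≤ ⊤) (s i))) := by
  rw [Module.Basis.det_apply, toMatrix_res]
  have h1 : (((basisT G e ⊤).toMatrix s).map (resO (le_top : T ≤ ⊤))).det =
      resO (le_top : T ≤ ⊤) (((basisT G e ⊤).toMatrix s).det) :=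
    (RingHom.map_det (Y.presheaf.map (homOfLE (le_top : T ≤ ⊤)).op).hom _).symm
  rw [h1]
  have h2 : IsUnit (resO (Y.basicOpen_le _) (Matrix.det ((basisT G e ⊤).toMatrix s))) :=
    RingedSpace.isUnit_res_basicOpen _ _
  have h3 : resO (le_top : T ≤ ⊤) (Matrix.det ((basisT G e ⊤).toMatrix s)) =
      resO hT (resO (Y.basicOpen_le _) (Matrix.det ((basisT G e ⊤).toMatrix s))) := by
    rw [resO_resO]
  rw [h3]
  exact h2.map _

end basisT

/-- For the Zariski topos of a scheme (a special case of both hypotheses (i) and (ii) there): on a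
scheme X, a direct summand of a finite free O_X-module is finite locally free. Here M is a direct
summand of O_X^n in the sense that M ⊞ N ≅ O_X^n for some module N. -/
theorem result {X : Scheme.{u}} (M N : X.Modules) [HasBinaryBiproduct M N] (n : ℕ)
    (e : M ⊞ N ≅ FlatMod.freeMod X n) :
    FlatMod.IsFinLocFree M := by
  classical
  intro x
  let G : X.Modules := M ⊞ N
  let e' : B X n ≅ G := biproduct.isoCoproduct _ ≪≫ e.symm
  let q : G ⟶ G := biprod.fst ≫ biprod.inl
  have hqq : q ≫ q = q := by simp [q]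
  have hif : ∀ (T : X.Opens) (t : Γ(M, T)), (biprod.fst : G ⟶ M).app T ((biprod.inl : M ⟶ G).app T t) = t := by
    intro T t
    have h1 : (biprod.fst : G ⟶ M).app T ((biprod.inl : M ⟶ G).app T t) =
        ((biprod.inl : M ⟶ G) ≫ (biprod.fst : G ⟶ M)).app T t := rfl
    rw [h1, biprod.inl_fst]
    rfl
  let Q : Γ(G, ⊤) →ₗ[Γ(X, ⊤)] Γ(G, ⊤) :=
    { toFun := fun v => q.app ⊤ v
      map_add' := fun a b => map_add _ a b
      map_smul' := fun c v => Scheme.Modules.Hom.app_smul q c v }
  have hQ : ∀ v, Q (Q v) = Q v := by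
    intro v
    have h1 : q.app ⊤ (q.app ⊤ v) = (q ≫ q).app ⊤ v := rfl
    change q.app ⊤ (q.app ⊤ v) = q.app ⊤ v
    rw [h1, hqq]
  have hQdef : ∀ v, Q v = (biprod.inl : M ⟶ G).app ⊤ ((biprod.fst : G ⟶ M).app ⊤ v) := fun v => rfl
  let ρ : Γ(X, ⊤) →+* IsLocalRing.ResidueField (X.presheaf.stalk x) :=
    (IsLocalRing.residue (X.presheaf.stalk x)).comp (X.presheaf.germ ⊤ x trivial).hom
  obtain ⟨s, hs, hdet⟩ := exists_adapted ρ (basisT G e' ⊤) Q hQ
  have hxU : x ∈ X.basicOpen (Matrix.det ((basisT G e' ⊤).toMatrix s)) := by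
    rw [Scheme.mem_basicOpen _ _ _ (show x ∈ (⊤ : X.Opens) from trivial)]
    exact (IsLocalRing.residue_ne_zero_iff_isUnit _).1 hdet
  -- the vanishing of the `M`-component of the sections killed by `Q`
  have hzero : ∀ i, ¬ (Q (s i) = s i) → (biprod.fst : G ⟶ M).app ⊤ (s i) = 0 := by
    intro i hi
    have h0 : Q (s i) = 0 := (hs i).resolve_left hi
    rw [hQdef] at h0
    have h1 := congrArg ((biprod.fst : G ⟶ M).app ⊤) h0
    rw [hif, map_zero] at h1
    exact h1
  let σ : Fin (Fintype.card {i : Fin n // Q (s i) = s i}) ≃ {i : Fin n // Q (s i) = s i} :=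
    (Fintype.equivFin _).symm
  let τ : Fin (Fintype.card {i : Fin n // Q (s i) = s i}) →
      Γ(M, X.basicOpen (Matrix.det ((basisT G e' ⊤).toMatrix s))) :=
    fun a => res M le_top ((biprod.fst : G ⟶ M).app ⊤ (s (σ a).1))
  have hkey : ∀ (T : X.Opens) (hT : T ≤ X.basicOpen (Matrix.det ((basisT G e' ⊤).toMatrix s))) a,
      (biprod.inl : M ⟶ G).app T (res M hT (τ a)) = res G (le_top : T ≤ ⊤) (s (σ a).1) := by
    intro T hT a
    rw [res_res, app_res, ← hQdef, (σ a).2]
  refine ⟨X.basicOpen (Matrix.det ((basisT G e' ⊤).toMatrix s)), _, hxU,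
    IsBasisOn.nonempty_iso (τ := τ) ⟨?_, ?_⟩⟩
  · intro T hT c hc a
    have hbasis := (Module.Basis.is_basis_iff_det (basisT G e' T)).2 (isUnit_det_res G e' s hT)
    have hli : LinearIndependent Γ(X, T) (fun a => res G (le_top : T ≤ ⊤) (s (σ a).1)) :=
      hbasis.1.comp (fun a => (σ a).1) (fun a b h => σ.injective (Subtype.ext h))
    have h1 := congrArg ((biprod.inl : M ⟶ G).app T) hc
    rw [app_sum, map_zero] at h1
    refine Fintype.linearIndependent_iff.1 hli c (Eq.trans (Finset.sum_congr rfl fun a _ => ?_) h1) a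
    rw [Scheme.Modules.Hom.app_smul, hkey]
  · intro T hT t pt hpt
    have hbasis := (Module.Basis.is_basis_iff_det (basisT G e' T)).2 (isUnit_det_res G e' s hT)
    have hmem : (biprod.inl : M ⟶ G).app T t ∈
        Submodule.span Γ(X, T) (Set.range fun i => res G (le_top : T ≤ ⊤) (s i)) := by
      rw [hbasis.2]; trivial
    obtain ⟨c, hc⟩ := (Submodule.mem_span_range_iff_exists_fun _).1 hmem
    refine ⟨T, le_rfl, hpt, fun a => c (σ a).1, ?_⟩
    rw [res_self]
    have h1 := congrArg ((biprod.fst : G ⟶ M).app T) hc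
    rw [hif, app_sum] at h1
    rw [← h1]
    have hterm : ∀ i, (biprod.fst : G ⟶ M).app T (c i • res G (le_top : T ≤ ⊤) (s i)) =
        c i • res M (le_top : T ≤ ⊤) ((biprod.fst : G ⟶ M).app ⊤ (s i)) := by
      intro i
      rw [Scheme.Modules.Hom.app_smul, app_res]
    simp only [hterm]
    rw [← Fintype.sum_subtype_add_sum_subtype (fun i => Q (s i) = s i)
      (fun i => c i • res M (le_top : T ≤ ⊤) ((biprod.fst : G ⟶ M).app ⊤ (s i)))]
    have hz : (∑ i : {i // ¬ Q (s i) = s i},
        c i.1 • res M (le_top : T ≤ ⊤) ((biprod.fst : G ⟶ M).app ⊤ (s i.1))) = 0 :=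
      Finset.sum_eq_zero fun i _ => by rw [hzero i.1 i.2, res_zero, smul_zero]
    rw [hz, add_zero, ← Equiv.sum_comp σ]
    refine Finset.sum_congr rfl fun a _ => ?_
    rw [res_res]



end Groth.Agent.S5626
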