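import Groth.Statements.S2085
import Mathlib
import Groth.Agent.Lib.Helper21.DepthKit11

set_option autoImplicit false
universe u
open CAlg

namespace Groth.Agent.S2085

open RingTheory.Sequence IsLocalRing Module Pointwise
open Groth.Agent.Lib.Helper21.DepthKit

theorem le_zero_of_min_le_zero {d : WithBot ℕ∞}
    (h : min ((1 : ℕ) : WithBot ℕ∞) d ≤ (((0 : ℕ∞)) : WithBot ℕ∞)) : d ≤ 0 := by
  rcases le_total ((1 : ℕ) : WithBot ℕ∞) d with h4 | h4
  · rw [min_eq_left h4] at h
    exact absurd h (by norm_num)
  · rwa [min_eq_right h4] at h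


/-- Let `M` be a finite module over a Noetherian ring `R`. Then every associated prime of `M` is minimal
in the support of `M` (no embedded primes) if and only if `M` satisfies Serre's condition `(S_1)`. -/
theorem result {R M : Type u} [CommRing R] [IsNoetherianRing R] [AddCommGroup M] [Module R M]
    [Module.Finite R M] :
    (∀ p ∈ associatedPrimes R M, p ∈ (Module.annihilator R M).minimalPrimes) ↔ LocCoh.HasSk 1 R M := by
  constructor
  · intro h p _
    by_cases h0 : LocCoh.depth (Localization.AtPrime p) (LocalizedModule p.primeCompl M) = 0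
    · have hp := (depth_localization_eq_zero_iff p).1 h0
      have hmin := h p hp
      have hd : supportDim (Localization.AtPrime p) (LocalizedModule p.primeCompl M) ≤ 0 := by
        rw [supportDim_localization_le_zero_iff]
        intro q hq hqp
        exact le_antisymm hqp (hmin.2 ⟨q.2, Module.annihilator_le_of_mem_support hq⟩ hqp)
      refine (min_le_right _ _).trans (hd.trans ?_)
      exact WithBot.coe_le_coe.2 bot_le
    · have h1 : (1 : ℕ∞) ≤ LocCoh.depth (Localization.AtPrime p)
          (LocalizedModule p.primeCompl M) := ENat.one_le_iff_ne_zero.2 h0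
      refine (min_le_left _ _).trans ?_
      have : (((1 : ℕ∞)) : WithBot ℕ∞) ≤ ((LocCoh.depth (Localization.AtPrime p)
          (LocalizedModule p.primeCompl M) : ℕ∞) : WithBot ℕ∞) := WithBot.coe_le_coe.2 h1
      exact_mod_cast this
  · intro h P hP
    have hPprime : P.IsPrime := hP.isPrime
    have h0 := (depth_localization_eq_zero_iff P).2 hP
    have h1 := h P
    rw [h0] at h1
    have hd := le_zero_of_min_le_zero h1
    rw [supportDim_localization_le_zero_iff] at hd
    have hPS : (⟨P, hPprime⟩ : PrimeSpectrum R) ∈ Module.support R M :=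
      mem_support_of_mem_associatedPrimes hP
    refine ⟨⟨hPprime, Module.annihilator_le_of_mem_support hPS⟩, ?_⟩
    rintro Q ⟨hQprime, hQ⟩ hQP
    have hQS : (⟨Q, hQprime⟩ : PrimeSpectrum R) ∈ Module.support R M :=
      Module.mem_support_iff_of_finite.2 hQ
    exact (hd ⟨Q, hQprime⟩ hQS hQP).ge

end Groth.Agent.S2085
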