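import Groth.Statements.S6877
import Mathlib
import Groth.Agent.Lib.Helper21.DepthKit9

set_option autoImplicit false
universe u
open CAlg

namespace Groth.Agent.S6877

open RingTheory.Sequence IsLocalRing Module Pointwise
open Groth.Agent.Lib.Helper21.DepthKit

theorem hasSk_hom {R : Type u} [CommRing R] [IsNoetherianRing R]
    {M N : Type u} [AddCommGroup M] [Module R M] [Module.Finite R M] [AddCommGroup N] [Module R N]
    [Module.Finite R N] (k : ℕ) (hk : k ≤ 2) (h : LocCoh.HasSk k R N) :
    LocCoh.HasSk k R (M →ₗ[R] N) := by
  intro p _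
  refine sk_transfer ?_ ?_ (h p)
  · rw [supportDim_eq_of_equiv (localizedHomEquiv (M := M) (N := N) p)]
    exact supportDim_hom_le
  · intro j hj hjN
    have hj2 : j = 0 ∨ j = 1 ∨ j = 2 := by omega
    rcases hj2 with rfl | rfl | rfl
    · simp
    · have := one_le_depth_localization_hom (M := M) (N := N) p (by simpa using hjN)
      simpa using this
    · have := two_le_depth_localization_hom (M := M) (N := N) p (by simpa using hjN)
      simpa using this


/-- Let `R` be a Noetherian ring and `M, N` finite `R`-modules. If `N` has `(S_1)`, resp. `(S_2)`, then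
so does `Hom_R(M, N)`. (The published statement has a third part, over a domain: `N` torsion free
with `(S_2)` implies the same for `Hom_R(M, N)`; this row states parts one and two.) -/
theorem result (R : Type u) [CommRing R] [IsNoetherianRing R]
    (M N : Type u) [AddCommGroup M] [Module R M] [Module.Finite R M] [AddCommGroup N] [Module R N] [Module.Finite R N] :
    (LocCoh.HasSk 1 R N → LocCoh.HasSk 1 R (M →ₗ[R] N)) ∧
    (LocCoh.HasSk 2 R N → LocCoh.HasSk 2 R (M →ₗ[R] N)) := by
  exact ⟨hasSk_hom 1 (by norm_num), hasSk_hom 2 le_rfl⟩

end Groth.Agent.S6877
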