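import Groth.Statements.S0342
import Groth.Agent.S0340
import Groth.Agent.Lib.helper19.RegularLocalSeq

set_option autoImplicit false
universe u v
open Goren

namespace Groth.Agent.S0342

/-- Regular local rings have finite injective dimension over themselves, i.e. are Gorenstein. -/
theorem result (A : Type u) [CommRing A] [IsRegularLocalRing A] : LocCoh.IsGorensteinLocalRing A := by
  classical
  rw [Groth.Agent.S0340.result A]
  obtain ⟨s, hs1, hs2⟩ := Submodule.FG.exists_span_finset_card_eq_spanFinrank
    (IsNoetherian.noetherian (IsLocalRing.maximalIdeal A))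
  have hspan : Ideal.ofList s.toList = IsLocalRing.maximalIdeal A := by
    rw [← hs2]
    unfold Ideal.ofList
    congr 1
    ext y
    simp
  have hdim : ringKrullDim A = (s.toList.length : ℕ) := by
    rw [Finset.length_toList, hs1]
    exact (IsRegularLocalRing.spanFinrank_maximalIdeal (R := A)).symm
  have hreg := Groth.Agent.Lib.helper19.isRegular_of_ofList_eq_maximalIdeal A s.toList hspan hdim
  have hclaim := Groth.Agent.Lib.helper11.ExtKoszul.claim_ofList A s.toList hreg.toIsWeaklyRegular
  rw [hspan] at hclaim
  refine ⟨s.toList.length + 1, fun i hi => ⟨fun a b => ?_⟩⟩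
  have h0 : ∀ e : CategoryTheory.Abelian.Ext
      (ModuleCat.of A (A ⧸ IsLocalRing.maximalIdeal A)) (ModuleCat.of A A) i, e = 0 :=
    fun e => hclaim.1 A i (by omega) e
  exact (h0 a).trans (h0 b).symm

end Groth.Agent.S0342
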