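import Groth.Statements.S12286
-- import your own Groth.Agent.* helpers here

set_option autoImplicit false
universe u w m
open scoped TensorProduct
open DefT

namespace Groth.Agent.S12286

open TensorProduct CotT

/-- Let A → B be a ring homomorphism, P a presentation of B over A and M a B-module. The canonical
B-linear map from the A-derivations Der_A(B, M) = Hom_B(Ω_{B/A}, M) to T^0(B/A, M) (the kernel of
Hom_B(L₀, M) → Hom_B(L₁, M), L₀ = B ⊗_R Ω_{R/A}), sending a derivation D to b ⊗ dr ↦ b·D(r̄), is
bijective. -/
theorem result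
    (A B : Type u) [CommRing A] [CommRing B] [Algebra A B] (ι σ : Type w) (P : Algebra.Presentation A B ι σ)
    (M : Type m) [AddCommGroup M] [Module B M] [Module A M] [IsScalarTower A B M] :
    Function.Bijective (CotT.derToT0 P M) := by
  classical
  constructor
  · intro D D' h
    have h' : ∀ i, D (P.val i) = D' (P.val i) := by
      intro i
      rw [← derLift_basis P M D i, ← derLift_basis P M D' i]
      have := congrArg (fun t : T0 P M => (t : L0 P →ₗ[B] M)) h
      simp only [derToT0_apply] at this
      rw [this]
    apply Derivation.ext_of_adjoin_eq_top (Set.range P.val) ?_ (by rintro _ ⟨i, rfl⟩; exact h' i)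
    rw [Algebra.adjoin_range_eq_range_aeval, eq_top_iff]
    intro b _
    obtain ⟨r, rfl⟩ := P.toExtension.algebraMap_surjective b
    exact ⟨r, (algebraMap_toExtension P r).symm⟩
  · rintro ⟨φ, hφ⟩
    have hφ0 : φ ∘ₗ d1 P = 0 := hφ
    let ψ : P.toExtension.Ring → M := fun r =>
      φ ((1 : B) ⊗ₜ KaehlerDifferential.D A P.toExtension.Ring r)
    have ψ_add : ∀ r r', ψ (r + r') = ψ r + ψ r' := by
      intro r r'
      simp only [ψ, map_add, TensorProduct.tmul_add]
    have key : ∀ (r : P.toExtension.Ring) (ω : Ω[P.toExtension.Ring⁄A]),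
        (1 : B) ⊗ₜ[P.toExtension.Ring] (r • ω) =
          algebraMap P.toExtension.Ring B r • ((1 : B) ⊗ₜ[P.toExtension.Ring] ω) := by
      intro r ω
      rw [TensorProduct.tmul_smul, TensorProduct.smul_tmul', TensorProduct.smul_tmul',
        Algebra.smul_def, mul_one, smul_eq_mul, mul_one]
    have ψ_mul : ∀ r r', ψ (r * r') = algebraMap P.toExtension.Ring B r • ψ r' +
        algebraMap P.toExtension.Ring B r' • ψ r := by
      intro r r'
      simp only [ψ, Derivation.leibniz, TensorProduct.tmul_add, map_add]
      rw [key, key, map_smul, map_smul]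
    have ψ_alg : ∀ a : A, ψ (algebraMap A P.toExtension.Ring a) = 0 := by
      intro a
      simp [ψ]
    have ψ_rel : ∀ s, ψ (P.relation s) = 0 := by
      intro s
      have h1 : (φ ∘ₗ d1 P) ((1 : B) ⊗ₜ Finsupp.single s 1) = 0 := by
        rw [hφ0]; rfl
      simpa [ψ, d1_tmul, jmap_single] using h1
    have ψ_zero : ψ 0 = 0 := by
      show φ ((1 : B) ⊗ₜ KaehlerDifferential.D A P.toExtension.Ring 0) = 0
      rw [map_zero, TensorProduct.tmul_zero, map_zero]
    have ψ_jmap : ∀ f : relMod P, ψ (jmap P f) = 0 := by
      intro f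
      induction f using Finsupp.induction_linear with
      | zero => rw [map_zero]; exact ψ_zero
      | add f g hf hg => rw [map_add, ψ_add, hf, hg, add_zero]
      | single s c =>
        rw [jmap_single, ψ_mul, algebraMap_rel, zero_smul, add_zero]
        have : ψ (rel P s) = 0 := ψ_rel s
        rw [this, smul_zero]
    have ψ_ker : ∀ r, algebraMap P.toExtension.Ring B r = 0 → ψ r = 0 := by
      intro r hr
      have : r ∈ LinearMap.range (jmap P) := by
        rw [range_jmap]
        exact hr
      obtain ⟨f, rfl⟩ := this
      exact ψ_jmap f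
    have ψ_eq : ∀ r r', algebraMap P.toExtension.Ring B r = algebraMap P.toExtension.Ring B r' →
        ψ r = ψ r' := by
      intro r r' h
      have h0 : ψ (r - r') = 0 := ψ_ker (r - r') (by rw [map_sub, h, sub_self])
      have h2 := ψ_add (r - r') r'
      rw [sub_add_cancel, h0, zero_add] at h2
      exact h2
    choose τ hτ using P.toExtension.algebraMap_surjective
    let D : Derivation A B M := Derivation.mk'
      { toFun := fun b => ψ (τ b)
        map_add' := fun b b' => by
          rw [← ψ_add]
          exact ψ_eq _ _ (by rw [hτ, map_add, hτ, hτ])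
        map_smul' := fun a b => by
          rw [RingHom.id_apply]
          have h1 : ψ (τ (a • b)) = ψ (algebraMap A P.toExtension.Ring a * τ b) :=
            ψ_eq _ _ (by
              rw [hτ, map_mul, hτ, ← IsScalarTower.algebraMap_apply, Algebra.smul_def])
          rw [h1, ψ_mul, ψ_alg, smul_zero, add_zero, ← IsScalarTower.algebraMap_apply,
            algebraMap_smul] }
      (fun b b' => by
        show ψ (τ (b * b')) = b • ψ (τ b') + b' • ψ (τ b)
        have h1 : ψ (τ (b * b')) = ψ (τ b * τ b') := ψ_eq _ _ (by rw [hτ, map_mul, hτ, hτ])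
        rw [h1, ψ_mul, hτ, hτ])
    refine ⟨D, Subtype.ext ?_⟩
    apply (P.cotangentSpaceBasis).ext
    intro i
    rw [derToT0_apply, derLift_basis]
    show ψ (τ (P.val i)) = φ (P.cotangentSpaceBasis i)
    rw [Algebra.Generators.cotangentSpaceBasis_apply]
    exact ψ_eq _ _ (by rw [hτ, algebraMap_toExtension, MvPolynomial.aeval_X])

end Groth.Agent.S12286
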