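import Groth.Statements.S12289
-- import your own Groth.Agent.* helpers here

set_option autoImplicit false
universe u w m
open scoped TensorProduct
open DefT

namespace Groth.Agent.S12289

section
variable {k B : Type u} [CommRing k] [CommRing B] [Algebra k B] {ι σ : Type w}
  (P : Algebra.Presentation k B ι σ)

theorem toCot_surjective : Function.Surjective (CotT.toCot P) := by
  intro c
  obtain ⟨x, rfl⟩ := Algebra.Extension.Cotangent.mk_surjective c
  have hx : (x : P.toExtension.Ring) ∈ LinearMap.range (CotT.jmap P) := by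
    rw [CotT.range_jmap]; exact x.2
  obtain ⟨f, hf⟩ := hx
  refine ⟨(1 : B) ⊗ₜ f, ?_⟩
  rw [CotT.toCot_tmul, one_smul]
  congr 1
  exact Subtype.ext hf

theorem exists_one_tmul (z : CotT.L1 P) : ∃ f : CotT.relMod P, z = (1 : B) ⊗ₜ f := by
  induction z using TensorProduct.induction_on with
  | zero => exact ⟨0, (TensorProduct.tmul_zero _ _).symm⟩
  | tmul b f =>
    obtain ⟨r, rfl⟩ := P.toExtension.algebraMap_surjective b
    refine ⟨r • f, ?_⟩
    rw [← TensorProduct.smul_tmul, Algebra.smul_def, mul_one]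
  | add z₁ z₂ h₁ h₂ =>
    obtain ⟨f₁, rfl⟩ := h₁
    obtain ⟨f₂, rfl⟩ := h₂
    exact ⟨f₁ + f₂, (TensorProduct.tmul_add _ _ _).symm⟩

theorem exists_lift_sq (x : P.toExtension.Ring) (hx : x ∈ P.toExtension.ker ^ 2) :
    ∃ f' : CotT.relMod P, CotT.jmap P f' = x ∧ ((1 : B) ⊗ₜ f' : CotT.L1 P) = 0 := by
  rw [pow_two] at hx
  induction hx using Submodule.mul_induction_on' with
  | mem_mul_mem a ha b hb =>
    have hb' : b ∈ LinearMap.range (CotT.jmap P) := by rw [CotT.range_jmap]; exact hb
    obtain ⟨fb, rfl⟩ := hb'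
    refine ⟨a • fb, ?_, ?_⟩
    · rw [map_smul, smul_eq_mul]
    · rw [← TensorProduct.smul_tmul, Algebra.smul_def, mul_one]
      have : algebraMap P.toExtension.Ring B a = 0 := ha
      rw [this, TensorProduct.zero_tmul]
  | add x _ y _ hx hy =>
    obtain ⟨f₁, h₁, h₁'⟩ := hx
    obtain ⟨f₂, h₂, h₂'⟩ := hy
    refine ⟨f₁ + f₂, by rw [map_add, h₁, h₂], ?_⟩
    rw [TensorProduct.tmul_add, h₁', h₂', add_zero]

theorem ker_toCot_le : LinearMap.ker (CotT.toCot P) ≤ LinearMap.range (CotT.d2 P) := by
  intro z hz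
  obtain ⟨f, rfl⟩ := exists_one_tmul P z
  rw [LinearMap.mem_ker, CotT.toCot_tmul, one_smul, Algebra.Extension.Cotangent.mk_eq_zero_iff] at hz
  obtain ⟨f', hf', hf'0⟩ := exists_lift_sq P _ hz
  have hq : f - f' ∈ CotT.relKer P := by
    change CotT.jmap P (f - f') = 0
    rw [map_sub, hf', sub_eq_zero]
    rfl
  refine ⟨Submodule.Quotient.mk ((1 : B) ⊗ₜ ⟨f - f', hq⟩), ?_⟩
  rw [CotT.d2_mk_tmul]
  change (1 : B) ⊗ₜ (f - f') = _
  rw [TensorProduct.tmul_sub, hf'0, sub_zero]

end


/-- Let k be a commutative ring and B a k-algebra presented as R/I with R = k[x_i] a polynomial ring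
(any set of variables) and chosen generators of I, and let M be a B-module; T^0(B/k, M) and T^1(B/k,
M) are computed from this presentation. Then the sequence 0 → T^0(B/k, M) → Hom_B(Ω_{R/k} ⊗_R B, M)
→ Hom_B(I/I², M) → T^1(B/k, M) → 0 is exact, where the middle map is composition with the conormal
map d : I/I² → Ω_{R/k} ⊗_R B and the last map sends φ to the class of φ ∘ (F/IF → I/I²): the
submodule T^0(B/k, M) of Hom_B(Ω_{R/k} ⊗ B, M) is the kernel of composition with d, the kernel of
Hom_B(I/I², M) → T^1(B/k, M) is the image of composition with d, and Hom_B(I/I², M) → T^1(B/k, M) is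
surjective. (The published statement takes finitely many variables over a field and adds that the
same holds over any base ring; this row allows any base ring and any set of variables.) -/
theorem result
    (k B : Type u) [CommRing k] [CommRing B] [Algebra k B] (ι σ : Type w) (P : Algebra.Presentation k B ι σ)
    (M : Type m) [AddCommGroup M] [Module B M] :
    LinearMap.ker (CotT.d1Star P M) = LinearMap.ker (LinearMap.lcomp B M P.toExtension.cotangentComplex) ∧
    LinearMap.ker (CotT.homToT1 P M) = LinearMap.range (LinearMap.lcomp B M P.toExtension.cotangentComplex) ∧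
    Function.Surjective (CotT.homToT1 P M) := by
  have hsurj := toCot_surjective P
  refine ⟨?_, ?_, ?_⟩
  · ext φ
    rw [LinearMap.mem_ker, LinearMap.mem_ker, CotT.d1Star_apply, LinearMap.lcomp_apply']
    unfold CotT.d1
    rw [← LinearMap.comp_assoc]
    constructor
    · intro h
      have : (φ ∘ₗ P.toExtension.cotangentComplex) ∘ₗ CotT.toCot P = 0 ∘ₗ CotT.toCot P := by
        rw [h, LinearMap.zero_comp]
      exact (LinearMap.cancel_right hsurj).mp this
    · intro h
      rw [h, LinearMap.zero_comp]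
  · ext φ
    rw [LinearMap.mem_ker, LinearMap.mem_range]
    unfold CotT.homToT1
    rw [LinearMap.comp_apply, Submodule.mkQ_apply, Submodule.Quotient.mk_eq_zero,
      Submodule.mem_comap, LinearMap.mem_range]
    constructor
    · rintro ⟨ψ, hψ⟩
      refine ⟨ψ, ?_⟩
      rw [LinearMap.lcomp_apply']
      have h2 : (ψ ∘ₗ P.toExtension.cotangentComplex) ∘ₗ CotT.toCot P = φ ∘ₗ CotT.toCot P := by
        rw [LinearMap.comp_assoc]
        exact hψ
      exact (LinearMap.cancel_right hsurj).mp h2
    · rintro ⟨ψ, hψ⟩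
      refine ⟨ψ, ?_⟩
      rw [LinearMap.lcomp_apply'] at hψ
      rw [← hψ]
      rfl
  · intro t
    obtain ⟨c, rfl⟩ := Submodule.Quotient.mk_surjective _ t
    have hc : c.1 ∘ₗ CotT.d2 P = 0 := c.2
    have hle : LinearMap.ker (CotT.toCot P) ≤ LinearMap.ker c.1 := by
      intro z hz
      obtain ⟨y, rfl⟩ := ker_toCot_le P hz
      change (c.1 ∘ₗ CotT.d2 P) y = 0
      rw [hc, LinearMap.zero_apply]
    let e := (CotT.toCot P).quotKerEquivOfSurjective hsurj
    let φ : P.toExtension.Cotangent →ₗ[B] M :=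
      ((LinearMap.ker (CotT.toCot P)).liftQ c.1 hle) ∘ₗ e.symm.toLinearMap
    have hφ : φ ∘ₗ CotT.toCot P = c.1 := by
      ext z
      change ((LinearMap.ker (CotT.toCot P)).liftQ c.1 hle) (e.symm (CotT.toCot P z)) = c.1 z
      rw [LinearMap.quotKerEquivOfSurjective_symm_apply, Submodule.liftQ_apply]
    refine ⟨φ, ?_⟩
    unfold CotT.homToT1
    rw [LinearMap.comp_apply, Submodule.mkQ_apply]
    congr 1
    exact Subtype.ext hφ

end Groth.Agent.S12289
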