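import Groth.Statements.S6147
import Groth.Agent.Lib.Helper1.ShriekProjNat

set_option autoImplicit false
universe u
open CategoryTheory
open ModSite

namespace Groth.Agent.S6147

open Groth.Agent.Lib.Helper1.ShriekProjNat Groth.Agent.Lib.Helper1.ShriekProj
  Groth.Agent.Lib.Helper1.ModFlat Groth.Agent.Lib.Helper1.ShriekSheaf

/-- Ringed topos of sheaves on a small site with commutative structure sheaf O: if M is a flat O-module
then for every object V of the site the restriction j_V^* M = M|V is a flat O|V-module on C/V. -/
theorem result {C : Type u} [SmallCategory C] {J : GrothendieckTopology C} (O : Sheaf J CommRingCat.{u})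
    (M : ModSite.Mod O) (hM : ModSite.IsFlat M) (V : C) :
    ModSite.IsFlat ((ModSite.restr O V).obj M) := by
  rw [isFlat_iff]
  haveI := (isFlat_iff O M).1 hM
  constructor
  intro Q' Q f hf
  haveI := hf
  haveI : (ez' O V).ReflectsMonomorphisms :=
    inferInstanceAs (extZero' (ModSite.ringSh O) V).ReflectsMonomorphisms
  haveI : Mono ((ez' O V ⋙ tens O M).map f) := by
    haveI : Mono ((ez' O V).map f) :=
      @Functor.map_mono _ _ _ _ (extZero' (ModSite.ringSh O) V) _ _ _ f hf
    exact inferInstanceAs (Mono ((tens O M).map ((ez' O V).map f)))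
  haveI : Mono ((tens (O.over V) ((ModSite.restr O V).obj M) ⋙ ez' O V).map f) := by
    have h := (projNatLeft O V M).hom.naturality f
    have h2 : (tens (O.over V) ((ModSite.restr O V).obj M) ⋙ ez' O V).map f =
        (projNatLeft O V M).hom.app Q' ≫ (ez' O V ⋙ tens O M).map f ≫
          (projNatLeft O V M).inv.app Q := by
      rw [← Category.assoc, ← h, Category.assoc, Iso.hom_inv_id_app, Category.comp_id]
    rw [h2]
    infer_instance
  exact (ez' O V).mono_of_mono_map this

end Groth.Agent.S6147
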