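import Groth.Statements.S12736
import Groth.Agent.Lib.Helper1.ArtFunTangent
import Groth.Agent.Lib.Helper1.ArtFunCond

set_option autoImplicit false
universe u v
open CategoryTheory
open ArtFun

namespace Groth.Agent.S12736

open Groth.Agent.Lib.Helper1.ArtFunFib Groth.Agent.Lib.Helper1.ArtFunCond in

/-- For functors, let φ : F → G be a morphism of functors on Artinian local Λ-algebras with residue
field k whose values at k are points and which satisfy (S2), with the natural vector space
structures on their tangent spaces. Then the differential dφ : F(k[ε]) → G(k[ε]) is k-linear. -/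
theorem result {Λ : Type u} {k : Type u} [CommRing Λ] [Field k] [Algebra Λ k]
    [IsNoetherianRing Λ] [Module.Finite Λ k]
    {F G : ArtFun.Art Λ k ⥤ Type v} [ArtFun.TangentStr F] [ArtFun.TangentStr G]
    (hF0 : ArtFun.H0 F) (hF2 : ArtFun.Heps F) (hG0 : ArtFun.H0 G) (hG2 : ArtFun.Heps G) (φ : F ⟶ G) :
    ∃ f : ArtFun.TangentSpace F →ₗ[k] ArtFun.TangentSpace G, ⇑f = ArtFun.TangentSpace.map φ := by
  have hnat : ∀ (g : Art.dual Λ k ⟶ Art.dual Λ k) (t : TangentSpace F),
      TangentSpace.map φ (TangentSpace.mk (F.map g t)) = TangentSpace.mk (G.map g (TangentSpace.map φ t)) :=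
    fun g t => naturality_apply φ g t
  have hnat2 : ∀ (g : Art.dual2 Λ k ⟶ Art.dual Λ k) (z : F.obj (Art.dual2 Λ k)),
      TangentSpace.map φ (TangentSpace.mk (F.map g z)) = TangentSpace.mk (G.map g (φ.app _ z)) :=
    fun g z => naturality_apply φ g z
  have hadd : ∀ x y : TangentSpace F,
      TangentSpace.map φ (x + y) = TangentSpace.map φ x + TangentSpace.map φ y := by
    intro x y
    haveI := hF0.2
    obtain ⟨z, hz⟩ := (hF2 Art.pr₁ Art.pr₂ Art.isFibreProd_dual2).2 ⟨(x, y), Subsingleton.elim _ _⟩
    have hz1 : TangentSpace.mk (F.map Art.pr₁ z) = x := congrArg (fun t => t.1.1) hz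
    have hz2 : TangentSpace.mk (F.map Art.pr₂ z) = y := congrArg (fun t => t.1.2) hz
    have e1 : x + y = TangentSpace.mk (F.map Art.plus z) := by
      rw [← hz1, ← hz2]; exact TangentStr.add_eq z
    have e2 : TangentSpace.mk (G.map Art.pr₁ (φ.app _ z)) + TangentSpace.mk (G.map Art.pr₂ (φ.app _ z)) =
        TangentSpace.mk (G.map Art.plus (φ.app _ z)) := TangentStr.add_eq (F := G) (φ.app _ z)
    rw [e1, hnat2, ← e2, ← hnat2, ← hnat2, hz1, hz2]
  have hsmul : ∀ (c : k) (x : TangentSpace F),
      TangentSpace.map φ (c • x) = c • TangentSpace.map φ x := by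
    intro c x
    have e1 : c • x = TangentSpace.mk (F.map (Art.scale c) x) := TangentStr.smul_eq c x
    have e2 : c • TangentSpace.map φ x = TangentSpace.mk (G.map (Art.scale c) (TangentSpace.map φ x)) :=
      TangentStr.smul_eq (F := G) c _
    rw [e1, e2, hnat]
  exact ⟨{ toFun := TangentSpace.map φ, map_add' := hadd, map_smul' := hsmul }, rfl⟩

end Groth.Agent.S12736
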