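import Groth.Statements.S18404
import Mathlib.Tactic.Ring
import Mathlib.Tactic.LinearCombination
import Mathlib.Tactic.FieldSimp
import Mathlib.Tactic.FinCases
import Mathlib.Data.Complex.Basic
import Mathlib.Algebra.MvPolynomial.Eval
import Mathlib.LinearAlgebra.LinearIndependent.Lemmas
import Mathlib.LinearAlgebra.Matrix.Notation

set_option autoImplicit false
universe u
open Cubic

namespace Groth.Agent.S18404

open MvPolynomial

theorem eval_form (k : ℂ) (v : Fin 3 → ℂ) :
    eval v (HesseCubic.form k) = v 0 ^ 3 + v 1 ^ 3 + v 2 ^ 3 - 3 * k * (v 0 * v 1 * v 2) := by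
  simp [HesseCubic.form]

theorem key0 (x y z k a b c : ℂ)
    (H0 : x^3+y^3+z^3 - 3*k*(x*y*z) = 0)
    (H1 : 3*(x^2-k*y*z)*a + 3*(y^2-k*x*z)*b + 3*(z^2-k*x*y)*c = 0)
    (H2 : 3*(x*a^2+y*b^2+z*c^2) - 3*k*(x*b*c + y*a*c + z*a*b) = 0) :
    (y*c - z*b)^2 * (8*(1-k^3)*(x*y*z)) = 0 := by
  linear_combination (2*k^2*(y*c - z*b)^2 + 2*((2/3*(3*(x*a^2+y*b^2+z*c^2) - 3*k*(x*b*c + y*a*c + z*a*b)))*(2*x) - (2*x*a - k*z*b - k*y*c)^2)) * H0 +
    (2/3*(2*(2*x^2 - 2*k*y*z)*(2*x*a - k*z*b - k*y*c) - (2/3*(3*(x^2-k*y*z)*a + 3*(y^2-k*x*z)*b + 3*(z^2-k*x*y)*c))*(2*x))) * H1 +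
    (-(2/3)*(2*x^2 - 2*k*y*z)^2) * H2

theorem xyz_eq_zero (x y z k a b c : ℂ) (hk : k ^ 3 ≠ 1)
    (H0 : x^3+y^3+z^3 - 3*k*(x*y*z) = 0)
    (H1 : 3*(x^2-k*y*z)*a + 3*(y^2-k*x*z)*b + 3*(z^2-k*x*y)*c = 0)
    (H2 : 3*(x*a^2+y*b^2+z*c^2) - 3*k*(x*b*c + y*a*c + z*a*b) = 0)
    (hn : y*c - z*b ≠ 0 ∨ z*a - x*c ≠ 0 ∨ x*b - y*a ≠ 0) : x * y * z = 0 := by
  have hk' : (1 - k ^ 3) ≠ 0 := fun h => hk (by linear_combination -h)
  have fin : ∀ n : ℂ, n ≠ 0 → n ^ 2 * (8 * (1 - k ^ 3) * (x * y * z)) = 0 → x * y * z = 0 := by
    intro n hn h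
    rcases mul_eq_zero.mp h with h | h
    · exact absurd (pow_eq_zero_iff (two_ne_zero)|>.mp h) hn
    · rcases mul_eq_zero.mp h with h | h
      · rcases mul_eq_zero.mp h with h | h
        · norm_num at h
        · exact absurd h hk'
      · exact h
  rcases hn with hn | hn | hn
  · exact fin _ hn (key0 x y z k a b c H0 H1 H2)
  · have := key0 y z x k b c a (by linear_combination H0) (by linear_combination H1)
      (by linear_combination H2)
    exact fin _ hn (by linear_combination this)
  · have := key0 z x y k c a b (by linear_combination H0) (by linear_combination H1)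
      (by linear_combination H2)
    exact fin _ hn (by linear_combination this)

open MvPolynomial in
/-- Let k ∈ ℂ with k³ ≠ 1 and let h = X₀³ + X₁³ + X₂³ − 3k·X₀X₁X₂ be the Hesse cubic. For a nonzero
vector v with h(v) = 0, the corresponding point is a flex of the plane curve of h — some line
through it meets the curve there with multiplicity three, i.e. there is a vector w linearly
independent from v with h(v + t·w) = t³·h(w) for every t — exactly when v is a scalar multiple of
one of the nine vectors (0, 1, −γ), (−γ, 0, 1), (1, −γ, 0) with γ³ = 1. -/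
theorem result (k : ℂ) (hk : k ^ 3 ≠ 1) (v : Fin 3 → ℂ) (hv : v ≠ 0)
    (hCv : eval v (HesseCubic.form k) = 0) :
    (∃ w : Fin 3 → ℂ, LinearIndependent ℂ ![v, w] ∧
        ∀ t : ℂ, eval (v + t • w) (HesseCubic.form k) = t ^ 3 * eval w (HesseCubic.form k)) ↔
      ∃ γ c : ℂ, γ ^ 3 = 1 ∧ (v = c • ![0, 1, -γ] ∨ v = c • ![-γ, 0, 1] ∨ v = c • ![1, -γ, 0]) := by
  constructor
  · rintro ⟨w, hind, hw⟩
    have e1 := hw 1
    have e2 := hw (-1)
    rw [eval_form] at hCv
    rw [eval_form, eval_form] at e1 e2
    simp only [Pi.add_apply, Pi.smul_apply, smul_eq_mul] at e1 e2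
    set x := v 0 with hx
    set y := v 1 with hy
    set z := v 2 with hz
    set a := w 0 with ha
    set b := w 1 with hb
    set c := w 2 with hc
    have H1 : 3*(x^2-k*y*z)*a + 3*(y^2-k*x*z)*b + 3*(z^2-k*x*y)*c = 0 := by
      linear_combination (1/2) * e1 - (1/2) * e2
    have H2 : 3*(x*a^2+y*b^2+z*c^2) - 3*k*(x*b*c + y*a*c + z*a*b) = 0 := by
      linear_combination (1/2) * e1 + (1/2) * e2 - hCv
    have hn : y*c - z*b ≠ 0 ∨ z*a - x*c ≠ 0 ∨ x*b - y*a ≠ 0 := by
      by_contra hcon
      push Not at hcon
      obtain ⟨n0, n1, n2⟩ := hcon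
      rw [LinearIndependent.pair_iff] at hind
      obtain ⟨i, hi⟩ := Function.ne_iff.mp hv
      have hzero : (w i) • v + (-(v i)) • w = 0 := by
        funext j
        simp only [Pi.add_apply, Pi.smul_apply, smul_eq_mul, Pi.zero_apply]
        fin_cases i <;> fin_cases j <;> simp only [Fin.zero_eta, Fin.mk_one, Fin.reduceFinMk]
        · ring
        · linear_combination -n2
        · linear_combination n1
        · linear_combination n2
        · ring
        · linear_combination -n0
        · linear_combination -n1
        · linear_combination n0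
        · ring
      have := (hind _ _ hzero).2
      exact hi (by simpa using this)
    have hxyz := xyz_eq_zero x y z k a b c hk hCv H1 H2 hn
    have hv3 : ∀ u : Fin 3 → ℂ, u 0 = x → u 1 = y → u 2 = z → v = u := by
      intro u h0 h1 h2
      funext j
      fin_cases j
      · exact h0.symm
      · exact h1.symm
      · exact h2.symm
    rcases mul_eq_zero.mp hxyz with hxy | hz0
    · rcases mul_eq_zero.mp hxy with hx0 | hy0
      · -- x = 0
        have hy0 : y ≠ 0 := by
          intro hy0
          have hz3 : z ^ 3 = 0 := by rw [hx0, hy0] at hCv; linear_combination hCv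
          have hz0 : z = 0 := pow_eq_zero_iff (by norm_num) |>.mp hz3
          apply hv
          funext j
          fin_cases j
          · exact hx0
          · exact hy0
          · exact hz0
        refine ⟨-z / y, y, ?_, Or.inl ?_⟩
        · rw [hx0] at hCv
          field_simp
          linear_combination -hCv
        · apply hv3
          · simp [hx0]
          · simp
          · simp
            field_simp
      · -- y = 0
        have hz0 : z ≠ 0 := by
          intro hz0
          have hx3 : x ^ 3 = 0 := by rw [hy0, hz0] at hCv; linear_combination hCv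
          have hx0 : x = 0 := pow_eq_zero_iff (by norm_num) |>.mp hx3
          apply hv
          funext j
          fin_cases j
          · exact hx0
          · exact hy0
          · exact hz0
        refine ⟨-x / z, z, ?_, Or.inr (Or.inl ?_)⟩
        · rw [hy0] at hCv
          field_simp
          linear_combination -hCv
        · apply hv3
          · simp
            field_simp
          · simp [hy0]
          · simp
    · -- z = 0
      have hx0 : x ≠ 0 := by
        intro hx0
        have hy3 : y ^ 3 = 0 := by rw [hx0, hz0] at hCv; linear_combination hCv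
        have hy0 : y = 0 := pow_eq_zero_iff (by norm_num) |>.mp hy3
        apply hv
        funext j
        fin_cases j
        · exact hx0
        · exact hy0
        · exact hz0
      refine ⟨-y / x, x, ?_, Or.inr (Or.inr ?_)⟩
      · rw [hz0] at hCv
        field_simp
        linear_combination -hCv
      · apply hv3
        · simp
        · simp
          field_simp
        · simp [hz0]
  · rintro ⟨γ, c, hγ, hcases⟩
    have hc : c ≠ 0 := by
      rintro rfl
      apply hv
      rcases hcases with h | h | h <;> rw [h, zero_smul]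
    rcases hcases with h | h | h
    · refine ⟨![1, -k * γ, 0], ?_, ?_⟩
      · rw [LinearIndependent.pair_iff]
        intro s t hst
        have h0 := congrFun hst 0
        have h1 := congrFun hst 1
        simp [h] at h0 h1
        rw [h0] at h1
        simp at h1
        exact ⟨h1.resolve_right hc, h0⟩
      · intro t
        rw [eval_form, eval_form, h]
        simp
        linear_combination (-c ^ 3) * hγ
    · refine ⟨![0, 1, -k * γ], ?_, ?_⟩
      · rw [LinearIndependent.pair_iff]
        intro s t hst
        have h0 := congrFun hst 1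
        have h1 := congrFun hst 2
        simp [h] at h0 h1
        rw [h0] at h1
        simp at h1
        exact ⟨h1.resolve_right hc, h0⟩
      · intro t
        rw [eval_form, eval_form, h]
        simp
        linear_combination (-c ^ 3) * hγ
    · refine ⟨![-k * γ, 0, 1], ?_, ?_⟩
      · rw [LinearIndependent.pair_iff]
        intro s t hst
        have h0 := congrFun hst 2
        have h1 := congrFun hst 0
        simp [h] at h0 h1
        rw [h0] at h1
        simp at h1
        exact ⟨h1.resolve_right hc, h0⟩
      · intro t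
        rw [eval_form, eval_form, h]
        simp
        linear_combination (-c ^ 3) * hγ

end Groth.Agent.S18404
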