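import Groth.Statements.S0792
import Groth.Agent.Lib.Helper17.AnnIdeal
import Groth.Agent.Lib.Helper9.ProperOver2
import Mathlib
set_option backward.isDefEq.respectTransparency.types false

set_option autoImplicit false
universe u
open Coherent

namespace Groth.Agent.S0792
open CategoryTheory AlgebraicGeometry TopologicalSpace
open Groth.Agent.Lib.Helper9.ProperOver Groth.Agent.Lib.Helper28.QCohLoc

/-- a closed subset of a closed subset proper over `S` is proper over `S` -/
theorem isProperOver_of_subset {X S : Scheme.{u}} (f : X ⟶ S) {Z Z' : Set X} (hZ' : ClSub.IsProperOver f Z')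
    (hZ : IsClosed Z) (h : Z ⊆ Z') : ClSub.IsProperOver f Z := by
  obtain ⟨hZ'c, hp⟩ := hZ'
  refine ⟨hZ, ?_⟩
  have hle : red Z' hZ'c ≤ red Z hZ := Scheme.IdealSheafData.vanishingIdeal_antimono h
  have hfac : Scheme.IdealSheafData.inclusion hle ≫ (red Z' hZ'c).subschemeι = (red Z hZ).subschemeι :=
    Scheme.IdealSheafData.inclusion_subschemeι hle
  haveI : IsClosedImmersion (Scheme.IdealSheafData.inclusion hle) := by
    have : IsClosedImmersion (Scheme.IdealSheafData.inclusion hle ≫ (red Z' hZ'c).subschemeι) := by
      rw [hfac]; infer_instance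
    exact IsClosedImmersion.of_comp (Scheme.IdealSheafData.inclusion hle) (red Z' hZ'c).subschemeι
  have : (red Z hZ).subschemeι ≫ f = Scheme.IdealSheafData.inclusion hle ≫ ((red Z' hZ'c).subschemeι ≫ f) := by
    rw [← Category.assoc, hfac]
  change IsProper ((red Z hZ).subschemeι ≫ f)
  rw [this]
  infer_instance

/-- sections over the empty open vanish -/
theorem subsingleton_bot {Z : Scheme.{u}} (G : Z.Modules) : Subsingleton Γ(G, (⊥ : Z.Opens)) :=
  ⟨fun x y => eq_of_locally_eq G (fun i : PEmpty.{1} => PEmpty.elim i) ⊥ (fun i => PEmpty.elim i) bot_le x y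
    (fun i => PEmpty.elim i)⟩

open Groth.Agent.Lib.Helper17.TensorSupp in
/-- the support of a direct image under a closed immersion is contained in the range -/
theorem support_subset_range {Z X : Scheme.{u}} (i : Z ⟶ X) [IsClosedImmersion i] (G : Z.Modules)
    (F : X.Modules) [F.IsQuasicoherent] (e : (Scheme.Modules.pushforward i).obj G ≅ F) :
    CohB1.support F ⊆ Set.range i := by
  intro x hx
  by_contra hxr
  let V : X.Opens := ⟨(Set.range i)ᶜ, i.isClosedEmbedding.isClosed_range.isOpen_compl⟩
  obtain ⟨W, hW, hxW, hWV⟩ := Opens.isBasis_iff_nbhd.mp X.isBasis_affineOpens (show x ∈ V from hxr)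
  rw [mem_support_iff_mem_moduleSupport F hW x hxW] at hx
  have hbot : i ⁻¹ᵁ W = ⊥ := by
    ext z
    simp only [Opens.coe_bot, Set.mem_empty_iff_false, iff_false]
    intro hz
    exact hWV hz ⟨z, rfl⟩
  haveI : Subsingleton Γ(F, W) := by
    have h1 : Subsingleton Γ((Scheme.Modules.pushforward i).obj G, W) := by
      change Subsingleton Γ(G, i ⁻¹ᵁ W)
      rw [hbot]
      exact subsingleton_bot G
    have hiso : IsIso (e.inv.app W) := inferInstance
    have hinj : Function.Injective (e.inv.app W) := ((ConcreteCategory.isIso_iff_bijective _).mp hiso).1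
    exact hinj.subsingleton
  rw [Module.support_eq_empty] at hx
  exact hx


open CategoryTheory AlgebraicGeometry in
/-- Let f : X → S be locally of finite type and F a quasi-coherent O_X-module of finite type. The
support of F is proper over S if and only if there are a closed subscheme i : Z → X with Z proper
over S and a quasi-coherent O_Z-module G of finite type with i_* G isomorphic to F. (The published
statement also gives a further equivalent condition, that the scheme-theoretic support of F is
proper over S; it is not used here.) -/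
theorem result {X S : Scheme.{u}} (f : X ⟶ S) [LocallyOfFiniteType f]
    (F : X.Modules) (hq : Coh.IsQCoh F) (hft : CohB1.IsFT F) :
    ClSub.IsProperOver f (CohB1.support F) ↔
      ∃ (Z : Scheme.{u}) (i : Z ⟶ X), IsClosedImmersion i ∧ IsProper (i ≫ f) ∧
        ∃ G : Z.Modules, Coh.IsQCoh G ∧ CohB1.IsFT G ∧
          Nonempty ((Scheme.Modules.pushforward i).obj G ≅ F) := by
  haveI : F.IsQuasicoherent := hq
  haveI : SheafOfModules.IsFiniteType.{u} (R := X.ringCatSheaf) F := hft
  have hsupp := Groth.Agent.Lib.Helper17.AnnIdeal.support_annIdeal F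
  have hcl : IsClosed (CohB1.support F) := by
    rw [← hsupp]; exact (Groth.Agent.Lib.Helper17.AnnIdeal.annIdeal F).support.isClosed
  constructor
  · intro h
    let J := Groth.Agent.Lib.Helper17.AnnIdeal.annIdeal F
    haveI := Groth.Agent.Lib.Helper17.AnnIdeal.isIso_unit_annIdeal F
    refine ⟨J.subscheme, J.subschemeι, inferInstance, ?_, (Scheme.Modules.pullback J.subschemeι).obj F,
      inferInstance, Groth.Agent.Lib.Helper17.TensorSupp.isFiniteType_pullback J.subschemeι F,
      ⟨(asIso ((Scheme.Modules.pullbackPushforwardAdjunction J.subschemeι).unit.app F)).symm⟩⟩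
    refine ((isProperOver_tfae f _ hcl).2.mp h) J.subscheme J.subschemeι inferInstance ?_
    rw [← hsupp]
    exact J.range_subschemeι
  · rintro ⟨Z, i, hi, hp, G, hG, hGft, ⟨e⟩⟩
    have hr : IsClosed (Set.range i) := i.isClosedEmbedding.isClosed_range
    have h1 : ClSub.IsProperOver f (Set.range i) :=
      (isProperOver_tfae f _ hr).1.mpr ⟨Z, i, hi, rfl, hp⟩
    exact isProperOver_of_subset f h1 hcl (support_subset_range i G F e)

end Groth.Agent.S0792
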