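import Groth.Statements.S2171
import Mathlib.Tactic
-- import your own Groth.Agent.* helpers here

set_option autoImplicit false
open Finset
open Models

namespace Groth.Agent.S2171

/-- Let A be a symmetric real n by n matrix with non-negative off-diagonal entries, m a vector with
positive entries such that A m = 0, and assume no proper non-empty index set I has A i j = 0 for all
i in I and j outside I. Then x^t A x is at most 0 for every real vector x, with equality exactly
when x is a real multiple of m. -/
theorem result {n : ℕ} (A : Matrix (Fin n) (Fin n) ℝ)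
    (m : Fin n → ℝ) (hsymm : A.IsSymm) (hA : ∀ i j, i ≠ j → 0 ≤ A i j) (hm : ∀ i, 0 < m i)
    (hAm : A.mulVec m = 0)
    (hconn : ∀ I : Finset (Fin n), I.Nonempty → I ≠ univ → ∃ i ∈ I, ∃ j ∉ I, A i j ≠ 0)
    (x : Fin n → ℝ) :
    dotProduct x (A.mulVec x) ≤ 0 ∧ (dotProduct x (A.mulVec x) = 0 ↔ ∃ q : ℝ, x = q • m) := by
  classical
  have h1 : ∀ i, ∑ j, A i j * m j = 0 := by
    intro i
    have := congr_fun hAm i
    simpa [Matrix.mulVec, dotProduct] using this
  have h2 : ∀ j, ∑ i, A i j * m i = 0 := by
    intro j
    rw [← h1 j]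
    exact Finset.sum_congr rfl (fun i _ => by rw [hsymm.apply i j])
  have key : ∀ i j, A i j * m i * m j * (x i / m i - x j / m j) ^ 2
      = (x i ^ 2 / m i) * (A i j * m j) - 2 * (x i * (A i j * x j))
        + (x j ^ 2 / m j) * (A i j * m i) := by
    intro i j
    have hi := (hm i).ne'
    have hj := (hm j).ne'
    field_simp
    ring
  have hq : dotProduct x (A.mulVec x) = ∑ i, ∑ j, x i * (A i j * x j) := by
    simp [Matrix.mulVec, dotProduct, Finset.mul_sum]
  have ident : ∑ i, ∑ j, A i j * m i * m j * (x i / m i - x j / m j) ^ 2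
      = -2 * dotProduct x (A.mulVec x) := by
    rw [hq]
    simp_rw [key, Finset.sum_add_distrib, Finset.sum_sub_distrib]
    have e1 : ∑ i, ∑ j, (x i ^ 2 / m i) * (A i j * m j) = 0 := by
      apply Finset.sum_eq_zero
      intro i _
      rw [← Finset.mul_sum, h1 i, mul_zero]
    have e3 : ∑ i, ∑ j, (x j ^ 2 / m j) * (A i j * m i) = 0 := by
      rw [Finset.sum_comm]
      apply Finset.sum_eq_zero
      intro j _
      rw [← Finset.mul_sum, h2 j, mul_zero]
    rw [e1, e3]
    simp_rw [← Finset.mul_sum]
    ring
  have nonneg : ∀ i j, 0 ≤ A i j * m i * m j * (x i / m i - x j / m j) ^ 2 := by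
    intro i j
    by_cases hij : i = j
    · subst hij; simp
    · have := hA i j hij
      have := (hm i).le
      have := (hm j).le
      positivity
  have hsum_nonneg : 0 ≤ ∑ i, ∑ j, A i j * m i * m j * (x i / m i - x j / m j) ^ 2 :=
    Finset.sum_nonneg (fun i _ => Finset.sum_nonneg (fun j _ => nonneg i j))
  refine ⟨by linarith, ?_⟩
  constructor
  · intro h0
    have hs0 : ∑ i, ∑ j, A i j * m i * m j * (x i / m i - x j / m j) ^ 2 = 0 := by
      rw [ident, h0, mul_zero]
    have hterm : ∀ i j, A i j * m i * m j * (x i / m i - x j / m j) ^ 2 = 0 := by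
      intro i j
      have hi := (Finset.sum_eq_zero_iff_of_nonneg
        (fun i _ => Finset.sum_nonneg (fun j _ => nonneg i j))).1 hs0 i (Finset.mem_univ i)
      exact (Finset.sum_eq_zero_iff_of_nonneg (fun j _ => nonneg i j)).1 hi j (Finset.mem_univ j)
    have heq : ∀ i j, A i j ≠ 0 → x i / m i = x j / m j := by
      intro i j hAij
      have := hterm i j
      have hi := (hm i).ne'
      have hj := (hm j).ne'
      have h3 : (x i / m i - x j / m j) ^ 2 = 0 := by
        rcases mul_eq_zero.1 this with h | h
        · exact absurd h (by positivity)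
        · exact h
      have := pow_eq_zero_iff (two_ne_zero) |>.1 h3
      linarith
    rcases Nat.eq_zero_or_pos n with hn | hn
    · subst hn
      exact ⟨0, funext (fun i => i.elim0)⟩
    · let i0 : Fin n := ⟨0, hn⟩
      let I : Finset (Fin n) := Finset.univ.filter (fun i => x i / m i = x i0 / m i0)
      have hI : I = univ := by
        by_contra hne
        obtain ⟨i, hi, j, hj, hAij⟩ := hconn I ⟨i0, by simp [I]⟩ hne
        apply hj
        have hi' : x i / m i = x i0 / m i0 := by simpa [I] using hi
        have : x j / m j = x i0 / m i0 := by rw [← heq i j hAij, hi']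
        simp [I, this]
      refine ⟨x i0 / m i0, funext (fun i => ?_)⟩
      have hi : i ∈ I := by rw [hI]; exact Finset.mem_univ i
      have hi' : x i / m i = x i0 / m i0 := by simpa [I] using hi
      have := (hm i).ne'
      simp only [Pi.smul_apply, smul_eq_mul]
      rw [← hi']
      field_simp
  · rintro ⟨q, rfl⟩
    rw [Matrix.mulVec_smul, hAm]
    simp

end Groth.Agent.S2171
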