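import Groth.Statements.S1616
import Groth.Agent.Lib.Helper28.Segre5
import Groth.Agent.Lib.Helper28.ProjClosed2
import Groth.Agent.Lib.Helper28.ProjMapG

set_option autoImplicit false
universe u
open CategoryTheory CategoryTheory.Limits AlgebraicGeometry
open Constr

namespace Groth.Agent.S1616

attribute [local instance] MvPolynomial.gradedAlgebra

open Groth.Agent.Lib.Helper28 in
/-- the graded homomorphism of polynomial rings given by a map of variables -/
noncomputable def renameGr {R : Type u} [CommRing R] {σ τ : Type*} (f : σ → τ) :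
    (MvPolynomial.homogeneousSubmodule σ R) →+*ᵍ (MvPolynomial.homogeneousSubmodule τ R) :=
  { (MvPolynomial.rename f : MvPolynomial σ R →ₐ[R] MvPolynomial τ R).toRingHom with
    map_mem := fun hx => MvPolynomial.IsHomogeneous.rename_isHomogeneous hx }

theorem renameGr_surjective {R : Type u} [CommRing R] {σ τ : Type*} (f : σ → τ)
    (hf : Function.Surjective f) : Function.Surjective (renameGr (R := R) f) :=
  MvPolynomial.rename_surjective f hf

open Groth.Agent.Lib.Helper28 in
set_option backward.isDefEq.respectTransparency false in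
/-- the Segre embedding over a ring -/
theorem core (R : Type u) [CommRing R] (n m : ℕ) :
    ∃ φ : pullback (CohB1.ProjSpace.toSpec n R) (CohB1.ProjSpace.toSpec m R) ⟶
      CohB1.ProjSpace (n * m + n + m) R, IsClosedImmersion φ := by
  obtain ⟨φ₀, hφ₀⟩ := Segre5.exists_closedImmersion
    (R := R) (I := ULift.{u} (Fin (n + 1))) (J := ULift.{u} (Fin (m + 1)))
    (CohB1.polyGrading n R) (CohB1.polyGrading m R)
    (fun i => MvPolynomial.X i.down) (fun i => MvPolynomial.isHomogeneous_X R i.down)
    (fun j => MvPolynomial.X j.down) (fun j => MvPolynomial.isHomogeneous_X R j.down)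
    (by
      have : (Set.range fun i : ULift.{u} (Fin (n + 1)) =>
          (MvPolynomial.X i.down : MvPolynomial (Fin (n + 1)) R)) = Set.range MvPolynomial.X := by
        ext x; constructor
        · rintro ⟨i, rfl⟩; exact ⟨i.down, rfl⟩
        · rintro ⟨i, rfl⟩; exact ⟨⟨i⟩, rfl⟩
      rw [this]; exact MvPolynomial.adjoin_range_X)
    (by
      have : (Set.range fun i : ULift.{u} (Fin (m + 1)) =>
          (MvPolynomial.X i.down : MvPolynomial (Fin (m + 1)) R)) = Set.range MvPolynomial.X := by
        ext x; constructor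
        · rintro ⟨i, rfl⟩; exact ⟨i.down, rfl⟩
        · rintro ⟨i, rfl⟩; exact ⟨⟨i⟩, rfl⟩
      rw [this]; exact MvPolynomial.adjoin_range_X)
  have hN : (n + 1) * (m + 1) = n * m + n + m + 1 := by ring
  let e : Fin (n * m + n + m + 1) ≃ ULift.{u} (Fin (n + 1)) × ULift.{u} (Fin (m + 1)) :=
    ((finCongr hN.symm).trans finProdFinEquiv.symm).trans
      (Equiv.prodCongr Equiv.ulift.symm Equiv.ulift.symm)
  let ψ := renameGr (R := R) e
  have hψ : Function.Surjective ψ := renameGr_surjective e e.surjective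
  have hirr := ProjClosed.irrelevant_le_map ψ hψ
  have hcl : IsClosedImmersion (Proj.map ψ hirr) := ProjMapG.isClosedImmersion_map ψ hirr hψ
  exact ⟨φ₀ ≫ Proj.map ψ hirr, inferInstance⟩

/-- base change of a closed immersion out of a product, over a terminal object -/
theorem baseChange_aux {T P Q M S : Scheme.{u}} (hT : IsTerminal T) (pn : P ⟶ T) (pm : Q ⟶ T)
    (pN : M ⟶ T) (tS : S ⟶ T) (φ : pullback pn pm ⟶ M) (hφ : IsClosedImmersion φ) :
    ∃ ψ : pullback (pullback.snd pn tS) (pullback.snd pm tS) ⟶ pullback pN tS,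
      IsClosedImmersion ψ ∧
        ψ ≫ pullback.snd pN tS = pullback.fst _ _ ≫ pullback.snd pn tS := by
  let a : pullback (pullback.snd pn tS) (pullback.snd pm tS) ⟶ pullback pn pm :=
    pullback.lift (pullback.fst _ _ ≫ pullback.fst pn tS) (pullback.snd _ _ ≫ pullback.fst pm tS)
      (hT.hom_ext _ _)
  have ha1 : a ≫ pullback.fst pn pm = pullback.fst _ _ ≫ pullback.fst pn tS :=
    pullback.lift_fst _ _ _
  have ha2 : a ≫ pullback.snd pn pm = pullback.snd _ _ ≫ pullback.fst pm tS :=
    pullback.lift_snd _ _ _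
  let ψ : pullback (pullback.snd pn tS) (pullback.snd pm tS) ⟶ pullback pN tS :=
    pullback.lift (a ≫ φ) (pullback.fst _ _ ≫ pullback.snd pn tS) (hT.hom_ext _ _)
  have hψ1 : ψ ≫ pullback.fst pN tS = a ≫ φ := pullback.lift_fst _ _ _
  have hψ2 : ψ ≫ pullback.snd pN tS = pullback.fst _ _ ≫ pullback.snd pn tS :=
    pullback.lift_snd _ _ _
  refine ⟨ψ, ?_, hψ2⟩
  -- the outer rectangle
  have s1 : IsPullback (pullback.snd (pullback.snd pn tS) (pullback.snd pm tS))
      (pullback.fst (pullback.snd pn tS) (pullback.snd pm tS)) (pullback.snd pm tS)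
      (pullback.snd pn tS) := (IsPullback.of_hasPullback _ _).flip
  have s2 : IsPullback (pullback.fst pm tS) (pullback.snd pm tS) pm tS :=
    IsPullback.of_hasPullback _ _
  have s3 := s1.paste_horiz s2
  have s4 : IsPullback (a ≫ pullback.snd pn pm)
      (pullback.fst (pullback.snd pn tS) (pullback.snd pm tS)) pm
      (pullback.fst pn tS ≫ pn) := by
    rw [ha2, pullback.condition]; exact s3
  have s5 : IsPullback (pullback.snd pn pm) (pullback.fst pn pm) pm pn :=
    (IsPullback.of_hasPullback _ _).flip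
  have s6 : IsPullback a (pullback.fst (pullback.snd pn tS) (pullback.snd pm tS))
      (pullback.fst pn pm) (pullback.fst pn tS) := IsPullback.of_right s4 ha1 s5
  have s7 : IsPullback (pullback.fst pn tS) (pullback.snd pn tS) pn tS :=
    IsPullback.of_hasPullback _ _
  have s8 := s6.paste_vert s7
  have s9 : IsPullback a (ψ ≫ pullback.snd pN tS) (φ ≫ pN) tS := by
    rw [hψ2, hT.hom_ext (φ ≫ pN) (pullback.fst pn pm ≫ pn)]; exact s8
  have s10 : IsPullback a ψ φ (pullback.fst pN tS) :=
    IsPullback.of_bot s9 hψ1.symm (IsPullback.of_hasPullback pN tS)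
  exact MorphismProperty.of_isPullback s10 hφ

/-- For any scheme S and n, m ≥ 0 there is a closed immersion from P^n_S ×_S P^m_S into P^{nm+n+m}_S
compatible with the projections to S. -/
theorem result (S : Scheme.{u}) (n m : ℕ) :
    ∃ φ : pullback (CohB1.ProjSpaceOver.toBase n S) (CohB1.ProjSpaceOver.toBase m S) ⟶ CohB1.ProjSpaceOver (n * m + n + m) S,
      IsClosedImmersion φ ∧ φ ≫ CohB1.ProjSpaceOver.toBase (n * m + n + m) S =
        pullback.fst (CohB1.ProjSpaceOver.toBase n S) (CohB1.ProjSpaceOver.toBase m S) ≫ CohB1.ProjSpaceOver.toBase n S := by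
  obtain ⟨φ, hφ⟩ := core (ULift.{u} ℤ) n m
  exact baseChange_aux specULiftZIsTerminal (CohB1.ProjSpace.toSpec n (ULift.{u} ℤ))
    (CohB1.ProjSpace.toSpec m (ULift.{u} ℤ)) (CohB1.ProjSpace.toSpec (n * m + n + m) (ULift.{u} ℤ))
    (specULiftZIsTerminal.from S) φ hφ

end Groth.Agent.S1616
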