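import Groth.Statements.S0818
import Groth.Agent.Lib.Helper6.DevRed

set_option autoImplicit false
universe u
open Coherent

namespace Groth.Agent.S0818

open CategoryTheory AlgebraicGeometry in
/-- Let X be a nonempty Noetherian scheme and P an isomorphism-invariant property of O_X-modules such
that (1) in every short exact sequence of coherent O_X-modules, if two of the three terms satisfy P
then so does the third, and (2) for every integral scheme Z and closed immersion i : Z → X, with ξ
the generic point of Z, there is a coherent O_X-module G satisfying P whose support is exactly i(Z)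
and whose stalk at i(ξ) is isomorphic, as a module over the local ring O_{X,i(ξ)}, to the residue
field of that local ring. Then every coherent O_X-module satisfies P. (The published statement
leaves the nonemptiness of X implicit; it is needed to handle the zero module and is assumed
explicitly here.) -/
theorem result (X : Scheme.{u}) [IsNoetherian X] [Nonempty X]
    (P : X.Modules → Prop) (hP : ∀ M N : X.Modules, Nonempty (M ≅ N) → P M → P N)
    (h₁ : ∀ S : ShortComplex X.Modules, S.ShortExact → Coh.IsCoh S.X₁ → Coh.IsCoh S.X₂ → Coh.IsCoh S.X₃ →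
      (P S.X₁ → P S.X₂ → P S.X₃) ∧ (P S.X₁ → P S.X₃ → P S.X₂) ∧ (P S.X₂ → P S.X₃ → P S.X₁))
    (h₂ : ∀ (Z : Scheme.{u}) (i : Z ⟶ X) [IsClosedImmersion i] [IsIntegral Z],
      ∃ G : X.Modules, Coh.IsCoh G ∧ CohB1.support G = Set.range ⇑i ∧
        Nonempty (↑(G.presheaf.stalk (i (genericPoint Z))) ≃ₗ[X.presheaf.stalk (i (genericPoint Z))]
          IsLocalRing.ResidueField (X.presheaf.stalk (i (genericPoint Z)))) ∧ P G)
    (M : X.Modules) (hM : Coh.IsCoh M) : P M := by
  classical
  open Groth.Agent.Lib.Helper6.DevCore Groth.Agent.Lib.Helper6.DevStep Groth.Agent.Lib.Helper6.DevRed in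
  -- the generating modules
  have hgen : ∀ (Z : Set X) (hZ : IsClosed Z), IsIrreducible Z → ∀ y : X, closure {y} = Z →
      ∃ G : X.Modules, Coh.IsCoh G ∧ P G ∧ CohB1.support G ⊆ Z ∧
        ∃ g : G.presheaf.stalk y, g ≠ 0 ∧
          (∀ a ∈ IsLocalRing.maximalIdeal (X.presheaf.stalk y), a • g = 0) ∧
          ∀ g' : G.presheaf.stalk y, ∃ c : X.presheaf.stalk y, g' = c • g := by
    intro Z hZ hirr y hy
    let Zc : TopologicalSpace.Closeds X := ⟨Z, hZ⟩
    haveI : IsIntegral (Scheme.IdealSheafData.vanishingIdeal Zc).subscheme :=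
      isIntegral_subscheme_vanishingIdeal Zc hirr
    have hrange : Set.range (Scheme.IdealSheafData.vanishingIdeal Zc).subschemeι = Z :=
      range_subschemeι_vanishingIdeal Zc
    obtain ⟨G, hG, hGs, ⟨e⟩, hPG⟩ := h₂ _ (Scheme.IdealSheafData.vanishingIdeal Zc).subschemeι
    have hpt : (Scheme.IdealSheafData.vanishingIdeal Zc).subschemeι
        (genericPoint (Scheme.IdealSheafData.vanishingIdeal Zc).subscheme) = y :=
      closedImmersion_genericPoint _ y (hy.trans hrange.symm)
    subst hpt
    exact ⟨G, hG, hPG, (hGs.trans hrange).le, exists_gen_of_equiv_residueField _ _ e⟩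
  -- some module has `P`
  obtain ⟨G₀, hG₀, hPG₀⟩ : ∃ G₀ : X.Modules, Coh.IsCoh G₀ ∧ P G₀ := by
    obtain ⟨x⟩ := ‹Nonempty X›
    obtain ⟨G, hG, hPG, -⟩ := hgen (closure {x}) isClosed_closure isIrreducible_singleton.closure x rfl
    exact ⟨G, hG, hPG⟩
  let K' : ObjectProperty X.Modules := P
  haveI : K'.IsClosedUnderIsomorphisms := ⟨fun {M N} e hM => hP M N ⟨e⟩ hM⟩
  have h0 : ∀ M : X.Modules, Limits.IsZero M → K' M := by
    intro M hz
    let S : ShortComplex X.Modules := ShortComplex.mk (0 : M ⟶ G₀) (𝟙 G₀) (by simp)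
    have hmono : Mono (0 : M ⟶ G₀) := ⟨fun g h _ => hz.eq_of_tgt g h⟩
    have hS : S.ShortExact :=
      ShortComplex.ShortExact.mk' ((S.exact_iff_mono rfl).2 (inferInstanceAs (Mono (𝟙 G₀)))) hmono
        (inferInstanceAs (Epi (𝟙 G₀)))
    exact (h₁ S hS (isCoh_of_isZero hz) hG₀ hG₀).2.2 hPG₀ hPG₀
  refine devissage_core K' (fun S hS h1 h2 h3 => (h₁ S hS h1 h2 h3).2.1) h0 Set.univ ?_ isClosed_univ M hM
    (Set.subset_univ _)
  intro Z hZ hirr _ y hy IH Q hQ hQZ hyQ
  obtain ⟨G, hG, hPG, hGZ, g, hg0, hgm, hgen'⟩ := hgen Z hZ hirr y hy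
  exact step_simple K' h₁ Z y hy IH G hG hPG hGZ g hg0 hgm hgen' Q hQ hQZ hyQ

end Groth.Agent.S0818
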