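import Groth.Statements.S0020
import Groth.Agent.Lib.Helper17.StalkExact
import Groth.Agent.Lib.Helper28.FinType
import Mathlib
set_option backward.isDefEq.respectTransparency.types false

set_option autoImplicit false
universe u
open Coherent

namespace Groth.Agent.S0020
open AlgebraicGeometry CategoryTheory Opposite TopologicalSpace CategoryTheory.Limits
open Groth.Agent.Lib.Helper17.StalkExact Groth.Agent.Lib.Helper28.QCohLoc

variable {Z : Scheme.{u}}

/-- the structure sheaf as a module -/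
noncomputable abbrev OZ (Z : Scheme.{u}) : Z.Modules := SheafOfModules.unit Z.ringCatSheaf

/-- a function as a section of the structure module -/
abbrev toSec (W : Z.Opens) (c : Γ(Z, W)) : Γ(OZ Z, W) := c

theorem toSec_res {U V : Z.Opens} (h : V ≤ U) (c : Γ(Z, U)) :
    res (OZ Z) h (toSec U c) = toSec V (Z.presheaf.map (homOfLE h).op c) := rfl

theorem toSec_smul (W : Z.Opens) (c d : Γ(Z, W)) : c • toSec W d = toSec W (c * d) := rfl

/-- a morphism from the structure sheaf whose value at `1` vanishes on `V` has zero stalk maps on `V` -/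
theorem stalkHom_unit_eq_zero {N : Z.Modules} (q : OZ Z ⟶ N) (V : Z.Opens)
    (hV : res N (le_top : V ≤ ⊤) (q.app ⊤ (toSec ⊤ 1)) = 0)
    (z : Z) (hz : z ∈ V) (a : (OZ Z).presheaf.stalk z) :
    stalkHom q z a = 0 := by
  obtain ⟨W₀, hzW₀, c₀, rfl⟩ := TopCat.Presheaf.exists_germ_eq (OZ Z).presheaf a
  have hW : z ∈ W₀ ⊓ V := ⟨hzW₀, hz⟩
  rw [← TopCat.Presheaf.germ_res_apply (OZ Z).presheaf (homOfLE (inf_le_left : W₀ ⊓ V ≤ W₀)) z hW c₀]
  set c : Γ(OZ Z, W₀ ⊓ V) := (OZ Z).presheaf.map (homOfLE (inf_le_left : W₀ ⊓ V ≤ W₀)).op c₀ with hc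
  rw [stalkHom_germ]
  have h1 : q.app (W₀ ⊓ V) c = 0 := by
    let c' : Γ(Z, W₀ ⊓ V) := c
    have hc1 : c = c' • toSec (W₀ ⊓ V) 1 := by
      rw [toSec_smul, mul_one]
    rw [hc1]
    have hlin : q.app (W₀ ⊓ V) (c' • toSec (W₀ ⊓ V) 1) = c' • q.app (W₀ ⊓ V) (toSec (W₀ ⊓ V) 1) :=
      (q.val.app (op (W₀ ⊓ V))).hom.map_smul c' _
    rw [hlin]
    have h1' : toSec (W₀ ⊓ V) 1 = res (OZ Z) (le_top : W₀ ⊓ V ≤ ⊤) (toSec ⊤ 1) := by
      rw [toSec_res, map_one]
    rw [h1', app_res q (le_top : W₀ ⊓ V ≤ ⊤)]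
    have hfac : res N (le_top : W₀ ⊓ V ≤ ⊤) (q.app ⊤ (toSec ⊤ 1)) =
        res N (inf_le_right : W₀ ⊓ V ≤ V) (res N (le_top : V ≤ ⊤) (q.app ⊤ (toSec ⊤ 1))) := by
      rw [res_res]
    rw [hfac, hV, res_zero, smul_zero]
  rw [h1, map_zero]

/-- if all the morphisms `ιFree j ≫ p` have zero stalk map at `z` then so does `p` (finite index type) -/
theorem stalkFunctor_map_eq_zero {N : Z.Modules} {I : Type u} [Finite I]
    (p : (SheafOfModules.free I : Z.Modules) ⟶ N) (z : Z)
    (h : ∀ j : I, (stalkFunctor z).map (SheafOfModules.ιFree j ≫ p) = 0) :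
    (stalkFunctor z).map p = 0 := by
  have hcol := isColimitOfPreserves (stalkFunctor (X := Z) z) (SheafOfModules.isColimitFreeCofan (R := Z.ringCatSheaf) I)
  refine hcol.hom_ext (fun j => ?_)
  obtain ⟨j⟩ := j
  have := h j
  rw [Functor.map_comp] at this
  exact this.trans Limits.comp_zero.symm

/-- for an epimorphism from a finite free module, the locus of vanishing stalks is open -/
theorem isOpen_subsingleton_stalk {N : Z.Modules} {I : Type u} [Finite I]
    (p : (SheafOfModules.free I : Z.Modules) ⟶ N) (hp : Epi p) :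
    IsOpen {z : Z | Subsingleton (N.presheaf.stalk z)} := by
  rw [isOpen_iff_forall_mem_open]
  intro z₀ hz₀
  have hz₀' : Subsingleton (N.presheaf.stalk z₀) := hz₀
  -- sections and their vanishing neighbourhoods
  let q : I → (OZ Z ⟶ N) := fun j => SheafOfModules.ιFree j ≫ p
  have hex : ∀ j : I, ∃ V : Z.Opens, z₀ ∈ V ∧ res N (le_top : V ≤ ⊤) ((q j).app ⊤ (toSec ⊤ 1)) = 0 := by
    intro j
    have h0 : N.presheaf.germ ⊤ z₀ trivial ((q j).app ⊤ (toSec ⊤ 1)) = N.presheaf.germ ⊤ z₀ trivial 0 :=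
      Subsingleton.elim _ _
    obtain ⟨W, hzW, iU, iV, hres⟩ := TopCat.Presheaf.germ_eq N.presheaf z₀ (show z₀ ∈ (⊤ : Z.Opens) from trivial)
      (show z₀ ∈ (⊤ : Z.Opens) from trivial) _ _ h0
    refine ⟨W, hzW, ?_⟩
    have : N.presheaf.map iV.op (0 : Γ(N, ⊤)) = 0 := map_zero _
    rw [this] at hres
    exact hres
  choose V hzV hV using hex
  haveI : Fintype I := Fintype.ofFinite I
  refine ⟨⋂ j, (V j : Set Z), ?_, isOpen_iInter_of_finite (fun j => (V j).2), ?_⟩
  · intro z hz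
    have hzj : ∀ j, z ∈ V j := fun j => Set.mem_iInter.1 hz j
    have hzero : (stalkFunctor z).map p = 0 := by
      refine stalkFunctor_map_eq_zero p z (fun j => ?_)
      ext a
      exact stalkHom_unit_eq_zero (q j) (V j) (hV j) z (hzj j) a
    refine ⟨fun a b => ?_⟩
    suffices h0 : ∀ a : N.presheaf.stalk z, a = 0 by rw [h0 a, h0 b]
    intro a
    obtain ⟨b, rfl⟩ := @stalkHom_surjective_of_epi _ _ _ p hp z a
    change ((stalkFunctor z).map p).hom b = 0
    rw [hzero]
    rfl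
  · exact Set.mem_iInter.2 hzV


open AlgebraicGeometry in
/-- On a scheme X, the set of points at which the stalk of a finite type 𝒪_X-module M is nonzero (the
support of M) is closed. -/
theorem result (X : Scheme.{u}) (M : X.Modules) (hM : CohB1.IsFT M) :
    IsClosed (CohB1.support M) := by
  haveI : SheafOfModules.IsFiniteType.{u} (R := X.ringCatSheaf) M := hM
  obtain ⟨ι, U, σ, hσ, hcov, hU⟩ := Groth.Agent.Lib.Helper28.FinType.exists_isOpenCover_generatingSections M
  rw [← isOpen_compl_iff, isOpen_iff_forall_mem_open]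
  intro x hx
  have hx' : Subsingleton (M.presheaf.stalk x) := by
    by_contra h
    exact hx h
  have hxU : x ∈ ⨆ i, U i := by rw [hcov.iSup_eq_top]; trivial
  obtain ⟨i, hi⟩ := Opens.mem_iSup.mp hxU
  haveI := hσ i
  haveI : Finite (σ i).I := inferInstance
  have hopen := isOpen_subsingleton_stalk (Z := (U i : Scheme.{u})) (N := M.restrict (U i).ι) (σ i).π (σ i).epi
  -- transfer of stalks
  have hst : ∀ z : (U i : Scheme.{u}), Subsingleton ((M.restrict (U i).ι).presheaf.stalk z) ↔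
      Subsingleton (M.presheaf.stalk ((U i).ι z)) := by
    intro z
    let e := (Scheme.Modules.restrictStalkNatIso (U i).ι z).app M
    let e' : (M.restrict (U i).ι).presheaf.stalk z ≃+ M.presheaf.stalk ((U i).ι z) := e.addCommGroupIsoToAddEquiv
    exact e'.toEquiv.subsingleton_congr
  refine ⟨(U i).ι '' {z | Subsingleton ((M.restrict (U i).ι).presheaf.stalk z)}, ?_, ?_, ?_⟩
  · rintro _ ⟨z, hz, rfl⟩
    intro hmem
    exact hmem ((hst z).1 hz)
  · exact (U i).ι.isOpenEmbedding.isOpenMap _ hopen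
  · refine ⟨⟨x, hi⟩, ?_, rfl⟩
    exact (hst ⟨x, hi⟩).2 hx'

end Groth.Agent.S0020
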