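import Groth.Statements.S0796
import Groth.Agent.Lib.Helper17.StalkExact
import Groth.Agent.S0020
import Groth.Agent.Lib.Helper9.ProperOver3
import Mathlib
set_option backward.isDefEq.respectTransparency.types false

set_option autoImplicit false
universe u
open Coherent

namespace Groth.Agent.S0796
open CategoryTheory CategoryTheory.Limits Opposite TopologicalSpace AlgebraicGeometry
open Groth.Agent.Lib.Helper17.StalkExact Groth.Agent.Lib.Helper9.ProperOver

variable {X S : Scheme.{u}}

/-- the support of the middle term of a short exact sequence is the union of the outer supports. -/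
theorem support_eq_union (E : ShortComplex X.Modules) (hE : E.ShortExact) :
    CohB1.support E.X₂ = CohB1.support E.X₁ ∪ CohB1.support E.X₃ := by
  haveI := hE.mono_f
  haveI := hE.epi_g
  ext x
  simp only [CohB1.support, Set.mem_setOf_eq, Set.mem_union]
  have hinj := stalkHom_injective_of_mono E.f x
  have hsurj := stalkHom_surjective_of_epi E.g x
  have hex := stalkHom_exact_of_exact E hE.exact x
  constructor
  · intro h2
    by_contra hcon
    simp only [not_or, not_not] at hcon
    obtain ⟨h1, h3⟩ := hcon
    apply h2
    refine ⟨fun a b => ?_⟩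
    have key : ∀ z : E.X₂.presheaf.stalk x, z = 0 := by
      intro z
      obtain ⟨w, hw⟩ := (hex z).1 (h3.elim _ _)
      rw [← hw, h1.elim w 0, map_zero]
    rw [key a, key b]
  · rintro (h1 | h3) h2
    · exact h1 (hinj.subsingleton)
    · exact h3 (hsurj.subsingleton)

/-- a closed subset of a set proper over the base is proper over the base. -/
theorem isProperOver_of_subset (f : X ⟶ S) [LocallyOfFiniteType f] {Z₁ Z₂ : Set X}
    (h : Z₁ ⊆ Z₂) (hZ₁ : IsClosed Z₁) (hZ₂ : ClSub.IsProperOver f Z₂) : ClSub.IsProperOver f Z₁ := by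
  obtain ⟨hZ₂c, hp⟩ := hZ₂
  rw [isProperOver_iff f _ hZ₁]
  have hle : red Z₂ hZ₂c ≤ red Z₁ hZ₁ := Scheme.IdealSheafData.vanishingIdeal_antimono h
  have hfac : Scheme.IdealSheafData.inclusion hle ≫ (red Z₂ hZ₂c).subschemeι = (red Z₁ hZ₁).subschemeι :=
    Scheme.IdealSheafData.inclusion_subschemeι hle
  have : IsClosedImmersion (Scheme.IdealSheafData.inclusion hle) := by
    have : IsClosedImmersion (Scheme.IdealSheafData.inclusion hle ≫ (red Z₂ hZ₂c).subschemeι) := by
      rw [hfac]; infer_instance
    exact IsClosedImmersion.of_comp (Scheme.IdealSheafData.inclusion hle) (red Z₂ hZ₂c).subschemeι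
  rw [← hfac, Category.assoc]
  infer_instance


open CategoryTheory AlgebraicGeometry in
/-- Part (2), through the usual criterion for Serre subcategories. Let S be locally Noetherian and f : X
→ S locally of finite type. For a short exact sequence 0 → F₁ → F₂ → F₃ → 0 of coherent O_X-modules,
the support of F₂ is proper over S if and only if the supports of F₁ and F₃ are. -/
theorem result {X S : Scheme.{u}} (f : X ⟶ S) [LocallyOfFiniteType f]
    [IsLocallyNoetherian S] (E : ShortComplex X.Modules) (hE : E.ShortExact)
    (h₁ : Coh.IsCoh E.X₁) (h₂ : Coh.IsCoh E.X₂) (h₃ : Coh.IsCoh E.X₃) :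
    ClSub.IsProperOver f (CohB1.support E.X₂) ↔
      ClSub.IsProperOver f (CohB1.support E.X₁) ∧ ClSub.IsProperOver f (CohB1.support E.X₃) := by
  rw [support_eq_union E hE]
  have hc₁ : IsClosed (CohB1.support E.X₁) := Groth.Agent.S0020.result X E.X₁ h₁.2
  have hc₃ : IsClosed (CohB1.support E.X₃) := Groth.Agent.S0020.result X E.X₃ h₃.2
  constructor
  · intro h
    exact ⟨isProperOver_of_subset f Set.subset_union_left hc₁ h,
      isProperOver_of_subset f Set.subset_union_right hc₃ h⟩
  · rintro ⟨h1, h3⟩
    rw [Set.union_eq_iUnion]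
    refine isProperOver_iUnion f Bool _ (fun b => ?_)
    cases b
    · exact h3
    · exact h1

end Groth.Agent.S0796
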