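import Groth.Statements.S4357
import Groth.Agent.Lib.Helper17.ModStalk
import Groth.Agent.Lib.Helper17.UnramBaseChange
import Groth.Agent.Lib.Helper28.FinType
import Mathlib
set_option backward.isDefEq.respectTransparency.types false

set_option autoImplicit false
universe u
open QCohSup

namespace Groth.Agent.S4357
open AlgebraicGeometry CategoryTheory TensorProduct
open Groth.Agent.Lib.Helper17.ModStalk Groth.Agent.Lib.Helper17.ModPullback

/-- Nakayama: base change of a nonzero finite module along a local homomorphism of local rings is nonzero. -/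
theorem nontrivial_tensor_of_isLocalHom {A B M : Type*} [CommRing A] [CommRing B] [IsLocalRing A] [IsLocalRing B]
    [Algebra A B] [IsLocalHom (algebraMap A B)] [AddCommGroup M] [Module A M] [Module.Finite A M]
    [Nontrivial M] : Nontrivial (B ⊗[A] M) := by
  obtain ⟨p, hp⟩ := Module.nonempty_support_of_nontrivial (R := A) (M := M)
  have hcl : IsLocalRing.closedPoint A ∈ Module.support A M :=
    Module.mem_support_mono (IsLocalRing.le_maximalIdeal p.2.ne_top) hp
  have hcomap : PrimeSpectrum.comap (algebraMap A B) (IsLocalRing.closedPoint B) = IsLocalRing.closedPoint A :=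
    IsLocalRing.comap_closedPoint (algebraMap A B)
  have h2 : IsLocalRing.closedPoint B ∈ Module.support B (B ⊗[A] M) :=
    Groth.Agent.Lib.Helper17.UnramBaseChange.mem_support_baseChange _ (by rw [hcomap]; exact hcl)
  by_contra hnt
  rw [not_nontrivial_iff_subsingleton] at hnt
  rw [Module.support_eq_empty] at h2
  exact h2

/-- the stalk of a quasi-coherent module of finite type is a finite module -/
theorem finite_stalk {X : Scheme.{u}} (F : X.Modules) [F.IsQuasicoherent]
    [SheafOfModules.IsFiniteType.{u} (R := X.ringCatSheaf) F] (x : X) :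
    Module.Finite (X.presheaf.stalk x) (F.presheaf.stalk x) := by
  obtain ⟨U, V, hU, hV, hxU, hUV⟩ := exists_affine_pair (𝟙 X) x
  haveI := Groth.Agent.Lib.Helper28.FinType.finite_of_isAffineOpen F hU
  letI := moduleStalkSections F U x hxU
  letI algAAp : Algebra Γ(X, U) (X.presheaf.stalk x) := (X.presheaf.germ U x hxU).hom.toAlgebra
  haveI : IsScalarTower Γ(X, U) (X.presheaf.stalk x) (F.presheaf.stalk x) := IsScalarTower.of_compHom _ _ _
  haveI : IsLocalization (hU.primeIdealOf ⟨x, hxU⟩).asIdeal.primeCompl (X.presheaf.stalk x) :=
    hU.isLocalization_stalk ⟨x, hxU⟩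
  haveI := isLocalizedModule_germLinear F hU x hxU
  exact Module.Finite.of_isLocalizedModule (hU.primeIdealOf ⟨x, hxU⟩).asIdeal.primeCompl (germLinear F U x hxU)


open AlgebraicGeometry in
open CategoryTheory in
/-- Consider a scheme morphism f : Y -> X together with an O_X-module F that is quasi-coherent and of
finite type. The support of the pullback of F along f (those points of Y at which its stalk does not
vanish) coincides with the inverse image under f of the support of F. (When applied to the closed
immersions cut out by the powers of an ideal sheaf on a locally Noetherian scheme, this describes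
the support of each level of a completed coherent module.) -/
theorem result
    {X Y : Scheme.{u}} (f : Y ⟶ X) (F : X.Modules) [Coh.IsQCoh F] (hF : CohB1.IsFT F) :
    CohB1.support ((Scheme.Modules.pullback f).obj F) = f.base ⁻¹' CohB1.support F := by
  haveI : F.IsQuasicoherent := ‹Coh.IsQCoh F›
  haveI : SheafOfModules.IsFiniteType.{u} (R := X.ringCatSheaf) F := hF
  ext y
  obtain ⟨e⟩ := nonempty_linearEquiv_stalk_pullback f F y
  letI algBA : Algebra (X.presheaf.stalk (f y)) (Y.presheaf.stalk y) := (f.stalkMap y).hom.toAlgebra
  haveI : IsLocalHom (algebraMap (X.presheaf.stalk (f y)) (Y.presheaf.stalk y)) :=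
    inferInstanceAs (IsLocalHom (f.stalkMap y).hom)
  haveI := finite_stalk F (f y)
  change ¬ Subsingleton (((Scheme.Modules.pullback f).obj F).presheaf.stalk y) ↔
    ¬ Subsingleton (F.presheaf.stalk (f y))
  rw [not_iff_not]
  constructor
  · intro h
    by_contra hns
    rw [not_subsingleton_iff_nontrivial] at hns
    haveI := hns
    haveI : Nontrivial ((Y.presheaf.stalk y) ⊗[X.presheaf.stalk (f y)] (F.presheaf.stalk (f y))) :=
      nontrivial_tensor_of_isLocalHom
    haveI : Subsingleton ((Y.presheaf.stalk y) ⊗[X.presheaf.stalk (f y)] (F.presheaf.stalk (f y))) :=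
      e.symm.toEquiv.subsingleton
    exact not_subsingleton _ ‹_›
  · intro h
    haveI := h
    exact e.toEquiv.subsingleton

end Groth.Agent.S4357
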