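import Groth.Statements.S8889
import Groth.Agent.Lib.Helper29.QCohStalk

set_option autoImplicit false
universe u
open CategoryTheory CategoryTheory.Limits AlgebraicGeometry TopologicalSpace
open SDiv

namespace Groth.Agent.S8889

open Groth.Agent.Lib.Helper29.QCohStalk Groth.Agent.Lib.Helper28.QCohLoc

theorem mono_of_injective_app {X : Scheme.{u}} {F G : X.Modules} (φ : F ⟶ G)
    (h : ∀ U : X.Opens, Function.Injective (φ.app U)) : Mono φ := by
  haveI : Mono ((Scheme.Modules.toPresheaf X).map φ) := by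
    rw [Scheme.Modules.toPresheaf_map]
    haveI : ∀ U, Mono ((Scheme.Modules.Hom.mapPresheaf φ).app U) := by
      intro U
      rw [Scheme.Modules.mapPresheaf_app, AddCommGrpCat.mono_iff_injective]
      exact h U.unop
    exact NatTrans.mono_of_mono_app (Scheme.Modules.Hom.mapPresheaf φ)
  exact Functor.mono_of_mono_map (Scheme.Modules.toPresheaf X) inferInstance

theorem app_res {X : Scheme.{u}} {F G : X.Modules} (φ : F ⟶ G) {U V : X.Opens} (h : V ≤ U) (m : Γ(F, U)) :
    φ.app V (res F h m) = res G h (φ.app U m) := by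
  have := congrArg (fun ψ => ψ m) ((Scheme.Modules.Hom.mapPresheaf φ).naturality (homOfLE h).op)
  exact this

theorem stalkMap_gm {X : Scheme.{u}} {F G : X.Modules} (φ : F ⟶ G) (U : X.Opens) (x : X) (hx : x ∈ U)
    (m : Γ(F, U)) :
    (TopCat.Presheaf.stalkFunctor AddCommGrpCat.{u} x).map (Scheme.Modules.Hom.mapPresheaf φ) (gm F U x hx m) =
      gm G U x hx (φ.app U m) :=
  TopCat.Presheaf.stalkFunctor_map_germ_apply U x hx (Scheme.Modules.Hom.mapPresheaf φ) m

/-- Let X be a scheme and φ : F ⟶ G a morphism of quasi-coherent O_X-modules. Assume that for every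
point x of X either the stalk map F_x → G_x is injective or x is not a weakly associated point of F.
Then φ is injective. -/
theorem result (X : Scheme.{u}) {F G : X.Modules} (φ : F ⟶ G) (hF : Coh.IsQCoh F)
    (hG : Coh.IsQCoh G)
    (h : ∀ x : ↥X, Function.Injective ((TopCat.Presheaf.stalkFunctor AddCommGrpCat.{u} x).map (Scheme.Modules.Hom.mapPresheaf φ)) ∨ ¬ Curv2.IsWeakAssPoint F x) :
    Mono φ := by
  haveI : F.IsQuasicoherent := hF
  apply mono_of_injective_app
  intro W
  rw [injective_iff_map_eq_zero]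
  intro m hm
  refine eq_of_locally_eq F (fun V : {V : X.affineOpens // V.1 ≤ W} => V.1.1) W (fun V => V.2) ?_ m 0 ?_
  · intro x hx
    obtain ⟨_, ⟨V, hV, rfl⟩, hxV, hVW⟩ := X.isBasis_affineOpens.exists_subset_of_mem_open hx W.2
    exact TopologicalSpace.Opens.mem_iSup.2 ⟨⟨⟨V, hV⟩, hVW⟩, hxV⟩
  · intro V
    rw [res_zero]
    by_contra hne
    obtain ⟨x, hxV, hwa, hgm⟩ := exists_isWeakAssPoint_of_ne_zero V.1.2
      (isLocOn_of_isQuasicoherent F V.1.2) _ hne
    rcases h x with hinj | hnw
    · apply hgm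
      apply hinj
      rw [stalkMap_gm, app_res, hm, res_zero, gm_zero]
      exact (map_zero _).symm
    · exact hnw hwa

end Groth.Agent.S8889
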