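import Groth.Statements.S1707
import Groth.Agent.Lib.Helper29.QCohStalk

set_option autoImplicit false
universe u
open CategoryTheory CategoryTheory.Limits AlgebraicGeometry TopologicalSpace
open SDiv

namespace Groth.Agent.S1707

open Groth.Agent.Lib.Helper29.QCohStalk Groth.Agent.Lib.Helper28.QCohLoc


/-- Let X be a scheme, F a quasi-coherent module and x a point of the support of F such that no other
point of the support specializes to x. Then x is weakly associated to F. -/
theorem result (X : Scheme.{u}) (F : X.Modules) (hF : Coh.IsQCoh F) (x : ↥X)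
    (hx : x ∈ CohB1.support F) (hmax : ∀ y : ↥X, y ∈ CohB1.support F → y ⤳ x → y = x) : Curv2.IsWeakAssPoint F x := by
  haveI : F.IsQuasicoherent := hF
  obtain ⟨_, ⟨U, (hU : IsAffineOpen U), rfl⟩, hxU, -⟩ := X.isBasis_affineOpens.exists_subset_of_mem_open
    (show x ∈ (⊤ : X.Opens) from trivial) (⊤ : X.Opens).2
  have hloc := isLocOn_of_isQuasicoherent F hU
  obtain ⟨P, rfl⟩ := exists_fromSpec_eq hU hxU
  obtain ⟨m, hm⟩ := (mem_support_iff hU hloc _ hxU).1 hx
  rw [germPrime_fromSpec] at hm
  obtain ⟨q, hq, hqP⟩ := Ideal.exists_minimalPrimes_le hm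
  let Q : PrimeSpectrum Γ(X, U) := ⟨q, hq.1.1⟩
  have hspec : hU.fromSpec Q ⤳ hU.fromSpec P :=
    ((PrimeSpectrum.le_iff_specializes Q P).1 hqP).map hU.fromSpec.continuous
  have hsupp : hU.fromSpec Q ∈ CohB1.support F := by
    rw [mem_support_iff hU hloc _ (fromSpec_mem hU Q)]
    refine ⟨m, ?_⟩
    rw [germPrime_fromSpec]
    exact hq.1.2
  have heq := hmax _ hsupp hspec
  rw [← heq]
  exact isWeakAssPoint_fromSpec hU hloc Q m hq

end Groth.Agent.S1707
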