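import Groth.Statements.S4636
import Groth.Agent.S1707
import Groth.Agent.Lib.Helper29.QCohStalk2

set_option autoImplicit false
open CategoryTheory AlgebraicGeometry
universe u
open AssSch

namespace Groth.Agent.S4636

open TopologicalSpace
open Groth.Agent.Lib.Helper29.QCohStalk Groth.Agent.Lib.Helper28.QCohLoc

theorem nontrivial_stalk_of_isWeakAssPoint {X : Scheme.{u}} (F : X.Modules) (x : X)
    (h : Curv2.IsWeakAssPoint F x) : Nontrivial ↑(F.presheaf.stalk x) := by
  rw [isWeakAssPoint_def] at h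
  obtain ⟨μ, hμ⟩ := h
  refine ⟨⟨μ, 0, ?_⟩⟩
  rintro rfl
  have : (1 : X.presheaf.stalk x) ∈ (ann (R := X.presheaf.stalk x) (0 : F.presheaf.stalk x)).radical :=
    Ideal.le_radical ((mem_ann _ _).2 (smul_zero _))
  rw [hμ] at this
  exact (IsLocalRing.maximalIdeal.isMaximal _).ne_top ((Ideal.eq_top_iff_one _).2 this)

theorem mem_support_iff_nontrivial {X : Scheme.{u}} (F : X.Modules) (x : X) :
    x ∈ CohB1.support F ↔ Nontrivial ↑(F.presheaf.stalk x) := by
  unfold CohB1.support
  rw [Set.mem_ofPred_eq, not_subsingleton_iff_nontrivial]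

/-- below every point of the support there is a weakly associated point -/
theorem exists_isWeakAssPoint_specializes {X : Scheme.{u}} (F : X.Modules) [F.IsQuasicoherent] (y : X)
    (hy : y ∈ CohB1.support F) : ∃ z : X, Curv2.IsWeakAssPoint F z ∧ z ⤳ y := by
  obtain ⟨_, ⟨U, (hU : IsAffineOpen U), rfl⟩, hyU, -⟩ := X.isBasis_affineOpens.exists_subset_of_mem_open
    (show y ∈ (⊤ : X.Opens) from trivial) (⊤ : X.Opens).2
  have hloc := isLocOn_of_isQuasicoherent F hU
  obtain ⟨P, rfl⟩ := exists_fromSpec_eq hU hyU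
  obtain ⟨m, hm⟩ := (mem_support_iff hU hloc _ hyU).1 hy
  rw [germPrime_fromSpec] at hm
  obtain ⟨q, hq, hqP⟩ := Ideal.exists_minimalPrimes_le hm
  let Q : PrimeSpectrum Γ(X, U) := ⟨q, hq.1.1⟩
  exact ⟨hU.fromSpec Q, isWeakAssPoint_fromSpec hU hloc Q m hq,
    ((PrimeSpectrum.le_iff_specializes Q P).1 hqP).map hU.fromSpec.continuous⟩

/-- Let X be a locally Noetherian scheme, F a coherent O_X-module and x a point of X. Then x is a
maximal associated point of F (an associated point such that every associated point specialising to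
x equals x) if and only if x is the generic point of an irreducible component of Supp F, i.e. F_x ≠
0 and every point y with F_y ≠ 0 that specialises to x equals x. -/
theorem result {X : Scheme.{u}} [IsLocallyNoetherian X] (F : X.Modules)
    (hF : Coh.IsCoh F) (x : X) :
    (x ∈ AssSch.Ass F ∧ ∀ y ∈ AssSch.Ass F, y ⤳ x → y = x) ↔
      (Nontrivial ↑(F.presheaf.stalk x) ∧ ∀ y : X, Nontrivial ↑(F.presheaf.stalk y) → y ⤳ x → y = x) := by
  haveI : F.IsQuasicoherent := hF.1
  constructor
  · rintro ⟨hx, hmax⟩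
    have hwa := (isAssPoint_iff_isWeakAssPoint F x).1 hx
    refine ⟨nontrivial_stalk_of_isWeakAssPoint F x hwa, fun y hy hyx => ?_⟩
    obtain ⟨z, hz, hzy⟩ := exists_isWeakAssPoint_specializes F y ((mem_support_iff_nontrivial F y).2 hy)
    have hzx : z = x := hmax z ((isAssPoint_iff_isWeakAssPoint F z).2 hz) (hzy.trans hyx)
    rw [hzx] at hzy
    exact (hzy.antisymm hyx).symm.eq
  · rintro ⟨hx, hmax⟩
    refine ⟨(isAssPoint_iff_isWeakAssPoint F x).2 (Groth.Agent.S1707.result X F hF.1 x
      ((mem_support_iff_nontrivial F x).2 hx) fun y hy hyx =>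
        hmax y ((mem_support_iff_nontrivial F y).1 hy) hyx), fun y hy hyx => ?_⟩
    exact hmax y (nontrivial_stalk_of_isWeakAssPoint F y ((isAssPoint_iff_isWeakAssPoint F y).1 hy)) hyx

end Groth.Agent.S4636
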