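import Groth.Statements.S4637
import Groth.Agent.S4636
import Groth.Agent.Lib.Helper28.FinType

set_option autoImplicit false
open CategoryTheory AlgebraicGeometry
universe u
open AssSch

namespace Groth.Agent.S4637

open TopologicalSpace
open Groth.Agent.Lib.Helper29.QCohStalk Groth.Agent.Lib.Helper28.QCohLoc

/-- a finite module over a Noetherian local ring killed by a power of the maximal ideal has finite length -/
theorem isFiniteLength_of_pow_le_annihilator {A N : Type*} [CommRing A] [IsLocalRing A] [IsNoetherianRing A]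
    [AddCommGroup N] [Module A N] [Module.Finite A N] (k : ℕ)
    (hk : IsLocalRing.maximalIdeal A ^ k ≤ Module.annihilator A N) : IsFiniteLength A N := by
  rw [isFiniteLength_iff_isNoetherian_isArtinian]
  refine ⟨inferInstance, ?_⟩
  set I : Ideal A := IsLocalRing.maximalIdeal A ^ (k + 1) with hI
  have hIle : I ≤ Module.annihilator A N := (Ideal.pow_le_pow_right (Nat.le_succ k)).trans hk
  have hImin : IsLocalRing.maximalIdeal A ∈ I.minimalPrimes := by
    refine ⟨⟨inferInstance, Ideal.pow_le_self (Nat.succ_ne_zero k)⟩, ?_⟩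
    rintro q ⟨hq, hle⟩ -
    exact hq.le_of_pow_le hle
  haveI : IsArtinianRing (A ⧸ I) := IsLocalRing.quotient_artinian_of_mem_minimalPrimes_of_isLocalRing I hImin
  have hM : Module.IsTorsionBySet A N (I : Set A) := fun x a => (Module.mem_annihilator.1 (hIle a.2)) x
  letI := hM.module
  haveI : IsScalarTower A (A ⧸ I) N := hM.isScalarTower
  haveI : Module.Finite (A ⧸ I) N := Module.Finite.of_restrictScalars_finite A (A ⧸ I) N
  haveI : IsArtinian (A ⧸ I) N := isArtinian_of_fg_of_artinian'
  exact isArtinian_of_surjective_algebraMap (R := A ⧸ I) (S := A) Ideal.Quotient.mk_surjective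

/-- an Artinian finite module over a Noetherian local ring is killed by a power of the maximal ideal -/
theorem exists_pow_smul_top_eq_bot {A N : Type*} [CommRing A] [IsLocalRing A] [IsNoetherianRing A]
    [AddCommGroup N] [Module A N] [Module.Finite A N] [IsArtinian A N] :
    ∃ k : ℕ, IsLocalRing.maximalIdeal A ^ k • (⊤ : Submodule A N) = ⊥ := by
  let qs : ℕ →o (Submodule A N)ᵒᵈ :=
    { toFun n := OrderDual.toDual (IsLocalRing.maximalIdeal A ^ n • (⊤ : Submodule A N))
      monotone' i j e := Submodule.smul_mono_left (Ideal.pow_le_pow_right e) }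
  obtain ⟨n, hn⟩ := IsArtinian.monotone_stabilizes qs
  refine ⟨n, ?_⟩
  have h1 : IsLocalRing.maximalIdeal A ^ n • (⊤ : Submodule A N) =
      IsLocalRing.maximalIdeal A ^ (n + 1) • (⊤ : Submodule A N) := congrArg OrderDual.ofDual (hn (n + 1) (Nat.le_succ n))
  refine Submodule.eq_bot_of_le_smul_of_le_jacobson_bot (IsLocalRing.maximalIdeal A) _
    (IsNoetherian.noetherian _) ?_ (IsLocalRing.maximalIdeal_le_jacobson ⊥)
  conv_lhs => rw [h1]
  rw [pow_succ', mul_smul]

/-- the stalk of a quasi-coherent module with finitely generated sections is a finite module over the local ring -/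
theorem finite_stalk {X : Scheme.{u}} (F : X.Modules) {U : X.Opens} (hU : IsAffineOpen U) (hloc : IsLocOn F U)
    [Module.Finite Γ(X, U) Γ(F, U)] (x : X) (hx : x ∈ U) :
    Module.Finite (X.presheaf.stalk x) (F.presheaf.stalk x) := by
  obtain ⟨S, hS⟩ := (Module.Finite.fg_top : (⊤ : Submodule Γ(X, U) Γ(F, U)).FG)
  classical
  refine ⟨⟨S.image (gm F U x hx), ?_⟩⟩
  rw [eq_top_iff]
  intro ν _
  have key : ∀ m : Γ(F, U), gm F U x hx m ∈ Submodule.span (X.presheaf.stalk x)
      ((S.image (gm F U x hx) : Finset _) : Set (F.presheaf.stalk x)) := by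
    intro m
    have hmS : m ∈ Submodule.span Γ(X, U) (S : Set Γ(F, U)) := by rw [hS]; trivial
    induction hmS using Submodule.span_induction with
    | mem y hy => exact Submodule.subset_span (Finset.mem_coe.2 (Finset.mem_image_of_mem _ hy))
    | zero => rw [gm_zero]; exact Submodule.zero_mem _
    | add y z _ _ hy hz =>
      have : gm F U x hx (y + z) = gm F U x hx y + gm F U x hx z := map_add _ _ _
      rw [this]; exact Submodule.add_mem _ hy hz
    | smul r y _ hy => rw [gm_smul]; exact Submodule.smul_mem _ _ hy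
  obtain ⟨t, m, ht, htm⟩ := exists_germ_smul_eq F hU hloc x hx ν
  have hm := key m
  obtain ⟨v, hv⟩ := ht
  have : ν = (↑v⁻¹ : X.presheaf.stalk x) • gm F U x hx m := by
    rw [← htm, ← hv, smul_smul, Units.inv_mul, one_smul]
  rw [this]
  exact Submodule.smul_mem _ _ hm

/-- Let X be a locally Noetherian scheme, F a coherent O_X-module and x a point of X. Then x is the
generic point of an irreducible component of Supp F (F_x ≠ 0 and every point y with F_y ≠ 0 that
specialises to x equals x) if and only if F_x is a nonzero module of finite length over the local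
ring O_{X,x}. -/
theorem result {X : Scheme.{u}} [IsLocallyNoetherian X] (F : X.Modules)
    (hF : Coh.IsCoh F) (x : X) :
    (Nontrivial ↑(F.presheaf.stalk x) ∧ ∀ y : X, Nontrivial ↑(F.presheaf.stalk y) → y ⤳ x → y = x) ↔
      (Nontrivial ↑(F.presheaf.stalk x) ∧ IsFiniteLength ↑(X.presheaf.stalk x) ↑(F.presheaf.stalk x)) := by
  haveI : F.IsQuasicoherent := hF.1
  haveI : SheafOfModules.IsFiniteType.{u} (R := X.ringCatSheaf) F := hF.2
  obtain ⟨U, hU0, hxU, -⟩ := (Opens.isBasis_iff_nbhd.1 X.isBasis_affineOpens) (show x ∈ (⊤ : X.Opens) from trivial)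
  have hU : IsAffineOpen U := hU0
  have hloc := isLocOn_of_isQuasicoherent F hU
  haveI : Module.Finite Γ(X, U) Γ(F, U) := Groth.Agent.Lib.Helper28.FinType.finite_of_isAffineOpen F hU
  haveI : IsNoetherianRing Γ(X, U) := IsLocallyNoetherian.component_noetherian ⟨U, hU⟩
  haveI hfinN : Module.Finite (X.presheaf.stalk x) (F.presheaf.stalk x) := finite_stalk F hU hloc x hxU
  refine and_congr_right fun hnt => ⟨fun hmax => ?_, fun hfl y hy hyx => ?_⟩
  · -- (⇒)
    -- the prime of `x` is minimal over the annihilator of the sections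
    have hPmin : germPrime U x hxU ∈ (Module.annihilator Γ(X, U) Γ(F, U)).minimalPrimes := by
      obtain ⟨m0, hm0⟩ := (mem_support_iff hU hloc x hxU).1 ((Groth.Agent.S4636.mem_support_iff_nontrivial F x).2 hnt)
      refine ⟨⟨inferInstance, fun c hc => hm0 ((mem_ann m0 c).2 ((Module.mem_annihilator.1 hc) m0))⟩, ?_⟩
      rintro q ⟨hq, hle⟩ hqP
      let Q : PrimeSpectrum Γ(X, U) := ⟨q, hq⟩
      have hQU := fromSpec_mem hU Q
      have hgQ := germPrime_fromSpec hU Q
      have hspec : hU.fromSpec Q ⤳ x := by
        refine specializes_of_germPrime_le hU _ _ hQU hxU ?_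
        rw [hgQ]; exact hqP
      have hsupp : hU.fromSpec Q ∈ CohB1.support F := by
        rw [mem_support_iff hU hloc _ hQU, hgQ]
        by_contra hno
        push Not at hno
        have hex : ∀ m : Γ(F, U), ∃ c : Γ(X, U), c ∈ ann (R := Γ(X, U)) m ∧ c ∉ q := fun m =>
          SetLike.not_le_iff_exists.1 (hno m)
        choose c hc1 hc2 using hex
        obtain ⟨S, hS⟩ := (Module.Finite.fg_top : (⊤ : Submodule Γ(X, U) Γ(F, U)).FG)
        classical
        have hCq : (∏ m ∈ S, c m) ∉ q := by
          rw [Ideal.IsPrime.prod_mem_iff]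
          rintro ⟨m, -, hm⟩
          exact hc2 m hm
        apply hCq
        apply hle
        rw [Module.mem_annihilator]
        intro m
        have hm : m ∈ Submodule.span Γ(X, U) (S : Set Γ(F, U)) := by rw [hS]; trivial
        induction hm using Submodule.span_induction with
        | mem y hy =>
          rw [← Finset.mul_prod_erase S c hy, mul_comm, mul_smul, (mem_ann y _).1 (hc1 y), smul_zero]
        | zero => rw [smul_zero]
        | add y z _ _ hy hz => rw [smul_add, hy, hz, add_zero]
        | smul r y _ hy => rw [smul_comm, hy, smul_zero]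
      have hyx := hmax _ ((Groth.Agent.S4636.mem_support_iff_nontrivial F _).1 hsupp) hspec
      have key2 : ∀ (z : X) (hz : z ∈ U), z = x → germPrime U z hz = germPrime U x hxU := by
        intro z hz h; subst h; rfl
      rw [← key2 _ hQU hyx, hgQ]
    -- every element of the maximal ideal acts nilpotently
    have hrad : IsLocalRing.maximalIdeal (X.presheaf.stalk x) ≤
        (Module.annihilator (X.presheaf.stalk x) (F.presheaf.stalk x)).radical := by
      intro α hα
      obtain ⟨a, t, ht, hat⟩ := stalk_affine_surj hU x hxU α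
      have haP : a ∈ germPrime U x hxU := by
        rw [mem_germPrime_iff, ← hat]
        intro hu
        rw [IsLocalRing.mem_maximalIdeal, mem_nonunits_iff] at hα
        exact hα (isUnit_of_mul_isUnit_left hu)
      obtain ⟨s, hsP, n, hsn⟩ := exists_mul_pow_mem_of_mem_minimalPrimes hPmin haP
      have hsu := (notMem_germPrime_iff U x hxU s).1 hsP
      refine ⟨n, ?_⟩
      rw [Module.mem_annihilator]
      intro ν
      obtain ⟨t', m, ht', htm⟩ := exists_germ_smul_eq F hU hloc x hxU ν
      have h1 : X.presheaf.germ U x hxU (s * a ^ n) • gm F U x hxU m = 0 := by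
        rw [← gm_smul, (Module.mem_annihilator.1 hsn) m, gm_zero]
      rw [map_mul, mul_smul] at h1
      have h2 : X.presheaf.germ U x hxU (a ^ n) • gm F U x hxU m = 0 := eq_zero_of_isUnit_smul hsu h1
      rw [← htm, smul_comm] at h2
      have h3 : X.presheaf.germ U x hxU (a ^ n) • ν = 0 := eq_zero_of_isUnit_smul ht' h2
      rw [map_pow, ← hat, mul_pow, mul_comm, mul_smul] at h3
      exact eq_zero_of_isUnit_smul (ht.pow n) h3
    obtain ⟨K, hK⟩ := Ideal.exists_pow_le_of_le_radical_of_fg hrad (IsNoetherian.noetherian _)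
    exact isFiniteLength_of_pow_le_annihilator K hK
  · -- (⇐)
    have hyU : y ∈ U := hyx.mem_open U.2 hxU
    obtain ⟨m, hm⟩ := (mem_support_iff hU hloc y hyU).1 ((Groth.Agent.S4636.mem_support_iff_nontrivial F y).2 hy)
    haveI : IsArtinian (X.presheaf.stalk x) (F.presheaf.stalk x) :=
      (isFiniteLength_iff_isNoetherian_isArtinian.1 hfl).2
    obtain ⟨k, hk⟩ := exists_pow_smul_top_eq_bot (A := X.presheaf.stalk x) (N := F.presheaf.stalk x)
    have hle : germPrime U x hxU ≤ germPrime U y hyU := by
      intro a ha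
      have hga : X.presheaf.germ U x hxU a ∈ IsLocalRing.maximalIdeal (X.presheaf.stalk x) := by
        rw [IsLocalRing.mem_maximalIdeal, mem_nonunits_iff]
        exact (mem_germPrime_iff U x hxU a).1 ha
      have h0 : X.presheaf.germ U x hxU a ^ k • gm F U x hxU m ∈
          IsLocalRing.maximalIdeal (X.presheaf.stalk x) ^ k • (⊤ : Submodule (X.presheaf.stalk x) (F.presheaf.stalk x)) :=
        Submodule.smul_mem_smul (Ideal.pow_mem_pow hga k) Submodule.mem_top
      rw [hk, Submodule.mem_bot, ← map_pow, ← gm_smul] at h0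
      obtain ⟨t, ht, htm⟩ := exists_smul_eq_zero_of_gm_eq_zero F hU hloc x hxU _ h0
      have hmem : t * a ^ k ∈ ann (R := Γ(X, U)) m := by
        rw [mem_ann, mul_smul]; exact htm
      have hPy : (germPrime U y hyU).IsPrime := inferInstance
      rcases hPy.mem_or_mem (hm hmem) with h1 | h1
      · exfalso
        have htx : t ∈ germPrime U x hxU := germPrime_le_of_specializes y x hyU hxU hyx h1
        exact ((mem_germPrime_iff U x hxU t).1 htx) ht
      · exact hPy.mem_of_pow_mem k h1
    have hxy : x ⤳ y := specializes_of_germPrime_le hU x y hxU hyU hle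
    exact (hyx.antisymm hxy).eq

end Groth.Agent.S4637
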