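import Groth.Statements.S8887
import Groth.Agent.Lib.Helper29.FreeIso
import Groth.Agent.S4637

set_option autoImplicit false
universe u
open CategoryTheory CategoryTheory.Limits AlgebraicGeometry TopologicalSpace
open SDiv

namespace Groth.Agent.S8887

open Groth.Agent.Lib.Helper29.QCohStalk Groth.Agent.Lib.Helper28.QCohLoc

theorem restrict_smul' {X : Scheme.{u}} (M : X.Modules) (U : X.Opens) (W : U.toScheme.Opens) (c : Γ(↑U, W))
    (t : Γ(M.restrict U.ι, W)) :
    c • t = ((show Γ(X, U.ι ''ᵁ W) from c) • (show Γ(M, U.ι ''ᵁ W) from t) : Γ(M, U.ι ''ᵁ W)) := by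
  have h : c • t = (((U.ι.appIso W).inv c) • (show Γ(M, U.ι ''ᵁ W) from t) : Γ(M, U.ι ''ᵁ W)) := rfl
  rw [h]
  congr 1
  rw [Scheme.Opens.ι_appIso]
  rfl

theorem res_restrict {X : Scheme.{u}} (M : X.Modules) (U : X.Opens) {W W' : (U : Scheme.{u}).Opens} (h : W ≤ W')
    (t : Γ(M.restrict U.ι, W')) :
    res (M.restrict U.ι) h t = res M (show U.ι ''ᵁ W ≤ U.ι ''ᵁ W' from (U.ι.image_le_image_iff _ _).2 h)
      (show Γ(M, U.ι ''ᵁ W') from t) := rfl

/-- pure algebra: clearing denominators over a finite generating set -/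
theorem exists_prod_smul_eq_sum {R M : Type*} [CommRing R] [AddCommGroup M] [Module R M] (S : Finset M)
    (hS : Submodule.span R (S : Set M) = ⊤) {r : ℕ} (σ : Fin r → M) (fm : M → R) (cm : M → Fin r → R)
    (hcm : ∀ m, fm m • m = ∑ j, cm m j • σ j) (m : M) :
    ∃ c : Fin r → R, (∏ s ∈ S, fm s) • m = ∑ j, c j • σ j := by
  classical
  have hm : m ∈ Submodule.span R (S : Set M) := by rw [hS]; trivial
  induction hm using Submodule.span_induction with
  | mem y hy =>
    refine ⟨fun j => (∏ s ∈ S.erase y, fm s) * cm y j, ?_⟩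
    rw [← Finset.mul_prod_erase S fm hy, mul_comm, mul_smul, hcm y, Finset.smul_sum]
    refine Finset.sum_congr rfl fun j _ => ?_
    exact (mul_smul _ _ _).symm
  | zero => exact ⟨fun _ => 0, by simp⟩
  | add y z _ _ hy hz =>
    obtain ⟨c1, h1⟩ := hy
    obtain ⟨c2, h2⟩ := hz
    refine ⟨fun j => c1 j + c2 j, ?_⟩
    rw [smul_add, h1, h2, ← Finset.sum_add_distrib]
    refine Finset.sum_congr rfl fun j _ => ?_
    exact (add_smul _ _ _).symm
  | smul a y _ hy =>
    obtain ⟨c1, h1⟩ := hy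
    refine ⟨fun j => a * c1 j, ?_⟩
    rw [smul_comm, h1, Finset.smul_sum]
    refine Finset.sum_congr rfl fun j _ => ?_
    exact (mul_smul _ _ _).symm

/-- Step C: every section over the chart is, up to a function invertible at `ξ`, a combination of sections whose
germs span the stalk. -/
theorem exists_smul_eq_sum {X : Scheme.{u}} (F : X.Modules) {U₀ : X.Opens} (hU₀ : IsAffineOpen U₀)
    (hloc : IsLocOn F U₀) (ξ : X) (hξ : ξ ∈ U₀) {r : ℕ} (σ : Fin r → Γ(F, U₀))
    (hspan : Submodule.span (X.presheaf.stalk ξ) (Set.range fun j => gm F U₀ ξ hξ (σ j)) = ⊤)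
    (m : Γ(F, U₀)) :
    ∃ f : Γ(X, U₀), IsUnit (X.presheaf.germ U₀ ξ hξ f) ∧ ∃ c : Fin r → Γ(X, U₀), f • m = ∑ j, c j • σ j := by
  have hm : gm F U₀ ξ hξ m ∈ Submodule.span (X.presheaf.stalk ξ) (Set.range fun j => gm F U₀ ξ hξ (σ j)) := by
    rw [hspan]; trivial
  obtain ⟨κ, hκ⟩ := (Submodule.mem_span_range_iff_exists_fun _).1 hm
  have hex : ∀ j : Fin r, ∃ s g : Γ(X, U₀), IsUnit (X.presheaf.germ U₀ ξ hξ g) ∧
      κ j * X.presheaf.germ U₀ ξ hξ g = X.presheaf.germ U₀ ξ hξ s := fun j => stalk_affine_surj hU₀ ξ hξ (κ j)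
  choose s g hg hsg using hex
  classical
  have hdu : IsUnit (X.presheaf.germ U₀ ξ hξ (∏ j, g j)) := by
    rw [map_prod]
    exact IsUnit.prod_univ_iff.2 fun j => hg j
  have hda : ∀ j, X.presheaf.germ U₀ ξ hξ (∏ j, g j) * κ j =
      X.presheaf.germ U₀ ξ hξ (s j * ∏ i ∈ Finset.univ.erase j, g i) := by
    intro j
    rw [map_mul, ← hsg j, ← Finset.mul_prod_erase Finset.univ g (Finset.mem_univ j), map_mul]
    ring
  have h0 : gm F U₀ ξ hξ ((∏ j, g j) • m - ∑ j, (s j * ∏ i ∈ Finset.univ.erase j, g i) • σ j) = 0 := by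
    have h1 : gm F U₀ ξ hξ ((∏ j, g j) • m - ∑ j, (s j * ∏ i ∈ Finset.univ.erase j, g i) • σ j) =
        gm F U₀ ξ hξ ((∏ j, g j) • m) - ∑ j, gm F U₀ ξ hξ ((s j * ∏ i ∈ Finset.univ.erase j, g i) • σ j) := by
      have := map_sub (ConcreteCategory.hom (F.presheaf.germ U₀ ξ hξ)) ((∏ j, g j) • m)
        (∑ j, (s j * ∏ i ∈ Finset.univ.erase j, g i) • σ j)
      rw [map_sum] at this
      exact this
    rw [h1, gm_smul, ← hκ, Finset.smul_sum, sub_eq_zero]
    refine Finset.sum_congr rfl fun j _ => ?_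
    rw [gm_smul, smul_smul, hda j]
  obtain ⟨t, ht, htm⟩ := exists_smul_eq_zero_of_gm_eq_zero F hU₀ hloc ξ hξ _ h0
  refine ⟨t * ∏ j, g j, ?_, fun j => t * (s j * ∏ i ∈ Finset.univ.erase j, g i), ?_⟩
  · rw [map_mul]; exact ht.mul hdu
  · rw [smul_sub, sub_eq_zero, Finset.smul_sum] at htm
    rw [mul_smul, htm]
    refine Finset.sum_congr rfl fun j _ => ?_
    exact (mul_smul _ _ _).symm

/-- independence over every open of the restricted sections -/
theorem independent_of_li {X : Scheme.{u}} [IsIntegral X] (F : X.Modules) {U₀ : X.Opens}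
    (hξ : genericPoint X ∈ U₀) {r : ℕ} (σ : Fin r → Γ(F, U₀))
    (hli : LinearIndependent (X.presheaf.stalk (genericPoint X)) (fun j => gm F U₀ (genericPoint X) hξ (σ j)))
    (V : X.Opens) (hV : V ≤ U₀) (c : Fin r → Γ(X, V))
    (hc : (∑ j : Fin r, c j • res F hV (σ j) : Γ(F, V)) = 0) (j : Fin r) : c j = 0 := by
  by_cases hne : (V : Set X).Nonempty
  · have hξV : genericPoint X ∈ V :=
      ((genericPoint_spec X).mem_open_set_iff V.isOpen).2 (by simpa [Set.inter_univ] using hne)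
    have h1 := congrArg (gm F V (genericPoint X) hξV) hc
    rw [gm_zero] at h1
    have h2 : gm F V (genericPoint X) hξV (∑ j : Fin r, c j • res F hV (σ j))
        = ∑ j : Fin r, X.presheaf.germ V (genericPoint X) hξV (c j) • gm F U₀ (genericPoint X) hξ (σ j) := by
      have := map_sum (ConcreteCategory.hom (F.presheaf.germ V (genericPoint X) hξV))
        (fun j : Fin r => c j • res F hV (σ j)) Finset.univ
      refine this.trans ?_
      refine Finset.sum_congr rfl fun j _ => ?_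
      have h3 := gm_smul F V (genericPoint X) hξV (c j) (res F hV (σ j))
      rw [gm_res] at h3
      exact h3
    rw [h2] at h1
    have h4 := (Fintype.linearIndependent_iff.1 hli) _ h1 j
    exact germ_injective_of_isIntegral X (genericPoint X) hξV (h4.trans (map_zero _).symm)
  · have hbot : V = ⊥ := by
      ext y
      simp only [Opens.coe_bot, Set.mem_empty_iff_false, iff_false]
      intro hy
      exact hne ⟨y, hy⟩
    subst hbot
    exact Subsingleton.elim _ _

/-- local generation on `D(f)` -/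
theorem generated_of_smul {X : Scheme.{u}} (F : X.Modules) {U₀ : X.Opens} (hU₀ : IsAffineOpen U₀)
    (hloc : IsLocOn F U₀) {r : ℕ} (σ : Fin r → Γ(F, U₀)) (f : Γ(X, U₀))
    (hD : ∀ m : Γ(F, U₀), ∃ c : Fin r → Γ(X, U₀), f • m = ∑ j, c j • σ j)
    (V : X.Opens) (hVf : V ≤ X.basicOpen f) (t : Γ(F, V)) (pt : X) (hpt : pt ∈ V) :
    ∃ (g : Γ(X, U₀)), pt ∈ X.basicOpen g ∧ X.basicOpen g ≤ V ∧
      ∀ (V₁ : X.Opens) (h1 : V₁ ≤ X.basicOpen g) (h2 : V₁ ≤ V) (h3 : V₁ ≤ U₀), ∃ c : Fin r → Γ(X, V₁),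
        res F h2 t = ∑ j, c j • res F h3 (σ j) := by
  have hVU₀ : V ≤ U₀ := hVf.trans (X.basicOpen_le f)
  obtain ⟨g, hgV, hptg⟩ := hU₀.exists_basicOpen_le (V := V) ⟨pt, hpt⟩ (hVU₀ hpt)
  refine ⟨g, hptg, hgV, ?_⟩
  intro V₁ h1 h2 h3
  obtain ⟨n, m, hm⟩ := hloc.surj g (res F hgV t)
  obtain ⟨dc, hdc⟩ := hD m
  have hV₁f : V₁ ≤ X.basicOpen f := h2.trans hVf
  have hfunit : IsUnit (resO h3 f) := by
    have h1' : IsUnit (resO (X.basicOpen_le f) f) := RingedSpace.isUnit_res_basicOpen _ f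
    have h2' : resO h3 f = resO hV₁f (resO (X.basicOpen_le f) f) := by rw [resO_resO]
    rw [h2']
    exact h1'.map _
  have hgunit : IsUnit (resO h3 g) := by
    have h1' : IsUnit (resO (X.basicOpen_le g) g) := RingedSpace.isUnit_res_basicOpen _ g
    have h2' : resO h3 g = resO h1 (resO (X.basicOpen_le g) g) := by rw [resO_resO]
    rw [h2']
    exact h1'.map _
  obtain ⟨u, hu⟩ := hfunit.mul (hgunit.pow n)
  have hm' := congrArg (res F h1) hm
  rw [res_smul, res_res, res_res, resO_pow, resO_resO] at hm'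
  have hdc' := congrArg (res F h3) hdc
  rw [res_smul] at hdc'
  have hsum : res F h3 (∑ j, dc j • σ j) = ∑ j, resO h3 (dc j) • res F h3 (σ j) := by
    have := map_sum (ConcreteCategory.hom (F.presheaf.map (homOfLE h3).op)) (fun j => dc j • σ j) Finset.univ
    refine this.trans ?_
    refine Finset.sum_congr rfl fun j _ => ?_
    exact res_smul F h3 (dc j) (σ j)
  rw [hsum] at hdc'
  refine ⟨fun j => (↑u⁻¹ : Γ(X, V₁)) * resO h3 (dc j), ?_⟩
  have h5 : (↑u : Γ(X, V₁)) • res F h2 t = ∑ j, resO h3 (dc j) • res F h3 (σ j) := by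
    rw [hu, mul_smul, hm', hdc']
  have h6 := congrArg (fun z => (↑u⁻¹ : Γ(X, V₁)) • z) h5
  simp only [smul_smul, Units.inv_mul, one_smul, Finset.smul_sum] at h6
  exact h6
/-- assembly over an open `U ≤ D(f)` -/
theorem nonempty_iso_free_of_le {X : Scheme.{u}} [IsIntegral X] (F : X.Modules) {U₀ : X.Opens}
    (hU₀ : IsAffineOpen U₀) (hloc : IsLocOn F U₀) (hξ : genericPoint X ∈ U₀) {r : ℕ} (σ : Fin r → Γ(F, U₀))
    (hli : LinearIndependent (X.presheaf.stalk (genericPoint X)) (fun j => gm F U₀ (genericPoint X) hξ (σ j)))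
    (f : Γ(X, U₀)) (hD : ∀ m : Γ(F, U₀), ∃ c : Fin r → Γ(X, U₀), f • m = ∑ j, c j • σ j)
    (U : X.Opens) (hUf : U ≤ X.basicOpen f) : Nonempty (F.restrict U.ι ≅ FlatMod.freeMod (↑U) r) := by
  have hUle : U ≤ U₀ := hUf.trans (X.basicOpen_le f)
  have himgU : ∀ W : (U : Scheme.{u}).Opens, U.ι ''ᵁ W ≤ U := fun W => by
    intro y hy
    obtain ⟨z, -, rfl⟩ := hy
    exact z.2
  have himg : ∀ W : (U : Scheme.{u}).Opens, U.ι ''ᵁ W ≤ U₀ := fun W => (himgU W).trans hUle
  let τ : Fin r → Γ(F.restrict U.ι, ⊤) := fun j => res F (himg ⊤) (σ j)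
  have hτres : ∀ (W : (U : Scheme.{u}).Opens) (j : Fin r),
      res (F.restrict U.ι) (le_top : W ≤ ⊤) (τ j) = res F (himg W) (σ j) := by
    intro W j
    rw [res_restrict]
    exact res_res F _ _ (σ j)
  refine Groth.Agent.Lib.Helper29.FreeIso.nonempty_iso_freeMod (F.restrict U.ι) τ ?_ ?_
  · -- independence
    intro W c hc j
    have hc' : (∑ j : Fin r, ((show Γ(X, U.ι ''ᵁ W) from c j) • res F (himg W) (σ j) : Γ(F, U.ι ''ᵁ W))) = 0 := by
      refine Eq.trans (Finset.sum_congr rfl fun j _ => ?_) hc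
      have e1 := restrict_smul' F U W (c j) (res (F.restrict U.ι) (le_top : W ≤ ⊤) (τ j))
      refine Eq.trans ?_ e1.symm
      congr 1
      exact (hτres W j).symm
    exact independent_of_li F hξ σ hli _ (himg W) (fun j => (show Γ(X, U.ι ''ᵁ W) from c j)) hc' j
  · -- generation
    intro W t' pt hpt
    have hpt' : U.ι pt ∈ U.ι ''ᵁ W := ⟨pt, hpt, rfl⟩
    obtain ⟨g, hptg, hgW, hg⟩ := generated_of_smul F hU₀ hloc σ f hD _ ((himgU W).trans hUf)
      (show Γ(F, U.ι ''ᵁ W) from t') _ hpt'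
    let W₁ : (U : Scheme.{u}).Opens := U.ι ⁻¹ᵁ X.basicOpen g
    have hV_le_g : U.ι ''ᵁ W₁ ≤ X.basicOpen g := by
      rintro _ ⟨z, hz, rfl⟩
      exact hz
    have hW₁ : W₁ ≤ W := by
      intro z hz
      have : U.ι z ∈ U.ι ''ᵁ W := hgW hz
      obtain ⟨z', hz', hzz⟩ := this
      have : z' = z := U.ι.isOpenEmbedding.injective hzz
      rw [← this]; exact hz'
    obtain ⟨c, hc⟩ := hg _ hV_le_g (hV_le_g.trans hgW) (himg W₁)
    refine ⟨W₁, hW₁, hptg, c, ?_⟩
    rw [res_restrict, hc]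
    refine Finset.sum_congr rfl fun j _ => ?_
    have e1 := restrict_smul' F U W₁ (c j) (res (F.restrict U.ι) (le_top : W₁ ≤ ⊤) (τ j))
    refine Eq.trans ?_ e1.symm
    congr 1
    exact (hτres W₁ j).symm

/-- Let X be an integral scheme and F a quasi-coherent O_X-module of finite type, of rank r (r being the
finite dimension of the generic stalk of F as a vector space over the function field of X). Then one
can find an open subset U of X, not empty, on which the restriction of F is isomorphic to the free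
module of rank r. -/
theorem result (X : Scheme.{u}) [IsIntegral X] (F : X.Modules) (hF : Coh.IsQCoh F)
    (hft : CohB1.IsFT F) :
    ∃ U : X.Opens, (U : Set ↥X).Nonempty ∧
      Nonempty (F.restrict U.ι ≅ FlatMod.freeMod (↑U)
        (Module.finrank ↑(X.presheaf.stalk (genericPoint ↥X)) ↑(F.presheaf.stalk (genericPoint ↥X)))) := by
  haveI : F.IsQuasicoherent := hF
  haveI : SheafOfModules.IsFiniteType.{u} (R := X.ringCatSheaf) F := hft
  obtain ⟨U₀, hU₀', hξ, -⟩ := (Opens.isBasis_iff_nbhd.1 X.isBasis_affineOpens)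
    (show genericPoint X ∈ (⊤ : X.Opens) from trivial)
  have hU₀ : IsAffineOpen U₀ := hU₀'
  have hloc := isLocOn_of_isQuasicoherent F hU₀
  haveI : Module.Finite Γ(X, U₀) Γ(F, U₀) := Groth.Agent.Lib.Helper28.FinType.finite_of_isAffineOpen F hU₀
  haveI hfinN : Module.Finite (X.presheaf.stalk (genericPoint X)) (F.presheaf.stalk (genericPoint X)) :=
    Groth.Agent.S4637.finite_stalk F hU₀ hloc (genericPoint X) hξ
  letI : Field (X.presheaf.stalk (genericPoint X)) := inferInstanceAs (Field X.functionField)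
  -- a basis of the generic stalk consisting of germs of sections over `U₀`
  let b := Module.finBasis (X.presheaf.stalk (genericPoint X)) (F.presheaf.stalk (genericPoint X))
  have hex : ∀ j, ∃ (t : Γ(X, U₀)) (m : Γ(F, U₀)), IsUnit (X.presheaf.germ U₀ (genericPoint X) hξ t) ∧
      X.presheaf.germ U₀ (genericPoint X) hξ t • b j = gm F U₀ (genericPoint X) hξ m :=
    fun j => exists_germ_smul_eq F hU₀ hloc (genericPoint X) hξ (b j)
  choose t σ ht htσ using hex
  let b' := b.unitsSMul (fun j => (ht j).unit)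
  have hb' : ∀ j, b' j = gm F U₀ (genericPoint X) hξ (σ j) := by
    intro j
    rw [Module.Basis.unitsSMul_apply, ← htσ j]
    rfl
  have hfun : (fun j => gm F U₀ (genericPoint X) hξ (σ j)) = b' := funext fun j => (hb' j).symm
  have hspan : Submodule.span (X.presheaf.stalk (genericPoint X))
      (Set.range fun j => gm F U₀ (genericPoint X) hξ (σ j)) = ⊤ := by
    rw [hfun]; exact b'.span_eq
  have hli : LinearIndependent (X.presheaf.stalk (genericPoint X))
      (fun j => gm F U₀ (genericPoint X) hξ (σ j)) := by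
    rw [hfun]; exact b'.linearIndependent
  -- Step D
  obtain ⟨S, hS⟩ := (Module.Finite.fg_top : (⊤ : Submodule Γ(X, U₀) Γ(F, U₀)).FG)
  have hC := exists_smul_eq_sum F hU₀ hloc (genericPoint X) hξ σ hspan
  choose fm hfm cm hcm using hC
  classical
  have hfu : IsUnit (X.presheaf.germ U₀ (genericPoint X) hξ (∏ m ∈ S, fm m)) := by
    rw [map_prod]
    exact (IsUnit.prod_iff).2 fun m _ => hfm m
  have hD := exists_prod_smul_eq_sum S hS σ fm cm hcm
  have hξU : genericPoint X ∈ X.basicOpen (∏ m ∈ S, fm m) := (Scheme.mem_basicOpen _ _ _ hξ).2 hfu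
  exact ⟨X.basicOpen (∏ m ∈ S, fm m), ⟨genericPoint X, hξU⟩,
    nonempty_iso_free_of_le F hU₀ hloc hξ σ hli _ hD _ le_rfl⟩

end Groth.Agent.S8887
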