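import Groth.Statements.S9824
import Groth.Agent.Lib.Helper29.FreeIso3
import Groth.Agent.Lib.Helper28.FinTypeConv
import Groth.Agent.S8887

set_option autoImplicit false
universe u
open CategoryTheory CategoryTheory.Limits AlgebraicGeometry TopologicalSpace Opposite
open Props

namespace Groth.Agent.S9824

open Groth.Agent.Lib.Helper28.QCohLoc Groth.Agent.Lib.Helper29.QCohStalk Groth.Agent.Lib.Helper29.FreeIso
open TensorProduct IsLocalRing

/-- a finite locally free quasi-coherent module is of finite type -/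
theorem isFiniteType_of_isFinLocFree {X : Scheme.{u}} (M : X.Modules) [M.IsQuasicoherent]
    (h : FlatMod.IsFinLocFree M) : SheafOfModules.IsFiniteType.{u} (R := X.ringCatSheaf) M := by
  choose U n hxU e using h
  have hV : ∀ x, ∃ V : X.Opens, IsAffineOpen V ∧ x ∈ V ∧ V ≤ U x := by
    intro x
    obtain ⟨V, hV', hxV, hVU⟩ := (Opens.isBasis_iff_nbhd.1 X.isBasis_affineOpens) (hxU x)
    exact ⟨V, hV', hxV, hVU⟩
  choose V hVaff hxV hVU using hV
  refine Groth.Agent.Lib.Helper28.FinType.isFiniteType_of_finite_cover M V ?_ hVaff ?_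
  · rw [IsOpenCover, eq_top_iff]
    intro x _
    exact Opens.mem_iSup.2 ⟨x, hxV x⟩
  · intro x
    classical
    obtain ⟨τ, -, hgen⟩ := exists_isBasisOn_of_iso' M (U x) (n x) (e x).some
    refine Module.Finite.of_fg_top (R := Γ(X, V x)) ⟨Finset.univ.image (fun j => res M (hVU x) (τ j)), ?_⟩
    rw [eq_top_iff]
    intro t _
    obtain ⟨c, hc⟩ := hgen (V x) (hVU x) t
    rw [hc]
    refine Submodule.sum_mem _ fun j _ => Submodule.smul_mem _ _ (Submodule.subset_span ?_)
    simp

theorem isLocallyConstant_rank_of_isFinLocFree {X : Scheme.{u}} (M : X.Modules) (h : FlatMod.IsFinLocFree M) :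
    IsLocallyConstant (fun x : X => Module.finrank (IsLocalRing.ResidueField (X.presheaf.stalk x))
      (TensorProduct (X.presheaf.stalk x) (IsLocalRing.ResidueField (X.presheaf.stalk x))
        (M.presheaf.stalk x))) := by
  rw [IsLocallyConstant.iff_exists_open]
  intro x
  obtain ⟨U, n, hxU, ⟨e⟩⟩ := h x
  obtain ⟨τ, hτ⟩ := exists_isBasisOn_of_iso M U n e
  refine ⟨U, U.isOpen, hxU, fun y hy => ?_⟩
  rw [hτ.finrank_fibre y hy, hτ.finrank_fibre x hxU]
/-- over a local ring, coefficients of a relation among `r` generators of a module with fibre rank `r` are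
non-units -/
theorem mem_maximalIdeal_of_sum_smul_eq_zero {R : Type*} [CommRing R] [IsLocalRing R] {N : Type*} [AddCommGroup N]
    [Module R N] {r : ℕ} (v : Fin r → N) (hv : Submodule.span R (Set.range v) = ⊤)
    (hr : Module.finrank (ResidueField R) (ResidueField R ⊗[R] N) = r) (a : Fin r → R)
    (ha : ∑ j, a j • v j = 0) (j : Fin r) : a j ∈ maximalIdeal R := by
  have hspan : ⊤ ≤ Submodule.span (ResidueField R) (Set.range fun j => (1 : ResidueField R) ⊗ₜ[R] v j) := by
    intro z _
    obtain ⟨μ, rfl⟩ := TensorProduct.mk_surjective R N (ResidueField R) Ideal.Quotient.mk_surjective z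
    have hμ : μ ∈ Submodule.span R (Set.range v) := by rw [hv]; trivial
    obtain ⟨c, rfl⟩ := (Submodule.mem_span_range_iff_exists_fun R).1 hμ
    rw [map_sum]
    refine Submodule.sum_mem _ fun i _ => ?_
    have h1 : (TensorProduct.mk R (ResidueField R) N 1) (c i • v i) =
        (algebraMap R (ResidueField R) (c i)) • ((1 : ResidueField R) ⊗ₜ[R] v i) := by
      rw [map_smul, algebraMap_smul]
      rfl
    rw [h1]
    exact Submodule.smul_mem _ _ (Submodule.subset_span ⟨i, rfl⟩)
  have hli : LinearIndependent (ResidueField R) (fun j => (1 : ResidueField R) ⊗ₜ[R] v j) :=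
    linearIndependent_of_top_le_span_of_card_eq_finrank hspan (by rw [Fintype.card_fin, hr])
  have h2 : ∑ j, (algebraMap R (ResidueField R) (a j)) • ((1 : ResidueField R) ⊗ₜ[R] v j) = 0 := by
    have h3 := congrArg (TensorProduct.mk R (ResidueField R) N 1) ha
    rw [map_sum, map_zero] at h3
    refine Eq.trans (Finset.sum_congr rfl fun i _ => ?_) h3
    rw [map_smul, algebraMap_smul]
    rfl
  have h4 := Fintype.linearIndependent_iff.1 hli _ h2 j
  rw [ResidueField.algebraMap_eq] at h4
  exact (residue_eq_zero_iff _).1 h4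

/-- sections lifting a basis of the fibre generate the stalk -/
theorem exists_sections_span_stalk {X : Scheme.{u}} (M : X.Modules) {U₀ : X.Opens} (hU₀ : IsAffineOpen U₀)
    (hloc : IsLocOn M U₀) (x : X) (hx : x ∈ U₀) [Module.Finite (X.presheaf.stalk x) (M.presheaf.stalk x)] :
    ∃ σ : Fin (Module.finrank (IsLocalRing.ResidueField (X.presheaf.stalk x))
        (IsLocalRing.ResidueField (X.presheaf.stalk x) ⊗[X.presheaf.stalk x] M.presheaf.stalk x)) → Γ(M, U₀),
      Submodule.span (X.presheaf.stalk x) (Set.range fun j => gm M U₀ x hx (σ j)) = ⊤ := by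
  let b := Module.finBasis (IsLocalRing.ResidueField (X.presheaf.stalk x))
    (IsLocalRing.ResidueField (X.presheaf.stalk x) ⊗[X.presheaf.stalk x] M.presheaf.stalk x)
  obtain ⟨μ, hμ⟩ := (TensorProduct.mk_surjective (X.presheaf.stalk x) (M.presheaf.stalk x)
    (IsLocalRing.ResidueField (X.presheaf.stalk x)) Ideal.Quotient.mk_surjective).comp_left b
  have hspanμ : Submodule.span (X.presheaf.stalk x) (Set.range μ) = ⊤ :=
    IsLocalRing.span_eq_top_of_tmul_eq_basis μ b (fun i => congrFun hμ i)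
  have hex : ∀ j, ∃ (t : Γ(X, U₀)) (m : Γ(M, U₀)), IsUnit (X.presheaf.germ U₀ x hx t) ∧
      X.presheaf.germ U₀ x hx t • μ j = gm M U₀ x hx m :=
    fun j => exists_germ_smul_eq M hU₀ hloc x hx (μ j)
  choose t σ ht htσ using hex
  refine ⟨σ, ?_⟩
  rw [eq_top_iff, ← hspanμ, Submodule.span_le]
  rintro _ ⟨j, rfl⟩
  have h1 : μ j = (↑((ht j).unit⁻¹) : X.presheaf.stalk x) • gm M U₀ x hx (σ j) := by
    rw [← htσ j, smul_smul]
    have : (↑((ht j).unit⁻¹) : X.presheaf.stalk x) * X.presheaf.germ U₀ x hx (t j) = 1 :=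
      (ht j).val_inv_mul
    rw [this, one_smul]
  rw [h1]
  exact Submodule.smul_mem _ _ (Submodule.subset_span ⟨j, rfl⟩)

theorem exists_free_nhd_of_rank_const {X : Scheme.{u}} [IsReduced X] (M : X.Modules) [M.IsQuasicoherent]
    [SheafOfModules.IsFiniteType.{u} (R := X.ringCatSheaf) M]
    (hrank : IsLocallyConstant (fun x : X => Module.finrank (IsLocalRing.ResidueField (X.presheaf.stalk x))
      (TensorProduct (X.presheaf.stalk x) (IsLocalRing.ResidueField (X.presheaf.stalk x))
        (M.presheaf.stalk x)))) (x : X) :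
    ∃ (U : X.Opens) (n : ℕ), x ∈ U ∧ Nonempty (M.restrict U.ι ≅ FlatMod.freeMod (↑U) n) := by
  obtain ⟨U₀, hU₀', hx, -⟩ := (Opens.isBasis_iff_nbhd.1 X.isBasis_affineOpens)
    (show x ∈ (⊤ : X.Opens) from trivial)
  have hU₀ : IsAffineOpen U₀ := hU₀'
  have hloc := isLocOn_of_isQuasicoherent M hU₀
  haveI : Module.Finite Γ(X, U₀) Γ(M, U₀) := Groth.Agent.Lib.Helper28.FinType.finite_of_isAffineOpen M hU₀
  haveI hfinN : Module.Finite (X.presheaf.stalk x) (M.presheaf.stalk x) :=
    Groth.Agent.S4637.finite_stalk M hU₀ hloc x hx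
  obtain ⟨σ, hspan⟩ := exists_sections_span_stalk M hU₀ hloc x hx
  obtain ⟨S, hS⟩ := (Module.Finite.fg_top : (⊤ : Submodule Γ(X, U₀) Γ(M, U₀)).FG)
  have hC := Groth.Agent.S8887.exists_smul_eq_sum M hU₀ hloc x hx σ hspan
  choose fm hfm cm hcm using hC
  classical
  have hfu : IsUnit (X.presheaf.germ U₀ x hx (∏ m ∈ S, fm m)) := by
    rw [map_prod]
    exact (IsUnit.prod_iff).2 fun m _ => hfm m
  have hD := Groth.Agent.S8887.exists_prod_smul_eq_sum S hS σ fm cm hcm
  have hxf : x ∈ X.basicOpen (∏ m ∈ S, fm m) := (Scheme.mem_basicOpen _ _ _ hx).2 hfu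
  generalize (∏ m ∈ S, fm m) = f at hD hxf
  -- the open where the rank is constant
  let R : X.Opens := ⟨_, hrank.isOpen_fiber (Module.finrank (IsLocalRing.ResidueField (X.presheaf.stalk x))
      (TensorProduct (X.presheaf.stalk x) (IsLocalRing.ResidueField (X.presheaf.stalk x))
        (M.presheaf.stalk x)))⟩
  have hxR : x ∈ R := rfl
  have hUU₀ : X.basicOpen f ⊓ R ≤ U₀ := inf_le_left.trans (X.basicOpen_le f)
  have hgen : ∀ (T : X.Opens) (hT : T ≤ X.basicOpen f ⊓ R) (t : Γ(M, T)) (pt : X), pt ∈ T →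
      ∃ (T₁ : X.Opens) (h1 : T₁ ≤ T), pt ∈ T₁ ∧ ∃ c : Fin _ → Γ(X, T₁),
        res M h1 t = ∑ j, c j • res M (h1.trans hT) (res M hUU₀ (σ j)) := by
    intro T hT t pt hpt
    obtain ⟨g, hptg, hgT, hg⟩ := Groth.Agent.S8887.generated_of_smul M hU₀ hloc σ f hD T (hT.trans inf_le_left)
      t pt hpt
    obtain ⟨c, hc⟩ := hg (X.basicOpen g) le_rfl hgT ((hgT.trans hT).trans hUU₀)
    refine ⟨X.basicOpen g, hgT, hptg, c, hc.trans (Finset.sum_congr rfl fun j _ => ?_)⟩
    rw [res_res]
  refine ⟨X.basicOpen f ⊓ R, _, ⟨hxf, hxR⟩,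
    IsBasisOn.nonempty_iso (τ := fun j => res M hUU₀ (σ j)) ⟨?_, hgen⟩⟩
  intro T hT c hc j
  apply AlgebraicGeometry.eq_zero_of_basicOpen_eq_bot
  rw [eq_bot_iff]
  intro y hy
  exfalso
  have hyT : y ∈ T := X.basicOpen_le (c j) hy
  have hyU : y ∈ X.basicOpen f ⊓ R := hT hyT
  have hunit : IsUnit (X.presheaf.germ T y hyT (c j)) := (Scheme.mem_basicOpen _ _ _ hyT).1 hy
  have hspany := span_germ_of_gen hgen y hyU
  have hry : Module.finrank (IsLocalRing.ResidueField (X.presheaf.stalk y))
      (IsLocalRing.ResidueField (X.presheaf.stalk y) ⊗[X.presheaf.stalk y] M.presheaf.stalk y) =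
      Module.finrank (IsLocalRing.ResidueField (X.presheaf.stalk x))
      (IsLocalRing.ResidueField (X.presheaf.stalk x) ⊗[X.presheaf.stalk x] M.presheaf.stalk x) := hyU.2
  have h0 : ∑ j, X.presheaf.germ T y hyT (c j) • gm M (X.basicOpen f ⊓ R) y hyU (res M hUU₀ (σ j)) = 0 := by
    have h1 := congrArg (gm M T y hyT) hc
    rw [gm_sum_smul, gm_zero] at h1
    refine Eq.trans (Finset.sum_congr rfl fun j _ => ?_) h1
    simp only [gm_res]
  have hmem := mem_maximalIdeal_of_sum_smul_eq_zero _ hspany hry _ h0 j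
  exact hmem hunit

/-- Over a reduced scheme, a quasi-coherent module is finite locally free if and only if it is of finite
type and its fibre rank (the dimension of the stalk tensored with the residue field) is a locally
constant function. -/
theorem result (X : Scheme.{u}) [IsReduced X]
    (M : X.Modules) [Coh.IsQCoh M] :
    FlatMod.IsFinLocFree M ↔ CohB1.IsFT M ∧
      IsLocallyConstant (fun x : X => Module.finrank (IsLocalRing.ResidueField (X.presheaf.stalk x))
          (TensorProduct (X.presheaf.stalk x) (IsLocalRing.ResidueField (X.presheaf.stalk x)) (M.presheaf.stalk x))) := by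
  haveI : M.IsQuasicoherent := ‹Coh.IsQCoh M›
  constructor
  · intro h
    exact ⟨isFiniteType_of_isFinLocFree M h, isLocallyConstant_rank_of_isFinLocFree M h⟩
  · rintro ⟨hft, hrank⟩ x
    haveI : SheafOfModules.IsFiniteType.{u} (R := X.ringCatSheaf) M := hft
    exact exists_free_nhd_of_rank_const M hrank x



end Groth.Agent.S9824
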