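import Groth.Statements.S9825
import Groth.Agent.S9824

set_option autoImplicit false
universe u
open CategoryTheory CategoryTheory.Limits AlgebraicGeometry TopologicalSpace Opposite
open Props

namespace Groth.Agent.S9825

open Groth.Agent.Lib.Helper28.QCohLoc Groth.Agent.Lib.Helper29.QCohStalk Groth.Agent.Lib.Helper29.FreeIso
open TensorProduct IsLocalRing Groth.Agent.S9824

/-- `r` generators of a free module of fibre rank `r` are linearly independent -/
theorem linearIndependent_of_span_of_finrank_fibre {R : Type*} [CommRing R] [IsLocalRing R] {N : Type*}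
    [AddCommGroup N] [Module R N] [Module.Free R N] {r : ℕ} (v : Fin r → N)
    (hv : Submodule.span R (Set.range v) = ⊤)
    (hr : Module.finrank (ResidueField R) (ResidueField R ⊗[R] N) = r) : LinearIndependent R v := by
  refine linearIndependent_of_top_le_span_of_card_eq_finrank (le_of_eq hv.symm) ?_
  rw [Fintype.card_fin, ← hr, Module.finrank_baseChange]

theorem eq_zero_of_forall_germ_eq_zero {X : Scheme.{u}} {T : X.Opens} (c : Γ(X, T))
    (h : ∀ (y : X) (hy : y ∈ T), X.presheaf.germ T y hy c = 0) : c = 0 := by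
  refine TopCat.Presheaf.section_ext X.sheaf T c 0 fun y hy => ?_
  have h0 : X.presheaf.germ T y hy (0 : Γ(X, T)) = 0 := map_zero _
  exact (h y hy).trans h0.symm

theorem exists_free_nhd_of_free_stalks {X : Scheme.{u}} (M : X.Modules) [M.IsQuasicoherent]
    [SheafOfModules.IsFiniteType.{u} (R := X.ringCatSheaf) M]
    (hfree : ∀ x : X, Module.Free (X.presheaf.stalk x) (M.presheaf.stalk x))
    (hrank : IsLocallyConstant (fun x : X => Module.finrank (IsLocalRing.ResidueField (X.presheaf.stalk x))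
      (TensorProduct (X.presheaf.stalk x) (IsLocalRing.ResidueField (X.presheaf.stalk x))
        (M.presheaf.stalk x)))) (x : X) :
    ∃ (U : X.Opens) (n : ℕ), x ∈ U ∧ Nonempty (M.restrict U.ι ≅ FlatMod.freeMod (↑U) n) := by
  obtain ⟨U₀, hU₀', hx, -⟩ := (Opens.isBasis_iff_nbhd.1 X.isBasis_affineOpens)
    (show x ∈ (⊤ : X.Opens) from trivial)
  have hU₀ : IsAffineOpen U₀ := hU₀'
  have hloc := isLocOn_of_isQuasicoherent M hU₀
  haveI : Module.Finite Γ(X, U₀) Γ(M, U₀) := Groth.Agent.Lib.Helper28.FinType.finite_of_isAffineOpen M hU₀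
  haveI hfinN : Module.Finite (X.presheaf.stalk x) (M.presheaf.stalk x) :=
    Groth.Agent.S4637.finite_stalk M hU₀ hloc x hx
  obtain ⟨σ, hspan⟩ := exists_sections_span_stalk M hU₀ hloc x hx
  obtain ⟨S, hS⟩ := (Module.Finite.fg_top : (⊤ : Submodule Γ(X, U₀) Γ(M, U₀)).FG)
  have hC := Groth.Agent.S8887.exists_smul_eq_sum M hU₀ hloc x hx σ hspan
  choose fm hfm cm hcm using hC
  classical
  have hfu : IsUnit (X.presheaf.germ U₀ x hx (∏ m ∈ S, fm m)) := by
    rw [map_prod]
    exact (IsUnit.prod_iff).2 fun m _ => hfm m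
  have hD := Groth.Agent.S8887.exists_prod_smul_eq_sum S hS σ fm cm hcm
  have hxf : x ∈ X.basicOpen (∏ m ∈ S, fm m) := (Scheme.mem_basicOpen _ _ _ hx).2 hfu
  generalize (∏ m ∈ S, fm m) = f at hD hxf
  let R : X.Opens := ⟨_, hrank.isOpen_fiber (Module.finrank (IsLocalRing.ResidueField (X.presheaf.stalk x))
      (TensorProduct (X.presheaf.stalk x) (IsLocalRing.ResidueField (X.presheaf.stalk x))
        (M.presheaf.stalk x)))⟩
  have hxR : x ∈ R := rfl
  have hUU₀ : X.basicOpen f ⊓ R ≤ U₀ := inf_le_left.trans (X.basicOpen_le f)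
  have hgen : ∀ (T : X.Opens) (hT : T ≤ X.basicOpen f ⊓ R) (t : Γ(M, T)) (pt : X), pt ∈ T →
      ∃ (T₁ : X.Opens) (h1 : T₁ ≤ T), pt ∈ T₁ ∧ ∃ c : Fin _ → Γ(X, T₁),
        res M h1 t = ∑ j, c j • res M (h1.trans hT) (res M hUU₀ (σ j)) := by
    intro T hT t pt hpt
    obtain ⟨g, hptg, hgT, hg⟩ := Groth.Agent.S8887.generated_of_smul M hU₀ hloc σ f hD T (hT.trans inf_le_left)
      t pt hpt
    obtain ⟨c, hc⟩ := hg (X.basicOpen g) le_rfl hgT ((hgT.trans hT).trans hUU₀)
    refine ⟨X.basicOpen g, hgT, hptg, c, hc.trans (Finset.sum_congr rfl fun j _ => ?_)⟩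
    rw [res_res]
  refine ⟨X.basicOpen f ⊓ R, _, ⟨hxf, hxR⟩,
    IsBasisOn.nonempty_iso (τ := fun j => res M hUU₀ (σ j)) ⟨?_, hgen⟩⟩
  intro T hT c hc j
  apply eq_zero_of_forall_germ_eq_zero
  intro y hyT
  have hyU : y ∈ X.basicOpen f ⊓ R := hT hyT
  have hspany := span_germ_of_gen hgen y hyU
  have hry : Module.finrank (IsLocalRing.ResidueField (X.presheaf.stalk y))
      (IsLocalRing.ResidueField (X.presheaf.stalk y) ⊗[X.presheaf.stalk y] M.presheaf.stalk y) =
      Module.finrank (IsLocalRing.ResidueField (X.presheaf.stalk x))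
      (IsLocalRing.ResidueField (X.presheaf.stalk x) ⊗[X.presheaf.stalk x] M.presheaf.stalk x) := hyU.2
  have h0 : ∑ j, X.presheaf.germ T y hyT (c j) • gm M (X.basicOpen f ⊓ R) y hyU (res M hUU₀ (σ j)) = 0 := by
    have h1 := congrArg (gm M T y hyT) hc
    rw [gm_sum_smul, gm_zero] at h1
    refine Eq.trans (Finset.sum_congr rfl fun j _ => ?_) h1
    simp only [gm_res]
  haveI := hfree y
  have hli := linearIndependent_of_span_of_finrank_fibre _ hspany hry
  exact Fintype.linearIndependent_iff.1 hli _ h0 j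

/-- A quasi-coherent module on a scheme is finite locally free if and only if it is of finite type with
free stalks and locally constant fibre rank. -/
theorem result (X : Scheme.{u}) (M : X.Modules) [Coh.IsQCoh M] :
    FlatMod.IsFinLocFree M ↔ CohB1.IsFT M ∧ (∀ x : X, Module.Free (X.presheaf.stalk x) (M.presheaf.stalk x)) ∧
      IsLocallyConstant (fun x : X => Module.finrank (IsLocalRing.ResidueField (X.presheaf.stalk x))
          (TensorProduct (X.presheaf.stalk x) (IsLocalRing.ResidueField (X.presheaf.stalk x)) (M.presheaf.stalk x))) := by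
  haveI : M.IsQuasicoherent := ‹Coh.IsQCoh M›
  constructor
  · intro h
    refine ⟨isFiniteType_of_isFinLocFree M h, fun x => ?_, isLocallyConstant_rank_of_isFinLocFree M h⟩
    obtain ⟨U, n, hxU, ⟨e⟩⟩ := h x
    obtain ⟨τ, hτ⟩ := exists_isBasisOn_of_iso M U n e
    exact hτ.free_stalk x hxU
  · rintro ⟨hft, hfree, hrank⟩ x
    haveI : SheafOfModules.IsFiniteType.{u} (R := X.ringCatSheaf) M := hft
    exact exists_free_nhd_of_free_stalks M hfree hrank x



end Groth.Agent.S9825
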