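import Groth.Statements.S1526
import Groth.Agent.Lib.Helper17.ZeroSupp
import Groth.Agent.S0020
import Mathlib
set_option backward.isDefEq.respectTransparency.types false

set_option autoImplicit false
universe u
open CategoryTheory CategoryTheory.Limits AlgebraicGeometry
open Variety

namespace Groth.Agent.S1526
open Groth.Agent.Lib.Helper17.ZeroSupp

/-- in a T0 space, the points of a closed subset of dimension `≤ 0` are closed. -/
theorem isClosed_singleton_of_dim_le_zero {X : Type*} [TopologicalSpace X] [T0Space X] (Z : Set X)
    (hZ : IsClosed Z) (h : topologicalKrullDim Z ≤ 0) (x : X) (hx : x ∈ Z) : IsClosed ({x} : Set X) := by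
  let z : Z := ⟨x, hx⟩
  have hmin := Order.krullDim_nonpos_iff_forall_isMin.1 h
  have hz : IsClosed ({z} : Set Z) := by
    rw [← closure_eq_iff_isClosed]
    refine Set.Subset.antisymm ?_ subset_closure
    intro y hy
    let T : TopologicalSpace.IrreducibleCloseds Z :=
      ⟨closure {z}, isIrreducible_singleton.closure, isClosed_closure⟩
    let S : TopologicalSpace.IrreducibleCloseds Z :=
      ⟨closure {y}, isIrreducible_singleton.closure, isClosed_closure⟩
    have hST : S ≤ T := by
      change closure {y} ⊆ closure {z}
      exact closure_minimal (Set.singleton_subset_iff.2 hy) isClosed_closure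
    have hTS : T ≤ S := hmin T hST
    have hzy : z ∈ closure ({y} : Set Z) := hTS (subset_closure rfl)
    have hins : Inseparable y z :=
      (specializes_iff_mem_closure.2 hzy).antisymm (specializes_iff_mem_closure.2 hy)
    exact hins.eq
  have := hZ.isClosedEmbedding_subtypeVal.isClosedMap _ hz
  rwa [Set.image_singleton] at this


/-- On a proper scheme over a field, a coherent module whose support has dimension at most zero has
vanishing cohomology in all positive degrees. -/
theorem result (k : Type u) [Field k] (X : Scheme.{u}) [X.Over (Spec (CommRingCat.of k))] [IsProper (X ↘ (Spec (CommRingCat.of k)))]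
    (F : X.Modules) (hF : Coh.IsCoh F) (hsupp : topologicalKrullDim (CohB1.support F) ≤ 0)
    (i : ℕ) (hi : 1 ≤ i) : Subsingleton (Coh.HH X F i) := by
  haveI : F.IsQuasicoherent := hF.1
  haveI : SheafOfModules.IsFiniteType.{u} (R := X.ringCatSheaf) F := hF.2
  haveI : IsLocallyNoetherian X :=
    LocallyOfFiniteType.isLocallyNoetherian (X ↘ (Spec (CommRingCat.of k)))
  have hcl : IsClosed (CohB1.support F) := Groth.Agent.S0020.result X F hF.2
  obtain ⟨n, rfl⟩ := Nat.exists_eq_succ_of_ne_zero (Nat.one_le_iff_ne_zero.1 hi)
  exact subsingleton_HH_of_support_closedPoints F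
    (fun x hx => isClosed_singleton_of_dim_le_zero _ hcl hsupp x hx) n

end Groth.Agent.S1526
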