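import Groth.Statements.S1558
import Groth.Agent.Lib.Helper8.PtSupp2

set_option autoImplicit false
universe u
open CategoryTheory CategoryTheory.Limits AlgebraicGeometry
open Variety

namespace Groth.Agent.S1558
open Groth.Agent.Lib.Helper8.PtSupp Groth.Agent.Lib.Helper8.EulerK Groth.Agent.Lib.Helper8.PtSupp2

/-- On a proper scheme over a field, if F is coherent with support of dimension at most zero and E is
finite locally free of rank n, then χ(X, F ⊗ E) = n · χ(X, F). -/
theorem result (k : Type u) [Field k] (X : Scheme.{u}) [X.Over (Spec (CommRingCat.of k))] [IsProper (X ↘ (Spec (CommRingCat.of k)))]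
    (F : X.Modules) (hF : Coh.IsCoh F) (hsupp : topologicalKrullDim (CohB1.support F) ≤ 0)
    (n : ℕ) (E : X.Modules) (hE : FlatMod.IsFinLocFreeOfRank n E) :
    Curv2.euler k X (CohB1.tensorMod F E) = n * Curv2.euler k X F := by
  obtain ⟨S, hcl, hS⟩ := exists_finset_support k X F hF hsupp
  have hEc : Coh.IsCoh E :=
    ⟨Groth.Agent.Lib.Helper29.FreeIso.isQuasicoherent_of_isFinLocFree E (fun x => by
        obtain ⟨U, hxU, h⟩ := hE x
        exact ⟨U, n, hxU, h⟩),
      Groth.Agent.Lib.Helper29.FreeIso.isFiniteType_of_isFinLocFree E (fun x => by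
        obtain ⟨U, hxU, h⟩ := hE x
        exact ⟨U, n, hxU, h⟩)⟩
  have hT : Coh.IsCoh (CohB1.tensorMod F E) := Groth.Agent.Lib.Helper6.K0Op.isCoh_tensorMod F E hF hEc
  have hTS : CohB1.support (CohB1.tensorMod F E) ⊆ (S : Set X) := by
    haveI : F.IsQuasicoherent := hF.1
    haveI : E.IsQuasicoherent := hEc.1
    haveI : SheafOfModules.IsFiniteType.{u} (R := X.ringCatSheaf) F := hF.2
    haveI : SheafOfModules.IsFiniteType.{u} (R := X.ringCatSheaf) E := hEc.2
    rw [Groth.Agent.Lib.Helper17.TensorSupp.support_tensorMod, ← hS]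
    exact Set.inter_subset_left
  rw [euler_eq_sum_stalks k X _ hT S hcl hTS, euler_eq_sum_stalks k X F hF S hcl hS.le,
    Finset.mul_sum]
  refine Finset.sum_congr rfl fun z _ => ?_
  rw [finrank_stalk_tensor k F E hE z.1]
  push_cast
  rfl


end Groth.Agent.S1558
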