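import Groth.Statements.S0019
import Groth.Agent.Lib.Helper17.FinTypeConv
import Groth.Agent.Lib.Helper28.QCohPush
import Mathlib
set_option backward.isDefEq.respectTransparency.types false

set_option autoImplicit false
universe u
open Coherent

namespace Groth.Agent.S0019
open CategoryTheory CategoryTheory.Limits AlgebraicGeometry Opposite TopologicalSpace
open Groth.Agent.Lib.Helper28.QCohLoc Groth.Agent.Lib.Helper17.FinTypeConv Groth.Agent.Lib.Helper28.FinType

open AlgebraicGeometry in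

open AlgebraicGeometry in
/-- If f : X → Y is a finite morphism of schemes with Y locally Noetherian and F is a coherent
O_X-module, then the direct image f_*F is a coherent O_Y-module. -/
theorem result {X Y : Scheme.{u}} (f : X ⟶ Y) [IsFinite f] [IsLocallyNoetherian Y]
    (M : X.Modules) (hM : Coh.IsCoh M) : Coh.IsCoh ((Coh.push f).obj M) := by
  obtain ⟨hq, hft⟩ := hM
  haveI : M.IsQuasicoherent := hq
  haveI : SheafOfModules.IsFiniteType.{u} (R := X.ringCatSheaf) M := hft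
  haveI hqp : ((Scheme.Modules.pushforward f).obj M).IsQuasicoherent := isQuasicoherent_pushforward f M
  refine ⟨hqp, ?_⟩
  refine isFiniteType_of_forall_finite_sections _ ?_
  intro V
  have hV : IsAffineOpen V.1 := V.2
  have hU : IsAffineOpen (f ⁻¹ᵁ V.1) := hV.preimage f
  have h1 : Module.Finite Γ(X, f ⁻¹ᵁ V.1) Γ(M, f ⁻¹ᵁ V.1) := finite_of_isAffineOpen M hU
  have h2 : (f.app V.1).hom.Finite := IsFinite.finite_app f V.1 hV
  letI : Algebra Γ(Y, V.1) Γ(X, f ⁻¹ᵁ V.1) := (f.app V.1).hom.toAlgebra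
  haveI : Module.Finite Γ(Y, V.1) Γ(X, f ⁻¹ᵁ V.1) := h2
  letI : Module Γ(Y, V.1) Γ(M, f ⁻¹ᵁ V.1) := Module.compHom _ (f.app V.1).hom
  haveI : IsScalarTower Γ(Y, V.1) Γ(X, f ⁻¹ᵁ V.1) Γ(M, f ⁻¹ᵁ V.1) := by
    refine ⟨fun a b m => ?_⟩
    change ((f.app V.1).hom a * b) • m = (f.app V.1).hom a • (b • m)
    rw [mul_smul]
  have h3 : Module.Finite Γ(Y, V.1) Γ(M, f ⁻¹ᵁ V.1) := Module.Finite.trans Γ(X, f ⁻¹ᵁ V.1) _
  let φ : Γ(M, f ⁻¹ᵁ V.1) →ₗ[Γ(Y, V.1)] Γ((Scheme.Modules.pushforward f).obj M, V.1) :=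
    { toFun := fun m => m
      map_add' := fun _ _ => rfl
      map_smul' := fun a m => rfl }
  exact Module.Finite.of_surjective φ (fun m => ⟨m, rfl⟩)

end Groth.Agent.S0019
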