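import Groth.Statements.S16463
import Groth.Agent.Lib.Helper8.RDer5

set_option autoImplicit false
universe v u v' u'
open CategoryTheory CategoryTheory.Limits
open RDer

namespace Groth.Agent.S16463

/-- Let F be an additive functor from an abelian category C with enough injectives to an abelian
category D. Then the right derived functors RⁿF carry connecting morphisms RⁿF(X₃) → Rⁿ⁺¹F(X₁) for
every short exact sequence 0 → X₁ → X₂ → X₃ → 0 of C, computed on any injective resolution of the
sequence by the connecting morphism of the short exact sequence of complexes obtained by applying F,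
natural in morphisms of short exact sequences, and with exact long sequence. -/
theorem result {C : Type u} [Category.{v} C] [Abelian C] [EnoughInjectives C]
    {D : Type u'} [Category.{v'} D] [Abelian D] (F : C ⥤ D) [F.Additive] :
    Nonempty (RDer.DerivedLES F) := by
  have hT : ∀ (S : ShortComplex C), S.ShortExact → Nonempty (RDer.SESRes S) :=
    fun S hS => Groth.Agent.Lib.Helper8.RDer4.nonempty_sesRes hS
  refine ⟨
    { δ := fun S hS n₀ n₁ h => (hT S hS).some.delta F n₀ n₁ h
      δ_eq := fun S hS T n₀ n₁ h =>
        Groth.Agent.Lib.Helper8.RDer3.delta_eq F _ T n₀ n₁ h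
      δ_natural := fun {S S'} hS hS' φ n₀ n₁ h =>
        Groth.Agent.Lib.Helper8.RDer3.delta_natural F φ _ _ n₀ n₁ h
      exact₂ := fun S hS n => Groth.Agent.Lib.Helper8.RDer5.exact₂ F (hT S hS).some n
      comp_δ := fun S hS n₀ n₁ h => Groth.Agent.Lib.Helper8.RDer5.comp_δ F (hT S hS).some n₀ n₁ h
      exact₃ := fun S hS n₀ n₁ h => Groth.Agent.Lib.Helper8.RDer5.exact₃ F (hT S hS).some n₀ n₁ h
      δ_comp := fun S hS n₀ n₁ h => Groth.Agent.Lib.Helper8.RDer5.δ_comp F (hT S hS).some n₀ n₁ h
      exact₁ := fun S hS n₀ n₁ h =>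
        Groth.Agent.Lib.Helper8.RDer5.exact₁ F (hT S hS).some n₀ n₁ h }⟩

end Groth.Agent.S16463
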