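import Groth.Statements.S6774


set_option autoImplicit false
open CategoryTheory
universe v u v' u'
open DeltaF

namespace Groth.Agent.S6774

/-- Two universal cohomological delta-functors (indexed by `ℕ`) with isomorphic degree-`0` functors are
isomorphic as delta-functors, by a unique isomorphism extending the given one in degree `0`. -/
theorem result {A : Type u} [Category.{v} A] [Abelian A] {B : Type u'} [Category.{v'} B] [Abelian B] (T T' : DeltaF.CohDeltaFunctor A B ℕ) (hT : T.IsUniversal) (hT' : T'.IsUniversal) (e : T.F 0 ≅ T'.F 0) : ∃! φ : T ≅ T', φ.hom.app 0 = e.hom := by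
  obtain ⟨τ, hτ, hτu⟩ := hT T' e.hom
  obtain ⟨σ, hσ, hσu⟩ := hT' T e.inv
  have h1 : τ ≫ σ = 𝟙 T := by
    obtain ⟨ρ, _, hρu⟩ := hT T (𝟙 _)
    have a : τ ≫ σ = ρ := hρu _ (by
      change (τ ≫ σ).app 0 = _
      rw [DeltaF.CohDeltaFunctor.comp_app, hτ, hσ, Iso.hom_inv_id])
    have b : 𝟙 T = ρ := hρu _ (DeltaF.CohDeltaFunctor.id_app T 0)
    rw [a, b]
  have h2 : σ ≫ τ = 𝟙 T' := by
    obtain ⟨ρ, _, hρu⟩ := hT' T' (𝟙 _)
    have a : σ ≫ τ = ρ := hρu _ (by
      change (σ ≫ τ).app 0 = _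
      rw [DeltaF.CohDeltaFunctor.comp_app, hσ, hτ, Iso.inv_hom_id])
    have b : 𝟙 T' = ρ := hρu _ (DeltaF.CohDeltaFunctor.id_app T' 0)
    rw [a, b]
  refine ⟨⟨τ, σ, h1, h2⟩, hτ, ?_⟩
  intro φ hφ
  apply Iso.ext
  exact hτu φ.hom hφ

end Groth.Agent.S6774
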