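import Groth.Statements.S6152
import Groth.Agent.Lib.Helper1.ModSiteFree

set_option autoImplicit false
universe u
open CategoryTheory
open ModSite

namespace Groth.Agent.S6152

open Groth.Agent.Lib.Helper1 Opposite in
lemma separating {C : Type u} [SmallCategory C] {J : GrothendieckTopology C}
    (O : Sheaf J CommRingCat.{u}) (G : Set C)
    (hG : ∀ X : C, ∃ (ι : Type u) (Y : ι → C) (f : ∀ i, Y i ⟶ X), Sieve.ofArrows Y f ∈ J X ∧ ∀ i, Y i ∈ G) :
    (ObjectProperty.ofObj fun X : G => ModSite.freeOn O (X : C)).IsSeparating := by
  intro M N f g h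
  -- agreement on members of G
  have hG' : ∀ X ∈ G, ∀ m : M.val.obj (op X), f.val.app (op X) m = g.val.app (op X) m := by
    intro X hX m
    have := h (ModSite.freeOn O X) (ObjectProperty.ofObj_apply (fun X : G => ModSite.freeOn O (X : C)) ⟨X, hX⟩)
      ((ModSiteFree.homEquiv O X M).symm m)
    have h2 := congrArg (ModSiteFree.homEquiv O X N) this
    rw [ModSiteFree.homEquiv_comp, ModSiteFree.homEquiv_comp, Equiv.apply_symm_apply] at h2
    exact h2
  apply SheafOfModules.hom_ext
  apply PresheafOfModules.hom_ext
  intro X
  obtain ⟨ι, Y, p, hcov, hY⟩ := hG X.unop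
  ext m
  have hsep := ((isSheaf_iff_isSheaf_of_type _ _).1 ((Presheaf.isSheaf_iff_isSheaf_forget J N.val.presheaf (forget AddCommGrpCat)).1 N.isSheaf)).isSeparated
    _ hcov
  refine hsep.ext (t₁ := (f.val.app X m : N.val.obj X)) (t₂ := (g.val.app X m : N.val.obj X)) ?_
  rintro Z q ⟨W, r, q', ⟨i⟩, rfl⟩
  show N.val.map (r ≫ p i).op (f.val.app X m) = N.val.map (r ≫ p i).op (g.val.app X m)
  rw [op_comp, PresheafOfModules.map_comp_apply, PresheafOfModules.map_comp_apply,
    ← PresheafOfModules.naturality_apply f.val, ← PresheafOfModules.naturality_apply g.val, hG' _ (hY i)]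

/-- Second assertion (ringed topos of sheaves on a small site (C, J) with commutative structure sheaf
O): if G is a topologically generating family of objects (every object of C admits a covering family
by members of G), then the free O-modules A_X = j_{X!}(O|X), X in G, form a generating family of the
category of O-modules; stated as: this family detects isomorphisms and is separating. -/
theorem result {C : Type u} [SmallCategory C] {J : GrothendieckTopology C}
    (O : Sheaf J CommRingCat.{u}) (G : Set C)
    (hG : ∀ X : C, ∃ (ι : Type u) (Y : ι → C) (f : ∀ i, Y i ⟶ X), Sieve.ofArrows Y f ∈ J X ∧ ∀ i, Y i ∈ G) :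
    (ObjectProperty.ofObj fun X : G => ModSite.freeOn O (X : C)).IsDetecting ∧
    (ObjectProperty.ofObj fun X : G => ModSite.freeOn O (X : C)).IsSeparating := by
  have h := separating O G hG
  exact ⟨h.isDetecting, h⟩

end Groth.Agent.S6152
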