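import Groth.Statements.S0015
-- import your own Groth.Agent.* helpers here

set_option autoImplicit false
universe u
open Coherent

namespace Groth.Agent.S0015

section helpers
open AlgebraicGeometry TopologicalSpace

theorem claimA' (X : Scheme.{u})
    (P : X.Opens → Prop) (h₁ : ∀ U : X.Opens, IsAffineOpen U → P U)
    (h₂ : ∀ U V : X.Opens, IsCompact (U : Set X) → IsAffineOpen V → P U → P V → P (U ⊓ V) →
      P (U ⊔ V)) (V : X.Opens) (hV : IsAffineOpen V) {ι : Type*} [DecidableEq ι] (s : Finset ι) :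
    ∀ g : ι → Γ(X, V), P (⨆ i ∈ s, X.basicOpen (g i)) := by
  induction s using Finset.induction_on with
  | empty => intro g; simpa using h₁ ⊥ (isAffineOpen_bot X)
  | insert a s ha ih =>
    intro g
    rw [Finset.iSup_insert, sup_comm]
    have hc : IsCompact ((⨆ i ∈ s, X.basicOpen (g i) : X.Opens) : Set X) := by
      simp only [Opens.coe_iSup]
      exact s.finite_toSet.isCompact_biUnion (fun i _ => (hV.basicOpen (g i)).isCompact)
    refine h₂ _ _ hc (hV.basicOpen (g a)) (ih g) (h₁ _ (hV.basicOpen _)) ?_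
    have : (⨆ i ∈ s, X.basicOpen (g i)) ⊓ X.basicOpen (g a) =
        ⨆ i ∈ s, X.basicOpen (g i * g a) := by
      simp only [Scheme.basicOpen_mul, iSup_inf_eq]
    rw [this]; exact ih _

theorem claimA (X : Scheme.{u})
    (P : X.Opens → Prop) (h₁ : ∀ U : X.Opens, IsAffineOpen U → P U)
    (h₂ : ∀ U V : X.Opens, IsCompact (U : Set X) → IsAffineOpen V → P U → P V → P (U ⊓ V) →
      P (U ⊔ V)) (W V : X.Opens) (hV : IsAffineOpen V) (hWV : W ≤ V)
    (hW : IsCompact (W : Set X)) : P W := by
  classical
  have : ∀ x : W, ∃ f : Γ(X, V), X.basicOpen f ≤ W ∧ ↑x ∈ X.basicOpen f :=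
    fun x => hV.exists_basicOpen_le x (hWV x.2)
  choose f hf1 hf2 using this
  obtain ⟨t, ht⟩ := hW.elim_finite_subcover (fun x : W => (X.basicOpen (f x) : Set X))
    (fun x => (X.basicOpen (f x)).isOpen)
    (fun x hx => Set.mem_iUnion.mpr ⟨⟨x, hx⟩, hf2 ⟨x, hx⟩⟩)
  have : W = ⨆ x ∈ t, X.basicOpen (f x) := by
    apply le_antisymm
    · intro x hx
      have := ht hx
      simpa using this
    · exact iSup₂_le fun x _ => hf1 x
  rw [this]; exact claimA' X P h₁ h₂ V hV t f

end helpers

open AlgebraicGeometry in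
/-- Let X be quasi-compact and quasi-separated and P a property of opens of X. If P holds for affine
opens, and P(U ∪ V) follows from P(U), P(V), P(U ∩ V) whenever U is quasi-compact open and V affine
open, then P holds for every quasi-compact open, in particular for X. -/
theorem result (X : Scheme.{u}) [CompactSpace X] [QuasiSeparatedSpace X]
    (P : X.Opens → Prop) (h₁ : ∀ U : X.Opens, IsAffineOpen U → P U)
    (h₂ : ∀ U V : X.Opens, IsCompact (U : Set X) → IsAffineOpen V → P U → P V → P (U ⊓ V) →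
      P (U ⊔ V))
    (U : X.Opens) (hU : IsCompact (U : Set X)) : P U := by
  refine compact_open_induction_on U hU (h₁ ⊥ (isAffineOpen_bot X)) ?_
  intro S hS V hPS
  refine h₂ S V hS V.2 hPS (h₁ V V.2) ?_
  apply claimA X P h₁ h₂ (S ⊓ V) V V.2 inf_le_right
  exact QuasiSeparatedSpace.inter_isCompact S.1 V.1 S.isOpen hS V.1.isOpen V.2.isCompact

end Groth.Agent.S0015
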