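import Groth.Statements.S11319
import Groth.Agent.Lib.Helper6.ModAbPush

set_option autoImplicit false
universe u
open CategoryTheory AlgebraicGeometry
open Coherent

namespace Groth.Agent.S11319

/-- Let f : X → Y be a morphism of schemes, M an O_X-module and n ≥ 0. Then the underlying abelian sheaf
of the n-th higher direct image R^n f_* M computed in the category of O-modules (the n-th right
derived functor of f_* : Mod(O_X) → Mod(O_Y), which needs the stated instance that Mod(O_X) has
injective resolutions — it does) is isomorphic to the n-th higher direct image of the underlying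
abelian sheaf of M (the right derived functor of f_* on abelian sheaves). (Stated for schemes; the
published statement is for ringed spaces. Existence of an isomorphism only.) -/
theorem result {X Y : Scheme.{u}} (f : X ⟶ Y)
    [HasInjectiveResolutions X.Modules] (M : X.Modules) (n : ℕ) :
    Nonempty (Coh.toAb ((Coh.Rpush f n).obj M) ≅ (Coh.RpushAb f n).obj (Coh.toAb M)) := by
  haveI : EnoughInjectives X.Modules :=
    Groth.Agent.Lib.Helper6.GrothSS.enoughInjectives_of_hasInjectiveResolutions
  haveI : Limits.PreservesFiniteLimits (Coh.push f) :=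
    (Scheme.Modules.pullbackPushforwardAdjunction f).rightAdjoint_preservesLimits.{0, 0}.preservesFiniteLimits
  haveI : Limits.PreservesFiniteLimits (Coh.pushAb f) :=
    (TopCat.Sheaf.pullbackPushforwardAdjunction AddCommGrpCat.{u}
      f.base).rightAdjoint_preservesLimits.{0, 0}.preservesFiniteLimits
  let θ : (Coh.push f).rightDerived 0 ⋙ (Groth.Agent.Lib.Helper6.ModAbPush.tS Y) ≅ (Groth.Agent.Lib.Helper6.ModAbPush.tS X) ⋙ (Coh.pushAb f).rightDerived 0 :=
    Functor.isoWhiskerRight (Functor.rightDerivedZeroIsoSelf (Coh.push f)) (Groth.Agent.Lib.Helper6.ModAbPush.tS Y) ≪≫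
      (NatIso.ofComponents (fun _ => Iso.refl _) (by intros; simp; rfl) :
        Coh.push f ⋙ (Groth.Agent.Lib.Helper6.ModAbPush.tS Y) ≅ (Groth.Agent.Lib.Helper6.ModAbPush.tS X) ⋙ Coh.pushAb f) ≪≫
      Functor.isoWhiskerLeft (Groth.Agent.Lib.Helper6.ModAbPush.tS X) (Functor.rightDerivedZeroIsoSelf (Coh.pushAb f)).symm
  exact Groth.Agent.Lib.Helper6.DeltaCompare.delta_compare
    (fun n => (Coh.push f).rightDerived n ⋙ (Groth.Agent.Lib.Helper6.ModAbPush.tS Y))
    (fun n => (Groth.Agent.Lib.Helper6.ModAbPush.tS X) ⋙ (Coh.pushAb f).rightDerived n) θ (fun _ => True)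
    (fun G _ => by
      let E : ShortComplex X.Modules :=
        ShortComplex.mk (Injective.ι G) (Limits.cokernel.π (Injective.ι G))
          (Limits.cokernel.condition _)
      have hE : E.ShortExact :=
        { exact := ShortComplex.exact_cokernel _
          mono_f := inferInstanceAs (Mono (Injective.ι G))
          epi_g := inferInstanceAs (Epi (Limits.cokernel.π (Injective.ι G))) }
      haveI hI : Injective E.X₂ := inferInstanceAs (Injective (Injective.under G))
      refine ⟨_, _, E.f, E.g, trivial, ?_, ?_⟩
      · exact Groth.Agent.Lib.Helper6.RDShift.HasShift.comp_exact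
          (Groth.Agent.Lib.Helper6.RDShift.hasShift_rightDerived (Coh.push f) E hE
            (fun n => Functor.isZero_rightDerived_obj_injective_succ _ n _)) (Groth.Agent.Lib.Helper6.ModAbPush.tS Y)
      · refine Groth.Agent.Lib.Helper6.RDShift.hasShift_comp_rightDerived (Coh.pushAb f) (Groth.Agent.Lib.Helper6.ModAbPush.tS X) E
          (hE.map_of_exact (Groth.Agent.Lib.Helper6.ModAbPush.tS X)) (fun n => ?_)
        exact Groth.Agent.Lib.Helper6.ModAbPush.isZero_Rpush_of_totallyAcyclic _ _
          (TopologicalSpace.Opens.map f.base) _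
          (Groth.Agent.Lib.Helper6.ModAbPush.totallyAcyclic_of_injective X (Injective.under G)
            inferInstance) n)
    n M trivial

end Groth.Agent.S11319
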