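import Groth.Statements.S0034
import Groth.Agent.Lib.Helper17.FlatBCH3
import Mathlib
set_option backward.isDefEq.respectTransparency.types false

set_option autoImplicit false
universe u
open Coherent

namespace Groth.Agent.S0034
open AlgebraicGeometry CategoryTheory TensorProduct Opposite TopologicalSpace CategoryTheory.Limits Abelian
open Groth.Agent.Lib.Helper17.ExtTensor Groth.Agent.Lib.Helper17.FlatBCH1 Groth.Agent.Lib.Helper17.FlatBCH2
  Groth.Agent.Lib.Helper17.FlatBCH3 Groth.Agent.Lib.Helper17.HCompare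

section
variable (A B : Type u) [CommRing A] [CommRing B] [Algebra A B] (X X' : Scheme.{u})
  [X.Over (Spec (CommRingCat.of A))] [X'.Over (Spec (CommRingCat.of B))] (g' : X' ⟶ X)
  (h : IsPullback g' (X' ↘ Spec (CommRingCat.of B)) (X ↘ Spec (CommRingCat.of A))
      (Spec.map (CommRingCat.ofHom (algebraMap A B))))

include h in
theorem hι (a : A) :
    g'.appTop.hom (Coh.toGlobal (X ↘ Spec (CommRingCat.of A)) a) =
      Coh.toGlobal (X' ↘ Spec (CommRingCat.of B)) (algebraMap A B a) := by
  have hw := congrArg (fun φ => Scheme.Hom.appTop φ) h.w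
  simp only [Scheme.Hom.comp_appTop] at hw
  have h1 := congrArg (fun φ => φ.hom ((Scheme.ΓSpecIso (CommRingCat.of A)).inv.hom a)) hw
  simp only [CommRingCat.hom_comp, RingHom.comp_apply] at h1
  refine h1.trans ?_
  change (X' ↘ Spec (CommRingCat.of B)).appTop.hom _ = (X' ↘ Spec (CommRingCat.of B)).appTop.hom _
  congr 1
  exact (congrArg (fun φ => φ.hom a)
    (Scheme.ΓSpecIso_inv_naturality (CommRingCat.ofHom (algebraMap A B)))).symm


include h in
theorem hpo (U : X.Opens) (hU : IsAffineOpen U) :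
    IsPushout (CommRingCat.ofHom (algebraMap A B))
      (CommRingCat.ofHom (αU (Coh.toGlobal (X ↘ Spec (CommRingCat.of A))) U))
      (CommRingCat.ofHom (αU (Coh.toGlobal (X' ↘ Spec (CommRingCat.of B))) (g' ⁻¹ᵁ U)))
      (CommRingCat.ofHom (g'.appLE U (g' ⁻¹ᵁ U) le_rfl).hom) := by
  have hUY : g' ⁻¹ᵁ U = g' ⁻¹ᵁ U ⊓ (X' ↘ Spec (CommRingCat.of B)) ⁻¹ᵁ ⊤ := by
    rw [Scheme.Hom.preimage_top, inf_top_eq]
  have hST : (⊤ : (Spec (CommRingCat.of B)).Opens) ≤
      (Spec.map (CommRingCat.ofHom (algebraMap A B))) ⁻¹ᵁ ⊤ := le_top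
  have hSX : U ≤ (X ↘ Spec (CommRingCat.of A)) ⁻¹ᵁ ⊤ := le_top
  haveI := isIso_pushoutSection_of_isAffineOpen h hST hSX hUY (isAffineOpen_top _) (isAffineOpen_top _) hU
  have hp := ((isIso_pushoutSection_iff h hST hSX hUY).mp inferInstance).flip
  refine hp.of_iso (Scheme.ΓSpecIso (CommRingCat.of A)) (Scheme.ΓSpecIso (CommRingCat.of B))
    (Iso.refl _) (Iso.refl _) ?_ ?_ ?_ ?_
  · have e1 : Scheme.Hom.appLE (Spec.map (CommRingCat.ofHom (algebraMap A B))) ⊤ ⊤ hST =
        (Spec.map (CommRingCat.ofHom (algebraMap A B))).appTop :=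
      (Scheme.Hom.app_eq_appLE _).symm
    rw [e1]
    exact Scheme.ΓSpecIso_naturality (CommRingCat.ofHom (algebraMap A B))
  · ext a
    have h1 : (Scheme.ΓSpecIso (CommRingCat.of A)).inv.hom ((Scheme.ΓSpecIso (CommRingCat.of A)).hom.hom a) = a :=
      congrArg (fun φ => φ.hom a) (Scheme.ΓSpecIso (CommRingCat.of A)).hom_inv_id
    change _ = Coh.resTop X (op U) ((X ↘ Spec (CommRingCat.of A)).appTop.hom
      ((Scheme.ΓSpecIso (CommRingCat.of A)).inv.hom ((Scheme.ΓSpecIso (CommRingCat.of A)).hom.hom a)))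
    rw [h1]
    rfl
  · ext a
    have h1 : (Scheme.ΓSpecIso (CommRingCat.of B)).inv.hom ((Scheme.ΓSpecIso (CommRingCat.of B)).hom.hom a) = a :=
      congrArg (fun φ => φ.hom a) (Scheme.ΓSpecIso (CommRingCat.of B)).hom_inv_id
    change _ = Coh.resTop X' (op (g' ⁻¹ᵁ U)) ((X' ↘ Spec (CommRingCat.of B)).appTop.hom
      ((Scheme.ΓSpecIso (CommRingCat.of B)).inv.hom ((Scheme.ΓSpecIso (CommRingCat.of B)).hom.hom a)))
    rw [h1]
    rfl
  · rfl

end


open AlgebraicGeometry CategoryTheory TensorProduct in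
/-- Flat base change over an affine base. Let A → B be flat, X quasi-compact and quasi-separated over
Spec A, X' a scheme over Spec B with g' : X' → X exhibiting X' = X ×_A Spec B, and F a
quasi-coherent O_X-module. Then H^i(X, F) ⊗_A B ≅ H^i(X', g'^* F) as B-modules. The published
statement asserts that the natural map is an isomorphism; only the existence of a B-linear
isomorphism is asserted here. -/
theorem result (A B : Type u) [CommRing A] [CommRing B] [Algebra A B]
    [Module.Flat A B] (X X' : Scheme.{u}) [X.Over (Spec (CommRingCat.of A))]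
    [X'.Over (Spec (CommRingCat.of B))] [CompactSpace X] [QuasiSeparatedSpace X] (g' : X' ⟶ X)
    (h : IsPullback g' (X' ↘ Spec (CommRingCat.of B)) (X ↘ Spec (CommRingCat.of A))
      (Spec.map (CommRingCat.ofHom (algebraMap A B))))
    (M : X.Modules) [Coh.IsQCoh M] (i : ℕ) :
    Nonempty (TensorProduct A B (Coh.HH X M i) ≃ₗ[B] Coh.HH X' ((Scheme.Modules.pullback g').obj M) i) := by
  haveI : IsAffineHom g' := MorphismProperty.of_isPullback (P := @IsAffineHom) h.flip inferInstance
  haveI : M.IsQuasicoherent := ‹Coh.IsQCoh M›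
  obtain ⟨Φ, hΦ, hΦs⟩ := exists_comparison g' (Coh.toGlobal (X ↘ Spec (CommRingCat.of A)))
    (Coh.toGlobal (X' ↘ Spec (CommRingCat.of B))) M (hι A B X X' g' h) (hpo A B X X' g' h) i
  let e₁ : Coh.HH X M i ≃ₗ[A]
      E (actF (Coh.toGlobal (X ↘ Spec (CommRingCat.of A))) M) (ZZ (Opens.grothendieckTopology X)) i :=
    { toFun := fun x => x
      invFun := fun x => x
      left_inv := fun _ => rfl
      right_inv := fun _ => rfl
      map_add' := fun _ _ => rfl
      map_smul' := fun _ _ => rfl }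
  let c := TensorProduct.AlgebraTensorModule.congr (LinearEquiv.refl B B) e₁
  let Ψ : B ⊗[A] Coh.HH X M i →ₗ[B] Coh.HH X' ((Scheme.Modules.pullback g').obj M) i :=
    { toFun := fun t => Φ (c t)
      map_add' := fun s t => by rw [map_add, map_add]
      map_smul' := fun b t => by
        rw [map_smul, hΦs]
        rfl }
  exact ⟨LinearEquiv.ofBijective Ψ (hΦ.comp c.bijective)⟩

end Groth.Agent.S0034
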