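import Groth.Statements.S2357
import Groth.Agent.Lib.Helper17.ProjFG
import Mathlib

set_option autoImplicit false
universe u
open CategoryTheory CategoryTheory.Limits AlgebraicGeometry
open EGA2

namespace Groth.Agent.S2357

/-- If A is a graded ring which is Noetherian, then Proj A is a Noetherian scheme. -/
theorem result {R A : Type u} [CommRing R] [CommRing A] [Algebra R A] (𝒜 : ℕ → Submodule R A) [GradedAlgebra 𝒜] [IsNoetherianRing A] :
    IsNoetherian (Proj 𝒜) := by
  classical
  have hfg : (HomogeneousIdeal.irrelevant 𝒜).toIdeal.FG := IsNoetherian.noetherian _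
  obtain ⟨G, D, hG, hspan⟩ := Groth.Agent.Lib.Helper17.exists_homogeneous_generators 𝒜 hfg
  -- every homogeneous element lies in the subalgebra generated by `G` over `𝒜 0`
  have key : ∀ (k : ℕ) (x : A), x ∈ 𝒜 k → x ∈ Algebra.adjoin (𝒜 0) (G : Set A) := by
    intro k
    induction k using Nat.strong_induction_on with
    | _ k ih =>
      intro x hx
      by_cases hk : k = 0
      · subst hk
        exact Subalgebra.algebraMap_mem _ (⟨x, hx⟩ : 𝒜 0)
      · have hxS : x ∈ Ideal.span (G : Set A) := by
          rw [hspan]; exact HomogeneousIdeal.mem_irrelevant_of_mem 𝒜 (Nat.pos_of_ne_zero hk) hx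
        obtain ⟨c, -, hc⟩ := Submodule.mem_span_finset.mp hxS
        have hxk : x = (DirectSum.decompose 𝒜 x k : A) :=
          (DirectSum.decompose_of_mem_same 𝒜 hx).symm
        rw [hxk, ← hc, DirectSum.decompose_sum, DFinsupp.finsetSum_apply,
          AddSubmonoidClass.coe_finsetSum]
        refine Subalgebra.sum_mem _ fun g hg => ?_
        obtain ⟨l, hl0, hlD, hgl⟩ := hG g hg
        rw [smul_eq_mul]
        by_cases hlk : l ≤ k
        · rw [DirectSum.coe_decompose_mul_of_right_mem_of_le 𝒜 hgl hlk]
          exact Subalgebra.mul_mem _ (ih (k - l) (by omega) _ (SetLike.coe_mem _))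
            (Algebra.subset_adjoin hg)
        · rw [DirectSum.coe_decompose_mul_of_right_mem_of_not_le 𝒜 hgl hlk]
          exact Subalgebra.zero_mem _
  haveI : Algebra.FiniteType (𝒜 0) A := by
    refine ⟨⟨G, ?_⟩⟩
    rw [eq_top_iff]
    intro a _
    rw [← DirectSum.sum_support_decompose 𝒜 a]
    exact Subalgebra.sum_mem _ fun j _ => key j _ (SetLike.coe_mem _)
  haveI : IsNoetherianRing (𝒜 0) := GradedRing.GradeZero.isNoetherianRing 𝒜
  haveI : IsLocallyNoetherian (Proj 𝒜) :=
    LocallyOfFiniteType.isLocallyNoetherian (Proj.toSpecZero 𝒜)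
  haveI : CompactSpace (Proj 𝒜) := QuasiCompact.compactSpace_of_compactSpace (Proj.toSpecZero 𝒜)
  exact {}

end Groth.Agent.S2357
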