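import Groth.Statements.S0046
import Groth.Agent.Lib.Helper17.FinTypeConv
import Groth.Agent.Lib.Helper28.ModExact
import Mathlib
set_option backward.isDefEq.respectTransparency.types false

set_option autoImplicit false
universe u
open Coherent

namespace Groth.Agent.S0046
open AlgebraicGeometry CategoryTheory Opposite
open Groth.Agent.Lib.Helper28.QCohLoc


open AlgebraicGeometry CategoryTheory in
/-- On a locally Noetherian scheme, a quasi-coherent submodule of a coherent module is coherent. (The
statement about quotients is omitted.) -/
theorem result (X : Scheme.{u}) [IsLocallyNoetherian X]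
    (M N : X.Modules) (i : N ⟶ M) [Mono i] (hM : Coh.IsCoh M) (hN : Coh.IsQCoh N) : Coh.IsCoh N := by
  haveI : N.IsQuasicoherent := hN
  haveI : M.IsQuasicoherent := hM.1
  haveI : SheafOfModules.IsFiniteType.{u} (R := X.ringCatSheaf) M := hM.2
  refine ⟨hN, ?_⟩
  apply Groth.Agent.Lib.Helper17.FinTypeConv.isFiniteType_of_forall_finite_sections
  intro U
  haveI : IsNoetherianRing Γ(X, U.1) := IsLocallyNoetherian.component_noetherian U
  haveI := Groth.Agent.Lib.Helper28.FinType.finite_of_isAffineOpen M U.2
  let φ : Γ(N, U.1) →ₗ[Γ(X, U.1)] Γ(M, U.1) := (i.val.app (op U.1)).hom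
  have hφ : Function.Injective φ := injective_of_mono i inferInstance U.1
  exact Module.Finite.of_injective φ hφ

end Groth.Agent.S0046
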