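import Groth.Statements.S5105
import Groth.Agent.Lib.Helper1.PicClUfd1

set_option autoImplicit false
universe u
open CategoryTheory CategoryTheory.Limits AlgebraicGeometry TopologicalSpace
open Div21

namespace Groth.Agent.S5105

/-- For an integral scheme (X is locally factorial exactly when the canonical map Pic(X) → Cl(X) is a
bijection; in the presence of (i), being bijective means that each codimension-1 cycle arises as the
Weil divisor of some rational section of an invertible module): suppose X is an integral scheme that
is normal and locally Noetherian. Then these two conditions are equivalent: (1) whenever Z is a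
function from the points of X to the integers that is zero away from the points of codimension 1
(coheight 1) and whose support is locally finite, one can find an invertible O_X-module L together
with a nonzero rational section s of L (a nonzero element of the generic fibre of L) such that, at
each point of codimension 1, the order of s equals the value Z takes there; (2) each local ring of X
is a unique factorisation domain. -/
theorem result (X : Scheme.{u}) [IsIntegral X]
    [IsLocallyNoetherian X] (hX : Pi1.IsNormalScheme X) :
    (∀ Z : ↥X → ℤ, (∀ x : ↥X, Order.coheight x ≠ 1 → Z x = 0) →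
        (∀ x : ↥X, ∃ W : X.Opens, x ∈ W ∧ {z : ↥X | z ∈ W ∧ Z z ≠ 0}.Finite) →
        ∃ (L : X.Modules) (_ : PicF.IsInvertible L) (s : Cyc.secFibre L (genericPoint ↥X)), s ≠ 0 ∧
          ∀ x : ↥X, Order.coheight x = 1 →
            Cyc.secOrdAt L (genericPoint ↥X) x (genericPoint_specializes x) s = Z x) ↔
      ∀ x : ↥X, UniqueFactorizationMonoid ↑(X.presheaf.stalk x) := by
  classical
  constructor
  · intro H x
    refine Groth.Agent.Lib.Helper1.PicClUfd.ufm_stalk_of_primeEquations hX x fun z hzx hz => ?_
    let Z : ↥X → ℤ := fun y => if y = z then 1 else 0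
    have hZz : Z z = 1 := if_pos rfl
    have hZo : ∀ y : ↥X, y ≠ z → Z y = 0 := fun y hy => if_neg hy
    obtain ⟨L, hL, s, hs, hord⟩ := H Z
      (fun y hy => hZo y (fun h => hy (h ▸ hz)))
      (fun y => ⟨⊤, trivial, (Set.finite_singleton z).subset (by
        rintro w ⟨-, hw⟩
        by_contra hne
        exact hw (hZo w hne))⟩)
    exact Groth.Agent.Lib.Helper1.PicClUfd.exists_isPrimeEquation_of_section hX L hL s hs z hz Z hZz hZo
      hord x hzx
  · intro hufm Z hZ hfin
    obtain ⟨F, hF, s, hs, hord⟩ := Groth.Agent.Lib.Helper1.WeilIdeal.exists_ref1_of_divisor hX Z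
      (fun z => by
        obtain ⟨W, hzW, hWfin⟩ := hfin z
        exact ⟨(W : Set ↥X), W.isOpen.mem_nhds hzW, hWfin.subset (fun y hy => ⟨hy.1, hy.2⟩)⟩) hZ
    exact ⟨F, Groth.Agent.Lib.Helper1.PicClUfd.isInvertible_of_isRef1_of_ufm F hF hufm, s, hs,
      fun x hx => (hord x hx).symm⟩

end Groth.Agent.S5105
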