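import Groth.Statements.S9886
-- import your own Groth.Agent.* helpers here

set_option autoImplicit false
universe u
open CategoryTheory CategoryTheory.Limits AlgebraicGeometry
open AlgSp

namespace Groth.Agent.S9886

/-- The equalizer of `a, b : T ⟶ F`, written as the pullback of the diagonal of `F`, is the pullback
of `T ×_F T ⟶ T × T` along the diagonal of `T`. -/
theorem exists_isPullback_diag {D : Type*} [Category D] [HasBinaryProducts D] {T F V W : D}
    (a b : T ⟶ F) {p₁ p₂ : W ⟶ T} (sqW : IsPullback p₁ p₂ a b) {fst : V ⟶ F} {snd : V ⟶ T}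
    (sqV : IsPullback fst snd (Limits.diag F) (prod.lift a b)) :
    ∃ e : V ⟶ W, e ≫ p₁ = snd ∧ e ≫ p₂ = snd ∧
      IsPullback e snd (prod.lift p₁ p₂) (Limits.diag T) := by
  have h1 : fst = snd ≫ a := by
    have := sqV.w =≫ prod.fst
    simp only [Category.assoc, prod.lift_fst, Limits.diag] at this
    simpa using this
  have h2 : fst = snd ≫ b := by
    have := sqV.w =≫ prod.snd
    simp only [Category.assoc, prod.lift_snd, Limits.diag] at this
    simpa using this
  have hab : snd ≫ a = snd ≫ b := h1.symm.trans h2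
  refine ⟨sqW.lift snd snd hab, sqW.lift_fst _ _ _, sqW.lift_snd _ _ _, ?_⟩
  refine IsPullback.mk' ?_ ?_ ?_
  · apply Limits.prod.hom_ext
    · simp only [Category.assoc, prod.lift_fst, Limits.diag, Category.comp_id, sqW.lift_fst]
    · simp only [Category.assoc, prod.lift_snd, Limits.diag, Category.comp_id, sqW.lift_snd]
  · intro Z φ φ' _ h
    apply sqV.hom_ext
    · rw [h1, ← Category.assoc, ← Category.assoc, h]
    · exact h
  · intro Z x y hxy
    have hx1 : x ≫ p₁ = y := by
      have := hxy =≫ prod.fst
      simp only [Category.assoc, prod.lift_fst, Limits.diag] at this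
      simpa using this
    have hx2 : x ≫ p₂ = y := by
      have := hxy =≫ prod.snd
      simp only [Category.assoc, prod.lift_snd, Limits.diag] at this
      simpa using this
    have hy : y ≫ a = y ≫ b := by
      rw [← hx1, Category.assoc, sqW.w, ← Category.assoc, hx2, hx1]
    have hw : (y ≫ a) ≫ Limits.diag F = y ≫ prod.lift a b := by
      apply Limits.prod.hom_ext
      · simp only [Category.assoc, prod.lift_fst, Limits.diag, Category.comp_id]
      · simp only [Category.assoc, prod.lift_snd, Limits.diag, Category.comp_id, hy]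
    refine ⟨sqV.lift (y ≫ a) y hw, ?_, sqV.lift_snd _ _ _⟩
    apply sqW.hom_ext
    · rw [Category.assoc, sqW.lift_fst, sqV.lift_snd, hx1]
    · rw [Category.assoc, sqW.lift_snd, sqV.lift_snd, hx2]

/-- A commutative square is a pullback as soon as it is one after composing both legs with a
monomorphism. -/
theorem isPullback_of_comp_mono {D : Type*} [Category D] {P X Y Z Z' : D} {fst : P ⟶ X}
    {snd : P ⟶ Y} {f : X ⟶ Z} {g : Y ⟶ Z} (i : Z ⟶ Z') [Mono i]
    (h : IsPullback fst snd (f ≫ i) (g ≫ i)) : IsPullback fst snd f g := by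
  refine IsPullback.mk' ?_ ?_ ?_
  · rw [← cancel_mono i, Category.assoc, Category.assoc, h.w]
  · intro T φ φ' h1 h2
    exact h.hom_ext h1 h2
  · intro T a b hab
    exact ⟨h.lift a b (by rw [← Category.assoc, hab, Category.assoc]), h.lift_fst _ _ _,
      h.lift_snd _ _ _⟩

/-- Let `F` be an fppf sheaf of sets over `S` and `P` a property of morphisms of schemes stable under
base change. Assume that for all schemes `U`, `V` over `S` and all `a : h_U ⟶ F`, `b : h_V ⟶ F` the
fibre product `h_U ×_F h_V` is represented by some scheme `W` over `S` with its projections induced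
by morphisms `W ⟶ U`, `W ⟶ V`, and that for every such represented fibre product the morphism `W ⟶ U
×_S V` has `P`. Then the diagonal `F ⟶ F × F` is representable by schemes and has `P`. (The
published statement is for a presheaf of sets `F` and a property `P` that is also fppf local on the
base; this row takes `F` an fppf sheaf and `P` only stable under base change.) -/
theorem result (S : Scheme.{u}) (F : AlgSp.Sp S) (P : MorphismProperty Scheme.{u})
    [P.IsStableUnderBaseChange]
    (h₁ : ∀ ⦃U V : Over S⦄ (a : (AlgSp.yon S).obj U ⟶ F) (b : (AlgSp.yon S).obj V ⟶ F),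
      ∃ (W : Over S) (fst : W ⟶ U) (snd : W ⟶ V), IsPullback ((AlgSp.yon S).map fst) ((AlgSp.yon S).map snd) a b)
    (h₂ : ∀ ⦃U V W : Over S⦄ (a : (AlgSp.yon S).obj U ⟶ F) (b : (AlgSp.yon S).obj V ⟶ F) (fst : W ⟶ U)
      (snd : W ⟶ V), IsPullback ((AlgSp.yon S).map fst) ((AlgSp.yon S).map snd) a b → P (prod.lift fst snd).left) :
    AlgSp.RepWith P (Limits.diag F) := by
  have hrep : AlgSp.Representable (Limits.diag F) := by
    refine Functor.relativelyRepresentable.diag_of_map_from_obj (fun U a V b => ?_)
    obtain ⟨W, fst, snd, sq⟩ := h₁ a b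
    exact ⟨W, snd, (AlgSp.yon S).map fst, sq⟩
  refine ⟨hrep, fun T V g fst snd sqV => ?_⟩
  change P snd.left
  obtain ⟨W, p₁, p₂, sqW⟩ := h₁ (g ≫ prod.fst) (g ≫ prod.snd)
  have hg : g = prod.lift (g ≫ prod.fst) (g ≫ prod.snd) := by
    apply Limits.prod.hom_ext
    · simp only [prod.lift_fst]
    · simp only [prod.lift_snd]
  rw [hg] at sqV
  obtain ⟨e', he1, he2, sqe⟩ := exists_isPullback_diag _ _ sqW sqV
  obtain ⟨e, rfl⟩ := (AlgSp.yon S).map_surjective e'
  have hP := h₂ _ _ p₁ p₂ sqW
  have h3 : prod.lift ((AlgSp.yon S).map p₁) ((AlgSp.yon S).map p₂) =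
      (AlgSp.yon S).map (prod.lift p₁ p₂) ≫ prodComparison (AlgSp.yon S) T T := by
    apply Limits.prod.hom_ext
    · simp only [prod.lift_fst, Category.assoc, prodComparison_fst, ← Functor.map_comp]
    · simp only [prod.lift_snd, Category.assoc, prodComparison_snd, ← Functor.map_comp]
  rw [h3, AlgSp.diag_yon_obj] at sqe
  have sqe' := isPullback_of_comp_mono _ sqe
  have sqe'' : IsPullback e snd (prod.lift p₁ p₂) (Limits.diag T) :=
    IsPullback.of_map_of_faithful (AlgSp.yon S) sqe'
  exact P.of_isPullback (sqe''.map (Over.forget S)) hP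

end Groth.Agent.S9886
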