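import Groth.Statements.S9882
import Groth.Agent.Lib.Helper3.AlgSpDiag

set_option autoImplicit false
universe u
open CategoryTheory CategoryTheory.Limits AlgebraicGeometry
open AlgSp

namespace Groth.Agent.S9882

open Groth.Agent.Lib.Helper3

/-- The diagonal of an algebraic space is (representably) locally of finite type and a
monomorphism. -/
theorem repWith_diag_lft_mono {S : Scheme.{u}} (X : AlgSp.Sp S) (hX : AlgSp.IsAlgSpace X) :
    AlgSp.RepWith (@LocallyOfFiniteType ⊓ MorphismProperty.monomorphisms Scheme.{u})
      (Limits.diag X) := by
  obtain ⟨U, p, hpe, hps⟩ := hX.atlas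
  have sq := hpe.rep.isPullback p
  obtain ⟨t, ht⟩ := (AlgSp.yon S).map_surjective (hpe.rep.fst p)
  rw [← ht] at sq
  have : MorphismProperty.IsLocalAtTarget
      (@LocallyOfFiniteType ⊓ MorphismProperty.monomorphisms Scheme.{u})
      Scheme.fppfPrecoverage.{u} := by
    have := isLocalAtTarget_fppf_lft.{u}
    have := isLocalAtTarget_fppf_monomorphisms.{u}
    infer_instance
  rw [repWith_diag_iff X hX.diag p hpe hps _ t sq]
  constructor
  · have h1 : Etale t.left := hpe.property _ _ _ sq.flip
    have h2 : (prod.lift t (hpe.rep.snd p)).left ≫ (prod.fst : U ⨯ U ⟶ U).left = t.left := by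
      rw [← Over.comp_left, prod.lift_fst]
    have h3 : LocallyOfFiniteType ((prod.lift t (hpe.rep.snd p)).left ≫
        (prod.fst : U ⨯ U ⟶ U).left) := by
      rw [h2]; infer_instance
    exact locallyOfFiniteType_of_comp _ (prod.fst : U ⨯ U ⟶ U).left
  · have hm : Mono (prod.lift ((AlgSp.yon S).map t) ((AlgSp.yon S).map (hpe.rep.snd p))) := by
      have := (isPullback_diag_of_isPullback sq).mono_snd_of_mono
        (inferInstance : Mono (Limits.diag X))
      exact this
    rw [prod_lift_yon] at hm
    have hm' : Mono ((AlgSp.yon S).map (prod.lift t (hpe.rep.snd p))) := mono_of_mono _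
      (prodComparison (AlgSp.yon S) U U)
    have hm'' : Mono (prod.lift t (hpe.rep.snd p)) := (AlgSp.yon S).mono_of_mono_map hm'
    change Mono (prod.lift t (hpe.rep.snd p)).left
    infer_instance

/-- Let `X` be an algebraic space over `S` with diagonal `Δ : X ⟶ X × X` (representable by schemes).
Then, in the representable sense, `Δ` is locally of finite type, a monomorphism, separated, and
locally quasi-finite. (Mathlib's locally quasi-finite class has no finite-type clause; together with
the first conjunct this is the usual notion.) -/
theorem result (S : Scheme.{u}) (X : AlgSp.Space S) :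
    AlgSp.RepWith @LocallyOfFiniteType (Limits.diag X.obj) ∧
      AlgSp.RepWith (MorphismProperty.monomorphisms Scheme.{u}) (Limits.diag X.obj) ∧
      AlgSp.RepWith @IsSeparated (Limits.diag X.obj) ∧
      AlgSp.RepWith @LocallyQuasiFinite (Limits.diag X.obj) := by
  have h := repWith_diag_lft_mono X.obj X.property
  refine ⟨repWith_mono inf_le_left h, repWith_mono inf_le_right h, repWith_mono ?_ h,
    repWith_mono ?_ h⟩
  · intro A B f hf
    have : Mono f := hf.2
    infer_instance
  · intro A B f hf
    have : Mono f := hf.2
    have : LocallyOfFiniteType f := hf.1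
    infer_instance

end Groth.Agent.S9882
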