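import Groth.Statements.S9900
import Groth.Agent.S9882

set_option autoImplicit false
universe u
open CategoryTheory CategoryTheory.Limits AlgebraicGeometry
open AlgSp

namespace Groth.Agent.S9900

open Groth.Agent.Lib.Helper3

/-- The relative diagonal of `f : X ⟶ Y` is a base change of the absolute diagonal of `X`. -/
theorem isPullback_diagonal {D : Type*} [Category D] [HasPullbacks D] [HasBinaryProducts D]
    {X Y : D} (f : X ⟶ Y) :
    IsPullback (𝟙 X) (pullback.diagonal f) (Limits.diag X)
      (prod.lift (pullback.fst f f) (pullback.snd f f)) := by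
  have : Mono (prod.lift (pullback.fst f f) (pullback.snd f f)) := by
    refine ⟨fun a b h => ?_⟩
    apply pullback.hom_ext
    · have := h =≫ prod.fst
      simpa only [Category.assoc, prod.lift_fst] using this
    · have := h =≫ prod.snd
      simpa only [Category.assoc, prod.lift_snd] using this
  refine IsPullback.of_horiz_isIso_mono ⟨?_⟩
  apply Limits.prod.hom_ext
  · simp only [Category.id_comp, Limits.diag, prod.lift_fst, Category.assoc,
      pullback.diagonal_fst]
  · simp only [Category.id_comp, Limits.diag, prod.lift_snd, Category.assoc,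
      pullback.diagonal_snd]

theorem repWith_diagonal_of_repWith_diag {S : Scheme.{u}} (P : MorphismProperty Scheme.{u})
    {X Y : AlgSp.Sp S} (f : X ⟶ Y) (h : AlgSp.RepWith P (Limits.diag X)) :
    AlgSp.RepWith P (pullback.diagonal f) :=
  MorphismProperty.of_isPullback (isPullback_diagonal f) h

theorem repWith_diagonal_lft_mono {S : Scheme.{u}} {X Y : AlgSp.Sp S} (hX : AlgSp.IsAlgSpace X)
    (f : X ⟶ Y) :
    AlgSp.RepWith (@LocallyOfFiniteType ⊓ MorphismProperty.monomorphisms Scheme.{u})
      (pullback.diagonal f) :=
  repWith_diagonal_of_repWith_diag _ f (Groth.Agent.S9882.repWith_diag_lft_mono X hX)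

/-- For a morphism of algebraic spaces the relative diagonal is representable by schemes, locally of
finite type, a monomorphism, separated and locally quasi-finite (each in the representable sense). -/
theorem result {S : Scheme.{u}} {X Y : AlgSp.Space S} (f : X ⟶ Y) :
    AlgSp.Representable (pullback.diagonal f.hom) ∧
    AlgSp.RepWith @LocallyOfFiniteType (pullback.diagonal f.hom) ∧
    AlgSp.RepWith (MorphismProperty.monomorphisms Scheme.{u}) (pullback.diagonal f.hom) ∧
    AlgSp.RepWith @IsSeparated (pullback.diagonal f.hom) ∧
    AlgSp.RepWith (@LocallyQuasiFinite ⊓ @LocallyOfFiniteType) (pullback.diagonal f.hom) := by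
  have h := repWith_diagonal_lft_mono X.property f.hom
  refine ⟨h.rep, repWith_mono inf_le_left h, repWith_mono inf_le_right h, repWith_mono ?_ h,
    repWith_mono ?_ h⟩
  · intro A B f hf
    have : Mono f := hf.2
    infer_instance
  · intro A B f hf
    have : Mono f := hf.2
    have : LocallyOfFiniteType f := hf.1
    exact ⟨inferInstance, hf.1⟩

end Groth.Agent.S9900
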