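import Groth.Statements.S9885
-- import your own Groth.Agent.* helpers here

set_option autoImplicit false
universe u
open CategoryTheory CategoryTheory.Limits AlgebraicGeometry
open AlgSp

namespace Groth.Agent.S9885

/-- A sieve on `U : Over S` containing one fppf covering morphism is a covering sieve. -/
theorem mem_J_of_fppf {S : Scheme.{u}} {U V : Over S} (snd : V ⟶ U) (hfl : Flat snd.left)
    (hsu : Surjective snd.left) (hfp : LocallyOfFinitePresentation snd.left)
    (R : Sieve U) (h : R snd) : R ∈ AlgSp.J S U := by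
  change R ∈ (Scheme.fppfTopology.over S) U
  rw [GrothendieckTopology.mem_over_iff]
  refine Scheme.fppfTopology.superset_covering ?_
    (Precoverage.generate_mem_toGrothendieck snd.left.singleton_mem_fppfPrecoverage)
  rw [Sieve.generate_le_iff]
  rintro Z g ⟨⟩
  rw [Sieve.overEquiv_iff]
  have : (Over.homMk snd.left : Over.mk (snd.left ≫ U.hom) ⟶ U) =
      (Over.homMk (𝟙 V.left) (by simp) : Over.mk (snd.left ≫ U.hom) ⟶ V) ≫ snd := by
    ext; simp
  rw [this]
  exact R.downward_closed h _

/-- For a pullback square of `a` along a section `s` of `G` over `U`, the image sieve contains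
the projection. -/
theorem imageSieve_of_isPullback {S : Scheme.{u}} {F G : AlgSp.Sp S} (a : F ⟶ G) {U V : Over S}
    (g : (AlgSp.yon S).obj U ⟶ G) (fst : (AlgSp.yon S).obj V ⟶ F) (snd : V ⟶ U)
    (w : fst ≫ a = (AlgSp.yon S).map snd ≫ g) :
    Presheaf.imageSieve a.hom ((AlgSp.J S).uliftYonedaEquiv.{u+1} g) snd := by
  refine ⟨(AlgSp.J S).uliftYonedaEquiv.{u+1} fst, ?_⟩
  have h1 := (AlgSp.J S).uliftYonedaEquiv_comp.{u+1} fst a
  have h2 := (AlgSp.J S).uliftYonedaEquiv_naturality.{u+1} g snd
  rw [← w] at h2
  rw [← h1, h2]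

/-- Let `a : F ⟶ G` be a map of fppf sheaves of sets over `S` which is representable by schemes, flat,
locally of finite presentation and surjective (in the representable sense). Then `a` is surjective
as a map of sheaves (locally surjective). -/
theorem result (S : Scheme.{u}) (F G : AlgSp.Sp S) (a : F ⟶ G)
    (h₁ : AlgSp.RepWith @Flat a) (h₂ : AlgSp.RepWith @LocallyOfFinitePresentation a)
    (h₃ : AlgSp.RepWith @Surjective a) : Sheaf.IsLocallySurjective a := by
  constructor
  intro U s
  obtain ⟨g, rfl⟩ := (AlgSp.J S).uliftYonedaEquiv.{u+1}.surjective s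
  have sq := h₁.rep.isPullback g
  exact mem_J_of_fppf (h₁.rep.snd g) (h₁.property_snd g) (h₃.property _ _ _ sq)
    (h₂.property _ _ _ sq) _ (imageSieve_of_isPullback a g _ _ sq.w)

end Groth.Agent.S9885
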