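import Groth.Statements.S9884
import Groth.Agent.S9885

set_option autoImplicit false
universe u
open CategoryTheory CategoryTheory.Limits AlgebraicGeometry
open AlgSp

namespace Groth.Agent.S9884

/-- Base change of a represented pullback square along a morphism of schemes over `S`. -/
theorem isPullback_base_change {S : Scheme.{u}} {F G : AlgSp.Sp S} {a : F ⟶ G} {U V : Over S}
    {g : (AlgSp.yon S).obj U ⟶ G} {fst : (AlgSp.yon S).obj V ⟶ F} {snd : V ⟶ U}
    (sq : IsPullback fst ((AlgSp.yon S).map snd) a g) {U' : Over S} (i : U' ⟶ U) :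
    IsPullback ((AlgSp.yon S).map (pullback.fst snd i) ≫ fst)
      ((AlgSp.yon S).map (pullback.snd snd i)) a ((AlgSp.yon S).map i ≫ g) :=
  ((IsPullback.of_hasPullback snd i).map (AlgSp.yon S)).paste_horiz sq

/-- Descent of a property local at the target for the fppf precoverage along a covering sieve
of the big fppf site of `S`. -/
theorem of_forall_mem_sieve {S : Scheme.{u}} (P : MorphismProperty Scheme.{u})
    [P.IsLocalAtTarget Scheme.fppfPrecoverage] {U V : Over S} (snd : V ⟶ U)
    (R : Sieve U) (hR : R ∈ AlgSp.J S U)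
    (h : ∀ ⦃U' : Over S⦄ (i : U' ⟶ U), R i → P (pullback.snd snd i).left) : P snd.left := by
  change R ∈ (Scheme.fppfTopology.over S) U at hR
  have : Scheme.fppfPrecoverage.{u}.HasIsos :=
    ⟨fun f _ => f.singleton_mem_fppfPrecoverage⟩
  have : Scheme.fppfPrecoverage.{u}.HasPullbacks := by
    unfold Scheme.fppfPrecoverage; infer_instance
  rw [GrothendieckTopology.mem_over_iff,
    Precoverage.mem_toGrothendieck_iff_of_isStableUnderComposition] at hR
  obtain ⟨R₀, hR₀, hle⟩ := hR
  refine MorphismProperty.IsLocalAtTarget.of_forall_pullbackSnd hR₀ ?_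
  intro U₀ g₀ _ hg₀
  have h1 := hle _ _ hg₀
  rw [Sieve.overEquiv_iff] at h1
  have h2 := h _ h1
  have sq : IsPullback
      (pullback.fst snd (Over.homMk g₀ : Over.mk (g₀ ≫ U.hom) ⟶ U)).left
      (pullback.snd snd (Over.homMk g₀ : Over.mk (g₀ ≫ U.hom) ⟶ U)).left snd.left g₀ :=
    (IsPullback.of_hasPullback snd
      (Over.homMk g₀ : Over.mk (g₀ ≫ U.hom) ⟶ U)).map (Over.forget S)
  have e := sq.isoPullback_hom_snd
  rw [← P.cancel_left_of_respectsIso sq.isoPullback.hom, e]
  exact h2

/-- Let `a : F ⟶ G` be a map of fppf sheaves of sets over `S` which is representable by schemes, `b : H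
⟶ G` a surjective map of sheaves, and `a' : H ×_G F ⟶ H` the base change of `a` along `b` (a
pullback square in sheaves). Let `P` be a property of morphisms of schemes stable under base change
and fppf local on the base. If `a'` has `P` in the representable sense, then so does `a`. (The
published statement is for presheaves, with `b` inducing a surjection of fppf sheafifications; this
row is the case of sheaves.) -/
theorem result (S : Scheme.{u}) (F G H : AlgSp.Sp S) (a : F ⟶ G)
    (ha : AlgSp.Representable a) (b : H ⟶ G) [Sheaf.IsLocallySurjective b] (Q : AlgSp.Sp S) (b' : Q ⟶ F)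
    (a' : Q ⟶ H) (sq : IsPullback b' a' a b) (P : MorphismProperty Scheme.{u}) [P.IsStableUnderBaseChange]
    [P.IsLocalAtTarget Scheme.fppfPrecoverage] (h : AlgSp.RepWith P a') : AlgSp.RepWith P a := by
  refine ⟨ha, fun U V g fst snd sqV => ?_⟩
  change P snd.left
  have hb : Presheaf.imageSieve b.hom ((AlgSp.J S).uliftYonedaEquiv.{u+1} g) ∈ AlgSp.J S U :=
    Presheaf.imageSieve_mem _ _ _
  refine of_forall_mem_sieve P snd _ hb ?_
  rintro U' i ⟨t, ht⟩
  obtain ⟨k, rfl⟩ := (AlgSp.J S).uliftYonedaEquiv.{u+1}.surjective t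
  have hk : k ≫ b = (AlgSp.yon S).map i ≫ g := by
    apply (AlgSp.J S).uliftYonedaEquiv.{u+1}.injective
    rw [(AlgSp.J S).uliftYonedaEquiv_comp.{u+1}, ← (AlgSp.J S).uliftYonedaEquiv_naturality.{u+1}]
    exact ht
  have sq' := isPullback_base_change sqV i
  rw [← hk] at sq'
  have hw : ((AlgSp.yon S).map (pullback.fst snd i) ≫ fst) ≫ a =
      ((AlgSp.yon S).map (pullback.snd snd i) ≫ k) ≫ b := by
    rw [sq'.w, Category.assoc]
  have sq'' : IsPullback (sq.lift _ _ hw) ((AlgSp.yon S).map (pullback.snd snd i)) a' k := by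
    refine IsPullback.of_right ?_ (sq.lift_snd _ _ hw) sq
    rw [sq.lift_fst]
    exact sq'
  exact h.property _ _ _ sq''

end Groth.Agent.S9884
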