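import Groth.Statements.S9906
import Groth.Agent.Lib.Helper3.AlgSpPoints

set_option autoImplicit false
universe u
open CategoryTheory CategoryTheory.Limits AlgebraicGeometry
open AlgSp

namespace Groth.Agent.S9906

open Groth.Agent.Lib.Helper3

/-- A `K`-point of a scheme `T` over `S`, as a point of `h_T`, is the image point. -/
theorem mk_fieldPtOfHom_yon_map {S : Scheme.{u}} (T : Over S) {K : Type u} [Field K]
    {str : Spec (.of K) ⟶ S} (m : Over.mk str ⟶ T) :
    AlgSp.Points.mk (fieldPtOfHom K str ((AlgSp.yon S).map m)) =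
      AlgSp.Points.ofScheme T (m.left (IsLocalRing.closedPoint K)) := by
  rw [AlgSp.Points.ofScheme_apply_eq_mk T m.left (Over.w m)]
  rfl

/-- The point of `F` defined by a `K`-point `b` of `F` is the image of the closed point of
`Spec K`. -/
theorem mk_fieldPtOfHom_eq_ofPt {S : Scheme.{u}} {F : AlgSp.Sp S} {K : Type u} [Field K]
    (str : Spec (.of K) ⟶ S) (b : (AlgSp.yon S).obj (Over.mk str) ⟶ F) :
    AlgSp.Points.mk (fieldPtOfHom K str b) =
      AlgSp.Points.ofPt b (IsLocalRing.closedPoint K : ↥(Over.mk str).left) := by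
  rw [AlgSp.Points.ofPt_eq_map_ofScheme]
  have := mk_fieldPtOfHom_yon_map (Over.mk str) (𝟙 (Over.mk str))
  rw [CategoryTheory.Functor.map_id] at this
  have h2 : (𝟙 (Over.mk str) : Over.mk str ⟶ Over.mk str).left (IsLocalRing.closedPoint K) =
      IsLocalRing.closedPoint K := rfl
  rw [h2] at this
  rw [← this, Points.map_mk_fieldPtOfHom, Category.id_comp]

theorem repWith_surjective_iff {S : Scheme.{u}} {X Y : AlgSp.Sp S} (f : X ⟶ Y)
    (hf : AlgSp.Representable f) :
    AlgSp.RepWith @Surjective f ↔ AlgSp.IsSurjectiveMor f := by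
  constructor
  · intro h y
    obtain ⟨K, _, str, b, rfl⟩ := Points.exists_hom y
    have sqV := h.rep.isPullback b
    have hs : Surjective (h.rep.snd b).left := h.property_snd b
    obtain ⟨v, hv⟩ := hs.surj (IsLocalRing.closedPoint K : ↥(Over.mk str).left)
    refine ⟨AlgSp.Points.ofPt (h.rep.fst b) v, ?_⟩
    rw [AlgSp.Points.map_ofPt, sqV.w, AlgSp.Points.ofPt_eq_map_ofScheme, AlgSp.Points.map_comp,
      mk_fieldPtOfHom_eq_ofPt, AlgSp.Points.ofPt_eq_map_ofScheme]
    congr 1
    have := AlgSp.Points.map_yon_map_apply (h.rep.snd b) v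
    rw [hv] at this
    exact this
  · intro h
    refine ⟨hf, fun U V g fstV sndV sq => ?_⟩
    refine ⟨fun u => ?_⟩
    obtain ⟨x, hx⟩ := h (AlgSp.Points.map g (AlgSp.Points.ofScheme U u))
    obtain ⟨z, _, hz⟩ := Points.exists_of_isPullback sq x _ hx
    obtain ⟨v, rfl⟩ := (AlgSp.Points.schemeHomeo V).surjective z
    refine ⟨v, ?_⟩
    have := AlgSp.Points.map_yon_map_apply sndV v
    rw [hz] at this
    exact ((AlgSp.Points.schemeHomeo U).injective this).symm

/-- For a morphism of algebraic spaces representable by schemes, representable surjectivity is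
equivalent to surjectivity of the induced map on points. -/
theorem result {S : Scheme.{u}} {X Y : AlgSp.Space S} (f : X ⟶ Y)
    (hf : AlgSp.Representable f.hom) :
    AlgSp.RepWith @Surjective f.hom ↔ AlgSp.IsSurjectiveMor f.hom := by
  exact repWith_surjective_iff f.hom hf

end Groth.Agent.S9906
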