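import Groth.Statements.S9936
-- import your own Groth.Agent.* helpers here

set_option autoImplicit false
universe u
open CategoryTheory CategoryTheory.Limits AlgebraicGeometry
open AlgSp

namespace Groth.Agent.S9936

/-- Base change of a chart along a representable morphism: if `f` is representable with `P`,
`p : h_W ⟶ Z` a chart and `Z' = Z ×_G F`, then there is a scheme `V` with `i : V ⟶ W` having `P`
and `l : h_V ⟶ Z'` that is a base change of `p`. -/
theorem exists_chart_pullback {S : Scheme.{u}} (P : MorphismProperty Scheme.{u})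
    {F G : AlgSp.Sp S} (f : F ⟶ G) (hf : AlgSp.RepWith P f)
    {Z Z' : AlgSp.Sp S} (g : Z ⟶ G) (fst : Z' ⟶ F) (snd : Z' ⟶ Z) (sq : IsPullback fst snd f g)
    {W : Over S} (p : (AlgSp.yon S).obj W ⟶ Z) :
    ∃ (V : Over S) (i : V ⟶ W) (l : (AlgSp.yon S).obj V ⟶ Z'),
      P i.left ∧ IsPullback l ((AlgSp.yon S).map i) snd p ∧
        IsPullback (l ≫ fst) ((AlgSp.yon S).map i) f (p ≫ g) := by
  have sqV := hf.rep.isPullback (p ≫ g)
  have hw : hf.rep.fst (p ≫ g) ≫ f = ((AlgSp.yon S).map (hf.rep.snd (p ≫ g)) ≫ p) ≫ g := by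
    rw [sqV.w, Category.assoc]
  refine ⟨hf.rep.pullback (p ≫ g), hf.rep.snd (p ≫ g), sq.lift _ _ hw, hf.property_snd _, ?_, ?_⟩
  · refine IsPullback.of_right ?_ (sq.lift_snd _ _ hw) sq
    rw [sq.lift_fst]
    exact sqV
  · rw [sq.lift_fst]
    exact sqV

theorem isQuasiCompactMor_of_repWith {S : Scheme.{u}} (P : MorphismProperty Scheme.{u})
    (hP : ∀ {A B : Scheme.{u}} (g : A ⟶ B), P g → CompactSpace B → CompactSpace A)
    {F G : AlgSp.Sp S} (f : F ⟶ G) (hf : AlgSp.RepWith P f) : AlgSp.IsQuasiCompactMor f := by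
  intro Z Z' _ hqc g fst snd sq
  obtain ⟨W, p, hpe, hps, hW⟩ := hqc
  obtain ⟨V, i, l, hi, sql, -⟩ := exists_chart_pullback P f hf g fst snd sq p
  refine ⟨V, l, ?_, ?_, hP _ hi hW⟩
  · exact MorphismProperty.of_isPullback sql.flip hpe
  · exact MorphismProperty.of_isPullback sql.flip hps

/-- Closed immersions between algebraic spaces are quasi-compact morphisms. -/
theorem result {S : Scheme.{u}} {X Y : AlgSp.Space S} (f : X ⟶ Y)
    (hf : AlgSp.RepWith @IsClosedImmersion f.hom) : AlgSp.IsQuasiCompactMor f.hom := by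
  refine isQuasiCompactMor_of_repWith @IsClosedImmersion (fun g hg hB => ?_) f.hom hf
  have : IsClosedImmersion g := hg
  exact QuasiCompact.compactSpace_of_compactSpace g

end Groth.Agent.S9936
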