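import Groth.Statements.S9928
-- import your own Groth.Agent.* helpers here

set_option autoImplicit false
universe u
open CategoryTheory CategoryTheory.Limits AlgebraicGeometry
open AlgSp

namespace Groth.Agent.S9928

/-- A morphism of sheaves that is relatively representable by a class of monomorphisms of schemes
is a monomorphism. -/
theorem mono_of_repWith {S : Scheme.{u}} (P : MorphismProperty Scheme.{u})
    (hP : ∀ {A B : Scheme.{u}} (g : A ⟶ B), P g → Mono g)
    {F G : AlgSp.Sp S} (f : F ⟶ G) (hf : AlgSp.RepWith P f) : Mono f := by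
  suffices H : ∀ {X : Over S} {a b : (AlgSp.yon S).obj X ⟶ F}, a ≫ f = b ≫ f → a = b from
    ⟨fun _ _ h ↦ (AlgSp.J S).hom_ext_uliftYoneda
      (fun _ _ ↦ H (by simp only [Category.assoc, h]))⟩
  intro X a b h
  suffices hf.rep.lift (g := a ≫ f) a (𝟙 X) (by simp) =
      hf.rep.lift b (𝟙 X) (by simp [← h]) by
    simpa using (AlgSp.yon S).congr_map this =≫ (hf.rep.fst (a ≫ f))
  have h1 : P (hf.rep.snd (a ≫ f)).left := hf.property_snd (a ≫ f)
  have h2 : Mono (hf.rep.snd (a ≫ f)).left := hP _ h1
  have : Mono (hf.rep.snd (a ≫ f)) := by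
    refine ⟨fun u v huv => ?_⟩
    apply Over.OverMorphism.ext
    rw [← cancel_mono (hf.rep.snd (a ≫ f)).left]
    simpa using congrArg CommaMorphism.left huv
  simp only [← cancel_mono (hf.rep.snd (a ≫ f)), Functor.relativelyRepresentable.lift_snd]

/-- A morphism of algebraic spaces that is representable by immersions is a monomorphism of fppf
sheaves. -/
theorem result {S : Scheme.{u}} {X Y : AlgSp.Space S} (f : X ⟶ Y)
    (hf : AlgSp.RepWith @IsImmersion f.hom) : Mono f.hom := by
  refine mono_of_repWith @IsImmersion (fun g hg => ?_) f.hom hf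
  have : IsImmersion g := hg
  infer_instance

end Groth.Agent.S9928
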