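import Groth.Statements.S9937
import Groth.Agent.S9928

set_option autoImplicit false
universe u
open CategoryTheory CategoryTheory.Limits AlgebraicGeometry
open AlgSp

namespace Groth.Agent.S9937

/-- An isomorphism of sheaves is representable with any property containing isomorphisms. -/
theorem repWith_of_isIso {S : Scheme.{u}} (P : MorphismProperty Scheme.{u})
    (hP : ∀ {A B : Scheme.{u}} (g : A ⟶ B), IsIso g → P g)
    {F G : AlgSp.Sp S} (f : F ⟶ G) [IsIso f] : AlgSp.RepWith P f := by
  refine ⟨Functor.relativelyRepresentable.of_isIso _ f, ?_⟩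
  intro U V g fst snd sq
  have h1 : IsIso ((AlgSp.yon S).map snd) := sq.isIso_snd_of_isIso
  have h2 : IsIso snd := isIso_of_fully_faithful (AlgSp.yon S) snd
  exact hP _ (inferInstanceAs (IsIso ((Over.forget S).map snd)))

theorem isSeparatedMor_of_mono {S : Scheme.{u}} {F G : AlgSp.Sp S} (f : F ⟶ G) [Mono f] :
    AlgSp.IsSeparatedMor f := by
  have : IsIso (pullback.diagonal f) := inferInstance
  exact repWith_of_isIso @IsClosedImmersion (fun g _ => inferInstance) _

/-- Closed immersions between algebraic spaces are separated morphisms. -/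
theorem result {S : Scheme.{u}} {X Y : AlgSp.Space S} (f : X ⟶ Y)
    (hf : AlgSp.RepWith @IsClosedImmersion f.hom) : AlgSp.IsSeparatedMor f.hom := by
  have : Mono f.hom := Groth.Agent.S9928.mono_of_repWith @IsClosedImmersion
    (fun g hg => by have : IsClosedImmersion g := hg; infer_instance) f.hom hf
  exact isSeparatedMor_of_mono f.hom

end Groth.Agent.S9937
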