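import Groth.Statements.S16240
import Groth.Agent.Lib.helper11.GlDimRegular
import Groth.Agent.Lib.Helper3.AlgSpIntegralDim
import Groth.Agent.Lib.Helper1.LocPerf5
import Groth.Agent.Lib.Helper1.LocFree1
import Groth.Agent.Lib.Helper17.CohKer
import Groth.Agent.Lib.Helper16.Stk4
import Groth.Agent.Lib.Helper28.FinType
import Groth.Agent.Lib.Helper29.FPDict

set_option autoImplicit false
universe u
open CategoryTheory CategoryTheory.Limits AlgebraicGeometry
open Coh

namespace Groth.Agent.S16240

section abelian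

variable {C : Type*} [Category C] [Abelian C]

/-- for an exact pair `f, g` the image of `f` is the kernel of `g`. -/
noncomputable def imageIsoKernel {A B D : C} (f : A ⟶ B) (g : B ⟶ D) (w : f ≫ g = 0)
    (h : (ShortComplex.mk f g w).Exact) : image f ≅ kernel g :=
  haveI : IsIso (imageToKernel' f g w) :=
    (ShortComplex.exact_iff_isIso_imageToKernel' (ShortComplex.mk f g w)).1 h
  asIso (imageToKernel' f g w)

/-- the short complex `0 → ker g → B → im g → 0`. -/
noncomputable def kerImSC {B D : C} (g : B ⟶ D) : ShortComplex C :=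
  ShortComplex.mk (kernel.ι g) (factorThruImage g) (by
    rw [← cancel_mono (image.ι g)]; simp)

theorem kerImSC_shortExact {B D : C} (g : B ⟶ D) : (kerImSC g).ShortExact := by
  have hex : (kerImSC g).Exact := by
    let ψ : kerImSC g ⟶ ShortComplex.mk (kernel.ι g) g (kernel.condition g) :=
      { τ₁ := 𝟙 _
        τ₂ := 𝟙 _
        τ₃ := image.ι g
        comm₁₂ := by simp [kerImSC]
        comm₂₃ := by simp [kerImSC] }
    haveI : Epi ψ.τ₁ := (inferInstance : Epi (𝟙 (kernel g)))
    haveI : IsIso ψ.τ₂ := (inferInstance : IsIso (𝟙 B))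
    haveI : Mono ψ.τ₃ := (inferInstance : Mono (image.ι g))
    exact (ShortComplex.exact_iff_of_epi_of_isIso_of_mono ψ).2 (ShortComplex.exact_kernel g)
  exact
    { exact := hex
      mono_f := (inferInstance : Mono (kernel.ι g))
      epi_g := (inferInstance : Epi (factorThruImage g)) }

end abelian

variable {X : Scheme.{u}}

/-- the stalk of a finite locally free module is a projective module. -/
theorem projective_stalk_of_isFinLocFree (E : X.Modules) (hE : FlatMod.IsFinLocFree E) (x : X) :
    Projective ((DerSch.stalkFunctor X x).obj E) := by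
  haveI := Groth.Agent.Lib.Helper29.FPFree.free_stalk_of_isFinLocFree E hE x
  exact (IsProjective.iff_projective (R := X.presheaf.stalk x) (P := E.presheaf.stalk x)).1
    inferInstance

/-- dimension shifting on stalks along a short exact sequence with finite locally free middle
term. -/
theorem pd_step (T : ShortComplex X.Modules) (hT : T.ShortExact)
    (hE : FlatMod.IsFinLocFree T.X₂) (x : X) (n : ℕ)
    (h : HasProjectiveDimensionLT ((DerSch.stalkFunctor X x).obj T.X₃) (n + 2)) :
    HasProjectiveDimensionLT ((DerSch.stalkFunctor X x).obj T.X₁) (n + 1) := by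
  haveI := projective_stalk_of_isFinLocFree T.X₂ hE x
  have h2 : HasProjectiveDimensionLT ((DerSch.stalkFunctor X x).obj T.X₂) (n + 1) :=
    inferInstance
  exact (hT.map_of_exact (DerSch.stalkFunctor X x)).hasProjectiveDimensionLT_X₁ (n + 1) h2 h

/-- the first map of a sequence. -/
abbrev f0 {m : ℕ} (S : ComposableArrows X.Modules (m + 1)) : S.obj 0 ⟶ S.obj 1 :=
  S.map' 0 1 (Nat.zero_le 1) (Nat.le_add_left 1 m)

/-- the second map of a sequence. -/
abbrev f1 {m : ℕ} (S : ComposableArrows X.Modules (m + 2)) : S.obj 1 ⟶ S.obj 2 :=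
  S.map' 1 2 (Nat.le_succ 1) (Nat.le_add_left 2 m)

/-- the main induction: dimension shifting along an exact sequence of finite locally free
modules. -/
theorem pd_image : ∀ (m : ℕ) (S : ComposableArrows X.Modules (m + 1)), S.Exact →
    Epi (S.map' m (m + 1) (Nat.le_succ m) (le_refl (m + 1))) →
    (∀ i : Fin m, FlatMod.IsFinLocFree
      (S.obj ⟨i.1 + 1, Nat.succ_lt_succ (Nat.lt_succ_of_lt i.2)⟩)) →
    ∀ (x : X) (n : ℕ),
      HasProjectiveDimensionLT ((DerSch.stalkFunctor X x).obj (S.obj (Fin.last (m + 1))))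
        (m + 1 + n) →
      HasProjectiveDimensionLT ((DerSch.stalkFunctor X x).obj (image (f0 S))) (n + 1) := by
  intro m
  induction m with
  | zero =>
    intro S hS hepi hE x n h
    haveI : Epi (f0 S) := hepi
    haveI : Epi (image.ι (f0 S)) := epi_of_epi_fac (image.fac (f0 S))
    haveI : IsIso (image.ι (f0 S)) := isIso_of_mono_of_epi _
    have h' : HasProjectiveDimensionLT ((DerSch.stalkFunctor X x).obj (S.obj 1)) (n + 1) := by
      rw [show n + 1 = 0 + 1 + n by omega]
      exact h
    exact @hasProjectiveDimensionLT_of_iso _ _ _ _ _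
      ((DerSch.stalkFunctor X x).mapIso (asIso (image.ι (f0 S))).symm) (n + 1) h'
  | succ m ih =>
    intro S hS hepi hE x n h
    have h1 := ih S.δ₀ hS.δ₀ hepi (fun i => hE ⟨i.1 + 1, Nat.succ_lt_succ i.2⟩) x (n + 1)
      (by rw [show m + 1 + (n + 1) = m + 1 + 1 + n by omega]; exact h)
    have h2 := pd_step (kerImSC (f1 S)) (kerImSC_shortExact _) (hE ⟨0, Nat.succ_pos m⟩) x n h1
    exact @hasProjectiveDimensionLT_of_iso _ _ _ _ _
      ((DerSch.stalkFunctor X x).mapIso
        (imageIsoKernel (f0 S) (f1 S) (hS.toIsComplex.zero 0) (hS.exact 0)).symm) (n + 1) h2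

theorem isCoh_of_iso' {M N : X.Modules} (e : M ≅ N) (hM : Coh.IsCoh M) : Coh.IsCoh N := by
  haveI : M.IsQuasicoherent := hM.1
  haveI : SheafOfModules.IsFiniteType.{u} (R := X.ringCatSheaf) M := hM.2
  exact ⟨(SheafOfModules.isQuasicoherent X.ringCatSheaf).prop_of_iso e
    (inferInstance : M.IsQuasicoherent),
    Groth.Agent.Lib.Helper17.CohKer.isFiniteType_of_epi e.hom⟩

theorem isCoh_of_isFinLocFree (E : X.Modules) (hE : FlatMod.IsFinLocFree E) : Coh.IsCoh E := by
  haveI := Groth.Agent.Lib.Helper29.FPFree.isFinitePresentation_of_isFinLocFree _ hE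
  exact ⟨Groth.Agent.Lib.Helper29.FreeIso.isQuasicoherent_of_isFinLocFree _ hE,
    Groth.Agent.Lib.Helper29.FPDict.isFiniteType_of_isFinitePresentation _⟩

theorem isCoh_kernel' [IsLocallyNoetherian X] {A B : X.Modules} (f : A ⟶ B) (hA : Coh.IsCoh A)
    (hB : Coh.IsCoh B) : Coh.IsCoh (kernel f) := by
  haveI : A.IsQuasicoherent := hA.1
  haveI : B.IsQuasicoherent := hB.1
  haveI : SheafOfModules.IsFiniteType.{u} (R := X.ringCatSheaf) A := hA.2
  exact ⟨Groth.Agent.Lib.Helper17.CohKer.isQuasicoherent_kernel f,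
    Groth.Agent.Lib.Helper17.CohKer.isFiniteType_kernel f⟩

theorem isFinitePresentation_of_isCoh [IsLocallyNoetherian X] (M : X.Modules) (hM : Coh.IsCoh M) :
    SheafOfModules.IsFinitePresentation.{u} (R := X.ringCatSheaf) M := by
  haveI := hM.1
  haveI := hM.2
  rw [Groth.Agent.Lib.Helper29.FPDict.isFinitePresentation_iff]
  refine ⟨hM.1, fun U hU => ?_⟩
  haveI : IsNoetherianRing Γ(X, U) := IsLocallyNoetherian.component_noetherian ⟨U, hU⟩
  haveI : Module.Finite Γ(X, U) Γ(M, U) :=
    Groth.Agent.Lib.Helper28.FinType.finite_of_isAffineOpen M hU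
  exact Module.finitePresentation_of_finite _ _

theorem flf_of_coh_of_projective_stalks [IsLocallyNoetherian X] (G : X.Modules)
    (hG : Coh.IsCoh G) (h : ∀ x, Projective ((DerSch.stalkFunctor X x).obj G)) :
    FlatMod.IsFinLocFree G := by
  haveI := isFinitePresentation_of_isCoh G hG
  apply Groth.Agent.Lib.Helper1.LocFree.isFinLocFree_of_locally
  intro x
  haveI hproj : Module.Projective (X.presheaf.stalk x) (G.presheaf.stalk x) :=
    (IsProjective.iff_projective (R := X.presheaf.stalk x) (P := G.presheaf.stalk x)).2 (h x)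
  exact Groth.Agent.Lib.Helper1.LocPerf.exists_nhd_isFinLocFree_of_flat_stalk G x inferInstance

theorem pd_stalk_of_regular (hreg : ∀ x : X, IsRegularLocalRing (X.presheaf.stalk x)) (m : ℕ)
    (hdim : topologicalKrullDim ↥X ≤ (m : WithBot ℕ∞)) (x : X)
    (M : ModuleCat.{u} (X.presheaf.stalk x)) : HasProjectiveDimensionLT M (m + 1) := by
  haveI := hreg x
  have hd : ringKrullDim (X.presheaf.stalk x) =
      ((IsLocalRing.maximalIdeal (X.presheaf.stalk x)).spanFinrank : ℕ) :=
    (IsRegularLocalRing.spanFinrank_maximalIdeal).symm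
  have hle : (IsLocalRing.maximalIdeal (X.presheaf.stalk x)).spanFinrank ≤ m := by
    have h1 := (Groth.Agent.Lib.Helper3.ringKrullDim_stalk_le_topologicalKrullDim
      X x).trans hdim
    rw [hd] at h1
    exact_mod_cast h1
  haveI := Groth.Agent.Lib.helper11.GlDimRegular.hasProjectiveDimensionLT_of_isRegularLocalRing
    (IsLocalRing.maximalIdeal (X.presheaf.stalk x)).spanFinrank hd M
  exact hasProjectiveDimensionLT_of_ge M
    ((IsLocalRing.maximalIdeal (X.presheaf.stalk x)).spanFinrank + 1) (m + 1) (by omega)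

/-- Let X be a Noetherian scheme all of whose local rings are regular, of (topological Krull) dimension
at most m, and let S be an exact sequence of O_X-modules G ⟶ E_m ⟶ ⋯ ⟶ E_1 ⟶ F with m + 2 terms (G
in position 0, F in position m + 1), injective at the first map and surjective at the last, in which
F is coherent and E_1, …, E_m are finite locally free. Then G is finite locally free. (The source
asks for p + 1 vector bundles with p ≥ dim X − 1, i.e. at least dim X of them, and finite dimension;
here m bounds the dimension.) -/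
theorem result (X : Scheme.{u}) [IsNoetherian X]
    (hreg : ∀ x : X, IsRegularLocalRing (X.presheaf.stalk x)) (m : ℕ)
    (hdim : topologicalKrullDim ↥X ≤ (m : WithBot ℕ∞))
    (S : ComposableArrows X.Modules (m + 1)) (hS : S.Exact)
    (hmono : Mono (S.map' 0 1 (Nat.zero_le 1) (Nat.le_add_left 1 m)))
    (hepi : Epi (S.map' m (m + 1) (Nat.le_succ m) (le_refl (m + 1))))
    (hE : ∀ i : Fin m, FlatMod.IsFinLocFree (S.obj ⟨i.1 + 1, Nat.succ_lt_succ (Nat.lt_succ_of_lt i.2)⟩))
    (hF : Coh.IsCoh (S.obj (Fin.last (m + 1)))) :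
    FlatMod.IsFinLocFree (S.obj 0) := by
  haveI : Mono (f0 S) := hmono
  haveI : Mono (factorThruImage (f0 S)) := mono_of_mono_fac (image.fac (f0 S))
  haveI : IsIso (factorThruImage (f0 S)) := isIso_of_mono_of_epi _
  let e : S.obj 0 ≅ image (f0 S) := asIso (factorThruImage (f0 S))
  have hcoh : Coh.IsCoh (S.obj 0) := by
    cases m with
    | zero =>
      haveI : Epi (f0 S) := hepi
      haveI : IsIso (f0 S) := isIso_of_mono_of_epi _
      exact isCoh_of_iso' (asIso (f0 S)).symm hF
    | succ k =>
      have h1 : Coh.IsCoh (S.obj 1) := isCoh_of_isFinLocFree _ (hE ⟨0, Nat.succ_pos k⟩)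
      have h2 : Coh.IsCoh (S.obj 2) := by
        cases k with
        | zero => exact hF
        | succ j => exact isCoh_of_isFinLocFree _ (hE ⟨1, by omega⟩)
      exact isCoh_of_iso'
        (e ≪≫ imageIsoKernel (f0 S) (f1 S) (hS.toIsComplex.zero 0) (hS.exact 0)).symm
        (isCoh_kernel' (f1 S) h1 h2)
  refine flf_of_coh_of_projective_stalks _ hcoh fun x => ?_
  have hF' := pd_stalk_of_regular hreg m hdim x
    ((DerSch.stalkFunctor X x).obj (S.obj (Fin.last (m + 1))))
  have h1 := pd_image m S hS hepi hE x 0 hF'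
  have h2 := @hasProjectiveDimensionLT_of_iso _ _ _ _ _
    ((DerSch.stalkFunctor X x).mapIso e.symm) 1 h1
  exact projective_iff_hasProjectiveDimensionLT_one.2 h2

end Groth.Agent.S16240
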