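import Groth.Statements.S16486
import Groth.Agent.Lib.Helper1.RefHull7
import Groth.Agent.Lib.Helper1.LocFree8
import Groth.Agent.Lib.Helper17.CohKer
import Groth.Agent.Lib.Helper17.StalkExact
import Groth.Agent.Lib.Helper28.FinType
import Groth.Agent.Lib.Helper29.FPFree
import Groth.Agent.S7862

set_option autoImplicit false
universe u
open CategoryTheory AlgebraicGeometry
open SGA3

namespace Groth.Agent.S16486

open CategoryTheory.Limits Opposite TopologicalSpace RefHull
open Groth.Agent.Lib.Helper1.RefHullLib

variable {X : Scheme.{u}}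

/-- the middle term of an epi-mono factorisation between quasi-coherent modules is quasi-coherent. -/
theorem isQuasicoherent_of_epi_mono {P F A : X.Modules} [P.IsQuasicoherent] [A.IsQuasicoherent]
    (π : P ⟶ F) [Epi π] (ι : F ⟶ A) [Mono ι] : F.IsQuasicoherent := by
  haveI : StrongEpi π := strongEpi_of_epi _
  let e : F ≅ Limits.image (π ≫ ι) := image.isoStrongEpiMono π ι rfl
  haveI : (cokernel (π ≫ ι)).IsQuasicoherent :=
    Groth.Agent.Lib.Helper17.CohKer.isQuasicoherent_cokernel (π ≫ ι)
  have h1 : (Abelian.image (π ≫ ι)).IsQuasicoherent :=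
    Groth.Agent.Lib.Helper17.CohKer.isQuasicoherent_kernel (cokernel.π (π ≫ ι))
  exact (SheafOfModules.isQuasicoherent X.ringCatSheaf).prop_of_iso
    ((Abelian.imageIsoImage (π ≫ ι)) ≪≫ e.symm) h1

/-- a finite-type submodule of a quasi-coherent module is quasi-coherent. -/
theorem isQuasicoherent_of_mono (A F : X.Modules) [A.IsQuasicoherent] (ι : F ⟶ A) [Mono ι]
    [SheafOfModules.IsFiniteType.{u} (R := X.ringCatSheaf) F] : F.IsQuasicoherent := by
  obtain ⟨I, W, σ, hσ, hcov, hW⟩ :=
    Groth.Agent.Lib.Helper28.FinType.exists_isOpenCover_generatingSections F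
  apply Groth.Agent.Lib.Helper1.LocFree.isQuasicoherent_of_locally
  intro x
  obtain ⟨i, hi⟩ := hcov.exists_mem x
  refine ⟨W i, hi, ?_⟩
  haveI : Mono ((Scheme.Modules.restrictFunctor (W i).ι).map ι) := inferInstance
  haveI : (A.restrict (W i).ι).IsQuasicoherent := inferInstance
  exact @isQuasicoherent_of_epi_mono _ (SheafOfModules.free (σ i).I) _ _ inferInstance inferInstance
    (σ i).π (σ i).epi ((Scheme.Modules.restrictFunctor (W i).ι).map ι) inferInstance


/-- the stalk map of a monomorphism is injective. -/
theorem injective_stalkMapₗ_of_mono {F G : X.Modules} (φ : F ⟶ G) [Mono φ] (x : X) :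
    Function.Injective (stalkMapₗ φ x) := by
  have h := Groth.Agent.Lib.Helper17.StalkExact.stalkHom_injective_of_mono φ x
  have heq : ∀ v, stalkMapₗ φ x v = Groth.Agent.Lib.Helper17.StalkExact.stalkHom φ x v := by
    intro v
    obtain ⟨V, hxV, m, rfl⟩ := TopCat.Presheaf.exists_germ_eq F.presheaf v
    rw [stalkMapₗ_germ, Groth.Agent.Lib.Helper17.StalkExact.stalkHom_germ]
  intro a b hab
  apply h
  rw [← heq, ← heq, hab]

/-- a morphism of modules that is bijective on all sections is an isomorphism. -/
theorem isIso_of_bijective_app {F G : X.Modules} (φ : F ⟶ G)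
    (h : ∀ V : X.Opens, Function.Bijective (φ.app V)) : IsIso φ := by
  rw [Scheme.Modules.Hom.isIso_iff_isIso_app]
  intro V
  exact (ConcreteCategory.isIso_iff_bijective (φ.app V)).2 (h V)

/-- Let S be a Noetherian normal scheme, A a flat quasi-coherent O_S-module, F ⊆ A a sub-O_S-module of
finite type, and U ⊆ S the set of points s at which the stalk F_s is a flat O_{S,s}-module (the
flatness locus of F, which is open); write j : U → S for the inclusion of the corresponding open
subscheme. Then the bidual F^** = 𝓗om(𝓗om(F, O_S), O_S) is identified with j_* j^* F: there is an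
isomorphism F^** ≅ j_*(F|_U) whose composite with the canonical map F → F^** is the unit F → j_* j^*
F of the adjunction between restriction to U and direct image (such an isomorphism is unique). The
openness of U is taken as part of the hypothesis that U is an open with this underlying set. -/
theorem result (S : Scheme.{u}) [IsNoetherian S]
    (hS : Pi1.IsNormalScheme S) (A F : S.Modules) (hA : Coh.IsQCoh A) (hAfl : FlatMod.IsFlat A)
    (ι : F ⟶ A) [Mono ι] (hF : CohB1.IsFT F) (U : S.Opens) (hU : (U : Set S) = {s : S | FlatMod.IsFlatAt F s}) :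
    ∃ e : RefHull.ddual F ≅ (Scheme.Modules.pushforward U.ι).obj (F.restrict U.ι),
      RefHull.bidualMap F ≫ e.hom = (Scheme.Modules.restrictAdjunction U.ι).unit.app F := by
  haveI : A.IsQuasicoherent := hA
  haveI : SheafOfModules.IsFiniteType.{u} (R := S.ringCatSheaf) F := hF
  have hFq : F.IsQuasicoherent := isQuasicoherent_of_mono A F ι
  have hFc : Coh.IsCoh F := ⟨hFq, hF⟩
  haveI hFP : SheafOfModules.IsFinitePresentation.{u} (R := S.ringCatSheaf) F :=
    Groth.Agent.S16240.isFinitePresentation_of_isCoh F hFc
  have hmemU : ∀ x : S, x ∈ U ↔ FlatMod.IsFlatAt F x := by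
    intro x
    have : x ∈ (U : Set S) ↔ x ∈ {s : S | FlatMod.IsFlatAt F s} := by rw [hU]
    exact this
  -- the complement of `U` has codimension at least two
  have hcodim : ∀ x : S, x ∉ U → (2 : WithBot ℕ∞) ≤ ringKrullDim (S.presheaf.stalk x) := by
    intro x hx
    by_contra hdim
    apply hx
    rw [hmemU]
    haveI := (hS x).1
    haveI := (hS x).2
    haveI := Groth.Agent.S7862.pid_of_dim_lt_two (S.presheaf.stalk x) hdim
    haveI : Module.Flat (S.presheaf.stalk x) (A.presheaf.stalk x) := hAfl x
    haveI : Module.IsTorsionFree (S.presheaf.stalk x) (F.presheaf.stalk x) :=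
      Function.Injective.moduleIsTorsionFree (stalkMapₗ ι x) (injective_stalkMapₗ_of_mono ι x)
        (fun r m => map_smul _ r m)
    show Module.Flat (S.presheaf.stalk x) (F.presheaf.stalk x)
    infer_instance
  -- on `U` the biduality map is bijective on stalks
  have hbij : ∀ x ∈ U, Function.Bijective (stalkMapₗ (bidualMap F) x) := by
    intro x hx
    rw [bijective_stalkMapₗ_bidualMap_iff F hFc x]
    have hfl : FlatMod.IsFlatAt F x := (hmemU x).1 hx
    haveI := Groth.Agent.Lib.Helper29.FPFree.free_stalk_of_isFlatAt F x hfl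
    haveI := Groth.Agent.Lib.Helper29.FPFree.fp_stalk F x
    show Module.IsReflexive (S.presheaf.stalk x) (F.presheaf.stalk x)
    infer_instance
  haveI h1 : IsIso ((Scheme.Modules.restrictFunctor U.ι).map (bidualMap F)) := by
    apply isIso_of_bijective_app
    intro W
    exact bijective_app_of_stalkMapₗ (bidualMap F) (U.ι ''ᵁ W) fun z hz =>
      hbij z (by
        obtain ⟨w, -, rfl⟩ := hz
        exact w.2)
  haveI h2 : IsIso ((Scheme.Modules.restrictAdjunction U.ι).unit.app (ddual F)) := by
    apply isIso_of_bijective_app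
    intro V
    rw [Scheme.Modules.restrictAdjunction_unit_app_app]
    refine isNormalMod_ddual_of_normal hS F hFc V _ _ ?_
    intro x hxV hx
    apply hcodim x
    intro hxU
    exact hx ⟨⟨x, hxU⟩, hxV, rfl⟩
  refine ⟨asIso ((Scheme.Modules.restrictAdjunction U.ι).unit.app (ddual F)) ≪≫
    (asIso ((Scheme.Modules.pushforward U.ι).map
      ((Scheme.Modules.restrictFunctor U.ι).map (bidualMap F)))).symm, ?_⟩
  have hnat := (Scheme.Modules.restrictAdjunction U.ι).unit.naturality (bidualMap F)
  simp only [Functor.id_map, Functor.comp_map] at hnat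
  simp only [Iso.trans_hom, asIso_hom, Iso.symm_hom, asIso_inv]
  rw [← Category.assoc, hnat, Category.assoc, IsIso.hom_inv_id, Category.comp_id]

end Groth.Agent.S16486
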