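import Groth.Statements.S16490
import Groth.Agent.Lib.Helper1.RefHull6
import Groth.Agent.Lib.Helper29.QCohExact

set_option autoImplicit false
universe u
open CategoryTheory CategoryTheory.Limits AlgebraicGeometry TopologicalSpace
open VBPn

namespace Groth.Agent.S16490

open Groth.Agent.Lib.Helper1.RefHullLib Groth.Agent.Lib.Helper28.QCohLoc
  Groth.Agent.Lib.Helper29.QCohStalk

/-- restriction of sections of a torsion-free quasi-coherent module on an integral scheme to an open
containing the generic point is injective. -/
theorem injective_res_of_isTorsionFree (X : Scheme.{u}) [IsIntegral X] (Q : X.Modules) [Q.IsQuasicoherent]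
    (hQ : TorSh.IsTorsionFree Q) (U V : X.Opens) (hVU : V ≤ U) (hη : genericPoint X ∈ V) :
    Function.Injective (res Q hVU) := by
  have key : ∀ s : Γ(Q, U), res Q hVU s = 0 → s = 0 := by
    intro s hs
    refine eq_zero_of_forall_gm_eq_zero U s fun y hy => ?_
    obtain ⟨W, hW, hyW, hWU⟩ := (Opens.isBasis_iff_nbhd.1 X.isBasis_affineOpens) hy
    have hW : IsAffineOpen W := hW
    have hηW : genericPoint X ∈ W :=
      ((genericPoint_spec X).mem_open_set_iff W.isOpen).2 ⟨y, trivial, hyW⟩
    have h0 : gm Q W (genericPoint X) hηW (res Q hWU s) = 0 := by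
      rw [gm_res, ← gm_res Q hVU (genericPoint X) hη, hs, gm_zero]
    obtain ⟨a, ha, has⟩ := exists_smul_eq_zero_of_gm_eq_zero Q hW (isLocOn_of_isQuasicoherent Q hW)
      (genericPoint X) hηW (res Q hWU s) h0
    have ha0 : a ≠ 0 := by
      rintro rfl
      rw [map_zero] at ha
      exact not_isUnit_zero ha
    have hay : X.presheaf.germ W y hyW a ≠ 0 := fun h =>
      ha0 (germ_injective_of_isIntegral X y hyW (h.trans (map_zero _).symm))
    have h1 : X.presheaf.germ W y hyW a • gm Q W y hyW (res Q hWU s) = 0 := by
      rw [← gm_smul, has, gm_zero]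
    haveI := hQ y
    rw [← gm_res Q hWU y hyW]
    exact (smul_eq_zero.1 h1).resolve_left hay
  intro s t hst
  have h1 : res Q hVU (s - t) = 0 := by rw [res_sub, hst, sub_self]
  exact sub_eq_zero.1 (key _ h1)

/-- Let X be an integral locally Noetherian scheme all of whose local rings are regular, and let 0 → F →
E → Q → 0 be a short exact sequence of coherent O_X-modules in which E is reflexive (the canonical
map E → E^** is an isomorphism) and Q is torsion-free (every stalk Q_x is a torsion-free
O_{X,x}-module). Then F is normal: for all open subsets V ⊆ U of X such that every point of U not in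
V has local ring of dimension at least 2, the restriction map F(U) → F(V) is bijective. The
published statement is for coherent analytic sheaves on a complex manifold, a sheaf being called
normal when for every open U and every analytic subset A ⊆ U of codimension at least 2 the
restriction F(U) → F(U ∖ A) is bijective; this row is its statement for coherent sheaves on a
regular integral locally Noetherian scheme, with normality phrased through open subsets V ⊆ U whose
complement in U consists of points with local ring of dimension at least 2, where the same argument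
applies. -/
theorem result (X : Scheme.{u}) [IsIntegral X] [IsLocallyNoetherian X]
    (hreg : ∀ x : X, IsRegularLocalRing (X.presheaf.stalk x)) (S : ShortComplex X.Modules) (hS : S.ShortExact)
    (hF : Coh.IsCoh S.X₁) (hE : Coh.IsCoh S.X₂) (hQ : Coh.IsCoh S.X₃)
    (hErefl : RefHull.IsReflexive S.X₂) (hQtf : TorSh.IsTorsionFree S.X₃) :
    (∀ (U V : X.Opens) (hVU : V ≤ U), (∀ x : X, x ∈ U → x ∉ V → (2 : WithBot ℕ∞) ≤ ringKrullDim (X.presheaf.stalk x)) →
        Function.Bijective (S.X₁.presheaf.map (homOfLE hVU).op)) := by
  intro U V hVU hc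
  have hEn := isNormalMod_of_isReflexive hreg S.X₂ hE hErefl U V hVU hc
  haveI := hQ.1
  have hfinj : ∀ W : X.Opens, Function.Injective (S.f.app W) := fun W =>
    injective_app_of_mono S.f hS.mono_f W
  have hnatf : ∀ s : Γ(S.X₁, U), S.f.app V (res S.X₁ hVU s) = res S.X₂ hVU (S.f.app U s) := fun s =>
    Groth.Agent.Lib.Helper28.QCohLoc.app_res S.f hVU s
  have hnatg : ∀ s : Γ(S.X₂, U), S.g.app V (res S.X₂ hVU s) = res S.X₃ hVU (S.g.app U s) := fun s =>
    Groth.Agent.Lib.Helper28.QCohLoc.app_res S.g hVU s
  constructor
  · intro s t hst
    apply hfinj U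
    apply hEn.1
    change res S.X₂ hVU _ = res S.X₂ hVU _
    rw [← hnatf, ← hnatf]
    exact congrArg _ hst
  · intro t
    by_cases hUe : ∃ y, y ∈ U
    · obtain ⟨y, hy⟩ := hUe
      have hηU : genericPoint X ∈ U :=
        ((genericPoint_spec X).mem_open_set_iff U.isOpen).2 ⟨y, trivial, hy⟩
      have hηV : genericPoint X ∈ V := by
        by_contra hηV
        have h2 := hc (genericPoint X) hηU hηV
        have h3 : ringKrullDim (X.presheaf.stalk (genericPoint X)) = 0 :=
          ringKrullDim_eq_zero_of_field X.functionField
        rw [h3] at h2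
        exact absurd h2 (by decide)
      obtain ⟨e, he⟩ := hEn.2 (S.f.app V t)
      have hge : S.g.app U e = 0 := by
        apply injective_res_of_isTorsionFree X S.X₃ hQtf U V hVU hηV
        rw [res_zero, ← hnatg]
        have he' : res S.X₂ hVU e = S.f.app V t := he
        rw [he']
        have h3 := congrArg (fun ψ : (S.X₁ ⟶ S.X₃) => ψ.app V t) S.zero
        exact h3
      obtain ⟨s, hs⟩ := exists_app_eq_of_shortExact S hS U e hge
      refine ⟨s, hfinj V ?_⟩
      change S.f.app V (res S.X₁ hVU s) = _
      rw [hnatf, hs]
      exact he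
    · -- `U` is empty
      exact ⟨0, section_ext S.X₁ _ _ fun y hy => absurd ⟨y, hVU hy⟩ hUe⟩

end Groth.Agent.S16490
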