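import Groth.Statements.S16484
import Groth.Agent.Lib.Helper16.Stk4
import Groth.Agent.Lib.Helper28.FinType
import Groth.Agent.Lib.Helper2.HZDepth5

set_option autoImplicit false
universe u
open CategoryTheory AlgebraicGeometry
open RefHull

namespace Groth.Agent.S16484

open CategoryTheory.Limits Opposite TopologicalSpace

section stalkgen

variable {Y : Scheme.{u}}

/-- value over `W` of a section given as a compatible family. -/
abbrev secAt (N : Y.Modules) (s : N.sections) (W : Y.Opens) : Γ(N, W) := s.1 (op W)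

/-- value of a morphism `unit ⟶ N` on a section `r` of the structure sheaf. -/
theorem unitHom_app (N : Y.Modules) (s : N.sections) (W : Y.Opens)
    (r : Γ(SheafOfModules.unit Y.ringCatSheaf, W)) :
    (Scheme.Modules.Hom.app (N.unitHomEquiv.symm s) W) r =
      (show Γ(Y, W) from r) • secAt N s W := by
  have h1 : (Scheme.Modules.Hom.app (N.unitHomEquiv.symm s) W) (1 : Γ(Y, W)) = secAt N s W := by
    have := congrArg (fun t : N.sections => t.1 (op W)) (N.unitHomEquiv.apply_symm_apply s)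
    exact this
  rw [← h1]
  have h2 := Scheme.Modules.Hom.app_smul (N.unitHomEquiv.symm s) (show Γ(Y, W) from r)
    (show Γ(SheafOfModules.unit Y.ringCatSheaf, W) from (1 : Γ(Y, W)))
  rw [← h2]
  congr 1
  exact (mul_one (show Γ(Y, W) from r)).symm

/-- the germs of generating sections span every stalk. -/
theorem span_germ_generatingSections (N : Y.Modules) (σ : N.GeneratingSections) (y : Y) :
    Submodule.span (Y.presheaf.stalk y)
      (Set.range fun k : σ.I => N.presheaf.germ ⊤ y trivial (secAt N (σ.s k) ⊤)) = ⊤ := by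
  set S : Submodule (Y.presheaf.stalk y) (N.presheaf.stalk y) := Submodule.span (Y.presheaf.stalk y)
      (Set.range fun k : σ.I => N.presheaf.germ ⊤ y trivial (secAt N (σ.s k) ⊤)) with hS
  let Fy := DerSch.stalkFunctor Y y
  let q : Fy.obj N ⟶ ModuleCat.of (Y.presheaf.stalk y) ((N.presheaf.stalk y) ⧸ S) :=
    ModuleCat.ofHom S.mkQ
  haveI : PreservesColimitsOfShape (Discrete σ.I) Fy :=
    Groth.Agent.Lib.Helper16.Stk.preservesColimitsOfShape_stalkFunctor y (Discrete σ.I)
  have h0 : Fy.map σ.π ≫ q = 0 := by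
    refine (isColimitOfPreserves Fy (SheafOfModules.isColimitFreeCofan (R := Y.ringCatSheaf) σ.I)).hom_ext ?_
    rintro ⟨k⟩
    refine Eq.trans ?_ comp_zero.symm
    change Fy.map (SheafOfModules.ιFree k) ≫ Fy.map σ.π ≫ q = 0
    rw [← Fy.map_comp_assoc]
    have e1 : SheafOfModules.ιFree k ≫ σ.π = N.unitHomEquiv.symm (σ.s k) := by
      have := SheafOfModules.unitHomEquiv_symm_freeHomEquiv_apply σ.π k
      rw [← this]
      congr 1
      exact congrFun (N.freeHomEquiv.apply_symm_apply σ.s) k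
    have e2 : Fy.map (SheafOfModules.ιFree k ≫ σ.π) ≫ q =
        Fy.map (N.unitHomEquiv.symm (σ.s k)) ≫ q := congrArg (fun f => Fy.map f ≫ q) e1
    refine e2.trans ?_
    ext t
    obtain ⟨W, hyW, r, rfl⟩ := TopCat.Presheaf.exists_germ_eq
      (Scheme.Modules.presheaf (SheafOfModules.unit Y.ringCatSheaf : Y.Modules)) t
    change q (Fy.map (N.unitHomEquiv.symm (σ.s k))
      ((Scheme.Modules.presheaf (SheafOfModules.unit Y.ringCatSheaf : Y.Modules)).germ W y hyW r)) = 0
    rw [DerSch.stalkFunctor_map_germ, unitHom_app]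
    change S.mkQ _ = 0
    rw [Submodule.mkQ_apply, Submodule.Quotient.mk_eq_zero, Mero.germ_smul]
    refine S.smul_mem _ (Submodule.subset_span ⟨k, ?_⟩)
    have e3 : secAt N (σ.s k) W = N.presheaf.map (homOfLE (le_top : W ≤ ⊤)).op (secAt N (σ.s k) ⊤) :=
      ((σ.s k).2 (homOfLE (le_top : W ≤ ⊤)).op).symm
    rw [e3, TopCat.Presheaf.germ_res_apply]
  have hepi : @Epi Y.Modules _ _ _ σ.π := σ.epi
  haveI : Epi (Fy.map σ.π) := @Functor.map_epi _ _ _ _ (DerSch.stalkFunctor Y y) _ _ _ σ.π hepi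
  have hq : q = 0 := (cancel_epi (Fy.map σ.π)).1 (h0.trans comp_zero.symm)
  rw [eq_top_iff]
  intro v _
  have := congrArg (fun f : Fy.obj N ⟶ ModuleCat.of (Y.presheaf.stalk y) ((N.presheaf.stalk y) ⧸ S) =>
    f.hom v) hq
  change S.mkQ v = 0 at this
  rwa [Submodule.mkQ_apply, Submodule.Quotient.mk_eq_zero] at this

end stalkgen

section local_generators

open Groth.Agent.Lib.Helper2.HZDepth5

variable {X : Scheme.{u}}

/-- transport of generation of stalks along the restriction to an open subscheme. -/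
theorem span_germ_of_restrict {Y : Scheme.{u}} (j : Y ⟶ X) [IsOpenImmersion j] (F : X.Modules)
    {I : Type u} (n : I → Γ(F.restrict j, ⊤)) (y' : Y)
    (h : Submodule.span (Y.presheaf.stalk y')
      (Set.range fun k => (F.restrict j).presheaf.germ ⊤ y' trivial (n k)) = ⊤) :
    Submodule.span (X.presheaf.stalk (j y'))
      (Set.range fun k => F.presheaf.germ (j ''ᵁ ⊤) (j y') ⟨y', trivial, rfl⟩
        (show Γ(F, j ''ᵁ ⊤) from n k)) = ⊤ := by
  rw [eq_top_iff]
  intro v hv
  clear hv
  obtain ⟨w, rfl⟩ : ∃ w, (hh j F y').hom w = v := ⟨(hh j F y').inv v, by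
    change ((hh j F y').inv ≫ (hh j F y').hom) v = v
    rw [Iso.inv_hom_id]; rfl⟩
  have hw : w ∈ Submodule.span (Y.presheaf.stalk y')
      (Set.range fun k => (F.restrict j).presheaf.germ ⊤ y' trivial (n k)) := h ▸ Submodule.mem_top
  induction hw using Submodule.span_induction with
  | mem z hz =>
    obtain ⟨k, rfl⟩ := hz
    refine Submodule.subset_span ⟨k, ?_⟩
    exact (hh_germ j F y' ⊤ trivial (n k)).symm
  | zero => rw [map_zero]; exact Submodule.zero_mem _
  | add a b _ _ ha hb => rw [map_add]; exact Submodule.add_mem _ ha hb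
  | smul r a _ ha => rw [hh_smul]; exact Submodule.smul_mem _ _ ha

/-- a module of finite type is, near every point, generated by finitely many sections. -/
theorem exists_local_generators (F : X.Modules) (hF : CohB1.IsFT F) (x : X) :
    ∃ (W : X.Opens) (_ : x ∈ W) (I : Type u) (_ : Finite I) (m : I → Γ(F, W)),
      ∀ (y : X) (hy : y ∈ W), Submodule.span (X.presheaf.stalk y)
        (Set.range fun k => F.presheaf.germ W y hy (m k)) = ⊤ := by
  haveI : SheafOfModules.IsFiniteType.{u} (R := X.ringCatSheaf) F := hF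
  obtain ⟨ι, V, σ, hσ, hcov, -⟩ :=
    Groth.Agent.Lib.Helper28.FinType.exists_isOpenCover_generatingSections F
  have hx : x ∈ ⨆ i, V i := by rw [hcov]; trivial
  obtain ⟨i, hi⟩ := TopologicalSpace.Opens.mem_iSup.1 hx
  haveI := hσ i
  haveI : Finite (σ i).I := SheafOfModules.GeneratingSections.IsFiniteType.finite
  refine ⟨(V i).ι ''ᵁ ⊤, ⟨⟨x, hi⟩, trivial, rfl⟩, (σ i).I, inferInstance,
    fun k => (show Γ(F, (V i).ι ''ᵁ ⊤) from secAt (F.restrict (V i).ι) ((σ i).s k) ⊤), ?_⟩
  rintro y ⟨y', -, rfl⟩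
  exact span_germ_of_restrict (V i).ι F (fun k => secAt (F.restrict (V i).ι) ((σ i).s k) ⊤) y'
    (span_germ_generatingSections (F.restrict (V i).ι) (σ i) y')

end local_generators

/-- Consider a scheme X together with O_X-modules F and G, where F is assumed to be of finite type, and
fix a point x ∈ X. The natural O_{X,x}-linear map 𝓗om_{O_X}(F, G)_x → Hom_{O_{X,x}}(F_x, G_x),
taking the germ at x of a section of the sheaf Hom to the map on stalks at x that it induces, is
injective. (In the source the claim is made for modules over any ringed space; here it is formulated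
only for schemes, since that is where the sheaf Hom used in the statement is available.) -/
theorem result (X : Scheme.{u}) (F G : X.Modules) (hF : CohB1.IsFT F) (x : X) :
    Function.Injective (RefHull.evalStalk F G x) := by
  rw [injective_iff_map_eq_zero]
  intro θ hθ
  obtain ⟨U, hxU, g, rfl⟩ := TopCat.Presheaf.exists_germ_eq (RefHull.homSh F G).presheaf θ
  rw [RefHull.evalStalk_germ] at hθ
  obtain ⟨W, hxW, I, hI, m, hm⟩ := exists_local_generators F hF x
  have hxV : x ∈ W ⊓ U := ⟨hxW, hxU⟩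
  have hev : ∀ k : I, ∀ᶠ y in nhds x, ∀ hy : y ∈ W ⊓ U,
      g.1 ⟨y, hy.2⟩ (F.presheaf.germ W y hy.1 (m k)) = 0 := by
    intro k
    obtain ⟨W1, hxW1, j, n, hn⟩ := RefHull.isLocSect_of_mem g (W ⊓ U) (homOfLE inf_le_right)
      (F.presheaf.map (homOfLE (inf_le_left : W ⊓ U ≤ W)).op (m k)) ⟨x, hxV⟩
    have h0 : G.presheaf.germ W1 x hxW1 n = 0 := by
      rw [← hn ⟨x, hxW1⟩]
      change g.1 ⟨x, hxU⟩ _ = 0
      rw [hθ]
      rfl
    obtain ⟨W2, hxW2, i2, hn2⟩ : ∃ (W2 : X.Opens) (_ : x ∈ W2) (i2 : W2 ⟶ W1),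
        G.presheaf.map i2.op n = 0 := by
      obtain ⟨W2, hxW2, iU, iV, e⟩ := TopCat.Presheaf.germ_eq G.presheaf x hxW1 hxW1 n 0
        (by rw [h0, map_zero])
      exact ⟨W2, hxW2, iU, by rw [e, map_zero]⟩
    refine Filter.mem_of_superset (W2.isOpen.mem_nhds hxW2) ?_
    intro y hyW2 hy
    have hyW1 : y ∈ W1 := i2.le hyW2
    have h1 := hn ⟨y, hyW1⟩
    rw [TopCat.Presheaf.germ_res_apply] at h1
    refine Eq.trans h1 ?_
    rw [← TopCat.Presheaf.germ_res_apply G.presheaf i2 y hyW2 n, hn2, map_zero]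
  have hall : ∀ᶠ y in nhds x, ∀ k : I, ∀ hy : y ∈ W ⊓ U,
      g.1 ⟨y, hy.2⟩ (F.presheaf.germ W y hy.1 (m k)) = 0 := Filter.eventually_all.2 hev
  obtain ⟨W0, hW0sub, hW0open, hxW0⟩ :=
    mem_nhds_iff.1 (Filter.inter_mem hall ((W ⊓ U).isOpen.mem_nhds hxV))
  have hW0V : (⟨W0, hW0open⟩ : X.Opens) ≤ W ⊓ U := fun y hy => (hW0sub hy).2
  have hzero : (RefHull.homSh F G).presheaf.map
      (homOfLE (hW0V.trans inf_le_right)).op g = 0 := by
    apply Subtype.ext
    funext y
    change g.1 ⟨y.1, (hW0V y.2).2⟩ = 0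
    have hk := (hW0sub y.2).1
    refine LinearMap.ext_on_range (hm y.1 (hW0V y.2).1) ?_
    intro k
    rw [LinearMap.zero_apply]
    exact hk k (hW0V y.2)
  rw [← TopCat.Presheaf.germ_res_apply (RefHull.homSh F G).presheaf
    (homOfLE (hW0V.trans inf_le_right)) x hxW0 g, hzero, map_zero]

end Groth.Agent.S16484
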