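import Groth.Statements.S16086
import Groth.Agent.Lib.Helper1.RefHull14

set_option autoImplicit false
universe u
open CategoryTheory CategoryTheory.Limits AlgebraicGeometry TopologicalSpace
open SDiv

namespace Groth.Agent.S16086

open RefHull Groth.Agent.Lib.Helper1.RefHullLib
open Groth.Agent.Lib.Helper28.QCohLoc Groth.Agent.Lib.Helper29.QCohStalk
open Groth.Agent.Lib.Helper28.GenLocus Groth.Agent.Lib.Helper18
open Groth.Agent.Lib.Helper18.C1Core Groth.Agent.Lib.Helper18.InvStalk Groth.Agent.Lib.Helper18.SDivLib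
  Groth.Agent.Lib.Helper18.CycDiv
open Groth.Agent.S16090

theorem forward (X : Scheme.{u}) [IsIntegral X] [IsLocallyNoetherian X]
    (hX : Pi1.IsNormalScheme X) (F G : X.Modules) (hF : RefHull.IsRef1 F) (hG : RefHull.IsRef1 G)
    (s : Cyc.secFibre F (genericPoint ↥X)) (hs : s ≠ 0) (t : Cyc.secFibre G (genericPoint ↥X)) (ht : t ≠ 0)
    (e : F ≅ G) :
    ∃ f : ↑X.functionField, f ≠ 0 ∧
        ∀ (x : ↥X), Order.coheight x = 1 →
          Cyc.secOrdAt F (genericPoint ↥X) x ((genericPoint_spec ↥X).specializes (Set.mem_univ x)) s =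
            Cyc.secOrdAt G (genericPoint ↥X) x ((genericPoint_spec ↥X).specializes (Set.mem_univ x)) t +
              Scheme.ord f x := by
  classical
  obtain ⟨W, g, hηW, hg⟩ := exists_isGen_generic F hF.2.2
  have hg' : IsGen G W (e.hom.app W g) := isGen_app_of_iso e hg
  have fg := freeGen_gm_of_isGen hg (genericPoint ↥X) hηW
  have fg' := freeGen_gm_of_isGen hg' (genericPoint ↥X) hηW
  obtain ⟨a, ha⟩ := exists_smul_mk F fg s
  obtain ⟨b, hb⟩ := exists_smul_mk G fg' t
  have ha0 : a ≠ 0 := by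
    rintro rfl
    exact hs (by rw [ha, zero_smul])
  have hb0 : b ≠ 0 := by
    rintro rfl
    exact ht (by rw [hb, zero_smul])
  refine ⟨a * b⁻¹, mul_ne_zero ha0 (inv_ne_zero hb0), ?_⟩
  intro x hx
  have hdim : ringKrullDim (X.presheaf.stalk x) = 1 := by
    rw [ringKrullDim_stalk_eq_coheight, hx]
    rfl
  have hx2 : ¬ (2 : WithBot ℕ∞) ≤ ringKrullDim (X.presheaf.stalk x) := by
    rw [hdim]
    decide
  have hsp : genericPoint ↥X ⤳ x := (genericPoint_spec ↥X).specializes (Set.mem_univ x)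
  obtain ⟨U, hxU, ⟨γ⟩⟩ := exists_gen1 hX F hF x hx2
  have hηU : genericPoint ↥X ∈ U := hsp.mem_open U.isOpen hxU
  have hηV : genericPoint ↥X ∈ W ⊓ U := ⟨hηW, hηU⟩
  have hVW : W ⊓ U ≤ W := inf_le_left
  have hVU : W ⊓ U ≤ U := inf_le_right
  obtain ⟨r, hr⟩ := Gen1.exists_smul (Gen1.rs hVW (⟨g, hg⟩ : Gen1 F W)) (γ.rs hVU)
  have hr1 : res F hVW g = (r • res F hVU γ.1 : Γ(F, W ⊓ U)) := hr
  have hr2 : res G hVW (e.hom.app W g) = (r • res G hVU (e.hom.app U γ.1) : Γ(G, W ⊓ U)) := by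
    rw [← Groth.Agent.Lib.Helper28.QCohLoc.app_res, ← Groth.Agent.Lib.Helper28.QCohLoc.app_res, hr1,
      Scheme.Modules.Hom.app_smul]
  have e1 : gm F W (genericPoint ↥X) hηW g =
      X.presheaf.germ _ (genericPoint ↥X) hηV r • gm F U (genericPoint ↥X) hηU γ.1 := by
    rw [← gm_res F hVW (genericPoint ↥X) hηV, ← gm_res F hVU (genericPoint ↥X) hηV γ.1, ← gm_smul]
    exact congrArg _ hr1
  have e2 : gm G W (genericPoint ↥X) hηW (e.hom.app W g) =
      X.presheaf.germ _ (genericPoint ↥X) hηV r • gm G U (genericPoint ↥X) hηU (e.hom.app U γ.1) := by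
    rw [← gm_res G hVW (genericPoint ↥X) hηV, ← gm_res G hVU (genericPoint ↥X) hηV (e.hom.app U γ.1),
      ← gm_smul]
    exact congrArg _ hr2
  have hs' : s = (a * X.presheaf.germ _ (genericPoint ↥X) hηV r) •
      (Submodule.Quotient.mk (gm F U (genericPoint ↥X) hηU γ.1) : Cyc.secFibre F (genericPoint ↥X)) := by
    rw [ha, e1, Submodule.Quotient.mk_smul, mul_smul]
  have ht' : t = (b * X.presheaf.germ _ (genericPoint ↥X) hηV r) •
      (Submodule.Quotient.mk (gm G U (genericPoint ↥X) hηU (e.hom.app U γ.1)) :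
        Cyc.secFibre G (genericPoint ↥X)) := by
    rw [hb, e2, Submodule.Quotient.mk_smul, mul_smul]
  have hρ : X.presheaf.germ _ (genericPoint ↥X) hηV r ≠ 0 := by
    intro h0
    apply hs
    rw [hs', h0, mul_zero, zero_smul]
  have h1 := secOrdAt_smul_mk_gm F γ.2 x hxU hx hsp hηU _ (mul_ne_zero ha0 hρ)
  have h2 := secOrdAt_smul_mk_gm G (isGen_app_of_iso e γ.2) x hxU hx hsp hηU _ (mul_ne_zero hb0 hρ)
  rw [← hs'] at h1
  rw [← ht'] at h2
  rw [h1, h2, Scheme.ord_mul ha0 hρ, Scheme.ord_mul hb0 hρ]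
  have h3 : Scheme.ord a x = Scheme.ord (a * b⁻¹) x + Scheme.ord b x := by
    rw [← Scheme.ord_mul (mul_ne_zero ha0 (inv_ne_zero hb0)) hb0]
    congr 1
    field_simp
  omega

/-- normalised pairs of local generators. -/
structure Idx {X : Scheme.{u}} [IsIntegral X] (F G : X.Modules)
    (s : Cyc.secFibre F (genericPoint ↥X)) (t : Cyc.secFibre G (genericPoint ↥X))
    (f : X.functionField) : Type u where
  U : X.Opens
  hη : genericPoint ↥X ∈ U
  γ : Γ(F, U)
  γ' : Γ(G, U)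
  hγ : IsGen F U γ
  hγ' : IsGen G U γ'
  α : X.functionField
  hs : s = α • (Submodule.Quotient.mk (gm F U (genericPoint ↥X) hη γ) : Cyc.secFibre F (genericPoint ↥X))
  ht : t = (α * f⁻¹) •
    (Submodule.Quotient.mk (gm G U (genericPoint ↥X) hη γ') : Cyc.secFibre G (genericPoint ↥X))

theorem eq_of_smul_mk_eq {X : Scheme.{u}} [IsIntegral X] (F : X.Modules) {U : X.Opens} {γ : Γ(F, U)}
    (hγ : IsGen F U γ) (hη : genericPoint ↥X ∈ U) (a b : X.functionField)
    (h : a • (Submodule.Quotient.mk (gm F U (genericPoint ↥X) hη γ) : Cyc.secFibre F (genericPoint ↥X)) =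
      b • (Submodule.Quotient.mk (gm F U (genericPoint ↥X) hη γ) : Cyc.secFibre F (genericPoint ↥X))) :
    a = b :=
  (X.residue (genericPoint ↥X)).hom.injective
    (residue_eq_of_smul_mk_eq F (freeGen_gm_of_isGen hγ (genericPoint ↥X) hη) a b h)

theorem exists_idx (X : Scheme.{u}) [IsIntegral X] [IsLocallyNoetherian X]
    (hX : Pi1.IsNormalScheme X) (F G : X.Modules) (hF : RefHull.IsRef1 F) (hG : RefHull.IsRef1 G)
    (s : Cyc.secFibre F (genericPoint ↥X)) (hs : s ≠ 0) (t : Cyc.secFibre G (genericPoint ↥X)) (ht : t ≠ 0)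
    (f : X.functionField) (hf : f ≠ 0)
    (hord : ∀ (x : ↥X), Order.coheight x = 1 →
          Cyc.secOrdAt F (genericPoint ↥X) x ((genericPoint_spec ↥X).specializes (Set.mem_univ x)) s =
            Cyc.secOrdAt G (genericPoint ↥X) x ((genericPoint_spec ↥X).specializes (Set.mem_univ x)) t +
              Scheme.ord f x)
    (x : X) (hx2 : ¬ (2 : WithBot ℕ∞) ≤ ringKrullDim (X.presheaf.stalk x)) :
    ∃ i : Idx F G s t f, x ∈ i.U := by
  classical
  have hsp : genericPoint ↥X ⤳ x := (genericPoint_spec ↥X).specializes (Set.mem_univ x)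
  obtain ⟨U1, hxU1, ⟨d1⟩⟩ := exists_gen1 hX F hF x hx2
  obtain ⟨U2, hxU2, ⟨d2⟩⟩ := exists_gen1 hX G hG x hx2
  have hxU : x ∈ U1 ⊓ U2 := ⟨hxU1, hxU2⟩
  have hηU : genericPoint ↥X ∈ U1 ⊓ U2 := hsp.mem_open (U1 ⊓ U2).isOpen hxU
  let γ : Gen1 F (U1 ⊓ U2) := d1.rs inf_le_left
  let γ' : Gen1 G (U1 ⊓ U2) := d2.rs inf_le_right
  obtain ⟨α, hα⟩ := exists_smul_mk F (freeGen_gm_of_isGen γ.2 (genericPoint ↥X) hηU) s
  obtain ⟨β, hβ⟩ := exists_smul_mk G (freeGen_gm_of_isGen γ'.2 (genericPoint ↥X) hηU) t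
  have hα0 : α ≠ 0 := by
    rintro rfl
    exact hs (by rw [hα, zero_smul])
  have hβ0 : β ≠ 0 := by
    rintro rfl
    exact ht (by rw [hβ, zero_smul])
  -- the unit
  have hu0 : β * f * α⁻¹ ≠ 0 := mul_ne_zero (mul_ne_zero hβ0 hf) (inv_ne_zero hα0)
  have hab : ∃ a b : X.presheaf.stalk x, a * b = 1 ∧
      algebraMap (X.presheaf.stalk x) X.functionField a = β * f * α⁻¹ := by
    by_cases hx : Order.coheight x = 1
    · haveI := isDiscreteValuationRing_stalk hX x hx
      have h1 := secOrdAt_smul_mk_gm F γ.2 x hxU hx hsp hηU α hα0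
      have h2 := secOrdAt_smul_mk_gm G γ'.2 x hxU hx hsp hηU β hβ0
      rw [← hα] at h1
      rw [← hβ] at h2
      have h3 := hord x hx
      rw [h1, h2] at h3
      have h4 : Scheme.ord (1 : X.functionField) x = 0 := by
        have := Scheme.ord_mul (x := x) (one_ne_zero (α := X.functionField)) one_ne_zero
        rw [one_mul] at this
        omega
      have h5 : Scheme.ord α x + Scheme.ord α⁻¹ x = 0 := by
        rw [← Scheme.ord_mul hα0 (inv_ne_zero hα0), mul_inv_cancel₀ hα0, h4]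
      have h6 : Scheme.ord (β * f * α⁻¹) x = 0 := by
        rw [Scheme.ord_mul (mul_ne_zero hβ0 hf) (inv_ne_zero hα0), Scheme.ord_mul hβ0 hf]
        omega
      have h7 : Scheme.ord (β * f * α⁻¹)⁻¹ x = 0 := by
        have := Scheme.ord_mul (x := x) hu0 (inv_ne_zero hu0)
        rw [mul_inv_cancel₀ hu0, h4, h6] at this
        omega
      obtain ⟨a, ha⟩ := Groth.Agent.Lib.Helper13.CDivLib.mem_range_of_ord_nonneg x hx _ hu0 h6.ge
      obtain ⟨b, hb⟩ := Groth.Agent.Lib.Helper13.CDivLib.mem_range_of_ord_nonneg x hx _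
        (inv_ne_zero hu0) h7.ge
      refine ⟨a, b, ?_, ha⟩
      apply IsFractionRing.injective (X.presheaf.stalk x) X.functionField
      rw [map_mul, ha, hb, mul_inv_cancel₀ hu0, map_one]
    · have hdim := ringKrullDim_stalk_eq_coheight x
      have hc0 : Order.coheight x = 0 := by
        rw [hdim] at hx2
        have h1 : ¬ (2 : ℕ∞) ≤ Order.coheight x := fun h => hx2 (WithBot.coe_le_coe.2 h)
        have h2 : Order.coheight x < 2 := not_le.1 h1
        have h3 : Order.coheight x ≤ 1 := by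
          have : (2 : ℕ∞) = 1 + 1 := by norm_num
          rw [this] at h2
          exact Order.le_of_lt_add_one h2
        rcases lt_or_eq_of_le h3 with h4 | h4
        · exact Order.lt_one_iff.1 h4
        · exact absurd h4 hx
      have hmax : IsMax x := Order.coheight_eq_zero.1 hc0
      have h2 : x ⤳ genericPoint ↥X := hmax (show x ≤ genericPoint ↥X from hsp)
      obtain rfl : x = genericPoint ↥X := (h2.antisymm hsp).eq
      refine ⟨β * f * α⁻¹, (β * f * α⁻¹)⁻¹, mul_inv_cancel₀ hu0, ?_⟩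
      show X.presheaf.stalkSpecializes _ _ = _
      rw [TopCat.Presheaf.stalkSpecializes_refl]
      rfl
  obtain ⟨a, b, hab, ha⟩ := hab
  obtain ⟨U3, hxU3, v, w, hvw, hv⟩ := exists_unit_section x a b hab
  have hxU' : x ∈ (U1 ⊓ U2) ⊓ U3 := ⟨hxU, hxU3⟩
  have hηU' : genericPoint ↥X ∈ (U1 ⊓ U2) ⊓ U3 := hsp.mem_open ((U1 ⊓ U2) ⊓ U3).isOpen hxU'
  have hV1 : (U1 ⊓ U2) ⊓ U3 ≤ U1 ⊓ U2 := inf_le_left
  have hV3 : (U1 ⊓ U2) ⊓ U3 ≤ U3 := inf_le_right
  have huv : IsUnit (resO hV3 v) :=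
    (IsUnit.of_mul_eq_one w hvw).map (X.presheaf.map (homOfLE hV3).op).hom
  have hgv : X.presheaf.germ _ (genericPoint ↥X) hηU' (resO hV3 v) = β * f * α⁻¹ := by
    rw [germ_resO, ← ha, ← hv]
    exact (TopCat.Presheaf.germ_stalkSpecializes_apply X.presheaf hxU3 hsp v).symm
  refine ⟨⟨(U1 ⊓ U2) ⊓ U3, hηU', res F hV1 γ.1, (resO hV3 v • res G hV1 γ'.1 : Γ(G, _)),
    γ.2.res hV1, Groth.Agent.Lib.Helper28.SymPow.isGen_smul_of_isUnit' (γ'.2.res hV1) _ huv, α, ?_, ?_⟩,
    hxU'⟩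
  · rw [gm_res]
    exact hα
  · rw [gm_smul, gm_res, hgv, Submodule.Quotient.mk_smul, ← mul_smul, hβ]
    congr 1
    field_simp

/-- The class map is well defined and injective: fix a scheme X that is integral, normal and locally
Noetherian, and write η for its generic point; suppose F and G are rank one coherent reflexive
O_X-modules and let s ∈ F_η and t ∈ G_η be nonzero rational sections. At a point x of codimension 1
the stalks F_x, G_x are free of rank one over the discrete valuation ring O_{X,x}, so s and t have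
orders ord_{x,F}(s), ord_{x,G}(t). Then F ≅ G if and only if the Weil divisors of s and t are
linearly equivalent: for some nonzero rational function f one has ord_{x,F}(s) = ord_{x,G}(t) +
ord_x(f) at every point x of codimension 1. -/
theorem result (X : Scheme.{u}) [IsIntegral X] [IsLocallyNoetherian X]
    (hX : Pi1.IsNormalScheme X) (F G : X.Modules) (hF : RefHull.IsRef1 F) (hG : RefHull.IsRef1 G)
    (s : Cyc.secFibre F (genericPoint ↥X)) (hs : s ≠ 0) (t : Cyc.secFibre G (genericPoint ↥X)) (ht : t ≠ 0) :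
    Nonempty (F ≅ G) ↔
      ∃ f : ↑X.functionField, f ≠ 0 ∧
        ∀ (x : ↥X), Order.coheight x = 1 →
          Cyc.secOrdAt F (genericPoint ↥X) x ((genericPoint_spec ↥X).specializes (Set.mem_univ x)) s =
            Cyc.secOrdAt G (genericPoint ↥X) x ((genericPoint_spec ↥X).specializes (Set.mem_univ x)) t +
              Scheme.ord f x := by
  constructor
  · rintro ⟨e⟩
    exact forward X hX F G hF hG s hs t ht e
  · rintro ⟨f, hf, hord⟩
    refine nonempty_iso_of_cocycle_codimOne hX F G hF.1 hF.2.1 hG.1 hG.2.1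
      (ι := Idx F G s t f) (fun i => i.U) (fun i => i.γ) (fun i => i.γ') (fun i => i.hγ)
      (fun i => i.hγ') (fun x hx2 => exists_idx X hX F G hF hG s hs t ht f hf hord x hx2) ?_
    intro i j
    have hηV : genericPoint ↥X ∈ i.U ⊓ j.U := ⟨i.hη, j.hη⟩
    have hVi : i.U ⊓ j.U ≤ i.U := inf_le_left
    have hVj : i.U ⊓ j.U ≤ j.U := inf_le_right
    obtain ⟨c, hc⟩ := Gen1.exists_smul (Gen1.rs hVi (⟨i.γ, i.hγ⟩ : Gen1 F i.U))
      (Gen1.rs hVj (⟨j.γ, j.hγ⟩ : Gen1 F j.U))
    obtain ⟨c', hc'⟩ := Gen1.exists_smul (Gen1.rs hVi (⟨i.γ', i.hγ'⟩ : Gen1 G i.U))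
      (Gen1.rs hVj (⟨j.γ', j.hγ'⟩ : Gen1 G j.U))
    have hc1 : res F hVi i.γ = (c • res F hVj j.γ : Γ(F, i.U ⊓ j.U)) := hc
    have hc2 : res G hVi i.γ' = (c' • res G hVj j.γ' : Γ(G, i.U ⊓ j.U)) := hc'
    have e1 : gm F i.U (genericPoint ↥X) i.hη i.γ =
        X.presheaf.germ _ (genericPoint ↥X) hηV c • gm F j.U (genericPoint ↥X) j.hη j.γ := by
      rw [← gm_res F hVi (genericPoint ↥X) hηV, ← gm_res F hVj (genericPoint ↥X) hηV j.γ, ← gm_smul]
      exact congrArg _ hc1
    have e2 : gm G i.U (genericPoint ↥X) i.hη i.γ' =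
        X.presheaf.germ _ (genericPoint ↥X) hηV c' • gm G j.U (genericPoint ↥X) j.hη j.γ' := by
      rw [← gm_res G hVi (genericPoint ↥X) hηV, ← gm_res G hVj (genericPoint ↥X) hηV j.γ', ← gm_smul]
      exact congrArg _ hc2
    have hαi : i.α ≠ 0 := by
      intro h0
      apply hs
      rw [i.hs, h0, zero_smul]
    have h1 : i.α * X.presheaf.germ _ (genericPoint ↥X) hηV c = j.α := by
      apply eq_of_smul_mk_eq F j.hγ j.hη
      rw [mul_smul, ← Submodule.Quotient.mk_smul, ← e1, ← i.hs, ← j.hs]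
    have h2 : i.α * f⁻¹ * X.presheaf.germ _ (genericPoint ↥X) hηV c' = j.α * f⁻¹ := by
      apply eq_of_smul_mk_eq G j.hγ' j.hη
      rw [mul_smul, ← Submodule.Quotient.mk_smul, ← e2, ← i.ht, ← j.ht]
    have h3 : X.presheaf.germ _ (genericPoint ↥X) hηV c = X.presheaf.germ _ (genericPoint ↥X) hηV c' := by
      have h4 : i.α * X.presheaf.germ _ (genericPoint ↥X) hηV c =
          i.α * X.presheaf.germ _ (genericPoint ↥X) hηV c' := by
        rw [h1]
        have h5 : j.α = j.α * f⁻¹ * f := by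
          rw [mul_assoc, inv_mul_cancel₀ hf, mul_one]
        rw [h5, ← h2]
        field_simp
      exact mul_left_cancel₀ hαi h4
    have h4 : c = c' := germ_injective_of_isIntegral X (genericPoint ↥X) hηV h3
    refine ⟨c, hc1, ?_⟩
    rw [h4]
    exact hc2

end Groth.Agent.S16086
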