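import Groth.Statements.S4562
import Mathlib
import Groth.Agent.Lib.Helper22.N2PI
-- import your own Groth.Agent.* helpers here

set_option autoImplicit false
universe u
open CAlg

namespace Groth.Agent.S4562

/-- Let A be a Noetherian domain with fraction field K. If the integral closure of A in every finite
purely inseparable extension of K is a finitely generated A-module, then A is Japanese (N-2). -/
theorem result (A : Type u) [CommRing A] [IsDomain A]
    [IsNoetherianRing A]
    (h : ∀ (K' : Type u) [Field K'] [Algebra A K'] [Algebra (FractionRing A) K']
      [IsScalarTower A (FractionRing A) K'], FiniteDimensional (FractionRing A) K' →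
      IsPurelyInseparable (FractionRing A) K' → Module.Finite A (integralClosure A K')) :
    CAlg.IsN2 A := by
  intro L _ _ _ _ hfin
  haveI := hfin
  obtain ⟨N, hNf, hNa, φ, K', hfd, hpi, hsep⟩ :=
    Groth.Agent.Lib.Helper22.N2PI.exists_normal_tower (K := FractionRing A) (L := L)
  letI := hNf
  letI := hNa
  haveI := hfd
  haveI := hpi
  haveI := hsep
  letI : Algebra A N :=
    ((algebraMap (FractionRing A) N).comp (algebraMap A (FractionRing A))).toAlgebra
  haveI : IsScalarTower A (FractionRing A) N := IsScalarTower.of_algebraMap_eq (fun _ => rfl)
  haveI : FiniteDimensional (FractionRing A) K' := inferInstance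
  haveI : FiniteDimensional K' N := inferInstance
  haveI : IsScalarTower A K' N := IsScalarTower.of_algebraMap_eq (fun x => rfl)
  have hA' : Module.Finite A (integralClosure A K') := h K' inferInstance hpi
  have hN : Module.Finite A (integralClosure A N) :=
    Groth.Agent.Lib.Helper22.N2PI.finite_integralClosure_of_tower A (FractionRing A) K' N hA'
  let ψ : L →ₐ[A] N := φ.restrictScalars A
  let g : integralClosure A L →ₐ[A] integralClosure A N := ψ.mapIntegralClosure
  have hg : Function.Injective g := by
    intro x y hxy
    apply Subtype.ext
    have : (g x : N) = (g y : N) := congrArg Subtype.val hxy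
    exact φ.injective this
  haveI : IsNoetherian A (integralClosure A N) := isNoetherian_of_isNoetherianRing_of_finite A _
  exact Module.Finite.of_injective g.toLinearMap hg

end Groth.Agent.S4562
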