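import Groth.Statements.S4537
-- import your own Groth.Agent.* helpers here
import Mathlib.RingTheory.Smooth.Basic

set_option autoImplicit false
universe u
open EGA41

namespace Groth.Agent.S4537

/-- For a discrete base and an adic algebra: let A be a discrete ring and B an A-algebra with the 𝔫-adic
topology. If every continuous A-algebra map from B to a quotient C/J with J² = 0 lifts to C, then
the same holds for every nilpotent J; hence the square-zero and the nilpotent forms of adic formal
smoothness agree. -/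
theorem result {A B : Type u} [CommRing A] [CommRing B] [Algebra A B]
    (𝔫 : Ideal B) :
    CAlgX.IsAdicFormallySmooth A B 𝔫 ↔ EGA41.IsFormallySmoothAdic A ⊥ B 𝔫 := by
  constructor
  · intro h C _ instAC J hJ hbot u hu
    clear hbot
    revert hu
    revert u
    revert instAC
    refine Ideal.IsNilpotent.induction_on (S := C) J hJ
      (P := fun S _ J => IsNilpotent J → ∀ [Algebra A S] (u : B →ₐ[A] S ⧸ J),
        (∃ k : ℕ, ∀ x ∈ 𝔫 ^ k, u x = 0) →
          ∃ v : B →ₐ[A] S, (Ideal.Quotient.mkₐ A J).comp v = u) ?_ ?_ hJ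
    · intro S _ I hI _ _ u hu
      exact h S I hI u hu
    · intro S _ I J hIJ h₁ h₂ hJn _ g hg
      have hIn : IsNilpotent I := by
        obtain ⟨m, hm⟩ := hJn
        refine ⟨m, ?_⟩
        have := Ideal.pow_right_mono hIJ m
        rw [hm] at this
        exact le_bot_iff.mp this
      have hJ'n : IsNilpotent (J.map (Ideal.Quotient.mk I)) := by
        obtain ⟨m, hm⟩ := hJn
        exact ⟨m, by rw [← Ideal.map_pow, hm, Ideal.zero_eq_bot, Ideal.map_bot]; rfl⟩
      let e : ((S ⧸ I) ⧸ J.map (Ideal.Quotient.mk I)) ≃ₐ[A] S ⧸ J :=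
        { (DoubleQuot.quotQuotEquivQuotSup I J).trans
            (Ideal.quotEquivOfEq (sup_eq_right.mpr hIJ)) with
          commutes' := fun x => rfl }
      obtain ⟨k, hk⟩ := hg
      obtain ⟨g', he⟩ := h₂ hJ'n (e.symm.toAlgHom.comp g) ⟨k, fun x hx => by simp [hk x hx]⟩
      have hle : (𝔫 ^ k).map g'.toRingHom ≤ J.map (Ideal.Quotient.mk I) := by
        rw [Ideal.map_le_iff_le_comap]
        intro x hx
        have h3 := AlgHom.congr_fun he x
        simp only [AlgHom.comp_apply, hk x hx, map_zero] at h3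
        rw [Ideal.mem_comap]
        exact Ideal.Quotient.eq_zero_iff_mem.mp h3
      have hg' : ∃ k' : ℕ, ∀ x ∈ 𝔫 ^ k', g' x = 0 := by
        obtain ⟨m, hm⟩ := hJ'n
        refine ⟨k * m, fun x hx => ?_⟩
        have h4 : g' x ∈ ((𝔫 ^ k).map g'.toRingHom) ^ m := by
          rw [← Ideal.map_pow, ← pow_mul]
          exact Ideal.mem_map_of_mem _ hx
        have h5 := Ideal.pow_right_mono hle m h4
        rw [hm] at h5
        simpa using h5
      obtain ⟨g'', rfl⟩ := h₁ hIn g' hg'
      replace he := congr_arg e.toAlgHom.comp he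
      conv_rhs at he =>
        rw [← AlgHom.comp_assoc, AlgEquiv.comp_symm, AlgHom.id_comp]
      exact ⟨g'', he⟩
  · intro h C _ _ J hJ u hu
    exact h C J ⟨2, hJ⟩ ⟨1, by simp⟩ u hu

end Groth.Agent.S4537
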