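import Groth.Statements.S9627
import Mathlib.RingTheory.Flat.Basic
import Mathlib.LinearAlgebra.Basis.VectorSpace
import Mathlib.RingTheory.Spectrum.Prime.Topology
import Mathlib.RingTheory.Localization.FractionRing
import Mathlib.LinearAlgebra.TensorProduct.RightExactness

set_option autoImplicit false
universe u
open CAlg

namespace Groth.Agent.S9627

section helpers
open TensorProduct

theorem irr_of_ker_le {A B : Type*} [CommRing A] [CommRing B] (f : A →+* B)
    (hf : RingHom.ker f ≤ nilradical A) [IrreducibleSpace (PrimeSpectrum B)] :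
    IrreducibleSpace (PrimeSpectrum A) := by
  rw [PrimeSpectrum.irreducibleSpace_iff_isPrime_nilradical] at *
  have : nilradical A = (nilradical B).comap f := by
    ext x
    simp only [mem_nilradical, Ideal.mem_comap]
    constructor
    · intro h; exact h.map f
    · rintro ⟨n, hn⟩
      rw [← map_pow] at hn
      have : IsNilpotent (x ^ n) := hf hn
      obtain ⟨m, hm⟩ := this
      exact ⟨n * m, by rw [pow_mul, hm]⟩
  rw [this]
  infer_instance

theorem irr_of_injective {A B : Type*} [CommRing A] [CommRing B] (f : A →+* B)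
    (hf : Function.Injective f) [IrreducibleSpace (PrimeSpectrum B)] :
    IrreducibleSpace (PrimeSpectrum A) := by
  apply irr_of_ker_le f
  rw [(RingHom.injective_iff_ker_eq_bot f).mp hf]
  exact bot_le

theorem irr_of_equiv {A B : Type*} [CommRing A] [CommRing B] (e : A ≃+* B)
    [IrreducibleSpace (PrimeSpectrum B)] : IrreducibleSpace (PrimeSpectrum A) :=
  irr_of_injective e.toRingHom e.injective

/-- Kernel of `S ⊗ T → S ⊗ T/N` is nil when `N` is. -/
theorem ker_le_nilradical {K S T : Type u} [Field K] [CommRing S] [Algebra K S] [CommRing T]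
    [Algebra K T] (N : Ideal T) (hN : N ≤ nilradical T) :
    RingHom.ker (Algebra.TensorProduct.map (AlgHom.id K S) (Ideal.Quotient.mkₐ K N)).toRingHom ≤
      nilradical (S ⊗[K] T) := by
  intro x hx
  have hx' : (Ideal.Quotient.mkₐ K N).toLinearMap.lTensor S x = 0 := hx
  have hex : Function.Exact (N.restrictScalars K).subtype (Ideal.Quotient.mkₐ K N).toLinearMap := by
    intro t
    constructor
    · intro ht
      have : t ∈ N := by
        have : Ideal.Quotient.mk N t = 0 := ht
        rwa [Ideal.Quotient.eq_zero_iff_mem] at this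
      exact ⟨⟨t, this⟩, rfl⟩
    · rintro ⟨⟨t, ht⟩, rfl⟩
      exact Ideal.Quotient.eq_zero_iff_mem.mpr ht
  have hE := lTensor_exact S hex (Ideal.Quotient.mkₐ_surjective K N)
  obtain ⟨y, rfl⟩ := (hE x).mp hx'
  clear hx hx'
  induction y using TensorProduct.induction_on with
  | zero => simp
  | tmul s n =>
    have hn : IsNilpotent (n : T) := hN n.2
    obtain ⟨m, hm⟩ := hn
    rw [mem_nilradical]
    refine ⟨m, ?_⟩
    rw [LinearMap.lTensor_tmul, Submodule.subtype_apply, Algebra.TensorProduct.tmul_pow, hm,
      tmul_zero]
  | add a b ha hb =>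
    rw [map_add]
    exact Ideal.add_mem _ ha hb

open TensorProduct in
theorem step {K S T : Type u} [Field K] [CommRing S] [Algebra K S] [CommRing T] [Algebra K T]
    (hN : (nilradical T).IsPrime)
    (hS : ∀ (K' : Type u) [Field K'] [Algebra K K'], IrreducibleSpace (PrimeSpectrum (K' ⊗[K] S))) :
    IrreducibleSpace (PrimeSpectrum (S ⊗[K] T)) := by
  let N := nilradical T
  let K' := FractionRing (T ⧸ N)
  have h1 : IrreducibleSpace (PrimeSpectrum (K' ⊗[K] S)) := hS K'
  have h2 : IrreducibleSpace (PrimeSpectrum (S ⊗[K] K')) :=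
    irr_of_equiv (Algebra.TensorProduct.comm K S K').toRingEquiv
  have h3 : IrreducibleSpace (PrimeSpectrum (S ⊗[K] (T ⧸ N))) := by
    let f : S ⊗[K] (T ⧸ N) →ₐ[K] S ⊗[K] K' :=
      Algebra.TensorProduct.map (AlgHom.id K S) (IsScalarTower.toAlgHom K (T ⧸ N) K')
    have hf : Function.Injective f := by
      have : Function.Injective ((IsScalarTower.toAlgHom K (T ⧸ N) K').toLinearMap.lTensor S) :=
        Module.Flat.lTensor_preserves_injective_linearMap _ (IsFractionRing.injective (T ⧸ N) K')
      exact this
    exact irr_of_injective f.toRingHom hf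
  exact irr_of_ker_le _ (ker_le_nilradical (S := S) N le_rfl)

open TensorProduct in
theorem main {k K S : Type u} [Field k] [Field K] [Algebra k K] [CommRing S] [Algebra K S] [Algebra k S] [IsScalarTower k K S]
    (hK : ∀ (k' : Type u) [Field k'] [Algebra k k'], IrreducibleSpace (PrimeSpectrum (k' ⊗[k] K)))
    (hS : ∀ (K' : Type u) [Field K'] [Algebra K K'], IrreducibleSpace (PrimeSpectrum (K' ⊗[K] S))) :
    ∀ (k' : Type u) [Field k'] [Algebra k k'], IrreducibleSpace (PrimeSpectrum (k' ⊗[k] S)) := by
  intro k' _ _
  have hT : IrreducibleSpace (PrimeSpectrum (K ⊗[k] k')) := by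
    have := hK k'
    exact irr_of_equiv (Algebra.TensorProduct.comm k K k').toRingEquiv
  have hN : (nilradical (K ⊗[k] k')).IsPrime :=
    PrimeSpectrum.irreducibleSpace_iff_isPrime_nilradical.mp hT
  have h4 : IrreducibleSpace (PrimeSpectrum (S ⊗[K] (K ⊗[k] k'))) := step hN hS
  have h5 : IrreducibleSpace (PrimeSpectrum (S ⊗[k] k')) :=
    irr_of_equiv (Algebra.TensorProduct.cancelBaseChange k K K S k').symm.toRingEquiv
  exact irr_of_equiv (Algebra.TensorProduct.comm k k' S).toRingEquiv


end helpers


open TensorProduct in
/-- Let K/k be a field extension such that Spec(k' ⊗_k K) is irreducible for every field extension k'/k,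
and let S be a K-algebra such that Spec(K' ⊗_K S) is irreducible for every field extension K'/K.
Then Spec(k' ⊗_k S) is irreducible for every field extension k'/k: S is geometrically irreducible
over k. Here the test fields k'/k and K'/K range over field extensions in the common universe of k
and K; this is equivalent to the unrestricted notions, since an algebraic closure of the base field
suffices as a test. -/
theorem result {k K S : Type u} [Field k] [Field K] [Algebra k K] [CommRing S] [Algebra K S] [Algebra k S] [IsScalarTower k K S]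
    (hK : ∀ (k' : Type u) [Field k'] [Algebra k k'], IrreducibleSpace (PrimeSpectrum (k' ⊗[k] K)))
    (hS : ∀ (K' : Type u) [Field K'] [Algebra K K'], IrreducibleSpace (PrimeSpectrum (K' ⊗[K] S))) :
    ∀ (k' : Type u) [Field k'] [Algebra k k'], IrreducibleSpace (PrimeSpectrum (k' ⊗[k] S)) := by
  exact main hK hS

end Groth.Agent.S9627
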