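import Groth.Statements.S9409
import Mathlib

set_option autoImplicit false
universe u
open CAlg

namespace Groth.Agent.S9409

open TensorProduct

theorem exists_common {k : Type u} [Field k] {ι : Type u}
    (K : ι → Type u) [∀ i, Field (K i)] [∀ i, Algebra (K i) k]
    (hdir : ∀ i j, ∃ l, Set.range (algebraMap (K i) k) ⊆ Set.range (algebraMap (K l) k) ∧
      Set.range (algebraMap (K j) k) ⊆ Set.range (algebraMap (K l) k))
    (hcov : ∀ x : k, ∃ i, x ∈ Set.range (algebraMap (K i) k)) (F : Finset k) :
    ∃ l, ∀ x ∈ F, x ∈ Set.range (algebraMap (K l) k) := by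
  classical
  induction F using Finset.induction_on with
  | empty =>
    obtain ⟨i, _⟩ := hcov 0
    exact ⟨i, by simp⟩
  | insert a s _ ih =>
    obtain ⟨i, hi⟩ := ih
    obtain ⟨j, hj⟩ := hcov a
    obtain ⟨l, hl1, hl2⟩ := hdir i j
    refine ⟨l, fun x hx => ?_⟩
    rcases Finset.mem_insert.1 hx with rfl | hx
    · exact hl2 hj
    · exact hl1 (hi x hx)

theorem descend (L k k' : Type u) [Field L] [Field k] [Field k'] [Algebra L k] [Algebra k k']
    [Algebra L k'] [IsScalarTower L k k'] [Module.Finite k k']
    (A : Type u) [CommRing A] [Algebra k A] [Algebra L A] [IsScalarTower L k A]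
    (hL : CAlg.IsGeometricallyRegular L A)
    {m : ℕ} (b : Module.Basis (Fin m) k k')
    (hc : ∀ i j l, b.repr (b i * b j) l ∈ Set.range (algebraMap L k))
    (hu : ∀ l, b.repr 1 l ∈ Set.range (algebraMap L k)) :
    IsRegularRing (k' ⊗[k] A) := by
  let M : Submodule L k' := Submodule.span L (Set.range b)
  have hsmul : ∀ (c : k), c ∈ Set.range (algebraMap L k) → ∀ x ∈ M, c • x ∈ M := by
    rintro c ⟨c', rfl⟩ x hx
    rw [algebraMap_smul]
    exact M.smul_mem c' hx
  have hsum : ∀ (y : k'), (∀ l, b.repr y l ∈ Set.range (algebraMap L k)) → y ∈ M := by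
    intro y hy
    rw [← b.sum_repr y]
    exact Submodule.sum_mem _ (fun l _ => hsmul _ (hy l) _ (Submodule.subset_span ⟨l, rfl⟩))
  have hone : (1 : k') ∈ M := hsum 1 hu
  have hmul : ∀ x y, x ∈ M → y ∈ M → x * y ∈ M := by
    intro x y hx hy
    induction hx using Submodule.span_induction with
    | mem x hx =>
      obtain ⟨i, rfl⟩ := hx
      induction hy using Submodule.span_induction with
      | mem y hy =>
        obtain ⟨j, rfl⟩ := hy
        exact hsum _ (hc i j)
      | zero => rw [mul_zero]; exact M.zero_mem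
      | add y z _ _ hy hz => rw [mul_add]; exact M.add_mem hy hz
      | smul c y _ hy => rw [mul_smul_comm]; exact M.smul_mem c hy
    | zero => rw [zero_mul]; exact M.zero_mem
    | add x z _ _ hx hz => rw [add_mul]; exact M.add_mem hx hz
    | smul c x _ hx => rw [smul_mul_assoc]; exact M.smul_mem c hx
  let B₀ : Subalgebra L k' := M.toSubalgebra hone hmul
  have hfinM : Module.Finite L M := Module.Finite.span_of_finite L (Set.finite_range b)
  have hfinB : Module.Finite L B₀ := hfinM
  have hart : IsArtinianRing B₀ := IsArtinianRing.of_finite L B₀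
  let _ : Field B₀ := (IsArtinianRing.isField_of_isDomain B₀).toField
  have hreg : IsRegularRing (B₀ ⊗[L] A) := hL B₀ hfinB
  let φ : k ⊗[L] B₀ →ₐ[k] k' := Algebra.TensorProduct.lift (Algebra.ofId k k')
    (B₀.val) (fun _ _ => Commute.all _ _)
  have hφsurj : Function.Surjective φ := by
    change Function.Surjective φ.toLinearMap
    rw [← LinearMap.range_eq_top (f := φ.toLinearMap), eq_top_iff, ← b.span_eq, Submodule.span_le]
    rintro _ ⟨i, rfl⟩
    refine ⟨1 ⊗ₜ ⟨b i, Submodule.subset_span ⟨i, rfl⟩⟩, ?_⟩
    simp [φ]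
  have hdim1 : Module.finrank k (k ⊗[L] B₀) = Module.finrank L B₀ := Module.finrank_baseChange
  have hdim2 : Module.finrank L B₀ ≤ m := by
    have h1 : Module.finrank L M ≤ Fintype.card (Fin m) := finrank_range_le_card (R := L) b
    rwa [Fintype.card_fin] at h1
  have hdim3 : Module.finrank k k' = m := by
    rw [Module.finrank_eq_card_basis b, Fintype.card_fin]
  have hφinj : Function.Injective φ := by
    have h1 : Module.finrank k k' ≤ Module.finrank k (k ⊗[L] B₀) :=
      LinearMap.finrank_le_finrank_of_surjective (f := φ.toLinearMap) hφsurj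
    have h2 : Module.finrank k (k ⊗[L] B₀) = Module.finrank k k' := by omega
    exact (LinearMap.injective_iff_surjective_of_finrank_eq_finrank (f := φ.toLinearMap) h2).2
      hφsurj
  let e : k ⊗[L] B₀ ≃ₐ[k] k' := AlgEquiv.ofBijective φ ⟨hφinj, hφsurj⟩
  let E : k' ⊗[k] A ≃+* B₀ ⊗[L] A :=
    (Algebra.TensorProduct.comm k k' A).toRingEquiv.trans
      ((Algebra.TensorProduct.congr (AlgEquiv.refl : A ≃ₐ[k] A) e.symm).toRingEquiv.trans
        ((Algebra.TensorProduct.cancelBaseChange L k k A B₀).toRingEquiv.trans
          (Algebra.TensorProduct.comm L A B₀).toRingEquiv))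
  exact IsRegularRing.of_ringEquiv E.symm

/-- Let k be a field written as a directed union of subfields k_i (given as fields mapping to k whose
images form a directed family covering k) and A a Noetherian k-algebra. Geometric regularity of A
over every one of the k_i implies that A is also geometrically regular as a k-algebra. -/
theorem result (k : Type u) [Field k] {ι : Type u}
    (K : ι → Type u) [∀ i, Field (K i)] [∀ i, Algebra (K i) k]
    (hdir : ∀ i j, ∃ l, Set.range (algebraMap (K i) k) ⊆ Set.range (algebraMap (K l) k) ∧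
      Set.range (algebraMap (K j) k) ⊆ Set.range (algebraMap (K l) k))
    (hcov : ∀ x : k, ∃ i, x ∈ Set.range (algebraMap (K i) k))
    (A : Type u) [CommRing A] [Algebra k A] [IsNoetherianRing A] [∀ i, Algebra (K i) A]
    [∀ i, IsScalarTower (K i) k A] (h : ∀ i, CAlg.IsGeometricallyRegular (K i) A) :
    CAlg.IsGeometricallyRegular k A := by
  classical
  intro k' _ _ hfin
  let m := Module.finrank k k'
  let b : Module.Basis (Fin m) k k' := Module.finBasis k k'
  let F : Finset k := (Finset.univ.image fun ijl : Fin m × Fin m × Fin m =>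
    b.repr (b ijl.1 * b ijl.2.1) ijl.2.2) ∪ (Finset.univ.image fun l : Fin m => b.repr 1 l)
  obtain ⟨l₀, hl₀⟩ := exists_common K hdir hcov F
  let _ : Algebra (K l₀) k' := ((algebraMap k k').comp (algebraMap (K l₀) k)).toAlgebra
  have hst : IsScalarTower (K l₀) k k' := IsScalarTower.of_algebraMap_eq (fun x => rfl)
  refine descend (K l₀) k k' A (h l₀) b ?_ ?_
  · intro i j l
    apply hl₀
    exact Finset.mem_union_left _ (Finset.mem_image.2 ⟨(i, j, l), Finset.mem_univ _, rfl⟩)
  · intro l
    apply hl₀
    exact Finset.mem_union_right _ (Finset.mem_image.2 ⟨l, Finset.mem_univ _, rfl⟩)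

end Groth.Agent.S9409
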