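import Groth.Statements.S1182
import Groth.Agent.Lib.Helper17.SmoothNormal
import Mathlib

set_option autoImplicit false
universe u
open Desc

namespace Groth.Agent.S1182

open TensorProduct Groth.Agent.Lib.Helper17.SmoothNormal

attribute [local instance] Algebra.TensorProduct.rightAlgebra in
theorem part1 (A B : Type u) [CommRing A] [CommRing B] [Algebra A B] [Algebra.Smooth A B]
    (hA : EGA4.IsNormalRing A) : EGA4.IsNormalRing B := by
  intro q hq
  haveI : (q.comap (algebraMap A B)).IsPrime := Ideal.comap_isPrime _ q
  obtain ⟨h1, h2⟩ := hA (q.comap (algebraMap A B))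
  refine transfer (Algebra.algebraMapSubmonoid B (q.comap (algebraMap A B)).primeCompl)
    (Localization.AtPrime (q.comap (algebraMap A B)) ⊗[A] B) q ?_ ?_
  · rw [Set.disjoint_left]
    rintro _ ⟨a, ha, rfl⟩ haq
    exact ha haq
  · intro q' _
    exact isDomain_and_isIntegrallyClosed_atPrime_of_smooth
      (Localization.AtPrime (q.comap (algebraMap A B))) q'

theorem part2 (A B : Type u) [CommRing A] [CommRing B] [Algebra A B]
    (hfl : Module.FaithfullyFlat A B) (hB : EGA4.IsNormalRing B) : EGA4.IsNormalRing A := by
  intro p hp
  obtain ⟨q, hq, hqp⟩ := Ideal.exists_isPrime_liesOver_of_faithfullyFlat (B := B) p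
  obtain ⟨h1, h2⟩ := hB q
  have hpq : p = q.comap (algebraMap A B) := hqp.over
  have hflat : (algebraMap A B).Flat := RingHom.flat_algebraMap_iff.mpr inferInstance
  have hflat' := hflat.localRingHom q p hpq
  algebraize [Localization.localRingHom p q (algebraMap A B) hpq]
  haveI : Module.FaithfullyFlat (Localization.AtPrime p) (Localization.AtPrime q) :=
    Module.FaithfullyFlat.of_flat_of_isLocalHom
  exact isDomain_and_isIntegrallyClosed_of_faithfullyFlat (Localization.AtPrime p)
    (Localization.AtPrime q)


/-- Let A → B be a smooth ring map. If A is a normal ring (all local rings integrally closed domains)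
then so is B; and if moreover A → B is faithfully flat and B is normal, then A is normal. So
normality can be checked smooth-locally. -/
theorem result (A B : Type u) [CommRing A] [CommRing B] [Algebra A B] [Algebra.Smooth A B] :
    (EGA4.IsNormalRing A → EGA4.IsNormalRing B) ∧
    (Module.FaithfullyFlat A B → EGA4.IsNormalRing B → EGA4.IsNormalRing A) := by
  exact ⟨part1 A B, part2 A B⟩

end Groth.Agent.S1182
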