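import Groth.Statements.S9392
-- import your own Groth.Agent.* helpers here
import Groth.Agent.Lib.helper10.IntegralClosureLoc

set_option autoImplicit false
universe u
open CAlg

namespace Groth.Agent.S9392

/-- A localization of an N-2 (Japanese) domain which is again a domain is N-2. -/
theorem result (R : Type u) [CommRing R] [IsDomain R] (M : Submonoid R)
    (S : Type u) [CommRing S] [IsDomain S] [Algebra R S] [IsLocalization M S]
    (h : CAlg.IsN2 R) : CAlg.IsN2 S := by
  intro L _ _ _ _ hfin
  have hinjRS : Function.Injective (algebraMap R S) :=
    IsLocalization.injective S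
      (Groth.Agent.Lib.helper10.le_nonZeroDivisors_of_isLocalization_isDomain R M S)
  let _ : Algebra R L := ((algebraMap S L).comp (algebraMap R S)).toAlgebra
  have : IsScalarTower R S L := IsScalarTower.of_algebraMap_eq' rfl
  have : IsScalarTower R S (FractionRing S) := inferInstance
  have : IsScalarTower R (FractionRing S) L := IsScalarTower.of_algebraMap_eq' (by
    rw [IsScalarTower.algebraMap_eq R S (FractionRing S), ← RingHom.comp_assoc,
      ← IsScalarTower.algebraMap_eq S (FractionRing S) L]
    rfl)
  have : FaithfulSMul R (FractionRing S) := (faithfulSMul_iff_algebraMap_injective R _).mpr (by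
    rw [IsScalarTower.algebraMap_eq R S (FractionRing S)]
    exact (IsFractionRing.injective S (FractionRing S)).comp hinjRS)
  have : FaithfulSMul R L := (faithfulSMul_iff_algebraMap_injective R _).mpr (by
    rw [IsScalarTower.algebraMap_eq R (FractionRing S) L]
    exact (algebraMap (FractionRing S) L).injective.comp
      (FaithfulSMul.algebraMap_injective R (FractionRing S)))
  let _ : Algebra (FractionRing R) (FractionRing S) := FractionRing.liftAlgebra R _
  let _ : Algebra (FractionRing R) L := FractionRing.liftAlgebra R _
  have : IsFractionRing R (FractionRing S) :=
    Groth.Agent.Lib.helper10.isFractionRing_of_isLocalization_isDomain R M S (FractionRing S)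
  have hsurj : Function.Surjective (algebraMap (FractionRing R) (FractionRing S)) := by
    intro y
    obtain ⟨a, b, hb, rfl⟩ := IsFractionRing.div_surjective (A := R) y
    refine ⟨algebraMap R (FractionRing R) a / algebraMap R (FractionRing R) b, ?_⟩
    rw [map_div₀, ← IsScalarTower.algebraMap_apply, ← IsScalarTower.algebraMap_apply]
  have : Module.Finite (FractionRing R) (FractionRing S) :=
    Module.Finite.of_surjective (Algebra.linearMap (FractionRing R) (FractionRing S)) hsurj
  have : FiniteDimensional (FractionRing R) L := Module.Finite.trans (FractionRing S) L
  have := h L this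
  exact Groth.Agent.Lib.helper10.finite_integralClosure_of_isLocalization R M S L

end Groth.Agent.S9392
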