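import Groth.Statements.S4710
-- import your own Groth.Agent.* helpers here
import Groth.Agent.Lib.Helper26.NagataLoc

set_option autoImplicit false
universe u
open EGA4

namespace Groth.Agent.S4710

/-- Last assertion, case of rings of fractions: if A is a Noetherian ring all of whose quotient domains
are Japanese (a Nagata ring), then so is every ring of fractions S⁻¹A. -/
theorem result (A : Type u) [CommRing A] (hA : CAlg.IsNagata A) (S : Submonoid A) :
    CAlg.IsNagata (Localization S) := by
  exact Groth.Agent.Lib.Helper26.NagataLoc.main A hA S

end Groth.Agent.S4710
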