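import Groth.Statements.S9810
import Groth.Agent.Lib.Helper14.TotalFrac
import Groth.Agent.Lib.Helper14.MaxSpecPi

set_option autoImplicit false
universe u
open Brnch

namespace Groth.Agent.S9810

open Helper14

variable (A : Type u) [CommRing A]

instance : IsReduced (CAlg2.red A) :=
  (Ideal.isRadical_iff_quotient_reduced _).1 (Ideal.radical_isRadical _)

lemma minimalPrimes_eq_image :
    minimalPrimes A = Ideal.comap (Ideal.Quotient.mk (nilradical A)) '' minimalPrimes (CAlg2.red A) := by
  have h := Ideal.comap_minimalPrimes_eq_of_surjective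
    (f := Ideal.Quotient.mk (nilradical A)) Ideal.Quotient.mk_surjective ⊥
  have h2 : Ideal.comap (Ideal.Quotient.mk (nilradical A)) ⊥ = nilradical A := by
    rw [← RingHom.ker_eq_comap_bot, Ideal.mk_ker]
  rw [h2] at h
  have h3 : (nilradical A).minimalPrimes = (⊥ : Ideal A).minimalPrimes :=
    Ideal.radical_minimalPrimes
  change (⊥ : Ideal A).minimalPrimes = _
  rw [← h3, h]

/-- minimal primes of `A_red` and of `A` correspond -/
noncomputable def minEquiv : minimalPrimes (CAlg2.red A) ≃ minimalPrimes A :=
  (Equiv.Set.image _ (minimalPrimes (CAlg2.red A))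
    (Ideal.comap_injective_of_surjective _ Ideal.Quotient.mk_surjective)).trans
    (Equiv.setCongr (minimalPrimes_eq_image A).symm)

lemma minEquiv_coe (q : minimalPrimes (CAlg2.red A)) :
    (minEquiv A q).1 = Ideal.comap (Ideal.Quotient.mk (nilradical A)) q.1 := rfl

/-- `A_red / q ≃ (A/p)_red` for corresponding minimal primes -/
noncomputable def quotEquiv (q : minimalPrimes (CAlg2.red A)) (p : Ideal A) [p.IsPrime]
    (hp : Ideal.comap (Ideal.Quotient.mk (nilradical A)) q.1 = p) :
    (CAlg2.red A ⧸ q.1) ≃+* CAlg2.red (A ⧸ p) :=
  let f : A →+* CAlg2.red A ⧸ q.1 :=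
    (Ideal.Quotient.mk q.1).comp (Ideal.Quotient.mk (nilradical A))
  have hf : Function.Surjective f :=
    Ideal.Quotient.mk_surjective.comp Ideal.Quotient.mk_surjective
  have hker : p = RingHom.ker f := by
    rw [← hp]
    ext x
    rw [RingHom.mem_ker, Ideal.mem_comap, RingHom.comp_apply, Ideal.Quotient.eq_zero_iff_mem]
  have hnil : (⊥ : Ideal (A ⧸ p)) = nilradical (A ⧸ p) := (nilradical_eq_zero (A ⧸ p)).symm
  (RingHom.quotientKerEquivOfSurjective hf).symm.trans
    ((Ideal.quotEquivOfEq hker).symm.trans
      ((RingEquiv.quotientBot (A ⧸ p)).symm.trans (Ideal.quotEquivOfEq hnil)))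

lemma numBranches_quot [IsLocalRing A] (q : minimalPrimes (CAlg2.red A)) (p : Ideal A) [p.IsPrime]
    (hp : Ideal.comap (Ideal.Quotient.mk (nilradical A)) q.1 = p) :
    Brnch.numBranches (A ⧸ p) = ENat.card (MaximalSpectrum (DD (CAlg2.red A) q)) := by
  have hfin : (minimalPrimes (A ⧸ p)).Finite := by
    rw [IsDomain.minimalPrimes_eq_singleton_bot]
    exact Set.finite_singleton _
  unfold Brnch.numBranches
  rw [if_pos hfin]
  exact (card_maxSpec_congr (normalizationEquivOfRingEquiv (quotEquiv A q p hp))).symm


/-- Branches, in terms of the local ring: for a local ring A with finitely many minimal prime ideals,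
the number of branches of A is the sum over the minimal primes p of the numbers of branches of the
local domains A/p. Geometrically: the number of branches of a scheme at a point is the sum of the
numbers of branches at that point of the irreducible components passing through it. -/
theorem result (A : Type u) [CommRing A] [IsLocalRing A]
    (h : (minimalPrimes A).Finite) :
    Brnch.numBranches A =
      ∑ᶠ p : minimalPrimes A,
        haveI : p.1.IsPrime := p.2.1.1
        Brnch.numBranches (A ⧸ p.1) := by
  classical
  have hR : (minimalPrimes (CAlg2.red A)).Finite := by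
    have : Finite (minimalPrimes A) := h
    exact Set.finite_coe_iff.1 (Finite.of_equiv _ (minEquiv A).symm)
  haveI : Finite (minimalPrimes (CAlg2.red A)) := hR
  haveI : Finite (minimalPrimes A) := h
  cases nonempty_fintype (minimalPrimes (CAlg2.red A))
  cases nonempty_fintype (minimalPrimes A)
  rw [finsum_eq_sum_of_fintype]
  have h1 : Brnch.numBranches A = ∑ q : minimalPrimes (CAlg2.red A),
      ENat.card (MaximalSpectrum (DD (CAlg2.red A) q)) := by
    unfold Brnch.numBranches
    rw [if_pos h, ← card_maxSpec_pi]
    exact card_maxSpec_congr (normalizationPiEquiv (CAlg2.red A) hR).toRingEquiv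
  rw [h1]
  refine Fintype.sum_equiv (minEquiv A) _ _ fun q => ?_
  haveI : (minEquiv A q).1.IsPrime := (minEquiv A q).2.1.1
  exact (numBranches_quot A q (minEquiv A q).1 rfl).symm

end Groth.Agent.S9810
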