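import Groth.Statements.S9235
import Groth.Agent.S9810

set_option autoImplicit false
universe u
open Brnch

namespace Groth.Agent.S9235

open Helper14 Groth.Agent.S9810

variable (A : Type u) [CommRing A]

lemma card_normRed (hR : (minimalPrimes (CAlg2.red A)).Finite)
    [Fintype (minimalPrimes (CAlg2.red A))] :
    ENat.card (MaximalSpectrum (CAlg2.normRed A)) =
      ∑ q : minimalPrimes (CAlg2.red A), ENat.card (MaximalSpectrum (DD (CAlg2.red A) q)) := by
  rw [← card_maxSpec_pi]
  exact card_maxSpec_congr (normalizationPiEquiv (CAlg2.red A) hR).toRingEquiv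

lemma finite_iff : (minimalPrimes (CAlg2.red A)).Finite ↔ (minimalPrimes A).Finite := by
  constructor
  · intro h
    have : Finite (minimalPrimes (CAlg2.red A)) := h
    exact Set.finite_coe_iff.1 (Finite.of_equiv _ (minEquiv A))
  · intro h
    have : Finite (minimalPrimes A) := h
    exact Set.finite_coe_iff.1 (Finite.of_equiv _ (minEquiv A).symm)

lemma card_maxSpec_eq_one_iff (S : Type u) [CommRing S] :
    ENat.card (MaximalSpectrum S) = 1 ↔ IsLocalRing S := by
  constructor
  · intro h
    obtain ⟨hu⟩ := ENat.card_eq_one_iff_unique.1 h
    have hnt : Nontrivial S := by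
      by_contra hS
      rw [not_nontrivial_iff_subsingleton] at hS
      exact (hu.default.isMaximal.ne_top) (Subsingleton.elim _ _)
    refine IsLocalRing.of_unique_max_ideal ⟨hu.default.asIdeal, hu.default.isMaximal, ?_⟩
    intro m hm
    exact congrArg MaximalSpectrum.asIdeal (hu.uniq ⟨m, hm⟩)
  · intro h
    rw [ENat.card_eq_one_iff_unique]
    exact ⟨{ default := ⟨IsLocalRing.maximalIdeal S, IsLocalRing.maximalIdeal.isMaximal S⟩
             uniq := fun m => MaximalSpectrum.ext (IsLocalRing.eq_maximalIdeal m.isMaximal) }⟩


/-- A local ring A has exactly one branch if and only if it is unibranch. Here the number of branches is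
computed as the number of maximal ideals of the integral closure of A_red in its total ring of
fractions (infinity when A has infinitely many minimal primes). -/
theorem result (A : Type u) [CommRing A] [IsLocalRing A] :
    Brnch.numBranches A = 1 ↔ CAlg2.IsUnibranch A := by
  classical
  unfold Brnch.numBranches CAlg2.IsUnibranch
  constructor
  · intro h
    by_cases hfin : (minimalPrimes A).Finite
    · rw [if_pos hfin] at h
      have hR := (finite_iff A).2 hfin
      haveI : Finite (minimalPrimes (CAlg2.red A)) := hR
      cases nonempty_fintype (minimalPrimes (CAlg2.red A))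
      refine ⟨?_, (card_maxSpec_eq_one_iff _).1 h⟩
      rw [card_normRed A hR] at h
      -- each summand is at least one
      have hge : ∀ q : minimalPrimes (CAlg2.red A),
          1 ≤ ENat.card (MaximalSpectrum (DD (CAlg2.red A) q)) := by
        intro q
        rw [ENat.one_le_card_iff_nonempty]
        obtain ⟨m, hm⟩ := Ideal.exists_maximal (DD (CAlg2.red A) q)
        exact ⟨⟨m, hm⟩⟩
      have hcard : (Fintype.card (minimalPrimes (CAlg2.red A)) : ℕ∞) ≤ 1 := by
        calc (Fintype.card (minimalPrimes (CAlg2.red A)) : ℕ∞)
            = ∑ _q : minimalPrimes (CAlg2.red A), (1 : ℕ∞) := by simp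
          _ ≤ ∑ q : minimalPrimes (CAlg2.red A),
              ENat.card (MaximalSpectrum (DD (CAlg2.red A) q)) :=
              Finset.sum_le_sum fun q _ => hge q
          _ = 1 := h
      have hcard' : Fintype.card (minimalPrimes (CAlg2.red A)) ≤ 1 := by exact_mod_cast hcard
      have hsub : Subsingleton (minimalPrimes (CAlg2.red A)) :=
        Fintype.card_le_one_iff_subsingleton.1 hcard'
      haveI : Nontrivial (CAlg2.red A) := by
        have : nilradical A ≠ ⊤ := by
          intro htop
          have : (1 : A) ∈ nilradical A := htop ▸ Submodule.mem_top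
          obtain ⟨n, hn⟩ := mem_nilradical.1 this
          rw [one_pow] at hn
          exact one_ne_zero hn
        exact Ideal.Quotient.nontrivial_iff.2 this
      obtain ⟨q, hq⟩ := Ideal.nonempty_minimalPrimes (I := (⊥ : Ideal (CAlg2.red A))) bot_ne_top
      have hq' : q ∈ minimalPrimes (CAlg2.red A) := hq
      have hall : minimalPrimes (CAlg2.red A) = {q} := by
        ext p
        constructor
        · intro hp
          exact congrArg Subtype.val (hsub.elim ⟨p, hp⟩ ⟨q, hq'⟩)
        · rintro rfl
          exact hq'
      have hbot : q = ⊥ := by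
        have h2 : sInf (minimalPrimes (CAlg2.red A)) = (⊥ : Ideal (CAlg2.red A)).radical :=
          Ideal.sInf_minimalPrimes
        rw [hall, sInf_singleton] at h2
        rw [h2]
        exact (nilradical_eq_zero (CAlg2.red A))
      have hprime : (⊥ : Ideal (CAlg2.red A)).IsPrime := hbot ▸ hq'.1.1
      exact IsDomain.of_bot_isPrime _
    · rw [if_neg hfin] at h
      exact absurd h (by simp)
  · rintro ⟨hdom, hloc⟩
    have hR : (minimalPrimes (CAlg2.red A)).Finite := by
      rw [IsDomain.minimalPrimes_eq_singleton_bot]
      exact Set.finite_singleton _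
    rw [if_pos ((finite_iff A).1 hR)]
    exact (card_maxSpec_eq_one_iff _).2 hloc

end Groth.Agent.S9235
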