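import Groth.Statements.S0507
import Groth.Agent.Lib.Helper29.HenselUniv

set_option autoImplicit false
universe u
open Hensel

namespace Groth.Agent.S0507

/-- The maximal ideal of the henselization of a local ring `R` is generated by the maximal ideal of `R`. -/
theorem result (R : Type u) [CommRing R] [IsLocalRing R] (S : Type u) [CommRing S] [IsLocalRing S]
    [Algebra R S] [IsLocalHom (algebraMap R S)] [Hensel.IsHenselization R S] :
    Ideal.map (algebraMap R S) (IsLocalRing.maximalIdeal R) = IsLocalRing.maximalIdeal S := by
  letI : Field (R ⧸ IsLocalRing.maximalIdeal R) := Ideal.Quotient.field _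
  have hb := Groth.Agent.Lib.Helper29.quot_bijective R S (IsLocalRing.maximalIdeal R)
  have e := RingEquiv.ofBijective _ hb
  have hf : IsField (S ⧸ Ideal.map (algebraMap R S) (IsLocalRing.maximalIdeal R)) :=
    MulEquiv.isField (Field.toIsField (R ⧸ IsLocalRing.maximalIdeal R)) e.symm.toMulEquiv
  exact IsLocalRing.eq_maximalIdeal (Ideal.Quotient.maximal_of_isField _ hf)


end Groth.Agent.S0507
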