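import Groth.Statements.S2125
import Mathlib
import Groth.Agent.Lib.Helper12.NormRedMinE
import Groth.Agent.Lib.Helper12.AssFlat
import Groth.Agent.Lib.Helper12.HensFibre
import Groth.Agent.Lib.Helper12.HenselizationFlat

set_option autoImplicit false
universe u
open CAlg

namespace Groth.Agent.S2125

open TensorProduct in
/-- Let `A` be a local ring with finitely many minimal primes, `A'` the integral closure of `A_red` in
its total ring of fractions and `A^h` the henselization of `A`. Then contraction along `A^h → A' ⊗_A
A^h` is a bijection from the minimal primes of `A' ⊗_A A^h` onto the minimal primes of `A^h`. -/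
theorem result {A Ah : Type u} [CommRing A] [IsLocalRing A]
    (hfin : (minimalPrimes A).Finite) [CommRing Ah] [IsLocalRing Ah] [Algebra A Ah] [IsLocalHom (algebraMap A Ah)]
    [Hensel.IsHenselization A Ah] :
    Set.BijOn (fun P : Ideal ((CAlg2.normRed A) ⊗[A] Ah) =>
        P.comap (Algebra.TensorProduct.includeRight.toRingHom :
          Ah →+* (CAlg2.normRed A) ⊗[A] Ah))
      (minimalPrimes ((CAlg2.normRed A) ⊗[A] Ah))
      (minimalPrimes Ah) := by
  haveI : Module.Flat A Ah := by
    obtain ⟨e⟩ := Groth.Agent.Lib.Helper12.Henselization.nonempty_algEquiv (A := A) Ah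
    exact Module.Flat.of_linearEquiv e.toLinearEquiv
  have hfib : ∀ (p : Ideal A) [p.IsPrime],
      Ring.KrullDimLE 0 (TensorProduct A p.ResidueField Ah) :=
    fun p _ => Groth.Agent.Lib.Helper12.IndEtaleFibre.krullDimLE_zero_tensor (κ := p.ResidueField)
      (Groth.Agent.Lib.Helper12.HensFibre.isIndEssEtale_of_isHenselization A Ah)
  exact Groth.Agent.Lib.Helper12.NormRedMin.bijOn_minimalPrimes A Ah hfin
    (fun Q P hQ hP hle h => by
      haveI := hQ
      haveI := hP
      exact Groth.Agent.Lib.Helper12.AssFlat.eq_of_le_of_comap_eq A Ah hfib Q P hle h)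

end Groth.Agent.S2125
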