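import Groth.Statements.S9304
import Mathlib
import Groth.Agent.Lib.Helper12.NormRedMinE
import Groth.Agent.Lib.Helper12.AssFlat
import Groth.Agent.Lib.Helper12.HensFibre
import Groth.Agent.Lib.Helper12.StrictStruct5

set_option autoImplicit false
universe u
open CAlg

namespace Groth.Agent.S9304

open TensorProduct in
/-- Let A be a local ring with finitely many minimal primes, A' the integral closure of A_red in its
total ring of fractions and A^sh a strict henselization of A. Then contraction along A^sh → A' ⊗_A
A^sh is a bijection from the minimal primes of A' ⊗_A A^sh onto the minimal primes of A^sh. -/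
theorem result {A Ash : Type u} [CommRing A]
    [IsLocalRing A] (hfin : (minimalPrimes A).Finite) [CommRing Ash] [IsLocalRing Ash] [Algebra A Ash]
    [IsLocalHom (algebraMap A Ash)] [Hensel.IsStrictHenselization A Ash] :
    Set.BijOn (fun P : Ideal ((CAlg2.normRed A) ⊗[A] Ash) =>
        P.comap (Algebra.TensorProduct.includeRight.toRingHom :
          Ash →+* (CAlg2.normRed A) ⊗[A] Ash))
      (minimalPrimes ((CAlg2.normRed A) ⊗[A] Ash))
      (minimalPrimes Ash) := by
  haveI : Module.Flat A Ash :=
    Groth.Agent.Lib.Helper12.StrictStruct.flat_of_isStrictHenselization A Ash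
  have hfib : ∀ (p : Ideal A) [p.IsPrime],
      Ring.KrullDimLE 0 (TensorProduct A p.ResidueField Ash) :=
    fun p _ => Groth.Agent.Lib.Helper12.IndEtaleFibre.krullDimLE_zero_tensor (κ := p.ResidueField)
      (Groth.Agent.Lib.Helper12.HensFibre.isIndEssEtale_of_isStrictHenselization A Ash)
  exact Groth.Agent.Lib.Helper12.NormRedMin.bijOn_minimalPrimes A Ash hfin
    (fun Q P hQ hP hle h => by
      haveI := hQ
      haveI := hP
      exact Groth.Agent.Lib.Helper12.AssFlat.eq_of_le_of_comap_eq A Ash hfib Q P hle h)

end Groth.Agent.S9304
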