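import Groth.Statements.S0500
import Groth.Agent.Lib.Helper12.HenselConverse

set_option autoImplicit false
universe u
open Hensel

namespace Groth.Agent.S0500

/-- If every algebra over a local ring that is finitely generated as a module is ring-isomorphic to a
finite product of local rings, then the local ring is henselian. -/
theorem result (R : Type u) [CommRing R] [IsLocalRing R]
    (h : ∀ (S : Type u) [CommRing S] [Algebra R S], Module.Finite R S →
      ∃ (ι : Type u) (_ : Fintype ι) (A : ι → Type u) (_ : ∀ i, CommRing (A i)),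
        (∀ i, IsLocalRing (A i)) ∧ Nonempty (S ≃+* (∀ i, A i))) :
    HenselianLocalRing R := by
  open IsLocalRing Polynomial in
  refine ⟨fun f hf a₀ h₁ h₂ => ?_⟩
  obtain ⟨ι, _, A, _, hA, ⟨ψ⟩⟩ := h (AdjoinRoot f) hf.finite_adjoinRoot
  classical
  let φ₀ : AdjoinRoot f →+* ResidueField R :=
    AdjoinRoot.lift (residue R) (residue R a₀)
      (by rw [eval₂_at_apply, residue_eq_zero_iff]; exact h₁)
  let e : ι → AdjoinRoot f := fun i => ψ.symm (Pi.single i 1)
  have hsum : ∑ i, e i = 1 := by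
    rw [← map_sum, Finset.univ_sum_single]
    exact map_one ψ.symm
  obtain ⟨i₀, hi₀⟩ : ∃ i, φ₀ (e i) ≠ 0 := by
    by_contra hcon
    push Not at hcon
    have : φ₀ 1 = 0 := by
      rw [← hsum, map_sum]
      exact Finset.sum_eq_zero (fun i _ => hcon i)
    simp at this
  let p₀ : AdjoinRoot f →+* A i₀ := (Pi.evalRingHom A i₀).comp ψ.toRingHom
  have hp₀ : Function.Surjective p₀ := (Function.surjective_eval i₀).comp ψ.surjective
  have hker : ∀ b, p₀ b = 0 → b * e i₀ = 0 := by
    intro b hb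
    apply ψ.injective
    rw [map_mul, map_zero]
    show ψ b * ψ (ψ.symm (Pi.single i₀ 1)) = 0
    rw [ψ.apply_symm_apply]
    ext i
    by_cases hi : i = i₀
    · subst hi
      simp [show ψ b i = 0 from hb]
    · simp [hi]
  have hker' : RingHom.ker p₀ ≤ RingHom.ker φ₀ := by
    intro b hb
    have h2 : φ₀ b * φ₀ (e i₀) = 0 := by rw [← map_mul, hker b hb, map_zero]
    exact (mul_eq_zero.mp h2).resolve_right hi₀
  let χ : A i₀ →+* ResidueField R := RingHom.liftOfSurjective p₀ hp₀ ⟨φ₀, hker'⟩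
  have hχ : ∀ b, χ (p₀ b) = φ₀ b := fun b =>
    RingHom.liftOfSurjective_comp_apply p₀ hp₀ ⟨φ₀, hker'⟩ b
  let _ : Algebra R (A i₀) := (p₀.comp (algebraMap R (AdjoinRoot f))).toAlgebra
  let p : AdjoinRoot f →ₐ[R] A i₀ := { p₀ with commutes' := fun r => rfl }
  have := hA i₀
  refine Groth.Agent.Lib.Helper12.exists_root_of_local_factor R f hf a₀ h₁ h₂ (A i₀) p hp₀ χ
    ?_ ?_ (e i₀) ?_ hker
  · intro r
    show χ (p₀ (algebraMap R (AdjoinRoot f) r)) = _
    rw [hχ]
    show AdjoinRoot.lift (residue R) (residue R a₀) _ (AdjoinRoot.of f r) = _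
    rw [AdjoinRoot.lift_of]
  · show χ (p₀ (AdjoinRoot.root f)) = _
    rw [hχ]
    exact AdjoinRoot.lift_root _
  · show χ (p₀ (e i₀)) ≠ 0
    rw [hχ]
    exact hi₀

end Groth.Agent.S0500
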