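import Groth.Statements.S9318
import Mathlib.RingTheory.AdicCompletion.Completeness

set_option autoImplicit false
universe u
open CAlg

namespace Groth.Agent.S9318

theorem ker_evalₐ_le {S : Type u} [CommRing S] (𝔫 : Ideal S) (h𝔫 : 𝔫.FG) (m : ℕ)
    (x : AdicCompletion 𝔫 S) (hx : AdicCompletion.evalₐ 𝔫 m x = 0) :
    x ∈ (𝔫.map (algebraMap S (AdicCompletion 𝔫 S))) ^ m := by
  have h1 : x ∈ LinearMap.ker (AdicCompletion.eval 𝔫 S m) := by
    rw [LinearMap.mem_ker]
    have hle : 𝔫 ^ m ≤ 𝔫 ^ m • (⊤ : Ideal S) := by simp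
    rw [← AdicCompletion.factor_evalₐ_eq_eval 𝔫 x hle, hx, map_zero]
  rw [← AdicCompletion.pow_smul_top_eq_ker_eval h𝔫, Ideal.smul_top_eq_map] at h1
  rw [← Ideal.map_pow]
  exact h1

/-- Let `R → S` be a ring map and `𝔫 ⊆ S` a finitely generated ideal, and let `S^` be the `𝔫`-adic
completion of `S`. Then `R → S` is formally smooth for the `𝔫`-adic topology if and only if `R → S^`
is formally smooth for the adic topology of the extension of `𝔫` to `S^`. No Noetherian hypothesis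
is made on `S`. -/
theorem result {R S : Type u} [CommRing R] [CommRing S]
    [Algebra R S] (𝔫 : Ideal S) (h𝔫 : 𝔫.FG) :
    CAlgX.IsAdicFormallySmooth R S 𝔫 ↔
      CAlgX.IsAdicFormallySmooth R (AdicCompletion 𝔫 S) (𝔫.map (algebraMap S (AdicCompletion 𝔫 S))) := by
  classical
  constructor
  · intro hS A _ _ J hJ ψh hk
    obtain ⟨k, hk⟩ := hk
    let ιS : S →ₐ[R] AdicCompletion 𝔫 S := IsScalarTower.toAlgHom R S (AdicCompletion 𝔫 S)
    have hι : ∀ x, ιS x = algebraMap S (AdicCompletion 𝔫 S) x := fun x => rfl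
    let ψ : S →ₐ[R] A ⧸ J := ψh.comp ιS
    have hψ : ∀ x ∈ 𝔫 ^ k, ψ x = 0 := by
      intro x hx
      apply hk
      rw [← Ideal.map_pow]
      exact Ideal.mem_map_of_mem _ hx
    obtain ⟨χ, hχ⟩ := hS A J hJ ψ ⟨k, hψ⟩
    have hχ' : ∀ x, Ideal.Quotient.mk J (χ x) = ψ x := fun x => AlgHom.congr_fun hχ x
    have hχJ : ∀ x ∈ 𝔫 ^ k, χ x ∈ J := by
      intro x hx
      rw [← Ideal.Quotient.eq_zero_iff_mem, hχ', hψ x hx]
    have hχ0 : ∀ x ∈ 𝔫 ^ (2 * k), χ x = 0 := by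
      have : 𝔫 ^ (2 * k) ≤ Ideal.comap χ.toRingHom ⊥ := by
        rw [two_mul, pow_add, Ideal.mul_le]
        intro y hy z hz
        rw [Ideal.mem_comap, Ideal.mem_bot]
        show χ (y * z) = 0
        rw [map_mul]
        have : χ y * χ z ∈ J ^ 2 := by
          rw [pow_two]
          exact Ideal.mul_mem_mul (hχJ y hy) (hχJ z hz)
        rw [hJ] at this
        exact this
      intro x hx
      exact this hx
    let ev : AdicCompletion 𝔫 S →ₐ[R] S ⧸ 𝔫 ^ (2 * k) :=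
      (AdicCompletion.evalₐ 𝔫 (2 * k)).restrictScalars R
    have hev : ∀ x, ev x = AdicCompletion.evalₐ 𝔫 (2 * k) x := fun x => rfl
    let χh : AdicCompletion 𝔫 S →ₐ[R] A := (Ideal.Quotient.liftₐ (𝔫 ^ (2 * k)) χ hχ0).comp ev
    refine ⟨χh, ?_⟩
    apply AlgHom.ext
    intro xh
    obtain ⟨x, hx⟩ := Ideal.Quotient.mk_surjective (AdicCompletion.evalₐ 𝔫 (2 * k) xh)
    have h1 : χh xh = χ x := by
      show Ideal.Quotient.liftₐ (𝔫 ^ (2 * k)) χ hχ0 (ev xh) = χ x
      rw [hev, ← hx]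
      rfl
    have h2 : xh - algebraMap S (AdicCompletion 𝔫 S) x ∈
        (𝔫.map (algebraMap S (AdicCompletion 𝔫 S))) ^ k := by
      have : xh - algebraMap S (AdicCompletion 𝔫 S) x ∈
          (𝔫.map (algebraMap S (AdicCompletion 𝔫 S))) ^ (2 * k) := by
        apply ker_evalₐ_le 𝔫 h𝔫
        rw [map_sub, AdicCompletion.algebraMap_apply, Algebra.algebraMap_self, RingHom.id_apply,
          AdicCompletion.evalₐ_of, hx, sub_self]
      exact Ideal.pow_le_pow_right (by omega) this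
    have h3 := hk _ h2
    rw [map_sub, sub_eq_zero] at h3
    show Ideal.Quotient.mk J (χh xh) = ψh xh
    rw [h1, hχ', h3]
    rfl
  · intro hSh A _ _ J hJ ψ hk
    obtain ⟨k, hk⟩ := hk
    let ιS : S →ₐ[R] AdicCompletion 𝔫 S := IsScalarTower.toAlgHom R S (AdicCompletion 𝔫 S)
    let ev : AdicCompletion 𝔫 S →ₐ[R] S ⧸ 𝔫 ^ k :=
      (AdicCompletion.evalₐ 𝔫 k).restrictScalars R
    have hev : ∀ x, ev x = AdicCompletion.evalₐ 𝔫 k x := fun x => rfl
    let ψh : AdicCompletion 𝔫 S →ₐ[R] A ⧸ J := (Ideal.Quotient.liftₐ (𝔫 ^ k) ψ hk).comp ev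
    have hψh : ∀ x : S, ψh (algebraMap S (AdicCompletion 𝔫 S) x) = ψ x := by
      intro x
      show Ideal.Quotient.liftₐ (𝔫 ^ k) ψ hk (ev (algebraMap S (AdicCompletion 𝔫 S) x)) = ψ x
      rw [hev, AdicCompletion.algebraMap_apply, Algebra.algebraMap_self, RingHom.id_apply,
        AdicCompletion.evalₐ_of]
      rfl
    have hkill : ∀ x ∈ (𝔫.map (algebraMap S (AdicCompletion 𝔫 S))) ^ k, ψh x = 0 := by
      have : (𝔫.map (algebraMap S (AdicCompletion 𝔫 S))) ^ k ≤ RingHom.ker ψh.toRingHom := by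
        rw [← Ideal.map_pow, Ideal.map_le_iff_le_comap]
        intro x hx
        rw [Ideal.mem_comap, RingHom.mem_ker]
        show ψh (algebraMap S (AdicCompletion 𝔫 S) x) = 0
        rw [hψh]
        exact hk x hx
      intro x hx
      exact this hx
    obtain ⟨χh, hχh⟩ := hSh A J hJ ψh ⟨k, hkill⟩
    refine ⟨χh.comp ιS, ?_⟩
    apply AlgHom.ext
    intro x
    have := AlgHom.congr_fun hχh (algebraMap S (AdicCompletion 𝔫 S) x)
    show Ideal.Quotient.mk J (χh (ιS x)) = ψ x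
    rw [← hψh]
    exact this

end Groth.Agent.S9318
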