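import Groth.Statements.S9231
import Mathlib
import Groth.Agent.Lib.helper19.ComplUnram6
import Groth.Agent.Lib.Helper2.LocalCrit

set_option autoImplicit false
universe u
open CAlg

namespace Groth.Agent.S9231

/-- For a local ring map A → B between Noetherian local rings, let ψ be the induced map from the
completion of A at its maximal ideal to that of B (here: a ring map of the completions whose
composite with A → A^ is the composite A → B → B^; since A is Noetherian such a map is unique, hence
is the canonical one). Then ψ is flat exactly when A → B is flat. -/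
theorem result (A B : Type u) [CommRing A] [CommRing B] [IsLocalRing A]
    [IsLocalRing B] [IsNoetherianRing A] [IsNoetherianRing B] [Algebra A B]
    [IsLocalHom (algebraMap A B)]
    (ψ : AdicCompletion (IsLocalRing.maximalIdeal A) A →+* AdicCompletion (IsLocalRing.maximalIdeal B) B)
    (hψ : ψ.comp (algebraMap A (AdicCompletion (IsLocalRing.maximalIdeal A) A)) =
      (algebraMap B (AdicCompletion (IsLocalRing.maximalIdeal B) B)).comp (algebraMap A B)) :
    ψ.Flat ↔ (algebraMap A B).Flat := by
  letI : Algebra (AdicCompletion (IsLocalRing.maximalIdeal A) A)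
      (AdicCompletion (IsLocalRing.maximalIdeal B) B) := ψ.toAlgebra
  haveI : IsLocalHom (algebraMap (AdicCompletion (IsLocalRing.maximalIdeal A) A)
      (AdicCompletion (IsLocalRing.maximalIdeal B) B)) :=
    Groth.Agent.Lib.Helper19.ComplUnram.isLocalHom_of_compat ψ hψ
  haveI : IsNoetherianRing (AdicCompletion (IsLocalRing.maximalIdeal A) A) :=
    Groth.Agent.Lib.helper19.isNoetherianRing_adicCompletion A (IsLocalRing.maximalIdeal A)
  haveI : IsNoetherianRing (AdicCompletion (IsLocalRing.maximalIdeal B) B) :=
    Groth.Agent.Lib.helper19.isNoetherianRing_adicCompletion B (IsLocalRing.maximalIdeal B)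
  haveI : IsScalarTower A (AdicCompletion (IsLocalRing.maximalIdeal A) A)
      (AdicCompletion (IsLocalRing.maximalIdeal B) B) :=
    .of_algebraMap_eq (fun a => (RingHom.congr_fun hψ a).symm)
  haveI : IsScalarTower A B (AdicCompletion (IsLocalRing.maximalIdeal B) B) :=
    .of_algebraMap_eq (fun _ => rfl)
  haveI : Module.FaithfullyFlat B (AdicCompletion (IsLocalRing.maximalIdeal B) B) :=
    Module.FaithfullyFlat.of_flat_of_isLocalHom
  have hmA : (IsLocalRing.maximalIdeal A).map
      (algebraMap A (AdicCompletion (IsLocalRing.maximalIdeal A) A)) =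
      IsLocalRing.maximalIdeal (AdicCompletion (IsLocalRing.maximalIdeal A) A) :=
    AdicCompletion.maximalIdeal_eq_map.symm
  show Module.Flat (AdicCompletion (IsLocalRing.maximalIdeal A) A)
      (AdicCompletion (IsLocalRing.maximalIdeal B) B) ↔ _
  rw [RingHom.flat_algebraMap_iff]
  constructor
  · intro hflat
    haveI : Module.Flat A (AdicCompletion (IsLocalRing.maximalIdeal B) B) :=
      Module.Flat.trans A (AdicCompletion (IsLocalRing.maximalIdeal A) A)
        (AdicCompletion (IsLocalRing.maximalIdeal B) B)
    exact Helper19.FlatDesc.flat_of_faithfullyFlat_of_flat A B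
      (AdicCompletion (IsLocalRing.maximalIdeal B) B)
  · intro hflat
    haveI : Module.Flat A (AdicCompletion (IsLocalRing.maximalIdeal B) B) :=
      Module.Flat.trans A B (AdicCompletion (IsLocalRing.maximalIdeal B) B)
    have hinj := Groth.Agent.Lib.Helper19.ComplUnram.rTensor_maximalIdeal_injective
      (R := A) (R' := AdicCompletion (IsLocalRing.maximalIdeal A) A)
      (M := AdicCompletion (IsLocalRing.maximalIdeal B) B) hmA
    letI : Field (AdicCompletion (IsLocalRing.maximalIdeal A) A ⧸
        IsLocalRing.maximalIdeal (AdicCompletion (IsLocalRing.maximalIdeal A) A)) :=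
      Ideal.Quotient.field _
    refine Groth.Agent.Lib.Helper2.LocalCrit.flat_of_injective_of_flat_quotient
      (S := AdicCompletion (IsLocalRing.maximalIdeal B) B)
      (IsLocalRing.maximalIdeal (AdicCompletion (IsLocalRing.maximalIdeal A) A)) ?_ ?_
    · have hloc : IsLocalHom (algebraMap (AdicCompletion (IsLocalRing.maximalIdeal A) A)
          (AdicCompletion (IsLocalRing.maximalIdeal B) B)) := inferInstance
      exact le_trans (((IsLocalRing.local_hom_TFAE (algebraMap
        (AdicCompletion (IsLocalRing.maximalIdeal A) A)
        (AdicCompletion (IsLocalRing.maximalIdeal B) B))).out 0 2).mp hloc)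
        (IsLocalRing.maximalIdeal_le_jacobson ⊥)
    · exact (LinearMap.lTensor_inj_iff_rTensor_inj _ _).mpr hinj

end Groth.Agent.S9231
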