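import Groth.Statements.S2036
import Groth.Agent.Lib.Helper5.GeomRegInjH
import Groth.Agent.Lib.Helper5.KahlerInjE
import Groth.Agent.Lib.Helper5.AdicRegG

set_option autoImplicit false
universe u
open CAlg

namespace Groth.Agent.S2036

/-- Let `k` be a field of characteristic `p > 0` and `A` a Noetherian local `k`-algebra. Then `A` is
geometrically regular over `k` if and only if `k → A` is formally smooth for the adic topology of
the maximal ideal. -/
theorem result {k A : Type u} [Field k] (p : ℕ)
    [Fact p.Prime] [CharP k p] [CommRing A] [IsLocalRing A] [IsNoetherianRing A] [Algebra k A] :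
    CAlg.IsGeometricallyRegular k A ↔ CAlgX.IsAdicFormallySmooth k A (IsLocalRing.maximalIdeal A) := by
  constructor
  · intro hA
    have h1 : IsRegularRing (TensorProduct k k A) := hA k (Module.Finite.self k)
    have h2 : IsRegularRing A :=
      IsRegularRing.of_ringEquiv (Algebra.TensorProduct.lid k A).toRingEquiv
    have h3 : IsRegularLocalRing A := IsRegularLocalRing.of_isRegularRing_of_isLocalRing A
    exact Groth.Agent.Lib.Helper5.KahlerInj.adicSmooth_of_regular_of_injective
      (Groth.Agent.Lib.Helper5.GeomRegInj.injective_of_geomRegular k A p hA)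
  · intro h
    exact Groth.Agent.Lib.Helper5.AdicReg.geomRegular_of_adicSmooth h

end Groth.Agent.S2036
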