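import Groth.Statements.S0538
import Groth.Agent.Lib.Helper12.StrictHenselizationIso
import Groth.Agent.Lib.Helper12.PtDim

set_option autoImplicit false
universe u
open Hensel

namespace Groth.Agent.S0538

/-- The maximal ideal of the strict henselization of a local ring `R` is generated by the maximal ideal
of `R`. -/
theorem result (R : Type u) [CommRing R] [IsLocalRing R] (S : Type u) [CommRing S] [IsLocalRing S]
    [Algebra R S] [IsLocalHom (algebraMap R S)] [Hensel.IsStrictHenselization R S] :
    Ideal.map (algebraMap R S) (IsLocalRing.maximalIdeal R) = IsLocalRing.maximalIdeal S := by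
  obtain ⟨e⟩ := Groth.Agent.Lib.Helper12.StrictHenselization.nonempty_algEquiv (A := R) S
  have h := Groth.Agent.Lib.Helper12.PtNbhd.Lim.map_maximalIdeal R
    (Groth.Agent.Lib.Helper12.SepCl R)
  have h1 : (IsLocalRing.maximalIdeal (Groth.Agent.Lib.Helper12.StrictHenselization R)).map
      (e.symm : Groth.Agent.Lib.Helper12.StrictHenselization R →+* S) =
      IsLocalRing.maximalIdeal S := by
    have := IsLocalRing.map_ringEquiv_maximalIdeal e.symm.toRingEquiv
    exact this
  rw [← h1, ← h, Ideal.map_map]
  congr 1
  ext r
  simp

end Groth.Agent.S0538
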