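import Groth.Statements.S0547
import Groth.Agent.Lib.helper19.CompletionLocal
import Groth.Agent.Lib.helper19.CompletionNoetherian

set_option autoImplicit false
universe u
open CAlg

namespace Groth.Agent.S0547

/-- The completion of a Noetherian local ring at its maximal ideal has the same Krull dimension as the
ring. -/
theorem result (A : Type u) [CommRing A] [IsLocalRing A]
    [IsNoetherianRing A] :
    ringKrullDim (AdicCompletion (IsLocalRing.maximalIdeal A) A) = ringKrullDim A := by
  haveI : IsNoetherianRing (AdicCompletion (IsLocalRing.maximalIdeal A) A) :=
    Groth.Agent.Lib.helper19.isNoetherianRing_adicCompletion A _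
  exact Groth.Agent.Lib.helper19.ringKrullDim_adicCompletion_eq_of_isNoetherianRing A

end Groth.Agent.S0547
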