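import Groth.Statements.S9243
import Mathlib
import Groth.Agent.Lib.Helper12.BrnchRadA
import Groth.Agent.Lib.Helper12.BrnchCplB

set_option autoImplicit false
universe u
open Brnch

namespace Groth.Agent.S9243

/-- Let A be a Noetherian local ring with henselization S and completion A^, and ψ : S → A^ the ring map
compatible with the structure maps from A. Then A and A^ have the same number of branches if and
only if, for every minimal prime q of S, the radical of the extension of q along ψ is a prime ideal
of A^. -/
theorem result (A S : Type u) [CommRing A] [IsLocalRing A]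
    [IsNoetherianRing A] [CommRing S] [IsLocalRing S] [Algebra A S] [IsLocalHom (algebraMap A S)]
    [Hensel.IsHenselization A S] (ψ : S →+* AdicCompletion (IsLocalRing.maximalIdeal A) A)
    (hψ : ψ.comp (algebraMap A S) = algebraMap A (AdicCompletion (IsLocalRing.maximalIdeal A) A)) :
    Brnch.numBranches A = Brnch.numBranches (AdicCompletion (IsLocalRing.maximalIdeal A) A) ↔
      ∀ q ∈ minimalPrimes S, (Ideal.map ψ q).radical.IsPrime := by
  obtain ⟨hflat, hloc⟩ := Groth.Agent.Lib.Helper12.HensCompl.flat_and_isLocalHom A S ψ hψ
  haveI : IsNoetherianRing S :=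
    Groth.Agent.Lib.Helper12.HensFibre.isNoetherianRing_of_isHenselization A S
  haveI : IsLocalHom (algebraMap (AdicCompletion (IsLocalRing.maximalIdeal A) A)
      (AdicCompletion (IsLocalRing.maximalIdeal A) A)) := ⟨fun a ha => ha⟩
  haveI : Hensel.IsHenselization (AdicCompletion (IsLocalRing.maximalIdeal A) A)
      (AdicCompletion (IsLocalRing.maximalIdeal A) A) :=
    ⟨inferInstance, fun T _ _ f _ => ⟨f, RingHom.ext fun x => rfl, fun g hg => by
      rw [← hg]
      exact RingHom.ext fun x => rfl⟩⟩
  rw [← Groth.Agent.S9237.result A S,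
    ← Groth.Agent.S9237.result (AdicCompletion (IsLocalRing.maximalIdeal A) A)
      (AdicCompletion (IsLocalRing.maximalIdeal A) A)]
  refine Groth.Agent.Lib.Helper12.BrnchRad.card_minimalPrimes_eq_iff ψ hflat ?_
    (minimalPrimes.finite_of_isNoetherianRing S)
    (minimalPrimes.finite_of_isNoetherianRing _)
  letI := ψ.toAlgebra
  haveI : Module.Flat S (AdicCompletion (IsLocalRing.maximalIdeal A) A) := hflat
  haveI : IsLocalHom (algebraMap S (AdicCompletion (IsLocalRing.maximalIdeal A) A)) := hloc
  haveI : Module.FaithfullyFlat S (AdicCompletion (IsLocalRing.maximalIdeal A) A) :=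
    Module.FaithfullyFlat.of_flat_of_isLocalHom
  exact PrimeSpectrum.comap_surjective_of_faithfullyFlat

end Groth.Agent.S9243
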