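import Groth.Statements.S7620
import Mathlib
-- import your own Groth.Agent.* helpers here

set_option autoImplicit false
universe u
open CategoryTheory CategoryTheory.Limits AlgebraicGeometry
open scoped TensorProduct
open Variety

namespace Groth.Agent.S7620

theorem ringKrullDim_eq_of_integral_injective (R S : Type*) [CommRing R] [CommRing S] [Algebra R S]
    [Algebra.IsIntegral R S] (hinj : Function.Injective (algebraMap R S)) :
    ringKrullDim S = ringKrullDim R := by
  apply le_antisymm
  · apply Order.krullDim_le_of_strictMono (PrimeSpectrum.comap (algebraMap R S))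
    intro P Q hPQ
    have : P.asIdeal < Q.asIdeal := hPQ
    exact Ideal.IsIntegral.comap_lt_comap (R := R) this
  · unfold ringKrullDim Order.krullDim
    apply iSup_le
    intro l
    obtain ⟨Q, -, hQ, hQc⟩ := Ideal.exists_ideal_over_prime_of_isIntegral (S := S)
      (l.head.asIdeal) ⊥ (by
        rw [← RingHom.ker_eq_comap_bot, (RingHom.injective_iff_ker_eq_bot _).mp hinj]
        exact bot_le)
    have : Q.LiesOver l.head.asIdeal := ⟨hQc.symm⟩
    obtain ⟨L, hL, -, -⟩ := Ideal.exists_ltSeries_of_hasGoingUp l Q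
    rw [← hL]
    exact Order.LTSeries.length_le_krullDim L

theorem exists_scalar (A : Type u) [CommRing A] (p : Ideal A) [p.IsPrime] (c : p.ResidueField) :
    ∃ a s : A, s ∉ p ∧ algebraMap A p.ResidueField s * c = algebraMap A p.ResidueField a := by
  obtain ⟨⟨x, ⟨t, ht⟩⟩, hx⟩ := IsLocalization.surj (nonZeroDivisors (A ⧸ p)) c
  obtain ⟨a, rfl⟩ := Ideal.Quotient.mk_surjective x
  obtain ⟨s, rfl⟩ := Ideal.Quotient.mk_surjective t
  refine ⟨a, s, ?_, ?_⟩
  · intro hs
    have : (Ideal.Quotient.mk p s) = 0 := Ideal.Quotient.eq_zero_iff_mem.mpr hs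
    rw [this] at ht
    exact zero_notMem_nonZeroDivisors ht
  · simp only at hx
    rw [mul_comm, IsScalarTower.algebraMap_apply A (A ⧸ p) p.ResidueField s,
      IsScalarTower.algebraMap_apply A (A ⧸ p) p.ResidueField a]
    exact hx

theorem clear_denoms (A B : Type u) [CommRing A] [CommRing B] [Algebra A B] (p : Ideal A)
    [p.IsPrime] (y : p.ResidueField ⊗[A] B) :
    ∃ s : A, s ∉ p ∧ ∃ b : B, algebraMap A p.ResidueField s • y = (1 : p.ResidueField) ⊗ₜ[A] b := by
  induction y using TensorProduct.induction_on with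
  | zero => exact ⟨1, fun h => (Ideal.IsPrime.ne_top inferInstance) ((Ideal.eq_top_iff_one p).mpr h), 0, by simp⟩
  | tmul c b' =>
    obtain ⟨a, s, hs, hc⟩ := exists_scalar A p c
    refine ⟨s, hs, a • b', ?_⟩
    rw [TensorProduct.smul_tmul', smul_eq_mul, hc, TensorProduct.tmul_smul,
      TensorProduct.smul_tmul', Algebra.smul_def, mul_one]
  | add y1 y2 h1 h2 =>
    obtain ⟨s1, hs1, b1, e1⟩ := h1
    obtain ⟨s2, hs2, b2, e2⟩ := h2
    refine ⟨s1 * s2, fun h => ?_, s2 • b1 + s1 • b2, ?_⟩
    · rcases Ideal.IsPrime.mem_or_mem inferInstance h with h | h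
      · exact hs1 h
      · exact hs2 h
    · have key : ∀ (a : A) (b : B), algebraMap A p.ResidueField a • ((1 : p.ResidueField) ⊗ₜ[A] b) =
          (1 : p.ResidueField) ⊗ₜ[A] (a • b) := by
        intro a b
        rw [TensorProduct.smul_tmul', smul_eq_mul, mul_one, TensorProduct.tmul_smul,
          TensorProduct.smul_tmul', Algebra.smul_def, mul_one]
      rw [smul_add, map_mul, TensorProduct.tmul_add, ← key, ← key, ← e1, ← e2, smul_smul, smul_smul,
        mul_comm (algebraMap A p.ResidueField s2)]

/-- Let A → B be a finite type ring map (a finite type morphism of affine schemes X → S), p a prime of A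
and suppose the fibre ring κ(p) ⊗_A B has Krull dimension d. Then there is an A-algebra homomorphism
π : A[t_1, …, t_d] → B such that the induced map of fibres κ(p) ⊗_A A[t_1, …, t_d] → κ(p) ⊗_A B is
finite. -/
theorem result (A B : Type u) [CommRing A] [CommRing B] [Algebra A B] [Algebra.FiniteType A B]
    (p : Ideal A) [p.IsPrime] (d : ℕ) (hd : ringKrullDim (p.ResidueField ⊗[A] B) = d) :
    ∃ π : MvPolynomial (Fin d) A →ₐ[A] B,
      (Algebra.TensorProduct.map (AlgHom.id p.ResidueField p.ResidueField) π).toRingHom.Finite := by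
  have hnt : Nontrivial (p.ResidueField ⊗[A] B) := by
    by_contra h
    rw [not_nontrivial_iff_subsingleton] at h
    rw [ringKrullDim_eq_bot_of_subsingleton] at hd
    exact WithBot.bot_ne_coe hd
  have hft : Algebra.FiniteType p.ResidueField (p.ResidueField ⊗[A] B) := inferInstance
  obtain ⟨s, g, hginj, hgfin⟩ := exists_finite_inj_algHom_of_fg p.ResidueField (p.ResidueField ⊗[A] B)
  have hsd : s = d := by
    letI := g.toRingHom.toAlgebra
    have : Module.Finite (MvPolynomial (Fin s) p.ResidueField) (p.ResidueField ⊗[A] B) := hgfin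
    have : Algebra.IsIntegral (MvPolynomial (Fin s) p.ResidueField) (p.ResidueField ⊗[A] B) :=
      Algebra.IsIntegral.of_finite _ _
    have h1 := ringKrullDim_eq_of_integral_injective (MvPolynomial (Fin s) p.ResidueField)
      (p.ResidueField ⊗[A] B) hginj
    rw [hd, MvPolynomial.ringKrullDim_of_isNoetherianRing, ringKrullDim_eq_zero_of_field,
      zero_add] at h1
    have h2 : Nat.card (Fin s) = d := by exact_mod_cast h1.symm
    simpa using h2
  subst hsd
  have hcl := fun i : Fin s => clear_denoms A B p (g (MvPolynomial.X i))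
  choose sc hsc b hb using hcl
  refine ⟨MvPolynomial.aeval b, ?_⟩
  let θ : MvPolynomial (Fin s) p.ResidueField →ₐ[p.ResidueField] MvPolynomial (Fin s) p.ResidueField :=
    MvPolynomial.aeval (fun i => algebraMap A p.ResidueField (sc i) • MvPolynomial.X i)
  have hunit : ∀ i, algebraMap A p.ResidueField (sc i) ≠ 0 := by
    intro i h
    exact hsc i (Ideal.algebraMap_residueField_eq_zero.mp h)
  have hθ : Function.Surjective θ := by
    rw [← AlgHom.range_eq_top, eq_top_iff, ← MvPolynomial.adjoin_range_X]
    apply Algebra.adjoin_le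
    rintro _ ⟨i, rfl⟩
    refine ⟨(algebraMap A p.ResidueField (sc i))⁻¹ • MvPolynomial.X i, ?_⟩
    change θ ((algebraMap A p.ResidueField (sc i))⁻¹ • MvPolynomial.X i) = MvPolynomial.X i
    rw [map_smul]
    simp only [θ, MvPolynomial.aeval_X, smul_smul, inv_mul_cancel₀ (hunit i), one_smul]
  let ψ : p.ResidueField ⊗[A] MvPolynomial (Fin s) A ≃ₐ[p.ResidueField]
      MvPolynomial (Fin s) p.ResidueField := MvPolynomial.algebraTensorAlgEquiv A p.ResidueField
  have hcomp : Algebra.TensorProduct.map (AlgHom.id p.ResidueField p.ResidueField)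
      (MvPolynomial.aeval b) = g.comp (θ.comp ψ.toAlgHom) := by
    apply Algebra.TensorProduct.ext
    · ext
    · apply MvPolynomial.algHom_ext
      intro i
      simp [θ, ψ]
      rw [← hb, ← algebraMap_smul p.ResidueField (sc i) (MvPolynomial.X i :
        MvPolynomial (Fin s) p.ResidueField), map_smul]
  rw [hcomp]
  exact (hgfin).comp ((RingHom.Finite.of_surjective _ hθ).comp
    (RingHom.Finite.of_surjective _ ψ.surjective))

end Groth.Agent.S7620
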