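import Groth.Statements.S0552
import Groth.Agent.Lib.Helper24.Catenary
-- import your own Groth.Agent.* helpers here

set_option autoImplicit false
universe u
open CAlg

namespace Groth.Agent.S0552

/-- A ring is catenary exactly when its localization at every maximal ideal is catenary. -/
theorem result (R : Type u) [CommRing R] :
    CAlg.IsCatenary R ↔ ∀ (m : Ideal R) [m.IsMaximal], CAlg.IsCatenary (Localization.AtPrime m) := by
  constructor
  · intro hR m _
    exact Groth.Agent.Lib.Helper24.CatOrd.of_orderEmbedding
      (Groth.Agent.Lib.Helper24.locOrderEmbedding m.primeCompl (Localization.AtPrime m))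
      (Groth.Agent.Lib.Helper24.ordConnected_range_locOrderEmbedding m.primeCompl _) hR
  · intro h
    apply Groth.Agent.Lib.Helper24.CatOrd.of_cover
    intro p q hpq
    obtain ⟨m, hm, hqm⟩ := Ideal.exists_le_maximal q.asIdeal q.2.ne_top
    refine ⟨PrimeSpectrum (Localization.AtPrime m), inferInstance,
      Groth.Agent.Lib.Helper24.locOrderEmbedding m.primeCompl (Localization.AtPrime m),
      Groth.Agent.Lib.Helper24.ordConnected_range_locOrderEmbedding m.primeCompl _, h m, ?_, ?_⟩
    · rw [Groth.Agent.Lib.Helper24.range_locOrderEmbedding]
      change Disjoint _ _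
      rw [Set.disjoint_left]
      intro x hx hxp
      exact hx (hqm (hpq hxp))
    · rw [Groth.Agent.Lib.Helper24.range_locOrderEmbedding]
      change Disjoint _ _
      rw [Set.disjoint_left]
      intro x hx hxq
      exact hx (hqm hxq)


end Groth.Agent.S0552
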