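import Groth.Statements.S14727
import Mathlib.RingTheory.LocalProperties.Basic
import Mathlib.RingTheory.Ideal.Quotient.Operations

set_option autoImplicit false
universe u
open ValPrufer

namespace Groth.Agent.S14727
open Function

variable {R : Type u} [CommRing R]

lemma level_inj (I : Ideal R) (n : ℕ) (r : R)
    (h : ∀ m : {m : MaximalSpectrum R // I ≤ m.asIdeal},
      algebraMap R (Localization.AtPrime m.1.asIdeal) r ∈
        (I ^ n • ⊤ : Submodule R (Localization.AtPrime m.1.asIdeal))) :
    r ∈ I ^ n := by
  refine Ideal.mem_of_localization_maximal fun P hP => ?_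
  by_cases hIP : I ≤ P
  · have := h ⟨⟨P, hP⟩, hIP⟩
    rw [Ideal.smul_top_eq_map] at this
    exact this
  · have : ¬ (I ^ n ≤ P) := fun h' => hIP (hP.isPrime.le_of_pow_le h')
    obtain ⟨a, haI, haP⟩ := Set.not_subset.mp this
    have hu : IsUnit (algebraMap R (Localization.AtPrime P) a) :=
      IsLocalization.map_units _ (⟨a, haP⟩ : P.primeCompl)
    rw [Ideal.eq_top_of_isUnit_mem _ (Ideal.mem_map_of_mem _ haI) hu]
    trivial

lemma only_max (I : Ideal R) (hI : ∀ p : Ideal R, p.IsPrime → I ≤ p → p.IsMaximal) (n : ℕ)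
    (m : Ideal R) [hm : m.IsMaximal] (hIm : I ≤ m)
    (M : Ideal R) (hM : M.IsMaximal)
    (hJM : Ideal.comap (algebraMap R (Localization.AtPrime m))
      ((I ^ n).map (algebraMap R (Localization.AtPrime m))) ≤ M) : M = m := by
  by_contra hne
  have : ¬ (m ≤ M) := fun h => hne (hm.eq_of_le hM.ne_top h).symm
  obtain ⟨t, htm, htM⟩ := Set.not_subset.mp this
  let T : Submonoid R := m.primeCompl ⊔ Submonoid.powers t
  by_cases hd : Disjoint ((I ^ n : Ideal R) : Set R) T
  · obtain ⟨p, hp, hIp, hpd⟩ := Ideal.exists_le_prime_disjoint _ T hd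
    have hIp' : I ≤ p := hp.le_of_pow_le hIp
    have hpmax := hI p hp hIp'
    have hpm : p ≤ m := by
      intro x hx
      by_contra hxm
      exact Set.disjoint_left.mp hpd hx (Submonoid.mem_sup_left hxm)
    have hpeq : p = m := hpmax.eq_of_le hm.ne_top hpm
    rw [hpeq] at hpd
    exact Set.disjoint_left.mp hpd htm (Submonoid.mem_sup_right (Submonoid.mem_powers t))
  · rw [Set.not_disjoint_iff] at hd
    obtain ⟨x, hxI, hxT⟩ := hd
    obtain ⟨s, hs, y, hy, rfl⟩ := Submonoid.mem_sup.mp hxT
    obtain ⟨N, rfl⟩ := hy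
    have : t ^ N ∈ Ideal.comap (algebraMap R (Localization.AtPrime m))
        ((I ^ n).map (algebraMap R _)) := by
      rw [Ideal.mem_comap, IsLocalization.mem_map_algebraMap_iff m.primeCompl]
      exact ⟨⟨⟨s * t ^ N, hxI⟩, ⟨s, hs⟩⟩, by simp [mul_comm]⟩
    exact htM (hM.isPrime.mem_of_pow_mem N (hJM this))

lemma exists_lift (I : Ideal R) (hI : ∀ p : Ideal R, p.IsPrime → I ≤ p → p.IsMaximal) (n : ℕ)
    (m : Ideal R) [hm : m.IsMaximal] (hIm : I ≤ m) (x : Localization.AtPrime m) :
    ∃ g : R, algebraMap R _ g - x ∈ (I ^ n).map (algebraMap R (Localization.AtPrime m)) := by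
  obtain ⟨a, s, rfl⟩ := IsLocalization.exists_mk'_eq m.primeCompl x
  set J := Ideal.comap (algebraMap R (Localization.AtPrime m))
    ((I ^ n).map (algebraMap R _)) with hJ
  have htop : J ⊔ Ideal.span {(s : R)} = ⊤ := by
    by_contra hne
    obtain ⟨M, hM, hle⟩ := Ideal.exists_le_maximal _ hne
    have := only_max I hI n m hIm M hM (le_sup_left.trans hle)
    subst this
    exact s.2 (hle (Ideal.mem_sup_right (Ideal.mem_span_singleton_self _)))
  have h1 : (1 : R) ∈ J ⊔ Ideal.span {(s : R)} := htop ▸ Submodule.mem_top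
  obtain ⟨j, hj, y, hy, hjy⟩ := Submodule.mem_sup.mp h1
  obtain ⟨b, rfl⟩ := Ideal.mem_span_singleton'.mp hy
  refine ⟨a * b, ?_⟩
  have key : algebraMap R _ (a * b) - IsLocalization.mk' (Localization.AtPrime m) a s =
      - (IsLocalization.mk' _ a s * algebraMap R _ j) := by
    have hs := IsLocalization.mk'_spec (Localization.AtPrime m) a s
    have hj' : algebraMap R (Localization.AtPrime m) j =
        1 - algebraMap R _ b * algebraMap R _ (s : R) := by
      rw [← map_mul, ← map_one (algebraMap R _), ← map_sub, ← hjy]; ring_nf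
    rw [hj', map_mul, ← hs]; ring
  rw [key]
  exact (Ideal.neg_mem_iff _).mpr (Ideal.mul_mem_left _ _ hj)

lemma level_surj (I : Ideal R) (hI : ∀ p : Ideal R, p.IsPrime → I ≤ p → p.IsMaximal)
    [Finite (MaximalSpectrum R)] (n : ℕ)
    (x : ∀ m : {m : MaximalSpectrum R // I ≤ m.asIdeal}, Localization.AtPrime m.1.asIdeal) :
    ∃ r : R, ∀ m, algebraMap R _ r - x m ∈
      (I ^ n • ⊤ : Submodule R (Localization.AtPrime m.1.asIdeal)) := by
  let J : {m : MaximalSpectrum R // I ≤ m.asIdeal} → Ideal R := fun m =>
    Ideal.comap (algebraMap R (Localization.AtPrime m.1.asIdeal)) ((I ^ n).map (algebraMap R _))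
  have hcop : Pairwise (IsCoprime on J) := by
    intro m m' hne
    rw [Function.onFun, Ideal.isCoprime_iff_sup_eq]
    by_contra htop
    obtain ⟨M, hM, hle⟩ := Ideal.exists_le_maximal _ htop
    have h1 := only_max I hI n m.1.asIdeal m.2 M hM (le_sup_left.trans hle)
    have h2 := only_max I hI n m'.1.asIdeal m'.2 M hM (le_sup_right.trans hle)
    exact hne (Subtype.ext (MaximalSpectrum.ext (h1.symm.trans h2)))
  choose g hg using fun m : {m : MaximalSpectrum R // I ≤ m.asIdeal} =>
    exists_lift I hI n m.1.asIdeal m.2 (x m)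
  obtain ⟨rb, hrb⟩ := Ideal.quotientInfToPiQuotient_surj hcop
    (fun m => Ideal.Quotient.mk (J m) (g m))
  obtain ⟨r, rfl⟩ := Ideal.Quotient.mk_surjective rb
  refine ⟨r, fun m => ?_⟩
  have h1 := congrFun hrb m
  rw [Ideal.quotientInfToPiQuotient_mk', Ideal.Quotient.eq] at h1
  rw [Ideal.smul_top_eq_map]
  show _ ∈ Ideal.map _ _
  have h2 : algebraMap R _ r - x m =
      algebraMap R _ (r - g m) + (algebraMap R _ (g m) - x m) := by rw [map_sub]; ring
  rw [h2]; exact Ideal.add_mem _ h1 (hg m)


/-- Let R be a semilocal ring (finitely many maximal ideals) and I an ideal of R of co-height zero, i.e.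
every prime ideal containing I is maximal. Then the canonical map from the I-adic completion of R to
the product, over the maximal ideals m ⊇ I, of the I-adic completions of the local rings R_m
(equivalently their IR_m-adic completions) is bijective; it is the continuous ring isomorphism of
the source, stated here as bijectivity of the canonical map of completed modules. -/
theorem result
    (R : Type u) [CommRing R] (hR : Finite (MaximalSpectrum R)) (I : Ideal R)
    (hI : ∀ (p : Ideal R), p.IsPrime → I ≤ p → p.IsMaximal) :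
    Function.Bijective (LinearMap.pi (fun m : {m : MaximalSpectrum R // I ≤ m.asIdeal} =>
      AdicCompletion.map I (Algebra.linearMap R (Localization.AtPrime m.1.asIdeal)))) := by
  haveI := hR
  constructor
  · rw [injective_iff_map_eq_zero]
    intro x hx
    apply AdicCompletion.ext
    intro n
    obtain ⟨r, hr⟩ := Submodule.Quotient.mk_surjective _ (x.val n)
    rw [← hr, AdicCompletion.val_zero_apply, Submodule.Quotient.mk_eq_zero]
    have hrn : r ∈ I ^ n := level_inj I n r (fun m => by
      have hm := congrFun hx m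
      have h2 := congrArg (fun y => y.val n) hm
      simp only [LinearMap.pi_apply, AdicCompletion.map_val_apply, ← hr,
        LinearMap.reduceModIdeal_apply] at h2
      exact (Submodule.Quotient.mk_eq_zero _).mp h2)
    simpa using hrn
  · intro y
    choose z hz using fun (n : ℕ) (m : {m : MaximalSpectrum R // I ≤ m.asIdeal}) =>
      Submodule.Quotient.mk_surjective _ ((y m).val n)
    choose r hr using fun n => level_surj I hI n (z n)
    have hc : ∀ n, r n ≡ r (n + 1) [SMOD (I ^ n • ⊤ : Submodule R R)] := by
      intro n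
      rw [SModEq.sub_mem]
      have h1 : r n - r (n + 1) ∈ I ^ n := level_inj I n _ (fun m => by
        have e : algebraMap R (Localization.AtPrime m.1.asIdeal) (r n - r (n + 1)) =
            (algebraMap R _ (r n) - z n m) - (algebraMap R _ (r (n + 1)) - z (n + 1) m)
              + (z n m - z (n + 1) m) := by rw [map_sub]; ring
        rw [e]
        refine Submodule.add_mem _ (Submodule.sub_mem _ (hr n m) ?_) ?_
        · exact Submodule.smul_mono_left (Ideal.pow_le_pow_right (Nat.le_succ n)) (hr (n + 1) m)
        · rw [← Submodule.Quotient.eq, hz n m,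
            ← AdicCompletion.transitionMap_comp_eval_apply I _ (Nat.le_succ n) (y m), ← hz (n + 1) m]
          rfl)
      simpa using h1
    refine ⟨AdicCompletion.mk I R (AdicCompletion.AdicCauchySequence.mk I R r hc), ?_⟩
    funext m
    apply AdicCompletion.ext
    intro n
    rw [← hz n m]
    exact (Submodule.Quotient.eq _).mpr (hr n m)

end Groth.Agent.S14727
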