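import Groth.Statements.S9405
import Groth.Agent.S14727
import Mathlib

set_option autoImplicit false
universe u
open CAlg

namespace Groth.Agent.S9405
open IsLocalRing TensorProduct

theorem of_bijective_of_finite {R : Type u} [CommRing R] [IsNoetherianRing R] (I : Ideal R)
    [IsAdicComplete I R] (N : Type u) [AddCommGroup N] [Module R N] [Module.Finite R N] :
    Function.Bijective (AdicCompletion.of I N) := by
  have h1 := AdicCompletion.ofTensorProduct_bijective_of_finite_of_isNoetherian I N
  let e : R ≃ₗ[R] AdicCompletion I R :=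
    LinearEquiv.ofBijective (AdicCompletion.of I R) (AdicCompletion.of_bijective I R)
  have h2 : (AdicCompletion.of I N : N → _) =
      (AdicCompletion.ofTensorProduct I N) ∘ (e.rTensor N) ∘ (TensorProduct.lid R N).symm := by
    funext x
    simp only [Function.comp_apply, TensorProduct.lid_symm_apply, LinearEquiv.rTensor_tmul,
      AdicCompletion.ofTensorProduct_tmul, e, LinearEquiv.ofBijective_apply]
    rw [show AdicCompletion.of I R 1 = 1 from rfl, one_smul]
  rw [h2]
  exact h1.comp ((e.rTensor N).bijective.comp (TensorProduct.lid R N).symm.bijective)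

theorem isAdicComplete_of_finite {R : Type u} [CommRing R] [IsNoetherianRing R] (I : Ideal R)
    [IsAdicComplete I R] (N : Type u) [AddCommGroup N] [Module R N] [Module.Finite R N] :
    IsAdicComplete I N :=
  AdicCompletion.of_bijective_iff.mp (of_bijective_of_finite I N)

theorem isPrecomplete_of_pow_le {A : Type*} [CommRing A] (J M : Ideal A) (k : ℕ)
    (hJM : J ≤ M) (hMJ : M ^ k ≤ J) [IsPrecomplete J A] : IsPrecomplete M A := by
  have hMJ' : M ^ (k + 1) ≤ J := (Ideal.pow_le_pow_right (Nat.le_succ k)).trans hMJ
  refine ⟨fun f hf => ?_⟩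
  have hg : ∀ {m n : ℕ}, m ≤ n →
      f ((k + 1) * m) ≡ f ((k + 1) * n) [SMOD (J ^ m • ⊤ : Submodule A A)] := by
    intro m n hmn
    refine SModEq.mono ?_ (hf (Nat.mul_le_mul_left (k + 1) hmn))
    refine Submodule.smul_mono_left ?_
    rw [pow_mul]
    exact Ideal.pow_right_mono hMJ' m
  obtain ⟨L, hL⟩ := IsPrecomplete.prec ‹IsPrecomplete J A› hg
  refine ⟨L, fun n => ?_⟩
  have h1 : f n ≡ f ((k + 1) * n) [SMOD (M ^ n • ⊤ : Submodule A A)] :=
    hf (Nat.le_mul_of_pos_left n (Nat.succ_pos k))
  have h2 : f ((k + 1) * n) ≡ L [SMOD (M ^ n • ⊤ : Submodule A A)] := by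
    refine SModEq.mono ?_ (hL n)
    exact Submodule.smul_mono_left (Ideal.pow_right_mono hJM n)
  exact h1.trans h2

section
variable (R : Type u) [CommRing R] [IsLocalRing R] [IsNoetherianRing R]
  (S : Type u) [CommRing S] [Algebra R S] [Module.Finite R S]

lemma map_le_of_isMaximal (m : Ideal S) [hm : m.IsMaximal] :
    (maximalIdeal R).map (algebraMap R S) ≤ m := by
  rw [Ideal.map_le_iff_le_comap]
  have : (m.comap (algebraMap R S)).IsMaximal :=
    Ideal.isMaximal_comap_of_isIntegral_of_isMaximal m
  exact (IsLocalRing.eq_maximalIdeal this).ge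

lemma isMaximal_of_map_le (p : Ideal S) (hp : p.IsPrime)
    (h : (maximalIdeal R).map (algebraMap R S) ≤ p) : p.IsMaximal := by
  have h1 : maximalIdeal R ≤ p.comap (algebraMap R S) := Ideal.map_le_iff_le_comap.mp h
  have h2 : (p.comap (algebraMap R S)).IsMaximal := by
    have := (maximalIdeal.isMaximal R).eq_of_le (Ideal.IsPrime.ne_top (Ideal.comap_isPrime _ _)) h1
    rw [← this]; infer_instance
  exact Ideal.isMaximal_of_isIntegral_of_isMaximal_comap p h2

include R in
lemma finite_maximalSpectrum : Finite (MaximalSpectrum S) := by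
  have hfin := Algebra.QuasiFinite.finite_primesOver (S := S) (maximalIdeal R)
  have : Finite ((maximalIdeal R).primesOver S) := hfin.to_subtype
  refine Finite.of_injective (fun m : MaximalSpectrum S =>
    (⟨m.asIdeal, ⟨m.isMaximal.isPrime, ⟨?_⟩⟩⟩ : (maximalIdeal R).primesOver S)) ?_
  · have : (m.asIdeal.comap (algebraMap R S)).IsMaximal :=
      Ideal.isMaximal_comap_of_isIntegral_of_isMaximal m.asIdeal
    exact (IsLocalRing.eq_maximalIdeal this).symm
  · intro a b h
    exact MaximalSpectrum.ext (congrArg Subtype.val h)

include R in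
theorem surj [IsAdicComplete (maximalIdeal R) R] :
    Function.Surjective
      (algebraMap S ((m : MaximalSpectrum S) → Localization.AtPrime m.asIdeal)) := by
  intro x
  set I := (maximalIdeal R).map (algebraMap R S) with hI
  haveI : Finite (MaximalSpectrum S) := finite_maximalSpectrum R S
  haveI : IsNoetherianRing S := IsNoetherianRing.of_finite R S
  have hcoh : ∀ p : Ideal S, p.IsPrime → I ≤ p → p.IsMaximal := isMaximal_of_map_le R S
  have hcomp : IsAdicComplete I S :=
    (IsAdicComplete.map_algebraMap_iff ..).mpr (isAdicComplete_of_finite (maximalIdeal R) S)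
  choose s hs using fun n => Groth.Agent.S14727.level_surj I hcoh n (fun m => x m.1)
  have hc : ∀ {a b : ℕ}, a ≤ b → s a ≡ s b [SMOD (I ^ a • ⊤ : Submodule S S)] := by
    intro a b hab
    rw [SModEq.sub_mem]
    have h1 : s a - s b ∈ I ^ a := Groth.Agent.S14727.level_inj I a _ (fun m => by
      have e : algebraMap S (Localization.AtPrime m.1.asIdeal) (s a - s b) =
          (algebraMap S _ (s a) - x m.1) - (algebraMap S _ (s b) - x m.1) := by
        rw [map_sub]; ring
      rw [e]
      exact Submodule.sub_mem _ (hs a m)
        (Submodule.smul_mono_left (Ideal.pow_le_pow_right hab) (hs b m)))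
    simpa using h1
  obtain ⟨L, hL⟩ := IsPrecomplete.prec hcomp.toIsPrecomplete hc
  refine ⟨L, funext fun m => ?_⟩
  show algebraMap S (Localization.AtPrime m.asIdeal) L = x m
  rw [← sub_eq_zero]
  have hIm : I ≤ m.asIdeal := map_le_of_isMaximal R S m.asIdeal
  haveI : IsNoetherianRing (Localization.AtPrime m.asIdeal) :=
    IsLocalization.isNoetherianRing m.asIdeal.primeCompl _ ‹_›
  have hne : I.map (algebraMap S (Localization.AtPrime m.asIdeal)) ≠ ⊤ :=
    ne_top_of_le_ne_top (maximalIdeal.isMaximal _).ne_top
      ((Ideal.map_mono hIm).trans_eq Localization.AtPrime.map_eq_maximalIdeal)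
  have hK := Ideal.iInf_pow_eq_bot_of_isLocalRing _ hne
  have hmem : algebraMap S _ L - x m ∈
      ⨅ i : ℕ, (I.map (algebraMap S (Localization.AtPrime m.asIdeal))) ^ i := by
    rw [Submodule.mem_iInf]
    intro n
    have e : algebraMap S _ L - x m =
        (algebraMap S _ (s n) - x m) - algebraMap S _ (s n - L) := by rw [map_sub]; ring
    rw [e, ← Ideal.map_pow]
    refine Ideal.sub_mem _ ?_ (Ideal.mem_map_of_mem _ ?_)
    · have := hs n ⟨m, hIm⟩
      rw [Ideal.smul_top_eq_map] at this
      exact this
    · have := (SModEq.sub_mem).mp (hL n)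
      simpa using this
  rw [hK] at hmem
  exact hmem

include R in
theorem complete_loc [IsAdicComplete (maximalIdeal R) R] (m : MaximalSpectrum S) :
    IsNoetherianRing (Localization.AtPrime m.asIdeal) ∧
      IsAdicComplete (maximalIdeal (Localization.AtPrime m.asIdeal))
        (Localization.AtPrime m.asIdeal) := by
  classical
  haveI : IsNoetherianRing S := IsNoetherianRing.of_finite R S
  haveI hN : IsNoetherianRing (Localization.AtPrime m.asIdeal) :=
    IsLocalization.isNoetherianRing m.asIdeal.primeCompl _ ‹_›
  refine ⟨hN, ?_⟩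
  have hsurj : Function.Surjective (algebraMap S (Localization.AtPrime m.asIdeal)) := by
    intro y
    obtain ⟨L, hL⟩ := surj R S (Function.update 0 m y)
    refine ⟨L, ?_⟩
    have := congrFun hL m
    simpa using this
  haveI : Module.Finite R (Localization.AtPrime m.asIdeal) :=
    Module.Finite.of_surjective
      (IsScalarTower.toAlgHom R S (Localization.AtPrime m.asIdeal)).toLinearMap hsurj
  have hc1 : IsAdicComplete (maximalIdeal R) (Localization.AtPrime m.asIdeal) :=
    isAdicComplete_of_finite (maximalIdeal R) _
  have hc2 : IsAdicComplete ((maximalIdeal R).map (algebraMap R (Localization.AtPrime m.asIdeal)))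
      (Localization.AtPrime m.asIdeal) := (IsAdicComplete.map_algebraMap_iff ..).mpr hc1
  set J := (maximalIdeal R).map (algebraMap R (Localization.AtPrime m.asIdeal)) with hJ
  have hJeq : J = ((maximalIdeal R).map (algebraMap R S)).map
      (algebraMap S (Localization.AtPrime m.asIdeal)) := by
    rw [Ideal.map_map, ← IsScalarTower.algebraMap_eq]
  have hJle : J ≤ maximalIdeal (Localization.AtPrime m.asIdeal) := by
    rw [hJeq]
    exact (Ideal.map_mono (map_le_of_isMaximal R S m.asIdeal)).trans_eq
      Localization.AtPrime.map_eq_maximalIdeal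
  have hrad : maximalIdeal (Localization.AtPrime m.asIdeal) ≤ J.radical := by
    rw [Ideal.radical_eq_sInf]
    refine le_sInf fun q ⟨hJq, hq⟩ => ?_
    have h1 : (maximalIdeal R).map (algebraMap R S) ≤
        q.comap (algebraMap S (Localization.AtPrime m.asIdeal)) :=
      Ideal.map_le_iff_le_comap.mp (hJeq ▸ hJq)
    have h2 : (q.comap (algebraMap S (Localization.AtPrime m.asIdeal))).IsMaximal :=
      isMaximal_of_map_le R S _ (Ideal.comap_isPrime _ _) h1
    have h3 : q.comap (algebraMap S (Localization.AtPrime m.asIdeal)) ≤ m.asIdeal := by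
      have := Ideal.comap_mono (f := algebraMap S (Localization.AtPrime m.asIdeal))
        (IsLocalRing.le_maximalIdeal hq.ne_top)
      exact this.trans_eq
        (IsLocalization.AtPrime.under_maximalIdeal (Localization.AtPrime m.asIdeal) m.asIdeal)
    have h4 := h2.eq_of_le m.isMaximal.ne_top h3
    have h5 : q = maximalIdeal (Localization.AtPrime m.asIdeal) := by
      have e := IsLocalization.map_under m.asIdeal.primeCompl (Localization.AtPrime m.asIdeal) q
      rw [← e]
      show Ideal.map _ (Ideal.comap (algebraMap S (Localization.AtPrime m.asIdeal)) q) = _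
      rw [h4, Localization.AtPrime.map_eq_maximalIdeal]
    exact h5.ge
  obtain ⟨k, hk⟩ := Ideal.exists_radical_pow_le_of_fg J (IsNoetherian.noetherian _)
  have hk' : maximalIdeal (Localization.AtPrime m.asIdeal) ^ k ≤ J :=
    (Ideal.pow_right_mono hrad k).trans hk
  haveI := hc2.toIsPrecomplete
  haveI : IsPrecomplete (maximalIdeal (Localization.AtPrime m.asIdeal))
      (Localization.AtPrime m.asIdeal) := isPrecomplete_of_pow_le J _ k hJle hk'
  exact { }

end


/-- A module-finite algebra S over a complete Noetherian local ring R is a finite product of complete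
Noetherian local rings; precisely, S has finitely many maximal ideals, S maps bijectively onto the
product of its localizations at them, and each of these localizations is Noetherian and complete for
its maximal ideal. -/
theorem result (R : Type u) [CommRing R]
    [IsLocalRing R] [IsNoetherianRing R] [IsAdicComplete (IsLocalRing.maximalIdeal R) R]
    (S : Type u) [CommRing S] [Algebra R S] [Module.Finite R S] :
    Finite (MaximalSpectrum S) ∧
      Function.Bijective
        (algebraMap S ((m : MaximalSpectrum S) → Localization.AtPrime m.asIdeal)) ∧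
      ∀ m : MaximalSpectrum S, IsNoetherianRing (Localization.AtPrime m.asIdeal) ∧
        IsAdicComplete (IsLocalRing.maximalIdeal (Localization.AtPrime m.asIdeal))
          (Localization.AtPrime m.asIdeal) := by
  refine ⟨finite_maximalSpectrum R S, ⟨?_, surj R S⟩, fun m => complete_loc R S m⟩
  exact MaximalSpectrum.toPiLocalization_injective S

end Groth.Agent.S9405
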