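import Groth.Statements.S9566
import Groth.Agent.S2758
import Mathlib
set_option backward.isDefEq.respectTransparency.types false

set_option autoImplicit false
universe u
open EtLocal

namespace Groth.Agent.S9566

open IsLocalRing in
/-- algebra reformulation -/
lemma alg_iff {A B : Type u} [CommRing A] [CommRing B] [IsLocalRing A] [IsLocalRing B]
    (φ : A →+* B) [IsLocalHom φ] (hφ : φ.EssFiniteType) :
    φ.FormallyUnramified ↔
      ((maximalIdeal A).map φ = maximalIdeal B ∧
        letI := (ResidueField.map φ).toAlgebra
        Module.Finite (ResidueField A) (ResidueField B) ∧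
          Algebra.IsSeparable (ResidueField A) (ResidueField B)) := by
  algebraize [φ]
  have : IsLocalHom (algebraMap A B) := ‹IsLocalHom φ›
  have halg : (ResidueField.map φ).toAlgebra =
      (inferInstance : Algebra (ResidueField A) (ResidueField B)) := by
    refine Algebra.algebra_ext _ _ fun r => ?_
    obtain ⟨r, rfl⟩ := residue_surjective r
    rfl
  rw [halg]
  show Algebra.FormallyUnramified A B ↔ _
  rw [Algebra.FormallyUnramified.iff_map_maximalIdeal_eq]
  constructor
  · rintro ⟨h1, h2⟩
    have : Algebra.FormallyUnramified A B := Algebra.FormallyUnramified.of_map_maximalIdeal h2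
    exact ⟨h2, inferInstance, h1⟩
  · rintro ⟨h1, -, h2⟩
    exact ⟨h2, h1⟩


open AlgebraicGeometry CategoryTheory in
/-- Let Y be a locally Noetherian scheme, f : X ⟶ Y locally of finite type and x a point of X with image
y. Then f is étale on some open neighbourhood of x if and only if the map of local rings O_{Y,y} →
O_{X,x} is an étale homomorphism of local rings: it is flat, the maximal ideal of O_{Y,y} generates
that of O_{X,x}, and the residue field of x is a finite separable extension of that of y (O_{X,x} is
automatically essentially of finite type over O_{Y,y}). -/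
theorem result {X Y : Scheme.{u}} (f : X ⟶ Y)
    [LocallyOfFiniteType f] [IsLocallyNoetherian Y] (x : X) :
    (∃ U : X.Opens, x ∈ U ∧ Etale (U.ι ≫ f)) ↔
      ((f.stalkMap x).hom.Flat ∧
        (IsLocalRing.maximalIdeal (Y.presheaf.stalk (f.base x))).map (f.stalkMap x).hom =
          IsLocalRing.maximalIdeal (X.presheaf.stalk x) ∧
        letI := (f.residueFieldMap x).hom.toAlgebra
        Module.Finite (Y.residueField (f.base x)) (X.residueField x) ∧
          Algebra.IsSeparable (Y.residueField (f.base x)) (X.residueField x)) := by
  have hloc : IsLocalHom (f.stalkMap x).hom := f.toLRSHom.prop x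
  have hess : (f.stalkMap x).hom.EssFiniteType := LocallyOfFiniteType.stalkMap f x
  have hfp : LocallyOfFinitePresentation f :=
    LocallyOfFinitePresentation.iff_locallyOfFiniteType.mpr inferInstance
  have key := alg_iff (f.stalkMap x).hom hess
  constructor
  · rintro ⟨U, hxU, hU⟩
    refine ⟨Groth.Agent.S2758.stalkMap_flat_of_nhd f x ⟨U, hxU, inferInstance⟩, ?_⟩
    exact key.mp (Groth.Agent.S2807.stalkMap_formallyUnramified_of_nhd f x ⟨U, hxU, inferInstance⟩)
  · rintro ⟨hflat, h2⟩
    have hunr : (f.stalkMap x).hom.FormallyUnramified := key.mpr h2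
    obtain ⟨U, hU, V, hV, hVU, hxV, H⟩ := Groth.Agent.S2738.exists_etale_appLE f
      x hunr (RingHom.id _) (by rwa [RingHom.id_comp])
    refine ⟨V, hxV, ?_⟩
    have : IsAffine U.toScheme := hU
    have : IsAffine V.toScheme := hV
    have h2 : Etale (f.resLE U V hVU) := by
      rw [HasRingHomProperty.iff_of_isAffine (P := @Etale)]
      exact (RingHom.Etale.respectsIso.arrow_mk_iso_iff (arrowResLEAppIso f U V hVU)).mpr H
    rw [← Scheme.Hom.resLE_comp_ι f hVU]
    infer_instance

end Groth.Agent.S9566
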