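import Groth.Statements.S0518
import Groth.Agent.Lib.Helper12.EtaleAdjoinRoot
import Mathlib.RingTheory.Etale.Field
import Mathlib.RingTheory.Etale.Pi
import Mathlib.RingTheory.TensorProduct.Pi
import Mathlib.FieldTheory.PrimitiveElement
import Mathlib.Algebra.Polynomial.Lifts

set_option autoImplicit false
universe u
open Hensel

namespace Groth.Agent.S0518

/-- Over a henselian local ring `R` with residue field `κ`, every finite étale `κ`-algebra is the base
change of some finite étale `R`-algebra. -/
theorem result (R : Type u) [CommRing R]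
    [HenselianLocalRing R] (A : Type u) [CommRing A] [Algebra (IsLocalRing.ResidueField R) A]
    [Module.Finite (IsLocalRing.ResidueField R) A] [Algebra.Etale (IsLocalRing.ResidueField R) A] :
    ∃ (S : Type u) (_ : CommRing S) (_ : Algebra R S), Module.Finite R S ∧ Algebra.Etale R S ∧
      Nonempty (TensorProduct R (IsLocalRing.ResidueField R) S ≃ₐ[IsLocalRing.ResidueField R] A) := by
  classical
  open IsLocalRing Polynomial in
  obtain ⟨I, hI, L, hLf, hLa, e, hL⟩ :=
    (Algebra.Etale.iff_exists_algEquiv_prod (K := ResidueField R) (A := A)).mp inferInstance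
  have key : ∀ i, ∃ f : R[X], f.Monic ∧ (f.map (residue R)).Separable ∧
      Nonempty (AdjoinRoot (f.map (residue R)) ≃ₐ[ResidueField R] L i) := by
    intro i
    obtain ⟨hfin, hsepi⟩ := hL i
    let pb := Field.powerBasisOfFiniteOfSeparable (ResidueField R) (L i)
    let g := minpoly (ResidueField R) pb.gen
    have hgm : g.Monic := minpoly.monic pb.isIntegral_gen
    have hgs : g.Separable := Algebra.IsSeparable.isSeparable (ResidueField R) pb.gen
    obtain ⟨f, hfg, -, hfm⟩ := lifts_and_natDegree_eq_and_monic
      (mem_lifts_of_surjective residue_surjective g) hgm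
    refine ⟨f, hfm, hfg ▸ hgs, ?_⟩
    rw [hfg]
    exact ⟨AdjoinRoot.equiv' g pb (by rw [AdjoinRoot.aeval_eq, AdjoinRoot.mk_self])
      (minpoly.aeval _ _)⟩
  choose f hfm hfs hfe using key
  have : Fintype I := Fintype.ofFinite I
  refine ⟨Π i, AdjoinRoot (f i), inferInstance, inferInstance, ?_, ?_, ?_⟩
  · have : ∀ i, Module.Finite R (AdjoinRoot (f i)) := fun i => (hfm i).finite_adjoinRoot
    infer_instance
  · have : ∀ i, Algebra.Etale R (AdjoinRoot (f i)) := fun i =>
      Groth.Agent.Lib.Helper12.etale_adjoinRoot_of_separable_map_residue (f i) (hfm i) (hfs i)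
    infer_instance
  · let e₁ := Algebra.TensorProduct.piRight R (ResidueField R) (ResidueField R)
      (fun i => AdjoinRoot (f i))
    let e₂ : (Π i, TensorProduct R (ResidueField R) (AdjoinRoot (f i))) ≃ₐ[ResidueField R]
        Π i, L i :=
      AlgEquiv.piCongrRight (fun i =>
        (Groth.Agent.Lib.Helper12.nonempty_tensorAdjoinRootEquiv R (f i)).some.trans (hfe i).some)
    exact ⟨(e₁.trans e₂).trans e.symm⟩

end Groth.Agent.S0518
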