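import Groth.Statements.S18590
import Groth.Agent.Lib.helper11.WittHomog
import Mathlib.RingTheory.WittVector.Basic

set_option autoImplicit false
universe u
open CAlg

namespace Groth.Agent.S18590

section helpers

variable {A K : Type*} [CommRing A] [CommRing K] [Algebra A K] (M : ℕ → Submodule A K)
  (hmul : ∀ (i j : ℕ) (a b : K), a ∈ M i → b ∈ M j → a * b ∈ M (i + j))
include hmul

lemma pow_mem (i : ℕ) (a : K) (ha : a ∈ M i) : ∀ b : ℕ, b ≠ 0 → a ^ b ∈ M (b * i)
  | 0, h => absurd rfl h
  | 1, _ => by simpa using ha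
  | (b + 2), _ => by
      have := pow_mem i a ha (b + 1) (by omega)
      rw [pow_succ, show (b + 2) * i = (b + 1) * i + i by ring]
      exact hmul _ _ _ _ this ha

lemma mon_mem {σ : Type*} (w : σ → ℕ) (f : σ → K)
    (H : ∀ v, (w v = 0 ∧ f v ∈ Set.range (algebraMap A K)) ∨ f v ∈ M (w v)) (d : σ →₀ ℕ) :
    (Finsupp.weight w d = 0 ∧ d.prod (fun i k => f i ^ k) ∈ Set.range (algebraMap A K)) ∨
      d.prod (fun i k => f i ^ k) ∈ M (Finsupp.weight w d) := by
  classical
  induction d using Finsupp.induction with
  | zero => left; exact ⟨by simp, 1, by simp⟩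
  | single_add a b g ha hb ih =>
    rw [Finsupp.prod_add_index' (by simp) (by intros; rw [pow_add]),
      Finsupp.prod_single_index (h := fun i k => f i ^ k) (pow_zero _), map_add, Finsupp.weight_single, smul_eq_mul]
    rcases H a with ⟨hw, x, hx⟩ | hfa
    · rw [hw, mul_zero, zero_add, ← hx, ← map_pow]
      rcases ih with ⟨h0, y, hy⟩ | ih
      · left; exact ⟨h0, x ^ b * y, by rw [map_mul, hy]⟩
      · right; rw [← Algebra.smul_def]; exact Submodule.smul_mem _ _ ih
    · right
      have hp := pow_mem M hmul (w a) (f a) hfa b hb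
      rcases ih with ⟨h0, y, hy⟩ | ih
      · rw [h0, add_zero, ← hy, mul_comm (f a ^ b), ← Algebra.smul_def]; exact Submodule.smul_mem _ _ hp
      · exact hmul _ _ _ _ hp ih

lemma aeval_mem {σ : Type*} (w : σ → ℕ) (f : σ → K)
    (H : ∀ v, (w v = 0 ∧ f v ∈ Set.range (algebraMap A K)) ∨ f v ∈ M (w v))
    (P : MvPolynomial σ ℤ) (m : ℕ) (hm : m ≠ 0)
    (hP : MvPolynomial.IsWeightedHomogeneous w P m) : MvPolynomial.aeval f P ∈ M m := by
  rw [MvPolynomial.aeval_def, MvPolynomial.eval₂_eq]
  refine Submodule.sum_mem _ fun d hd => ?_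
  have hd' : MvPolynomial.coeff d P ≠ 0 := MvPolynomial.mem_support_iff.1 hd
  have hwd := hP hd'
  have h1 : d.prod (fun i k => f i ^ k) ∈ M m := by
    rcases mon_mem M hmul w f H d with ⟨h0, _⟩ | h
    · exact absurd (hwd ▸ h0) hm
    · rwa [hwd] at h
  rw [← Algebra.smul_def]
  exact zsmul_mem h1 _

end helpers

/-- Let p be a prime, A a commutative ring, K a commutative A-algebra of characteristic p and M_0, M_1,
M_2, … A-submodules of K with M_i · M_j ⊆ M_(i+j) for all i, j. Then the subset of the ring W(K) of
p-typical Witt vectors consisting of the vectors whose n-th coordinate lies in M_(p^n) for every n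
is closed under addition and under multiplication by the image of W(A) under W of the structure map;
in other words it is a W(A)-submodule of W(K). (The published statement is the case of an integral
normal noetherian scheme X of characteristic p with function field K, an affine open subset U with
coordinate ring A, and M_k the module of sections over U of the divisorial sheaf of k·D for a real
Weil divisor D on X; these form such a multiplicative family, and the subset is then the module of
sections over U of the Witt divisorial sheaf of D inside W(K). Only the two stated properties of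
that family enter.) -/
theorem result
    (p : ℕ) [Fact p.Prime] (A K : Type u) [CommRing A] [CommRing K] [Algebra A K] [CharP K p]
    (M : ℕ → Submodule A K)
    (hmul : ∀ (i j : ℕ) (a b : K), a ∈ M i → b ∈ M j → a * b ∈ M (i + j)) :
    (∀ φ ψ : WittVector p K, (∀ n : ℕ, φ.coeff n ∈ M (p ^ n)) → (∀ n : ℕ, ψ.coeff n ∈ M (p ^ n)) →
        ∀ n : ℕ, (φ + ψ).coeff n ∈ M (p ^ n)) ∧
      (∀ (x : WittVector p A) (φ : WittVector p K), (∀ n : ℕ, φ.coeff n ∈ M (p ^ n)) →
        ∀ n : ℕ, (WittVector.map (algebraMap A K) x * φ).coeff n ∈ M (p ^ n)) := by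
  have hp : p ≠ 0 := (Fact.out : p.Prime).ne_zero
  constructor
  · intro φ ψ hφ hψ n
    rw [WittVector.add_coeff, WittVector.peval]
    apply aeval_mem M hmul (fun i : Fin 2 × ℕ => p ^ i.2) _ _ _ (p ^ n) (pow_ne_zero _ hp)
      (Groth.Agent.Lib.helper11.WittHomog.wittAdd_isWeightedHomogeneous p n)
    rintro ⟨j, i⟩
    right
    fin_cases j
    · exact hφ i
    · exact hψ i
  · intro x φ hφ n
    rw [WittVector.mul_coeff, WittVector.peval]
    apply aeval_mem M hmul (fun i : Fin 2 × ℕ => if i.1 = 0 then 0 else p ^ i.2) _ _ _ (p ^ n)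
      (pow_ne_zero _ hp)
      (Groth.Agent.Lib.helper11.WittHomog.wittMul_isWeightedHomogeneous p n)
    rintro ⟨j, i⟩
    fin_cases j
    · left; exact ⟨by simp, x.coeff i, rfl⟩
    · right; simpa using hφ i

end Groth.Agent.S18590
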