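import Groth.Statements.S0501
import Groth.Agent.Lib.Helper12.HenselEtale
import Mathlib.RingTheory.Unramified.LocalStructure
import Mathlib.RingTheory.LocalRing.ResidueField.Ideal
-- import your own Groth.Agent.* helpers here

set_option autoImplicit false
universe u
open Hensel

namespace Groth.Agent.S0501

/-- Let `S` be a henselian local ring over a ring `R`, let `A` be an étale `R`-algebra with a prime `q`,
and let `τ` be a ring map from the residue field of `q` to the residue field of `S` compatible with
the two structure maps from `R`. Then there is exactly one `R`-algebra map from `A` to `S` pulling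
the maximal ideal back to `q` and inducing `τ`. -/
theorem result (R : Type u) [CommRing R]
    (S : Type u) [CommRing S] [HenselianLocalRing S] [Algebra R S]
    (A : Type u) [CommRing A] [Algebra R A] [Algebra.Etale R A] (q : Ideal A) [q.IsPrime]
    (τ : q.ResidueField →+* IsLocalRing.ResidueField S)
    (hτ : τ.comp (algebraMap R q.ResidueField) = (IsLocalRing.residue S).comp (algebraMap R S)) :
    ∃! f : A →ₐ[R] S, Ideal.comap f.toRingHom (IsLocalRing.maximalIdeal S) = q ∧
      ∀ a : A, IsLocalRing.residue S (f a) = τ (algebraMap A q.ResidueField a) := by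
  open IsLocalRing in
  have hfp : Algebra.FinitePresentation R A := inferInstance
  have hEt : Algebra.IsEtaleAt R q := inferInstance
  obtain ⟨g, hgq, hstd⟩ := Algebra.IsEtaleAt.exists_isStandardEtale (R := R) q
  let T := Localization.Away g
  let P : StandardEtalePresentation R T := hstd.nonempty_standardEtalePresentation.some
  -- τ as an R-algebra map
  let τ' : q.ResidueField →ₐ[R] ResidueField S :=
    { τ with
      commutes' := fun r => by
        have := congrArg (fun h : R →+* ResidueField S => h r) hτ
        simp only [RingHom.comp_apply] at this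
        show τ (algebraMap R q.ResidueField r) = _
        rw [this, IsScalarTower.algebraMap_apply R S (ResidueField S), ResidueField.algebraMap_eq] }
  have hτ' : ∀ x, τ' x = τ x := fun x => rfl
  -- T → κ(q)
  have hunit : ∀ y : Submonoid.powers g,
      IsUnit ((IsScalarTower.toAlgHom R A q.ResidueField) y) := by
    rintro ⟨_, n, rfl⟩
    show IsUnit (algebraMap A q.ResidueField (g ^ n))
    rw [map_pow]
    refine IsUnit.pow _ ?_
    rw [isUnit_iff_ne_zero, Ne, Ideal.algebraMap_residueField_eq_zero]
    exact hgq
  let ρ : T →ₐ[R] q.ResidueField := IsLocalization.liftAlgHom (M := Submonoid.powers g) hunit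
  have hρ : ∀ a : A, ρ (algebraMap A T a) = algebraMap A q.ResidueField a := by
    intro a
    show IsLocalization.lift hunit (algebraMap A T a) = _
    rw [IsLocalization.lift_eq]
    rfl
  let σ : T →ₐ[R] ResidueField S := τ'.comp ρ
  obtain ⟨φ, hφ, hφuniq⟩ :=
    Groth.Agent.Lib.Helper12.existsUnique_lift_of_standardEtalePresentation P σ
  let F : A →ₐ[R] S := φ.comp (IsScalarTower.toAlgHom R A T)
  have hF : ∀ a : A, residue S (F a) = τ (algebraMap A q.ResidueField a) := by
    intro a
    show residue S (φ (algebraMap A T a)) = _
    rw [hφ]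
    show τ' (ρ (algebraMap A T a)) = _
    rw [hρ, hτ']
  have hcomap : ∀ (F' : A →ₐ[R] S),
      (∀ a : A, residue S (F' a) = τ (algebraMap A q.ResidueField a)) →
      Ideal.comap F'.toRingHom (maximalIdeal S) = q := by
    intro F' hF'
    ext a
    rw [Ideal.mem_comap]
    show F' a ∈ maximalIdeal S ↔ _
    rw [← residue_eq_zero_iff, hF', map_eq_zero_iff τ τ.injective,
      Ideal.algebraMap_residueField_eq_zero]
  refine ⟨F, ⟨hcomap F hF, hF⟩, ?_⟩
  rintro F' ⟨-, hF'⟩
  -- F' factors through T
  have hunit' : ∀ y : Submonoid.powers g, IsUnit (F' y) := by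
    rintro ⟨_, n, rfl⟩
    show IsUnit (F' (g ^ n))
    rw [map_pow]
    refine IsUnit.pow _ ?_
    apply isUnit_of_map_unit (residue S)
    rw [hF', isUnit_iff_ne_zero, Ne, map_eq_zero_iff τ τ.injective,
      Ideal.algebraMap_residueField_eq_zero]
    exact hgq
  let φ' : T →ₐ[R] S := IsLocalization.liftAlgHom (M := Submonoid.powers g) hunit'
  have hφ'A : ∀ a : A, φ' (algebraMap A T a) = F' a := by
    intro a
    show IsLocalization.lift hunit' (algebraMap A T a) = _
    rw [IsLocalization.lift_eq]
    rfl
  have hφ'σ : ∀ t, residue S (φ' t) = σ t := by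
    have : ((IsScalarTower.toAlgHom R S (ResidueField S)).comp φ').toRingHom = σ.toRingHom := by
      apply IsLocalization.ringHom_ext (Submonoid.powers g)
      ext a
      show residue S (φ' (algebraMap A T a)) = τ' (ρ (algebraMap A T a))
      rw [hφ'A, hF', hρ, hτ']
    intro t
    exact RingHom.congr_fun this t
  have heq : φ' = φ := hφuniq φ' hφ'σ
  ext a
  show F' a = φ (algebraMap A T a)
  rw [← heq, hφ'A]

end Groth.Agent.S0501
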