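import Groth.Statements.S9297
import Mathlib
import Groth.Agent.Lib.Helper21.CatKit2
import Groth.Agent.Lib.Helper21.FlatLocal16

set_option autoImplicit false
universe u
open EGA4

namespace Groth.Agent.S9297

open Groth.Agent.Lib.Helper21 Order

theorem cancel_nat (d : ℕ) (x y : WithBot ℕ∞)
    (h : ((d : ℕ∞) : WithBot ℕ∞) + x = ((d : ℕ∞) : WithBot ℕ∞) + y) : x = y := by
  induction x with
  | bot =>
    induction y with
    | bot => rfl
    | coe y =>
      rw [WithBot.add_bot, ← WithBot.coe_add] at h
      exact absurd h.symm WithBot.coe_ne_bot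
  | coe x =>
    induction y with
    | bot =>
      rw [WithBot.add_bot, ← WithBot.coe_add] at h
      exact absurd h WithBot.coe_ne_bot
    | coe y =>
      have h' : (d : ℕ∞) + x = d + y := by exact_mod_cast h
      have := ENat.add_right_injective_of_ne_top (ENat.natCast_ne_top d) h'
      rw [this]

/-- if all `R/P` (P minimal) have the same dimension `c`, `R` is equidimensional -/
theorem isEquidim_of_forall_eq (R : Type u) [CommRing R] (c : WithBot ℕ∞)
    (h : ∀ P ∈ minimalPrimes R, ringKrullDim (R ⧸ P) = c) : EGA4.IsEquidim R := by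
  intro P hP
  refine le_antisymm (ringKrullDim_quotient_le P) ?_
  rw [h P hP]
  rw [ringKrullDim, Order.krullDim_eq_iSup_coheight]
  refine iSup_le fun a => ?_
  obtain ⟨P', hP', hle⟩ := Ideal.exists_minimalPrimes_le (I := (⊥ : Ideal R)) (J := a.asIdeal) bot_le
  haveI := hP'.1.1
  have h1 := h P' hP'
  rw [CatKit.ringKrullDim_quotient_eq_coheight ⟨P', hP'.1.1⟩] at h1
  rw [← h1]
  have : coheight a ≤ coheight (⟨P', hP'.1.1⟩ : PrimeSpectrum R) :=
    coheight_anti (by rw [← PrimeSpectrum.asIdeal_le_asIdeal]; exact hle)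
  exact_mod_cast this


/-- Let A → B be a flat local homomorphism of Noetherian local rings with B catenary and Spec(B)
equidimensional. Then Spec(B/pB) is equidimensional for every prime p of A. -/
theorem result (A B : Type u) [CommRing A] [CommRing B]
    [IsNoetherianRing A] [IsNoetherianRing B] [IsLocalRing A] [IsLocalRing B] [Algebra A B]
    [IsLocalHom (algebraMap A B)] [Module.Flat A B] (hcat : CAlg.IsCatenary B) (heq : EGA4.IsEquidim B)
    (p : Ideal A) [p.IsPrime] : EGA4.IsEquidim (B ⧸ Ideal.map (algebraMap A B) p) := by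
  -- key: for Q minimal over pB, ht Q + dim B/Q = dim B and ht Q = ht p
  have key : ∀ Q ∈ (p.map (algebraMap A B)).minimalPrimes,
      ((p.height : ℕ∞) : WithBot ℕ∞) + ringKrullDim (B ⧸ Q) = ringKrullDim B := by
    intro Q hQ
    haveI := hQ.1.1
    -- Q lies over p
    have hunder : Q.under A = p := by
      have hle : p ≤ Q.under A := by
        rw [Ideal.under_def, ← Ideal.map_le_iff_le_comap]; exact hQ.1.2
      by_contra hne
      have hlt : p < Q.under A := lt_of_le_of_ne hle (Ne.symm hne)
      obtain ⟨P, hPQ, hPprime, hPover⟩ :=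
        Algebra.HasGoingDown.exists_ideal_le_liesOver_of_lt (p := p) Q hlt
      have hP1 : p.map (algebraMap A B) ≤ P := by
        rw [Ideal.map_le_iff_le_comap, ← Ideal.under_def, ← hPover.over]
      have hQP : Q ≤ P := hQ.2 ⟨hPprime, hP1⟩ hPQ
      have : P = Q := le_antisymm hPQ hQP
      subst this
      exact hne hPover.over.symm
    have hmin : Q ∈ ((Q.under A).map (algebraMap A B)).minimalPrimes := by rw [hunder]; exact hQ
    have hht : Q.height = p.height := by
      rw [FlatLocal.height_eq_of_minimal (A := A) Q hmin, hunder]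
    obtain ⟨p₀, hp₀, _, h3⟩ := CatKit.exists_minimalPrimes_height_add_dim hcat ⟨Q, hQ.1.1⟩
    rw [heq _ hp₀] at h3
    rw [← hht]
    exact h3
  obtain ⟨d, hd⟩ : ∃ d : ℕ, p.height = d := by
    have := Ideal.height_lt_top (I := p) (Ideal.IsPrime.ne_top ‹p.IsPrime›)
    exact ⟨_, (ENat.coe_toNat this.ne).symm⟩
  -- pick a reference
  by_cases hne : (p.map (algebraMap A B)).minimalPrimes = ∅
  · exfalso
    have hne_top : p.map (algebraMap A B) ≠ ⊤ := by
      intro htop
      have h1 : p.map (algebraMap A B) ≤ IsLocalRing.maximalIdeal B := by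
        refine (Ideal.map_mono (IsLocalRing.le_maximalIdeal (Ideal.IsPrime.ne_top ‹p.IsPrime›))).trans ?_
        exact ((IsLocalRing.local_hom_TFAE (algebraMap A B)).out 0 2).1 ‹IsLocalHom (algebraMap A B)›
      rw [htop] at h1
      exact (IsLocalRing.maximalIdeal.isMaximal B).ne_top (top_le_iff.1 h1)
    obtain ⟨Q, hQ⟩ := Ideal.nonempty_minimalPrimes hne_top
    rw [hne] at hQ
    exact hQ
  obtain ⟨Q₀, hQ₀⟩ := Set.nonempty_iff_ne_empty.2 hne
  apply isEquidim_of_forall_eq _ (ringKrullDim (B ⧸ Q₀))
  intro P hP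
  haveI := hP.1.1
  have hQ : P.comap (Ideal.Quotient.mk (p.map (algebraMap A B))) ∈
      (p.map (algebraMap A B)).minimalPrimes := by
    rw [Ideal.minimalPrimes_eq_comap]
    exact ⟨P, hP, rfl⟩
  have e : (B ⧸ P.comap (Ideal.Quotient.mk (p.map (algebraMap A B)))) ≃+*
      ((B ⧸ p.map (algebraMap A B)) ⧸ P) := by
    refine (Ideal.quotEquivOfEq ?_).trans (RingHom.quotientKerEquivOfSurjective
      (f := (Ideal.Quotient.mk P).comp (Ideal.Quotient.mk (p.map (algebraMap A B)))) ?_)
    · ext x
      simp [RingHom.mem_ker, Ideal.Quotient.eq_zero_iff_mem]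
    · exact Ideal.Quotient.mk_surjective.comp Ideal.Quotient.mk_surjective
  rw [← ringKrullDim_eq_of_ringEquiv e]
  have k1 := key _ hQ
  have k2 := key _ hQ₀
  rw [hd] at k1 k2
  rw [← k2] at k1
  exact cancel_nat d _ _ k1

end Groth.Agent.S9297
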