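import Groth.Statements.S19858
import Mathlib
import Groth.Agent.Lib.Helper21.NormalKit
import Groth.Agent.Lib.Helper21.FlatLocal12

set_option autoImplicit false
universe u
open EGA4

namespace Groth.Agent.S19858

open Groth.Agent.Lib.Helper21 TensorProduct

attribute [local instance] Algebra.TensorProduct.rightAlgebra


/-- Let A → B → C be homomorphisms of Noetherian rings such that C is faithfully flat over B and the
composite A → C is a normal homomorphism (flat, with geometrically normal fibres). Then A → B is a
normal homomorphism. (In the source C is the adic completion of A along an ideal and A → C is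
assumed normal; only the faithful flatness of B → C and the normality of A → C enter, so C is an
arbitrary Noetherian ring here.) -/
theorem result (A B C : Type u)
    [CommRing A] [CommRing B] [CommRing C] [IsNoetherianRing A] [IsNoetherianRing B] [IsNoetherianRing C]
    [Algebra A B] [Algebra B C] [Algebra A C] [IsScalarTower A B C] [Module.FaithfullyFlat B C]
    (hAC : EGA4.IsNormalHom A C) : EGA4.IsNormalHom A B := by
  haveI := hAC.1
  refine ⟨FlatLocal.flat_of_faithfullyFlat_comp A B C, ?_⟩
  intro p hp k' _ _ hfin
  letI : Algebra A k' :=
    ((algebraMap p.ResidueField k').comp (algebraMap A p.ResidueField)).toAlgebra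
  haveI : IsScalarTower A p.ResidueField k' := IsScalarTower.of_algebraMap_eq fun _ => rfl
  have eB := Algebra.TensorProduct.cancelBaseChange A p.ResidueField k' k' B
  have eC := Algebra.TensorProduct.cancelBaseChange A p.ResidueField k' k' C
  have h1 : EGA4.IsNormalRing (k' ⊗[A] C) :=
    NormalKit.isNormalRing_of_ringEquiv eC.toRingEquiv (hAC.2 p k' hfin)
  have e2 := Algebra.IsPushout.cancelBaseChangeAlg A k' B (k' ⊗[A] B) C
  have h2 : EGA4.IsNormalRing ((k' ⊗[A] B) ⊗[B] C) :=
    NormalKit.isNormalRing_of_ringEquiv e2.symm.toRingEquiv h1
  have h3 : EGA4.IsNormalRing (k' ⊗[A] B) := NormalKit.isNormalRing_of_faithfullyFlat h2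
  exact NormalKit.isNormalRing_of_ringEquiv eB.symm.toRingEquiv h3

end Groth.Agent.S19858
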