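import Groth.Statements.S4696
import Mathlib
import Groth.Agent.Lib.Helper21.GeomRed
import Groth.Agent.Lib.Helper21.NormalKit
import Groth.Agent.S2611

set_option autoImplicit false
universe u
open EGA4

namespace Groth.Agent.S4696

open Groth.Agent.Lib.Helper21 TensorProduct

attribute [local instance] Algebra.TensorProduct.rightAlgebra


/-- Case of normal morphisms, affine form: let A → B → C be homomorphisms of Noetherian rings. If A → B
and B → C are normal (flat, with geometrically normal fibres) then the composite A → C is normal. -/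
theorem result (A B C : Type u) [CommRing A] [CommRing B] [CommRing C] [IsNoetherianRing A]
    [IsNoetherianRing B] [IsNoetherianRing C] [Algebra A B] [Algebra B C] [Algebra A C] [IsScalarTower A B C]
    (hAB : EGA4.IsNormalHom A B) (hBC : EGA4.IsNormalHom B C) : EGA4.IsNormalHom A C := by
  haveI := hAB.1
  haveI := hBC.1
  refine ⟨Module.Flat.trans A B C, ?_⟩
  intro p hp k' _ _ hfin
  haveI := hfin
  letI : Algebra A k' :=
    ((algebraMap p.ResidueField k').comp (algebraMap A p.ResidueField)).toAlgebra
  haveI : IsScalarTower A p.ResidueField k' := IsScalarTower.of_algebraMap_eq fun _ => rfl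
  have eB := Algebra.TensorProduct.cancelBaseChange A p.ResidueField k' k' B
  have eC := Algebra.TensorProduct.cancelBaseChange A p.ResidueField k' k' C
  have hT : EGA4.IsNormalRing (k' ⊗[A] B) :=
    NormalKit.isNormalRing_of_ringEquiv eB.toRingEquiv (hAB.2 p k' hfin)
  haveI : IsNoetherianRing (k' ⊗[A] B) := GeomRed.isNoetherianRing_tensor_of_finite p B k'
  haveI : IsNoetherianRing (k' ⊗[A] C) := GeomRed.isNoetherianRing_tensor_of_finite p C k'
  have e2 := Algebra.IsPushout.cancelBaseChangeAlg A k' B (k' ⊗[A] B) C
  haveI : IsNoetherianRing ((k' ⊗[A] B) ⊗[B] C) :=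
    isNoetherianRing_of_ringEquiv _ e2.symm.toRingEquiv
  have hU : EGA4.IsNormalRing ((k' ⊗[A] B) ⊗[B] C) := by
    intro Q hQ
    obtain ⟨h1, h2⟩ := hT (Q.comap (algebraMap (k' ⊗[A] B) ((k' ⊗[A] B) ⊗[B] C)))
    haveI := h1
    haveI := h2
    apply Groth.Agent.S2611.result (k' ⊗[A] B) ((k' ⊗[A] B) ⊗[B] C) _ Q
    intro Q' hQ'
    obtain ⟨Q'', hQ'', hQ''eq⟩ := FlatLocal.exists_fiber_prime (Q'.under (k' ⊗[A] B)) Q' rfl
    apply NormalKit.fibLocRing_normal_of_fiber (Q'.under (k' ⊗[A] B)) Q'' _ Q' hQ''eq
    set P := Q'.under (k' ⊗[A] B) with hP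
    have e3 := Algebra.TensorProduct.cancelBaseChange B (k' ⊗[A] B) P.ResidueField P.ResidueField C
    have key : ∀ (q : Ideal B) [q.IsPrime]
        (hq : q = P.comap (Algebra.TensorProduct.includeRight : B →ₐ[A] k' ⊗[A] B).toRingHom),
        EGA4.IsNormalRing (P.ResidueField ⊗[B] C) := by
      intro q _ hq
      have hpq : p = q.comap (algebraMap A B) := by
        rw [hq]
        exact GeomRed.comap_tensor_eq p P
      letI : Algebra q.ResidueField P.ResidueField := (Ideal.ResidueField.map q P _ hq).toAlgebra
      have hfinP : Module.Finite q.ResidueField P.ResidueField :=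
        GeomRed.finite_residueField_tensor p P q hq hpq
      haveI : IsScalarTower B q.ResidueField P.ResidueField := by
        refine IsScalarTower.of_algebraMap_eq fun b => ?_
        have h1 : algebraMap q.ResidueField P.ResidueField (algebraMap B q.ResidueField b) =
            algebraMap (k' ⊗[A] B) P.ResidueField
              ((Algebra.TensorProduct.includeRight : B →ₐ[A] k' ⊗[A] B).toRingHom b) :=
          Ideal.ResidueField.map_algebraMap q P _ hq b
        rw [h1, IsScalarTower.algebraMap_apply B (k' ⊗[A] B) P.ResidueField]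
        rfl
      have e4 := Algebra.TensorProduct.cancelBaseChange B q.ResidueField P.ResidueField
        P.ResidueField C
      exact NormalKit.isNormalRing_of_ringEquiv e4.toRingEquiv (hBC.2 q P.ResidueField hfinP)
    exact NormalKit.isNormalRing_of_ringEquiv e3.symm.toRingEquiv (key _ rfl)
  exact NormalKit.isNormalRing_of_ringEquiv (e2.toRingEquiv.trans eC.symm.toRingEquiv) hU

end Groth.Agent.S4696
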