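import Groth.Statements.S9829
import Groth.Agent.Lib.helper19.RegularLocal
import Mathlib.RingTheory.IntegralClosure.IsIntegral.AlmostIntegral
import Mathlib.RingTheory.Filtration
import Mathlib.Tactic

set_option autoImplicit false
universe u
open CAlg

namespace Groth.Agent.S9829

open IsLocalRing

section
variable {A : Type u} [CommRing A] [IsDomain A]

/-- `Int a b`: the fraction `a / b` is integral over `A`. -/
def Int (a b : A) : Prop :=
  IsIntegral A (algebraMap A (FractionRing A) a / algebraMap A (FractionRing A) b)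

theorem int_iff [IsNoetherianRing A] {a b : A} (hb : b ≠ 0) :
    Int a b ↔ ∃ c : A, c ≠ 0 ∧ ∀ n : ℕ, b ^ n ∣ c * a ^ n := by
  have hb' : algebraMap A (FractionRing A) b ≠ 0 := by
    simpa using hb
  rw [Int, ← isAlmostIntegral_iff_isIntegral]
  constructor
  · rintro ⟨c, hc, h⟩
    refine ⟨c, nonZeroDivisors.ne_zero hc, fun n => ?_⟩
    obtain ⟨y, hy⟩ := h n
    refine ⟨y, ?_⟩
    apply IsFractionRing.injective A (FractionRing A)
    rw [Algebra.smul_def, div_pow] at hy
    simp only [map_mul, map_pow]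
    field_simp at hy
    rw [← hy]; ring
  · rintro ⟨c, hc, h⟩
    refine ⟨c, mem_nonZeroDivisors_of_ne_zero hc, fun n => ?_⟩
    obtain ⟨y, hy⟩ := h n
    refine ⟨y, ?_⟩
    have := congrArg (algebraMap A (FractionRing A)) hy
    simp only [map_mul, map_pow] at this
    rw [Algebra.smul_def, div_pow]
    field_simp
    rw [this]; ring

theorem ic_iff : IsIntegrallyClosed A ↔ ∀ a b : A, b ≠ 0 → Int a b → b ∣ a := by
  rw [isIntegrallyClosed_iff (FractionRing A)]
  constructor
  · intro h a b hb hab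
    have hb' : algebraMap A (FractionRing A) b ≠ 0 := by simpa using hb
    obtain ⟨y, hy⟩ := h hab
    refine ⟨y, ?_⟩
    apply IsFractionRing.injective A (FractionRing A)
    rw [map_mul, hy]
    field_simp
  · intro h z hz
    obtain ⟨a, b, hb, rfl⟩ := IsFractionRing.div_surjective (A := A) z
    have hb0 : b ≠ 0 := nonZeroDivisors.ne_zero hb
    have hb' : algebraMap A (FractionRing A) b ≠ 0 := by simpa using hb0
    obtain ⟨y, rfl⟩ := h a b hb0 hz
    refine ⟨y, ?_⟩
    rw [map_mul]
    field_simp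

/-- Cancel a power of a prime `x` not dividing `b`. -/
theorem cancel_pow {x b w : A} (hx : Prime x) (hxb : ¬ x ∣ b) (n j : ℕ)
    (h : b ^ n ∣ x ^ j * w) : b ^ n ∣ w := by
  obtain ⟨u, hu⟩ := h
  have h1 : x ^ j ∣ b ^ n * u := ⟨w, hu.symm⟩
  have h2 : ¬ x ∣ b ^ n := fun h => hxb (hx.dvd_of_dvd_pow h)
  obtain ⟨u', rfl⟩ := hx.pow_dvd_of_dvd_mul_left j h2 h1
  refine ⟨u', ?_⟩
  have hx0 : x ^ j ≠ 0 := pow_ne_zero _ hx.ne_zero
  apply mul_left_cancel₀ hx0
  rw [hu]; ring

theorem krull_dvd [IsNoetherianRing A] {x c : A} (hx : ¬ IsUnit x) (h : ∀ n : ℕ, x ^ n ∣ c) :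
    c = 0 := by
  have hI : Ideal.span ({x} : Set A) ≠ ⊤ := by
    rwa [Ne, Ideal.span_singleton_eq_top]
  have := Ideal.iInf_pow_eq_bot_of_isDomain (Ideal.span ({x} : Set A)) hI
  have hc : c ∈ ⨅ i : ℕ, Ideal.span ({x} : Set A) ^ i := by
    rw [Ideal.mem_iInf]
    intro i
    rw [Ideal.span_singleton_pow, Ideal.mem_span_singleton]
    exact h i
  rw [this] at hc
  simpa using hc

theorem int_cancel [IsNoetherianRing A] {x a b' : A} (hx : Prime x) (hb' : b' ≠ 0)
    (h : Int a (x * b')) : ∃ a', a = x * a' ∧ Int a' b' := by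
  have hxb : x * b' ≠ 0 := mul_ne_zero hx.ne_zero hb'
  obtain ⟨c, hc, hdiv⟩ := (int_iff hxb).mp h
  have hxa : x ∣ a := by
    by_contra hxa
    apply hc
    apply krull_dvd hx.not_isUnit
    intro n
    have h1 : x ^ n ∣ c * a ^ n := by
      refine dvd_trans ?_ (hdiv n)
      rw [mul_pow]; exact dvd_mul_right _ _
    have h2 : ¬ x ∣ a ^ n := fun h => hxa (hx.dvd_of_dvd_pow h)
    exact hx.pow_dvd_of_dvd_mul_right n h2 h1
  obtain ⟨a', rfl⟩ := hxa
  refine ⟨a', rfl, (int_iff hb').mpr ⟨c, hc, fun n => ?_⟩⟩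
  have := hdiv n
  rw [mul_pow, mul_pow, mul_left_comm] at this
  exact (mul_dvd_mul_iff_left (pow_ne_zero n hx.ne_zero)).mp this

theorem int_peel [IsNoetherianRing A] {x a1 b : A} (hx : Prime x) (hb : b ≠ 0) (hxb : ¬ x ∣ b)
    (h : Int (x * a1) b) : Int a1 b := by
  obtain ⟨c, hc, hdiv⟩ := (int_iff hb).mp h
  refine (int_iff hb).mpr ⟨c, hc, fun n => ?_⟩
  have := hdiv n
  rw [mul_pow, mul_left_comm] at this
  exact cancel_pow hx hxb n n this

theorem int_sub {a b : A} (hb : b ≠ 0) (r : A) (h : Int a b) : Int (a - b * r) b := by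
  have hb' : algebraMap A (FractionRing A) b ≠ 0 := by simpa using hb
  unfold Int at h ⊢
  have : algebraMap A (FractionRing A) (a - b * r) / algebraMap A (FractionRing A) b
      = algebraMap A (FractionRing A) a / algebraMap A (FractionRing A) b
        - algebraMap A (FractionRing A) r := by
    rw [map_sub, map_mul]; field_simp
  rw [this]
  exact h.sub isIntegral_algebraMap

theorem int_mod [IsNoetherianRing A] {x a b : A} (hx : Prime x) (hb : b ≠ 0) (hxb : ¬ x ∣ b)
    (hq : IsIntegrallyClosed (A ⧸ Ideal.span ({x} : Set A)))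
    (h : Int a b) : ∃ r, x ∣ a - b * r := by
  have hprime : (Ideal.span ({x} : Set A)).IsPrime :=
    (Ideal.span_singleton_prime hx.ne_zero).mpr hx
  obtain ⟨c, hc, hdiv⟩ := (int_iff hb).mp h
  have hfin : FiniteMultiplicity x c := FiniteMultiplicity.of_not_isUnit hx.not_isUnit hc
  obtain ⟨c0, hc0, hxc0⟩ := hfin.exists_eq_pow_mul_and_not_dvd
  set π := Ideal.Quotient.mk (Ideal.span ({x} : Set A)) with hπdef
  have hπ : ∀ z, π z = 0 ↔ x ∣ z := fun z => by
    rw [Ideal.Quotient.eq_zero_iff_mem, Ideal.mem_span_singleton]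
  have hπb : π b ≠ 0 := fun h => hxb ((hπ b).mp h)
  have hπc : π c0 ≠ 0 := fun h => hxc0 ((hπ c0).mp h)
  have hint : Int (π a) (π b) := by
    refine (int_iff hπb).mpr ⟨π c0, hπc, fun n => ?_⟩
    have h1 := hdiv n
    rw [hc0, mul_assoc] at h1
    have h2 := cancel_pow hx hxb n _ h1
    have := map_dvd π h2
    simpa using this
  obtain ⟨rbar, hr⟩ := (ic_iff.mp hq) (π a) (π b) hπb hint
  obtain ⟨r, rfl⟩ := Ideal.Quotient.mk_surjective rbar
  refine ⟨r, (hπ _).mp ?_⟩
  rw [map_sub, map_mul, hr, sub_self]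

theorem int_approx [IsNoetherianRing A] {x b : A} (hx : Prime x) (hb : b ≠ 0) (hxb : ¬ x ∣ b)
    (hq : IsIntegrallyClosed (A ⧸ Ideal.span ({x} : Set A))) :
    ∀ (n : ℕ) (a : A), Int a b → ∃ r, x ^ n ∣ a - b * r := by
  intro n
  induction n with
  | zero => intro a _; exact ⟨0, by simp⟩
  | succ n ih =>
    intro a ha
    obtain ⟨r0, a1, h1⟩ := int_mod hx hb hxb hq ha
    have h2 : Int (x * a1) b := h1 ▸ int_sub hb r0 ha
    obtain ⟨r1, s, hs⟩ := ih a1 (int_peel hx hb hxb h2)
    refine ⟨r0 + x * r1, s, ?_⟩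
    rw [pow_succ]
    linear_combination h1 + x * hs

omit [IsDomain A] in
theorem dvd_of_approx [IsNoetherianRing A] [IsLocalRing A] {x a b : A} (hx : ¬ IsUnit x)
    (h : ∀ n : ℕ, ∃ r, x ^ n ∣ a - b * r) : b ∣ a := by
  let I := Ideal.span ({x} : Set A)
  let J := Ideal.span ({b} : Set A)
  have hI : I ≠ ⊤ := by rwa [Ne, Ideal.span_singleton_eq_top]
  have key := Ideal.iInf_pow_smul_eq_bot_of_isLocalRing (I := I) (M := A ⧸ J) hI
  have hmem : (Ideal.Quotient.mk J a : A ⧸ J) ∈ (⨅ i : ℕ, I ^ i • ⊤ : Submodule A (A ⧸ J)) := by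
    rw [Submodule.mem_iInf]
    intro n
    obtain ⟨r, s, hs⟩ := h n
    have hbr : Ideal.Quotient.mk J (b * r) = 0 := by
      rw [Ideal.Quotient.eq_zero_iff_mem]
      exact Ideal.mul_mem_right _ _ (Ideal.mem_span_singleton_self b)
    have : (Ideal.Quotient.mk J a : A ⧸ J) = (x ^ n) • (Ideal.Quotient.mk J s) := by
      have h3 : a = b * r + x ^ n * s := by linear_combination hs
      rw [h3, map_add, hbr, zero_add, map_mul]
      rfl
    rw [this]
    exact Submodule.smul_mem_smul (Ideal.pow_mem_pow (Ideal.mem_span_singleton_self x) n)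
      Submodule.mem_top
  rw [key] at hmem
  have : Ideal.Quotient.mk J a = 0 := by simpa using hmem
  rwa [Ideal.Quotient.eq_zero_iff_mem, Ideal.mem_span_singleton] at this

theorem lift_ic [IsNoetherianRing A] [IsLocalRing A] {x : A} (hx : Prime x)
    (hq : IsIntegrallyClosed (A ⧸ Ideal.span ({x} : Set A))) : IsIntegrallyClosed A := by
  rw [ic_iff]
  have Q : ∀ (j : ℕ) (a b : A), b ≠ 0 → ¬ x ^ j ∣ b → Int a b → b ∣ a := by
    intro j
    induction j with
    | zero => intro a b _ h; exact absurd (by simp) h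
    | succ j ih =>
      intro a b hb hj hab
      by_cases hxb : x ∣ b
      · obtain ⟨b', rfl⟩ := hxb
        have hb' : b' ≠ 0 := right_ne_zero_of_mul hb
        obtain ⟨a', rfl, ha'⟩ := int_cancel hx hb' hab
        have : ¬ x ^ j ∣ b' := fun h => hj (by rw [pow_succ']; exact mul_dvd_mul_left x h)
        exact mul_dvd_mul_left x (ih a' b' hb' this ha')
      · exact dvd_of_approx hx.not_isUnit (fun n => int_approx hx hb hxb hq n a hab)
  intro a b hb hab
  have : ∃ j, ¬ x ^ j ∣ b := by
    by_contra h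
    push Not at h
    exact hb (krull_dvd hx.not_isUnit h)
  obtain ⟨j, hj⟩ := this
  exact Q j a b hb hj hab

end

open Groth.Agent.Lib.helper19 in
theorem ic_aux (d : ℕ) : ∀ (R : Type u) [CommRing R]
    [IsRegularLocalRing R], ringKrullDim R = d → IsIntegrallyClosed R := by
  induction d with
  | zero =>
    intro R _ _ hd
    have h0 : (maximalIdeal R).spanFinrank = 0 := by
      have := IsRegularLocalRing.spanFinrank_maximalIdeal (R := R)
      rw [hd] at this; exact_mod_cast this
    have hbot : maximalIdeal R = ⊥ :=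
      (Submodule.spanFinrank_eq_zero_iff_eq_bot (IsNoetherian.noetherian _)).mp h0
    have hF : IsField R := IsLocalRing.isField_iff_maximalIdeal_eq.mpr hbot
    let _ := hF.toField
    infer_instance
  | succ d ih =>
    intro R _ _ hd
    have hm : maximalIdeal R ∉ minimalPrimes R := by
      intro h
      have h1 := Ideal.height_eq_zero_iff.mpr h
      have h2 := IsLocalRing.maximalIdeal_height_eq_ringKrullDim (R := R)
      rw [h1, hd] at h2
      norm_cast at h2
    obtain ⟨x, hx, hx2, -⟩ := exists_mem_maximalIdeal_notMem_sq_notMem_minimalPrimes hm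
    obtain ⟨hreg, hdim⟩ := isRegularLocalRing_quotient_span_singleton hx hx2
    have hdimS : ringKrullDim (R ⧸ Ideal.span ({x} : Set R)) = d := by
      rw [hd] at hdim
      have hn := IsRegularLocalRing.spanFinrank_maximalIdeal (R := R ⧸ Ideal.span ({x} : Set R))
      rw [← hn] at hdim ⊢
      norm_cast at hdim ⊢
      omega
    have hdom : IsDomain (R ⧸ Ideal.span ({x} : Set R)) := isDomain_of_isRegularLocalRing _
    have hprime : (Ideal.span ({x} : Set R)).IsPrime :=
      (Ideal.Quotient.isDomain_iff_prime _).mp hdom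
    have hx0 : x ≠ 0 := fun h => hx2 (h ▸ zero_mem _)
    have hxp : Prime x := (Ideal.span_singleton_prime hx0).mp hprime
    have := isDomain_of_isRegularLocalRing R
    exact lift_ic hxp (ih _ hdimS)


/-- A regular local ring is an integrally closed domain. Hence a scheme all of whose local rings are
regular is normal. -/
theorem result (A : Type u) [CommRing A] [IsRegularLocalRing A] :
    IsIntegrallyClosed A := by
  have h := IsRegularLocalRing.spanFinrank_maximalIdeal (R := A)
  exact ic_aux _ A h.symm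

end Groth.Agent.S9829
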