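import Groth.Statements.S0567
import Mathlib
import Groth.Agent.Lib.Helper12.NagFTJ

set_option autoImplicit false
universe u
open CAlg

namespace Groth.Agent.S0567

/-- A ring is Nagata exactly when it is Noetherian and universally Japanese. -/
theorem result (R : Type u) [CommRing R] :
    CAlg.IsNagata R ↔ (IsNoetherianRing R ∧ CAlg.IsUniversallyJapanese R) := by
  constructor
  · intro hR
    refine ⟨hR.1, fun S _ _ _ hfin => ?_⟩
    haveI := hfin
    exact Groth.Agent.Lib.Helper12.AUn.isN2_of_isNagata S
      (Groth.Agent.Lib.Helper12.NagFT.isNagata_of_finiteType R hR S)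
  · rintro ⟨hnoeth, huj⟩
    refine ⟨hnoeth, fun p hp => ?_⟩
    exact huj (R ⧸ p) (Algebra.FiniteType.of_surjective (Algebra.ofId R (R ⧸ p))
      Ideal.Quotient.mk_surjective)

end Groth.Agent.S0567
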