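import Groth.Statements.S9459
import Mathlib.RingTheory.Localization.AtPrime.Basic
import Mathlib.RingTheory.TensorProduct.Basic

set_option autoImplicit false
universe u
open Hensel

namespace Groth.Agent.S9459

section helpers

open IsLocalRing

/-- lifting a ring hom to the localization at the pullback of the maximal ideal -/
lemma exists_lift_local {A B : Type*} [CommRing A] [CommRing B] [IsLocalRing B]
    (P : Ideal A) [P.IsPrime] (f : A →+* B) (hf : (maximalIdeal B).comap f = P) :
    ∃ f' : Localization.AtPrime P →+* B,
      f'.comp (algebraMap A (Localization.AtPrime P)) = f ∧ IsLocalHom f' := by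
  have hunit : ∀ y : P.primeCompl, IsUnit (f y) := by
    intro y
    rw [← IsLocalRing.notMem_maximalIdeal]
    intro hy
    have : (y : A) ∈ (maximalIdeal B).comap f := hy
    rw [hf] at this
    exact y.2 this
  refine ⟨IsLocalization.lift hunit, IsLocalization.lift_comp hunit, ⟨fun a ha => ?_⟩⟩
  obtain ⟨⟨x, s⟩, rfl⟩ := IsLocalization.mk'_surjective P.primeCompl a
  change IsUnit (IsLocalization.mk' (Localization.AtPrime P) x s)
  change IsUnit (IsLocalization.lift hunit (IsLocalization.mk' (Localization.AtPrime P) x s)) at ha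
  rw [IsLocalization.AtPrime.isUnit_mk'_iff (Localization.AtPrime P) P]
  intro hx
  have h0 : IsLocalization.mk' (Localization.AtPrime P) x s *
      algebraMap A (Localization.AtPrime P) (s : A) = algebraMap A (Localization.AtPrime P) x :=
    IsLocalization.mk'_spec _ x s
  have h1 := congrArg (IsLocalization.lift hunit) h0
  rw [map_mul, IsLocalization.lift_eq, IsLocalization.lift_eq] at h1
  have h2 : IsUnit (f x) := by
    rw [← h1]; exact ha.mul (hunit s)
  rw [← IsLocalRing.notMem_maximalIdeal] at h2
  apply h2
  have : x ∈ (maximalIdeal B).comap f := by rw [hf]; exact hx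
  exact this

/-- a ring hom out of a localization at a prime is local if the maximal ideal pulls back
to the prime -/
lemma isLocalHom_of_comap {A B : Type*} [CommRing A] [CommRing B] [IsLocalRing B]
    (P : Ideal A) [P.IsPrime] (g : Localization.AtPrime P →+* B)
    (hg : (maximalIdeal B).comap (g.comp (algebraMap A (Localization.AtPrime P))) = P) :
    IsLocalHom g := by
  obtain ⟨f', hf', hloc⟩ := exists_lift_local P _ hg
  have : f' = g := IsLocalization.ringHom_ext P.primeCompl hf'
  rw [← this]; exact hloc

theorem key (R S : Type u) [CommRing R] [CommRing S] [Algebra R S] (p : Ideal R) [p.IsPrime]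
    (q : Ideal S) [q.IsPrime] [q.LiesOver p]
    (Rh : Type u) [CommRing Rh] [IsLocalRing Rh] [Algebra (Localization.AtPrime p) Rh]
    [IsLocalHom (algebraMap (Localization.AtPrime p) Rh)]
    [Hensel.IsHenselization (Localization.AtPrime p) Rh] [Algebra R Rh]
    [IsScalarTower R (Localization.AtPrime p) Rh]
    (Sh : Type u) [CommRing Sh] [IsLocalRing Sh] [Algebra (Localization.AtPrime q) Sh]
    [IsLocalHom (algebraMap (Localization.AtPrime q) Sh)]
    [Hensel.IsHenselization (Localization.AtPrime q) Sh] [Algebra S Sh]
    [IsScalarTower S (Localization.AtPrime q) Sh] [Algebra R Sh] [IsScalarTower R S Sh]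
    [Algebra Rh Sh] [IsScalarTower R Rh Sh]
    (D : Type u) [CommRing D] (iL : Rh →+* D) (iR : S →+* D)
    (hcomm : iL.comp (algebraMap R Rh) = iR.comp (algebraMap R S))
    (hepi : ∀ (X : Type u) [CommRing X] (a b : D →+* X),
      a.comp iL = b.comp iL → a.comp iR = b.comp iR → a = b)
    (φ : D →+* Sh) (hφL : φ.comp iL = algebraMap Rh Sh) (hφR : φ.comp iR = algebraMap S Sh)
    (Q : Ideal D) [Q.IsPrime] (hQ : Q = Ideal.comap φ (maximalIdeal Sh))
    (E : Type u) [CommRing E] [IsLocalRing E] [Algebra (Localization.AtPrime Q) E]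
    [IsLocalHom (algebraMap (Localization.AtPrime Q) E)]
    [Hensel.IsHenselization (Localization.AtPrime Q) E] :
    ∃ e : E ≃+* Sh, ∀ d : D,
      e (algebraMap (Localization.AtPrime Q) E (algebraMap D (Localization.AtPrime Q) d)) = φ d := by
  have : HenselianLocalRing Sh := IsHenselization.henselian (R := Localization.AtPrime q)
  have : HenselianLocalRing E := IsHenselization.henselian (R := Localization.AtPrime Q)
  have : HenselianLocalRing Rh := IsHenselization.henselian (R := Localization.AtPrime p)
  -- pullbacks of the maximal ideal of Sh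
  have hS : (maximalIdeal Sh).comap (algebraMap S Sh) = q := by
    rw [IsScalarTower.algebraMap_eq S (Localization.AtPrime q) Sh, ← Ideal.comap_comap,
      IsLocalRing.maximalIdeal_comap]
    exact IsLocalization.AtPrime.under_maximalIdeal _ q
  have hqp : q.comap (algebraMap R S) = p := (Ideal.LiesOver.over (p := p) (P := q)).symm
  -- the map T → Sh
  obtain ⟨φT, hφT, hφTloc⟩ := exists_lift_local Q φ hQ.symm
  obtain ⟨g, hg, -⟩ := IsHenselization.universal (R := Localization.AtPrime Q) (S := E) Sh φT hφTloc
  -- the map S → E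
  set aTE : Localization.AtPrime Q →+* E := algebraMap (Localization.AtPrime Q) E with haTE
  set aDT : D →+* Localization.AtPrime Q := algebraMap D (Localization.AtPrime Q) with haDT
  set fDE : D →+* E := aTE.comp aDT with hfDE
  have hDE : (maximalIdeal E).comap fDE = Q := by
    rw [hfDE, ← Ideal.comap_comap, IsLocalRing.maximalIdeal_comap]
    exact IsLocalization.AtPrime.under_maximalIdeal _ Q
  set fSE : S →+* E := fDE.comp iR with hfSE
  have hSE : (maximalIdeal E).comap fSE = q := by
    rw [hfSE, ← Ideal.comap_comap, hDE, hQ, Ideal.comap_comap, hφR, hS]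
  obtain ⟨ψ, hψ, hψloc⟩ := exists_lift_local q fSE hSE
  obtain ⟨h, hh, -⟩ := IsHenselization.universal (R := Localization.AtPrime q) (S := Sh) E ψ hψloc
  -- elementwise forms
  have hg' : ∀ t, g (aTE t) = φT t := fun t => RingHom.congr_fun hg t
  have hφT' : ∀ d, φT (aDT d) = φ d := fun d => RingHom.congr_fun hφT d
  have hψ' : ∀ s, ψ (algebraMap S (Localization.AtPrime q) s) = fSE s :=
    fun s => RingHom.congr_fun hψ s
  have hh' : ∀ x, h (algebraMap (Localization.AtPrime q) Sh x) = ψ x :=
    fun x => RingHom.congr_fun hh x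
  have hφR' : ∀ s, φ (iR s) = algebraMap S Sh s := fun s => RingHom.congr_fun hφR s
  have hφL' : ∀ a, φ (iL a) = algebraMap Rh Sh a := fun a => RingHom.congr_fun hφL a
  have hcomm' : ∀ r, iL (algebraMap R Rh r) = iR (algebraMap R S r) :=
    fun r => RingHom.congr_fun hcomm r
  have hfSE' : ∀ s, fSE s = aTE (aDT (iR s)) := fun s => rfl
  -- g ∘ h = id
  have hgh : g.comp h = RingHom.id Sh := by
    have h1 : (g.comp h).comp (algebraMap (Localization.AtPrime q) Sh) =
        algebraMap (Localization.AtPrime q) Sh := by
      apply IsLocalization.ringHom_ext q.primeCompl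
      ext s
      simp only [RingHom.comp_apply]
      rw [hh', hψ', hfSE', hg', hφT', hφR', IsScalarTower.algebraMap_apply S
        (Localization.AtPrime q) Sh]
    have h2 : (RingHom.id Sh).comp (algebraMap (Localization.AtPrime q) Sh) =
        algebraMap (Localization.AtPrime q) Sh := RingHom.id_comp _
    exact (IsHenselization.universal (R := Localization.AtPrime q) (S := Sh) Sh
      (algebraMap (Localization.AtPrime q) Sh) inferInstance).unique h1 h2
  -- h ∘ φ = fDE
  have hS' : ∀ s, h (φ (iR s)) = fDE (iR s) := by
    intro s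
    rw [hφR', IsScalarTower.algebraMap_apply S (Localization.AtPrime q) Sh, hh', hψ']
    rfl
  have hR' : (h.comp φ).comp iL = fDE.comp iL := by
    set γ : Localization.AtPrime p →+* E :=
      (fDE.comp iL).comp (algebraMap (Localization.AtPrime p) Rh) with hγ
    have hγR : γ.comp (algebraMap R (Localization.AtPrime p)) = fSE.comp (algebraMap R S) := by
      ext r
      simp only [hγ, RingHom.comp_apply]
      rw [← IsScalarTower.algebraMap_apply R (Localization.AtPrime p) Rh, hcomm']
      rfl
    have hγloc : IsLocalHom γ := by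
      apply isLocalHom_of_comap p
      rw [hγR, ← Ideal.comap_comap, hSE, hqp]
    have h1 : ((h.comp φ).comp iL).comp (algebraMap (Localization.AtPrime p) Rh) = γ := by
      apply IsLocalization.ringHom_ext p.primeCompl
      rw [hγR]
      ext r
      simp only [RingHom.comp_apply]
      rw [← IsScalarTower.algebraMap_apply R (Localization.AtPrime p) Rh, hcomm', hS']
      rfl
    exact (IsHenselization.universal (R := Localization.AtPrime p) (S := Rh) E γ hγloc).unique h1 rfl
  have hhφ : h.comp φ = fDE := hepi E _ _ hR' (RingHom.ext fun s => hS' s)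
  have hhφ' : ∀ d, h (φ d) = aTE (aDT d) := fun d => RingHom.congr_fun hhφ d
  -- h ∘ g = id
  have hhg : h.comp g = RingHom.id E := by
    have h1 : (h.comp g).comp aTE = aTE := by
      apply IsLocalization.ringHom_ext Q.primeCompl
      ext d
      simp only [RingHom.comp_apply]
      change h (g (aTE (aDT d))) = aTE (aDT d)
      rw [hg', hφT', hhφ']
    have h2 : (RingHom.id E).comp aTE = aTE := RingHom.id_comp _
    exact (IsHenselization.universal (R := Localization.AtPrime Q) (S := E) E aTE
      inferInstance).unique h1 h2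
  refine ⟨RingEquiv.ofRingHom g h hgh hhg, fun d => ?_⟩
  change g (aTE (aDT d)) = φ d
  rw [hg', hφT']

end helpers

open TensorProduct in
/-- Let R → S be a ring map, q a prime of S over p, and R^h, S^h henselizations of R_p and S_q, S^h
carrying the compatible R^h-algebra structure (the canonical map R^h → S^h). Let φ : R^h ⊗_R S → S^h
be the induced map and Q the preimage under φ of the maximal ideal (a prime lying over the maximal
ideal of R^h and over q). Then S^h is a henselization of the local ring (R^h ⊗_R S)_Q: for every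
henselization E of (R^h ⊗_R S)_Q there is a ring isomorphism E ≅ S^h compatible with the two maps
from R^h ⊗_R S. -/
theorem result (R : Type u) [CommRing R] (S : Type u)
    [CommRing S] [Algebra R S] (p : Ideal R) [p.IsPrime] (q : Ideal S) [q.IsPrime] [q.LiesOver p]
    (Rh : Type u) [CommRing Rh] [IsLocalRing Rh] [Algebra (Localization.AtPrime p) Rh]
    [IsLocalHom (algebraMap (Localization.AtPrime p) Rh)]
    [Hensel.IsHenselization (Localization.AtPrime p) Rh] [Algebra R Rh]
    [IsScalarTower R (Localization.AtPrime p) Rh]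
    (Sh : Type u) [CommRing Sh] [IsLocalRing Sh] [Algebra (Localization.AtPrime q) Sh]
    [IsLocalHom (algebraMap (Localization.AtPrime q) Sh)]
    [Hensel.IsHenselization (Localization.AtPrime q) Sh] [Algebra S Sh]
    [IsScalarTower S (Localization.AtPrime q) Sh] [Algebra R Sh] [IsScalarTower R S Sh]
    [Algebra Rh Sh] [IsScalarTower R Rh Sh]
    (E : Type u) [CommRing E] [IsLocalRing E]
    [Algebra (Localization.AtPrime (Ideal.comap (Algebra.TensorProduct.lift (IsScalarTower.toAlgHom R Rh Sh) (IsScalarTower.toAlgHom R S Sh)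
          (fun _ _ => Commute.all _ _)) (IsLocalRing.maximalIdeal Sh))) E]
    [IsLocalHom (algebraMap (Localization.AtPrime
      (Ideal.comap (Algebra.TensorProduct.lift (IsScalarTower.toAlgHom R Rh Sh) (IsScalarTower.toAlgHom R S Sh)
          (fun _ _ => Commute.all _ _)) (IsLocalRing.maximalIdeal Sh))) E)]
    [Hensel.IsHenselization (Localization.AtPrime
      (Ideal.comap (Algebra.TensorProduct.lift (IsScalarTower.toAlgHom R Rh Sh) (IsScalarTower.toAlgHom R S Sh)
          (fun _ _ => Commute.all _ _)) (IsLocalRing.maximalIdeal Sh))) E] :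
    ∃ e : E ≃+* Sh, ∀ d : Rh ⊗[R] S,
      e (algebraMap (Localization.AtPrime
        (Ideal.comap (Algebra.TensorProduct.lift (IsScalarTower.toAlgHom R Rh Sh) (IsScalarTower.toAlgHom R S Sh)
          (fun _ _ => Commute.all _ _)) (IsLocalRing.maximalIdeal Sh))) E
        (algebraMap (Rh ⊗[R] S) _ d)) = (Algebra.TensorProduct.lift (IsScalarTower.toAlgHom R Rh Sh) (IsScalarTower.toAlgHom R S Sh)
          (fun _ _ => Commute.all _ _)) d := by
  refine key R S p q Rh Sh (Rh ⊗[R] S) Algebra.TensorProduct.includeLeftRingHom
    (Algebra.TensorProduct.includeRight (R := R) (A := Rh) (B := S)).toRingHom ?_ ?_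
    (Algebra.TensorProduct.lift (IsScalarTower.toAlgHom R Rh Sh) (IsScalarTower.toAlgHom R S Sh)
          (fun _ _ => Commute.all _ _)).toRingHom ?_ ?_
    (Ideal.comap (Algebra.TensorProduct.lift (IsScalarTower.toAlgHom R Rh Sh)
      (IsScalarTower.toAlgHom R S Sh) (fun _ _ => Commute.all _ _)) (IsLocalRing.maximalIdeal Sh))
    rfl E
  · ext r
    simp only [RingHom.comp_apply, Algebra.TensorProduct.includeLeftRingHom_apply,
      AlgHom.toRingHom_eq_coe, RingHom.coe_coe, Algebra.TensorProduct.includeRight_apply]
    rw [Algebra.algebraMap_eq_smul_one, Algebra.algebraMap_eq_smul_one, TensorProduct.smul_tmul]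
  · intro X _ a b hL hR
    apply RingHom.ext
    intro d
    induction d using TensorProduct.induction_on with
    | zero => simp
    | tmul x y =>
      have hx : a (x ⊗ₜ 1) = b (x ⊗ₜ 1) := RingHom.congr_fun hL x
      have hy : a (1 ⊗ₜ y) = b (1 ⊗ₜ y) := RingHom.congr_fun hR y
      have hxy : x ⊗ₜ[R] y = (x ⊗ₜ 1) * (1 ⊗ₜ y) := by
        rw [Algebra.TensorProduct.tmul_mul_tmul, mul_one, one_mul]
      rw [hxy, map_mul, map_mul, hx, hy]
    | add x y hx hy => rw [map_add, map_add, hx, hy]
  · ext x
    simp
  · ext y
    simp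

end Groth.Agent.S9459
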