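import Groth.Statements.S1232
import Mathlib
import Groth.Agent.Lib.Helper24.WeakAss
import Groth.Agent.S9589

set_option autoImplicit false
universe u
open FlatMor

namespace Groth.Agent.S1232

open TensorProduct

/-- Elementwise criterion for being weakly associated. -/
theorem mem_weakAss_iff_crit {R : Type u} [CommRing R] {M : Type u} [AddCommGroup M] [Module R M]
    (p : Ideal R) [hp : p.IsPrime] :
    p ∈ FlatCA.weakAss R M ↔ ∃ x : M, (∀ s : R, s ∉ p → s • x ≠ 0) ∧
      (∀ a ∈ p, ∃ s : R, s ∉ p ∧ ∃ n : ℕ, (s * a ^ n) • x = 0) := by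
  constructor
  · rintro ⟨x, hx⟩
    refine ⟨x, fun s hs h0 => hs (hx.1.2 ?_), fun a ha => ?_⟩
    · rw [Submodule.mem_annihilator_span_singleton]; exact h0
    · obtain ⟨s, hs, n, hn⟩ :=
        Groth.Agent.Lib.Helper24.exists_mul_pow_mem_of_mem_minimalPrimes hx ha
      refine ⟨s, hs, n, ?_⟩
      rwa [Submodule.mem_annihilator_span_singleton] at hn
  · rintro ⟨x, h1, h2⟩
    refine ⟨x, ⟨hp, fun r hr => ?_⟩, fun q hq hqp a ha => ?_⟩
    · by_contra hrp
      rw [Submodule.mem_annihilator_span_singleton] at hr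
      exact h1 r hrp hr
    · obtain ⟨s, hs, n, hn⟩ := h2 a ha
      have hmem : s * a ^ n ∈ q := hq.2 (by
        rw [Submodule.mem_annihilator_span_singleton]; exact hn)
      rcases hq.1.mem_or_mem hmem with h | h
      · exact absurd (hqp h) hs
      · exact hq.1.mem_of_pow_mem n h

/-- Weakly associated primes pass along injective linear maps. -/
theorem weakAss_subset_of_injective {R : Type u} [CommRing R] {M N : Type u} [AddCommGroup M]
    [Module R M] [AddCommGroup N] [Module R N] (f : M →ₗ[R] N) (hf : Function.Injective f) :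
    FlatCA.weakAss R M ⊆ FlatCA.weakAss R N := by
  rintro p ⟨m, hm⟩
  refine ⟨f m, ?_⟩
  have : (Submodule.span R {f m}).annihilator = (Submodule.span R {m}).annihilator := by
    ext r
    rw [Submodule.mem_annihilator_span_singleton, Submodule.mem_annihilator_span_singleton,
      ← map_smul, map_eq_zero_iff f hf]
  rwa [this]

/-- A prime weakly associated to a finite power of a module is weakly associated to it. -/
theorem mem_weakAss_of_pi {R : Type u} [CommRing R] {M : Type u} [AddCommGroup M] [Module R M]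
    {ι : Type u} [Finite ι] (p : Ideal R) [hp : p.IsPrime]
    (h : p ∈ FlatCA.weakAss R (ι → M)) : p ∈ FlatCA.weakAss R M := by
  classical
  haveI := Fintype.ofFinite ι
  rw [mem_weakAss_iff_crit] at h ⊢
  obtain ⟨x, h1, h2⟩ := h
  have hex : ∃ i, ∀ s : R, s ∉ p → s • x i ≠ 0 := by
    by_contra hcon
    push Not at hcon
    choose s hs hs0 using hcon
    have hprod : (∏ i, s i) ∉ p := by
      intro hmem
      obtain ⟨i, -, hi⟩ := (Ideal.IsPrime.prod_mem_iff).mp hmem
      exact hs i hi
    refine h1 _ hprod ?_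
    funext i
    rw [Pi.smul_apply, Pi.zero_apply, ← Finset.mul_prod_erase Finset.univ s (Finset.mem_univ i),
      mul_comm, mul_smul, hs0 i, smul_zero]
  obtain ⟨i, hi⟩ := hex
  refine ⟨x i, hi, fun a ha => ?_⟩
  obtain ⟨s, hs, n, hn⟩ := h2 a ha
  exact ⟨s, hs, n, by simpa using congrFun hn i⟩


/-- Step 2: weakly associated primes of `P ⊗ M` for `P` finite flat are weakly associated to `M`. -/
theorem step2 {A : Type u} [CommRing A] (P : Type u) [AddCommGroup P] [Module A P]
    [Module.Finite A P] [Module.Flat A P] (M : Type u) [AddCommGroup M] [Module A M]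
    (p : Ideal A) [hp : p.IsPrime] (h : p ∈ FlatCA.weakAss A (P ⊗[A] M)) :
    p ∈ FlatCA.weakAss A M := by
  classical
  have hdisj : Disjoint (p.primeCompl : Set A) (p : Set A) := by
    rw [Set.disjoint_left]; intro x hx hx'; exact hx hx'
  have h1 := (Groth.Agent.S9589.result p.primeCompl (P ⊗[A] M) p hdisj).mp h
  rw [Groth.Agent.S9589.result p.primeCompl M p hdisj]
  set Ap := Localization p.primeCompl with hAp
  haveI : IsLocalRing Ap := inferInstanceAs (IsLocalRing (Localization.AtPrime p))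
  set q := Ideal.map (algebraMap A Ap) p with hq
  haveI hqprime : q.IsPrime :=
    IsLocalization.isPrime_of_isPrime_disjoint p.primeCompl Ap p hp hdisj
  haveI : Module.Free Ap (Ap ⊗[A] P) := Module.free_of_flat_of_isLocalRing
  let b := Module.Free.chooseBasis Ap (Ap ⊗[A] P)
  let e1 : LocalizedModule p.primeCompl (P ⊗[A] M) ≃ₗ[Ap] Ap ⊗[A] (P ⊗[A] M) :=
    LocalizedModule.equivTensorProduct p.primeCompl (P ⊗[A] M)
  let e2 : Ap ⊗[A] (P ⊗[A] M) ≃ₗ[Ap] (Ap ⊗[A] P) ⊗[Ap] (Ap ⊗[A] M) :=
    TensorProduct.AlgebraTensorModule.distribBaseChange A Ap P M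
  let e3 : (Ap ⊗[A] P) ⊗[Ap] (Ap ⊗[A] M) ≃ₗ[Ap]
      (Module.Free.ChooseBasisIndex Ap (Ap ⊗[A] P) → Ap) ⊗[Ap] (Ap ⊗[A] M) :=
    TensorProduct.congr b.equivFun (LinearEquiv.refl Ap (Ap ⊗[A] M))
  let e4 : (Module.Free.ChooseBasisIndex Ap (Ap ⊗[A] P) → Ap) ⊗[Ap] (Ap ⊗[A] M) ≃ₗ[Ap]
      (Ap ⊗[A] M) ⊗[Ap] (Module.Free.ChooseBasisIndex Ap (Ap ⊗[A] P) → Ap) :=
    TensorProduct.comm Ap _ _
  let e5 : (Ap ⊗[A] M) ⊗[Ap] (Module.Free.ChooseBasisIndex Ap (Ap ⊗[A] P) → Ap) ≃ₗ[Ap]
      (Module.Free.ChooseBasisIndex Ap (Ap ⊗[A] P) → (Ap ⊗[A] M)) :=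
    TensorProduct.piScalarRight Ap Ap (Ap ⊗[A] M) _
  let e6 : (Ap ⊗[A] M) ≃ₗ[Ap] LocalizedModule p.primeCompl M :=
    (LocalizedModule.equivTensorProduct p.primeCompl M).symm
  let E := e1 ≪≫ₗ e2 ≪≫ₗ e3 ≪≫ₗ e4 ≪≫ₗ e5
  have h2 : q ∈ FlatCA.weakAss Ap
      (Module.Free.ChooseBasisIndex Ap (Ap ⊗[A] P) → (Ap ⊗[A] M)) :=
    weakAss_subset_of_injective E.toLinearMap E.injective h1
  have h3 : q ∈ FlatCA.weakAss Ap (Ap ⊗[A] M) := mem_weakAss_of_pi q h2
  exact weakAss_subset_of_injective e6.toLinearMap e6.injective h3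


/-- For flat `B`, `b ⊗ m = 0` forces `b ∈ Ann(m) • B`. -/
theorem mem_smul_top_of_tmul_eq_zero {A : Type u} [CommRing A] (B : Type u) [AddCommGroup B]
    [Module A B] [Module.Flat A B] {M : Type u} [AddCommGroup M] [Module A M] (m : M) (b : B)
    (h : b ⊗ₜ[A] m = 0) :
    b ∈ ((Submodule.span A {m}).annihilator • (⊤ : Submodule A B)) := by
  set I := (Submodule.span A {m}).annihilator with hI
  -- the injection `A ⧸ I → M`
  let g : (A ⧸ I) →ₗ[A] M := Submodule.liftQ I (LinearMap.toSpanSingleton A M m) (by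
    intro a ha
    rw [hI, Submodule.mem_annihilator_span_singleton] at ha
    simpa [LinearMap.mem_ker] using ha)
  have hg : Function.Injective g := by
    rw [← LinearMap.ker_eq_bot, Submodule.ker_liftQ_eq_bot']
    ext a
    rw [hI, Submodule.mem_annihilator_span_singleton, LinearMap.mem_ker,
      LinearMap.toSpanSingleton_apply]
  have hinj : Function.Injective (g.lTensor B) :=
    Module.Flat.lTensor_preserves_injective_linearMap g hg
  have h0 : b ⊗ₜ[A] (Ideal.Quotient.mk I 1) = 0 := by
    apply hinj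
    rw [map_zero, LinearMap.lTensor_tmul]
    have : g (Ideal.Quotient.mk I 1) = m := by
      change g (Submodule.Quotient.mk 1) = m
      rw [Submodule.liftQ_apply, LinearMap.toSpanSingleton_apply, one_smul]
    rw [this, h]
  have h1 := congrArg (TensorProduct.tensorQuotEquivQuotSMul B I) h0
  rw [map_zero] at h1
  have h2 : TensorProduct.tensorQuotEquivQuotSMul B I (b ⊗ₜ[A] (Ideal.Quotient.mk I 1)) =
      Submodule.Quotient.mk b := by
    simp [TensorProduct.tensorQuotEquivQuotSMul]
  rw [h2, Submodule.Quotient.mk_eq_zero] at h1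
  exact h1


theorem bwd {A B : Type u} [CommRing A] [CommRing B] [Algebra A B] [Module.Finite A B]
    [Module.Flat A B] (M : Type u) [AddCommGroup M] [Module A M] (p : Ideal A) [p.IsPrime]
    (t : Ideal B) [ht : t.IsPrime] [hover : t.LiesOver p]
    (h : p ∈ FlatCA.weakAss A M) : t ∈ FlatCA.weakAss B (B ⊗[A] M) := by
  obtain ⟨m, hm⟩ := h
  have hov : p = t.comap (algebraMap A B) := hover.over
  refine ⟨(1 : B) ⊗ₜ[A] m, ⟨ht, ?_⟩, ?_⟩
  · intro b hb
    rw [Submodule.mem_annihilator_span_singleton, TensorProduct.smul_tmul', smul_eq_mul,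
      mul_one] at hb
    have hmem := mem_smul_top_of_tmul_eq_zero B m b hb
    refine Submodule.smul_induction_on hmem (fun a ha x _ => ?_) (fun x y hx hy => t.add_mem hx hy)
    rw [Algebra.smul_def]
    apply t.mul_mem_right
    have hap : a ∈ p := hm.1.2 ha
    rw [hov] at hap
    exact hap
  · rintro t' ⟨ht', hle⟩ htt'
    have h1 : (Submodule.span A {m}).annihilator ≤ t'.comap (algebraMap A B) := by
      intro a ha
      rw [Ideal.mem_comap]
      apply hle
      rw [Submodule.mem_annihilator_span_singleton] at ha ⊢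
      rw [TensorProduct.smul_tmul', smul_eq_mul, mul_one, Algebra.algebraMap_eq_smul_one,
        TensorProduct.smul_tmul, ha, TensorProduct.tmul_zero]
    have h2 : t'.comap (algebraMap A B) ≤ p := by rw [hov]; exact Ideal.comap_mono htt'
    have h3 : p ≤ t'.comap (algebraMap A B) := hm.2 ⟨Ideal.comap_isPrime _ _, h1⟩ h2
    by_contra hnot
    obtain ⟨x, hxt, hxt'⟩ := Set.not_subset.mp hnot
    have hlt := Ideal.comap_lt_comap_of_integral_mem_sdiff (R := A) htt' ⟨hxt, hxt'⟩
      (Algebra.IsIntegral.isIntegral x)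
    rw [← hov] at hlt
    exact absurd (lt_of_lt_of_le hlt h3) (lt_irrefl _)


/-- If a maximal ideal `t` is minimal over `J` and is cut out from `V(J)` by `y`, then it is
cut out by an element idempotent modulo `J`; consequently there is `e ∉ t` with every element of
`t` nilpotent on `e` modulo `J`. -/
theorem exists_idem {B : Type u} [CommRing B] (J t : Ideal B) (htmax : t.IsMaximal) (hJt : J ≤ t)
    (y : B) (hyt : y ∉ t) (hy : ∀ q : Ideal B, q.IsPrime → J ≤ q → q ≠ t → y ∈ q) :
    ∃ e : B, e ∉ t ∧ ∀ x ∈ t, ∃ n : ℕ, x ^ n * e ∈ J := by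
  obtain ⟨c, k, hk, hck⟩ := htmax.exists_inv hyt
  have hrad : k * y ∈ J.radical := by
    rw [Ideal.radical_eq_sInf, Ideal.mem_sInf]
    rintro q ⟨hJq, hq⟩
    by_cases hqt : q = t
    · rw [hqt]; exact t.mul_mem_right _ hk
    · exact q.mul_mem_left _ (hy q hq hJq hqt)
  obtain ⟨n, hn⟩ := hrad
  have hn' : (k * y) ^ (n + 1) ∈ J := by rw [pow_succ]; exact J.mul_mem_right _ hn
  have hcop : IsCoprime k y := ⟨1, c, by linear_combination hck⟩
  obtain ⟨u, v, huv⟩ := (hcop.pow (m := n + 1) (n := n + 1))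
  set e := v * y ^ (n + 1) with he
  have he1 : e * (1 - e) ∈ J := by
    have : e * (1 - e) = (u * v) * (k * y) ^ (n + 1) := by
      have h1e : 1 - e = u * k ^ (n + 1) := by rw [← huv]; ring
      rw [h1e, he, mul_pow]; ring
    rw [this]; exact J.mul_mem_left _ hn'
  have hpow : ∀ m : ℕ, e ^ (m + 1) - e ∈ J := by
    intro m
    induction m with
    | zero => simp
    | succ m ih =>
      have : e ^ (m + 1 + 1) - e = e * (e ^ (m + 1) - e) - e * (1 - e) := by ring
      rw [this]
      exact J.sub_mem (J.mul_mem_left _ ih) he1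
  have het : e ∉ t := by
    intro hmem
    have h1 : (1 : B) ∈ t := by
      rw [← huv]
      refine t.add_mem (t.mul_mem_left _ ?_) hmem
      rw [pow_succ]; exact t.mul_mem_left _ hk
    exact htmax.ne_top ((Ideal.eq_top_iff_one t).mpr h1)
  refine ⟨e, het, fun x hx => ?_⟩
  have hxe : x * e ∈ J.radical := by
    rw [Ideal.radical_eq_sInf, Ideal.mem_sInf]
    rintro q ⟨hJq, hq⟩
    by_cases hqt : q = t
    · rw [hqt]; exact t.mul_mem_right _ hx
    · apply q.mul_mem_left
      rw [he]
      apply q.mul_mem_left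
      rw [pow_succ]
      exact q.mul_mem_left _ (hy q hq hJq hqt)
  obtain ⟨m, hm⟩ := hxe
  have hm' : (x * e) ^ (m + 1) ∈ J := by rw [pow_succ]; exact J.mul_mem_right _ hm
  refine ⟨m + 1, ?_⟩
  have : x ^ (m + 1) * e = (x * e) ^ (m + 1) - x ^ (m + 1) * (e ^ (m + 1) - e) := by
    rw [mul_pow]; ring
  rw [this]
  exact J.sub_mem hm' (J.mul_mem_left _ (hpow m))

/-- The local lemma: over a local base, a prime of a finite algebra which is minimal over `J`
and lies over the maximal ideal carries an element `e ∉ t` on which the maximal ideal of the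
base acts nilpotently modulo `J`. -/
theorem local_lemma {A' B' : Type u} [CommRing A'] [IsLocalRing A'] [CommRing B'] [Algebra A' B']
    [Module.Finite A' B'] (J t : Ideal B') (ht : t ∈ J.minimalPrimes)
    (hover : t.comap (algebraMap A' B') = IsLocalRing.maximalIdeal A') :
    ∃ e : B', e ∉ t ∧ ∀ a ∈ IsLocalRing.maximalIdeal A',
      ∃ n : ℕ, (algebraMap A' B' a) ^ n * e ∈ J := by
  classical
  haveI htp : t.IsPrime := ht.1.1
  have htmax : t.IsMaximal :=
    Ideal.isMaximal_of_isIntegral_of_isMaximal_comap (R := A') t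
      (hover ▸ IsLocalRing.maximalIdeal.isMaximal A')
  have hfin : ((IsLocalRing.maximalIdeal A').primesOver B').Finite :=
    Algebra.QuasiFinite.finite_primesOver _
  set F := hfin.toFinset.erase t with hF
  have hnot : ¬ ((t : Set B') ⊆ ⋃ q ∈ (↑F : Set (Ideal B')), (q : Set B')) := by
    intro hsub
    have hprime : ∀ q ∈ F, q ≠ t → q ≠ t → (id q : Ideal B').IsPrime := by
      intro q hq _ _
      have : q ∈ (IsLocalRing.maximalIdeal A').primesOver B' :=
        hfin.mem_toFinset.mp (Finset.mem_of_mem_erase hq)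
      exact this.1
    obtain ⟨q, hq, hle⟩ := (Ideal.subset_union_prime (f := id) t t hprime).mp hsub
    have hq' : q ∈ (IsLocalRing.maximalIdeal A').primesOver B' :=
      hfin.mem_toFinset.mp (Finset.mem_of_mem_erase hq)
    have hqt : q ≠ t := Finset.ne_of_mem_erase hq
    exact hqt (htmax.eq_of_le hq'.1.ne_top hle).symm
  obtain ⟨b, hbt, hbF⟩ := Set.not_subset.mp hnot
  have hbF' : ∀ q ∈ F, b ∉ q := by
    intro q hq hbq
    exact hbF (Set.mem_biUnion (Finset.mem_coe.mpr hq) hbq)
  obtain ⟨y, hyt, n, hn⟩ := Groth.Agent.Lib.Helper24.exists_mul_pow_mem_of_mem_minimalPrimes ht hbt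
  have hy : ∀ q : Ideal B', q.IsPrime → J ≤ q → q ≠ t → y ∈ q := by
    intro q hq hJq hqt
    obtain ⟨Q, hQ, hqQ⟩ := Ideal.exists_le_maximal q hq.ne_top
    have hQt : Q ≠ t := by
      rintro rfl
      exact hqt (le_antisymm hqQ (ht.2 ⟨hq, hJq⟩ hqQ))
    have hQover : Q.comap (algebraMap A' B') = IsLocalRing.maximalIdeal A' :=
      IsLocalRing.eq_maximalIdeal (Ideal.isMaximal_comap_of_isIntegral_of_isMaximal (R := A') Q)
    have hQmem : Q ∈ F := by
      rw [hF, Finset.mem_erase]
      refine ⟨hQt, hfin.mem_toFinset.mpr ⟨hQ.isPrime, ⟨hQover.symm⟩⟩⟩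
    have hbq : b ∉ q := fun h => hbF' Q hQmem (hqQ h)
    rcases hq.mem_or_mem (hJq hn) with h | h
    · exact h
    · exact absurd (hq.mem_of_pow_mem n h) hbq
  obtain ⟨e, het, he⟩ := exists_idem J t htmax ht.1.2 y hyt hy
  refine ⟨e, het, fun a ha => he _ ?_⟩
  rw [← hover] at ha
  exact ha


/-- Step 1: for a finite ring map, the contraction of a weakly associated prime is weakly
associated. -/
theorem step1 {A B : Type u} [CommRing A] [CommRing B] [Algebra A B] [Module.Finite A B]
    (N : Type u) [AddCommGroup N] [Module B N] [Module A N] [IsScalarTower A B N]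
    (p : Ideal A) [hp : p.IsPrime] (t : Ideal B) [ht : t.IsPrime] [hover : t.LiesOver p]
    (h : t ∈ FlatCA.weakAss B N) : p ∈ FlatCA.weakAss A N := by
  classical
  have hov : p = t.comap (algebraMap A B) := hover.over
  set S : Submonoid B := Algebra.algebraMapSubmonoid B p.primeCompl with hS
  have hdisj : Disjoint (S : Set B) (t : Set B) := by
    rw [Set.disjoint_left]
    rintro x ⟨a, ha, rfl⟩ hx
    apply ha
    change a ∈ p
    rw [hov]; exact hx
  have h1 := (Groth.Agent.S9589.result S N t hdisj).mp h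
  set Ap := Localization p.primeCompl with hAp
  haveI : IsLocalRing Ap := inferInstanceAs (IsLocalRing (Localization.AtPrime p))
  set BS := Localization S with hBS
  haveI : Module.Finite Ap BS :=
    inferInstanceAs (Module.Finite (Localization.AtPrime p)
      (Localization (Algebra.algebraMapSubmonoid B p.primeCompl)))
  set t' := Ideal.map (algebraMap B BS) t with ht'
  haveI ht'prime : t'.IsPrime := IsLocalization.isPrime_of_isPrime_disjoint S BS t ht hdisj
  obtain ⟨z, hz⟩ := h1
  -- `t'` lies over the maximal ideal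
  have hover' : t'.comap (algebraMap Ap BS) = IsLocalRing.maximalIdeal Ap := by
    have h3 := IsLocalization.comap_map_of_isPrime_disjoint S BS ht hdisj
    rw [Ideal.under_def] at h3
    have hc : (t'.comap (algebraMap Ap BS)).comap (algebraMap A Ap) = p := by
      rw [Ideal.comap_comap, ← IsScalarTower.algebraMap_eq, IsScalarTower.algebraMap_eq A B BS,
        ← Ideal.comap_comap, ht', h3, ← hov]
    have h4 := IsLocalization.map_comap p.primeCompl Ap (t'.comap (algebraMap Ap BS))
    rw [Ideal.under_def, hc] at h4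
    rw [← h4]
    exact Localization.AtPrime.map_eq_maximalIdeal
  obtain ⟨e, het, he⟩ := local_lemma (A' := Ap) (B' := BS) _ t' hz hover'
  have hez : e • z ≠ 0 := by
    intro h0
    apply het
    apply hz.1.2
    rw [Submodule.mem_annihilator_span_singleton]; exact h0
  obtain ⟨⟨n0, s0⟩, hn0⟩ : ∃ x : N × S, LocalizedModule.mk x.1 x.2 = e • z := by
    induction' (e • z) using LocalizedModule.induction_on with n0 s0
    exact ⟨(n0, s0), rfl⟩
  rw [mem_weakAss_iff_crit]
  refine ⟨n0, fun s hs h0 => hez ?_, fun a ha => ?_⟩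
  · rw [← hn0, ← LocalizedModule.zero_mk (1 : S), LocalizedModule.mk_eq]
    refine ⟨⟨algebraMap A B s, s, hs, rfl⟩, ?_⟩
    simp only [smul_zero]
    rw [one_smul]
    change algebraMap A B s • n0 = 0
    rw [algebraMap_smul]; exact h0
  · have ha' : algebraMap A Ap a ∈ IsLocalRing.maximalIdeal Ap := by
      rw [← Localization.AtPrime.map_eq_maximalIdeal]
      exact Ideal.mem_map_of_mem _ ha
    obtain ⟨n, hn⟩ := he _ ha'
    rw [Submodule.mem_annihilator_span_singleton, mul_smul, ← hn0,
      ← IsScalarTower.algebraMap_apply, IsScalarTower.algebraMap_apply A B BS, ← map_pow,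
      algebraMap_smul, LocalizedModule.smul'_mk, ← LocalizedModule.zero_mk (1 : S),
      LocalizedModule.mk_eq] at hn
    obtain ⟨⟨_, s, hs, rfl⟩, hu⟩ := hn
    refine ⟨s, hs, n, ?_⟩
    simp only [smul_zero] at hu
    rw [one_smul] at hu
    change algebraMap A B s • (algebraMap A B a ^ n • n0) = 0 at hu
    rw [← map_pow, algebraMap_smul, algebraMap_smul] at hu
    rw [mul_smul]; exact hu



open TensorProduct in
/-- Let A → B be a finite flat ring map, M an A-module and t a prime of B lying over the prime p of A.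
Then t is a weakly associated prime of the B-module B ⊗_A M if and only if p is a weakly associated
prime of M. -/
theorem result {A B : Type u} [CommRing A] [CommRing B] [Algebra A B] [Module.Finite A B] [Module.Flat A B]
    (M : Type u) [AddCommGroup M] [Module A M] (p : Ideal A) [p.IsPrime] (t : Ideal B) [t.IsPrime] [t.LiesOver p] :
    t ∈ FlatCA.weakAss B (B ⊗[A] M) ↔ p ∈ FlatCA.weakAss A M := by
  constructor
  · intro h
    exact step2 B M p (step1 (B ⊗[A] M) p t h)
  · exact bwd M p t

end Groth.Agent.S1232
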