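import Groth.Statements.S1233
import Mathlib
import Groth.Agent.S1232
import Groth.Agent.S9589

set_option autoImplicit false
universe u
open FlatMor

namespace Groth.Agent.S1233

open TensorProduct

/-- weakAss is invariant under linear equivalences. -/
theorem weakAss_eq_of_equiv {R : Type u} [CommRing R] {M N : Type u} [AddCommGroup M]
    [Module R M] [AddCommGroup N] [Module R N] (e : M ≃ₗ[R] N) :
    FlatCA.weakAss R M = FlatCA.weakAss R N :=
  Set.Subset.antisymm
    (Groth.Agent.S1232.weakAss_subset_of_injective e.toLinearMap e.injective)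
    (Groth.Agent.S1232.weakAss_subset_of_injective e.symm.toLinearMap e.symm.injective)

/-- Transport of weakly associated primes along a semilinear bijection. -/
theorem mem_weakAss_of_semilinear {R R' : Type u} [CommRing R] [CommRing R'] (σ : R ≃+* R')
    {M M' : Type u} [AddCommGroup M] [Module R M] [AddCommGroup M'] [Module R' M']
    (e : M ≃+ M') (he : ∀ (r : R) (m : M), e (r • m) = σ r • e m) (q : Ideal R)
    (h : q ∈ FlatCA.weakAss R M) :
    q.comap (σ.symm : R' →+* R) ∈ FlatCA.weakAss R' M' := by
  haveI hq : q.IsPrime := by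
    obtain ⟨m, hm⟩ := h
    exact hm.1.1
  haveI : (q.comap (σ.symm : R' →+* R)).IsPrime := Ideal.comap_isPrime _ _
  rw [Groth.Agent.S1232.mem_weakAss_iff_crit] at h ⊢
  obtain ⟨x, h1, h2⟩ := h
  refine ⟨e x, fun s hs h0 => ?_, fun a ha => ?_⟩
  · apply h1 (σ.symm s) hs
    apply e.injective
    rw [he, map_zero, RingEquiv.apply_symm_apply, h0]
  · obtain ⟨s, hs, n, hn⟩ := h2 (σ.symm a) ha
    refine ⟨σ s, ?_, n, ?_⟩
    · intro hmem
      apply hs
      have : σ.symm (σ s) ∈ q := hmem
      rwa [RingEquiv.symm_apply_apply] at this
    · have := congrArg e hn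
      rw [he, map_zero, map_mul, map_pow, RingEquiv.apply_symm_apply] at this
      exact this

/-- Localization of a base-changed module. -/
noncomputable def locTensorEquiv {A B : Type u} [CommRing A] [CommRing B] [Algebra A B]
    (S : Submonoid B) (M : Type u) [AddCommGroup M] [Module A M] :
    LocalizedModule S (B ⊗[A] M) ≃ₗ[Localization S] (Localization S) ⊗[A] M :=
  (LocalizedModule.equivTensorProduct S (B ⊗[A] M)) ≪≫ₗ
    (TensorProduct.AlgebraTensorModule.cancelBaseChange A B (Localization S) (Localization S) M)


/-- Base change to a localization of the algebra. -/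
theorem mem_weakAss_iff_loc {A B : Type u} [CommRing A] [CommRing B] [Algebra A B]
    (S : Submonoid B) (M : Type u) [AddCommGroup M] [Module A M] (u : Ideal B) [u.IsPrime]
    (hS : Disjoint (S : Set B) (u : Set B)) :
    u ∈ FlatCA.weakAss B (B ⊗[A] M) ↔
      Ideal.map (algebraMap B (Localization S)) u ∈
        FlatCA.weakAss (Localization S) (Localization S ⊗[A] M) := by
  rw [Groth.Agent.S9589.result S (B ⊗[A] M) u hS, weakAss_eq_of_equiv (locTensorEquiv S M)]

/-- Transport along an algebra isomorphism. -/
theorem mem_weakAss_iff_algEquiv {A B C : Type u} [CommRing A] [CommRing B] [CommRing C]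
    [Algebra A B] [Algebra A C] (φ : B ≃ₐ[A] C) (M : Type u) [AddCommGroup M] [Module A M]
    (u : Ideal B) :
    u ∈ FlatCA.weakAss B (B ⊗[A] M) ↔
      u.comap (φ.symm : C →+* B) ∈ FlatCA.weakAss C (C ⊗[A] M) := by
  let E : B ⊗[A] M ≃ₗ[A] C ⊗[A] M := TensorProduct.congr φ.toLinearEquiv (LinearEquiv.refl A M)
  have hE : ∀ (r : B) (x : B ⊗[A] M), E (r • x) = φ r • E x := by
    intro r x
    induction x using TensorProduct.induction_on with
    | zero => simp
    | tmul b m =>
      simp only [E, TensorProduct.smul_tmul', smul_eq_mul, TensorProduct.congr_tmul,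
        AlgEquiv.toLinearEquiv_apply, map_mul, LinearEquiv.refl_apply]
    | add x y hx hy => rw [smul_add, map_add, hx, hy, map_add, smul_add]
  have hE' : ∀ (r : C) (x : C ⊗[A] M), E.symm (r • x) = φ.symm r • E.symm x := by
    intro r x
    apply E.injective
    rw [hE, LinearEquiv.apply_symm_apply, LinearEquiv.apply_symm_apply, AlgEquiv.apply_symm_apply]
  constructor
  · intro h
    exact mem_weakAss_of_semilinear φ.toRingEquiv E.toAddEquiv hE u h
  · intro h
    have := mem_weakAss_of_semilinear φ.toRingEquiv.symm E.symm.toAddEquiv hE' _ h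
    rw [Ideal.comap_comap] at this
    convert this using 1
    ext x
    simp



open TensorProduct in
/-- Let A → B be an étale ring map, M an A-module and u a prime of B lying over the prime p of A. Then u
is a weakly associated prime of the B-module B ⊗_A M if and only if p is a weakly associated prime
of M. -/
theorem result {A B : Type u} [CommRing A] [CommRing B] [Algebra A B] [Algebra.Etale A B]
    (M : Type u) [AddCommGroup M] [Module A M] (p : Ideal A) [p.IsPrime] (u : Ideal B) [u.IsPrime] [u.LiesOver p] :
    u ∈ FlatCA.weakAss B (B ⊗[A] M) ↔ p ∈ FlatCA.weakAss A M := by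
  classical
  have hov : p = u.comap (algebraMap A B) := Ideal.LiesOver.over
  obtain ⟨f, hfu, hstd⟩ := Algebra.IsEtaleAt.exists_isStandardEtale (R := A) u
  obtain ⟨P⟩ := hstd.nonempty_standardEtalePresentation
  -- the finite free algebra
  let C := AdjoinRoot P.f
  haveI : Module.Finite A C := P.monic_f.finite_adjoinRoot
  haveI : Module.Free A C := P.monic_f.free_adjoinRoot
  let g : C := AdjoinRoot.mk P.f P.g
  let φ : Localization.Away f ≃ₐ[A] Localization.Away g :=
    P.equivRing.trans P.P.equivAwayAdjoinRoot
  have hS : Disjoint ((Submonoid.powers f : Submonoid B) : Set B) (u : Set B) :=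
    (Ideal.disjoint_powers_iff_notMem_of_isPrime _).mpr hfu
  set u1 := Ideal.map (algebraMap B (Localization.Away f)) u with hu1
  haveI hu1p : u1.IsPrime := IsLocalization.isPrime_of_isPrime_disjoint _ _ u inferInstance hS
  set u2 := u1.comap (φ.symm : Localization.Away g →+* Localization.Away f) with hu2
  haveI hu2p : u2.IsPrime := Ideal.comap_isPrime _ _
  set v := u2.comap (algebraMap C (Localization.Away g)) with hv
  haveI hvp : v.IsPrime := Ideal.comap_isPrime _ _
  have hT : Disjoint ((Submonoid.powers g : Submonoid C) : Set C) (v : Set C) := by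
    rw [Set.disjoint_left]
    rintro x hx hxv
    have hunit : IsUnit (algebraMap C (Localization.Away g) x) :=
      IsLocalization.map_units (Localization.Away g) ⟨x, hx⟩
    exact hu2p.ne_top (Ideal.eq_top_of_isUnit_mem _ hxv hunit)
  have hmapv : Ideal.map (algebraMap C (Localization.Away g)) v = u2 :=
    IsLocalization.map_comap (Submonoid.powers g) (Localization.Away g) u2
  haveI : v.LiesOver p := by
    constructor
    rw [Ideal.under_def]
    ext a
    rw [hv, Ideal.mem_comap, Ideal.mem_comap,
      ← IsScalarTower.algebraMap_apply A C (Localization.Away g), hu2, Ideal.mem_comap, hov,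
      Ideal.mem_comap]
    have h1 : (φ.symm : Localization.Away g →+* Localization.Away f)
        (algebraMap A (Localization.Away g) a) = algebraMap A (Localization.Away f) a :=
      φ.symm.commutes a
    rw [h1, IsScalarTower.algebraMap_apply A B (Localization.Away f), hu1]
    have h2 := IsLocalization.comap_map_of_isPrime_disjoint (Submonoid.powers f)
      (Localization.Away f) (I := u) inferInstance hS
    rw [Ideal.under_def] at h2
    conv_lhs => rw [← h2]
    rfl
  rw [mem_weakAss_iff_loc (Submonoid.powers f) M u hS, mem_weakAss_iff_algEquiv φ M,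
    ← Groth.Agent.S1232.result M p v, mem_weakAss_iff_loc (Submonoid.powers g) M v hT, hmapv]

end Groth.Agent.S1233
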