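import Groth.Statements.S4450
import Groth.Agent.Lib.Helper13.DvrDominate

set_option autoImplicit false
universe u
open CategoryTheory CategoryTheory.Limits AlgebraicGeometry
open EGA2

namespace Groth.Agent.S4450

theorem stalkSpecializes_essFiniteType {Y : Scheme.{u}} {y y' : Y} (h : y ⤳ y') :
    (Y.presheaf.stalkSpecializes h).hom.EssFiniteType := by
  obtain ⟨U, hU, hy'U, -⟩ :=
    exists_isAffineOpen_mem_and_subset (U := ⊤) (x := y') (by simp)
  have hyU : y ∈ U := h.mem_open U.isOpen hy'U
  let _ := Y.presheaf.algebra_section_stalk ⟨y, hyU⟩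
  have hloc := hU.isLocalization_stalk ⟨y, hyU⟩
  have hgerm : (Y.presheaf.germ U y hyU).hom.EssFiniteType := by
    have : Algebra.EssFiniteType Γ(Y, U) (Y.presheaf.stalk y) :=
      Algebra.EssFiniteType.of_isLocalization _ (hU.primeIdealOf ⟨y, hyU⟩).asIdeal.primeCompl
    exact RingHom.essFiniteType_algebraMap.mpr this
  have hcomp : Y.presheaf.germ U y' hy'U ≫ Y.presheaf.stalkSpecializes h =
      Y.presheaf.germ U y hyU := TopCat.Presheaf.germ_stalkSpecializes ..
  rw [← hcomp] at hgerm
  exact RingHom.EssFiniteType.of_comp _ hgerm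

theorem exists_finset_closure_of_essFiniteType {O L : Type u} [CommRing O] [Field L]
    (ψ : O →+* L) (h : ψ.EssFiniteType) :
    ∃ T : Finset L, Subfield.closure (Set.range ψ ∪ (T : Set L)) = ⊤ := by
  algebraize [ψ]
  obtain ⟨σ, hσ⟩ := (Algebra.essFiniteType_iff (R := O) (S := L)).mp h
  refine ⟨σ, ?_⟩
  rw [eq_top_iff]
  have hle : ∀ z ∈ Algebra.adjoin O (σ : Set L),
      z ∈ Subfield.closure (Set.range ψ ∪ (σ : Set L)) := by
    intro z hz
    induction hz using Algebra.adjoin_induction with
    | mem x hx => exact Subfield.subset_closure (Or.inr hx)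
    | algebraMap r => exact Subfield.subset_closure (Or.inl ⟨r, rfl⟩)
    | add x y _ _ hx hy => exact add_mem hx hy
    | mul x y _ _ hx hy => exact mul_mem hx hy
  intro s _
  obtain ⟨t, ht, htu, hst⟩ := hσ s
  have ht0 : t ≠ 0 := htu.ne_zero
  have : s = (s * t) / t := by field_simp
  rw [this]
  exact div_mem (hle _ hst) (hle _ ht)

theorem ker_ne_maximalIdeal {X Y : Scheme.{u}} (p : X ⟶ Y) (x : X) (y' : Y)
    (hsp : p.base x ⤳ y') (hne : y' ≠ p.base x) :
    RingHom.ker (Y.presheaf.stalkSpecializes hsp ≫ p.stalkMap x ≫ X.residue x).hom ≠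
      IsLocalRing.maximalIdeal (Y.presheaf.stalk y') := by
  intro hker
  apply hne
  have h1 : (IsLocalRing.maximalIdeal (Y.presheaf.stalk (p.base x))).comap
      (Y.presheaf.stalkSpecializes hsp).hom = IsLocalRing.maximalIdeal (Y.presheaf.stalk y') := by
    rw [← hker]
    ext a
    rw [Ideal.mem_comap, RingHom.mem_ker]
    simp only [CommRingCat.hom_comp, RingHom.comp_apply]
    change _ ↔ IsLocalRing.residue _ _ = 0
    rw [IsLocalRing.residue_eq_zero_iff, IsLocalRing.mem_maximalIdeal, IsLocalRing.mem_maximalIdeal,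
      map_mem_nonunits_iff (p.stalkMap x).hom]
  have h2 : (Spec.map (Y.presheaf.stalkSpecializes hsp)).base
      (IsLocalRing.closedPoint (Y.presheaf.stalk (p.base x))) =
      IsLocalRing.closedPoint (Y.presheaf.stalk y') := by
    apply PrimeSpectrum.ext
    exact h1
  have h3 := Y.fromSpecStalk_closedPoint (x := y')
  rw [← h2, ← Scheme.Hom.comp_apply, Scheme.SpecMap_stalkSpecializes_fromSpecStalk,
    Y.fromSpecStalk_closedPoint] at h3
  exact h3.symm

/-- Let Y be a locally Noetherian scheme, p : X ⟶ Y a morphism locally of finite type, x a point of X, y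
= p(x) and y' a specialization of y distinct from y. Then there are a discrete valuation ring A with
field of fractions the residue field k(x) and a morphism Spec A ⟶ Y mapping the closed point to y'
and restricting on Spec k(x) to the canonical morphism Spec k(x) ⟶ X ⟶ Y (so the generic point goes
to y, and the rational map from Spec A to X so defined induces the identity of k(x)). -/
theorem result {X Y : Scheme.{u}} [IsLocallyNoetherian Y]
    (p : X ⟶ Y) [LocallyOfFiniteType p] (x : X) (y' : Y) (hsp : p.base x ⤳ y') (hne : y' ≠ p.base x) :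
    ∃ (A : ValuationSubring (X.residueField x)) (h : Spec (CommRingCat.of A) ⟶ Y), IsDiscreteValuationRing A ∧
      h.base (IsLocalRing.closedPoint A) = y' ∧
      Spec.map (CommRingCat.ofHom A.subtype) ≫ h = X.fromSpecResidueField x ≫ p := by
  let ψ : Y.presheaf.stalk y' ⟶ X.residueField x :=
    Y.presheaf.stalkSpecializes hsp ≫ p.stalkMap x ≫ X.residue x
  have hess : ψ.hom.EssFiniteType := by
    have h1 := stalkSpecializes_essFiniteType hsp
    have h2 : (p.stalkMap x).hom.EssFiniteType := LocallyOfFiniteType.stalkMap (f := p) x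
    have h3 : (X.residue x).hom.EssFiniteType := by
      apply RingHom.FiniteType.essFiniteType
      apply RingHom.FiniteType.of_surjective
      exact IsLocalRing.residue_surjective
    exact h1.comp (h2.comp h3)
  obtain ⟨T, hT⟩ := exists_finset_closure_of_essFiniteType ψ.hom hess
  obtain ⟨A, hA, hAmem, hAlt⟩ := Groth.Agent.Lib.Helper13.Dvr.exists_dvr_dominating_ringHom _
    ψ.hom (ker_ne_maximalIdeal p x y' hsp hne) T hT
  let toA : Y.presheaf.stalk y' ⟶ .of A := CommRingCat.ofHom (ψ.hom.codRestrict A.toSubring hAmem)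
  have hlocal : IsLocalHom (ψ.hom.codRestrict A.toSubring hAmem) := by
    constructor
    intro a ha
    by_contra hnu
    have h1 : a ∈ IsLocalRing.maximalIdeal (Y.presheaf.stalk y') :=
      (IsLocalRing.mem_maximalIdeal _).mpr hnu
    have h2 := hAlt a h1
    have h3 := (A.valuation_lt_one_iff ⟨ψ.hom a, hAmem a⟩).mpr h2
    exact (IsLocalRing.mem_maximalIdeal _).mp h3 ha
  refine ⟨A, Spec.map toA ≫ Y.fromSpecStalk y', hA, ?_, ?_⟩
  · have : Spec.map toA (IsLocalRing.closedPoint A) =
        IsLocalRing.closedPoint (Y.presheaf.stalk y') :=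
      IsLocalRing.comap_closedPoint (S := A) (ψ.hom.codRestrict A.toSubring hAmem)
    simp only [Scheme.Hom.comp_base, TopCat.coe_comp, Function.comp_apply]
    rw [this, Y.fromSpecStalk_closedPoint]
  · rw [Scheme.fromSpecResidueField, Category.assoc, ← Scheme.SpecMap_stalkMap_fromSpecStalk,
      ← Scheme.SpecMap_stalkSpecializes_fromSpecStalk hsp]
    simp_rw [← Spec.map_comp_assoc]
    rfl

end Groth.Agent.S4450
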