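import Groth.Statements.S9347
import Mathlib.AlgebraicGeometry.Properties

set_option autoImplicit false
universe u
open Dom

namespace Groth.Agent.S9347

open AlgebraicGeometry CategoryTheory in
/-- ring level: points of the closure of the range of `comap φ` are specializations of the range -/
theorem exists_specializes_of_mem_closure_range_comap {A R : Type u} [CommRing A] [CommRing R]
    (φ : A →+* R) (p : PrimeSpectrum A) (hp : p ∈ closure (Set.range (PrimeSpectrum.comap φ))) :
    ∃ r : PrimeSpectrum R, PrimeSpectrum.comap φ r ⤳ p := by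
  rw [PrimeSpectrum.closure_range_comap, PrimeSpectrum.mem_zeroLocus] at hp
  obtain ⟨q, hq, hqp⟩ := Ideal.exists_minimalPrimes_le (show RingHom.ker φ ≤ p.asIdeal from hp)
  obtain ⟨p', hp', -, hcomap⟩ := Ideal.exists_comap_eq_of_mem_minimalPrimes φ (I := ⊥) q
    (by rwa [← RingHom.ker_eq_comap_bot])
  refine ⟨⟨p', hp'⟩, ?_⟩
  rw [← PrimeSpectrum.le_iff_specializes]
  change p'.comap φ ≤ p.asIdeal
  rw [hcomap]
  exact hqp

open AlgebraicGeometry CategoryTheory in
/-- scheme level: points of the closure of the range of a quasi-compact morphism are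
specializations of points of the range -/
theorem exists_specializes_of_mem_closure_range {X S : Scheme.{u}} (f : X ⟶ S) [QuasiCompact f]
    (s : ↑S) (hs : s ∈ closure (Set.range f.base)) : ∃ x : ↑X, f.base x ⤳ s := by
  obtain ⟨_, ⟨U, hU : IsAffineOpen U, rfl⟩, hsU, -⟩ :=
    S.isBasis_affineOpens.exists_subset_of_mem_open (Set.mem_univ s) isOpen_univ
  have hcpt : IsCompact ((f ⁻¹ᵁ U : X.Opens) : Set X) := f.isCompact_preimage hU.isCompact
  haveI : CompactSpace ↥(f ⁻¹ᵁ U) := isCompact_iff_compactSpace.mp hcpt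
  obtain ⟨R, g, hg⟩ := (compactSpace_iff_exists (X := (f ⁻¹ᵁ U).toScheme)).mp
    (inferInstanceAs (CompactSpace ↥(f ⁻¹ᵁ U)))
  let k : Spec R ⟶ Spec Γ(S, U) := g ≫ (f ∣_ U) ≫ hU.isoSpec.hom
  let φ : Γ(S, U) ⟶ R := Spec.preimage k
  have hφ : Spec.map φ = k := Spec.map_preimage k
  let sU : ↥U := ⟨s, hsU⟩
  -- sU lies in the closure of the range of f ∣_ U
  have h1 : sU ∈ closure (Set.range (f ∣_ U).base) := by
    have hsub : (Subtype.val : ↥U → ↑S) ⁻¹' (Set.range f.base) ⊆ Set.range (f ∣_ U).base := by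
      rintro u ⟨x, hx⟩
      have hxU : x ∈ f ⁻¹ᵁ U := by
        change f.base x ∈ U
        rw [hx]; exact u.2
      refine ⟨⟨x, hxU⟩, ?_⟩
      apply Subtype.ext
      rw [morphismRestrict_base_coe]
      exact hx
    have h2 : sU ∈ (Subtype.val : ↥U → ↑S) ⁻¹' closure (Set.range f.base) := hs
    have h2' := (Set.ext_iff.mp
      (U.isOpen.isOpenEmbedding_subtypeVal.isOpenMap.preimage_closure_eq_closure_preimage
        continuous_subtype_val (Set.range f.base)) sU).mp h2
    exact closure_mono hsub h2'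
  -- transport to Spec Γ(S, U)
  let h : ↥U ≃ₜ ↑(Spec Γ(S, U)) := Scheme.homeoOfIso hU.isoSpec
  have hk : ∀ r : ↑(Spec R), k.base r = h ((f ∣_ U).base (g.base r)) := fun r => rfl
  have h3 : h sU ∈ closure (Set.range (PrimeSpectrum.comap φ.hom)) := by
    have h4 : h sU ∈ h '' closure (Set.range (f ∣_ U).base) := ⟨sU, h1, rfl⟩
    rw [h.image_closure] at h4
    refine closure_mono ?_ h4
    rintro _ ⟨_, ⟨x', rfl⟩, rfl⟩
    obtain ⟨r, rfl⟩ := hg x'
    refine ⟨r, ?_⟩
    rw [← hk r, ← hφ]
    rfl
  obtain ⟨r, hr⟩ := exists_specializes_of_mem_closure_range_comap φ.hom (h sU) h3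
  have h5 : h ((f ∣_ U).base (g.base r)) ⤳ h sU := by
    rw [← hk r, ← hφ]
    exact hr
  rw [h.isInducing.specializes_iff] at h5
  refine ⟨(g.base r).1, ?_⟩
  have h6 := h5.map continuous_subtype_val
  rwa [morphismRestrict_base_coe] at h6

open AlgebraicGeometry CategoryTheory in
/-- Let f : X → S be quasi-compact and let η ∈ S be a point whose closure is an irreducible component of
S (a maximal point of S). If η is not in the image of f, then η has an open neighbourhood V with
f⁻¹(V) empty. -/
theorem result {X S : Scheme.{u}} (f : X ⟶ S) [QuasiCompact f]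
    (η : ↑S) (hη : closure {η} ∈ irreducibleComponents (↑S : Type u)) (hnot : η ∉ Set.range f.base) :
    ∃ V : S.Opens, η ∈ V ∧ f ⁻¹ᵁ V = ⊥ := by
  have hη' : η ∉ closure (Set.range f.base) := by
    intro hmem
    obtain ⟨x, hx⟩ := exists_specializes_of_mem_closure_range f η hmem
    apply hnot
    refine ⟨x, ?_⟩
    -- closure {η} ⊆ closure {f x}, maximality gives equality
    have hle : closure {η} ⊆ closure {f.base x} := hx.closure_subset
    have hirr : IsIrreducible (closure ({f.base x} : Set ↑S)) :=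
      isIrreducible_singleton.closure
    have heq : closure ({f.base x} : Set ↑S) ⊆ closure {η} := hη.2 hirr hle
    have : Inseparable (f.base x) η := by
      rw [inseparable_iff_closure_eq]
      exact subset_antisymm heq hle
    exact this.eq
  refine ⟨⟨(closure (Set.range f.base))ᶜ, isClosed_closure.isOpen_compl⟩, hη', ?_⟩
  rw [eq_bot_iff]
  intro x hx
  exact (hx (subset_closure ⟨x, rfl⟩)).elim

end Groth.Agent.S9347
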