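import Groth.Statements.S9200
-- import your own Groth.Agent.* helpers here

set_option autoImplicit false
universe u
open CategoryTheory AlgebraicGeometry
open Lim

namespace Groth.Agent.S9200

/-- Let S be a scheme and X = lim X_i a cofiltered limit of S-schemes X_i (a diagram with a compatible
family of structure maps to S) with affine transition morphisms, every X_i quasi-compact and
quasi-separated; the structure map X → S is the composite X → X_{i₀} → S for any index i₀. Assume S
is quasi-compact and quasi-separated. If X → S is affine, then X_i → S is affine for all i beyond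
some index i₁. -/
theorem result {I : Type u} [SmallCategory I] [IsCofiltered I] (S : Scheme.{u}) [CompactSpace S] [QuasiSeparatedSpace S]
    (D : I ⥤ Scheme.{u}) (t : D ⟶ (Functor.const I).obj S) (c : Limits.Cone D) (hc : Limits.IsLimit c)
    [∀ (i j : I) (a : i ⟶ j), IsAffineHom (D.map a)]
    [∀ i, CompactSpace (D.obj i)] [∀ i, QuasiSeparatedSpace (D.obj i)] (i₀ : I)
    [IsAffineHom (c.π.app i₀ ≫ t.app i₀)] :
    ∃ i₁ : I, ∀ (i : I) (_ : i ⟶ i₁), IsAffineHom (t.app i) := by
  classical
  have hnat : ∀ {i j : I} (φ : i ⟶ j), t.app i = D.map φ ≫ t.app j := by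
    intro i j φ
    have := t.naturality φ
    simp only [Functor.const_obj_obj, Functor.const_obj_map, Category.comp_id] at this
    exact this.symm
  have hB : ∀ (V : S.Opens) {i j : I} (φ : i ⟶ j), IsAffineOpen (t.app j ⁻¹ᵁ V) →
      IsAffineOpen (t.app i ⁻¹ᵁ V) := by
    intro V i j φ h
    rw [hnat φ, Scheme.Hom.comp_preimage]
    exact h.preimage (D.map φ)
  have hA : ∀ V : S.Opens, IsAffineOpen V → ∃ j : I, IsAffineOpen (t.app j ⁻¹ᵁ V) := by
    intro V hV
    let U : (D.obj i₀).Opens := t.app i₀ ⁻¹ᵁ V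
    have hU : ∀ j : Over i₀, D.map j.hom ⁻¹ᵁ U = t.app j.left ⁻¹ᵁ V := by
      intro j
      rw [hnat j.hom, Scheme.Hom.comp_preimage]
    have hpt : IsAffine (opensCone D c i₀ U).pt := by
      change IsAffineOpen (c.π.app i₀ ⁻¹ᵁ (t.app i₀ ⁻¹ᵁ V))
      rw [← Scheme.Hom.comp_preimage]
      exact hV.preimage _
    have hqc : ∀ j : Over i₀, CompactSpace ((opensDiagram D i₀ U).obj j) := by
      intro j
      have h1 : IsCompact ((D.map j.hom ⁻¹ᵁ U : (D.obj j.left).Opens) : Set (D.obj j.left)) := by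
        rw [hU j]
        have hq : QuasiCompact (t.app j.left) :=
          quasiCompact_of_compactSpace (X := D.obj j.left) (Y := S) (t.app j.left)
        exact QuasiCompact.isCompact_preimage (f := t.app j.left) _ V.isOpen hV.isCompact
      exact isCompact_iff_compactSpace.mp h1
    have hqs : ∀ j : Over i₀, QuasiSeparatedSpace ((opensDiagram D i₀ U).obj j) := by
      intro j
      exact QuasiSeparatedSpace.of_isOpenEmbedding (D.map j.hom ⁻¹ᵁ U).ι.isOpenEmbedding
    obtain ⟨j, hj⟩ := Scheme.exists_isAffine_of_isLimit (opensDiagram D i₀ U) (opensCone D c i₀ U)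
      (isLimitOpensCone D c hc i₀ U)
    refine ⟨j.left, ?_⟩
    rw [← hU j]
    exact hj
  have hcov : (Set.univ : Set S) ⊆ ⋃ V : S.affineOpens, (V.1 : Set S) := by
    intro x _
    obtain ⟨V, hV, hxV, -⟩ := exists_isAffineOpen_mem_and_subset (x := x) (U := ⊤) trivial
    exact Set.mem_iUnion.mpr ⟨⟨V, hV⟩, hxV⟩
  obtain ⟨F, hF⟩ := isCompact_univ.elim_finite_subcover _
    (fun V : S.affineOpens => V.1.isOpen) hcov
  choose j hj using fun V : S.affineOpens => hA V.1 V.2
  obtain ⟨i₁, hi₁⟩ := IsCofiltered.inf_objs_exists (F.image j)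
  refine ⟨i₁, fun i φ => ?_⟩
  apply isAffineHom_of_forall_exists_isAffineOpen
  intro x
  have hx := hF (Set.mem_univ x)
  simp only [Set.mem_iUnion] at hx
  obtain ⟨V, hVF, hxV⟩ := hx
  obtain ⟨ψ⟩ := hi₁ (Finset.mem_image_of_mem j hVF)
  exact ⟨V.1, hxV, V.2, hB V.1 (φ ≫ ψ) (hj V)⟩

end Groth.Agent.S9200
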