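import Groth.Statements.S7395
import Mathlib
import Groth.Agent.Lib.Helper13.NaStage

set_option autoImplicit false
universe u
open CategoryTheory AlgebraicGeometry
open Lim

namespace Groth.Agent.S7395

section helpers

open CategoryTheory CategoryTheory.Limits AlgebraicGeometry Opposite


open Groth.Agent.Lib.Helper13.NaFP Groth.Agent.Lib.Helper13.NaOver Groth.Agent.Lib.Helper13.NaStage

theorem main {X S : Scheme.{u}} (f : X ⟶ S) [IsSeparated f]
    [LocallyOfFiniteType f] [QuasiCompact f] [CompactSpace S] [QuasiSeparatedSpace S] :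
    ∃ (X' : Scheme.{u}) (f' : X' ⟶ S) (j : X ⟶ X'), IsSeparated f' ∧ LocallyOfFinitePresentation f' ∧
      QuasiCompact f' ∧ IsClosedImmersion j ∧ j ≫ f' = f := by
  haveI : CompactSpace X := QuasiCompact.compactSpace_of_compactSpace f
  haveI : QuasiSeparatedSpace X := quasiSeparatedSpace_of_quasiSeparated f
  obtain ⟨I, _, _, _, G, s, π, ⟨hπ⟩, h1, h2, h3, h4⟩ := exists_fp_approx f
  obtain ⟨i, hi⟩ := exists_closedImmersion_stage f G s π hπ h1 h3 (fun j => (h4 j).1)
  obtain ⟨i₁, hi₁⟩ := exists_separated_stage f G s π hπ h1 h3 (fun j => (h4 j).1)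
    (fun j => (h4 j).2)
  obtain ⟨k, hk1, hk2⟩ := exists_ge_ge i.unop i₁.unop
  have a : op k ⟶ i := (homOfLE hk1).op
  have b : op k ⟶ i₁ := (homOfLE hk2).op
  exact ⟨G.obj (op k), s.app (op k), pr π (op k), hi₁ _ b, (h2 _).1, (h2 _).2.1,
    closedImmersion_of_hom G π h3 a hi, h1 _⟩


end helpers

/-- Let `f : X → S` be separated and of finite type with `S` quasi-compact and quasi-separated. Then
there are a separated morphism `f' : X' → S` of finite presentation and a closed immersion `X → X'`
over `S`. -/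
theorem result {X S : Scheme.{u}} (f : X ⟶ S) [IsSeparated f]
    [LocallyOfFiniteType f] [QuasiCompact f] [CompactSpace S] [QuasiSeparatedSpace S] :
    ∃ (X' : Scheme.{u}) (f' : X' ⟶ S) (j : X ⟶ X'), IsSeparated f' ∧ LocallyOfFinitePresentation f' ∧
      QuasiCompact f' ∧ IsClosedImmersion j ∧ j ≫ f' = f := by
  exact main f

end Groth.Agent.S7395
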