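import Groth.Statements.S7661
import Mathlib

set_option autoImplicit false
universe u
open CategoryTheory CategoryTheory.Limits AlgebraicGeometry
open Variety

namespace Groth.Agent.S7661

/-- Let A be a ring, I an ideal, p_1, …, p_r prime ideals with I ⊄ p_i for all i, and let f̄ ∈ A/I. Then
f̄ lifts to an element f ∈ A with f ∉ p_i for all i. -/
theorem result (A : Type u) [CommRing A] (I : Ideal A)
    (s : Finset (Ideal A)) (hs : ∀ p ∈ s, p.IsPrime) (hI : ∀ p ∈ s, ¬ I ≤ p) (fbar : A ⧸ I) :
    ∃ f : A, Ideal.Quotient.mk I f = fbar ∧ ∀ p ∈ s, f ∉ p := by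
  classical
  obtain ⟨f₀, rfl⟩ := Ideal.Quotient.mk_surjective fbar
  -- key claim, by induction on the cardinality, removing a minimal prime
  have key : ∀ (n : ℕ) (s : Finset (Ideal A)), s.card = n → (∀ p ∈ s, p.IsPrime) →
      (∀ p ∈ s, ¬ I ≤ p) → ∃ a ∈ I, ∀ p ∈ s, f₀ + a ∉ p := by
    intro n
    induction n with
    | zero =>
      intro s hc _ _
      refine ⟨0, I.zero_mem, ?_⟩
      rw [Finset.card_eq_zero.1 hc]
      simp
    | succ n ih =>
      intro s hc hs hI
      have hne : s.Nonempty := by rw [← Finset.card_pos]; omega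
      obtain ⟨p, hp, hmin⟩ := s.exists_minimal hne
      have hp' : p ∈ s := hp
      haveI : p.IsPrime := hs p hp'
      have hcard : (s.erase p).card = n := by rw [Finset.card_erase_of_mem hp', hc]; rfl
      obtain ⟨a, haI, ha⟩ := ih (s.erase p) hcard
        (fun q hq => hs q (Finset.mem_of_mem_erase hq))
        (fun q hq => hI q (Finset.mem_of_mem_erase hq))
      by_cases hg : f₀ + a ∈ p
      · -- correct by an element of I ∩ ⋂ q not in p
        obtain ⟨x, hxI, hxp⟩ := SetLike.not_le_iff_exists.1 (hI p hp')
        have hq : ∀ q : Ideal A, ∃ y : A, q ∈ s.erase p → (y ∈ q ∧ y ∉ p) := by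
          intro q
          by_cases hqs : q ∈ s.erase p
          · have hqp : ¬ q ≤ p := by
              intro hle
              have : p ≤ q := hmin (Finset.mem_of_mem_erase hqs) hle
              exact (Finset.ne_of_mem_erase hqs) (le_antisymm hle this)
            obtain ⟨y, hyq, hyp⟩ := SetLike.not_le_iff_exists.1 hqp
            exact ⟨y, fun _ => ⟨hyq, hyp⟩⟩
          · exact ⟨0, fun h => absurd h hqs⟩
        choose y hy using hq
        set b := x * ∏ q ∈ s.erase p, y q with hb
        have hbI : b ∈ I := Ideal.mul_mem_right _ _ hxI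
        have hbp : b ∉ p := by
          intro hbp
          rcases (Ideal.IsPrime.mem_or_mem inferInstance hbp) with h | h
          · exact hxp h
          · obtain ⟨q, hq, hyq⟩ := Ideal.IsPrime.prod_mem_iff.1 h
            exact (hy q hq).2 hyq
        have hbq : ∀ q ∈ s.erase p, b ∈ q := by
          intro q hq
          apply Ideal.mul_mem_left
          exact Ideal.mem_of_dvd _ (Finset.dvd_prod_of_mem y hq) (hy q hq).1
        refine ⟨a + b, I.add_mem haI hbI, ?_⟩
        intro q hq hmem
        by_cases hqp : q = p
        · subst hqp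
          have : b ∈ q := by
            have := q.sub_mem hmem hg
            have e : f₀ + (a + b) - (f₀ + a) = b := by ring
            rwa [e] at this
          exact hbp this
        · have hq' : q ∈ s.erase p := Finset.mem_erase.2 ⟨hqp, hq⟩
          have : f₀ + a ∈ q := by
            have := q.sub_mem hmem (hbq q hq')
            have e : f₀ + (a + b) - b = f₀ + a := by ring
            rwa [e] at this
          exact ha q hq' this
      · refine ⟨a, haI, ?_⟩
        intro q hq
        by_cases hqp : q = p
        · subst hqp; exact hg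
        · exact ha q (Finset.mem_erase.2 ⟨hqp, hq⟩)
  obtain ⟨a, haI, ha⟩ := key s.card s rfl hs hI
  refine ⟨f₀ + a, ?_, ha⟩
  rw [map_add, (Ideal.Quotient.eq_zero_iff_mem).2 haI, add_zero]

end Groth.Agent.S7661
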