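import Groth.Statements.S4585
import Groth.Agent.Lib.helper11.GenFreeImage

set_option autoImplicit false
universe u
open AlgebraicGeometry CategoryTheory
open EGA41

namespace Groth.Agent.S4585

/-- Let Y be an irreducible scheme with generic point η and f : X → Y locally of finite type with
nonempty fibre over η. Then some open neighbourhood of η is contained in f(X). (The second
assertion, on fibres of a quasi-coherent module of finite type, is not stated.) -/
theorem result {X Y : Scheme.{u}} (f : X ⟶ Y)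
    [LocallyOfFiniteType f] [IrreducibleSpace Y] (h : genericPoint Y ∈ Set.range f.base) :
    genericPoint Y ∈ interior (Set.range f.base) := by
  obtain ⟨x, hx⟩ := h
  set η := genericPoint Y with hη
  have hgen : IsGenericPoint η (⊤ : Set Y) := genericPoint_spec Y
  obtain ⟨V, hV, hηV, -⟩ := exists_isAffineOpen_mem_and_subset (X := Y) (x := η) (U := ⊤) (by simp)
  have hxV : x ∈ f ⁻¹ᵁ V := by
    change f.base x ∈ V
    rw [hx]
    exact hηV
  obtain ⟨U, hU, hxU, hUV⟩ := exists_isAffineOpen_mem_and_subset (X := X) (x := x) hxV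
  have e : U ≤ f ⁻¹ᵁ V := hUV
  let φ : Γ(Y, V) →+* Γ(X, U) := (f.appLE V U e).hom
  have hφ : φ.FiniteType := Scheme.Hom.finiteType_appLE f hV hU e
  letI : Algebra Γ(Y, V) Γ(X, U) := φ.toAlgebra
  haveI : Algebra.FiniteType Γ(Y, V) Γ(X, U) := hφ
  let p₀ : PrimeSpectrum Γ(Y, V) := hV.primeIdealOf ⟨η, hηV⟩
  have hp₀ : hV.fromSpec p₀ = η := hV.fromSpec_primeIdealOf ⟨η, hηV⟩
  have hmin : ∀ q : PrimeSpectrum Γ(Y, V), p₀.asIdeal ≤ q.asIdeal := by
    intro q
    change p₀ ≤ q
    rw [PrimeSpectrum.le_iff_specializes]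
    have h1 : η ⤳ hV.fromSpec q := hgen.specializes (Set.mem_univ _)
    rw [← hp₀] at h1
    exact (hV.fromSpec.isOpenEmbedding.isInducing.specializes_iff).mp h1
  have hfib : p₀ ∈ Set.range (PrimeSpectrum.comap (algebraMap Γ(Y, V) Γ(X, U))) := by
    refine ⟨hU.primeIdealOf ⟨x, hxU⟩, ?_⟩
    have h2 := IsAffineOpen.comap_primeIdealOf_appLE (f := f) (x := x) V hV U hU e hxU
    refine Eq.trans h2 ?_
    congr 1
    exact Subtype.ext hx
  obtain ⟨g, hg, hgrange⟩ :=
    Groth.Agent.Lib.helper11.GenFreeImage.exists_basicOpen_subset_range p₀ hmin hfib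
  rw [mem_interior]
  refine ⟨(Y.basicOpen g : Set Y), ?_, (Y.basicOpen g).2, ?_⟩
  · intro y hy
    have hyV : y ∈ V := Y.basicOpen_le g hy
    let q : PrimeSpectrum Γ(Y, V) := hV.primeIdealOf ⟨y, hyV⟩
    have hq : hV.fromSpec q = y := hV.fromSpec_primeIdealOf ⟨y, hyV⟩
    have hgq : g ∉ q.asIdeal := by
      have h3 : q ∈ hV.fromSpec ⁻¹ᵁ Y.basicOpen g := by
        change hV.fromSpec q ∈ Y.basicOpen g
        rw [hq]
        exact hy
      rw [hV.fromSpec_preimage_basicOpen] at h3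
      exact h3
    obtain ⟨Q, hQ⟩ := hgrange q hgq
    refine ⟨hU.fromSpec Q, ?_⟩
    have h4 := IsAffineOpen.SpecMap_appLE_fromSpec f hV hU e
    have h5 : f.base (hU.fromSpec Q) = hV.fromSpec ((Spec.map (f.appLE V U e)) Q) := by
      rw [← Scheme.Hom.comp_apply, ← Scheme.Hom.comp_apply, h4]
    rw [h5, ← hq]
    congr 1
  · have h6 : p₀ ∈ hV.fromSpec ⁻¹ᵁ Y.basicOpen g := by
      rw [hV.fromSpec_preimage_basicOpen]
      exact hg
    have h7 : hV.fromSpec p₀ ∈ Y.basicOpen g := h6
    rw [hp₀] at h7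
    exact h7

end Groth.Agent.S4585
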