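import Groth.Statements.S9218
import Groth.Agent.Lib.Helper13.LimDescendAffine

set_option autoImplicit false
universe u
open CategoryTheory CategoryTheory.Limits AlgebraicGeometry
open Lim

namespace Groth.Agent.S9218

/-- Let S = lim S_i be a cofiltered limit of schemes with affine transition morphisms (the S_i are not
assumed quasi-compact or quasi-separated), i an index, and X_i → S_i, Y_i → S_i morphisms locally of
finite presentation with X_i, Y_i quasi-compact and quasi-separated; let X, Y be their base changes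
to S (pullback squares). Then every S-morphism f : X → Y comes from some stage: for some index j
over i there is an S_j-morphism f_j : X_i ×_{S_i} S_j → Y_i ×_{S_i} S_j whose base change to S is f,
in the sense that the canonical morphisms X → X_i ×_{S_i} S_j and Y → Y_i ×_{S_i} S_j intertwine f
and f_j. This is the fullness part of the equivalence between the colimit of the categories of
quasi-compact quasi-separated schemes locally of finite presentation over the S_i and the
corresponding category over S. -/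
theorem result {I : Type u} [SmallCategory I] [IsCofiltered I]
    (D : I ⥤ Scheme.{u}) (c : Limits.Cone D) (hc : Limits.IsLimit c)
    [∀ (i j : I) (f : i ⟶ j), IsAffineHom (D.map f)] (i : I)
    {Xi Yi : Scheme.{u}} (xi : Xi ⟶ D.obj i) (yi : Yi ⟶ D.obj i)
    [CompactSpace Xi] [QuasiSeparatedSpace Xi] [LocallyOfFinitePresentation xi]
    [CompactSpace Yi] [QuasiSeparatedSpace Yi] [LocallyOfFinitePresentation yi]
    {X Y : Scheme.{u}} (qX : X ⟶ Xi) (pX : X ⟶ c.pt) (hX : IsPullback qX pX xi (c.π.app i))
    (qY : Y ⟶ Yi) (pY : Y ⟶ c.pt) (hY : IsPullback qY pY yi (c.π.app i))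
    (f : X ⟶ Y) (hf : f ≫ pY = pX) :
    ∃ (j : I) (φ : j ⟶ i) (fj : pullback xi (D.map φ) ⟶ pullback yi (D.map φ))
      (sX : X ⟶ pullback xi (D.map φ)) (sY : Y ⟶ pullback yi (D.map φ)),
      fj ≫ pullback.snd yi (D.map φ) = pullback.snd xi (D.map φ) ∧
      sX ≫ pullback.fst xi (D.map φ) = qX ∧ sX ≫ pullback.snd xi (D.map φ) = pX ≫ c.π.app j ∧
      sY ≫ pullback.fst yi (D.map φ) = qY ∧ sY ≫ pullback.snd yi (D.map φ) = pY ≫ c.π.app j ∧
      sX ≫ fj = f ≫ sY := by
  haveI : ∀ (j k : Over i) (φ : j ⟶ k),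
      IsAffineHom ((Lib.Helper22.bcDiag D i xi).map φ) := fun _ _ φ => inferInstance
  -- identification of `X` with the limit of the base-changed diagram
  let ι : pullback (c.π.app i) xi ⟶ X :=
    hX.lift (pullback.snd (c.π.app i) xi) (pullback.fst (c.π.app i) xi) pullback.condition.symm
  have hι1 : ι ≫ qX = pullback.snd (c.π.app i) xi := hX.lift_fst _ _ _
  have hι2 : ι ≫ pX = pullback.fst (c.π.app i) xi := hX.lift_snd _ _ _
  let ι' : X ⟶ pullback (c.π.app i) xi := pullback.lift pX qX hX.w.symm
  have hι'1 : ι' ≫ pullback.fst (c.π.app i) xi = pX := pullback.lift_fst _ _ _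
  have hι'2 : ι' ≫ pullback.snd (c.π.app i) xi = qX := pullback.lift_snd _ _ _
  have hι'ι : ι' ≫ ι = 𝟙 X := by
    apply hX.hom_ext
    · rw [Category.assoc, hι1, hι'2, Category.id_comp]
    · rw [Category.assoc, hι2, hι'1, Category.id_comp]
  let a : (Lib.Helper22.bcCone D c i xi).pt ⟶ Yi := ι ≫ f ≫ qY
  have ha : (Lib.Helper22.bcCone D c i xi).π ≫ Lib.Helper13.LimDescend.bcStr D i xi =
      (Functor.const _).map (a ≫ yi) := by
    ext k
    have e1 : (Lib.Helper22.bcCone D c i xi).π.app k ≫ Limits.pullback.snd (D.map k.hom) xi =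
        Limits.pullback.snd (c.π.app i) xi := Lib.Helper22.bcCone_π_snd D c i xi k
    have key : ∀ (p : pullback (c.π.app i) xi ⟶ pullback (D.map k.hom) xi),
        p ≫ Limits.pullback.snd (D.map k.hom) xi = Limits.pullback.snd (c.π.app i) xi →
        p ≫ (Limits.pullback.snd (D.map k.hom) xi ≫ xi) = (ι ≫ f ≫ qY) ≫ yi := by
      intro p hp
      rw [← Category.assoc, hp, Category.assoc, Category.assoc, hY.w, reassoc_of% hf, ← hι1,
        Category.assoc, hX.w]
    exact key _ e1
  obtain ⟨k, g, hg1, hg2⟩ := Scheme.exists_π_app_comp_eq_of_locallyOfFinitePresentation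
    (Lib.Helper22.bcDiag D i xi) (Lib.Helper13.LimDescend.bcStr D i xi) yi
    (Lib.Helper22.bcCone D c i xi) (Lib.Helper22.bcIsLimit D hc i xi) a ha
  replace hg2 : g ≫ yi = Limits.pullback.fst (D.map k.hom) xi ≫ D.map k.hom := by
    rw [hg2, Lib.Helper13.LimDescend.bcStr_app]
  let g' : pullback (D.map k.hom) xi ⟶ Yi := g
  have hg2' : g' ≫ yi = Limits.pullback.fst (D.map k.hom) xi ≫ D.map k.hom := hg2
  let π' : pullback (c.π.app i) xi ⟶ pullback (D.map k.hom) xi :=
    (Lib.Helper22.bcCone D c i xi).π.app k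
  have hπ'1 : π' ≫ Limits.pullback.fst (D.map k.hom) xi =
      Limits.pullback.fst (c.π.app i) xi ≫ c.π.app k.left :=
    Lib.Helper22.bcCone_π_fst D c i xi k
  have hπ'2 : π' ≫ Limits.pullback.snd (D.map k.hom) xi = Limits.pullback.snd (c.π.app i) xi :=
    Lib.Helper22.bcCone_π_snd D c i xi k
  have hg1' : π' ≫ g' = ι ≫ f ≫ qY := hg1
  let fj : pullback xi (D.map k.hom) ⟶ pullback yi (D.map k.hom) :=
    Limits.pullback.lift ((Limits.pullbackSymmetry xi (D.map k.hom)).hom ≫ g')
      (Limits.pullback.snd xi (D.map k.hom))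
      (by rw [Category.assoc, hg2', Limits.pullbackSymmetry_hom_comp_fst_assoc])
  let sX : X ⟶ pullback xi (D.map k.hom) :=
    Limits.pullback.lift qX (pX ≫ c.π.app k.left)
      (by rw [Category.assoc, c.w k.hom, hX.w])
  let sY : Y ⟶ pullback yi (D.map k.hom) :=
    Limits.pullback.lift qY (pY ≫ c.π.app k.left)
      (by rw [Category.assoc, c.w k.hom, hY.w])
  have hsX : sX ≫ (Limits.pullbackSymmetry xi (D.map k.hom)).hom = ι' ≫ π' := by
    apply Limits.pullback.hom_ext
    · rw [Category.assoc, Limits.pullbackSymmetry_hom_comp_fst, Limits.pullback.lift_snd,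
        Category.assoc, hπ'1, reassoc_of% hι'1]
    · rw [Category.assoc, Limits.pullbackSymmetry_hom_comp_snd, Limits.pullback.lift_fst,
        Category.assoc, hπ'2, hι'2]
  refine ⟨k.left, k.hom, fj, sX, sY, Limits.pullback.lift_snd _ _ _, Limits.pullback.lift_fst _ _ _,
    Limits.pullback.lift_snd _ _ _, Limits.pullback.lift_fst _ _ _,
    Limits.pullback.lift_snd _ _ _, ?_⟩
  apply Limits.pullback.hom_ext
  · rw [Category.assoc, Limits.pullback.lift_fst, reassoc_of% hsX, hg1', reassoc_of% hι'ι,
      Category.assoc, Limits.pullback.lift_fst]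
  · rw [Category.assoc, Limits.pullback.lift_snd, Limits.pullback.lift_snd, Category.assoc,
      Limits.pullback.lift_snd, reassoc_of% hf]

end Groth.Agent.S9218
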