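import Groth.Statements.S9407
import Mathlib

set_option autoImplicit false
universe u
open CAlg

namespace Groth.Agent.S9407

open Polynomial TensorProduct

/-- Over a reduced ring, a polynomial integral over the constants is constant. -/
theorem natDegree_eq_zero_of_isIntegral {R : Type*} [CommRing R] [IsReduced R] (p : R[X])
    (hp : IsIntegral R p) : p.natDegree = 0 := by
  by_contra hd
  obtain ⟨q, hq, hq0⟩ := hp
  set d := p.natDegree with hd'
  set n := q.natDegree with hn
  have hdpos : 0 < d := Nat.pos_of_ne_zero hd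
  -- look at the coefficient of X^(n*d) in q(p)
  have h1 : (eval₂ (algebraMap R R[X]) p q).coeff (n * d) = p.leadingCoeff ^ n := by
    rw [eval₂_eq_sum_range, finset_sum_coeff, Finset.sum_range_succ]
    rw [Finset.sum_eq_zero, zero_add]
    · rw [← hn, hq.coeff_natDegree, map_one, one_mul]
      rw [coeff_pow_of_natDegree_le (le_refl _)]
      rfl
    · intro i hi
      rw [Finset.mem_range] at hi
      apply coeff_eq_zero_of_natDegree_lt
      calc (algebraMap R R[X] (q.coeff i) * p ^ i).natDegree
          ≤ (p ^ i).natDegree := by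
            rw [algebraMap_eq]
            exact natDegree_C_mul_le _ _
        _ ≤ i * d := natDegree_pow_le
        _ < n * d := Nat.mul_lt_mul_of_pos_right hi hdpos
  rw [hq0, coeff_zero] at h1
  have h2 : p.leadingCoeff = 0 := (IsReduced.pow_eq_zero_iff (n := n) (by
    intro hn0
    have : q = 1 := by
      rw [← hq.natDegree_eq_zero]; exact hn0
    rw [this, eval₂_one] at hq0
    have hp0 : p = 0 := by rw [← mul_one p, hq0, mul_zero]
    rw [hp0, natDegree_zero] at hd'
    omega)).mp h1.symm
  rw [leadingCoeff_eq_zero] at h2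
  rw [h2] at hd'
  simp at hd'
  omega


/-- Reducedness ascends along smooth ring maps: if R is reduced and S is smooth over R then S is
reduced. -/
theorem result (R : Type u) [CommRing R] (S : Type u) [CommRing S]
    [Algebra R S] [Algebra.Smooth R S] [IsReduced R] : IsReduced S := by
  refine ⟨fun x hx => ?_⟩
  obtain ⟨n, hn⟩ := hx
  have hz : IsIntegral S (x ⊗ₜ[R] (X : R[X])) := by
    refine ⟨X ^ n, monic_X_pow n, ?_⟩
    rw [eval₂_pow, eval₂_X, Algebra.TensorProduct.tmul_pow, hn, zero_tmul]
  obtain ⟨w, hw⟩ := (TensorProduct.toIntegralClosure_bijective_of_smooth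
    (R := R) (S := S) (B := R[X])).2 ⟨x ⊗ₜ[R] (X : R[X]), hz⟩
  have key : ∀ w : S ⊗[R] integralClosure R R[X], ∃ s : S,
      ((TensorProduct.toIntegralClosure R S R[X] w : integralClosure S (S ⊗[R] R[X])) :
        S ⊗[R] R[X]) = s ⊗ₜ 1 := by
    intro w
    induction w using TensorProduct.induction_on with
    | zero => exact ⟨0, by simp⟩
    | add a b ha hb =>
      obtain ⟨s, hs⟩ := ha
      obtain ⟨t, ht⟩ := hb
      exact ⟨s + t, by rw [map_add, Subalgebra.coe_add, hs, ht, add_tmul]⟩
    | tmul a b =>
      obtain ⟨b, hb⟩ := b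
      have hb0 : b.natDegree = 0 := natDegree_eq_zero_of_isIntegral b hb
      rw [natDegree_eq_zero] at hb0
      obtain ⟨r, rfl⟩ := hb0
      refine ⟨r • a, ?_⟩
      show Algebra.TensorProduct.map (AlgHom.id S S) (integralClosure R R[X]).val
        (a ⊗ₜ ⟨C r, hb⟩) = _
      rw [Algebra.TensorProduct.map_tmul]
      show a ⊗ₜ[R] (C r : R[X]) = _
      rw [smul_tmul, ← algebraMap_eq, Algebra.algebraMap_eq_smul_one]
  obtain ⟨s, hs⟩ := key w
  rw [hw] at hs
  have h2 := congrArg (polyEquivTensor R S).symm hs
  rw [polyEquivTensor_symm_apply_tmul_eq_smul, polyEquivTensor_symm_apply_tmul_eq_smul,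
    Polynomial.map_X, Polynomial.map_one] at h2
  have h3 := congrArg (fun p : S[X] => p.coeff 1) h2
  simpa [coeff_one] using h3

end Groth.Agent.S9407
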