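import Groth.Statements.S2136
import Groth.Agent.Lib.Helper17.Unibranch
import Groth.Agent.S9407
import Mathlib

set_option autoImplicit false
universe u
open CAlg

namespace Groth.Agent.S2136

open TensorProduct

/-- Minimal primes of an étale algebra over a domain are finite in number. -/
theorem finite_minimalPrimes_of_etale {A C : Type u} [CommRing A] [IsDomain A] [CommRing C]
    [Algebra A C] [Algebra.Etale A C] : (minimalPrimes C).Finite := by
  haveI : Algebra.QuasiFinite A C := inferInstance
  refine (Algebra.QuasiFinite.finite_primesOver (R := A) (S := C) ⊥).subset ?_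
  intro P hP
  haveI hPp : P.IsPrime := hP.1.1
  haveI : (⊥ : Ideal A).IsPrime := Ideal.isPrime_bot
  obtain ⟨P', hP'le, hP'prime, hP'over⟩ :=
    Ideal.exists_ideal_le_liesOver_of_le (p := (⊥ : Ideal A)) (q := P.under A) P bot_le
  have : P' = P := le_antisymm hP'le (hP.2 ⟨hP'prime, bot_le⟩ hP'le)
  subst this
  exact ⟨hPp, hP'over⟩

/-- In a reduced ring with finitely many minimal primes, the kernel of `C → C_Q` is killed by a
single element outside `Q`. -/
theorem exists_notMem_mul_eq_zero {C : Type u} [CommRing C] [IsReduced C]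
    (hfin : (minimalPrimes C).Finite) (Q : Ideal C) [Q.IsPrime] :
    ∃ c ∉ Q, ∀ x : C, (∃ s ∉ Q, s * x = 0) → c * x = 0 := by
  classical
  -- choose c in all minimal primes not contained in Q
  have h1 : ∀ T : Finset (Ideal C), (∀ P ∈ T, ¬ P ≤ Q) → ∃ c ∉ Q, ∀ P ∈ T, c ∈ P := by
    intro T
    induction T using Finset.induction_on with
    | empty => exact fun _ => ⟨1, fun h => (Ideal.IsPrime.ne_top ‹_›) ((Ideal.eq_top_iff_one _).mpr h),
        by simp⟩
    | insert P T hPT ih =>
      intro hT
      obtain ⟨c, hcQ, hc⟩ := ih (fun P' hP' => hT P' (Finset.mem_insert_of_mem hP'))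
      obtain ⟨d, hdP, hdQ⟩ := Set.not_subset.mp (hT P (Finset.mem_insert_self _ _))
      refine ⟨c * d, fun h => (Ideal.IsPrime.mem_or_mem ‹_› h).elim hcQ hdQ, ?_⟩
      intro P' hP'
      rcases Finset.mem_insert.mp hP' with rfl | hP'
      · exact Ideal.mul_mem_left _ _ hdP
      · exact Ideal.mul_mem_right _ _ (hc P' hP')
  obtain ⟨c, hcQ, hc⟩ := h1 (hfin.toFinset.filter (fun P => ¬ P ≤ Q)) (by
    intro P hP
    exact (Finset.mem_filter.mp hP).2)
  refine ⟨c, hcQ, fun x ⟨s, hsQ, hsx⟩ => ?_⟩
  have hnil : c * x ∈ nilradical C := by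
    rw [nilradical_eq_sInf, Ideal.mem_sInf]
    intro P' hP'
    haveI : P'.IsPrime := hP'
    obtain ⟨P, hPmin, hPle⟩ := Ideal.exists_minimalPrimes_le (I := ⊥) (J := P') bot_le
    apply hPle
    by_cases hPQ : P ≤ Q
    · haveI : P.IsPrime := hPmin.1.1
      have hx : x ∈ P := by
        have h2 : s * x ∈ P := by rw [hsx]; exact zero_mem _
        exact (Ideal.IsPrime.mem_or_mem ‹_› h2).resolve_left (fun h => hsQ (hPQ h))
      exact Ideal.mul_mem_left _ _ hx
    · exact Ideal.mul_mem_right _ _ (hc P (Finset.mem_filter.mpr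
        ⟨hfin.mem_toFinset.mpr hPmin, hPQ⟩))
  exact (nilradical_eq_zero C ▸ hnil : c * x ∈ (0 : Ideal C))

/-- Elements of an étale algebra over a domain are algebraic. -/
theorem isAlgebraic_of_etale {A C : Type u} [CommRing A] [IsDomain A] [CommRing C]
    [Algebra A C] [Algebra.Etale A C] (c : C) : IsAlgebraic A c := by
  haveI : Module.Finite (FractionRing A) (FractionRing A ⊗[A] C) :=
    Algebra.FormallyUnramified.finite_of_free (FractionRing A) (FractionRing A ⊗[A] C)
  have h1 : IsIntegral (FractionRing A) ((1 : FractionRing A) ⊗ₜ[A] c) :=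
    Algebra.IsIntegral.isIntegral _
  have h3 : IsAlgebraic A ((1 : FractionRing A) ⊗ₜ[A] c) :=
    (IsFractionRing.isAlgebraic_iff A (FractionRing A) (FractionRing A ⊗[A] C)).mpr
      h1.isAlgebraic
  have hinj : Function.Injective
      (Algebra.TensorProduct.includeRight : C →ₐ[A] FractionRing A ⊗[A] C) :=
    Algebra.TensorProduct.includeRight_injective (IsFractionRing.injective A (FractionRing A))
  exact (isAlgebraic_algHom_iff _ hinj).mp h3

open IsLocalRing in
/-- Local rings of an étale algebra over a domain at primes over a geometrically unibranch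
point are domains. -/
theorem isDomain_localization_atPrime {A C : Type u} [CommRing A] [IsDomain A] [CommRing C]
    [Algebra A C] [Algebra.Etale A C] (p : Ideal A) [p.IsPrime]
    (hA : CAlg2.IsGeomUnibranch (Localization.AtPrime p))
    (Q : Ideal C) [Q.IsPrime] (hQ : Q.comap (algebraMap A C) = p) :
    IsDomain (Localization.AtPrime Q) := by
  haveI : Algebra.Etale (Localization.AtPrime p)
      (Localization (Algebra.algebraMapSubmonoid C p.primeCompl)) :=
    Algebra.Etale.of_equiv (Localization.tensorRightAlgEquiv p.primeCompl C)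
  have hdisj : Disjoint (Algebra.algebraMapSubmonoid C p.primeCompl : Set C) (Q : Set C) := by
    rw [Set.disjoint_left]
    rintro _ ⟨a, ha, rfl⟩ haQ
    apply ha
    rw [← hQ]
    exact haQ
  have hQp : (Q.map (algebraMap C
      (Localization (Algebra.algebraMapSubmonoid C p.primeCompl)))).IsPrime :=
    IsLocalization.isPrime_of_isPrime_disjoint _ _ Q ‹_› hdisj
  have hcomap : (Q.map (algebraMap C
      (Localization (Algebra.algebraMapSubmonoid C p.primeCompl)))).comap (algebraMap C _) = Q :=
    IsLocalization.comap_map_of_isPrime_disjoint _ _ ‹_› hdisj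
  have hover : (Q.map (algebraMap C
      (Localization (Algebra.algebraMapSubmonoid C p.primeCompl)))).comap
      (algebraMap (Localization.AtPrime p) _) = maximalIdeal (Localization.AtPrime p) := by
    have h1 : ((Q.map (algebraMap C
        (Localization (Algebra.algebraMapSubmonoid C p.primeCompl)))).comap
        (algebraMap (Localization.AtPrime p) _)).under A = p := by
      rw [Ideal.under_def, Ideal.comap_comap, ← IsScalarTower.algebraMap_eq,
        IsScalarTower.algebraMap_eq A C (Localization (Algebra.algebraMapSubmonoid C p.primeCompl)),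
        ← Ideal.comap_comap, hcomap, hQ]
    rw [← IsLocalization.map_comap p.primeCompl (Localization.AtPrime p)
      ((Q.map (algebraMap C
        (Localization (Algebra.algebraMapSubmonoid C p.primeCompl)))).comap
        (algebraMap (Localization.AtPrime p) _)), h1, Localization.AtPrime.map_eq_maximalIdeal]
  haveI hdom := Groth.Agent.Lib.Helper17.Unibranch.isDomain_localization_of_etale_of_isGeomUnibranch
    hA (Q.map (algebraMap C (Localization (Algebra.algebraMapSubmonoid C p.primeCompl)))) hover
  haveI hloc : IsLocalization.AtPrime (Localization.AtPrime (Q.map (algebraMap C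
      (Localization (Algebra.algebraMapSubmonoid C p.primeCompl)))))
      ((Q.map (algebraMap C
      (Localization (Algebra.algebraMapSubmonoid C p.primeCompl)))).comap (algebraMap C _)) :=
    IsLocalization.isLocalization_isLocalization_atPrime_isLocalization
      (Algebra.algebraMapSubmonoid C p.primeCompl) _ _
  have heq : ((Q.map (algebraMap C
      (Localization (Algebra.algebraMapSubmonoid C p.primeCompl)))).comap
      (algebraMap C _)).primeCompl = Q.primeCompl := by
    ext x
    show x ∉ _ ↔ x ∉ _
    rw [hcomap]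
  rw [IsLocalization.AtPrime, heq] at hloc
  exact (IsLocalization.algEquiv Q.primeCompl (Localization.AtPrime Q)
    (Localization.AtPrime (Q.map (algebraMap C
      (Localization (Algebra.algebraMapSubmonoid C p.primeCompl)))))).injective.isDomain


/-- Let `A` be a domain, `A → B` a ring map of finite type, and `𝔮` a prime of `B` lying over `𝔭 ⊆ A`,
with `A_𝔭` geometrically unibranch, `A → B` unramified at `𝔮` and `A_𝔭 → B_𝔮` injective. Then `B_g`
is étale over `A` for some `g ∉ 𝔮`. (`B` is assumed of finite type over `A` throughout; the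
published statement needs this only after inverting an element outside `𝔮`.) -/
theorem result {A B : Type u} [CommRing A] [IsDomain A] [CommRing B]
    [Algebra A B] (q : Ideal B) [q.IsPrime] (p : Ideal A) [p.IsPrime] [q.LiesOver p]
    (hA : CAlg2.IsGeomUnibranch (Localization.AtPrime p)) [Algebra.FiniteType A B] [Algebra.IsUnramifiedAt A q]
    (hinj : Function.Injective (Localization.localRingHom p q (algebraMap A B) (q.over_def p))) :
    ∃ g : B, g ∉ q ∧ Algebra.Etale A (Localization.Away g) := by
  obtain ⟨f, hfq, P, φ, hφ⟩ :=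
    Algebra.IsUnramifiedAt.exists_hasStandardEtaleSurjectionOn (R := A) q
  have hfu : IsUnit (algebraMap B (Localization.AtPrime q) f) :=
    IsLocalization.map_units _ (⟨f, hfq⟩ : q.primeCompl)
  -- θ : C → B_q
  let θ : P.Ring →+* Localization.AtPrime q :=
    (IsLocalization.Away.lift f hfu).comp φ.toRingHom
  have hθ : ∀ c, θ c = IsLocalization.Away.lift f hfu (φ c) := fun c => rfl
  have hθA : ∀ a : A, θ (algebraMap A P.Ring a) = algebraMap A (Localization.AtPrime q) a := by
    intro a
    rw [hθ, φ.commutes, IsScalarTower.algebraMap_apply A B (Localization.Away f),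
      IsLocalization.Away.lift_eq, ← IsScalarTower.algebraMap_apply]
  have hQprime : ((IsLocalRing.maximalIdeal (Localization.AtPrime q)).comap θ).IsPrime :=
    Ideal.comap_isPrime _ _
  have hQp : ((IsLocalRing.maximalIdeal (Localization.AtPrime q)).comap θ).comap
      (algebraMap A P.Ring) = p := by
    ext a
    rw [Ideal.mem_comap, Ideal.mem_comap, hθA, IsScalarTower.algebraMap_apply A B,
      IsLocalization.AtPrime.to_map_mem_maximal_iff _ q, q.over_def p]
    rfl
  have hθu : ∀ c, c ∉ (IsLocalRing.maximalIdeal (Localization.AtPrime q)).comap θ →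
      IsUnit (θ c) := by
    intro c hc
    by_contra hnu
    exact hc ((IsLocalRing.mem_maximalIdeal _).mpr hnu)
  haveI hdom : IsDomain (Localization.AtPrime
      ((IsLocalRing.maximalIdeal (Localization.AtPrime q)).comap θ)) :=
    isDomain_localization_atPrime p hA _ hQp
  -- ψ : D → B_q
  let ψ : Localization.AtPrime ((IsLocalRing.maximalIdeal (Localization.AtPrime q)).comap θ) →+*
      Localization.AtPrime q :=
    IsLocalization.lift (M := ((IsLocalRing.maximalIdeal (Localization.AtPrime q)).comap
      θ).primeCompl) (g := θ) (fun c => hθu c.1 c.2)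
  have hψ : ∀ c, ψ (algebraMap P.Ring _ c) = θ c := fun c => IsLocalization.lift_eq _ _
  -- Step 4
  have hker : ∀ j, φ j = 0 → algebraMap P.Ring (Localization.AtPrime
      ((IsLocalRing.maximalIdeal (Localization.AtPrime q)).comap θ)) j = 0 := by
    intro j hj
    by_contra hne
    have hmem : algebraMap P.Ring (Localization.AtPrime
        ((IsLocalRing.maximalIdeal (Localization.AtPrime q)).comap θ)) j ∈ RingHom.ker ψ := by
      rw [RingHom.mem_ker, hψ, hθ, hj, map_zero]
    have halg : IsAlgebraic A (algebraMap P.Ring (Localization.AtPrime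
        ((IsLocalRing.maximalIdeal (Localization.AtPrime q)).comap θ)) j) :=
      (isAlgebraic_of_etale j).algebraMap
    have hne' := Ideal.comap_ne_bot_of_algebraic_mem (R := A) hne hmem halg
    obtain ⟨a, ha, ha0⟩ := Submodule.exists_mem_ne_zero_of_ne_bot hne'
    apply ha0
    rw [Ideal.mem_comap, RingHom.mem_ker, IsScalarTower.algebraMap_apply A P.Ring, hψ, hθA] at ha
    have h1 : Localization.localRingHom p q (algebraMap A B) (q.over_def p)
        (algebraMap A (Localization.AtPrime p) a) = 0 := by
      rw [Localization.localRingHom_to_map, ← IsScalarTower.algebraMap_apply, ha]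
    have h2 : algebraMap A (Localization.AtPrime p) a = 0 := hinj (by rw [h1, map_zero])
    exact (IsLocalization.to_map_eq_zero_iff (Localization.AtPrime p)
      p.primeCompl_le_nonZeroDivisors).mp h2
  -- Step 5: a uniform annihilator
  haveI : IsReduced P.Ring := Groth.Agent.S9407.result A P.Ring
  obtain ⟨c, hcQ, hc⟩ := exists_notMem_mul_eq_zero (finite_minimalPrimes_of_etale (A := A))
    ((IsLocalRing.maximalIdeal (Localization.AtPrime q)).comap θ)
  have hcj : ∀ j, φ j = 0 → c * j = 0 := by
    intro j hj
    obtain ⟨⟨s, hs⟩, hsj⟩ := (IsLocalization.map_eq_zero_iff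
      ((IsLocalRing.maximalIdeal (Localization.AtPrime q)).comap θ).primeCompl _ _).mp (hker j hj)
    exact hc j ⟨s, hs, hsj⟩
  -- Step 6: adjust c
  obtain ⟨u, hu⟩ := hφ (algebraMap B (Localization.Away f) f)
  obtain ⟨⟨b, ⟨_, n, rfl⟩⟩, hb⟩ := IsLocalization.surj (Submonoid.powers f) (φ c)
  simp only at hb
  have huQ : u ∉ (IsLocalRing.maximalIdeal (Localization.AtPrime q)).comap θ := by
    intro hmem
    have h1 : θ u ∈ IsLocalRing.maximalIdeal (Localization.AtPrime q) := hmem
    rw [hθ, hu, IsLocalization.Away.lift_eq] at h1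
    exact ((IsLocalRing.mem_maximalIdeal _).mp h1) hfu
  have hc'Q : c * u ^ n ∉ (IsLocalRing.maximalIdeal (Localization.AtPrime q)).comap θ := by
    intro hmem
    rcases Ideal.IsPrime.mem_or_mem hQprime hmem with h | h
    · exact hcQ h
    · exact huQ (Ideal.IsPrime.mem_of_pow_mem hQprime _ h)
  have hφc' : φ (c * u ^ n) = algebraMap B (Localization.Away f) b := by
    rw [map_mul, map_pow, hu, ← map_pow, hb]
  have hbq : b ∉ q := by
    intro hmem
    have h1 := hθu _ hc'Q
    rw [hθ, hφc', IsLocalization.Away.lift_eq] at h1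
    exact ((IsLocalization.AtPrime.isUnit_to_map_iff _ q b).mp h1) hmem
  have hc'j : ∀ j, φ j = 0 → (c * u ^ n) * j = 0 := by
    intro j hj
    rw [mul_right_comm, hcj j hj, zero_mul]
  -- Step 7
  refine ⟨f * b, fun h => (Ideal.IsPrime.mem_or_mem ‹_› h).elim hfq hbq, ?_⟩
  haveI hloc : IsLocalization.Away (f * b) (Localization.Away (φ (c * u ^ n))) :=
    hφc'.symm ▸ IsLocalization.Away.mul' (Localization.Away f)
      (Localization.Away (algebraMap B (Localization.Away f) b)) f b
  have hsurj : Function.Surjective (IsLocalization.Away.mapₐ (Localization.Away (c * u ^ n))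
      (Localization.Away (φ (c * u ^ n))) φ (c * u ^ n)) :=
    IsLocalization.Away.mapₐ_surjective_of_surjective _ hφ
  have hinj' : Function.Injective (IsLocalization.Away.mapₐ (Localization.Away (c * u ^ n))
      (Localization.Away (φ (c * u ^ n))) φ (c * u ^ n)) := by
    rw [injective_iff_map_eq_zero]
    intro x hx
    obtain ⟨y, ⟨_, m, rfl⟩, rfl⟩ := IsLocalization.exists_mk'_eq (Submonoid.powers (c * u ^ n)) x
    rw [IsLocalization.Away.mapₐ_apply, IsLocalization.Away.map, IsLocalization.map_mk',
      IsLocalization.mk'_eq_zero_iff] at hx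
    obtain ⟨⟨_, k, rfl⟩, hk⟩ := hx
    have h1 : φ ((c * u ^ n) ^ k * y) = 0 := by
      rw [map_mul, map_pow]
      exact hk
    have h2 := hc'j _ h1
    rw [IsLocalization.mk'_eq_zero_iff]
    refine ⟨⟨(c * u ^ n) ^ (k + 1), k + 1, rfl⟩, ?_⟩
    show (c * u ^ n) ^ (k + 1) * y = 0
    rw [pow_succ', mul_assoc]
    exact h2
  have het1 : Algebra.Etale A (Localization.Away (c * u ^ n)) :=
    Algebra.Etale.comp A P.Ring (Localization.Away (c * u ^ n))
  have het2 : Algebra.Etale A (Localization.Away (φ (c * u ^ n))) :=
    Algebra.Etale.of_equiv (AlgEquiv.ofBijective _ ⟨hinj', hsurj⟩)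
  exact Algebra.Etale.of_equiv ((IsLocalization.algEquiv (Submonoid.powers (f * b))
    (Localization.Away (f * b)) (Localization.Away (φ (c * u ^ n)))).restrictScalars A).symm

end Groth.Agent.S2136
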