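import Groth.Statements.S1451
import Groth.Agent.Lib.Helper17.UnibranchEtale
import Mathlib

set_option autoImplicit false
universe u
open FlatMor

namespace Groth.Agent.S1451

open AlgebraicGeometry CategoryTheory Limits

set_option backward.defeqAttrib.useBackward true in
set_option backward.isDefEq.respectTransparency false in
/-- Core: affine-local étaleness from unramified stalk + geometrically unibranch + injectivity. -/
theorem exists_etale_appLE {X Y : Scheme.{u}} (f : X ⟶ Y) [IsIntegral Y] [LocallyOfFiniteType f]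
    (x : X) (hY : CAlg2.IsGeomUnibranch (Y.presheaf.stalk (f x)))
    (hunr : (f.stalkMap x).hom.FormallyUnramified)
    (hsp : ∃ x' : X, x' ⤳ x ∧ f x' = genericPoint ↑Y) :
    ∃ (U : Y.Opens) (_ : IsAffineOpen U) (V : X.Opens) (_ : IsAffineOpen V) (hVU : V ≤ f ⁻¹ᵁ U),
      x ∈ V ∧ (f.appLE U V hVU).hom.Etale := by
  obtain ⟨_, ⟨U, hU, rfl⟩, hxU, -⟩ :=
    Y.isBasis_affineOpens.exists_subset_of_mem_open (Set.mem_univ (f x)) isOpen_univ
  obtain ⟨_, ⟨V, hV, rfl⟩, hxV, hVU⟩ :=
    X.isBasis_affineOpens.exists_subset_of_mem_open hxU (U.2.preimage f.continuous)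
  haveI : Nonempty U := ⟨⟨f x, hxU⟩⟩
  have hft := f.finiteType_appLE hU hV hVU
  algebraize [(f.appLE U V hVU).hom]
  -- primes
  have hlies : (hV.primeIdealOf ⟨x, hxV⟩).asIdeal.LiesOver
      (hU.primeIdealOf ⟨f x, hVU hxV⟩).asIdeal :=
    ⟨congr($(IsAffineOpen.comap_primeIdealOf_appLE U hU V hV hVU hxV).1).symm⟩
  -- unramified at q
  have hunrAt : Algebra.IsUnramifiedAt Γ(Y, U) (hV.primeIdealOf ⟨x, hxV⟩).asIdeal := by
    let := Localization.AtPrime.algebraOfLiesOver (hU.primeIdealOf ⟨f x, hVU hxV⟩).asIdeal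
      (hV.primeIdealOf ⟨x, hxV⟩).asIdeal
    have h1 : Algebra.FormallyUnramified
        (Localization.AtPrime (hU.primeIdealOf ⟨f x, hVU hxV⟩).asIdeal)
        (Localization.AtPrime (hV.primeIdealOf ⟨x, hxV⟩).asIdeal) := by
      rw [← RingHom.formallyUnramified_algebraMap]
      exact (RingHom.FormallyUnramified.respectsIso.arrow_mk_iso_iff
        (IsAffineOpen.arrowStalkMapIso f U hU V hV hVU hxV)).mp hunr
    exact Algebra.FormallyUnramified.comp Γ(Y, U)
      (Localization.AtPrime (hU.primeIdealOf ⟨f x, hVU hxV⟩).asIdeal)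
      (Localization.AtPrime (hV.primeIdealOf ⟨x, hxV⟩).asIdeal)
  -- the stalk as localization
  let algR := Y.presheaf.algebra_section_stalk ⟨f x, hVU hxV⟩
  have hlocR := hU.isLocalization_stalk ⟨f x, hVU hxV⟩
  -- injectivity
  have hinj : ∀ a : Γ(Y, U), algebraMap Γ(Y, U)
      (Localization.AtPrime (hV.primeIdealOf ⟨x, hxV⟩).asIdeal) a = 0 → a = 0 := by
    intro a ha
    obtain ⟨x', hx'x, hfx'⟩ := hsp
    have hx'V : x' ∈ V := hx'x.mem_open V.2 hxV
    have hle : (hV.primeIdealOf ⟨x', hx'V⟩).asIdeal ≤ (hV.primeIdealOf ⟨x, hxV⟩).asIdeal := by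
      have h1 : (⟨x', hx'V⟩ : V) ⤳ ⟨x, hxV⟩ := (subtype_specializes_iff _ _).mpr hx'x
      exact (PrimeSpectrum.asIdeal_le_asIdeal _ _).mpr
        ((PrimeSpectrum.le_iff_specializes _ _).mpr (h1.map (IsAffineOpen.isoSpec hV).hom.continuous))
    have hbot : (hV.primeIdealOf ⟨x', hx'V⟩).asIdeal.comap (algebraMap Γ(Y, U) Γ(X, V)) = ⊥ := by
      have h2 := congr($(IsAffineOpen.comap_primeIdealOf_appLE U hU V hV hVU hx'V).1)
      have h3 : (⟨f x', hVU hx'V⟩ : U) = ⟨genericPoint Y,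
          ((genericPoint_spec Y).mem_open_set_iff U.isOpen).mpr (by simpa using ‹Nonempty U›)⟩ :=
        Subtype.ext hfx'
      rw [h3, hU.primeIdealOf_genericPoint, genericPoint_eq_bot_of_affine] at h2
      exact h2
    rw [IsScalarTower.algebraMap_apply Γ(Y, U) Γ(X, V), IsLocalization.map_eq_zero_iff
      (hV.primeIdealOf ⟨x, hxV⟩).asIdeal.primeCompl] at ha
    obtain ⟨⟨s, hs⟩, hsa⟩ := ha
    have h4 : algebraMap Γ(Y, U) Γ(X, V) a ∈ (hV.primeIdealOf ⟨x', hx'V⟩).asIdeal := by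
      have h5 : s * algebraMap Γ(Y, U) Γ(X, V) a ∈ (hV.primeIdealOf ⟨x', hx'V⟩).asIdeal := by
        rw [hsa]; exact zero_mem _
      exact ((hV.primeIdealOf ⟨x', hx'V⟩).isPrime.mem_or_mem h5).resolve_left
        (fun h => hs (hle h))
    have h6 : a ∈ (hV.primeIdealOf ⟨x', hx'V⟩).asIdeal.comap (algebraMap Γ(Y, U) Γ(X, V)) := h4
    rw [hbot] at h6
    exact h6
  obtain ⟨r, hrx, hr⟩ := Groth.Agent.Lib.Helper17.UnibranchEtale.exists_etale_away
    (A := Γ(Y, U)) (B := Γ(X, V)) (hV.primeIdealOf ⟨x, hxV⟩).asIdeal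
    (hU.primeIdealOf ⟨f x, hVU hxV⟩).asIdeal (Y.presheaf.stalk (f x)) hY hinj
  refine ⟨_, hU, _, hV.basicOpen r, (X.basicOpen_le r).trans hVU, ?_, ?_⟩
  · rwa [← PrimeSpectrum.mem_basicOpen, IsAffineOpen.primeIdealOf,
      ← hV.fromSpec_preimage_basicOpen, Scheme.Hom.mem_preimage, ← Scheme.Hom.comp_apply,
      IsAffineOpen.isoSpec_hom, IsAffineOpen.toSpecΓ_fromSpec] at hrx
  · have := hV.isLocalization_basicOpen r
    rw [← RingHom.etale_algebraMap] at hr
    convert!
      RingHom.Etale.respectsIso.1 _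
        (IsLocalization.algEquiv (.powers r) _ Γ(X, X.basicOpen r)).toRingEquiv hr
    ext
    dsimp
    simp only [IsScalarTower.algebraMap_apply Γ(Y, U) Γ(X, V) (Localization _),
      IsLocalization.map_eq]
    simp only [RingHom.algebraMap_toAlgebra, RingHomCompTriple.comp_apply, ← ConcreteCategory.comp_apply,
      Scheme.Hom.appLE_map]


open AlgebraicGeometry CategoryTheory Limits in
/-- Let Y be integral and f : X → Y locally of finite type; let x be a point such that the local ring of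
Y at f x is geometrically unibranch, f is unramified on an open neighbourhood of x, and some
generization of x maps to the generic point of Y. Then f is étale on an open neighbourhood of x. -/
theorem result {X Y : Scheme.{u}} (f : X ⟶ Y) [IsIntegral Y] [LocallyOfFiniteType f] (x : X)
    (hY : CAlg2.IsGeomUnibranch (Y.presheaf.stalk (f x))) (hsp : ∃ x' : X, x' ⤳ x ∧ f x' = genericPoint ↑Y)
    (hunr : ∃ U : X.Opens, x ∈ U ∧ FormallyUnramified (U.ι ≫ f)) :
    ∃ U : X.Opens, x ∈ U ∧ Etale (U.ι ≫ f) := by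
  obtain ⟨W, hxW, hW⟩ := hunr
  have hst : (f.stalkMap x).hom.FormallyUnramified := by
    obtain ⟨w, hw⟩ : ∃ w : W.toScheme, W.ι w = x := ⟨⟨x, hxW⟩, rfl⟩
    have h1 := FormallyUnramified.stalkMap (W.ι ≫ f) w
    have h2 : (f.stalkMap (W.ι w)).hom.FormallyUnramified := by
      refine (RingHom.FormallyUnramified.respectsIso.cancel_right_isIso _
        (W.ι.stalkMap w)).mp ?_
      rw [← CommRingCat.hom_comp, ← Scheme.Hom.stalkMap_comp]
      exact h1
    rw [hw] at h2
    exact h2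
  obtain ⟨U, hU, V, hV, hVU, hxV, H⟩ := exists_etale_appLE f x hY hst hsp
  refine ⟨V, hxV, ?_⟩
  have : IsAffine U.toScheme := hU
  have : IsAffine V.toScheme := hV
  have h2 : Etale (f.resLE U V hVU) := by
    rw [HasRingHomProperty.iff_of_isAffine (P := @Etale)]
    exact (RingHom.Etale.respectsIso.arrow_mk_iso_iff (arrowResLEAppIso f U V hVU)).mpr H
  rw [← Scheme.Hom.resLE_comp_ι f hVU]
  infer_instance

end Groth.Agent.S1451
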