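import Groth.Statements.S1450
import Groth.Agent.S1451
import Groth.Agent.Lib.Helper17.UnibranchScheme
import Mathlib

set_option autoImplicit false
universe u
open FlatMor

namespace Groth.Agent.S1450

open Groth.Agent.Lib.Helper17.UnibranchScheme

open AlgebraicGeometry CategoryTheory Limits in
/-- Let Y be integral with all local rings geometrically unibranch, X connected, and f : X → Y
unramified (formally unramified and locally of finite type) such that some point of X maps to the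
generic point of Y. Then f is étale and X is irreducible. -/
theorem result {X Y : Scheme.{u}} (f : X ⟶ Y) [IsIntegral Y] (hY : ∀ y : Y, CAlg2.IsGeomUnibranch (Y.presheaf.stalk y))
    [ConnectedSpace ↑X] [FormallyUnramified f] [LocallyOfFiniteType f] (hdom : genericPoint ↑Y ∈ Set.range ⇑f) :
    Etale f ∧ IrreducibleSpace ↑X := by
  have hqf := locallyQuasiFinite_of_unramified f
  obtain ⟨e₀, he₀⟩ := hdom
  have hunrTop : FormallyUnramified ((⊤ : X.Opens).ι ≫ f) :=
    MorphismProperty.comp_mem _ _ _ inferInstance ‹FormallyUnramified f›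
  have hLF : ∀ x : X, ∃ W : Set X, IsOpen W ∧ x ∈ W ∧ (W ∩ f ⁻¹' {genericPoint Y}).Finite := by
    intro x
    obtain ⟨W, hxW, hfin⟩ := exists_open_finite_fibre f (genericPoint Y) x
    exact ⟨W, W.2, hxW, hfin.subset (fun e he => ⟨he.1, he.2⟩)⟩
  have hloc : ∀ x : X, (∃ e ∈ f ⁻¹' {genericPoint Y}, e ⤳ x) →
      ∃ V : X.Opens, x ∈ V ∧ Etale (V.ι ≫ f) := by
    rintro x ⟨e, hfe, hex⟩
    exact Groth.Agent.S1451.result f x (hY _) ⟨e, hex, hfe⟩ ⟨⊤, trivial, hunrTop⟩
  have hSopen : IsOpen {x : X | ∃ e ∈ f ⁻¹' {genericPoint Y}, e ⤳ x} := by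
    rw [isOpen_iff_forall_mem_open]
    intro x hx
    obtain ⟨V, hxV, hV⟩ := hloc x hx
    refine ⟨V, ?_, V.2, hxV⟩
    intro z hzV
    obtain ⟨w, hw⟩ : ∃ w : V.toScheme, V.ι w = z := ⟨⟨z, hzV⟩, rfl⟩
    have hgen := Flat.generalizingMap (V.ι ≫ f)
    obtain ⟨w', hw'w, hfw'⟩ := hgen (a := w) (b := genericPoint Y) (genericPoint_specializes _)
    exact ⟨V.ι w', hfw', hw ▸ hw'w.map V.ι.continuous⟩
  have hSclosed := isClosed_specializations_of_locally_finite (f ⁻¹' {genericPoint Y}) hLF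
  have hSuniv : {x : X | ∃ e ∈ f ⁻¹' {genericPoint Y}, e ⤳ x} = Set.univ :=
    IsClopen.eq_univ ⟨hSclosed, hSopen⟩ ⟨e₀, e₀, he₀, specializes_rfl⟩
  have hS : ∀ x : X, ∃ e ∈ f ⁻¹' {genericPoint Y}, e ⤳ x := fun x => by
    have : x ∈ {x : X | ∃ e ∈ f ⁻¹' {genericPoint Y}, e ⤳ x} := hSuniv ▸ Set.mem_univ x
    exact this
  have het : Etale f := by
    choose V hxV hV using fun x => hloc x (hS x)
    refine (IsZariskiLocalAtSource.iff_of_iSup_eq_top (P := @Etale) V ?_).mpr hV
    rw [eq_top_iff]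
    intro x _
    exact TopologicalSpace.Opens.mem_iSup.mpr ⟨x, hxV x⟩
  refine ⟨het, ?_⟩
  refine irreducibleSpace_of_unique (f ⁻¹' {genericPoint Y}) hLF hS ?_ e₀ he₀
  intro x e he e' he' hex he'x
  haveI : IsDomain (X.presheaf.stalk x) := isDomain_stalk_of_etale f x inferInstance (hY _)
  exact eq_of_specializes_of_isDomain_stalk f x hex he'x he he'

end Groth.Agent.S1450
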