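import Groth.Statements.S0246
import Groth.Agent.S1450
import Groth.Agent.Lib.Helper17.UnibranchScheme
import Groth.Agent.Lib.Helper17.GeomUnibranch
import Groth.Agent.Lib.Helper17.SmoothNormal
import Mathlib
set_option backward.isDefEq.respectTransparency.types false

set_option autoImplicit false
universe u
open Pi1

namespace Groth.Agent.S0246
open AlgebraicGeometry CategoryTheory CategoryTheory.Limits

theorem isGeomUnibranch_of_normal {D : Type u} [CommRing D] [IsDomain D] [IsLocalRing D]
    [IsIntegrallyClosed D] : CAlg2.IsGeomUnibranch D := by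
  refine Groth.Agent.Lib.Helper17.GeomUnibranch.isGeomUnibranch_of_normalization (D := D) D
    Function.injective_id (fun y => ⟨1, one_ne_zero, y, by simp⟩) 1 (Or.inl rfl)
    (fun y => ⟨0, y, by simp⟩)

theorem isIntegrallyClosed_section {X : Scheme.{u}} [IsIntegral X]
    (hX : ∀ x : X, IsIntegrallyClosed (X.presheaf.stalk x)) (U : X.Opens) (hU : IsAffineOpen U)
    [Nonempty U] : IsIntegrallyClosed Γ(X, U) := by
  refine IsIntegrallyClosed.of_localization_maximal (fun p _ hp => ?_)
  let y : PrimeSpectrum Γ(X, U) := ⟨p, hp.isPrime⟩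
  have hy : hU.fromSpec y ∈ U := (hU.isoSpec.inv y).2
  let alg := X.presheaf.algebra_section_stalk ⟨hU.fromSpec y, hy⟩
  have hloc := hU.isLocalization_stalk' y hy
  haveI : IsLocalization p.primeCompl (X.presheaf.stalk (hU.fromSpec y)) := hloc
  haveI := hX (hU.fromSpec y)
  exact IsIntegrallyClosed.of_equiv
    (IsLocalization.algEquiv p.primeCompl (X.presheaf.stalk (hU.fromSpec y))
      (Localization.AtPrime p)).toRingEquiv

set_option backward.defeqAttrib.useBackward true in
set_option backward.isDefEq.respectTransparency false in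
theorem normal_stalk_of_etale {Z X : Scheme.{u}} (p : Z ⟶ X) [Etale p] [IsIntegral X]
    (hX : ∀ x : X, IsIntegrallyClosed (X.presheaf.stalk x)) (y : Z) :
    IsDomain (Z.presheaf.stalk y) ∧ IsIntegrallyClosed (Z.presheaf.stalk y) := by
  obtain ⟨_, ⟨U, hU, rfl⟩, hxU, -⟩ :=
    X.isBasis_affineOpens.exists_subset_of_mem_open (Set.mem_univ (p y)) isOpen_univ
  obtain ⟨_, ⟨V, hV, rfl⟩, hxV, hVU⟩ :=
    Z.isBasis_affineOpens.exists_subset_of_mem_open hxU (U.2.preimage p.continuous)
  have het := HasRingHomProperty.appLE (P := @Etale) p inferInstance ⟨U, hU⟩ ⟨V, hV⟩ hVU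
  algebraize [(p.appLE U V hVU).hom]
  haveI : Algebra.Etale Γ(X, U) Γ(Z, V) := RingHom.etale_algebraMap.mp het
  haveI : Nonempty U := ⟨⟨p y, hxU⟩⟩
  haveI : IsIntegrallyClosed Γ(X, U) := isIntegrallyClosed_section hX U hU
  let algS := Z.presheaf.algebra_section_stalk ⟨y, hxV⟩
  have hlocS := hV.isLocalization_stalk ⟨y, hxV⟩
  obtain ⟨h1, h2⟩ :=
    Groth.Agent.Lib.Helper17.SmoothNormal.isDomain_and_isIntegrallyClosed_atPrime_of_etale
      Γ(X, U) (B := Γ(Z, V)) (hV.primeIdealOf ⟨y, hxV⟩).asIdeal
  let e := IsLocalization.algEquiv (hV.primeIdealOf ⟨y, hxV⟩).asIdeal.primeCompl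
    (Z.presheaf.stalk y) (Localization.AtPrime (hV.primeIdealOf ⟨y, hxV⟩).asIdeal)
  haveI : IsDomain (Z.presheaf.stalk y) := e.injective.isDomain
  exact ⟨inferInstance, IsIntegrallyClosed.of_equiv e.symm.toRingEquiv⟩


open AlgebraicGeometry CategoryTheory CategoryTheory.Limits in
/-- If Y is finite etale over a normal integral scheme X and Y is connected, then Y is an integral
scheme all of whose local rings are integrally closed domains. -/
theorem result {X : Scheme.{u}} [IsIntegral X] (hX : Pi1.IsNormalScheme X) (Y : FEt.Cat X)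
    [ConnectedSpace Y.left] : IsIntegral Y.left ∧ Pi1.IsNormalScheme Y.left := by
  let p : Y.left ⟶ X := Y.hom
  haveI : IsFinite p := Y.prop.1
  haveI : Etale p := Y.prop.2
  have hXic : ∀ x : X, IsIntegrallyClosed (X.presheaf.stalk x) := fun x => (hX x).2
  have hXgu : ∀ x : X, CAlg2.IsGeomUnibranch (X.presheaf.stalk x) := fun x => by
    haveI := (hX x).1
    haveI := (hX x).2
    exact isGeomUnibranch_of_normal
  have hnorm : Pi1.IsNormalScheme Y.left := fun y => normal_stalk_of_etale p hXic y
  refine ⟨?_, hnorm⟩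
  have hopen : IsOpen (Set.range p) := p.isOpenMap.isOpen_range
  have hdom : genericPoint X ∈ Set.range p := by
    obtain ⟨y⟩ : Nonempty Y.left := inferInstance
    exact ((genericPoint_spec X).mem_open_set_iff hopen).mpr ⟨p y, ⟨Set.mem_univ _, y, rfl⟩⟩
  obtain ⟨-, hirr⟩ := Groth.Agent.S1450.result p hXgu hdom
  haveI : ∀ y : Y.left, IsReduced (Y.left.presheaf.stalk y) := fun y => by
    haveI := (hnorm y).1
    infer_instance
  haveI : IsReduced Y.left := isReduced_of_isReduced_stalk Y.left
  exact isIntegral_of_irreducibleSpace_of_isReduced Y.left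

end Groth.Agent.S0246
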