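import Groth.Statements.S4809
import Groth.Agent.Lib.Helper13.ZMTBirational

set_option autoImplicit false
universe u
open CategoryTheory AlgebraicGeometry
open Lim8

namespace Groth.Agent.S4809

/-- Let Y be an integral normal scheme (every local ring integrally closed), X an integral scheme, and f
: X ⟶ Y a locally quasi-finite morphism (locally of finite type with discrete fibres) which is
birational: f maps the generic point of X to that of Y and its stalk map at the generic point of X,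
the induced homomorphism of function fields, is an isomorphism. Then f is a local isomorphism, and f
is an open immersion as soon as it is separated. -/
theorem result {X Y : Scheme.{u}} [IsIntegral X] [IsIntegral Y]
    (hN : ∀ y : Y, IsIntegrallyClosed (Y.presheaf.stalk y)) (f : X ⟶ Y) [LocallyQuasiFinite f]
    [LocallyOfFiniteType f] (hgen : f (genericPoint X) = genericPoint Y)
    (hbir : IsIso (f.stalkMap (genericPoint X))) :
    IsLocalIso f ∧ (IsSeparated f → IsOpenImmersion f) := by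
  have hYaff : ∀ y : Y, ∃ V : Y.Opens, IsAffineOpen V ∧ y ∈ V := by
    intro y
    obtain ⟨_, ⟨V, hV, rfl⟩, hxV, -⟩ := Y.isBasis_affineOpens.exists_subset_of_mem_open
      (Set.mem_univ y) isOpen_univ
    exact ⟨V, hV, hxV⟩
  have hXaff : ∀ (x : X) (W : X.Opens), x ∈ W → ∃ U : X.Opens, IsAffineOpen U ∧ x ∈ U ∧ U ≤ W := by
    intro x W hxW
    obtain ⟨_, ⟨U, hU, rfl⟩, hxU, hUW⟩ := X.isBasis_affineOpens.exists_subset_of_mem_open
      (show x ∈ (W : Set X) from hxW) W.isOpen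
    exact ⟨U, hU, hxU, hUW⟩
  have hloc : IsLocalIso f := by
    refine ⟨fun x₀ => ?_⟩
    obtain ⟨V, hV, hxV⟩ := hYaff (f x₀)
    obtain ⟨U, hU, hxU, e⟩ := hXaff x₀ (f ⁻¹ᵁ V) hxV
    haveI : IsAffine U.toScheme := hU
    haveI : IsAffine V.toScheme := hV
    haveI : IsSeparated (f.resLE V U e) := inferInstance
    haveI := Groth.Agent.Lib.Helper13.ZMTBirational.isOpenImmersion_resLE f hN hgen hbir U V e
      hU.isCompact ⟨x₀, hxU⟩ hV
    refine ⟨U, hxU, ?_⟩
    rw [← Scheme.Hom.resLE_comp_ι f e]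
    infer_instance
  refine ⟨hloc, fun hsep => ?_⟩
  have hinj : Function.Injective f := by
    intro x₁ x₂ h12
    obtain ⟨V, hV, hxV⟩ := hYaff (f x₁)
    obtain ⟨U₁, hU₁, hxU₁, hUV₁⟩ := hXaff x₁ (f ⁻¹ᵁ V) hxV
    obtain ⟨U₂, hU₂, hxU₂, hUV₂⟩ := hXaff x₂ (f ⁻¹ᵁ V) (by
        show f x₂ ∈ V
        rw [← h12]; exact hxV)
    have e : U₁ ⊔ U₂ ≤ f ⁻¹ᵁ V := sup_le hUV₁ hUV₂
    have hcomp : IsCompact ((U₁ ⊔ U₂ : X.Opens) : Set X) := by
      rw [TopologicalSpace.Opens.coe_sup]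
      exact hU₁.isCompact.union hU₂.isCompact
    haveI : IsSeparated (f.resLE V (U₁ ⊔ U₂) e ≫ V.ι) := by
      rw [Scheme.Hom.resLE_comp_ι]; infer_instance
    haveI : IsSeparated (f.resLE V (U₁ ⊔ U₂) e) := IsSeparated.of_comp _ V.ι
    haveI := Groth.Agent.Lib.Helper13.ZMTBirational.isOpenImmersion_resLE f hN hgen hbir
      (U₁ ⊔ U₂) V e hcomp ⟨x₁, Or.inl hxU₁⟩ hV
    let a₁ : (U₁ ⊔ U₂ : X.Opens).toScheme := ⟨x₁, Or.inl hxU₁⟩
    let a₂ : (U₁ ⊔ U₂ : X.Opens).toScheme := ⟨x₂, Or.inr hxU₂⟩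
    have : f.resLE V (U₁ ⊔ U₂) e a₁ = f.resLE V (U₁ ⊔ U₂) e a₂ := by
      apply Subtype.ext
      rw [Scheme.Hom.coe_resLE_apply, Scheme.Hom.coe_resLE_apply]
      exact h12
    have h := (f.resLE V (U₁ ⊔ U₂) e).isOpenEmbedding.injective this
    exact congrArg Subtype.val h
  refine IsOpenImmersion.of_forall_source_exists f hinj fun x => ?_
  obtain ⟨U, hxU, hU⟩ := hloc.exists_isOpenImmersion x
  exact ⟨U.toScheme, U.ι, inferInstance, by simpa using hxU, hU⟩

end Groth.Agent.S4809
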