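import Groth.Statements.S4795
import Groth.Agent.S9218
import Groth.Agent.S4805

set_option autoImplicit false
universe u
open CategoryTheory AlgebraicGeometry
open Lim8

namespace Groth.Agent.S4795

/-- Let S = lim S_i be a cofiltered limit of schemes with affine transition maps and S_{i₀} a
quasi-compact quasi-separated stage; let X₀ and Y₀ be schemes of finite presentation over S_{i₀},
and let X, Y be their base changes along S ⟶ S_{i₀} (base changes are expressed by pullback
squares). Then X and Y are isomorphic over S if and only if, for some index j over i₀, the base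
changes X_j and Y_j of X₀ and Y₀ along S_j ⟶ S_{i₀} are isomorphic over S_j. -/
theorem result {I : Type u} [SmallCategory I] [IsCofiltered I]
    (D : I ⥤ Scheme.{u}) (c : Limits.Cone D) (hc : Limits.IsLimit c)
    [∀ (i j : I) (f : i ⟶ j), IsAffineHom (D.map f)] (i₀ : I)
    [CompactSpace (D.obj i₀)] [QuasiSeparatedSpace (D.obj i₀)]
    {X₀ Y₀ : Scheme.{u}} (a₀ : X₀ ⟶ D.obj i₀) (b₀ : Y₀ ⟶ D.obj i₀)
    [LocallyOfFinitePresentation a₀] [QuasiCompact a₀] [QuasiSeparated a₀]
    [LocallyOfFinitePresentation b₀] [QuasiCompact b₀] [QuasiSeparated b₀]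
    {X Y : Scheme.{u}} (a : X ⟶ c.pt) (b : Y ⟶ c.pt) (qX : X ⟶ X₀) (qY : Y ⟶ Y₀)
    (hX : IsPullback qX a a₀ (c.π.app i₀)) (hY : IsPullback qY b b₀ (c.π.app i₀)) :
    (∃ e : X ≅ Y, e.hom ≫ b = a) ↔
      ∃ (j : I) (φ : j ⟶ i₀) (Xj Yj : Scheme.{u}) (aj : Xj ⟶ D.obj j) (bj : Yj ⟶ D.obj j)
        (pX : Xj ⟶ X₀) (pY : Yj ⟶ Y₀), IsPullback pX aj a₀ (D.map φ) ∧ IsPullback pY bj b₀ (D.map φ) ∧
        ∃ e : Xj ≅ Yj, e.hom ≫ bj = aj := by
  haveI : CompactSpace X₀ := QuasiCompact.compactSpace_of_compactSpace a₀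
  haveI : QuasiSeparatedSpace X₀ := quasiSeparatedSpace_of_quasiSeparated a₀
  haveI : CompactSpace Y₀ := QuasiCompact.compactSpace_of_compactSpace b₀
  haveI : QuasiSeparatedSpace Y₀ := quasiSeparatedSpace_of_quasiSeparated b₀
  constructor
  · rintro ⟨e, he⟩
    obtain ⟨j, φ, fj, sX, sY, h1, h2, h3, h4, h5, h6⟩ :=
      Groth.Agent.S9218.result D c hc i₀ a₀ b₀ qX a hX qY b hY e.hom he
    -- X, Y as pullbacks over stage j
    have hXj : IsPullback sX a (Limits.pullback.snd a₀ (D.map φ)) (c.π.app j) := by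
      refine IsPullback.of_right ?_ h3 (IsPullback.of_hasPullback a₀ (D.map φ))
      rw [h2, c.w φ]; exact hX
    have hYj : IsPullback sY b (Limits.pullback.snd b₀ (D.map φ)) (c.π.app j) := by
      refine IsPullback.of_right ?_ h5 (IsPullback.of_hasPullback b₀ (D.map φ))
      rw [h4, c.w φ]; exact hY
    have hsq : IsPullback sX e.hom fj sY := by
      refine IsPullback.of_bot ?_ h6 hYj
      rw [he, h1]; exact hXj
    haveI : CompactSpace (D.obj j) := QuasiCompact.compactSpace_of_compactSpace (D.map φ)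
    haveI : LocallyOfFinitePresentation (fj ≫ Limits.pullback.snd b₀ (D.map φ)) := by
      rw [h1]; infer_instance
    haveI : QuasiCompact (fj ≫ Limits.pullback.snd b₀ (D.map φ)) := by
      rw [h1]; infer_instance
    haveI : QuasiSeparated (fj ≫ Limits.pullback.snd b₀ (D.map φ)) := by
      rw [h1]; infer_instance
    obtain ⟨j', φ', Xj', Yj', fj', gj', pY, pX, k1, k2, k3⟩ :=
      Groth.Agent.S4805.result D c hc j fj (Limits.pullback.snd b₀ (D.map φ)) e.hom b sY sX hYj hsq
    refine ⟨j', φ' ≫ φ, Xj', Yj', fj' ≫ gj', gj', pX ≫ Limits.pullback.fst a₀ (D.map φ),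
      pY ≫ Limits.pullback.fst b₀ (D.map φ), ?_, ?_, asIso fj', rfl⟩
    · have := (k2.paste_vert k1).paste_horiz (h1 ▸ IsPullback.of_hasPullback a₀ (D.map φ))
      rw [D.map_comp]
      exact this
    · rw [D.map_comp]
      exact k1.paste_horiz (IsPullback.of_hasPullback b₀ (D.map φ))
  · rintro ⟨j, φ, Xj, Yj, aj, bj, pX, pY, h1, h2, e, he⟩
    let sX : X ⟶ Xj := h1.lift qX (a ≫ c.π.app j) (by rw [Category.assoc, c.w φ, hX.w])
    let sY : Y ⟶ Yj := h2.lift qY (b ≫ c.π.app j) (by rw [Category.assoc, c.w φ, hY.w])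
    have hXj : IsPullback sX a aj (c.π.app j) := by
      refine IsPullback.of_right ?_ (h1.lift_snd _ _ _) h1
      rw [h1.lift_fst, c.w φ]; exact hX
    have hYj : IsPullback sY b bj (c.π.app j) := by
      refine IsPullback.of_right ?_ (h2.lift_snd _ _ _) h2
      rw [h2.lift_fst, c.w φ]; exact hY
    refine ⟨⟨hYj.lift (sX ≫ e.hom) a (by rw [Category.assoc, he, hXj.w]),
      hXj.lift (sY ≫ e.inv) b (by rw [Category.assoc, ← he, e.inv_hom_id_assoc, hYj.w]), ?_, ?_⟩,
      hYj.lift_snd _ _ _⟩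
    · apply hXj.hom_ext
      · rw [Category.assoc, hXj.lift_fst, ← Category.assoc, hYj.lift_fst, Category.assoc,
          e.hom_inv_id, Category.comp_id, Category.id_comp]
      · rw [Category.assoc, hXj.lift_snd, hYj.lift_snd, Category.id_comp]
    · apply hYj.hom_ext
      · rw [Category.assoc, hYj.lift_fst, ← Category.assoc, hXj.lift_fst, Category.assoc,
          e.inv_hom_id, Category.comp_id, Category.id_comp]
      · rw [Category.assoc, hYj.lift_snd, hXj.lift_snd, Category.id_comp]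

end Groth.Agent.S4795
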