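import Groth.Statements.S4787
import Groth.Agent.S4784
import Groth.Agent.Lib.Helper25.ProConsScheme
import Groth.Agent.Lib.Helper25.ProCons2

set_option autoImplicit false
universe u
open CategoryTheory AlgebraicGeometry
open Lim8

namespace Groth.Agent.S4787
open Groth.Agent.Lib.Helper25.PC
open scoped Set.Notation

theorem proC_inter {Z : Type*} [TopologicalSpace Z] {A B : Set Z} (hA : ProC A) (hB : ProC B) :
    ProC (A ∩ B) := by
  intro V hV
  have : (V ↓∩ (A ∩ B)) = (V ↓∩ A) ∩ (V ↓∩ B) := rfl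
  rw [this]
  exact (hA V hV).inter (hB V hV)

/-- a finite family of arrows into `k` in a cofiltered category is dominated by one arrow -/
theorem exists_dominating {I : Type u} [SmallCategory I] [IsCofiltered I] (D : I ⥤ Scheme.{u})
    (k : I) (J : Finset (Σ j : I, j ⟶ k)) :
    ∃ (m : I) (ρ : m ⟶ k), ∀ a ∈ J, Set.range ⇑(D.map ρ) ⊆ Set.range ⇑(D.map a.2) := by
  classical
  induction J using Finset.induction_on with
  | empty => exact ⟨k, 𝟙 k, by simp⟩
  | insert a J _ ih =>
    obtain ⟨m, ρ, hρ⟩ := ih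
    obtain ⟨m', α, β, hαβ⟩ := IsCofiltered.cospan ρ a.2
    refine ⟨m', α ≫ ρ, ?_⟩
    intro b hb
    rcases Finset.mem_insert.mp hb with rfl | hb
    · rw [hαβ, D.map_comp]
      rintro _ ⟨x, rfl⟩
      exact ⟨D.map β x, rfl⟩
    · refine subset_trans ?_ (hρ b hb)
      rw [D.map_comp]
      rintro _ ⟨x, rfl⟩
      exact ⟨D.map α x, rfl⟩


/-- Let S = lim S_i be a cofiltered limit of schemes with affine transition maps, some stage S_{i₀}
being quasi-compact. For every index let E_i be a pro-constructible and F_i an ind-constructible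
subset of S_i such that, for every transition map S_i ⟶ S_j, E_i lies in the preimage of E_j and F_i
contains the preimage of F_j. Put E = ⋂ (preimage of E_i in S) and F = ⋃ (preimage of F_i in S).
Then E ⊆ F if and only if there is an index i over i₀ such that E_j ⊆ F_j for every j over i. -/
theorem result {I : Type u} [SmallCategory I] [IsCofiltered I]
    (D : I ⥤ Scheme.{u}) (c : Limits.Cone D) (hc : Limits.IsLimit c)
    [∀ (i j : I) (f : i ⟶ j), IsAffineHom (D.map f)] (i₀ : I)
    [CompactSpace (D.obj i₀)] (E F : ∀ i : I, Set (D.obj i))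
    (hE : ∀ i, ProCons.IsProConstructible (E i)) (hF : ∀ i, ProCons.IsIndConstructible (F i))
    (hEm : ∀ (i j : I) (φ : i ⟶ j), E i ⊆ ⇑(D.map φ) ⁻¹' E j)
    (hFm : ∀ (i j : I) (φ : i ⟶ j), ⇑(D.map φ) ⁻¹' F j ⊆ F i) :
    (⋂ i, ⇑(c.π.app i) ⁻¹' E i : Set c.pt) ⊆ (⋃ i, ⇑(c.π.app i) ⁻¹' F i : Set c.pt) ↔
      ∃ (i : I) (_ : i ⟶ i₀), ∀ (j : I) (_ : j ⟶ i), E j ⊆ F j := by
  classical
  haveI hAff : ∀ {i j : I} (f : i ⟶ j), IsAffineHom (D.map f) := fun f => inferInstance
  constructor
  · intro h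
    -- the bad sets
    set G : ∀ i : I, Set (D.obj i) := fun i => E i ∩ (F i)ᶜ with hGdef
    have hG : ∀ i, ProC (G i) := fun i =>
      proC_inter ((isPro_iff _).mp (hE i)) (indC_iff_proC_compl.mp ((isInd_iff _).mp (hF i)))
    have hGm : ∀ (i j : I) (φ : i ⟶ j), G i ⊆ ⇑(D.map φ) ⁻¹' G j := by
      rintro i j φ x ⟨hx1, hx2⟩
      exact ⟨hEm i j φ hx1, fun hx3 => hx2 (hFm i j φ hx3)⟩
    -- compactness of the limit
    haveI := isAffineHom_π_app D c hc
    haveI : CompactSpace c.pt := QuasiCompact.compactSpace_of_compactSpace (c.π.app i₀)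
    have hempty : ⋂ i, ⇑(c.π.app i) ⁻¹' G i ⊆ (∅ : Set c.pt) := by
      intro x hx
      simp only [Set.mem_iInter, Set.mem_preimage] at hx
      have hx' : x ∈ ⋂ i, ⇑(c.π.app i) ⁻¹' E i := by
        simp only [Set.mem_iInter, Set.mem_preimage]
        exact fun i => (hx i).1
      obtain ⟨i, hi⟩ := Set.mem_iUnion.mp (h hx')
      exact (hx i).2 hi
    obtain ⟨J, hJ⟩ := exists_finset_inter_subset (locSpectral c.pt) (isOpen_empty.indC)
      (fun i => ⇑(c.π.app i) ⁻¹' G i) (fun i => ProC.preimage (c.π.app i) (hG i)) hempty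
    obtain ⟨k, hk⟩ := IsCofiltered.inf_objs_exists (insert i₀ J)
    obtain ⟨ψ₀⟩ := hk (Finset.mem_insert_self i₀ J)
    have hkempty : ⇑(c.π.app k) ⁻¹' G k = ∅ := by
      rw [Set.eq_empty_iff_forall_notMem]
      intro x hx
      apply hJ
      simp only [Set.mem_iInter, Set.mem_preimage]
      intro i hi
      obtain ⟨ψ⟩ := hk (Finset.mem_insert_of_mem hi)
      have := hGm k i ψ hx
      rw [Set.mem_preimage] at this
      rw [← c.w ψ]
      exact this
    -- second compactness: on D.obj k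
    haveI : CompactSpace (D.obj k) := QuasiCompact.compactSpace_of_compactSpace (D.map ψ₀)
    have hsub : ⋂ a : (Σ j : I, j ⟶ k), Set.range ⇑(D.map a.2) ⊆ (G k)ᶜ := by
      intro s hs hsG
      have hs' : s ∈ Set.range ⇑(c.π.app k) := by
        rw [Groth.Agent.S4784.result D c hc k]
        simp only [Set.mem_iInter] at hs ⊢
        exact fun j φ => hs ⟨j, φ⟩
      obtain ⟨x, rfl⟩ := hs'
      have : x ∈ ⇑(c.π.app k) ⁻¹' G k := hsG
      rw [hkempty] at this
      exact this
    obtain ⟨J', hJ'⟩ := exists_finset_inter_subset (locSpectral (D.obj k))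
      (proC_iff_indC_compl.mp (hG k))
      (fun a : (Σ j : I, j ⟶ k) => Set.range ⇑(D.map a.2))
      (fun a => by
        have := ProC.image (D.map a.2) (E := Set.univ) (isClosed_univ.proC)
        rwa [Set.image_univ] at this) hsub
    obtain ⟨m, ρ, hρ⟩ := exists_dominating D k J'
    have hGm_empty : G m = ∅ := by
      rw [Set.eq_empty_iff_forall_notMem]
      intro x hx
      have h1 := hGm m k ρ hx
      have h2 : D.map ρ x ∈ ⋂ a ∈ J', Set.range ⇑(D.map a.2) := by
        simp only [Set.mem_iInter]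
        intro a ha
        exact hρ a ha ⟨x, rfl⟩
      exact hJ' h2 h1
    refine ⟨m, ρ ≫ ψ₀, ?_⟩
    intro j φ x hx
    by_contra hxF
    have : D.map φ x ∈ G m := hGm j m φ ⟨hx, hxF⟩
    rw [hGm_empty] at this
    exact this
  · rintro ⟨i, _, hi⟩ x hx
    simp only [Set.mem_iInter, Set.mem_preimage] at hx
    exact Set.mem_iUnion.mpr ⟨i, hi i (𝟙 i) (hx i)⟩

end Groth.Agent.S4787
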