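import Groth.Statements.S4991
import Groth.Agent.Lib.Helper5.RegSmoothLocal

set_option autoImplicit false
universe u
open CategoryTheory CategoryTheory.Limits AlgebraicGeometry TopologicalSpace
open Unram17

namespace Groth.Agent.S4991

/-- Let Y be locally Noetherian and f : X ⟶ Y locally of finite type, smooth on an open neighbourhood of
a point x with image y. Then the local ring of X at x is regular if and only if the local ring of Y
at y is regular. -/
theorem result {X Y : Scheme.{u}} (f : X ⟶ Y)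
    [IsLocallyNoetherian Y] [LocallyOfFiniteType f] (x : ↥X)
    (hx : ∃ U : X.Opens, x ∈ U ∧ Smooth (U.ι ≫ f)) :
    IsRegularLocalRing ↑(X.presheaf.stalk x) ↔ IsRegularLocalRing ↑(Y.presheaf.stalk (f.base x)) := by
  obtain ⟨U₀, hxU₀, hsm⟩ := hx
  have h1 : (U₀.ι ≫ f).smoothLocus = ⊤ := Scheme.Hom.smoothLocus_eq_top _
  rw [← Scheme.Hom.preimage_smoothLocus_eq] at h1
  have h2 : (⟨x, hxU₀⟩ : U₀) ∈ U₀.ι ⁻¹ᵁ f.smoothLocus := by rw [h1]; trivial
  have h3 : (f.stalkMap x).hom.FormallySmooth := h2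
  obtain ⟨U, hU, V, hV, hVU, hxV, H⟩ := exists_smooth_of_formallySmooth_stalk f x h3
  have hN : IsNoetherianRing Γ(Y, U) := IsLocallyNoetherian.component_noetherian ⟨U, hU⟩
  algebraize [(f.appLE U V hVU).hom]
  have hcomap := IsAffineOpen.comap_primeIdealOf_appLE U hU V hV hVU hxV
  have hover : (hV.primeIdealOf ⟨x, hxV⟩).asIdeal.LiesOver
      (hU.primeIdealOf ⟨f x, hVU hxV⟩).asIdeal := ⟨congr($(hcomap).1).symm⟩
  have key := Lib.Helper5.RegSmooth.regular_iff_of_smooth Γ(Y, U) Γ(X, V)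
    (hU.primeIdealOf ⟨f x, hVU hxV⟩).asIdeal (hV.primeIdealOf ⟨x, hxV⟩).asIdeal
  letI := X.presheaf.algebra_section_stalk ⟨x, hxV⟩
  have hlocX := hV.isLocalization_stalk ⟨x, hxV⟩
  letI := Y.presheaf.algebra_section_stalk ⟨f x, hVU hxV⟩
  have hlocY := hU.isLocalization_stalk ⟨f x, hVU hxV⟩
  let eX := (IsLocalization.algEquiv (hV.primeIdealOf ⟨x, hxV⟩).asIdeal.primeCompl
      (Localization.AtPrime (hV.primeIdealOf ⟨x, hxV⟩).asIdeal) (X.presheaf.stalk x)).toRingEquiv
  let eY := (IsLocalization.algEquiv (hU.primeIdealOf ⟨f x, hVU hxV⟩).asIdeal.primeCompl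
      (Localization.AtPrime (hU.primeIdealOf ⟨f x, hVU hxV⟩).asIdeal)
      (Y.presheaf.stalk (f x))).toRingEquiv
  constructor
  · intro h
    have : IsRegularLocalRing (Localization.AtPrime (hV.primeIdealOf ⟨x, hxV⟩).asIdeal) :=
      IsRegularLocalRing.of_ringEquiv eX.symm
    have := key.1 this
    exact IsRegularLocalRing.of_ringEquiv eY
  · intro h
    have : IsRegularLocalRing (Localization.AtPrime (hU.primeIdealOf ⟨f x, hVU hxV⟩).asIdeal) :=
      IsRegularLocalRing.of_ringEquiv eY.symm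
    have := key.2 this
    exact IsRegularLocalRing.of_ringEquiv eX

end Groth.Agent.S4991
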