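import Groth.Statements.S18204
import Groth.Agent.Lib.Helper13.LocImmCore

set_option autoImplicit false
universe u
open LocImm

namespace Groth.Agent.S18204

open CategoryTheory AlgebraicGeometry in
/-- A localizing immersion (localizing and injective on points) of Noetherian schemes which is locally
of finite type is an open immersion. -/
theorem result {X Y : Scheme.{u}} [IsNoetherian X] [IsNoetherian Y]
    (f : X ⟶ Y) (hf : LocImm.IsLocImmersion f) [LocallyOfFiniteType f] : IsOpenImmersion f := by
  open Groth.Agent.Lib.Helper13.LocImmLib in
  haveI : LocallyOfFinitePresentation f :=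
    LocallyOfFinitePresentation.iff_locallyOfFiniteType.mpr inferInstance
  haveI : Flat f := IsLocalizing.flat hf.1
  haveI : ∀ x, IsIso (f.stalkMap x) := fun x => IsLocalizing.isIso_stalkMap hf.1 x
  have hopen : IsOpenMap f.base := f.isOpenMap
  exact IsOpenImmersion.of_isIso_stalkMap f
    (Topology.IsOpenEmbedding.of_continuous_injective_isOpenMap f.continuous hf.2 hopen)

end Groth.Agent.S18204
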