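import Groth.Statements.S6333
import Mathlib.FieldTheory.FinTrdeg
import Mathlib.RingTheory.AlgebraicIndependent.AlgebraicClosure
import Mathlib.RingTheory.Localization.Module
import Mathlib.FieldTheory.SeparableClosure
-- import your own Groth.Agent.* helpers here

set_option autoImplicit false
universe u
open Fields

namespace Groth.Agent.S6333

/-- For a finitely generated field extension K/k, the algebraic closure of k inside K is a finite
extension of k. -/
theorem result {k K : Type u} [Field k] [Field K] [Algebra k K]
    (hfg : (⊤ : IntermediateField k K).FG) :
    FiniteDimensional k (algebraicClosure k K) := by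
  classical
  open IntermediateField IntermediateField.algebraAdjoinAdjoin in
  haveI : Algebra.EssFiniteType k K := fg_top_iff.mp hfg
  obtain ⟨s, hs⟩ := exists_finset_isTranscendenceBasis k K
  have hxA : AlgebraicIndependent (algebraicClosure k K) (fun i : s => (i : K)) :=
    hs.1.algebraicClosure
  haveI : Module.Finite (adjoin k (s : Set K)) K := by
    apply +allowSynthFailures Algebra.finite_of_essFiniteType_of_isAlgebraic
    · exact .of_comp k _ _
    · convert! hs.isAlgebraic_field <;> simp
  have key : ∀ t : Finset (algebraicClosure k K),
      LinearIndependent k (fun i : t => (i : algebraicClosure k K)) →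
      t.card ≤ Module.finrank (adjoin k (s : Set K)) K := by
    intro t ht
    have hR : LinearIndependent (Algebra.adjoin k (s : Set K))
        (fun i : t => ((i : algebraicClosure k K) : K)) := by
      rw [Fintype.linearIndependent_iff]
      intro g hg
      have hrange : ∀ i : t, ∃ P : MvPolynomial s k,
          MvPolynomial.aeval (fun j : s => (j : K)) P = (g i : K) := by
        intro i
        have h2 : Algebra.adjoin k (s : Set K) =
            (MvPolynomial.aeval (fun j : s => (j : K)) : MvPolynomial s k →ₐ[k] K).range := by
          rw [← Algebra.adjoin_range_eq_range_aeval]; simp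
        have h3 : (g i : K) ∈
            (MvPolynomial.aeval (fun j : s => (j : K)) : MvPolynomial s k →ₐ[k] K).range :=
          h2 ▸ (g i).2
        exact h3
      choose P hP using hrange
      let q : MvPolynomial s (algebraicClosure k K) :=
        ∑ i : t, MvPolynomial.C (i : algebraicClosure k K) *
          MvPolynomial.map (algebraMap k (algebraicClosure k K)) (P i)
      have hq : MvPolynomial.aeval (fun j : s => (j : K)) q = 0 := by
        simp only [q, map_sum, map_mul, MvPolynomial.aeval_C, MvPolynomial.aeval_map_algebraMap, hP]
        rw [← hg]
        refine Finset.sum_congr rfl (fun i _ => ?_)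
        rw [mul_comm]; rfl
      have hq0 : q = 0 := hxA (by rw [hq, map_zero])
      rw [Fintype.linearIndependent_iff] at ht
      have hcoef : ∀ (μ : s →₀ ℕ) (i : t), MvPolynomial.coeff μ (P i) = 0 := by
        intro μ
        apply ht (fun i => MvPolynomial.coeff μ (P i))
        have := congrArg (MvPolynomial.coeff μ) hq0
        simp only [q, MvPolynomial.coeff_sum, MvPolynomial.coeff_C_mul, MvPolynomial.coeff_map,
          MvPolynomial.coeff_zero] at this
        rw [← this]
        refine Finset.sum_congr rfl (fun i _ => ?_)
        rw [Algebra.smul_def, mul_comm]
      intro i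
      have hPi : P i = 0 := MvPolynomial.ext _ _ (fun μ => by rw [hcoef μ i]; simp)
      apply Subtype.ext
      rw [← hP i, hPi, map_zero]; rfl
    have hF : LinearIndependent (adjoin k (s : Set K))
        (fun i : t => ((i : algebraicClosure k K) : K)) :=
      (LinearIndependent.iff_fractionRing (Algebra.adjoin k (s : Set K))
        (adjoin k (s : Set K))).mp hR
    have := hF.fintype_card_le_finrank
    simpa using this
  have hrank : Module.rank k (algebraicClosure k K) ≤
      (Module.finrank (adjoin k (s : Set K)) K : ℕ) := rank_le key
  exact Module.rank_lt_aleph0_iff.mp (lt_of_le_of_lt hrank (Cardinal.nat_lt_aleph0 _))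

end Groth.Agent.S6333
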