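import Groth.Statements.S9909
import Groth.Agent.Lib.Helper3.AlgSpPoints2

set_option autoImplicit false
universe u
open CategoryTheory CategoryTheory.Limits AlgebraicGeometry
open AlgSp

namespace Groth.Agent.S9909

open Groth.Agent.Lib.Helper3 MorphismProperty

theorem isOpen_of_openCover {T : Scheme.{u}} (𝒰 : T.OpenCover) (A : Set ↥T)
    (h : ∀ i, IsOpen ((𝒰.f i) ⁻¹' A)) : IsOpen A := by
  have : A = ⋃ i, (𝒰.f i) '' ((𝒰.f i) ⁻¹' A) := by
    ext t
    constructor
    · intro ht
      obtain ⟨i, y, rfl⟩ := 𝒰.exists_eq t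
      exact Set.mem_iUnion.2 ⟨i, y, ht, rfl⟩
    · intro ht
      obtain ⟨i, y, hy, rfl⟩ := Set.mem_iUnion.1 ht
      exact hy
  rw [this]
  exact isOpen_iUnion fun i => (𝒰.f i).isOpenEmbedding.isOpenMap _ (h i)

theorem ofPt_comp {S : Scheme.{u}} {F : AlgSp.Sp S} {T T' : Over S} (φ : T' ⟶ T)
    (g : (AlgSp.yon S).obj T ⟶ F) (t : ↥T'.left) :
    AlgSp.Points.ofPt ((AlgSp.yon S).map φ ≫ g) t = AlgSp.Points.ofPt g (φ.left t) := by
  rw [AlgSp.Points.ofPt_eq_map_ofScheme, AlgSp.Points.ofPt_eq_map_ofScheme, AlgSp.Points.map_comp]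
  congr 1
  exact AlgSp.Points.map_yon_map_apply φ t

/-- Openness in the space of points can be tested on affine schemes. -/
theorem isOpen_points_iff_affine {S : Scheme.{u}} {F : AlgSp.Sp S} {W : Set (AlgSp.Points F)} :
    IsOpen W ↔ ∀ (T : Over S), IsAffine T.left → ∀ g : (AlgSp.yon S).obj T ⟶ F,
      IsOpen (AlgSp.Points.ofPt g ⁻¹' W) := by
  constructor
  · intro h T _ g
    exact AlgSp.Points.isOpen_iff.1 h T g
  · intro h
    rw [AlgSp.Points.isOpen_iff]
    intro T g
    refine isOpen_of_openCover T.left.affineCover _ (fun i => ?_)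
    let Ti : Over S := Over.mk (T.left.affineCover.f i ≫ T.hom)
    let incl : Ti ⟶ T := Over.homMk (T.left.affineCover.f i)
    have hTi : IsAffine Ti.left := by
      change IsAffine (T.left.affineCover.X i)
      infer_instance
    have := h Ti hTi ((AlgSp.yon S).map incl ≫ g)
    have key : (T.left.affineCover.f i) ⁻¹' (AlgSp.Points.ofPt g ⁻¹' W) =
        AlgSp.Points.ofPt ((AlgSp.yon S).map incl ≫ g) ⁻¹' W := by
      ext t
      simp only [Set.mem_preimage]
      rw [ofPt_comp]
      rfl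
    rw [key]
    exact this

theorem isUnivOpenMor_iff_affine {S : Scheme.{u}} {X Y : AlgSp.Sp S} (f : X ⟶ Y) :
    AlgSp.IsUnivOpenMor f ↔
      ∀ (Z : Over S), IsAffine Z.left → ∀ (g : (AlgSp.yon S).obj Z ⟶ Y) (P : AlgSp.Sp S)
        (fst : P ⟶ X) (snd : P ⟶ (AlgSp.yon S).obj Z), IsPullback fst snd f g →
        IsOpenMap (AlgSp.Points.map snd) := by
  constructor
  · intro h Z _ g P fst snd sq
    exact h (AlgSp.IsAlgSpace.yon_obj Z) g fst snd sq
  · intro h Z Z' _ g fst snd sq Ω hΩ
    rw [isOpen_points_iff_affine]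
    intro T hT t
    have sqT := IsPullback.of_hasPullback snd t
    have hT' := h T hT (t ≫ g) _ _ _ (sqT.paste_horiz sq)
    rw [Groth.Agent.Lib.Helper3.Points.ofPt_eq, Set.preimage_comp,
      Groth.Agent.Lib.Helper3.Points.preimage_image_of_isPullback sqT]
    exact (hT' _ (hΩ.preimage (AlgSp.Points.continuous_map _))).preimage
      (AlgSp.Points.schemeHomeo T).continuous

/-- (1) ⇔ (3): a morphism of algebraic spaces is universally open if and only if its base change to
every affine scheme over the target is open on points. -/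
theorem result {S : Scheme.{u}} {X Y : AlgSp.Space S} (f : X ⟶ Y) :
    AlgSp.IsUnivOpenMor f.hom ↔
      ∀ (Z : Over S), IsAffine Z.left → ∀ (g : (AlgSp.yon S).obj Z ⟶ Y.obj) (P : AlgSp.Sp S)
        (fst : P ⟶ X.obj) (snd : P ⟶ (AlgSp.yon S).obj Z), IsPullback fst snd f.hom g →
        IsOpenMap (AlgSp.Points.map snd) := by
  exact isUnivOpenMor_iff_affine f.hom

end Groth.Agent.S9909
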