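import Groth.Statements.S9910
import Groth.Agent.S9909

set_option autoImplicit false
universe u
open CategoryTheory CategoryTheory.Limits AlgebraicGeometry
open AlgSp

namespace Groth.Agent.S9910

open Groth.Agent.Lib.Helper3 MorphismProperty

/-- For an etale surjective morphism of schemes over `S`, the map on points of `h_w` is open and
surjective. -/
theorem isOpenMap_surjective_yon_map {S : Scheme.{u}} {W T : Over S} (w : W ⟶ T)
    (he : Etale w.left) (hs : Surjective w.left) :
    IsOpenMap (AlgSp.Points.map ((AlgSp.yon S).map w)) ∧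
      Function.Surjective (AlgSp.Points.map ((AlgSp.yon S).map w)) := by
  rw [AlgSp.Points.map_yon_map_eq]
  constructor
  · exact ((AlgSp.Points.schemeHomeo T).isOpenMap.comp w.left.isOpenMap).comp
      (AlgSp.Points.schemeHomeo W).symm.isOpenMap
  · exact ((AlgSp.Points.schemeHomeo T).surjective.comp w.left.surjective).comp
      (AlgSp.Points.schemeHomeo W).symm.surjective

theorem isUnivOpenMor_of_etale_cover {S : Scheme.{u}} {X Y : AlgSp.Sp S} (f : X ⟶ Y) (V : Over S)
    (p : (AlgSp.yon S).obj V ⟶ Y) (hp : AlgSp.RepWith @Etale p)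
    (hps : AlgSp.RepWith @Surjective p)
    {P : AlgSp.Sp S} (fst : P ⟶ X) (snd : P ⟶ (AlgSp.yon S).obj V) (sq : IsPullback fst snd f p)
    (h : AlgSp.IsUnivOpenMor snd) : AlgSp.IsUnivOpenMor f := by
  rw [Groth.Agent.S9909.isUnivOpenMor_iff_affine]
  intro T _ g PT fstT sndT sqT Ω hΩ
  have sqW := hp.rep.isPullback g
  have hwe : Etale (hp.rep.snd g).left := hp.property_snd g
  have hws : Surjective (hp.rep.snd g).left := hps.property _ _ _ sqW
  obtain ⟨hq1, hq2⟩ := isOpenMap_surjective_yon_map (hp.rep.snd g) hwe hws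
  have sqW' := IsPullback.of_hasPullback sndT ((AlgSp.yon S).map (hp.rep.snd g))
  have big := sqW'.paste_horiz sqT
  rw [← sqW.w] at big
  have hw : (pullback.fst sndT ((AlgSp.yon S).map (hp.rep.snd g)) ≫ fstT) ≫ f =
      (pullback.snd sndT ((AlgSp.yon S).map (hp.rep.snd g)) ≫ hp.rep.fst g) ≫ p := by
    rw [big.w, Category.assoc]
  have sq2 : IsPullback (sq.lift _ _ hw)
      (pullback.snd sndT ((AlgSp.yon S).map (hp.rep.snd g))) snd (hp.rep.fst g) := by
    refine IsPullback.of_right ?_ (sq.lift_snd _ _ hw) sq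
    rw [sq.lift_fst]
    exact big
  have hopen : IsOpenMap (AlgSp.Points.map
      (pullback.snd sndT ((AlgSp.yon S).map (hp.rep.snd g)))) :=
    h (AlgSp.IsAlgSpace.yon_obj _) _ _ _ sq2
  have h1 := Points.preimage_image_of_isPullback sqW' Ω
  have h2 : IsOpen (AlgSp.Points.map ((AlgSp.yon S).map (hp.rep.snd g)) ⁻¹'
      (AlgSp.Points.map sndT '' Ω)) := by
    rw [h1]
    exact hopen _ (hΩ.preimage (AlgSp.Points.continuous_map _))
  have h3 := hq1 _ h2
  rwa [Set.image_preimage_eq _ hq2] at h3

/-- (4) ⇒ (1): universal openness of a morphism of algebraic spaces descends along a surjective etale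
base change from a scheme. -/
theorem result {S : Scheme.{u}} {X Y : AlgSp.Space S} (f : X ⟶ Y) (V : Over S)
    (p : (AlgSp.yon S).obj V ⟶ Y.obj) (hp : AlgSp.RepWith @Etale p) (hps : AlgSp.RepWith @Surjective p)
    {P : AlgSp.Sp S} (fst : P ⟶ X.obj) (snd : P ⟶ (AlgSp.yon S).obj V) (sq : IsPullback fst snd f.hom p)
    (h : AlgSp.IsUnivOpenMor snd) : AlgSp.IsUnivOpenMor f.hom := by
  exact isUnivOpenMor_of_etale_cover f.hom V p hp hps fst snd sq h

end Groth.Agent.S9910
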