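import Groth.Statements.S1554
import Groth.Agent.Lib.Helper18.Chev.Main
import Groth.Agent.Lib.Helper24.FibreDim.Main1553

set_option autoImplicit false
universe u
open CategoryTheory CategoryTheory.Limits AlgebraicGeometry
open Variety

namespace Groth.Agent.S1554

/-- Let f : X → Y be locally of finite type, x a point with image y such that the local ring of Y at y
is Noetherian of dimension at most one, and d a natural number such that the local fibre dimension
is d at the generic points of the irreducible components of X passing through x. Then the local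
dimension at x of the fibre over y equals d. -/
theorem result {X Y : Scheme.{u}} (f : X ⟶ Y) [LocallyOfFiniteType f]
    (x : X) [IsNoetherianRing (Y.presheaf.stalk (f.base x))] (hdimY : ringKrullDim (Y.presheaf.stalk (f.base x)) ≤ 1) (d : ℕ)
    (hgen : ∀ Z ∈ irreducibleComponents (X : Type u), x ∈ Z → ∀ η : X, IsGenericPoint η Z → FlatMor.fibreDimAt f η = d) :
    FlatMor.fibreDimAt f x = d := by
  open Groth.Agent.Lib.Helper24.FibreDim Groth.Agent.Lib.lead in
  obtain ⟨z, hfz, hzx, hGz, htr⟩ := exists_max_fibre_point f x
  obtain ⟨Z, hZ, hsub⟩ := exists_mem_irreducibleComponents_subset_of_isIrreducible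
    (closure ({z} : Set X)) isIrreducible_singleton.closure
  have hZc : IsClosed Z := isClosed_of_mem_irreducibleComponents Z hZ
  obtain ⟨η, hη⟩ := QuasiSober.sober hZ.1 hZc
  have hzZ : z ∈ Z := hsub (subset_closure rfl)
  have hxZ : x ∈ Z := hzx.mem_closed hZc hzZ
  have hηz : η ⤳ z := hη.specializes hzZ
  have hfd := hgen Z hZ hxZ η hη
  -- `η` is maximal in its fibre
  have hG : FibreOrder.G f η = 0 := by
    rw [G_eq_zero_iff]
    intro z' _ hz'η
    have h1 : Z ⊆ closure {z'} := by
      rw [← hη.def]
      exact hz'η.closure_subset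
    have h2 : closure {z'} = Z :=
      (hZ.2 isIrreducible_singleton.closure h1).antisymm h1 |> fun h => h
    have h3 : IsGenericPoint z' Z := h2
    exact h3.eq hη
  have hd : ((tr f η : ℕ) : WithBot ℕ∞) = d := by
    rw [fibreDimAt_eq_tr_add_G f η, hG, add_zero] at hfd
    exact hfd
  have hd' : tr f η = d := by exact_mod_cast hd
  have hx : FlatMor.fibreDimAt f x = ((tr f z : ℕ) : WithBot ℕ∞) := by
    rw [fibreDimAt_eq_tr_add_G f x, ← htr]
    rfl
  rw [hx]
  apply le_antisymm
  · -- upper bound
    by_cases hne : f η = f z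
    · have : η = z := ((G_eq_zero_iff f z).1 hGz η hne hηz)
      rw [← this, hd]
    · haveI : IsNoetherianRing (Y.presheaf.stalk (f z)) := by
        rw [hfz]
        infer_instance
      have key := tr_add_one_le f z η hηz hne
      rw [hd, hfz] at key
      have h2 : ((tr f z : ℕ) : WithBot ℕ∞) + 1 ≤ (d : WithBot ℕ∞) + 1 :=
        key.trans (add_le_add_right hdimY _)
      have h3 : tr f z + 1 ≤ d + 1 := by exact_mod_cast h2
      have h4 : tr f z ≤ d := by omega
      exact_mod_cast h4
  · -- lower bound, by Chevalley
    rw [← hx]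
    obtain ⟨m, hm⟩ := Groth.Agent.Lib.Helper18.Chev.exists_nat_fibreDimAt f x
    have hopen := Groth.Agent.Lib.Helper18.Chev.isOpen_fibreDimAt_le f m
    have hηx : η ⤳ x := hη.specializes hxZ
    have hmem : η ∈ {x : X | FlatMor.fibreDimAt f x ≤ m} :=
      hηx.mem_open hopen (le_of_eq hm)
    rw [← hfd]
    exact le_trans hmem (le_of_eq hm.symm)

end Groth.Agent.S1554
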