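import Groth.Statements.S5889
import Mathlib
import Groth.Agent.Lib.Helper25.ConsLocus
import Groth.Agent.S3445
-- import your own Groth.Agent.* helpers here

set_option autoImplicit false
set_option linter.unusedSectionVars false
set_option linter.style.haveILetI false
set_option linter.unusedVariables false
set_option linter.deprecated false
universe u
open CategoryTheory AlgebraicGeometry
open ConsProp

namespace Groth.Agent.S5889

open Groth.Agent.Lib.Helper25.ConsLocus Groth.Agent.Lib.Helper25.ConsFib

/-- Being quasi-finite (locally of finite type, quasi-compact, with discrete fibres) is a constructible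
property of morphisms of algebraic schemes. -/
theorem result :
    ConsProp.IsConsMor
      (fun X Y T f g => AlgebraicGeometry.LocallyOfFiniteType f ∧ AlgebraicGeometry.QuasiCompact f ∧
        AlgebraicGeometry.LocallyQuasiFinite f) := by
  refine ⟨?_, ?_⟩
  · intro X X' Y Y' T T' f g f' g' eX eY h _ _ _ _ _ _ _ _ hY hX
    haveI := isLocallyNoetherian_of_subsingleton T
    obtain ⟨h1, h2⟩ := lft_qc_of_comp f g
    constructor
    · rintro ⟨_, _, h3⟩
      exact ⟨MorphismProperty.of_isPullback hX h1, MorphismProperty.of_isPullback hX h2,
        MorphismProperty.of_isPullback hX h3⟩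
    · rintro ⟨_, _, h3⟩
      haveI := h3
      exact ⟨h1, h2, lqf_of_isPullback hX (fpqc_of_isPullback hY).1.1.surj⟩
  · intro X Y S f g _ _ _ _ _ _
    obtain ⟨h1, h2, h3, h4⟩ := fp_of_noetherian f g
    have key := cons_dichotomy (Groth.Agent.S3445.result f g)
    have hE : ConsProp.locusMor (fun X Y T f g => AlgebraicGeometry.LocallyOfFiniteType f ∧
        AlgebraicGeometry.QuasiCompact f ∧ AlgebraicGeometry.LocallyQuasiFinite f) f g =
        {s | LocallyQuasiFinite (MoreMor.fiberMap f g s)} := by
      ext s
      constructor
      · rintro ⟨_, _, h⟩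
        exact h
      · intro h
        have hc : MoreMor.fiberMap f g s ≫ g.fiberToSpecResidueField s =
            (f ≫ g).fiberToSpecResidueField s := Limits.pullback.lift_snd _ _ _
        haveI : LocallyOfFiniteType (MoreMor.fiberMap f g s ≫ g.fiberToSpecResidueField s) := by
          rw [hc]; infer_instance
        haveI : QuasiCompact (MoreMor.fiberMap f g s ≫ g.fiberToSpecResidueField s) := by
          rw [hc]; infer_instance
        obtain ⟨k1, k2⟩ := lft_qc_of_comp (MoreMor.fiberMap f g s) (g.fiberToSpecResidueField s)
        exact ⟨k1, k2, h⟩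
    rw [hE]
    exact key

end Groth.Agent.S5889
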