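import Groth.Statements.S5903
import Mathlib
import Groth.Agent.Lib.Helper25.ConsPairLim
import Groth.Agent.S2583
-- import your own Groth.Agent.* helpers here

set_option autoImplicit false
set_option linter.unusedSectionVars false
set_option linter.style.haveILetI false
set_option linter.unusedVariables false
set_option linter.deprecated false
universe u
open CategoryTheory AlgebraicGeometry
open ConsPropPair

namespace Groth.Agent.S5903

open Groth.Agent.Lib.Helper25.ConsPair

/-- the property of being quasi-finite -/
def QFin : MorphismProperty Scheme.{u} :=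
  fun _ _ f => LocallyOfFiniteType f ∧ QuasiCompact f ∧ LocallyQuasiFinite f

instance : MorphismProperty.IsStableUnderBaseChange QFin.{u} where
  of_isPullback := by
    intro X Y Y' S f g f' g' sq hg
    exact ⟨MorphismProperty.of_isPullback (P := @LocallyOfFiniteType) sq hg.1,
      MorphismProperty.of_isPullback (P := @QuasiCompact) sq hg.2.1,
      MorphismProperty.of_isPullback (P := @LocallyQuasiFinite) sq hg.2.2⟩

theorem descends_prop : Descends.{u} QFin.{u} := by
  intro I _ _ D c hc _ i₀ _ X₀ Y₀ f₀ g₀ _ _ _ _ _ _ _ _ _ _ _ X Y f g qY qX hY hX hf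
  haveI : LocallyQuasiFinite f := hf.2.2
  obtain ⟨i, φ, Xi, Yi, fi, gi, pY, pX, hpY, hpX, hfi⟩ :=
    Groth.Agent.S2583.result D c hc i₀ f₀ g₀ f g qY qX hY hX
  haveI : QuasiCompact f₀ := QuasiCompact.of_comp f₀ g₀
  exact ⟨i, φ, Xi, Yi, fi, gi, pY, pX, hpY, hpX,
    MorphismProperty.of_isPullback (P := @LocallyOfFiniteType) hpX inferInstance,
    MorphismProperty.of_isPullback (P := @QuasiCompact) hpX inferInstance, hfi⟩

/-- Case of the property of being quasi-finite: let P(X, Y, k) be the relation between a field k and two
algebraic k-schemes X, Y: there are an extension field k′ of k (a one-point integral scheme T′ over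
T = Spec k) and a k′-morphism g : X_(k′) ⟶ Y_(k′) between the base changes (cartesian squares over
T′ ⟶ T) which is quasi-finite (locally of finite type, quasi-compact, with discrete fibres). Then P
is an ind-constructible property of pairs of algebraic schemes. -/
theorem result :
    ConsPropPair.IsIndConsPair
      (fun X Y T gX gY => ∃ (T' X' Y' : Scheme.{u}) (h : T' ⟶ T) (gX' : X' ⟶ T') (gY' : Y' ⟶ T')
        (eX : X' ⟶ X) (eY : Y' ⟶ Y), IsIntegral T' ∧ Subsingleton ↥T' ∧
          IsPullback eX gX' gX h ∧ IsPullback eY gY' gY h ∧
            ∃ g : X' ⟶ Y', g ≫ gY' = gX' ∧ (AlgebraicGeometry.LocallyOfFiniteType g ∧ AlgebraicGeometry.QuasiCompact g ∧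
              AlgebraicGeometry.LocallyQuasiFinite g)) := by
  exact isIndConsPair QFin.{u} descends_prop

end Groth.Agent.S5903
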