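import Groth.Statements.S16765
import Groth.Agent.S10861
import Groth.Agent.Lib.Helper17.UnramPullback
import Mathlib
set_option backward.isDefEq.respectTransparency.types false

set_option autoImplicit false
universe u
open Unram17

namespace Groth.Agent.S16765
open AlgebraicGeometry CategoryTheory CategoryTheory.Limits

/-- stalk of `U.ι ≫ f` vs stalk of `f`. -/
theorem formallyUnramified_stalkMap_ι_comp_iff {X Y : Scheme.{u}} (f : X ⟶ Y) (U : X.Opens)
    (u : U) :
    ((U.ι ≫ f).stalkMap u).hom.FormallyUnramified ↔ (f.stalkMap u.1).hom.FormallyUnramified := by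
  rw [Scheme.Hom.stalkMap_comp]
  exact RingHom.FormallyUnramified.respectsIso.cancel_right_isIso _ (U.ι.stalkMap u)

set_option backward.defeqAttrib.useBackward true in
set_option backward.isDefEq.respectTransparency false in
/-- If a morphism locally of finite type is unramified at a point (stalkwise), it is formally
unramified on an open neighbourhood. -/
theorem exists_open_formallyUnramified {X Y : Scheme.{u}} (f : X ⟶ Y) [LocallyOfFiniteType f]
    (x : X) (h : (f.stalkMap x).hom.FormallyUnramified) :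
    ∃ U : X.Opens, x ∈ U ∧ FormallyUnramified (U.ι ≫ f) := by
  obtain ⟨U₀, hU₀, V₀, hV₀, hVU, hxV⟩ :=
    Groth.Agent.Lib.Helper17.UnibranchScheme.exists_affine_nhds f x
  letI : Algebra Γ(Y, U₀) Γ(X, V₀) := (f.appLE U₀ V₀ hVU).hom.toAlgebra
  haveI : Algebra.FiniteType Γ(Y, U₀) Γ(X, V₀) := f.finiteType_appLE hU₀ hV₀ hVU
  have hopen : IsOpen (Algebra.unramifiedLocus Γ(Y, U₀) Γ(X, V₀)) := Algebra.isOpen_unramifiedLocus
  let L : (Spec Γ(X, V₀)).Opens := ⟨Algebra.unramifiedLocus Γ(Y, U₀) Γ(X, V₀), hopen⟩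
  let U : X.Opens := hV₀.fromSpec ''ᵁ L
  have hUV : U ≤ V₀ := by
    rintro _ ⟨p, -, rfl⟩
    have : hV₀.fromSpec p ∈ Set.range hV₀.fromSpec := ⟨p, rfl⟩
    rw [hV₀.range_fromSpec] at this
    exact this
  have hmem : ∀ (x₁ : X) (hx₁ : x₁ ∈ V₀), x₁ ∈ U ↔
      hV₀.primeIdealOf ⟨x₁, hx₁⟩ ∈ Algebra.unramifiedLocus Γ(Y, U₀) Γ(X, V₀) := by
    intro x₁ hx₁
    constructor
    · rintro ⟨p, hp, hpx⟩
      have : p = hV₀.primeIdealOf ⟨x₁, hx₁⟩ := by
        apply hV₀.fromSpec.isOpenEmbedding.injective
        rw [hV₀.fromSpec_primeIdealOf]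
        exact hpx
      rw [← this]; exact hp
    · intro hp
      exact ⟨_, hp, hV₀.fromSpec_primeIdealOf ⟨x₁, hx₁⟩⟩
  refine ⟨U, ?_, ?_⟩
  · rw [hmem x hxV]
    exact (Groth.Agent.Lib.Helper17.UnramPullback.stalkMap_formallyUnramified_iff f hU₀ hV₀ hVU x
      hxV).mp h
  · refine HasRingHomProperty.of_stalkMap (P := @FormallyUnramified)
      RingHom.FormallyUnramified.ofLocalizationPrime (fun u => ?_)
    rw [formallyUnramified_stalkMap_ι_comp_iff]
    have hu : u.1 ∈ V₀ := hUV u.2
    rw [Groth.Agent.Lib.Helper17.UnramPullback.stalkMap_formallyUnramified_iff f hU₀ hV₀ hVU u.1 hu]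
    exact (hmem u.1 hu).mp u.2

/-- Pointwise descent of unramifiedness along an arbitrary pullback square. -/
theorem stalkMap_formallyUnramified_of_isPullback {X Y X' Y' : Scheme.{u}} {f : X ⟶ Y}
    {ι : Y' ⟶ Y} {pr : X' ⟶ X} {f' : X' ⟶ Y'} (H : IsPullback pr f' f ι) [LocallyOfFiniteType f]
    (x' : X') (h : (f'.stalkMap x').hom.FormallyUnramified) :
    (f.stalkMap (pr x')).hom.FormallyUnramified := by
  have h1 : H.isoPullback.hom ≫ pullback.fst f ι = pr := H.isoPullback_hom_fst
  have h2 : H.isoPullback.hom ≫ pullback.snd f ι = f' := H.isoPullback_hom_snd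
  have key : ∀ (k : X' ⟶ Y') (hk : k = H.isoPullback.hom ≫ pullback.snd f ι),
      (k.stalkMap x').hom.FormallyUnramified →
      ((pullback.snd f ι).stalkMap (H.isoPullback.hom x')).hom.FormallyUnramified := by
    rintro _ rfl hk
    rw [Scheme.Hom.stalkMap_comp] at hk
    exact (RingHom.FormallyUnramified.respectsIso.cancel_right_isIso _
      (H.isoPullback.hom.stalkMap x')).mp hk
  have h3 := Groth.Agent.Lib.Helper17.UnramPullback.stalkMap_formallyUnramified_of_pullback f ι
    (H.isoPullback.hom x') (key f' h2.symm h)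
  have h4 : pullback.fst f ι (H.isoPullback.hom x') = pr x' := by
    rw [← Scheme.Hom.comp_apply, h1]
  rwa [h4] at h3


open AlgebraicGeometry CategoryTheory CategoryTheory.Limits in
/-- Let g : Y → S and h : X → S be locally of finite presentation, f : X → Y an S-morphism (f ≫ g = h;
in particular f is locally of finite presentation, so unramified amounts to formally unramified),
and x a point of X with image s = h(x). Then f is unramified at x (formally unramified on an open
neighbourhood of x) if and only if the induced morphism of fibres X_s → Y_s is unramified at the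
point of X_s lying over x. No flatness is needed. -/
theorem result {X Y S : Scheme.{u}} (g : Y ⟶ S) (h : X ⟶ S)
    [LocallyOfFinitePresentation g] [LocallyOfFinitePresentation h] (f : X ⟶ Y) (w : f ≫ g = h)
    (x : ↥X)
    (x' : ↥(h.fiber (h x))) (hx' : (h.fiberι (h x)) x' = x) :
    (∃ U : X.Opens, x ∈ U ∧ FormallyUnramified (U.ι ≫ f)) ↔
      ∃ V : (h.fiber (h x)).Opens, x' ∈ V ∧ FormallyUnramified (V.ι ≫ CohIII.fiberMapOver f h g w (h x)) := by
  haveI : LocallyOfFiniteType (f ≫ g) := by rw [w]; infer_instance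
  haveI : LocallyOfFiniteType f := locallyOfFiniteType_of_comp f g
  have H := Groth.Agent.S10861.isPullback_fiberMapOver f h g w (h x)
  constructor
  · rintro ⟨U, hxU, hU⟩
    refine ⟨(h.fiberι (h x)) ⁻¹ᵁ U, ?_, ?_⟩
    · change (h.fiberι (h x)) x' ∈ U
      rw [hx']; exact hxU
    · have sq := (isPullback_morphismRestrict (h.fiberι (h x)) U).paste_vert H
      exact MorphismProperty.of_isPullback (P := @FormallyUnramified) sq hU
  · rintro ⟨V, hx'V, hV⟩
    have h1 : ((V.ι ≫ CohIII.fiberMapOver f h g w (h x)).stalkMap ⟨x', hx'V⟩).hom.FormallyUnramified :=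
      FormallyUnramified.stalkMap _ _
    rw [formallyUnramified_stalkMap_ι_comp_iff] at h1
    have h2 := stalkMap_formallyUnramified_of_isPullback H x' h1
    rw [hx'] at h2
    exact exists_open_formallyUnramified f x h2

end Groth.Agent.S16765
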