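import Groth.Statements.S3444
import Groth.Agent.Lib.Helper13.LimDescendDiag
import Groth.Agent.S3443

set_option autoImplicit false
open CategoryTheory AlgebraicGeometry
universe u
open EGA43

namespace Groth.Agent.S3444

open CategoryTheory.Limits in
/-- Let g : Y ⟶ S and f : X ⟶ Y be such that X and Y are of finite presentation over S (locally of
finite presentation, quasi-compact and quasi-separated). For each point s of S let f_s be the
induced morphism from the fibre of f ≫ g over s to the fibre of g over s. Then the set of s for
which f_s is radicial (universally injective) is locally constructible in S. -/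
theorem result {X Y S : Scheme.{u}} (f : X ⟶ Y) (g : Y ⟶ S)
    [LocallyOfFinitePresentation g] [QuasiCompact g] [QuasiSeparated g]
    [LocallyOfFinitePresentation (f ≫ g)] [QuasiCompact (f ≫ g)] [QuasiSeparated (f ≫ g)] :
    Topology.IsLocallyConstructible {s : S |
      UniversallyInjective (pullback.lift (pullback.fst (f ≫ g) (S.fromSpecResidueField s) ≫ f) (pullback.snd (f ≫ g) (S.fromSpecResidueField s))
          ((Category.assoc _ _ _).trans pullback.condition) :
        pullback (f ≫ g) (S.fromSpecResidueField s) ⟶ pullback g (S.fromSpecResidueField s))} := by
  haveI hf1 : LocallyOfFinitePresentation f :=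
    Lib.Helper13.LimDescend.locallyOfFinitePresentation_of_comp f g
  haveI : QuasiSeparated f := QuasiSeparated.of_comp f g
  haveI : QuasiCompact f := QuasiCompact.of_comp f g
  let w : pullback f f ⟶ Y := pullback.snd f f ≫ f
  let g' : pullback f f ⟶ S := pullback.snd f f ≫ (f ≫ g)
  haveI : LocallyOfFinitePresentation g' := inferInstance
  haveI : QuasiCompact g' := inferInstance
  haveI : LocallyOfFinitePresentation (pullback.diagonal f) := inferInstance
  haveI : QuasiCompact (pullback.diagonal f) := inferInstance
  have h1 : Topology.IsLocallyConstructible (Set.range (pullback.diagonal f).base) := by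
    rw [← Set.image_univ]
    exact (pullback.diagonal f).isLocallyConstructible_image Topology.IsLocallyConstructible.univ
  have h2 := g'.isLocallyConstructible_image (Groth.Agent.S3443.isLocallyConstructible_compl h1)
  have h3 := Groth.Agent.S3443.isLocallyConstructible_compl h2
  convert h3 using 1
  ext s
  simp only [Set.mem_compl_iff, Set.mem_image, not_exists, not_and, Set.mem_setOf_eq]
  let p : pullback g (S.fromSpecResidueField s) ⟶ Y := pullback.fst g (S.fromSpecResidueField s)
  have hpb : IsPullback (pullback.fst (f ≫ g) (S.fromSpecResidueField s))
      (pullback.lift (pullback.fst (f ≫ g) (S.fromSpecResidueField s) ≫ f)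
        (pullback.snd (f ≫ g) (S.fromSpecResidueField s))
        ((Category.assoc _ _ _).trans pullback.condition))
      f p := by
    refine IsPullback.of_bot ?_ (pullback.lift_fst _ _ _).symm
      (IsPullback.of_hasPullback g (S.fromSpecResidueField s))
    rw [pullback.lift_snd]
    exact IsPullback.of_hasPullback _ _
  rw [Lib.Helper13.LimDescend.prop_iff_of_isPullback @UniversallyInjective hpb.flip
    (IsPullback.of_hasPullback p f), ← Lib.Helper13.LimDescend.surjective_diagMap_iff]
  have hr1 : Set.range (Lib.Helper13.LimDescend.diagMap p f).base =
      (pullback.snd p w).base ⁻¹' Set.range (pullback.diagonal f).base := by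
    have := Scheme.image_preimage_eq_of_isPullback
      (Lib.Helper13.LimDescend.diagMap_isPullback p f).flip Set.univ
    simpa [Set.image_univ] using this
  have hr2 : Set.range (pullback.snd p w).base = w.base ⁻¹' (g.base ⁻¹' {s}) := by
    rw [Scheme.Pullback.range_snd]
    congr 1
    exact g.range_fiberι s
  rw [surjective_iff, ← Set.range_eq_univ, hr1, Set.preimage_eq_univ_iff, hr2]
  constructor
  · intro H z hz hzs
    apply hz
    apply H
    change g.base (w.base z) = s
    rw [← hzs]
    rfl
  · intro H z hz
    by_contra hn
    exact H z hn hz

end Groth.Agent.S3444
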