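import Groth.Statements.S5890
import Mathlib
import Groth.Agent.Lib.Helper25.ConsLocus
import Groth.Agent.S3444
-- import your own Groth.Agent.* helpers here

set_option autoImplicit false
set_option linter.unusedSectionVars false
set_option linter.style.haveILetI false
set_option linter.unusedVariables false
set_option linter.deprecated false
universe u
open CategoryTheory AlgebraicGeometry
open ConsProp

namespace Groth.Agent.S5890

open Groth.Agent.Lib.Helper25.ConsLocus

/-- Being radicial (universally injective) is a constructible property of morphisms of algebraic
schemes. -/
theorem result :
    ConsProp.IsConsMor (fun X Y T f g => AlgebraicGeometry.UniversallyInjective f) := by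
  refine ⟨isFieldStableMor_of_descends @UniversallyInjective, ?_⟩
  intro X Y S f g _ _ _ _ _ _
  obtain ⟨h1, h2, h3, h4⟩ := fp_of_noetherian f g
  exact cons_dichotomy (Groth.Agent.S3444.result f g)

end Groth.Agent.S5890
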