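import Groth.Statements.S1386
import Groth.Agent.Lib.Helper21.FlatDescQ4
import Groth.Agent.Lib.Helper21.FibreStalkSq
import Groth.Agent.Lib.Helper21.FlatDescK

set_option autoImplicit false
universe u
open FlatMor

namespace Groth.Agent.S1386

open AlgebraicGeometry CategoryTheory Limits
open Groth.Agent.Lib.Helper21.FlatDesc Groth.Agent.Lib.Helper21.FibreStalk IsLocalRing

set_option maxHeartbeats 1600000 in
set_option synthInstance.maxHeartbeats 200000 in
/-- pointwise form of the criterion. -/
theorem pointwise {X Y S : Scheme.{u}} (f : X ⟶ Y) (g : Y ⟶ S)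
    [LocallyOfFinitePresentation (f ≫ g)] [LocallyOfFiniteType g] (x : X) :
    ((f ≫ g).stalkMap x).hom.Flat ∧
      ((MoreMor.fiberMap f g (g (f x))).stalkMap ((f ≫ g).asFiber x)).hom.Flat ↔
        (g.stalkMap (f x)).hom.Flat ∧ (f.stalkMap x).hom.Flat := by
  letI aAB : Algebra (S.presheaf.stalk (g (f x))) (Y.presheaf.stalk (f x)) :=
    (g.stalkMap (f x)).hom.toAlgebra
  letI aBC : Algebra (Y.presheaf.stalk (f x)) (X.presheaf.stalk x) := (f.stalkMap x).hom.toAlgebra
  letI aAC : Algebra (S.presheaf.stalk (g (f x))) (X.presheaf.stalk x) :=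
    ((f ≫ g).stalkMap x).hom.toAlgebra
  haveI tw : IsScalarTower (S.presheaf.stalk (g (f x))) (Y.presheaf.stalk (f x))
      (X.presheaf.stalk x) := IsScalarTower.of_algebraMap_eq fun a => by
    show ((f ≫ g).stalkMap x).hom a = (f.stalkMap x).hom ((g.stalkMap (f x)).hom a)
    rw [Scheme.Hom.stalkMap_comp]
    rfl
  haveI : IsLocalHom (algebraMap (S.presheaf.stalk (g (f x))) (Y.presheaf.stalk (f x))) :=
    inferInstanceAs (IsLocalHom (g.stalkMap (f x)).hom)
  haveI : IsLocalHom (algebraMap (Y.presheaf.stalk (f x)) (X.presheaf.stalk x)) :=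
    inferInstanceAs (IsLocalHom (f.stalkMap x).hom)
  -- essentially finite type data for `B`
  haveI hEFT : Algebra.EssFiniteType (S.presheaf.stalk (g (f x))) (Y.presheaf.stalk (f x)) :=
    LocallyOfFiniteType.stalkMap (f := g) (f x)
  -- essentially finitely presented data for `C`
  obtain ⟨C₀, _, a, b, TC, hab, ha, hloc⟩ := essFP_stalkMap (f ≫ g) x
  letI aAC₀ : Algebra (S.presheaf.stalk (g (f x))) C₀ := a.toAlgebra
  letI aC₀C : Algebra C₀ (X.presheaf.stalk x) := b.toAlgebra
  haveI twC : IsScalarTower (S.presheaf.stalk (g (f x))) C₀ (X.presheaf.stalk x) :=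
    IsScalarTower.of_algebraMap_eq fun r => by
      show ((f ≫ g).stalkMap x).hom r = b (a r)
      rw [hab]; rfl
  haveI : Algebra.FinitePresentation (S.presheaf.stalk (g (f x))) C₀ := ha
  haveI := hloc
  -- the fibre rings
  have hsq := toFibStalk_square f g x
  have hcomm : ((MoreMor.fiberMap f g (g (f x))).stalkMap ((f ≫ g).asFiber x)).hom.comp
      (toFibStalk g (f x) (MoreMor.fiberMap f g (g (f x)) ((f ≫ g).asFiber x))
        (fiberι_fiberMap_asFiber f g x)).hom =
      (toFibStalk (f ≫ g) x ((f ≫ g).asFiber x) ((f ≫ g).fiberι_asFiber x)).hom.comp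
        (algebraMap (Y.presheaf.stalk (f x)) (X.presheaf.stalk x)) := by
    have := congrArg CommRingCat.Hom.hom hsq
    simp only [CommRingCat.hom_comp] at this
    exact this.symm
  exact fibre_criterion_bars (S.presheaf.stalk (g (f x))) (Y.presheaf.stalk (f x))
    (X.presheaf.stalk x)
    (Algebra.EssFiniteType.subalgebra (S.presheaf.stalk (g (f x))) (Y.presheaf.stalk (f x)))
    (Algebra.EssFiniteType.submonoid (S.presheaf.stalk (g (f x))) (Y.presheaf.stalk (f x)))
    C₀ TC
    (toFibStalk g (f x) (MoreMor.fiberMap f g (g (f x)) ((f ≫ g).asFiber x))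
        (fiberι_fiberMap_asFiber f g x)).hom
    (toFibStalk (f ≫ g) x ((f ≫ g).asFiber x) ((f ≫ g).fiberι_asFiber x)).hom
    ((MoreMor.fiberMap f g (g (f x))).stalkMap ((f ≫ g).asFiber x)).hom
    (toFibStalk_surjective g (f x) _ _) (toFibStalk_surjective (f ≫ g) x _ _)
    (ker_toFibStalk' g (f x) _ _) (ker_toFibStalk' (f ≫ g) x _ _) hcomm

set_option maxHeartbeats 800000 in
/-- the locus in `(2)` is the intersection of two flat loci. -/
theorem locus_eq {X Y S : Scheme.{u}} (f : X ⟶ Y) (g : Y ⟶ S) (x : X) :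
    ((g.stalkMap (f x)).hom.Flat ∧ (f.stalkMap x).hom.Flat) ↔
      (((f ≫ g).stalkMap x).hom.Flat ∧ (f.stalkMap x).hom.Flat) := by
  have hcomp : ((f ≫ g).stalkMap x).hom = (f.stalkMap x).hom.comp (g.stalkMap (f x)).hom := by
    rw [Scheme.Hom.stalkMap_comp]; rfl
  constructor
  · rintro ⟨h1, h2⟩
    exact ⟨hcomp ▸ RingHom.Flat.comp h1 h2, h2⟩
  · rintro ⟨h1, h2⟩
    refine ⟨?_, h2⟩
    letI aAB : Algebra (S.presheaf.stalk (g (f x))) (Y.presheaf.stalk (f x)) :=
      (g.stalkMap (f x)).hom.toAlgebra
    letI aBC : Algebra (Y.presheaf.stalk (f x)) (X.presheaf.stalk x) :=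
      (f.stalkMap x).hom.toAlgebra
    letI aAC : Algebra (S.presheaf.stalk (g (f x))) (X.presheaf.stalk x) :=
      ((f ≫ g).stalkMap x).hom.toAlgebra
    haveI tw : IsScalarTower (S.presheaf.stalk (g (f x))) (Y.presheaf.stalk (f x))
        (X.presheaf.stalk x) := IsScalarTower.of_algebraMap_eq fun a => by
      show ((f ≫ g).stalkMap x).hom a = (f.stalkMap x).hom ((g.stalkMap (f x)).hom a)
      rw [hcomp]; rfl
    haveI : IsLocalHom (algebraMap (Y.presheaf.stalk (f x)) (X.presheaf.stalk x)) :=
      inferInstanceAs (IsLocalHom (f.stalkMap x).hom)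
    haveI hAC : Module.Flat (S.presheaf.stalk (g (f x))) (X.presheaf.stalk x) := h1
    haveI hBC : Module.Flat (Y.presheaf.stalk (f x)) (X.presheaf.stalk x) := h2
    haveI : Module.FaithfullyFlat (Y.presheaf.stalk (f x)) (X.presheaf.stalk x) :=
      faithfullyFlat_of_isLocalHom (Y.presheaf.stalk (f x)) (X.presheaf.stalk x)
        (X.presheaf.stalk x)
    exact flat_of_flat_of_faithfullyFlat_module (S.presheaf.stalk (g (f x)))
      (Y.presheaf.stalk (f x)) (X.presheaf.stalk x)

open AlgebraicGeometry CategoryTheory Limits in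
/-- Fibrewise flatness criterion (critère de platitude par fibres), for the structure sheaf: let f : X →
Y and g : Y → S be morphisms of schemes with X locally of finite presentation over S (via g ∘ f) and
Y locally of finite type over S. For a point x of X with images y = f(x) and s = g(y) the following
are equivalent: (1) X → S is flat at x and the induced morphism of fibres X_s → Y_s is flat at x;
(2) Y → S is flat at y and f is flat at x. Moreover the set of points x at which (2) holds is open
in X. The published statement treats a finitely presented quasi-coherent O_X-module; here the module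
is O_X. -/
theorem result {X Y S : Scheme.{u}} (f : X ⟶ Y) (g : Y ⟶ S) [LocallyOfFinitePresentation (f ≫ g)] [LocallyOfFiniteType g] :
    (∀ x : X, ((f ≫ g).stalkMap x).hom.Flat ∧ ((MoreMor.fiberMap f g (g (f x))).stalkMap ((f ≫ g).asFiber x)).hom.Flat ↔
        (g.stalkMap (f x)).hom.Flat ∧ (f.stalkMap x).hom.Flat) ∧
      IsOpen {x : ↑X | (g.stalkMap (f x)).hom.Flat ∧ (f.stalkMap x).hom.Flat} := by
  refine ⟨fun x => pointwise f g x, ?_⟩
  haveI : LocallyOfFinitePresentation f := locallyOfFinitePresentation_of_comp' f g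
  have h1 := isOpen_flat_locus (f ≫ g)
  have h2 := isOpen_flat_locus f
  have : {x : ↑X | (g.stalkMap (f x)).hom.Flat ∧ (f.stalkMap x).hom.Flat} =
      {x : X | ((f ≫ g).stalkMap x).hom.Flat} ∩ {x : X | (f.stalkMap x).hom.Flat} := by
    ext x
    exact locus_eq f g x
  rw [this]
  exact h1.inter h2

end Groth.Agent.S1386
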