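import Groth.Statements.S1360
import Groth.Agent.Lib.Helper2.LocalCrit
import Groth.Agent.Lib.Helper17.LocalFlat
import Groth.Agent.Lib.Helper17.UnramPullback
import Groth.Agent.Lib.Helper17.UnramFlat
import Mathlib
set_option backward.isDefEq.respectTransparency.types false

set_option autoImplicit false
universe u
open FlatMor

namespace Groth.Agent.S1360

open CategoryTheory CategoryTheory.Limits AlgebraicGeometry TopologicalSpace

open TensorProduct

/-- naturality of `cancelBaseChange` in the last variable -/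
theorem cancel_nat_right {R T M N' N : Type*} [CommRing R] [CommRing T] [Algebra R T]
    [AddCommGroup M] [Module R M] [Module T M] [IsScalarTower R T M]
    [AddCommGroup N'] [Module R N'] [AddCommGroup N] [Module R N]
    (g : N' →ₗ[R] N) (z : M ⊗[T] (T ⊗[R] N')) :
    AlgebraTensorModule.cancelBaseChange R T T M N ((g.baseChange T).lTensor M z) =
      g.lTensor M (AlgebraTensorModule.cancelBaseChange R T T M N' z) := by
  induction z with
  | zero => simp
  | add x y hx hy => rw [map_add, map_add, hx, hy, map_add, map_add]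
  | tmul m y =>
    induction y with
    | zero => simp
    | add y z hy hz => rw [tmul_add, map_add, map_add, hy, hz, map_add, map_add]
    | tmul a n =>
      rw [LinearMap.lTensor_tmul, LinearMap.baseChange_tmul,
        AlgebraTensorModule.cancelBaseChange_tmul, AlgebraTensorModule.cancelBaseChange_tmul,
        LinearMap.lTensor_tmul]

/-- flatness at a prime containing `𝔞 T` from flatness modulo all powers of `𝔞` -/
theorem flat_localization_of_flat_quotient_pow {R T : Type u} [CommRing R] [CommRing T]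
    [Algebra R T] [IsNoetherianRing R] [IsNoetherianRing T] (𝔞 : Ideal R) (q : Ideal T)
    [q.IsPrime] (hq : 𝔞.map (algebraMap R T) ≤ q)
    (h : ∀ n, 0 < n → Module.Flat (R ⧸ 𝔞 ^ n) ((R ⧸ 𝔞 ^ n) ⊗[R] T)) :
    Module.Flat R (Localization.AtPrime q) := by
  have hJ : 𝔞.map (algebraMap R (Localization.AtPrime q)) ≤ Ideal.jacobson ⊥ := by
    rw [IsLocalRing.jacobson_eq_maximalIdeal ⊥ bot_ne_top,
      IsScalarTower.algebraMap_eq R T (Localization.AtPrime q), ← Ideal.map_map,
      ← Localization.AtPrime.map_eq_maximalIdeal]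
    exact Ideal.map_mono hq
  refine Groth.Agent.Lib.Helper2.LocalCrit.flat_of_forall_quotient_pow
    (S := Localization.AtPrime q) (M := Localization.AtPrime q) 𝔞 hJ ?_
  intro n hn Q'
  haveI := h n hn
  let Q'' : Submodule (R ⧸ 𝔞 ^ n) (R ⧸ 𝔞 ^ n) :=
    { carrier := Q'
      add_mem' := Q'.add_mem
      zero_mem' := Q'.zero_mem
      smul_mem' := by
        intro c x hx
        obtain ⟨c, rfl⟩ := Ideal.Quotient.mk_surjective c
        exact Q'.smul_mem c hx }
  have key := Groth.Agent.Lib.Helper2.LocalCrit.lTensor_injective_of_flat_baseChange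
    (R := R) (A := R ⧸ 𝔞 ^ n) (M := T) Q''.subtype Subtype.val_injective
  let e : Q' ≃ₗ[R] Q'' :=
    { toFun := fun x => ⟨x.1, x.2⟩
      invFun := fun x => ⟨x.1, x.2⟩
      map_add' := fun _ _ => rfl
      map_smul' := fun _ _ => rfl
      left_inv := fun _ => rfl
      right_inv := fun _ => rfl }
  have hcomp : Q'.subtype = (Q''.subtype.restrictScalars R) ∘ₗ e.toLinearMap := rfl
  have h1 : Function.Injective (Q'.subtype.lTensor T) := by
    rw [hcomp, LinearMap.lTensor_comp]
    exact key.comp (e.lTensor T).injective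
  have h1' : Function.Injective (Q'.subtype.baseChange T) := h1
  have h2 : Function.Injective ((Q'.subtype.baseChange T).lTensor (Localization.AtPrime q)) :=
    Module.Flat.lTensor_preserves_injective_linearMap _ h1'
  intro a b hab
  obtain ⟨a', rfl⟩ := (AlgebraTensorModule.cancelBaseChange R T T (Localization.AtPrime q)
    Q').surjective a
  obtain ⟨b', rfl⟩ := (AlgebraTensorModule.cancelBaseChange R T T (Localization.AtPrime q)
    Q').surjective b
  rw [← cancel_nat_right, ← cancel_nat_right] at hab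
  rw [h2 ((AlgebraTensorModule.cancelBaseChange R T T (Localization.AtPrime q)
    (R ⧸ 𝔞 ^ n)).injective hab)]


theorem flat_tensor_of_isPushout {R R' T P : CommRingCat.{u}} (a : R ⟶ T) (ρ : R ⟶ R')
    (b : T ⟶ P) (c : R' ⟶ P) (hpo : IsPushout a ρ b c) (hρ : Function.Surjective ρ.hom)
    (hc : c.hom.Flat) (𝔟 : Ideal R) (h𝔟 : RingHom.ker ρ.hom = 𝔟) :
    letI := a.hom.toAlgebra
    Module.Flat (R ⧸ 𝔟) ((R ⧸ 𝔟) ⊗[R] T) := by
  subst h𝔟
  letI := a.hom.toAlgebra
  let e : R ⧸ RingHom.ker ρ.hom ≃+* R' := RingHom.quotientKerEquivOfSurjective hρ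
  let E : CommRingCat.of (R ⧸ RingHom.ker ρ.hom) ≅ R' := e.toCommRingCatIso
  have hE : CommRingCat.ofHom (algebraMap R (R ⧸ RingHom.ker ρ.hom)) ≫ E.hom = ρ := by
    ext r
    rfl
  have h2 := CommRingCat.isPushout_tensorProduct R (R ⧸ RingHom.ker ρ.hom) T
  have ha : CommRingCat.ofHom (algebraMap R T) = a := rfl
  rw [ha] at h2
  have h1 : IsPushout (CommRingCat.ofHom (algebraMap R (R ⧸ RingHom.ker ρ.hom))) a
      (E.hom ≫ c) b := by
    refine hpo.flip.of_iso (Iso.refl _) E.symm (Iso.refl _) (Iso.refl _) ?_ ?_ ?_ ?_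
    · simp only [Iso.symm_hom, Iso.refl_hom, Category.id_comp]
      rw [Iso.comp_inv_eq]
      exact hE.symm
    · simp
    · simp
    · simp
  let i := h1.isoIsPushout _ _ h2
  have hi : (E.hom ≫ c) ≫ i.hom = CommRingCat.ofHom (S := (R ⧸ RingHom.ker ρ.hom) ⊗[R] T)
      Algebra.TensorProduct.includeLeftRingHom := h1.inl_isoIsPushout_hom _ _ h2
  have hflat : (Algebra.TensorProduct.includeLeftRingHom :
      (R ⧸ RingHom.ker ρ.hom) →+* (R ⧸ RingHom.ker ρ.hom) ⊗[R] T).Flat := by
    have : (Algebra.TensorProduct.includeLeftRingHom :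
        (R ⧸ RingHom.ker ρ.hom) →+* (R ⧸ RingHom.ker ρ.hom) ⊗[R] T) =
        (i.hom.hom.comp c.hom).comp E.hom.hom := by
      rw [← CommRingCat.hom_comp, ← CommRingCat.hom_comp, ← Category.assoc, hi]
      rfl
    rw [this]
    refine RingHom.Flat.comp (RingHom.Flat.of_bijective e.bijective) (RingHom.Flat.comp hc ?_)
    exact RingHom.Flat.of_bijective ((ConcreteCategory.isIso_iff_bijective i.hom).mp inferInstance)
  exact RingHom.flat_algebraMap_iff.mp hflat


open AlgebraicGeometry CategoryTheory Limits in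
/-- Let S be locally Noetherian, f : X → S of finite type, and Z the closed subscheme of S cut out by an
ideal sheaf I. If the base change of f to every infinitesimal neighbourhood of Z is étale, then
every point of X over Z has an open neighbourhood on which f is étale. -/
theorem result {X S : Scheme.{u}} (f : X ⟶ S) [IsLocallyNoetherian S] [LocallyOfFinitePresentation f] [QuasiCompact f]
    (I : S.IdealSheafData) (h : ∀ n : ℕ, Etale (pullback.snd f (I ^ (n + 1)).subschemeι)) (x : X) (hx : f x ∈ I.support) :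
    ∃ U : X.Opens, x ∈ U ∧ Etale (U.ι ≫ f) := by
  -- a point of the pullback over x
  obtain ⟨z₀, hz₀⟩ : ∃ z₀ : (I ^ (0 + 1)).subscheme, (I ^ (0 + 1)).subschemeι z₀ = f x := by
    have : f x ∈ Set.range (I ^ (0 + 1)).subschemeι := by
      rw [Scheme.IdealSheafData.range_subschemeι, Scheme.IdealSheafData.support_pow_succ]
      exact hx
    exact this
  obtain ⟨x', rfl, -⟩ := Scheme.Pullback.exists_preimage_pullback (f := f)
    (g := (I ^ (0 + 1)).subschemeι) x z₀ hz₀.symm
  set x := pullback.fst f (I ^ (0 + 1)).subschemeι x' with hxdef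
  have hunr₀ : (f.stalkMap x).hom.FormallyUnramified := by
    haveI := h 0
    exact Groth.Agent.Lib.Helper17.UnramPullback.stalkMap_formallyUnramified_of_pullback f
      (I ^ (0 + 1)).subschemeι x' (FormallyUnramified.stalkMap _ x')
  obtain ⟨U₀, hU₀, V₀, hV₀, hVU, hxV⟩ :=
    Groth.Agent.Lib.Helper17.UnibranchScheme.exists_affine_nhds f x
  have hfp := f.finitePresentation_appLE hU₀ hV₀ hVU
  algebraize [(f.appLE U₀ V₀ hVU).hom]
  haveI : IsNoetherianRing Γ(S, U₀) := IsLocallyNoetherian.component_noetherian ⟨U₀, hU₀⟩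
  haveI : IsNoetherianRing Γ(X, V₀) := Algebra.FiniteType.isNoetherianRing Γ(S, U₀) Γ(X, V₀)
  have hunr : Algebra.IsUnramifiedAt Γ(S, U₀) (hV₀.primeIdealOf ⟨x, hxV⟩).asIdeal :=
    (Groth.Agent.Lib.Helper17.UnramPullback.stalkMap_formallyUnramified_iff f hU₀ hV₀ hVU x
      hxV).mp hunr₀
  -- the ideal
  have hq : (I.ideal ⟨U₀, hU₀⟩).map (algebraMap Γ(S, U₀) Γ(X, V₀)) ≤
      (hV₀.primeIdealOf ⟨x, hxV⟩).asIdeal := by
    rw [Ideal.map_le_iff_le_comap]
    intro a ha
    rw [Ideal.mem_comap]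
    by_contra hcon
    have hmem : x ∈ X.basicOpen (f.appLE U₀ V₀ hVU a) := by
      have hcon' : algebraMap Γ(S, U₀) Γ(X, V₀) a ∉ (hV₀.primeIdealOf ⟨x, hxV⟩).asIdeal := hcon
      rw [← PrimeSpectrum.mem_basicOpen, IsAffineOpen.primeIdealOf,
        ← hV₀.fromSpec_preimage_basicOpen] at hcon'
      change hV₀.fromSpec (hV₀.isoSpec.hom ⟨x, hxV⟩) ∈ X.basicOpen _ at hcon'
      rwa [← Scheme.Hom.comp_apply, IsAffineOpen.isoSpec_hom, IsAffineOpen.toSpecΓ_fromSpec]
        at hcon'
    rw [Scheme.basicOpen_appLE] at hmem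
    have h1 : f x ∈ S.basicOpen a := hmem.2
    have h2 := (Scheme.IdealSheafData.mem_support_iff_of_mem (I := I) (U := ⟨U₀, hU₀⟩)
      (hVU hxV)).mp hx
    rw [Scheme.mem_zeroLocus_iff] at h2
    exact h2 a ha h1
  -- flatness modulo powers
  have hfl : ∀ n, 0 < n → Module.Flat (Γ(S, U₀) ⧸ I.ideal ⟨U₀, hU₀⟩ ^ n)
      (TensorProduct (Γ(S, U₀)) (Γ(S, U₀) ⧸ I.ideal ⟨U₀, hU₀⟩ ^ n) Γ(X, V₀)) := by
    intro n hn
    obtain ⟨m, rfl⟩ : ∃ m, n = m + 1 := ⟨n - 1, by omega⟩
    have hE := h m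
    let ι := (I ^ (m + 1)).subschemeι
    let UZ : (I ^ (m + 1)).subscheme.Opens := ι ⁻¹ᵁ U₀
    have hUZ : IsAffineOpen UZ := hU₀.preimage ι
    let W : (pullback f ι).Opens := pullback.fst f ι ⁻¹ᵁ V₀
    have hW : IsAffineOpen W := hV₀.preimage (pullback.fst f ι)
    have hWle : W ≤ pullback.snd f ι ⁻¹ᵁ UZ := by
      intro p hp
      show ι (pullback.snd f ι p) ∈ U₀
      rw [← Scheme.Hom.comp_apply, ← pullback.condition, Scheme.Hom.comp_apply]
      exact hVU hp
    have hWeq : W = pullback.fst f ι ⁻¹ᵁ V₀ ⊓ pullback.snd f ι ⁻¹ᵁ UZ :=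
      (inf_eq_left.mpr hWle).symm
    have hpb : IsPullback (pullback.fst f ι) (pullback.snd f ι) f ι := IsPullback.of_hasPullback f ι
    haveI := isIso_pushoutSection_of_isAffineOpen hpb (le_refl UZ) hVU hWeq hU₀ hUZ hV₀
    have hpo := (isIso_pushoutSection_iff hpb (le_refl UZ) hVU hWeq).mp inferInstance
    have hc : ((pullback.snd f ι).appLE UZ W (by simp [hWeq])).hom.Flat := by
      have het : ((pullback.snd f ι).appLE UZ W (by simp [hWeq])).hom.Etale :=
        HasRingHomProperty.appLE (P := @Etale) _ hE ⟨UZ, hUZ⟩ ⟨W, hW⟩ _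
      letI := ((pullback.snd f ι).appLE UZ W (by simp [hWeq])).hom.toAlgebra
      haveI : Algebra.Etale Γ((I ^ (m + 1)).subscheme, UZ) Γ(pullback f ι, W) := het
      exact (inferInstance : Module.Flat Γ((I ^ (m + 1)).subscheme, UZ) Γ(pullback f ι, W))
    have hρ : Function.Surjective (ι.appLE U₀ UZ (le_refl UZ)).hom := by
      rw [Scheme.Hom.appLE_eq_app]
      exact (I ^ (m + 1)).subschemeι_app_surjective ⟨U₀, hU₀⟩
    have hker : RingHom.ker (ι.appLE U₀ UZ (le_refl UZ)).hom = I.ideal ⟨U₀, hU₀⟩ ^ (m + 1) := by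
      rw [Scheme.Hom.appLE_eq_app]
      exact (I ^ (m + 1)).ker_subschemeι_app ⟨U₀, hU₀⟩
    exact flat_tensor_of_isPushout _ _ _ _ hpo hρ hc _ hker
  have hflat := flat_localization_of_flat_quotient_pow (I.ideal ⟨U₀, hU₀⟩)
    (hV₀.primeIdealOf ⟨x, hxV⟩).asIdeal hq hfl
  obtain ⟨g, hgq, hg⟩ := Groth.Agent.Lib.Helper17.UnramFlat.exists_etale_away_of_flat
    (A := Γ(S, U₀)) (hV₀.primeIdealOf ⟨x, hxV⟩).asIdeal
    (algebraMap Γ(X, V₀) (Localization.AtPrime (hV₀.primeIdealOf ⟨x, hxV⟩).asIdeal))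
    Localization.AtPrime.under_maximalIdeal
    (by
      rw [← IsScalarTower.algebraMap_eq]
      exact RingHom.flat_algebraMap_iff.mpr hflat)
  have hloc := hV₀.isLocalization_basicOpen g
  refine ⟨X.basicOpen g, ?_, ?_⟩
  · rw [← PrimeSpectrum.mem_basicOpen, IsAffineOpen.primeIdealOf,
      ← hV₀.fromSpec_preimage_basicOpen] at hgq
    change hV₀.fromSpec (hV₀.isoSpec.hom ⟨x, hxV⟩) ∈ X.basicOpen g at hgq
    rwa [← Scheme.Hom.comp_apply, IsAffineOpen.isoSpec_hom, IsAffineOpen.toSpecΓ_fromSpec] at hgq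
  · have e : X.basicOpen g ≤ f ⁻¹ᵁ U₀ := (X.basicOpen_le g).trans hVU
    have het : (f.appLE U₀ (X.basicOpen g) e).hom.Etale := by
      letI := (f.appLE U₀ (X.basicOpen g) e).hom.toAlgebra
      haveI : IsScalarTower Γ(S, U₀) Γ(X, V₀) Γ(X, X.basicOpen g) := by
        refine IsScalarTower.of_algebraMap_eq' ?_
        simp only [RingHom.algebraMap_toAlgebra]
        rw [← CommRingCat.hom_comp, Scheme.Hom.appLE_map]
      have : Algebra.Etale Γ(S, U₀) Γ(X, X.basicOpen g) := Algebra.Etale.of_equiv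
        ((IsLocalization.algEquiv (.powers g) (Localization.Away g)
          Γ(X, X.basicOpen g)).restrictScalars Γ(S, U₀))
      have h3 : (algebraMap Γ(S, U₀) Γ(X, X.basicOpen g)).Etale :=
        RingHom.etale_algebraMap.mpr this
      rwa [RingHom.algebraMap_toAlgebra] at h3
    have : IsAffine (X.basicOpen g).toScheme := hV₀.basicOpen g
    have : IsAffine U₀.toScheme := hU₀
    have h2 : Etale (f.resLE U₀ (X.basicOpen g) e) := by
      rw [HasRingHomProperty.iff_of_isAffine (P := @Etale)]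
      exact (RingHom.Etale.respectsIso.arrow_mk_iso_iff (arrowResLEAppIso f U₀ _ e)).mpr het
    rw [← Scheme.Hom.resLE_comp_ι f e]
    infer_instance

end Groth.Agent.S1360
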