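import Groth.Statements.S1359
import Groth.Agent.S1360
import Mathlib
set_option backward.isDefEq.respectTransparency.types false

set_option autoImplicit false
universe u
open FlatMor

namespace Groth.Agent.S1359

open CategoryTheory CategoryTheory.Limits AlgebraicGeometry TopologicalSpace

open TensorProduct IsLocalRing

/-- Variant of `Algebra.IsSmoothAt.of_formallySmooth_fiber` only assuming flatness at `q`. -/
theorem isSmoothAt_of_flat_localization {R S : Type*} [CommRing R] [CommRing S] [Algebra R S]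
    [Algebra.FinitePresentation R S] (p : Ideal R) (q : Ideal S)
    [p.IsPrime] [q.IsPrime] [q.LiesOver p] [Module.Flat R (Localization.AtPrime q)]
    [Algebra.FormallySmooth p.ResidueField (p.Fiber S)] :
    Algebra.IsSmoothAt R q := by
  let Rp := Localization.AtPrime p
  let Sp := Localization (Algebra.algebraMapSubmonoid S p.primeCompl)
  let Sq := Localization.AtPrime q
  let := Localization.AtPrime.algebraOfLiesOver p q
  let f : Sp →ₐ[S] Sq := IsLocalization.liftAlgHom (M := Algebra.algebraMapSubmonoid S p.primeCompl)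
        (f := Algebra.ofId _ _) (by
      rintro ⟨_, x, hx, rfl⟩
      simpa using! IsLocalization.map_units (M := q.primeCompl) Sq ⟨algebraMap _ _ x,
        by simp_all [q.over_def p]⟩)
  algebraize [f.toRingHom]
  have : IsScalarTower R Sp Sq := .to₁₃₄ _ S _ _
  have : IsScalarTower Rp Sp Sq := .of_algebraMap_eq' <| by
    apply IsLocalization.ringHom_ext p.primeCompl
    simp only [RingHom.comp_assoc, ← IsScalarTower.algebraMap_eq]
  have : IsLocalization (Algebra.algebraMapSubmonoid Sp q.primeCompl) Sq :=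
    .isLocalization_of_submonoid_le _ _ (Algebra.algebraMapSubmonoid S p.primeCompl) _
    (by rintro _ ⟨x, hx, rfl⟩; simp_all [q.over_def p])
  have : Algebra.FinitePresentation Rp Sp := by
    have : Algebra.IsPushout R Rp S Sp :=
      .symm <| Algebra.isPushout_of_isLocalization p.primeCompl _ _ _
    exact .equiv (Algebra.IsPushout.equiv R Rp S Sp)
  have : Algebra.FormallySmooth (ResidueField Rp) ((ResidueField Rp) ⊗[Rp] Sq) := by
    let : Algebra S ((ResidueField Rp) ⊗[R] S) := Algebra.TensorProduct.rightAlgebra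
    have : Algebra.FormallySmooth (ResidueField Rp) (((ResidueField Rp) ⊗[R] S) ⊗[S] Sq) :=
      .comp _ ((ResidueField Rp) ⊗[R] S) _
    let e : (ResidueField Rp) ⊗[R] S ≃ₐ[S] S ⊗[R] (ResidueField Rp) :=
      { __ := Algebra.TensorProduct.comm _ _ _, commutes' _ := rfl }
    let e' : ((ResidueField Rp) ⊗[R] S) ⊗[S] Sq ≃ₐ[R] (ResidueField Rp) ⊗[Rp] Sq :=
      ((Algebra.TensorProduct.comm _ _ _).restrictScalars R).trans <|
      ((Algebra.TensorProduct.congr (.refl (R := S)) e).restrictScalars R).trans <|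
      ((Algebra.TensorProduct.cancelBaseChange _ _ S _ _).restrictScalars R).trans <|
      (Algebra.TensorProduct.comm _ _ _).trans (Algebra.TensorProduct.equivOfCompatibleSMul ..)
    have : e'.toAlgHom.comp (IsScalarTower.toAlgHom R p.ResidueField _) =
        IsScalarTower.toAlgHom _ _ _ := by ext
    let e'' : ((ResidueField Rp) ⊗[R] S) ⊗[S] Sq ≃ₐ[(ResidueField Rp)] (ResidueField Rp) ⊗[Rp] Sq :=
      { __ := e', commutes' r := congr($this r) }
    exact .of_equiv e''
  have : Module.Flat Rp Sq := (Module.flat_iff_of_isLocalization Rp p.primeCompl Sq).mpr inferInstance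
  have := Algebra.FormallySmooth.of_formallySmooth_residueField_tensor
    (R := Rp) (S := Sq) (P := Sp) (Algebra.algebraMapSubmonoid _ q.primeCompl)
  exact .comp R Rp Sq


theorem formallySmooth_fiber_of_quotient {R T : Type*} [CommRing R] [CommRing T] [Algebra R T]
    (𝔞 : Ideal R) (p : Ideal R) [p.IsPrime] (h : 𝔞 ≤ p)
    [Algebra.FormallySmooth (R ⧸ 𝔞) ((R ⧸ 𝔞) ⊗[R] T)] :
    Algebra.FormallySmooth p.ResidueField (p.Fiber T) := by
  letI : Algebra (R ⧸ 𝔞) p.ResidueField := (Ideal.Quotient.lift 𝔞 (algebraMap R p.ResidueField)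
    (fun a ha => Ideal.algebraMap_residueField_eq_zero.mpr (h ha))).toAlgebra
  haveI : IsScalarTower R (R ⧸ 𝔞) p.ResidueField := .of_algebraMap_eq' (by
    ext; simp [RingHom.algebraMap_toAlgebra])
  exact .of_equiv (Algebra.TensorProduct.cancelBaseChange R (R ⧸ 𝔞) p.ResidueField p.ResidueField T)

theorem formallySmooth_tensor_of_isPushout {R R' T P : CommRingCat.{u}} (a : R ⟶ T) (ρ : R ⟶ R')
    (b : T ⟶ P) (c : R' ⟶ P) (hpo : IsPushout a ρ b c) (hρ : Function.Surjective ρ.hom)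
    (hc : c.hom.FormallySmooth) (𝔟 : Ideal R) (h𝔟 : RingHom.ker ρ.hom = 𝔟) :
    letI := a.hom.toAlgebra
    Algebra.FormallySmooth (R ⧸ 𝔟) ((R ⧸ 𝔟) ⊗[R] T) := by
  subst h𝔟
  letI := a.hom.toAlgebra
  let e : R ⧸ RingHom.ker ρ.hom ≃+* R' := RingHom.quotientKerEquivOfSurjective hρ
  let E : CommRingCat.of (R ⧸ RingHom.ker ρ.hom) ≅ R' := e.toCommRingCatIso
  have hE : CommRingCat.ofHom (algebraMap R (R ⧸ RingHom.ker ρ.hom)) ≫ E.hom = ρ := by
    ext r
    rfl
  have h2 := CommRingCat.isPushout_tensorProduct R (R ⧸ RingHom.ker ρ.hom) T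
  have ha : CommRingCat.ofHom (algebraMap R T) = a := rfl
  rw [ha] at h2
  have h1 : IsPushout (CommRingCat.ofHom (algebraMap R (R ⧸ RingHom.ker ρ.hom))) a
      (E.hom ≫ c) b := by
    refine hpo.flip.of_iso (Iso.refl _) E.symm (Iso.refl _) (Iso.refl _) ?_ ?_ ?_ ?_
    · simp only [Iso.symm_hom, Iso.refl_hom, Category.id_comp]
      rw [Iso.comp_inv_eq]
      exact hE.symm
    · simp
    · simp
    · simp
  let i := h1.isoIsPushout _ _ h2
  have hi : (E.hom ≫ c) ≫ i.hom = CommRingCat.ofHom (S := (R ⧸ RingHom.ker ρ.hom) ⊗[R] T)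
      Algebra.TensorProduct.includeLeftRingHom := h1.inl_isoIsPushout_hom _ _ h2
  have hsm : (Algebra.TensorProduct.includeLeftRingHom :
      (R ⧸ RingHom.ker ρ.hom) →+* (R ⧸ RingHom.ker ρ.hom) ⊗[R] T).FormallySmooth := by
    have : (Algebra.TensorProduct.includeLeftRingHom :
        (R ⧸ RingHom.ker ρ.hom) →+* (R ⧸ RingHom.ker ρ.hom) ⊗[R] T) =
        (i.hom.hom.comp c.hom).comp E.hom.hom := by
      rw [← CommRingCat.hom_comp, ← CommRingCat.hom_comp, ← Category.assoc, hi]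
      rfl
    rw [this]
    refine RingHom.FormallySmooth.comp (RingHom.FormallySmooth.of_bijective e.bijective)
      (RingHom.FormallySmooth.comp hc ?_)
    exact RingHom.FormallySmooth.of_bijective
      ((ConcreteCategory.isIso_iff_bijective i.hom).mp inferInstance)
  exact RingHom.formallySmooth_algebraMap.mp hsm



open AlgebraicGeometry CategoryTheory Limits in
/-- Let S be locally Noetherian, f : X → S of finite type, and Z the closed subscheme of S cut out by an
ideal sheaf I, with infinitesimal neighbourhoods cut out by the powers of I. If the base change of f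
to every infinitesimal neighbourhood is smooth, then every point of X lying over Z is in the smooth
locus of f. -/
theorem result {X S : Scheme.{u}} (f : X ⟶ S) [IsLocallyNoetherian S] [LocallyOfFinitePresentation f] [QuasiCompact f]
    (I : S.IdealSheafData) (h : ∀ n : ℕ, Smooth (pullback.snd f (I ^ (n + 1)).subschemeι)) (x : X) (hx : f x ∈ I.support) :
    x ∈ f.smoothLocus := by
  obtain ⟨U₀, hU₀, V₀, hV₀, hVU, hxV⟩ :=
    Groth.Agent.Lib.Helper17.UnibranchScheme.exists_affine_nhds f x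
  have hfp := f.finitePresentation_appLE hU₀ hV₀ hVU
  algebraize [(f.appLE U₀ V₀ hVU).hom]
  haveI : IsNoetherianRing Γ(S, U₀) := IsLocallyNoetherian.component_noetherian ⟨U₀, hU₀⟩
  haveI : IsNoetherianRing Γ(X, V₀) := Algebra.FiniteType.isNoetherianRing Γ(S, U₀) Γ(X, V₀)
  -- the ideal
  have hq : (I.ideal ⟨U₀, hU₀⟩).map (algebraMap Γ(S, U₀) Γ(X, V₀)) ≤
      (hV₀.primeIdealOf ⟨x, hxV⟩).asIdeal := by
    rw [Ideal.map_le_iff_le_comap]
    intro a ha
    rw [Ideal.mem_comap]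
    by_contra hcon
    have hmem : x ∈ X.basicOpen (f.appLE U₀ V₀ hVU a) := by
      have hcon' : algebraMap Γ(S, U₀) Γ(X, V₀) a ∉ (hV₀.primeIdealOf ⟨x, hxV⟩).asIdeal := hcon
      rw [← PrimeSpectrum.mem_basicOpen, IsAffineOpen.primeIdealOf,
        ← hV₀.fromSpec_preimage_basicOpen] at hcon'
      change hV₀.fromSpec (hV₀.isoSpec.hom ⟨x, hxV⟩) ∈ X.basicOpen _ at hcon'
      rwa [← Scheme.Hom.comp_apply, IsAffineOpen.isoSpec_hom, IsAffineOpen.toSpecΓ_fromSpec]
        at hcon'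
    rw [Scheme.basicOpen_appLE] at hmem
    have h1 : f x ∈ S.basicOpen a := hmem.2
    have h2 := (Scheme.IdealSheafData.mem_support_iff_of_mem (I := I) (U := ⟨U₀, hU₀⟩)
      (hVU hxV)).mp hx
    rw [Scheme.mem_zeroLocus_iff] at h2
    exact h2 a ha h1
  -- flatness and smoothness modulo powers
  have key : ∀ m : ℕ, Module.Flat (Γ(S, U₀) ⧸ I.ideal ⟨U₀, hU₀⟩ ^ (m + 1))
      (TensorProduct (Γ(S, U₀)) (Γ(S, U₀) ⧸ I.ideal ⟨U₀, hU₀⟩ ^ (m + 1)) Γ(X, V₀)) ∧
      Algebra.FormallySmooth (Γ(S, U₀) ⧸ I.ideal ⟨U₀, hU₀⟩ ^ (m + 1))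
      (TensorProduct (Γ(S, U₀)) (Γ(S, U₀) ⧸ I.ideal ⟨U₀, hU₀⟩ ^ (m + 1)) Γ(X, V₀)) := by
    intro m
    have hE := h m
    let ι := (I ^ (m + 1)).subschemeι
    let UZ : (I ^ (m + 1)).subscheme.Opens := ι ⁻¹ᵁ U₀
    have hUZ : IsAffineOpen UZ := hU₀.preimage ι
    let W : (pullback f ι).Opens := pullback.fst f ι ⁻¹ᵁ V₀
    have hW : IsAffineOpen W := hV₀.preimage (pullback.fst f ι)
    have hWle : W ≤ pullback.snd f ι ⁻¹ᵁ UZ := by
      intro p hp
      show ι (pullback.snd f ι p) ∈ U₀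
      rw [← Scheme.Hom.comp_apply, ← pullback.condition, Scheme.Hom.comp_apply]
      exact hVU hp
    have hWeq : W = pullback.fst f ι ⁻¹ᵁ V₀ ⊓ pullback.snd f ι ⁻¹ᵁ UZ :=
      (inf_eq_left.mpr hWle).symm
    have hpb : IsPullback (pullback.fst f ι) (pullback.snd f ι) f ι := IsPullback.of_hasPullback f ι
    haveI := isIso_pushoutSection_of_isAffineOpen hpb (le_refl UZ) hVU hWeq hU₀ hUZ hV₀
    have hpo := (isIso_pushoutSection_iff hpb (le_refl UZ) hVU hWeq).mp inferInstance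
    have het : ((pullback.snd f ι).appLE UZ W (by simp [hWeq])).hom.Smooth :=
      HasRingHomProperty.appLE (P := @Smooth) _ hE ⟨UZ, hUZ⟩ ⟨W, hW⟩ _
    have hc : ((pullback.snd f ι).appLE UZ W (by simp [hWeq])).hom.Flat := het.flat
    have hρ : Function.Surjective (ι.appLE U₀ UZ (le_refl UZ)).hom := by
      rw [Scheme.Hom.appLE_eq_app]
      exact (I ^ (m + 1)).subschemeι_app_surjective ⟨U₀, hU₀⟩
    have hker : RingHom.ker (ι.appLE U₀ UZ (le_refl UZ)).hom = I.ideal ⟨U₀, hU₀⟩ ^ (m + 1) := by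
      rw [Scheme.Hom.appLE_eq_app]
      exact (I ^ (m + 1)).ker_subschemeι_app ⟨U₀, hU₀⟩
    exact ⟨Groth.Agent.S1360.flat_tensor_of_isPushout _ _ _ _ hpo hρ hc _ hker,
      formallySmooth_tensor_of_isPushout _ _ _ _ hpo hρ het.formallySmooth _ hker⟩
  have hfl : ∀ n, 0 < n → Module.Flat (Γ(S, U₀) ⧸ I.ideal ⟨U₀, hU₀⟩ ^ n)
      (TensorProduct (Γ(S, U₀)) (Γ(S, U₀) ⧸ I.ideal ⟨U₀, hU₀⟩ ^ n) Γ(X, V₀)) := by
    intro n hn
    obtain ⟨m, rfl⟩ : ∃ m, n = m + 1 := ⟨n - 1, by omega⟩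
    exact (key m).1
  have hflat := Groth.Agent.S1360.flat_localization_of_flat_quotient_pow (I.ideal ⟨U₀, hU₀⟩)
    (hV₀.primeIdealOf ⟨x, hxV⟩).asIdeal hq hfl
  rw [Scheme.Hom.mem_smoothLocus, formallySmooth_stalkMap_iff U₀ hU₀ V₀ hV₀ hVU hxV]
  set q := (hV₀.primeIdealOf ⟨x, hxV⟩).asIdeal with hqdef
  have hle : I.ideal ⟨U₀, hU₀⟩ ^ (0 + 1) ≤ q.under Γ(S, U₀) := by
    refine (Ideal.pow_le_self (by omega)).trans ?_
    rw [Ideal.under_def, ← Ideal.map_le_iff_le_comap]
    exact hq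
  haveI := (key 0).2
  haveI := formallySmooth_fiber_of_quotient (T := Γ(X, V₀)) _ (q.under Γ(S, U₀)) hle
  exact isSmoothAt_of_flat_localization (q.under Γ(S, U₀)) q

end Groth.Agent.S1359
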