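import Groth.Statements.S9315
import Mathlib
import Groth.Agent.Lib.Helper2.SmallExt

set_option autoImplicit false
universe u
open CAlg

namespace Groth.Agent.S9315

open IsLocalRing in
/-- Let `R → S` be a local homomorphism of local rings (no Noetherian hypothesis). Then `R → S` is
formally smooth for the adic topology of the maximal ideal of `S` if and only if the following
lifting property holds: for every local ring `A` with a local structure map `R → A`, every ideal `J`
of `A` of square zero such that some power of the maximal ideal of `A` is zero, and every local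
`R`-algebra homomorphism `ψ : S → A/J` inducing a bijection on residue fields, there is an
`R`-algebra homomorphism `S → A` lifting `ψ`. -/
theorem result {R S : Type u} [CommRing R] [CommRing S]
    [IsLocalRing R] [IsLocalRing S] [Algebra R S] [IsLocalHom (algebraMap R S)] :
    CAlgX.IsAdicFormallySmooth R S (maximalIdeal S) ↔
      ∀ (A : Type u) [CommRing A] [IsLocalRing A] [Algebra R A] [IsLocalHom (algebraMap R A)]
        (J : Ideal A), J ^ 2 = ⊥ → (∃ n : ℕ, maximalIdeal A ^ n = ⊥) →
        ∀ [IsLocalRing (A ⧸ J)] (ψ : S →ₐ[R] A ⧸ J) [IsLocalHom ψ.toRingHom],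
          Function.Bijective (ResidueField.map ψ.toRingHom) →
          ∃ χ : S →ₐ[R] A, (Ideal.Quotient.mkₐ R J).comp χ = ψ := by
  constructor
  · intro h A _ _ _ _ J hJ hn _ ψ _ _
    obtain ⟨n, hn⟩ := hn
    refine h A J hJ ψ ⟨n, ?_⟩
    intro x hx
    -- ψ maps m_S into m_{A/J}
    have h1 : (maximalIdeal S).map ψ.toRingHom ≤ maximalIdeal (A ⧸ J) := by
      rw [Ideal.map_le_iff_le_comap]
      intro s hs
      rw [Ideal.mem_comap, mem_maximalIdeal, mem_nonunits_iff]
      intro hu
      exact hs (IsLocalHom.map_nonunit (f := ψ.toRingHom) s hu)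
    have h2 : maximalIdeal (A ⧸ J) ≤ (maximalIdeal A).map (Ideal.Quotient.mk J) := by
      intro y hy
      obtain ⟨a, rfl⟩ := Ideal.Quotient.mk_surjective y
      refine Ideal.mem_map_of_mem _ ?_
      rw [mem_maximalIdeal, mem_nonunits_iff]
      intro hu
      exact hy (hu.map _)
    have h3 : ψ x ∈ (maximalIdeal (A ⧸ J)) ^ n := by
      have : ψ.toRingHom x ∈ ((maximalIdeal S) ^ n).map ψ.toRingHom := Ideal.mem_map_of_mem _ hx
      rw [Ideal.map_pow] at this
      exact Ideal.pow_right_mono h1 n this
    have h4 : (maximalIdeal (A ⧸ J)) ^ n = ⊥ := by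
      rw [eq_bot_iff]
      refine (Ideal.pow_right_mono h2 n).trans ?_
      rw [← Ideal.map_pow, hn, Ideal.map_bot]
    rw [h4, Ideal.mem_bot] at h3
    exact h3
  · intro H A _ _ J hJ ψ hk
    obtain ⟨k, hk⟩ := hk
    by_cases hne : J = ⊤
    · exact Lib.Helper2.SmallExt.exists_lift_of_eq_top J ψ hJ hne
    open Lib.Helper2.SmallExt in
    haveI := sub_isLocalRing J ψ hJ hne k hk
    open Lib.Helper2.SmallExt in
    haveI := sub_isLocalHom (R := R) J ψ hJ hne k hk
    open Lib.Helper2.SmallExt in
    obtain ⟨ψ', hψ'⟩ := exists_factor J ψ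
    open Lib.Helper2.SmallExt in
    have hsurj := factor_surjective J ψ ψ' hψ'
    open Lib.Helper2.SmallExt in
    have hinj := quotIncl_injective J ψ
    haveI : Nontrivial (A ⧸ J) := Ideal.Quotient.nontrivial_iff.mpr hne
    open Lib.Helper2.SmallExt in
    haveI : Nontrivial (sub J ψ ⧸ subIdeal J ψ) := (quotIncl J ψ).toRingHom.domain_nontrivial
    open Lib.Helper2.SmallExt in
    haveI : IsLocalRing (sub J ψ ⧸ subIdeal J ψ) :=
      IsLocalRing.of_surjective' (Ideal.Quotient.mk (subIdeal J ψ)) Ideal.Quotient.mk_surjective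
    haveI : IsLocalHom ψ'.toRingHom := by
      constructor
      intro s hs
      open Lib.Helper2.SmallExt in
      apply isUnit_of_isUnit_map J ψ hne k hk
      open Lib.Helper2.SmallExt in
      have := hs.map (quotIncl J ψ)
      rwa [show (quotIncl J ψ) (ψ'.toRingHom s) = ψ s from hψ' s] at this
    have hbij : Function.Bijective (ResidueField.map ψ'.toRingHom) := by
      refine ⟨(ResidueField.map ψ'.toRingHom).injective, ?_⟩
      intro y
      obtain ⟨y, rfl⟩ := IsLocalRing.residue_surjective y
      obtain ⟨s, rfl⟩ := hsurj y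
      exact ⟨IsLocalRing.residue S s, rfl⟩
    open Lib.Helper2.SmallExt in
    obtain ⟨χ', hχ'⟩ := H (sub J ψ) (subIdeal J ψ) (subIdeal_sq J ψ hJ)
      ⟨k * 2, sub_maximalIdeal_pow_eq_bot J ψ hJ hne k hk⟩ ψ' hbij
    open Lib.Helper2.SmallExt in
    exact ⟨(sub J ψ).val.comp χ', lift_of_lift J ψ ψ' hψ' χ' hχ'⟩

end Groth.Agent.S9315
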