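import Groth.Statements.S2156
import Groth.Agent.S1359
import Groth.Agent.S2793
import Groth.Agent.S2758
import Groth.Agent.S9697
import Groth.Agent.Lib.Helper17.SmoothPullback
import Mathlib
set_option backward.isDefEq.respectTransparency.types false

set_option autoImplicit false
universe u
open CategoryTheory AlgebraicGeometry
open Mor

namespace Groth.Agent.S2156
open CategoryTheory.Limits TopologicalSpace TensorProduct

theorem fromSpecResidueField_appLE {S : Scheme.{u}} (s : S) (U : S.Opens) (hs : s ∈ U)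
    (hle : (⊤ : (Spec (S.residueField s)).Opens) ≤ (S.fromSpecResidueField s) ⁻¹ᵁ U) :
    (S.fromSpecResidueField s).appLE U ⊤ hle =
      S.presheaf.germ U s hs ≫ S.residue s ≫ (Scheme.ΓSpecIso (S.residueField s)).inv := by
  have h1 : (S.fromSpecStalk s) ⁻¹ᵁ U = ⊤ := by
    rw [← top_le_iff]
    intro y _
    have hy : y ⤳ IsLocalRing.closedPoint (S.presheaf.stalk s) := IsLocalRing.specializes_closedPoint y
    have h2 := hy.map (S.fromSpecStalk s).continuous
    rw [Scheme.fromSpecStalk_closedPoint] at h2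
    exact h2.mem_open U.2 hs
  have h0 : S.fromSpecResidueField s = Spec.map (S.residue s) ≫ S.fromSpecStalk s := rfl
  have := Scheme.Hom.appLE_comp_appLE (Spec.map (S.residue s)) (S.fromSpecStalk s) U ⊤ ⊤ (by rw [h1]) le_top
  simp only [h0]
  rw [← this]
  rw [Scheme.Hom.appLE, Scheme.fromSpecStalk_app hs]
  simp only [Category.assoc]
  congr 1
  rw [← Functor.map_comp_assoc, Scheme.ΓSpecIso_inv_naturality]
  congr 1

/-- The sections of `Spec κ(s)` as an algebra over sections of an affine open containing `s`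
are identified with the residue field of the corresponding prime. -/
theorem exists_residueField_equiv {S : Scheme.{u}} (s : S) (U : S.Opens) (hU : IsAffineOpen U) (hs : s ∈ U)
    (hle : (⊤ : (Spec (S.residueField s)).Opens) ≤ (S.fromSpecResidueField s) ⁻¹ᵁ U) :
    ∃ e : (hU.primeIdealOf ⟨s, hs⟩).asIdeal.ResidueField ≃+* Γ(Spec (S.residueField s), ⊤),
      (e : _ →+* _).comp (algebraMap Γ(S, U) (hU.primeIdealOf ⟨s, hs⟩).asIdeal.ResidueField) =
        ((S.fromSpecResidueField s).appLE U ⊤ hle).hom := by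
  letI : Algebra Γ(S, U) (S.presheaf.stalk s) := (S.presheaf.germ U s hs).hom.toAlgebra
  haveI := hU.isLocalization_stalk ⟨s, hs⟩
  let p := (hU.primeIdealOf ⟨s, hs⟩).asIdeal
  let e1 : Localization.AtPrime p ≃ₐ[Γ(S, U)] S.presheaf.stalk s :=
    IsLocalization.algEquiv p.primeCompl _ _
  let e2 : p.ResidueField ≃+* S.residueField s :=
    IsLocalRing.ResidueField.mapEquiv e1.toRingEquiv
  let e3 : S.residueField s ≃+* Γ(Spec (S.residueField s), ⊤) :=
    (Scheme.ΓSpecIso (S.residueField s)).symm.commRingCatIsoToRingEquiv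
  refine ⟨e2.trans e3, ?_⟩
  rw [fromSpecResidueField_appLE s U hs hle]
  ext r
  show e3 (e2 (algebraMap _ _ r)) =
    e3 (S.residue s (S.presheaf.germ U s hs r))
  refine congrArg e3 ?_
  rw [IsScalarTower.algebraMap_apply Γ(S, U) (Localization.AtPrime p) p.ResidueField]
  show IsLocalRing.ResidueField.map _ (IsLocalRing.residue _ _) = _
  rw [IsLocalRing.ResidueField.map_residue]
  congr 1
  exact e1.commutes r

/-- Flat at `q` plus formally smooth base change to (a copy of) the residue field of `p`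
implies smooth at `q`. -/
theorem isSmoothAt_of_flat_of_formallySmooth_pushout {R A K B : Type*} [CommRing R] [CommRing A]
    [CommRing K] [CommRing B] [Algebra R A] [Algebra R K] [Algebra A B] [Algebra K B] [Algebra R B]
    [IsScalarTower R A B] [IsScalarTower R K B] [Algebra.IsPushout R K A B]
    [Algebra.FinitePresentation R A]
    (p : Ideal R) [p.IsPrime] (e : p.ResidueField ≃+* K)
    (he : (e : p.ResidueField →+* K).comp (algebraMap R p.ResidueField) = algebraMap R K)
    [Algebra.FormallySmooth K B]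
    (q : Ideal A) [q.IsPrime] [q.LiesOver p] [Module.Flat R (Localization.AtPrime q)] :
    Algebra.IsSmoothAt R q := by
  have h1 : Algebra.FormallySmooth K (K ⊗[R] A) :=
    .of_equiv (Algebra.IsPushout.equiv R K A B).symm
  let e' : p.ResidueField ≃ₐ[R] K := { e with commutes' := fun r => congr($he r) }
  let t : p.ResidueField ⊗[R] A ≃ₐ[R] K ⊗[R] A := Algebra.TensorProduct.congr e' AlgEquiv.refl
  have h2 : Algebra.FormallySmooth p.ResidueField (p.Fiber A) := by
    rw [← RingHom.formallySmooth_algebraMap]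
    have : algebraMap p.ResidueField (p.Fiber A) =
        ((t.symm : K ⊗[R] A →+* p.ResidueField ⊗[R] A).comp (algebraMap K (K ⊗[R] A))).comp
          (e : p.ResidueField →+* K) := by
      ext k
      simp [t, e', Algebra.TensorProduct.algebraMap_apply]
    rw [this]
    refine RingHom.FormallySmooth.comp (RingHom.FormallySmooth.of_bijective e.bijective)
      (RingHom.FormallySmooth.comp (RingHom.formallySmooth_algebraMap.mpr h1) ?_)
    exact RingHom.FormallySmooth.of_bijective t.symm.bijective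
  exact Groth.Agent.S1359.isSmoothAt_of_flat_localization p q

set_option backward.defeqAttrib.useBackward true in
set_option backward.isDefEq.respectTransparency false in
theorem mem_smoothLocus_of_flat_of_fiber {X S : Scheme.{u}} (f : X ⟶ S)
    [LocallyOfFinitePresentation f] (x : X)
    [LocallyOfFinitePresentation (f.fiberToSpecResidueField (f.base x))]
    (hflat : (f.stalkMap x).hom.Flat)
    (hfib : f.asFiber x ∈ (f.fiberToSpecResidueField (f.base x)).smoothLocus) :
    x ∈ f.smoothLocus := by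
  set s : S := f.base x with hs_def
  set ι := f.fiberι s with hι
  set π := f.fiberToSpecResidueField s with hπ
  set z := f.asFiber x with hz_def
  have hz : ι z = x := f.fiberι_asFiber x
  obtain ⟨W, hWo, hW⟩ := (ι.isEmbedding.isInducing.isOpen_iff).mp π.smoothLocus.2
  have hxW : x ∈ W := by
    have : z ∈ ι ⁻¹' W := by rw [hW]; exact hfib
    rw [← hz]; exact this
  obtain ⟨_, ⟨U, hU, rfl⟩, hsU, -⟩ :=
    S.isBasis_affineOpens.exists_subset_of_mem_open (Set.mem_univ s) isOpen_univ
  obtain ⟨_, ⟨V, hV, rfl⟩, hxV, hVUW⟩ :=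
    X.isBasis_affineOpens.exists_subset_of_mem_open
      (show x ∈ (f ⁻¹ᵁ U : Set X) ∩ W from ⟨hsU, hxW⟩)
      (IsOpen.inter (U.2.preimage f.continuous) hWo)
  have hVU : V ≤ f ⁻¹ᵁ U := fun y hy => (hVUW hy).1
  have hVW : (V : Set X) ⊆ W := fun y hy => (hVUW hy).2
  have H : IsPullback ι π f (S.fromSpecResidueField s) := IsPullback.of_hasPullback _ _
  have hUT : IsAffineOpen (⊤ : (Spec (S.residueField s)).Opens) := isAffineOpen_top _
  have hUST : (⊤ : (Spec (S.residueField s)).Opens) ≤ (S.fromSpecResidueField s) ⁻¹ᵁ U := by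
    intro y _
    show (S.fromSpecResidueField s) y ∈ U
    rw [Scheme.fromSpecResidueField_apply]; exact hsU
  set UY : (f.fiber s).Opens := ι ⁻¹ᵁ V ⊓ π ⁻¹ᵁ ⊤ with hUY
  have hUYaff : IsAffineOpen UY := by
    have : IsAffine _ := hU
    have : IsAffine _ := hUT
    have : IsAffine _ := hV
    exact .of_isIso (Scheme.Hom.isPullback_resLE H hUST hVU hUY).isoPullback.hom
  have hUYV : UY ≤ ι ⁻¹ᵁ V := inf_le_left
  have hUYT : UY ≤ π ⁻¹ᵁ ⊤ := inf_le_right
  have hpo : IsPushout (f.appLE U V hVU) ((S.fromSpecResidueField s).appLE U ⊤ hUST)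
      (ι.appLE V UY hUYV) (π.appLE ⊤ UY hUYT) :=
    (isIso_pushoutSection_iff H hUST hVU hUY).mp
      (isIso_pushoutSection_of_isAffineOpen H hUST hVU hUY hU hUT hV)
  letI : Algebra Γ(S, U) Γ(X, V) := (f.appLE U V hVU).hom.toAlgebra
  letI : Algebra Γ(S, U) Γ(Spec (S.residueField s), ⊤) :=
    ((S.fromSpecResidueField s).appLE U ⊤ hUST).hom.toAlgebra
  letI : Algebra Γ(X, V) Γ(f.fiber s, UY) := (ι.appLE V UY hUYV).hom.toAlgebra
  letI : Algebra Γ(Spec (S.residueField s), ⊤) Γ(f.fiber s, UY) := (π.appLE ⊤ UY hUYT).hom.toAlgebra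
  letI : Algebra Γ(S, U) Γ(f.fiber s, UY) :=
    ((algebraMap Γ(X, V) Γ(f.fiber s, UY)).comp (algebraMap Γ(S, U) Γ(X, V))).toAlgebra
  haveI : IsScalarTower Γ(S, U) Γ(X, V) Γ(f.fiber s, UY) :=
    IsScalarTower.of_algebraMap_eq (fun _ => rfl)
  haveI : IsScalarTower Γ(S, U) Γ(Spec (S.residueField s), ⊤) Γ(f.fiber s, UY) := by
    refine IsScalarTower.of_algebraMap_eq' ?_
    simp only [RingHom.algebraMap_toAlgebra]
    rw [← CommRingCat.hom_comp, ← CommRingCat.hom_comp, hpo.w]
  haveI : Algebra.IsPushout Γ(S, U) Γ(X, V) Γ(Spec (S.residueField s), ⊤) Γ(f.fiber s, UY) := by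
    rw [← CommRingCat.isPushout_iff_isPushout]
    simp only [RingHom.algebraMap_toAlgebra, CommRingCat.ofHom_hom]
    exact hpo
  haveI : Algebra.IsPushout Γ(S, U) Γ(Spec (S.residueField s), ⊤) Γ(X, V) Γ(f.fiber s, UY) :=
    .symm inferInstance
  haveI : Algebra.FinitePresentation Γ(S, U) Γ(X, V) := f.finitePresentation_appLE hU hV hVU
  haveI : Algebra.FinitePresentation Γ(Spec (S.residueField s), ⊤) Γ(f.fiber s, UY) :=
    π.finitePresentation_appLE hUT hUYaff hUYT
  have hsm : Algebra.FormallySmooth Γ(Spec (S.residueField s), ⊤) Γ(f.fiber s, UY) := by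
    rw [← Algebra.smoothLocus_eq_univ_iff, Set.eq_univ_iff_forall]
    intro P
    obtain ⟨y, rfl⟩ : ∃ y : UY, hUYaff.primeIdealOf y = P :=
      ⟨hUYaff.isoSpec.inv P, by simp [IsAffineOpen.primeIdealOf]⟩
    have hy : y.1 ∈ π.smoothLocus := by
      have : y.1 ∈ ι ⁻¹' W := hVW (hUYV y.2)
      rw [hW] at this; exact this
    exact (formallySmooth_stalkMap_iff ⊤ hUT UY hUYaff hUYT y.2).mp hy
  obtain ⟨e, he⟩ := exists_residueField_equiv s U hU hsU hUST
  set p := (hU.primeIdealOf ⟨s, hsU⟩).asIdeal with hp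
  set q := (hV.primeIdealOf ⟨x, hxV⟩).asIdeal with hq
  have hlies : q.LiesOver p :=
    ⟨congr($(IsAffineOpen.comap_primeIdealOf_appLE U hU V hV hVU hxV).1).symm⟩
  letI := Localization.AtPrime.algebraOfLiesOver p q
  have hflat1 : Module.Flat (Localization.AtPrime p) (Localization.AtPrime q) := by
    have := (RingHom.Flat.respectsIso.arrow_mk_iso_iff
      (IsAffineOpen.arrowStalkMapIso f U hU V hV hVU hxV)).mp hflat
    rw [← RingHom.flat_algebraMap_iff]
    exact this
  have hflat2 : Module.Flat Γ(S, U) (Localization.AtPrime q) :=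
    Module.Flat.trans _ (Localization.AtPrime p) _
  rw [Scheme.Hom.mem_smoothLocus, formallySmooth_stalkMap_iff U hU V hV hVU hxV]
  exact isSmoothAt_of_flat_of_formallySmooth_pushout (R := Γ(S, U)) (A := Γ(X, V))
    (K := Γ(Spec (S.residueField s), ⊤)) (B := Γ(f.fiber s, UY)) p e he q


/-- Let `f : X → S` be locally of finite presentation and `x ∈ X` with image `s`. Then `f` is smooth at
`x` if and only if `O_{S,s} → O_{X,x}` is flat and the fibre `X_s → Spec κ(s)` is smooth at the
point corresponding to `x`. -/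
theorem result {X S : Scheme.{u}} (f : X ⟶ S) [LocallyOfFinitePresentation f] (x : X)
    [LocallyOfFinitePresentation (f.fiberToSpecResidueField (f.base x))] :
    x ∈ f.smoothLocus ↔
      (f.stalkMap x).hom.Flat ∧ f.asFiber x ∈ (f.fiberToSpecResidueField (f.base x)).smoothLocus := by
  constructor
  · intro hx
    have hnhd := (Groth.Agent.S2793.nhd_smooth_iff f x).mpr hx
    obtain ⟨U, hxU, hU⟩ := hnhd
    refine ⟨Groth.Agent.S2758.stalkMap_flat_of_nhd f x ⟨U, hxU, inferInstance⟩, ?_⟩
    have h2 := Groth.Agent.S9697.of_baseChange_nhd @Smooth f (S.fromSpecResidueField (f.base x))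
      (f.asFiber x) ⟨U, by
        have : (f.fiberι (f.base x)) (f.asFiber x) = x := f.fiberι_asFiber x
        show (f.fiberι (f.base x)) (f.asFiber x) ∈ U
        rw [this]; exact hxU, hU⟩
    exact (Groth.Agent.S2793.nhd_smooth_iff (f.fiberToSpecResidueField (f.base x)) (f.asFiber x)).mp h2
  · rintro ⟨h1, h2⟩
    exact mem_smoothLocus_of_flat_of_fiber f x h1 h2

end Groth.Agent.S2156
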