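import Groth.Statements.S2155
import Groth.Agent.S2156
import Mathlib
set_option backward.isDefEq.respectTransparency.types false

set_option autoImplicit false
universe u
open CategoryTheory AlgebraicGeometry
open Mor

namespace Groth.Agent.S2155
open CategoryTheory.Limits TopologicalSpace TensorProduct

/-- Descent of pointwise smoothness along a flat base change, for a general pullback square. -/
theorem formallySmooth_stalkMap_of_isPullback_of_flat {X S X' S' : Scheme.{u}} (f : X ⟶ S)
    (g : S' ⟶ S) (f' : X' ⟶ S') (g' : X' ⟶ X) (h : IsPullback g' f' f g)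
    [LocallyOfFiniteType f] [Flat g] (x' : X')
    (hx' : (f'.stalkMap x').hom.FormallySmooth) :
    (f.stalkMap (g' x')).hom.FormallySmooth := by
  have e1 : f' ≫ 𝟙 S' = h.isoPullback.hom ≫ pullback.snd f g := by simp
  have h1 := (Groth.Agent.Lib.Helper17.SmoothPullback.stalkMap_iff_of_comp_eq
    RingHom.FormallySmooth.respectsIso (pullback.snd f g) f' h.isoPullback.hom (𝟙 S') e1 x').mp hx'
  have h2 := Groth.Agent.Lib.Helper17.SmoothPullback.stalkMap_formallySmooth_of_pullback f g
    (h.isoPullback.hom x') (Flat.stalkMap g _) h1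
  have h3 : pullback.fst f g (h.isoPullback.hom x') = g' x' := by
    rw [← Scheme.Hom.comp_apply, h.isoPullback_hom_fst]
  rw [h3] at h2
  exact h2

/-- Pointwise smoothness is preserved by arbitrary base change. -/
theorem mem_smoothLocus_of_isPullback {X S X' S' : Scheme.{u}} (f : X ⟶ S)
    (g : S' ⟶ S) (f' : X' ⟶ S') (g' : X' ⟶ X) (h : IsPullback g' f' f g)
    [LocallyOfFinitePresentation f] [LocallyOfFinitePresentation f'] (x' : X')
    (hx : g' x' ∈ f.smoothLocus) : x' ∈ f'.smoothLocus := by
  obtain ⟨U, hxU, hU⟩ := (Groth.Agent.S2793.nhd_smooth_iff f (g' x')).mpr hx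
  have hpb : IsPullback (g' ∣_ U) ((g' ⁻¹ᵁ U).ι ≫ f') (U.ι ≫ f) g :=
    (isPullback_morphismRestrict g' U).paste_vert h
  have hsm : Smooth ((g' ⁻¹ᵁ U).ι ≫ f') := MorphismProperty.of_isPullback hpb hU
  exact (Groth.Agent.S2793.nhd_smooth_iff f' x').mp ⟨g' ⁻¹ᵁ U, hxU, hsm⟩

/-- Version of the fibre criterion with the fibre taken over any point equal to `f x`. -/
theorem mem_smoothLocus_of_flat_of_fiber' {X S : Scheme.{u}} (f : X ⟶ S)
    [LocallyOfFinitePresentation f] (x : X)
    (s : S) (hs : f x = s) (z : f.fiber s) (hz : f.fiberι s z = x)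
    (hflat : (f.stalkMap x).hom.Flat)
    (hfib : ((f.fiberToSpecResidueField s).stalkMap z).hom.FormallySmooth) :
    x ∈ f.smoothLocus := by
  subst hs
  have : z = f.asFiber x :=
    (f.fiberι (f x)).isEmbedding.injective (by rw [hz, f.fiberι_asFiber])
  subst this
  haveI : LocallyOfFinitePresentation (f.fiberToSpecResidueField (f.base x)) :=
    MorphismProperty.pullback_snd _ _ inferInstance
  exact Groth.Agent.S2156.mem_smoothLocus_of_flat_of_fiber f x hflat hfib


/-- Consider a cartesian square with `f : X → S` locally of finite presentation, base change `g : S' →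
S`, and `f' : X' → S'`, `g' : X' → X` the projections. If `f` is flat, or if `g` is flat, then the
open set of points where `f'` is smooth is the preimage under `g'` of the open set of points where
`f` is smooth. -/
theorem result {X S X' S' : Scheme.{u}} (f : X ⟶ S) (g : S' ⟶ S) (f' : X' ⟶ S') (g' : X' ⟶ X)
    (h : IsPullback g' f' f g) [LocallyOfFinitePresentation f] [LocallyOfFinitePresentation f'] (hflat : Flat f ∨ Flat g) :
    f'.smoothLocus = g' ⁻¹ᵁ f.smoothLocus := by
  ext x'
  refine ⟨fun hx' => ?_, fun hx => mem_smoothLocus_of_isPullback f g f' g' h x' hx⟩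
  show g' x' ∈ f.smoothLocus
  rcases hflat with hf | hg
  · haveI : LocallyOfFinitePresentation (f'.fiberToSpecResidueField (f'.base x')) :=
      MorphismProperty.pullback_snd _ _ inferInstance
    have h1 := ((Groth.Agent.S2156.result f' x').mp hx').2
    have Q := isPullback_fiberToSpecResidueField_of_isPullback h (f' x')
    haveI : Flat (Spec.map (g.residueFieldMap (f' x'))) := by
      rw [HasRingHomProperty.Spec_iff (P := @Flat)]
      algebraize [(g.residueFieldMap (f' x')).hom]
      show Module.Flat _ _
      infer_instance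
    haveI : LocallyOfFiniteType (f.fiberToSpecResidueField (g (f' x'))) :=
      MorphismProperty.pullback_snd _ _ inferInstance
    let m : f'.fiber (f' x') ⟶ f.fiber (g (f' x')) :=
      pullback.map f' (S'.fromSpecResidueField (f' x')) f
          (S.fromSpecResidueField (g (f' x'))) g' (Spec.map (g.residueFieldMap (f' x'))) g
          h.w.symm (by simp)
    have Q' : IsPullback m (f'.fiberToSpecResidueField (f' x'))
        (f.fiberToSpecResidueField (g (f' x'))) (Spec.map (g.residueFieldMap (f' x'))) := Q
    have h2 := formallySmooth_stalkMap_of_isPullback_of_flat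
      (f.fiberToSpecResidueField (g (f' x'))) _ _ m Q' (f'.asFiber x') h1
    have hm : m ≫ f.fiberι (g (f' x')) = f'.fiberι (f' x') ≫ g' := by
      exact pullback.lift_fst _ _ _
    refine mem_smoothLocus_of_flat_of_fiber' f (g' x') (g (f' x')) ?_ (m (f'.asFiber x')) ?_
      (Flat.stalkMap f _) h2
    · exact (Scheme.Hom.comp_apply g' f x').symm.trans
        ((congrArg (fun φ : X' ⟶ S => φ x') h.w).trans (Scheme.Hom.comp_apply f' g x'))
    · have key : (m ≫ f.fiberι (g (f' x'))) (f'.asFiber x') =
          (f'.fiberι (f' x') ≫ g') (f'.asFiber x') := by rw [hm]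
      refine (Scheme.Hom.comp_apply m (f.fiberι (g (f' x'))) (f'.asFiber x')).symm.trans
        (key.trans ?_)
      rw [Scheme.Hom.comp_apply, f'.fiberι_asFiber]
  · exact formallySmooth_stalkMap_of_isPullback_of_flat f g f' g' h x' hx'

end Groth.Agent.S2155
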