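import Groth.Statements.S10888
import Mathlib
import Groth.Agent.Lib.Helper13.FibIsoSch

set_option autoImplicit false
universe u
open CategoryTheory AlgebraicGeometry
open FlatMor

namespace Groth.Agent.S10888

section helpers

open CategoryTheory CategoryTheory.Limits AlgebraicGeometry TopologicalSpace TensorProduct


open Groth.Agent.Lib.Helper13.FibIsoSch

section Local

variable {X Y S : Scheme.{u}} (g : X ⟶ S) (h : Y ⟶ S) (f : X ⟶ Y) (w : f ≫ h = g)

include w in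
/-- Local statement: `f` is an isomorphism near any point of `Y` over whose image the fibre map
is an isomorphism. -/
theorem exists_nhd_isIso [IsProper g] [LocallyOfFinitePresentation g] [Flat g] [IsProper h]
    [LocallyOfFinitePresentation h] (y : Y)
    (e : g.fiber (h y) ≅ h.fiber (h y))
    (he : e.hom ≫ h.fiberι (h y) = g.fiberι (h y) ≫ f) :
    ∃ V : Y.Opens, y ∈ V ∧ IsIso (f ∣_ V) := by
  haveI : IsProper (f ≫ h) := by rw [w]; infer_instance
  haveI : IsProper f := .of_comp f h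
  -- the fibre of `f` over `y` is a single point
  have hyr : y ∈ Set.range (h.fiberι (h y)) := by
    rw [Scheme.Hom.range_fiberι]; rfl
  obtain ⟨y', hy'⟩ := hyr
  have hfib : (f ⁻¹' {y}).Finite := by
    refine (Set.finite_singleton (g.fiberι (h y) (e.inv y'))).subset ?_
    intro x hx
    have hx1 : f x = y := hx
    have hxr : x ∈ Set.range (g.fiberι (h y)) := by
      rw [Scheme.Hom.range_fiberι]
      show g x = h y
      rw [← w, Scheme.Hom.comp_apply, hx1]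
    obtain ⟨x', rfl⟩ := hxr
    have h1 : h.fiberι (h y) (e.hom x') = h.fiberι (h y) y' := by
      have h0 := congrArg (fun k : g.fiber (h y) ⟶ Y => k x') he
      simp only [Scheme.Hom.comp_apply] at h0
      exact (h0.trans hx1).trans hy'.symm
    have h2 : e.hom x' = y' := (h.fiberι (h y)).isEmbedding.injective h1
    have h3 : x' = e.inv y' := by
      have h0 := congrArg (fun k : g.fiber (h y) ⟶ g.fiber (h y) => k x') e.hom_inv_id
      simp only [Scheme.Hom.comp_apply] at h0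
      rw [← h2, h0]
      rfl
    rw [h3]; rfl
  obtain ⟨V, hyV, hVfin⟩ := exists_isFinite_morphismRestrict_of_finite_preimage_singleton f y hfib
  -- affine charts
  obtain ⟨_, ⟨W₁, hW₁ : IsAffineOpen W₁, rfl⟩, hsW₁, -⟩ :=
    S.isBasis_affineOpens.exists_subset_of_mem_open (Set.mem_univ (h y)) isOpen_univ
  obtain ⟨_, ⟨V₁, hV₁ : IsAffineOpen V₁, rfl⟩, hyV₁, hV₁le⟩ :=
    Y.isBasis_affineOpens.exists_subset_of_mem_open
      (show y ∈ ((V ⊓ h ⁻¹ᵁ W₁ : Y.Opens) : Set Y) from ⟨hyV, hsW₁⟩) (V ⊓ h ⁻¹ᵁ W₁).2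
  have hV₁V : V₁ ≤ V := fun z hz => (hV₁le hz).1
  have hV₁W : V₁ ≤ h ⁻¹ᵁ W₁ := fun z hz => (hV₁le hz).2
  -- round 1
  obtain ⟨hU₁, hfin₁⟩ := fin_of_le f hVfin hV₁ hV₁V
  obtain ⟨⟨b₁, hyb₁, hb₁⟩, -⟩ := data g h f w y e he hW₁ hsW₁ hV₁ hyV₁ hV₁W hU₁ hfin₁
  have hV₂ : IsAffineOpen (Y.basicOpen b₁) := hV₁.basicOpen b₁
  have hV₂V₁ : Y.basicOpen b₁ ≤ V₁ := Y.basicOpen_le b₁
  have hsurj₂ : Function.Surjective (f.app (Y.basicOpen b₁)) := (loc_sch f hV₁ hU₁ b₁).1 hb₁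
  -- round 2
  obtain ⟨hU₂, hfin₂⟩ := fin_of_le f hVfin hV₂ (hV₂V₁.trans hV₁V)
  obtain ⟨-, h2⟩ := data g h f w y e he hW₁ hsW₁ hV₂ hyb₁ (hV₂V₁.trans hV₁W) hU₂ hfin₂
  obtain ⟨b₂, hyb₂, hb₂⟩ := h2 hsurj₂
  have hV₃ : IsAffineOpen (Y.basicOpen b₂) := hV₂.basicOpen b₂
  obtain ⟨hU₃, -⟩ := fin_of_le f hVfin hV₃ ((Y.basicOpen_le b₂).trans (hV₂V₁.trans hV₁V))
  have hbij : Function.Bijective (f.app (Y.basicOpen b₂)) := by
    refine ⟨(loc_sch f hV₂ hU₂ b₂).2 hb₂, (loc_sch f hV₂ hU₂ b₂).1 fun c => ?_⟩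
    obtain ⟨β, hβ⟩ := hsurj₂ c
    exact ⟨b₂ * β, by rw [map_mul, hβ]⟩
  exact ⟨Y.basicOpen b₂, hyb₂, isIso_restrict_of_bijective f hV₃ hU₃ hbij⟩

end Local


section Global

variable {X Y S : Scheme.{u}} (g : X ⟶ S) (h : Y ⟶ S) (f : X ⟶ Y) (w : f ≫ h = g)

include w in
theorem exists_nhd_isIso' [IsProper g] [LocallyOfFinitePresentation g] [Flat g] [IsProper h]
    [LocallyOfFinitePresentation h] (s : S) (e : g.fiber s ≅ h.fiber s)
    (he : e.hom ≫ h.fiberι s = g.fiberι s ≫ f) (y : Y) (hy : h y = s) :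
    ∃ V : Y.Opens, y ∈ V ∧ IsIso (f ∣_ V) := by
  subst hy
  exact exists_nhd_isIso g h f w y e he

include w in
theorem fiber_iso_of_good (W : S.Opens) (hW : IsIso (f ∣_ (h ⁻¹ᵁ W))) (s : S) (hs : s ∈ W) :
    ∃ e : g.fiber s ≅ h.fiber s, e.hom ≫ h.fiberι s = g.fiberι s ≫ f := by
  let fs : g.fiber s ⟶ h.fiber s :=
    pullback.lift (g.fiberι s ≫ f) (g.fiberToSpecResidueField s)
      (by rw [Category.assoc, w]; exact g.fiber_fac s)
  have hfs1 : fs ≫ h.fiberι s = g.fiberι s ≫ f := pullback.lift_fst _ _ _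
  have hfs2 : fs ≫ h.fiberToSpecResidueField s = g.fiberToSpecResidueField s :=
    pullback.lift_snd _ _ _
  have hbig : IsPullback (fs ≫ h.fiberToSpecResidueField s) (g.fiberι s)
      (S.fromSpecResidueField s) (f ≫ h) := by
    rw [hfs2, w]
    exact IsPullback.flip (IsPullback.of_hasPullback _ _)
  have hright : IsPullback (h.fiberToSpecResidueField s) (h.fiberι s)
      (S.fromSpecResidueField s) h := IsPullback.flip (IsPullback.of_hasPullback _ _)
  have hpb : IsPullback fs (g.fiberι s) (h.fiberι s) f :=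
    IsPullback.of_right hbig hfs1 hright
  set Ω : Y.Opens := h ⁻¹ᵁ W with hΩ
  have hrY : Set.range (h.fiberι s) ⊆ Set.range Ω.ι := by
    rw [Scheme.Hom.range_fiberι, Scheme.Opens.range_ι]
    intro z hz
    show h z ∈ W
    rw [show h z = s from hz]; exact hs
  have hrX : Set.range (g.fiberι s) ⊆ Set.range (f ⁻¹ᵁ Ω).ι := by
    rw [Scheme.Hom.range_fiberι, Scheme.Opens.range_ι]
    intro z hz
    show h (f z) ∈ W
    have : g z = s := hz
    rw [← Scheme.Hom.comp_apply, w, this]; exact hs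
  let ιY' := IsOpenImmersion.lift Ω.ι (h.fiberι s) hrY
  let ιX' := IsOpenImmersion.lift (f ⁻¹ᵁ Ω).ι (g.fiberι s) hrX
  have hιY : ιY' ≫ Ω.ι = h.fiberι s := IsOpenImmersion.lift_fac _ _ _
  have hιX : ιX' ≫ (f ⁻¹ᵁ Ω).ι = g.fiberι s := IsOpenImmersion.lift_fac _ _ _
  have hcomm : fs ≫ ιY' = ιX' ≫ (f ∣_ Ω) := by
    rw [← cancel_mono Ω.ι, Category.assoc, hιY, hfs1, Category.assoc, morphismRestrict_ι,
      ← Category.assoc, hιX]
  have hpb' : IsPullback fs (ιX' ≫ (f ⁻¹ᵁ Ω).ι) (ιY' ≫ Ω.ι) f := by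
    rw [hιX, hιY]; exact hpb
  have hsq : IsPullback fs ιX' ιY' (f ∣_ Ω) :=
    IsPullback.of_bot hpb' hcomm (isPullback_morphismRestrict f Ω)
  haveI : IsIso fs :=
    MorphismProperty.of_isPullback (P := MorphismProperty.isomorphisms Scheme.{u}) hsq.flip hW
  exact ⟨asIso fs, hfs1⟩

include w in
theorem main [IsProper g] [LocallyOfFinitePresentation g] [Flat g] [IsProper h]
    [LocallyOfFinitePresentation h] :
    ∃ U : S.Opens, (∀ s : S, s ∈ U ↔
        ∃ e : g.fiber s ≅ h.fiber s, e.hom ≫ h.fiberι s = g.fiberι s ≫ f) ∧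
      IsIso (f ∣_ (h ⁻¹ᵁ U)) := by
  let Good : S.Opens → Prop := fun W => IsIso (f ∣_ (h ⁻¹ᵁ W))
  let U : S.Opens := ⨆ W : {W : S.Opens // Good W}, W.1
  have hUiso : IsIso (f ∣_ (h ⁻¹ᵁ U)) := by
    refine cover_of_le (P := MorphismProperty.isomorphisms Scheme.{u}) f
      (fun W : {W : S.Opens // Good W} => h ⁻¹ᵁ W.1) (h ⁻¹ᵁ U) (fun W => ?_) ?_ (fun W => W.2)
    · intro z hz
      exact Opens.mem_iSup.mpr ⟨W, hz⟩
    · intro z hz
      obtain ⟨W, hW⟩ := Opens.mem_iSup.mp (show h z ∈ U from hz)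
      exact Opens.mem_iSup.mpr ⟨W, hW⟩
  refine ⟨U, fun s => ⟨fun hs => ?_, fun ⟨e, he⟩ => ?_⟩, hUiso⟩
  · obtain ⟨W, hW⟩ := Opens.mem_iSup.mp hs
    exact fiber_iso_of_good g h f w W.1 W.2 s hW
  · choose V hyV hViso using fun y : {y : Y // h y = s} =>
      exists_nhd_isIso' g h f w s e he y.1 y.2
    let 𝒱 : Y.Opens := ⨆ y, V y
    have h𝒱 : IsIso (f ∣_ 𝒱) :=
      cover_of_le (P := MorphismProperty.isomorphisms Scheme.{u}) f V 𝒱
        (fun y => le_iSup V y) le_rfl hViso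
    have hcl : IsClosed (h '' (𝒱 : Set Y)ᶜ) := h.isClosedMap _ 𝒱.2.isClosed_compl
    let W : S.Opens := ⟨(h '' (𝒱 : Set Y)ᶜ)ᶜ, hcl.isOpen_compl⟩
    have hsW : s ∈ W := by
      rintro ⟨z, hz, hzs⟩
      exact hz (Opens.mem_iSup.mpr ⟨⟨z, hzs⟩, hyV ⟨z, hzs⟩⟩)
    have hle : h ⁻¹ᵁ W ≤ 𝒱 := by
      intro z hz
      by_contra hz'
      exact hz ⟨z, hz', rfl⟩
    have hgood : Good W := restrict_of_le (P := MorphismProperty.isomorphisms Scheme.{u}) f hle h𝒱
    exact Opens.mem_iSup.mpr ⟨⟨W, hgood⟩, hsW⟩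

end Global


end helpers

/-- Let g : X → S and h : Y → S be proper and of finite presentation with g flat, and f : X → Y a
morphism over S. Then the locus U of points of S over which the fibre morphism X_s → Y_s is an
isomorphism is an open subset of S, and f restricts to an isomorphism over U. -/
theorem result {X Y S : Scheme.{u}} (g : X ⟶ S) (h : Y ⟶ S)
    [IsProper g] [LocallyOfFinitePresentation g] [Flat g] [IsProper h] [LocallyOfFinitePresentation h]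
    (f : X ⟶ Y) (w : f ≫ h = g) :
    ∃ U : S.Opens, (∀ s : S, s ∈ U ↔ ∃ e : g.fiber s ≅ h.fiber s, e.hom ≫ h.fiberι s = g.fiberι s ≫ f) ∧
      IsIso (f ∣_ (h ⁻¹ᵁ U)) := by
  exact main g h f w

end Groth.Agent.S10888
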