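import Groth.Statements.S8853
import Mathlib.Tactic
import Mathlib.AlgebraicGeometry.Morphisms.Affine
-- import your own Groth.Agent.* helpers here

set_option autoImplicit false
universe u
open CategoryTheory CategoryTheory.Limits AlgebraicGeometry TopologicalSpace
open SDiv

namespace Groth.Agent.S8853

/-- Let Z be a locally principal closed subscheme of a scheme S, with ideal sheaf 𝓘 generated by a
single section on some affine open neighbourhood of each point of its support, and let U be the open
complement of Z. Then the inclusion U ⟶ S is an affine morphism. -/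
theorem result {S : Scheme.{u}} (𝓘 : S.IdealSheafData) (h : Curv2.IsLocPrincipal 𝓘) :
    IsAffineHom (Scheme.Opens.ι 𝓘.support.compl) := by
  set U : S.Opens := 𝓘.support.compl with hUdef
  have hmemU : ∀ y : S, y ∈ U ↔ y ∉ 𝓘.support := fun y => Iff.rfl
  apply isAffineHom_of_forall_exists_isAffineOpen
  intro x
  have key : ∀ V : S.Opens, IsAffineOpen (U ⊓ V) → IsAffineOpen (U.ι ⁻¹ᵁ V) := by
    intro V hV
    rw [← U.ι.isAffineOpen_iff_of_isOpenImmersion, U.ι.image_preimage_eq_opensRange_inf,
      Scheme.Opens.opensRange_ι]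
    exact hV
  by_cases hx : x ∈ 𝓘.support
  · obtain ⟨V, hxV, g, hg⟩ := h x hx
    refine ⟨V.1, hxV, V.2, key V.1 ?_⟩
    have heq : U ⊓ V.1 = S.basicOpen g := by
      ext y
      constructor
      · rintro ⟨hyU, hyV⟩
        have h1 : ¬ y ∈ 𝓘.support := hyU
        rw [Scheme.IdealSheafData.mem_support_iff_of_mem (U := V) hyV, hg, Scheme.zeroLocus_span,
          Scheme.zeroLocus_singleton] at h1
        simpa using h1
      · intro hy
        have hyV : y ∈ V.1 := S.basicOpen_le g hy
        refine ⟨?_, hyV⟩
        change ¬ y ∈ 𝓘.support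
        rw [Scheme.IdealSheafData.mem_support_iff_of_mem (U := V) hyV, hg, Scheme.zeroLocus_span,
          Scheme.zeroLocus_singleton]
        simpa using hy
    rw [heq]
    exact V.2.basicOpen g
  · have hxU : x ∈ U := hx
    obtain ⟨_, ⟨V, hV, rfl⟩, hxV, hVU⟩ :=
      S.isBasis_affineOpens.exists_subset_of_mem_open hxU U.isOpen
    refine ⟨V, hxV, hV, key V ?_⟩
    have : U ⊓ V = V := inf_eq_right.mpr hVU
    rw [this]
    exact hV

end Groth.Agent.S8853
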