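import Groth.Statements.S7194
import Mathlib
import Groth.Agent.Lib.Helper13.WeilFree
import Groth.Agent.Lib.Helper13.RelLocRep
import Groth.Agent.Lib.Helper13.MorSSheaf
import Groth.Agent.Lib.Helper13.FinLocFreeChart
import Groth.Agent.Lib.Helper26.MorSchBC
import Groth.Prelude.Def_Flatn
import Groth.Prelude.Def_Mor2

set_option autoImplicit false
universe u
open CategoryTheory AlgebraicGeometry
open FlatMor

namespace Groth.Agent.S7194

section helpers
set_option linter.unusedSectionVars false
set_option linter.style.haveILetI false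
open CategoryTheory CategoryTheory.Limits AlgebraicGeometry Opposite


open Groth.Agent.Lib.Helper13

set_option backward.isDefEq.respectTransparency.types false in
theorem main {Z X S : Scheme.{u}} (g : Z ⟶ S) (f : X ⟶ S) (hg : Mor2.IsFinLocFree g)
    [IsAffineHom f] :
    ∃ W : Over S, IsAffineHom W.hom ∧ Nonempty ((Flatn.morS g f).RepresentableBy W) := by
  haveI := hg.1
  haveI := hg.2.1
  haveI := hg.2.2
  choose S' q hq hs haff hPaff hfree using fun s => FinLocFreeChart.exists_free_chart g s
  haveI := hq
  haveI := haff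
  haveI := hPaff
  haveI : ∀ s, IsAffine (pullback f (q s)) := fun s => isAffine_of_isAffineHom (pullback.snd f (q s))
  have hloc : ∀ s : S, ∃ W : Over (S' s), IsAffine W.left ∧
      Nonempty ((Flatn.morS (pullback.snd g (q s)) (pullback.snd f (q s))).RepresentableBy W) := by
    intro s
    letI := (pullback.snd g (q s)).appTop.hom.toAlgebra
    letI := (pullback.snd f (q s)).appTop.hom.toAlgebra
    haveI := (hfree s).1
    haveI := (hfree s).2
    exact WeilFree.main (pullback.snd g (q s)) (pullback.snd f (q s)) rfl rfl
  choose W hWaff hWrep using hloc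
  let r : ∀ s, ((Over.map (q s)).op ⋙ Flatn.morS g f).RepresentableBy (W s) := fun s =>
    (hWrep s).some.ofIso (Groth.Agent.Lib.Helper26.MorSchBC.morSIso g f (q s))
  obtain ⟨W₀, rep, hW₀⟩ := RelLocRep.exists_representableBy_of_local q W r
    (fun s => ⟨s, hs s⟩) (MorSSheaf.morS_isZarSheaf g f)
  refine ⟨W₀, ?_, ⟨rep⟩⟩
  let 𝒰 : S.OpenCover :=
    { I₀ := S, X := S', f := q,
      mem₀ := by
        rw [Scheme.presieve₀_mem_precoverage_iff]
        exact ⟨fun x => ⟨x, hs x⟩, fun s => hq s⟩ }
  haveI : ∀ i, IsAffine (𝒰.X i) := haff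
  apply HasAffineProperty.of_openCover (P := @IsAffineHom) (Q := fun X _ _ _ => IsAffine X) 𝒰
  intro s
  obtain ⟨j, hj⟩ := hW₀ s
  change IsAffine (pullback W₀.hom (q s))
  haveI := hWaff s
  exact IsAffine.of_isIso hj.isoPullback.inv


end helpers

/-- For a finite locally free morphism Z → S and an affine morphism X → S, the functor on S-schemes
sending T to the set of S-morphisms T ×_S Z → X is represented by an S-scheme W whose structure
morphism W → S is affine. -/
theorem result {Z X S : Scheme.{u}} (g : Z ⟶ S) (f : X ⟶ S) (hg : Mor2.IsFinLocFree g) [IsAffineHom f] :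
    ∃ W : Over S, IsAffineHom W.hom ∧ Nonempty ((Flatn.morS g f).RepresentableBy W) := by
  exact main g f hg

end Groth.Agent.S7194
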