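import Groth.Statements.S2135
import Groth.Agent.Lib.Helper12.GeomUnibranch
import Groth.Agent.Lib.Helper12.HensFibre
import Groth.Agent.Lib.Helper12.StrictQuotient
import Groth.Agent.Lib.Helper12.UniqueMinPrime
import Groth.Agent.S0539
import Groth.Agent.S0538
import Groth.Agent.S2747

set_option autoImplicit false
universe u
open CAlg

namespace Groth.Agent.S2135

/-- A local ring `A` is geometrically unibranch if and only if a strict henselization of `A` has a
unique minimal prime ideal. -/
theorem result {A Ash : Type u} [CommRing A] [IsLocalRing A]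
    [CommRing Ash] [IsLocalRing Ash] [Algebra A Ash] [IsLocalHom (algebraMap A Ash)]
    [Hensel.IsStrictHenselization A Ash] :
    CAlg2.IsGeomUnibranch A ↔ CAlgX.HasUniqueMinimalPrime Ash := by
  haveI : Module.FaithfullyFlat A Ash := Groth.Agent.S0539.result A Ash
  have hJ : (nilradical A).map (algebraMap A Ash) ≤ nilradical Ash :=
    Groth.Agent.Lib.Helper12.UniqueMinPrime.map_nilradical_le
  constructor
  · rintro ⟨⟨hdom, hloc⟩, hpi⟩
    haveI := hdom
    haveI := hloc
    have hI : nilradical A ≠ ⊤ := Ideal.Quotient.nontrivial_iff.mp inferInstance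
    obtain ⟨hR, hT, hloc', hH⟩ :=
      Groth.Agent.Lib.Helper12.StrictQuotient.isStrictHenselization_quotient A Ash (nilradical A) hI
    haveI : Module.FaithfullyFlat (A ⧸ nilradical A) (Ash ⧸ (nilradical A).map (algebraMap A Ash)) :=
      Groth.Agent.S0539.result _ _
    have h2 : IsLocalRing (TensorProduct (A ⧸ nilradical A)
        (Ash ⧸ (nilradical A).map (algebraMap A Ash)) (CAlg2.normRed A)) := by
      refine Groth.Agent.Lib.Helper12.GeomUnibranch.isLocalRing_tensor_of_pow_mem
        (A ⧸ nilradical A) (Ash ⧸ (nilradical A).map (algebraMap A Ash)) (CAlg2.normRed A)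
        (fun x => ?_)
      obtain ⟨n, a, ha⟩ := hpi (IsLocalRing.maximalIdeal (CAlg2.normRed A)) x
      exact ⟨n, Ideal.Quotient.mk (nilradical A) a, ha⟩
    haveI : IsDomain (Ash ⧸ (nilradical A).map (algebraMap A Ash)) := by
      refine Groth.Agent.Lib.Helper12.Unibranch.isDomain_of_isLocalRing_tensor (A ⧸ nilradical A)
        (FractionRing (A ⧸ nilradical A)) _ (fun s => ?_) h2
      obtain ⟨i, ψ, hinj, -, hr⟩ := Groth.Agent.Lib.Helper12.StrictStruct.exists_nbhd_range
        (A ⧸ nilradical A) (Ash ⧸ (nilradical A).map (algebraMap A Ash)) s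
      exact ⟨i.G, inferInstance, inferInstance, ψ, i.isEssentiallyEtale, hinj, hr⟩
    exact Groth.Agent.Lib.Helper12.UniqueMinPrime.hasUniqueMinimalPrime_of_isDomain_quotient _ hJ
  · intro hP
    haveI hprime : (nilradical A).IsPrime :=
      Groth.Agent.Lib.Helper12.UniqueMinPrime.nilradical_isPrime_of_hasUniqueMinimalPrime
        (FaithfulSMul.algebraMap_injective A Ash) hP
    have hdom : IsDomain (A ⧸ nilradical A) := Ideal.Quotient.isDomain _
    haveI := hdom
    have hI : nilradical A ≠ ⊤ := hprime.ne_top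
    obtain ⟨hR, hT, hloc', hH⟩ :=
      Groth.Agent.Lib.Helper12.StrictQuotient.isStrictHenselization_quotient A Ash (nilradical A) hI
    haveI : Module.FaithfullyFlat (A ⧸ nilradical A) (Ash ⧸ (nilradical A).map (algebraMap A Ash)) :=
      Groth.Agent.S0539.result _ _
    haveI : IsReduced (Ash ⧸ (nilradical A).map (algebraMap A Ash)) :=
      (Groth.Agent.S2747.result (A ⧸ nilradical A) _).mpr inferInstance
    haveI : IsDomain (Ash ⧸ (nilradical A).map (algebraMap A Ash)) :=
      Groth.Agent.Lib.Helper12.UniqueMinPrime.isDomain_quotient_of_hasUniqueMinimalPrime _ hJ hP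
    haveI : HenselianLocalRing (Ash ⧸ (nilradical A).map (algebraMap A Ash)) :=
      Hensel.IsStrictHenselization.henselian (R := A ⧸ nilradical A)
    have hloc : IsLocalRing (CAlg2.normRed A) :=
      Groth.Agent.Lib.Helper12.Unibranch.isLocalRing_integralClosure_of_isDomain
        (FractionRing (A ⧸ nilradical A)) (Ash ⧸ (nilradical A).map (algebraMap A Ash))
    refine ⟨⟨hdom, hloc⟩, ?_⟩
    intro m' hm' x
    haveI : IsDomain (CAlg2.red (A ⧸ nilradical A)) := by
      haveI : (nilradical (A ⧸ nilradical A)).IsPrime := by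
        rw [nilradical_eq_zero (A ⧸ nilradical A), Ideal.zero_eq_bot]
        exact Ideal.isPrime_bot
      exact Ideal.Quotient.isDomain _
    haveI : IsLocalRing (TensorProduct (A ⧸ nilradical A)
        (Ash ⧸ (nilradical A).map (algebraMap A Ash)) (CAlg2.normRed A)) :=
      Groth.Agent.Lib.Helper12.GeomUnibranch.isLocalRing_tensor_integralClosure_of_isDomain
        (A ⧸ nilradical A) (Ash ⧸ (nilradical A).map (algebraMap A Ash))
        (FractionRing (A ⧸ nilradical A))
    letI : Field (CAlg2.normRed A ⧸ m') := Ideal.Quotient.field m'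
    haveI : IsLocalRing (TensorProduct (A ⧸ nilradical A)
        (Ash ⧸ (nilradical A).map (algebraMap A Ash)) (CAlg2.normRed A ⧸ m')) :=
      IsLocalRing.of_surjective'
        (Algebra.TensorProduct.map (AlgHom.id (A ⧸ nilradical A)
          (Ash ⧸ (nilradical A).map (algebraMap A Ash)))
          (Ideal.Quotient.mkₐ (A ⧸ nilradical A) m')).toRingHom
        (Algebra.TensorProduct.map_surjective _ _ Function.surjective_id
          (Ideal.Quotient.mkₐ_surjective (A ⧸ nilradical A) m'))
    haveI : IsSepClosed (IsLocalRing.ResidueField (Ash ⧸ (nilradical A).map (algebraMap A Ash))) :=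
      (Hensel.IsStrictHenselization.isSepClosure (R := A ⧸ nilradical A)
        (S := Ash ⧸ (nilradical A).map (algebraMap A Ash))).sep_closed
    obtain ⟨n, r, hr⟩ := Groth.Agent.Lib.Helper12.GeomUnibranch.exists_pow_mem_range
      (A ⧸ nilradical A) (Ash ⧸ (nilradical A).map (algebraMap A Ash)) (CAlg2.normRed A ⧸ m')
      (Groth.Agent.S0538.result _ _) x
    obtain ⟨a, rfl⟩ := Ideal.Quotient.mk_surjective r
    exact ⟨n, a, hr⟩

end Groth.Agent.S2135
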