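import Groth.Statements.S1535
import Groth.Agent.Lib.Helper5.RegSmooth

set_option autoImplicit false
universe u
open CategoryTheory CategoryTheory.Limits AlgebraicGeometry
open Variety

namespace Groth.Agent.S1535

/-- If X is smooth over a field then every local ring of X is a regular local ring. -/
theorem result (k : Type u) [Field k] (X : Scheme.{u}) [X.Over (Spec (CommRingCat.of k))] [Smooth (X ↘ (Spec (CommRingCat.of k)))] (x : X) :
    IsRegularLocalRing (X.presheaf.stalk x) := by
  obtain ⟨V, hV, hxV, -⟩ := exists_isAffineOpen_mem_and_subset (x := x) (U := ⊤) trivial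
  have hU : IsAffineOpen (⊤ : (Spec (CommRingCat.of k)).Opens) := isAffineOpen_top _
  have hVU : V ≤ (X ↘ (Spec (CommRingCat.of k))) ⁻¹ᵁ ⊤ := le_top
  have hsm := (X ↘ (Spec (CommRingCat.of k))).smooth_appLE hU hV hVU
  algebraize [((X ↘ (Spec (CommRingCat.of k))).appLE ⊤ V hVU).hom]
  have hk : IsRegularRing k := inferInstance
  have hreg : IsRegularRing Γ(Spec (CommRingCat.of k), ⊤) :=
    IsRegularRing.of_ringEquiv (Scheme.ΓSpecIso (CommRingCat.of k)).symm.commRingCatIsoToRingEquiv
  have hregV : IsRegularRing Γ(X, V) :=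
    Lib.Helper5.RegSmooth.isRegularRing_of_smooth Γ(Spec (CommRingCat.of k), ⊤) Γ(X, V)
  letI := X.presheaf.algebra_section_stalk ⟨x, hxV⟩
  have hloc := hV.isLocalization_stalk ⟨x, hxV⟩
  exact IsRegularLocalRing.of_ringEquiv
    (IsLocalization.algEquiv (hV.primeIdealOf ⟨x, hxV⟩).asIdeal.primeCompl
      (Localization.AtPrime (hV.primeIdealOf ⟨x, hxV⟩).asIdeal) (X.presheaf.stalk x)).toRingEquiv

end Groth.Agent.S1535
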