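import Groth.Statements.S1544
import Mathlib
import Groth.Agent.Lib.Helper5.FrobRedSch
import Groth.Agent.Lib.Helper5.StalkBCH
-- import your own Groth.Agent.* helpers here

set_option autoImplicit false
universe u
open CategoryTheory CategoryTheory.Limits AlgebraicGeometry
attribute [local instance] Curv2.resAlgebra Curv2.stalkAlgebra
open Variety

namespace Groth.Agent.S1544

/-- For an integral scheme over k, geometric reducedness of the scheme is equivalent to geometric
reducedness over k of the function field (the local ring at the generic point), i.e. a separable
extension of k in the sense of commutative algebra. The source states this for varieties;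
integrality is what the proof uses. -/
theorem result (k : Type u) [Field k] (X : Scheme.{u}) [X.Over (Spec (CommRingCat.of k))] [IsIntegral X] :
    GeometricallyReduced (X ↘ (Spec (CommRingCat.of k))) ↔ Algebra.IsGeometricallyReduced k X.functionField := by
  constructor
  · intro hgr
    have h1 : Curv2.IsGeomReducedAt k X (genericPoint X) := by
      intro k' _ _ x' _
      haveI : AlgebraicGeometry.IsReduced (Curv2.bc k X k') :=
        pullback_of_geometrically
          (GeometricallyReduced.geometrically_isReduced (f := X ↘ (Spec (CommRingCat.of k)))) k' _
      infer_instance
    exact (Groth.Agent.Lib.Helper5.StalkBC.isGeomReducedAt_iff k X (genericPoint X)).mp h1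
  · intro hK
    have hall : ∀ x : X, Curv2.IsGeomReducedAt k X x := by
      intro x
      rw [Groth.Agent.Lib.Helper5.StalkBC.isGeomReducedAt_iff]
      let φ : X.presheaf.stalk x →ₐ[k] X.functionField :=
        { (algebraMap (X.presheaf.stalk x) X.functionField) with
          commutes' := fun c => by
            change (X.presheaf.stalkSpecializes _).hom
              ((X.presheaf.germ ⊤ x trivial).hom _) = (X.presheaf.germ ⊤ _ trivial).hom _
            exact X.presheaf.germ_stalkSpecializes_apply _ _ _ }
      exact Algebra.IsGeometricallyReduced.of_injective φ
        (IsFractionRing.injective (X.presheaf.stalk x) X.functionField)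
    rw [GeometricallyReduced.eq_geometrically,
      geometrically_iff_of_commRing_of_isClosedUnderIsomorphisms]
    intro K _ _
    exact Groth.Agent.Lib.Helper5.FrobRed.isReduced_bc_of_forall_geomReducedAt k X hall K

end Groth.Agent.S1544
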