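import Groth.Statements.S3066
-- import your own Groth.Agent.* helpers here

set_option autoImplicit false
open CategoryTheory CategoryTheory.Limits Opposite
universe u
open ToposFin

namespace Groth.Agent.S3066

variable {C : Type u} [SmallCategory C] {J : GrothendieckTopology C}

/-- quasi-compactness of objects of the topos is invariant under isomorphism -/
lemma isQC_of_iso {X X' : ToposFin.Sh J} (e : X ≅ X') (hX : ToposFin.IsQC X) : ToposFin.IsQC X' := by
  intro ι F π hπ
  have h1 : Sigma.desc (fun i => π i ≫ e.inv) = Sigma.desc π ≫ e.inv := by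
    ext; simp
  have : Epi (Sigma.desc (fun i => π i ≫ e.inv)) := by rw [h1]; infer_instance
  obtain ⟨s, hs⟩ := hX ι F (fun i => π i ≫ e.inv) this
  refine ⟨s, ?_⟩
  have h2 : Sigma.desc (fun i : s => π i) = Sigma.desc (fun i : s => π i ≫ e.inv) ≫ e.hom := by
    ext; simp
  rw [h2]; infer_instance

/-- Quasi-separated case, for a topos of sheaves of sets on a small site: if f : X -> Y is a
quasi-separated morphism and Y is a quasi-separated object, then X is quasi-separated. -/
theorem result {C : Type u} [SmallCategory C] {J : GrothendieckTopology C} {X Y : ToposFin.Sh J} (f : X ⟶ Y) (hf : ToposFin.IsQSHom f)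
    (hY : ToposFin.IsQS Y) : ToposFin.IsQS X := by
  intro A B a b hA hB
  have h1 : ToposFin.IsQC (pullback (a ≫ f) (b ≫ f)) := hY A B (a ≫ f) (b ≫ f) hA hB
  have h2 := hf _ (pullback.map (a ≫ f) (b ≫ f) f f a b (𝟙 Y) (by simp) (by simp)) h1
  exact isQC_of_iso (pullbackDiagonalMapIdIso a b f) h2

end Groth.Agent.S3066
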