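import Groth.Statements.S8740
import Groth.Agent.Lib.Helper14.AdeqBC

set_option autoImplicit false
universe u
open CategoryTheory Limits
open Adeq

namespace Groth.Agent.S8740

open Groth.Agent.Lib.Helper14.AdeqBC


/-- For an adequate functor `F` on `A`-algebras and a flat map of `A`-algebras `f : B → B'`, the
canonical map `B' ⊗_B F(B) → F(B')` is an isomorphism. -/
theorem result (A : Type u) [CommRing A] (F : Adeq.MVF A) (hF : Adeq.adequate A F)
    {B B' : Adeq.Alg A} (f : B ⟶ B') (hf : f.hom.toRingHom.Flat) : IsIso (F.bc f) := by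
  obtain ⟨M, N, φ, ⟨e⟩⟩ := hF
  have hK : Function.Bijective ((kernel ((Adeq.underline A).map φ)).bc f) :=
    bc_kernel_bijective f _ hf (bc_underline_bijective f M) (bc_underline_bijective f N).1
  have hKiso : IsIso ((kernel ((Adeq.underline A).map φ)).bc f) :=
    (ConcreteCategory.isIso_iff_bijective _).2 hK
  have n := bc_naturality f e.hom
  have h1 : IsIso (e.hom.app (Adeq.pt B)) :=
    inferInstanceAs (IsIso ((PresheafOfModules.evaluation _ (Adeq.pt B)).map e.hom))
  have h2 : IsIso (e.hom.app (Adeq.pt B')) :=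
    inferInstanceAs (IsIso ((PresheafOfModules.evaluation _ (Adeq.pt B')).map e.hom))
  have h3 : F.bc f = (E f).map (e.hom.app (Adeq.pt B)) ≫
      (kernel ((Adeq.underline A).map φ)).bc f ≫ inv (e.hom.app (Adeq.pt B')) := by
    rw [← Category.assoc, n, Category.assoc, IsIso.hom_inv_id, Category.comp_id]
  rw [h3]
  infer_instance

end Groth.Agent.S8740
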