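import Groth.Statements.S19140
import Groth.Agent.Lib.Helper14.MTHom5
import Groth.Agent.Lib.Helper4.QuotFlat

set_option autoImplicit false
open CategoryTheory MonoidalCategory CartesianMonoidalCategory MonObj GrpObj AlgebraicGeometry
universe u
open SGA3x

namespace Groth.Agent.S19140

open Groth.Agent.Lib.Helper14 TensorProduct

section free

variable {R A A' : Type u} [CommRing R] [CommRing A] [CommRing A'] [Algebra R A] [Algebra R A']
  {M N : Type} [AddCommGroup M] [AddCommGroup N]
  (bN : Module.Basis N R A) (bM : Module.Basis M R A')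
  (hbadd : ∀ m m', bM (m + m') = bM m * bM m')
  (φ₀ : N →+ M) (G' : A →ₐ[R] A') (hG : ∀ n, G' (bN n) = bM (φ₀ n))

include hbadd hG in
/-- the group algebra of a group is free over the group algebra of a subgroup -/
theorem free_of_injective (h : Function.Injective φ₀) :
    letI : Algebra A A' := G'.toRingHom.toAlgebra
    Module.Free A A' := by
  letI : Algebra A A' := G'.toRingHom.toAlgebra
  haveI : IsScalarTower R A A' := IsScalarTower.of_algebraMap_eq (fun r => (G'.commutes r).symm)
  classical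
  let s : M ⧸ φ₀.range → M := Quotient.out
  have hs : ∀ c, ((s c : M) : M ⧸ φ₀.range) = c := fun c => Quotient.out_eq c
  let Θ : ((M ⧸ φ₀.range) →₀ A) →ₗ[A] A' := Finsupp.linearCombination A (fun c => bM (s c))
  let bQ : Module.Basis (Σ _ : M ⧸ φ₀.range, N) R ((M ⧸ φ₀.range) →₀ A) :=
    Finsupp.basis (fun _ => bN)
  let σ₀ : (Σ _ : M ⧸ φ₀.range, N) → M := fun i => φ₀ i.2 + s i.1
  have hσ : Function.Bijective σ₀ := by
    constructor
    · rintro ⟨c, n⟩ ⟨c', n'⟩ hcn
      have hcn' : φ₀ n + s c = φ₀ n' + s c' := hcn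
      have h1 : c = c' := by
        have := congrArg (fun m : M => (m : M ⧸ φ₀.range)) hcn'
        simp only [QuotientAddGroup.mk_add, hs] at this
        rw [(QuotientAddGroup.eq_zero_iff (φ₀ n)).mpr (AddMonoidHom.mem_range.mpr ⟨n, rfl⟩),
          (QuotientAddGroup.eq_zero_iff (φ₀ n')).mpr (AddMonoidHom.mem_range.mpr ⟨n', rfl⟩),
          zero_add, zero_add] at this
        exact this
      subst h1
      have h2 : n = n' := h (add_right_cancel hcn')
      subst h2
      rfl
    · intro m
      have hm : m - s (m : M ⧸ φ₀.range) ∈ φ₀.range := by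
        rw [← QuotientAddGroup.eq_zero_iff, QuotientAddGroup.mk_sub, hs, sub_self]
      obtain ⟨n, hn⟩ := AddMonoidHom.mem_range.mp hm
      exact ⟨⟨(m : M ⧸ φ₀.range), n⟩, by show φ₀ n + s _ = m; rw [hn, sub_add_cancel]⟩
  let σ : (Σ _ : M ⧸ φ₀.range, N) ≃ M := Equiv.ofBijective σ₀ hσ
  have hΘ : ∀ i, Θ (bQ i) = bM (σ i) := by
    rintro ⟨c, n⟩
    show Θ (bQ ⟨c, n⟩) = bM (φ₀ n + s c)
    rw [Finsupp.coe_basis]
    show Finsupp.linearCombination A (fun c => bM (s c)) (Finsupp.single c (bN n)) = _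
    rw [Finsupp.linearCombination_single, Algebra.smul_def, hbadd, ← hG]
    rfl
  have hΘ' : Θ.restrictScalars R = (bQ.equiv bM σ).toLinearMap := by
    apply bQ.ext
    intro i
    rw [LinearMap.restrictScalars_apply, hΘ]
    exact (bQ.equiv_apply i bM σ).symm
  have hbij : Function.Bijective Θ := by
    have : (Θ : _ → A') = (bQ.equiv bM σ) := by
      ext x
      exact LinearMap.congr_fun hΘ' x
    rw [this]
    exact (bQ.equiv bM σ).bijective
  exact Module.Free.of_equiv (LinearEquiv.ofBijective Θ hbij)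

end free

theorem zlFlat : IsZariskiLocalAtTarget (@Flat : MorphismProperty Scheme.{u}) :=
  HasRingHomProperty.instIsZariskiLocalAtTarget (P := @Flat) (Q := RingHom.Flat)

theorem zlS : IsZariskiLocalAtTarget (@Surjective : MorphismProperty Scheme.{u}) := inferInstance

theorem zlFS : IsZariskiLocalAtTarget (@Flat ⊓ @Surjective : MorphismProperty Scheme.{u}) :=
  @MorphismProperty.IsLocalAtTarget.inf _ _ _ _ _ zlFlat zlS

theorem sbFS : (@Flat ⊓ @Surjective : MorphismProperty Scheme.{u}).IsStableUnderBaseChange :=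
  @MorphismProperty.IsStableUnderBaseChange.inf _ _ _ _ Flat.isStableUnderBaseChange inferInstance

theorem daFS : (@Flat ⊓ @Surjective : MorphismProperty Scheme.{u}).DescendsAlong
    (@Surjective ⊓ @Flat ⊓ @QuasiCompact : MorphismProperty Scheme.{u}) :=
  @MorphismProperty.DescendsAlong.inf _ _ _ _ _
    Groth.Agent.Lib.Helper4.QuotFlat.descendsAlong_flat inferInstance

theorem chartHyp_ff : MTHom4.ChartHyp.{u} (@Flat ⊓ @Surjective : MorphismProperty Scheme.{u})
    (fun _ _ _ _ φ => Function.Injective φ) := by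
  intro B _ HM HN _ _ _ _ M N _ _ GM GN f R _ _ φ₀ hconst
  set G' : R ⊗[B] HN →ₐ[R] R ⊗[B] HM :=
    Algebra.TensorProduct.map (AlgHom.id R R) (f : HN →ₐ[B] HM) with hG'
  have hP : ∀ φ : CommRingCat.of (R ⊗[B] HN) ⟶ CommRingCat.of (R ⊗[B] HM),
      (@Flat ⊓ @Surjective : MorphismProperty Scheme.{u}) (Spec.map φ) ↔ φ.hom.FaithfullyFlat :=
    fun φ => flat_and_surjective_SpecMap_iff φ
  rw [hP]
  let g : R ⊗[B] HN →ₗ[R] R ⊗[B] HM := G'.toLinearMap
  have hg : ∀ n, g ((1 : R) ⊗ₜ[B] GN.b n) = (1 : R) ⊗ₜ[B] GM.b (φ₀ n) := by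
    intro n
    show (Algebra.TensorProduct.map (AlgHom.id R R) (f : HN →ₐ[B] HM)) ((1 : R) ⊗ₜ[B] GN.b n) = _
    rw [Algebra.TensorProduct.map_tmul]
    exact MTHom1.tmul_f_eq f GM GN R φ₀ hconst n
  refine ⟨fun h => ?_, fun hR hff => ?_⟩
  · let bR := Algebra.TensorProduct.basis R GM.b
    have hbR : ∀ m, bR m = (1 : R) ⊗ₜ[B] GM.b m := fun m =>
      Algebra.TensorProduct.basis_apply _ _
    have hbadd : ∀ m n, bR (m + n) = bR m * bR n := by
      intro m n
      rw [hbR, hbR, hbR, GM.add, Algebra.TensorProduct.tmul_mul_tmul, _root_.mul_one]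
    have hfree := free_of_injective (Algebra.TensorProduct.basis R GN.b) bR hbadd φ₀ G'
      (fun n => MTHom1.g_basis GM.b GN.b R φ₀ g hg n) h
    show (G' : R ⊗[B] HN →+* R ⊗[B] HM).FaithfullyFlat
    letI : Algebra (R ⊗[B] HN) (R ⊗[B] HM) := G'.toRingHom.toAlgebra
    show Module.FaithfullyFlat (R ⊗[B] HN) (R ⊗[B] HM)
    haveI : Module.Free (R ⊗[B] HN) (R ⊗[B] HM) := hfree
    rcases subsingleton_or_nontrivial R with hsub | hnon
    · haveI : Subsingleton (R ⊗[B] HN) := by
        refine ⟨fun a b => ?_⟩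
        rw [← one_smul R a, ← one_smul R b, Subsingleton.elim (1 : R) 0, zero_smul, zero_smul]
      refine ⟨fun m hm => ?_⟩
      exact absurd (Subsingleton.elim m ⊤) hm.ne_top
    · haveI : Nontrivial (R ⊗[B] HM) := by
        refine ⟨⟨bR 0, 0, ?_⟩⟩
        exact bR.ne_zero 0
      infer_instance
  · have hinj : Function.Injective g := RingHom.FaithfullyFlat.injective hff
    exact MTHom1.injective_of_injective GM.b GN.b R φ₀ g hg hinj


/-- Let f : H ⟶ Q be a homomorphism of S-group schemes, with H of multiplicative type (of arbitrary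
type: fpqc-locally on S, Zariski-locally isomorphic as a group to some diagonalisable group D(M))
and Q of multiplicative type and of finite type. Then the set U of points s ∈ S such that the fibre
homomorphism f_s : H_s ⟶ Q_s is faithfully flat (flat and surjective) is open and closed in S, and
the homomorphism H|_U ⟶ Q|_U induced above U is faithfully flat. (No finite-type hypothesis on H.) -/
theorem result {S : Scheme.{u}} (H Q : Over S) [GrpObj H] [GrpObj Q]
    (hH : TwC.Locally S TwC.Topology.fpqc (fun S' g => ∃ (M : Type) (_ : AddCommGroup M), Nonempty (Grp.mk (Red.bc g H) ≅ Grp.mk (Red.DS S' M))))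
    (hQ : SGA3x.IsMultTypeFT Q) (f : H ⟶ Q) [IsMonHom f] :
    ∃ U : S.Opens, IsClosed (U : Set S) ∧
      (∀ s : S, s ∈ U ↔ (Flat ((Over.pullback (S.fromSpecResidueField s)).map f).left ∧ Surjective ((Over.pullback (S.fromSpecResidueField s)).map f).left)) ∧
      (Flat ((Over.pullback U.ι).map f).left ∧ Surjective ((Over.pullback U.ι).map f).left) := by
  have hH' : MTHom5.LocTriv H (fun _ _ => True) := by
    obtain ⟨S', g, h1, h2, h3, h4⟩ := hH
    refine ⟨S', g, h1, h2, h3, fun s' => ?_⟩
    obtain ⟨U, hU, M, iM, hM⟩ := h4 s'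
    exact ⟨U, hU, M, iM, trivial, hM⟩
  haveI := zlFS.{u}
  haveI := sbFS.{u}
  haveI := daFS.{u}
  exact MTHom5.main (@Flat ⊓ @Surjective : MorphismProperty Scheme.{u}) _ f chartHyp_ff hH' hQ

end Groth.Agent.S19140
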