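import Groth.Statements.S5274
import Groth.Agent.Lib.Helper14.MTHom5

set_option autoImplicit false
open CategoryTheory MonoidalCategory CartesianMonoidalCategory MonObj GrpObj AlgebraicGeometry
universe u
open SGA3x

namespace Groth.Agent.S5274

open Groth.Agent.Lib.Helper14 TensorProduct

/-- algebra homomorphisms out of an algebra with a multiplicative basis -/
lemma exists_algHom {B H : Type u} [CommRing B] [CommRing H] [Algebra B H] {M : Type}
    [AddCommGroup M] (b : Module.Basis M B H) (hb0 : b 0 = 1)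
    (hbadd : ∀ m n, b (m + n) = b m * b n)
    (C : Type u) [CommRing C] [Algebra B C] (χ : M → C) (h0 : χ 0 = 1)
    (hadd : ∀ m n, χ (m + n) = χ m * χ n) : ∃ ψ : H →ₐ[B] C, ∀ m, ψ (b m) = χ m := by
  let f : H →ₗ[B] C := b.constr B χ
  have hf : ∀ m, f (b m) = χ m := fun m => b.constr_basis B χ m
  have hbil : (LinearMap.mul B H).compr₂ f = (LinearMap.mul B C).compl₁₂ f f := by
    apply b.ext
    intro m
    apply b.ext
    intro n
    simp only [LinearMap.compr₂_apply, LinearMap.compl₁₂_apply, LinearMap.mul_apply', ← hbadd, hf,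
      hadd]
  refine ⟨AlgHom.ofLinearMap f ?_ ?_, fun m => hf m⟩
  · rw [← hb0, hf, h0]
  · intro x y
    exact LinearMap.congr_fun (LinearMap.congr_fun hbil x) y

set_option backward.isDefEq.respectTransparency.types false in
theorem descendsAlong_mono : (MorphismProperty.monomorphisms Scheme.{u}).DescendsAlong
    (@Surjective ⊓ @Flat ⊓ @QuasiCompact : MorphismProperty Scheme.{u}) := by
  rw [← MorphismProperty.diagonal_isomorphisms]
  infer_instance

theorem chartHyp_mono : MTHom4.ChartHyp.{u} (MorphismProperty.monomorphisms Scheme.{u})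
    (fun _ _ _ _ φ => Function.Surjective φ) := by
  intro B _ HM HN _ _ _ _ M N _ _ GM GN f R _ _ φ₀ hconst
  simp only [MorphismProperty.monomorphisms.iff]
  set G' : R ⊗[B] HN →ₐ[R] R ⊗[B] HM :=
    Algebra.TensorProduct.map (AlgHom.id R R) (f : HN →ₐ[B] HM) with hG'
  let g : R ⊗[B] HN →ₗ[R] R ⊗[B] HM := G'.toLinearMap
  have hg : ∀ n, g ((1 : R) ⊗ₜ[B] GN.b n) = (1 : R) ⊗ₜ[B] GM.b (φ₀ n) := by
    intro n
    show (Algebra.TensorProduct.map (AlgHom.id R R) (f : HN →ₐ[B] HM)) ((1 : R) ⊗ₜ[B] GN.b n) = _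
    rw [Algebra.TensorProduct.map_tmul]
    exact MTHom1.tmul_f_eq f GM GN R φ₀ hconst n
  refine ⟨fun h => ?_, fun hR hmono => ?_⟩
  · have hs : Function.Surjective g := MTHom1.surjective_of_surjective' GM.b GN.b R φ₀ g hg h
    haveI : IsClosedImmersion (Spec.map (CommRingCat.ofHom (G' : R ⊗[B] HN →+* R ⊗[B] HM))) :=
      IsClosedImmersion.spec_of_surjective _ hs
    infer_instance
  · -- the two homomorphisms to the group algebra of the cokernel
    let bR := Algebra.TensorProduct.basis R GM.b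
    have hbR : ∀ m, bR m = (1 : R) ⊗ₜ[B] GM.b m := fun m =>
      Algebra.TensorProduct.basis_apply _ _
    have hb0 : bR 0 = 1 := by rw [hbR, GM.zero]; rfl
    have hbadd : ∀ m n, bR (m + n) = bR m * bR n := by
      intro m n
      rw [hbR, hbR, hbR, GM.add, Algebra.TensorProduct.tmul_mul_tmul, _root_.mul_one]
    obtain ⟨α, hα⟩ := exists_algHom bR hb0 hbadd (AddMonoidAlgebra R (M ⧸ φ₀.range))
      (fun m => AddMonoidAlgebra.single ((m : M) : M ⧸ φ₀.range) (1 : R))
      (by rw [QuotientAddGroup.mk_zero, AddMonoidAlgebra.one_def])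
      (by
        intro m n
        rw [AddMonoidAlgebra.single_mul_single, _root_.mul_one, QuotientAddGroup.mk_add])
    obtain ⟨β, hβ⟩ := exists_algHom bR hb0 hbadd (AddMonoidAlgebra R (M ⧸ φ₀.range))
      (fun _ => 1) rfl (fun _ _ => (_root_.mul_one _).symm)
    have hαβ : α.comp G' = β.comp G' := by
      apply AlgHom.toLinearMap_injective
      apply (Algebra.TensorProduct.basis R GN.b).ext
      intro n
      show α (g (Algebra.TensorProduct.basis R GN.b n)) = β (g (Algebra.TensorProduct.basis R GN.b n))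
      rw [MTHom1.g_basis GM.b GN.b R φ₀ g hg n]
      show α (bR (φ₀ n)) = β (bR (φ₀ n))
      rw [hα, hβ, (QuotientAddGroup.eq_zero_iff (φ₀ n)).mpr (AddMonoidHom.mem_range.mpr ⟨n, rfl⟩), AddMonoidAlgebra.one_def]
    have h1 : Spec.map (CommRingCat.ofHom (α : R ⊗[B] HM →+* AddMonoidAlgebra R (M ⧸ φ₀.range))) ≫
        Spec.map (CommRingCat.ofHom (G' : R ⊗[B] HN →+* R ⊗[B] HM)) =
        Spec.map (CommRingCat.ofHom (β : R ⊗[B] HM →+* AddMonoidAlgebra R (M ⧸ φ₀.range))) ≫
        Spec.map (CommRingCat.ofHom (G' : R ⊗[B] HN →+* R ⊗[B] HM)) := by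
      rw [← Spec.map_comp, ← Spec.map_comp, ← CommRingCat.ofHom_comp, ← CommRingCat.ofHom_comp]
      congr 2
      exact congrArg (fun a : R ⊗[B] HN →ₐ[R] AddMonoidAlgebra R (M ⧸ φ₀.range) =>
        (a : R ⊗[B] HN →+* AddMonoidAlgebra R (M ⧸ φ₀.range))) hαβ
    have h2 := (cancel_mono _).mp h1
    have h3 : (α : R ⊗[B] HM →+* AddMonoidAlgebra R (M ⧸ φ₀.range)) =
        (β : R ⊗[B] HM →+* AddMonoidAlgebra R (M ⧸ φ₀.range)) := by
      have := Spec.map_injective h2
      exact congrArg CommRingCat.Hom.hom this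
    intro m
    have h4 : α (bR m) = β (bR m) := RingHom.congr_fun h3 (bR m)
    rw [hα, hβ, AddMonoidAlgebra.one_def] at h4
    by_contra hm
    have hne0 : ((m : M) : M ⧸ φ₀.range) ≠ 0 := fun h =>
      hm ((QuotientAddGroup.eq_zero_iff m).mp h)
    have h5 : (Finsupp.single ((m : M) : M ⧸ φ₀.range) (1 : R)) 0 =
        (Finsupp.single (0 : M ⧸ φ₀.range) (1 : R)) 0 :=
      congrArg (fun f : AddMonoidAlgebra R (M ⧸ φ₀.range) => f.coeff 0) h4
    rw [Finsupp.single_eq_same, Finsupp.single_eq_of_ne hne0.symm] at h5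
    exact zero_ne_one h5


/-- Let u : G ⟶ H be a homomorphism of S-groups of multiplicative type and of finite type. Then the set
U of points s ∈ S such that u_s : G_s ⟶ H_s is a monomorphism is open and closed in S, and the
homomorphism G|_U ⟶ H|_U induced above U is a monomorphism. -/
theorem result {S : Scheme.{u}} (G H : Over S) [GrpObj G] [GrpObj H]
    (hG : SGA3x.IsMultTypeFT G) (hH : SGA3x.IsMultTypeFT H) (u : G ⟶ H) [IsMonHom u] :
    ∃ U : S.Opens, IsClosed (U : Set S) ∧
      (∀ s : S, s ∈ U ↔ Mono ((Over.pullback (S.fromSpecResidueField s)).map u).left) ∧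
      Mono ((Over.pullback U.ι).map u).left := by
  have hG' : MTHom5.LocTriv G (fun _ _ => True) := by
    obtain ⟨S', f, h1, h2, h3, h4⟩ := hG
    refine ⟨S', f, h1, h2, h3, fun s' => ?_⟩
    obtain ⟨U, hU, M, iM, -, hM⟩ := h4 s'
    exact ⟨U, hU, M, iM, trivial, hM⟩
  haveI := descendsAlong_mono.{u}
  exact MTHom5.main (MorphismProperty.monomorphisms Scheme.{u}) _ u chartHyp_mono hG' hH

end Groth.Agent.S5274
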