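import Groth.Statements.S4628
import Mathlib
-- import your own Groth.Agent.* helpers here

set_option autoImplicit false
open CategoryTheory AlgebraicGeometry
universe u
open FBase

namespace Groth.Agent.S4628

section H
open CategoryTheory CategoryTheory.Limits AlgebraicGeometry TensorProduct
namespace W7
set_option backward.isDefEq.respectTransparency.types false

/-- Noetherian case at ring level via Mathlib's scheme-level instance. -/
theorem isReduced_tensor_of_noetherian (k A B : Type u) [Field k] [CommRing A] [CommRing B]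
    [Algebra k A] [Algebra k B]
    [GeometricallyReduced (Spec.map (CommRingCat.ofHom (algebraMap k A)))]
    [IsReduced B] [IsNoetherianRing B] : IsReduced (A ⊗[k] B) := by
  have h1 : Flat (Spec.map (CommRingCat.ofHom (algebraMap k A))) := by
    rw [HasRingHomProperty.Spec_iff (P := @Flat), CommRingCat.hom_ofHom, RingHom.flat_algebraMap_iff]
    infer_instance
  have h2 : AlgebraicGeometry.IsReduced (Spec (CommRingCat.of B)) := inferInstance
  have h3 : IsLocallyNoetherian (Spec (CommRingCat.of B)) := inferInstance
  have h4 : AlgebraicGeometry.IsReduced (pullback (Spec.map (CommRingCat.ofHom (algebraMap k A)))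
      (Spec.map (CommRingCat.ofHom (algebraMap k B)))) := inferInstance
  have e := pullbackSpecIso k A B
  have h5 : AlgebraicGeometry.IsReduced (Spec (CommRingCat.of (A ⊗[k] B))) :=
    isReduced_of_isOpenImmersion e.inv
  exact (affine_isReduced_iff (CommRingCat.of (A ⊗[k] B))).1 h5


theorem exists_fg_subalgebra (k A B : Type u) [Field k] [CommRing A] [CommRing B]
    [Algebra k A] [Algebra k B] (z : A ⊗[k] B) :
    ∃ B₀ : Subalgebra k B, B₀.FG ∧
      z ∈ Set.range (Algebra.TensorProduct.map (AlgHom.id k A) B₀.val) := by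
  induction z using TensorProduct.induction_on with
  | zero => exact ⟨⊥, Subalgebra.fg_bot, 0, map_zero _⟩
  | tmul a b =>
    have hfg : (Algebra.adjoin k ({b} : Set B)).FG := by
      have := Subalgebra.fg_adjoin_finset (R := k) ({b} : Finset B)
      simpa using this
    refine ⟨Algebra.adjoin k {b}, hfg, ?_⟩
    refine ⟨a ⊗ₜ ⟨b, Algebra.subset_adjoin (Set.mem_singleton b)⟩, ?_⟩
    simp
  | add x y hx hy =>
    obtain ⟨B₁, h1, x₁, hx₁⟩ := hx
    obtain ⟨B₂, h2, y₂, hy₂⟩ := hy
    refine ⟨B₁ ⊔ B₂, h1.sup h2, ?_⟩
    have i1 : B₁ ≤ B₁ ⊔ B₂ := le_sup_left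
    have i2 : B₂ ≤ B₁ ⊔ B₂ := le_sup_right
    refine ⟨Algebra.TensorProduct.map (AlgHom.id k A) (Subalgebra.inclusion i1) x₁ +
      Algebra.TensorProduct.map (AlgHom.id k A) (Subalgebra.inclusion i2) y₂, ?_⟩
    rw [map_add, ← hx₁, ← hy₂]
    congr 1
    · rw [← AlgHom.comp_apply, ← Algebra.TensorProduct.map_comp]
      rfl
    · rw [← AlgHom.comp_apply, ← Algebra.TensorProduct.map_comp]
      rfl

theorem isReduced_tensor (k A B : Type u) [Field k] [CommRing A] [CommRing B]
    [Algebra k A] [Algebra k B]
    [GeometricallyReduced (Spec.map (CommRingCat.ofHom (algebraMap k A)))]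
    [IsReduced B] : IsReduced (A ⊗[k] B) := by
  constructor
  intro z hz
  obtain ⟨B₀, hfg, z₀, hz₀⟩ := exists_fg_subalgebra k A B z
  have hft : Algebra.FiniteType k B₀ := B₀.fg_iff_finiteType.1 hfg
  have hnoeth : IsNoetherianRing B₀ := Algebra.FiniteType.isNoetherianRing k B₀
  have hred : IsReduced B₀ := isReduced_of_injective B₀.val Subtype.val_injective
  have hred' : IsReduced (A ⊗[k] B₀) := isReduced_tensor_of_noetherian k A B₀
  have hinj : Function.Injective (Algebra.TensorProduct.map (AlgHom.id k A) B₀.val) := by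
    have := Module.Flat.lTensor_preserves_injective_linearMap (M := A) B₀.val.toLinearMap
      Subtype.val_injective
    exact this
  obtain ⟨n, hn⟩ := hz
  have h0 : z₀ ^ n = 0 := by
    apply hinj
    rw [map_pow, hz₀, hn, map_zero]
  have : z₀ = 0 := IsReduced.eq_zero _ ⟨n, h0⟩
  rw [← hz₀, this, map_zero]


theorem geomReduced_comp_openImmersion {U X Y : Scheme.{u}} (j : U ⟶ X) [IsOpenImmersion j]
    (f : X ⟶ Y) [GeometricallyReduced f] : GeometricallyReduced (j ≫ f) := by
  rw [geometricallyReduced_iff, geometrically_iff_of_isClosedUnderIsomorphisms]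
  intro K _ y
  have h1 : AlgebraicGeometry.IsReduced (pullback f y) :=
    pullback_of_geometrically (GeometricallyReduced.geometrically_isReduced) K y
  let e := pullbackRightPullbackFstIso f y j
  have h2 : AlgebraicGeometry.IsReduced (pullback j (pullback.fst f y)) :=
    isReduced_of_isOpenImmersion (pullback.snd j (pullback.fst f y))
  exact isReduced_of_isOpenImmersion e.inv

theorem piece (k : Type u) [Field k] {U V : Scheme.{u}} [IsAffine U] [IsAffine V]
    (a : U ⟶ Spec (CommRingCat.of k)) (b : V ⟶ Spec (CommRingCat.of k))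
    [GeometricallyReduced a] [AlgebraicGeometry.IsReduced V] :
    AlgebraicGeometry.IsReduced (pullback a b) := by
  obtain ⟨α, hα⟩ := Spec.map_surjective (U.isoSpec.inv ≫ a)
  obtain ⟨β, hβ⟩ := Spec.map_surjective (V.isoSpec.inv ≫ b)
  let A : Type u := Γ(U, ⊤)
  let B : Type u := Γ(V, ⊤)
  letI : Algebra k A := α.hom.toAlgebra
  letI : Algebra k B := β.hom.toAlgebra
  have hα' : Spec.map (CommRingCat.ofHom (algebraMap k A)) = U.isoSpec.inv ≫ a := hα
  have hβ' : Spec.map (CommRingCat.ofHom (algebraMap k B)) = V.isoSpec.inv ≫ b := hβ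
  have hg : GeometricallyReduced (Spec.map (CommRingCat.ofHom (algebraMap k A))) := by
    rw [hα']; exact geomReduced_comp_openImmersion _ _
  have hB : IsReduced B := inferInstanceAs (IsReduced Γ(V, ⊤))
  have hAB : IsReduced (A ⊗[k] B) := isReduced_tensor k A B
  have h5 : AlgebraicGeometry.IsReduced (Spec (CommRingCat.of (A ⊗[k] B))) :=
    (affine_isReduced_iff (CommRingCat.of (A ⊗[k] B))).2 hAB
  have h6 : AlgebraicGeometry.IsReduced (pullback (Spec.map (CommRingCat.ofHom (algebraMap k A)))
      (Spec.map (CommRingCat.ofHom (algebraMap k B)))) :=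
    isReduced_of_isOpenImmersion (pullbackSpecIso k A B).hom
  let m := pullback.map a b (Spec.map (CommRingCat.ofHom (algebraMap k A)))
    (Spec.map (CommRingCat.ofHom (algebraMap k B))) U.isoSpec.hom V.isoSpec.hom (𝟙 _)
    (by rw [hα', Iso.hom_inv_id_assoc, Category.comp_id])
    (by rw [hβ', Iso.hom_inv_id_assoc, Category.comp_id])
  exact isReduced_of_isOpenImmersion m

end W7


end H

open W7 in
open CategoryTheory.Limits in
/-- Let X be a scheme over a field k which is geometrically reduced (X ⊗_k K is reduced for every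
extension field K of k), and let S be any reduced scheme over k. Then the product X ×_k S is
reduced. (No Noetherian or finiteness assumption on S.) -/
theorem result {k : Type u} [Field k] {X S : Scheme.{u}}
    (f : X ⟶ Spec (CommRingCat.of k)) (g : S ⟶ Spec (CommRingCat.of k)) [GeometricallyReduced f]
    [AlgebraicGeometry.IsReduced S] : AlgebraicGeometry.IsReduced (pullback f g) := by
  let 𝒰 := Scheme.Pullback.openCoverOfLeftRight X.affineCover S.affineCover f g
  have : ∀ i, AlgebraicGeometry.IsReduced (𝒰.X i) := by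
    rintro ⟨i, j⟩
    change AlgebraicGeometry.IsReduced (pullback (X.affineCover.f i ≫ f) (S.affineCover.f j ≫ g))
    have h1 : GeometricallyReduced (X.affineCover.f i ≫ f) := geomReduced_comp_openImmersion _ _
    have h2 : AlgebraicGeometry.IsReduced (S.affineCover.X j) := inferInstance
    have h3 : IsAffine (X.affineCover.X i) := inferInstance
    have h4 : IsAffine (S.affineCover.X j) := inferInstance
    exact piece k _ _
  exact IsReduced.of_openCover _ 𝒰

end Groth.Agent.S4628
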