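import Groth.Statements.S19618
import Groth.Agent.Lib.Helper29.EffCart

set_option autoImplicit false
universe u
open CategoryTheory CategoryTheory.Limits AlgebraicGeometry Opposite TopologicalSpace
open BlowUp

namespace Groth.Agent.S19618

open Groth.Agent.Lib.Helper29.EffCart

/-- At a point of the support of an effective Cartier ideal the local ring has dimension ≥ 1. -/
lemma one_le_ringKrullDim_stalk_of_mem_support {X : Scheme.{u}} (𝓘 : X.IdealSheafData)
    (hY : BlowUp.IsEffCartierIdeal 𝓘) (y : X) (hy : y ∈ 𝓘.support) :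
    1 ≤ ringKrullDim (X.presheaf.stalk y) := by
  obtain ⟨U, hyU, t, ht, hI⟩ := hY y
  obtain ⟨q, rfl⟩ := exists_fromSpec_eq U hyU
  rw [ringKrullDim_stalk_fromSpec]
  have hle : 𝓘.ideal U ≤ q.asIdeal := (fromSpec_mem_support_iff 𝓘 U q).1 hy
  have h1 : (1 : ℕ∞) ≤ q.asIdeal.height := by
    refine (Ideal.one_le_height_span_singleton_of_mem_nonZeroDivisors ht).trans ?_
    rw [← hI]
    exact Ideal.height_mono hle
  exact_mod_cast h1

/-- Let X be a locally Noetherian scheme, Y an effective Cartier divisor on X (a quasi-coherent ideal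
sheaf which, near every point, is generated on some affine open by one nonzerodivisor; Y is its
support) and Z a closed integral subscheme (a closed immersion i from an integral scheme with
generic point ξ). If Y and Z intersect properly — every point ζ of Y ∩ Z which is maximal under
generization inside Y ∩ Z satisfies dim O_{X,ζ} = codim(Y,X) + codim(Z,X), where codim(Y,X) is the
infimum over y ∈ Y of dim O_{X,y} and codim(Z,X) = dim O_{X,i(ξ)} — then Z is not contained in Y. -/
theorem result {X Z : Scheme.{u}}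
    [IsLocallyNoetherian X] (𝓘 : X.IdealSheafData) (hY : BlowUp.IsEffCartierIdeal 𝓘)
    (i : Z ⟶ X) [IsClosedImmersion i] [IsIntegral Z]
    (hprop : ∀ ζ : ↥X, ζ ∈ (𝓘.support : Set ↥X) ∩ Set.range i.base →
        (∀ ζ' : ↥X, ζ' ∈ (𝓘.support : Set ↥X) ∩ Set.range i.base → ζ' ⤳ ζ → ζ' = ζ) →
        ringKrullDim ↑(X.presheaf.stalk ζ) =
          (⨅ y : (𝓘.support : Set ↥X), ringKrullDim ↑(X.presheaf.stalk y.1)) +
            ringKrullDim ↑(X.presheaf.stalk (i (genericPoint ↥Z)))) :
    ¬ Set.range i.base ⊆ (𝓘.support : Set ↥X) := by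
  intro hsub
  set ζ : X := i (genericPoint ↥Z) with hζ
  have hζmem : ζ ∈ (𝓘.support : Set ↥X) ∩ Set.range i.base := ⟨hsub ⟨_, rfl⟩, ⟨_, rfl⟩⟩
  have hmax : ∀ ζ' : ↥X, ζ' ∈ (𝓘.support : Set ↥X) ∩ Set.range i.base → ζ' ⤳ ζ → ζ' = ζ := by
    rintro ζ' ⟨-, z', rfl⟩ hsp
    have h1 : genericPoint ↥Z ⤳ z' := genericPoint_specializes z'
    have h2 : ζ ⤳ i z' := h1.map i.continuous
    exact (hsp.antisymm h2).eq
  have h := hprop ζ hζmem hmax
  have hc : (1 : WithBot ℕ∞) ≤ ⨅ y : (𝓘.support : Set ↥X), ringKrullDim ↑(X.presheaf.stalk y.1) :=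
    le_iInf fun y => one_le_ringKrullDim_stalk_of_mem_support 𝓘 hY y.1 y.2
  have hfin : FiniteRingKrullDim (X.presheaf.stalk ζ) := inferInstance
  obtain ⟨hnb, hnt⟩ := finiteRingKrullDim_iff_ne_bot_and_top.1 hfin
  -- d = c + d with 1 ≤ c, d finite
  generalize ringKrullDim ↑(X.presheaf.stalk ζ) = d at h hnb hnt
  generalize (⨅ y : (𝓘.support : Set ↥X), ringKrullDim ↑(X.presheaf.stalk y.1)) = c at h hc
  induction d using WithBot.recBotCoe with
  | bot => exact hnb rfl
  | coe d =>
    induction d using ENat.recTopCoe with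
    | top => exact hnt rfl
    | coe n =>
      induction c using WithBot.recBotCoe with
      | bot => simp at hc
      | coe c =>
        induction c using ENat.recTopCoe with
        | top =>
          rw [← WithBot.coe_add, WithBot.coe_inj, top_add] at h
          exact ENat.coe_ne_top n h
        | coe m =>
          have hm : 1 ≤ m := by exact_mod_cast hc
          rw [← WithBot.coe_add, WithBot.coe_inj] at h
          have : n = m + n := by exact_mod_cast h
          omega

end Groth.Agent.S19618
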