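import Groth.Statements.S9344
import Mathlib.AlgebraicGeometry.PullbackCarrier

set_option autoImplicit false
universe u
open Dom

namespace Groth.Agent.S9344

open AlgebraicGeometry CategoryTheory Limits in
theorem range_snd_of_isPullback {X S X' S' : Scheme.{u}} (f : X ⟶ S)
    (g : S' ⟶ S) (g' : X' ⟶ X) (f' : X' ⟶ S') (hsq : IsPullback g' f' f g) :
    Set.range f' = g ⁻¹' Set.range f := by
  have e : f' = hsq.isoPullback.hom ≫ pullback.snd f g := (hsq.isoPullback_hom_snd).symm
  rw [← Scheme.Pullback.range_snd, e]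
  ext y
  constructor
  · rintro ⟨a, rfl⟩
    exact ⟨hsq.isoPullback.hom a, rfl⟩
  · rintro ⟨a, rfl⟩
    refine ⟨hsq.isoPullback.inv a, ?_⟩
    simp [← Scheme.Hom.comp_apply]

open AlgebraicGeometry CategoryTheory in
/-- The base change of a dominant morphism f : X → S along an open morphism g : S' → S is dominant. -/
theorem result {X S X' S' : Scheme.{u}} (f : X ⟶ S) [IsDominant f]
    (g : S' ⟶ S) (g' : X' ⟶ X) (f' : X' ⟶ S') (hsq : IsPullback g' f' f g) (hg : IsOpenMap g.base) :
    IsDominant f' := by
  constructor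
  rw [DenseRange, range_snd_of_isPullback f g g' f' hsq]
  exact (Scheme.Hom.denseRange f).preimage hg

end Groth.Agent.S9344
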