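import Groth.Statements.S3815
import Groth.Agent.Lib.helper11.DiffOpLin

set_option autoImplicit false
universe u
open scoped TensorProduct
open scoped BigOperators
open PP16

namespace Groth.Agent.S3815

set_option linter.unusedSectionVars false

open Groth.Agent.Lib.helper11.DiffOp Diff16

section Forward

variable {A B : Type u} [CommRing A] [CommRing B] [Algebra A B]
variable {M N : Type u} [AddCommGroup M] [Module A M] [Module B M] [IsScalarTower A B M]
  [AddCommGroup N] [Module A N] [Module B N] [IsScalarTower A B N]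

/-- `b ↦ b • m` -/
noncomputable def φ (m : M) : B →ₗ[A] M :=
  ((LinearMap.lsmul B M).flip m).restrictScalars A

@[simp] lemma φ_apply (m : M) (b : B) : φ (A := A) m b = b • m := rfl

/-- `D_m : b ↦ D (b • m)` -/
noncomputable def Dm (D : M →ₗ[A] N) (m : M) : B →ₗ[A] N := D ∘ₗ φ m

@[simp] lemma Dm_apply (D : M →ₗ[A] N) (m : M) (b : B) : Dm D m b = D (b • m) := rfl

lemma Dm_add (D : M →ₗ[A] N) (m m' : M) :
    Dm (B := B) D (m + m') = Dm (B := B) D m + Dm (B := B) D m' := by
  ext b; simp [smul_add]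

lemma Dm_smul (D : M →ₗ[A] N) (a : A) (m : M) :
    Dm (B := B) D (a • m) = a • Dm (B := B) D m := by
  ext b; simp [smul_comm b a m]

lemma commutator_Dm (D : M →ₗ[A] N) (m : M) (c : B) :
    commutator A B B N (Dm D m) c = Dm (commutator A B M N D c) m := by
  ext b
  simp [mul_smul]

lemma isDiffOpLE_Dm (n : ℕ) (D : M →ₗ[A] N) (hD : IsDiffOpLE A B M N n D) (m : M) :
    IsDiffOpLE A B B N n (Dm D m) := by
  induction n generalizing D with
  | zero =>
    intro b b'
    simp only [Dm_apply, smul_eq_mul, mul_smul]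
    exact hD b (b' • m)
  | succ n ih =>
    intro c
    rw [commutator_Dm]
    exact ih _ (hD c)

/-- `Λ y m`: the value at `y ∈ B ⊗ B` (`b ⊗ b' ↦ b • D (b' • m)`) -/
noncomputable def Λ (D : M →ₗ[A] N) : B ⊗[A] B →ₗ[A] (M →ₗ[A] N) :=
  LinearMap.flip
    { toFun := fun m => linearize A B B N (Dm D m)
      map_add' := fun m m' => by
        ext b b'
        simp [Dm_add, linearize]
      map_smul' := fun a m => by
        ext b b'
        simp [Dm_smul, linearize, smul_comm b a] }

lemma Λ_apply (D : M →ₗ[A] N) (y : B ⊗[A] B) (m : M) :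
    Λ D y m = linearize A B B N (Dm D m) y := rfl

@[simp] lemma Λ_tmul (D : M →ₗ[A] N) (b b' : B) (m : M) :
    Λ D (b ⊗ₜ[A] b') m = b • D (b' • m) := rfl

lemma Λ_mul_right (D : M →ₗ[A] N) (y : B ⊗[A] B) (c : B) (m : M) :
    Λ D (y * ((1 : B) ⊗ₜ[A] c)) m = Λ D y (c • m) := by
  induction y using TensorProduct.induction_on with
  | zero => simp
  | tmul b b' => simp [Algebra.TensorProduct.tmul_mul_tmul, mul_smul]
  | add y₁ y₂ h₁ h₂ => rw [add_mul, map_add, map_add, LinearMap.add_apply, LinearMap.add_apply, h₁, h₂]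

lemma Λ_mul_left (D : M →ₗ[A] N) (y : B ⊗[A] B) (c : B) (m : M) :
    Λ D ((c ⊗ₜ[A] (1 : B)) * y) m = c • Λ D y m := by
  induction y using TensorProduct.induction_on with
  | zero => simp
  | tmul b b' => simp [Algebra.TensorProduct.tmul_mul_tmul, mul_smul]
  | add y₁ y₂ h₁ h₂ =>
    rw [mul_add, map_add, map_add, LinearMap.add_apply, LinearMap.add_apply, h₁, h₂, smul_add]

lemma Λ_vanish (n : ℕ) (D : M →ₗ[A] N) (hD : IsDiffOpLE A B M N n D)
    (y : B ⊗[A] B) (hy : y ∈ (KaehlerDifferential.ideal A B) ^ (n + 1)) : Λ D y = 0 := by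
  ext m
  rw [Λ_apply, LinearMap.zero_apply]
  exact (isDiffOpLE_iff_linearize_vanishes n (Dm D m)).mp (isDiffOpLE_Dm n D hD m) y hy

end Forward



section Construct

variable {A B : Type u} [CommRing A] [CommRing B] [Algebra A B]
variable {M N : Type u} [AddCommGroup M] [Module A M] [Module B M] [IsScalarTower A B M]
  [AddCommGroup N] [Module A N] [Module B N] [IsScalarTower A B N]
variable (n : ℕ) (D : M →ₗ[A] N) (hD : IsDiffOpLE A B M N n D)

/-- `Λ` descended to `P^n` -/
noncomputable def fP : P n A B →ₗ[A] (M →ₗ[A] N) :=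
  (Submodule.liftQ (((KaehlerDifferential.ideal A B) ^ (n + 1)).restrictScalars A) (Λ D)
    (fun y hy => Λ_vanish n D hD y hy)) ∘ₗ
  (Submodule.Quotient.restrictScalarsEquiv A ((KaehlerDifferential.ideal A B) ^ (n + 1))).symm.toLinearMap

lemma fP_mk (y : B ⊗[A] B) :
    fP n D hD (Ideal.Quotient.mk ((KaehlerDifferential.ideal A B) ^ (n + 1)) y) = Λ D y := rfl

/-- the bi-additive map `Pr × M → N` -/
noncomputable def F : Pr n A B →+ M →+ N :=
  (LinearMap.toAddMonoidHom' : (M →ₗ[A] N) →+ (M →+ N)).comp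
    (show Pr n A B →+ (M →ₗ[A] N) from (fP n D hD).toAddMonoidHom)

lemma F_mk (y : B ⊗[A] B) (m : M) :
    F n D hD (show Pr n A B from Ideal.Quotient.mk ((KaehlerDifferential.ideal A B) ^ (n + 1)) y) m =
      Λ D y m := rfl

lemma smul_Pr (b : B) (y : B ⊗[A] B) :
    b • (show Pr n A B from Ideal.Quotient.mk ((KaehlerDifferential.ideal A B) ^ (n + 1)) y) =
      (show Pr n A B from
        Ideal.Quotient.mk ((KaehlerDifferential.ideal A B) ^ (n + 1)) (y * ((1 : B) ⊗ₜ[A] b))) := by
  rw [Algebra.smul_def, mul_comm y]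
  rfl

lemma F_balanced (b : B) (x : Pr n A B) (m : M) : F n D hD (b • x) m = F n D hD x (b • m) := by
  obtain ⟨y, rfl⟩ := Ideal.Quotient.mk_surjective (I := (KaehlerDifferential.ideal A B) ^ (n + 1)) x
  rw [smul_Pr, F_mk, F_mk, Λ_mul_right]

/-- the factorisation -/
noncomputable def uD : PM n A B M →+ N :=
  TensorProduct.liftAddHom (F n D hD) (F_balanced n D hD)

lemma uD_tmul (x : Pr n A B) (m : M) : uD n D hD (x ⊗ₜ[B] m) = F n D hD x m := rfl

end Construct



section Props

variable {A B : Type u} [CommRing A] [CommRing B] [Algebra A B]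
variable {M N : Type u} [AddCommGroup M] [Module A M] [Module B M] [IsScalarTower A B M]
  [AddCommGroup N] [Module A N] [Module B N] [IsScalarTower A B N]
variable (n : ℕ) (D : M →ₗ[A] N) (hD : IsDiffOpLE A B M N n D)

/-- coercion `P → Pr` -/
abbrev toPr (x : P n A B) : Pr n A B := x

lemma dM_eq (m : M) : dM n A B M m = toPr n (1 : P n A B) ⊗ₜ[B] m := rfl

lemma smul_tmul_P (x y : P n A B) (m : M) :
    x • (toPr n y ⊗ₜ[B] m) = toPr n (x * y) ⊗ₜ[B] m := by
  rw [TensorProduct.smul_tmul']
  rfl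

lemma tmul_smul_P (x : P n A B) (b : B) (m : M) :
    toPr n x ⊗ₜ[B] (b • m) = toPr n (dn n A B b * x) ⊗ₜ[B] m := by
  rw [← TensorProduct.smul_tmul, Algebra.smul_def]
  rfl

lemma uD_dM (m : M) : uD n D hD (dM n A B M m) = D m := by
  rw [dM_eq, uD_tmul]
  have : toPr n (1 : P n A B) =
      (show Pr n A B from Ideal.Quotient.mk ((KaehlerDifferential.ideal A B) ^ (n + 1))
        ((1 : B) ⊗ₜ[A] (1 : B))) := by
    rw [← Algebra.TensorProduct.one_def]
    rfl
  rw [this, F_mk, Λ_tmul, one_smul, one_smul]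

lemma algebraMap_P (b : B) : algebraMap B (P n A B) b =
    Ideal.Quotient.mk ((KaehlerDifferential.ideal A B) ^ (n + 1)) (b ⊗ₜ[A] (1 : B)) := rfl

lemma uD_smul (b : B) (t : PM n A B M) :
    uD n D hD (algebraMap B (P n A B) b • t) = b • uD n D hD t := by
  induction t using TensorProduct.induction_on with
  | zero => simp
  | tmul x m =>
    obtain ⟨y, rfl⟩ := Ideal.Quotient.mk_surjective (I := (KaehlerDifferential.ideal A B) ^ (n + 1)) x
    rw [show (Ideal.Quotient.mk ((KaehlerDifferential.ideal A B) ^ (n + 1)) y ⊗ₜ[B] m : PM n A B M) =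
      toPr n (Ideal.Quotient.mk _ y) ⊗ₜ[B] m from rfl, smul_tmul_P, algebraMap_P, ← map_mul,
      uD_tmul, uD_tmul]
    exact Λ_mul_left D y b m
  | add t₁ t₂ h₁ h₂ => rw [smul_add, map_add, map_add, h₁, h₂, smul_add]

lemma mk_tmul_eq (b b' : B) (m : M) :
    (toPr n (Ideal.Quotient.mk ((KaehlerDifferential.ideal A B) ^ (n + 1)) (b ⊗ₜ[A] b')) ⊗ₜ[B] m :
      PM n A B M) = algebraMap B (P n A B) b • dM n A B M (b' • m) := by
  rw [dM_eq, tmul_smul_P, smul_tmul_P, algebraMap_P]
  congr 1
  change toPr n (Ideal.Quotient.mk _ (b ⊗ₜ[A] b')) =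
    toPr n (Ideal.Quotient.mk _ (b ⊗ₜ[A] (1 : B)) * (Ideal.Quotient.mk _ ((1 : B) ⊗ₜ[A] b') * 1))
  rw [mul_one, ← map_mul, Algebra.TensorProduct.tmul_mul_tmul, mul_one, one_mul]

lemma unique_u (u : PM n A B M →+ N)
    (h1 : ∀ (b : B) (t : PM n A B M), u (algebraMap B (P n A B) b • t) = b • u t)
    (h2 : ∀ m : M, u (dM n A B M m) = D m) (y : B ⊗[A] B) (m : M) :
    u (toPr n (Ideal.Quotient.mk ((KaehlerDifferential.ideal A B) ^ (n + 1)) y) ⊗ₜ[B] m) = Λ D y m := by
  induction y using TensorProduct.induction_on with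
  | zero =>
    rw [map_zero, map_zero, LinearMap.zero_apply]
    change u ((0 : Pr n A B) ⊗ₜ[B] m) = 0
    rw [TensorProduct.zero_tmul, map_zero]
  | tmul b b' => rw [mk_tmul_eq, h1, h2, Λ_tmul]
  | add y₁ y₂ hy₁ hy₂ =>
    have : (toPr n (Ideal.Quotient.mk ((KaehlerDifferential.ideal A B) ^ (n + 1)) (y₁ + y₂)) ⊗ₜ[B] m :
        PM n A B M) =
        toPr n (Ideal.Quotient.mk ((KaehlerDifferential.ideal A B) ^ (n + 1)) y₁) ⊗ₜ[B] m +
          toPr n (Ideal.Quotient.mk ((KaehlerDifferential.ideal A B) ^ (n + 1)) y₂) ⊗ₜ[B] m := by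
      rw [map_add]
      exact TensorProduct.add_tmul (R := B)
        (toPr n (Ideal.Quotient.mk ((KaehlerDifferential.ideal A B) ^ (n + 1)) y₁))
        (toPr n (Ideal.Quotient.mk ((KaehlerDifferential.ideal A B) ^ (n + 1)) y₂)) m
    rw [this, map_add, hy₁, hy₂, map_add, LinearMap.add_apply]

end Props



section Converse

variable {A B : Type u} [CommRing A] [CommRing B] [Algebra A B]
variable {M N : Type u} [AddCommGroup M] [Module A M] [Module B M] [IsScalarTower A B M]
  [AddCommGroup N] [Module A N] [Module B N] [IsScalarTower A B N]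
variable (n : ℕ)

/-- image of `I^j` in `P^n` -/
noncomputable def Fil (j : ℕ) : Ideal (P n A B) :=
  ((KaehlerDifferential.ideal A B) ^ j).map
    (Ideal.Quotient.mk ((KaehlerDifferential.ideal A B) ^ (n + 1)))

/-- `d^n b - b` -/
noncomputable def gen' (b : B) : P n A B := dn n A B b - algebraMap B (P n A B) b

lemma gen'_mul_mem (b : B) (j : ℕ) (x : P n A B) (hx : x ∈ Fil (A := A) (B := B) n j) :
    gen' n b * x ∈ Fil (A := A) (B := B) n (j + 1) := by
  have h1 : gen' (A := A) n b ∈ Fil (A := A) (B := B) n 1 := by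
    rw [Fil, pow_one]
    have : gen' (A := A) n b = Ideal.Quotient.mk ((KaehlerDifferential.ideal A B) ^ (n + 1))
        ((1 : B) ⊗ₜ[A] b - b ⊗ₜ[A] (1 : B)) := by
      rw [map_sub]; rfl
    rw [this]
    exact Ideal.mem_map_of_mem _ (KaehlerDifferential.one_smul_sub_smul_one_mem_ideal A b)
  have := Ideal.mul_mem_mul h1 hx
  rw [Fil, Fil, ← Ideal.map_mul, pow_one, ← pow_succ'] at this
  exact this

lemma Fil_top_eq_bot : Fil (A := A) (B := B) n (n + 1) = ⊥ := by
  rw [Fil, Ideal.map_quotient_self]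

lemma one_mem_Fil_zero : (1 : P n A B) ∈ Fil (A := A) (B := B) n 0 := by
  rw [Fil, pow_zero, Ideal.one_eq_top, Ideal.map_top]
  exact Submodule.mem_top

variable (u : PM n A B M →+ N)
    (h1 : ∀ (b : B) (t : PM n A B M), u (algebraMap B (P n A B) b • t) = b • u t)

include h1 in
lemma comm_formula (x : P n A B) (b : B) (m : M) :
    u (toPr n x ⊗ₜ[B] (b • m)) - b • u (toPr n x ⊗ₜ[B] m) = u (toPr n (gen' n b * x) ⊗ₜ[B] m) := by
  rw [tmul_smul_P, ← h1, smul_tmul_P, ← map_sub]
  congr 1
  have : toPr n (gen' n b * x) = toPr n (dn n A B b * x) - toPr n (algebraMap B (P n A B) b * x) := by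
    change gen' n b * x = dn n A B b * x - algebraMap B (P n A B) b * x
    rw [gen', sub_mul]
  rw [this]
  exact (TensorProduct.sub_tmul (R := B) _ _ m).symm

include h1 in
lemma DO_of_u : ∀ (k j : ℕ), j + k = n → ∀ (x : P n A B), x ∈ Fil (A := A) (B := B) n j →
    ∀ E : M →ₗ[A] N, (∀ m, E m = u (toPr n x ⊗ₜ[B] m)) → IsDiffOpLE A B M N k E := by
  intro k
  induction k with
  | zero =>
    intro j hj x hx E hE b m
    have hj' : j = n := by omega
    have h0 : gen' n b * x = 0 := by
      have := gen'_mul_mem (A := A) n b j x hx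
      rw [hj', Fil_top_eq_bot] at this
      exact this
    have := comm_formula n u h1 x b m
    rw [h0] at this
    have hz : (toPr n (0 : P n A B) ⊗ₜ[B] m : PM n A B M) = 0 := TensorProduct.zero_tmul _ m
    rw [hz, map_zero, sub_eq_zero] at this
    rw [hE, hE, this]
  | succ k ih =>
    intro j hj x hx E hE b
    apply ih (j + 1) (by omega) (gen' n b * x) (gen'_mul_mem n b j x hx)
    intro m
    rw [commutator_apply, hE, hE]
    exact comm_formula n u h1 x b m

end Converse

/-- Let B be an A-algebra, M and N two B-modules and D : M → N an A-linear map. Let P^n(M) = P^n_{B/A}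
⊗_B M, the tensor product formed with the B-module structure of P^n_{B/A} through d^n, regarded as a
B-module through the first factor of P^n_{B/A}, with d^n_M : M → P^n(M), m ↦ 1 ⊗ m. Then D is a
differential operator of order at most n relative to A (order defined through iterated commutators
with multiplication by elements of B) if and only if there is exactly one additive map u : P^n(M) →
N which is B-linear for the first-factor structure and satisfies u(1 ⊗ m) = D(m) for all m ∈ M. -/
theorem result (n : ℕ) (A B : Type u) [CommRing A] [CommRing B] [Algebra A B]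
    (M N : Type u) [AddCommGroup M] [Module A M] [Module B M] [IsScalarTower A B M]
    [AddCommGroup N] [Module A N] [Module B N] [IsScalarTower A B N] (D : M →ₗ[A] N) :
    Diff16.IsDiffOpLE A B M N n D ↔
      ∃! u : PP16.PM n A B M →+ N,
        (∀ (b : B) (t : PP16.PM n A B M), u (algebraMap B (PP16.P n A B) b • t) = b • u t) ∧
          ∀ m : M, u (PP16.dM n A B M m) = D m := by
  constructor
  · intro hD
    refine ⟨uD n D hD, ⟨uD_smul n D hD, uD_dM n D hD⟩, ?_⟩
    rintro u ⟨h1, h2⟩
    ext t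
    induction t using TensorProduct.induction_on with
    | zero => simp
    | tmul x m =>
      obtain ⟨y, rfl⟩ := Ideal.Quotient.mk_surjective (I := (KaehlerDifferential.ideal A B) ^ (n + 1)) x
      have e1 := unique_u n D u h1 h2 y m
      have e2 := unique_u n D (uD n D hD) (uD_smul n D hD) (uD_dM n D hD) y m
      exact e1.trans e2.symm
    | add t₁ t₂ h₁ h₂ => rw [map_add, map_add, h₁, h₂]
  · rintro ⟨u, ⟨h1, h2⟩, -⟩
    exact DO_of_u n u h1 n 0 (by omega) 1 (one_mem_Fil_zero n) D (fun m => by rw [← h2 m, dM_eq])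

end Groth.Agent.S3815
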