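import Groth.Statements.S0100
-- import your own Groth.Agent.* helpers here
import Groth.Agent.Lib.Helper23.PointIso

set_option autoImplicit false
open CategoryTheory CategoryTheory.Limits AlgebraicGeometry Opposite
universe u
open EtBase

namespace Groth.Agent.S0100

open CategoryTheory AlgebraicGeometry Opposite Limits GrothendieckTopology

noncomputable def fiberIso {X Y : Scheme.{u}} (f : X ⟶ Y) {Ω : Type u} [Field Ω] [IsSepClosed Ω]
    (ξ : Spec (CommRingCat.of Ω) ⟶ X) :
    EtCoh.bc f ⋙ (Scheme.pointSmallEtale ξ).fiber ≅ (Scheme.pointSmallEtale (ξ ≫ f)).fiber :=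
  (Functor.associator _ _ _).symm ≪≫
  Functor.isoWhiskerRight
    (MorphismProperty.Over.pullbackCompForgetIso (P := EtCoh.etaleMP) (Q := ⊤) f) _ ≪≫
  Functor.associator _ _ _ ≪≫
  Functor.isoWhiskerLeft (Scheme.Etale.forget Y)
    (((Over.mapPullbackAdj f).compCoyonedaIso).app (op (Over.mk ξ))).symm


/-- Let f : X ⟶ Y be a morphism of schemes, G an abelian sheaf on the small étale site of Y and ξ : Spec
Ω ⟶ X a geometric point of X (Ω a separably closed field). Then the stalk of the inverse image f⁻¹G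
at ξ is isomorphic to the stalk of G at the image geometric point ξ ≫ f of Y. Only the existence of
an isomorphism is asserted; the published identification is canonical. -/
theorem result {X Y : Scheme.{u}} (f : X ⟶ Y) [EtCoh.BCCont f] (G : EtCoh.Ab Y)
    {Ω : Type u} [Field Ω] [IsSepClosed Ω] (ξ : Spec (CommRingCat.of Ω) ⟶ X) :
    Nonempty ((EtCoh.stalk ξ).obj ((EtCoh.pull f).obj G) ≅ (EtCoh.stalk (ξ ≫ f)).obj G) := by
  let Φ := Scheme.pointSmallEtale ξ
  haveI : InitiallySmall.{u} (EtCoh.bc f ⋙ Φ.fiber).Elements :=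
    Groth.Agent.Lib.Helper23.PointIso.initiallySmall_elements_of_iso (fiberIso f ξ)
  have hF := EtCoh.coverPreserving_bc f
  let e1 := Φ.sheafFiberComapIso (EtCoh.bc f) hF AddCommGrpCat.{u+1}
  let e2 : (Φ.comap (EtCoh.bc f) hF).sheafFiber (A := AddCommGrpCat.{u+1}) ≅
      (Scheme.pointSmallEtale (ξ ≫ f)).sheafFiber :=
    Groth.Agent.Lib.Helper23.PointIso.sheafFiberIsoOfFiberIso (fiberIso f ξ)
  exact ⟨(e1.app G).symm ≪≫ e2.app G⟩


end Groth.Agent.S0100
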