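import Groth.Statements.S0622
-- import your own Groth.Agent.* helpers here
import Groth.Agent.Lib.Helper23.PointStalk
import Mathlib.CategoryTheory.Sites.EpiMono
import Mathlib.Algebra.Homology.ShortComplex.ExactFunctor

set_option autoImplicit false
open CategoryTheory CategoryTheory.Limits AlgebraicGeometry Opposite
universe u
open EtCore

namespace Groth.Agent.S0622

open CategoryTheory Limits Opposite AlgebraicGeometry

instance i1 : PreservesFilteredColimitsOfSize.{u,u} (forget AddCommGrpCat.{u+1}) :=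
  preservesFilteredColimitsOfSize_shrink.{u, u+1, u, u+1} _

instance i2 : AB5OfSize.{u,u} AddCommGrpCat.{u+1} :=
  AB5OfSize_shrink.{u, u, u+1, u+1} AddCommGrpCat.{u+1}

instance i3 {X : Scheme.{u}} {Ω : Type u} [Field Ω] [IsSepClosed Ω]
    (ξ : Spec (CommRingCat.of Ω) ⟶ X) : (EtCoh.stalk ξ).Additive :=
  Functor.additive_of_preserves_binary_products _

lemma key (X : Scheme.{u}) (Φ : (ObjectProperty.ofObj (fun (s : X) ↦ Scheme.pointSmallEtale
      ((Scheme.SpecToEquivOfField (SeparableClosure (X.residueField s)) _).2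
        ⟨s, CommRingCat.ofHom (algebraMap (X.residueField s) _)⟩))).FullSubcategory) :
      ∃ (Ω : Type u) (_ : Field Ω) (_ : IsSepClosed Ω) (ξ : Spec (CommRingCat.of Ω) ⟶ X),
        Φ.obj = Scheme.pointSmallEtale ξ := by
  obtain ⟨Φ, ⟨s⟩⟩ := Φ
  exact ⟨SeparableClosure (X.residueField s), inferInstance, inferInstance, _, rfl⟩

lemma hmono {X : Scheme.{u}} {F G : EtCoh.Ab X} (a : F ⟶ G) :
    Mono a ↔ ∀ (Ω : Type u) [Field Ω] [IsSepClosed Ω] (ξ : Spec (CommRingCat.of Ω) ⟶ X),
      Function.Injective ((EtCoh.stalk ξ).map a) := by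
  have hP := Scheme.isConservativeFamilyOfPoints_pointSmallEtale' X
  refine ⟨fun hv Ω _ _ ξ => ?_, fun h => ?_⟩
  · have h1 : Mono a.hom := inferInstanceAs (Mono ((sheafToPresheaf _ _).map a))
    have h2 : ∀ U, Function.Injective (a.hom.app U) := fun U =>
      (AddCommGrpCat.mono_iff_injective _).1 inferInstance
    have := Presheaf.isLocallyInjective_of_injective X.smallEtaleTopology a.hom h2
    exact (Scheme.pointSmallEtale ξ).toPresheafFiber_map_injective a.hom
  · have : Presheaf.IsLocallyInjective X.smallEtaleTopology a.hom :=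
      Groth.Agent.Lib.Helper23.PointStalk.isLocallyInjective_of_fibers hP a.hom (fun Φ => by
        obtain ⟨Ω, _, _, ξ, hΦ⟩ := key X Φ
        rw [hΦ]
        exact h Ω ξ)
    exact Sheaf.mono_of_isLocallyInjective a

lemma hepi {X : Scheme.{u}} {F G : EtCoh.Ab X} (a : F ⟶ G) :
    Epi a ↔ ∀ (Ω : Type u) [Field Ω] [IsSepClosed Ω] (ξ : Spec (CommRingCat.of Ω) ⟶ X),
      Function.Surjective ((EtCoh.stalk ξ).map a) := by
  have hP := Scheme.isConservativeFamilyOfPoints_pointSmallEtale' X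
  refine ⟨fun hv Ω _ _ ξ => ?_, fun h => ?_⟩
  · have : Sheaf.IsLocallySurjective a := (Sheaf.isLocallySurjective_iff_epi' AddCommGrpCat.{u+1} a).2 hv
    exact (Scheme.pointSmallEtale ξ).toPresheafFiber_map_surjective a.hom
  · have : Presheaf.IsLocallySurjective X.smallEtaleTopology a.hom :=
      Groth.Agent.Lib.Helper23.PointStalk.isLocallySurjective_of_fibers hP a.hom (fun Φ => by
        obtain ⟨Ω, _, _, ξ, hΦ⟩ := key X Φ
        rw [hΦ]
        exact h Ω ξ)
    exact (Sheaf.isLocallySurjective_iff_epi' AddCommGrpCat.{u+1} a).1 this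

lemma isZero_of_stalks {X : Scheme.{u}} (Z : EtCoh.Ab X)
    (h : ∀ (Ω : Type u) [Field Ω] [IsSepClosed Ω] (ξ : Spec (CommRingCat.of Ω) ⟶ X),
      IsZero ((EtCoh.stalk ξ).obj Z)) : IsZero Z := by
  have : Epi (0 : Z ⟶ Z) := by
    rw [hepi]
    intro Ω _ _ ξ b
    have := AddCommGrpCat.subsingleton_of_isZero (h Ω ξ)
    exact ⟨0, Subsingleton.elim _ _⟩
  exact IsZero.of_epi_eq_zero (0 : Z ⟶ Z) rfl


/-- Exactness of a three-term complex of abelian etale sheaves can be tested on stalks at all geometric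
points; likewise a morphism of abelian etale sheaves is a monomorphism, respectively an epimorphism,
exactly when every geometric stalk map is injective, respectively surjective. -/
theorem result {X : Scheme.{u}} (S : ShortComplex (EtCoh.Ab X)) {F G : EtCoh.Ab X} (a : F ⟶ G) :
    (S.Exact ↔ ∀ (Ω : Type u) [Field Ω] [IsSepClosed Ω] (ξ : Spec (CommRingCat.of Ω) ⟶ X),
      (S.map (EtCoh.stalk ξ)).Exact) ∧
    (Mono a ↔ ∀ (Ω : Type u) [Field Ω] [IsSepClosed Ω] (ξ : Spec (CommRingCat.of Ω) ⟶ X),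
      Function.Injective ((EtCoh.stalk ξ).map a)) ∧
    (Epi a ↔ ∀ (Ω : Type u) [Field Ω] [IsSepClosed Ω] (ξ : Spec (CommRingCat.of Ω) ⟶ X),
      Function.Surjective ((EtCoh.stalk ξ).map a)) := by
  refine ⟨⟨fun hS Ω _ _ ξ => hS.map (EtCoh.stalk ξ), fun h => ?_⟩, hmono a, hepi a⟩
  rw [ShortComplex.exact_iff_isZero_homology]
  apply isZero_of_stalks
  intro Ω _ _ ξ
  have := (h Ω ξ)
  rw [ShortComplex.exact_iff_isZero_homology] at this
  exact this.of_iso (S.mapHomologyIso (EtCoh.stalk ξ)).symm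


end Groth.Agent.S0622
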