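import Groth.Statements.S0101
-- import your own Groth.Agent.* helpers here
import Groth.Agent.S0100
import Groth.Agent.S0622

set_option autoImplicit false
open CategoryTheory CategoryTheory.Limits AlgebraicGeometry Opposite
universe u
open EtBase

namespace Groth.Agent.S0101

open CategoryTheory AlgebraicGeometry Opposite Limits GrothendieckTopology
open Groth.Agent.S0622

instance pull_additive {X Y : Scheme.{u}} (f : X ⟶ Y) : (EtCoh.pull f).Additive :=
  (EtCoh.pullPushAdj f).left_adjoint_additive

set_option backward.isDefEq.respectTransparency.types false in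
set_option backward.isDefEq.respectTransparency false in
/-- `pull f ⋙ stalk ξ` is the fibre functor of a point, hence exact. -/
lemma stalk_pull_exact {X Y : Scheme.{u}} (f : X ⟶ Y) {Ω : Type u} [Field Ω] [IsSepClosed Ω]
    (ξ : Spec (CommRingCat.of Ω) ⟶ X) (S : ShortComplex (EtCoh.Ab Y)) (hS : S.ShortExact) :
    ((S.map (EtCoh.pull f)).map (EtCoh.stalk ξ)).Exact ∧
      Function.Injective ((EtCoh.stalk ξ).map ((EtCoh.pull f).map S.f)) := by
  let Φ := Scheme.pointSmallEtale ξ
  haveI : InitiallySmall.{u} (EtCoh.bc f ⋙ Φ.fiber).Elements :=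
    Groth.Agent.Lib.Helper23.PointIso.initiallySmall_elements_of_iso (Groth.Agent.S0100.fiberIso f ξ)
  have hF := EtCoh.coverPreserving_bc f
  let Φ' := Φ.comap (EtCoh.bc f) hF
  let e1 : Φ'.sheafFiber ≅ EtCoh.pull f ⋙ EtCoh.stalk ξ :=
    Φ.sheafFiberComapIso (EtCoh.bc f) hF AddCommGrpCat.{u+1}
  haveI : (Φ'.sheafFiber (A := AddCommGrpCat.{u+1})).Additive :=
    Functor.additive_of_preserves_binary_products _
  have h1 : (S.map (Φ'.sheafFiber (A := AddCommGrpCat.{u+1}))).ShortExact := hS.map_of_exact _
  constructor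
  · have e : S.map (Φ'.sheafFiber (A := AddCommGrpCat.{u+1})) ≅
        (S.map (EtCoh.pull f)).map (EtCoh.stalk ξ) :=
      S.mapNatIso e1
    exact (ShortComplex.exact_iff_of_iso e).1 h1.exact
  · have hm : Mono ((Φ'.sheafFiber (A := AddCommGrpCat.{u+1})).map S.f) := h1.mono_f
    have hm2 : Mono ((EtCoh.pull f ⋙ EtCoh.stalk ξ).map S.f) := by
      have := NatIso.naturality_2 e1.symm S.f
      rw [← this]
      infer_instance
    exact (AddCommGrpCat.mono_iff_injective _).1 hm2


/-- Part (1) — pullback of abelian étale sheaves along a morphism of schemes is exact (it is a left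
adjoint and preserves finite limits). -/
theorem result {X Y : Scheme.{u}} (f : X ⟶ Y) [EtCoh.BCCont f] :
    PreservesFiniteLimits (EtCoh.pull f) := by
  rw [Functor.preservesFiniteLimits_iff_forall_exact_map_and_mono]
  intro S hS
  constructor
  · exact ((Groth.Agent.S0622.result (S.map (EtCoh.pull f)) ((EtCoh.pull f).map S.f)).1).2
      (fun Ω _ _ ξ => (stalk_pull_exact f ξ S hS).1)
  · exact (Groth.Agent.S0622.hmono _).2 (fun Ω _ _ ξ => (stalk_pull_exact f ξ S hS).2)

end Groth.Agent.S0101
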