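import Groth.Statements.S5275
import Groth.Agent.Lib.Helper14.MTHom5

set_option autoImplicit false
open CategoryTheory MonoidalCategory CartesianMonoidalCategory MonObj GrpObj AlgebraicGeometry
universe u
open SGA3x

namespace Groth.Agent.S5275

open Groth.Agent.Lib.Helper14 TensorProduct

theorem chartHyp_iso : MTHom4.ChartHyp.{u} (MorphismProperty.isomorphisms Scheme.{u})
    (fun _ _ _ _ φ => Function.Bijective φ) := by
  intro B _ HM HN _ _ _ _ M N _ _ GM GN f R _ _ φ₀ hconst
  simp only [MorphismProperty.isomorphisms.iff]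
  rw [MTHom3.isIso_specMap_iff]
  let g : R ⊗[B] HN →ₗ[R] R ⊗[B] HM :=
    (Algebra.TensorProduct.map (AlgHom.id R R) (f : HN →ₐ[B] HM)).toLinearMap
  have hg : ∀ n, g ((1 : R) ⊗ₜ[B] GN.b n) = (1 : R) ⊗ₜ[B] GM.b (φ₀ n) := by
    intro n
    show (Algebra.TensorProduct.map (AlgHom.id R R) (f : HN →ₐ[B] HM)) ((1 : R) ⊗ₜ[B] GN.b n) = _
    rw [Algebra.TensorProduct.map_tmul]
    exact MTHom1.tmul_f_eq f GM GN R φ₀ hconst n
  refine ⟨fun h => MTHom1.bijective_of_bijective GM.b GN.b R φ₀ g hg h, fun hR h => ⟨?_, ?_⟩⟩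
  · exact MTHom1.injective_of_injective GM.b GN.b R φ₀ g hg h.1
  · exact MTHom1.surjective_of_surjective GM.b GN.b R φ₀ g hg h.2


/-- Let u : G ⟶ H be a homomorphism of S-groups of multiplicative type and of finite type. Then the set
U of points s ∈ S such that u_s : G_s ⟶ H_s is an isomorphism is open and closed in S, and the
homomorphism G|_U ⟶ H|_U induced above U is an isomorphism. -/
theorem result {S : Scheme.{u}} (G H : Over S) [GrpObj G] [GrpObj H]
    (hG : SGA3x.IsMultTypeFT G) (hH : SGA3x.IsMultTypeFT H) (u : G ⟶ H) [IsMonHom u] :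
    ∃ U : S.Opens, IsClosed (U : Set S) ∧
      (∀ s : S, s ∈ U ↔ IsIso ((Over.pullback (S.fromSpecResidueField s)).map u).left) ∧
      IsIso ((Over.pullback U.ι).map u).left := by
  have hG' : MTHom5.LocTriv G (fun _ _ => True) := by
    obtain ⟨S', f, h1, h2, h3, h4⟩ := hG
    refine ⟨S', f, h1, h2, h3, fun s' => ?_⟩
    obtain ⟨U, hU, M, iM, -, hM⟩ := h4 s'
    exact ⟨U, hU, M, iM, trivial, hM⟩
  exact MTHom5.main (MorphismProperty.isomorphisms Scheme.{u}) _ u chartHyp_iso hG' hH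

end Groth.Agent.S5275
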