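import Groth.Statements.S16611
import Groth.Agent.Lib.Helper14.MTHom6
import Groth.Agent.S5275
import Groth.Agent.S5274

set_option autoImplicit false
open CategoryTheory MonoidalCategory CartesianMonoidalCategory MonObj GrpObj AlgebraicGeometry
universe u
open SGA3x

namespace Groth.Agent.S16611

open Groth.Agent.Lib.Helper14 CategoryTheory.Limits

lemma fg_fin (r : ℕ) : AddGroup.FG (Fin r → ℤ) :=
  Module.Finite.iff_addGroup_fg.mp inferInstance

lemma locTriv_of_isTorus {S : Scheme.{u}} (T : Over S) [GrpObj T] (hT : Red.IsTorus T) :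
    MTHom5.LocTriv T (fun N _ => AddGroup.FG N) := by
  obtain ⟨S', f, h1, h2, h3, h4⟩ := hT
  refine ⟨S', f, h1, h2, h3, fun s' => ?_⟩
  obtain ⟨U, hU, r, hM⟩ := h4 s'
  exact ⟨U, hU, Fin r → ℤ, inferInstance, fg_fin r, hM⟩

lemma locTriv_true {S : Scheme.{u}} (T : Over S) [GrpObj T]
    (hT : MTHom5.LocTriv T (fun N _ => AddGroup.FG N)) :
    MTHom5.LocTriv T (fun _ _ => True) := by
  obtain ⟨S', f, h1, h2, h3, h4⟩ := hT
  refine ⟨S', f, h1, h2, h3, fun s' => ?_⟩
  obtain ⟨U, hU, M, iM, -, hM⟩ := h4 s'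
  exact ⟨U, hU, M, iM, trivial, hM⟩


/-- Over an arbitrary scheme S, a monomorphism f : T ⟶ T' of S-tori with the same rank function (at
every point of S the geometric fibres of T and T' are split tori of the same rank) is an
isomorphism. -/
theorem result {S : Scheme.{u}} {T T' : Over S} [GrpObj T] [GrpObj T']
    (hT : Red.IsTorus T) (hT' : Red.IsTorus T') (f : T ⟶ T') [IsMonHom f] [Mono f]
    (hrk : ∀ s : ↥S, ∃ r : ℕ, Red.IsSplitTorusWith (Fin r → ℤ) (Red.geomFibre s T) ∧
      Red.IsSplitTorusWith (Fin r → ℤ) (Red.geomFibre s T')) : IsIso f := by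
  obtain ⟨U, -, hUiff, hUiso⟩ := MTHom5.main (MorphismProperty.isomorphisms Scheme.{u}) _ f
    Groth.Agent.S5275.chartHyp_iso (locTriv_true T (locTriv_of_isTorus T hT))
    (locTriv_of_isTorus T' hT')
  haveI hmono : Mono f.left := inferInstance
  have hall : ∀ s : S, s ∈ U := by
    intro s
    rw [hUiff]
    obtain ⟨r, ⟨e₁⟩, ⟨e₂⟩⟩ := hrk s
    obtain ⟨e₁', he₁'⟩ := MTDescent.exists_iso_of_grp_iso e₁
    obtain ⟨e₂', he₂'⟩ := MTDescent.exists_iso_of_grp_iso e₂
    obtain ⟨φ₀, hφ1, hφ2⟩ := MTHom6.chart_field (MorphismProperty.monomorphisms Scheme.{u})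
      (MorphismProperty.isomorphisms Scheme.{u}) _ _ f Groth.Agent.S5274.chartHyp_mono
      Groth.Agent.S5275.chartHyp_iso (AlgebraicClosure (S.residueField s)) (Red.geomPt s)
      (Fin r → ℤ) (Fin r → ℤ) e₁' e₂'
    have hm : (MorphismProperty.monomorphisms Scheme.{u})
        ((Over.pullback (Red.geomPt s)).map f).left :=
      MTHom4.map_of_map (MorphismProperty.monomorphisms Scheme.{u}) f (Red.geomPt s)
        ((MorphismProperty.monomorphisms.iff _).mpr hmono)
    have hsurj : Function.Surjective φ₀ := hφ1.mp hm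
    have hinj : Function.Injective φ₀ :=
      OrzechProperty.injective_of_surjective_endomorphism φ₀.toIntLinearMap hsurj
    have hiso := hφ2.mpr ⟨hinj, hsurj⟩
    rw [MorphismProperty.isomorphisms.iff] at hiso
    haveI hfs : Flat (Spec.map (CommRingCat.ofHom (algebraMap (S.residueField s)
        (AlgebraicClosure (S.residueField s))))) ∧
        Surjective (Spec.map (CommRingCat.ofHom (algebraMap (S.residueField s)
        (AlgebraicClosure (S.residueField s))))) := by
      rw [flat_and_surjective_SpecMap_iff]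
      exact (RingHom.faithfullyFlat_algebraMap_iff).mpr inferInstance
    haveI := hfs.1
    haveI := hfs.2
    exact (MTHom3.isIso_comp_iff f _ (S.fromSpecResidueField s)).mp hiso
  have hU : U = ⊤ := by
    ext s
    simp [hall s]
  subst hU
  haveI : IsIso (⊤ : S.Opens).ι := by
    rw [← Scheme.topIso_hom]
    infer_instance
  have sq := Groth.Agent.Lib.Helper24.HomogSep.isPullback_pullback_map (⊤ : S.Opens).ι f
  have h1 : f.left = inv (pullback.fst T.hom (⊤ : S.Opens).ι) ≫
      ((Over.pullback (⊤ : S.Opens).ι).map f).left ≫ pullback.fst T'.hom (⊤ : S.Opens).ι := by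
    rw [IsIso.eq_inv_comp]
    exact sq.w.symm
  haveI : IsIso f.left := by
    rw [h1]
    infer_instance
  haveI : IsIso ((Over.forget S).map f) := ‹IsIso f.left›
  exact isIso_of_reflects_iso f (Over.forget S)

end Groth.Agent.S16611
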