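import Groth.Statements.S16614
import Groth.Agent.Lib.Helper14.MTHom6
import Groth.Agent.S5275
import Groth.Agent.S5274
import Groth.Agent.S16611

set_option autoImplicit false
open CategoryTheory MonoidalCategory CartesianMonoidalCategory MonObj GrpObj AlgebraicGeometry
universe u
open SGA3x

namespace Groth.Agent.S16614

open Groth.Agent.Lib.Helper14 CategoryTheory.Limits

section aux

variable {S : Scheme.{u}}

open scoped Obj in
/-- a global splitting passes to every base change -/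
lemma triv_of_global (T : Over S) [GrpObj T] (M : Type) [AddCommGroup M]
    (e : T ≅ Red.DS S M) [IsMonHom e.hom] {X : Scheme.{u}} (q : X ⟶ S) :
    ∃ e' : Red.bc q T ≅ Red.DS X M, IsMonHom e'.hom := by
  obtain ⟨c', hc'⟩ := MTDescent.exists_bc_comp_iso q
    (Limits.IsTerminal.from specULiftZIsTerminal S)
    (Limits.IsTerminal.from specULiftZIsTerminal X)
    (specULiftZIsTerminal.hom_ext _ _) (Red.diag (ULift.{u} ℤ) M)
  refine ⟨(Over.pullback q).mapIso e ≪≫ c', ?_⟩
  dsimp only [Iso.trans_hom, Functor.mapIso_hom]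
  infer_instance

lemma split_bc (T : Over S) [GrpObj T] (M : Type) [AddCommGroup M]
    (h : Red.IsSplitTorusWith M T) {X : Scheme.{u}} (q : X ⟶ S) :
    Red.IsSplitTorusWith M (Red.bc q T) := by
  obtain ⟨e⟩ := h
  obtain ⟨e', he'⟩ := MTDescent.exists_iso_of_grp_iso e
  obtain ⟨e'', he''⟩ := triv_of_global T M e' q
  exact ⟨Grp.mkIso' e''⟩

lemma isTorus_of_split (T : Over S) [GrpObj T] (r : ℕ)
    (h : Red.IsSplitTorusWith (Fin r → ℤ) T) : Red.IsTorus T := by
  refine ⟨S, 𝟙 S, inferInstance, inferInstance, fun V hV => ⟨V, hV.isCompact, ?_⟩, fun s' => ?_⟩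
  · simp
  · exact ⟨⊤, trivial, r, split_bc T _ h _⟩

lemma isMonHom_of_comp_mono {T T' G : Over S} [GrpObj T] [GrpObj T'] [GrpObj G] (g : T ⟶ T')
    (j' : T' ⟶ G) [Mono j'] [IsMonHom j'] (h : IsMonHom (g ≫ j')) : IsMonHom g where
  one_hom := by
    rw [← cancel_mono j', Category.assoc, IsMonHom.one_hom (f := g ≫ j'), IsMonHom.one_hom]
  mul_hom := by
    rw [← cancel_mono j', Category.assoc, IsMonHom.mul_hom (f := g ≫ j'), Category.assoc,
      IsMonHom.mul_hom, ← Category.assoc, ← MonoidalCategory.tensorHom_comp_tensorHom]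

end aux

section rank

variable {S : Scheme.{u}}

/-- a monomorphism of split tori does not lower the rank (if the base is not empty) -/
lemma rank_le_of_mono {T T' : Over S} [GrpObj T] [GrpObj T'] (r r' : ℕ)
    (hT : Red.IsSplitTorusWith (Fin r → ℤ) T) (hT' : Red.IsSplitTorusWith (Fin r' → ℤ) T')
    (g : T ⟶ T') [IsMonHom g] [Mono g] (s : S) : r ≤ r' := by
  obtain ⟨e₁⟩ := split_bc T _ hT (Red.geomPt s)
  obtain ⟨e₂⟩ := split_bc T' _ hT' (Red.geomPt s)
  obtain ⟨e₁', he₁'⟩ := MTDescent.exists_iso_of_grp_iso e₁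
  obtain ⟨e₂', he₂'⟩ := MTDescent.exists_iso_of_grp_iso e₂
  obtain ⟨φ₀, hφ1, -⟩ := MTHom6.chart_field (MorphismProperty.monomorphisms Scheme.{u})
    (MorphismProperty.isomorphisms Scheme.{u}) _ _ g Groth.Agent.S5274.chartHyp_mono
    Groth.Agent.S5275.chartHyp_iso (AlgebraicClosure (S.residueField s)) (Red.geomPt s)
    (Fin r → ℤ) (Fin r' → ℤ) e₁' e₂'
  haveI hmono : Mono g.left := inferInstance
  have hm : (MorphismProperty.monomorphisms Scheme.{u})
      ((Over.pullback (Red.geomPt s)).map g).left :=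
    MTHom4.map_of_map (MorphismProperty.monomorphisms Scheme.{u}) g (Red.geomPt s)
      ((MorphismProperty.monomorphisms.iff _).mpr hmono)
  have hsurj : Function.Surjective φ₀ := hφ1.mp hm
  have := LinearMap.finrank_le_finrank_of_surjective (f := φ₀.toIntLinearMap) hsurj
  simpa using this

/-- the ranks of the split subtori of a group of multiplicative type and of finite type over a
non-empty base are bounded -/
lemma rank_bound {G : Over S} [GrpObj G] (hG : SGA3x.IsMultTypeFT G) [Nonempty S] :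
    ∃ n : ℕ, ∀ (T' : Over S) [GrpObj T'] (j' : T' ⟶ G) [IsMonHom j'] [Mono j'] (r' : ℕ),
      Red.IsSplitTorusWith (Fin r' → ℤ) T' → r' ≤ n := by
  obtain ⟨S', f, hfl, hsj, hcv, hloc⟩ := hG
  obtain ⟨s'⟩ : Nonempty S' := by
    obtain ⟨s₀⟩ := ‹Nonempty S›
    obtain ⟨s', -⟩ := hsj.surj s₀
    exact ⟨s'⟩
  obtain ⟨U, hs'U, M, iM, hM, ⟨e⟩⟩ := hloc s'
  obtain ⟨e', he'⟩ := MTDescent.exists_iso_of_grp_iso e
  haveI : Module.Finite ℤ M := Module.Finite.iff_addGroup_fg.mpr hM
  refine ⟨Module.finrank ℤ M, ?_⟩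
  intro T' _ j' _ _ r' hT'
  let x : (U : Scheme.{u}) := ⟨s', hs'U⟩
  let k : Spec ((U : Scheme.{u}).residueField x) ⟶ S :=
    (U : Scheme.{u}).fromSpecResidueField x ≫ U.ι ≫ f
  obtain ⟨eG, heG⟩ := MTHom5.triv_of_factor G (U.ι ≫ f) M e'
    ((U : Scheme.{u}).fromSpecResidueField x) k rfl
  obtain ⟨e₂⟩ := split_bc T' _ hT' k
  obtain ⟨e₂', he₂'⟩ := MTDescent.exists_iso_of_grp_iso e₂
  obtain ⟨φ₀, hφ1, -⟩ := MTHom6.chart_field (MorphismProperty.monomorphisms Scheme.{u})
    (MorphismProperty.isomorphisms Scheme.{u}) _ _ j' Groth.Agent.S5274.chartHyp_mono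
    Groth.Agent.S5275.chartHyp_iso ((U : Scheme.{u}).residueField x) k
    (Fin r' → ℤ) M e₂' eG
  haveI hmono : Mono j'.left := inferInstance
  have hm : (MorphismProperty.monomorphisms Scheme.{u}) ((Over.pullback k).map j').left :=
    MTHom4.map_of_map (MorphismProperty.monomorphisms Scheme.{u}) j' k
      ((MorphismProperty.monomorphisms.iff _).mpr hmono)
  have hsurj : Function.Surjective φ₀ := hφ1.mp hm
  have := LinearMap.finrank_le_finrank_of_surjective (f := φ₀.toIntLinearMap) hsurj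
  simpa using this

end rank

section trivial

variable (S : Scheme.{u})

lemma bijective_algebraMap_unique (K G : Type*) [CommRing K] [Monoid G] [Subsingleton G] :
    Function.Bijective (algebraMap K (MonoidAlgebra K G)) := by
  have h : ⇑(algebraMap K (MonoidAlgebra K G)) = ⇑(MonoidAlgebra.uniqueAlgEquiv K (A := K) G).symm :=
    funext (fun r => ((MonoidAlgebra.uniqueAlgEquiv K (A := K) G).symm.commutes r).symm)
  rw [h]
  exact (MonoidAlgebra.uniqueAlgEquiv K (A := K) G).symm.bijective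

/-- the structure morphism of the trivial torus is an isomorphism -/
lemma isIso_DS_zero_hom : IsIso (Red.DS S (Fin 0 → ℤ)).hom := by
  have h1 : IsIso (Red.diag (ULift.{u} ℤ) (Fin 0 → ℤ)).hom := by
    show IsIso (Spec.map (CommRingCat.ofHom (algebraMap (ULift.{u} ℤ)
      (MonoidAlgebra (ULift.{u} ℤ) (Multiplicative (Fin 0 → ℤ))))))
    rw [MTHom3.isIso_specMap_iff]
    exact bijective_algebraMap_unique _ _
  show IsIso (pullback.snd (Red.diag (ULift.{u} ℤ) (Fin 0 → ℤ)).hom
    (Limits.IsTerminal.from specULiftZIsTerminal S))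
  infer_instance

lemma hom_ext_DS_zero {X : Over S} (a b : X ⟶ Red.DS S (Fin 0 → ℤ)) : a = b := by
  haveI := isIso_DS_zero_hom S
  apply Over.OverMorphism.ext
  rw [← cancel_mono (Red.DS S (Fin 0 → ℤ)).hom, Over.w, Over.w]

end trivial


/-- Over an arbitrary scheme S, an S-group G of finite multiplicative type admits a maximal split
subtorus: a monomorphism T ⟶ G from a split torus T ≅ D_S(ℤ^r) which is maximal among split subtori
(if T factors through a split subtorus T' ⟶ G then the factoring morphism is an isomorphism). -/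
theorem result {S : Scheme.{u}} {G : Over S} [GrpObj G]
    (hG : SGA3x.IsMultTypeFT G) :
    ∃ (T : Over S) (_ : GrpObj T) (j : T ⟶ G) (r : ℕ), IsMonHom j ∧ Mono j ∧ Red.IsSplitTorusWith (Fin r → ℤ) T ∧
      ∀ (T' : Over S) [GrpObj T'] (j' : T' ⟶ G) [IsMonHom j'] [Mono j'] (r' : ℕ) (g : T ⟶ T'),
        Red.IsSplitTorusWith (Fin r' → ℤ) T' → g ≫ j' = j → IsIso g := by
  -- the set of ranks of split subtori
  let 𝒮 : Set ℕ := {r | ∃ (T : Over S) (_ : GrpObj T) (j : T ⟶ G), IsMonHom j ∧ Mono j ∧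
    Red.IsSplitTorusWith (Fin r → ℤ) T}
  have h0 : (0 : ℕ) ∈ 𝒮 := by
    refine ⟨Red.DS S (Fin 0 → ℤ), inferInstance, toUnit _ ≫ η[G], inferInstance, ?_, ⟨Iso.refl _⟩⟩
    exact ⟨fun a b _ => hom_ext_DS_zero S a b⟩
  -- the final step, given a subtorus whose rank is maximal (when the base is not empty)
  have key : ∀ (r : ℕ) (T : Over S) (_ : GrpObj T) (j : T ⟶ G), IsMonHom j → Mono j →
      Red.IsSplitTorusWith (Fin r → ℤ) T → (Nonempty S → ∀ r' ∈ 𝒮, r' ≤ r) →
      ∀ (T' : Over S) [GrpObj T'] (j' : T' ⟶ G) [IsMonHom j'] [Mono j'] (r' : ℕ) (g : T ⟶ T'),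
        Red.IsSplitTorusWith (Fin r' → ℤ) T' → g ≫ j' = j → IsIso g := by
    intro r T _ j hjm hjmono hT hmax T' _ j' _ _ r' g hT' hg
    haveI : IsMonHom g := isMonHom_of_comp_mono g j' (by rw [hg]; exact hjm)
    haveI : Mono g := by
      haveI : Mono (g ≫ j') := by rw [hg]; exact hjmono
      exact mono_of_mono g j'
    refine Groth.Agent.S16611.result (isTorus_of_split T r hT) (isTorus_of_split T' r' hT') g ?_
    intro s
    have h1 : r' ≤ r := hmax ⟨s⟩ r' ⟨T', inferInstance, j', inferInstance, inferInstance, hT'⟩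
    have h2 : r ≤ r' := rank_le_of_mono r r' hT hT' g s
    have h3 : r' = r := le_antisymm h1 h2
    subst h3
    exact ⟨r', split_bc T _ hT _, split_bc T' _ hT' _⟩
  rcases isEmpty_or_nonempty S with hS | hS
  · obtain ⟨T, iT, j, hjm, hjmono, hT⟩ := h0
    exact ⟨T, iT, j, 0, hjm, hjmono, hT,
      key 0 T iT j hjm hjmono hT (fun h => (hS.false h.some).elim)⟩
  · obtain ⟨n, hn⟩ := rank_bound hG
    have hbdd : BddAbove 𝒮 := by
      refine ⟨n, ?_⟩
      rintro r' ⟨T', iT', j', hjm', hjmono', hT'⟩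
      exact hn T' j' r' hT'
    have hmem := Nat.sSup_mem ⟨0, h0⟩ hbdd
    obtain ⟨T, iT, j, hjm, hjmono, hT⟩ := hmem
    exact ⟨T, iT, j, sSup 𝒮, hjm, hjmono, hT,
      key _ T iT j hjm hjmono hT (fun _ r' hr' => le_csSup hbdd hr')⟩

end Groth.Agent.S16614
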