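import Groth.Statements.S16613
import Groth.Agent.Lib.Helper14.MTGlueD
import Groth.Agent.S16614
import Groth.Agent.S16611

set_option autoImplicit false
open CategoryTheory MonoidalCategory CartesianMonoidalCategory MonObj GrpObj AlgebraicGeometry
universe u
open SGA3x

namespace Groth.Agent.S16613

open Groth.Agent.Lib.Helper14 CategoryTheory.Limits

section aux

variable {S : Scheme.{u}}

/-- being Zariski-locally a split torus -/
def LS (T : Over S) [GrpObj T] : Prop :=
  ∀ s : ↥S, ∃ U : S.Opens, s ∈ U ∧ ∃ r : ℕ, Red.IsSplitTorusWith (Fin r → ℤ) (Red.bc U.ι T)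

open scoped Obj in
/-- a splitting over an open subscheme gives a splitting of the geometric fibres at its points -/
lemma gsplit_of_local (T : Over S) [GrpObj T] (U : S.Opens) (r : ℕ)
    (hU : Red.IsSplitTorusWith (Fin r → ℤ) (Red.bc U.ι T)) (s : S) (hs : s ∈ U) :
    Red.IsSplitTorusWith (Fin r → ℤ) (Red.geomFibre s T) := by
  obtain ⟨e₀⟩ := hU
  obtain ⟨e, he⟩ := MTDescent.exists_iso_of_grp_iso e₀
  have hrange : Set.range (Red.geomPt s) ⊆ Set.range U.ι := by
    rintro _ ⟨y, rfl⟩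
    rw [Scheme.Opens.range_ι]
    show (Spec.map _ ≫ S.fromSpecResidueField s) y ∈ U
    rw [Scheme.Hom.comp_apply, Scheme.fromSpecResidueField_apply]
    exact hs
  obtain ⟨e', he'⟩ := MTHom5.triv_of_factor T U.ι (Fin r → ℤ) e
    (IsOpenImmersion.lift U.ι (Red.geomPt s) hrange) (Red.geomPt s)
    (IsOpenImmersion.lift_fac _ _ _)
  exact ⟨Grp.mkIso' e'⟩

/-- the rank of a split torus over a non-empty base is well defined -/
lemma rank_unique {X : Over S} [GrpObj X] (r r' : ℕ) (h : Red.IsSplitTorusWith (Fin r → ℤ) X)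
    (h' : Red.IsSplitTorusWith (Fin r' → ℤ) X) (s : S) : r = r' :=
  le_antisymm (Groth.Agent.S16614.rank_le_of_mono r r' h h' (𝟙 X) s)
    (Groth.Agent.S16614.rank_le_of_mono r' r h' h (𝟙 X) s)

lemma nonempty_geom (s : S) :
    Nonempty (Spec (CommRingCat.of (AlgebraicClosure (S.residueField s)))) :=
  inferInstanceAs (Nonempty (PrimeSpectrum (AlgebraicClosure (S.residueField s))))

/-- over a connected base the rank of the geometric fibres of a locally split torus is constant -/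
lemma grk_const [ConnectedSpace S] (T : Over S) [GrpObj T] (hT : LS T) (r : ℕ) (s₀ s : S)
    (h₀ : Red.IsSplitTorusWith (Fin r → ℤ) (Red.geomFibre s₀ T)) :
    Red.IsSplitTorusWith (Fin r → ℤ) (Red.geomFibre s T) := by
  have hclopen : IsClopen {t : S | Red.IsSplitTorusWith (Fin r → ℤ) (Red.geomFibre t T)} := by
    constructor
    · rw [← isOpen_compl_iff, isOpen_iff_forall_mem_open]
      intro t ht
      obtain ⟨U, htU, r', hU⟩ := hT t
      refine ⟨U, fun t' ht' hmem => ht ?_, U.isOpen, htU⟩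
      have h1 := gsplit_of_local T U r' hU t' ht'
      have h2 := gsplit_of_local T U r' hU t htU
      obtain ⟨y⟩ := nonempty_geom t'
      have := rank_unique r r' hmem h1 y
      subst this
      exact h2
    · rw [isOpen_iff_forall_mem_open]
      intro t ht
      obtain ⟨U, htU, r', hU⟩ := hT t
      refine ⟨U, fun t' ht' => ?_, U.isOpen, htU⟩
      have h1 := gsplit_of_local T U r' hU t' ht'
      have h2 := gsplit_of_local T U r' hU t htU
      obtain ⟨y⟩ := nonempty_geom t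
      have := rank_unique r r' ht h2 y
      subst this
      exact h1
  have huniv := hclopen.eq_univ ⟨s₀, h₀⟩
  exact (Set.eq_univ_iff_forall.mp huniv) s

open scoped Obj in
/-- a group which is Zariski-locally a split torus is a torus -/
lemma isTorus_of_LS (T : Over S) [GrpObj T] (hT : LS T) : Red.IsTorus T := by
  refine ⟨S, 𝟙 S, inferInstance, inferInstance, fun V hV => ⟨V, hV.isCompact, ?_⟩, fun s => ?_⟩
  · simp
  · obtain ⟨U, hsU, r, ⟨e₀⟩⟩ := hT s
    obtain ⟨e, he⟩ := MTDescent.exists_iso_of_grp_iso e₀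
    obtain ⟨e', he'⟩ := MTHom5.triv_of_factor T U.ι (Fin r → ℤ) e (𝟙 _) (U.ι ≫ 𝟙 S)
      (by rw [Category.id_comp, Category.comp_id])
    exact ⟨U, hsU, r, ⟨Grp.mkIso' e'⟩⟩

end aux


/-- Let S be a connected scheme and G an S-group of finite multiplicative type. Then G admits a unique
maximal locally split subtorus (a monomorphism T ⟶ G with T Zariski-locally on S isomorphic to split
tori D(ℤ^r)); since locally split subtori form a directed family it is the greatest one: every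
locally split subtorus of G factors through it. -/
theorem result {S : Scheme.{u}}
    [ConnectedSpace ↥S] {G : Over S} [GrpObj G] (hG : SGA3x.IsMultTypeFT G) :
    ∃ (T : Over S) (_ : GrpObj T) (j : T ⟶ G), IsMonHom j ∧ Mono j ∧
      (∀ s : ↥S, ∃ U : S.Opens, s ∈ U ∧ ∃ r : ℕ, Red.IsSplitTorusWith (Fin r → ℤ) (Red.bc U.ι T)) ∧
      ∀ (T' : Over S) [GrpObj T'] (j' : T' ⟶ G) [IsMonHom j'] [Mono j'],
        (∀ s : ↥S, ∃ U : S.Opens, s ∈ U ∧ ∃ r : ℕ, Red.IsSplitTorusWith (Fin r → ℤ) (Red.bc U.ι T')) → ∃ g : T' ⟶ T, g ≫ j = j' := by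
  obtain ⟨s₀⟩ : Nonempty S := inferInstance
  obtain ⟨y₀⟩ := nonempty_geom s₀
  -- the set of ranks of locally split subtori
  let 𝒮 : Set ℕ := {r | ∃ (T : Over S) (_ : GrpObj T) (j : T ⟶ G), IsMonHom j ∧ Mono j ∧ LS T ∧
    Red.IsSplitTorusWith (Fin r → ℤ) (Red.geomFibre s₀ T)}
  have h0 : (0 : ℕ) ∈ 𝒮 := by
    refine ⟨Red.DS S (Fin 0 → ℤ), inferInstance, toUnit _ ≫ η[G], inferInstance, ?_, ?_, ?_⟩
    · exact ⟨fun a b _ => Groth.Agent.S16614.hom_ext_DS_zero S a b⟩
    · intro s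
      exact ⟨⊤, trivial, 0, Groth.Agent.S16614.split_bc _ _ ⟨Iso.refl _⟩ _⟩
    · exact Groth.Agent.S16614.split_bc _ _ ⟨Iso.refl _⟩ _
  have hGZ : SGA3x.IsMultTypeFT (Red.geomFibre s₀ G) := MTSplitD.locTriv_bc G _ hG _
  haveI : Nonempty (Spec (CommRingCat.of (AlgebraicClosure (S.residueField s₀)))) := ⟨y₀⟩
  obtain ⟨n, hn⟩ := Groth.Agent.S16614.rank_bound hGZ
  have hbdd : BddAbove 𝒮 := by
    refine ⟨n, ?_⟩
    rintro r' ⟨T', iT', j', hjm', hjmono', -, hT'⟩
    haveI : Mono j'.left := inferInstance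
    have hm : (MorphismProperty.monomorphisms Scheme.{u})
        ((Over.pullback (Red.geomPt s₀)).map j').left :=
      MTHom4.map_of_map (MorphismProperty.monomorphisms Scheme.{u}) j' (Red.geomPt s₀)
        ((MorphismProperty.monomorphisms.iff _).mpr inferInstance)
    rw [MorphismProperty.monomorphisms.iff] at hm
    haveI : Mono ((Over.pullback (Red.geomPt s₀)).map j') := (Over.forget _).mono_of_mono_map hm
    exact hn (Red.geomFibre s₀ T') ((Over.pullback (Red.geomPt s₀)).map j') r' hT'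
  have hmem := Nat.sSup_mem ⟨0, h0⟩ hbdd
  obtain ⟨T, iT, j, hjm, hjmono, hLS, hT⟩ := hmem
  refine ⟨T, iT, j, hjm, hjmono, hLS, ?_⟩
  intro T' _ j' _ _ hLS'
  obtain ⟨E₃, instE₃, j₃, g₁, g₂, hj₃, hmono₃, hE₃, hg₁, hg₂⟩ :=
    MTGlueD.exists_sup_local hG j j' hLS hLS'
  haveI : IsMonHom g₁ := Groth.Agent.S16614.isMonHom_of_comp_mono g₁ j₃ (by rw [hg₁]; exact hjm)
  haveI : Mono g₁ := by
    haveI : Mono (g₁ ≫ j₃) := by rw [hg₁]; exact hjmono
    exact mono_of_mono g₁ j₃
  obtain ⟨U₃, hs₀U₃, r₃, hU₃⟩ := hE₃ s₀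
  have h₃ := gsplit_of_local E₃ U₃ r₃ hU₃ s₀ hs₀U₃
  have hle : r₃ ≤ sSup 𝒮 := le_csSup hbdd ⟨E₃, instE₃, j₃, hj₃, hmono₃, hE₃, h₃⟩
  have hge : sSup 𝒮 ≤ r₃ := by
    haveI : Mono g₁.left := inferInstance
    have hm : (MorphismProperty.monomorphisms Scheme.{u})
        ((Over.pullback (Red.geomPt s₀)).map g₁).left :=
      MTHom4.map_of_map (MorphismProperty.monomorphisms Scheme.{u}) g₁ (Red.geomPt s₀)
        ((MorphismProperty.monomorphisms.iff _).mpr inferInstance)
    rw [MorphismProperty.monomorphisms.iff] at hm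
    haveI : Mono ((Over.pullback (Red.geomPt s₀)).map g₁) := (Over.forget _).mono_of_mono_map hm
    exact Groth.Agent.S16614.rank_le_of_mono _ _ hT h₃ ((Over.pullback (Red.geomPt s₀)).map g₁) y₀
  have heq : r₃ = sSup 𝒮 := le_antisymm hle hge
  rw [heq] at h₃
  haveI : IsIso g₁ := Groth.Agent.S16611.result (isTorus_of_LS T hLS) (isTorus_of_LS E₃ hE₃) g₁
    (fun s => ⟨sSup 𝒮, grk_const T hLS _ s₀ s hT, grk_const E₃ hE₃ _ s₀ s h₃⟩)
  refine ⟨g₂ ≫ inv g₁, ?_⟩
  rw [Category.assoc, ← hg₁, IsIso.inv_hom_id_assoc, hg₂]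

end Groth.Agent.S16613
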