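import Groth.Statements.S5216
import Mathlib.Tactic
import Mathlib.CategoryTheory.Functor.RegularEpi
import Mathlib.CategoryTheory.Limits.Types.Pullbacks

set_option autoImplicit false
open CategoryTheory CategoryTheory.Limits
universe w v₁ u₁
open ShfCat

namespace Groth.Agent.S5216

section
variable {C : Type u₁} [Category.{v₁} C] {R X : Cᵒᵖ ⥤ Type w} (p₁ p₂ : R ⟶ X)

/-- the relation on sections -/
def rel (U : Cᵒᵖ) (x y : X.obj U) : Prop := ∃ r : R.obj U, p₁.app U r = x ∧ p₂.app U r = y

lemma rel_map {U V : Cᵒᵖ} (f : U ⟶ V) {x y : X.obj U} (h : rel p₁ p₂ U x y) :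
    rel p₁ p₂ V (X.map f x) (X.map f y) := by
  obtain ⟨r, rfl, rfl⟩ := h
  exact ⟨R.map f r, ConcreteCategory.congr_hom (p₁.naturality f) r,
    ConcreteCategory.congr_hom (p₂.naturality f) r⟩

/-- quotient presheaf -/
def Q : Cᵒᵖ ⥤ Type w where
  obj U := Quot (rel p₁ p₂ U)
  map f := ↾(Quot.map (X.map f) (fun _ _ h => rel_map p₁ p₂ f h))
  map_id U := by
    ext x
    obtain ⟨x, rfl⟩ := Quot.exists_rep x
    change Quot.mk _ (X.map (𝟙 U) x) = Quot.mk _ x
    rw [X.map_id]; rfl
  map_comp f g := by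
    ext x
    obtain ⟨x, rfl⟩ := Quot.exists_rep x
    change Quot.mk _ (X.map (f ≫ g) x) = Quot.mk _ (X.map g (X.map f x))
    rw [X.map_comp]; rfl

/-- the quotient map -/
def π : X ⟶ Q p₁ p₂ where
  app U := ↾(Quot.mk _)
  naturality U V f := by
    ext x
    rfl


/-- test presheaf for joint monicity -/
def Y : Cᵒᵖ ⥤ Type w where
  obj U := {ab : R.obj U × R.obj U // p₁.app U ab.1 = p₁.app U ab.2 ∧ p₂.app U ab.1 = p₂.app U ab.2}
  map {U V} f := ↾(fun ab => ⟨(R.map f ab.1.1, R.map f ab.1.2), by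
    obtain ⟨⟨a, b⟩, h1, h2⟩ := ab
    have n1 := fun r => ConcreteCategory.congr_hom (p₁.naturality f) r
    have n2 := fun r => ConcreteCategory.congr_hom (p₂.naturality f) r
    constructor
    · exact (n1 a).trans ((congrArg (X.map f) h1).trans (n1 b).symm)
    · exact (n2 a).trans ((congrArg (X.map f) h2).trans (n2 b).symm)⟩)
  map_id U := by
    ext ⟨⟨a, b⟩, h⟩
    · change R.map (𝟙 U) a = a
      rw [R.map_id]; rfl
    · change R.map (𝟙 U) b = b
      rw [R.map_id]; rfl
  map_comp f g := by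
    ext ⟨⟨a, b⟩, h⟩
    · change R.map (f ≫ g) a = R.map g (R.map f a)
      rw [R.map_comp]; rfl
    · change R.map (f ≫ g) b = R.map g (R.map f b)
      rw [R.map_comp]; rfl

/-- first projection -/
def Yfst : Y p₁ p₂ ⟶ R where
  app U := ↾(fun ab => ab.1.1)
  naturality U V f := by ext ab; rfl

/-- second projection -/
def Ysnd : Y p₁ p₂ ⟶ R where
  app U := ↾(fun ab => ab.1.2)
  naturality U V f := by ext ab; rfl

lemma inj_of_jointlyMono [JointlyMono₂ p₁ p₂] (U : Cᵒᵖ) (a b : R.obj U)
    (h1 : p₁.app U a = p₁.app U b) (h2 : p₂.app U a = p₂.app U b) : a = b := by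
  have key : Yfst p₁ p₂ = Ysnd p₁ p₂ := by
    apply JointlyMono₂.right_cancellation (p₁ := p₁) (p₂ := p₂)
    · ext V ab
      exact ab.2.1
    · ext V ab
      exact ab.2.2
  have := ConcreteCategory.congr_hom (NatTrans.congr_app key U) ⟨(a, b), h1, h2⟩
  exact this

variable {p₁ p₂}

lemma rel_equivalence (e : EquivalenceRelation p₁ p₂) (U : Cᵒᵖ) : Equivalence (rel p₁ p₂ U) where
  refl x := ⟨e.r.app U x,
    ConcreteCategory.congr_hom (NatTrans.congr_app e.reflexivity₁ U) x,
    ConcreteCategory.congr_hom (NatTrans.congr_app e.reflexivity₂ U) x⟩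
  symm := by
    rintro x y ⟨r, rfl, rfl⟩
    exact ⟨e.s.app U r,
      ConcreteCategory.congr_hom (NatTrans.congr_app e.symmetry₁ U) r,
      ConcreteCategory.congr_hom (NatTrans.congr_app e.symmetry₂ U) r⟩
  trans := by
    rintro x y z ⟨r, rfl, hr⟩ ⟨r', hr', rfl⟩
    have hpb : IsPullback e.c.fst e.c.snd p₂ p₁ := IsPullback.of_isLimit e.isLimit
    obtain ⟨t, ht1, ht2⟩ := Types.exists_of_isPullback (hpb.app U) r r' (hr.trans hr'.symm)
    refine ⟨e.t.app U t, ?_, ?_⟩
    · have := ConcreteCategory.congr_hom (NatTrans.congr_app e.transitivity₁ U) t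
      refine this.trans ?_
      change p₁.app U (e.c.fst.app U t) = _
      rw [ht1]
    · have := ConcreteCategory.congr_hom (NatTrans.congr_app e.transitivity₂ U) t
      refine this.trans ?_
      change p₂.app U (e.c.snd.app U t) = _
      rw [ht2]


lemma π_eq_iff (e : EquivalenceRelation p₁ p₂) (U : Cᵒᵖ) (x y : X.obj U) :
    (π p₁ p₂).app U x = (π p₁ p₂).app U y ↔ rel p₁ p₂ U x y := by
  change (Quot.mk _ x : Quot (rel p₁ p₂ U)) = Quot.mk _ y ↔ _
  constructor
  · intro h
    exact (rel_equivalence e U).eqvGen_iff.mp (Quot.eqvGen_exact h)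
  · intro h
    exact Quot.sound h

lemma isKernelPair (e : EquivalenceRelation p₁ p₂) : IsKernelPair (π p₁ p₂) p₁ p₂ := by
  haveI : JointlyMono₂ p₁ p₂ := e.toJointlyMono₂
  apply IsPullback.of_forall_isPullback_app
  intro U
  rw [Types.isPullback_iff]
  refine ⟨?_, ?_, ?_⟩
  · ext r
    exact Quot.sound ⟨r, rfl, rfl⟩
  · rintro a b ⟨h1, h2⟩
    exact inj_of_jointlyMono p₁ p₂ U a b h1 h2
  · intro x y h
    exact (π_eq_iff e U x y).mp h

lemma π_surj (U : Cᵒᵖ) : Function.Surjective ((π p₁ p₂).app U) := by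
  intro q
  obtain ⟨x, rfl⟩ := Quot.exists_rep q
  exact ⟨x, rfl⟩

lemma isPushout (e : EquivalenceRelation p₁ p₂) : IsPushout p₁ p₂ (π p₁ p₂) (π p₁ p₂) := by
  have hw : p₁ ≫ π p₁ p₂ = p₂ ≫ π p₁ p₂ := (isKernelPair e).w
  refine ⟨⟨hw⟩, ⟨?_⟩⟩
  have key : ∀ (s : PushoutCocone p₁ p₂), s.inl = s.inr := by
    intro s
    have h1 : e.r ≫ p₁ ≫ s.inl = s.inl := by rw [← Category.assoc, e.reflexivity₁, Category.id_comp]
    have h2 : e.r ≫ p₂ ≫ s.inr = s.inr := by rw [← Category.assoc, e.reflexivity₂, Category.id_comp]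
    rw [← h1, ← h2, s.condition]
  refine PushoutCocone.IsColimit.mk _ (fun s => ?_) ?_ ?_ ?_
  · exact
      { app := fun U => ↾(Quot.lift (s.inl.app U) (by
          rintro x y ⟨r, rfl, rfl⟩
          have h := ConcreteCategory.congr_hom (NatTrans.congr_app s.condition U) r
          have k := ConcreteCategory.congr_hom (NatTrans.congr_app (key s) U) (p₂.app U r)
          exact h.trans k.symm))
        naturality := by
          intro U V f
          ext q
          obtain ⟨x, rfl⟩ := Quot.exists_rep q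
          exact ConcreteCategory.congr_hom (s.inl.naturality f) x }
  · intro s
    ext U x
    rfl
  · intro s
    refine Eq.trans ?_ (key s)
    ext U x
    rfl
  · intro s m h1 _
    ext U q
    obtain ⟨x, rfl⟩ := Quot.exists_rep q
    exact ConcreteCategory.congr_hom (NatTrans.congr_app h1 U) x

lemma universally_effectiveEpi :
    MorphismProperty.universally (fun _ _ f => EffectiveEpi f) (π p₁ p₂) := by
  intro X' Y' i₁ i₂ f' h
  have hsurj : ∀ U, Function.Surjective (f'.app U) := by
    intro U y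
    obtain ⟨x, hx⟩ := π_surj (p₁ := p₁) (p₂ := p₂) U (i₂.app U y)
    obtain ⟨z, hz1, hz2⟩ := Types.exists_of_isPullback (h.app U) y x hx.symm
    exact ⟨z, hz1⟩
  haveI : ∀ U, Epi (f'.app U) := fun U => (epi_iff_surjective _).mpr (hsurj U)
  haveI : Epi f' := NatTrans.epi_of_epi_app f'
  haveI := IsRegularEpiCategory.regularEpiOfEpi f'
  exact (isRegularEpi_iff_effectiveEpi f').mp inferInstance

end


/-- The case of the chaotic topology, i.e. for presheaves of sets on an arbitrary category: every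
equivalence relation is universally effective (its quotient exists, the relation is the kernel pair
of the quotient map, and that map is a universal effective epimorphism). -/
theorem result (C : Type u₁) [Category.{v₁} C]
    {R X : Cᵒᵖ ⥤ Type w} (p₁ p₂ : R ⟶ X) [IsEquivalenceRelation p₁ p₂] :
    IsUniversallyEffectiveEquivalenceRelation p₁ p₂ := by
  obtain ⟨e⟩ := IsEquivalenceRelation.nonempty_equivalenceRelation (p₁ := p₁) (p₂ := p₂)
  exact ⟨⟨{ toEquivalenceRelation := e
            B := Q p₁ p₂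
            π := π p₁ p₂
            isKernelPair := isKernelPair e
            isPushout := isPushout e
            universally_effectiveEpi_π := universally_effectiveEpi }⟩⟩

end Groth.Agent.S5216
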