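import Groth.Statements.S5217
import Groth.Agent.S5216
import Mathlib.Tactic
import Mathlib.CategoryTheory.Sites.RegularEpi

set_option autoImplicit false
open CategoryTheory CategoryTheory.Limits
universe w v₁ u₁
open ShfCat

namespace Groth.Agent.S5217

section
variable {𝒜 ℬ : Type*} [Category 𝒜] [Category ℬ] {L : ℬ ⥤ 𝒜} {i : 𝒜 ⥤ ℬ} (adj : L ⊣ i)

include adj in
lemma jointlyMono_map {R X : 𝒜} (p₁ p₂ : R ⟶ X) [JointlyMono₂ p₁ p₂] :
    JointlyMono₂ (i.map p₁) (i.map p₂) where
  right_cancellation Y f g h₁ h₂ := by
    apply (adj.homEquiv Y R).symm.injective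
    apply JointlyMono₂.right_cancellation (p₁ := p₁) (p₂ := p₂)
    · rw [← adj.homEquiv_naturality_right_symm, ← adj.homEquiv_naturality_right_symm, h₁]
    · rw [← adj.homEquiv_naturality_right_symm, ← adj.homEquiv_naturality_right_symm, h₂]

/-- transport of an equivalence relation along the right adjoint -/
noncomputable def mapRel {R X : 𝒜} {p₁ p₂ : R ⟶ X} (e : EquivalenceRelation p₁ p₂) :
    EquivalenceRelation (i.map p₁) (i.map p₂) :=
  haveI : JointlyMono₂ p₁ p₂ := e.toJointlyMono₂
  haveI : JointlyMono₂ (i.map p₁) (i.map p₂) := jointlyMono_map adj p₁ p₂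
  haveI : PreservesLimitsOfShape WalkingCospan i := adj.rightAdjoint_preservesLimits.preservesLimitsOfShape
  { e.toReflexiveRelation.map i, e.toSymmetricRelation.map i, e.toTransitiveRelation.map i with }


variable [i.Full] [i.Faithful] [PreservesFiniteLimits L] [HasPullbacks ℬ] [HasPullbacks 𝒜]
  [IsRegularEpiCategory 𝒜]

include adj in
lemma isIso_L_unit (B : ℬ) : IsIso (L.map (adj.unit.app B)) := by
  have h := adj.left_triangle_components B
  have : L.map (adj.unit.app B) = inv (adj.counit.app (L.obj B)) := by
    rw [← cancel_mono (adj.counit.app (L.obj B)), h, IsIso.inv_hom_id]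
    rfl
  rw [this]
  infer_instance

include adj in
lemma i_map_quot {X : 𝒜} {B' : ℬ} (π' : i.obj X ⟶ B') :
    i.map (inv (adj.counit.app X) ≫ L.map π') = π' ≫ adj.unit.app B' := by
  have h1 : i.map (inv (adj.counit.app X)) = adj.unit.app (i.obj X) := by
    have := adj.right_triangle_components X
    rw [← cancel_mono (i.map (adj.counit.app X)), this, ← i.map_comp, IsIso.inv_hom_id, i.map_id]
    rfl
  rw [i.map_comp, h1]
  exact (adj.unit.naturality π').symm

include adj in
theorem transfer
    (hB : ∀ {R X : ℬ} (p₁ p₂ : R ⟶ X) [IsEquivalenceRelation p₁ p₂],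
      IsUniversallyEffectiveEquivalenceRelation p₁ p₂)
    {R X : 𝒜} (p₁ p₂ : R ⟶ X) (e : EquivalenceRelation p₁ p₂) :
    IsUniversallyEffectiveEquivalenceRelation p₁ p₂ := by
  haveI : IsEquivalenceRelation (i.map p₁) (i.map p₂) := ⟨⟨mapRel adj e⟩⟩
  obtain ⟨ue'⟩ := (hB (i.map p₁) (i.map p₂)).nonempty_universallyEffectiveEquivalenceRelation
  let π' : i.obj X ⟶ ue'.B := ue'.π
  let π : X ⟶ L.obj ue'.B := inv (adj.counit.app X) ≫ L.map π'
  haveI : PreservesColimitsOfSize.{0, 0} L := adj.leftAdjoint_preservesColimits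
  have hcR := adj.counit.naturality p₁
  have hcR2 := adj.counit.naturality p₂
  have hkp : IsKernelPair π p₁ p₂ := by
    have h := ue'.isKernelPair.map L
    refine IsPullback.of_iso h (asIso (adj.counit.app R)) (asIso (adj.counit.app X))
      (asIso (adj.counit.app X)) (Iso.refl _) hcR hcR2 ?_ ?_
    · simp [π, π']
    · simp [π, π']
  have hpo : IsPushout p₁ p₂ π π := by
    have h := ue'.isPushout.map L
    refine IsPushout.of_iso h (asIso (adj.counit.app R)) (asIso (adj.counit.app X))
      (asIso (adj.counit.app X)) (Iso.refl _) hcR hcR2 ?_ ?_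
    · simp [π, π']
    · simp [π, π']
  refine ⟨⟨{ toEquivalenceRelation := e, B := L.obj ue'.B, π := π, isKernelPair := hkp,
             isPushout := hpo, universally_effectiveEpi_π := ?_ }⟩⟩
  intro X' Y' i₁ i₂ f' h
  -- the pullback of the unit
  have hP : IsPullback (pullback.snd (adj.unit.app ue'.B) (i.map i₂))
      (pullback.fst (adj.unit.app ue'.B) (i.map i₂)) (i.map i₂) (adj.unit.app ue'.B) :=
    (IsPullback.of_hasPullback _ _).flip
  have hbig : IsPullback (i.map f') (i.map i₁) (i.map i₂) (i.map π) := by
    haveI : PreservesLimitsOfSize.{0, 0} i := adj.rightAdjoint_preservesLimits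
    exact h.map i
  have hiπ : i.map π = π' ≫ adj.unit.app ue'.B := i_map_quot adj π'
  let u : i.obj X' ⟶ pullback (adj.unit.app ue'.B) (i.map i₂) :=
    pullback.lift (i.map i₁ ≫ π') (i.map f') (by
      rw [Category.assoc, ← hiπ]
      exact hbig.w.symm)
  have hu1 : u ≫ pullback.snd _ _ = i.map f' := pullback.lift_snd _ _ _
  have hu2 : u ≫ pullback.fst _ _ = i.map i₁ ≫ π' := pullback.lift_fst _ _ _
  have hleft : IsPullback u (i.map i₁) (pullback.fst (adj.unit.app ue'.B) (i.map i₂)) π' := by
    refine IsPullback.of_right ?_ hu2 hP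
    rw [hu1, ← hiπ]
    exact hbig
  haveI : EffectiveEpi u := ue'.universally_effectiveEpi_π _ _ _ hleft
  haveI : Epi u := inferInstance
  haveI : Epi (L.map u) := by
    haveI := adj.leftAdjoint_preservesColimits
    infer_instance
  haveI := isIso_L_unit adj ue'.B
  haveI : IsIso (L.map (pullback.snd (adj.unit.app ue'.B) (i.map i₂))) := by
    have := (IsPullback.of_hasPullback (adj.unit.app ue'.B) (i.map i₂)).map L
    exact this.isIso_snd_of_isIso
  have hepi : Epi (L.map (i.map f')) := by
    rw [← hu1, L.map_comp]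
    infer_instance
  have hnat := adj.counit.naturality f'
  haveI : Epi f' := by
    have : f' = inv (adj.counit.app X') ≫ L.map (i.map f') ≫ adj.counit.app Y' := by
      rw [IsIso.eq_inv_comp]
      exact hnat.symm
    rw [this]
    infer_instance
  haveI := IsRegularEpiCategory.regularEpiOfEpi f'
  exact (isRegularEpi_iff_effectiveEpi f').mp inferInstance

end


/-- In the category of sheaves of sets on a site, every equivalence relation is universally effective
(its quotient sheaf exists, the relation is the kernel pair of the quotient map, and that map is a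
universal effective epimorphism). Stated for sheaves valued in `Type w` whenever sheafification
exists. -/
theorem result {C : Type u₁} [Category.{v₁} C]
    (J : GrothendieckTopology C) [HasSheafify J (Type w)]
    {R X : Sheaf J (Type w)} (p₁ p₂ : R ⟶ X) [IsEquivalenceRelation p₁ p₂] :
    IsUniversallyEffectiveEquivalenceRelation p₁ p₂ := by
  obtain ⟨e⟩ := IsEquivalenceRelation.nonempty_equivalenceRelation (p₁ := p₁) (p₂ := p₂)
  exact transfer (sheafificationAdjunction J (Type w))
    (fun {R' X'} q₁ q₂ _ => Groth.Agent.S5216.result C q₁ q₂) p₁ p₂ e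

end Groth.Agent.S5217
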