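import Groth.Statements.S1302
import Groth.Agent.Lib.Helper13.ThickAffineC

set_option autoImplicit false
universe u
open FlatMor

namespace Groth.Agent.S1302

open AlgebraicGeometry CategoryTheory Limits in
/-- For a morphism of thickenings, that is a commutative square whose horizontal maps are thickenings
(closed immersions that are surjective on points), the morphism between the thin schemes is affine
if and only if the morphism between the thick ones is. -/
theorem result {X X' S S' : Scheme.{u}} (iX : X ⟶ X') (iS : S ⟶ S') (f : X ⟶ S) (f' : X' ⟶ S')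
    (hX : MoreMor.IsThickening iX) (hS : MoreMor.IsThickening iS) (w : iX ≫ f' = f ≫ iS) :
    IsAffineHom f ↔ IsAffineHom f' := by
  obtain ⟨hXci, hXs⟩ := hX
  obtain ⟨hSci, hSs⟩ := hS
  have hXsurj : Function.Surjective iX := iX.surjective
  have hSsurj : Function.Surjective iS := iS.surjective
  have hpre : ∀ V' : S'.Opens, iX ⁻¹ᵁ (f' ⁻¹ᵁ V') = f ⁻¹ᵁ (iS ⁻¹ᵁ V') := fun V' =>
    congrArg (fun φ : X ⟶ S' => φ ⁻¹ᵁ V') w
  constructor
  · intro hf
    constructor
    intro V' hV'
    apply Groth.Agent.Lib.Helper13.ThickAffine.isAffineOpen_of_isAffineOpen_preimage iX hXsurj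
    rw [hpre]
    exact IsAffineHom.isAffine_preimage _ (hV'.preimage iS)
  · intro hf'
    constructor
    intro V hV
    have hV' : IsAffineOpen (Groth.Agent.Lib.Helper13.ThickAffine.thickOpen iS hSsurj V) := by
      apply Groth.Agent.Lib.Helper13.ThickAffine.isAffineOpen_of_isAffineOpen_preimage iS hSsurj
      rw [Groth.Agent.Lib.Helper13.ThickAffine.preimage_thickOpen]
      exact hV
    have h1 := hpre (Groth.Agent.Lib.Helper13.ThickAffine.thickOpen iS hSsurj V)
    rw [Groth.Agent.Lib.Helper13.ThickAffine.preimage_thickOpen] at h1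
    rw [← h1]
    exact (IsAffineHom.isAffine_preimage _ hV').preimage iX

end Groth.Agent.S1302
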