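import Groth.Statements.S1314
import Groth.Agent.S9697
import Mathlib
set_option backward.isDefEq.respectTransparency.types false

set_option autoImplicit false
universe u
open FlatMor

namespace Groth.Agent.S1314
open AlgebraicGeometry CategoryTheory Limits


open AlgebraicGeometry CategoryTheory Limits in
/-- Let Y ⟶ Y' be a thickening, let X be the base change to Y of a scheme X' over Y', and assume both X
⟶ Y and X' ⟶ Y' are locally of finite type. Then X ⟶ Y is formally unramified if and only if X' ⟶ Y'
is. (The source states this as the vanishing of the sheaf of relative differentials; formal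
unramifiedness is the equivalent phrasing available here.) -/
theorem result {X X' Y Y' : Scheme.{u}} (iX : X ⟶ X') (iY : Y ⟶ Y') (f : X ⟶ Y) (f' : X' ⟶ Y')
    (hY : MoreMor.IsThickening iY) (hc : IsPullback iX f f' iY) [LocallyOfFiniteType f] [LocallyOfFiniteType f'] :
    FormallyUnramified f ↔ FormallyUnramified f' := by
  constructor
  · intro hf
    haveI : Surjective iY := hY.2
    haveI : Surjective iX := MorphismProperty.of_isPullback hc.flip inferInstance
    have key : ∀ x' : X', ∃ U : X'.Opens, x' ∈ U ∧ FormallyUnramified (U.ι ≫ f') := by
      intro x'
      obtain ⟨x, rfl⟩ := iX.surjective x'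
      let e := hc.isoPullback
      have h1 : e.hom ≫ pullback.fst f' iY = iX := hc.isoPullback_hom_fst
      have h2 : e.hom ≫ pullback.snd f' iY = f := hc.isoPullback_hom_snd
      have h3 : FormallyUnramified (pullback.snd f' iY) := by
        have : pullback.snd f' iY = e.inv ≫ f := by rw [← h2, Iso.inv_hom_id_assoc]
        rw [this]
        exact MorphismProperty.comp_mem _ _ _ inferInstance hf
      have := (Groth.Agent.S9697.result f' iY (e.hom x)).mp
        ⟨⊤, trivial, MorphismProperty.comp_mem _ _ _ inferInstance h3⟩
      rw [← Scheme.Hom.comp_apply, h1] at this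
      exact this
    choose U hxU hU using key
    rw [IsZariskiLocalAtSource.iff_of_iSup_eq_top (P := @FormallyUnramified) U]
    · exact hU
    · rw [eq_top_iff]
      intro x _
      exact TopologicalSpace.Opens.mem_iSup.mpr ⟨x, hxU x⟩
  · intro hf'
    exact MorphismProperty.of_isPullback hc hf'

end Groth.Agent.S1314
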