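import Groth.Statements.S1315
import Groth.Agent.S1314
import Mathlib
set_option backward.isDefEq.respectTransparency.types false

set_option autoImplicit false
universe u
open FlatMor

namespace Groth.Agent.S1315
open AlgebraicGeometry CategoryTheory Limits MorphismProperty

instance : DescendsAlong @UniversallyInjective @Surjective := by
  rw [universallyInjective_eq_diagonal]
  infer_instance

theorem mono_of_unramified_of_universallyInjective {X Y : Scheme.{u}} (f : X ⟶ Y)
    [LocallyOfFiniteType f] [FormallyUnramified f] [UniversallyInjective f] : Mono f := by
  rw [← pullback.isIso_diagonal_iff]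
  have : Surjective (pullback.diagonal f) := (UniversallyInjective.iff_diagonal f).mp inferInstance
  have : IsOpenImmersion (pullback.diagonal f) := inferInstance
  exact (isIso_iff_isOpenImmersion_and_surjective _).mpr ⟨inferInstance, inferInstance⟩


open AlgebraicGeometry CategoryTheory Limits in
/-- Let Y ⟶ Y' be a thickening, let X be the base change to Y of a scheme X' over Y', and assume both X
⟶ Y and X' ⟶ Y' are locally of finite type. Then X ⟶ Y is a monomorphism if and only if X' ⟶ Y' is. -/
theorem result {X X' Y Y' : Scheme.{u}} (iX : X ⟶ X') (iY : Y ⟶ Y') (f : X ⟶ Y) (f' : X' ⟶ Y')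
    (hY : MoreMor.IsThickening iY) (hc : IsPullback iX f f' iY) [LocallyOfFiniteType f] [LocallyOfFiniteType f'] :
    Mono f ↔ Mono f' := by
  constructor
  · intro hf
    have : Surjective iY := hY.2
    have : IsIso (pullback.diagonal f) := (pullback.isIso_diagonal_iff f).mpr hf
    have : FormallyUnramified f := inferInstance
    have : FormallyUnramified f' := (Groth.Agent.S1314.result iX iY f f' hY hc).mp inferInstance
    have : UniversallyInjective f' :=
      of_isPullback_of_descendsAlong (P := @UniversallyInjective) (Q := @Surjective) hc.flip
        inferInstance inferInstance
    exact mono_of_unramified_of_universallyInjective f'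
  · intro hf'
    exact MorphismProperty.of_isPullback (P := MorphismProperty.monomorphisms _) hc hf'

end Groth.Agent.S1315
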