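import Groth.Statements.S9922
import Groth.Agent.Lib.Helper3.AlgSpPoints2

set_option autoImplicit false
universe u
open CategoryTheory CategoryTheory.Limits AlgebraicGeometry
open AlgSp

namespace Groth.Agent.S9922

open Groth.Agent.Lib.Helper3 MorphismProperty

theorem repWith_universallyClosed_of_isUnivClosedMor {S : Scheme.{u}} {X Y : AlgSp.Sp S}
    {f : X ⟶ Y} (hf : AlgSp.Representable f)
    (h : AlgSp.IsUnivClosedMor f) : AlgSp.RepWith @UniversallyClosed f := by
  refine ⟨hf, fun U V g fstV sndV sq => ?_⟩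
  change UniversallyClosed sndV.left
  rw [universallyClosed_eq]
  intro V' U' i₁ i₂ f' hsq
  obtain ⟨fst'', g'', sq''⟩ := exists_univ_square sq i₁ i₂ f' hsq
  have h1 : IsClosedMap (AlgSp.Points.map ((AlgSp.yon S).map (Over.homMk f' rfl :
      Over.mk (f' ≫ i₂ ≫ U.hom) ⟶ Over.mk (i₂ ≫ U.hom)))) :=
    h (AlgSp.IsAlgSpace.yon_obj _) g'' fst'' _ sq''
  rw [AlgSp.Points.map_yon_map_eq] at h1
  have h2 := ((AlgSp.Points.schemeHomeo _).symm.isClosedMap.comp h1).comp
    (AlgSp.Points.schemeHomeo (Over.mk (f' ≫ i₂ ≫ U.hom))).isClosedMap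
  have h3 : IsClosedMap (fun t => f' t) := by
    simpa [Function.comp_def] using h2
  exact h3

theorem isUnivClosedMor_of_repWith {S : Scheme.{u}} {X Y : AlgSp.Sp S} {f : X ⟶ Y}
    (h : AlgSp.RepWith @UniversallyClosed f) : AlgSp.IsUnivClosedMor f := by
  intro Z Z' _ g fst snd sq
  exact isClosedMap_map_of_repWith (MorphismProperty.of_isPullback sq h)

/-- For a morphism of algebraic spaces representable by schemes, representable universal closedness is
equivalent to closedness of |Z x_Y X| -> |Z| for every base change along a morphism of algebraic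
spaces. -/
theorem result {S : Scheme.{u}} {X Y : AlgSp.Space S} (f : X ⟶ Y)
    (hf : AlgSp.Representable f.hom) :
    AlgSp.RepWith @UniversallyClosed f.hom ↔ AlgSp.IsUnivClosedMor f.hom := by
  exact ⟨isUnivClosedMor_of_repWith, repWith_universallyClosed_of_isUnivClosedMor hf⟩

end Groth.Agent.S9922
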