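import Groth.Statements.S9903
import Groth.Agent.Lib.Helper3.AlgSpLocal
import Groth.Agent.S9900

set_option autoImplicit false
universe u
open CategoryTheory CategoryTheory.Limits AlgebraicGeometry
open AlgSp

namespace Groth.Agent.S9903

open Groth.Agent.Lib.Helper3

/-- A diagonal-type property of a morphism of sheaves can be checked after base change to affine
schemes. -/
theorem repWith_diagonal_of_forall_affine {S : Scheme.{u}} (P : MorphismProperty Scheme.{u})
    [IsZariskiLocalAtTarget P] {X Y : AlgSp.Sp S} (f : X ⟶ Y)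
    (hd : AlgSp.Representable (pullback.diagonal f))
    (h : ∀ (Z : Over S), IsAffine Z.left → ∀ (g : (AlgSp.yon S).obj Z ⟶ Y) (Q : AlgSp.Sp S)
      (fst : Q ⟶ X) (snd : Q ⟶ (AlgSp.yon S).obj Z), IsPullback fst snd f g →
      AlgSp.RepWith P (pullback.diagonal snd)) :
    AlgSp.RepWith P (pullback.diagonal f) := by
  refine repWith_of_forall_affine P _ hd (fun T hT k => ?_)
  have sq := IsPullback.of_hasPullback f (k ≫ pullback.fst f f ≫ f)
  have hsnd := h T hT _ _ _ _ sq
  have hw₁ : (k ≫ pullback.fst f f) ≫ f = 𝟙 _ ≫ k ≫ pullback.fst f f ≫ f := by simp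
  have hw₂ : (k ≫ pullback.snd f f) ≫ f = 𝟙 _ ≫ k ≫ pullback.fst f f ≫ f := by
    simp [pullback.condition]
  have hw : pullback.lift _ _ hw₁ ≫ pullback.snd f (k ≫ pullback.fst f f ≫ f) =
      pullback.lift _ _ hw₂ ≫ pullback.snd f (k ≫ pullback.fst f f ≫ f) := by
    rw [pullback.lift_snd, pullback.lift_snd]
  have sqE := hsnd.rep.isPullback (pullback.lift _ _ hw)
  have sqD := isPullback_diagonal_of_isPullback sq
  have sqB := sqE.paste_horiz sqD
  have hk : pullback.lift (pullback.lift _ _ hw₁) (pullback.lift _ _ hw₂) hw ≫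
      pullback.map (pullback.snd f (k ≫ pullback.fst f f ≫ f))
        (pullback.snd f (k ≫ pullback.fst f f ≫ f)) f f
        (pullback.fst f (k ≫ pullback.fst f f ≫ f)) (pullback.fst f (k ≫ pullback.fst f f ≫ f))
        (k ≫ pullback.fst f f ≫ f) sq.w.symm sq.w.symm = k := by
    apply pullback.hom_ext
    · simp only [Category.assoc, pullback.lift_fst, pullback.lift_fst_assoc]
    · simp only [Category.assoc, pullback.lift_snd, pullback.lift_snd_assoc, pullback.lift_fst]
  rw [hk] at sqB
  exact ⟨_, _, _, sqB, hsnd.property_snd _⟩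

/-- (1) ⇔ (3): a morphism of algebraic spaces is separated (resp. quasi-separated) if and only if its
base change to every affine scheme over the target is. -/
theorem result {S : Scheme.{u}} {X Y : AlgSp.Space S} (f : X ⟶ Y) :
    (AlgSp.IsSeparatedMor f.hom ↔
      ∀ (Z : Over S), IsAffine Z.left → ∀ (g : (AlgSp.yon S).obj Z ⟶ Y.obj) (P : AlgSp.Sp S)
        (fst : P ⟶ X.obj) (snd : P ⟶ (AlgSp.yon S).obj Z), IsPullback fst snd f.hom g →
        AlgSp.IsSeparatedMor snd) ∧
    (AlgSp.IsQuasiSeparatedMor f.hom ↔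
      ∀ (Z : Over S), IsAffine Z.left → ∀ (g : (AlgSp.yon S).obj Z ⟶ Y.obj) (P : AlgSp.Sp S)
        (fst : P ⟶ X.obj) (snd : P ⟶ (AlgSp.yon S).obj Z), IsPullback fst snd f.hom g →
        AlgSp.IsQuasiSeparatedMor snd) := by
  have hd := (Groth.Agent.S9900.repWith_diagonal_lft_mono X.property f.hom).rep
  refine ⟨⟨fun h Z _ g P fst snd sq => repWith_diagonal_of_isPullback _ sq h, fun h => ?_⟩,
    ⟨fun h Z _ g P fst snd sq => repWith_diagonal_of_isPullback _ sq h, fun h => ?_⟩⟩
  · exact repWith_diagonal_of_forall_affine @IsClosedImmersion f.hom hd h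
  · exact repWith_diagonal_of_forall_affine @QuasiCompact f.hom hd h

end Groth.Agent.S9903
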