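import Groth.Statements.S9923
import Groth.Agent.S9909

set_option autoImplicit false
universe u
open CategoryTheory CategoryTheory.Limits AlgebraicGeometry
open AlgSp

namespace Groth.Agent.S9923

open Groth.Agent.Lib.Helper3 MorphismProperty

theorem isClosed_points_iff_affine {S : Scheme.{u}} {F : AlgSp.Sp S} {W : Set (AlgSp.Points F)} :
    IsClosed W ↔ ∀ (T : Over S), IsAffine T.left → ∀ g : (AlgSp.yon S).obj T ⟶ F,
      IsClosed (AlgSp.Points.ofPt g ⁻¹' W) := by
  rw [← isOpen_compl_iff, Groth.Agent.S9909.isOpen_points_iff_affine]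
  simp only [Set.preimage_compl, isOpen_compl_iff]

theorem isUnivClosedMor_iff_affine {S : Scheme.{u}} {X Y : AlgSp.Sp S} (f : X ⟶ Y) :
    AlgSp.IsUnivClosedMor f ↔
      ∀ (Z : Over S), IsAffine Z.left → ∀ (g : (AlgSp.yon S).obj Z ⟶ Y) (P : AlgSp.Sp S)
        (fst : P ⟶ X) (snd : P ⟶ (AlgSp.yon S).obj Z), IsPullback fst snd f g →
        IsClosedMap (AlgSp.Points.map snd) := by
  constructor
  · intro h Z _ g P fst snd sq
    exact h (AlgSp.IsAlgSpace.yon_obj Z) g fst snd sq
  · intro h Z Z' _ g fst snd sq Ω hΩ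
    rw [isClosed_points_iff_affine]
    intro T hT t
    have sqT := IsPullback.of_hasPullback snd t
    have hT' := h T hT (t ≫ g) _ _ _ (sqT.paste_horiz sq)
    rw [Groth.Agent.Lib.Helper3.Points.ofPt_eq, Set.preimage_comp,
      Groth.Agent.Lib.Helper3.Points.preimage_image_of_isPullback sqT]
    exact (hT' _ (hΩ.preimage (AlgSp.Points.continuous_map _))).preimage
      (AlgSp.Points.schemeHomeo T).continuous

/-- (1) ⇔ (3): a morphism of algebraic spaces is universally closed if and only if its base change to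
every affine scheme over the target is closed on points. -/
theorem result {S : Scheme.{u}} {X Y : AlgSp.Space S} (f : X ⟶ Y) :
    AlgSp.IsUnivClosedMor f.hom ↔
      ∀ (Z : Over S), IsAffine Z.left → ∀ (g : (AlgSp.yon S).obj Z ⟶ Y.obj) (P : AlgSp.Sp S)
        (fst : P ⟶ X.obj) (snd : P ⟶ (AlgSp.yon S).obj Z), IsPullback fst snd f.hom g →
        IsClosedMap (AlgSp.Points.map snd) := by
  exact isUnivClosedMor_iff_affine f.hom

end Groth.Agent.S9923
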