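import Groth.Statements.S9924
import Groth.Agent.S9923
import Groth.Agent.S9910

set_option autoImplicit false
universe u
open CategoryTheory CategoryTheory.Limits AlgebraicGeometry
open AlgSp

namespace Groth.Agent.S9924

open Groth.Agent.Lib.Helper3 MorphismProperty

theorem isUnivClosedMor_of_etale_cover {S : Scheme.{u}} {X Y : AlgSp.Sp S} (f : X ⟶ Y)
    (V : Over S) (p : (AlgSp.yon S).obj V ⟶ Y) (hp : AlgSp.RepWith @Etale p)
    (hps : AlgSp.RepWith @Surjective p)
    {P : AlgSp.Sp S} (fst : P ⟶ X) (snd : P ⟶ (AlgSp.yon S).obj V) (sq : IsPullback fst snd f p)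
    (h : AlgSp.IsUnivClosedMor snd) : AlgSp.IsUnivClosedMor f := by
  rw [Groth.Agent.S9923.isUnivClosedMor_iff_affine]
  intro T _ g PT fstT sndT sqT Ω hΩ
  have sqW := hp.rep.isPullback g
  have hwe : Etale (hp.rep.snd g).left := hp.property_snd g
  have hws : Surjective (hp.rep.snd g).left := hps.property _ _ _ sqW
  obtain ⟨hq1, hq2⟩ := Groth.Agent.S9910.isOpenMap_surjective_yon_map (hp.rep.snd g) hwe hws
  have sqW' := IsPullback.of_hasPullback sndT ((AlgSp.yon S).map (hp.rep.snd g))
  have big := sqW'.paste_horiz sqT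
  rw [← sqW.w] at big
  have hw : (pullback.fst sndT ((AlgSp.yon S).map (hp.rep.snd g)) ≫ fstT) ≫ f =
      (pullback.snd sndT ((AlgSp.yon S).map (hp.rep.snd g)) ≫ hp.rep.fst g) ≫ p := by
    rw [big.w, Category.assoc]
  have sq2 : IsPullback (sq.lift _ _ hw)
      (pullback.snd sndT ((AlgSp.yon S).map (hp.rep.snd g))) snd (hp.rep.fst g) := by
    refine IsPullback.of_right ?_ (sq.lift_snd _ _ hw) sq
    rw [sq.lift_fst]
    exact big
  have hclosed : IsClosedMap (AlgSp.Points.map
      (pullback.snd sndT ((AlgSp.yon S).map (hp.rep.snd g)))) :=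
    h (AlgSp.IsAlgSpace.yon_obj _) _ _ _ sq2
  have h1 := Points.preimage_image_of_isPullback sqW' Ω
  have h2 : IsClosed (AlgSp.Points.map ((AlgSp.yon S).map (hp.rep.snd g)) ⁻¹'
      (AlgSp.Points.map sndT '' Ω)) := by
    rw [h1]
    exact hclosed _ (hΩ.preimage (AlgSp.Points.continuous_map _))
  rw [← isOpen_compl_iff] at h2 ⊢
  rw [← Set.preimage_compl] at h2
  have h3 := hq1 _ h2
  rwa [Set.image_preimage_eq _ hq2] at h3

/-- (4) ⇒ (1): universal closedness of a morphism of algebraic spaces descends along a surjective etale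
base change from a scheme. -/
theorem result {S : Scheme.{u}} {X Y : AlgSp.Space S} (f : X ⟶ Y) (V : Over S)
    (p : (AlgSp.yon S).obj V ⟶ Y.obj) (hp : AlgSp.RepWith @Etale p) (hps : AlgSp.RepWith @Surjective p)
    {P : AlgSp.Sp S} (fst : P ⟶ X.obj) (snd : P ⟶ (AlgSp.yon S).obj V) (sq : IsPullback fst snd f.hom p)
    (h : AlgSp.IsUnivClosedMor snd) : AlgSp.IsUnivClosedMor f.hom := by
  exact isUnivClosedMor_of_etale_cover f.hom V p hp hps fst snd sq h

end Groth.Agent.S9924
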