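import Groth.Statements.S9883
import Groth.Agent.S9884

set_option autoImplicit false
universe u
open CategoryTheory CategoryTheory.Limits AlgebraicGeometry
open AlgSp

namespace Groth.Agent.S9883

/-- A representable etale surjective map of sheaves is locally surjective. -/
theorem isLocallySurjective_of_etale_surjective {S : Scheme.{u}} {F G : AlgSp.Sp S} (q : F ⟶ G)
    (hqe : AlgSp.RepWith @Etale q) (hqs : AlgSp.RepWith @Surjective q) :
    Sheaf.IsLocallySurjective q := by
  refine Groth.Agent.S9885.result S F G q ?_ ?_ hqs
  · refine MorphismProperty.relative_monotone ?_ _ hqe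
    intro A B f hf
    have : Etale ((Over.forget S).map f) := hf
    change Flat ((Over.forget S).map f)
    infer_instance
  · refine MorphismProperty.relative_monotone ?_ _ hqe
    intro A B f hf
    have : Etale ((Over.forget S).map f) := hf
    change LocallyOfFinitePresentation ((Over.forget S).map f)
    infer_instance

/-- Chart criterion for sheaves: `f` representable, `q` a representable etale surjective chart of
the target, `g` the base change of `f` to the chart. -/
theorem repWith_iff_of_chart {S : Scheme.{u}} {X Y : AlgSp.Sp S} (f : Y ⟶ X)
    (hf : AlgSp.Representable f) {U V : Over S} (q : (AlgSp.yon S).obj U ⟶ X)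
    (hqe : AlgSp.RepWith @Etale q) (hqs : AlgSp.RepWith @Surjective q)
    (fst : (AlgSp.yon S).obj V ⟶ Y) (g : V ⟶ U) (sq : IsPullback fst ((AlgSp.yon S).map g) f q)
    (P : MorphismProperty Scheme.{u}) [P.IsStableUnderBaseChange]
    [P.IsLocalAtTarget Scheme.fppfPrecoverage] :
    AlgSp.RepWith P f ↔ P g.left := by
  constructor
  · intro h
    exact h.property _ _ _ sq
  · intro h
    have := isLocallySurjective_of_etale_surjective q hqe hqs
    exact Groth.Agent.S9884.result S Y X _ f hf q _ fst _ sq P
      ((AlgSp.repWith_yon_map_iff P g).2 h)

/-- Let `f : Y ⟶ X` be a morphism of algebraic spaces over `S` which is representable by schemes, let `q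
: h_U ⟶ X` be representable etale and surjective with `U` a scheme over `S`, and let `h_V ⟶ Y`, `g :
V ⟶ U` be a base change of `f` along `q`. Let `P` be a property of morphisms of schemes which is
stable under base change and fppf local on the base. Then `f` has `P` (in the representable sense)
if and only if `g` has `P`. -/
theorem result (S : Scheme.{u}) (X Y : AlgSp.Space S) (f : Y.obj ⟶ X.obj)
    (hf : AlgSp.Representable f) {U V : Over S} (q : (AlgSp.yon S).obj U ⟶ X.obj)
    (hqe : AlgSp.RepWith @Etale q) (hqs : AlgSp.RepWith @Surjective q)
    (fst : (AlgSp.yon S).obj V ⟶ Y.obj) (g : V ⟶ U) (sq : IsPullback fst ((AlgSp.yon S).map g) f q)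
    (P : MorphismProperty Scheme.{u}) [P.IsStableUnderBaseChange] [P.IsLocalAtTarget Scheme.fppfPrecoverage] :
    AlgSp.RepWith P f ↔ P g.left := by
  exact repWith_iff_of_chart f hf q hqe hqs fst g sq P

end Groth.Agent.S9883
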