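import Groth.Statements.S1487
import Mathlib
set_option backward.isDefEq.respectTransparency.types false

set_option autoImplicit false
universe u
open FlatMor

namespace Groth.Agent.S1487

open CategoryTheory CategoryTheory.Limits AlgebraicGeometry TopologicalSpace

/-- A morphism from an affine scheme landing in an affine open factors through `fromSpec`. -/
theorem exists_factor {X : Scheme.{u}} {C : CommRingCat.{u}} (l : Spec C ⟶ X) {U : X.Opens}
    (hU : IsAffineOpen U) (h : ∀ w, l w ∈ U) :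
    ∃ ψ : Γ(X, U) ⟶ C, l = Spec.map ψ ≫ hU.fromSpec := by
  have hr : Set.range l ⊆ Set.range U.ι := by
    rintro _ ⟨w, rfl⟩
    simpa using h w
  let l' : Spec C ⟶ U.toScheme := IsOpenImmersion.lift U.ι l hr
  have hl' : l' ≫ U.ι = l := IsOpenImmersion.lift_fac _ _ _
  refine ⟨Spec.preimage (l' ≫ hU.isoSpec.hom), ?_⟩
  rw [Spec.map_preimage, IsAffineOpen.fromSpec, Category.assoc, Iso.hom_inv_id_assoc, hl']

theorem cancel_fromSpec {X : Scheme.{u}} {C : CommRingCat.{u}} {U : X.Opens}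
    (hU : IsAffineOpen U) (ψ₁ ψ₂ : Γ(X, U) ⟶ C)
    (h : Spec.map ψ₁ ≫ hU.fromSpec = Spec.map ψ₂ ≫ hU.fromSpec) : ψ₁ = ψ₂ := by
  haveI : Mono hU.fromSpec := inferInstance
  rw [cancel_mono] at h
  exact Spec.map_injective h


section
variable {X Y : Scheme.{u}} (f : X ⟶ Y) {A : Type u} [CommRing A] (I : Ideal A)
  (a : Spec (CommRingCat.of (A ⧸ I)) ⟶ X) (b : Spec (CommRingCat.of A) ⟶ Y)

/-- `l : Spec C ⟶ X` is a lift of the lifting problem `(a, b)` pulled back along `θ : A → C`. -/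
def IsLocalLift {C : Type u} [CommRing C] (θ : A →+* C) (l : Spec (CommRingCat.of C) ⟶ X) : Prop :=
  l ≫ f = Spec.map (CommRingCat.ofHom θ) ≫ b ∧
  ∀ (D : Type u) [CommRing D] (α : C →+* D) (β : A ⧸ I →+* D),
    α.comp θ = β.comp (Ideal.Quotient.mk I) →
    Spec.map (CommRingCat.ofHom α) ≫ l = Spec.map (CommRingCat.ofHom β) ≫ a

variable {f I a b}

theorem IsLocalLift.of_quotient {C : Type u} [CommRing C] (θ : A →+* C)
    (l : Spec (CommRingCat.of C) ⟶ X) (h1 : l ≫ f = Spec.map (CommRingCat.ofHom θ) ≫ b)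
    (h2 : Spec.map (CommRingCat.ofHom (Ideal.Quotient.mk (I.map θ))) ≫ l =
      Spec.map (CommRingCat.ofHom (Ideal.quotientMap (I.map θ) θ Ideal.le_comap_map)) ≫ a) :
    IsLocalLift f I a b θ l := by
  refine ⟨h1, fun D _ α β hαβ => ?_⟩
  have hker : ∀ x ∈ I.map θ, α x = 0 := by
    intro x hx
    have : I.map θ ≤ RingHom.ker α := by
      rw [Ideal.map_le_iff_le_comap]
      intro y hy
      rw [Ideal.mem_comap, RingHom.mem_ker]
      have := congrArg (fun g => g y) hαβ
      simp only [RingHom.comp_apply] at this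
      rw [this, Ideal.Quotient.eq_zero_iff_mem.mpr hy, map_zero]
    exact this hx
  let α' : C ⧸ I.map θ →+* D := Ideal.Quotient.lift (I.map θ) α hker
  have e1 : α = α'.comp (Ideal.Quotient.mk (I.map θ)) := by
    ext x; simp [α']
  have e2 : β = α'.comp (Ideal.quotientMap (I.map θ) θ Ideal.le_comap_map) := by
    apply Ideal.Quotient.ringHom_ext
    ext x
    have := congrArg (fun g => g x) hαβ
    simp only [RingHom.comp_apply] at this
    simp [α', this]
  rw [e1, e2, CommRingCat.ofHom_comp, CommRingCat.ofHom_comp, Spec.map_comp, Spec.map_comp,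
    Category.assoc, Category.assoc, h2]

theorem IsLocalLift.comp {C C' : Type u} [CommRing C] [CommRing C'] {θ : A →+* C}
    {l : Spec (CommRingCat.of C) ⟶ X} (hl : IsLocalLift f I a b θ l) (θ' : C →+* C') :
    IsLocalLift f I a b (θ'.comp θ) (Spec.map (CommRingCat.ofHom θ') ≫ l) := by
  refine ⟨?_, fun D _ α β hαβ => ?_⟩
  · rw [Category.assoc, hl.1, CommRingCat.ofHom_comp, Spec.map_comp, Category.assoc]
  · rw [← Category.assoc, ← Spec.map_comp, ← CommRingCat.ofHom_comp]
    exact hl.2 D (α.comp θ') β (by rw [RingHom.comp_assoc, hαβ])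

end


section
variable {X Y : Scheme.{u}} {f : X ⟶ Y} {A : Type u} [CommRing A] {I : Ideal A}
  {a : Spec (CommRingCat.of (A ⧸ I)) ⟶ X} {b : Spec (CommRingCat.of A) ⟶ Y}

theorem exists_affine_pair (f : X ⟶ Y) (x : X) :
    ∃ (U : X.Opens) (V : Y.Opens) (hU : IsAffineOpen U) (hV : IsAffineOpen V)
      (_ : U ≤ f ⁻¹ᵁ V), x ∈ U := by
  obtain ⟨_, ⟨V, hV, rfl⟩, hxV, -⟩ :=
    Y.isBasis_affineOpens.exists_subset_of_mem_open (Set.mem_univ (f x)) isOpen_univ
  obtain ⟨_, ⟨U, hU, rfl⟩, hxU, hUV⟩ :=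
    X.isBasis_affineOpens.exists_subset_of_mem_open hxV (V.2.preimage f.continuous)
  exact ⟨U, V, hU, hV, hUV, hxU⟩

theorem surjective_SpecMap_mk {C : Type u} [CommRing C] (K : Ideal C) (hK : K ^ 2 = ⊥)
    (w : Spec (CommRingCat.of C)) :
    ∃ w' : Spec (CommRingCat.of (C ⧸ K)),
      Spec.map (CommRingCat.ofHom (Ideal.Quotient.mk K)) w' = w := by
  have hle : K ≤ w.asIdeal := by
    apply Ideal.IsPrime.le_of_pow_le (n := 2)
    rw [hK]
    exact bot_le
  have : (w : PrimeSpectrum C) ∈ Set.range (PrimeSpectrum.comap (Ideal.Quotient.mk K)) := by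
    rw [_root_.range_comap_of_surjective _ _ Ideal.Quotient.mk_surjective, Ideal.mk_ker]
    exact (PrimeSpectrum.mem_zeroLocus _ _).mpr hle
  obtain ⟨w', hw'⟩ := this
  exact ⟨w', hw'⟩

theorem IsLocalLift.unique
    (H : ∀ (U : X.Opens) (V : Y.Opens) (hU : IsAffineOpen U) (hV : IsAffineOpen V)
      (hUV : U ≤ f ⁻¹ᵁ V),
      letI := (f.appLE V U hUV).hom.toAlgebra
      Algebra.FormallyUnramified Γ(Y, V) Γ(X, U))
    (hI : I ^ 2 = ⊥) {C : Type u} [CommRing C] {θ : A →+* C}
    {l₁ l₂ : Spec (CommRingCat.of C) ⟶ X}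
    (h₁ : IsLocalLift f I a b θ l₁) (h₂ : IsLocalLift f I a b θ l₂) : l₁ = l₂ := by
  have hK : ∀ {C' : Type u} [CommRing C'] (θ' : A →+* C'), (I.map θ') ^ 2 = ⊥ := by
    intro C' _ θ'
    rw [← Ideal.map_pow, hI, Ideal.map_bot]
  -- topological agreement
  have htop : ∀ w, l₁ w = l₂ w := by
    intro w
    obtain ⟨w', rfl⟩ := surjective_SpecMap_mk (I.map θ) (hK θ) w
    have e := (h₁.2 _ (Ideal.Quotient.mk (I.map θ))
      (Ideal.quotientMap (I.map θ) θ Ideal.le_comap_map) (by ext; simp)).trans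
      (h₂.2 _ (Ideal.Quotient.mk (I.map θ))
      (Ideal.quotientMap (I.map θ) θ Ideal.le_comap_map) (by ext; simp)).symm
    rw [← Scheme.Hom.comp_apply, ← Scheme.Hom.comp_apply, e]
  -- choose local data
  have key : ∀ w : Spec (CommRingCat.of C), ∃ r : C, r ∉ w.asIdeal ∧
      Spec.map (CommRingCat.ofHom (algebraMap C (Localization.Away r))) ≫ l₁ =
      Spec.map (CommRingCat.ofHom (algebraMap C (Localization.Away r))) ≫ l₂ := by
    intro w
    obtain ⟨U, V, hU, hV, hUV, hwU⟩ := exists_affine_pair f (l₁ w)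
    obtain ⟨_, ⟨r, rfl⟩, hwr, hrU⟩ :=
      PrimeSpectrum.isTopologicalBasis_basic_opens.exists_subset_of_mem_open
        (show w ∈ (l₁ ⁻¹ᵁ U : Set _) from hwU) (l₁ ⁻¹ᵁ U).2
    refine ⟨r, hwr, ?_⟩
    set φ := algebraMap C (Localization.Away r) with hφ
    have hrange : ∀ y : Spec (CommRingCat.of (Localization.Away r)),
        (Spec.map (CommRingCat.ofHom φ) y : PrimeSpectrum C) ∈
          (PrimeSpectrum.basicOpen r : Set (PrimeSpectrum C)) := by
      intro y
      have := PrimeSpectrum.localization_away_comap_range (Localization.Away r) r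
      rw [← this]
      exact ⟨y, rfl⟩
    have hm₁ : ∀ y, (Spec.map (CommRingCat.ofHom φ) ≫ l₁) y ∈ U := fun y => hrU (hrange y)
    have hm₂ : ∀ y, (Spec.map (CommRingCat.ofHom φ) ≫ l₂) y ∈ U := by
      intro y
      rw [Scheme.Hom.comp_apply, ← htop]
      exact hrU (hrange y)
    obtain ⟨ψ₁, hψ₁⟩ := exists_factor _ hU hm₁
    obtain ⟨ψ₂, hψ₂⟩ := exists_factor _ hU hm₂
    have hc₁ := h₁.comp φ
    have hc₂ := h₂.comp φ
    rw [hψ₁] at hc₁
    rw [hψ₂] at hc₂
    suffices hψ : ψ₁ = ψ₂ by rw [hψ₁, hψ₂, hψ]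
    -- compatibility with the base
    have hbase : f.appLE V U hUV ≫ ψ₁ = f.appLE V U hUV ≫ ψ₂ := by
      apply cancel_fromSpec hV
      rw [Spec.map_comp, Spec.map_comp, Category.assoc, Category.assoc,
        IsAffineOpen.SpecMap_appLE_fromSpec f hV hU hUV, ← Category.assoc, ← Category.assoc,
        hc₁.1, hc₂.1]
    set K := I.map (φ.comp θ) with hKdef
    have hquot : ψ₁ ≫ CommRingCat.ofHom (Ideal.Quotient.mk K) =
        ψ₂ ≫ CommRingCat.ofHom (Ideal.Quotient.mk K) := by
      apply cancel_fromSpec hU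
      rw [Spec.map_comp, Spec.map_comp, Category.assoc, Category.assoc]
      exact (hc₁.2 _ (Ideal.Quotient.mk K)
        (Ideal.quotientMap K (φ.comp θ) Ideal.le_comap_map) (by ext; simp)).trans
        (hc₂.2 _ (Ideal.Quotient.mk K)
        (Ideal.quotientMap K (φ.comp θ) Ideal.le_comap_map) (by ext; simp)).symm
    letI := (f.appLE V U hUV).hom.toAlgebra
    haveI := H U V hU hV hUV
    letI : Algebra Γ(Y, V) (Localization.Away r) :=
      (ψ₁.hom.comp (f.appLE V U hUV).hom).toAlgebra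
    let g₁ : Γ(X, U) →ₐ[Γ(Y, V)] Localization.Away r := ⟨ψ₁.hom, fun _ => rfl⟩
    let g₂ : Γ(X, U) →ₐ[Γ(Y, V)] Localization.Away r := ⟨ψ₂.hom, fun x => by
      have := congrArg (fun g => g.hom x) hbase
      exact this.symm⟩
    have hg : g₁ = g₂ := by
      refine Algebra.FormallyUnramified.ext' (Ideal.Quotient.mk K) ?_ g₁ g₂ ?_
      · rw [Ideal.mk_ker]
        exact ⟨2, hK _⟩
      · intro x
        exact congrArg (fun g => g.hom x) hquot
    ext x
    exact congrArg (fun g => g x) hg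
  choose s hs hs' using key
  have hspan : Ideal.span (Set.range s) = ⊤ := by
    by_contra hne
    obtain ⟨m, hm, hle⟩ := Ideal.exists_le_maximal _ hne
    exact hs ⟨m, hm.isPrime⟩ (hle (Ideal.subset_span ⟨_, rfl⟩))
  refine Scheme.Cover.hom_ext
    (Scheme.affineOpenCoverOfSpanRangeEqTop (R := CommRingCat.of C) s hspan).openCover _ _ ?_
  intro w
  exact hs' w

end


section
variable {X Y : Scheme.{u}} {f : X ⟶ Y} {A : Type u} [CommRing A] {I : Ideal A}
  {a : Spec (CommRingCat.of (A ⧸ I)) ⟶ X} {b : Spec (CommRingCat.of A) ⟶ Y}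

theorem exists_localLift
    (H : ∀ (U : X.Opens) (V : Y.Opens) (hU : IsAffineOpen U) (hV : IsAffineOpen V)
      (hUV : U ≤ f ⁻¹ᵁ V),
      letI := (f.appLE V U hUV).hom.toAlgebra
      Algebra.FormallySmooth Γ(Y, V) Γ(X, U))
    (hI : I ^ 2 = ⊥)
    (hab : Spec.map (CommRingCat.ofHom (Ideal.Quotient.mk I)) ≫ b = a ≫ f)
    (z : Spec (CommRingCat.of A)) :
    ∃ r : A, r ∉ z.asIdeal ∧ ∃ l : Spec (CommRingCat.of (Localization.Away r)) ⟶ X,
      IsLocalLift f I a b (algebraMap A (Localization.Away r)) l := by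
  obtain ⟨z', rfl⟩ := surjective_SpecMap_mk I hI z
  obtain ⟨U, V, hU, hV, hUV, hzU⟩ := exists_affine_pair f (a z')
  obtain ⟨_, ⟨rbar, rfl⟩, hzr, hrU⟩ :=
    PrimeSpectrum.isTopologicalBasis_basic_opens.exists_subset_of_mem_open
      (show z' ∈ (a ⁻¹ᵁ U : Set _) from hzU) (a ⁻¹ᵁ U).2
  obtain ⟨r, rfl⟩ := Ideal.Quotient.mk_surjective rbar
  have hmem : ∀ y : Spec (CommRingCat.of (A ⧸ I)),
      r ∉ (Spec.map (CommRingCat.ofHom (Ideal.Quotient.mk I)) y).asIdeal → a y ∈ U := by
    intro y hy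
    exact hrU hy
  refine ⟨r, hzr, ?_⟩
  set φ := algebraMap A (Localization.Away r) with hφ
  set K := I.map φ with hKdef
  have hK : K ^ 2 = ⊥ := by rw [hKdef, ← Ideal.map_pow, hI, Ideal.map_bot]
  set qm := Ideal.quotientMap K φ Ideal.le_comap_map with hqm
  have hsq : (Ideal.Quotient.mk K).comp φ = qm.comp (Ideal.Quotient.mk I) := by
    ext x; simp [qm]
  have hsq' : Spec.map (CommRingCat.ofHom (Ideal.Quotient.mk K)) ≫
      Spec.map (CommRingCat.ofHom φ) = Spec.map (CommRingCat.ofHom qm) ≫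
      Spec.map (CommRingCat.ofHom (Ideal.Quotient.mk I)) := by
    rw [← Spec.map_comp, ← Spec.map_comp, ← CommRingCat.ofHom_comp, ← CommRingCat.ofHom_comp, hsq]
  -- `a_r` lands in `U`
  have ha : ∀ y, (Spec.map (CommRingCat.ofHom qm) ≫ a) y ∈ U := by
    intro y
    rw [Scheme.Hom.comp_apply]
    apply hmem
    intro hr
    have h1 : qm (Ideal.Quotient.mk I r) ∈ y.asIdeal := hr
    have h2 : qm (Ideal.Quotient.mk I r) = Ideal.Quotient.mk K (φ r) := by simp [qm]
    rw [h2] at h1
    have hu : IsUnit (Ideal.Quotient.mk K (φ r)) :=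
      (IsLocalization.Away.algebraMap_isUnit (S := Localization.Away r) r).map _
    exact y.isPrime.ne_top (Ideal.eq_top_of_isUnit_mem _ h1 hu)
  obtain ⟨αbar, hαbar⟩ := exists_factor _ hU ha
  -- `b_r` lands in `V`
  have hb : ∀ y, (Spec.map (CommRingCat.ofHom φ) ≫ b) y ∈ V := by
    intro y
    rw [Scheme.Hom.comp_apply]
    obtain ⟨y₁, hy₁⟩ := surjective_SpecMap_mk I hI (Spec.map (CommRingCat.ofHom φ) y)
    rw [← hy₁, ← Scheme.Hom.comp_apply, hab, Scheme.Hom.comp_apply]
    apply hUV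
    apply hmem
    rw [hy₁]
    intro hr
    have h1 : φ r ∈ y.asIdeal := hr
    exact y.isPrime.ne_top (Ideal.eq_top_of_isUnit_mem _ h1
      (IsLocalization.Away.algebraMap_isUnit (S := Localization.Away r) r))
  obtain ⟨β, hβ⟩ := exists_factor _ hV hb
  have hcompat : f.appLE V U hUV ≫ αbar = β ≫ CommRingCat.ofHom (Ideal.Quotient.mk K) := by
    apply cancel_fromSpec hV
    rw [Spec.map_comp, Spec.map_comp, Category.assoc, Category.assoc,
      IsAffineOpen.SpecMap_appLE_fromSpec f hV hU hUV, ← Category.assoc, ← hαbar, ← hβ,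
      Category.assoc, ← hab, ← Category.assoc, ← Category.assoc, hsq']
  letI := (f.appLE V U hUV).hom.toAlgebra
  haveI := H U V hU hV hUV
  letI : Algebra Γ(Y, V) (Localization.Away r) := β.hom.toAlgebra
  let g : Γ(X, U) →ₐ[Γ(Y, V)] Localization.Away r ⧸ K := ⟨αbar.hom, fun x => by
    have := congrArg (fun g => g.hom x) hcompat
    exact this⟩
  obtain ⟨ψ, hψ⟩ := Algebra.FormallySmooth.exists_lift K ⟨2, hK⟩ g
  refine ⟨Spec.map (CommRingCat.ofHom ψ.toRingHom) ≫ hU.fromSpec, ?_⟩
  apply IsLocalLift.of_quotient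
  · rw [Category.assoc, ← IsAffineOpen.SpecMap_appLE_fromSpec f hV hU hUV, ← Category.assoc,
      ← Spec.map_comp, hβ]
    congr 2
    ext x
    exact ψ.commutes x
  · show _ = Spec.map (CommRingCat.ofHom qm) ≫ a
    rw [← Category.assoc, ← Spec.map_comp, hαbar]
    congr 2
    ext x
    exact congrArg (fun g => g x) hψ

end


section
variable {X Y : Scheme.{u}} {f : X ⟶ Y}

open TensorProduct in
theorem lifting_of_affine
    (H : ∀ (U : X.Opens) (V : Y.Opens) (hU : IsAffineOpen U) (hV : IsAffineOpen V)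
      (hUV : U ≤ f ⁻¹ᵁ V),
      letI := (f.appLE V U hUV).hom.toAlgebra
      Algebra.FormallyEtale Γ(Y, V) Γ(X, U)) : MoreMor.IsFormallyEtaleHom f := by
  have Hs : ∀ (U : X.Opens) (V : Y.Opens) (hU : IsAffineOpen U) (hV : IsAffineOpen V)
      (hUV : U ≤ f ⁻¹ᵁ V),
      letI := (f.appLE V U hUV).hom.toAlgebra
      Algebra.FormallySmooth Γ(Y, V) Γ(X, U) := by
    intro U V hU hV hUV
    letI := (f.appLE V U hUV).hom.toAlgebra
    haveI := H U V hU hV hUV
    infer_instance
  have Hu : ∀ (U : X.Opens) (V : Y.Opens) (hU : IsAffineOpen U) (hV : IsAffineOpen V)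
      (hUV : U ≤ f ⁻¹ᵁ V),
      letI := (f.appLE V U hUV).hom.toAlgebra
      Algebra.FormallyUnramified Γ(Y, V) Γ(X, U) := by
    intro U V hU hV hUV
    letI := (f.appLE V U hUV).hom.toAlgebra
    haveI := H U V hU hV hUV
    infer_instance
  intro A _ I hI a b hab
  -- any global lift is a local lift for the identity
  have hglob : ∀ l : Spec (CommRingCat.of A) ⟶ X,
      Spec.map (CommRingCat.ofHom (Ideal.Quotient.mk I)) ≫ l = a ∧ l ≫ f = b →
      IsLocalLift f I a b (RingHom.id A) l := by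
    rintro l ⟨h1, h2⟩
    refine ⟨?_, fun D _ α β hαβ => ?_⟩
    · rw [h2]
      have : CommRingCat.ofHom (RingHom.id A) = 𝟙 (CommRingCat.of A) := rfl
      rw [this, Spec.map_id, Category.id_comp]
    · rw [RingHom.comp_id] at hαβ
      rw [hαβ, CommRingCat.ofHom_comp, Spec.map_comp, Category.assoc, h1]
  choose s hs l hl using exists_localLift (a := a) (b := b) Hs hI hab
  have hspan : Ideal.span (Set.range s) = ⊤ := by
    by_contra hne
    obtain ⟨m, hm, hle⟩ := Ideal.exists_le_maximal _ hne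
    exact hs ⟨m, hm.isPrime⟩ (hle (Ideal.subset_span ⟨_, rfl⟩))
  let 𝒰 : (Spec (CommRingCat.of A)).OpenCover :=
    (Scheme.affineOpenCoverOfSpanRangeEqTop (R := CommRingCat.of A) s hspan).openCover
  have hcompat : ∀ x y : 𝒰.I₀, pullback.fst (𝒰.f x) (𝒰.f y) ≫ l x = pullback.snd _ _ ≫ l y := by
    intro x y
    show pullback.fst
      (Spec.map (CommRingCat.ofHom (algebraMap A (Localization.Away (s x)))))
      (Spec.map (CommRingCat.ofHom (algebraMap A (Localization.Away (s y))))) ≫ l x =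
      pullback.snd _ _ ≫ l y
    rw [← cancel_epi (pullbackSpecIso A (Localization.Away (s x)) (Localization.Away (s y))).inv,
      pullbackSpecIso_inv_fst_assoc, pullbackSpecIso_inv_snd_assoc]
    have h1 := (hl x).comp (Algebra.TensorProduct.includeLeftRingHom
      (R := A) (A := Localization.Away (s x)) (B := Localization.Away (s y)))
    have h2 := (hl y).comp (Algebra.TensorProduct.includeRight
      (R := A) (A := Localization.Away (s x)) (B := Localization.Away (s y))).toRingHom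
    have e : (Algebra.TensorProduct.includeLeftRingHom
        (R := A) (A := Localization.Away (s x)) (B := Localization.Away (s y))).comp
        (algebraMap A (Localization.Away (s x))) =
        (Algebra.TensorProduct.includeRight
        (R := A) (A := Localization.Away (s x)) (B := Localization.Away (s y))).toRingHom.comp
        (algebraMap A (Localization.Away (s y))) := by
      ext r
      show (algebraMap A (Localization.Away (s x)) r) ⊗ₜ[A] (1 : Localization.Away (s y)) =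
        (1 : Localization.Away (s x)) ⊗ₜ[A] (algebraMap A (Localization.Away (s y)) r)
      rw [Algebra.algebraMap_eq_smul_one, Algebra.algebraMap_eq_smul_one, TensorProduct.smul_tmul]
    rw [e] at h1
    exact IsLocalLift.unique Hu hI h1 h2
  let L := 𝒰.glueMorphisms l hcompat
  have hL : ∀ z, Spec.map (CommRingCat.ofHom (algebraMap A (Localization.Away (s z)))) ≫ L = l z :=
    fun z => 𝒰.ι_glueMorphisms l hcompat z
  have hL2 : L ≫ f = b := by
    refine 𝒰.hom_ext _ _ fun z => ?_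
    show Spec.map (CommRingCat.ofHom (algebraMap A (Localization.Away (s z)))) ≫ L ≫ f = _
    rw [← Category.assoc, hL, (hl z).1]
    rfl
  have hL1 : Spec.map (CommRingCat.ofHom (Ideal.Quotient.mk I)) ≫ L = a := by
    have hspan' : Ideal.span (Set.range fun z => Ideal.Quotient.mk I (s z)) = ⊤ := by
      have := congrArg (Ideal.map (Ideal.Quotient.mk I)) hspan
      rw [Ideal.map_span, Ideal.map_top, ← Set.range_comp] at this
      exact this
    refine (Scheme.affineOpenCoverOfSpanRangeEqTop (R := CommRingCat.of (A ⧸ I))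
      (fun z => Ideal.Quotient.mk I (s z)) hspan').openCover.hom_ext _ _ fun z => ?_
    show Spec.map (CommRingCat.ofHom (algebraMap (A ⧸ I)
      (Localization.Away (Ideal.Quotient.mk I (s z))))) ≫ _ = Spec.map _ ≫ a
    let μ : Localization.Away (s z) →+* Localization.Away (Ideal.Quotient.mk I (s z)) :=
      Localization.awayMap (Ideal.Quotient.mk I) (s z)
    have hμ : μ.comp (algebraMap A (Localization.Away (s z))) =
        (algebraMap (A ⧸ I) (Localization.Away (Ideal.Quotient.mk I (s z)))).comp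
          (Ideal.Quotient.mk I) := IsLocalization.map_comp _
    rw [← Category.assoc, ← Spec.map_comp, ← CommRingCat.ofHom_comp, ← hμ,
      CommRingCat.ofHom_comp, Spec.map_comp, Category.assoc, hL]
    exact (hl z).2 _ μ _ hμ
  refine ⟨L, ⟨hL1, hL2⟩, fun L' hL' => ?_⟩
  exact IsLocalLift.unique Hu hI (hglob L' hL') (hglob L ⟨hL1, hL2⟩)

end


section
variable {X Y : Scheme.{u}} {f : X ⟶ Y}

theorem affine_of_lifting (hf : MoreMor.IsFormallyEtaleHom f) (U : X.Opens) (V : Y.Opens)
    (hU : IsAffineOpen U) (hV : IsAffineOpen V) (hUV : U ≤ f ⁻¹ᵁ V) :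
    letI := (f.appLE V U hUV).hom.toAlgebra
    Algebra.FormallyEtale Γ(Y, V) Γ(X, U) := by
  letI := (f.appLE V U hUV).hom.toAlgebra
  rw [Algebra.FormallyEtale.iff_comp_bijective]
  intro B _ _ I hI
  -- the lifting problem attached to `φbar`
  have hab : ∀ φbar : Γ(X, U) →ₐ[Γ(Y, V)] B ⧸ I,
      Spec.map (CommRingCat.ofHom (Ideal.Quotient.mk I)) ≫
        (Spec.map (CommRingCat.ofHom (algebraMap Γ(Y, V) B)) ≫ hV.fromSpec) =
      (Spec.map (CommRingCat.ofHom φbar.toRingHom) ≫ hU.fromSpec) ≫ f := by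
    intro φbar
    rw [Category.assoc, ← IsAffineOpen.SpecMap_appLE_fromSpec f hV hU hUV, ← Category.assoc,
      ← Category.assoc, ← Spec.map_comp, ← Spec.map_comp]
    congr 2
    ext x
    exact (φbar.commutes x).symm
  have hlift : ∀ ψ : Γ(X, U) →ₐ[Γ(Y, V)] B,
      Spec.map (CommRingCat.ofHom (Ideal.Quotient.mk I)) ≫
        (Spec.map (CommRingCat.ofHom ψ.toRingHom) ≫ hU.fromSpec) =
      Spec.map (CommRingCat.ofHom ((Ideal.Quotient.mkₐ Γ(Y, V) I).comp ψ).toRingHom) ≫
        hU.fromSpec ∧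
      (Spec.map (CommRingCat.ofHom ψ.toRingHom) ≫ hU.fromSpec) ≫ f =
        Spec.map (CommRingCat.ofHom (algebraMap Γ(Y, V) B)) ≫ hV.fromSpec := by
    intro ψ
    constructor
    · rw [← Category.assoc, ← Spec.map_comp]
      rfl
    · rw [Category.assoc, ← IsAffineOpen.SpecMap_appLE_fromSpec f hV hU hUV, ← Category.assoc,
        ← Spec.map_comp]
      congr 2
      ext x
      exact ψ.commutes x
  constructor
  · intro ψ₁ ψ₂ e
    obtain ⟨l, -, hl⟩ := hf B I hI _ _ (hab ((Ideal.Quotient.mkₐ Γ(Y, V) I).comp ψ₁))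
    have h1 := hl _ (hlift ψ₁)
    have h2 := hl _ (by
      have := hlift ψ₂
      rw [← e] at this
      exact this)
    have h3 := cancel_fromSpec hU _ _ (h1.trans h2.symm)
    ext x
    exact congrArg (fun g => g.hom x) h3
  · intro φbar
    obtain ⟨l, ⟨hl1, hl2⟩, -⟩ := hf B I hI _ _ (hab φbar)
    have hlU : ∀ w, l w ∈ U := by
      intro w
      obtain ⟨w', rfl⟩ := surjective_SpecMap_mk I hI w
      rw [← Scheme.Hom.comp_apply, hl1, Scheme.Hom.comp_apply]
      have : hU.fromSpec (Spec.map (CommRingCat.ofHom φbar.toRingHom) w') ∈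
          Set.range hU.fromSpec := ⟨_, rfl⟩
      rw [IsAffineOpen.range_fromSpec] at this
      exact this
    obtain ⟨ψ₀, hψ₀⟩ := exists_factor l hU hlU
    have hbase : f.appLE V U hUV ≫ ψ₀ = CommRingCat.ofHom (algebraMap Γ(Y, V) B) := by
      apply cancel_fromSpec hV
      rw [Spec.map_comp, Category.assoc, IsAffineOpen.SpecMap_appLE_fromSpec f hV hU hUV,
        ← Category.assoc, ← hψ₀, hl2]
    have hquot : ψ₀ ≫ CommRingCat.ofHom (Ideal.Quotient.mk I) =
        CommRingCat.ofHom φbar.toRingHom := by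
      apply cancel_fromSpec hU
      rw [Spec.map_comp, Category.assoc, ← hψ₀, hl1]
    refine ⟨⟨ψ₀.hom, fun x => congrArg (fun g => g.hom x) hbase⟩, ?_⟩
    ext x
    exact congrArg (fun g => g.hom x) hquot

end


open AlgebraicGeometry CategoryTheory Limits in
/-- (1) ⇔ (3): a morphism f : X → Y is formally étale (unique lifting against first order thickenings of
affine schemes, rings in the same universe) if and only if for all affine opens U ⊆ f⁻¹(V) the ring
map O_Y(V) → O_X(U) is formally étale. -/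
theorem result {X Y : Scheme.{u}} (f : X ⟶ Y) :
    MoreMor.IsFormallyEtaleHom f ↔ ∀ (U : X.Opens) (V : Y.Opens) (hU : IsAffineOpen U) (hV : IsAffineOpen V) (hUV : U ≤ f ⁻¹ᵁ V),
      letI := (f.appLE V U hUV).hom.toAlgebra
      Algebra.FormallyEtale Γ(Y, V) Γ(X, U) := by
  exact ⟨fun hf U V hU hV hUV => affine_of_lifting hf U V hU hV hUV, lifting_of_affine⟩

end Groth.Agent.S1487
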