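import Groth.Statements.S1489
import Groth.Agent.S1487
import Mathlib
set_option backward.isDefEq.respectTransparency.types false

set_option autoImplicit false
universe u
open FlatMor

namespace Groth.Agent.S1489

open CategoryTheory CategoryTheory.Limits AlgebraicGeometry TopologicalSpace


open AlgebraicGeometry CategoryTheory Limits in
/-- A morphism f : X → S is étale if and only if it is locally of finite presentation and formally
étale, i.e. has the unique lifting property against first order thickenings of affine schemes (rings
in the same universe). -/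
theorem result {X S : Scheme.{u}} (f : X ⟶ S) :
    Etale f ↔ LocallyOfFinitePresentation f ∧ MoreMor.IsFormallyEtaleHom f := by
  constructor
  · intro hf
    refine ⟨inferInstance, ?_⟩
    apply Groth.Agent.S1487.lifting_of_affine
    intro U V hU hV hUV
    have het : (f.appLE V U hUV).hom.Etale :=
      HasRingHomProperty.appLE (P := @Etale) _ hf ⟨V, hV⟩ ⟨U, hU⟩ _
    letI := (f.appLE V U hUV).hom.toAlgebra
    haveI : Algebra.Etale Γ(S, V) Γ(X, U) := het
    infer_instance
  · rintro ⟨hfp, hf⟩
    rw [HasRingHomProperty.iff_appLE (P := @Etale)]
    intro V U hUV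
    have h1 := Groth.Agent.S1487.affine_of_lifting hf U.1 V.1 U.2 V.2 hUV
    have h2 : (f.appLE V.1 U.1 hUV).hom.FinitePresentation :=
      HasRingHomProperty.appLE (P := @LocallyOfFinitePresentation) _ hfp V U _
    letI := (f.appLE V.1 U.1 hUV).hom.toAlgebra
    haveI : Algebra.FinitePresentation Γ(S, V.1) Γ(X, U.1) := h2
    haveI := h1
    have : Algebra.Etale Γ(S, V.1) Γ(X, U.1) := ⟨inferInstance, inferInstance⟩
    exact this

end Groth.Agent.S1489
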