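import Groth.Statements.S2144
import Groth.Agent.Lib.Helper21.FlatDescR

set_option autoImplicit false
universe u
open CAlg

namespace Groth.Agent.S2144

open TensorProduct in
/-- Let `R → A → B` be ring maps with `A → B` faithfully flat and of finite presentation. Then there are
an `R`-algebra `A₀` of finite presentation mapping to `A` and a faithfully flat finitely presented
`A₀`-algebra `B₀` with `B ≅ A ⊗_{A₀} B₀` as `A`-algebras. -/
theorem result {R A B : Type u} [CommRing R] [CommRing A] [CommRing B] [Algebra R A]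
    [Algebra A B] [Algebra.FinitePresentation A B] [Module.FaithfullyFlat A B] :
    ∃ (A₀ B₀ : Type u) (_ : CommRing A₀) (_ : CommRing B₀) (_ : Algebra R A₀) (_ : Algebra A₀ A) (_ : IsScalarTower R A₀ A)
      (_ : Algebra A₀ B₀), Algebra.FinitePresentation R A₀ ∧ Algebra.FinitePresentation A₀ B₀ ∧ Module.FaithfullyFlat A₀ B₀ ∧
      Nonempty (B ≃ₐ[A] A ⊗[A₀] B₀) := by
  classical
  obtain ⟨A₁, _, _, _, _, B₁, _, _, _, _, _, _, hfpA₁, hfpB₁, hflatB₁, hpo⟩ :=
    Groth.Agent.Lib.Helper21.FlatDesc.exists_fp_flat_model R A B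
  obtain ⟨A₀, _, _, _, _, hfpA₀, hff⟩ :=
    Groth.Agent.Lib.Helper21.FlatDesc.exists_faithfullyFlat_refinement (A₁ := A₁) (A := A)
      (B₁ := B₁) B
  letI algRA₀ : Algebra R A₀ := ((algebraMap A₁ A₀).comp (algebraMap R A₁)).toAlgebra
  haveI t1 : IsScalarTower R A₁ A₀ := IsScalarTower.of_algebraMap_eq fun _ => rfl
  haveI t2 : IsScalarTower R A₀ A :=
    IsScalarTower.of_algebraMap_eq (R := R) (S := A₀) (A := A) fun r => by
      show _ = algebraMap A₀ A (algebraMap A₁ A₀ (algebraMap R A₁ r))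
      rw [← IsScalarTower.algebraMap_apply A₁ A₀ A, ← IsScalarTower.algebraMap_apply R A₁ A]
  haveI hfpRA₀ : Algebra.FinitePresentation R A₀ := Algebra.FinitePresentation.trans R A₁ A₀
  let e1 : A ⊗[A₀] (A₀ ⊗[A₁] B₁) ≃ₐ[A] A ⊗[A₁] B₁ :=
    Algebra.TensorProduct.cancelBaseChange A₁ A₀ A A B₁
  let e2 : A ⊗[A₁] B₁ ≃ₐ[A] B := Algebra.IsPushout.equiv A₁ A B₁ B
  exact ⟨A₀, A₀ ⊗[A₁] B₁, inferInstance, inferInstance, algRA₀, inferInstance, t2, inferInstance,
    hfpRA₀, inferInstance, hff, ⟨(e1.trans e2).symm⟩⟩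

end Groth.Agent.S2144
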