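import Groth.Statements.S0112
import Groth.Agent.S2144

set_option autoImplicit false
universe u
open EtBase

namespace Groth.Agent.S0112

/-- Finite presentation of an R-algebra A can be tested after passing to an A-algebra B that is
faithfully flat and finitely presented over A: if B is finitely presented over R, then so is A. -/
theorem result {R A B : Type u} [CommRing R] [CommRing A] [CommRing B] [Algebra R A] [Algebra A B]
    [Algebra R B] [IsScalarTower R A B] [Algebra.FinitePresentation R B]
    [Module.FaithfullyFlat A B] [Algebra.FinitePresentation A B] : Algebra.FinitePresentation R A := by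
  classical
  obtain ⟨A₀, B₀, _, _, _, _, _, _, h1, h2, h3, ⟨e⟩⟩ :=
    Groth.Agent.S2144.result (R := R) (A := A) (B := B)
  letI algRB₀ : Algebra R B₀ := ((algebraMap A₀ B₀).comp (algebraMap R A₀)).toAlgebra
  haveI t1 : IsScalarTower R A₀ B₀ := IsScalarTower.of_algebraMap_eq fun _ => rfl
  haveI hfpRB₀ : Algebra.FinitePresentation R B₀ := Algebra.FinitePresentation.trans R A₀ B₀
  -- the ring isomorphism `B ≃ B₀ ⊗ A`
  let σ : B ≃+* TensorProduct A₀ B₀ A :=
    e.toRingEquiv.trans (Algebra.TensorProduct.comm A₀ A B₀).toRingEquiv
  have hσ : (σ : B →+* TensorProduct A₀ B₀ A).comp (algebraMap R B) =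
      (algebraMap B₀ (TensorProduct A₀ B₀ A)).comp (algebraMap R B₀) := by
    ext r
    show (Algebra.TensorProduct.comm A₀ A B₀) (e (algebraMap R B r)) =
      algebraMap B₀ (TensorProduct A₀ B₀ A) (algebraMap A₀ B₀ (algebraMap R A₀ r))
    rw [IsScalarTower.algebraMap_apply R A B, e.commutes, Algebra.TensorProduct.algebraMap_apply,
      Algebra.TensorProduct.comm_tmul, Algebra.TensorProduct.algebraMap_apply,
      IsScalarTower.algebraMap_apply R A₀ A]
    simp only [Algebra.algebraMap_self, RingHom.id_apply]
    rw [Algebra.algebraMap_eq_smul_one (algebraMap R A₀ r), ← TensorProduct.smul_tmul,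
      ← Algebra.algebraMap_eq_smul_one]
  have hfpRB : (algebraMap R B).FinitePresentation :=
    RingHom.finitePresentation_algebraMap.mpr inferInstance
  have hcomp : ((algebraMap B₀ (TensorProduct A₀ B₀ A)).comp (algebraMap R B₀)).FinitePresentation := by
    rw [← hσ]
    exact RingHom.FinitePresentation.comp (RingHom.FinitePresentation.of_bijective σ.bijective) hfpRB
  have hft : (algebraMap R B₀).FiniteType :=
    RingHom.finiteType_algebraMap.mpr inferInstance
  have hfpB₀ : (algebraMap B₀ (TensorProduct A₀ B₀ A)).FinitePresentation :=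
    RingHom.FinitePresentation.of_comp_finiteType _ hcomp hft
  haveI : Algebra.FinitePresentation B₀ (TensorProduct A₀ B₀ A) :=
    RingHom.finitePresentation_algebraMap.mp hfpB₀
  haveI : Algebra.FinitePresentation A₀ A :=
    Algebra.FinitePresentation.of_finitePresentation_tensorProduct_of_faithfullyFlat B₀
  exact Algebra.FinitePresentation.trans R A₀ A

end Groth.Agent.S0112
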