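import Groth.Statements.S10619
import Mathlib
-- import your own Groth.Agent.* helpers here

set_option autoImplicit false
universe u
open CategoryTheory CategoryTheory.Limits AlgebraicGeometry
open AlgSp

namespace Groth.Agent.S10619

variable {S : Scheme.{u}}

/-- change the arrows of a lifting square -/
noncomputable def reSq {F G F' G' : AlgSp.Sp S} {f : F ⟶ G} (sq : AlgSp.InfSq f) (f' : F' ⟶ G')
    (top : (AlgSp.yon S).obj sq.ptT ⟶ F') (bot : (AlgSp.yon S).obj sq.ptT' ⟶ G')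
    (comm : top ≫ f' = (AlgSp.yon S).map sq.j ≫ bot) : AlgSp.InfSq f' where
  A := sq.A
  I := sq.I
  sq_zero := sq.sq_zero
  str := sq.str
  top := top
  bot := bot
  comm := comm

theorem etale_iff {F G : AlgSp.Sp S} (f : F ⟶ G) :
    AlgSp.IsFormallyEtaleMor f ↔ AlgSp.IsFormallySmoothMor f ∧ AlgSp.IsFormallyUnramifiedMor f := by
  constructor
  · intro h
    refine ⟨fun sq => ?_, fun sq => ?_⟩
    · obtain ⟨l, hl, -⟩ := h sq
      exact ⟨l, hl⟩
    · intro l l' h1 h2 h3 h4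
      exact (h sq).unique ⟨h1, h2⟩ ⟨h3, h4⟩
  · rintro ⟨h1, h2⟩ sq
    obtain ⟨l, hl⟩ := h1 sq
    exact ⟨l, hl, fun l' hl' => h2 sq l' l hl'.1 hl'.2 hl.1 hl.2⟩

theorem smooth_comp {F G H : AlgSp.Sp S} (a : F ⟶ G) (b : G ⟶ H)
    (ha : AlgSp.IsFormallySmoothMor a) (hb : AlgSp.IsFormallySmoothMor b) :
    AlgSp.IsFormallySmoothMor (a ≫ b) := by
  intro sq
  obtain ⟨lb, hlb1, hlb2⟩ : ∃ l : (AlgSp.yon S).obj sq.ptT' ⟶ G,
      (AlgSp.yon S).map sq.j ≫ l = sq.top ≫ a ∧ l ≫ b = sq.bot :=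
    hb (reSq sq b (sq.top ≫ a) sq.bot (by rw [Category.assoc]; exact sq.comm))
  obtain ⟨l, hl1, hl2⟩ : ∃ l : (AlgSp.yon S).obj sq.ptT' ⟶ F,
      (AlgSp.yon S).map sq.j ≫ l = sq.top ∧ l ≫ a = lb :=
    ha (reSq sq a sq.top lb hlb1.symm)
  refine ⟨l, hl1, ?_⟩
  rw [← Category.assoc, hl2, hlb2]

theorem unram_comp {F G H : AlgSp.Sp S} (a : F ⟶ G) (b : G ⟶ H)
    (ha : AlgSp.IsFormallyUnramifiedMor a) (hb : AlgSp.IsFormallyUnramifiedMor b) :
    AlgSp.IsFormallyUnramifiedMor (a ≫ b) := by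
  intro sq l l' h1 h2 h3 h4
  have e : l ≫ a = l' ≫ a := by
    refine hb (reSq sq b (sq.top ≫ a) sq.bot (by rw [Category.assoc]; exact sq.comm))
      (l ≫ a) (l' ≫ a) ?_ ?_ ?_ ?_
    · change (AlgSp.yon S).map sq.j ≫ l ≫ a = sq.top ≫ a
      rw [← Category.assoc, h1]
    · change (l ≫ a) ≫ b = sq.bot
      rw [Category.assoc]; exact h2
    · change (AlgSp.yon S).map sq.j ≫ l' ≫ a = sq.top ≫ a
      rw [← Category.assoc, h3]
    · change (l' ≫ a) ≫ b = sq.bot
      rw [Category.assoc]; exact h4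
  refine ha (reSq sq a sq.top (l ≫ a) (by rw [← Category.assoc, h1])) l l' h1 rfl h3 e.symm

/-- A composition of formally smooth, resp. formally etale, resp. formally unramified morphisms of fppf
sheaves on (Sch/S) is again formally smooth, resp. formally etale, resp. formally unramified. (The
published statement is for transformations of arbitrary presheaves of sets on (Sch/S)_fppf; this row
takes fppf sheaves, the case of algebraic spaces.) -/
theorem result {S : Scheme.{u}} {F G H : AlgSp.Sp S} (a : F ⟶ G) (b : G ⟶ H) :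
    (AlgSp.IsFormallySmoothMor a → AlgSp.IsFormallySmoothMor b → AlgSp.IsFormallySmoothMor (a ≫ b)) ∧
    (AlgSp.IsFormallyEtaleMor a → AlgSp.IsFormallyEtaleMor b → AlgSp.IsFormallyEtaleMor (a ≫ b)) ∧
    (AlgSp.IsFormallyUnramifiedMor a → AlgSp.IsFormallyUnramifiedMor b → AlgSp.IsFormallyUnramifiedMor (a ≫ b)) := by
  refine ⟨smooth_comp a b, ?_, unram_comp a b⟩
  intro ha hb
  rw [etale_iff] at ha hb ⊢
  exact ⟨smooth_comp a b ha.1 hb.1, unram_comp a b ha.2 hb.2⟩

end Groth.Agent.S10619
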