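import Groth.Statements.S10618
import Mathlib
import Groth.Agent.S10619
-- import your own Groth.Agent.* helpers here

set_option autoImplicit false
universe u
open CategoryTheory CategoryTheory.Limits AlgebraicGeometry
open AlgSp

namespace Groth.Agent.S10618

open Groth.Agent.S10619

variable {S : Scheme.{u}}

theorem unram_of_comp {F G H : AlgSp.Sp S} (a : F ⟶ G) (b : G ⟶ H)
    (hab : AlgSp.IsFormallyUnramifiedMor (a ≫ b)) : AlgSp.IsFormallyUnramifiedMor a := by
  intro sq l l' h1 h2 h3 h4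
  refine hab (reSq sq (a ≫ b) sq.top (sq.bot ≫ b)
    (by rw [← Category.assoc, sq.comm, Category.assoc])) l l' h1 ?_ h3 ?_
  · change l ≫ a ≫ b = sq.bot ≫ b
    rw [← Category.assoc, h2]
  · change l' ≫ a ≫ b = sq.bot ≫ b
    rw [← Category.assoc, h4]

theorem smooth_of_comp {F G H : AlgSp.Sp S} (a : F ⟶ G) (b : G ⟶ H)
    (hb : AlgSp.IsFormallyUnramifiedMor b)
    (hab : AlgSp.IsFormallySmoothMor (a ≫ b)) : AlgSp.IsFormallySmoothMor a := by
  intro sq
  obtain ⟨l, hl1, hl2⟩ : ∃ l : (AlgSp.yon S).obj sq.ptT' ⟶ F,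
      (AlgSp.yon S).map sq.j ≫ l = sq.top ∧ l ≫ a ≫ b = sq.bot ≫ b :=
    hab (reSq sq (a ≫ b) sq.top (sq.bot ≫ b)
      (by rw [← Category.assoc, sq.comm, Category.assoc]))
  refine ⟨l, hl1, ?_⟩
  refine hb (reSq sq b (sq.top ≫ a) (sq.bot ≫ b) (by rw [sq.comm, Category.assoc]))
    (l ≫ a) sq.bot ?_ ?_ ?_ rfl
  · change (AlgSp.yon S).map sq.j ≫ l ≫ a = sq.top ≫ a
    rw [← Category.assoc, hl1]
  · change (l ≫ a) ≫ b = sq.bot ≫ b
    rw [Category.assoc, hl2]
  · exact sq.comm.symm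

/-- Let a : F ⟶ G and b : G ⟶ H be morphisms of fppf sheaves on (Sch/S) with b formally unramified. If a
≫ b is formally unramified, resp. formally etale, resp. formally smooth, then so is a. (The
published statement is for transformations of arbitrary presheaves of sets on (Sch/S)_fppf; this row
takes fppf sheaves, the case of algebraic spaces.) -/
theorem result {S : Scheme.{u}} {F G H : AlgSp.Sp S} (a : F ⟶ G) (b : G ⟶ H)
    (hb : AlgSp.IsFormallyUnramifiedMor b) :
    (AlgSp.IsFormallyUnramifiedMor (a ≫ b) → AlgSp.IsFormallyUnramifiedMor a) ∧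
    (AlgSp.IsFormallyEtaleMor (a ≫ b) → AlgSp.IsFormallyEtaleMor a) ∧
    (AlgSp.IsFormallySmoothMor (a ≫ b) → AlgSp.IsFormallySmoothMor a) := by
  refine ⟨unram_of_comp a b, ?_, smooth_of_comp a b hb⟩
  intro h
  rw [Groth.Agent.S10619.etale_iff] at h ⊢
  exact ⟨smooth_of_comp a b hb h.1, unram_of_comp a b h.2⟩

end Groth.Agent.S10618
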