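import Groth.Statements.S10622
import Groth.Agent.Lib.Helper15.AlgSpFormal3
import Groth.Agent.Lib.Helper3.AlgSpLocP3
import Groth.Agent.S10619
import Groth.Agent.S10618
-- import your own Groth.Agent.* helpers here

set_option autoImplicit false
universe u
open CategoryTheory CategoryTheory.Limits AlgebraicGeometry
open AlgSp

namespace Groth.Agent.S10622

section H
namespace W60
open Groth.Agent.Lib.Helper15.AlgSpFormal Groth.Agent.Lib.Helper15.AlgSpFormal2
open Groth.Agent.Lib.Helper15.AlgSpFormal3 Groth.Agent.Lib.Helper3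
set_option backward.isDefEq.respectTransparency.types false

variable {S : Scheme.{u}}

theorem of_chart {X Y : AlgSp.Sp S} (f : X ⟶ Y) {U V : Over S}
    (a : (AlgSp.yon S).obj U ⟶ X) (b : (AlgSp.yon S).obj V ⟶ Y) (h : U ⟶ V)
    (ha : AlgSp.RepWith @Etale a) (has : AlgSp.RepWith @Surjective a) (hb : AlgSp.RepWith @Etale b)
    (w : a ≫ f = (AlgSp.yon S).map h ≫ b) (hh : MoreMor.IsFormallyEtaleHom h.left) :
    AlgSp.IsFormallyEtaleMor f := by
  have h1 : IsFormallyEtaleMor ((yon S).map h) := (isFormallyEtaleMor_yon_map_iff h).2 hh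
  have h2 : IsFormallyEtaleMor b := isFormallyEtaleMor_of_repWith_etale b hb
  have h3 : IsFormallyEtaleMor ((yon S).map h ≫ b) := (Groth.Agent.S10619.result _ _).2.1 h1 h2
  rw [← w] at h3
  exact isFormallyEtaleMor_of_comp a f ha has h3

theorem locP_of_formallyEtale {X Y : AlgSp.Sp S} (f : X ⟶ Y) (hf : AlgSp.IsFormallyEtaleMor f) :
    AlgSp.LocP @MoreMor.IsFormallyEtaleHom f := by
  intro U V a b h ha hb w
  have h1 : IsFormallyEtaleMor (a ≫ f) :=
    (Groth.Agent.S10619.result _ _).2.1 (isFormallyEtaleMor_of_repWith_etale a ha) hf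
  rw [w] at h1
  have h2 : IsFormallyUnramifiedMor b :=
    isFormallyUnramifiedMor_of_isFormallyEtaleMor (isFormallyEtaleMor_of_repWith_etale b hb)
  exact (isFormallyEtaleMor_yon_map_iff h).1 ((Groth.Agent.S10618.result _ b h2).2.1 h1)

theorem main {X Y : AlgSp.Space S} (f : X ⟶ Y) :
    (AlgSp.IsFormallyEtaleMor f.hom ↔ AlgSp.LocP @MoreMor.IsFormallyEtaleHom f.hom) ∧
    (∀ (U V : Over S) (a : (AlgSp.yon S).obj U ⟶ X.obj) (b : (AlgSp.yon S).obj V ⟶ Y.obj) (h : U ⟶ V),
      AlgSp.RepWith @Etale a → AlgSp.RepWith @Surjective a → AlgSp.RepWith @Etale b → AlgSp.RepWith @Surjective b →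
      a ≫ f.hom = (AlgSp.yon S).map h ≫ b → MoreMor.IsFormallyEtaleHom h.left → AlgSp.IsFormallyEtaleMor f.hom) := by
  refine ⟨⟨locP_of_formallyEtale f.hom, fun hLoc => ?_⟩,
    fun U V a b h ha has hb _ w hh => of_chart f.hom a b h ha has hb w hh⟩
  obtain ⟨V, b, hbe, hbs⟩ := Y.property.atlas
  obtain ⟨U, u, h, hue, hus, hae, has, hh, hw⟩ :=
    exists_chart_over X.property Y.property f.hom b hbe
  exact of_chart f.hom _ b h hae (has hbs) hbe hw (hLoc _ b h hae hbe hw)

end W60
end H


/-- For a morphism f : X ⟶ Y of algebraic spaces over S, these conditions are equivalent: f is formally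
etale (lifting along square-zero thickenings of affine schemes); for every scheme U with a
representable etale U ⟶ X, every scheme V with a representable etale V ⟶ Y and every compatible U ⟶
V, the morphism of schemes U ⟶ V is formally etale; and this holds as soon as it holds for one such
diagram in which both charts are moreover surjective. -/
theorem result {S : Scheme.{u}} {X Y : AlgSp.Space S} (f : X ⟶ Y) :
    (AlgSp.IsFormallyEtaleMor f.hom ↔ AlgSp.LocP @MoreMor.IsFormallyEtaleHom f.hom) ∧
    (∀ (U V : Over S) (a : (AlgSp.yon S).obj U ⟶ X.obj) (b : (AlgSp.yon S).obj V ⟶ Y.obj) (h : U ⟶ V),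
      AlgSp.RepWith @Etale a → AlgSp.RepWith @Surjective a → AlgSp.RepWith @Etale b → AlgSp.RepWith @Surjective b →
      a ≫ f.hom = (AlgSp.yon S).map h ≫ b → MoreMor.IsFormallyEtaleHom h.left → AlgSp.IsFormallyEtaleMor f.hom) := by
  exact W60.main f

end Groth.Agent.S10622
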