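import Groth.Statements.S10627
import Groth.Agent.S10622
import Groth.Agent.S10208
import Groth.Agent.S10265
import Groth.Agent.S1489
-- import your own Groth.Agent.* helpers here

set_option autoImplicit false
universe u
open CategoryTheory CategoryTheory.Limits AlgebraicGeometry
open AlgSp

namespace Groth.Agent.S10627

section H
namespace W61
open Groth.Agent.Lib.Helper15.AlgSpFormal Groth.Agent.Lib.Helper15.AlgSpFormal2
open Groth.Agent.Lib.Helper15.AlgSpFormal3 Groth.Agent.Lib.Helper3
set_option backward.isDefEq.respectTransparency.types false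

variable {S : Scheme.{u}}

theorem main {X Y : AlgSp.Space S} (f : X ⟶ Y) :
    AlgSp.IsEtaleMor f.hom ↔
      AlgSp.LocP @LocallyOfFinitePresentation f.hom ∧ AlgSp.IsFormallyEtaleMor f.hom := by
  constructor
  · intro hf
    refine ⟨(Groth.Agent.S10265.result f hf).2.2.2.1, ?_⟩
    obtain ⟨U, a, hae, has⟩ := X.property.atlas
    have h1 : RepWith @Etale (a ≫ f.hom) := hf a hae
    exact isFormallyEtaleMor_of_comp a f.hom hae has (isFormallyEtaleMor_of_repWith_etale _ h1)
  · rintro ⟨hlfp, hfe⟩
    obtain ⟨V, b, hbe, hbs⟩ := Y.property.atlas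
    obtain ⟨U, u, h, hue, hus, hae, has, hh, hw⟩ :=
      exists_chart_over X.property Y.property f.hom b hbe
    have h1 : LocallyOfFinitePresentation h.left := hlfp _ b h hae hbe hw
    have h2 : MoreMor.IsFormallyEtaleHom h.left :=
      Groth.Agent.S10622.W60.locP_of_formallyEtale f.hom hfe _ b h hae hbe hw
    have h3 : Etale h.left := (Groth.Agent.S1489.result h.left).2 ⟨h1, h2⟩
    exact Groth.Agent.S10208.result f _ hae (has hbs) b hbe h hw

end W61
end H


/-- A morphism f : X ⟶ Y of algebraic spaces over S is etale if and only if it is locally of finite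
presentation and formally etale (lifting sense). -/
theorem result {S : Scheme.{u}} {X Y : AlgSp.Space S} (f : X ⟶ Y) :
    AlgSp.IsEtaleMor f.hom ↔ AlgSp.LocP @LocallyOfFinitePresentation f.hom ∧ AlgSp.IsFormallyEtaleMor f.hom := by
  exact W61.main f

end Groth.Agent.S10627
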