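import Groth.Statements.S0081
import Mathlib.AlgebraicGeometry.Morphisms.FlatDescent
import Mathlib.AlgebraicGeometry.Morphisms.Immersion
-- import your own Groth.Agent.* helpers here

set_option autoImplicit false
open CategoryTheory CategoryTheory.Limits AlgebraicGeometry Opposite
universe u
open EtBase

namespace Groth.Agent.S0081

/-- morphisms with closed range -/
def closedRange : MorphismProperty Scheme.{u} := fun _ _ f => IsClosed (Set.range f)

instance closedRange_respectsIso : (closedRange.{u}).RespectsIso := by
  apply MorphismProperty.RespectsIso.mk
  · intro X Y Z e f hf
    show IsClosed (Set.range (e.hom ≫ f))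
    have : Set.range (e.hom ≫ f) = Set.range f := by
      rw [Scheme.Hom.comp_base, TopCat.coe_comp, Set.range_comp,
        Set.range_eq_univ.mpr e.hom.surjective, Set.image_univ]
    rw [this]; exact hf
  · intro X Y Z e f hf
    show IsClosed (Set.range (f ≫ e.hom))
    rw [Scheme.Hom.comp_base, TopCat.coe_comp, Set.range_comp]
    exact e.hom.homeomorph.isClosedMap _ hf

instance closedRange_descends : MorphismProperty.DescendsAlong closedRange.{u}
    (@Surjective ⊓ @Flat ⊓ @QuasiCompact : MorphismProperty Scheme.{u}) := by
  apply MorphismProperty.DescendsAlong.mk'
  intro X Y Z f g _ hf hfst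
  obtain ⟨⟨hs, hfl⟩, hq⟩ := hf
  have hquot := Flat.isQuotientMap_of_surjective f
  show IsClosed (Set.range g)
  rw [← hquot.isClosed_preimage, ← Scheme.Pullback.range_fst]
  exact hfst

lemma isSeparated_eq_diagonal_closedRange :
    @IsSeparated.{u} = MorphismProperty.diagonal closedRange.{u} := by
  ext X Y f
  rw [MorphismProperty.diagonal_iff]
  constructor
  · intro h
    exact (IsClosedImmersion.iff_isPreimmersion.mp h.1).2
  · intro h
    exact ⟨IsClosedImmersion.of_isPreimmersion _ h⟩

/-- Separatedness descends along a quasi-compact flat surjective base change: if the base change of a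
morphism along a quasi-compact, flat, surjective morphism is separated, then so is the morphism.
(Stated for a single quasi-compact faithfully flat cover; combined with Zariski-locality on the
target this gives the fpqc-local statement.) -/
theorem result :
    MorphismProperty.DescendsAlong @IsSeparated (@Surjective ⊓ @Flat ⊓ @QuasiCompact : MorphismProperty Scheme.{u}) := by
  rw [isSeparated_eq_diagonal_closedRange]
  infer_instance

end Groth.Agent.S0081
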