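import Groth.Statements.S10210
import Groth.Agent.Lib.Helper3.AlgSpLocP5

set_option autoImplicit false
universe u
open CategoryTheory CategoryTheory.Limits AlgebraicGeometry Topology TopologicalSpace
open AlgSp

namespace Groth.Agent.S10210

/-- Let X, Y, Z be algebraic spaces over a scheme S, g : X ⟶ Z and h : Y ⟶ Z etale morphisms and f : X ⟶
Y a morphism with f ≫ h = g. Then f is etale. -/
theorem result {S : Scheme.{u}} {X Y Z : AlgSp.Space S} (f : X ⟶ Y) (h : Y ⟶ Z) (g : X ⟶ Z)
    (w : f ≫ h = g) (hg : AlgSp.IsEtaleMor g.hom) (hh : AlgSp.IsEtaleMor h.hom) :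
    AlgSp.IsEtaleMor f.hom := by
  subst w
  apply Groth.Agent.Lib.Helper3.isEtaleMor_of_locP_etale X.property Y.property
  have hg' : AlgSp.LocP @Etale (f ≫ h).hom := Groth.Agent.Lib.Helper3.locP_etale_of_isEtaleMor hg
  have hh' : AlgSp.LocP @Etale h.hom := Groth.Agent.Lib.Helper3.locP_etale_of_isEtaleMor hh
  obtain ⟨W, c, hce, hcs⟩ := Z.property.atlas
  obtain ⟨V, v, l, -, -, hbe, hbs, -, hl⟩ :=
    Groth.Agent.Lib.Helper3.exists_chart_over Y.property Z.property h.hom c hce
  obtain ⟨U, u, k, -, -, hae, has, -, hk⟩ :=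
    Groth.Agent.Lib.Helper3.exists_chart_over X.property Y.property f.hom _ hbe
  have hcomm : (u ≫ pullback.fst f.hom (v ≫ pullback.fst h.hom c)) ≫ (f ≫ h).hom =
      (AlgSp.yon S).map (k ≫ l) ≫ c := by
    change _ ≫ f.hom ≫ h.hom = _
    rw [← Category.assoc, hk, Category.assoc, hl, Functor.map_comp, Category.assoc]
  have h1 : Etale (k ≫ l).left := hg' _ _ (k ≫ l) hae hce hcomm
  rw [Over.comp_left] at h1
  have h3 : Etale l.left := hh' _ _ l hbe hce hl
  have h2 : Etale k.left :=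
    MorphismProperty.of_postcomp (W := @Etale) (W' := @Etale) k.left l.left h3 h1
  exact Groth.Agent.Lib.Helper3.locP_of_chart Groth.Agent.Lib.Helper3.isEtLocal_etale f.hom _ hae (has (hbs hcs)) _ hbe k hk h2

end Groth.Agent.S10210
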