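import Groth.Statements.S9945
import Groth.Agent.Lib.Helper3.AffDescCharts
import Groth.Agent.Lib.Helper3.AlgSpQC7
import Mathlib.AlgebraicGeometry.Morphisms.QuasiFinite
import Mathlib.RingTheory.Etale.QuasiFinite
-- import your own Groth.Agent.* helpers here

set_option autoImplicit false
universe u
open CategoryTheory CategoryTheory.Limits AlgebraicGeometry
open AlgSp

namespace Groth.Agent.S9945

section H
namespace W1

open Groth.Agent.Lib.Helper3

theorem locallyQuasiFinite_of_etale {V X : Scheme.{u}} (q : V ⟶ X) [Etale q] :
    LocallyQuasiFinite q := by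
  rw [locallyQuasiFinite_iff]
  intro A hA W hW e
  have h : (q.appLE A W e).hom.Etale :=
    HasRingHomProperty.appLE (P := @Etale) q inferInstance ⟨A, hA⟩ ⟨W, hW⟩ e
  algebraize [(q.appLE A W e).hom]
  change Algebra.QuasiFinite _ _
  infer_instance

theorem isAffine_of_etale_of_artinian {W : Scheme.{u}} (A : Type u) [CommRing A] [IsArtinianRing A]
    (p : W ⟶ Spec (CommRingCat.of A)) [Etale p] [CompactSpace ↥W] : IsAffine W := by
  have hq : QuasiCompact p := (HasAffineProperty.iff_of_isAffine (P := @QuasiCompact)).2 ‹_›
  haveI : LocallyQuasiFinite p := locallyQuasiFinite_of_etale p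
  have hfin : IsFinite p := IsFinite.of_locallyQuasiFinite p
  exact isAffine_of_isAffineHom p

theorem main {S : Scheme.{u}} [QuasiSeparatedSpace ↥S] (X : AlgSp.Space S)
    (hX : AlgSp.IsQuasiSeparatedSp X.obj) (A : Type u) [CommRing A] [IsArtinianRing A]
    (str : Spec (CommRingCat.of A) ⟶ S) (a : (AlgSp.yon S).obj (Over.mk str) ⟶ X.obj) :
    AlgSp.IsAffineMor a := by
  have hAsp : IsAlgSpace ((yon S).obj (Over.mk str)) := IsAlgSpace.yon_obj _
  have hAqc : IsQuasiCompactSp ((yon S).obj (Over.mk str)) :=
    isQuasiCompactSp_yon (inferInstanceAs (CompactSpace ↥(Spec (CommRingCat.of A))))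
  have haqc : IsQuasiCompactMor a :=
    isQuasiCompactMor_of_isQuasiCompactSp_of_isQuasiSeparatedSp hAsp a hAqc hX
  refine Groth.Agent.Lib.Helper3.AffDesc.isAffineMor_of_affine_etale_charts X.property a ?_
  intro V hV b hbe P fst snd sq
  -- represent the pullback
  have hrep : Representable b := X.property.representable_from_yon b
  have sqW := hbe.rep.isPullback a
  -- `P ≅ h_W`
  let e : (yon S).obj (hbe.rep.pullback a) ≅ P := sqW.isoIsPullback _ _ sq.flip
  refine ⟨hbe.rep.pullback a, ?_, ⟨e⟩⟩
  -- the projection to `Spec A` is etale and quasi-compact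
  have hpe : Etale (hbe.rep.snd a).left := hbe.property_snd a
  have hPq : IsQuasiCompactSp ((yon S).obj (hbe.rep.pullback a)) :=
    haqc (IsAlgSpace.yon_obj V) (isQuasiCompactSp_yon (inferInstance : CompactSpace ↥V.left))
      b _ _ sqW.flip
  have hc : CompactSpace ↥(hbe.rep.pullback a).left := compactSpace_of_isQuasiCompactSp_yon hPq
  exact @isAffine_of_etale_of_artinian _ A _ _ (hbe.rep.snd a).left hpe hc

end W1
end H


/-- Over a base scheme with quasi-separated underlying space, every morphism from the spectrum of an
Artinian ring to an algebraic space quasi-separated over S is affine. (The published statement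
assumes X quasi-separated in the absolute sense over any base; this row assumes the base
quasi-separated and X quasi-separated over it, which on such bases is the same condition.) -/
theorem result {S : Scheme.{u}} [QuasiSeparatedSpace ↥S] (X : AlgSp.Space S)
    (hX : AlgSp.IsQuasiSeparatedSp X.obj) (A : Type u) [CommRing A] [IsArtinianRing A]
    (str : Spec (CommRingCat.of A) ⟶ S) (a : (AlgSp.yon S).obj (Over.mk str) ⟶ X.obj) :
    AlgSp.IsAffineMor a := by
  exact W1.main X hX A str a

end Groth.Agent.S9945
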