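import Groth.Statements.S0658
import Mathlib
set_option backward.isDefEq.respectTransparency.types false

set_option autoImplicit false
open CategoryTheory CategoryTheory.Limits AlgebraicGeometry Opposite
universe u
open EtCore

namespace Groth.Agent.S0658

/-- étale ring maps out of a field: finite and reduced. -/
lemma finite_reduced_of_etale (k : Type u) [Field k] {R : CommRingCat.{u}}
    (ψ : CommRingCat.of k ⟶ R) (h : ψ.hom.Etale) :
    letI := ψ.hom.toAlgebra
    Module.Finite k R ∧ _root_.IsReduced R := by
  algebraize [ψ.hom]
  have : Algebra.Etale k R := h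
  exact ⟨Algebra.FormallyUnramified.finite_of_free k R,
    Algebra.FormallyUnramified.isReduced_of_field k R⟩

lemma etale_of_finite_separable (k : Type u) [Field k] (K : Type u) [Field K] [Algebra k K]
    [FiniteDimensional k K] [Algebra.IsSeparable k K] :
    Etale (Spec.map (CommRingCat.ofHom (algebraMap k K))) := by
  rw [HasRingHomProperty.Spec_iff (P := @Etale)]
  have : Algebra.FormallyEtale k K := Algebra.FormallyEtale.of_isSeparable k K
  have : Algebra.FinitePresentation k K := Algebra.FinitePresentation.of_finiteType.mp inferInstance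
  have : Algebra.Etale k K := ⟨inferInstance, inferInstance⟩
  exact (RingHom.etale_algebraMap).mpr this

section
variable (k : Type u) [Field k] (U : Scheme.{u}) (φ : U ⟶ Spec (CommRingCat.of k)) [Etale φ]

/-- the structure map `k → Γ(U, V)` for an affine open -/
noncomputable def str {V : U.Opens} (hV : IsAffineOpen V) : CommRingCat.of k ⟶ Γ(U, V) :=
  Spec.preimage (hV.fromSpec ≫ φ)

lemma str_etale {V : U.Opens} (hV : IsAffineOpen V) : (str k U φ hV).hom.Etale := by
  have h1 : Etale (hV.fromSpec ≫ φ) := inferInstance
  rw [← Spec.map_preimage (hV.fromSpec ≫ φ), HasRingHomProperty.Spec_iff (P := @Etale)] at h1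
  exact h1

include φ in
/-- A scheme étale over a field is discrete. -/
lemma discreteTopology_of_etale : DiscreteTopology U := by
  have : IsLocallyArtinian U := by
    rw [isLocallyArtinian_iff_of_isOpenCover (U := fun V : U.affineOpens => V.1)
      (.mk (iSup_affineOpens_eq_top U)) (fun V => V.2)]
    intro V
    obtain ⟨hfin, -⟩ := finite_reduced_of_etale k _ (str_etale k U φ V.2)
    letI := (str k U φ V.2).hom.toAlgebra
    exact IsArtinianRing.of_finite k _
  infer_instance

end


/-- Let k be a field and φ : U → Spec k a morphism of schemes. Then φ is étale if and only if U is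
isomorphic over k to a disjoint union ∐ Spec K_i with each K_i a finite separable field extension of
k. -/
theorem result (k : Type u) [Field k] (U : Scheme.{u}) (φ : U ⟶ Spec (CommRingCat.of k)) :
    AlgebraicGeometry.Etale φ ↔
      ∃ (ι : Type u) (K : ι → Type u) (_ : ∀ i, Field (K i)) (_ : ∀ i, Algebra k (K i))
        (_ : ∀ i, FiniteDimensional k (K i)) (_ : ∀ i, Algebra.IsSeparable k (K i))
        (e : (∐ fun i => Spec (CommRingCat.of (K i))) ≅ U),
        ∀ i, Sigma.ι (fun i => Spec (CommRingCat.of (K i))) i ≫ e.hom ≫ φ =
          Spec.map (CommRingCat.ofHom (algebraMap k (K i))) := by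
  constructor
  · intro hφ
    have hdisc : DiscreteTopology U := discreteTopology_of_etale k U φ
    let W : U → U.Opens := fun x => ⟨{x}, isOpen_discrete _⟩
    have hW : ∀ x, IsAffineOpen (W x) := fun x =>
      IsAffineOpen.of_subsingleton Set.subsingleton_singleton
    have hfield : ∀ x, IsField Γ(U, W x) := by
      intro x
      obtain ⟨hfin, hred⟩ := finite_reduced_of_etale k _ (str_etale k U φ (hW x))
      letI := (str k U φ (hW x)).hom.toAlgebra
      have : IsArtinianRing Γ(U, W x) := IsArtinianRing.of_finite k _
      have hne : Nonempty (PrimeSpectrum Γ(U, W x)) := ⟨(hW x).primeIdealOf ⟨x, rfl⟩⟩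
      have hsub : Subsingleton (PrimeSpectrum Γ(U, W x)) := by
        have : Subsingleton (W x) := (Set.subsingleton_singleton (a := x)).coe_sort
        exact (hW x).isoSpec.hom.homeomorph.symm.injective.subsingleton
      have : Nontrivial Γ(U, W x) := (PrimeSpectrum.nonempty_iff_nontrivial).mp hne
      have : Subsingleton (MaximalSpectrum Γ(U, W x)) :=
        MaximalSpectrum.toPrimeSpectrum_injective.subsingleton
      have : IsLocalRing Γ(U, W x) := .of_singleton_maximalSpectrum
      exact IsArtinianRing.isField_of_isReduced_of_isLocalRing _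
    let K : U → Type u := fun x => Γ(U, W x)
    let instF : ∀ x, Field (K x) := fun x => (hfield x).toField
    let instA : ∀ x, Algebra k (K x) := fun x => (str k U φ (hW x)).hom.toAlgebra
    have hfin : ∀ x, FiniteDimensional k (K x) := fun x =>
      (finite_reduced_of_etale k _ (str_etale k U φ (hW x))).1
    have hsep : ∀ x, Algebra.IsSeparable k (K x) := by
      intro x
      have : Algebra.Etale k (K x) := str_etale k U φ (hW x)
      exact Algebra.FormallyUnramified.isSeparable k (K x)
    let f : ∀ x, Spec (CommRingCat.of (K x)) ⟶ U := fun x => (hW x).fromSpec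
    have hf : ∀ x, IsOpenImmersion (f x) := fun x => inferInstanceAs (IsOpenImmersion (hW x).fromSpec)
    have hrange : ∀ x, (f x).opensRange = W x := fun x => (hW x).opensRange_fromSpec
    obtain ⟨hc⟩ := nonempty_isColimit_cofanMk_of f
      (by
        rw [eq_top_iff]
        intro x _
        rw [TopologicalSpace.Opens.mem_iSup]
        exact ⟨x, by rw [hrange]; rfl⟩)
      (by
        intro x y hxy
        show Disjoint (f x).opensRange (f y).opensRange
        rw [hrange, hrange, disjoint_iff, TopologicalSpace.Opens.ext_iff]
        simpa [W] using fun h => hxy h.symm)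
    let e : (∐ fun x => Spec (CommRingCat.of (K x))) ≅ U :=
      (colimit.isColimit _).coconePointUniqueUpToIso hc
    refine ⟨U, K, instF, instA, hfin, hsep, e, fun x => ?_⟩
    have h1 : Sigma.ι (fun x => Spec (CommRingCat.of (K x))) x ≫ e.hom = f x :=
      (colimit.isColimit _).comp_coconePointUniqueUpToIso_hom hc ⟨x⟩
    rw [← Category.assoc, h1]
    exact (Spec.map_preimage ((hW x).fromSpec ≫ φ)).symm
  · rintro ⟨ι, K, _, _, _, _, e, he⟩
    have h1 : Etale (e.hom ≫ φ) := by
      rw [IsZariskiLocalAtSource.iff_of_openCover (P := @Etale) (sigmaOpenCover _)]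
      intro (i : ι)
      show Etale (Sigma.ι _ i ≫ e.hom ≫ φ)
      rw [he i]
      exact etale_of_finite_separable k (K i)
    have h2 : φ = e.inv ≫ (e.hom ≫ φ) := by simp
    rw [h2]
    infer_instance

end Groth.Agent.S0658
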