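import Groth.Statements.S0117
import Mathlib
-- import your own Groth.Agent.* helpers here

set_option autoImplicit false
open CategoryTheory CategoryTheory.Limits AlgebraicGeometry Opposite
universe u
open EtBase

namespace Groth.Agent.S0117

namespace W

set_option backward.isDefEq.respectTransparency.types false in
instance : MorphismProperty.HasOfPostcompProperty
    @IsOpenImmersion (@LocallyOfFiniteType ⊓ @FormallyUnramified) := by
  rw [MorphismProperty.hasOfPostcompProperty_iff_le_diagonal]
  intro X Y f ⟨hft, hfu⟩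
  exact inferInstanceAs <| IsOpenImmersion (pullback.diagonal f)

/-- injectivity -/
theorem inj {X S Y Y₀ : Scheme.{u}} (f : X ⟶ S) [FormallyUnramified f] [LocallyOfFiniteType f]
    (j : Y₀ ⟶ Y) [Surjective j] (φ ψ : Y ⟶ X) (h1 : φ ≫ f = ψ ≫ f) (h2 : j ≫ φ = j ≫ ψ) :
    φ = ψ := by
  let l : Y ⟶ pullback f f := pullback.lift φ ψ h1
  let E := pullback (pullback.diagonal f) l
  let e : E ⟶ Y := pullback.snd _ _
  have he : IsOpenImmersion e := inferInstance
  let t : Y₀ ⟶ E := pullback.lift (j ≫ φ) j (by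
    apply pullback.hom_ext
    · simp only [Category.assoc, pullback.diagonal_fst, pullback.lift_fst, Category.comp_id, l]
    · simp only [Category.assoc, pullback.diagonal_snd, pullback.lift_snd, Category.comp_id, l, h2])
  have ht : t ≫ e = j := pullback.lift_snd _ _ _
  have hs : Surjective e := by
    constructor
    intro y
    obtain ⟨y0, rfl⟩ := j.surjective y
    exact ⟨t y0, by rw [← Scheme.Hom.comp_apply, ht]⟩
  have hiso : IsIso e := (isIso_iff_isOpenImmersion_and_surjective e).2 ⟨he, hs⟩
  have h3 : e ≫ φ = e ≫ ψ := by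
    have c : pullback.fst (pullback.diagonal f) l ≫ pullback.diagonal f = e ≫ l := pullback.condition
    have c1 := congrArg (· ≫ pullback.fst f f) c
    have c2 := congrArg (· ≫ pullback.snd f f) c
    simp only [Category.assoc, pullback.diagonal_fst, pullback.diagonal_snd, Category.comp_id, l,
      pullback.lift_fst, pullback.lift_snd] at c1 c2
    rw [← c1, ← c2]
  exact (cancel_epi e).1 h3

theorem residueFieldMap_surjective_of_isClosedImmersion {A B : Scheme.{u}} (j : A ⟶ B)
    [IsClosedImmersion j] (y : A) : Function.Surjective (j.residueFieldMap y).hom := by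
  have h := Scheme.residue_residueFieldMap j y
  have h1 : Function.Surjective (j.stalkMap y ≫ A.residue y).hom := by
    rw [CommRingCat.hom_comp]
    exact (IsLocalRing.residue_surjective).comp (j.stalkMap_surjective y)
  rw [← h, CommRingCat.hom_comp, RingHom.coe_comp] at h1
  exact Function.Surjective.of_comp h1


theorem pi_of_surj {F E : Type*} [Field F] [Field E] (f : F →+* E) (hf : Function.Surjective f) :
    f.IsPurelyInseparable := by
  algebraize [f]
  rw [RingHom.IsPurelyInseparable, isPurelyInseparable_iff]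
  intro x
  obtain ⟨a, rfl⟩ := hf x
  exact ⟨isIntegral_algebraMap (R := F) (A := E) (x := a), fun _ => ⟨a, rfl⟩⟩

theorem surj {X S Y Y₀ : Scheme.{u}} (f : X ⟶ S) [Etale f] (g : Y ⟶ S)
    (j : Y₀ ⟶ Y) [IsClosedImmersion j] [Surjective j] (φ₀ : Y₀ ⟶ X) (h : φ₀ ≫ f = j ≫ g) :
    ∃ φ : Y ⟶ X, φ ≫ f = g ∧ j ≫ φ = φ₀ := by
  let P := pullback f g
  let pr₁ : P ⟶ X := pullback.fst f g
  let pr₂ : P ⟶ Y := pullback.snd f g
  have hpr₂ : Etale pr₂ := inferInstance
  let σ : Y₀ ⟶ P := pullback.lift φ₀ j h
  have hσ1 : σ ≫ pr₁ = φ₀ := pullback.lift_fst _ _ _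
  have hσ2 : σ ≫ pr₂ = j := pullback.lift_snd _ _ _
  -- Claim A
  let P₀ := pullback pr₂ j
  let j' : P₀ ⟶ P := pullback.fst pr₂ j
  let q : P₀ ⟶ Y₀ := pullback.snd pr₂ j
  have hj'1 : IsClosedImmersion j' := inferInstance
  have hj'2 : Surjective j' := inferInstance
  have hq : Etale q := inferInstance
  let σ₀ : Y₀ ⟶ P₀ := pullback.lift σ (𝟙 Y₀) (by rw [hσ2, Category.id_comp])
  have hσ₀1 : σ₀ ≫ j' = σ := pullback.lift_fst _ _ _
  have hσ₀2 : σ₀ ≫ q = 𝟙 Y₀ := pullback.lift_snd _ _ _
  have hσ₀ : IsOpenImmersion σ₀ := by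
    have : IsOpenImmersion (σ₀ ≫ q) := by rw [hσ₀2]; infer_instance
    exact MorphismProperty.of_postcomp (W := @IsOpenImmersion)
      (W' := @LocallyOfFiniteType ⊓ @FormallyUnramified) σ₀ q ⟨inferInstance, inferInstance⟩ this
  have hopen : IsOpen (Set.range σ) := by
    have e1 : Set.range σ = j' '' (Set.range σ₀) := by
      rw [← hσ₀1, Scheme.Hom.comp_base, TopCat.coe_comp, Set.range_comp]
    rw [e1]
    have hcl : IsClosedMap j' := (Scheme.Hom.isClosedEmbedding j').isClosedMap
    have hbij : Function.Bijective j' :=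
      ⟨(Scheme.Hom.isClosedEmbedding j').injective, j'.surjective⟩
    have e2 : j' '' (Set.range σ₀) = (j' '' (Set.range σ₀)ᶜ)ᶜ := by
      rw [Set.image_compl_eq hbij, compl_compl]
    rw [e2]
    exact (hcl _ (σ₀.isOpenEmbedding.isOpen_range.isClosed_compl)).isOpen_compl
  let U : P.Opens := ⟨Set.range σ, hopen⟩
  let u : (U : Scheme) ⟶ Y := U.ι ≫ pr₂
  have hu : Etale u := inferInstance
  let τ : Y₀ ⟶ U := IsOpenImmersion.lift U.ι σ (by simp [U])
  have hτ : τ ≫ U.ι = σ := IsOpenImmersion.lift_fac _ _ _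
  have hτu : τ ≫ u = j := by rw [← Category.assoc, hτ, hσ2]
  have hτs : Function.Surjective τ := by
    intro x
    obtain ⟨y, hy⟩ : (U.ι x) ∈ Set.range σ := x.2
    exact ⟨y, U.ι.injective (by rw [← Scheme.Hom.comp_apply, hτ, hy])⟩
  have hui : UniversallyInjective u := by
    have := (tfae_universallyInjective u).out 0 2
    rw [this]
    refine ⟨?_, ?_⟩
    · intro x x' hxx'
      obtain ⟨y, rfl⟩ := hτs x
      obtain ⟨y', rfl⟩ := hτs x'
      rw [← Scheme.Hom.comp_apply, ← Scheme.Hom.comp_apply, hτu] at hxx'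
      rw [(Scheme.Hom.isClosedEmbedding j).injective hxx']
    · intro x
      obtain ⟨y, rfl⟩ := hτs x
      apply pi_of_surj
      have hj := residueFieldMap_surjective_of_isClosedImmersion j y
      rw [Scheme.Hom.residueFieldMap_congr hτu.symm, Scheme.residueFieldMap_comp] at hj
      intro z
      obtain ⟨w, hw⟩ := hj ((τ.residueFieldMap y).hom z)
      refine ⟨(Y.residueFieldCongr (show j y = u (τ y) by
        rw [← Scheme.Hom.comp_apply, hτu])).hom.hom w, ?_⟩
      apply (τ.residueFieldMap y).hom.injective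
      rw [← hw]
      rfl
  have hdiag : IsIso (pullback.diagonal u) := by
    rw [isIso_iff_isOpenImmersion_and_surjective]
    exact ⟨inferInstance, (UniversallyInjective.iff_diagonal u).1 hui⟩
  have hmono : Mono u := (pullback.isIso_diagonal_iff u).1 hdiag
  have huo : IsOpenImmersion u := IsOpenImmersion.of_flat_of_mono u
  have hsu : Surjective u := ⟨fun y => by
    obtain ⟨y0, rfl⟩ := j.surjective y
    exact ⟨τ y0, by rw [← Scheme.Hom.comp_apply, hτu]⟩⟩
  have hiso : IsIso u := (isIso_iff_isOpenImmersion_and_surjective u).2 ⟨huo, hsu⟩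
  refine ⟨inv u ≫ U.ι ≫ pr₁, ?_, ?_⟩
  · have c : pr₁ ≫ f = pr₂ ≫ g := pullback.condition
    rw [Category.assoc, Category.assoc, c, ← Category.assoc U.ι, IsIso.inv_hom_id_assoc]
  · have e3 : j ≫ inv u = τ := by rw [← hτu, Category.assoc, IsIso.hom_inv_id, Category.comp_id]
    rw [← Category.assoc, e3, ← Category.assoc, hτ, hσ1]

end W


/-- Topological invariance of étale morphisms, first-order form — for X étale over S and any S-scheme Y,
base change to a closed subscheme S₀ with the same underlying space gives a bijection between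
S-morphisms Y → X and S₀-morphisms of the base changes. -/
theorem result {S S₀ : Scheme.{u}} (i : S₀ ⟶ S) [IsClosedImmersion i] [Surjective i]
    (X Y : Over S) [AlgebraicGeometry.Etale X.hom] :
    Function.Bijective (fun φ : Y ⟶ X => (Over.pullback i).map φ) := by
  let adj := Over.mapPullbackAdj i
  let Y₀ := (Over.pullback i).obj Y
  let ε : (Over.map i).obj Y₀ ⟶ Y := adj.counit.app Y
  have key : ∀ φ : Y ⟶ X, (adj.homEquiv Y₀ X).symm ((Over.pullback i).map φ) = ε ≫ φ := fun φ => by
    rw [Adjunction.homEquiv_counit]; exact adj.counit.naturality φ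
  suffices hb : Function.Bijective (fun φ : Y ⟶ X => ε ≫ φ) by
    have e : (fun φ : Y ⟶ X => (Over.pullback i).map φ) =
        (adj.homEquiv Y₀ X) ∘ (fun φ => ε ≫ φ) := by
      funext φ; rw [Function.comp_apply, ← key φ, Equiv.apply_symm_apply]
    rw [e]; exact (adj.homEquiv Y₀ X).bijective.comp hb
  have hε : ε.left = pullback.fst Y.hom i := by
    simp [ε, adj]
  have h1 : IsClosedImmersion ε.left := by rw [hε]; infer_instance
  have h2 : Surjective ε.left := by rw [hε]; infer_instance
  constructor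
  · intro φ ψ h
    have h' : ε.left ≫ φ.left = ε.left ≫ ψ.left := by
      have := congrArg CommaMorphism.left h
      simpa using this
    exact Over.OverMorphism.ext (W.inj X.hom ε.left φ.left ψ.left (by rw [Over.w φ, Over.w ψ]) h')
  · intro θ
    obtain ⟨φ', e1, e2⟩ := W.surj X.hom Y.hom ε.left θ.left (by rw [Over.w θ, Over.w ε])
    exact ⟨Over.homMk φ' e1, by ext; simpa using e2⟩

end Groth.Agent.S0117
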