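import Groth.Statements.S0392
import Groth.Agent.Lib.Helper2.FibreCrit
-- import your own Groth.Agent.* helpers here

set_option autoImplicit false
universe u
open FlatMor

namespace Groth.Agent.S0392

open TensorProduct in
/-- Fibrewise criterion of flatness, Noetherian local form: for local homomorphisms R → S → S' of
Noetherian local rings and a nonzero finite S'-module M that is flat over R and whose reduction
modulo the maximal ideal of R is flat over the corresponding fibre ring of S, the ring S is flat
over R and M is flat over S. -/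
theorem result {R S S' M : Type u} [CommRing R] [CommRing S] [CommRing S'] [IsLocalRing R] [IsLocalRing S] [IsLocalRing S']
    [IsNoetherianRing R] [IsNoetherianRing S] [IsNoetherianRing S'] [Algebra R S] [Algebra S S'] [Algebra R S'] [IsScalarTower R S S']
    [IsLocalHom (algebraMap R S)] [IsLocalHom (algebraMap S S')]
    [AddCommGroup M] [Module S' M] [Module S M] [Module R M] [IsScalarTower S S' M] [IsScalarTower R S M]
    [Module.Finite S' M] [Nontrivial M] [Module.Flat R M]
    (h : Module.Flat (S ⧸ ((IsLocalRing.maximalIdeal R).map (algebraMap R S))) ((S ⧸ ((IsLocalRing.maximalIdeal R).map (algebraMap R S))) ⊗[S] M)) :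
    Module.Flat R S ∧ Module.Flat S M := by
  set m := IsLocalRing.maximalIdeal R with hm
  set I : Ideal S := m.map (algebraMap R S) with hI
  have hI_le : I ≤ IsLocalRing.maximalIdeal S := IsLocalRing.map_maximalIdeal_le (algebraMap R S)
  have hJ' : I.map (algebraMap S S') ≤ Ideal.jacobson ⊥ :=
    (Ideal.map_mono hI_le).trans ((IsLocalRing.map_maximalIdeal_le (algebraMap S S')).trans
      (IsLocalRing.maximalIdeal_le_jacobson _))
  have ha : Function.Injective (I.subtype.lTensor M) :=
    Groth.Agent.Lib.Helper2.FibreCrit.lTensor_map_subtype_injective (S := S) (M := M) m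
  have hflatS : Module.Flat S M :=
    Groth.Agent.Lib.Helper2.LocalCrit.flat_of_injective_of_flat_quotient (R := S) (S := S')
      (M := M) I hJ' ha
  have hff : Module.FaithfullyFlat S M := by
    refine { toFlat := hflatS, submodule_ne_top := ?_ }
    intro 𝔫 h𝔫 htop
    have h𝔫' : 𝔫 = IsLocalRing.maximalIdeal S := IsLocalRing.eq_maximalIdeal h𝔫
    have hle : (⊤ : Submodule S' M) ≤ (IsLocalRing.maximalIdeal S') • (⊤ : Submodule S' M) := by
      intro x _
      have hx : x ∈ 𝔫 • (⊤ : Submodule S M) := by rw [htop]; exact Submodule.mem_top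
      have hx' := Groth.Agent.Lib.Helper2.FlatCrit.mem_map_smul_top_of_mem_smul_top (S := S') 𝔫 hx
      refine Submodule.smul_mono ?_ le_rfl hx'
      rw [h𝔫']
      exact IsLocalRing.map_maximalIdeal_le (algebraMap S S')
    have hbot := Submodule.eq_bot_of_le_smul_of_le_jacobson_bot (IsLocalRing.maximalIdeal S')
      (⊤ : Submodule S' M) Module.Finite.fg_top hle (IsLocalRing.maximalIdeal_le_jacobson _)
    obtain ⟨x, hx⟩ := exists_ne (0 : M)
    have : x ∈ (⊤ : Submodule S' M) := Submodule.mem_top
    rw [hbot] at this
    exact hx ((Submodule.mem_bot S').mp this)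
  have hinj : Function.Injective (m.subtype.lTensor S) :=
    Groth.Agent.Lib.Helper2.FibreCrit.lTensor_injective_of_faithfullyFlat S M m.subtype
      (Module.Flat.lTensor_preserves_injective_linearMap _ m.injective_subtype)
  have hflatk : Module.Flat (R ⧸ m) ((R ⧸ m) ⊗[R] S) := by
    let _ : Field (R ⧸ m) := Ideal.Quotient.field _
    infer_instance
  have hJ : m.map (algebraMap R S) ≤ Ideal.jacobson ⊥ :=
    hI_le.trans (IsLocalRing.maximalIdeal_le_jacobson _)
  exact ⟨Groth.Agent.Lib.Helper2.LocalCrit.flat_of_injective_of_flat_quotient (R := R) (S := S)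
    (M := S) m hJ hinj, hflatS⟩

end Groth.Agent.S0392
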