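import Groth.Statements.S0341
import Groth.Agent.Lib.helper11.GorensteinLocal

set_option autoImplicit false
universe u v
open Goren

namespace Groth.Agent.S0341

/-- A Gorenstein local ring is Cohen–Macaulay. -/
theorem result (A : Type u) [CommRing A] [LocCoh.IsGorensteinLocalRing A] : LocCoh.IsCohenMacaulayLocalRing A := by
  obtain ⟨d, hd⟩ := Groth.Agent.Lib.Helper21.DepthKit.exists_nat_supportDim (A := A) (M := A)
  rw [Module.supportDim_self_eq_ringKrullDim] at hd
  have h := Groth.Agent.Lib.helper11.GorensteinLocal.gorenstein_main (A := A)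
    LocCoh.IsGorensteinLocalRing.exists_hasInjectiveDimensionLT d hd
  refine LocCoh.IsCohenMacaulayLocalRing.mk ?_
  rw [Module.supportDim_self_eq_ringKrullDim, hd, h.2.2]
  rfl

end Groth.Agent.S0341
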