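import Groth.Statements.S0343
import Mathlib
import Groth.Agent.Lib.Helper21.ReesExt
import Groth.Agent.Lib.helper11.InjDimKappa
import Groth.Agent.Lib.helper11.BassDepth

set_option autoImplicit false
universe u v
open Goren

namespace Groth.Agent.S0343

open CategoryTheory Abelian Groth.Agent.Lib.Helper21.ReesExt

section

variable {A : Type u} [CommRing A] (f : A)

/-- The reduction map `A → A/(f)` as a morphism of `A`-modules. -/
noncomputable def qA : ModuleCat.of A A ⟶ (F f).obj (ModuleCat.of (Abar f) (Abar f)) :=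
  ModuleCat.ofHom
    { toFun := fun a => Ideal.Quotient.mk (Ideal.span {f}) a
      map_add' := fun a b => map_add _ a b
      map_smul' := fun r a => by
        show Ideal.Quotient.mk (Ideal.span {f}) (r * a) = _
        rw [map_mul]
        rfl }

lemma smul_id_qA : (f • 𝟙 (ModuleCat.of A A)) ≫ qA f = 0 := by
  refine ModuleCat.hom_ext (LinearMap.ext fun a => ?_)
  have h1 : ((f • 𝟙 (ModuleCat.of A A)) ≫ qA f).hom a = (qA f).hom (f • a) := rfl
  rw [h1, map_smul, smul_F]
  rfl

variable {f} in
lemma baseSC_shortExact (hreg : IsSMulRegular A f) :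
    (ShortComplex.mk (f • 𝟙 (ModuleCat.of A A)) (qA f) (smul_id_qA f)).ShortExact := by
  refine ModuleCat.shortComplex_shortExact _ ?_ ?_ ?_
  · intro a
    constructor
    · intro ha
      have h1 : Ideal.Quotient.mk (Ideal.span {f}) a = 0 := ha
      rw [Ideal.Quotient.eq_zero_iff_mem, Ideal.mem_span_singleton'] at h1
      obtain ⟨b, hb⟩ := h1
      refine ⟨b, ?_⟩
      show f • b = a
      rw [smul_eq_mul, mul_comm]
      exact hb
    · rintro ⟨b, rfl⟩
      have := congrArg (fun g => g.hom b) (smul_id_qA f)
      exact this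
  · intro a b hab
    exact hreg hab
  · intro b
    obtain ⟨a, ha⟩ := Ideal.Quotient.mk_surjective b
    exact ⟨a, ha⟩

end

section

variable {A : Type u} [CommRing A] [IsLocalRing A] (f : A)

variable {f} in
lemma nontrivial_quot (hf : f ∈ IsLocalRing.maximalIdeal A) :
    Nontrivial (A ⧸ Ideal.span {f}) := by
  rw [Ideal.Quotient.nontrivial_iff]
  intro h
  have h1 : Ideal.span {f} ≤ IsLocalRing.maximalIdeal A :=
    (Ideal.span_singleton_le_iff_mem _).2 hf
  rw [h] at h1
  exact (IsLocalRing.maximalIdeal.isMaximal A).ne_top (top_le_iff.1 h1)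

variable [IsLocalRing (Abar f)]

/-- The residue field of `A/(f)`, restricted to `A`, is the residue field of `A`. -/
noncomputable def kappaIso :
    ModuleCat.of A (IsLocalRing.ResidueField A) ≅
      (F f).obj (ModuleCat.of (Abar f) (IsLocalRing.ResidueField (Abar f))) := by
  haveI : IsLocalHom (Ideal.Quotient.mk (Ideal.span {f})) :=
    IsLocalHom.of_surjective _ Ideal.Quotient.mk_surjective
  let ρ : IsLocalRing.ResidueField A →+* IsLocalRing.ResidueField (Abar f) :=
    IsLocalRing.ResidueField.map (Ideal.Quotient.mk (Ideal.span {f}))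
  let ρl : IsLocalRing.ResidueField A →ₗ[A]
      ((F f).obj (ModuleCat.of (Abar f) (IsLocalRing.ResidueField (Abar f))) : Type u) :=
    { toFun := fun z => ρ z
      map_add' := fun a b => map_add ρ a b
      map_smul' := fun r z => by
        show ρ (r • z) = _
        rw [Algebra.smul_def, map_mul]
        rfl }
  have hbij : Function.Bijective ρl := by
    constructor
    · exact ρ.injective
    · intro z
      obtain ⟨b, rfl⟩ := IsLocalRing.residue_surjective
        (show IsLocalRing.ResidueField (Abar f) from z)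
      obtain ⟨a, rfl⟩ := Ideal.Quotient.mk_surjective b
      exact ⟨IsLocalRing.residue A a, rfl⟩
  exact (LinearEquiv.ofBijective ρl hbij).toModuleIso

end


/-- For a Noetherian local ring A and a non-zero-divisor f in the maximal ideal, A is Gorenstein exactly
when A/(f) is. -/
theorem result (A : Type u) [CommRing A] [IsLocalRing A] [IsNoetherianRing A] (f : A) (hf : f ∈ IsLocalRing.maximalIdeal A) (hreg : IsSMulRegular A f) : LocCoh.IsGorensteinLocalRing A ↔ LocCoh.IsGorensteinLocalRing (A ⧸ Ideal.span {f}) := by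
  haveI : Nontrivial (Abar f) := nontrivial_quot hf
  haveI : IsLocalRing (Abar f) :=
    IsLocalRing.of_surjective' (Ideal.Quotient.mk (Ideal.span {f})) Ideal.Quotient.mk_surjective
  have hS := baseSC_shortExact hreg
  have key : ∀ i : ℕ,
      Subsingleton (Ext (ModuleCat.of A (IsLocalRing.ResidueField A)) (ModuleCat.of A A) (i + 1)) ↔
      Subsingleton (Ext (ModuleCat.of (Abar f) (IsLocalRing.ResidueField (Abar f)))
        (ModuleCat.of (Abar f) (Abar f)) i) := by
    intro i
    rw [← rees_subsingleton_iff hS hreg i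
      (ModuleCat.of (Abar f) (IsLocalRing.ResidueField (Abar f)))]
    exact Groth.Agent.Lib.helper11.BassDepth.subsingleton_ext_iff_of_iso (kappaIso f)
      (Iso.refl _)
  have hA := Groth.Agent.Lib.helper11.InjDimKappa.exists_hasInjectiveDimensionLT_iff (A := A) A
  have hB := Groth.Agent.Lib.helper11.InjDimKappa.exists_hasInjectiveDimensionLT_iff
    (A := Abar f) (Abar f)
  constructor
  · intro hG
    obtain ⟨N, hN⟩ := hA.1 hG.exists_hasInjectiveDimensionLT
    refine { exists_hasInjectiveDimensionLT := hB.2 ⟨N, fun i hi => ?_⟩ }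
    exact (key i).1 (hN (i + 1) (by omega))
  · intro hG
    obtain ⟨N, hN⟩ := hB.1 hG.exists_hasInjectiveDimensionLT
    refine { exists_hasInjectiveDimensionLT := hA.2 ⟨N + 1, fun i hi => ?_⟩ }
    obtain ⟨j, rfl⟩ : ∃ j, i = j + 1 := ⟨i - 1, by omega⟩
    exact (key j).2 (hN j (by omega))

end Groth.Agent.S0343
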