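import Groth.Statements.S0395
import Groth.Agent.Lib.Helper2.FlatCrit
-- import your own Groth.Agent.* helpers here

set_option autoImplicit false
universe u
open FlatMor

namespace Groth.Agent.S0395

open TensorProduct nonZeroDivisors in
/-- For a flat local homomorphism R → S of Noetherian local rings and an element f of S that is regular
on the fibre ring S/mS, the quotient of S by f is again R-flat and f is regular on S. -/
theorem result {R S : Type u} [CommRing R] [CommRing S] [IsLocalRing R] [IsLocalRing S] [IsNoetherianRing R] [IsNoetherianRing S] [Algebra R S] [IsLocalHom (algebraMap R S)] [Module.Flat R S]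
    (f : S) (hf : Ideal.Quotient.mk ((IsLocalRing.maximalIdeal R).map (algebraMap R S)) f ∈ nonZeroDivisors (S ⧸ ((IsLocalRing.maximalIdeal R).map (algebraMap R S)))) :
    Module.Flat R (S ⧸ Ideal.span {f}) ∧ f ∈ nonZeroDivisors S := by
  classical
  have hJ : (IsLocalRing.maximalIdeal R).map (algebraMap R S) ≤ Ideal.jacobson ⊥ :=
    (IsLocalRing.map_maximalIdeal_le (algebraMap R S)).trans
      (IsLocalRing.maximalIdeal_le_jacobson _)
  set m := IsLocalRing.maximalIdeal R with hm
  let u : S →ₗ[R] S := LinearMap.mulLeft R f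
  have hu : ∀ x, u x = f * x := fun x => rfl
  have hmem : ∀ s : S, s ∈ m • (⊤ : Submodule R S) ↔ s ∈ m.map (algebraMap R S) := by
    intro s
    rw [Ideal.smul_top_eq_map]
    rfl
  have h : Function.Injective (u.lTensor (R ⧸ m)) := by
    rw [injective_iff_map_eq_zero]
    intro x hx
    obtain ⟨s, rfl⟩ := Groth.Agent.Lib.Helper2.FlatCrit.exists_eq_one_tmul m x
    rw [LinearMap.lTensor_tmul, Groth.Agent.Lib.Helper2.FlatCrit.one_tmul_eq_zero_iff, hmem,
      hu] at hx
    rw [Groth.Agent.Lib.Helper2.FlatCrit.one_tmul_eq_zero_iff, hmem]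
    have h1 : Ideal.Quotient.mk (m.map (algebraMap R S)) s *
        Ideal.Quotient.mk (m.map (algebraMap R S)) f = 0 := by
      rw [← map_mul, mul_comm, Ideal.Quotient.eq_zero_iff_mem]
      exact hx
    have h2 := (mem_nonZeroDivisors_iff.mp hf).2 _ h1
    exact Ideal.Quotient.eq_zero_iff_mem.mp h2
  obtain ⟨hinj, hflat⟩ := Groth.Agent.Lib.Helper2.FlatCrit.injective_and_flat_coker (S := S)
    m hJ u h
  constructor
  · have hrange : LinearMap.range u = (Ideal.span {f}).restrictScalars R := by
      ext x
      simp only [LinearMap.mem_range, Submodule.restrictScalars_mem, Ideal.mem_span_singleton', hu]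
      constructor
      · rintro ⟨y, rfl⟩
        exact ⟨y, mul_comm _ _⟩
      · rintro ⟨y, rfl⟩
        exact ⟨y, mul_comm _ _⟩
    let e1 : (S ⧸ LinearMap.range u) ≃ₗ[R] (S ⧸ (Ideal.span {f}).restrictScalars R) :=
      Submodule.quotEquivOfEq _ _ hrange
    let e2 : (S ⧸ (Ideal.span {f}).restrictScalars R) ≃ₗ[R] (S ⧸ Ideal.span {f}) :=
      Submodule.Quotient.restrictScalarsEquiv R (Ideal.span {f})
    exact Module.Flat.of_linearEquiv (e1 ≪≫ₗ e2).symm
  · rw [mem_nonZeroDivisors_iff]
    constructor
    · intro x hx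
      exact hinj (by rw [hu, hx, map_zero])
    · intro x hx
      exact hinj (by rw [hu, mul_comm, hx, map_zero])

end Groth.Agent.S0395
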