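import Groth.Statements.S1760
import Groth.Agent.Lib.Helper5.GorFibreF

set_option autoImplicit false
universe u
open scoped TensorProduct
open Goren

namespace Groth.Agent.S1760

/-- First assertion, written for the local ring B = O_{X,x}. Let k'/k be a finitely generated field
extension, B a Noetherian local k-algebra, and q a prime of B ⊗_k k' lying over the maximal ideal of
B. Then B is Gorenstein if and only if the localization of B ⊗_k k' at q is Gorenstein. -/
theorem result (k k' : Type u) [Field k] [Field k'] [Algebra k k'] (hfg : ∃ s : Finset k', IntermediateField.adjoin k (s : Set k') = ⊤) (B : Type u) [CommRing B] [IsLocalRing B] [IsNoetherianRing B] [Algebra k B] (q : PrimeSpectrum (B ⊗[k] k')) (hq : q.asIdeal.comap (algebraMap B (B ⊗[k] k')) = IsLocalRing.maximalIdeal B) : LocCoh.IsGorensteinLocalRing B ↔ LocCoh.IsGorensteinLocalRing (Localization.AtPrime q.asIdeal) := by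
  have hess : Algebra.EssFiniteType k k' := IntermediateField.fg_top_iff.1 hfg
  have hNT : IsNoetherianRing (B ⊗[k] k') := by
    have : Algebra.EssFiniteType B (B ⊗[k] k') := inferInstance
    exact Algebra.EssFiniteType.isNoetherianRing B _
  have hflat : Module.Flat B (B ⊗[k] k') := inferInstance
  have hover : q.asIdeal.LiesOver (IsLocalRing.maximalIdeal B) := ⟨hq.symm⟩
  have hfib : LocCoh.IsGorensteinRing ((IsLocalRing.maximalIdeal B).Fiber (B ⊗[k] k')) :=
    Groth.Agent.Lib.Helper5.GorFibre.isGorensteinRing_of_ringEquiv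
      (Groth.Agent.Lib.Helper5.GorFibre.fiberTensorEquiv k B k' _).symm
      (Groth.Agent.Lib.Helper5.GorFibre.isGorensteinRing_tensor_of_fg k k' hfg _)
  have h1 := Groth.Agent.Lib.Helper5.GorFibre.gorenstein_localization_iff B (B ⊗[k] k')
    (IsLocalRing.maximalIdeal B) q.asIdeal hfib
  let e : B ≃ₐ[B] (Localization.AtPrime (IsLocalRing.maximalIdeal B)) :=
    IsLocalization.atUnits B (IsLocalRing.maximalIdeal B).primeCompl
      (fun x => by simpa using! fun a => a)
  have h2 : LocCoh.IsGorensteinLocalRing B ↔
      LocCoh.IsGorensteinLocalRing (Localization.AtPrime (IsLocalRing.maximalIdeal B)) :=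
    ⟨fun h => Groth.Agent.Lib.Helper5.GorIso.isGorensteinLocalRing_of_ringEquiv e.toRingEquiv,
      fun h => Groth.Agent.Lib.Helper5.GorIso.isGorensteinLocalRing_of_ringEquiv e.toRingEquiv.symm⟩
  exact h2.trans h1

end Groth.Agent.S1760
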