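import Groth.Statements.S1347
import Mathlib
import Groth.Agent.Lib.Helper21.FibreBC
import Groth.Agent.Lib.Helper17.FibreStalk
import Groth.Agent.Lib.Helper21.FlatLocal12

set_option autoImplicit false
universe u
open FlatMor

namespace Groth.Agent.S1347

open AlgebraicGeometry CategoryTheory Limits in
/-- descent of flatness at a point along a flat base change -/
theorem flat_of_baseChange {X Y X' Y' : Scheme.{u}} (f : X ⟶ Y)
    (f' : X' ⟶ Y') (g' : X' ⟶ X) (g : Y' ⟶ Y) (hc : IsPullback g' f' f g) (x' : X')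
    (hflat : (g.stalkMap (f' x')).hom.Flat) (h : (f'.stalkMap x').hom.Flat) :
    (f.stalkMap (g' x')).hom.Flat := by
  have hB : (g'.stalkMap x').hom.Flat :=
    Groth.Agent.Lib.Helper17.FibreStalk.flat_stalkMap_baseChange f f' g' g hc x' hflat
  obtain ⟨e, he⟩ : ∃ e : Y.presheaf.stalk (f (g' x')) ≅ Y.presheaf.stalk (g (f' x')),
      f.stalkMap (g' x') ≫ g'.stalkMap x' = e.hom ≫ g.stalkMap (f' x') ≫ f'.stalkMap x' := by
    have key := Scheme.Hom.stalkMap_congr_hom (g' ≫ f) (f' ≫ g) hc.w x'
    rw [Scheme.Hom.stalkMap_comp, Scheme.Hom.stalkMap_comp] at key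
    exact ⟨_, key⟩
  have hflatcomp : ((g'.stalkMap x').hom.comp (f.stalkMap (g' x')).hom).Flat := by
    have h1 : (g'.stalkMap x').hom.comp (f.stalkMap (g' x')).hom =
        ((f'.stalkMap x').hom.comp (g.stalkMap (f' x')).hom).comp e.hom.hom :=
      congrArg CommRingCat.Hom.hom he
    rw [h1]
    refine RingHom.Flat.comp (RingHom.Flat.of_bijective ?_) (RingHom.Flat.comp hflat h)
    exact ConcreteCategory.bijective_of_isIso e.hom
  letI : Algebra (Y.presheaf.stalk (f (g' x'))) (X.presheaf.stalk (g' x')) :=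
    (f.stalkMap (g' x')).hom.toAlgebra
  letI : Algebra (X.presheaf.stalk (g' x')) (X'.presheaf.stalk x') := (g'.stalkMap x').hom.toAlgebra
  letI : Algebra (Y.presheaf.stalk (f (g' x'))) (X'.presheaf.stalk x') :=
    ((g'.stalkMap x').hom.comp (f.stalkMap (g' x')).hom).toAlgebra
  haveI : IsScalarTower (Y.presheaf.stalk (f (g' x'))) (X.presheaf.stalk (g' x'))
      (X'.presheaf.stalk x') := .of_algebraMap_eq (fun _ => rfl)
  haveI : Module.Flat (X.presheaf.stalk (g' x')) (X'.presheaf.stalk x') := hB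
  haveI : Module.Flat (Y.presheaf.stalk (f (g' x'))) (X'.presheaf.stalk x') := hflatcomp
  haveI : IsLocalHom (algebraMap (X.presheaf.stalk (g' x')) (X'.presheaf.stalk x')) :=
    (inferInstance : IsLocalHom (g'.stalkMap x').hom)
  haveI : Module.FaithfullyFlat (X.presheaf.stalk (g' x')) (X'.presheaf.stalk x') :=
    Module.FaithfullyFlat.of_flat_of_isLocalHom
  exact Groth.Agent.Lib.Helper21.FlatLocal.flat_of_faithfullyFlat_comp
    (Y.presheaf.stalk (f (g' x'))) (X.presheaf.stalk (g' x')) (X'.presheaf.stalk x')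

open AlgebraicGeometry CategoryTheory Limits in

open AlgebraicGeometry CategoryTheory Limits in
/-- Let f have locally Noetherian fibres and let f' be its base change along a morphism g locally of
finite type. Given a point x' at which f' is Cohen–Macaulay, with g flat at f'(x'), the morphism f
is Cohen–Macaulay at the image g'(x') of x'. -/
theorem result {X Y X' Y' : Scheme.{u}} (f : X ⟶ Y) (hN : ∀ y : Y, IsLocallyNoetherian (f.fiber y))
    (f' : X' ⟶ Y') (g' : X' ⟶ X) (g : Y' ⟶ Y) [LocallyOfFiniteType g] (hc : IsPullback g' f' f g) (x' : X')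
    (hflat : (g.stalkMap (f' x')).hom.Flat) (h : MoreMor.IsCMAt f' x') : MoreMor.IsCMAt f (g' x') := by
  haveI := hN (g (f' x'))
  exact ⟨flat_of_baseChange f f' g' g hc x' hflat h.1,
    (Groth.Agent.Lib.Helper21.FibreBC.isCM_fibre_stalk_iff hc x').1 h.2⟩

end Groth.Agent.S1347
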