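import Groth.Statements.S10004
import Groth.Agent.Lib.Helper15.LimChart
import Groth.Agent.Lib.Helper3.QAffDescDiag
-- import your own Groth.Agent.* helpers here

set_option autoImplicit false
universe u
open CategoryTheory CategoryTheory.Limits AlgebraicGeometry
open AlgSp

namespace Groth.Agent.S10004

section H
set_option backward.isDefEq.respectTransparency.types false
namespace W1
open Groth.Agent.Lib.Helper15 Groth.Agent.Lib.Helper3

variable {S : Scheme.{u}} {I : Type u} [SmallCategory I] [IsCofiltered I]

theorem main (D : I ⥤ AlgSp.Sp S) (hD : ∀ i, AlgSp.IsAlgSpace (D.obj i))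
    (hDa : ∀ (i j : I) (φ : i ⟶ j), AlgSp.IsAffineMor (D.map φ))
    (c : Cone D) (hc : IsLimit c) :
    AlgSp.IsAlgSpace c.pt ∧ ∀ i, AlgSp.IsAffineMor (c.π.app i) := by
  have hDa' : ∀ (i j : I) (φ : i ⟶ j), AlgSp.RepWith @IsAffineHom (D.map φ) :=
    fun i j φ => (isAffineMor_iff_repWith _).1 (hDa i j φ)
  constructor
  · obtain ⟨i₀⟩ := IsCofiltered.nonempty (C := I)
    obtain ⟨U₀, p₀, he, hs⟩ := (hD i₀).atlas
    obtain ⟨cE, -, -, q, a, sq, -, -, -⟩ := LimChart.exists_chart D hDa' i₀ p₀ c hc
    have hqe : RepWith @Etale q := MorphismProperty.of_isPullback sq.flip he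
    have hqs : RepWith @Surjective q := MorphismProperty.of_isPullback sq.flip hs
    exact ⟨QAffDesc.representable_diag_of_atlas q hqe hqs, cE.pt, q, hqe, hqs⟩
  · intro i Z hZ g
    obtain ⟨cE, -, -, q, a, sq, -, -, ha⟩ := LimChart.exists_chart D hDa' i g c hc
    haveI : IsAffine Z.left := hZ
    exact ⟨cE.pt, a, q, sq, isAffine_of_isAffineHom a.left⟩

end W1
end H


/-- Let `(X_i)` be a cofiltered system of algebraic spaces over `S` (indexed by a small cofiltered
category, e.g. a directed inverse system) with affine transition morphisms, and let `X` be a limit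
of the system in the category of fppf sheaves of sets over `S`. Then `X` is an algebraic space over
`S` and each projection `X ⟶ X_i` is affine. (The published statement also asserts that for `T ⟶
X_i` the fibre product `X ×_{X_i} T` is the limit of the `X_{i'} ×_{X_i} T`; this row omits that
formal clause.) -/
theorem result (S : Scheme.{u}) {I : Type u} [SmallCategory I] [IsCofiltered I]
    (D : I ⥤ AlgSp.Sp S) (hD : ∀ i, AlgSp.IsAlgSpace (D.obj i))
    (hDa : ∀ (i j : I) (φ : i ⟶ j), AlgSp.IsAffineMor (D.map φ))
    (c : Cone D) (hc : IsLimit c) :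
    AlgSp.IsAlgSpace c.pt ∧ ∀ i, AlgSp.IsAffineMor (c.π.app i) := by
  exact W1.main D hD hDa c hc

end Groth.Agent.S10004
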