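import Groth.Statements.S2581
import Groth.Agent.Lib.Helper13.LimDescendSurj
import Groth.Agent.Lib.Helper13.LimDescendCore2

set_option autoImplicit false
universe u
open CategoryTheory AlgebraicGeometry
open EGA43

namespace Groth.Agent.S2581

/-- Let S = lim S_i be a cofiltered limit of schemes with affine transition morphisms, S_{i₀} a
quasi-compact quasi-separated stage (the source needs S_{i₀} only quasi-compact; quasi-separatedness
is assumed here), f₀ : X₀ ⟶ Y₀ an S_{i₀}-morphism between schemes of finite presentation over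
S_{i₀}, and f : X ⟶ Y its base change to S (base changes expressed by pullback squares). If f is
surjective, then the base change f_i : X_i ⟶ Y_i of f₀ to some stage S_i is surjective. -/
theorem result {I : Type u} [SmallCategory I] [IsCofiltered I]
    (D : I ⥤ Scheme.{u}) (c : Limits.Cone D) (hc : Limits.IsLimit c)
    [∀ (i j : I) (f : i ⟶ j), IsAffineHom (D.map f)] (i₀ : I) [CompactSpace (D.obj i₀)]
    [QuasiSeparatedSpace (D.obj i₀)] {X₀ Y₀ : Scheme.{u}} (f₀ : X₀ ⟶ Y₀) (g₀ : Y₀ ⟶ D.obj i₀)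
    [LocallyOfFinitePresentation g₀] [QuasiCompact g₀] [QuasiSeparated g₀]
    [LocallyOfFinitePresentation (f₀ ≫ g₀)] [QuasiCompact (f₀ ≫ g₀)] [QuasiSeparated (f₀ ≫ g₀)]
    {X Y : Scheme.{u}} (f : X ⟶ Y) (g : Y ⟶ c.pt) (qY : Y ⟶ Y₀) (qX : X ⟶ X₀)
    (hY : IsPullback qY g g₀ (c.π.app i₀)) (hX : IsPullback qX f f₀ qY) [Surjective f] :
    ∃ (i : I) (φ : i ⟶ i₀) (Xi Yi : Scheme.{u}) (fi : Xi ⟶ Yi) (gi : Yi ⟶ D.obj i) (pY : Yi ⟶ Y₀)
      (pX : Xi ⟶ X₀), IsPullback pY gi g₀ (D.map φ) ∧ IsPullback pX fi f₀ pY ∧ Surjective fi := by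
  have hf : Surjective f := inferInstance
  haveI : CompactSpace Y₀ := QuasiCompact.compactSpace_of_compactSpace g₀
  haveI : LocallyOfFinitePresentation f₀ :=
    Lib.Helper13.LimDescend.locallyOfFinitePresentation_of_comp f₀ g₀
  haveI : QuasiCompact f₀ := QuasiCompact.of_comp f₀ g₀
  refine Lib.Helper13.LimDescend.descend_of_core D c @Surjective i₀ f₀ g₀ ?_ f g qY qX hY hX hf
  intro a ha hP
  haveI : ∀ (j k : Over i₀) (φ : j ⟶ k),
      IsAffineHom ((Lib.Helper22.bcDiag D i₀ g₀).map φ) := fun _ _ φ => inferInstance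
  obtain ⟨s, hs, rfl⟩ := Lib.Helper13.LimDescend.exists_iso_eq_comp D i₀ f₀ g₀ a ha
  exact Lib.Helper13.LimDescend.core_surjective (Lib.Helper22.bcDiag D i₀ g₀)
    (Lib.Helper22.bcCone D c i₀ g₀) (Lib.Helper22.bcIsLimit D hc i₀ g₀)
    (Lib.Helper13.LimDescend.top i₀) (f₀ ≫ s) hP

end Groth.Agent.S2581
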