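import Groth.Statements.S9921
import Groth.Agent.Lib.Helper3.AlgSpQC7
import Groth.Agent.Lib.Helper3.AlgSpSep
import Groth.Agent.S9900

set_option autoImplicit false
universe u
open CategoryTheory CategoryTheory.Limits AlgebraicGeometry
open AlgSp

namespace Groth.Agent.S9921

/-- Over a base scheme with quasi-separated underlying space, a fibre product of algebraic spaces that
are quasi-compact and quasi-separated over S is again quasi-compact and quasi-separated over S. (The
published statement takes quasi-separatedness in the absolute sense; this row takes it over S and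
assumes S quasi-separated.) -/
theorem result {S : Scheme.{u}} [QuasiSeparatedSpace ↥S] {X Y Z P : AlgSp.Space S}
    (f : X ⟶ Y) (g : Z ⟶ Y) (fst : P ⟶ X) (snd : P ⟶ Z) (sq : IsPullback fst.hom snd.hom f.hom g.hom)
    (hX : AlgSp.IsQuasiCompactSp X.obj ∧ AlgSp.IsQuasiSeparatedSp X.obj)
    (hY : AlgSp.IsQuasiCompactSp Y.obj ∧ AlgSp.IsQuasiSeparatedSp Y.obj)
    (hZ : AlgSp.IsQuasiCompactSp Z.obj ∧ AlgSp.IsQuasiSeparatedSp Z.obj) :
    AlgSp.IsQuasiCompactSp P.obj ∧ AlgSp.IsQuasiSeparatedSp P.obj := by
  constructor
  · have hf := Groth.Agent.Lib.Helper3.isQuasiCompactMor_of_isQuasiCompactSp_of_isQuasiSeparatedSp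
      X.property f.hom hX.1 hY.2
    exact hf Z.property hZ.1 g.hom fst.hom snd.hom sq
  · have h1 : AlgSp.RepWith @QuasiCompact (pullback.diagonal f.hom) :=
      Groth.Agent.S9900.repWith_diagonal_of_repWith_diag _ f.hom hX.2
    have h2 : AlgSp.RepWith @QuasiCompact (pullback.diagonal snd.hom) :=
      Groth.Agent.Lib.Helper3.repWith_diagonal_of_isPullback _ sq h1
    have h3 : AlgSp.RepWith @QuasiCompact
        (prod.lift (pullback.fst snd.hom snd.hom) (pullback.snd snd.hom snd.hom)) :=
      MorphismProperty.of_isPullback
        (Groth.Agent.Lib.Helper3.isPullback_diag_of_isPullback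
          (IsPullback.of_hasPullback snd.hom snd.hom)) hZ.2
    have h4 : Limits.diag P.obj = pullback.diagonal snd.hom ≫
        prod.lift (pullback.fst snd.hom snd.hom) (pullback.snd snd.hom snd.hom) := by
      apply Limits.prod.hom_ext
      · simp only [Limits.diag, prod.lift_fst, Category.assoc, pullback.diagonal_fst]
      · simp only [Limits.diag, prod.lift_snd, Category.assoc, pullback.diagonal_snd]
    change AlgSp.RepWith @QuasiCompact (Limits.diag P.obj)
    rw [h4]
    exact MorphismProperty.comp_mem _ _ _ h2 h3

end Groth.Agent.S9921
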