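import Groth.Statements.S10016
import Groth.Agent.S10015
import Groth.Agent.S9921
import Groth.Agent.Lib.Helper3.AlgSpInj
import Groth.Agent.Lib.Helper3.AlgSpLocP5
import Groth.Agent.Lib.Helper3.AlgSpFibre
import Groth.Agent.Lib.Helper9.LfpLift
-- import your own Groth.Agent.* helpers here

set_option autoImplicit false
universe u
open CategoryTheory CategoryTheory.Limits AlgebraicGeometry
open AlgSp

namespace Groth.Agent.S10016

section H
set_option backward.isDefEq.respectTransparency.types false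
namespace W1
open Groth.Agent.Lib.Helper3 Groth.Agent.Lib.Helper15.LimDescend

section Cat
variable {C : Type*} [Category C] [HasPullbacks C] {X Y X₀ Y₀ : C} {f : X ⟶ Y} {f₀ : X₀ ⟶ Y₀}
  {pX : X ⟶ X₀} {pY : Y ⟶ Y₀}

/-- the map on self fibre products induced by a square -/
noncomputable def pZ (hX : IsPullback pX f f₀ pY) : pullback f f ⟶ pullback f₀ f₀ :=
  pullback.map f f f₀ f₀ pX pX pY hX.w.symm hX.w.symm

theorem pZ_fst (hX : IsPullback pX f f₀ pY) :
    pZ hX ≫ pullback.fst f₀ f₀ = pullback.fst f f ≫ pX := pullback.lift_fst _ _ _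

theorem pZ_snd (hX : IsPullback pX f f₀ pY) :
    pZ hX ≫ pullback.snd f₀ f₀ = pullback.snd f f ≫ pX := pullback.lift_snd _ _ _

theorem sqTop (hX : IsPullback pX f f₀ pY) :
    IsPullback (pZ hX) (pullback.fst f f) (pullback.fst f₀ f₀) pX := by
  have h1 : IsPullback (pullback.snd f f) (pullback.fst f f) f f :=
    (IsPullback.of_hasPullback f f).flip
  have h2 : IsPullback (pullback.snd f f ≫ pX) (pullback.fst f f) f₀ (f ≫ pY) := h1.paste_horiz hX
  have h3 : IsPullback (pullback.snd f₀ f₀) (pullback.fst f₀ f₀) f₀ f₀ :=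
    (IsPullback.of_hasPullback f₀ f₀).flip
  refine IsPullback.of_right ?_ (pZ_fst hX) h3
  rw [pZ_snd, hX.w]
  exact h2

theorem sqBase (hX : IsPullback pX f f₀ pY) :
    IsPullback (pZ hX) (pullback.fst f f ≫ f) (pullback.fst f₀ f₀ ≫ f₀) pY :=
  (sqTop hX).paste_vert hX

theorem sqDiag (hX : IsPullback pX f f₀ pY) :
    IsPullback pX (pullback.diagonal f) (pullback.diagonal f₀) (pZ hX) := by
  refine IsPullback.of_bot ?_ ?_ (sqTop hX)
  · rw [pullback.diagonal_fst, pullback.diagonal_fst]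
    exact IsPullback.of_vert_isIso ⟨by simp⟩
  · apply pullback.hom_ext
    · rw [Category.assoc, Category.assoc, pZ_fst, pullback.diagonal_fst, Category.comp_id,
        pullback.diagonal_fst_assoc]
    · rw [Category.assoc, Category.assoc, pZ_snd, pullback.diagonal_snd, Category.comp_id,
        pullback.diagonal_snd_assoc]

end Cat

variable {S : Scheme.{u}}

/-- the diagonal of a morphism locally of finite type is locally of finite presentation -/
theorem locP_lfp_diagonal {X Y : Sp S} (hX : IsAlgSpace X) (hY : IsAlgSpace Y) (f : X ⟶ Y)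
    (hf : LocP @LocallyOfFiniteType f) :
    LocP @LocallyOfFinitePresentation (pullback.diagonal f) := by
  intro U W u v h hu hv w
  have hZ : IsAlgSpace (pullback f f) :=
    isAlgSpace_of_isPullback' hY hX hX (IsPullback.of_hasPullback f f)
  have h1 : LocP @LocallyOfFiniteType (pullback.fst f f) :=
    locP_of_isPullback isEtLocal_locallyOfFiniteType hX hY hX hZ f f (pullback.snd f f)
      (pullback.fst f f) (IsPullback.of_hasPullback f f).flip hf
  have h2 : LocP @LocallyOfFiniteType v :=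
    locP_of_repWith isEtLocal_locallyOfFiniteType v
      (repWith_mono (fun _ _ g hg => by have : Etale g := hg; infer_instance) hv)
  have h3 : LocP @LocallyOfFiniteType (v ≫ pullback.fst f f) :=
    locP_comp isEtLocal_locallyOfFiniteType (IsAlgSpace.yon_obj W) hZ hX _ _ h2 h1
  have sq := hu.rep.isPullback (v ≫ pullback.fst f f)
  have hse : Etale (hu.rep.snd (v ≫ pullback.fst f f)).left := hu.property_snd _
  obtain ⟨h', hh'⟩ := (yon S).map_surjective (hu.rep.fst (v ≫ pullback.fst f f))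
  rw [← hh'] at sq
  have hsnd_et : RepWith @Etale ((yon S).map (hu.rep.snd (v ≫ pullback.fst f f))) :=
    (repWith_yon_map_iff _ _).2 hse
  have hlft : LocallyOfFiniteType h'.left := h3 _ _ h' hsnd_et hu sq.w.symm
  have wσ : 𝟙 _ ≫ u = (yon S).map h ≫ v ≫ pullback.fst f f := by
    rw [Category.id_comp, ← Category.assoc, ← w, Category.assoc, pullback.diagonal_fst,
      Category.comp_id]
  obtain ⟨σ, hσ⟩ := (yon S).map_surjective (sq.lift (𝟙 _) ((yon S).map h) wσ)
  have hσ1 : σ ≫ h' = 𝟙 U := by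
    apply (yon S).map_injective
    rw [Functor.map_comp, hσ, sq.lift_fst, CategoryTheory.Functor.map_id]
  have hσ2 : σ ≫ hu.rep.snd (v ≫ pullback.fst f f) = h := by
    apply (yon S).map_injective
    rw [Functor.map_comp, hσ, sq.lift_snd]
  have hσ1' : σ.left ≫ h'.left = 𝟙 U.left := by
    rw [← Over.comp_left, hσ1]; rfl
  haveI : LocallyOfFinitePresentation (σ.left ≫ h'.left) := by rw [hσ1']; infer_instance
  haveI : LocallyOfFinitePresentation σ.left :=
    Groth.Agent.Lib.Helper9.LfpLift.locallyOfFinitePresentation_of_comp σ.left h'.left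
  rw [← hσ2, Over.comp_left]
  infer_instance

theorem main (S : Scheme.{u}) [QuasiSeparatedSpace S] {I : Type u} [SmallCategory I] [IsCofiltered I]
    (D : I ⥤ AlgSp.Sp S) (hD : ∀ i, AlgSp.IsAlgSpace (D.obj i))
    (hDa : ∀ (i j : I) (φ : i ⟶ j), AlgSp.IsAffineMor (D.map φ))
    (c : Cone D) (hc : IsLimit c) (i₀ : I)
    (X₀ Y₀ : AlgSp.Space S) (f₀ : X₀.obj ⟶ Y₀.obj) (b₀ : Y₀.obj ⟶ D.obj i₀)
    (hXqc : AlgSp.IsQuasiCompactSp X₀.obj) (hXqs : AlgSp.IsQuasiSeparatedSp X₀.obj)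
    (hYqc : AlgSp.IsQuasiCompactSp Y₀.obj) (hYqs : AlgSp.IsQuasiSeparatedSp Y₀.obj)
    (X Y : AlgSp.Sp S) (f : X ⟶ Y) (pY : Y ⟶ Y₀.obj) (qY : Y ⟶ c.pt)
    (hY : IsPullback pY qY b₀ (c.π.app i₀)) (pX : X ⟶ X₀.obj) (hX : IsPullback pX f f₀ pY)
    (hf : AlgSp.IsUnivInjectiveMor f) (hf₀ : AlgSp.LocP @LocallyOfFiniteType f₀) :
    ∃ (i : I) (φ : i ⟶ i₀), ∀ (Xi Yi : AlgSp.Sp S) (fi : Xi ⟶ Yi) (pYi : Yi ⟶ Y₀.obj) (qYi : Yi ⟶ D.obj i)
      (_ : IsPullback pYi qYi b₀ (D.map φ)) (pXi : Xi ⟶ X₀.obj) (_ : IsPullback pXi fi f₀ pYi),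
      AlgSp.IsUnivInjectiveMor fi := by
  have hZ₀ : IsAlgSpace (pullback f₀ f₀) :=
    isAlgSpace_of_isPullback' Y₀.property X₀.property X₀.property (IsPullback.of_hasPullback f₀ f₀)
  let Z₀ : AlgSp.Space S := ⟨pullback f₀ f₀, hZ₀⟩
  have hZq : AlgSp.IsQuasiCompactSp Z₀.obj ∧ AlgSp.IsQuasiSeparatedSp Z₀.obj :=
    Groth.Agent.S9921.result (X := X₀) (Y := Y₀) (Z := X₀) (P := Z₀)
      (ObjectProperty.homMk f₀) (ObjectProperty.homMk f₀)
      (ObjectProperty.homMk (pullback.fst f₀ f₀)) (ObjectProperty.homMk (pullback.snd f₀ f₀))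
      (IsPullback.of_hasPullback f₀ f₀) ⟨hXqc, hXqs⟩ ⟨hYqc, hYqs⟩ ⟨hXqc, hXqs⟩
  have hΔ₀ : LocP @LocallyOfFinitePresentation (pullback.diagonal f₀) :=
    locP_lfp_diagonal X₀.property Y₀.property f₀ hf₀
  have hΔs : IsSurjectiveMor (pullback.diagonal f) :=
    isSurjectiveMor_diagonal_of_isUnivInjectiveMor hf
  obtain ⟨i, φ, hi⟩ := Groth.Agent.S10015.W1.main S D hDa c hc i₀ X₀ Z₀ (pullback.diagonal f₀)
    ((pullback.fst f₀ f₀ ≫ f₀) ≫ b₀) hXqc hZq.1 hZq.2 X (pullback f f) (pullback.diagonal f)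
    (pZ hX) ((pullback.fst f f ≫ f) ≫ qY) ((sqBase hX).paste_vert hY) pX (sqDiag hX) hΔs hΔ₀
  refine ⟨i, φ, fun Xi Yi fi pYi qYi hYi pXi hXi => ?_⟩
  have hYi' : IsAlgSpace Yi := isAlgSpace_of_isPullback' (hD i₀) Y₀.property (hD i) hYi
  have hXi' : IsAlgSpace Xi := isAlgSpace_of_isPullback' Y₀.property X₀.property hYi' hXi
  have := hi Xi (pullback fi fi) (pullback.diagonal fi) (pZ hXi) ((pullback.fst fi fi ≫ fi) ≫ qYi)
    ((sqBase hXi).paste_vert hYi) pXi (sqDiag hXi)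
  exact (injOnFieldPts_of_isSurjectiveMor_diagonal hXi' this).isUnivInjectiveMor

end W1
end H


/-- Let `S` be a quasi-separated scheme and `B` the limit, in fppf sheaves over `S`, of a cofiltered
system `(B_i)` of algebraic spaces over `S` whose transition maps are affine; fix an index `i₀` such
that `B_{i₀}` is quasi-compact and quasi-separated over `S`, and a morphism `f₀ : X₀ ⟶ Y₀` of
algebraic spaces over `B_{i₀}` whose source and target are quasi-compact and quasi-separated over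
`S`. Write `f_i` (for `i` mapping to `i₀`) and `f` for the base changes of `f₀` to `B_i` and to `B`,
given by pullback squares. If `f` is universally injective and `f₀` locally of finite type, then for
some `i` mapping to `i₀` every such base change `f_i` is universally injective. (The published
statement allows any base scheme and uses absolute quasi-separatedness; this row assumes the base
quasi-separated, over which quasi-separatedness relative to the base is the absolute notion.) -/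
theorem result (S : Scheme.{u}) [QuasiSeparatedSpace S] {I : Type u} [SmallCategory I] [IsCofiltered I]
    (D : I ⥤ AlgSp.Sp S) (hD : ∀ i, AlgSp.IsAlgSpace (D.obj i))
    (hDa : ∀ (i j : I) (φ : i ⟶ j), AlgSp.IsAffineMor (D.map φ))
    (c : Cone D) (hc : IsLimit c) (i₀ : I)
    (hBqc : AlgSp.IsQuasiCompactSp (D.obj i₀)) (hBqs : AlgSp.IsQuasiSeparatedSp (D.obj i₀))
    (X₀ Y₀ : AlgSp.Space S) (f₀ : X₀.obj ⟶ Y₀.obj) (b₀ : Y₀.obj ⟶ D.obj i₀)
    (hXqc : AlgSp.IsQuasiCompactSp X₀.obj) (hXqs : AlgSp.IsQuasiSeparatedSp X₀.obj)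
    (hYqc : AlgSp.IsQuasiCompactSp Y₀.obj) (hYqs : AlgSp.IsQuasiSeparatedSp Y₀.obj)
    (X Y : AlgSp.Sp S) (f : X ⟶ Y) (pY : Y ⟶ Y₀.obj) (qY : Y ⟶ c.pt)
    (hY : IsPullback pY qY b₀ (c.π.app i₀)) (pX : X ⟶ X₀.obj) (hX : IsPullback pX f f₀ pY)
    (hf : AlgSp.IsUnivInjectiveMor f) (hf₀ : AlgSp.LocP @LocallyOfFiniteType f₀) :
    ∃ (i : I) (φ : i ⟶ i₀), ∀ (Xi Yi : AlgSp.Sp S) (fi : Xi ⟶ Yi) (pYi : Yi ⟶ Y₀.obj) (qYi : Yi ⟶ D.obj i)
      (_ : IsPullback pYi qYi b₀ (D.map φ)) (pXi : Xi ⟶ X₀.obj) (_ : IsPullback pXi fi f₀ pYi),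
      AlgSp.IsUnivInjectiveMor fi := by
  exact W1.main S D hD hDa c hc i₀ X₀ Y₀ f₀ b₀ hXqc hXqs hYqc hYqs X Y f pY qY hY pX hX hf hf₀

end Groth.Agent.S10016
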