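import Groth.Statements.S10021
import Groth.Agent.S10013
import Groth.Agent.S10015
import Groth.Agent.S10016
import Groth.Agent.Lib.Helper3.AlgSpEtMono
import Groth.Agent.Lib.Helper3.AlgSpOpenSub
-- import your own Groth.Agent.* helpers here

set_option autoImplicit false
universe u
open CategoryTheory CategoryTheory.Limits AlgebraicGeometry
open AlgSp

namespace Groth.Agent.S10021

section H
set_option backward.isDefEq.respectTransparency.types false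
namespace W1
open Groth.Agent.Lib.Helper3 Groth.Agent.Lib.Helper15.LimDescend

variable {S : Scheme.{u}}

/-- a property holding for all base changes to a stage holds for all base changes to a later
stage, if it is stable under base change (between algebraic spaces) -/
theorem stage_mono {I : Type u} [SmallCategory I] (Q : MorphismProperty (Sp S))
    (hQ : ∀ {A B A' B' : Sp S} {f : A ⟶ B} {g : B' ⟶ B} {fst : A' ⟶ A} {f' : A' ⟶ B'},
      IsAlgSpace A → IsAlgSpace B → IsAlgSpace B' → IsAlgSpace A' → IsPullback fst f' f g →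
      Q f → Q f')
    (D : I ⥤ Sp S) (hD : ∀ i, IsAlgSpace (D.obj i)) {i₀ : I} (X₀ Y₀ : Space S)
    (f₀ : X₀.obj ⟶ Y₀.obj) (b₀ : Y₀.obj ⟶ D.obj i₀) {i : I} (φ : i ⟶ i₀)
    (hk : ∀ (Xi Yi : Sp S) (fi : Xi ⟶ Yi) (pYi : Yi ⟶ Y₀.obj) (qYi : Yi ⟶ D.obj i)
      (_ : IsPullback pYi qYi b₀ (D.map φ)) (pXi : Xi ⟶ X₀.obj) (_ : IsPullback pXi fi f₀ pYi),
      Q fi) {i' : I} (ψ : i' ⟶ i) :
    ∀ (Xi Yi : Sp S) (fi : Xi ⟶ Yi) (pYi : Yi ⟶ Y₀.obj) (qYi : Yi ⟶ D.obj i')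
      (_ : IsPullback pYi qYi b₀ (D.map (ψ ≫ φ))) (pXi : Xi ⟶ X₀.obj)
      (_ : IsPullback pXi fi f₀ pYi), Q fi := by
  intro Xi Yi fi pYi qYi hYi pXi hXi
  have hYj := IsPullback.of_hasPullback b₀ (D.map φ)
  have hXj := IsPullback.of_hasPullback f₀ (pullback.fst b₀ (D.map φ))
  have hQj := hk _ _ _ _ _ hYj _ hXj
  have wg : pYi ≫ b₀ = (qYi ≫ D.map ψ) ≫ D.map φ := by
    rw [Category.assoc, ← Functor.map_comp]; exact hYi.w
  let g : Yi ⟶ pullback b₀ (D.map φ) := pullback.lift pYi (qYi ≫ D.map ψ) wg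
  have hg1 : g ≫ pullback.fst b₀ (D.map φ) = pYi := pullback.lift_fst _ _ _
  have wl : pXi ≫ f₀ = (fi ≫ g) ≫ pullback.fst b₀ (D.map φ) := by
    rw [Category.assoc, hg1]; exact hXi.w
  let l : Xi ⟶ pullback f₀ (pullback.fst b₀ (D.map φ)) := pullback.lift pXi (fi ≫ g) wl
  have hl1 : l ≫ pullback.fst f₀ (pullback.fst b₀ (D.map φ)) = pXi := pullback.lift_fst _ _ _
  have hl2 : l ≫ pullback.snd f₀ (pullback.fst b₀ (D.map φ)) = fi ≫ g := pullback.lift_snd _ _ _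
  have sq : IsPullback l fi (pullback.snd f₀ (pullback.fst b₀ (D.map φ))) g := by
    refine IsPullback.of_right ?_ hl2 hXj
    rw [hl1, hg1]
    exact hXi
  have hYj' : IsAlgSpace (pullback b₀ (D.map φ)) :=
    isAlgSpace_of_isPullback' (hD i₀) Y₀.property (hD i) hYj
  have hXj' : IsAlgSpace (pullback f₀ (pullback.fst b₀ (D.map φ))) :=
    isAlgSpace_of_isPullback' Y₀.property X₀.property hYj' hXj
  have hYi' : IsAlgSpace Yi := isAlgSpace_of_isPullback' (hD i₀) Y₀.property (hD i') hYi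
  have hXi' : IsAlgSpace Xi := isAlgSpace_of_isPullback' Y₀.property X₀.property hYi' hXi
  exact hQ hXj' hYj' hYi' hXi' sq hQj

theorem isEtaleMor_of_isIso {X Y : Sp S} (f : X ⟶ Y) [IsIso f] : IsEtaleMor f := by
  intro U φ hφ
  exact (MorphismProperty.cancel_right_of_respectsIso (RepWith @Etale) φ f).2 hφ

theorem isSurjectiveMor_of_isIso {X Y : Sp S} (f : X ⟶ Y) [IsIso f] : IsSurjectiveMor f := by
  intro y
  refine ⟨Points.map (inv f) y, ?_⟩
  rw [← Points.map_comp, IsIso.inv_hom_id, Points.map_id]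

theorem isUnivInjectiveMor_of_mono {X Y : Sp S} (f : X ⟶ Y) [Mono f] : IsUnivInjectiveMor f := by
  apply InjOnFieldPts.isUnivInjectiveMor
  intro K _ str a b hab
  exact (cancel_mono f).1 hab

theorem isUnivInjectiveMor_of_isPullback {A B A' B' : Sp S} {f : A ⟶ B} {g : B' ⟶ B}
    {fst : A' ⟶ A} {f' : A' ⟶ B'} (sq : IsPullback fst f' f g) (hf : IsUnivInjectiveMor f) :
    IsUnivInjectiveMor f' := by
  intro Z Z' hZ k a b sq'
  exact hf hZ (k ≫ g) (a ≫ fst) b (sq'.paste_horiz sq)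

theorem main (S : Scheme.{u}) [QuasiSeparatedSpace S] {I : Type u} [SmallCategory I] [IsCofiltered I]
    (D : I ⥤ AlgSp.Sp S) (hD : ∀ i, AlgSp.IsAlgSpace (D.obj i))
    (hDa : ∀ (i j : I) (φ : i ⟶ j), AlgSp.IsAffineMor (D.map φ))
    (c : Cone D) (hc : IsLimit c) (i₀ : I)
    (X₀ Y₀ : AlgSp.Space S) (f₀ : X₀.obj ⟶ Y₀.obj) (b₀ : Y₀.obj ⟶ D.obj i₀)
    (hXqc : AlgSp.IsQuasiCompactSp X₀.obj) (hXqs : AlgSp.IsQuasiSeparatedSp X₀.obj)
    (hYqc : AlgSp.IsQuasiCompactSp Y₀.obj) (hYqs : AlgSp.IsQuasiSeparatedSp Y₀.obj)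
    (X Y : AlgSp.Sp S) (f : X ⟶ Y) (pY : Y ⟶ Y₀.obj) (qY : Y ⟶ c.pt)
    (hY : IsPullback pY qY b₀ (c.π.app i₀)) (pX : X ⟶ X₀.obj) (hX : IsPullback pX f f₀ pY)
    [IsIso f] (hf₀ : AlgSp.LocP @LocallyOfFinitePresentation f₀) :
    ∃ (i : I) (φ : i ⟶ i₀), ∀ (Xi Yi : AlgSp.Sp S) (fi : Xi ⟶ Yi) (pYi : Yi ⟶ Y₀.obj) (qYi : Yi ⟶ D.obj i)
      (_ : IsPullback pYi qYi b₀ (D.map φ)) (pXi : Xi ⟶ X₀.obj) (_ : IsPullback pXi fi f₀ pYi),
      IsIso fi := by
  have hlft : LocP @LocallyOfFiniteType f₀ :=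
    locP_mono (fun _ _ g hg => by have : LocallyOfFinitePresentation g := hg; infer_instance) hf₀
  obtain ⟨i₁, φ₁, h₁⟩ := Groth.Agent.S10013.W1.main S D hD hDa c hc i₀ X₀ Y₀ f₀ b₀ hXqc hYqc hYqs
    X Y f pY qY hY pX hX (isEtaleMor_of_isIso f) hf₀
  obtain ⟨i₂, φ₂, h₂⟩ := Groth.Agent.S10015.W1.main S D hDa c hc i₀ X₀ Y₀ f₀ b₀ hXqc hYqc hYqs
    X Y f pY qY hY pX hX (isSurjectiveMor_of_isIso f) hf₀
  obtain ⟨i₃, φ₃, h₃⟩ := Groth.Agent.S10016.W1.main S D hD hDa c hc i₀ X₀ Y₀ f₀ b₀ hXqc hXqs hYqc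
    hYqs X Y f pY qY hY pX hX (isUnivInjectiveMor_of_mono f) hlft
  let k₁ : Over i₀ := Over.mk φ₁
  let k₂ : Over i₀ := Over.mk φ₂
  let k₃ : Over i₀ := Over.mk φ₃
  let k : Over i₀ := IsCofiltered.min (IsCofiltered.min k₁ k₂) k₃
  let ψ₁ : k ⟶ k₁ := IsCofiltered.minToLeft _ _ ≫ IsCofiltered.minToLeft _ _
  let ψ₂ : k ⟶ k₂ := IsCofiltered.minToLeft _ _ ≫ IsCofiltered.minToRight _ _
  let ψ₃ : k ⟶ k₃ := IsCofiltered.minToRight _ _
  have e₁ : ψ₁.left ≫ φ₁ = k.hom := Over.w ψ₁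
  have e₂ : ψ₂.left ≫ φ₂ = k.hom := Over.w ψ₂
  have e₃ : ψ₃.left ≫ φ₃ = k.hom := Over.w ψ₃
  refine ⟨k.left, k.hom, fun Xi Yi fi pYi qYi hYi pXi hXi => ?_⟩
  have hYi' : IsAlgSpace Yi := isAlgSpace_of_isPullback' (hD i₀) Y₀.property (hD _) hYi
  have hXi' : IsAlgSpace Xi := isAlgSpace_of_isPullback' Y₀.property X₀.property hYi' hXi
  have het : IsEtaleMor fi := by
    refine stage_mono IsEtaleMor (fun hA hB hB' hA' sq h =>
      isEtaleMor_of_isPullback hA hB hB' hA' _ _ _ _ sq h) D hD X₀ Y₀ f₀ b₀ φ₁ h₁ ψ₁.left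
      Xi Yi fi pYi qYi ?_ pXi hXi
    rw [e₁]; exact hYi
  have hsurj : IsSurjectiveMor fi := by
    refine stage_mono IsSurjectiveMor (fun _ _ _ _ sq h =>
      isSurjectiveMor_snd_of_isPullback sq h) D hD X₀ Y₀ f₀ b₀ φ₂ h₂ ψ₂.left
      Xi Yi fi pYi qYi ?_ pXi hXi
    rw [e₂]; exact hYi
  have hinj : IsUnivInjectiveMor fi := by
    refine stage_mono IsUnivInjectiveMor (fun _ _ _ _ sq h =>
      isUnivInjectiveMor_of_isPullback sq h) D hD X₀ Y₀ f₀ b₀ φ₃ h₃ ψ₃.left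
      Xi Yi fi pYi qYi ?_ pXi hXi
    rw [e₃]; exact hYi
  exact isIso_of_repWith_isOpenImmersion_of_isSurjectiveMor fi
    (repWith_isOpenImmersion_of_etale_univInjective hXi' hYi' fi het hinj) hsurj

end W1
end H


/-- Let `S` be a quasi-separated scheme and `B` the limit, in fppf sheaves over `S`, of a cofiltered
system `(B_i)` of algebraic spaces over `S` whose transition maps are affine; fix an index `i₀` such
that `B_{i₀}` is quasi-compact and quasi-separated over `S`, and a morphism `f₀ : X₀ ⟶ Y₀` of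
algebraic spaces over `B_{i₀}` whose source and target are quasi-compact and quasi-separated over
`S`. Write `f_i` (for `i` mapping to `i₀`) and `f` for the base changes of `f₀` to `B_i` and to `B`,
given by pullback squares. If `f` is an isomorphism and `f₀` locally of finite presentation, then
for some `i` mapping to `i₀` every such base change `f_i` is an isomorphism. (The published
statement allows any base scheme and uses absolute quasi-separatedness; this row assumes the base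
quasi-separated, over which quasi-separatedness relative to the base is the absolute notion.) -/
theorem result (S : Scheme.{u}) [QuasiSeparatedSpace S] {I : Type u} [SmallCategory I] [IsCofiltered I]
    (D : I ⥤ AlgSp.Sp S) (hD : ∀ i, AlgSp.IsAlgSpace (D.obj i))
    (hDa : ∀ (i j : I) (φ : i ⟶ j), AlgSp.IsAffineMor (D.map φ))
    (c : Cone D) (hc : IsLimit c) (i₀ : I)
    (hBqc : AlgSp.IsQuasiCompactSp (D.obj i₀)) (hBqs : AlgSp.IsQuasiSeparatedSp (D.obj i₀))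
    (X₀ Y₀ : AlgSp.Space S) (f₀ : X₀.obj ⟶ Y₀.obj) (b₀ : Y₀.obj ⟶ D.obj i₀)
    (hXqc : AlgSp.IsQuasiCompactSp X₀.obj) (hXqs : AlgSp.IsQuasiSeparatedSp X₀.obj)
    (hYqc : AlgSp.IsQuasiCompactSp Y₀.obj) (hYqs : AlgSp.IsQuasiSeparatedSp Y₀.obj)
    (X Y : AlgSp.Sp S) (f : X ⟶ Y) (pY : Y ⟶ Y₀.obj) (qY : Y ⟶ c.pt)
    (hY : IsPullback pY qY b₀ (c.π.app i₀)) (pX : X ⟶ X₀.obj) (hX : IsPullback pX f f₀ pY)
    [IsIso f] (hf₀ : AlgSp.LocP @LocallyOfFinitePresentation f₀) :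
    ∃ (i : I) (φ : i ⟶ i₀), ∀ (Xi Yi : AlgSp.Sp S) (fi : Xi ⟶ Yi) (pYi : Yi ⟶ Y₀.obj) (qYi : Yi ⟶ D.obj i)
      (_ : IsPullback pYi qYi b₀ (D.map φ)) (pXi : Xi ⟶ X₀.obj) (_ : IsPullback pXi fi f₀ pYi),
      IsIso fi := by
  exact W1.main S D hD hDa c hc i₀ X₀ Y₀ f₀ b₀ hXqc hXqs hYqc hYqs X Y f pY qY hY pX hX hf₀

end Groth.Agent.S10021
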