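import Groth.Statements.S9905
import Groth.Agent.Lib.Helper3.AlgSpSep

set_option autoImplicit false
universe u
open CategoryTheory CategoryTheory.Limits AlgebraicGeometry
open AlgSp

namespace Groth.Agent.S9905

open Groth.Agent.Lib.Helper3

theorem isSeparatedMor_iff_repWith {S : Scheme.{u}} {X Y : AlgSp.Sp S} (f : X ⟶ Y)
    (hf : AlgSp.Representable f) :
    AlgSp.IsSeparatedMor f ↔ AlgSp.RepWith @IsSeparated f := by
  constructor
  · intro h
    refine ⟨hf, fun U V g fst snd sq => ?_⟩
    have h1 : AlgSp.IsSeparatedMor ((AlgSp.yon S).map snd) :=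
      repWith_diagonal_of_isPullback _ sq h
    exact (AlgSp.isSeparatedMor_yon_map_iff snd).1 h1
  · intro h
    exact repWith_diagonal_of_repWith (P := @IsClosedImmersion) (Q := @IsSeparated)
      (fun A B g hg => by have : IsSeparated g := hg; infer_instance) f h

theorem isQuasiSeparatedMor_iff_repWith {S : Scheme.{u}} {X Y : AlgSp.Sp S} (f : X ⟶ Y)
    (hf : AlgSp.Representable f) :
    AlgSp.IsQuasiSeparatedMor f ↔ AlgSp.RepWith @QuasiSeparated f := by
  constructor
  · intro h
    refine ⟨hf, fun U V g fst snd sq => ?_⟩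
    have h1 : AlgSp.IsQuasiSeparatedMor ((AlgSp.yon S).map snd) :=
      repWith_diagonal_of_isPullback _ sq h
    exact (AlgSp.isQuasiSeparatedMor_yon_map_iff snd).1 h1
  · intro h
    exact repWith_diagonal_of_repWith (P := @QuasiCompact) (Q := @QuasiSeparated)
      (fun A B g hg => by have : QuasiSeparated g := hg; infer_instance) f h

/-- For a morphism of algebraic spaces representable by schemes, separated in the diagonal sense agrees
with separated in the representable sense, and likewise for quasi-separated. -/
theorem result {S : Scheme.{u}} {X Y : AlgSp.Space S} (f : X ⟶ Y)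
    (hf : AlgSp.Representable f.hom) :
    (AlgSp.IsSeparatedMor f.hom ↔ AlgSp.RepWith @IsSeparated f.hom) ∧
    (AlgSp.IsQuasiSeparatedMor f.hom ↔ AlgSp.RepWith @QuasiSeparated f.hom) := by
  exact ⟨isSeparatedMor_iff_repWith f.hom hf, isQuasiSeparatedMor_iff_repWith f.hom hf⟩

end Groth.Agent.S9905
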