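import Groth.Statements.S10268
import Groth.Agent.Lib.Helper3.AffDescProps

set_option autoImplicit false
universe u
open CategoryTheory CategoryTheory.Limits AlgebraicGeometry
open AlgSp

namespace Groth.Agent.S10268

/-- (3) ⇒ (2): integrality and finiteness of a morphism of algebraic spaces descend along a surjective
etale base change from a scheme. -/
theorem result {S : Scheme.{u}} {X Y : AlgSp.Space S} (f : X ⟶ Y) (V : Over S)
    (p : (AlgSp.yon S).obj V ⟶ Y.obj) (hp : AlgSp.RepWith @Etale p) (hps : AlgSp.RepWith @Surjective p)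
    {P : AlgSp.Sp S} (fst : P ⟶ X.obj) (snd : P ⟶ (AlgSp.yon S).obj V) (sq : IsPullback fst snd f.hom p) :
    (AlgSp.IsIntegralMor snd → AlgSp.IsIntegralMor f.hom) ∧ (AlgSp.IsFiniteMor snd → AlgSp.IsFiniteMor f.hom) := by
  refine ⟨fun hI => ?_, fun hF => ?_⟩
  · have hA : AlgSp.IsAffineMor snd := fun Z hZ g => by
      obtain ⟨W, i, fst', sq', hW, -⟩ := hI hZ g
      exact ⟨W, i, fst', sq', hW⟩
    intro Z hZ z
    obtain ⟨W₀, V', W, i, fst₀, q, w, c, g, fstW, sq₀, hW₀, hV', hW, hqe, hqs, sqS, sqW⟩ :=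
      Groth.Agent.Lib.Helper3.AffDesc.exists_descent_square f.hom V p hp hps fst snd sq hA hZ z
    obtain ⟨W', i', fst', sq', hW', hint⟩ := hI hV' ((AlgSp.yon S).map g)
    have hw : IsIntegralHom w.left :=
      Groth.Agent.Lib.Helper3.prop_of_isPullback_of_isPullback @IsIntegralHom sq' sqW hint
    have hqf : Flat q.left := inferInstance
    exact ⟨W₀, i, fst₀, sq₀, hW₀,
      @Groth.Agent.Lib.Helper3.AffDesc.isIntegralHom_of_isPullback _ _ _ _ hV' hZ hW₀ _ _ _ _
        (sqS.map (Over.forget S)) hqf hqs hw⟩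
  · have hA : AlgSp.IsAffineMor snd := fun Z hZ g => by
      obtain ⟨W, i, fst', sq', hW, -⟩ := hF hZ g
      exact ⟨W, i, fst', sq', hW⟩
    intro Z hZ z
    obtain ⟨W₀, V', W, i, fst₀, q, w, c, g, fstW, sq₀, hW₀, hV', hW, hqe, hqs, sqS, sqW⟩ :=
      Groth.Agent.Lib.Helper3.AffDesc.exists_descent_square f.hom V p hp hps fst snd sq hA hZ z
    obtain ⟨W', i', fst', sq', hW', hint⟩ := hF hV' ((AlgSp.yon S).map g)
    have hw : IsFinite w.left :=
      Groth.Agent.Lib.Helper3.prop_of_isPullback_of_isPullback @IsFinite sq' sqW hint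
    have hqf : Flat q.left := inferInstance
    exact ⟨W₀, i, fst₀, sq₀, hW₀,
      @Groth.Agent.Lib.Helper3.AffDesc.isFinite_of_isPullback _ _ _ _ hV' hZ hW₀ _ _ _ _
        (sqS.map (Over.forget S)) hqf hqs hw⟩

end Groth.Agent.S10268
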