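import Groth.Statements.S1349
import Groth.Agent.Lib.Helper21.FlatDescQ16
import Groth.Agent.Lib.Helper21.FlatDescQ17
import Groth.Agent.Lib.Helper21.FlatDescQ18
import Groth.Agent.Lib.Helper21.FlatDescQ9
import Groth.Agent.Lib.Helper21.FlatDescQ4
import Groth.Agent.Lib.Helper21.FlatDescK
import Groth.Agent.Lib.Helper21.FibreStalk
import Groth.Agent.Lib.Helper5.RegComp
import Groth.Agent.Lib.Helper21.RegImm

set_option autoImplicit false
universe u
open FlatMor

namespace Groth.Agent.S1349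


open AlgebraicGeometry CategoryTheory Limits
open Groth.Agent.Lib.Helper21.FlatDesc Groth.Agent.Lib.Helper21.FibreStalk IsLocalRing
open RingTheory.Sequence
open scoped Pointwise

set_option maxHeartbeats 800000 in
set_option synthInstance.maxHeartbeats 200000 in
/-- stalk-level step (lists). -/
theorem stalk_step_list {X S : Scheme.{u}} (f : X ⟶ S) [LocallyOfFinitePresentation f] (x : X)
    (hflat : (f.stalkMap x).hom.Flat) (hs : List (X.presheaf.stalk x))
    (hm : ∀ h ∈ hs, h ∈ maximalIdeal (X.presheaf.stalk x))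
    (hreg : IsWeaklyRegular (X.presheaf.stalk x ⧸ fibIdeal f x)
      (hs.map (Ideal.Quotient.mk (fibIdeal f x)))) :
    letI : Algebra (S.presheaf.stalk (f x)) (X.presheaf.stalk x) := (f.stalkMap x).hom.toAlgebra
    IsWeaklyRegular (X.presheaf.stalk x) hs ∧ ∀ i ≤ hs.length,
      Module.Flat (S.presheaf.stalk (f x))
        (X.presheaf.stalk x ⧸ (Ideal.ofList (hs.take i) • ⊤ :
          Submodule (X.presheaf.stalk x) (X.presheaf.stalk x))) := by
  letI aO : Algebra (S.presheaf.stalk (f x)) (X.presheaf.stalk x) := (f.stalkMap x).hom.toAlgebra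
  haveI : IsLocalHom (algebraMap (S.presheaf.stalk (f x)) (X.presheaf.stalk x)) :=
    inferInstanceAs (IsLocalHom (f.stalkMap x).hom)
  obtain ⟨C₀, _, a, b, TC, hab, ha, hloc⟩ := essFP_stalkMap f x
  letI aAC₀ : Algebra (S.presheaf.stalk (f x)) C₀ := a.toAlgebra
  letI aC₀C : Algebra C₀ (X.presheaf.stalk x) := b.toAlgebra
  haveI twC : IsScalarTower (S.presheaf.stalk (f x)) C₀ (X.presheaf.stalk x) :=
    IsScalarTower.of_algebraMap_eq fun r => by
      show (f.stalkMap x).hom r = b (a r)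
      rw [hab]; rfl
  haveI : Algebra.FinitePresentation (S.presheaf.stalk (f x)) C₀ := ha
  haveI := hloc
  haveI : Module.Flat (S.presheaf.stalk (f x)) (X.presheaf.stalk x) := hflat
  have h1 : IsWeaklyRegular (X.presheaf.stalk x ⧸ fibIdeal f x) hs :=
    (isWeaklyRegular_map_algebraMap_iff (X.presheaf.stalk x ⧸ fibIdeal f x)
      (X.presheaf.stalk x ⧸ fibIdeal f x) hs).mp hreg
  have heq : ((maximalIdeal (S.presheaf.stalk (f x))).map
      (algebraMap (S.presheaf.stalk (f x)) (X.presheaf.stalk x)) • ⊤ :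
        Submodule (X.presheaf.stalk x) (X.presheaf.stalk x)) = fibIdeal f x := by
    rw [smul_eq_mul, Ideal.mul_top]; rfl
  have h2 := ((Submodule.quotEquivOfEq _ _ heq).isWeaklyRegular_congr hs).mpr h1
  exact isWeaklyRegular_and_flat_quot_of_fibre (S.presheaf.stalk (f x)) (X.presheaf.stalk x) C₀ TC
    hs hm (X.presheaf.stalk x) h2

/-- a list of germs comes from a list of sections over one open neighbourhood. -/
theorem exists_germs_list {X : Scheme.{u}} (x : X) (hs : List (X.presheaf.stalk x)) :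
    ∃ (W : X.Opens) (hxW : x ∈ W) (bs : List Γ(X, W)),
      bs.map (fun b => X.presheaf.germ W x hxW b) = hs := by
  induction hs with
  | nil => exact ⟨⊤, trivial, [], rfl⟩
  | cons h hs ih =>
    obtain ⟨W, hxW, bs, hbs⟩ := ih
    obtain ⟨W', hxW', b, hb⟩ := TopCat.Presheaf.germ_exist (F := X.presheaf) (x := x) h
    refine ⟨W ⊓ W', ⟨hxW, hxW'⟩, X.presheaf.map (homOfLE inf_le_right).op b ::
      bs.map (fun c => X.presheaf.map (homOfLE inf_le_left).op c), ?_⟩
    rw [List.map_cons, List.map_map]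
    congr 1
    · rw [← hb]
      exact TopCat.Presheaf.germ_res_apply X.presheaf (homOfLE inf_le_right) x ⟨hxW, hxW'⟩ b
    · rw [← hbs]
      apply List.map_congr_left
      intro c _
      exact TopCat.Presheaf.germ_res_apply X.presheaf (homOfLE inf_le_left) x ⟨hxW, hxW'⟩ c



set_option maxHeartbeats 3200000 in
set_option synthInstance.maxHeartbeats 200000 in
open AlgebraicGeometry CategoryTheory Limits in
/-- Let f be locally of finite presentation and Cohen–Macaulay at a point x which is closed in its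
fibre. Then there are an open neighbourhood V of x and a regular closed immersion i into V whose
image contains x, such that the composite Z ⟶ V ⟶ X ⟶ S is flat, locally of finite presentation and
locally quasi-finite, and x is the only point of (the image of) Z lying over the image of x. -/
theorem result {X S : Scheme.{u}} (f : X ⟶ S) [LocallyOfFinitePresentation f] (x : X)
    (hcm : MoreMor.IsCMAt f x) (hcl : IsClosed ({f.asFiber x} : Set ↑(f.fiber (f x)))) :
    ∃ (V : X.Opens) (Z : Scheme.{u}) (i : Z ⟶ (V : Scheme.{u})), Mor2.IsRegularClosedImmersion i ∧ x ∈ Set.range ⇑(i ≫ V.ι) ∧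
      Flat (i ≫ V.ι ≫ f) ∧ LocallyOfFinitePresentation (i ≫ V.ι ≫ f) ∧ LocallyQuasiFinite (i ≫ V.ι ≫ f) ∧
      ∀ z : Z, f (V.ι (i z)) = f x → V.ι (i z) = x := by
  classical
  obtain ⟨hflat, hCM⟩ := hcm
  letI aO : Algebra (S.presheaf.stalk (f x)) (X.presheaf.stalk x) := (f.stalkMap x).hom.toAlgebra
  obtain ⟨e⟩ := nonempty_fibreStalkEquiv f x
  haveI := hCM
  obtain ⟨hs, hsm, hsreg, hsprime⟩ :=
    exists_lift_regular_primary (X.presheaf.stalk x) (fibIdeal f x) _ e
  obtain ⟨hwr, hfl⟩ := stalk_step_list f x hflat hs hsm hsreg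
  -- charts
  obtain ⟨_, ⟨V, hV : IsAffineOpen V, rfl⟩, hfxV, -⟩ :=
    S.isBasis_affineOpens.exists_subset_of_mem_open (Set.mem_univ (f x)) isOpen_univ
  obtain ⟨W, hxW, bs₀, hbs₀⟩ := exists_germs_list x hs
  obtain ⟨_, ⟨U₀, hU₀ : IsAffineOpen U₀, rfl⟩, hxU₀, hU₀le⟩ :=
    X.isBasis_affineOpens.exists_subset_of_mem_open
      (show x ∈ ((W ⊓ f ⁻¹ᵁ V : X.Opens) : Set X) from ⟨hxW, hfxV⟩) (W ⊓ f ⁻¹ᵁ V).isOpen
  have hU₀W : U₀ ≤ W := fun y hy => (hU₀le hy).1
  have hU₀V : U₀ ≤ f ⁻¹ᵁ V := fun y hy => (hU₀le hy).2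
  let bs : List Γ(X, U₀) := bs₀.map (fun b => X.presheaf.map (homOfLE hU₀W).op b)
  have hbs : bs.map (fun b => X.presheaf.germ U₀ x hxU₀ b) = hs := by
    rw [← hbs₀, List.map_map]
    apply List.map_congr_left
    intro b _
    exact TopCat.Presheaf.germ_res_apply X.presheaf (homOfLE hU₀W) x hxU₀ b
  -- ring data
  letI aAB : Algebra Γ(S, V) Γ(X, U₀) := (f.appLE V U₀ hU₀V).hom.toAlgebra
  haveI : Algebra.FinitePresentation Γ(S, V) Γ(X, U₀) :=
    (HasRingHomProperty.appLE @LocallyOfFinitePresentation f inferInstance ⟨V, hV⟩ ⟨U₀, hU₀⟩ hU₀V :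
      RingHom.FinitePresentation _)
  let q : Ideal Γ(X, U₀) := (hU₀.primeIdealOf ⟨x, hxU₀⟩).asIdeal
  letI aBO : Algebra Γ(X, U₀) (X.presheaf.stalk x) := X.presheaf.algebra_section_stalk ⟨x, hxU₀⟩
  haveI locO : IsLocalization.AtPrime (X.presheaf.stalk x) q := hU₀.isLocalization_stalk ⟨x, hxU₀⟩
  letI aAA₀ : Algebra Γ(S, V) (S.presheaf.stalk (f x)) :=
    S.presheaf.algebra_section_stalk ⟨f x, hfxV⟩
  haveI locA₀ := hV.isLocalization_stalk ⟨f x, hfxV⟩
  letI aAO : Algebra Γ(S, V) (X.presheaf.stalk x) :=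
    ((algebraMap Γ(X, U₀) (X.presheaf.stalk x)).comp (algebraMap Γ(S, V) Γ(X, U₀))).toAlgebra
  haveI tw1 : IsScalarTower Γ(S, V) Γ(X, U₀) (X.presheaf.stalk x) :=
    IsScalarTower.of_algebraMap_eq fun a => rfl
  haveI tw2 : IsScalarTower Γ(S, V) (S.presheaf.stalk (f x)) (X.presheaf.stalk x) :=
    IsScalarTower.of_algebraMap_eq fun a => by
      show X.presheaf.germ U₀ x hxU₀ (f.appLE V U₀ hU₀V a) =
        f.stalkMap x (S.presheaf.germ V (f x) hfxV a)
      rw [Scheme.Hom.germ_stalkMap_apply, Scheme.Hom.appLE]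
      exact (TopCat.Presheaf.germ_res_apply X.presheaf (homOfLE hU₀V) x hxU₀ _)
  haveI : Module.Flat Γ(S, V) (S.presheaf.stalk (f x)) :=
    IsLocalization.flat _ (hV.primeIdealOf ⟨f x, hfxV⟩).asIdeal.primeCompl
  have hbs' : bs.map (algebraMap Γ(X, U₀) (X.presheaf.stalk x)) = hs := hbs
  obtain ⟨g₀, hg₀, H⟩ := exists_away_weaklyRegular_flat_stalk Γ(S, V) Γ(X, U₀) q bs
    (X.presheaf.stalk x) (by rw [hbs']; exact hwr) (by
      intro i hi
      rw [hbs']
      haveI := hfl i (by rw [← hbs', List.length_map]; exact hi)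
      exact Module.Flat.trans Γ(S, V) (S.presheaf.stalk (f x)) _)
  -- the quotient ring `C₀ = B/(bs)` and its prime `Q`
  set I₀ : Ideal Γ(X, U₀) := Ideal.ofList bs with hI₀
  have hbsq : ∀ b ∈ bs, b ∈ q := by
    intro b hb
    rw [← IsLocalization.AtPrime.to_map_mem_maximal_iff (X.presheaf.stalk x) q b]
    apply hsm
    rw [← hbs']
    exact List.mem_map.mpr ⟨b, hb, rfl⟩
  have hI₀q : I₀ ≤ q := Ideal.span_le.mpr hbsq
  haveI : Algebra.FiniteType Γ(S, V) (Γ(X, U₀) ⧸ I₀) :=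
    Algebra.FiniteType.of_surjective (Ideal.Quotient.mkₐ Γ(S, V) I₀)
      (Ideal.Quotient.mkₐ_surjective _ _)
  have hker : RingHom.ker (Ideal.Quotient.mk I₀) ≤ q := by rw [Ideal.mk_ker]; exact hI₀q
  haveI hQprime : (q.map (Ideal.Quotient.mk I₀)).IsPrime :=
    Ideal.map_isPrime_of_surjective Ideal.Quotient.mk_surjective hker
  have hQcomap : (q.map (Ideal.Quotient.mk I₀)).comap (Ideal.Quotient.mk I₀) = q := by
    rw [Ideal.comap_map_of_surjective _ Ideal.Quotient.mk_surjective, ← RingHom.ker_eq_comap_bot,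
      sup_eq_left.mpr hker]
  let Qpt : PrimeSpectrum (Γ(X, U₀) ⧸ I₀) := ⟨q.map (Ideal.Quotient.mk I₀), hQprime⟩
  -- no proper generization of `Q` in its fibre
  have hpA : (hV.primeIdealOf ⟨f x, hfxV⟩).asIdeal = q.comap (algebraMap Γ(S, V) Γ(X, U₀)) :=
    congr($(IsAffineOpen.comap_primeIdealOf_appLE V hV U₀ hU₀ hU₀V hxU₀).1).symm
  have hgen : ∀ Q' : PrimeSpectrum (Γ(X, U₀) ⧸ I₀), Q' ≤ Qpt →
      Q'.comap (algebraMap Γ(S, V) (Γ(X, U₀) ⧸ I₀)) =
        Qpt.comap (algebraMap Γ(S, V) (Γ(X, U₀) ⧸ I₀)) → Q' = Qpt := by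
    intro Q' hle hco
    have hP'q : Q'.asIdeal.comap (Ideal.Quotient.mk I₀) ≤ q := by
      rw [← hQcomap]; exact Ideal.comap_mono hle
    have hJ : (q.comap (algebraMap Γ(S, V) Γ(X, U₀))).map (algebraMap Γ(S, V) Γ(X, U₀)) ⊔ I₀ ≤
        Q'.asIdeal.comap (Ideal.Quotient.mk I₀) := by
      refine sup_le (Ideal.map_le_iff_le_comap.mpr ?_) ?_
      · intro a ha
        have h1 : a ∈ (Qpt.comap (algebraMap Γ(S, V) (Γ(X, U₀) ⧸ I₀))).asIdeal :=
          Ideal.mem_map_of_mem (Ideal.Quotient.mk I₀) ha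
        rw [← hco] at h1
        exact h1
      · intro b hb
        rw [Ideal.mem_comap, Ideal.Quotient.eq_zero_iff_mem.mpr hb]
        exact Ideal.zero_mem _
    have h3 := eq_of_le_of_map_le q (X.presheaf.stalk x)
      ((q.comap (algebraMap Γ(S, V) Γ(X, U₀))).map (algebraMap Γ(S, V) Γ(X, U₀)) ⊔ I₀) (by
        intro P hP hJP
        rw [Ideal.map_sup] at hJP
        refine hsprime P hP ?_ ?_
        · refine le_trans ?_ (le_trans le_sup_left hJP)
          rw [← hpA, Ideal.map_map]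
          show (maximalIdeal (S.presheaf.stalk (f x))).map
            (algebraMap (S.presheaf.stalk (f x)) (X.presheaf.stalk x)) ≤ _
          rw [← IsLocalization.AtPrime.map_eq_maximalIdeal
            (hV.primeIdealOf ⟨f x, hfxV⟩).asIdeal (S.presheaf.stalk (f x)), Ideal.map_map,
            ← IsScalarTower.algebraMap_eq, ← IsScalarTower.algebraMap_eq]
        · refine le_trans ?_ (le_trans le_sup_right hJP)
          rw [hI₀, Ideal.map_ofList, hbs'])
      (Q'.asIdeal.comap (Ideal.Quotient.mk I₀)) hJ hP'q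
    apply PrimeSpectrum.ext
    show Q'.asIdeal = q.map (Ideal.Quotient.mk I₀)
    rw [← h3, Ideal.map_comap_of_surjective _ Ideal.Quotient.mk_surjective]
  -- the immersion `ι₀ : Spec C₀ ⟶ X`
  let ι₀ : Spec (CommRingCat.of (Γ(X, U₀) ⧸ I₀)) ⟶ X :=
    Spec.map (CommRingCat.ofHom (Ideal.Quotient.mk I₀)) ≫ hU₀.fromSpec
  have hι₀f : ι₀ ≫ f = Spec.map (f.appLE V U₀ hU₀V ≫ CommRingCat.ofHom (Ideal.Quotient.mk I₀)) ≫
      hV.fromSpec := by
    simp only [ι₀, Category.assoc]
    rw [Spec.map_comp, Category.assoc, IsAffineOpen.SpecMap_appLE_fromSpec f hV hU₀ hU₀V]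
  have hι₀Q : ι₀ Qpt = x := by
    show hU₀.fromSpec (Spec.map (CommRingCat.ofHom (Ideal.Quotient.mk I₀)) Qpt) = x
    have h1 : Spec.map (CommRingCat.ofHom (Ideal.Quotient.mk I₀)) Qpt =
        hU₀.primeIdealOf ⟨x, hxU₀⟩ := PrimeSpectrum.ext hQcomap
    rw [h1]
    exact hU₀.fromSpec_primeIdealOf ⟨x, hxU₀⟩
  have hι₀inj : Function.Injective ι₀ :=
    (hU₀.fromSpec.isOpenEmbedding.injective).comp
      (PrimeSpectrum.comap_injective_of_surjective _ Ideal.Quotient.mk_surjective)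
  have hfι₀ : ∀ Q' : PrimeSpectrum (Γ(X, U₀) ⧸ I₀), f (ι₀ Q') =
      hV.fromSpec (Q'.comap (algebraMap Γ(S, V) (Γ(X, U₀) ⧸ I₀))) := by
    intro Q'
    have h1 := congrArg (fun φ => φ Q') hι₀f
    exact h1
  have hclX : IsClosed ({⟨x, rfl⟩} : Set (f ⁻¹' {f x})) := by
    have h1 := (f.fiberHomeo (f x)).symm.isClosed_preimage.mpr hcl
    convert h1 using 1
    ext y
    simp only [Set.mem_singleton_iff, Set.mem_preimage]
    constructor
    · rintro rfl; rfl
    · intro h; exact (f.fiberHomeo (f x)).symm.injective h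
  have hcl' : IsClosed (X := PrimeSpectrum.comap (algebraMap Γ(S, V) (Γ(X, U₀) ⧸ I₀)) ⁻¹'
      {Qpt.comap (algebraMap Γ(S, V) (Γ(X, U₀) ⧸ I₀))}) {⟨Qpt, rfl⟩} := by
    let Φ : (PrimeSpectrum.comap (algebraMap Γ(S, V) (Γ(X, U₀) ⧸ I₀)) ⁻¹'
        {Qpt.comap (algebraMap Γ(S, V) (Γ(X, U₀) ⧸ I₀))}) → (f ⁻¹' {f x}) :=
      fun Q' => ⟨ι₀ Q'.1, by
        show f (ι₀ Q'.1) = f x
        rw [hfι₀, show Q'.1.comap _ = Qpt.comap _ from Q'.2, ← hfι₀, hι₀Q]⟩
    have hΦ : Continuous Φ :=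
      Continuous.subtype_mk (ι₀.continuous.comp continuous_subtype_val) _
    have h1 := hclX.preimage hΦ
    convert h1 using 1
    ext Q'
    simp only [Set.mem_singleton_iff, Set.mem_preimage]
    constructor
    · rintro rfl
      exact Subtype.ext hι₀Q
    · intro h
      have h2 : ι₀ Q'.1 = x := congrArg Subtype.val h
      exact Subtype.ext (hι₀inj (h2.trans hι₀Q.symm))
  haveI hQF : Algebra.QuasiFiniteAt Γ(S, V) (q.map (Ideal.Quotient.mk I₀)) :=
    quasiFiniteAt_of_closed_of_generic Γ(S, V) (Γ(X, U₀) ⧸ I₀) Qpt hcl' hgen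
  obtain ⟨cbar, hcbar, huniq, hqf⟩ :=
    exists_away_quasiFinite Γ(S, V) (Γ(X, U₀) ⧸ I₀) (q.map (Ideal.Quotient.mk I₀))
  obtain ⟨c, rfl⟩ := Ideal.Quotient.mk_surjective cbar
  have hcq : c ∈ q.primeCompl := fun hc => hcbar (Ideal.mem_map_of_mem _ hc)
  -- the final chart
  set g' : Γ(X, U₀) := g₀ * c with hg'
  have hg'q : g' ∈ q.primeCompl := mul_mem hg₀ hcq
  have hU : IsAffineOpen (X.basicOpen g') := hU₀.basicOpen g'
  have hxU : x ∈ X.basicOpen g' := by
    rw [Scheme.mem_basicOpen _ _ _ hxU₀]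
    exact (IsLocalization.AtPrime.isUnit_to_map_iff (X.presheaf.stalk x) q g').mpr hg'q
  haveI locB' : IsLocalization.Away g' Γ(X, X.basicOpen g') := hU₀.isLocalization_basicOpen g'
  have hUV : X.basicOpen g' ≤ f ⁻¹ᵁ V := (X.basicOpen_le g').trans hU₀V
  letI aAB' : Algebra Γ(S, V) Γ(X, X.basicOpen g') :=
    (f.appLE V (X.basicOpen g') hUV).hom.toAlgebra
  haveI tw3 : IsScalarTower Γ(S, V) Γ(X, U₀) Γ(X, X.basicOpen g') :=
    IsScalarTower.of_algebraMap_eq fun a => by
      show f.appLE V (X.basicOpen g') hUV a =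
        X.presheaf.map (homOfLE (X.basicOpen_le g')).op (f.appLE V U₀ hU₀V a)
      rw [← CommRingCat.comp_apply, Scheme.Hom.appLE_map]
  obtain ⟨hwr', hfl'⟩ := H g' (dvd_mul_right g₀ c) Γ(X, X.basicOpen g')
  set bs' : List Γ(X, X.basicOpen g') :=
    bs.map (algebraMap Γ(X, U₀) Γ(X, X.basicOpen g')) with hbs'def
  -- germs of `bs'`
  have hgerm' : ∀ b : Γ(X, U₀), X.presheaf.germ (X.basicOpen g') x hxU
      (algebraMap Γ(X, U₀) Γ(X, X.basicOpen g') b) = X.presheaf.germ U₀ x hxU₀ b := fun b =>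
    TopCat.Presheaf.germ_res_apply X.presheaf (homOfLE (X.basicOpen_le g')) x hxU b
  have hne : Ideal.ofList bs' ≠ ⊤ := by
    intro htop
    have h1 : (Ideal.ofList bs').map (X.presheaf.germ (X.basicOpen g') x hxU).hom = ⊤ := by
      rw [htop, Ideal.map_top]
    rw [Ideal.map_ofList, hbs'def, List.map_map] at h1
    have h2 : (List.map ((X.presheaf.germ (X.basicOpen g') x hxU).hom ∘
        (algebraMap Γ(X, U₀) Γ(X, X.basicOpen g'))) bs) = hs := by
      rw [← hbs]
      apply List.map_congr_left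
      intro b _
      exact hgerm' b
    rw [h2] at h1
    have h3 : Ideal.ofList hs ≤ maximalIdeal (X.presheaf.stalk x) := Ideal.span_le.mpr hsm
    rw [h1] at h3
    exact (maximalIdeal.isMaximal (X.presheaf.stalk x)).ne_top (top_le_iff.mp h3)
  have hreg' : IsRegular Γ(X, X.basicOpen g') bs' :=
    Groth.Agent.Lib.Helper5.RegComp.isRegular_of_weaklyRegular_of_ne_top hwr' hne
  have hcomp1 : (Spec.map (CommRingCat.ofHom (Ideal.Quotient.mk (Ideal.ofList bs'))) ≫
      hU.isoSpec.inv) ≫ (X.basicOpen g').ι =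
      Spec.map (CommRingCat.ofHom (Ideal.Quotient.mk (Ideal.ofList bs'))) ≫ hU.fromSpec := by
    rw [Category.assoc]; rfl
  have hcomp : (Spec.map (CommRingCat.ofHom (Ideal.Quotient.mk (Ideal.ofList bs'))) ≫
      hU.isoSpec.inv) ≫ (X.basicOpen g').ι ≫ f =
      Spec.map (f.appLE V (X.basicOpen g') hUV ≫
        CommRingCat.ofHom (Ideal.Quotient.mk (Ideal.ofList bs'))) ≫ hV.fromSpec := by
    rw [← Category.assoc, hcomp1, Category.assoc, Spec.map_comp, Category.assoc,
      IsAffineOpen.SpecMap_appLE_fromSpec f hV hU hUV]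
  -- the comparison map `C₀ → C'`
  have hI₀le : I₀ ≤ (Ideal.ofList bs').comap (algebraMap Γ(X, U₀) Γ(X, X.basicOpen g')) := by
    rw [hI₀, Ideal.ofList, Ideal.span_le]
    intro b hb
    exact Ideal.subset_span (List.mem_map.mpr ⟨b, hb, rfl⟩)
  let χ : (Γ(X, U₀) ⧸ I₀) →+* (Γ(X, X.basicOpen g') ⧸ Ideal.ofList bs') :=
    Ideal.quotientMap (Ideal.ofList bs') (algebraMap Γ(X, U₀) Γ(X, X.basicOpen g')) hI₀le
  have hχ : Spec.map (CommRingCat.ofHom (Ideal.Quotient.mk (Ideal.ofList bs'))) ≫ hU.fromSpec =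
      Spec.map (CommRingCat.ofHom χ) ≫ ι₀ := by
    have h1 : hU.fromSpec = Spec.map (X.presheaf.map (homOfLE (X.basicOpen_le g')).op) ≫
        hU₀.fromSpec := (hU₀.map_fromSpec hU (homOfLE (X.basicOpen_le g')).op).symm
    simp only [ι₀]
    rw [h1, ← Category.assoc, ← Category.assoc, ← Spec.map_comp, ← Spec.map_comp]
    congr 2
  refine ⟨X.basicOpen g', Spec (CommRingCat.of (Γ(X, X.basicOpen g') ⧸ Ideal.ofList bs')),
    Spec.map (CommRingCat.ofHom (Ideal.Quotient.mk (Ideal.ofList bs'))) ≫ hU.isoSpec.inv,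
    ?_, ?_, ?_, ?_, ?_, ?_⟩
  · exact Groth.Agent.Lib.Helper5.RegComp.comp _ _
      (Groth.Agent.Lib.Helper21.RegImm.specMap_mk_ofList Γ(X, X.basicOpen g') bs' hreg')
      (Groth.Agent.Lib.Helper21.RegImm.of_isIso _)
  · -- `x` is in the image
    rw [hcomp1, hχ]
    letI aB'O : Algebra Γ(X, X.basicOpen g') (X.presheaf.stalk x) :=
      X.presheaf.algebra_section_stalk ⟨x, hxU⟩
    haveI locO' : IsLocalization.AtPrime (X.presheaf.stalk x)
        (hU.primeIdealOf ⟨x, hxU⟩).asIdeal := hU.isLocalization_stalk ⟨x, hxU⟩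
    set q' : Ideal Γ(X, X.basicOpen g') := (hU.primeIdealOf ⟨x, hxU⟩).asIdeal with hq'
    have hle' : Ideal.ofList bs' ≤ q' := by
      rw [Ideal.ofList, Ideal.span_le]
      intro b' hb'
      obtain ⟨b, hb, rfl⟩ := List.mem_map.mp hb'
      rw [SetLike.mem_coe,
        ← IsLocalization.AtPrime.to_map_mem_maximal_iff (X.presheaf.stalk x) q' _]
      show X.presheaf.germ (X.basicOpen g') x hxU _ ∈ _
      rw [hgerm' b]
      apply hsm
      rw [← hbs]
      exact List.mem_map.mpr ⟨b, hb, rfl⟩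
    have hker' : RingHom.ker (Ideal.Quotient.mk (Ideal.ofList bs')) ≤ q' := by
      rw [Ideal.mk_ker]; exact hle'
    haveI hQ'prime : (q'.map (Ideal.Quotient.mk (Ideal.ofList bs'))).IsPrime :=
      Ideal.map_isPrime_of_surjective Ideal.Quotient.mk_surjective hker'
    have hQ'comap : (q'.map (Ideal.Quotient.mk (Ideal.ofList bs'))).comap
        (Ideal.Quotient.mk (Ideal.ofList bs')) = q' := by
      rw [Ideal.comap_map_of_surjective _ Ideal.Quotient.mk_surjective,
        ← RingHom.ker_eq_comap_bot, sup_eq_left.mpr hker']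
    refine ⟨(⟨q'.map (Ideal.Quotient.mk (Ideal.ofList bs')), hQ'prime⟩ :
      PrimeSpectrum (Γ(X, X.basicOpen g') ⧸ Ideal.ofList bs')), ?_⟩
    rw [← hχ]
    show hU.fromSpec (Spec.map (CommRingCat.ofHom (Ideal.Quotient.mk (Ideal.ofList bs'))) _) = x
    have h1 : Spec.map (CommRingCat.ofHom (Ideal.Quotient.mk (Ideal.ofList bs')))
        (⟨q'.map (Ideal.Quotient.mk (Ideal.ofList bs')), hQ'prime⟩ :
          PrimeSpectrum (Γ(X, X.basicOpen g') ⧸ Ideal.ofList bs')) =
        hU.primeIdealOf ⟨x, hxU⟩ := PrimeSpectrum.ext hQ'comap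
    rw [h1]
    exact hU.fromSpec_primeIdealOf ⟨x, hxU⟩
  · -- flat
    rw [hcomp]
    haveI : Flat (Spec.map (f.appLE V (X.basicOpen g') hUV ≫
        CommRingCat.ofHom (Ideal.Quotient.mk (Ideal.ofList bs')))) := by
      rw [Flat.SpecMap_iff]
      have h1 := hfl' bs.length le_rfl
      have h2 : (List.map (algebraMap Γ(X, U₀) Γ(X, X.basicOpen g')) bs).take bs.length = bs' := by
        rw [hbs'def]
        exact List.take_of_length_le (by rw [List.length_map])
      rw [h2] at h1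
      exact RingHom.flat_algebraMap_iff.mpr h1
    infer_instance
  · -- locally of finite presentation
    rw [Category.assoc]
    haveI : LocallyOfFinitePresentation (Spec.map (CommRingCat.ofHom (Ideal.Quotient.mk
          (Ideal.ofList bs')))) := by
      rw [LocallyOfFinitePresentation.SpecMap_iff]
      show RingHom.FinitePresentation (Ideal.Quotient.mk (Ideal.ofList bs'))
      exact RingHom.FinitePresentation.of_surjective _ Ideal.Quotient.mk_surjective
        (by rw [Ideal.mk_ker]; exact Submodule.fg_span (List.finite_toSet bs'))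
    infer_instance
  · -- locally quasi-finite
    rw [hcomp]
    have hmapI : I₀.map (algebraMap Γ(X, U₀) Γ(X, X.basicOpen g')) = Ideal.ofList bs' := by
      rw [hI₀, Ideal.map_ofList]
    haveI hlocC : IsLocalization.Away (Ideal.Quotient.mk I₀ g')
        (Γ(X, X.basicOpen g') ⧸ I₀.map (algebraMap Γ(X, U₀) Γ(X, X.basicOpen g'))) := by
      have h := (inferInstance : IsLocalization
        (Algebra.algebraMapSubmonoid (Γ(X, U₀) ⧸ I₀) (Submonoid.powers g'))
        (Γ(X, X.basicOpen g') ⧸ I₀.map (algebraMap Γ(X, U₀) Γ(X, X.basicOpen g'))))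
      rwa [Algebra.algebraMapSubmonoid, Submonoid.map_powers] at h
    haveI twC : IsScalarTower Γ(S, V) (Γ(X, U₀) ⧸ I₀)
        (Γ(X, X.basicOpen g') ⧸ I₀.map (algebraMap Γ(X, U₀) Γ(X, X.basicOpen g'))) :=
      IsScalarTower.of_algebraMap_eq fun a => by
        show Ideal.Quotient.mk _ (algebraMap Γ(S, V) Γ(X, X.basicOpen g') a) =
          Ideal.Quotient.mk _ (algebraMap Γ(X, U₀) Γ(X, X.basicOpen g')
            (algebraMap Γ(S, V) Γ(X, U₀) a))
        rw [← IsScalarTower.algebraMap_apply]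
    haveI : Algebra.QuasiFinite Γ(S, V)
        (Γ(X, X.basicOpen g') ⧸ I₀.map (algebraMap Γ(X, U₀) Γ(X, X.basicOpen g'))) :=
      hqf (Ideal.Quotient.mk I₀ g') (by rw [hg', map_mul]; exact dvd_mul_left _ _) _
    haveI : Algebra.QuasiFinite Γ(S, V) (Γ(X, X.basicOpen g') ⧸ Ideal.ofList bs') :=
      Algebra.QuasiFinite.of_surjective_algHom
        (Ideal.quotientEquivAlgOfEq Γ(S, V) hmapI).toAlgHom (AlgEquiv.surjective _)
    haveI : LocallyQuasiFinite (Spec.map (f.appLE V (X.basicOpen g') hUV ≫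
        CommRingCat.ofHom (Ideal.Quotient.mk (Ideal.ofList bs')))) := by
      rw [HasRingHomProperty.Spec_iff (P := @LocallyQuasiFinite)]
      exact RingHom.quasiFinite_algebraMap.mpr inferInstance
    infer_instance
  · -- uniqueness in the fibre
    intro z hz
    have hz1 : (X.basicOpen g').ι ((Spec.map (CommRingCat.ofHom (Ideal.Quotient.mk
        (Ideal.ofList bs'))) ≫ hU.isoSpec.inv) z) = ι₀ (Spec.map (CommRingCat.ofHom χ) z) := by
      have h1 := congrArg (fun φ => φ z) (hcomp1.trans hχ)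
      exact h1
    rw [hz1] at hz ⊢
    set Q₀' : PrimeSpectrum (Γ(X, U₀) ⧸ I₀) := Spec.map (CommRingCat.ofHom χ) z with hQ₀'
    have hunit : IsUnit (χ (Ideal.Quotient.mk I₀ c)) := by
      have h1 : IsUnit (algebraMap Γ(X, U₀) Γ(X, X.basicOpen g') g') :=
        IsLocalization.Away.algebraMap_isUnit g'
      have h2 : IsUnit (algebraMap Γ(X, U₀) Γ(X, X.basicOpen g') c) := by
        rw [hg', map_mul] at h1
        exact isUnit_of_mul_isUnit_right h1
      exact h2.map (Ideal.Quotient.mk (Ideal.ofList bs'))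
    have hcQ : Ideal.Quotient.mk I₀ c ∉ Q₀'.asIdeal := by
      intro hc
      have h1 : χ (Ideal.Quotient.mk I₀ c) ∈ z.asIdeal := hc
      exact z.isPrime.ne_top (Ideal.eq_top_of_isUnit_mem _ h1 hunit)
    have hco : Q₀'.comap (algebraMap Γ(S, V) (Γ(X, U₀) ⧸ I₀)) =
        Qpt.comap (algebraMap Γ(S, V) (Γ(X, U₀) ⧸ I₀)) := by
      apply hV.fromSpec.isOpenEmbedding.injective
      rw [← hfι₀, ← hfι₀, hι₀Q]
      exact hz
    by_contra hne'
    have hQne : Q₀'.asIdeal ≠ q.map (Ideal.Quotient.mk I₀) := by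
      intro h
      apply hne'
      have : Q₀' = Qpt := PrimeSpectrum.ext h
      rw [this, hι₀Q]
    exact hcQ (huniq Q₀'.asIdeal Q₀'.isPrime hQne (congrArg PrimeSpectrum.asIdeal hco))

end Groth.Agent.S1349
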