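import Groth.Statements.S9269
import Groth.Agent.Lib.Helper5.LciG

set_option autoImplicit false
universe u
attribute [local instance] HasDerivedCategory.standard
open CategoryTheory
open LCI

namespace Groth.Agent.S9269

/-- Let B be an A-algebra of finite type. If the kernel of one presentation A[x_1, ..., x_n] → B is a
Koszul-regular ideal, then the kernel of any other presentation A[y_1, ..., y_m] → B is a
Koszul-regular ideal. -/
theorem result (A B : Type u) [CommRing A] [CommRing B]
    [Algebra A B] (n m : ℕ) (α : MvPolynomial (Fin n) A →ₐ[A] B) (hα : Function.Surjective α)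
    (β : MvPolynomial (Fin m) A →ₐ[A] B) (hβ : Function.Surjective β)
    (h : LCI.IsKoszulRegularIdeal (RingHom.ker α.toRingHom)) :
    LCI.IsKoszulRegularIdeal (RingHom.ker β.toRingHom) := by
  classical
  have hf : ∀ i : Fin n, ∃ p : MvPolynomial (Fin m) A, β p = α (MvPolynomial.X i) :=
    fun i => hβ _
  have hg : ∀ j : Fin m, ∃ p : MvPolynomial (Fin n) A, α p = β (MvPolynomial.X j) :=
    fun j => hα _
  choose f hf using hf
  choose g hg using hg
  let sw := MvPolynomial.commAlgEquiv A (Fin n) (Fin m)
  let π : MvPolynomial (Fin n) (MvPolynomial (Fin m) A) →+* MvPolynomial (Fin m) A :=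
    (MvPolynomial.aeval f : MvPolynomial (Fin n) (MvPolynomial (Fin m) A) →ₐ[_] _).toRingHom
  let π' : MvPolynomial (Fin m) (MvPolynomial (Fin n) A) →+* MvPolynomial (Fin n) A :=
    (MvPolynomial.aeval g : MvPolynomial (Fin m) (MvPolynomial (Fin n) A) →ₐ[_] _).toRingHom
  have hK' := Groth.Agent.Lib.Helper5.Lci.isKoszulRegularIdeal_comap_aeval g _ h
  have hJ := Groth.Agent.Lib.Helper5.Lci.isKoszulRegularIdeal_comap_ringEquiv sw.toRingEquiv _ hK'
  have hcomp : (α.toRingHom.comp π').comp (sw.toRingEquiv : _ →+* _) = β.toRingHom.comp π := by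
    apply MvPolynomial.ringHom_ext
    · intro q
      have : ∀ q : MvPolynomial (Fin m) A,
          α (π' (sw (MvPolynomial.C q))) = β (π (MvPolynomial.C q)) := by
        intro q
        induction q using MvPolynomial.induction_on with
        | C a =>
          simp [sw, π, π']
        | add p q hp hq =>
          simp only [map_add, hp, hq]
        | mul_X p j hp =>
          simp only [map_mul, hp]
          congr 1
          simp [sw, π, π', hg]
      exact this q
    · intro i
      change α (π' (sw (MvPolynomial.X i))) = β (π (MvPolynomial.X i))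
      simp [sw, π, π', hf]
  have hJeq : (Ideal.comap π' (RingHom.ker α.toRingHom)).comap (sw.toRingEquiv : _ →+* _) =
      (RingHom.ker β.toRingHom).comap π := by
    rw [Ideal.comap_comap, RingHom.comap_ker, RingHom.comap_ker, ← RingHom.comp_assoc, hcomp]
  rw [hJeq] at hJ
  have hdown := Groth.Agent.Lib.Helper5.Lci.isKoszulRegularIdeal_map_aeval f _
    (Ideal.comap_mono bot_le) hJ
  rwa [Ideal.map_comap_of_surjective _ (Groth.Agent.Lib.Helper5.Lci.aeval_surjective f)] at hdown

end Groth.Agent.S9269
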