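import Groth.Statements.S9253
import Groth.Agent.Lib.Helper5.LciJ

set_option autoImplicit false
universe u
attribute [local instance] HasDerivedCategory.standard
open CategoryTheory
open LCI

namespace Groth.Agent.S9253

/-- Let R → S be a ring map and g_1, ..., g_m elements of S generating the unit ideal. When every
localization S_{g_j} is a local complete intersection algebra over R, so is S. -/
theorem result (R S : Type u) [CommRing R] [CommRing S] [Algebra R S]
    (m : ℕ) (g : Fin m → S) (hg : Ideal.span (Set.range g) = ⊤)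
    (h : ∀ j, LCI.IsLCI R (Localization.Away (g j))) : LCI.IsLCI R S := by
  have hft : Algebra.FiniteType R S := by
    rw [← RingHom.finiteType_algebraMap]
    apply RingHom.finiteType_ofLocalizationSpanTarget (algebraMap R S) (Set.range g) hg
    rintro ⟨_, j, rfl⟩
    rw [← IsScalarTower.algebraMap_eq, RingHom.finiteType_algebraMap]
    exact (h j).1
  obtain ⟨n, γ, hγ⟩ := Algebra.FiniteType.iff_quotient_mvPolynomial''.1 hft
  refine ⟨hft, n, γ, hγ, ?_⟩
  apply Groth.Agent.Lib.Helper5.Lci.isKoszulRegularIdeal_of_forall_away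
  intro p _ hIp
  have hpb : (p.map γ.toRingHom).IsPrime := Ideal.map_isPrime_of_surjective hγ hIp
  obtain ⟨j, hj⟩ : ∃ j, g j ∉ p.map γ.toRingHom := by
    by_contra hcon
    push Not at hcon
    have h1 : Ideal.span (Set.range g) ≤ p.map γ.toRingHom :=
      Ideal.span_le.2 (by rintro _ ⟨j, rfl⟩; exact hcon j)
    rw [hg] at h1
    exact hpb.ne_top (top_le_iff.1 h1)
  obtain ⟨G, hG⟩ := hγ (g j)
  have hGp : G ∉ p := fun hmem => hj (hG ▸ Ideal.mem_map_of_mem γ.toRingHom hmem)
  refine ⟨G, hGp, ?_⟩
  have hj' : LCI.IsLCI R (Localization.Away (γ G)) := by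
    rw [hG]
    exact h j
  exact Groth.Agent.Lib.Helper5.Lci.isKoszulRegularIdeal_map_away_of_isLCI_away γ hγ G hj'

end Groth.Agent.S9253
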