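import Groth.Statements.S12288
import Groth.Agent.Lib.Helper1.CotJoin
import Groth.Agent.Lib.Helper1.KoszulReg

set_option autoImplicit false
universe u w m
open scoped TensorProduct
open DefT

namespace Groth.Agent.S12288

open MvPolynomial Groth.Agent.Lib.Helper1.Koszul Groth.Agent.Lib.Helper1.CotRel

section General

variable {A B : Type u} [CommRing A] [CommRing B] [Algebra A B] {ι : Type*} {σ : Type*}
  (P : Algebra.Presentation A B ι σ)

lemma K_le_trivRel : K (CotT.rel P) ≤ CotT.trivRel P := by
  refine Submodule.span_le.mpr ?_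
  rintro _ ⟨i, j, rfl⟩
  have h1 : (Finsupp.single j (CotT.rel P i) - Finsupp.single i (CotT.rel P j) : CotT.relMod P) =
      CotT.jmap P (Finsupp.single i 1) • Finsupp.single j 1 -
        CotT.jmap P (Finsupp.single j 1) • Finsupp.single i 1 := by
    rw [CotT.jmap_single, CotT.jmap_single, one_mul, one_mul, Finsupp.smul_single,
      Finsupp.smul_single, smul_eq_mul, smul_eq_mul, mul_one, mul_one]
  rw [SetLike.mem_coe, h1]
  exact Submodule.subset_span ⟨_, _, rfl⟩

theorem subsingleton_T2_of_koszul (hK : ∀ c : CotT.relMod P, tot (CotT.rel P) c = 0 → c ∈ K (CotT.rel P))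
    (M : Type u) [AddCommGroup M] [Module B M] : Subsingleton (CotT.T2 P M) := by
  have hL2 : Subsingleton (CotT.L2 P) := by
    refine ⟨fun x y => ?_⟩
    obtain ⟨q, rfl⟩ := mk2_surjective P x
    obtain ⟨q', rfl⟩ := mk2_surjective P y
    have h1 : ∀ q : CotT.relKer P, mk2 P q = 0 := fun q =>
      mk2_eq_zero_of_mem P q (K_le_trivRel P (hK q q.2))
    rw [h1, h1]
  have hHom : Subsingleton (CotT.L2 P →ₗ[B] M) :=
    ⟨fun f g => LinearMap.ext fun x => by rw [Subsingleton.elim x 0, map_zero, map_zero]⟩
  unfold CotT.T2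
  infer_instance

end General

section Reg

variable {A B : Type u} [CommRing A] [CommRing B] [Algebra A B]
  (hs : Function.Surjective (algebraMap A B)) (rs : List A)

/-- generators: none. -/
noncomputable def regGen : Algebra.Generators A B PEmpty.{1} :=
  Algebra.Generators.ofSurjectiveAlgebraMap hs

lemma mem_regGen_ker (p : MvPolynomial PEmpty.{1} A) :
    p ∈ (regGen hs).ker ↔ algebraMap A B (p.coeff 0) = 0 := by
  change algebraMap (regGen hs).Ring B p = 0 ↔ _
  rw [Algebra.Generators.algebraMap_apply]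
  have h1 : aeval (regGen hs).val p = aeval (regGen hs).val (C (p.coeff 0)) := by
    rw [← eq_C_of_isEmpty p]
  rw [h1, aeval_C]

/-- the regular sequence as elements of the polynomial ring in no variables. -/
noncomputable def zreg (k : Fin rs.length) : MvPolynomial PEmpty.{1} A := C rs[k]

lemma span_zreg (T : Set (Fin rs.length)) :
    Ideal.span (zreg rs '' T) = Ideal.map (C : A →+* MvPolynomial PEmpty.{1} A)
      (Ideal.span ((fun k : Fin rs.length => rs[k]) '' T)) := by
  rw [Ideal.map_span, Set.image_image]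
  rfl

lemma C_mem_map_iff (I : Ideal A) (a : A) :
    (C a : MvPolynomial PEmpty.{1} A) ∈ Ideal.map (C : A →+* MvPolynomial PEmpty.{1} A) I ↔ a ∈ I := by
  constructor
  · intro h
    have h1 := Ideal.mem_map_of_mem (constantCoeff : MvPolynomial PEmpty.{1} A →+* A) h
    rw [Ideal.map_map, constantCoeff_comp_C, Ideal.map_id, constantCoeff_C] at h1
    exact h1
  · intro h
    exact Ideal.mem_map_of_mem _ h

lemma setOf_mem_take (i : Fin rs.length) :
    {r | r ∈ rs.take i} = (fun k : Fin rs.length => rs[k]) '' {k | k < i} := by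
  ext r
  simp only [Set.mem_setOf_eq, Set.mem_image]
  rw [List.mem_take_iff_getElem]
  constructor
  · rintro ⟨j, hj, rfl⟩
    have hj' : j < rs.length := lt_of_lt_of_le hj (min_le_right _ _)
    exact ⟨⟨j, hj'⟩, Fin.mk_lt_of_lt_val (lt_of_lt_of_le hj (min_le_left _ _)), rfl⟩
  · rintro ⟨k, hk, rfl⟩
    exact ⟨k.val, lt_min hk k.isLt, rfl⟩

lemma reg_base (hreg : RingTheory.Sequence.IsRegular A rs) (i : Fin rs.length) (a : A)
    (h : rs[i] * a ∈ Ideal.span ((fun k : Fin rs.length => rs[k]) '' {k | k < i})) :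
    a ∈ Ideal.span ((fun k : Fin rs.length => rs[k]) '' {k | k < i}) := by
  have h1 := hreg.regular_mod_prev i.val i.isLt
  rw [← setOf_mem_take] at h ⊢
  have htop : (Ideal.ofList (rs.take i) • ⊤ : Submodule A A) = Ideal.ofList (rs.take i) := by
    rw [Ideal.smul_eq_mul, Ideal.mul_top]
  have h2 : (rs[i.val] : A) • (Submodule.Quotient.mk a : A ⧸ (Ideal.ofList (rs.take i) • ⊤ : Submodule A A))
      = (rs[i.val] : A) • 0 := by
    rw [smul_zero, ← Submodule.Quotient.mk_smul, Submodule.Quotient.mk_eq_zero, htop, smul_eq_mul]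
    exact h
  have h3 := h1 h2
  rw [Submodule.Quotient.mk_eq_zero, htop] at h3
  exact h3

lemma reg_poly (hreg : RingTheory.Sequence.IsRegular A rs) (i : Fin rs.length)
    (p : MvPolynomial PEmpty.{1} A)
    (h : zreg rs i * p ∈ Ideal.span (zreg rs '' {k | k < i})) :
    p ∈ Ideal.span (zreg rs '' {k | k < i}) := by
  rw [span_zreg] at h ⊢
  rw [eq_C_of_isEmpty p] at h ⊢
  unfold zreg at h
  rw [← C_mul, C_mem_map_iff] at h
  rw [C_mem_map_iff]
  exact reg_base rs hreg i _ h

lemma image_univ_eq : (fun k : Fin rs.length => rs[k]) '' Set.univ = {r | r ∈ rs} := by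
  ext r
  simp only [Set.mem_image, Set.mem_univ, true_and, Set.mem_setOf_eq]
  rw [List.mem_iff_getElem]
  constructor
  · rintro ⟨k, rfl⟩
    exact ⟨k.val, k.isLt, rfl⟩
  · rintro ⟨i, hi, rfl⟩
    exact ⟨⟨i, hi⟩, rfl⟩

/-- the presentation of `B = A/(rs)` with no variables and the sequence as relations. -/
noncomputable def regPres (hI : RingHom.ker (algebraMap A B) = Ideal.ofList rs) :
    Algebra.Presentation A B PEmpty.{1} (Fin rs.length) where
  toGenerators := regGen hs
  relation := zreg rs
  span_range_relation_eq_ker := by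
    have h1 : Set.range (zreg rs) = zreg rs '' Set.univ := Set.image_univ.symm
    rw [h1, span_zreg, image_univ_eq]
    ext p
    rw [mem_regGen_ker, ← RingHom.mem_ker, hI]
    have h2 : p ∈ Ideal.map (C : A →+* MvPolynomial PEmpty.{1} A) (Ideal.span {r | r ∈ rs}) ↔
        (C (p.coeff 0) : MvPolynomial PEmpty.{1} A) ∈
          Ideal.map (C : A →+* MvPolynomial PEmpty.{1} A) (Ideal.span {r | r ∈ rs}) := by
      rw [← eq_C_of_isEmpty p]
    rw [h2, C_mem_map_iff]

end Reg

/-- Let A be a local ring and A → B a surjective ring homomorphism whose kernel is generated by a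
regular sequence a_1, …, a_r on A (each a_i is a non-zero-divisor on A/(a_1, …, a_{i-1}) and the
ideal is proper). Then T^2(B/A, M) = 0 for every B-module M, the module being computed from the
choice-free presentation of B over A. -/
theorem result
    (A B : Type u) [CommRing A] [IsLocalRing A] [CommRing B] [Algebra A B]
    (hs : Function.Surjective (algebraMap A B)) (rs : List A) (hreg : RingTheory.Sequence.IsRegular A rs)
    (hI : RingHom.ker (algebraMap A B) = Ideal.ofList rs) (M : Type u) [AddCommGroup M] [Module B M] :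
    Subsingleton (CotT.T2 (CotT.canon A B) M) := by
  have hK : ∀ c : CotT.relMod (regPres hs rs hI), tot (CotT.rel (regPres hs rs hI)) c = 0 →
      c ∈ K (CotT.rel (regPres hs rs hI)) := fun c hc =>
    mem_K_of_regular (zreg rs) (reg_poly rs hreg) rs.length le_rfl c (fun k _ => k.isLt) hc
  have h2 := subsingleton_T2_of_koszul (regPres hs rs hI) hK M
  obtain ⟨e2⟩ := Groth.Agent.Lib.Helper1.CotJoin.nonempty_T2_equiv_presentations (regPres hs rs hI)
    (CotT.canon A B) M
  exact e2.symm.toEquiv.subsingleton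

end Groth.Agent.S12288
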