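import Groth.Statements.S9365
import Mathlib
import Groth.Agent.Lib.Helper25.SyntLocal
-- import your own Groth.Agent.* helpers here

set_option autoImplicit false
set_option linter.unusedSectionVars false
set_option linter.style.haveILetI false
set_option linter.unusedVariables false
universe u
open Synt

namespace Groth.Agent.S9365

section Helpers
open CategoryTheory CategoryTheory.Limits AlgebraicGeometry
open Groth.Agent.Lib.Helper25.SyntLocal Groth.Agent.Lib.Helper25.GlobalCI TensorProduct

/-- a syntomic algebra over a field is a local complete intersection -/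
theorem isLCIOver_of_isSyntomic_field (K : Type u) [Field K] (F : Type u) [CommRing F] [Algebra K F]
    (h : Synt.IsSyntomic K F) : Synt.IsLCIOver K F := by
  have h1 := h.2.2 ⟨⊥, Ideal.isPrime_bot⟩
  haveI : (⊥ : Ideal K).IsPrime := Ideal.isPrime_bot
  let σ : K ≃ₐ[K] (⊥ : Ideal K).ResidueField := Ideal.algEquivResidueFieldOfField ⊥
  let e : (⊥ : Ideal K).ResidueField ⊗[K] F ≃ₐ[K] F :=
    (Algebra.TensorProduct.congr σ.symm AlgEquiv.refl).trans (Algebra.TensorProduct.lid K F)
  refine isLCIOver_of_semilinear σ.symm.toRingEquiv e.toRingEquiv (fun c => ?_) h1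
  change e (algebraMap _ _ c) = _
  rw [Algebra.TensorProduct.algebraMap_apply]
  simp [e, Algebra.algebraMap_eq_smul_one]

/-- fibres of a morphism restricted along open immersions -/
theorem syntMor_fiber_of_isOpenImmersion {X Y X' Y' : Scheme.{u}} (f : X ⟶ Y) (f' : X' ⟶ Y')
    (i : X' ⟶ X) (j : Y' ⟶ Y) [IsOpenImmersion i] [IsOpenImmersion j] (comm : f' ≫ j = i ≫ f)
    (y' : Y') (h : SyntMor (f.fiberToSpecResidueField (j y'))) :
    SyntMor (f'.fiberToSpecResidueField y') := by
  let ι : f'.fiber y' ⟶ f.fiber (j y') :=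
    pullback.map f' (Y'.fromSpecResidueField y') f (Y.fromSpecResidueField (j y')) i
      (Spec.map (j.residueFieldMap y')) j comm
      (by rw [Scheme.Hom.SpecMap_residueFieldMap_fromSpecResidueField])
  haveI : IsIso (Spec.map (j.residueFieldMap y')) := by
    have : IsIso (j.residueFieldMap y') := inferInstance
    exact (inferInstance : IsIso (Scheme.Spec.map (j.residueFieldMap y').op))
  haveI : IsOpenImmersion (Spec.map (j.residueFieldMap y')) := inferInstance
  haveI : Mono j := inferInstance
  haveI : IsOpenImmersion ι := by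
    dsimp only [ι]
    exact Scheme.pullback_map_isOpenImmersion _ _ _ _ _ _ _ _ _
  have hcomp : ι ≫ f.fiberToSpecResidueField (j y') =
      f'.fiberToSpecResidueField y' ≫ Spec.map (j.residueFieldMap y') := by
    dsimp only [ι, Scheme.Hom.fiberToSpecResidueField]
    exact pullback.lift_snd _ _ _
  have h1 : SyntMor (ι ≫ f.fiberToSpecResidueField (j y')) :=
    IsZariskiLocalAtSource.comp h ι
  rw [hcomp] at h1
  exact (MorphismProperty.cancel_right_of_respectsIso SyntMor _ _).1 h1

end Helpers

open Groth.Agent.Lib.Helper25.SyntLocal in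
open AlgebraicGeometry CategoryTheory in
/-- If f : X → S is flat, locally of finite presentation, and every fibre X_s → Spec κ(s) is syntomic
(X_s is a local complete intersection over κ(s)), then f is syntomic. -/
theorem result {X S : Scheme.{u}} (f : X ⟶ S) [Flat f] [LocallyOfFinitePresentation f]
    (hfib : ∀ s : S, Synt.IsSyntomicMor (f.fiberToSpecResidueField s)) :
    Synt.IsSyntomicMor f := by
  rw [isSyntomicMor_iff_forall]
  intro U V e
  letI := (f.appLE V.1 U.1 e).hom.toAlgebra
  have hflat : Module.Flat Γ(S, V.1) Γ(X, U.1) :=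
    HasRingHomProperty.appLE (P := @Flat) f ‹Flat f› V U e
  have hfp : Algebra.FinitePresentation Γ(S, V.1) Γ(X, U.1) :=
    HasRingHomProperty.appLE (P := @LocallyOfFinitePresentation) f ‹_› V U e
  refine ⟨hflat, hfp, fun p => ?_⟩
  have comm : Spec.map (f.appLE V.1 U.1 e) ≫ V.2.fromSpec = U.2.fromSpec ≫ f :=
    IsAffineOpen.SpecMap_appLE_fromSpec f V.2 U.2 e
  haveI : IsOpenImmersion U.2.fromSpec := IsAffineOpen.isOpenImmersion_fromSpec U.2
  haveI : IsOpenImmersion V.2.fromSpec := IsAffineOpen.isOpenImmersion_fromSpec V.2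
  have h1 : SyntMor ((Spec.map (f.appLE V.1 U.1 e)).fiberToSpecResidueField p) :=
    syntMor_fiber_of_isOpenImmersion f (Spec.map (f.appLE V.1 U.1 e)) U.2.fromSpec V.2.fromSpec
      comm p ((isSyntomicMor_iff _).1 (hfib _))
  have h2 := (MorphismProperty.arrow_mk_iso_iff SyntMor
    (Spec.fiberToSpecResidueFieldIso Γ(S, V.1) Γ(X, U.1) p)).1 h1
  rw [HasRingHomProperty.Spec_iff (P := SyntMor)] at h2
  exact isLCIOver_of_isSyntomic_field _ _ (syntHom_algebraMap.1 h2)

end Groth.Agent.S9365
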