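import Groth.Statements.S8652
import Groth.Agent.Lib.Helper5.RegBC
import Groth.Agent.Lib.Helper5.KosBCB

set_option autoImplicit false
universe u
open CategoryTheory CategoryTheory.Limits AlgebraicGeometry
open RegImm

namespace Groth.Agent.S8652

/-- Let i : Y ⟶ X be a Koszul-regular immersion (Koszul-regular: locally, in affine opens of X where the
image is closed, the ideal is generated by a sequence whose Koszul complex is acyclic in nonzero
degrees) and let g : X' ⟶ X be flat. For any cartesian square with i' : Y' ⟶ X' the base change of i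
along g, i' is a Koszul-regular immersion. -/
theorem result {X Y X' Y' : Scheme.{u}} (i : Y ⟶ X) (g : X' ⟶ X) [Flat g]
    (i' : Y' ⟶ X') (g' : Y' ⟶ Y) (hsq : IsPullback g' i' i g)
    (hi : RegImm.IsRegularImmersion .koszul i) : RegImm.IsRegularImmersion .koszul i' := by
  obtain ⟨him, hreg⟩ := hi
  have : IsImmersion i := him
  refine ⟨MorphismProperty.of_isPullback (P := @IsImmersion) hsq inferInstance, fun z' => ?_⟩
  obtain ⟨U, hzU, hUc, rs, hrs, hker⟩ := hreg (g' z')
  have hcond : i (g' z') = g (i' z') := by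
    rw [← Scheme.Hom.comp_apply, ← Scheme.Hom.comp_apply, hsq.w]
  obtain ⟨_, ⟨U', hU', rfl⟩, hzU', hU'le⟩ :=
    X'.isBasis_affineOpens.exists_subset_of_mem_open
      (show i' z' ∈ (g ⁻¹ᵁ U.1 : X'.Opens) from by
        change g (i' z') ∈ U.1
        rw [← hcond]; exact hzU) (g ⁻¹ᵁ U.1).2
  have : IsClosedImmersion (i ∣_ U.1) := hUc
  obtain ⟨hci', hk⟩ := Groth.Agent.Lib.Helper5.RegBC.ker_app_of_isPullback i g i' g' hsq U.2 hU'
    hU'le
  refine ⟨⟨U', hU'⟩, hzU', hci', rs.map (g.appLE U.1 U' hU'le).hom, ?_, ?_⟩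
  · exact Groth.Agent.Lib.Helper5.KosBC.isKoszulRegularSeq_map _
      (Flat.flat_appLE g U.2 hU' hU'le) rs hrs
  · rw [hk, hker, Ideal.map_ofList]

end Groth.Agent.S8652
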