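import Groth.Statements.S8658
import Groth.Agent.S8652

set_option autoImplicit false
universe u
open CategoryTheory CategoryTheory.Limits AlgebraicGeometry
open Synt

namespace Groth.Agent.S8658

/-- Let f : X ⟶ Y be a local complete intersection morphism in the factorisation sense (around each
point of X, f is locally of finite type and factors as a Koszul-regular immersion followed by a
smooth morphism), and let g : Y' ⟶ Y be flat. Then for any cartesian square, the base change f' : X'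
⟶ Y' is a local complete intersection morphism in the same sense. -/
theorem result {X Y X' Y' : Scheme.{u}} (f : X ⟶ Y) (g : Y' ⟶ Y) [Flat g]
    (f' : X' ⟶ Y') (g' : X' ⟶ X) (hsq : IsPullback g' f' f g)
    (hf : ∀ x : X, Synt.IsKoszulAt f x) : ∀ x' : X', Synt.IsKoszulAt f' x' := by
  intro x'
  obtain ⟨U, P, i, π, hxU, hlft, hreg, hsm, hfac⟩ := hf (g' x')
  have hA : IsPullback (g' ∣_ U) (g' ⁻¹ᵁ U).ι U.ι g' := isPullback_morphismRestrict g' U
  have hbig : IsPullback (g' ∣_ U) ((g' ⁻¹ᵁ U).ι ≫ f') (U.ι ≫ f) g := hA.paste_vert hsq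
  have hcomm : ((g' ∣_ U) ≫ i) ≫ π = ((g' ⁻¹ᵁ U).ι ≫ f') ≫ g := by
    rw [Category.assoc, hfac]
    exact hbig.w
  let i' : ((g' ⁻¹ᵁ U : X'.Opens) : Scheme.{u}) ⟶ pullback π g :=
    pullback.lift ((g' ∣_ U) ≫ i) ((g' ⁻¹ᵁ U).ι ≫ f') hcomm
  have h1 : i' ≫ pullback.fst π g = (g' ∣_ U) ≫ i := pullback.lift_fst _ _ _
  have h2 : i' ≫ pullback.snd π g = (g' ⁻¹ᵁ U).ι ≫ f' := pullback.lift_snd _ _ _
  have hbig' : IsPullback (g' ∣_ U) (i' ≫ pullback.snd π g) (i ≫ π) g := by
    rw [h2, hfac]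
    exact hbig
  have htop : IsPullback (g' ∣_ U) i' i (pullback.fst π g) :=
    IsPullback.of_bot hbig' h1.symm (IsPullback.of_hasPullback π g)
  have hreg' : RegImm.IsRegularImmersion .koszul i' :=
    Groth.Agent.S8652.result i (pullback.fst π g) i' (g' ∣_ U) htop hreg
  refine ⟨g' ⁻¹ᵁ U, pullback π g, i', pullback.snd π g, hxU, ?_, hreg', inferInstance, h2⟩
  exact MorphismProperty.of_isPullback hbig hlft

end Groth.Agent.S8658
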