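import Groth.Statements.S8662
import Groth.Agent.Lib.Helper5.LciS
import Groth.Agent.Lib.Helper5.LciN

set_option autoImplicit false
universe u
open CategoryTheory CategoryTheory.Limits AlgebraicGeometry
open Synt

namespace Groth.Agent.S8662

/-- Let f : X ⟶ Y be a morphism, g : Y' ⟶ Y flat, surjective and quasi-compact, and f' : X' ⟶ Y' the
base change of f along g (a cartesian square). If f' is a local complete intersection morphism in
the factorisation sense (around each point, locally of finite type and factoring as a Koszul-regular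
immersion followed by a smooth morphism), then so is f. -/
theorem result {X Y X' Y' : Scheme.{u}} (f : X ⟶ Y) (g : Y' ⟶ Y) [Flat g] [Surjective g] [QuasiCompact g]
    (f' : X' ⟶ Y') (g' : X' ⟶ X) (hsq : IsPullback g' f' f g)
    (hf' : ∀ x' : X', Synt.IsKoszulAt f' x') : ∀ x : X, Synt.IsKoszulAt f x := by
  have hPf' : Groth.Agent.Lib.Helper5.Lci.LciMor f' := Groth.Agent.Lib.Helper5.Lci.lciMor_of_isKoszulAt f' hf'
  have hdesc : (Groth.Agent.Lib.Helper5.Lci.LciMor.{u}).DescendsAlong
      (@AlgebraicGeometry.Surjective ⊓ @AlgebraicGeometry.Flat ⊓ @AlgebraicGeometry.QuasiCompact) :=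
    Groth.Agent.Lib.Helper5.Lci.descendsAlong_of_codescendsAlong Groth.Agent.Lib.Helper5.Lci.LciMor
      Groth.Agent.Lib.Helper5.Lci.isLciHom_codescendsAlong_faithfullyFlat
  have hPf : Groth.Agent.Lib.Helper5.Lci.LciMor f :=
    MorphismProperty.of_isPullback_of_descendsAlong (P := Groth.Agent.Lib.Helper5.Lci.LciMor)
      (Q := @AlgebraicGeometry.Surjective ⊓ @AlgebraicGeometry.Flat ⊓
        @AlgebraicGeometry.QuasiCompact) hsq.flip ⟨⟨inferInstance, inferInstance⟩, inferInstance⟩ hPf'
  exact fun x => Groth.Agent.Lib.Helper5.Lci.isKoszulAt_of_lciMor f hPf x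

end Groth.Agent.S8662
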