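import Groth.Statements.S10009
import Groth.Agent.Lib.Helper15.LimChart
import Groth.Agent.Lib.Helper9.LimClosed1
import Groth.Agent.Lib.Helper3.AffDescProps
import Groth.Agent.Lib.Helper3.AffDescCover
import Groth.Agent.Lib.Helper3.AlgSpRepLocal
import Groth.Agent.Lib.Helper3.AlgSpLocP3
import Groth.Agent.Lib.Helper3.AlgSpQC4
import Groth.Agent.Lib.Helper3.AlgSpSep
import Groth.Agent.S0083
-- import your own Groth.Agent.* helpers here

set_option autoImplicit false
universe u
open CategoryTheory CategoryTheory.Limits AlgebraicGeometry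
open AlgSp

namespace Groth.Agent.S10009

section H
set_option backward.isDefEq.respectTransparency.types false
namespace W1
open Groth.Agent.Lib.Helper3 Groth.Agent.Lib.Helper3.AffDesc Groth.Agent.Lib.Helper15
  Groth.Agent.S10056.W1

variable {S : Scheme.{u}}

/-- cancellation for locally of finite type on chart diagrams -/
theorem locP_lft_of_comp {X Y Z : Sp S} (hX : IsAlgSpace X) (hY : IsAlgSpace Y) (hZ : IsAlgSpace Z)
    (f : X ⟶ Y) (g : Y ⟶ Z) (hfg : LocP @LocallyOfFiniteType (f ≫ g)) :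
    LocP @LocallyOfFiniteType f := by
  obtain ⟨W, c, hce, hcs⟩ := hZ.atlas
  obtain ⟨V, v, l, -, -, hbe, hbs, -, hl⟩ := exists_chart_over hY hZ g c hce
  obtain ⟨U, u, h, -, -, hae, has, -, hh⟩ := exists_chart_over hX hY f _ hbe
  have h1 : LocallyOfFiniteType (h ≫ l).left := hfg _ c (h ≫ l) hae hce (by
    rw [← Category.assoc, hh, Category.assoc, hl, Functor.map_comp, Category.assoc])
  rw [Over.comp_left] at h1
  have h2 : LocallyOfFiniteType h.left := locallyOfFiniteType_of_comp h.left l.left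
  exact locP_of_chart isEtLocal_locallyOfFiniteType f _ hae (has (hbs hcs)) _ hbe h hh h2

/-- closed immersions descend along an etale chart of the target -/
theorem repWith_closedImmersion_of_etale_cover {X Y : Sp S} (f : X ⟶ Y) (V : Over S)
    (p : (yon S).obj V ⟶ Y) (hp : RepWith @Etale p) (hps : RepWith @Surjective p)
    {P : Sp S} (fst : P ⟶ X) (snd : P ⟶ (yon S).obj V) (sq : IsPullback fst snd f p)
    (h : RepWith @IsClosedImmersion snd) : RepWith @IsClosedImmersion f := by
  haveI := Groth.Agent.S0083.result.{u}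
  have hA : IsAffineMor snd := (isAffineMor_iff_repWith snd).2
    (repWith_mono (fun A B g hg => by
      have : IsClosedImmersion g := hg
      exact (inferInstance : IsAffineHom g)) h)
  have key : ∀ ⦃Z : Over S⦄, IsAffine Z.left → ∀ (z : (yon S).obj Z ⟶ Y),
      ∃ (W : Over S) (i : W ⟶ Z) (fst₀ : (yon S).obj W ⟶ X),
        IsPullback fst₀ ((yon S).map i) f z ∧ IsClosedImmersion i.left := by
    intro Z hZ z
    obtain ⟨W₀, V', W, i, fst₀, q, w, c, g, fstW, sq₀, hW₀, hV', hW, hqe, hqs, sqS, sqW⟩ :=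
      exists_descent_square f V p hp hps fst snd sq hA hZ z
    have hw : IsClosedImmersion w.left := h.property ((yon S).map g) fstW w sqW
    have hqf : Flat q.left := inferInstance
    have sqS' := sqS.map (Over.forget S)
    exact ⟨W₀, i, fst₀, sq₀,
      @descends_of_isPullback @IsClosedImmersion _ _ _ _ _ hV' hZ _ _ _ _ sqS' hqf hqs hw⟩
  have hrep : Representable f := representable_of_affine f (fun Z hZ z => by
    obtain ⟨W, i, fst₀, sq₀, -⟩ := key hZ z
    exact ⟨W, i, fst₀, sq₀⟩)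
  exact repWith_of_affine @IsClosedImmersion f hrep key

/-- cancellation: if `f ≫ g` is a closed immersion and `g` is separated, `f` is a closed
immersion -/
theorem repWith_closedImmersion_of_postcomp {X Y Z : Sp S} (f : X ⟶ Y) (g : Y ⟶ Z)
    (hg : RepWith @IsClosedImmersion (pullback.diagonal g))
    (hfg : RepWith @IsClosedImmersion (f ≫ g)) : RepWith @IsClosedImmersion f := by
  have h1 : RepWith @IsClosedImmersion (pullback.lift (𝟙 X) f (by simp) : X ⟶ pullback (f ≫ g) g) :=
    (repWith_isStableUnderBaseChange _).of_isPullback (pullback_lift_diagonal_isPullback f g) hg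
  have h2 : RepWith @IsClosedImmersion (pullback.snd (f ≫ g) g) :=
    (repWith_isStableUnderBaseChange _).of_isPullback (IsPullback.of_hasPullback (f ≫ g) g) hfg
  have e : f = pullback.lift (𝟙 X) f (by simp) ≫ pullback.snd (f ≫ g) g := by
    rw [pullback.lift_snd]
  rw [e]
  exact MorphismProperty.comp_mem _ _ _ h1 h2

theorem main (S : Scheme.{u}) {I : Type u} [SmallCategory I] [IsCofiltered I]
    (B : AlgSp.Space S) (D : I ⥤ AlgSp.Sp S) (hD : ∀ i, AlgSp.IsAlgSpace (D.obj i))
    (t : D ⟶ (Functor.const I).obj B.obj)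
    (hDa : ∀ (i j : I) (φ : i ⟶ j), AlgSp.IsAffineMor (D.map φ))
    (c : Cone D) (hc : IsLimit c)
    (hqc : ∀ i, AlgSp.IsQuasiCompactSp (D.obj i))
    (Y : AlgSp.Space S) (y : Y.obj ⟶ c.pt) (hy : AlgSp.RepWith @IsClosedImmersion y) (i₁ : I)
    (hYB : AlgSp.LocP @LocallyOfFiniteType (y ≫ c.π.app i₁ ≫ t.app i₁)) :
    ∃ i₀ : I, ∀ (i : I) (_ : i ⟶ i₀), AlgSp.RepWith @IsClosedImmersion (y ≫ c.π.app i) := by
  have hDa' : ∀ (i j : I) (φ : i ⟶ j), RepWith @IsAffineHom (D.map φ) :=
    fun i j φ => (isAffineMor_iff_repWith _).1 (hDa i j φ)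
  obtain ⟨V₁, v₁, hve, hvs, hVa⟩ := exists_affine_chart_of_isQuasiCompactSp (hqc i₁)
  obtain ⟨cE, hcE, hcEL, q, a, sq, haπ, hqπ, haff⟩ := LimChart.exists_chart D hDa' i₁ v₁ c hc
  have sqT := hy.rep.isPullback q
  have hjT : IsClosedImmersion (hy.rep.snd q).left := hy.property_snd q
  have hy1 : LocP @LocallyOfFiniteType (y ≫ c.π.app i₁) :=
    locP_lft_of_comp Y.property (hD i₁) B.property _ _ (by rwa [Category.assoc])
  have hqe : RepWith @Etale q := (repWith_isStableUnderBaseChange _).of_isPullback sq.flip hve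
  have hfe : RepWith @Etale (hy.rep.fst q) :=
    (repWith_isStableUnderBaseChange _).of_isPullback sqT.flip hqe
  have hlft : LocallyOfFiniteType (hy.rep.snd q ≫ a).left :=
    hy1 (hy.rep.fst q) v₁ (hy.rep.snd q ≫ a) hfe hve (by
      rw [← Category.assoc, sqT.w, Category.assoc, sq.w, Functor.map_comp, Category.assoc])
  -- the scheme-level system
  haveI : ∀ {k k' : Over i₁} (ψ : k ⟶ k'), IsAffineHom ((E D hDa' i₁ v₁ ⋙ Over.forget S).map ψ) :=
    fun ψ => isAffineHom_uk D hDa' i₁ v₁ ψ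
  let t' : (E D hDa' i₁ v₁ ⋙ Over.forget S) ⟶ (Functor.const (Over i₁)).obj V₁.left :=
    { app := fun k => (ak D hDa' i₁ v₁ k).left
      naturality := fun k k' ψ => by
        simp only [Functor.const_obj_obj, Functor.const_obj_map, Category.comp_id]
        change (uk D hDa' i₁ v₁ ψ).left ≫ (ak D hDa' i₁ v₁ k').left = _
        rw [← Over.comp_left, uk_a] }
  let k₁ : Over i₁ := Over.mk (𝟙 i₁)
  haveI : IsAffine V₁.left := hVa
  haveI : IsAffine ((E D hDa' i₁ v₁ ⋙ Over.forget S).obj k₁) :=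
    @isAffine_of_isAffineHom _ _ (ak D hDa' i₁ v₁ k₁).left (isAffineHom_ak D hDa' i₁ v₁ k₁) ‹_›
  let hT : (hy.rep.pullback q).left ⟶ ((Over.forget S).mapCone cE).pt := (hy.rep.snd q).left
  haveI : IsClosedImmersion hT := hjT
  have e1 : hT ≫ ((Over.forget S).mapCone cE).π.app k₁ ≫ t'.app k₁ = (hy.rep.snd q ≫ a).left := by
    rw [← haπ k₁]; rfl
  haveI : LocallyOfFiniteType (hT ≫ ((Over.forget S).mapCone cE).π.app k₁ ≫ t'.app k₁) := by
    rw [e1]; exact hlft
  obtain ⟨k, -, hk⟩ := Groth.Agent.Lib.Helper9.LimClosed.exists_isClosedImmersion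
    (E D hDa' i₁ v₁ ⋙ Over.forget S) _ hcEL t' hT k₁
  -- the stage `k`
  have sqTop : IsPullback q ((yon S).map (cE.π.app k : cE.pt ⟶ Uk D hDa' i₁ v₁ k))
      (c.π.app k.left) (pk D hDa' i₁ v₁ k) := by
    have e : (yon S).map (cE.π.app k : cE.pt ⟶ Uk D hDa' i₁ v₁ k) ≫
        (yon S).map (ak D hDa' i₁ v₁ k) = (yon S).map a := by
      rw [← Functor.map_comp, haπ k]
    have h := sq
    rw [← e, ← c.w k.hom] at h
    exact IsPullback.of_bot h (hqπ k) (sqk D hDa' i₁ v₁ k)
  have sqK0 := sqT.paste_vert sqTop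
  have sqK : IsPullback (hy.rep.fst q)
      ((yon S).map (hy.rep.snd q ≫ (cE.π.app k : cE.pt ⟶ Uk D hDa' i₁ v₁ k)))
      (y ≫ c.π.app k.left) (pk D hDa' i₁ v₁ k) := by
    rw [Functor.map_comp]; exact sqK0
  have hpe : RepWith @Etale (pk D hDa' i₁ v₁ k) :=
    (repWith_isStableUnderBaseChange _).of_isPullback (sqk D hDa' i₁ v₁ k).flip hve
  have hps : RepWith @Surjective (pk D hDa' i₁ v₁ k) :=
    (repWith_isStableUnderBaseChange _).of_isPullback (sqk D hDa' i₁ v₁ k).flip hvs
  have hyk : RepWith @IsClosedImmersion (y ≫ c.π.app k.left) := by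
    refine repWith_closedImmersion_of_etale_cover _ _ (pk D hDa' i₁ v₁ k) hpe hps _ _ sqK ?_
    refine (repWith_yon_map_iff _ _).2 ?_
    exact hk
  refine ⟨k.left, fun i φ => ?_⟩
  have hsep : RepWith @IsClosedImmersion (pullback.diagonal (D.map φ)) :=
    repWith_diagonal_of_repWith (P := @IsClosedImmersion) (Q := @IsAffineHom)
      (fun A B g hg => by
        have : IsAffineHom g := hg
        exact (inferInstance : IsClosedImmersion (pullback.diagonal g))) _ (hDa' _ _ φ)
  refine repWith_closedImmersion_of_postcomp (y ≫ c.π.app i) (D.map φ) hsep ?_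
  rw [Category.assoc, c.w]
  exact hyk

end W1
end H


/-- Let `B` be an algebraic space over the scheme `S` and `X` the limit, in fppf sheaves, of a
cofiltered system `(X_i)` of quasi-compact algebraic spaces over `B` whose transition maps are
affine; let `y : Y ⟶ X` be a closed immersion from an algebraic space `Y` whose structure map to `B`
is locally of finite type. Then, for all `i` mapping to some `i₀`, the composite `Y ⟶ X ⟶ X_i` is a
closed immersion. -/
theorem result (S : Scheme.{u}) {I : Type u} [SmallCategory I] [IsCofiltered I]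
    (B : AlgSp.Space S) (D : I ⥤ AlgSp.Sp S) (hD : ∀ i, AlgSp.IsAlgSpace (D.obj i))
    (t : D ⟶ (Functor.const I).obj B.obj)
    (hDa : ∀ (i j : I) (φ : i ⟶ j), AlgSp.IsAffineMor (D.map φ))
    (c : Cone D) (hc : IsLimit c)
    (hqc : ∀ i, AlgSp.IsQuasiCompactSp (D.obj i))
    (Y : AlgSp.Space S) (y : Y.obj ⟶ c.pt) (hy : AlgSp.RepWith @IsClosedImmersion y) (i₁ : I)
    (hYB : AlgSp.LocP @LocallyOfFiniteType (y ≫ c.π.app i₁ ≫ t.app i₁)) :
    ∃ i₀ : I, ∀ (i : I) (_ : i ⟶ i₀), AlgSp.RepWith @IsClosedImmersion (y ≫ c.π.app i) := by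
  exact W1.main S B D hD t hDa c hc hqc Y y hy i₁ hYB

end Groth.Agent.S10009
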