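import Groth.Statements.S5003
import Groth.Agent.Lib.Helper7.QRegSpread
import Groth.Agent.Lib.Helper5.RegSpreadSch
import Groth.Agent.Lib.Helper5.LciS

set_option autoImplicit false
universe u
open CategoryTheory CategoryTheory.Limits AlgebraicGeometry TopologicalSpace
open Nrm16

namespace Groth.Agent.S5003

/-- Let X be a locally Noetherian scheme and j : Y ⟶ X a morphism. Then j is a regular immersion if and
only if j is a quasi-regular immersion. -/
theorem result {X Y : Scheme.{u}} [IsLocallyNoetherian X] (j : Y ⟶ X) :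
    RegImm.IsRegularImmersion RegImm.Kind.regular j ↔ RegImm.IsRegularImmersion RegImm.Kind.quasi j := by
  constructor
  · rintro ⟨him, h⟩
    refine ⟨him, fun z => ?_⟩
    obtain ⟨U, hz, hc, rs, hrs, hker⟩ := h z
    refine ⟨U, hz, hc, rs, ?_, hker⟩
    have hrs' : RingTheory.Sequence.IsRegular Γ(X, U.1) rs := hrs
    exact Groth.Agent.S5802.result _ rs.length rs.get (by rw [List.ofFn_get]; exact hrs'.1)
  · rintro ⟨him, h⟩
    refine ⟨him, fun z => ?_⟩
    obtain ⟨⟨U, hU⟩, hz, hc, rs, hrs, hker⟩ := h z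
    have hN : IsNoetherianRing Γ(X, U) := IsLocallyNoetherian.component_noetherian ⟨U, hU⟩
    haveI : IsClosedImmersion (j ∣_ U) := hc
    have hle : RingHom.ker (j.app U).hom ≤ (hU.primeIdealOf ⟨j z, hz⟩).asIdeal :=
      Groth.Agent.Lib.Helper5.Lci.ker_le_primeIdealOf j hU
        (Groth.Agent.Lib.Helper5.RegImmA.isAffineOpen_preimage_of_restrict j hU) z hz
    have hrs' : CAlgX.IsQuasiRegular rs.get := hrs
    obtain ⟨g, hg, hS⟩ := Groth.Agent.Lib.Helper7.QRegSpread.exists_away_weaklyRegular_of_qr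
      (hU.primeIdealOf ⟨j z, hz⟩).asIdeal rs hrs' (hker ▸ hle)
    obtain ⟨hU₁, hc₁, hz₁, loc₁, -, hk₁⟩ :=
      Groth.Agent.Lib.Helper5.RegSpreadSch.step j hU z hz g hg
    refine ⟨⟨X.basicOpen g, hU₁⟩, hz₁, hc₁,
      rs.map (algebraMap Γ(X, U) Γ(X, X.basicOpen g)), ?_, ?_⟩
    · have hreg : RingTheory.Sequence.IsRegular Γ(X, X.basicOpen g)
          (rs.map (algebraMap Γ(X, U) Γ(X, X.basicOpen g))) := by
        refine Groth.Agent.Lib.Helper5.RegComp.isRegular_of_weaklyRegular_of_ne_top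
          (hS Γ(X, X.basicOpen g)) ?_
        rw [← Ideal.map_ofList, ← hker, ← hk₁]
        intro htop
        haveI : IsClosedImmersion (j ∣_ X.basicOpen g) := hc₁
        have h2 := Groth.Agent.Lib.Helper5.Lci.ker_le_primeIdealOf j hU₁
          (Groth.Agent.Lib.Helper5.RegImmA.isAffineOpen_preimage_of_restrict j hU₁) z hz₁
        rw [htop] at h2
        exact (hU₁.primeIdealOf ⟨j z, hz₁⟩).isPrime.ne_top (top_le_iff.mp h2)
      exact hreg
    · rw [hk₁, hker, Ideal.map_ofList]

end Groth.Agent.S5003
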