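import Groth.Statements.S8905
import Groth.Agent.Lib.Helper5.RegImmB
import Groth.Agent.Lib.Helper5.KosH1C
import Groth.Agent.S2103

set_option autoImplicit false
universe u
open CategoryTheory CategoryTheory.Limits AlgebraicGeometry TopologicalSpace
open SDiv

namespace Groth.Agent.S8905

/-- Let i : Z ⟶ X be an immersion of schemes. If i is a regular immersion then it is Koszul-regular; if
Koszul-regular then H_1-regular; if H_1-regular then quasi-regular. -/
theorem result {Z X : Scheme.{u}} (i : Z ⟶ X) :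
    (RegImm.IsRegularImmersion RegImm.Kind.regular i → RegImm.IsRegularImmersion RegImm.Kind.koszul i) ∧
      (RegImm.IsRegularImmersion RegImm.Kind.koszul i → RegImm.IsRegularImmersion RegImm.Kind.h1 i) ∧
      (RegImm.IsRegularImmersion RegImm.Kind.h1 i → RegImm.IsRegularImmersion RegImm.Kind.quasi i) := by
  refine ⟨Groth.Agent.Lib.Helper5.RegImmB.koszul_of_regular i, ?_, ?_⟩
  · rintro ⟨h1, h2⟩
    refine ⟨h1, fun z => ?_⟩
    obtain ⟨U, hzU, hc, rs, hrs, hker⟩ := h2 z
    refine ⟨U, hzU, hc, rs, ?_, hker⟩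
    have hrs' : LCI.IsKoszulRegularSeq Γ(X, U.1) rs := hrs
    exact (Groth.Agent.Lib.Helper5.KosH1.isH1Regular_iff_isZero rs).2 (hrs' (-1) (by decide))
  · rintro ⟨h1, h2⟩
    refine ⟨h1, fun z => ?_⟩
    obtain ⟨U, hzU, hc, rs, hrs, hker⟩ := h2 z
    refine ⟨U, hzU, hc, rs, ?_, hker⟩
    have hrs' : CAlgX.IsH1Regular rs.get := hrs
    exact Groth.Agent.S2103.result rs.get hrs'

end Groth.Agent.S8905
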