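import Groth.Statements.S10373
import Groth.Agent.Lib.Helper15.LiftDiscrete
import Groth.Agent.Lib.Helper15.OnePointSp
import Groth.Agent.Lib.Helper15.FieldQuotSp
import Groth.Agent.Lib.Helper3.AlgSpNoSpec
import Groth.Agent.S9885
import Groth.Agent.Lib.Helper3.QAffDescGen
-- import your own Groth.Agent.* helpers here

set_option autoImplicit false
universe u
open CategoryTheory CategoryTheory.Limits AlgebraicGeometry Topology TopologicalSpace
open AlgSp

namespace Groth.Agent.S10373

section H
namespace W1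

open Groth.Agent.Lib.Helper3 Groth.Agent.Lib.Helper15 Groth.Agent.Lib.Helper15.FieldQuot
  Groth.Agent.Lib.Helper15.OnePointSp Groth.Agent.Lib.Helper15.LiftDiscrete

variable {S : Scheme.{u}}

/-- the fibre of an etale chart over a point represented by a quasi-compact field point is
discrete. -/
theorem exists_open_isolating {X : Sp S} (p : FieldPt X) (hq : RepWith @QuasiCompact p.toHom)
    {U : Over S} (a : (yon S).obj U ⟶ X) (ha : RepWith @Etale a) (u : ↥U.left)
    (hu : Points.ofPt a u = Points.mk p) :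
    ∃ O : U.left.Opens, u ∈ O ∧ ∀ u' ∈ O, Points.ofPt a u' = Points.mk p → u' = u := by
  obtain ⟨U₀, hU₀, huU₀⟩ : ∃ U₀ : U.left.Opens, IsAffineOpen U₀ ∧ u ∈ U₀ := by
    obtain ⟨_, ⟨W, hW, rfl⟩, huW, -⟩ := (U.left.isBasis_affineOpens).exists_subset_of_mem_open
      (Set.mem_univ u) isOpen_univ
    exact ⟨W, hW, huW⟩
  let W : Over S := Over.mk (U₀.ι ≫ U.hom)
  let a' : (yon S).obj W ⟶ X := chartRestrict a U₀
  have ha' : RepWith @Etale a' := chartRestrict_etale a ha U₀
  haveI haff : IsAffine W.left := hU₀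
  haveI : CompactSpace ↥W.left := inferInstance
  have hfin : (Points.ofPt a' ⁻¹' {Points.mk p}).Finite := finite_fibre_of_qc_point p hq a' ha'
  let w : ↥W.left := (⟨u, huU₀⟩ : ↥U₀)
  have hw : Points.ofPt a' w = Points.mk p := by
    rw [ofPt_chartRestrict]; exact hu
  let Φ : Set ↥W.left := (Points.ofPt a' ⁻¹' {Points.mk p}) \ {w}
  have hΦfin : Φ.Finite := hfin.sdiff
  let O' : Set ↥W.left := ⋂ w' ∈ Φ, (closure {w'})ᶜ
  have hO'open : IsOpen O' := hΦfin.isOpen_biInter fun w' _ => isClosed_closure.isOpen_compl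
  have hwO' : w ∈ O' := by
    simp only [O', Set.mem_iInter]
    intro w' hw'
    rw [Set.mem_compl_iff, ← specializes_iff_mem_closure]
    intro hs
    exact hw'.2 (eq_of_specializes_of_finite_fibre a' ha' _ hfin w w' hw hw'.1 hs).symm
  refine ⟨U₀.ι ''ᵁ ⟨O', hO'open⟩, ⟨w, hwO', rfl⟩, ?_⟩
  rintro u' ⟨w'', hw''O, rfl⟩ hu'
  have hw''Φ : Points.ofPt a' w'' = Points.mk p := by
    rw [ofPt_chartRestrict]; exact hu'
  by_cases hne : w'' = w
  · rw [hne]; rfl
  · exfalso
    have hmem : w'' ∈ Φ := ⟨hw''Φ, hne⟩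
    have h1 : w'' ∈ (closure {w''})ᶜ := by
      have h0 : w'' ∈ O' := hw''O
      exact Set.mem_iInter₂.1 h0 w'' hmem
    exact h1 (subset_closure rfl)

/-- a morphism from a reduced scheme to an etale chart, landing in the fibre over a point
represented by a quasi-compact monomorphism from a field, factors through that field point. -/
theorem exists_lift_chart {X : Sp S} (p : FieldPt X) (hm : Mono p.toHom)
    (hq : RepWith @QuasiCompact p.toHom) {U : Over S} (a : (yon S).obj U ⟶ X)
    (ha : RepWith @Etale a) {V' : Over S} [IsReduced V'.left] (pU : V' ⟶ U)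
    (hpts : ∀ v : ↥V'.left, Points.ofPt a (pU.left v) = Points.mk p) :
    ∃ h' : (yon S).obj V' ⟶ (yon S).obj p.pt, h' ≫ p.toHom = (yon S).map pU ≫ a := by
  obtain ⟨E, eU, eK, sqE⟩ := exists_pullback_charts a ha.1 p.toHom
  haveI : Etale eK.left := ha.2 p.toHom ((yon S).map eU) eK sqE
  haveI : Mono ((yon S).map eU) :=
    (MorphismProperty.monomorphisms (Sp S)).of_isPullback sqE.flip
      (MorphismProperty.monomorphisms.infer_property p.toHom)
  haveI : Mono eU := (yon S).mono_of_mono_map inferInstance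
  haveI : Mono eU.left := inferInstance
  have hrange : ∀ u : ↥U.left, u ∈ Set.range eU.left ↔ Points.ofPt a u = Points.mk p := by
    intro u
    constructor
    · rintro ⟨ε, rfl⟩
      rw [ofPt_comm_of_isPullback sqE ε, Points.ofPt_toHom]
    · intro hu
      obtain ⟨ε, hε, -⟩ := exists_of_ofPt_eq_of_isPullback sqE u
        (IsLocalRing.closedPoint p.K) (by rw [hu, Points.ofPt_toHom])
      exact ⟨ε, hε⟩
  obtain ⟨l, hl⟩ := exists_lift_of_discrete_range eU.left
    (show E.left ⟶ Spec (CommRingCat.of p.K) from eK.left) pU.left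
    (by
      intro u hu
      obtain ⟨O, huO, hO⟩ := exists_open_isolating p hq a ha u ((hrange u).1 hu)
      exact ⟨O, huO, fun u' hu'O hu' => hO u' hu'O ((hrange u').1 hu')⟩)
    (fun v => (hrange _).2 (hpts v))
  have hlw : l ≫ E.hom = V'.hom := by
    rw [← Over.w eU, ← Category.assoc, hl, Over.w pU]
  let l' : V' ⟶ E := Over.homMk l hlw
  have hl' : l' ≫ eU = pU := by
    ext; exact hl
  refine ⟨(yon S).map (l' ≫ eK), ?_⟩
  rw [Functor.map_comp, Category.assoc, ← sqE.w, ← Category.assoc, ← Functor.map_comp, hl']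

/-- descent of a factorization through a monomorphism along a locally surjective morphism. -/
theorem exists_desc_through_mono {A B F G : Sp S} (e : A ⟶ B) (he : Sheaf.IsLocallySurjective e)
    (m : F ⟶ G) [Mono m] (g : B ⟶ G) (h' : A ⟶ F) (hh' : h' ≫ m = e ≫ g) :
    ∃ h : B ⟶ F, h ≫ m = g := by
  have sq := IsPullback.of_hasPullback e e
  have hp : pullback.fst e e ≫ h' = pullback.snd e e ≫ h' := by
    rw [← cancel_mono m, Category.assoc, Category.assoc, hh', ← Category.assoc,
      pullback.condition, Category.assoc]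
  obtain ⟨h, hh⟩ := exists_desc_of_kernelPair _ _ e h' he sq hp
  refine ⟨h, ?_⟩
  haveI : Epi e := inferInstance
  rw [← cancel_epi e, ← Category.assoc, hh, hh']

theorem main {S : Scheme.{u}} {Y X : AlgSp.Space S} (f : Y ⟶ X)
    (x : AlgSp.Points X.obj) (p : AlgSp.FieldPt X.obj) (hp : AlgSp.Points.mk p = x) (hm : Mono p.toHom)
    (hq : AlgSp.RepWith @QuasiCompact p.toHom) (hY : AlgSp.EtaleLocally (fun U => IsReduced U) Y.obj)
    (hf : ∀ y : AlgSp.Points Y.obj, AlgSp.Points.map f.hom y = x) :
    ∃ g : Y.obj ⟶ (AlgSp.yon S).obj p.pt, g ≫ p.toHom = f.hom := by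
  subst hp
  obtain ⟨V, b, hbe, hbs⟩ := Y.property.atlas
  haveI : IsReduced V.left := isReduced_chart hY b hbe
  have hbl : Sheaf.IsLocallySurjective b :=
    Groth.Agent.S9885.result S _ _ b
      (repWith_mono (fun _ _ g (hg : Etale g) => (inferInstance : Flat g)) hbe)
      (repWith_mono (fun _ _ g (hg : Etale g) =>
        (inferInstance : LocallyOfFinitePresentation g)) hbe) hbs
  obtain ⟨U, a, hae, has⟩ := X.property.atlas
  have hrep : Representable (b ≫ f.hom) := X.property.representable_from_yon _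
  obtain ⟨V', pV, pU, sq⟩ := exists_pullback_charts (b ≫ f.hom) hrep a
  haveI hpVe : Etale pV.left := hae.2 _ ((yon S).map pU) pV sq.flip
  haveI hpVs : Surjective pV.left := has.2 _ ((yon S).map pU) pV sq.flip
  haveI : IsReduced V'.left := isReduced_of_etale_scheme pV.left
  have hpts : ∀ v : ↥V'.left, Points.ofPt a (pU.left v) = Points.mk p := by
    intro v
    rw [← ofPt_comm_of_isPullback sq v]
    exact hf (Points.ofPt b (pV.left v))
  obtain ⟨h', hh'⟩ := exists_lift_chart p hm hq a hae pU hpts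
  have hpVl : Sheaf.IsLocallySurjective ((yon S).map pV) :=
    Groth.Agent.Lib.Helper3.QAffDesc.isLocallySurjective_yon_map_of_fppf pV
  obtain ⟨h, hh⟩ := exists_desc_through_mono ((yon S).map pV) hpVl p.toHom (b ≫ f.hom) h'
    (hh'.trans sq.w.symm)
  exact exists_desc_through_mono b hbl p.toHom f.hom h hh

end W1
end H


/-- Let S be a scheme, Y and X algebraic spaces over S, and f : Y ⟶ X a morphism with Y reduced and
|f|(|Y|) ⊆ {x}, where x ∈ |X| is represented by a monomorphism Spec k ⟶ X which is representable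
quasi-compact (for instance X decent). Then f factors through Spec k ⟶ X. -/
theorem result {S : Scheme.{u}} {Y X : AlgSp.Space S} (f : Y ⟶ X)
    (x : AlgSp.Points X.obj) (p : AlgSp.FieldPt X.obj) (hp : AlgSp.Points.mk p = x) (hm : Mono p.toHom)
    (hq : AlgSp.RepWith @QuasiCompact p.toHom) (hY : AlgSp.EtaleLocally (fun U => IsReduced U) Y.obj)
    (hf : ∀ y : AlgSp.Points Y.obj, AlgSp.Points.map f.hom y = x) :
    ∃ g : Y.obj ⟶ (AlgSp.yon S).obj p.pt, g ≫ p.toHom = f.hom := by
  exact W1.main f x p hp hm hq hY hf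

end Groth.Agent.S10373
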