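import Groth.Statements.S10415
import Groth.Agent.S10373
import Groth.Agent.Lib.Helper3.AlgSpEtaleDim
import Groth.Agent.Lib.Helper3.AlgSpFibre
import Groth.Agent.Lib.Helper3.AlgSpMonoField
import Groth.Agent.Lib.Helper15.AlgSpFormal
-- import your own Groth.Agent.* helpers here

set_option autoImplicit false
universe u
open CategoryTheory CategoryTheory.Limits AlgebraicGeometry Topology TopologicalSpace
open AlgSp

namespace Groth.Agent.S10415

section H
namespace W1

open Groth.Agent.Lib.Helper3 Groth.Agent.Lib.Helper15 Groth.Agent.Lib.Helper15.FieldQuot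
  Groth.Agent.Lib.Helper15.OnePointSp Groth.Agent.Lib.Helper15.LiftDiscrete

variable {S : Scheme.{u}}

/-- finite subcovers for covers of a spectral space by closed sets with compact complement. -/
theorem exists_finite_subcover_of_closed_compact_compl {T : Type*} [TopologicalSpace T]
    [CompactSpace T] [QuasiSober T] [PrespectralSpace T] [QuasiSeparatedSpace T] {J : Type*}
    (C : J → Set T) (hC : ∀ j, IsClosed (C j)) (hCc : ∀ j, IsCompact (C j)ᶜ)
    (hcov : ∀ x, ∃ j, x ∈ C j) : ∃ t : Finset J, ∀ x, ∃ j ∈ t, x ∈ C j := by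
  let C' : J → Set (WithConstructibleTopology T) := fun j => WithTopology.ofTopology ⁻¹' (C j)
  have hopen : ∀ j, IsOpen (C' j) := by
    intro j
    rw [WithConstructibleTopology.isOpen_iff]
    exact (hCc j).isOpen_constructibleTopology_of_isClosed (hC j)
  obtain ⟨t, ht⟩ := isCompact_univ.elim_finite_subcover C' hopen (by
    intro w _
    obtain ⟨j, hj⟩ := hcov w.ofTopology
    exact Set.mem_iUnion.2 ⟨j, hj⟩)
  refine ⟨t, fun x => ?_⟩
  have := ht (Set.mem_univ (WithTopology.toTopology _ x))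
  simp only [Set.mem_iUnion] at this
  obtain ⟨j, hjt, hj⟩ := this
  exact ⟨j, hjt, hj⟩

/-- in a locally Noetherian scheme, a specialization between points with local rings of the same
dimension is trivial. -/
theorem eq_of_specializes_of_dim_eq (U : Scheme.{u}) [IsLocallyNoetherian U] {u u' : ↥U}
    (h : u' ⤳ u)
    (hd : ringKrullDim (U.presheaf.stalk u') = ringKrullDim (U.presheaf.stalk u)) : u' = u := by
  obtain ⟨U₀, hU₀, huU₀⟩ : ∃ U₀ : U.Opens, IsAffineOpen U₀ ∧ u ∈ U₀ := by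
    obtain ⟨_, ⟨W, hW, rfl⟩, huW, -⟩ := (U.isBasis_affineOpens).exists_subset_of_mem_open
      (Set.mem_univ u) isOpen_univ
    exact ⟨W, hW, huW⟩
  have hu'U₀ : u' ∈ U₀ := h.mem_open U₀.isOpen huU₀
  haveI : IsNoetherianRing Γ(U, U₀) := IsLocallyNoetherian.component_noetherian ⟨U₀, hU₀⟩
  let p := hU₀.primeIdealOf ⟨u, huU₀⟩
  let p' := hU₀.primeIdealOf ⟨u', hu'U₀⟩
  have hp : hU₀.fromSpec p = u := hU₀.fromSpec_primeIdealOf ⟨u, huU₀⟩
  have hp' : hU₀.fromSpec p' = u' := hU₀.fromSpec_primeIdealOf ⟨u', hu'U₀⟩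
  have hle : p' ⤳ p := by
    have h0 : hU₀.fromSpec p' ⤳ hU₀.fromSpec p := by rw [hp, hp']; exact h
    exact (hU₀.fromSpec.isOpenEmbedding.isInducing.specializes_iff).1 h0
  have hle' : p'.asIdeal ≤ p.asIdeal := (PrimeSpectrum.le_iff_specializes p' p).2 hle
  by_contra hne
  have hlt : p'.asIdeal < p.asIdeal := by
    refine lt_of_le_of_ne hle' fun heq => hne ?_
    rw [← hp, ← hp']
    congr 1
    exact PrimeSpectrum.ext heq
  have h1 := Groth.Agent.Lib.Helper29.EffCart.ringKrullDim_stalk_fromSpec ⟨U₀, hU₀⟩ p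
  have h2 := Groth.Agent.Lib.Helper29.EffCart.ringKrullDim_stalk_fromSpec ⟨U₀, hU₀⟩ p'
  have hp2 : hU₀.fromSpec p = u := hp
  rw [← hp, ← hp', h1, h2] at hd
  haveI := p.2
  haveI := p'.2
  have hlt' : p'.asIdeal.height < p.asIdeal.height := Ideal.height_strict_mono_of_isPrime hlt
  have : (p'.asIdeal.height : WithBot ℕ∞) < p.asIdeal.height := by exact_mod_cast hlt'
  exact absurd hd this.ne

/-- Step 1: a field point of `X` in the class of `x` factors through a monomorphism `Z ⟶ X` of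
algebraic spaces whose image contains `x`. -/
theorem exists_factor_fieldPt {X Z : Sp S} (hX : IsAlgSpace X) (hZ : IsAlgSpace Z) (i : Z ⟶ X)
    [Mono i] {k : Type u} [Field k] (str : Spec (CommRingCat.of k) ⟶ S)
    (ξ : (yon S).obj (Over.mk str) ⟶ X) (z : Points Z)
    (hz : Points.map i z = Points.ofPt ξ (IsLocalRing.closedPoint k)) :
    ∃ σ : (yon S).obj (Over.mk str) ⟶ Z, σ ≫ i = ξ := by
  have sq := IsPullback.of_hasPullback ξ i
  haveI : Mono (pullback.fst ξ i) := inferInstance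
  have hP : IsAlgSpace (pullback ξ i) :=
    isAlgSpace_of_isPullback' hX (IsAlgSpace.yon_obj _) hZ sq
  have hne : Nonempty (Points (pullback ξ i)) := by
    obtain ⟨w, -, -⟩ := Points.exists_of_isPullback sq
      (Points.ofScheme (Over.mk str) (IsLocalRing.closedPoint k)) z
      (by rw [← Points.ofPt_eq_map_ofScheme, hz])
    exact ⟨w⟩
  haveI : IsIso (pullback.fst ξ i) := isIso_of_mono_to_field hP str (pullback.fst ξ i) hne
  refine ⟨inv (pullback.fst ξ i) ≫ pullback.snd ξ i, ?_⟩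
  rw [Category.assoc, ← pullback.condition, IsIso.inv_hom_id_assoc]

/-- Step 2: a morphism from an affine scheme to a Noetherian affine scheme whose image consists of
pairwise non-specializing points is locally constant. -/
theorem isOpen_fibre_of_no_specialization {N U₀ : Scheme.{u}} [IsAffine N] [IsAffine U₀]
    [IsLocallyNoetherian U₀] (g : N ⟶ U₀) (F : Set ↥U₀) (hg : ∀ n, g n ∈ F)
    (hF : ∀ u ∈ F, ∀ u' ∈ F, u' ⤳ u → u' = u) (u : ↥U₀) : IsOpen (g ⁻¹' {u}) := by
  classical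
  by_cases huF : u ∈ F
  swap
  · have : g ⁻¹' {u} = ∅ := by
      ext n
      simp only [Set.mem_preimage, Set.mem_singleton_iff, Set.mem_empty_iff_false, iff_false]
      intro h
      exact huF (h ▸ hg n)
    rw [this]; exact isOpen_empty
  let C : F → Set ↥N := fun u' => g ⁻¹' (closure {u'.1})
  have hCeq : ∀ u' : F, C u' = g ⁻¹' {u'.1} := by
    intro u'
    ext n
    simp only [C, Set.mem_preimage, Set.mem_singleton_iff]
    constructor
    · intro h
      rw [← specializes_iff_mem_closure] at h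
      exact (hF _ (hg n) _ u'.2 h).symm
    · intro h
      rw [h]; exact subset_closure rfl
  have hC : ∀ u', IsClosed (C u') := fun u' => isClosed_closure.preimage g.continuous
  haveI : IsNoetherian U₀ := {}
  haveI : TopologicalSpace.NoetherianSpace ↥U₀ := inferInstance
  have hCc : ∀ u', IsCompact (C u')ᶜ := by
    intro u'
    have : (C u')ᶜ = g ⁻¹' (closure {u'.1})ᶜ := rfl
    rw [this]
    exact QuasiCompact.isCompact_preimage (f := g) _ isClosed_closure.isOpen_compl
      (TopologicalSpace.NoetherianSpace.isCompact _)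
  obtain ⟨t, ht⟩ := exists_finite_subcover_of_closed_compact_compl C hC hCc
    (fun n => ⟨⟨g n, hg n⟩, subset_closure rfl⟩)
  -- the fibre is the complement of a finite union of closed sets
  have hcompl : g ⁻¹' {u} = (⋃ u' ∈ t.filter (fun u' : F => u'.1 ≠ u), C u')ᶜ := by
    ext n
    simp only [Set.mem_preimage, Set.mem_singleton_iff, Set.mem_compl_iff, Set.mem_iUnion,
      Finset.mem_filter, not_exists, exists_prop, not_and]
    constructor
    · intro h u' hu'
      rw [hCeq]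
      simp only [Set.mem_preimage, Set.mem_singleton_iff]
      rw [h]
      exact fun h' => hu'.2 h'.symm
    · intro h
      obtain ⟨u', hu't, hn⟩ := ht n
      rw [hCeq] at hn
      have hn' : g n = u'.1 := hn
      by_contra hne
      refine h u' ⟨hu't, fun h' => hne (hn'.trans h')⟩ ?_
      rw [hCeq]; exact hn'
  rw [hcompl]
  refine IsClosed.isOpen_compl (self := ?_)
  exact Set.Finite.isClosed_biUnion (Finset.finite_toSet _) fun u' _ => hC u'

/-- Step 3: a morphism from a reduced scheme which is constant on points factors through the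
residue field of the image point. -/
theorem exists_lift_residueField_scheme {N U : Scheme.{u}} [IsReduced N] (g : N ⟶ U) (u : ↥U)
    (hg : ∀ n, g n = u) : ∃ l : N ⟶ Spec (U.residueField u), l ≫ U.fromSpecResidueField u = g := by
  have hrange : Set.range (U.fromSpecResidueField u) = {u} := Scheme.range_fromSpecResidueField u
  refine exists_lift_of_discrete_range (κ := ↥(U.residueField u)) (U.fromSpecResidueField u)
    (𝟙 (Spec (U.residueField u))) g ?_ ?_
  · intro u₁ hu₁
    rw [hrange] at hu₁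
    refine ⟨⊤, trivial, fun u' _ hu' => ?_⟩
    rw [hrange] at hu'
    exact hu'.trans hu₁.symm
  · intro n
    rw [hrange]
    exact hg n

/-- local factorization near a point. -/
theorem exists_local_factor {X Z : Sp S} (hX : IsAlgSpace X) (hZ : IsAlgSpace Z)
    (hN : IsLocNoethSp X) (i : Z ⟶ X) [Mono i] (x : Points X) (z : Points Z)
    (hz : Points.map i z = x) {U : Over S} (a : (yon S).obj U ⟶ X) (ha : RepWith @Etale a)
    {V' : Over S} [IsReduced V'.left] (pU : V' ⟶ U)
    (hpts : ∀ v : ↥V'.left, Points.ofPt a (pU.left v) = x) (v : ↥V'.left) :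
    ∃ (N : V'.left.Opens) (xN : (yon S).obj (Over.mk (N.ι ≫ V'.hom)) ⟶ Z), v ∈ N ∧
      xN ≫ i = (yon S).map ((Over.homMk N.ι rfl : Over.mk (N.ι ≫ V'.hom) ⟶ V') ≫ pU) ≫ a := by
  haveI : IsLocallyNoetherian U.left := isLocallyNoetherian_of_isLocNoethSp hN a ha
  let F : Set ↥U.left := {u | Points.ofPt a u = x}
  have hF : ∀ u ∈ F, ∀ u' ∈ F, u' ⤳ u → u' = u := fun u hu u' hu' h =>
    eq_of_specializes_of_dim_eq U.left h
      (ringKrullDim_stalk_eq_of_ofPt_eq a a ha ha u' u (hu'.trans hu.symm))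
  let u : ↥U.left := pU.left v
  obtain ⟨U₀, hU₀, huU₀⟩ : ∃ U₀ : U.left.Opens, IsAffineOpen U₀ ∧ u ∈ U₀ := by
    obtain ⟨_, ⟨W, hW, rfl⟩, huW, -⟩ := (U.left.isBasis_affineOpens).exists_subset_of_mem_open
      (Set.mem_univ u) isOpen_univ
    exact ⟨W, hW, huW⟩
  obtain ⟨N₀, hN₀, hvN₀, e⟩ : ∃ N₀ : V'.left.Opens, IsAffineOpen N₀ ∧ v ∈ N₀ ∧
      N₀ ≤ pU.left ⁻¹ᵁ U₀ := by
    obtain ⟨_, ⟨W, hW, rfl⟩, hvW, hWle⟩ := (V'.left.isBasis_affineOpens).exists_subset_of_mem_open
      (show v ∈ ((pU.left ⁻¹ᵁ U₀ : V'.left.Opens) : Set ↥V'.left) from huU₀)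
      (pU.left ⁻¹ᵁ U₀).isOpen
    exact ⟨W, hW, hvW, hWle⟩
  let g₀ : (N₀ : Scheme.{u}) ⟶ (U₀ : Scheme.{u}) := pU.left.resLE U₀ N₀ e
  have hg₀ : g₀ ≫ U₀.ι = N₀.ι ≫ pU.left := Scheme.Hom.resLE_comp_ι _ _
  have hg₀pt : ∀ n : ↥(N₀ : Scheme.{u}), U₀.ι (g₀ n) = pU.left (N₀.ι n) := by
    intro n
    have := congrArg (fun f => f n) hg₀
    simpa using this
  haveI : IsAffine (N₀ : Scheme.{u}) := hN₀
  haveI : IsAffine (U₀ : Scheme.{u}) := hU₀
  haveI : IsLocallyNoetherian (U₀ : Scheme.{u}) := isLocallyNoetherian_of_isOpenImmersion U₀.ι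
  have hinj : Function.Injective U₀.ι := U₀.ι.isOpenEmbedding.injective
  let F₀ : Set ↥(U₀ : Scheme.{u}) := U₀.ι ⁻¹' F
  have hF₀ : ∀ w ∈ F₀, ∀ w' ∈ F₀, w' ⤳ w → w' = w := fun w hw w' hw' h =>
    hinj (hF _ hw _ hw' (h.map U₀.ι.continuous))
  let w₀ : ↥(U₀ : Scheme.{u}) := (⟨u, huU₀⟩ : ↥U₀)
  have hopen : IsOpen (g₀ ⁻¹' {w₀}) :=
    isOpen_fibre_of_no_specialization g₀ F₀
      (fun n => by change Points.ofPt a (U₀.ι (g₀ n)) = x; rw [hg₀pt]; exact hpts _) hF₀ w₀
  let N : V'.left.Opens := N₀.ι ''ᵁ ⟨g₀ ⁻¹' {w₀}, hopen⟩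
  have hvN : v ∈ N := by
    refine ⟨(⟨v, hvN₀⟩ : ↥N₀), ?_, rfl⟩
    change g₀ _ = w₀
    apply hinj
    rw [hg₀pt]
    rfl
  have hNpt : ∀ n : ↥(N : Scheme.{u}), pU.left (N.ι n) = u := by
    intro n
    obtain ⟨n₀, hn₀, hn₀'⟩ := n.2
    have h1 : g₀ n₀ = w₀ := hn₀
    have h2 : N₀.ι n₀ = N.ι n := hn₀'
    rw [← h2, ← hg₀pt, h1]
    rfl
  haveI : IsReduced (N : Scheme.{u}) := inferInstance
  obtain ⟨l, hl⟩ := exists_lift_residueField_scheme (N.ι ≫ pU.left) u (fun n => hNpt n)
  -- the field point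
  let κ : Type u := ↥(U.left.residueField u)
  let ι_u : Spec (CommRingCat.of κ) ⟶ U.left := U.left.fromSpecResidueField u
  let str_u : Spec (CommRingCat.of κ) ⟶ S := ι_u ≫ U.hom
  let ι_u' : Over.mk str_u ⟶ U := Over.homMk ι_u rfl
  obtain ⟨σ, hσ⟩ := exists_factor_fieldPt hX hZ i str_u ((yon S).map ι_u' ≫ a) z (by
    rw [hz, AlgSpFT.ofPt_yon_map_comp]
    have : ι_u'.left (IsLocalRing.closedPoint κ) = u := Scheme.fromSpecResidueField_apply _ _
    rw [this]
    exact (hpts v).symm)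
  have hlw : l ≫ str_u = N.ι ≫ V'.hom := by
    change l ≫ U.left.fromSpecResidueField u ≫ U.hom = _
    rw [← Category.assoc, hl, Category.assoc, Over.w pU]
  let l' : Over.mk (N.ι ≫ V'.hom) ⟶ Over.mk str_u := Over.homMk l hlw
  have hl' : l' ≫ ι_u' = (Over.homMk N.ι rfl : Over.mk (N.ι ≫ V'.hom) ⟶ V') ≫ pU := by
    ext; exact hl
  refine ⟨N, (yon S).map l' ≫ σ, hvN, ?_⟩
  rw [Category.assoc, hσ, ← Category.assoc, ← Functor.map_comp, hl']

/-- chart-level factorization. -/
theorem exists_lift_chart_noeth {X Z : Sp S} (hX : IsAlgSpace X) (hZ : IsAlgSpace Z)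
    (hN : IsLocNoethSp X) (i : Z ⟶ X) [Mono i] (x : Points X) (z : Points Z)
    (hz : Points.map i z = x) {U : Over S} (a : (yon S).obj U ⟶ X) (ha : RepWith @Etale a)
    {V' : Over S} [IsReduced V'.left] (pU : V' ⟶ U)
    (hpts : ∀ v : ↥V'.left, Points.ofPt a (pU.left v) = x) :
    ∃ h' : (yon S).obj V' ⟶ Z, h' ≫ i = (yon S).map pU ≫ a := by
  choose N xN hvN hxN using exists_local_factor hX hZ hN i x z hz a ha pU hpts
  let Zc : ↥V'.left → Over S := fun v => Over.mk ((N v).ι ≫ V'.hom)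
  let g : ∀ v, Zc v ⟶ V' := fun v => Over.homMk (N v).ι rfl
  have hsurj : ∀ y : ↥V'.left, ∃ v, y ∈ Set.range (g v).left := by
    intro y
    refine ⟨y, ?_⟩
    change y ∈ Set.range (N y).ι
    rw [Scheme.Opens.range_ι]
    exact hvN y
  have hflat : ∀ v, Flat (g v).left := fun v => inferInstanceAs (Flat (N v).ι)
  have hlfp : ∀ v, LocallyOfFinitePresentation (g v).left :=
    fun v => inferInstanceAs (LocallyOfFinitePresentation (N v).ι)
  obtain ⟨l₀, hl₀⟩ := AlgSpFormal.exists_glue_of_cover Zc g hsurj hflat hlfp xN (by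
    intro v w W gv gw hgw
    rw [← cancel_mono i, Category.assoc, Category.assoc, hxN v, hxN w, ← Category.assoc,
      ← Category.assoc, ← Functor.map_comp, ← Functor.map_comp, ← Category.assoc,
      ← Category.assoc, hgw])
  refine ⟨l₀, ?_⟩
  apply AlgSpFormal.hom_ext_of_cover Zc g hsurj hflat hlfp
  intro v
  rw [← Category.assoc, hl₀ v, hxN v, Functor.map_comp, Category.assoc]

theorem main {S : Scheme.{u}} {Y X Z : AlgSp.Space S} (f : Y ⟶ X)
    (x : AlgSp.Points X.obj) (hf : ∀ y : AlgSp.Points Y.obj, AlgSp.Points.map f.hom y = x) (hY : AlgSp.EtaleLocally (fun U => IsReduced U) Y.obj)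
    (hX : AlgSp.IsLocNoethSp X.obj) (i : Z ⟶ X) [Mono i.hom] (hi : Set.range (AlgSp.Points.map i.hom) = {x})
    (hZ : ∃ (k : Type u) (_ : Field k) (str : Spec (CommRingCat.of k) ⟶ S) (p : (AlgSp.yon S).obj (Over.mk str) ⟶ Z.obj),
        AlgSp.LocP @LocallyOfFinitePresentation p ∧ AlgSp.LocP @Flat p ∧ AlgSp.IsSurjectiveMor p) :
    ∃ g : Y ⟶ Z, g ≫ i = f := by
  obtain ⟨z, hz⟩ : ∃ z, Points.map i.hom z = x := by
    have : x ∈ Set.range (AlgSp.Points.map i.hom) := by rw [hi]; rfl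
    exact this
  obtain ⟨V, b, hbe, hbs⟩ := Y.property.atlas
  haveI : IsReduced V.left := isReduced_chart hY b hbe
  have hbl : Sheaf.IsLocallySurjective b :=
    Groth.Agent.S9885.result S _ _ b
      (repWith_mono (fun _ _ g (hg : Etale g) => (inferInstance : Flat g)) hbe)
      (repWith_mono (fun _ _ g (hg : Etale g) =>
        (inferInstance : LocallyOfFinitePresentation g)) hbe) hbs
  obtain ⟨U, a, hae, has⟩ := X.property.atlas
  have hrep : Representable (b ≫ f.hom) := X.property.representable_from_yon _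
  obtain ⟨V', pV, pU, sq⟩ := exists_pullback_charts (b ≫ f.hom) hrep a
  haveI hpVe : Etale pV.left := hae.2 _ ((yon S).map pU) pV sq.flip
  haveI hpVs : Surjective pV.left := has.2 _ ((yon S).map pU) pV sq.flip
  haveI : IsReduced V'.left := isReduced_of_etale_scheme pV.left
  have hpts : ∀ v : ↥V'.left, Points.ofPt a (pU.left v) = x := by
    intro v
    rw [← ofPt_comm_of_isPullback sq v]
    exact hf (Points.ofPt b (pV.left v))
  obtain ⟨h', hh'⟩ := exists_lift_chart_noeth X.property Z.property hX i.hom x z hz a hae pU hpts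
  have hpVl : Sheaf.IsLocallySurjective ((yon S).map pV) :=
    Groth.Agent.Lib.Helper3.QAffDesc.isLocallySurjective_yon_map_of_fppf pV
  obtain ⟨h, hh⟩ := Groth.Agent.S10373.W1.exists_desc_through_mono ((yon S).map pV) hpVl i.hom
    (b ≫ f.hom) h' (hh'.trans sq.w.symm)
  obtain ⟨gY, hgY⟩ := Groth.Agent.S10373.W1.exists_desc_through_mono b hbl i.hom f.hom h hh
  refine ⟨ObjectProperty.homMk gY, ?_⟩
  ext : 1
  exact hgY

end W1
end H


/-- Let S be a scheme, Y and X algebraic spaces over S with Y reduced and X locally Noetherian, and f :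
Y ⟶ X a morphism with |f|(|Y|) ⊆ {x}. Then f factors through Z_x ⟶ X, where Z_x denotes the residual
space of X at the point x. -/
theorem result {S : Scheme.{u}} {Y X Z : AlgSp.Space S} (f : Y ⟶ X)
    (x : AlgSp.Points X.obj) (hf : ∀ y : AlgSp.Points Y.obj, AlgSp.Points.map f.hom y = x) (hY : AlgSp.EtaleLocally (fun U => IsReduced U) Y.obj)
    (hX : AlgSp.IsLocNoethSp X.obj) (i : Z ⟶ X) [Mono i.hom] (hi : Set.range (AlgSp.Points.map i.hom) = {x})
    (hZ : ∃ (k : Type u) (_ : Field k) (str : Spec (CommRingCat.of k) ⟶ S) (p : (AlgSp.yon S).obj (Over.mk str) ⟶ Z.obj),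
        AlgSp.LocP @LocallyOfFinitePresentation p ∧ AlgSp.LocP @Flat p ∧ AlgSp.IsSurjectiveMor p) :
    ∃ g : Y ⟶ Z, g ≫ i = f := by
  exact W1.main f x hf hY hX i hi hZ

end Groth.Agent.S10415
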