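import Groth.Statements.S10416
import Groth.Agent.S10415
import Groth.Agent.S2285
import Groth.Agent.Lib.Helper15.UnivQuot
import Groth.Agent.Lib.Helper3.AlgSpFlatFieldPt
-- import your own Groth.Agent.* helpers here

set_option autoImplicit false
universe u
open CategoryTheory CategoryTheory.Limits AlgebraicGeometry Topology TopologicalSpace
open AlgSp

namespace Groth.Agent.S10416

section H
namespace W1

open Groth.Agent.Lib.Helper3 Groth.Agent.Lib.Helper15 Groth.Agent.Lib.Helper15.FieldQuot
  Groth.Agent.Lib.Helper15.OnePointSp Groth.Agent.Lib.Helper15.LiftDiscrete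
  Groth.Agent.Lib.Helper15.UnivQuot Groth.Agent.Lib.Helper3.QAffDesc MorphismProperty

variable {S : Scheme.{u}}

/-- a morphism whose base change to an etale atlas of the target is a closed immersion of schemes
is representable by closed immersions. -/
theorem repWith_closedImmersion_of_atlas {Z Z' : Sp S} {V V' : Over S} (v : (yon S).obj V ⟶ Z)
    (π' : (yon S).obj V' ⟶ Z') (i : Z ⟶ Z') (iV : V ⟶ V')
    (hπe : RepWith @Etale π') (hπs : RepWith @Surjective π')
    (sq : IsPullback ((yon S).map iV) v π' i) (hiV : IsClosedImmersion iV.left) :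
    RepWith @IsClosedImmersion i := by
  refine repWith_of_forall @IsClosedImmersion i fun T k => ?_
  let T' : Over S := hπe.rep.pullback k
  let q : T' ⟶ T := hπe.rep.snd k
  let k' : (yon S).obj T' ⟶ (yon S).obj V' := hπe.rep.fst k
  have sqT : IsPullback k' ((yon S).map q) π' k := hπe.rep.isPullback k
  have hqe : Etale q.left := hπe.2 _ _ _ sqT
  have hqs : Surjective q.left := hπs.2 _ _ _ sqT
  obtain ⟨k'₀, hk'₀⟩ := (yon S).map_surjective k'
  have sqE' : IsPullback (pullback.fst iV k'₀) (pullback.snd iV k'₀) iV k'₀ :=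
    IsPullback.of_hasPullback _ _
  have big : IsPullback ((yon S).map (pullback.fst iV k'₀) ≫ v)
      ((yon S).map (pullback.snd iV k'₀)) i ((yon S).map q ≫ k) := by
    have := (sqE'.map (yon S)).paste_horiz sq.flip
    rw [hk'₀, sqT.w] at this
    exact this
  have sqE := IsPullback.of_hasPullback i k
  have hwE : ((yon S).map (pullback.fst iV k'₀) ≫ v) ≫ i =
      ((yon S).map (pullback.snd iV k'₀) ≫ (yon S).map q) ≫ k := by
    rw [Category.assoc ((yon S).map (pullback.snd iV k'₀)) ((yon S).map q)]
    exact big.w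
  obtain ⟨fst', hf1, hf2⟩ : ∃ fst' : (yon S).obj (pullback iV k'₀) ⟶ pullback i k,
      fst' ≫ pullback.fst i k = (yon S).map (pullback.fst iV k'₀) ≫ v ∧
      fst' ≫ pullback.snd i k = (yon S).map (pullback.snd iV k'₀) ≫ (yon S).map q :=
    ⟨sqE.lift _ _ hwE, sqE.lift_fst _ _ hwE, sqE.lift_snd _ _ hwE⟩
  have big' : IsPullback (fst' ≫ pullback.fst i k) ((yon S).map (pullback.snd iV k'₀)) i
      ((yon S).map q ≫ k) := by
    rw [hf1]; exact big
  have left := IsPullback.of_right big' hf2 sqE
  have hwci : IsClosedImmersion (pullback.snd iV k'₀).left :=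
    MorphismProperty.of_isPullback (P := @IsClosedImmersion) (sqE'.map (Over.forget S)) hiV
  have hfl : Flat q.left := inferInstance
  have hfp : LocallyOfFinitePresentation q.left := inferInstance
  have hrep : Representable (pullback.snd i k) :=
    representable_of_cover Plqf (fun g hY hg => isQuasiAffine_of_lqf g hY hg) q
      (pullback.snd iV k'₀) (plqf_of_mono _) _ fst' left
  obtain ⟨G, ι, fst'', sqG⟩ := hrep (𝟙 _)
  have hiso : IsIso fst'' := sqG.isIso_fst_of_isIso
  have sqGk : IsPullback (fst'' ≫ pullback.fst i k) ((yon S).map ι) i k := by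
    refine IsPullback.of_iso sqE (asIso fst'').symm (Iso.refl _) (Iso.refl _) (Iso.refl _)
      ?_ ?_ ?_ ?_
    · simp
    · simp only [Iso.refl_hom, Category.comp_id, Iso.symm_hom, asIso_inv]
      rw [IsIso.eq_inv_comp, sqG.w, Category.comp_id]
    · simp
    · simp
  refine ⟨G, fst'' ≫ pullback.fst i k, ι, sqGk, ?_⟩
  -- descend the property along `q`
  have sqP : IsPullback (pullback.fst ι q) (pullback.snd ι q) ι q := IsPullback.of_hasPullback _ _
  have sqGq : IsPullback ((yon S).map (pullback.fst ι q) ≫ fst'') ((yon S).map (pullback.snd ι q))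
      (pullback.snd i k) ((yon S).map q) := by
    have := (sqP.map (yon S)).paste_horiz sqG
    rw [Category.comp_id] at this
    exact this
  have hP2 : IsClosedImmersion (pullback.snd ι q).left :=
    prop_of_isPullback_of_isPullback @IsClosedImmersion left sqGq hwci
  have sqL : IsPullback (pullback.snd ι q).left (pullback.fst ι q).left q.left ι.left :=
    (sqP.map (Over.forget S)).flip
  have hQ : (@Surjective ⊓ @Flat ⊓ @LocallyOfFinitePresentation : MorphismProperty Scheme.{u})
      q.left := ⟨⟨hqs, hfl⟩, hfp⟩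
  exact MorphismProperty.of_isPullback_of_descendsAlong (P := @IsClosedImmersion)
      (Q := @Surjective ⊓ @Flat ⊓ @LocallyOfFinitePresentation) sqL hQ hP2

/-- (⟸): the image of a representable closed immersion is closed. -/
theorem isClosed_of_closedImmersion {X Z : Sp S} (x : Points X) (i : Z ⟶ X)
    (hi : Set.range (Points.map i) = {x}) (hci : RepWith @IsClosedImmersion i) :
    IsClosed ({x} : Set (Points X)) := by
  rw [← isOpen_compl_iff, Points.isOpen_iff]
  intro T g
  have sq := hci.rep.isPullback g
  haveI hsnd : IsClosedImmersion (hci.rep.snd g).left := hci.property _ _ _ sq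
  have hpre : Points.ofPt g ⁻¹' ({x} : Set (Points X))ᶜ = (Set.range (hci.rep.snd g).left)ᶜ := by
    ext t
    simp only [Set.mem_preimage, Set.mem_compl_iff, Set.mem_singleton_iff, Set.mem_range,
      not_iff_not]
    constructor
    · intro ht
      obtain ⟨z, hz⟩ : ∃ z, Points.map i z = x := by
        have : x ∈ Set.range (Points.map i) := by rw [hi]; rfl
        exact this
      obtain ⟨w', -, hw'⟩ := Points.exists_of_isPullback sq z (Points.ofScheme T t)
        (by rw [hz, ← Points.ofPt_eq_map_ofScheme, ht])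
      obtain ⟨w, rfl⟩ := (Points.schemeHomeo (hci.rep.pullback g)).surjective w'
      refine ⟨w, ?_⟩
      have h1 := Points.map_yon_map_apply (hci.rep.snd g) w
      rw [hw'] at h1
      exact ((Points.schemeHomeo T).injective h1).symm
    · rintro ⟨w, rfl⟩
      rw [← AlgSpFT.ofPt_yon_map_comp, ← sq.w]
      have : Points.ofPt (hci.rep.fst g ≫ i) w ∈ Set.range (Points.map i) :=
        ⟨Points.ofPt (hci.rep.fst g) w, rfl⟩
      rw [hi] at this
      exact this
  rw [hpre]
  exact (hci.rep.snd g).left.isClosedEmbedding.isClosed_range.isOpen_compl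

/-- (⟹): the residual space at a closed point of a locally Noetherian space is closed. -/
theorem closedImmersion_of_isClosed {X Z : Sp S} (hX : IsAlgSpace X) (hZ : IsAlgSpace Z)
    (hN : IsLocNoethSp X) (x : Points X) (i : Z ⟶ X) [Mono i]
    (hi : Set.range (Points.map i) = {x}) (hZr : EtaleLocally (fun U => IsReduced U) Z)
    (hx : IsClosed ({x} : Set (Points X))) : RepWith @IsClosedImmersion i := by
  obtain ⟨z, hz⟩ : ∃ z, Points.map i z = x := by
    have : x ∈ Set.range (Points.map i) := by rw [hi]; rfl
    exact this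
  obtain ⟨U, a, hae, has⟩ := hX.atlas
  -- the closed fibre with its reduced structure
  have hFcl : IsClosed (Points.ofPt a ⁻¹' ({x} : Set (Points X))) :=
    hx.preimage (Points.continuous_ofPt a)
  let C : TopologicalSpace.Closeds ↥U.left := ⟨Points.ofPt a ⁻¹' {x}, hFcl⟩
  let I := Scheme.IdealSheafData.vanishingIdeal C
  haveI hTred : IsReduced I.subscheme :=
    Groth.Agent.S2285.W18.isReduced_subscheme_vanishingIdeal C
  have hrange : Set.range I.subschemeι = Points.ofPt a ⁻¹' {x} :=
    I.range_subschemeι.trans (Scheme.IdealSheafData.coe_support_vanishingIdeal C)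
  let T' : Over S := Over.mk (I.subschemeι ≫ U.hom)
  let ι' : T' ⟶ U := Over.homMk I.subschemeι rfl
  haveI : IsReduced T'.left := hTred
  haveI : IsClosedImmersion ι'.left := inferInstanceAs (IsClosedImmersion I.subschemeι)
  haveI : Mono ι'.left := inferInstance
  haveI : Mono ι' := Over.mono_of_mono_left ι'
  haveI : Mono ((yon S).map ι') := inferInstance
  have hpts : ∀ t : ↥T'.left, Points.ofPt a (ι'.left t) = x := by
    intro t
    have : ι'.left t ∈ Set.range I.subschemeι := ⟨t, rfl⟩
    rw [hrange] at this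
    exact this
  obtain ⟨σ, hσ⟩ := Groth.Agent.S10415.W1.exists_lift_chart_noeth hX hZ hN i x z hz a hae ι' hpts
  -- the fibre product
  have sqP := IsPullback.of_hasPullback i a
  have hP : IsAlgSpace (pullback i a) := isAlgSpace_of_isPullback' hX hZ (IsAlgSpace.yon_obj _) sqP
  have hπ₁ : RepWith @Etale (pullback.fst i a) :=
    MorphismProperty.of_isPullback (P := RepWith @Etale) sqP.flip hae
  haveI : Mono (pullback.snd i a) := inferInstance
  obtain ⟨W, w, hwe, hws⟩ := hP.atlas
  haveI : IsReduced W.left :=
    isReduced_chart hZr (w ≫ pullback.fst i a) ((RepWith @Etale).comp_mem _ _ hwe hπ₁)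
  obtain ⟨m, hm⟩ := (yon S).map_surjective (w ≫ pullback.snd i a)
  have hmpts : ∀ p : ↥W.left, m.left p ∈ (C : Set ↥U.left) := by
    intro p
    change Points.ofPt a (m.left p) = x
    rw [← AlgSpFT.ofPt_yon_map_comp, hm, Category.assoc, ← pullback.condition, ← Category.assoc]
    have : Points.ofPt ((w ≫ pullback.fst i a) ≫ i) p ∈ Set.range (Points.map i) :=
      ⟨Points.ofPt (w ≫ pullback.fst i a) p, rfl⟩
    rw [hi] at this
    exact this
  -- lift through the closed subscheme
  have hker : I.subschemeι.ker ≤ m.left.ker := by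
    rw [Scheme.IdealSheafData.ker_subschemeι, Groth.Agent.S2285.W18.ker_of_isReduced]
    apply Scheme.IdealSheafData.vanishingIdeal_antimono
    change closure (Set.range m.left) ⊆ (C : Set ↥U.left)
    exact closure_minimal (by rintro _ ⟨p, rfl⟩; exact hmpts p) hFcl
  let l : W.left ⟶ I.subscheme := IsClosedImmersion.lift I.subschemeι m.left hker
  have hl : l ≫ I.subschemeι = m.left := IsClosedImmersion.lift_fac _ _ _
  have hlw : l ≫ T'.hom = W.hom := by
    change l ≫ I.subschemeι ≫ U.hom = W.hom
    rw [← Category.assoc, hl, Over.w m]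
  let l' : W ⟶ T' := Over.homMk l hlw
  have hl' : l' ≫ ι' = m := by ext; exact hl
  have hwl : Sheaf.IsLocallySurjective w :=
    Groth.Agent.S9885.result S _ _ w
      (repWith_mono (fun _ _ g (hg : Etale g) => (inferInstance : Flat g)) hwe)
      (repWith_mono (fun _ _ g (hg : Etale g) =>
        (inferInstance : LocallyOfFinitePresentation g)) hwe) hws
  obtain ⟨d, hd⟩ := Groth.Agent.S10373.W1.exists_desc_through_mono w hwl ((yon S).map ι')
    (pullback.snd i a) ((yon S).map l') (by rw [← Functor.map_comp, hl', hm])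
  -- the chart-level pullback square
  have sq : IsPullback ((yon S).map ι') σ a i := by
    refine isPullback_of_points _ _ _ _ hσ.symm ?_ ?_
    · intro T₁ y₁ y₂ h1 _
      exact (cancel_mono ((yon S).map ι')).1 h1
    · intro T₁ x₂ x₃ h
      refine ⟨pullback.lift x₃ x₂ h.symm ≫ d, ?_, ?_⟩
      · rw [Category.assoc, hd, pullback.lift_snd]
      · rw [← cancel_mono i, Category.assoc, Category.assoc, hσ, ← Category.assoc d, hd,
          ← pullback.condition, pullback.lift_fst_assoc]
  exact repWith_closedImmersion_of_atlas σ a i ι' hae has sq inferInstance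

theorem main {S : Scheme.{u}} {X Z : AlgSp.Space S}
    (hX : AlgSp.IsLocNoethSp X.obj) (x : AlgSp.Points X.obj) (i : Z ⟶ X) [Mono i.hom]
    (hi : Set.range (AlgSp.Points.map i.hom) = {x}) (hZ : ∃ (k : Type u) (_ : Field k) (str : Spec (CommRingCat.of k) ⟶ S) (p : (AlgSp.yon S).obj (Over.mk str) ⟶ Z.obj),
        AlgSp.LocP @LocallyOfFinitePresentation p ∧ AlgSp.LocP @Flat p ∧ AlgSp.IsSurjectiveMor p) :
    IsClosed ({x} : Set (AlgSp.Points X.obj)) ↔ AlgSp.RepWith @IsClosedImmersion i.hom := by
  obtain ⟨k, hk, str, p, -, hpf, hps⟩ := hZ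
  obtain ⟨hZr, -, -⟩ := reduced_singleton_of_flat_surjective_fieldPt Z.property k str p hpf hps
  exact ⟨closedImmersion_of_isClosed X.property Z.property hX x i.hom hi hZr,
    isClosed_of_closedImmersion x i.hom hi⟩

end W1
end H


/-- Let S be a scheme, X a locally Noetherian algebraic space over S, x ∈ |X|, and i : Z_x ⟶ X the
residual space at x. Then x is closed in |X| if and only if i is a closed immersion. -/
theorem result {S : Scheme.{u}} {X Z : AlgSp.Space S}
    (hX : AlgSp.IsLocNoethSp X.obj) (x : AlgSp.Points X.obj) (i : Z ⟶ X) [Mono i.hom]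
    (hi : Set.range (AlgSp.Points.map i.hom) = {x}) (hZ : ∃ (k : Type u) (_ : Field k) (str : Spec (CommRingCat.of k) ⟶ S) (p : (AlgSp.yon S).obj (Over.mk str) ⟶ Z.obj),
        AlgSp.LocP @LocallyOfFinitePresentation p ∧ AlgSp.LocP @Flat p ∧ AlgSp.IsSurjectiveMor p) :
    IsClosed ({x} : Set (AlgSp.Points X.obj)) ↔ AlgSp.RepWith @IsClosedImmersion i.hom := by
  exact W1.main hX x i hi hZ

end Groth.Agent.S10416
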