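import Groth.Statements.S10359
import Groth.Agent.S10416
-- import your own Groth.Agent.* helpers here

set_option autoImplicit false
universe u
open CategoryTheory CategoryTheory.Limits AlgebraicGeometry Topology TopologicalSpace
open AlgSp

namespace Groth.Agent.S10359

section H
namespace W1

open Groth.Agent.Lib.Helper3 Groth.Agent.Lib.Helper15 Groth.Agent.Lib.Helper15.FieldQuot
  Groth.Agent.Lib.Helper15.OnePointSp Groth.Agent.Lib.Helper15.LiftDiscrete
  Groth.Agent.Lib.Helper15.UnivQuot Groth.Agent.Lib.Helper3.QAffDesc MorphismProperty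
  Groth.Agent.S10416.W1

variable {S : Scheme.{u}}

/-- a monomorphism with closed one-point image through which reduced schemes over the fibre lift is
a closed immersion. -/
theorem closedImmersion_of_isClosed_of_lift {X Z : Sp S} (hX : IsAlgSpace X) (hZ : IsAlgSpace Z)
    (x : Points X) (i : Z ⟶ X) [Mono i]
    (hi : Set.range (Points.map i) = {x}) (hZr : EtaleLocally (fun U => IsReduced U) Z)
    (hx : IsClosed ({x} : Set (Points X))) {U : Over S} (a : (yon S).obj U ⟶ X)
    (hae : RepWith @Etale a) (has : RepWith @Surjective a)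
    (hlift : ∀ (V' : Over S) (_ : IsReduced V'.left) (pU : V' ⟶ U),
      (∀ v : ↥V'.left, Points.ofPt a (pU.left v) = x) →
      ∃ h' : (yon S).obj V' ⟶ Z, h' ≫ i = (yon S).map pU ≫ a) :
    RepWith @IsClosedImmersion i := by
  -- the closed fibre with its reduced structure
  have hFcl : IsClosed (Points.ofPt a ⁻¹' ({x} : Set (Points X))) :=
    hx.preimage (Points.continuous_ofPt a)
  let C : TopologicalSpace.Closeds ↥U.left := ⟨Points.ofPt a ⁻¹' {x}, hFcl⟩
  let I := Scheme.IdealSheafData.vanishingIdeal C
  haveI hTred : IsReduced I.subscheme :=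
    Groth.Agent.S2285.W18.isReduced_subscheme_vanishingIdeal C
  have hrange : Set.range I.subschemeι = Points.ofPt a ⁻¹' {x} :=
    I.range_subschemeι.trans (Scheme.IdealSheafData.coe_support_vanishingIdeal C)
  let T' : Over S := Over.mk (I.subschemeι ≫ U.hom)
  let ι' : T' ⟶ U := Over.homMk I.subschemeι rfl
  haveI : IsReduced T'.left := hTred
  haveI : IsClosedImmersion ι'.left := inferInstanceAs (IsClosedImmersion I.subschemeι)
  haveI : Mono ι'.left := inferInstance
  haveI : Mono ι' := Over.mono_of_mono_left ι'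
  haveI : Mono ((yon S).map ι') := inferInstance
  have hpts : ∀ t : ↥T'.left, Points.ofPt a (ι'.left t) = x := by
    intro t
    have : ι'.left t ∈ Set.range I.subschemeι := ⟨t, rfl⟩
    rw [hrange] at this
    exact this
  obtain ⟨σ, hσ⟩ := hlift T' hTred ι' hpts
  -- the fibre product
  have sqP := IsPullback.of_hasPullback i a
  have hP : IsAlgSpace (pullback i a) := isAlgSpace_of_isPullback' hX hZ (IsAlgSpace.yon_obj _) sqP
  have hπ₁ : RepWith @Etale (pullback.fst i a) :=
    MorphismProperty.of_isPullback (P := RepWith @Etale) sqP.flip hae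
  haveI : Mono (pullback.snd i a) := inferInstance
  obtain ⟨W, w, hwe, hws⟩ := hP.atlas
  haveI : IsReduced W.left :=
    isReduced_chart hZr (w ≫ pullback.fst i a) ((RepWith @Etale).comp_mem _ _ hwe hπ₁)
  obtain ⟨m, hm⟩ := (yon S).map_surjective (w ≫ pullback.snd i a)
  have hmpts : ∀ p : ↥W.left, m.left p ∈ (C : Set ↥U.left) := by
    intro p
    change Points.ofPt a (m.left p) = x
    rw [← AlgSpFT.ofPt_yon_map_comp, hm, Category.assoc, ← pullback.condition, ← Category.assoc]
    have : Points.ofPt ((w ≫ pullback.fst i a) ≫ i) p ∈ Set.range (Points.map i) :=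
      ⟨Points.ofPt (w ≫ pullback.fst i a) p, rfl⟩
    rw [hi] at this
    exact this
  -- lift through the closed subscheme
  have hker : I.subschemeι.ker ≤ m.left.ker := by
    rw [Scheme.IdealSheafData.ker_subschemeι, Groth.Agent.S2285.W18.ker_of_isReduced]
    apply Scheme.IdealSheafData.vanishingIdeal_antimono
    change closure (Set.range m.left) ⊆ (C : Set ↥U.left)
    exact closure_minimal (by rintro _ ⟨p, rfl⟩; exact hmpts p) hFcl
  let l : W.left ⟶ I.subscheme := IsClosedImmersion.lift I.subschemeι m.left hker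
  have hl : l ≫ I.subschemeι = m.left := IsClosedImmersion.lift_fac _ _ _
  have hlw : l ≫ T'.hom = W.hom := by
    change l ≫ I.subschemeι ≫ U.hom = W.hom
    rw [← Category.assoc, hl, Over.w m]
  let l' : W ⟶ T' := Over.homMk l hlw
  have hl' : l' ≫ ι' = m := by ext; exact hl
  have hwl : Sheaf.IsLocallySurjective w :=
    Groth.Agent.S9885.result S _ _ w
      (repWith_mono (fun _ _ g (hg : Etale g) => (inferInstance : Flat g)) hwe)
      (repWith_mono (fun _ _ g (hg : Etale g) =>
        (inferInstance : LocallyOfFinitePresentation g)) hwe) hws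
  obtain ⟨d, hd⟩ := Groth.Agent.S10373.W1.exists_desc_through_mono w hwl ((yon S).map ι')
    (pullback.snd i a) ((yon S).map l') (by rw [← Functor.map_comp, hl', hm])
  -- the chart-level pullback square
  have sq : IsPullback ((yon S).map ι') σ a i := by
    refine isPullback_of_points _ _ _ _ hσ.symm ?_ ?_
    · intro T₁ y₁ y₂ h1 _
      exact (cancel_mono ((yon S).map ι')).1 h1
    · intro T₁ x₂ x₃ h
      refine ⟨pullback.lift x₃ x₂ h.symm ≫ d, ?_, ?_⟩
      · rw [Category.assoc, hd, pullback.lift_snd]
      · rw [← cancel_mono i, Category.assoc, Category.assoc, hσ, ← Category.assoc d, hd,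
          ← pullback.condition, pullback.lift_fst_assoc]
  exact repWith_closedImmersion_of_atlas σ a i ι' hae has sq inferInstance

theorem main {S : Scheme.{u}} (X : AlgSp.Space S)
    (hX : AlgSp.IsDecent X.obj) (x : AlgSp.Points X.obj) (hx : IsClosed ({x} : Set (AlgSp.Points X.obj))) :
    ∃ p : AlgSp.FieldPt X.obj, AlgSp.Points.mk p = x ∧ AlgSp.RepWith @IsClosedImmersion p.toHom := by
  obtain ⟨p, hp, hm, hq⟩ := hX x
  refine ⟨p, hp, ?_⟩
  subst hp
  obtain ⟨U, a, hae, has⟩ := X.property.atlas
  haveI := hm
  have hi : Set.range (Points.map p.toHom) = {Points.mk p} := by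
    ext y
    simp only [Set.mem_range, Set.mem_singleton_iff]
    constructor
    · rintro ⟨w, rfl⟩
      obtain ⟨t, rfl⟩ := (Points.schemeHomeo p.pt).surjective w
      exact (Points.ofPt_eq_map_ofScheme p.toHom t).symm.trans (Points.ofPt_toHom p t)
    · rintro rfl
      exact ⟨Points.ofScheme p.pt (IsLocalRing.closedPoint p.K),
        (Points.ofPt_eq_map_ofScheme p.toHom _).symm.trans (Points.ofPt_toHom p _)⟩
  have hZr : EtaleLocally (fun U => IsReduced U) ((yon S).obj p.pt) :=
    ⟨p.pt, 𝟙 _, repWith_id _ _, repWith_id _ _,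
      (inferInstance : IsReduced (Spec (CommRingCat.of p.K)))⟩
  exact closedImmersion_of_isClosed_of_lift X.property (IsAlgSpace.yon_obj _) (Points.mk p)
    p.toHom hi hZr hx a hae has
    (fun V' hV' pU hpts => by
      haveI := hV'
      exact Groth.Agent.S10373.W1.exists_lift_chart p hm hq a hae pU hpts)

end W1
end H


/-- On a decent algebraic space X over a scheme S every closed point x of |X| is represented by a closed
immersion Spec k ⟶ X, where k is a field. -/
theorem result {S : Scheme.{u}} (X : AlgSp.Space S)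
    (hX : AlgSp.IsDecent X.obj) (x : AlgSp.Points X.obj) (hx : IsClosed ({x} : Set (AlgSp.Points X.obj))) :
    ∃ p : AlgSp.FieldPt X.obj, AlgSp.Points.mk p = x ∧ AlgSp.RepWith @IsClosedImmersion p.toHom := by
  exact W1.main X hX x hx

end Groth.Agent.S10359
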