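import Groth.Statements.S6942
import Groth.Agent.Lib.Helper16.PCNoeth
-- import your own Groth.Agent.* helpers here

set_option autoImplicit false
universe u
open CategoryTheory CategoryTheory.Limits
attribute [local instance] HasDerivedCategory.standard
open DRing

namespace Groth.Agent.S6942

open CategoryTheory.Limits DerivedCategory Groth.Agent.Lib.Helper16.PC

/-- Let R be a Noetherian commutative ring and m an integer. An object K of D(R) is m-pseudo-coherent
exactly when H^i(K) = 0 for all large i and H^i(K) is a finitely generated R-module for each i ≥ m.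
Every finitely generated R-module M is pseudo-coherent, and conversely. -/
theorem result (R : Type u) [CommRing R]
    [IsNoetherianRing R] (m : ℤ) (K : Dual.D R) (M : Type u) [AddCommGroup M] [Module R M] :
    (DRing.IsPseudoCoherent R m K ↔
      (∃ b : ℤ, ∀ i : ℤ, b < i → Subsingleton (Dual.HD R K i)) ∧ ∀ i : ℤ, m ≤ i → Module.Finite R (Dual.HD R K i)) ∧
      (DRing.IsPseudoCoherentModule' R M ↔ Module.Finite R M) := by
  have part1 : ∀ (m : ℤ) (K : Dual.D R), DRing.IsPseudoCoherent R m K ↔
      (∃ b : ℤ, ∀ i : ℤ, b < i → Subsingleton (Dual.HD R K i)) ∧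
        ∀ i : ℤ, m ≤ i → Module.Finite R (Dual.HD R K i) := by
    intro m K
    constructor
    · intro hK
      refine ⟨?_, fun i hi => finite_homology_of_pc K m hK i hi⟩
      obtain ⟨b, hb⟩ := ((isPseudoCoherent_iff _ _).1 hK).exists_isLE
      refine ⟨b, fun i hi => ?_⟩
      exact ModuleCat.subsingleton_of_isZero ((isLE_iff K b).1 hb i hi)
    · rintro ⟨⟨b, hb⟩, hfin⟩
      have hK : K.IsLE b := by
        rw [isLE_iff]
        intro i hi
        have := hb i hi
        exact ModuleCat.isZero_of_subsingleton _
      refine pc_of_homology_modules m K b hK (fun i => ?_)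
      by_cases hi : m ≤ i
      · exact pc_single_of_finite _ (hfin i hi) _
      · exact pc_of_isLE _ (m - i) 0 inferInstance (by omega)
  refine ⟨part1 m K, ?_⟩
  constructor
  · intro h
    have h0 := ((part1 0 (Dual.inD R M)).1 (pc_of_pc' h 0)).2 0 le_rfl
    exact Module.Finite.equiv (homologySingleIso (ModuleCat.of R M)).toLinearEquiv
  · intro h
    exact pc'_of_pc (fun m' => pc_single_of_finite (ModuleCat.of R M) h m')

end Groth.Agent.S6942
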