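import Groth.Statements.S10633
import Groth.Agent.Lib.Helper15.UnivDescend
-- import your own Groth.Agent.* helpers here

set_option autoImplicit false
universe u
open CategoryTheory CategoryTheory.Limits AlgebraicGeometry
open AlgSp

namespace Groth.Agent.S10633

section H
namespace W1
open Groth.Agent.Lib.Helper15
set_option backward.isDefEq.respectTransparency.types false

theorem main {S : Scheme.{u}} {Z Y Z' Y' X : AlgSp.Space S} (e : Z ⟶ Y)
    (he : AlgSp.IsEtaleMor e.hom) (hes : AlgSp.IsSurjectiveMor e.hom) (hY : Y ⟶ X)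
    (iZ : Z ⟶ Z') (iY : Y ⟶ Y') (hiY : AlgSp.IsFOThickMor iY.hom)
    (f' : Z' ⟶ Y') (hf' : AlgSp.IsEtaleMor f'.hom) (w : iZ ≫ f' = e ≫ iY) (hY' : Y' ⟶ X) (w' : iY ≫ hY' = hY)
    (HU : AlgSp.IsUnivFOThick (e ≫ hY).hom iZ.hom (f' ≫ hY').hom) :
    AlgSp.IsUnivFOThick hY.hom iY.hom hY'.hom := by
  rw [Groth.Agent.S10630.result hY iY hY' hiY w']
  intro T T' j hT' hj a b hab
  have hf'e : IsFormallyEtaleMor f'.hom := ((Groth.Agent.S10627.result f').1 hf').2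
  have wh : iZ.hom ≫ f'.hom = e.hom ≫ iY.hom := congrArg (fun φ => φ.hom) w
  have wh' : iY.hom ≫ hY'.hom = hY.hom := congrArg (fun φ => φ.hom) w'
  have HU' : IsUnivFOThick (e.hom ≫ hY.hom) iZ.hom (f'.hom ≫ hY'.hom) := HU
  obtain ⟨a', h1, h2⟩ := UnivDescend.exists_affine Z.property Y.property e.hom he hes hY.hom
    iZ.hom iY.hom f'.hom hf'e wh hY'.hom wh' HU' j hT' hj a b hab
  refine ⟨a', ⟨h1, h2⟩, ?_⟩
  rintro a'' ⟨h1', h2'⟩
  exact UnivDescend.uniq_affine Z.property Y.property e.hom he hes hY.hom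
    iZ.hom iY.hom f'.hom hf'e wh hY'.hom wh' HU' j hT' hj a a'' a' h1' h1 (h2'.trans h2.symm)

end W1
end H


/-- Let e : Z ⟶ Y be a surjective etale morphism of algebraic spaces over S, hY : Y ⟶ X, and let (Z ⊂
Z') ⟶ (Y ⊂ Y') be an etale morphism of first order thickenings over X: iZ : Z ⟶ Z' and iY : Y ⟶ Y'
first order thickenings, f' : Z' ⟶ Y' etale with iZ ≫ f' = e ≫ iY, hY' : Y' ⟶ X with iY ≫ hY' = hY.
If (iZ, f' ≫ hY') is a universal first order thickening of Z over X, then (iY, hY') is a universal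
first order thickening of Y over X. -/
theorem result {S : Scheme.{u}} {Z Y Z' Y' X : AlgSp.Space S} (e : Z ⟶ Y)
    (he : AlgSp.IsEtaleMor e.hom) (hes : AlgSp.IsSurjectiveMor e.hom) (hY : Y ⟶ X)
    (iZ : Z ⟶ Z') (iY : Y ⟶ Y') (hiZ : AlgSp.IsFOThickMor iZ.hom) (hiY : AlgSp.IsFOThickMor iY.hom)
    (f' : Z' ⟶ Y') (hf' : AlgSp.IsEtaleMor f'.hom) (w : iZ ≫ f' = e ≫ iY) (hY' : Y' ⟶ X) (w' : iY ≫ hY' = hY)
    (HU : AlgSp.IsUnivFOThick (e ≫ hY).hom iZ.hom (f' ≫ hY').hom) :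
    AlgSp.IsUnivFOThick hY.hom iY.hom hY'.hom := by
  exact W1.main e he hes hY iZ iY hiY f' hf' w hY' w' HU

end Groth.Agent.S10633
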