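import Groth.Statements.S9426
import Mathlib

set_option autoImplicit false
universe u
open OmegaSh

namespace Groth.Agent.S9426

open Algebra KaehlerDifferential TensorProduct

/-- kernel of `m ↦ 1 ⊗ m` for a surjective `P → S`. -/
theorem ker_mk_one {P S M : Type*} [CommRing P] [CommRing S] [Algebra P S] [AddCommGroup M]
    [Module P M] (hs : Function.Surjective (algebraMap P S)) (m : M)
    (hm : (1 : S) ⊗ₜ[P] m = 0) : m ∈ (RingHom.ker (algebraMap P S) • ⊤ : Submodule P M) := by
  let I := RingHom.ker (algebraMap P S)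
  let e : (P ⧸ I) ≃ₐ[P] S := Ideal.quotientKerAlgEquivOfSurjective (f := Algebra.ofId P S) hs
  have h1 : ((1 : P ⧸ I) ⊗ₜ[P] m) = 0 := by
    have := congrArg (LinearMap.rTensor M e.symm.toLinearMap) hm
    simpa using this
  have h2 := congrArg (TensorProduct.quotTensorEquivQuotSMul M I) h1
  rw [map_zero, ← map_one (Ideal.Quotient.mk I), TensorProduct.quotTensorEquivQuotSMul_mk_tmul,
    one_smul, Submodule.Quotient.mk_eq_zero] at h2
  exact h2

section construction

variable (R S : Type u) [CommRing R] [CommRing S] [Algebra R S]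

/-- the standard extension by the polynomial ring on all elements of `S`. -/
noncomputable abbrev E : Algebra.Extension.{u} R S := (Algebra.Generators.self R S).toExtension

variable {R S}

/-- the ideal cutting out the universal thickening, from a section `σ`. -/
noncomputable def J' (σ : (E R S).CotangentSpace →ₗ[S] (E R S).Cotangent) : Ideal (E R S).Ring :=
  Submodule.map (E R S).ker.subtype
    (Submodule.comap (Algebra.Extension.Cotangent.mk (P := E R S))
      ((LinearMap.range σ).restrictScalars (E R S).Ring))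

theorem mem_J' (σ : (E R S).CotangentSpace →ₗ[S] (E R S).Cotangent) (p : (E R S).Ring) :
    p ∈ J' σ ↔ ∃ hp : p ∈ (E R S).ker,
      Algebra.Extension.Cotangent.mk (P := E R S) ⟨p, hp⟩ ∈ LinearMap.range σ := by
  constructor
  · rintro ⟨x, hx, rfl⟩
    exact ⟨x.2, hx⟩
  · rintro ⟨hp, h⟩
    exact ⟨⟨p, hp⟩, h, rfl⟩

theorem J'_le (σ : (E R S).CotangentSpace →ₗ[S] (E R S).Cotangent) : J' σ ≤ (E R S).ker := by
  intro p hp
  exact ((mem_J' σ p).1 hp).1

theorem sq_le_J' (σ : (E R S).CotangentSpace →ₗ[S] (E R S).Cotangent) :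
    (E R S).ker ^ 2 ≤ J' σ := by
  intro p hp
  have hp1 : p ∈ (E R S).ker := Ideal.pow_le_self two_ne_zero hp
  refine (mem_J' σ p).2 ⟨hp1, ?_⟩
  have : Algebra.Extension.Cotangent.mk (P := E R S) ⟨p, hp1⟩ = 0 :=
    (Algebra.Extension.Cotangent.mk_eq_zero_iff _).2 hp
  rw [this]
  exact Submodule.zero_mem _

theorem exists_section [Algebra.FormallyUnramified R S] :
    ∃ σ : (E R S).CotangentSpace →ₗ[S] (E R S).Cotangent,
      (E R S).cotangentComplex ∘ₗ σ = LinearMap.id := by
  have hsurj : Function.Surjective (E R S).cotangentComplex := by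
    intro x
    exact ((E R S).exact_cotangentComplex_toKaehler x).1 (Subsingleton.elim _ _)
  exact Module.projective_lifting_property _ LinearMap.id hsurj

variable (σ : (E R S).CotangentSpace →ₗ[S] (E R S).Cotangent)
  (hσ : (E R S).cotangentComplex ∘ₗ σ = LinearMap.id)

include hσ in
theorem mk_eq_of_mem_J' (p : (E R S).Ring) (hp : p ∈ J' σ) :
    Algebra.Extension.Cotangent.mk (P := E R S) ⟨p, J'_le σ hp⟩ =
      σ ((1 : S) ⊗ₜ[(E R S).Ring] KaehlerDifferential.D R (E R S).Ring p) := by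
  obtain ⟨hp1, w, hw⟩ := (mem_J' σ p).1 hp
  have h1 : (E R S).cotangentComplex (σ w) = w := LinearMap.congr_fun hσ w
  rw [hw, Algebra.Extension.cotangentComplex_mk] at h1
  rw [← hw, ← h1]

include hσ in
theorem exists_mem_J' (ω : Ω[(E R S).Ring⁄R]) :
    ∃ p ∈ J' σ, (1 : S) ⊗ₜ[(E R S).Ring] ω =
      (1 : S) ⊗ₜ[(E R S).Ring] KaehlerDifferential.D R (E R S).Ring p := by
  obtain ⟨x, hx⟩ := Algebra.Extension.Cotangent.mk_surjective (P := E R S) (σ ((1 : S) ⊗ₜ ω))
  refine ⟨x.1, (mem_J' σ x.1).2 ⟨x.2, ⟨_, hx.symm⟩⟩, ?_⟩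
  have h1 : (E R S).cotangentComplex (σ ((1 : S) ⊗ₜ ω)) = (1 : S) ⊗ₜ ω := LinearMap.congr_fun hσ _
  rw [← hx, Algebra.Extension.cotangentComplex_mk] at h1
  exact h1.symm

/-- the projection `P/J' → S`. -/
noncomputable def piMap : ((E R S).Ring ⧸ J' σ) →ₐ[R] S :=
  Ideal.Quotient.liftₐ (J' σ) (IsScalarTower.toAlgHom R (E R S).Ring S)
    (fun p hp => J'_le σ hp)

theorem piMap_mk (p : (E R S).Ring) :
    piMap σ (Ideal.Quotient.mk (J' σ) p) = algebraMap (E R S).Ring S p := rfl

theorem piMap_surjective : Function.Surjective (piMap σ) := by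
  intro s
  obtain ⟨p, rfl⟩ := (E R S).algebraMap_surjective s
  exact ⟨Ideal.Quotient.mk _ p, rfl⟩

theorem ker_piMap_sq : RingHom.ker (piMap σ).toRingHom ^ 2 = ⊥ := by
  rw [eq_bot_iff, sq, Ideal.mul_le]
  intro x hx y hy
  obtain ⟨p, rfl⟩ := Ideal.Quotient.mk_surjective x
  obtain ⟨q, rfl⟩ := Ideal.Quotient.mk_surjective y
  have hp : p ∈ (E R S).ker := hx
  have hq : q ∈ (E R S).ker := hy
  rw [Ideal.mem_bot, ← map_mul, Ideal.Quotient.eq_zero_iff_mem]
  apply sq_le_J' σ
  rw [sq]
  exact Ideal.mul_mem_mul hp hq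

include hσ in
theorem exists_lift (A : Type u) [CommRing A] [Algebra R A] (I : Ideal A) (hI : I ^ 2 = ⊥)
    (a : S →ₐ[R] A ⧸ I) :
    ∃ a' : ((E R S).Ring ⧸ J' σ) →ₐ[R] A,
      (Ideal.Quotient.mkₐ R I).comp a' = a.comp (piMap σ) := by
  classical
  let f₁ : MvPolynomial S R →ₐ[R] A :=
    MvPolynomial.aeval (fun s : S => (Ideal.Quotient.mk_surjective (a s)).choose)
  have key : (Ideal.Quotient.mkₐ R I).comp f₁ =
      a.comp (IsScalarTower.toAlgHom R (Algebra.Generators.self R S).Ring S) := by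
    refine MvPolynomial.algHom_ext fun s => ?_
    change Ideal.Quotient.mk I (f₁ (MvPolynomial.X s)) =
      a (algebraMap (Algebra.Generators.self R S).Ring S (MvPolynomial.X s))
    rw [Algebra.Generators.algebraMap_apply, MvPolynomial.aeval_X, MvPolynomial.aeval_X]
    exact (Ideal.Quotient.mk_surjective (a s)).choose_spec
  let f₀ : (E R S).Ring →ₐ[R] A := f₁
  have hf₀ : ∀ p, Ideal.Quotient.mk I (f₀ p) = a (algebraMap (E R S).Ring S p) := by
    intro p
    exact AlgHom.congr_fun key p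
  letI : Algebra (E R S).Ring A := f₀.toRingHom.toAlgebra
  haveI : IsScalarTower R (E R S).Ring A :=
    IsScalarTower.of_algebraMap_eq (fun r => (f₀.commutes r).symm)
  have halg : ∀ p : (E R S).Ring, algebraMap (E R S).Ring A p = f₀ p := fun _ => rfl
  have hker : ∀ p ∈ (E R S).ker, f₀ p ∈ I := by
    intro p hp
    rw [← Ideal.Quotient.eq_zero_iff_mem, hf₀]
    have : algebraMap (E R S).Ring S p = 0 := hp
    rw [this, map_zero]
  let g : (E R S).ker →ₗ[(E R S).Ring] I :=
    { toFun := fun p => ⟨f₀ p, hker p p.2⟩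
      map_add' := fun p q => by ext; simp
      map_smul' := fun r p => by
        ext
        simp [Algebra.smul_def, halg] }
  have hg : (E R S).ker • (⊤ : Submodule (E R S).Ring (E R S).ker) ≤ LinearMap.ker g := by
    rw [Submodule.smul_le]
    intro j hj x _
    rw [LinearMap.mem_ker]
    ext
    have h1 : f₀ j * f₀ x ∈ I ^ 2 := by
      rw [sq]; exact Ideal.mul_mem_mul (hker j hj) (hker x x.2)
    rw [hI, Ideal.mem_bot] at h1
    change f₀ (j * (x : (E R S).Ring)) = 0
    rw [map_mul]; exact h1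
  let gbar : (E R S).Cotangent →ₗ[(E R S).Ring] I :=
    (Submodule.liftQ _ g hg) ∘ₗ (E R S).cotangentEquivCotangentKer.toLinearMap
  have hgbar : ∀ x : (E R S).ker, gbar (Algebra.Extension.Cotangent.mk x) = g x := fun x => rfl
  let Dt : Ω[(E R S).Ring⁄R] →ₗ[(E R S).Ring] I :=
    -(gbar ∘ₗ (σ.restrictScalars (E R S).Ring) ∘ₗ
      (TensorProduct.mk (E R S).Ring S (Ω[(E R S).Ring⁄R]) 1))
  let Dd : Derivation R (E R S).Ring I := Dt.compDer (KaehlerDifferential.D R (E R S).Ring)
  let f : (E R S).Ring →ₐ[R] A := liftOfDerivationToSquareZero I hI Dd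
  have hf : ∀ p, f p = (Dd p : A) + f₀ p := fun p => rfl
  have hfJ : ∀ p ∈ J' σ, f p = 0 := by
    intro p hp
    have h1 := mk_eq_of_mem_J' σ hσ p hp
    have h2 : (Dd p : A) = -f₀ p := by
      change ((Dt (KaehlerDifferential.D R (E R S).Ring p) : I) : A) = -f₀ p
      simp only [Dt, LinearMap.neg_apply, LinearMap.coe_comp, Function.comp_apply,
        TensorProduct.mk_apply, LinearMap.coe_restrictScalars]
      rw [← h1, hgbar]
      rfl
    rw [hf, h2, neg_add_cancel]
  refine ⟨Ideal.Quotient.liftₐ (J' σ) f hfJ, ?_⟩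
  apply Ideal.Quotient.algHom_ext
  apply AlgHom.ext
  intro p
  change Ideal.Quotient.mk I (f p) = a (algebraMap (E R S).Ring S p)
  rw [hf, map_add, Ideal.Quotient.eq_zero_iff_mem.2 (Dd p).2, zero_add, hf₀]

include hσ in
theorem lift_unique (A : Type u) [CommRing A] [Algebra R A] (I : Ideal A) (hI : I ^ 2 = ⊥)
    (a : S →ₐ[R] A ⧸ I) (a' a'' : ((E R S).Ring ⧸ J' σ) →ₐ[R] A)
    (h' : (Ideal.Quotient.mkₐ R I).comp a' = a.comp (piMap σ))
    (h'' : (Ideal.Quotient.mkₐ R I).comp a'' = a.comp (piMap σ)) : a' = a'' := by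
  classical
  let f' : (E R S).Ring →ₐ[R] A := a'.comp (Ideal.Quotient.mkₐ R (J' σ))
  let f'' : (E R S).Ring →ₐ[R] A := a''.comp (Ideal.Quotient.mkₐ R (J' σ))
  have hf' : ∀ p, Ideal.Quotient.mk I (f' p) = a (algebraMap (E R S).Ring S p) := fun p =>
    AlgHom.congr_fun h' (Ideal.Quotient.mk _ p)
  have hf'' : ∀ p, Ideal.Quotient.mk I (f'' p) = a (algebraMap (E R S).Ring S p) := fun p =>
    AlgHom.congr_fun h'' (Ideal.Quotient.mk _ p)
  have hJ' : ∀ p ∈ J' σ, f' p = 0 := by
    intro p hp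
    change a' (Ideal.Quotient.mk _ p) = 0
    rw [Ideal.Quotient.eq_zero_iff_mem.2 hp, map_zero]
  have hJ'' : ∀ p ∈ J' σ, f'' p = 0 := by
    intro p hp
    change a'' (Ideal.Quotient.mk _ p) = 0
    rw [Ideal.Quotient.eq_zero_iff_mem.2 hp, map_zero]
  letI : Algebra (E R S).Ring A := f''.toRingHom.toAlgebra
  haveI : IsScalarTower R (E R S).Ring A :=
    IsScalarTower.of_algebraMap_eq (fun r => (f''.commutes r).symm)
  have halg : ∀ p : (E R S).Ring, algebraMap (E R S).Ring A p = f'' p := fun _ => rfl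
  have hker : ∀ p ∈ (E R S).ker, f'' p ∈ I := by
    intro p hp
    rw [← Ideal.Quotient.eq_zero_iff_mem, hf'']
    have : algebraMap (E R S).Ring S p = 0 := hp
    rw [this, map_zero]
  have e : (Ideal.Quotient.mkₐ R I).comp f' = IsScalarTower.toAlgHom R (E R S).Ring (A ⧸ I) := by
    apply AlgHom.ext
    intro p
    change Ideal.Quotient.mk I (f' p) = algebraMap (E R S).Ring (A ⧸ I) p
    rw [hf', ← hf'', IsScalarTower.algebraMap_apply (E R S).Ring A (A ⧸ I), halg]
    rfl
  let Dd : Derivation R (E R S).Ring I := derivationToSquareZeroOfLift I hI f' e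
  have hDd : ∀ p, (Dd p : A) = f' p - f'' p := fun p => rfl
  let Dt : Ω[(E R S).Ring⁄R] →ₗ[(E R S).Ring] I := Dd.liftKaehlerDifferential
  have hDt : ∀ p, Dt (KaehlerDifferential.D R (E R S).Ring p) = Dd p := fun p =>
    Derivation.liftKaehlerDifferential_comp_D Dd p
  have hkill : ((E R S).ker • (⊤ : Submodule (E R S).Ring (Ω[(E R S).Ring⁄R]))) ≤
      LinearMap.ker Dt := by
    rw [Submodule.smul_le]
    intro j hj m _
    rw [LinearMap.mem_ker, map_smul]
    ext
    have h1 : f'' j * (Dt m : A) ∈ I ^ 2 := by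
      rw [sq]; exact Ideal.mul_mem_mul (hker j hj) (Dt m).2
    rw [hI, Ideal.mem_bot] at h1
    change j • (Dt m : A) = 0
    rw [Algebra.smul_def, halg]; exact h1
  have hzero : ∀ ω, Dt ω = 0 := by
    intro ω
    obtain ⟨p, hp, hω⟩ := exists_mem_J' σ hσ ω
    have h0 : (1 : S) ⊗ₜ[(E R S).Ring] (ω - KaehlerDifferential.D R (E R S).Ring p) = 0 := by
      rw [TensorProduct.tmul_sub, hω, sub_self]
    have hmem := ker_mk_one (E R S).algebraMap_surjective _ h0
    have h1 : Dt (ω - KaehlerDifferential.D R (E R S).Ring p) = 0 := hkill hmem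
    rw [map_sub, hDt, sub_eq_zero] at h1
    rw [h1]
    ext
    rw [hDd, hJ' p hp, hJ'' p hp, sub_zero]
    rfl
  apply Ideal.Quotient.algHom_ext
  apply AlgHom.ext
  intro p
  change f' p = f'' p
  have h1 : (Dd p : A) = 0 := by
    rw [← hDt, hzero]; rfl
  rw [hDd, sub_eq_zero] at h1
  exact h1

end construction


/-- A formally unramified R-algebra S admits a universal first order thickening: an R-algebra surjection
S' → S with square-zero kernel through which every R-algebra map from S into a square-zero quotient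
A/I lifts uniquely to A. -/
theorem result (R : Type u) [CommRing R]
    (S : Type u) [CommRing S] [Algebra R S] [Algebra.FormallyUnramified R S] :
    ∃ (S' : Type u) (_ : CommRing S') (_ : Algebra R S') (π : S' →ₐ[R] S),
      OmegaSh.IsUnivThickeningRing R S S' π := by
  obtain ⟨σ, hσ⟩ := exists_section (R := R) (S := S)
  refine ⟨(E R S).Ring ⧸ J' σ, inferInstance, inferInstance, piMap σ, piMap_surjective σ,
    ker_piMap_sq σ, ?_⟩
  intro A _ _ I hI a
  obtain ⟨a', ha'⟩ := exists_lift σ hσ A I hI a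
  exact ⟨a', ha', fun a'' ha'' => lift_unique σ hσ A I hI a a'' a' ha'' ha'⟩

end Groth.Agent.S9426
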