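import Groth.Statements.S9733
import Mathlib
import Groth.Prelude.Def_Omega3
import Groth.Agent.Lib.Helper15.UnivThick
-- import your own Groth.Agent.* helpers here

set_option autoImplicit false
universe u
open OmegaSh

namespace Groth.Agent.S9733

section H
namespace W1
open CategoryTheory CategoryTheory.Limits AlgebraicGeometry Opposite
open Groth.Agent.Lib.Helper15
set_option backward.isDefEq.respectTransparency.types false

theorem main {Z X W Y W' : Scheme.{u}} (h : Z ⟶ X) (f : Z ⟶ W) (g : X ⟶ Y) (h' : W ⟶ Y)
    (hc : IsPullback h f g h') (j : W ⟶ W') (k : W' ⟶ Y) (hu : OmegaSh.IsUnivThickening h' j k) :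
    OmegaSh.IsUnivThickening h (pullback.lift h (f ≫ j) (hc.w.trans (congrArg (f ≫ ·) hu.2.1).symm)) (pullback.fst g k) := by
  obtain ⟨hj, hjk, huniv⟩ := hu
  set iZ : Z ⟶ pullback g k := pullback.lift h (f ≫ j) (hc.w.trans (congrArg (f ≫ ·) hjk).symm) with hiZ
  have e1 : iZ ≫ pullback.fst g k = h := pullback.lift_fst _ _ _
  have e2 : iZ ≫ pullback.snd g k = f ≫ j := pullback.lift_snd _ _ _
  refine ⟨?_, e1, ?_⟩
  · have right : IsPullback (pullback.fst g k) (pullback.snd g k) g k := IsPullback.of_hasPullback g k
    have outer : IsPullback (iZ ≫ pullback.fst g k) f g (j ≫ k) := by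
      rw [e1, hjk]; exact hc
    have left : IsPullback iZ f (pullback.snd g k) j := IsPullback.of_right outer e2 right
    exact UnivThick.isFirstOrderThickening_of_isPullback j hj iZ f (pullback.snd g k) left.flip
  · intro T T' jT b a hjT hcomm
    have hcomm' : jT ≫ (b ≫ g) = (a ≫ f) ≫ h' := by
      rw [← Category.assoc, hcomm, Category.assoc, Category.assoc, hc.w]
    obtain ⟨c, ⟨hc1, hc2⟩, hcu⟩ := huniv T T' jT (b ≫ g) (a ≫ f) hjT hcomm'
    refine ⟨pullback.lift b c hc2.symm, ⟨?_, pullback.lift_fst _ _ _⟩, ?_⟩
    · apply pullback.hom_ext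
      · rw [Category.assoc, pullback.lift_fst, Category.assoc, e1, hcomm]
      · rw [Category.assoc, pullback.lift_snd, Category.assoc, e2, hc1, Category.assoc]
    · rintro a'' ⟨ha1, ha2⟩
      have hsnd : a'' ≫ pullback.snd g k = c := by
        apply hcu
        refine ⟨?_, ?_⟩
        · rw [← Category.assoc, ha1, Category.assoc, e2, Category.assoc]
        · rw [Category.assoc, ← pullback.condition, ← Category.assoc, ha2]
      apply pullback.hom_ext
      · rw [ha2, pullback.lift_fst]
      · rw [hsnd, pullback.lift_snd]

end W1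
end H


open AlgebraicGeometry CategoryTheory Limits in
/-- Let h : Z ⟶ X and f : Z ⟶ W make Z the fibre product of g : X ⟶ Y and a formally unramified h' : W ⟶
Y, and let (j : W ⟶ W', k : W' ⟶ Y) be universal first-order thickening data for h'. Then the map Z
⟶ X ×_Y W' with components h and f ≫ j, together with the first projection X ×_Y W' ⟶ X, is a
universal first-order thickening for h. The published statement also asserts that h is formally
unramified and that the pullback along f of the conormal sheaf of W relative to Y surjects onto the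
conormal sheaf of Z relative to X; this row states neither. -/
theorem result {Z X W Y W' : Scheme.{u}} (h : Z ⟶ X) (f : Z ⟶ W) (g : X ⟶ Y) (h' : W ⟶ Y)
    [FormallyUnramified h'] (hc : IsPullback h f g h') (j : W ⟶ W') (k : W' ⟶ Y) (hu : OmegaSh.IsUnivThickening h' j k) :
    OmegaSh.IsUnivThickening h (pullback.lift h (f ≫ j) (hc.w.trans (congrArg (f ≫ ·) hu.2.1).symm)) (pullback.fst g k) := by
  exact W1.main h f g h' hc j k hu

end Groth.Agent.S9733
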