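import Groth.Statements.S1488
import Groth.Agent.S1487
import Groth.Agent.Lib.Helper15.SmoothSecGL
-- import your own Groth.Agent.* helpers here

set_option autoImplicit false
universe u
open FlatMor

namespace Groth.Agent.S1488

section H
namespace W1
open CategoryTheory CategoryTheory.Limits AlgebraicGeometry Opposite
open Groth.Agent.S1487
set_option backward.isDefEq.respectTransparency.types false

theorem formallySmoothHom_of_smooth {X S : Scheme.{u}} (f : X ⟶ S) [Smooth f] :
    MoreMor.IsFormallySmoothHom f := by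
  intro A _ I hI a b hab
  let p : pullback f b ⟶ Spec (.of A) := pullback.snd f b
  haveI : Smooth p := MorphismProperty.pullback_snd (P := @Smooth) _ _ inferInstance
  let s₀ : Spec (.of (A ⧸ I)) ⟶ pullback f b :=
    pullback.lift a (Spec.map (CommRingCat.ofHom (Ideal.Quotient.mk I))) hab.symm
  have hs : s₀ ≫ p = Spec.map (CommRingCat.ofHom (Ideal.Quotient.mk I)) :=
    pullback.lift_snd _ _ _
  obtain ⟨s, hs1, hs2⟩ := Groth.Agent.Lib.Helper15.SmoothSecGL.exists_section I hI p s₀ hs
  refine ⟨s ≫ pullback.fst f b, ?_, ?_⟩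
  · rw [← Category.assoc, hs1]; exact pullback.lift_fst _ _ _
  · rw [Category.assoc, pullback.condition, ← Category.assoc, hs2, Category.id_comp]

theorem formallySmooth_of_lifting {X Y : Scheme.{u}} {f : X ⟶ Y}
    (hf : MoreMor.IsFormallySmoothHom f) (U : X.Opens) (V : Y.Opens)
    (hU : IsAffineOpen U) (hV : IsAffineOpen V) (hUV : U ≤ f ⁻¹ᵁ V) :
    letI := (f.appLE V U hUV).hom.toAlgebra
    Algebra.FormallySmooth Γ(Y, V) Γ(X, U) := by
  letI := (f.appLE V U hUV).hom.toAlgebra
  apply Algebra.FormallySmooth.of_comp_surjective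
  intro B _ _ I hI φbar
  have hab : Spec.map (CommRingCat.ofHom (Ideal.Quotient.mk I)) ≫
        (Spec.map (CommRingCat.ofHom (algebraMap Γ(Y, V) B)) ≫ hV.fromSpec) =
      (Spec.map (CommRingCat.ofHom φbar.toRingHom) ≫ hU.fromSpec) ≫ f := by
    rw [Category.assoc, ← IsAffineOpen.SpecMap_appLE_fromSpec f hV hU hUV, ← Category.assoc,
      ← Category.assoc, ← Spec.map_comp, ← Spec.map_comp]
    congr 2
    ext x
    exact (φbar.commutes x).symm
  obtain ⟨l, hl1, hl2⟩ := hf B I hI _ _ hab
  have hlU : ∀ w, l w ∈ U := by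
    intro w
    obtain ⟨w', rfl⟩ := surjective_SpecMap_mk I hI w
    rw [← Scheme.Hom.comp_apply, hl1, Scheme.Hom.comp_apply]
    have : hU.fromSpec (Spec.map (CommRingCat.ofHom φbar.toRingHom) w') ∈
        Set.range hU.fromSpec := ⟨_, rfl⟩
    rw [IsAffineOpen.range_fromSpec] at this
    exact this
  obtain ⟨ψ₀, hψ₀⟩ := exists_factor l hU hlU
  have hbase : f.appLE V U hUV ≫ ψ₀ = CommRingCat.ofHom (algebraMap Γ(Y, V) B) := by
    apply cancel_fromSpec hV
    rw [Spec.map_comp, Category.assoc, IsAffineOpen.SpecMap_appLE_fromSpec f hV hU hUV,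
      ← Category.assoc, ← hψ₀, hl2]
  have hquot : ψ₀ ≫ CommRingCat.ofHom (Ideal.Quotient.mk I) =
      CommRingCat.ofHom φbar.toRingHom := by
    apply cancel_fromSpec hU
    rw [Spec.map_comp, Category.assoc, ← hψ₀, hl1]
  refine ⟨⟨ψ₀.hom, fun x => congrArg (fun g => g.hom x) hbase⟩, ?_⟩
  ext x
  exact congrArg (fun g => g.hom x) hquot

theorem main {X S : Scheme.{u}} (f : X ⟶ S) :
    Smooth f ↔ LocallyOfFinitePresentation f ∧ MoreMor.IsFormallySmoothHom f := by
  constructor
  · intro h
    exact ⟨inferInstance, formallySmoothHom_of_smooth f⟩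
  · rintro ⟨h1, h2⟩
    rw [HasRingHomProperty.iff_appLE (P := @Smooth)]
    intro V U e
    rw [RingHom.smooth_def]
    refine ⟨formallySmooth_of_lifting h2 U.1 V.1 U.2 V.2 e, ?_⟩
    exact HasRingHomProperty.appLE (P := @LocallyOfFinitePresentation) f h1 V U e

end W1
end H


open AlgebraicGeometry CategoryTheory Limits in
/-- A morphism f : X → S is smooth if and only if it is locally of finite presentation and formally
smooth, i.e. has the lifting property against first order thickenings of affine schemes (rings in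
the same universe). -/
theorem result {X S : Scheme.{u}} (f : X ⟶ S) :
    Smooth f ↔ LocallyOfFinitePresentation f ∧ MoreMor.IsFormallySmoothHom f := by
  exact W1.main f

end Groth.Agent.S1488
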