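import Groth.Statements.S2060
import Groth.Agent.Lib.helper10.SmallExt

set_option autoImplicit false
universe u
open CAlg

namespace Groth.Agent.S2060

/-- Let `R` be Noetherian, `S` of finite type over `R` and `𝔮` a prime of `S`. Then `R → S` is smooth at
`𝔮` if and only if for every surjection `B' → B` of Artinian local `R`-algebras whose kernel is
principal and killed by the maximal ideal of `B'`, every `R`-algebra map `S → B` under which the
maximal ideal pulls back to `𝔮` lifts to `B'`. -/
theorem result {R S : Type u} [CommRing R] [IsNoetherianRing R]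
    [CommRing S] [Algebra R S] [Algebra.FiniteType R S] (q : Ideal S) [q.IsPrime] :
    Algebra.IsSmoothAt R q ↔
      ∀ (B' B : Type u) [CommRing B'] [CommRing B] [IsLocalRing B'] [IsLocalRing B]
        [IsArtinianRing B'] [IsArtinianRing B] [Algebra R B'] [Algebra R B] (π : B' →ₐ[R] B),
        Function.Surjective π →
        (∃ t : B', RingHom.ker π.toRingHom = Ideal.span {t} ∧
          ∀ a ∈ IsLocalRing.maximalIdeal B', a * t = 0) →
        ∀ g : S →ₐ[R] B, (IsLocalRing.maximalIdeal B).comap g = q →
          ∃ g' : S →ₐ[R] B', π.comp g' = g := by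
  constructor
  · intro hsm B' B _ _ _ _ _ _ _ _ π hπ ht g hg
    obtain ⟨t, hker, hmt⟩ := ht
    haveI : Algebra.FormallySmooth R (Localization.AtPrime q) := hsm
    have hunits : ∀ x : q.primeCompl, IsUnit (g x.1) := by
      intro x
      by_contra hu
      have : g x.1 ∈ IsLocalRing.maximalIdeal B := (IsLocalRing.mem_maximalIdeal _).mpr hu
      have h2 : x.1 ∈ (IsLocalRing.maximalIdeal B).comap g := this
      rw [hg] at h2
      exact x.2 h2
    let gh : Localization.AtPrime q →ₐ[R] B :=
      IsLocalization.liftAlgHom (M := q.primeCompl) (f := g) hunits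
    have htm : t ∈ IsLocalRing.maximalIdeal B' := by
      rw [IsLocalRing.mem_maximalIdeal, mem_nonunits_iff]
      intro hu
      have h0 : π t = 0 := by
        have : t ∈ RingHom.ker π.toRingHom := by
          rw [hker]; exact Ideal.subset_span rfl
        exact this
      have := hu.map π
      rw [h0] at this
      exact not_isUnit_zero this
    have hnil : IsNilpotent (RingHom.ker (π : B' →+* B)) := by
      refine ⟨2, ?_⟩
      have : RingHom.ker (π : B' →+* B) = Ideal.span {t} := hker
      rw [this, Ideal.span_singleton_pow, pow_two, hmt t htm]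
      exact Ideal.span_singleton_eq_bot.mpr rfl
    let l := Algebra.FormallySmooth.liftOfSurjective gh π hπ hnil
    refine ⟨l.comp (IsScalarTower.toAlgHom R S (Localization.AtPrime q)), ?_⟩
    rw [← AlgHom.comp_assoc, Algebra.FormallySmooth.comp_liftOfSurjective]
    refine AlgHom.ext fun x => ?_
    exact IsLocalization.lift_eq _ x
  · intro H
    by_contra hns
    obtain ⟨B', B, _, _, _, _, _, _, _, _, π, g, hπ, ht, hg, hno⟩ :=
      Groth.Agent.Lib.helper10.SmallExt.exists_small_extension_of_not_isSmoothAt q hns
    have hcomap : (IsLocalRing.maximalIdeal B).comap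
        (g.comp (IsScalarTower.toAlgHom R S (Localization.AtPrime q))) = q := by
      have h1 : (IsLocalRing.maximalIdeal B).comap
          (g.comp (IsScalarTower.toAlgHom R S (Localization.AtPrime q))) =
          ((IsLocalRing.maximalIdeal B).comap g).comap
            (algebraMap S (Localization.AtPrime q)) := rfl
      rw [h1, hg]
      exact Localization.AtPrime.under_maximalIdeal
    obtain ⟨g0, hg0⟩ := H B' B π hπ ht
      (g.comp (IsScalarTower.toAlgHom R S (Localization.AtPrime q))) hcomap
    haveI : IsLocalHom π.toRingHom := IsLocalHom.of_surjective _ hπ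
    have hunits : ∀ x : q.primeCompl, IsUnit (g0 x.1) := by
      intro x
      have h1 : IsUnit (algebraMap S (Localization.AtPrime q) x.1) :=
        IsLocalization.map_units _ x
      have h2 : IsUnit (g (algebraMap S (Localization.AtPrime q) x.1)) := h1.map g
      have h3 : π (g0 x.1) = g (algebraMap S (Localization.AtPrime q) x.1) :=
        AlgHom.congr_fun hg0 x.1
      rw [← h3] at h2
      exact isUnit_of_map_unit π.toRingHom _ h2
    apply hno
    refine ⟨IsLocalization.liftAlgHom (M := q.primeCompl) (f := g0) hunits, ?_⟩
    apply AlgHom.coe_ringHom_injective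
    refine IsLocalization.ringHom_ext q.primeCompl (RingHom.ext fun x => ?_)
    show π (IsLocalization.lift hunits (algebraMap S _ x)) = g (algebraMap S _ x)
    rw [IsLocalization.lift_eq]
    exact AlgHom.congr_fun hg0 x

end Groth.Agent.S2060
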