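import Groth.Statements.S10615
import Groth.Agent.Lib.Helper15.SmoothNilLift
import Groth.Agent.Lib.Helper15.EtThickGlue
import Groth.Agent.Lib.Helper15.AlgSpFT
import Groth.Agent.Lib.Helper15.UnivDescend
import Groth.Agent.Lib.Helper3.AlgSpChart
-- import your own Groth.Agent.* helpers here

set_option autoImplicit false
universe u
open CategoryTheory CategoryTheory.Limits AlgebraicGeometry
open AlgSp

namespace Groth.Agent.S10615

section H
namespace W1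
open Groth.Agent.Lib.Helper15 Groth.Agent.Lib.Helper3
set_option backward.isDefEq.respectTransparency.types false

theorem main {S : Scheme.{u}} {X Y T T' : AlgSp.Space S} (f : X ⟶ Y)
    (hf : AlgSp.LocP @Smooth f.hom) (i : T ⟶ T')
    (hi : AlgSp.IsThickMor i.hom)
    (a : T ⟶ X) (b : T' ⟶ Y) (w : a ≫ f = i ≫ b) (t' : AlgSp.Points T'.obj) :
    ∃ (V : Over S) (e : (AlgSp.yon S).obj V ⟶ T'.obj) (ℓ : (AlgSp.yon S).obj V ⟶ X.obj),
      AlgSp.RepWith @Etale e ∧ t' ∈ Set.range (AlgSp.Points.ofPt e) ∧ ℓ ≫ f.hom = e ≫ b.hom ∧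
      ∀ (P : AlgSp.Sp S) (p₁ : P ⟶ T.obj) (p₂ : P ⟶ (AlgSp.yon S).obj V),
        IsPullback p₁ p₂ i.hom e → p₂ ≫ ℓ = p₁ ≫ a.hom := by
  have w' : a.hom ≫ f.hom = i.hom ≫ b.hom := congrArg (fun g => g.hom) w
  -- chart of `T'` through `t'`
  obtain ⟨V₁, c, hce, hcs⟩ := T'.property.atlas
  obtain ⟨v₁, hv₁⟩ := exists_ofPt_eq c hcs t'
  let V₁₀ : Over S := hi.rep.pullback c
  let j₁ : V₁₀ ⟶ V₁ := hi.rep.snd c
  let fst₁ : (yon S).obj V₁₀ ⟶ T.obj := hi.rep.fst c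
  have sq₁ : IsPullback fst₁ ((yon S).map j₁) i.hom c := hi.rep.isPullback c
  have hj₁ : thick j₁.left := hi.2 c fst₁ j₁ sq₁
  have hj₁c : IsClosedImmersion j₁.left := hj₁.1
  have hj₁s : Surjective j₁.left := hj₁.2
  -- chart diagram of `f`
  obtain ⟨U, W, v, u, h, hve, hvs, hue, hus, haUe, haUs, hh, hcomm⟩ :=
    exists_chart_diagram X.property Y.property f.hom
  have hsm : Smooth h.left := hf _ v h haUe hve hcomm
  let aU : (yon S).obj U ⟶ X.obj := u ≫ pullback.fst f.hom v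
  -- pull the chart of `X` back to `V₁₀`
  let V₂₀ : Over S := haUe.rep.pullback (fst₁ ≫ a.hom)
  let k₀ : V₂₀ ⟶ V₁₀ := haUe.rep.snd (fst₁ ≫ a.hom)
  let α₂' : (yon S).obj V₂₀ ⟶ (yon S).obj U := haUe.rep.fst (fst₁ ≫ a.hom)
  have sq₂ : IsPullback α₂' ((yon S).map k₀) aU (fst₁ ≫ a.hom) := haUe.rep.isPullback _
  have hk₀e : Etale k₀.left := haUe.2 _ _ _ sq₂
  have hk₀s : Surjective k₀.left := haUs.2 _ _ _ sq₂
  obtain ⟨α₂, hα₂⟩ := (yon S).map_surjective α₂'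
  -- lift the etale `k₀` along the thickening `j₁`
  obtain ⟨V₂s, j₂s, ks, hke, sq₃⟩ := EtThickGlue.exists_lift j₁.left k₀.left
  let V₂ : Over S := Over.mk (ks ≫ V₁.hom)
  let k : V₂ ⟶ V₁ := Over.homMk ks rfl
  have hj₂w : j₂s ≫ V₂.hom = V₂₀.hom := by
    change j₂s ≫ ks ≫ V₁.hom = V₂₀.hom
    rw [← Category.assoc, sq₃.w, Category.assoc, Over.w j₁, Over.w k₀]
  let j₂ : V₂₀ ⟶ V₂ := Over.homMk j₂s hj₂w
  have hjk : j₂ ≫ k = k₀ ≫ j₁ := by
    ext
    exact sq₃.w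
  have hj₂c : IsClosedImmersion j₂.left :=
    MorphismProperty.of_isPullback (P := @IsClosedImmersion) sq₃.flip hj₁c
  have hj₂s : Surjective j₂.left :=
    MorphismProperty.of_isPullback (P := @Surjective) sq₃.flip hj₁s
  -- lift `V₂ ⟶ Y` to the chart `W`
  let E : Over S := hve.rep.pullback ((yon S).map k ≫ c ≫ b.hom)
  let pE : E ⟶ V₂ := hve.rep.snd ((yon S).map k ≫ c ≫ b.hom)
  let qE' : (yon S).obj E ⟶ (yon S).obj W := hve.rep.fst ((yon S).map k ≫ c ≫ b.hom)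
  have sqE : IsPullback qE' ((yon S).map pE) v ((yon S).map k ≫ c ≫ b.hom) :=
    hve.rep.isPullback _
  have hpE : Etale pE.left := hve.2 _ _ _ sqE
  obtain ⟨qE, hqE⟩ := (yon S).map_surjective qE'
  have hs₀comm : (yon S).map (α₂ ≫ h) ≫ v = (yon S).map j₂ ≫ (yon S).map k ≫ c ≫ b.hom := by
    rw [Functor.map_comp, hα₂, Category.assoc, ← hcomm, ← Category.assoc, sq₂.w, Category.assoc,
      Category.assoc, w', ← Category.assoc fst₁, sq₁.w, ← Category.assoc ((yon S).map j₂),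
      ← Functor.map_comp, hjk, Functor.map_comp]
    simp only [Category.assoc]
  obtain ⟨s₀, hs₀⟩ := (yon S).map_surjective (sqE.lift _ _ hs₀comm)
  have hs₀1 : s₀ ≫ qE = α₂ ≫ h := by
    apply (yon S).map_injective
    rw [Functor.map_comp, hs₀, hqE, sqE.lift_fst]
  have hs₀2 : s₀ ≫ pE = j₂ := by
    apply (yon S).map_injective
    rw [Functor.map_comp, hs₀, sqE.lift_snd]
  obtain ⟨σ, hσ1, hσ2⟩ := Groth.Agent.S0117.W.surj pE.left (𝟙 V₂.left) j₂.left s₀.left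
    (by rw [Category.comp_id, ← Over.comp_left, hs₀2])
  let β₂s : V₂.left ⟶ W.left := σ ≫ qE.left
  have hβ₂w : β₂s ≫ W.hom = V₂.hom := by
    change (σ ≫ qE.left) ≫ W.hom = V₂.hom
    rw [Category.assoc, Over.w qE, ← Over.w pE, ← Category.assoc, hσ1, Category.id_comp]
  let β₂ : V₂ ⟶ W := Over.homMk β₂s hβ₂w
  let σ' : V₂ ⟶ E := Over.homMk σ (by rw [← Over.w pE, ← Category.assoc, hσ1, Category.id_comp])
  have hσ'p : σ' ≫ pE = 𝟙 V₂ := by
    ext
    exact hσ1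
  have hβ₂ : β₂ = σ' ≫ qE := by
    ext
    rfl
  have hβ₂v : (yon S).map β₂ ≫ v = (yon S).map k ≫ c ≫ b.hom := by
    rw [hβ₂, Functor.map_comp, hqE, Category.assoc, sqE.w, ← Category.assoc, ← Functor.map_comp,
      hσ'p, CategoryTheory.Functor.map_id, Category.id_comp]
  have hαβ : α₂.left ≫ h.left = j₂.left ≫ β₂s := by
    change α₂.left ≫ h.left = j₂.left ≫ σ ≫ qE.left
    rw [← Category.assoc, hσ2, ← Over.comp_left, ← Over.comp_left, hs₀1]
  -- a point of `V₂` over `v₁`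
  obtain ⟨x₁₀, hx₁₀⟩ := hj₁s.surj v₁
  obtain ⟨x₂₀, hx₂₀⟩ := hk₀s.surj x₁₀
  have hv₂ : k.left (j₂.left x₂₀) = v₁ := by
    rw [← Scheme.Hom.comp_apply, ← Over.comp_left, hjk, Over.comp_left, Scheme.Hom.comp_apply,
      hx₂₀, hx₁₀]
  -- the local lift
  obtain ⟨V', ℓ₀, hv₂V', hℓ1, hℓ2⟩ :=
    SmoothNilLift.exists_local_lift h.left j₂.left α₂.left β₂s hαβ (j₂.left x₂₀)
  let Vout : Over S := Over.mk (V'.ι ≫ V₂.hom)
  let ι' : Vout ⟶ V₂ := Over.homMk V'.ι rfl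
  have hℓw : ℓ₀ ≫ U.hom = Vout.hom := by
    change ℓ₀ ≫ U.hom = V'.ι ≫ V₂.hom
    rw [← Over.w h, ← Category.assoc, hℓ1, Category.assoc, hβ₂w]
  let ℓO : Vout ⟶ U := Over.homMk ℓ₀ hℓw
  have hℓO : ℓO ≫ h = ι' ≫ β₂ := by
    ext
    exact hℓ1
  refine ⟨Vout, (yon S).map (ι' ≫ k) ≫ c, (yon S).map ℓO ≫ aU, ?_, ?_, ?_, ?_⟩
  · refine MorphismProperty.comp_mem _ _ _ ((repWith_yon_map_iff _ _).2 ?_) hce
    change Etale (V'.ι ≫ ks)
    infer_instance
  · refine ⟨⟨j₂.left x₂₀, hv₂V'⟩, ?_⟩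
    rw [AlgSpFT.ofPt_yon_map_comp, ← hv₁]
    congr 1
  · rw [Category.assoc, hcomm, ← Category.assoc, ← Functor.map_comp, hℓO, Functor.map_comp,
      Category.assoc, hβ₂v, Functor.map_comp]
    simp only [Category.assoc]
  · intro P p₁ p₂ sqP
    -- the standard pullback
    let V'₀ : Over S := Over.mk ((j₂.left ⁻¹ᵁ V').ι ≫ V₂₀.hom)
    let q : V'₀ ⟶ V₂₀ := Over.homMk (j₂.left ⁻¹ᵁ V').ι rfl
    have hrw : (j₂.left ∣_ V') ≫ Vout.hom = V'₀.hom := by
      change (j₂.left ∣_ V') ≫ V'.ι ≫ V₂.hom = (j₂.left ⁻¹ᵁ V').ι ≫ V₂₀.hom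
      rw [← Category.assoc, morphismRestrict_ι, Category.assoc, Over.w j₂]
    let r : V'₀ ⟶ Vout := Over.homMk (j₂.left ∣_ V') hrw
    have hqr : q ≫ j₂ = r ≫ ι' := by
      ext
      exact (morphismRestrict_ι j₂.left V').symm
    have sqA : IsPullback q r j₂ ι' := by
      apply UnivDescend.isPullback_over_of_left hqr
      exact (isPullback_morphismRestrict j₂.left V').flip
    have sqB : IsPullback k₀ j₂ j₁ k := by
      apply UnivDescend.isPullback_over_of_left hjk.symm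
      exact sq₃.flip
    have sqAB := (sqA.map (yon S)).paste_horiz ((sqB.map (yon S)).paste_horiz sq₁)
    have he : (yon S).map ι' ≫ (yon S).map k ≫ c = (yon S).map (ι' ≫ k) ≫ c := by
      rw [Functor.map_comp, Category.assoc]
    rw [he] at sqAB
    have hrℓ : r ≫ ℓO = q ≫ α₂ := by
      ext
      exact hℓ2
    have e1 : p₁ = sqAB.lift p₁ p₂ sqP.w ≫ ((yon S).map q ≫ (yon S).map k₀ ≫ fst₁) :=
      (sqAB.lift_fst _ _ _).symm
    have e2 : p₂ = sqAB.lift p₁ p₂ sqP.w ≫ (yon S).map r := (sqAB.lift_snd _ _ _).symm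
    generalize sqAB.lift p₁ p₂ sqP.w = ε at e1 e2
    rw [e1, e2]
    simp only [Category.assoc]
    rw [← Category.assoc ((yon S).map r), ← Functor.map_comp, hrℓ, Functor.map_comp, hα₂,
      Category.assoc, sq₂.w]

end W1
end H


/-- Take a smooth morphism f : X ⟶ Y of algebraic spaces over S, let i : T ⟶ T' be a thickening of
algebraic spaces (representable, every base change to a scheme a surjective closed immersion) and
let a : T ⟶ X, b : T' ⟶ Y satisfy a ≫ f = i ≫ b. Then there is an etale covering of T' on whose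
members the dotted arrow exists: for every point t' of T' there are a scheme V, a representable
etale e : V ⟶ T' whose image contains t', and ℓ : V ⟶ X with ℓ ≫ f = e ≫ b whose restriction to T
×_{T'} V (any pullback square) is the restriction of a. -/
theorem result {S : Scheme.{u}} {X Y T T' : AlgSp.Space S} (f : X ⟶ Y)
    (hf : AlgSp.LocP @Smooth f.hom) (i : T ⟶ T')
    (hi : AlgSp.IsThickMor i.hom)
    (a : T ⟶ X) (b : T' ⟶ Y) (w : a ≫ f = i ≫ b) (t' : AlgSp.Points T'.obj) :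
    ∃ (V : Over S) (e : (AlgSp.yon S).obj V ⟶ T'.obj) (ℓ : (AlgSp.yon S).obj V ⟶ X.obj),
      AlgSp.RepWith @Etale e ∧ t' ∈ Set.range (AlgSp.Points.ofPt e) ∧ ℓ ≫ f.hom = e ≫ b.hom ∧
      ∀ (P : AlgSp.Sp S) (p₁ : P ⟶ T.obj) (p₂ : P ⟶ (AlgSp.yon S).obj V),
        IsPullback p₁ p₂ i.hom e → p₂ ≫ ℓ = p₁ ≫ a.hom := by
  exact W1.main f hf i hi a b w t'

end Groth.Agent.S10615
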