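import Groth.Statements.S9939
-- import your own Groth.Agent.* helpers here

set_option autoImplicit false
universe u
open CategoryTheory CategoryTheory.Limits AlgebraicGeometry
open AlgSp

namespace Groth.Agent.S9939

/-- For a morphism of algebraic spaces representable by schemes, representable universal injectivity is
equivalent to injectivity on K-valued points for every field K. -/
theorem result {S : Scheme.{u}} {X Y : AlgSp.Space S} (f : X ⟶ Y)
    (hf : AlgSp.Representable f.hom) :
    AlgSp.RepWith @UniversallyInjective f.hom ↔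
      ∀ (K : Type u) [Field K] (str : Spec (CommRingCat.of K) ⟶ S),
        Function.Injective (fun a : (AlgSp.yon S).obj (Over.mk str) ⟶ X.obj => a ≫ f.hom) := by
  constructor
  · intro h K _ str a b hab
    dsimp only at hab
    have hw : b ≫ f.hom = (AlgSp.yon S).map (𝟙 (Over.mk str)) ≫ a ≫ f.hom := by
      rw [CategoryTheory.Functor.map_id, Category.id_comp, hab]
    have hw' : a ≫ f.hom = (AlgSp.yon S).map (𝟙 (Over.mk str)) ≫ a ≫ f.hom := by
      rw [CategoryTheory.Functor.map_id, Category.id_comp]
    suffices H : h.rep.lift (g := a ≫ f.hom) a (𝟙 (Over.mk str)) hw' =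
        h.rep.lift b (𝟙 (Over.mk str)) hw by
      simpa using (AlgSp.yon S).congr_map H =≫ (h.rep.fst (a ≫ f.hom))
    have h1 : UniversallyInjective (h.rep.snd (a ≫ f.hom)).left := h.property_snd (a ≫ f.hom)
    have h2' : ∀ (K : Type u) [Field K], Function.Injective
        (fun g : Spec (.of K) ⟶ (h.rep.pullback (a ≫ f.hom)).left ↦
          g ≫ (h.rep.snd (a ≫ f.hom)).left) :=
      ((tfae_universallyInjective (h.rep.snd (a ≫ f.hom)).left).out 0 1).mp h1
    have h2 := h2' K
    apply Over.OverMorphism.ext
    apply h2
    dsimp only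
    rw [← Over.comp_left, ← Over.comp_left, Functor.relativelyRepresentable.lift_snd,
      Functor.relativelyRepresentable.lift_snd]
  · intro h
    refine ⟨hf, fun U V g fst snd sq => ?_⟩
    change UniversallyInjective snd.left
    suffices H : ∀ (K : Type u) [Field K], Function.Injective
        (fun g : Spec (.of K) ⟶ V.left ↦ g ≫ snd.left) from
      ((tfae_universallyInjective snd.left).out 0 1).mpr H
    intro K _ g₁ g₂ h12
    dsimp only at h12
    have hV : snd.left ≫ U.hom = V.hom := Over.w snd
    have hstr : g₂ ≫ V.hom = g₁ ≫ V.hom := by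
      rw [← hV, ← Category.assoc, ← Category.assoc, h12]
    let G₁ : Over.mk (g₁ ≫ V.hom) ⟶ V := Over.homMk g₁ rfl
    let G₂ : Over.mk (g₁ ≫ V.hom) ⟶ V := Over.homMk g₂ hstr
    have hG : G₁ ≫ snd = G₂ ≫ snd := Over.OverMorphism.ext (by simpa [G₁, G₂] using h12)
    have key : (AlgSp.yon S).map G₁ = (AlgSp.yon S).map G₂ := by
      apply sq.hom_ext
      · apply h K (g₁ ≫ V.hom)
        dsimp only
        rw [Category.assoc, Category.assoc, sq.w, ← Category.assoc, ← Category.assoc,
          ← Functor.map_comp, ← Functor.map_comp, hG]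
      · rw [← Functor.map_comp, ← Functor.map_comp, hG]
    have := (AlgSp.yon S).map_injective key
    simpa [G₁, G₂] using congrArg CommaMorphism.left this

end Groth.Agent.S9939
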