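import Groth.Statements.S10301
import Groth.Agent.Lib.Helper3.AlgSpSubm
import Groth.Agent.Lib.Helper3.AlgSpInj
import Groth.Agent.Lib.Helper3.AlgSpFibre
import Groth.Agent.S9939

set_option autoImplicit false
universe u
open CategoryTheory CategoryTheory.Limits AlgebraicGeometry
open AlgSp

namespace Groth.Agent.S10301

/-- For a representable morphism of algebraic spaces, being a universal homeomorphism in the
representable sense agrees with inducing homeomorphisms on points after every base change. -/
theorem result {S : Scheme.{u}} {X Y : AlgSp.Space S} (f : X ⟶ Y)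
    (hf : AlgSp.Representable f.hom) :
    AlgSp.RepWith FlatMor.IsUnivHomeo f.hom ↔ AlgSp.IsUnivHomeoMor f.hom := by
  constructor
  · intro h Z Z' hZ g fst snd sq
    have hsnd : AlgSp.RepWith FlatMor.IsUnivHomeo snd := MorphismProperty.of_isPullback sq h
    have hZ' : AlgSp.IsAlgSpace Z' :=
      Groth.Agent.Lib.Helper3.isAlgSpace_of_isPullback' Y.property X.property hZ sq
    have h1 : AlgSp.RepWith @Surjective snd := by
      refine MorphismProperty.relative_monotone ?_ _ hsnd
      intro A B k hk
      exact ⟨(hk (𝟙 _) (𝟙 _) k.left IsPullback.of_id_snd).surjective⟩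
    have h2 : AlgSp.RepWith @UniversallyOpen snd := by
      refine MorphismProperty.relative_monotone ?_ _ hsnd
      intro A B k hk
      exact ⟨fun _ _ i₁ i₂ f' hsq => (hk i₁ i₂ f' hsq).isOpenMap⟩
    have h3 : AlgSp.RepWith @UniversallyInjective snd := by
      refine MorphismProperty.relative_monotone ?_ _ hsnd
      intro A B k hk
      exact ⟨fun _ _ i₁ i₂ f' hsq => (hk i₁ i₂ f' hsq).injective⟩
    have h4 : Groth.Agent.Lib.Helper3.InjOnFieldPts snd :=
      (Groth.Agent.S9939.result (X := ⟨Z', hZ'⟩) (Y := ⟨Z, hZ⟩) (ObjectProperty.homMk snd) hsnd.rep).1 h3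
    exact ⟨AlgSp.Points.continuous_map snd, Groth.Agent.Lib.Helper3.isOpenMap_map_of_repWith h2,
      h4.injective_map, Groth.Agent.Lib.Helper3.surjective_map_of_repWith h1⟩
  · intro h
    refine ⟨hf, fun U V g fstV sndV sq => ?_⟩
    change FlatMor.IsUnivHomeo sndV.left
    intro V' U' i₁ i₂ f' hsq
    obtain ⟨fst'', g'', sq''⟩ := Groth.Agent.Lib.Helper3.exists_univ_square sq i₁ i₂ f' hsq
    have h1 : IsHomeomorph (AlgSp.Points.map ((AlgSp.yon S).map (Over.homMk f' rfl :
        Over.mk (f' ≫ i₂ ≫ U.hom) ⟶ Over.mk (i₂ ≫ U.hom)))) :=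
      h (AlgSp.IsAlgSpace.yon_obj _) g'' fst'' _ sq''
    rw [AlgSp.Points.map_yon_map_eq] at h1
    have h2 := ((AlgSp.Points.schemeHomeo _).symm.isHomeomorph.comp h1).comp
      (AlgSp.Points.schemeHomeo (Over.mk (f' ≫ i₂ ≫ U.hom))).isHomeomorph
    have h3 : IsHomeomorph (fun t => f' t) := by
      simpa [Function.comp_def] using h2
    exact h3

end Groth.Agent.S10301
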