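import Groth.Statements.S10587
import Groth.Agent.S10301
import Groth.Agent.S9928
import Groth.Agent.Lib.Helper3.AlgSpQC3
-- import your own Groth.Agent.* helpers here

set_option autoImplicit false
universe u
open CategoryTheory CategoryTheory.Limits AlgebraicGeometry
open AlgSp

namespace Groth.Agent.S10587

section H
namespace W41
open Groth.Agent.Lib.Helper3
set_option backward.isDefEq.respectTransparency.types false

variable {S : Scheme.{u}}

theorem isHomeomorph_of_thick {A B : Scheme.{u}} (g : A ⟶ B) (hg : thick g) : IsHomeomorph g := by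
  have h1 : IsClosedImmersion g := hg.1
  have h2 : Surjective g := hg.2
  exact isHomeomorph_iff_isEmbedding_surjective.mpr ⟨g.isClosedEmbedding.isEmbedding, g.surjective⟩

theorem thick_le_univHomeo : (thick.{u}) ≤ FlatMor.IsUnivHomeo := by
  intro A B g hg A' B' i₁ i₂ g' sq
  have h : thick g' := MorphismProperty.of_isPullback sq.flip hg
  exact isHomeomorph_of_thick g' h

theorem isUnivHomeoMor_of_thick {X X' : Sp S} (hX : IsAlgSpace X) (hX' : IsAlgSpace X') (i : X ⟶ X')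
    (hi : IsThickMor i) : IsUnivHomeoMor i := by
  have hi' : RepWith thick i := hi
  have h : RepWith FlatMor.IsUnivHomeo i :=
    repWith_mono thick_le_univHomeo hi'
  exact (Groth.Agent.S10301.result (X := ⟨X, hX⟩) (Y := ⟨X', hX'⟩) (ObjectProperty.homMk i) hi'.1).1 h

theorem mono_of_thick {X X' : Sp S} (i : X ⟶ X') (hi : IsThickMor i) : Mono i := by
  have hi' : RepWith thick i := hi
  refine Groth.Agent.S9928.mono_of_repWith thick (fun g hg => ?_) i hi'
  have : IsClosedImmersion g := hg.1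
  infer_instance

theorem isPullback_comp_mono {C : Type*} [Category C] {P X Y Z W : C} {fst : P ⟶ X} {snd : P ⟶ Z}
    {f : X ⟶ Y} {g : Z ⟶ Y} (sq : IsPullback fst snd f g) (j : Y ⟶ W) [Mono j] :
    IsPullback fst snd (f ≫ j) (g ≫ j) := by
  refine ⟨⟨by rw [← Category.assoc, sq.w, Category.assoc]⟩, ⟨PullbackCone.IsLimit.mk _
    (fun s => sq.lift s.fst s.snd ((cancel_mono j).1 (by simpa using s.condition)))
    (fun s => sq.lift_fst _ _ _) (fun s => sq.lift_snd _ _ _)
    (fun s m h1 h2 => sq.hom_ext (by simpa using h1) (by simpa using h2))⟩⟩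

variable {X X' Y Y' : Sp S} (hX : IsAlgSpace X) (hX' : IsAlgSpace X') (hY : IsAlgSpace Y)
  (hY' : IsAlgSpace Y') (i : X ⟶ X') (j : Y ⟶ Y') (f : X ⟶ Y) (f' : X' ⟶ Y')
  (hi : IsThickMor i) (hj : IsThickMor j) (w : i ≫ f' = f ≫ j)

include hX hX' hY hY' hi hj w

theorem exists_down {Z Z' : Sp S} (hZ : IsAlgSpace Z) (g : Z ⟶ Y') (fst : Z' ⟶ X') (snd : Z' ⟶ Z)
    (sq : IsPullback fst snd f' g) :
    ∃ (Z₀ Z'₀ : Sp S) (p : Z₀ ⟶ Y) (q : Z₀ ⟶ Z) (fst₀ : Z'₀ ⟶ X) (snd₀ : Z'₀ ⟶ Z₀) (r : Z'₀ ⟶ Z'),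
      IsAlgSpace Z₀ ∧ IsAlgSpace Z'₀ ∧ IsAlgSpace Z' ∧ IsPullback fst₀ snd₀ f p ∧
      IsHomeomorph (Points.map r) ∧ IsHomeomorph (Points.map q) ∧ snd₀ ≫ q = r ≫ snd := by
  have sq1 : IsPullback (pullback.fst j g) (pullback.snd j g) j g := IsPullback.of_hasPullback j g
  have hZ₀ : IsAlgSpace (pullback j g) := isAlgSpace_of_isPullback' hY' hY hZ sq1
  have sq2 : IsPullback (pullback.fst f (pullback.fst j g)) (pullback.snd f (pullback.fst j g)) f
      (pullback.fst j g) := IsPullback.of_hasPullback _ _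
  have hZ'₀ : IsAlgSpace (pullback f (pullback.fst j g)) := isAlgSpace_of_isPullback' hY hX hZ₀ sq2
  have hZ' : IsAlgSpace Z' := isAlgSpace_of_isPullback' hY' hX' hZ sq
  have big := sq2.paste_vert sq1
  rw [← w] at big
  let r : pullback f (pullback.fst j g) ⟶ Z' :=
    sq.lift (pullback.fst f (pullback.fst j g) ≫ i)
      (pullback.snd f (pullback.fst j g) ≫ pullback.snd j g) (by simpa using big.w)
  have hr1 : r ≫ fst = pullback.fst f (pullback.fst j g) ≫ i := sq.lift_fst _ _ _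
  have hr2 : r ≫ snd = pullback.snd f (pullback.fst j g) ≫ pullback.snd j g := sq.lift_snd _ _ _
  rw [← hr2] at big
  have sq3 : IsPullback (pullback.fst f (pullback.fst j g)) r i fst := big.of_bot hr1.symm sq
  refine ⟨_, _, _, _, _, _, r, hZ₀, hZ'₀, hZ', sq2, ?_, ?_, hr2.symm⟩
  · exact isUnivHomeoMor_of_thick hX hX' i hi hZ' fst _ r sq3
  · exact isUnivHomeoMor_of_thick hY hY' j hj hZ g _ _ sq1

theorem exists_up {Z Z' : Sp S} (hZ : IsAlgSpace Z) (g : Z ⟶ Y) (fst : Z' ⟶ X) (snd : Z' ⟶ Z)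
    (sq : IsPullback fst snd f g) :
    ∃ (Z'' : Sp S) (fst'' : Z'' ⟶ X') (snd'' : Z'' ⟶ Z) (r : Z' ⟶ Z''),
      IsAlgSpace Z'' ∧ IsAlgSpace Z' ∧ IsPullback fst'' snd'' f' (g ≫ j) ∧
      IsHomeomorph (Points.map r) ∧ r ≫ snd'' = snd := by
  have : Mono j := mono_of_thick j hj
  have sq'' : IsPullback (pullback.fst f' (g ≫ j)) (pullback.snd f' (g ≫ j)) f' (g ≫ j) :=
    IsPullback.of_hasPullback _ _
  have hZ'' : IsAlgSpace (pullback f' (g ≫ j)) := isAlgSpace_of_isPullback' hY' hX' hZ sq''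
  have hZ' : IsAlgSpace Z' := isAlgSpace_of_isPullback' hY hX hZ sq
  have big := isPullback_comp_mono sq j
  rw [← w] at big
  let r : Z' ⟶ pullback f' (g ≫ j) := sq''.lift (fst ≫ i) snd (by simpa using big.w)
  have hr1 : r ≫ pullback.fst f' (g ≫ j) = fst ≫ i := sq''.lift_fst _ _ _
  have hr2 : r ≫ pullback.snd f' (g ≫ j) = snd := sq''.lift_snd _ _ _
  rw [← hr2] at big
  have sq3 : IsPullback fst r i (pullback.fst f' (g ≫ j)) := big.of_bot hr1.symm sq''
  refine ⟨_, _, _, r, hZ'', hZ', sq'', ?_, hr2⟩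
  exact isUnivHomeoMor_of_thick hX hX' i hi hZ'' _ _ r sq3

theorem univSp_iff (Q : MorphismProperty (Sp S))
    (hQ : ∀ {A B A' B' : Sp S} (a : A ⟶ B) (a' : A' ⟶ B') (r : A ⟶ A') (q : B ⟶ B'),
      IsHomeomorph (Points.map r) → IsHomeomorph (Points.map q) → a ≫ q = r ≫ a' → (Q a ↔ Q a')) :
    UnivSp Q f ↔ UnivSp Q f' := by
  constructor
  · intro hf Z Z' hZ g fst snd sq
    obtain ⟨Z₀, Z'₀, p, q, fst₀, snd₀, r, hZ₀, hZ'₀, hZ', sq2, hr, hq, hc⟩ :=
      exists_down hX hX' hY hY' i j f f' hi hj w hZ g fst snd sq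
    exact (hQ snd₀ snd r q hr hq hc).1 (hf hZ₀ p fst₀ snd₀ sq2)
  · intro hf' Z Z' hZ g fst snd sq
    obtain ⟨Z'', fst'', snd'', r, hZ'', hZ', sq'', hr, hc⟩ :=
      exists_up hX hX' hY hY' i j f f' hi hj w hZ g fst snd sq
    have hid : IsHomeomorph (Points.map (𝟙 Z)) := by
      have : Points.map (𝟙 Z) = id := funext fun x => Points.map_id x
      rw [this]; exact Homeomorph.isHomeomorph (Homeomorph.refl _)
    exact (hQ snd snd'' r (𝟙 Z) hr hid (by rw [Category.comp_id, hc])).2 (hf' hZ (g ≫ j) fst'' snd'' sq'')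


theorem qc_iff : IsQuasiCompactMor f ↔ IsQuasiCompactMor f' := by
  constructor
  · intro hf Z Z' hZ hZq g fst snd sq
    obtain ⟨Z₀, Z'₀, p, q, fst₀, snd₀, r, hZ₀, hZ'₀, hZ', sq2, hr, hq, hc⟩ :=
      exists_down hX hX' hY hY' i j f f' hi hj w hZ g fst snd sq
    have c1 : CompactSpace (Points Z) := (isQuasiCompactSp_iff_compactSpace hZ).1 hZq
    have c2 : CompactSpace (Points Z₀) := hq.homeomorph.symm.compactSpace
    have hZ₀q : IsQuasiCompactSp Z₀ := (isQuasiCompactSp_iff_compactSpace hZ₀).2 c2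
    have hZ'₀q : IsQuasiCompactSp Z'₀ := hf hZ₀ hZ₀q p fst₀ snd₀ sq2
    have c3 : CompactSpace (Points Z'₀) := (isQuasiCompactSp_iff_compactSpace hZ'₀).1 hZ'₀q
    have c4 : CompactSpace (Points Z') := hr.homeomorph.compactSpace
    exact (isQuasiCompactSp_iff_compactSpace hZ').2 c4
  · intro hf' Z Z' hZ hZq g fst snd sq
    obtain ⟨Z'', fst'', snd'', r, hZ'', hZ', sq'', hr, hc⟩ :=
      exists_up hX hX' hY hY' i j f f' hi hj w hZ g fst snd sq
    have hZ''q : IsQuasiCompactSp Z'' := hf' hZ hZq (g ≫ j) fst'' snd'' sq''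
    have c3 : CompactSpace (Points Z'') := (isQuasiCompactSp_iff_compactSpace hZ'').1 hZ''q
    have c4 : CompactSpace (Points Z') := hr.homeomorph.symm.compactSpace
    exact (isQuasiCompactSp_iff_compactSpace hZ').2 c4

omit hX hX' hY hY' hi hj w in
theorem conj_iff {A B A' B' : Type*} [TopologicalSpace A] [TopologicalSpace B] [TopologicalSpace A']
    [TopologicalSpace B'] (a : A → B) (a' : A' → B') (r : A → A') (q : B → B')
    (hr : IsHomeomorph r) (hq : IsHomeomorph q) (hc : q ∘ a = a' ∘ r) :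
    (IsOpenMap a ↔ IsOpenMap a') ∧ (IsClosedMap a ↔ IsClosedMap a') ∧
    (Function.Injective a ↔ Function.Injective a') ∧
    (Function.Surjective a ↔ Function.Surjective a') := by
  set er : A ≃ₜ A' := IsHomeomorph.homeomorph r hr with her
  set eq : B ≃ₜ B' := IsHomeomorph.homeomorph q hq with heq
  have her' : ∀ x, er x = r x := fun x => rfl
  have heq' : ∀ x, eq x = q x := fun x => rfl
  have e1 : a' = eq ∘ a ∘ er.symm := by
    funext x
    have := congrFun hc (er.symm x)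
    simp only [Function.comp_apply] at this ⊢
    rw [heq', this, ← her', er.apply_symm_apply]
  have e2 : a = eq.symm ∘ a' ∘ er := by
    funext x
    have := congrFun hc x
    simp only [Function.comp_apply] at this ⊢
    rw [her', ← this, ← heq', eq.symm_apply_apply]
  refine ⟨⟨fun h => ?_, fun h => ?_⟩, ⟨fun h => ?_, fun h => ?_⟩, ⟨fun h => ?_, fun h => ?_⟩,
    ⟨fun h => ?_, fun h => ?_⟩⟩
  · rw [e1]; exact eq.isOpenMap.comp (h.comp er.symm.isOpenMap)
  · rw [e2]; exact eq.symm.isOpenMap.comp (h.comp er.isOpenMap)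
  · rw [e1]; exact eq.isClosedMap.comp (h.comp er.symm.isClosedMap)
  · rw [e2]; exact eq.symm.isClosedMap.comp (h.comp er.isClosedMap)
  · rw [e1]; exact eq.injective.comp (h.comp er.symm.injective)
  · rw [e2]; exact eq.symm.injective.comp (h.comp er.injective)
  · rw [e1]; exact eq.surjective.comp (h.comp er.symm.surjective)
  · rw [e2]; exact eq.symm.surjective.comp (h.comp er.surjective)

omit hX hX' hY hY' hi hj w in
theorem conj_iff' {A B A' B' : Sp S} (a : A ⟶ B) (a' : A' ⟶ B') (r : A ⟶ A') (q : B ⟶ B')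
    (hr : IsHomeomorph (Points.map r)) (hq : IsHomeomorph (Points.map q)) (hc : a ≫ q = r ≫ a') :
    (IsOpenMap (Points.map a) ↔ IsOpenMap (Points.map a')) ∧
    (IsClosedMap (Points.map a) ↔ IsClosedMap (Points.map a')) ∧
    (Function.Injective (Points.map a) ↔ Function.Injective (Points.map a')) ∧
    (Function.Surjective (Points.map a) ↔ Function.Surjective (Points.map a')) := by
  refine conj_iff _ _ _ _ hr hq ?_
  funext x
  simp only [Function.comp_apply]
  rw [← Points.map_comp, ← Points.map_comp, hc]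

theorem main :
    (IsSurjectiveMor f ↔ IsSurjectiveMor f') ∧
    (IsQuasiCompactMor f ↔ IsQuasiCompactMor f') ∧
    (IsUnivClosedMor f ↔ IsUnivClosedMor f') ∧
    (IsUnivInjectiveMor f ↔ IsUnivInjectiveMor f') ∧
    (IsUnivOpenMor f ↔ IsUnivOpenMor f') := by
  refine ⟨?_, qc_iff hX hX' hY hY' i j f f' hi hj w, ?_, ?_, ?_⟩
  · have h1 : IsHomeomorph (Points.map i) :=
      isUnivHomeoMor_of_thick hX hX' i hi hX' (𝟙 X') (𝟙 X) i IsPullback.of_id_fst
    have h2 : IsHomeomorph (Points.map j) :=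
      isUnivHomeoMor_of_thick hY hY' j hj hY' (𝟙 Y') (𝟙 Y) j IsPullback.of_id_fst
    exact (conj_iff' f f' i j h1 h2 w.symm).2.2.2
  · exact univSp_iff hX hX' hY hY' i j f f' hi hj w IsClosedMor
      (fun a a' r q hr hq hc => (conj_iff' a a' r q hr hq hc).2.1)
  · exact univSp_iff hX hX' hY hY' i j f f' hi hj w _
      (fun a a' r q hr hq hc => (conj_iff' a a' r q hr hq hc).2.2.1)
  · exact univSp_iff hX hX' hY hY' i j f f' hi hj w IsOpenMor
      (fun a a' r q hr hq hc => (conj_iff' a a' r q hr hq hc).1)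

end W41
end H


/-- Consider a morphism (f, f') from the thickening X ⊂ X' to the thickening Y ⊂ Y' of algebraic spaces
over S, meaning: i : X ⟶ X' and j : Y ⟶ Y' are thickenings (representable, every base change to a
scheme a surjective closed immersion) and i ≫ f' = f ≫ j. Then f is surjective, resp. quasi-compact,
universally closed, universally injective, universally open, if and only if f' is. -/
theorem result {S : Scheme.{u}} {X X' Y Y' : AlgSp.Space S} (i : X ⟶ X') (j : Y ⟶ Y')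
    (f : X ⟶ Y) (f' : X' ⟶ Y')
    (hi : AlgSp.IsThickMor i.hom)
    (hj : AlgSp.IsThickMor j.hom) (w : i ≫ f' = f ≫ j) :
    (AlgSp.IsSurjectiveMor f.hom ↔ AlgSp.IsSurjectiveMor f'.hom) ∧
    (AlgSp.IsQuasiCompactMor f.hom ↔ AlgSp.IsQuasiCompactMor f'.hom) ∧
    (AlgSp.IsUnivClosedMor f.hom ↔ AlgSp.IsUnivClosedMor f'.hom) ∧
    (AlgSp.IsUnivInjectiveMor f.hom ↔ AlgSp.IsUnivInjectiveMor f'.hom) ∧
    (AlgSp.IsUnivOpenMor f.hom ↔ AlgSp.IsUnivOpenMor f'.hom) := by
  exact W41.main X.property X'.property Y.property Y'.property i.hom j.hom f.hom f'.hom hi hj (congrArg (fun k => k.hom) w)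

end Groth.Agent.S10587
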