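import Groth.Statements.S10280
import Groth.Agent.Lib.Helper3.AlgSpProper
import Groth.Agent.Lib.Helper3.FppfLocal2

set_option autoImplicit false
universe u
open CategoryTheory CategoryTheory.Limits AlgebraicGeometry
open AlgSp

namespace Groth.Agent.S10280

/-- F is separated if and only if its diagonal is universally closed, if and only if its diagonal is
proper. -/
theorem result {S : Scheme.{u}} {X Y : AlgSp.Space S} (f : X ⟶ Y) :
    (AlgSp.IsSeparatedMor f.hom ↔ AlgSp.IsUnivClosedMor (pullback.diagonal f.hom)) ∧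
    (AlgSp.IsSeparatedMor f.hom ↔ AlgSp.IsProperMor (pullback.diagonal f.hom)) := by
  have key : AlgSp.IsUnivClosedMor (pullback.diagonal f.hom) → AlgSp.IsSeparatedMor f.hom := by
    intro h
    have hrep := Groth.Agent.S9900.repWith_diagonal_lft_mono X.property f.hom
    have huc := Groth.Agent.S9922.repWith_universallyClosed_of_isUnivClosedMor hrep.rep h
    have h3 := Groth.Agent.Lib.Helper3.repWith_inf huc hrep
    refine Groth.Agent.Lib.Helper3.repWith_mono ?_ h3
    rintro A B k ⟨h1, h2, h3⟩
    rw [Groth.Agent.Lib.Helper3.isClosedImmersion_eq]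
    exact ⟨⟨h1, h2⟩, h3⟩
  have key2 : AlgSp.IsSeparatedMor f.hom → AlgSp.IsProperMor (pullback.diagonal f.hom) :=
    fun h => Groth.Agent.Lib.Helper3.isProperMor_of_repWith_isClosedImmersion _ h
  exact ⟨⟨fun h => (key2 h).2.2, key⟩, ⟨key2, fun h => key h.2.2⟩⟩

end Groth.Agent.S10280
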