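import Groth.Statements.S9912
import Groth.Agent.Lib.Helper3.AlgSpQC2
import Groth.Agent.Lib.Helper3.AlgSpLocal

set_option autoImplicit false
universe u
open CategoryTheory CategoryTheory.Limits AlgebraicGeometry
open AlgSp

namespace Groth.Agent.S9912

/-- For a morphism of algebraic spaces representable by schemes, representable quasi-compactness agrees
with the condition that base changes to quasi-compact algebraic spaces are quasi-compact. -/
theorem result {S : Scheme.{u}} {X Y : AlgSp.Space S} (f : X ⟶ Y)
    (hf : AlgSp.Representable f.hom) :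
    AlgSp.RepWith @QuasiCompact f.hom ↔ AlgSp.IsQuasiCompactMor f.hom := by
  constructor
  · intro h
    refine Groth.Agent.S9936.isQuasiCompactMor_of_repWith @QuasiCompact (fun g hg hB => ?_) f.hom h
    have : QuasiCompact g := hg
    exact QuasiCompact.compactSpace_of_compactSpace g
  · intro h
    refine Groth.Agent.Lib.Helper3.repWith_of_forall_affine @QuasiCompact f.hom hf ?_
    intro T hT k
    refine ⟨_, hf.fst k, hf.snd k, hf.isPullback k, ?_⟩
    have hqc : AlgSp.IsQuasiCompactSp ((AlgSp.yon S).obj (hf.pullback k)) :=
      h (AlgSp.IsAlgSpace.yon_obj T)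
        (Groth.Agent.Lib.Helper3.isQuasiCompactSp_yon (inferInstance : CompactSpace ↥T.left))
        k _ _ (hf.isPullback k)
    have hc : CompactSpace ↥(hf.pullback k).left :=
      Groth.Agent.Lib.Helper3.compactSpace_of_isQuasiCompactSp_yon hqc
    have : IsAffine ((Over.forget S).obj T) := hT
    exact (HasAffineProperty.iff_of_isAffine (P := @QuasiCompact)).2 hc

end Groth.Agent.S9912
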