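import Groth.Statements.S10589
import Groth.Agent.S10587
import Groth.Agent.S10280
import Groth.Agent.S9912
import Groth.Agent.S9900
-- import your own Groth.Agent.* helpers here

set_option autoImplicit false
universe u
open CategoryTheory CategoryTheory.Limits AlgebraicGeometry
open AlgSp

namespace Groth.Agent.S10589

section H
namespace W42
open Groth.Agent.Lib.Helper3 Groth.Agent.S10587.W41
set_option backward.isDefEq.respectTransparency.types false

variable {S : Scheme.{u}}

instance : (thick.{u}).IsMultiplicative := by
  unfold thick; infer_instance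

instance : (thick.{u}).RespectsIso := by
  unfold thick; infer_instance

theorem thick_pullbackMap {X X' Y Y' : Sp S} (i : X ⟶ X') (j : Y ⟶ Y') (f : X ⟶ Y) (f' : X' ⟶ Y')
    (hi : IsThickMor i) (hj : IsThickMor j) (w : i ≫ f' = f ≫ j) :
    IsThickMor (pullback.map f f f' f' i i j w.symm w.symm) := by
  have : Mono j := mono_of_thick j hj
  have hi' : RepWith thick i := hi
  have e : pullback.map f f f' f' i i j w.symm w.symm =
      (isPullback_comp_mono (IsPullback.of_hasPullback f f) j).isoPullback.hom ≫
        pullback.map (f ≫ j) (f ≫ j) f' f' i i (𝟙 _) ((Category.comp_id _).trans w.symm)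
          ((Category.comp_id _).trans w.symm) := by
    apply pullback.hom_ext
    · simp only [pullback.map, pullback.lift_fst, Category.assoc,
        IsPullback.isoPullback_hom_fst_assoc]
    · simp only [pullback.map, pullback.lift_snd, Category.assoc,
        IsPullback.isoPullback_hom_snd_assoc]
  rw [e]
  exact (MorphismProperty.cancel_left_of_respectsIso (RepWith thick) _ _).2
    (MorphismProperty.pullbackMap hi' hi' w.symm w.symm)


theorem main {X X' Y Y' : AlgSp.Space S} (i : X ⟶ X') (j : Y ⟶ Y') (f : X ⟶ Y) (f' : X' ⟶ Y')
    (hi : IsThickMor i.hom) (hj : IsThickMor j.hom) (w : i ≫ f' = f ≫ j) :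
    (IsSeparatedMor f.hom ↔ IsSeparatedMor f'.hom) ∧
    (IsQuasiSeparatedMor f.hom ↔ IsQuasiSeparatedMor f'.hom) := by
  have w' : i.hom ≫ f'.hom = f.hom ≫ j.hom := congrArg (fun k => k.hom) w
  have hP : IsAlgSpace (pullback f.hom f.hom) :=
    isAlgSpace_of_isPullback' Y.property X.property X.property (IsPullback.of_hasPullback _ _)
  have hP' : IsAlgSpace (pullback f'.hom f'.hom) :=
    isAlgSpace_of_isPullback' Y'.property X'.property X'.property (IsPullback.of_hasPullback _ _)
  have hk := thick_pullbackMap i.hom j.hom f.hom f'.hom hi hj w'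
  have wd : i.hom ≫ pullback.diagonal f'.hom =
      pullback.diagonal f.hom ≫ pullback.map f.hom f.hom f'.hom f'.hom i.hom i.hom j.hom w'.symm w'.symm := by
    apply pullback.hom_ext
    · simp only [pullback.map, pullback.lift_fst, Category.assoc, pullback.diagonal_fst,
        pullback.diagonal_fst_assoc, Category.comp_id]
    · simp only [pullback.map, pullback.lift_snd, Category.assoc, pullback.diagonal_snd,
        pullback.diagonal_snd_assoc, Category.comp_id]
  have M := Groth.Agent.S10587.W41.main X.property X'.property hP hP' i.hom _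
    (pullback.diagonal f.hom) (pullback.diagonal f'.hom) hi hk wd
  constructor
  · rw [(Groth.Agent.S10280.result f).1, (Groth.Agent.S10280.result f').1]
    exact M.2.2.1
  · have h1 := Groth.Agent.S9912.result (X := X) (Y := ⟨pullback f.hom f.hom, hP⟩)
      (ObjectProperty.homMk (pullback.diagonal f.hom))
      (Groth.Agent.S9900.repWith_diagonal_lft_mono X.property f.hom).rep
    have h2 := Groth.Agent.S9912.result (X := X') (Y := ⟨pullback f'.hom f'.hom, hP'⟩)
      (ObjectProperty.homMk (pullback.diagonal f'.hom))
      (Groth.Agent.S9900.repWith_diagonal_lft_mono X'.property f'.hom).rep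
    exact h1.trans (M.2.1.trans h2.symm)

end W42
end H


/-- Consider a morphism (f, f') from the thickening X ⊂ X' to the thickening Y ⊂ Y' of algebraic spaces
over S, meaning: i : X ⟶ X' and j : Y ⟶ Y' are thickenings (representable, every base change to a
scheme a surjective closed immersion) and i ≫ f' = f ≫ j. Then f is separated if and only if f' is
separated, and f is quasi-separated if and only if f' is quasi-separated. -/
theorem result {S : Scheme.{u}} {X X' Y Y' : AlgSp.Space S} (i : X ⟶ X') (j : Y ⟶ Y')
    (f : X ⟶ Y) (f' : X' ⟶ Y')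
    (hi : AlgSp.IsThickMor i.hom)
    (hj : AlgSp.IsThickMor j.hom) (w : i ≫ f' = f ≫ j) :
    (AlgSp.IsSeparatedMor f.hom ↔ AlgSp.IsSeparatedMor f'.hom) ∧
    (AlgSp.IsQuasiSeparatedMor f.hom ↔ AlgSp.IsQuasiSeparatedMor f'.hom) := by
  exact W42.main i j f f' hi hj w

end Groth.Agent.S10589
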