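import Groth.Statements.S1312
-- import your own Groth.Agent.* helpers here

set_option autoImplicit false
universe u
open FlatMor

namespace Groth.Agent.S1312

open AlgebraicGeometry CategoryTheory Limits in
/-- Let Y ⟶ Y' be a thickening, let X be the base change to Y of a scheme X' over Y', and assume both X
⟶ Y and X' ⟶ Y' are locally of finite type. Then X ⟶ Y is locally quasi-finite if and only if X' ⟶
Y' is. -/
theorem result {X X' Y Y' : Scheme.{u}} (iX : X ⟶ X') (iY : Y ⟶ Y') (f : X ⟶ Y) (f' : X' ⟶ Y')
    (hY : MoreMor.IsThickening iY) (hc : IsPullback iX f f' iY) [LocallyOfFiniteType f] [LocallyOfFiniteType f'] :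
    LocallyQuasiFinite f ↔ LocallyQuasiFinite f' := by
  have hiY : IsClosedImmersion iY := hY.1
  have hiYs : Surjective iY := hY.2
  have hiX : IsClosedImmersion iX := MorphismProperty.of_isPullback hc.flip hY.1
  have hiXs : Surjective iX := MorphismProperty.of_isPullback hc.flip hY.2
  constructor
  · intro h
    rw [locallyQuasiFinite_iff_isDiscrete_preimage_singleton]
    intro y'
    obtain ⟨y, rfl⟩ := iY.surjective y'
    have : f' ⁻¹' {iY y} = iX '' (f ⁻¹' {y}) := by
      ext x'
      constructor
      · intro hx'
        obtain ⟨x, rfl⟩ := iX.surjective x'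
        refine ⟨x, ?_, rfl⟩
        have : iY (f x) = iY y := by
          rw [← Scheme.Hom.comp_apply, ← hc.w, Scheme.Hom.comp_apply]; exact hx'
        exact iY.isClosedEmbedding.injective this
      · rintro ⟨x, hx, rfl⟩
        have hx : f x = y := hx
        show f' (iX x) = iY y
        rw [← Scheme.Hom.comp_apply, hc.w, Scheme.Hom.comp_apply, hx]
    rw [this]
    exact (f.isDiscrete_preimage_singleton y).image iX.isClosedEmbedding.isInducing
  · intro h
    exact MorphismProperty.of_isPullback hc h

end Groth.Agent.S1312
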