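import Groth.Statements.S10593
import Groth.Agent.Lib.Helper15.AlgSpThick
import Groth.Agent.S1312
import Groth.Agent.S1314
-- import your own Groth.Agent.* helpers here

set_option autoImplicit false
universe u
open CategoryTheory CategoryTheory.Limits AlgebraicGeometry
open AlgSp

namespace Groth.Agent.S10593

section H
namespace W40
open Groth.Agent.Lib.Helper3 Groth.Agent.Lib.Helper15.AlgSpThick
set_option backward.isDefEq.respectTransparency.types false

variable {S : Scheme.{u}}

theorem main {X X' Y Y' : AlgSp.Space S} (i : X ⟶ X') (j : Y ⟶ Y')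
    (f : X ⟶ Y) (f' : X' ⟶ Y')
    (hi : AlgSp.IsThickMor i.hom)
    (hj : AlgSp.IsThickMor j.hom) (w : i ≫ f' = f ≫ j)
    (hcart : IsPullback i.hom f.hom f'.hom j.hom)
    (hft : AlgSp.LocP @LocallyOfFiniteType f.hom) (hft' : AlgSp.LocP @LocallyOfFiniteType f'.hom) :
    (AlgSp.LocP (@LocallyQuasiFinite ⊓ @LocallyOfFiniteType) f.hom ↔
      AlgSp.LocP (@LocallyQuasiFinite ⊓ @LocallyOfFiniteType) f'.hom) ∧
    (AlgSp.LocP (@LocallyOfFiniteType ⊓ @FormallyUnramified) f.hom ↔
      AlgSp.LocP (@LocallyOfFiniteType ⊓ @FormallyUnramified) f'.hom) := by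
  have hX := X.property
  have hX' := X'.property
  have hY := Y.property
  have hY' := Y'.property
  refine ⟨⟨fun H U' V' a' b' h' ha' hb' w' => ?_, fun H =>
      locP_of_isPullback isEtLocal_locallyQuasiFinite hX' hY' hY hX f'.hom j.hom i.hom f.hom hcart H⟩,
    ⟨fun H U' V' a' b' h' ha' hb' w' => ?_, fun H =>
      locP_of_isPullback isEtLocal_unramified hX' hY' hY hX f'.hom j.hom i.hom f.hom hcart H⟩⟩
  · obtain ⟨U, V, iU, iV, h, a, b, hae, hbe, hw, -, hV, sq, -, -⟩ :=
      exists_thick_chart i.hom j.hom f.hom f'.hom hi hj hcart a' b' h' ha' hb' w'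
    have h1 : LocallyOfFiniteType h.left := hft a b h hae hbe hw
    have h2 : LocallyOfFiniteType h'.left := hft' a' b' h' ha' hb' w'
    have h3 : LocallyQuasiFinite h.left := (H a b h hae hbe hw).1
    exact ⟨(Groth.Agent.S1312.result iU.left iV.left h.left h'.left hV sq).1 h3, h2⟩
  · obtain ⟨U, V, iU, iV, h, a, b, hae, hbe, hw, -, hV, sq, -, -⟩ :=
      exists_thick_chart i.hom j.hom f.hom f'.hom hi hj hcart a' b' h' ha' hb' w'
    have h1 : LocallyOfFiniteType h.left := hft a b h hae hbe hw
    have h2 : LocallyOfFiniteType h'.left := hft' a' b' h' ha' hb' w'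
    have h3 : FormallyUnramified h.left := (H a b h hae hbe hw).2
    exact ⟨h2, (Groth.Agent.S1314.result iU.left iV.left h.left h'.left hV sq).1 h3⟩

end W40
end H


/-- Consider a morphism (f, f') from the thickening X ⊂ X' to the thickening Y ⊂ Y' of algebraic spaces
over S, meaning: i : X ⟶ X' and j : Y ⟶ Y' are thickenings (representable, every base change to a
scheme a surjective closed immersion) and i ≫ f' = f ≫ j. Assume moreover that the square is
cartesian (X = Y ×_{Y'} X') and that f and f' are locally of finite type. Then f is locally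
quasi-finite, resp. unramified, if and only if f' is (etale-local sense, both notions including
locally of finite type). -/
theorem result {S : Scheme.{u}} {X X' Y Y' : AlgSp.Space S} (i : X ⟶ X') (j : Y ⟶ Y')
    (f : X ⟶ Y) (f' : X' ⟶ Y')
    (hi : AlgSp.IsThickMor i.hom)
    (hj : AlgSp.IsThickMor j.hom) (w : i ≫ f' = f ≫ j)
    (hcart : IsPullback i.hom f.hom f'.hom j.hom)
    (hft : AlgSp.LocP @LocallyOfFiniteType f.hom) (hft' : AlgSp.LocP @LocallyOfFiniteType f'.hom) :
    (AlgSp.LocP (@LocallyQuasiFinite ⊓ @LocallyOfFiniteType) f.hom ↔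
      AlgSp.LocP (@LocallyQuasiFinite ⊓ @LocallyOfFiniteType) f'.hom) ∧
    (AlgSp.LocP (@LocallyOfFiniteType ⊓ @FormallyUnramified) f.hom ↔
      AlgSp.LocP (@LocallyOfFiniteType ⊓ @FormallyUnramified) f'.hom) := by
  exact W40.main i j f f' hi hj w hcart hft hft'

end Groth.Agent.S10593
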