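import Groth.Statements.S1316
import Groth.Agent.S1313
import Mathlib.AlgebraicGeometry.Morphisms.Immersion

set_option autoImplicit false
universe u
open FlatMor

namespace Groth.Agent.S1316

open AlgebraicGeometry CategoryTheory Limits in
/-- Let Y ⟶ Y' be a thickening, let X be the base change to Y of a scheme X' over Y', and assume both X
⟶ Y and X' ⟶ Y' are locally of finite type. Then X ⟶ Y is an immersion if and only if X' ⟶ Y' is. -/
theorem result {X X' Y Y' : Scheme.{u}} (iX : X ⟶ X') (iY : Y ⟶ Y') (f : X ⟶ Y) (f' : X' ⟶ Y')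
    (hY : MoreMor.IsThickening iY) (hc : IsPullback iX f f' iY) [LocallyOfFiniteType f] [LocallyOfFiniteType f'] :
    IsImmersion f ↔ IsImmersion f' := by
  constructor
  · intro hf
    haveI : IsClosedImmersion iY := hY.1
    haveI : Surjective iY := hY.2
    have hinj : Function.Injective iY := iY.isClosedEmbedding.injective
    haveI : Surjective iX := MorphismProperty.of_isPullback hc.flip hY.2
    let U : Y.Opens := f.coborderRange
    let U' : Y'.Opens := ⟨(iY '' (U : Set Y)ᶜ)ᶜ,
      (iY.isClosedEmbedding.isClosedMap _ U.2.isClosed_compl).isOpen_compl⟩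
    have hUeq : iY ⁻¹ᵁ U' = U := by
      ext y
      change iY y ∈ (iY '' (U : Set Y)ᶜ)ᶜ ↔ y ∈ U
      constructor
      · intro h
        by_contra hy
        exact h ⟨y, hy, rfl⟩
      · rintro h ⟨z, hz, hzy⟩
        exact hz (hinj hzy ▸ h)
    have hfw : ∀ x : X, iY (f x) = f' (iX x) := by
      intro x
      have := congrArg (fun g => g.base x) hc.w
      simpa using this.symm
    have hfU : ∀ x : X, f x ∈ U := by
      intro x
      have h1 := congrArg (fun g => g.base x) f.liftCoborder_ι
      simp only [Scheme.Hom.comp_base, TopCat.hom_comp, ContinuousMap.comp_apply] at h1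
      rw [← h1]
      exact (f.liftCoborder x).2
    have hrange : Set.range f' ⊆ Set.range U'.ι := by
      rintro _ ⟨x', rfl⟩
      obtain ⟨x, rfl⟩ := iX.surjective x'
      rw [Scheme.Opens.range_ι]
      change f' (iX x) ∈ (iY '' (U : Set Y)ᶜ)ᶜ
      rw [← hfw]
      rintro ⟨z, hz, hzy⟩
      exact hz (hinj hzy ▸ hfU x)
    let g' : X' ⟶ U'.toScheme := IsOpenImmersion.lift U'.ι f' hrange
    have hg' : g' ≫ U'.ι = f' := IsOpenImmersion.lift_fac _ _ _
    let g : X ⟶ (iY ⁻¹ᵁ U').toScheme := f.liftCoborder ≫ (Y.isoOfEq hUeq.symm).hom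
    have hg : g ≫ (iY ⁻¹ᵁ U').ι = f := by
      simp only [g, Category.assoc, Scheme.isoOfEq_hom_ι, Scheme.Hom.liftCoborder_ι]
      exact f.liftCoborder_ι
    haveI : IsClosedImmersion g := inferInstance
    have hcomm : iX ≫ g' = g ≫ (iY ∣_ U') := by
      rw [← cancel_mono U'.ι, Category.assoc, hg', Category.assoc, morphismRestrict_ι,
        ← Category.assoc, hg, hc.w]
    have hpb : IsPullback iX g g' (iY ∣_ U') := by
      refine IsPullback.of_bot ?_ hcomm (isPullback_morphismRestrict iY U')
      rw [hg, hg']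
      exact hc
    have hthick : MoreMor.IsThickening (iY ∣_ U') :=
      ⟨inferInstance, MorphismProperty.of_isPullback (isPullback_morphismRestrict iY U').flip hY.2⟩
    haveI : LocallyOfFiniteType g := by
      haveI : LocallyOfFiniteType (g ≫ (iY ⁻¹ᵁ U').ι) := by rw [hg]; infer_instance
      exact locallyOfFiniteType_of_comp g (iY ⁻¹ᵁ U').ι
    haveI : LocallyOfFiniteType g' := by
      haveI : LocallyOfFiniteType (g' ≫ U'.ι) := by rw [hg']; infer_instance
      exact locallyOfFiniteType_of_comp g' U'.ι
    haveI : IsClosedImmersion g' :=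
      (Groth.Agent.S1313.result iX (iY ∣_ U') g g' hthick hpb).mp inferInstance
    rw [← hg']
    infer_instance
  · intro hf'
    exact MorphismProperty.of_isPullback hc hf'

end Groth.Agent.S1316
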