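import Groth.Statements.S10591
import Groth.Agent.Lib.Helper15.AlgSpRelDimThick
import Groth.Agent.Lib.Helper15.AlgSpDeformFin
import Groth.Agent.Lib.Helper15.ThickSrc
import Groth.Agent.S1312
import Groth.Agent.S1314
-- import your own Groth.Agent.* helpers here

set_option autoImplicit false
universe u
open CategoryTheory CategoryTheory.Limits AlgebraicGeometry
open AlgSp

namespace Groth.Agent.S10591

section H
namespace W1
open Groth.Agent.Lib.Helper3 Groth.Agent.Lib.Helper15 Groth.Agent.Lib.Helper15.AlgSpThick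
set_option backward.isDefEq.respectTransparency.types false

variable {S : Scheme.{u}}

theorem main {X X' Y Y' : AlgSp.Space S} (i : X ⟶ X') (j : Y ⟶ Y')
    (f : X ⟶ Y) (f' : X' ⟶ Y')
    (hi : AlgSp.IsThickMor i.hom)
    (hj : AlgSp.IsThickMor j.hom) (w : i ≫ f' = f ≫ j)
    (hcart : IsPullback i.hom f.hom f'.hom j.hom)
    (hfo : AlgSp.IsFinThickMor i.hom) (d : ℕ) :
    ((AlgSp.LocP @LocallyOfFiniteType f.hom ∧
        ∀ x, AlgSp.HasAtMor (fun _ _ h u => FlatMor.fibreDimAt h u = (d : WithBot ℕ∞)) f.hom x) ↔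
      (AlgSp.LocP @LocallyOfFiniteType f'.hom ∧
        ∀ x', AlgSp.HasAtMor (fun _ _ h u => FlatMor.fibreDimAt h u = (d : WithBot ℕ∞)) f'.hom x')) ∧
    (AlgSp.LocP @LocallyOfFiniteType f.hom ↔ AlgSp.LocP @LocallyOfFiniteType f'.hom) ∧
    (AlgSp.LocP (@LocallyQuasiFinite ⊓ @LocallyOfFiniteType) f.hom ↔
      AlgSp.LocP (@LocallyQuasiFinite ⊓ @LocallyOfFiniteType) f'.hom) ∧
    (AlgSp.LocP (@LocallyOfFiniteType ⊓ @FormallyUnramified) f.hom ↔
      AlgSp.LocP (@LocallyOfFiniteType ⊓ @FormallyUnramified) f'.hom) := by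
  have hX := X.property
  have hX' := X'.property
  have hY := Y.property
  have hY' := Y'.property
  obtain ⟨n, hn⟩ := hfo
  have hlft : LocP @LocallyOfFiniteType f.hom → LocP @LocallyOfFiniteType f'.hom := by
    intro H U' V' a' b' h' ha' hb' w'
    obtain ⟨U, V, iU, iV, h, a, b, hae, hbe, hw, -, hV, sq, sqa, -⟩ :=
      exists_thick_chart i.hom j.hom f.hom f'.hom hi hj hcart a' b' h' ha' hb' w'
    have hfin := AlgSpDeformFin.isFiniteOrderThickening_of_isNThickMor i.hom n hn iU a a' ha' sqa
    exact ThickSrc.lft_of_lft_src iU.left iV.left h.left h'.left hfin hV.1 sq (H a b h hae hbe hw)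
  have hlft' : LocP @LocallyOfFiniteType f'.hom → LocP @LocallyOfFiniteType f.hom := fun H =>
    locP_of_isPullback isEtLocal_locallyOfFiniteType hX' hY' hY hX f'.hom j.hom i.hom f.hom hcart H
  refine ⟨AlgSpRelDimThick.relDim_iff i j f f' hi hj hcart hlft d, ⟨hlft, hlft'⟩,
    ⟨fun H U' V' a' b' h' ha' hb' w' => ?_, fun H =>
      locP_of_isPullback isEtLocal_locallyQuasiFinite hX' hY' hY hX f'.hom j.hom i.hom f.hom hcart H⟩,
    ⟨fun H U' V' a' b' h' ha' hb' w' => ?_, fun H =>
      locP_of_isPullback isEtLocal_unramified hX' hY' hY hX f'.hom j.hom i.hom f.hom hcart H⟩⟩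
  · have hft : LocP @LocallyOfFiniteType f.hom := fun _ _ a b h ha hb hw => (H a b h ha hb hw).2
    have hft' := hlft hft
    obtain ⟨U, V, iU, iV, h, a, b, hae, hbe, hw, -, hV, sq, -, -⟩ :=
      exists_thick_chart i.hom j.hom f.hom f'.hom hi hj hcart a' b' h' ha' hb' w'
    have h1 : LocallyOfFiniteType h.left := hft a b h hae hbe hw
    have h2 : LocallyOfFiniteType h'.left := hft' a' b' h' ha' hb' w'
    have h3 : LocallyQuasiFinite h.left := (H a b h hae hbe hw).1
    exact ⟨(Groth.Agent.S1312.result iU.left iV.left h.left h'.left hV sq).1 h3, h2⟩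
  · have hft : LocP @LocallyOfFiniteType f.hom := fun _ _ a b h ha hb hw => (H a b h ha hb hw).1
    have hft' := hlft hft
    obtain ⟨U, V, iU, iV, h, a, b, hae, hbe, hw, -, hV, sq, -, -⟩ :=
      exists_thick_chart i.hom j.hom f.hom f'.hom hi hj hcart a' b' h' ha' hb' w'
    have h1 : LocallyOfFiniteType h.left := hft a b h hae hbe hw
    have h2 : LocallyOfFiniteType h'.left := hft' a' b' h' ha' hb' w'
    have h3 : FormallyUnramified h.left := (H a b h hae hbe hw).2
    exact ⟨h2, (Groth.Agent.S1314.result iU.left iV.left h.left h'.left hV sq).1 h3⟩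

end W1
end H


/-- Consider a morphism (f, f') from the thickening X ⊂ X' to the thickening Y ⊂ Y' of algebraic spaces
over S, meaning: i : X ⟶ X' and j : Y ⟶ Y' are thickenings (representable, every base change to a
scheme a surjective closed immersion) and i ≫ f' = f ≫ j. Assume moreover that the square is
cartesian (X = Y ×_{Y'} X') and that i is a finite order thickening (for one n, on every affine
etale scheme chart of X' the (n+1)-st power of the ideal of the base change of X vanishes). Then f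
is locally of finite type of relative dimension d, resp. locally of finite type, resp. locally
quasi-finite, resp. unramified, if and only if f' is (relative dimension d at a point: some chart
diagram through the point has fibre of local dimension d there) (all in the etale-local sense,
locally quasi-finite and unramified including locally of finite type). -/
theorem result {S : Scheme.{u}} {X X' Y Y' : AlgSp.Space S} (i : X ⟶ X') (j : Y ⟶ Y')
    (f : X ⟶ Y) (f' : X' ⟶ Y')
    (hi : AlgSp.IsThickMor i.hom)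
    (hj : AlgSp.IsThickMor j.hom) (w : i ≫ f' = f ≫ j)
    (hcart : IsPullback i.hom f.hom f'.hom j.hom)
    (hfo : AlgSp.IsFinThickMor i.hom) (d : ℕ) :
    ((AlgSp.LocP @LocallyOfFiniteType f.hom ∧
        ∀ x, AlgSp.HasAtMor (fun _ _ h u => FlatMor.fibreDimAt h u = (d : WithBot ℕ∞)) f.hom x) ↔
      (AlgSp.LocP @LocallyOfFiniteType f'.hom ∧
        ∀ x', AlgSp.HasAtMor (fun _ _ h u => FlatMor.fibreDimAt h u = (d : WithBot ℕ∞)) f'.hom x')) ∧
    (AlgSp.LocP @LocallyOfFiniteType f.hom ↔ AlgSp.LocP @LocallyOfFiniteType f'.hom) ∧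
    (AlgSp.LocP (@LocallyQuasiFinite ⊓ @LocallyOfFiniteType) f.hom ↔
      AlgSp.LocP (@LocallyQuasiFinite ⊓ @LocallyOfFiniteType) f'.hom) ∧
    (AlgSp.LocP (@LocallyOfFiniteType ⊓ @FormallyUnramified) f.hom ↔
      AlgSp.LocP (@LocallyOfFiniteType ⊓ @FormallyUnramified) f'.hom) := by
  exact W1.main i j f f' hi hj w hcart hfo d

end Groth.Agent.S10591
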