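import Groth.Statements.S10599
import Groth.Agent.Lib.Helper15.AlgSpRelDimThick
import Groth.Agent.Lib.Helper15.AlgSpDeform
import Groth.Agent.Lib.Helper3.SmoothEt6
import Groth.Agent.Lib.Helper3.AlgSpLocP5
import Groth.Agent.S1312
import Groth.Agent.S1314
-- import your own Groth.Agent.* helpers here

set_option autoImplicit false
universe u
open CategoryTheory CategoryTheory.Limits AlgebraicGeometry
open AlgSp

namespace Groth.Agent.S10599

section H
namespace W1
open Groth.Agent.Lib.Helper3 Groth.Agent.Lib.Helper15 Groth.Agent.Lib.Helper15.AlgSpThick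
set_option backward.isDefEq.respectTransparency.types false

variable {S : Scheme.{u}}

theorem main {X X' Y Y' B B' : AlgSp.Space S} (iX : X ⟶ X') (iY : Y ⟶ Y') (iB : B ⟶ B')
    (f : X ⟶ Y) (f' : X' ⟶ Y') (g : Y ⟶ B) (g' : Y' ⟶ B')
    (hcX : IsPullback iX.hom (f ≫ g).hom (f' ≫ g').hom iB.hom) (hcY : IsPullback iY.hom g.hom g'.hom iB.hom)
    (w : iX ≫ f' = f ≫ iY)
    (hB : AlgSp.IsThickMor iB.hom)
    (hg' : AlgSp.LocP @LocallyOfFiniteType g'.hom)
    (hflat : AlgSp.LocP @Flat (f' ≫ g').hom) (hfp : AlgSp.LocP @LocallyOfFinitePresentation (f' ≫ g').hom) (d : ℕ) :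
    ((AlgSp.LocP @LocallyOfFiniteType f.hom ∧
        ∀ x, AlgSp.HasAtMor (fun _ _ h u => FlatMor.fibreDimAt h u = (d : WithBot ℕ∞)) f.hom x) ↔
      (AlgSp.LocP @LocallyOfFiniteType f'.hom ∧
        ∀ x', AlgSp.HasAtMor (fun _ _ h u => FlatMor.fibreDimAt h u = (d : WithBot ℕ∞)) f'.hom x')) ∧
    (AlgSp.LocP @Flat f.hom ↔ AlgSp.LocP @Flat f'.hom) ∧
    (AlgSp.LocP (@LocallyQuasiFinite ⊓ @LocallyOfFiniteType) f.hom ↔
      AlgSp.LocP (@LocallyQuasiFinite ⊓ @LocallyOfFiniteType) f'.hom) ∧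
    (AlgSp.LocP @Smooth f.hom ↔ AlgSp.LocP @Smooth f'.hom) ∧
    (AlgSp.LocP (@LocallyOfFiniteType ⊓ @FormallyUnramified) f.hom ↔
      AlgSp.LocP (@LocallyOfFiniteType ⊓ @FormallyUnramified) f'.hom) ∧
    (AlgSp.IsEtaleMor f.hom ↔ AlgSp.IsEtaleMor f'.hom) := by
  have hX := X.property
  have hX' := X'.property
  have hY := Y.property
  have hY' := Y'.property
  have hiY : IsThickMor iY.hom :=
    MorphismProperty.of_isPullback (P := RepWith AlgSp.thick) hcY.flip hB
  have hL := AlgSpDeform.isPullback_left iX iY iB f f' g g' hcX hcY w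
  have hiX : IsThickMor iX.hom :=
    MorphismProperty.of_isPullback (P := RepWith AlgSp.thick) hL.flip hiY
  -- the three-level chart
  obtain ⟨U', V', W', a', b', c', h', l', ha'e, ha's, hb'e, hc'e, wh', wl'⟩ :=
    AlgSpDeform.exists_charts3 f' g'
  obtain ⟨U, V, W, iU, iV, iW, h, l, a, b, c, hae, hbe, hce, hwh, hwl, hW, sqUV, sqVW, sqa, sqc⟩ :=
    AlgSpDeform.exists_charts3_restrict iX iY iB f f' g g' hcX hcY w hB a' b' c' h' l'
      ha'e hb'e hc'e wh' wl'
  have wcomp : a' ≫ (f' ≫ g').hom = (yon S).map (h' ≫ l') ≫ c' := by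
    show a' ≫ f'.hom ≫ g'.hom = _
    rw [← Category.assoc, wh', Category.assoc, wl', Functor.map_comp, Category.assoc]
  haveI : Flat (h'.left ≫ l'.left) := hflat a' c' (h' ≫ l') ha'e hc'e wcomp
  haveI : LocallyOfFinitePresentation (h'.left ≫ l'.left) :=
    hfp a' c' (h' ≫ l') ha'e hc'e wcomp
  haveI : LocallyOfFiniteType l'.left := hg' b' c' l' hb'e hc'e wl'
  haveI hlfth' : LocallyOfFiniteType h'.left := locallyOfFiniteType_of_comp h'.left l'.left
  have hcX' : IsPullback iU.left (h.left ≫ l.left) (h'.left ≫ l'.left) iW.left :=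
    sqUV.paste_vert sqVW
  have hV : MoreMor.IsThickening iV.left :=
    ⟨MorphismProperty.of_isPullback (P := @IsClosedImmersion) sqVW.flip hW.1,
      MorphismProperty.of_isPullback (P := @Surjective) sqVW.flip hW.2⟩
  -- transfer along the chart
  have up : ∀ {P : MorphismProperty Scheme.{u}} (hP : IsEtLocal P),
      (P h.left → P h'.left) → LocP P f.hom → LocP P f'.hom := by
    intro P hP H hf
    exact locP_of_chart hP f'.hom a' ha'e ha's b' hb'e h' wh' (H (hf a b h hae hbe hwh))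
  have down : ∀ {P : MorphismProperty Scheme.{u}} (hP : IsEtLocal P),
      LocP P f'.hom → LocP P f.hom := fun hP H =>
    locP_of_isPullback hP hX' hY' hY hX f'.hom iY.hom iX.hom f.hom hL H
  have hft' : LocP @LocallyOfFiniteType f'.hom :=
    locP_of_chart isEtLocal_locallyOfFiniteType f'.hom a' ha'e ha's b' hb'e h' wh' hlfth'
  have hetale : LocP @Etale f.hom ↔ LocP @Etale f'.hom :=
    ⟨up isEtLocal_etale (Deform3.etale_of_etale iU.left iV.left iW.left h.left h'.left l.left
      l'.left hW hcX' sqVW sqUV.w), down isEtLocal_etale⟩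
  refine ⟨AlgSpRelDimThick.relDim_iff iX iY f f' hiX hiY hL (fun _ => hft') d,
    ⟨up isEtLocal_flat (Deform3.flat_of_flat iU.left iV.left iW.left h.left h'.left l.left l'.left
      hW hcX' sqVW sqUV.w), down isEtLocal_flat⟩,
    ⟨fun H => ?_, down isEtLocal_locallyQuasiFinite⟩,
    ⟨up isEtLocal_smooth (Deform3.smooth_of_smooth iU.left iV.left iW.left h.left h'.left l.left
      l'.left hW hcX' sqVW sqUV.w), down isEtLocal_smooth⟩,
    ⟨fun H => ?_, down isEtLocal_unramified⟩, ?_⟩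
  · refine up isEtLocal_locallyQuasiFinite (fun H1 => ?_) H
    haveI : LocallyOfFiniteType h.left := H1.2
    exact ⟨(Groth.Agent.S1312.result iU.left iV.left h.left h'.left hV sqUV).1 H1.1, hlfth'⟩
  · refine up isEtLocal_unramified (fun H1 => ?_) H
    haveI : LocallyOfFiniteType h.left := H1.1
    exact ⟨hlfth', (Groth.Agent.S1314.result iU.left iV.left h.left h'.left hV sqUV).1 H1.2⟩
  · rw [isEtaleMor_iff_locP_etale hX hY, isEtaleMor_iff_locP_etale hX' hY']
    exact hetale

end W1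
end H


/-- Let iB : B ⟶ B' be a thickening of algebraic spaces over S (representable, every base change to a
scheme a surjective closed immersion), f' : X' ⟶ Y' a morphism of algebraic spaces over B' (via g' :
Y' ⟶ B') with Y' locally of finite type over B' and X' flat and locally of finite presentation over
B', and f : X ⟶ Y, g : Y ⟶ B its base change to B (both squares to iB cartesian, iX ≫ f' = f ≫ iY).
Then f is locally of finite type of relative dimension d, resp. flat, resp. locally quasi-finite,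
smooth, unramified, etale, if and only if f' is (etale-local sense; locally quasi-finite and
unramified include locally of finite type). -/
theorem result {S : Scheme.{u}} {X X' Y Y' B B' : AlgSp.Space S} (iX : X ⟶ X') (iY : Y ⟶ Y') (iB : B ⟶ B')
    (f : X ⟶ Y) (f' : X' ⟶ Y') (g : Y ⟶ B) (g' : Y' ⟶ B')
    (hcX : IsPullback iX.hom (f ≫ g).hom (f' ≫ g').hom iB.hom) (hcY : IsPullback iY.hom g.hom g'.hom iB.hom)
    (w : iX ≫ f' = f ≫ iY)
    (hB : AlgSp.IsThickMor iB.hom)
    (hg' : AlgSp.LocP @LocallyOfFiniteType g'.hom)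
    (hflat : AlgSp.LocP @Flat (f' ≫ g').hom) (hfp : AlgSp.LocP @LocallyOfFinitePresentation (f' ≫ g').hom) (d : ℕ) :
    ((AlgSp.LocP @LocallyOfFiniteType f.hom ∧
        ∀ x, AlgSp.HasAtMor (fun _ _ h u => FlatMor.fibreDimAt h u = (d : WithBot ℕ∞)) f.hom x) ↔
      (AlgSp.LocP @LocallyOfFiniteType f'.hom ∧
        ∀ x', AlgSp.HasAtMor (fun _ _ h u => FlatMor.fibreDimAt h u = (d : WithBot ℕ∞)) f'.hom x')) ∧
    (AlgSp.LocP @Flat f.hom ↔ AlgSp.LocP @Flat f'.hom) ∧
    (AlgSp.LocP (@LocallyQuasiFinite ⊓ @LocallyOfFiniteType) f.hom ↔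
      AlgSp.LocP (@LocallyQuasiFinite ⊓ @LocallyOfFiniteType) f'.hom) ∧
    (AlgSp.LocP @Smooth f.hom ↔ AlgSp.LocP @Smooth f'.hom) ∧
    (AlgSp.LocP (@LocallyOfFiniteType ⊓ @FormallyUnramified) f.hom ↔
      AlgSp.LocP (@LocallyOfFiniteType ⊓ @FormallyUnramified) f'.hom) ∧
    (AlgSp.IsEtaleMor f.hom ↔ AlgSp.IsEtaleMor f'.hom) := by
  exact W1.main iX iY iB f f' g g' hcX hcY w hB hg' hflat hfp d

end Groth.Agent.S10599
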