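import Groth.Statements.S10632
import Groth.Agent.S10627
import Groth.Agent.Lib.Helper9.AlgSpFE
-- import your own Groth.Agent.* helpers here

set_option autoImplicit false
universe u
open CategoryTheory CategoryTheory.Limits AlgebraicGeometry
open AlgSp

namespace Groth.Agent.S10632

section H
namespace W64
open Groth.Agent.Lib.Helper15.AlgSpFormal Groth.Agent.Lib.Helper15.AlgSpFormal2
open Groth.Agent.Lib.Helper9.AlgSpFE
set_option backward.isDefEq.respectTransparency.types false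

variable {S : Scheme.{u}}

/-- base change of a first order thickening along an etale morphism -/
theorem isFOThickMor_of_isPullback {Z Y Y' Z' : AlgSp.Sp S} (e : Z ⟶ Y) (iY : Y ⟶ Y') (iZ : Z ⟶ Z')
    (e' : Z' ⟶ Y') (he' : AlgSp.IsEtaleMor e') (sq : IsPullback e iZ iY e')
    (hiY : IsFOThickMor iY) : IsFOThickMor iZ := by
  refine ⟨MorphismProperty.of_isPullback (P := RepWith AlgSp.thick) sq hiY.1, ?_⟩
  intro V W b fst snd hV hb sqV
  exact hiY.2 (b ≫ e') (fst ≫ e) snd hV (he' b hb) (sqV.paste_horiz sq)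

theorem main {Z Y Y' Z' X : AlgSp.Space S} (e : Z ⟶ Y)
    (_he : AlgSp.IsEtaleMor e.hom) (hY : Y ⟶ X) (iY : Y ⟶ Y') (hY' : Y' ⟶ X)
    (HU : AlgSp.IsUnivFOThick hY.hom iY.hom hY'.hom) (iZ : Z ⟶ Z') (e' : Z' ⟶ Y')
    (he' : AlgSp.IsEtaleMor e'.hom)
    (sq : IsPullback e.hom iZ.hom iY.hom e'.hom) :
    AlgSp.IsUnivFOThick (e ≫ hY).hom iZ.hom (e' ≫ hY').hom := by
  have hfe : IsFormallyEtaleMor e'.hom := ((Groth.Agent.S10627.result e').1 he').2
  refine ⟨isFOThickMor_of_isPullback e.hom iY.hom iZ.hom e'.hom he' sq HU.1, ?_, ?_⟩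
  · change iZ.hom ≫ e'.hom ≫ hY'.hom = e.hom ≫ hY.hom
    rw [← Category.assoc, ← sq.w, Category.assoc, HU.2.1]
  · intro T T' hT hT' j a b hj hjb
    change j ≫ b = a ≫ e.hom ≫ hY.hom at hjb
    obtain ⟨c, ⟨hc1, hc2⟩, hcu⟩ := HU.2.2 hT hT' j (a ≫ e.hom) b hj (by rw [hjb, Category.assoc])
    obtain ⟨a', ⟨ha'1, ha'2⟩, ha'u⟩ := formallyEtale_lift_existsUnique' e'.hom hfe hT' j hj
      (a ≫ iZ.hom) c (by rw [Category.assoc, ← sq.w, hc1, Category.assoc])
    refine ⟨a', ⟨ha'1, ?_⟩, ?_⟩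
    · change a' ≫ e'.hom ≫ hY'.hom = b
      rw [← Category.assoc, ha'2, hc2]
    · rintro a'' ⟨h1, h2⟩
      change a'' ≫ e'.hom ≫ hY'.hom = b at h2
      have hc'' : a'' ≫ e'.hom = c := hcu _ ⟨by
        rw [← Category.assoc, h1, Category.assoc, ← sq.w, Category.assoc], by
        rw [Category.assoc, h2]⟩
      exact ha'u a'' ⟨h1, hc''⟩

end W64
end H


/-- Let e : Z ⟶ Y be an etale morphism of algebraic spaces over S, hY : Y ⟶ X, and let (iY : Y ⟶ Y', hY'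
: Y' ⟶ X) be a universal first order thickening of Y over X. Let e' : Z' ⟶ Y' be etale with iZ : Z ⟶
Z' making Z = Y ×_{Y'} Z' a pullback square. Then (iZ, e' ≫ hY') is a universal first order
thickening of Z over X. -/
theorem result {S : Scheme.{u}} {Z Y Y' Z' X : AlgSp.Space S} (e : Z ⟶ Y)
    (he : AlgSp.IsEtaleMor e.hom) (hY : Y ⟶ X) (iY : Y ⟶ Y') (hY' : Y' ⟶ X)
    (HU : AlgSp.IsUnivFOThick hY.hom iY.hom hY'.hom) (iZ : Z ⟶ Z') (e' : Z' ⟶ Y') (he' : AlgSp.IsEtaleMor e'.hom)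
    (sq : IsPullback e.hom iZ.hom iY.hom e'.hom) :
    AlgSp.IsUnivFOThick (e ≫ hY).hom iZ.hom (e' ≫ hY').hom := by
  exact W64.main e he hY iY hY' HU iZ e' he' sq

end Groth.Agent.S10632
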