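import Groth.Statements.S8651
import Groth.Agent.Lib.Helper20.LambdaGamma
import Groth.Agent.Lib.Helper20.SymSeries
-- import your own Groth.Agent.* helpers here

set_option autoImplicit false
universe u
open Finset
open LambdaRing

namespace Groth.Agent.S8651

section aux
open Groth.Agent.Lib.Helper20.LR PowerSeries
variable {A : Type u} [CommRing A] [LambdaRing.LambdaOps A]

lemma lamSeries_of_line_like (y : A) (hy : ∀ j : ℕ, 2 ≤ j → LambdaRing.LambdaOps.lam j y = 0) :
    lamSeries y = 1 + PowerSeries.C y * PowerSeries.X := by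
  refine PowerSeries.ext fun n => ?_
  rw [coeff_lamSeries]
  rcases n with _ | _ | n
  · simp [LambdaOps.lam_zero]
  · simp [LambdaOps.lam_one]
  · rw [hy (n + 2) (by omega)]
    simp [PowerSeries.coeff_one, PowerSeries.coeff_X]

lemma one_add_X_mul_mk_one : (1 : PowerSeries A) + PowerSeries.X * PowerSeries.mk 1 = PowerSeries.mk 1 := by
  refine PowerSeries.ext fun n => ?_
  rcases n with _ | n
  · simp
  · rw [map_add, coeff_one, if_neg (Nat.succ_ne_zero n), zero_add, coeff_succ_X_mul, coeff_mk,
      coeff_mk]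
    rfl

lemma gammaSeries_of_line_like (y : A) (hy : ∀ j : ℕ, 2 ≤ j → LambdaRing.LambdaOps.lam j y = 0) :
    gammaSeries y = (1 + PowerSeries.C (y - 1) * PowerSeries.X) * PowerSeries.mk 1 := by
  rw [gammaSeries_eq_subst, lamSeries_of_line_like y hy, ← coe_substAlgHom hasSubst_sSer, map_add,
    map_one, map_mul, substAlgHom_X]
  have hS : sSer A = PowerSeries.X * PowerSeries.mk 1 := rfl
  have hC : (substAlgHom (hasSubst_sSer (K := A))) (PowerSeries.C y) = PowerSeries.C y := by
    rw [coe_substAlgHom, ← Polynomial.coe_C, subst_coe hasSubst_sSer]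
    simp
  rw [hC, hS]
  have h1 := one_add_X_mul_mk_one (A := A)
  calc 1 + PowerSeries.C y * (PowerSeries.X * PowerSeries.mk 1)
      = (1 + PowerSeries.X * PowerSeries.mk 1) +
          PowerSeries.C (y - 1) * (PowerSeries.X * PowerSeries.mk 1) := by
        rw [map_sub, map_one]; ring
    _ = _ := by rw [h1]; ring

lemma gammaSeries_sub_one_of_line_like
    (h1 : ∀ k : ℕ, 2 ≤ k → LambdaRing.LambdaOps.lam k (1 : A) = 0)
    (y : A) (hy : ∀ j : ℕ, 2 ≤ j → LambdaRing.LambdaOps.lam j y = 0) :
    gammaSeries (y - 1) = 1 + PowerSeries.C (y - 1) * PowerSeries.X := by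
  have h := gammaSeries_add (y - 1) 1
  rw [sub_add_cancel, gammaSeries_of_line_like y hy, gammaSeries_of_line_like 1 h1, sub_self,
    map_zero, zero_mul, add_zero, one_mul] at h
  have hu : IsUnit (PowerSeries.mk (1 : ℕ → A)) := by
    rw [PowerSeries.isUnit_iff_constantCoeff]
    simp
  exact (hu.mul_left_injective h).symm

lemma gammaSeries_finset_sum {ι : Type*} (s : Finset ι) (z : ι → A) :
    gammaSeries (∑ i ∈ s, z i) = ∏ i ∈ s, gammaSeries (z i) := by
  classical
  induction s using Finset.induction_on with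
  | empty => simp [gammaSeries_zero]
  | insert a s ha ih => rw [Finset.sum_insert ha, Finset.prod_insert ha, gammaSeries_add, ih]

end aux

/-- Let A be a pre-λ-ring (λ^0 = 1, λ^1 = id, additive formula) in which λ^k(1) = 0 for all k ≥ 2, and
let y_1, …, y_n ∈ A satisfy λ^j(y_i) = 0 for every j ≥ 2; put x = Σ_i y_i. Then for every k the
element γ^k(x − n) (γ-operations: the coefficients of λ_{t/(1−t)}) equals the k-th elementary
symmetric function of y_1 − 1, …, y_n − 1, namely the sum over the k-element subsets s of the index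
set of Π_{i ∈ s} (y_i − 1); in particular γ^k(x − n) = 0 for k > n. (The published statement is for
a λ-ring; its proof uses only additivity and λ_t(1) = 1 + t, the hypotheses taken here.) -/
theorem result (A : Type u) [CommRing A] [LambdaRing.LambdaOps A]
    (h1 : ∀ k : ℕ, 2 ≤ k → LambdaRing.LambdaOps.lam k (1 : A) = 0) (n : ℕ) (y : Fin n → A)
    (hy : ∀ (i : Fin n) (j : ℕ), 2 ≤ j → LambdaRing.LambdaOps.lam j (y i) = 0) (k : ℕ) :
    LambdaRing.gamma k (∑ i : Fin n, y i - (n : A)) =
      ∑ s ∈ (univ : Finset (Fin n)).powersetCard k, ∏ i ∈ s, (y i - 1) := by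
  open Groth.Agent.Lib.Helper20.LR Groth.Agent.Lib.Helper20.Sym in
  classical
  have hsum : (∑ i : Fin n, y i - (n : A)) = ∑ i : Fin n, (y i - 1) := by
    rw [Finset.sum_sub_distrib]
    simp
  rw [hsum, ← coeff_gammaSeries, gammaSeries_finset_sum]
  have h2 : ∏ i : Fin n, gammaSeries (y i - 1) =
      gpS ((Finset.univ : Finset (Fin n)).val.map fun i => y i - 1) := by
    unfold gpS
    rw [Multiset.map_map, Finset.prod_eq_multiset_prod]
    congr 1
    apply Multiset.map_congr rfl
    intro i _
    exact gammaSeries_sub_one_of_line_like h1 (y i) (hy i)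
  rw [h2, coeff_gpS, Finset.esymm_map_val]

end Groth.Agent.S8651
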