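import Groth.Statements.S0890
import Groth.Agent.Lib.Helper1.LocFree4
import Groth.Agent.Lib.Helper17.CohKer

set_option autoImplicit false
universe u
open CategoryTheory
attribute [local instance] HasDerivedCategory.standard
open DCoh

namespace Groth.Agent.S0890

open Groth.Agent.Lib.Helper16.RS Groth.Agent.Lib.Helper16.PC DerivedCategory
  Groth.Agent.Lib.Helper1.LocPC Groth.Agent.Lib.Helper1.LocPerf Groth.Agent.Lib.Helper1.LocFree
  Groth.Agent.Lib.Helper29.FPDict CategoryTheory.Limits AlgebraicGeometry

/-- local data extracted from pseudo-coherence together with vanishing of cohomology. -/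
theorem local_data {X : Scheme.{u}} (m : ℤ) (K : DCoh.D X)
    (hK : DCoh.IsPseudoCoherentD m K) (n : ℤ) (hmn : m ≤ n)
    (hvan : ∀ i : ℤ, n < i → IsZero (DCoh.HD K i)) (x : X) :
    ∃ (V : X.Opens) (E : CochainComplex (V : Scheme.{u}).Modules ℤ)
      (φ : E.homology n ⟶ (DCoh.HD K n).restrict V.ι), x ∈ V ∧
      SheafOfModules.IsFinitePresentation.{u} (R := (V : Scheme.{u}).ringCatSheaf) (E.homology n) ∧
      Epi φ ∧ (m < n → IsIso φ) := by
  obtain ⟨V, hxV, E, α, hE, hα⟩ := (isPseudoCoherentD_iff m K).1 hK x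
  have hiso : ∀ i : ℤ, Nonempty ((DCoh.HD K i).restrict V.ι ≅
      (homologyFunctor _ i).obj ((RD V.ι).obj K)) := fun i =>
    nonempty_map_homology_iso (Scheme.Modules.restrictFunctor V.ι) K i
  have hEvan : ∀ i : ℤ, n < i → IsZero (E.homology i) := by
    intro i hi
    haveI := hα.1 i (by omega)
    obtain ⟨e⟩ := hiso i
    exact IsZero.of_iso ((Scheme.Modules.restrictFunctor V.ι).map_isZero (hvan i hi))
      (((homologyFunctorFactors _ i).app E).symm ≪≫
        asIso ((homologyFunctor _ i).map α) ≪≫ e.symm)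
  obtain ⟨e⟩ := hiso n
  refine ⟨V, E, ((homologyFunctorFactors _ n).app E).inv ≫ (homologyFunctor _ n).map α ≫ e.inv,
    hxV, isFinitePresentation_homology_of_isStrictlyPerfect E hE n hEvan, ?_, ?_⟩
  · haveI : Epi ((homologyFunctor _ n).map α) := by
      rcases hmn.lt_or_eq with h | h
      · haveI := hα.1 n h
        infer_instance
      · subst h
        exact hα.2
    infer_instance
  · intro h
    haveI := hα.1 n h
    infer_instance

open AlgebraicGeometry CategoryTheory.Limits in
/-- For an m-pseudo-coherent object K of D(O_X): (1) vanishing of the cohomology sheaves above degree m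
makes H^m(K) an O_X-module of finite type; (2) vanishing above degree m + 1 makes H^{m+1}(K) an
O_X-module of finite presentation. -/
theorem result {X : Scheme.{u}} (m : ℤ) (K : DCoh.D X)
    (hK : DCoh.IsPseudoCoherentD m K) :
    ((∀ i : ℤ, m < i → IsZero (DCoh.HD K i)) → CohB1.IsFT (DCoh.HD K m)) ∧
    ((∀ i : ℤ, m + 1 < i → IsZero (DCoh.HD K i)) → CohB1.IsFP (DCoh.HD K (m + 1))) := by
  constructor
  · intro hvan
    apply isFiniteType_of_locally
    intro x
    obtain ⟨V, E, φ, hxV, hfp, hepi, -⟩ := local_data m K hK m le_rfl hvan x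
    refine ⟨V, hxV, ?_⟩
    haveI := hfp
    haveI := isFiniteType_of_isFinitePresentation (E.homology m)
    exact Groth.Agent.Lib.Helper17.CohKer.isFiniteType_of_epi φ
  · intro hvan
    apply isFinitePresentation_of_locally
    intro x
    obtain ⟨V, E, φ, hxV, hfp, -, hiso⟩ := local_data m K hK (m + 1) (by omega) hvan x
    refine ⟨V, hxV, ?_⟩
    haveI := hiso (by omega)
    exact @isFinitePresentation_of_iso _ _ _ (asIso φ) hfp

end Groth.Agent.S0890
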