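import Groth.Statements.S0914
import Groth.Agent.Lib.Helper1.LocPerf4

set_option autoImplicit false
universe u
open CategoryTheory
attribute [local instance] HasDerivedCategory.standard
open DCoh

namespace Groth.Agent.S0914

open Groth.Agent.Lib.Helper1.LocPC Groth.Agent.Lib.Helper1.LocPerf Groth.Agent.Lib.Helper16.RS
  Groth.Agent.Lib.Helper16.PC AlgebraicGeometry

lemma hasTorAmplitudeIn_of_iso {A : Type u} [CommRing A] {a b : ℤ} {K K' : Dual.D A}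
    (h : DRing.HasTorAmplitudeIn A a b K) (e : K ≅ K') : DRing.HasTorAmplitudeIn A a b K' := by
  obtain ⟨E, h1, h2, ⟨i⟩⟩ := h
  exact ⟨E, h1, h2, ⟨i ≪≫ e⟩⟩

open AlgebraicGeometry in

open AlgebraicGeometry in
/-- An object E of D(O_X) is perfect if and only if it is m-pseudo-coherent for every m and locally has
finite tor dimension. -/
theorem result {X : Scheme.{u}} (E : DCoh.D X) :
    DCoh.IsPerfect E ↔ (∀ m : ℤ, DCoh.IsPseudoCoherentD m E) ∧ DCoh.LocHasFiniteTorDim E := by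
  obtain ⟨F₀, ⟨e₀⟩⟩ := exists_rep E
  constructor
  · intro h
    refine ⟨fun m => ?_, fun x => ?_⟩
    · rw [isPseudoCoherentD_iff]
      intro x
      obtain ⟨V, hx, hV⟩ := h x
      obtain ⟨E', hE', ⟨i⟩⟩ := hV F₀ ⟨e₀⟩
      exact ⟨V, hx, E', (i.symm ≪≫ (RDQIso V.ι F₀).symm ≪≫ (RD V.ι).mapIso e₀).hom, hE',
        good_of_isIso m _⟩
    · obtain ⟨V, hx, hV⟩ := h x
      obtain ⟨E', ⟨⟨a, b, hab⟩, hfree⟩, ⟨i⟩⟩ := hV F₀ ⟨e₀⟩
      refine ⟨V, a, b, hx, ?_⟩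
      rintro F' ⟨eF'⟩
      obtain ⟨i'⟩ := nonempty_iso_Q_RCx V.ι (e₀ ≪≫ eF'.symm)
      exact ⟨E', hab, fun j => isFlat_of_isFinLocFree _ (hfree j), ⟨i.symm ≪≫ i'⟩⟩
  · rintro ⟨hpc, htor⟩ x
    obtain ⟨V₁, a, b, hx₁, hV₁⟩ := htor x
    obtain ⟨V₂, hx₂, hV₂⟩ := (isPseudoCoherentD_iff (a - 1) E).1 (hpc (a - 1)) x
    let V := V₁ ⊓ V₂
    have hx : x ∈ V := ⟨hx₁, hx₂⟩
    have hpcV : PCat (a - 1) ((RD V.ι).obj E) := hV₂.of_le_opens inf_le_right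
    obtain ⟨E₁, hE₁, hflat₁, ⟨e₁⟩⟩ := hV₁ F₀ ⟨e₀⟩
    let k : (V : Scheme.{u}) ⟶ (V₁ : Scheme.{u}) := X.homOfLE (inf_le_left : V ≤ V₁)
    have hk : k ≫ V₁.ι = V.ι := X.homOfLE_ι _
    obtain ⟨ι⟩ := nonempty_RD_fac_iso V₁.ι k V.ι hk E
    have hst : ∀ y : (V : Scheme.{u}), DRing.HasTorAmplitudeIn ((V : Scheme.{u}).presheaf.stalk y) a b
        ((DerSch.stalkFunctor (V : Scheme.{u}) y).mapDerivedCategory.obj ((RD V.ι).obj E)) := by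
      intro y
      have h3 := stalk_torAmp_of_flat_rep_restrict ((RD V₁.ι).obj E) E₁
        (e₁ ≪≫ (RDQIso V₁.ι F₀).symm ≪≫ (RD V₁.ι).mapIso e₀) a b hE₁ hflat₁ k y
      exact hasTorAmplitudeIn_of_iso h3
        ((DerSch.stalkFunctor (V : Scheme.{u}) y).mapDerivedCategory.mapIso ι)
    obtain ⟨E', hE', -, ⟨e'⟩⟩ :=
      exists_strictlyPerfect_of_pc_of_stalk_torAmp ((RD V.ι).obj E) a b hpcV hst
    refine ⟨V, hx, ?_⟩
    rintro G ⟨eG⟩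
    exact ⟨E', hE', ⟨(RDQIso V.ι G).symm ≪≫ (RD V.ι).mapIso eG ≪≫ e'.symm⟩⟩

end Groth.Agent.S0914
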