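import Groth.Statements.S5612
import Groth.Agent.Lib.Helper16.TorBal6
import Groth.Agent.Lib.Helper16.PC11
import Groth.Agent.Lib.Helper16.TorAmp6
-- import your own Groth.Agent.* helpers here

set_option autoImplicit false
universe u
open CategoryTheory CategoryTheory.Limits
attribute [local instance] HasDerivedCategory.standard
open DRing

namespace Groth.Agent.S5612

open Groth.Agent.Lib.Helper16.TorAmp Groth.Agent.Lib.Helper16.TorBal DerivedCategory

theorem finTor_iff {A : Type u} [CommRing A]
    (hA : ∀ (M : Type u) [AddCommGroup M] [Module A M], DRing.HasFiniteTorDim A M) (K : Dual.D A) :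
    (DRing.HasFiniteTorDimCx A K ↔
      ∃ a b : ℤ, ∀ i : ℤ, i < a ∨ b < i → Subsingleton (Dual.HD A K i)) := by
  constructor
  · rintro ⟨a, b, E, hE, -, ⟨e⟩⟩
    refine ⟨a, b, fun i hi => ?_⟩
    rw [subsingleton_HD_iff_exactAt E e.symm i]
    exact HomologicalComplex.ExactAt.of_isZero (hE i hi)
  · rintro ⟨c, d, hcd⟩
    choose n hn using fun i : ℤ => hA (Dual.HD A K i)
    let N : ℕ := (Finset.Icc c d).sup n
    refine ⟨c - N, d, torAmp_of_bounded_homology (c - N) d K ⟨c, d, hcd⟩ (fun i => ?_)⟩
    by_cases hi : i < c ∨ d < i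
    · have := hcd i hi
      apply torAmp_of_isZero
      exact Functor.map_isZero _ (ModuleCat.isZero_of_subsingleton _)
    · have hle : n i ≤ N := Finset.le_sup (f := n) (Finset.mem_Icc.2 ⟨by omega, by omega⟩)
      exact torAmp_mono _ (-(n i : ℤ)) 0 _ _ (by omega) (by omega)
        ((hasTorDimLE_iff_torAmp (Dual.HD A K i) (n i)).1 (hn i))



/-- Let A be a commutative ring all of whose modules have finite tor dimension (for instance A of finite
global dimension) and K ∈ D(A). (i) K has finite tor dimension if and only if K has bounded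
cohomology. (ii) K is perfect if and only if K has bounded cohomology and is pseudo-coherent. -/
theorem result {A : Type u} [CommRing A]
    (hA : ∀ (M : Type u) [AddCommGroup M] [Module A M], DRing.HasFiniteTorDim A M) (K : Dual.D A) :
    (DRing.HasFiniteTorDimCx A K ↔ ∃ a b : ℤ, ∀ i : ℤ, i < a ∨ b < i → Subsingleton (Dual.HD A K i)) ∧
      (DRing.IsPerfect A K ↔
        (∃ a b : ℤ, ∀ i : ℤ, i < a ∨ b < i → Subsingleton (Dual.HD A K i)) ∧ DRing.IsPseudoCoherent' A K) := by
  exact ⟨finTor_iff hA K, by
    rw [Groth.Agent.Lib.Helper16.PC.isPerfect_iff_pc'_and_finiteTorDim, finTor_iff hA K, and_comm]⟩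

end Groth.Agent.S5612
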