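import Groth.Statements.S6194
import Groth.Agent.Lib.Helper1.LocPerf7
import Groth.Agent.Lib.Helper1.LocPerf5
import Groth.Agent.S0914
import Groth.Agent.S5612

set_option autoImplicit false
universe u
open CategoryTheory CategoryTheory.Limits AlgebraicGeometry
attribute [local instance] HasDerivedCategory.standard
open KSix

namespace Groth.Agent.S6194

open Groth.Agent.Lib.Helper16.RS Groth.Agent.Lib.Helper16.PC DerivedCategory
  Groth.Agent.Lib.Helper1.LocPC Groth.Agent.Lib.Helper1.LocPerf Groth.Agent.Lib.Helper16.Stk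

/-- Let X be a scheme such that, at every point x, every module over the local ring of X at x has finite
tor dimension (for instance a regular scheme), and let E ∈ D(O_X), given by a cochain complex F,
have bounded cohomology. Then E is pseudo-coherent if and only if E is perfect. (The published
statement is for a ringed topos with enough points; this row is the case of schemes.) -/
theorem result {X : Scheme.{u}}
    (hX : ∀ (x : X) (M : Type u) [AddCommGroup M] [Module (X.presheaf.stalk x) M], DRing.HasFiniteTorDim (X.presheaf.stalk x) M)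
    (F : CochainComplex X.Modules ℤ) (c d : ℤ) [(DCoh.toD X F).IsGE c] [(DCoh.toD X F).IsLE d] :
    (∀ m : ℤ, DCoh.IsPseudoCoherentD m (DCoh.toD X F)) ↔ DCoh.IsPerfect (DCoh.toD X F) := by
  constructor
  swap
  · intro h
    exact ((Groth.Agent.S0914.result _).1 h).1
  intro h
  rw [isPerfect_iff_isOn _ F (Iso.refl _)]
  intro x
  -- the stalk complex at `x` has bounded cohomology, hence finite tor dimension
  have hge : ((DerSch.stalkFunctor X x).mapDerivedCategory.obj (DCoh.toD X F)).IsGE c :=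
    map_isGE _ _ c inferInstance
  have hle : ((DerSch.stalkFunctor X x).mapDerivedCategory.obj (DCoh.toD X F)).IsLE d :=
    map_isLE _ _ d inferInstance
  have hft : DRing.HasFiniteTorDimCx (X.presheaf.stalk x)
      ((DerSch.stalkFunctor X x).mapDerivedCategory.obj (DCoh.toD X F)) := by
    refine (Groth.Agent.S5612.result (hX x) _).1.2 ⟨c, d, fun i hi => ?_⟩
    rcases hi with hi | hi
    · exact ModuleCat.subsingleton_of_isZero (DerivedCategory.isZero_of_isGE _ c i hi)
    · exact ModuleCat.subsingleton_of_isZero (DerivedCategory.isZero_of_isLE _ d i hi)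
  obtain ⟨a', b, E₀, hE₀, hflat, ⟨e₀⟩⟩ := hft
  have htor : DRing.HasTorAmplitudeIn (X.presheaf.stalk x) (min a' c) b
      ((DerSch.stalkFunctor X x).mapDerivedCategory.obj (DCoh.toD X F)) :=
    ⟨E₀, fun i hi => hE₀ i (by
      rcases hi with hi | hi
      · exact Or.inl (lt_of_lt_of_le hi (min_le_left _ _))
      · exact Or.inr hi), hflat, ⟨e₀⟩⟩
  obtain ⟨V, hx, hV⟩ := (isPseudoCoherentD_iff (min a' c - 1) _).1 (h (min a' c - 1)) x
  obtain ⟨x₁, hx₁⟩ : ∃ x₁ : V, V.ι x₁ = x := ⟨⟨x, hx⟩, rfl⟩
  subst hx₁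
  have hge' : ((RD V.ι).obj (DCoh.toD X F)).IsGE (min a' c) := by
    haveI : (DCoh.toD X F).IsGE (min a' c) := DerivedCategory.TStructure.t.isGE_of_ge _ _ _ (min_le_right a' c)
    exact map_isGE _ _ _ inferInstance
  obtain ⟨W, E, hxW, hE, ⟨e⟩⟩ := exists_nhd_strictlyPerfect_of_pc_of_stalk_torAmp
    ((RD V.ι).obj (DCoh.toD X F)) (min a' c) b x₁ hV hge'
    (stalk_torAmp_restrict V.ι x₁ _ _ _ htor)
  refine ⟨V.ι ''ᵁ W, ⟨x₁, hxW, rfl⟩, IsOn.image V W ⟨E, hE, ⟨?_⟩⟩⟩
  exact (RDQIso W.ι _).symm ≪≫ (RD W.ι).mapIso (RDQIso V.ι F).symm ≪≫ e.symm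

end Groth.Agent.S6194
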