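import Groth.Statements.S6518
import Groth.Agent.Lib.Helper1.LocFree4
import Groth.Agent.Lib.Helper17.CohKer
import Groth.Agent.S0890
import Groth.Agent.S0889

set_option autoImplicit false
universe u
open CategoryTheory
attribute [local instance] HasDerivedCategory.standard
open DCoh

namespace Groth.Agent.S6518

open Groth.Agent.Lib.Helper16.RS Groth.Agent.Lib.Helper16.PC DerivedCategory
  Groth.Agent.Lib.Helper1.LocPC Groth.Agent.Lib.Helper1.LocPerf Groth.Agent.Lib.Helper1.LocFree
  Groth.Agent.Lib.Helper29.FPDict CategoryTheory.Limits AlgebraicGeometry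

variable {U : Scheme.{u}}

/-- a finite free module in Mathlib's sense is finite locally free. -/
theorem isFinLocFree_free (I : Type u) [Finite I] :
    FlatMod.IsFinLocFree (SheafOfModules.free.{u} I : U.Modules) := by
  have e : (SheafOfModules.free.{u} I : U.Modules) ≅ FlatMod.freeMod U (Nat.card I) :=
    Sigma.whiskerEquiv (f := fun _ : I => SheafOfModules.unit U.ringCatSheaf)
      (g := fun _ : Fin (Nat.card I) => Coh.structureModule U) (Finite.equivFin I)
      (fun _ => Iso.refl _)
  exact isFinLocFree_of_iso e.symm (isFinLocFree_freeMod _)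

theorem isStrictlyPerfect_single (P : U.Modules) (hP : FlatMod.IsFinLocFree P) :
    DCoh.IsStrictlyPerfect ((CochainComplex.singleFunctor U.Modules 0).obj P) := by
  refine ⟨⟨0, 0, fun i hi => ?_⟩, fun i => ?_⟩
  · exact HomologicalComplex.isZero_single_obj_X _ _ _ _ (by omega)
  · by_cases hi : i = 0
    · subst hi
      exact isFinLocFree_of_iso (HomologicalComplex.singleObjXSelf (ComplexShape.up ℤ) 0 P).symm hP
    · exact isFinLocFree_of_isZero _ (HomologicalComplex.isZero_single_obj_X _ _ _ _ hi)

theorem good_single_map {P M : U.Modules} (π : P ⟶ M) [Epi π] :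
    Good 0 ((singleFunctor U.Modules 0).map π) := by
  refine ⟨fun i hi => ?_, ?_⟩
  · have h1 : IsZero ((homologyFunctor U.Modules i).obj ((singleFunctor U.Modules 0).obj P)) :=
      isZero_of_isLE _ 0 i hi
    have h2 : IsZero ((homologyFunctor U.Modules i).obj ((singleFunctor U.Modules 0).obj M)) :=
      isZero_of_isLE _ 0 i hi
    exact ⟨⟨0, h1.eq_of_src _ _, h2.eq_of_src _ _⟩⟩
  · have h := NatIso.naturality_2 (singleFunctorCompHomologyFunctorIso U.Modules 0) π
    simp only [Functor.comp_map, Functor.id_map] at h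
    rw [← h]
    infer_instance

theorem pcat_single_of_epi {P M : U.Modules} (hP : FlatMod.IsFinLocFree P) (π : P ⟶ M) [Epi π] :
    PCat 0 (DCoh.inD U M) :=
  ⟨(CochainComplex.singleFunctor U.Modules 0).obj P, (singleFunctor U.Modules 0).map π,
    isStrictlyPerfect_single P hP, good_single_map π⟩

theorem pcat_single (P : U.Modules) (hP : FlatMod.IsFinLocFree P) (m : ℤ) :
    PCat m (DCoh.inD U P) :=
  ⟨(CochainComplex.singleFunctor U.Modules 0).obj P, 𝟙 (DCoh.inD U P),
    isStrictlyPerfect_single P hP, good_of_isIso m (𝟙 (DCoh.inD U P))⟩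

theorem isPseudoCoherentD_of_pcat {m : ℤ} {K : DCoh.D U} (h : PCat m K) :
    DCoh.IsPseudoCoherentD m K := by
  rw [isPseudoCoherentD_iff]
  intro x
  exact ⟨⊤, trivial, h.restrict _⟩

theorem pcAt_of_restrict {X : Scheme.{u}} (V : X.Opens) (K : DCoh.D X) (m : ℤ)
    (h : DCoh.IsPseudoCoherentD m ((RD V.ι).obj K)) (x : X) (hx : x ∈ V) : PCAt m K x := by
  obtain ⟨W, hxW, hW⟩ := (isPseudoCoherentD_iff m _).1 h ⟨x, hx⟩
  exact ⟨V.ι ''ᵁ W, ⟨⟨x, hx⟩, hxW, rfl⟩, PCat.image V W hW⟩

/-- restriction commutes with placing a module in degree `0`. -/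
noncomputable def restrictInDIso {X : Scheme.{u}} (V : X.Opens) (F : X.Modules) :
    (RD V.ι).obj (DCoh.inD X F) ≅ DCoh.inD (V : Scheme.{u}) (F.restrict V.ι) :=
  ((Scheme.Modules.restrictFunctor V.ι).mapDerivedCategorySingleFunctor 0).app F

theorem isPseudoCoherentD_of_iso {m : ℤ} {K K' : DCoh.D U} (e : K ≅ K')
    (h : DCoh.IsPseudoCoherentD m K) : DCoh.IsPseudoCoherentD m K' := by
  rw [isPseudoCoherentD_iff] at h ⊢
  exact fun x => (h x).of_iso e

theorem isPseudoCoherentD_of_two_step {A B N : U.Modules} (hA : FlatMod.IsFinLocFree A)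
    (hB : FlatMod.IsFinLocFree B) (π : A ⟶ N) [Epi π] (ρ : B ⟶ kernel π) [Epi ρ] :
    DCoh.IsPseudoCoherentD (-1) (DCoh.inD U N) := by
  let S : ShortComplex U.Modules := ShortComplex.mk (kernel.ι π) π (kernel.condition _)
  have hS : S.ShortExact :=
    { exact := ShortComplex.exact_of_f_is_kernel S (kernelIsKernel _)
      mono_f := inferInstanceAs (Mono (kernel.ι π))
      epi_g := inferInstanceAs (Epi π) }
  have h1 : DCoh.IsPseudoCoherentD (-1 + 1) hS.singleTriangle.obj₁ :=
    isPseudoCoherentD_of_pcat (pcat_single_of_epi hB ρ)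
  have h2 : DCoh.IsPseudoCoherentD (-1) hS.singleTriangle.obj₂ :=
    isPseudoCoherentD_of_pcat (pcat_single _ hA (-1))
  exact (Groth.Agent.S0889.result (-1) hS.singleTriangle hS.singleTriangle_distinguished).1 h1 h2

open AlgebraicGeometry in
/-- Let X be a scheme and F an O_X-module, viewed as an object of D(O_X) placed in degree 0. Then (1)
finite type of the O_X-module F is equivalent to F being 0-pseudo-coherent, and (2) F admits a
finite presentation as an O_X-module exactly when it is (−1)-pseudo-coherent. (The published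
statement is for ringed spaces; this row is for schemes.) -/
theorem result {X : Scheme.{u}} (F : X.Modules) :
    (DCoh.IsPseudoCoherentD 0 (DCoh.inD X F) ↔ CohB1.IsFT F) ∧
    (DCoh.IsPseudoCoherentD (-1) (DCoh.inD X F) ↔ CohB1.IsFP F) := by
  have hvan : ∀ i : ℤ, 0 < i → IsZero (DCoh.HD (DCoh.inD X F) i) := fun i hi =>
    isZero_of_isLE _ 0 i hi
  have e0 : DCoh.HD (DCoh.inD X F) 0 ≅ F := (singleFunctorCompHomologyFunctorIso X.Modules 0).app F
  refine ⟨⟨fun h => ?_, fun h => ?_⟩, ⟨fun h => ?_, fun h => ?_⟩⟩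
  · haveI : SheafOfModules.IsFiniteType.{u} (R := X.ringCatSheaf) (DCoh.HD (DCoh.inD X F) 0) :=
      (Groth.Agent.S0890.result 0 (DCoh.inD X F) h).1 hvan
    exact Groth.Agent.Lib.Helper17.CohKer.isFiniteType_of_epi e0.hom
  · haveI : SheafOfModules.IsFiniteType.{u} (R := X.ringCatSheaf) F := h
    rw [isPseudoCoherentD_iff]
    intro x
    obtain ⟨ι, V, σ, hσ, hcov, -⟩ :=
      Groth.Agent.Lib.Helper28.FinType.exists_isOpenCover_generatingSections F
    have hx : x ∈ ⨆ i, V i := by rw [hcov]; trivial
    obtain ⟨i, hi⟩ := TopologicalSpace.Opens.mem_iSup.1 hx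
    refine ⟨V i, hi, PCat.of_iso ?_ (restrictInDIso (V i) F).symm⟩
    haveI := hσ i
    haveI : Finite (σ i).I := SheafOfModules.GeneratingSections.IsFiniteType.finite
    exact @pcat_single_of_epi _ _ _ (isFinLocFree_free (σ i).I) (σ i).π (σ i).epi
  · have h1 := (Groth.Agent.S0890.result (-1) (DCoh.inD X F) h).2
      (fun i hi => hvan i (by omega))
    have h2 : SheafOfModules.IsFinitePresentation.{u} (R := X.ringCatSheaf)
        (DCoh.HD (DCoh.inD X F) 0) := h1
    exact @isFinitePresentation_of_iso _ _ _ e0 h2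
  · haveI : SheafOfModules.IsFinitePresentation.{u} (R := X.ringCatSheaf) F := h
    rw [isPseudoCoherentD_iff]
    intro x
    obtain ⟨ι, V, P, hP, hcov, -⟩ := exists_isOpenCover_presentation_finite F
    have hx : x ∈ ⨆ i, V i := by rw [hcov]; trivial
    obtain ⟨i, hi⟩ := TopologicalSpace.Opens.mem_iSup.1 hx
    refine pcAt_of_restrict (V i) _ (-1) ?_ x hi
    refine isPseudoCoherentD_of_iso (restrictInDIso (V i) F).symm ?_
    haveI := hP i
    haveI : Finite (P i).generators.I := SheafOfModules.GeneratingSections.IsFiniteType.finite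
    haveI : Finite (P i).relations.I := SheafOfModules.GeneratingSections.IsFiniteType.finite
    exact @isPseudoCoherentD_of_two_step _ _ _ _ (isFinLocFree_free (P i).generators.I)
      (isFinLocFree_free (P i).relations.I) (P i).generators.π (P i).generators.epi
      (P i).relations.π (P i).relations.epi

end Groth.Agent.S6518
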