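import Groth.Statements.S1005
import Groth.Agent.S6194
import Groth.Agent.S6518
import Groth.Agent.S6946
import Groth.Agent.S0889
import Groth.Agent.Lib.helper11.GlDimRegular
import Groth.Agent.Lib.Helper16.TorAmp9
import Groth.Agent.Lib.Helper16.DerTrunc2
import Groth.Agent.Lib.Helper1.LocFree9

set_option autoImplicit false
universe u
open CategoryTheory CategoryTheory.Limits AlgebraicGeometry
attribute [local instance] HasDerivedCategory.standard
open Perf

namespace Groth.Agent.S1005

open Groth.Agent.Lib.Helper16.RS Groth.Agent.Lib.Helper16.PC DerivedCategory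
  Groth.Agent.Lib.Helper1.LocPC Groth.Agent.Lib.Helper1.LocPerf Groth.Agent.Lib.Helper1.LocFree
  Groth.Agent.Lib.Helper29.FPDict CategoryTheory.Limits AlgebraicGeometry
  Groth.Agent.S6518

/-- Serre: over a regular local ring every module has finite tor dimension. -/
theorem hasFiniteTorDim_of_regular (A : Type u) [CommRing A] [IsRegularLocalRing A]
    (M : Type u) [AddCommGroup M] [Module A M] : DRing.HasFiniteTorDim A M := by
  have hd : ringKrullDim A = ((IsLocalRing.maximalIdeal A).spanFinrank : ℕ) :=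
    (IsRegularLocalRing.spanFinrank_maximalIdeal).symm
  haveI := Groth.Agent.Lib.helper11.GlDimRegular.hasProjectiveDimensionLT_of_isRegularLocalRing
    (IsLocalRing.maximalIdeal A).spanFinrank hd (ModuleCat.of A M)
  exact ⟨(IsLocalRing.maximalIdeal A).spanFinrank,
    (Groth.Agent.S6946.result A M _).1.2
      (Groth.Agent.Lib.Helper16.TorAmp.torAmp_of_projDim (ModuleCat.of A M) _)⟩

theorem pc_step {U : Scheme.{u}} {A N : U.Modules} (hA : FlatMod.IsFinLocFree A)
    (π : A ⟶ N) [Epi π] (m : ℤ) (h : DCoh.IsPseudoCoherentD (m + 1) (DCoh.inD U (kernel π))) :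
    DCoh.IsPseudoCoherentD m (DCoh.inD U N) := by
  let S : ShortComplex U.Modules := ShortComplex.mk (kernel.ι π) π (kernel.condition _)
  have hS : S.ShortExact :=
    { exact := ShortComplex.exact_of_f_is_kernel S (kernelIsKernel _)
      mono_f := inferInstanceAs (Mono (kernel.ι π))
      epi_g := inferInstanceAs (Epi π) }
  have h1 : DCoh.IsPseudoCoherentD (m + 1) hS.singleTriangle.obj₁ := h
  have h2 : DCoh.IsPseudoCoherentD m hS.singleTriangle.obj₂ :=
    isPseudoCoherentD_of_pcat (pcat_single _ hA m)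
  exact (Groth.Agent.S0889.result m hS.singleTriangle hS.singleTriangle_distinguished).1 h1 h2

/-- a coherent module on a locally Noetherian scheme is `(-k)`-pseudo-coherent for every `k`. -/
theorem pc_of_coh : ∀ (k : ℕ) (X : Scheme.{u}) [IsLocallyNoetherian X] (F : X.Modules)
    [F.IsQuasicoherent] [SheafOfModules.IsFiniteType.{u} (R := X.ringCatSheaf) F],
    DCoh.IsPseudoCoherentD (-(k : ℤ)) (DCoh.inD X F) := by
  intro k
  induction k with
  | zero =>
    intro X _ F _ hF
    exact (Groth.Agent.S6518.result F).1.2 hF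
  | succ k ih =>
    intro X _ F _ hF
    rw [isPseudoCoherentD_iff]
    intro x
    obtain ⟨ι, V, σ, hσ, hcov, -⟩ :=
      Groth.Agent.Lib.Helper28.FinType.exists_isOpenCover_generatingSections F
    have hx : x ∈ ⨆ i, V i := by rw [hcov]; trivial
    obtain ⟨i, hi⟩ := TopologicalSpace.Opens.mem_iSup.1 hx
    refine pcAt_of_restrict (V i) _ _ ?_ x hi
    refine isPseudoCoherentD_of_iso (restrictInDIso (V i) F).symm ?_
    haveI := hσ i
    haveI : Finite (σ i).I := SheafOfModules.GeneratingSections.IsFiniteType.finite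
    have hfree := isFinLocFree_free (U := (V i : Scheme.{u})) (σ i).I
    haveI hepi : Epi (σ i).π := (σ i).epi
    haveI hqcfree : (SheafOfModules.free.{u} (σ i).I : (V i : Scheme.{u}).Modules).IsQuasicoherent :=
      Groth.Agent.Lib.Helper29.FreeIso.isQuasicoherent_of_isFinLocFree _ hfree
    haveI hftfree : SheafOfModules.IsFiniteType.{u} (R := (V i : Scheme.{u}).ringCatSheaf)
        (SheafOfModules.free.{u} (σ i).I : (V i : Scheme.{u}).Modules) := by
      haveI := Groth.Agent.Lib.Helper29.FPFree.isFinitePresentation_of_isFinLocFree _ hfree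
      exact isFiniteType_of_isFinitePresentation _
    haveI hqk : (kernel (σ i).π).IsQuasicoherent :=
      Groth.Agent.Lib.Helper17.CohKer.isQuasicoherent_kernel (σ i).π
    haveI hfk : SheafOfModules.IsFiniteType.{u} (R := (V i : Scheme.{u}).ringCatSheaf)
        (kernel (σ i).π) :=
      Groth.Agent.Lib.Helper17.CohKer.isFiniteType_kernel (σ i).π
    refine @pc_step _ _ _ hfree (σ i).π hepi _ ?_
    have e : (-((k + 1 : ℕ) : ℤ) + 1) = -(k : ℤ) := by push_cast; ring
    rw [e]
    exact @ih (V i : Scheme.{u}) inferInstance (kernel (σ i).π) hqk hfk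

/-- a coherent module on a locally Noetherian scheme is `m`-pseudo-coherent for every `m`. -/
theorem pc_all_of_coh {X : Scheme.{u}} [IsLocallyNoetherian X] (F : X.Modules)
    (hF : Coh.IsCoh F) (m : ℤ) : DCoh.IsPseudoCoherentD m (DCoh.inD X F) := by
  haveI := hF.1
  haveI := hF.2
  have h := pc_of_coh (-m).toNat X F
  rw [isPseudoCoherentD_iff] at h ⊢
  exact fun x => (h x).of_le (by omega)

/-- the same in any degree. -/
theorem pc_single_of_coh {X : Scheme.{u}} [IsLocallyNoetherian X] (F : X.Modules)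
    (hF : Coh.IsCoh F) (j m : ℤ) :
    DCoh.IsPseudoCoherentD m ((singleFunctor X.Modules j).obj F) := by
  have h := pc_all_of_coh F hF (m - j)
  rw [isPseudoCoherentD_iff] at h ⊢
  intro x
  exact ((h x).shift (-j) m (by omega)).of_iso
    (((singleFunctors X.Modules).shiftIso (-j) j 0 (by omega)).app F)

/-- a bounded object with coherent cohomology is pseudo-coherent. -/
theorem pc_of_bounded_coh {X : Scheme.{u}} [IsLocallyNoetherian X] (K : DCoh.D X) (a b : ℤ)
    [K.IsGE a] [K.IsLE b] (hK : DCoh.IsCohD K) (m : ℤ) : DCoh.IsPseudoCoherentD m K := by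
  obtain ⟨n, hn⟩ : ∃ n : ℕ, b + 1 ≤ a + n := ⟨(b + 1 - a).toNat, by omega⟩
  haveI : K.IsLE (a + n - 1) := (TStructure.t).isLE_of_le K b (a + n - 1) (by omega)
  refine Groth.Agent.Lib.Helper16.DerT.bounded_induction
    (fun K : DCoh.D X => ∀ m, DCoh.IsPseudoCoherentD m K) ?_ ?_ ?_ n a (a + n - 1) (by omega) K
    (fun j _ _ m => pc_single_of_coh _ (hK j) j m) m
  · intro K K' e h m
    exact isPseudoCoherentD_of_iso e (h m)
  · intro K hK m
    haveI : K.IsLE (m - 1) := (TStructure.t).isLE_of_isZero hK _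
    have := PCat.of_isLE K (m - 1) inferInstance
    rw [show m - 1 + 1 = m by omega] at this
    exact isPseudoCoherentD_of_pcat this
  · intro T hT h1 h3 m
    exact (Groth.Agent.S0889.result m T hT).2.1 (h1 m) (h3 m)

/-- Let X be a locally Noetherian scheme all of whose local rings are regular. Then every object of
D(O_X) with bounded, coherent cohomology is perfect. -/
theorem result (X : Scheme.{u}) [IsLocallyNoetherian X]
    (hreg : ∀ x : X, IsRegularLocalRing (X.presheaf.stalk x))
    (K : DCoh.D X) (a b : ℤ) [K.IsGE a] [K.IsLE b] (hK : DCoh.IsCohD K) : DCoh.IsPerfect K := by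
  obtain ⟨F₀, ⟨e₀⟩⟩ := exists_rep K
  haveI : (DCoh.toD X F₀).IsGE a := (TStructure.t).isGE_of_iso e₀.symm a
  haveI : (DCoh.toD X F₀).IsLE b := (TStructure.t).isLE_of_iso e₀.symm b
  refine isPerfect_of_iso e₀ ?_
  refine (Groth.Agent.S6194.result (fun x M _ _ => ?_) F₀ a b).1 (fun m => ?_)
  · haveI := hreg x
    exact hasFiniteTorDim_of_regular _ M
  · exact isPseudoCoherentD_of_iso e₀.symm (pc_of_bounded_coh K a b hK m)

end Groth.Agent.S1005
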