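import Groth.Statements.S1039
import Groth.Agent.S1005
import Groth.Agent.Lib.Helper2.AffExt2
import Groth.Agent.S0890

set_option autoImplicit false
universe u
open CategoryTheory CategoryTheory.Limits AlgebraicGeometry
attribute [local instance] HasDerivedCategory.standard
open Perf

namespace Groth.Agent.S1039

open Groth.Agent.Lib.Helper16.RS Groth.Agent.Lib.Helper16.PC DerivedCategory
  Groth.Agent.Lib.Helper1.LocPC Groth.Agent.Lib.Helper1.LocPerf Groth.Agent.Lib.Helper1.LocFree
  Groth.Agent.Lib.Helper29.FPDict CategoryTheory.Limits AlgebraicGeometry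
  Groth.Agent.S6518

/-- the zero module is coherent. -/
theorem isCoh_of_isZero {X : Scheme.{u}} (M : X.Modules) (hM : IsZero M) : Coh.IsCoh M := by
  have h := isFinLocFree_of_isZero M hM
  refine ⟨Groth.Agent.Lib.Helper29.FreeIso.isQuasicoherent_of_isFinLocFree _ h, ?_⟩
  haveI := Groth.Agent.Lib.Helper29.FPFree.isFinitePresentation_of_isFinLocFree _ h
  exact isFiniteType_of_isFinitePresentation _

/-- local data of an `m`-pseudo-coherent object. -/
theorem local_data {X : Scheme.{u}} (m : ℤ) (K : DCoh.D X)
    (hK : DCoh.IsPseudoCoherentD m K) (x : X) :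
    ∃ (V : X.Opens) (E : CochainComplex (V : Scheme.{u}).Modules ℤ) (b : ℤ), x ∈ V ∧
      DCoh.IsStrictlyPerfect E ∧ (∀ i : ℤ, b < i → IsZero (E.X i)) ∧
      ∀ i : ℤ, m ≤ i → ∃ φ : E.homology i ⟶ (DCoh.HD K i).restrict V.ι, Epi φ := by
  obtain ⟨V, hxV, E, α, hE, hα⟩ := (isPseudoCoherentD_iff m K).1 hK x
  obtain ⟨a, b, hab⟩ := hE.1
  refine ⟨V, E, b, hxV, hE, fun i hi => hab i (Or.inr hi), fun i hi => ?_⟩
  obtain ⟨e⟩ := nonempty_map_homology_iso (Scheme.Modules.restrictFunctor V.ι) K i
  refine ⟨((homologyFunctorFactors _ i).app E).inv ≫ (homologyFunctor _ i).map α ≫ e.inv, ?_⟩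
  haveI : Epi ((homologyFunctor _ i).map α) := by
    rcases hi.lt_or_eq with h | h
    · haveI := hα.1 i h
      infer_instance
    · subst h
      exact hα.2
  infer_instance

/-- Let X be a Noetherian scheme, E ∈ D(O_X) with quasi-coherent cohomology sheaves and m ∈ ℤ. Then
m-pseudo-coherence of E is equivalent to: Hⁱ(E) is coherent for every i ≥ m and vanishes for i
large. -/
theorem result (X : Scheme.{u}) [IsNoetherian X] (E : DCoh.D X) (hE : DCoh.IsQCohD E) (m : ℤ) :
    DCoh.IsPseudoCoherentD m E ↔ (∀ i : ℤ, m ≤ i → Coh.IsCoh (DCoh.HD E i)) ∧ ∃ b : ℤ, E.IsLE b := by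
  constructor
  · intro h
    choose V P b hxV hP hb hφ using local_data m E h
    constructor
    · intro i hi
      refine ⟨hE i, ?_⟩
      apply isFiniteType_of_locally
      intro x
      obtain ⟨φ, hφ'⟩ := hφ x i hi
      refine ⟨V x, hxV x, ?_⟩
      have h1 : SheafOfModules.IsFiniteType.{u} (R := (V x : Scheme.{u}).ringCatSheaf)
          ((P x).homology i) :=
        isFiniteType_homology (P x)
          (fun j => Groth.Agent.Lib.Helper29.FreeIso.isQuasicoherent_of_isFinLocFree _ ((hP x).2 j))
          (fun j => by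
            haveI := Groth.Agent.Lib.Helper29.FPFree.isFinitePresentation_of_isFinLocFree _
              ((hP x).2 j)
            exact isFiniteType_of_isFinitePresentation _) i
      exact @Groth.Agent.Lib.Helper17.CohKer.isFiniteType_of_epi _ _ _ φ hφ' h1
    · obtain ⟨t, ht⟩ := isCompact_univ.elim_finite_subcover (fun x : X => ((V x : X.Opens) : Set X))
        (fun x => (V x).isOpen) (fun x _ => Set.mem_iUnion.2 ⟨x, hxV x⟩)
      obtain ⟨b₀, hb₀⟩ := (t.image b).exists_le
      refine ⟨max b₀ m, ?_⟩
      rw [DerivedCategory.isLE_iff]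
      intro i hi
      have hi' : b₀ < i ∧ m < i := max_lt_iff.1 hi
      apply isZero_of_locally
      intro y
      obtain ⟨x, hx⟩ := Set.mem_iUnion.1 (ht (Set.mem_univ y))
      obtain ⟨hxt, hyx⟩ := Set.mem_iUnion.1 hx
      obtain ⟨φ, hφ'⟩ := hφ x i hi'.2.le
      refine ⟨V x, hyx, ?_⟩
      have h2 : b x ≤ b₀ := hb₀ _ (Finset.mem_image_of_mem b hxt)
      have hz : IsZero ((P x).homology i) :=
        isZero_homology_of_isZero _ _ (hb x i (by omega))
      rw [IsZero.iff_id_eq_zero, ← cancel_epi φ]
      exact hz.eq_of_src _ _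
  · rintro ⟨hcoh, b, hb⟩
    have hT := (TStructure.t (C := X.Modules)).triangleLTGE_distinguished m E
    have h1 : DCoh.IsPseudoCoherentD m (((TStructure.t (C := X.Modules)).truncLT m).obj E) := by
      have : (((TStructure.t (C := X.Modules)).truncLT m).obj E).IsLE (m - 1) := by
        show (TStructure.t (C := X.Modules)).IsLE _ (m - 1)
        infer_instance
      have := PCat.of_isLE _ (m - 1) this
      rw [show m - 1 + 1 = m by omega] at this
      exact isPseudoCoherentD_of_pcat this
    have h3 : DCoh.IsPseudoCoherentD m (((TStructure.t (C := X.Modules)).truncGE m).obj E) := by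
      haveI : (((TStructure.t (C := X.Modules)).truncGE m).obj E).IsGE m := by
        show (TStructure.t (C := X.Modules)).IsGE _ m
        infer_instance
      haveI : (((TStructure.t (C := X.Modules)).truncGE m).obj E).IsLE b := by
        show (TStructure.t (C := X.Modules)).IsLE _ b
        infer_instance
      refine Groth.Agent.S1005.pc_of_bounded_coh _ m b (fun i => ?_) m
      by_cases hi : m ≤ i
      · haveI := Groth.Agent.Lib.Helper16.DerT.isIso_homologyMap_truncGEπ E m i hi
        have e : DCoh.HD E i ≅ DCoh.HD (((TStructure.t (C := X.Modules)).truncGE m).obj E) i :=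
          asIso ((homologyFunctor X.Modules i).map
            (((TStructure.t (C := X.Modules)).truncGEπ m).app E))
        have hc := hcoh i hi
        haveI : (DCoh.HD E i).IsQuasicoherent := hc.1
        haveI : SheafOfModules.IsFiniteType.{u} (R := X.ringCatSheaf) (DCoh.HD E i) := hc.2
        exact ⟨Groth.Agent.Lib.Helper2.AffExt2.isQuasicoherent_of_iso e,
          Groth.Agent.Lib.Helper17.CohKer.isFiniteType_of_epi e.hom⟩
      · exact isCoh_of_isZero _ (isZero_of_isGE _ m i (by omega))
    exact (Groth.Agent.S0889.result m _ hT).2.1 h1 h3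

end Groth.Agent.S1039
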