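import Groth.Statements.S12451
import Groth.Agent.Lib.Helper29.TildeBridge
import Groth.Agent.Lib.Helper29.FreeIso6

set_option autoImplicit false
universe u
open CategoryTheory AlgebraicGeometry
open Props

namespace Groth.Agent.S12451

open TopologicalSpace Opposite
open Groth.Agent.Lib.Helper28.QCohLoc Groth.Agent.Lib.Helper29.QCohStalk Groth.Agent.Lib.Helper29.TildeBridge
open Groth.Agent.Lib.Helper29.FreeIso

attribute [local instance] RingHomInvPair.of_ringEquiv RingHomInvPair.of_ringEquiv_symm in
theorem free_of_isLocalizedModule_of_free {R : Type*} [CommRing R] (S : Submonoid R) {R₁ R₂ M M₁ M₂ : Type*}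
    [CommRing R₁] [CommRing R₂] [Algebra R R₁] [Algebra R R₂] [IsLocalization S R₁] [IsLocalization S R₂]
    [AddCommGroup M] [Module R M] [AddCommGroup M₁] [Module R M₁] [Module R₁ M₁] [IsScalarTower R R₁ M₁]
    [AddCommGroup M₂] [Module R M₂] [Module R₂ M₂] [IsScalarTower R R₂ M₂] (f₁ : M →ₗ[R] M₁) (f₂ : M →ₗ[R] M₂)
    [IsLocalizedModule S f₁] [IsLocalizedModule S f₂] [Module.Free R₁ M₁] : Module.Free R₂ M₂ := by
  set e := (IsLocalization.algEquiv S R₁ R₂).toRingEquiv
  refine Module.Free.of_equiv (M := M₁) (R := R₁) (σ := (e : R₁ →+* R₂)) (σ' := (e.symm : R₂ →+* R₁))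
    { __ := IsLocalizedModule.linearEquiv S f₁ f₂
      map_smul' := ?_ }
  intro r m
  obtain ⟨r, s, rfl⟩ := IsLocalization.exists_mk'_eq S r
  apply ((Module.End.isUnit_iff _).mp (IsLocalizedModule.map_units f₂ s)).1
  dsimp [e]
  simp only [← map_smul, ← smul_assoc, IsLocalization.smul_mk'_self, algebraMap_smul]
  rw [AlgEquiv.commutes, algebraMap_smul, map_smul]

/-- the basic open `D(g)` of `Spec R` as an open of the scheme -/
abbrev D {R : CommRingCat.{u}} (g : R) : (Spec R).Opens := PrimeSpectrum.basicOpen g

theorem isAffineOpen_D {R : CommRingCat.{u}} (g : R) : IsAffineOpen (D g) := by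
  have h := (isAffineOpen_top (Spec R)).basicOpen ((Scheme.ΓSpecIso R).inv g)
  rwa [basicOpen_eq_of_affine] at h

/-- the localization map `M → Γ(tilde M, D(g))` -/
noncomputable def φ {R : CommRingCat.{u}} (M : ModuleCat.{u} R) (g : R) : M →ₗ[R] Γ(tilde M, D g) :=
  (tilde.toOpen M (D g)).hom

instance {R : CommRingCat.{u}} (M : ModuleCat.{u} R) (g : R) : IsLocalizedModule.Away g (φ M g) :=
  inferInstanceAs (IsLocalizedModule.Away g (tilde.toOpen M (PrimeSpectrum.basicOpen g)).hom)

/-- For a commutative ring R and an R-module M, the associated quasi-coherent module M~ on Spec R is a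
finite locally free O-module exactly when M is finitely generated and projective over R
(equivalently, a finite locally free R-module). -/
theorem result {R : CommRingCat.{u}} (M : ModuleCat.{u} R) :
    FlatMod.IsFinLocFree (tilde M) ↔ Module.Finite R M ∧ Module.Projective R M := by
  constructor
  · intro h
    let s : Set R := {g | Module.Free Γ(Spec R, D g) Γ(tilde M, D g) ∧ Module.Finite Γ(Spec R, D g) Γ(tilde M, D g)}
    have hs : Ideal.span s = ⊤ := by
      by_contra hne
      obtain ⟨m, hm, hle⟩ := Ideal.exists_le_maximal _ hne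
      let p : Spec R := ⟨m, hm.isPrime⟩
      obtain ⟨U, n, hpU, ⟨e⟩⟩ := h p
      obtain ⟨τ, hτ, hgen⟩ := exists_isBasisOn_of_iso' (tilde M) U n e
      obtain ⟨_, ⟨_, ⟨g, rfl⟩, rfl⟩, hpg, hgU⟩ := PrimeSpectrum.isBasis_basic_opens.exists_subset_of_mem_open hpU U.2
      have hgU' : D g ≤ U := hgU
      have hli : LinearIndependent Γ(Spec R, D g) (fun j => res (tilde M) hgU' (τ j)) :=
        Fintype.linearIndependent_iff.2 fun c hc => hτ.1 (D g) hgU' c hc
      have hspan : Submodule.span Γ(Spec R, D g) (Set.range fun j => res (tilde M) hgU' (τ j)) = ⊤ := by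
        rw [eq_top_iff]
        rintro t -
        obtain ⟨c, hc⟩ := hgen (D g) hgU' t
        rw [hc]
        exact Submodule.sum_mem _ fun j _ => Submodule.smul_mem _ _ (Submodule.subset_span ⟨j, rfl⟩)
      have hgs : g ∈ s := ⟨Module.Free.of_basis (Module.Basis.mk hli hspan.ge),
        Module.Finite.of_basis (Module.Basis.mk hli hspan.ge)⟩
      exact hpg (hle (Ideal.subset_span hgs))
    haveI hloc : ∀ g : s, IsLocalization.Away g.1 Γ(Spec R, D g.1) := fun g => inferInstance
    have hfp : Module.FinitePresentation R M := by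
      refine Module.FinitePresentation.of_localizationSpan' s hs (Rₚ := fun g => Γ(Spec R, D g.1))
        (Mₚ := fun g => Γ(tilde M, D g.1)) (fun g => φ M g.1) (fun g => ?_)
      haveI := g.2.1
      haveI := g.2.2
      exact Module.finitePresentation_of_projective _ _
    have hflat : Module.Flat R M := by
      refine Module.flat_of_isLocalized_span R M s hs (fun g => Γ(tilde M, D g.1)) (fun g => φ M g.1) (fun g => ?_)
      haveI := g.2.1
      haveI : Module.Flat R Γ(Spec R, D g.1) := IsLocalization.flat _ (Submonoid.powers g.1)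
      exact Module.Flat.trans R Γ(Spec R, D g.1) Γ(tilde M, D g.1)
    exact ⟨inferInstance, Module.Flat.projective_of_finitePresentation⟩
  · rintro ⟨hfin, hproj⟩ x
    haveI : Module.FinitePresentation R M := Module.finitePresentation_of_projective _ _
    haveI : x.asIdeal.IsPrime := x.isPrime
    haveI : Module.Free (Localization.AtPrime x.asIdeal) (LocalizedModule x.asIdeal.primeCompl M) :=
      Module.free_of_flat_of_isLocalRing
    obtain ⟨r, hr, hfree, -⟩ := Module.FinitePresentation.exists_free_localizedModule_powers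
      x.asIdeal.primeCompl (LocalizedModule.mkLinearMap x.asIdeal.primeCompl M)
      (Localization.AtPrime x.asIdeal)
    haveI : Module.Free Γ(Spec R, D r) Γ(tilde M, D r) :=
      free_of_isLocalizedModule_of_free (Submonoid.powers r) (R₁ := Localization (Submonoid.powers r))
        (LocalizedModule.mkLinearMap (Submonoid.powers r) M) (φ M r)
    haveI : Module.Finite Γ(Spec R, D r) Γ(tilde M, D r) :=
      Module.Finite.of_isLocalizedModule (Submonoid.powers r) (Rₚ := Γ(Spec R, D r)) (φ M r)
    haveI : Nonempty (D r) := ⟨⟨x, hr⟩⟩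
    haveI : Nontrivial Γ(Spec R, D r) := Scheme.component_nontrivial _ _
    let b := Module.finBasis Γ(Spec R, D r) Γ(tilde M, D r)
    have hB : IsBasisOn (tilde M) (D r) (fun j => b j) :=
      isBasisOn_of_basis (tilde M) (isAffineOpen_D r) (isLocOn_of_isQuasicoherent (tilde M) (isAffineOpen_D r))
        (fun j => b j) b.linearIndependent b.span_eq
    exact ⟨D r, _, hr, hB.nonempty_iso⟩



end Groth.Agent.S12451
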