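import Groth.Statements.S1004
import Groth.Agent.S1039
import Groth.Agent.S12451
import Groth.Agent.Lib.Helper16.TildeTor
import Groth.Agent.Lib.Helper16.PC6
import Groth.Agent.Lib.Helper16.PC5

set_option autoImplicit false
universe u
open CategoryTheory CategoryTheory.Limits AlgebraicGeometry
attribute [local instance] HasDerivedCategory.standard
open Perf

namespace Groth.Agent.S1004

open Groth.Agent.Lib.Helper16.RS Groth.Agent.Lib.Helper16.PC DerivedCategory
  Groth.Agent.Lib.Helper1.LocPC Groth.Agent.Lib.Helper1.LocPerf Groth.Agent.Lib.Helper1.LocFree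
  CategoryTheory.Limits AlgebraicGeometry CategoryTheory.Pretriangulated
  Groth.Agent.S6518

section
variable (R : CommRingCat.{u}) [PreservesFiniteLimits (tilde.functor R)]

/-- tilde of an `m`-pseudo-coherent object is `m`-pseudo-coherent. -/
theorem pc_tilde_of_pc (M : DerivedCategory (ModuleCat.{u} R)) (m : ℤ)
    (h : DRing.IsPseudoCoherent R m M) :
    DCoh.IsPseudoCoherentD m ((DCoh.tildeD R).obj M) := by
  obtain ⟨E, a, b, α, hE, hfree, hiso, hepi⟩ := h
  apply isPseudoCoherentD_of_pcat
  refine ⟨((tilde.functor R).mapHomologicalComplex (ComplexShape.up ℤ)).obj E,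
    ((tilde.functor R).mapDerivedCategoryFactors.app E).inv ≫
      (tilde.functor R).mapDerivedCategory.map α, ⟨⟨a, b, fun i hi => ?_⟩, fun i => ?_⟩, ?_⟩
  · exact (tilde.functor R).map_isZero (hE i hi)
  · haveI := (hfree i).1
    haveI := (hfree i).2
    exact (Groth.Agent.S12451.result (E.X i)).2 ⟨inferInstance, Module.Projective.of_free⟩
  · exact (good_of_isIso m _).comp (map_good (tilde.functor R) α ⟨hiso, hepi⟩)


/-- an `m`-pseudo-coherent object on a quasi-compact scheme is bounded above. -/
theorem exists_isLE_of_pc {X : Scheme.{u}} [CompactSpace X] (m : ℤ) (K : DCoh.D X)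
    (h : DCoh.IsPseudoCoherentD m K) : ∃ b : ℤ, K.IsLE b := by
  choose V P b hxV hP hb hφ using Groth.Agent.S1039.local_data m K h
  obtain ⟨t, ht⟩ := isCompact_univ.elim_finite_subcover (fun x : X => ((V x : X.Opens) : Set X))
    (fun x => (V x).isOpen) (fun x _ => Set.mem_iUnion.2 ⟨x, hxV x⟩)
  obtain ⟨b₀, hb₀⟩ := (t.image b).exists_le
  refine ⟨max b₀ m, ?_⟩
  rw [DerivedCategory.isLE_iff]
  intro i hi
  have hi' : b₀ < i ∧ m < i := max_lt_iff.1 hi
  apply isZero_of_locally
  intro y
  obtain ⟨x, hx⟩ := Set.mem_iUnion.1 (ht (Set.mem_univ y))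
  obtain ⟨hxt, hyx⟩ := Set.mem_iUnion.1 hx
  obtain ⟨φ, hφ'⟩ := hφ x i hi'.2.le
  refine ⟨V x, hyx, ?_⟩
  have h2 : b x ≤ b₀ := hb₀ _ (Finset.mem_image_of_mem b hxt)
  have hz : IsZero ((P x).homology i) :=
    isZero_homology_of_isZero _ _ (hb x i (by omega))
  rw [IsZero.iff_id_eq_zero, ← cancel_epi φ]
  exact hz.eq_of_src _ _

attribute [local instance] RingHomInvPair.of_ringEquiv in
theorem finite_of_semilinear {R S M N : Type*} [CommRing R] [CommRing S] [AddCommGroup M]
    [AddCommGroup N] [Module R M] [Module S N] (ψ : R ≃+* S) (h : M ≃+ N)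
    (hsmul : ∀ (r : R) (m : M), h (r • m) = ψ r • h m) [Module.Finite R M] :
    Module.Finite S N := by
  let e : M ≃ₛₗ[(ψ : R →+* S)] N := { h with map_smul' := fun r m => hsmul r m }
  exact Module.Finite.of_surjective e.toLinearMap e.surjective

omit [PreservesFiniteLimits (tilde.functor R)] in
/-- if `N~` is of finite type then `N` is a finite module. -/
theorem finite_of_isFiniteType_tilde (N : ModuleCat.{u} R)
    (h : SheafOfModules.IsFiniteType.{u} (R := (Spec R).ringCatSheaf) (tilde N)) :
    Module.Finite R N := by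
  haveI := h
  haveI : Module.Finite Γ(Spec R, ⊤) Γ(tilde N, ⊤) :=
    Groth.Agent.Lib.Helper28.FinType.finite_of_isAffineOpen (tilde N) (isAffineOpen_top (Spec R))
  let e := AddEquiv.ofBijective
    (AddMonoidHom.mk' (Groth.Agent.Lib.Helper29.TildeBridge.e N)
      (Groth.Agent.Lib.Helper29.TildeBridge.e_add N))
    (Groth.Agent.Lib.Helper29.TildeBridge.e_bijective N)
  refine finite_of_semilinear (Groth.Agent.Lib.Helper29.TildeBridge.ι (A := R)).symm e.symm ?_
  intro r s
  obtain ⟨n, rfl⟩ := e.surjective s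
  obtain ⟨a, rfl⟩ := (Groth.Agent.Lib.Helper29.TildeBridge.ι (A := R)).surjective r
  rw [RingEquiv.symm_apply_apply, AddEquiv.symm_apply_apply]
  apply e.injective
  rw [AddEquiv.apply_symm_apply]
  exact (Groth.Agent.Lib.Helper29.TildeBridge.e_smul N a n).symm

/-- the main induction: descending on the top cohomology. -/
theorem pc_of_pc_tilde_aux : ∀ (n : ℕ) (M : DerivedCategory (ModuleCat.{u} R)) (m b : ℤ),
    b < m + n → M.IsLE b → DCoh.IsPseudoCoherentD m ((DCoh.tildeD R).obj M) →
    DRing.IsPseudoCoherent R m M := by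
  intro n
  induction n with
  | zero =>
    intro M m b hb hM _
    exact pc_of_isLE M m b hM (by simpa using hb)
  | succ n ih =>
    intro M m b hb hM h
    by_cases hbm : b < m
    · exact pc_of_isLE M m b hM hbm
    haveI := hM
    -- the top cohomology is a finite module
    have hEle : ((DCoh.tildeD R).obj M).IsLE b := map_isLE (tilde.functor R) M b hM
    have hpcb : DCoh.IsPseudoCoherentD b ((DCoh.tildeD R).obj M) := by
      rw [isPseudoCoherentD_iff] at h ⊢
      exact fun x => (h x).of_le (by omega)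
    have hft : SheafOfModules.IsFiniteType.{u} (R := (Spec R).ringCatSheaf)
        (DCoh.HD ((DCoh.tildeD R).obj M) b) :=
      (Groth.Agent.S0890.result b _ hpcb).1 (fun i hi => isZero_of_isLE _ b i hi)
    obtain ⟨e⟩ := nonempty_map_homology_iso (tilde.functor R) M b
    have hft' : SheafOfModules.IsFiniteType.{u} (R := (Spec R).ringCatSheaf)
        (tilde ((homologyFunctor (ModuleCat.{u} R) b).obj M)) :=
      @Groth.Agent.Lib.Helper17.CohKer.isFiniteType_of_epi _ _ _ e.inv _ hft
    have hfin : Module.Finite R ((homologyFunctor (ModuleCat.{u} R) b).obj M) :=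
      finite_of_isFiniteType_tilde R _ hft'
    obtain ⟨k, f, hf⟩ :=
      Module.Finite.exists_fin' R ((homologyFunctor (ModuleCat.{u} R) b).obj M)
    let F : ModuleCat.{u} R := ModuleCat.of R (Fin k → R)
    have hF : FinFree F := ⟨(inferInstance : Module.Finite R (Fin k → R)),
      (inferInstance : Module.Free R (Fin k → R))⟩
    haveI : Projective F := finFree_proj F hF
    let ψ : F ⟶ (homologyFunctor (ModuleCat.{u} R) b).obj M := ModuleCat.ofHom f
    haveI : Epi ψ := (ModuleCat.epi_iff_surjective _).2 hf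
    obtain ⟨β, hβ⟩ := Groth.Agent.Lib.Helper8.PAmp.exists_lift_of_projective b F M ψ
    obtain ⟨C, g, w, hT⟩ := distinguished_cocone_triangle β
    have hgood : Good b β := by
      refine ⟨fun i hi => ?_, ?_⟩
      · have h1 : IsZero ((homologyFunctor (ModuleCat.{u} R) i).obj
            ((singleFunctor (ModuleCat.{u} R) b).obj F)) := isZero_of_isLE _ b i hi
        have h2 : IsZero ((homologyFunctor (ModuleCat.{u} R) i).obj M) := isZero_of_isLE _ b i hi
        exact ⟨⟨0, h1.eq_of_src _ _, h2.eq_of_src _ _⟩⟩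
      · rw [hβ]
        infer_instance
    have hC : C.IsLE (b - 1) := (good_iff_isLE _ hT b (b - 1) (by omega)).1 hgood
    -- the single object is pseudo-coherent in every degree
    have hS : ∀ m' : ℤ, DRing.IsPseudoCoherent R m' ((singleFunctor (ModuleCat.{u} R) b).obj F) :=
      fun m' => (isPseudoCoherent_iff _ _).2 (isPC_single finFree_zero finFree_iso F hF b m')
    have hT' := (DCoh.tildeD R).map_distinguished _ hT
    have h3 : DCoh.IsPseudoCoherentD m ((DCoh.tildeD R).obj C) :=
      (Groth.Agent.S0889.result m _ hT').1 (pc_tilde_of_pc R _ (m + 1) (hS (m + 1))) h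
    have hCpc : DRing.IsPseudoCoherent R m C := ih C m (b - 1) (by push_cast at hb; omega) hC h3
    exact (isPseudoCoherent_two_of_three _ hT m).2.1 (hS m) hCpc

/-- `M` is `m`-pseudo-coherent if `M~` is. -/
theorem pc_of_pc_tilde (M : DerivedCategory (ModuleCat.{u} R)) (m : ℤ)
    (h : DCoh.IsPseudoCoherentD m ((DCoh.tildeD R).obj M)) : DRing.IsPseudoCoherent R m M := by
  obtain ⟨b, hb⟩ := exists_isLE_of_pc m _ h
  have hM : M.IsLE b := by
    rw [DerivedCategory.isLE_iff]
    intro i hi
    obtain ⟨e⟩ := nonempty_map_homology_iso (tilde.functor R) M i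
    exact Groth.Agent.Lib.Helper16.TildeTor.isZero_of_isZero_tilde R _
      (IsZero.of_iso (isZero_of_isLE _ b i hi) e)
  exact pc_of_pc_tilde_aux R (b + 1 - m).toNat M m b (by omega) hM h

end

/-- Let A be a ring, M an object of D(A) and E = M~ the associated object of D(O_{Spec A}) (assuming the
tilde functor is recorded as left exact). Then m-pseudo-coherence of E in D(O_{Spec A}) is
equivalent to m-pseudo-coherence of M in D(A). -/
theorem result (A : Type u) [CommRing A] [PreservesFiniteLimits (tilde.functor (CommRingCat.of A))]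
    (M : Dual.D A) (m : ℤ) :
    DCoh.IsPseudoCoherentD m ((DCoh.tildeD (CommRingCat.of A)).obj M) ↔ DRing.IsPseudoCoherent A m M := by
  exact ⟨pc_of_pc_tilde (CommRingCat.of A) M m, pc_tilde_of_pc (CommRingCat.of A) M m⟩

end Groth.Agent.S1004
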