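import Groth.Statements.S9498
import Mathlib.CategoryTheory.Abelian.Exact
import Mathlib.Algebra.Homology.ShortComplex.ExactFunctor

set_option autoImplicit false
universe u
open AffSch

namespace Groth.Agent.S9498

open AlgebraicGeometry CategoryTheory Limits

variable {R : CommRingCat.{u}}

set_option backward.isDefEq.respectTransparency.types false in
theorem comap_inj {M N : ModuleCat R} (f : M ⟶ N) (hf : Function.Injective f.hom)
    (U : TopologicalSpace.Opens (PrimeSpectrum.Top R)) :
    Function.Injective (StructureSheaf.comapₗ f.hom U U Set.Subset.rfl) := by
  intro s t hst
  apply Subtype.ext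
  funext y
  have := congrFun (congrArg Subtype.val hst) y
  exact IsLocalizedModule.map_injective y.1.asIdeal.primeCompl
    (LocalizedModule.mkLinearMap y.1.asIdeal.primeCompl M)
    (LocalizedModule.mkLinearMap y.1.asIdeal.primeCompl N) f.hom hf this

set_option backward.isDefEq.respectTransparency.types false in
theorem mono_tilde_map {M N : ModuleCat R} (f : M ⟶ N) [Mono f] : Mono (tilde.map f) := by
  have hf : Function.Injective f.hom := (ModuleCat.mono_iff_injective f).mp inferInstance
  apply Functor.mono_of_mono_map (modulesSpecToSheaf (R := R))
  have e : modulesSpecToSheaf.map (tilde.map f) = ⟨(tilde.modulesSpecToSheafIso M).hom ≫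
      { app U := ModuleCat.ofHom (StructureSheaf.comapₗ f.hom _ _ .rfl) } ≫
      (tilde.modulesSpecToSheafIso N).inv⟩ := rfl
  rw [e]
  apply (config := { allowSynthFailures := true }) Sheaf.Hom.mono_of_presheaf_mono
  apply (config := { allowSynthFailures := true }) mono_comp
  apply (config := { allowSynthFailures := true }) mono_comp
  apply (config := { allowSynthFailures := true }) NatTrans.mono_of_mono_app
  intro U
  exact (ModuleCat.mono_iff_injective _).mpr (comap_inj f hf _)

theorem main (R : CommRingCat.{u}) :
    PreservesFiniteLimits (tilde.functor R) ∧ PreservesFiniteColimits (tilde.functor R) := by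
  have hc : PreservesFiniteColimits (tilde.functor R) := inferInstance
  refine ⟨?_, hc⟩
  have h1 : (tilde.functor R).PreservesMonomorphisms :=
    ⟨fun f _ => mono_tilde_map f⟩
  have h2 : (tilde.functor R).PreservesHomology :=
    CategoryTheory.Functor.preservesHomology_of_preservesMonos_and_cokernels _
  exact Functor.preservesFiniteLimits_of_preservesHomology _

open AlgebraicGeometry in
open CategoryTheory Limits in
/-- For a commutative ring A, the functor M ↦ M~ from the category of A-modules to the category of
O-modules on Spec A is exact, i.e. it preserves finite limits and finite colimits. -/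
theorem result
    (A : Type u) [CommRing A] :
    PreservesFiniteLimits (tilde.functor (CommRingCat.of A)) ∧
      PreservesFiniteColimits (tilde.functor (CommRingCat.of A)) := by
  exact main (CommRingCat.of A)

end Groth.Agent.S9498
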