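import Groth.Statements.S6242
import Groth.Agent.Lib.Helper16.FibProd2
import Groth.Agent.Lib.Helper16.StalkTor1
import Groth.Agent.Lib.Helper16.Stk6
import Groth.Agent.Lib.Helper16.RS6
import Groth.Agent.Lib.Helper16.KD7
import Groth.Agent.Lib.Helper16.Fl2

set_option autoImplicit false
universe u
open CategoryTheory CategoryTheory.Limits AlgebraicGeometry
attribute [local instance] HasDerivedCategory.standard
open KSix

namespace Groth.Agent.S6242

open Groth.Agent.Lib.Helper16 Groth.Agent.Lib.Helper16.TorLoc Groth.Agent.Lib.Helper16.Stk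
  Groth.Agent.Lib.Helper16.FibProd DerivedCategory

/-- relative tor amplitude is invariant under isomorphisms of complexes. -/
lemma hasTorAmplitude_of_iso {X Y : Scheme.{u}} (f : X ⟶ Y) {F F' : CochainComplex X.Modules ℤ}
    (e : F ≅ F') (a b : ℤ) (h : DerSch.HasTorAmplitude f a b F) :
    DerSch.HasTorAmplitude f a b F' := fun x =>
  TorAmp.hasTorAmplitudeIn_of_iso (Q.mapIso ((DerSch.stalkCxOver f x).mapIso e)) a b (h x)

/-- the pullback of the unit complex is the unit complex. -/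
noncomputable def pullCxUnitIso {X Y : Scheme.{u}} (f : X ⟶ Y) :
    (KD.pullCx f).obj (DerSch.unitCx Y) ≅ DerSch.unitCx X :=
  (HomologicalComplex.singleMapHomologicalComplex (Scheme.Modules.pullback f)
    (ComplexShape.up ℤ) 0).app _ ≪≫
    (HomologicalComplex.single _ (ComplexShape.up ℤ) 0).mapIso (RS.pullbackUnitIso f)

lemma isFlat_structureModule (X : Scheme.{u}) : FlatMod.IsFlat (Coh.structureModule X) := fun x =>
  Module.Flat.of_linearEquiv (StalkTor.e X x).symm

/-- the unit complex is K-flat. -/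
lemma isKFlat_unitCx (X : Scheme.{u}) : DCoh.IsKFlat (DerSch.unitCx X) := by
  refine isKFlat_of_boundedAbove_flat _ 0 ?_ (fun n => ?_)
  · exact (CochainComplex.isStrictlyLE_iff _ _).2 (fun i hi =>
      HomologicalComplex.isZero_single_obj_X _ _ _ _ (by omega))
  · by_cases hn : n = 0
    · subst hn
      exact isFlat_of_iso
        (HomologicalComplex.singleObjXSelf (ComplexShape.up ℤ) 0 (Coh.structureModule X)).symm
        (isFlat_structureModule X)
    · exact KD.isFlat_of_isZero (HomologicalComplex.isZero_single_obj_X _ _ _ _ hn)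

/-- Flat second factor: let S be a scheme and, for i = 1, 2, f_i : X_i ⟶ Y_i a morphism of S-schemes
(structure morphisms q_i : Y_i ⟶ S, and X_i over S through f_i ≫ q_i), with X₂ and Y₂ flat over S.
Let X = X₁ ×_S X₂ and Y = Y₁ ×_S Y₂, given by pullback squares, and f : X ⟶ Y the morphism
compatible with the two projections. If f₁ has tor dimension at most n₁ and f₂ has tor dimension at
most n₂ (stalkwise: the local ring of the source at each point is isomorphic, in the derived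
category of the local ring of the target, to a complex of flat modules placed in [-n_i, 0]), then f
has tor dimension at most n₁ + n₂; in particular f has finite tor dimension. (The published
statement assumes only that X₁, X₂ and Y₁, Y₂ are tor-independent over S; this row takes X₂ and Y₂
flat over S, which implies both conditions, and records the bound n₁ + n₂ that the published proof
gives.) -/
theorem result {S X₁ Y₁ X₂ Y₂ X Y : Scheme.{u}} (f₁ : X₁ ⟶ Y₁) (q₁ : Y₁ ⟶ S)
    (f₂ : X₂ ⟶ Y₂) (q₂ : Y₂ ⟶ S) [Flat q₂] [Flat (f₂ ≫ q₂)]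
    (pX₁ : X ⟶ X₁) (pX₂ : X ⟶ X₂) (hX : IsPullback pX₁ pX₂ (f₁ ≫ q₁) (f₂ ≫ q₂))
    (pY₁ : Y ⟶ Y₁) (pY₂ : Y ⟶ Y₂) (hY : IsPullback pY₁ pY₂ q₁ q₂)
    (f : X ⟶ Y) (hf₁ : f ≫ pY₁ = pX₁ ≫ f₁) (hf₂ : f ≫ pY₂ = pX₂ ≫ f₂)
    (n₁ n₂ : ℕ) (h₁ : DerSch.HasTorDimLE f₁ n₁) (h₂ : DerSch.HasTorDimLE f₂ n₂) :
    DerSch.HasTorDimLE f (n₁ + n₂) := by
  have hab := aMap_bMap f₁ q₁ f₂ q₂ hX hY hf₁ hf₂
  have sA := sqA f₁ q₁ f₂ q₂ hX
  have sB := sqB q₁ f₂ q₂ hY
  -- first factor: flat base change of `f₁`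
  have h1 : DerSch.HasTorAmplitude (aMap f₁ q₁ f₂ q₂ hX) (-(n₁ : ℤ)) 0 (DerSch.unitCx X) :=
    hasTorAmplitude_of_iso _ (pullCxUnitIso pX₁) _ _
      (hasTorAmplitude_pullCx_of_flat sA (DerSch.unitCx X₁) _ _ h₁)
  -- second factor: tor-independent base change of `f₂`
  have h2 : DerSch.HasTorDimLE (bMap q₁ f₂ q₂ hY) n₂ :=
    hasTorAmplitude_of_iso _ (pullCxUnitIso (pullback.snd q₁ (f₂ ≫ q₂))) _ _
      (hasTorAmplitude_pullCx_of_torIndep hY.flip sB (DerSch.unitCx X₂) (isKFlat_unitCx X₂) _ _ h₂)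
  have h3 := StalkTor.hasTorAmplitude_comp (aMap f₁ q₁ f₂ q₂ hX) (bMap q₁ f₂ q₂ hY) n₂ h2
    (DerSch.unitCx X) _ _ h1
  rw [hab] at h3
  have e : (-(n₁ : ℤ) - (n₂ : ℤ)) = -((n₁ + n₂ : ℕ) : ℤ) := by push_cast; ring
  rw [e] at h3
  exact h3

end Groth.Agent.S6242
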