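import Groth.Statements.S3630
import Groth.Agent.Lib.Helper14.AlmostCocont
import Groth.Agent.Lib.Helper14.ShfModSAFT

set_option autoImplicit false
universe u
open CategoryTheory CategoryTheory.Limits AlgebraicGeometry
attribute [local instance] HasDerivedCategory.standard
open Dual3

namespace Groth.Agent.S3630

open Groth.Agent.Lib.Helper14.AlmostCocont Groth.Agent.Lib.Helper14.ShfModSAFT TopologicalSpace

lemma almostCocont_of_isClosedEmbedding {Z X : TopCat.{u}} (f : Z ⟶ X)
    (hf : Topology.IsClosedEmbedding f) :
    IsAlmostCocont (Opens.grothendieckTopology X) (Opens.grothendieckTopology Z) (Opens.map f) := by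
  intro V R hR
  refine ⟨⟨fun V' g => (Opens.map f).obj V' = ⊥ ∨ R ((Opens.map f).map g), ?_⟩, ?_, ?_⟩
  · intro V' V'' g hg k
    rcases hg with h0 | h1
    · left
      have hle : (Opens.map f).obj V'' ≤ (Opens.map f).obj V' := ((Opens.map f).map k).le
      rw [h0] at hle
      exact le_bot_iff.1 hle
    · right
      have := R.downward_closed h1 ((Opens.map f).map k)
      rwa [← Functor.map_comp] at this
  · intro x hx
    by_cases hxr : x ∈ Set.range f
    · obtain ⟨z, rfl⟩ := hxr
      obtain ⟨W, h, hRh, hzW⟩ := hR z hx
      obtain ⟨t, ht, htW⟩ := hf.isInducing.isOpen_iff.1 W.isOpen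
      let V' : Opens X := ⟨t, ht⟩ ⊓ V
      have hle : (Opens.map f).obj V' ≤ W := by
        intro y hy
        have : f y ∈ t := hy.1
        have : y ∈ f ⁻¹' t := this
        rw [htW] at this
        exact this
      refine ⟨V', homOfLE inf_le_right, Or.inr ?_, ?_⟩
      · have := R.downward_closed hRh (homOfLE hle)
        convert this using 1
        exact Subsingleton.elim _ _
      · refine ⟨?_, hx⟩
        have : z ∈ f ⁻¹' t := by rw [htW]; exact hzW
        exact this
    · let V' : Opens X := V ⊓ ⟨(Set.range f)ᶜ, hf.isClosed_range.isOpen_compl⟩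
      refine ⟨V', homOfLE inf_le_left, Or.inl ?_, ⟨hx, hxr⟩⟩
      apply le_bot_iff.1
      intro y hy
      exact (hy.2 ⟨y, rfl⟩).elim
  · intro V' g hg
    rcases hg with h0 | h1
    · left
      rw [h0]
      intro x hx
      exact hx.elim
    · right
      exact h1


/-- For a closed immersion of schemes i : Z → X. The direct image functor i_* from O_Z-modules to
O_X-modules is a left adjoint: it has a right adjoint, the functor sending F to the O_Z-module of
sections of F annihilated by the ideal of Z. -/
theorem result (Z X : Scheme.{u}) (i : Z ⟶ X) [IsClosedImmersion i] : Dual3.HasHomO i := by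
  have hc : Topology.IsClosedEmbedding i.base := i.isClosedEmbedding
  have hac := almostCocont_of_isClosedEmbedding i.base hc
  have : PreservesColimitsOfSize.{u, u} ((Opens.map i.base).sheafPushforwardContinuous AddCommGrpCat.{u}
      (Opens.grothendieckTopology X) (Opens.grothendieckTopology Z)) :=
    ⟨fun {I} _ => preservesColimitsOfShape_pushforward hac I⟩
  exact isLeftAdjoint_pushforward_of_preservesColimits (Opens.grothendieckTopology X)
    (Opens.grothendieckTopology Z) (Opens.map i.base) i.toRingCatSheafHom

end Groth.Agent.S3630
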