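import Groth.Statements.S7068
import Groth.Agent.Lib.Helper13.LimDescendFlatRing
import Groth.Agent.Lib.Helper15.RelPC18
import Mathlib
set_option backward.isDefEq.respectTransparency.types false

set_option autoImplicit false
universe u
attribute [local instance] HasDerivedCategory.standard
open MoreMor

namespace Groth.Agent.S7068
open TensorProduct

theorem aux (A B R₀ S₀ : Type u) [CommRing A] [CommRing B] [Algebra A B]
    [Module.Flat A B] [CommRing R₀] [CommRing S₀] [Algebra R₀ A] [Algebra R₀ S₀]
    [Algebra.FiniteType ℤ R₀] [Algebra.FiniteType R₀ S₀]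
    (e : A ⊗[R₀] S₀ ≃ₐ[A] B) : MoreMor.IsPerfectHom A B := by
  classical
  haveI : IsNoetherianRing R₀ := Algebra.FiniteType.isNoetherianRing ℤ R₀
  haveI : Module.Flat A (A ⊗[R₀] S₀) := Module.Flat.of_linearEquiv e.toLinearEquiv
  obtain ⟨A', hfg, hflat⟩ := Groth.Agent.Lib.Helper13.LimDescend.exists_fg_flat_tensor R₀ S₀ A
  haveI : Algebra.FiniteType R₀ A' := (Subalgebra.fg_iff_finiteType A').1 hfg
  haveI : Algebra.FiniteType ℤ A' := Algebra.FiniteType.trans (S := R₀) inferInstance inferInstance
  haveI : IsNoetherianRing A' := Algebra.FiniteType.isNoetherianRing ℤ A'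
  haveI : Algebra.FiniteType A' (A' ⊗[R₀] S₀) := inferInstance
  have h0 : MoreMor.IsPseudoCoherentHom A' (A' ⊗[R₀] S₀) := Groth.Agent.S7067.result A' (A' ⊗[R₀] S₀)
  have h1 := Groth.Agent.Lib.Helper15.RelPC18.isPseudoCoherentHom_tensor_of_flat (A := A) h0
  let e2 : A ⊗[A'] (A' ⊗[R₀] S₀) ≃ₐ[A] A ⊗[R₀] S₀ :=
    Algebra.TensorProduct.cancelBaseChange R₀ A' A A S₀
  have h2 : MoreMor.IsPseudoCoherentHom A B :=
    Groth.Agent.Lib.Helper15.RelPC18.isPseudoCoherentHom_of_algEquiv (e2.trans e) h1
  exact ⟨h2, ⟨0, (Groth.Agent.S6946.result A B 0).2.2 inferInstance⟩⟩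


/-- If A → B is a flat homomorphism of commutative rings of finite presentation, then A → B is a perfect
ring map: pseudo-coherent, with B of finite tor dimension as an A-module. -/
theorem result (A B : Type u) [CommRing A] [CommRing B] [Algebra A B]
    [Module.Flat A B] [Algebra.FinitePresentation A B] : MoreMor.IsPerfectHom A B := by
  classical
  exact aux A B (Algebra.Presentation.ofFinitePresentation A B).Core
    ((Algebra.Presentation.ofFinitePresentation A B).ModelOfHasCoeffs
      (Algebra.Presentation.ofFinitePresentation A B).Core)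
    ((Algebra.Presentation.ofFinitePresentation A B).tensorModelOfHasCoeffsEquiv
      (Algebra.Presentation.ofFinitePresentation A B).Core)

end Groth.Agent.S7068
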