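import Groth.Statements.S7071
import Groth.Agent.Lib.Helper16.RelPC3
-- import your own Groth.Agent.* helpers here

set_option autoImplicit false
universe u
attribute [local instance] HasDerivedCategory.standard
open DerCA

namespace Groth.Agent.S7071

open Groth.Agent.Lib.Helper16.PC Groth.Agent.Lib.Helper16.RelPC Groth.Agent.Lib.Helper16.RestrictD

/-- Let R → A be a pseudo-coherent homomorphism of commutative rings, m an integer and K an object of
D(A). Then the object K is m-pseudo-coherent as an object of D(A) exactly when, relative to R, it is
m-pseudo-coherent. -/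
theorem result (R A : Type u) [CommRing R] [CommRing A]
    [Algebra R A] (hRA : MoreMor.IsPseudoCoherentHom R A) (m : ℤ) (K : Dual.D A) :
    DerCA.IsRelPseudoCoherent R A m K ↔ DRing.IsPseudoCoherent A m K := by
  obtain ⟨n, α, hα, h⟩ := hRA
  rw [rel_iff_via α hα]
  have hpc : PCHom (α : MvPolynomial (Fin n) R →+* A) := by
    rw [pcHom_iff]
    intro m'
    exact pc_of_pc' h m'
  exact (pc_iff_of_pcHom hpc K m).symm

end Groth.Agent.S7071
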