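import Groth.Statements.S7021
import Groth.Agent.Lib.Helper16.RelPC3
import Groth.Agent.S6935
-- import your own Groth.Agent.* helpers here

set_option autoImplicit false
universe u
open CategoryTheory CategoryTheory.Limits
attribute [local instance] HasDerivedCategory.standard
open DerCA

namespace Groth.Agent.S7021

open Groth.Agent.Lib.Helper16.PC Groth.Agent.Lib.Helper16.RelPC Groth.Agent.Lib.Helper16.RestrictD

/-- Let R → A be a finite type homomorphism of commutative rings, α : R[x_1, ..., x_n] → A a surjective
R-algebra homomorphism and M an A-module. Then relative 0-pseudo-coherence of M over R amounts to M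
being a finitely generated A-module, and relative (-1)-pseudo-coherence of M over R amounts to M
being finitely presented as an R[x_1, ..., x_n]-module through α. -/
theorem result {R A : Type u} [CommRing R] [CommRing A]
    [Algebra R A] [Algebra.FiniteType R A] {n : ℕ} (α : MvPolynomial (Fin n) R →ₐ[R] A)
    (hα : Function.Surjective α) (M : Type u) [AddCommGroup M] [Module A M] :
    (DerCA.IsRelPseudoCoherentModule R A 0 M ↔ Module.Finite A M) ∧
      (DerCA.IsRelPseudoCoherentModule R A (-1) M ↔
        @Module.FinitePresentation (MvPolynomial (Fin n) R) M _ _ (Module.compHom M α.toRingHom)) := by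
  let φ : MvPolynomial (Fin n) R →+* A := α.toRingHom
  letI : Module (MvPolynomial (Fin n) R) M := Module.compHom M φ
  have hiso : (DRing.restrictD φ).obj (Dual.inD A M) ≅ Dual.inD (MvPolynomial (Fin n) R) M :=
    ((ModuleCat.restrictScalars.{u} φ).mapDerivedCategorySingleFunctor 0).app (ModuleCat.of A M)
  have key : ∀ m : ℤ, DerCA.IsRelPseudoCoherentModule R A m M ↔
      DRing.IsPseudoCoherentModule (MvPolynomial (Fin n) R) m M := by
    intro m
    unfold DerCA.IsRelPseudoCoherentModule
    rw [rel_iff_via α hα]
    exact ⟨fun h => pc_of_iso h hiso, fun h => pc_of_iso h hiso.symm⟩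
  have h35 := Groth.Agent.S6935.result (MvPolynomial (Fin n) R) M
  rw [key 0, key (-1), h35.1, h35.2]
  refine ⟨?_, Iff.rfl⟩
  letI : Algebra (MvPolynomial (Fin n) R) A := φ.toAlgebra
  haveI : IsScalarTower (MvPolynomial (Fin n) R) A M :=
    IsScalarTower.of_algebraMap_smul (fun r x => rfl)
  constructor
  · intro h
    exact Module.Finite.of_restrictScalars_finite (MvPolynomial (Fin n) R) A M
  · intro h
    haveI : Module.Finite (MvPolynomial (Fin n) R) A :=
      Module.Finite.of_surjective (Algebra.linearMap (MvPolynomial (Fin n) R) A) hα
    exact Module.Finite.trans A M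

end Groth.Agent.S7021
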