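import Groth.Statements.S1105
import Groth.Agent.S1004
import Groth.Agent.S0914
import Groth.Agent.S6954
import Groth.Agent.S6200
import Groth.Agent.Lib.Helper16.PerfFib1
import Groth.Agent.Lib.Helper16.PC7e
import Groth.Agent.Lib.Helper16.TildeTor

set_option autoImplicit false
universe u
open CategoryTheory CategoryTheory.Limits AlgebraicGeometry
attribute [local instance] HasDerivedCategory.standard
open Perf

namespace Groth.Agent.S1105

open Groth.Agent.Lib.Helper16.RS Groth.Agent.Lib.Helper16.PC DerivedCategory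
  Groth.Agent.Lib.Helper1.LocPC Groth.Agent.Lib.Helper1.LocPerf Groth.Agent.Lib.Helper1.LocFree
  CategoryTheory.Limits AlgebraicGeometry CategoryTheory.Pretriangulated
  Groth.Agent.Lib.Helper16.Stk Groth.Agent.Lib.Helper16 Groth.Agent.Lib.Helper16.PerfFib

/-- an object represented by a strictly perfect complex is perfect. -/
theorem isPerfect_of_isStrictlyPerfect {X : Scheme.{u}} (P : CochainComplex X.Modules ℤ)
    (hP : DCoh.IsStrictlyPerfect P) (K : DCoh.D X) (e : Q.obj P ≅ K) : DCoh.IsPerfect K :=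
  (isPerfect_iff_isOn K P e).2 (fun _ => ⟨⊤, trivial,
    ⟨(RCx (⊤ : X.Opens).ι).obj P, isStrictlyPerfect_RCx _ P hP, ⟨Iso.refl _⟩⟩⟩)

section
variable (R : CommRingCat.{u}) [PreservesFiniteLimits (tilde.functor R)]

theorem isPerfect_tilde_of_isPerfect (M : DerivedCategory (ModuleCat.{u} R))
    (h : DRing.IsPerfect R M) : DCoh.IsPerfect ((DCoh.tildeD R).obj M) := by
  obtain ⟨E, a, b, hE, hproj, ⟨e⟩⟩ := h
  refine isPerfect_of_isStrictlyPerfect
    (((tilde.functor R).mapHomologicalComplex (ComplexShape.up ℤ)).obj E)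
    ⟨⟨a, b, fun i hi => (tilde.functor R).map_isZero (hE i hi)⟩,
      fun i => (Groth.Agent.S12451.result (E.X i)).2 (hproj i)⟩ _
    (((tilde.functor R).mapDerivedCategoryFactors.app E).symm ≪≫ (DCoh.tildeD R).mapIso e)

theorem isPerfect_of_isPerfect_tilde (M : DerivedCategory (ModuleCat.{u} R))
    (h : DCoh.IsPerfect ((DCoh.tildeD R).obj M)) : DRing.IsPerfect R M := by
  have hpc := ((Groth.Agent.S0914.result _).1 h).1
  have hpc' : DRing.IsPseudoCoherent' R M :=
    pc'_of_pc (fun m => Groth.Agent.S1004.pc_of_pc_tilde R M m (hpc m))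
  -- a representative
  let P₀ := Q.objPreimage M
  let e₀ : Q.obj P₀ ≅ M := Q.objObjPreimageIso M
  let F := ((tilde.functor R).mapHomologicalComplex (ComplexShape.up ℤ)).obj P₀
  have eF : Q.obj F ≅ (DCoh.tildeD R).obj M :=
    ((tilde.functor R).mapDerivedCategoryFactors.app P₀).symm ≪≫ (DCoh.tildeD R).mapIso e₀
  -- local uniform tor amplitude of the stalks
  have hloc : ∀ x : (Spec R : Scheme.{u}), ∃ (W : (Spec R).Opens) (a b : ℤ), x ∈ W ∧
      ∀ y ∈ W, DRing.HasTorAmplitudeIn ((Spec R).presheaf.stalk y) a b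
        (DRing.toD (stkCx y F)) := by
    intro x
    obtain ⟨W, hx, hW⟩ := h x
    obtain ⟨E₀, hE₀, ⟨e₁⟩⟩ := hW F ⟨eF⟩
    obtain ⟨⟨a, b, hab⟩, hfree⟩ := id hE₀
    refine ⟨W, a, b, hx, fun y hy => ?_⟩
    obtain ⟨y₁, hy₁⟩ : ∃ y₁ : W, W.ι y₁ = y := ⟨⟨y, hy⟩, rfl⟩
    subst hy₁
    refine stalk_torAmp_of_RCx W.ι F y₁ a b ?_
    have e₁' : DCoh.toD _ E₀ ≅ DCoh.toD _ ((RCx W.ι).obj F) := e₁.symm
    refine TorAmp.hasTorAmplitudeIn_of_iso (Groth.Agent.S6200.stkIsoOfIso y₁ e₁') a b ?_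
    have hfl : DRing.TermwiseFlat (stkCx y₁ E₀) :=
      fun i => isFlat_of_isFinLocFree _ (hfree i) y₁
    exact ⟨stkCx y₁ E₀, fun i hi => (stk y₁).map_isZero (hab i hi), hfl, ⟨Iso.refl _⟩⟩
  choose W a b hxW htor using hloc
  obtain ⟨t, ht⟩ := isCompact_univ.elim_finite_subcover
    (fun x : (Spec R : Scheme.{u}) => ((W x : (Spec R).Opens) : Set (Spec R : Scheme.{u})))
    (fun x => (W x).isOpen) (fun x _ => Set.mem_iUnion.2 ⟨x, hxW x⟩)
  obtain ⟨a₁, ha₁⟩ := (t.image (fun x => - a x)).exists_le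
  obtain ⟨b₀, hb₀⟩ := (t.image b).exists_le
  have hall : ∀ y : (Spec R : Scheme.{u}), DRing.HasTorAmplitudeIn ((Spec R).presheaf.stalk y)
      (- a₁) b₀ (DRing.toD (stkCx y F)) := by
    intro y
    obtain ⟨x, hx⟩ := Set.mem_iUnion.1 (ht (Set.mem_univ y))
    obtain ⟨hxt, hyx⟩ := Set.mem_iUnion.1 hx
    have h1 : - a₁ ≤ a x := by
      have h0 : - a x ≤ a₁ := ha₁ _ (Finset.mem_image_of_mem (fun x => - a x) hxt)
      omega
    have h2 : b x ≤ b₀ := hb₀ _ (Finset.mem_image_of_mem b hxt)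
    exact TorAmp.torAmp_mono _ _ _ _ _ h1 h2 (htor x y hyx)
  obtain ⟨d, hd⟩ := Groth.Agent.S1004.exists_isLE_of_pc 0 _ (hpc 0)
  haveI : (DCoh.toD _ F).IsLE d := (TStructure.t).isLE_of_iso eF.symm d
  obtain ⟨E, hE, hfl, ⟨e⟩⟩ := Groth.Agent.S6200.backward F d (- a₁) b₀ hall
  have hflat : DCoh.HasFlatAmplitudeIn (- a₁) b₀ ((DCoh.tildeD R).obj M) :=
    ⟨E, hE, hfl, ⟨e ≪≫ eF⟩⟩
  have htorM := (Groth.Agent.Lib.Helper16.TildeTor.flatAmp_iff_torAmp R M _ _).1 hflat
  exact (Groth.Agent.S6954.result R M).2 ⟨hpc', ⟨_, _, htorM⟩⟩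

end

/-- Let A be a ring, M an object of D(A) and E = M~ the associated object of D(O_{Spec A}) (tilde being
recorded as exact). Then E is perfect in D(O_{Spec A}) if and only if M is perfect in D(A)
(isomorphic to a bounded complex of finite projective modules). -/
theorem result (A : Type u) [CommRing A] [PreservesFiniteLimits (tilde.functor (CommRingCat.of A))] (M : Dual.D A) :
    DCoh.IsPerfect ((DCoh.tildeD (CommRingCat.of A)).obj M) ↔ DRing.IsPerfect A M := by
  exact ⟨isPerfect_of_isPerfect_tilde (CommRingCat.of A) M,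
    isPerfect_tilde_of_isPerfect (CommRingCat.of A) M⟩

end Groth.Agent.S1105
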