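import Groth.Statements.S7018
import Groth.Agent.Lib.Helper16.TorAmp6
-- import your own Groth.Agent.* helpers here

set_option autoImplicit false
universe u
open CategoryTheory CategoryTheory.Limits
attribute [local instance] HasDerivedCategory.standard
open DRing

namespace Groth.Agent.S7018

lemma isZero_of_retract {C D : Type*} [Category C] [Category D] [HasZeroMorphisms D]
    (F : C ⥤ D) {X Y : C} (i : X ⟶ Y) (r : Y ⟶ X) (h : i ≫ r = 𝟙 X) (hz : IsZero (F.obj Y)) :
    IsZero (F.obj X) := by
  rw [IsZero.iff_id_eq_zero, ← F.map_id, ← h, F.map_comp, hz.eq_of_tgt (F.map i) 0, zero_comp]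


/-- Let R be a commutative ring such that the derived tensor product - ⊗^L_R M exists on D(R) for every
R-module M, let a, b be integers and K, L objects of D(R). Tor amplitude in [a, b] of the direct sum
K ⊕ L implies tor amplitude in [a, b] of each summand K and L. -/
theorem result (R : Type u) [CommRing R] [∀ M : ModuleCat.{u} R, DRing.HasLTensor R M]
    (a b : ℤ) (K L : Dual.D R) [HasBinaryBiproduct K L] (h : DRing.HasTorAmplitudeIn R a b (K ⊞ L)) :
    DRing.HasTorAmplitudeIn R a b K ∧ DRing.HasTorAmplitudeIn R a b L := by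
  rw [Groth.Agent.Lib.Helper16.TorAmp.torAmp_iff_LTensor] at h
  constructor
  · rw [Groth.Agent.Lib.Helper16.TorAmp.torAmp_iff_LTensor]
    intro M i hi
    have h1 := h M i hi
    rw [← ModuleCat.isZero_iff_subsingleton] at h1 ⊢
    exact isZero_of_retract (DRing.LTensor R M ⋙ DerivedCategory.homologyFunctor _ i)
      (biprod.inl : K ⟶ K ⊞ L) biprod.fst (by simp) h1
  · rw [Groth.Agent.Lib.Helper16.TorAmp.torAmp_iff_LTensor]
    intro M i hi
    have h1 := h M i hi
    rw [← ModuleCat.isZero_iff_subsingleton] at h1 ⊢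
    exact isZero_of_retract (DRing.LTensor R M ⋙ DerivedCategory.homologyFunctor _ i)
      (biprod.inr : L ⟶ K ⊞ L) biprod.snd (by simp) h1

end Groth.Agent.S7018
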