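import Groth.Statements.S7240
import Groth.Agent.Lib.Helper1.LocFree9

set_option autoImplicit false
universe u
open CategoryTheory CategoryTheory.Limits AlgebraicGeometry
attribute [local instance] HasDerivedCategory.standard
open Perf

namespace Groth.Agent.S7240

open Groth.Agent.Lib.Helper16.RS Groth.Agent.Lib.Helper16.PC DerivedCategory
  Groth.Agent.Lib.Helper1.LocPC Groth.Agent.Lib.Helper1.LocPerf Groth.Agent.Lib.Helper1.LocFree
  Groth.Agent.Lib.Helper29.FPDict CategoryTheory.Limits AlgebraicGeometry

/-- local data extracted from pseudo-coherence. -/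
theorem local_data {X : Scheme.{u}} (m : ℤ) (K : DCoh.D X)
    (hK : DCoh.IsPseudoCoherentD m K) (x : X) :
    ∃ (V : X.Opens) (E : CochainComplex (V : Scheme.{u}).Modules ℤ), x ∈ V ∧
      DCoh.IsStrictlyPerfect E ∧ ∀ n : ℤ, m ≤ n →
      ∃ φ : E.homology n ⟶ (DCoh.HD K n).restrict V.ι, Epi φ ∧ (m < n → IsIso φ) := by
  obtain ⟨V, hxV, E, α, hE, hα⟩ := (isPseudoCoherentD_iff m K).1 hK x
  refine ⟨V, E, hxV, hE, fun n hmn => ?_⟩
  obtain ⟨e⟩ := nonempty_map_homology_iso (Scheme.Modules.restrictFunctor V.ι) K n
  refine ⟨((homologyFunctorFactors _ n).app E).inv ≫ (homologyFunctor _ n).map α ≫ e.inv, ?_, ?_⟩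
  · haveI : Epi ((homologyFunctor _ n).map α) := by
      rcases hmn.lt_or_eq with h | h
      · haveI := hα.1 n h
        infer_instance
      · subst h
        exact hα.2
    infer_instance
  · intro h
    haveI := hα.1 n h
    infer_instance

/-- Let X be a scheme, m an integer and E an m-pseudo-coherent object of D(O_X). Then the cohomology
sheaf Hⁱ(E) is quasi-coherent for every i > m, and Hᵐ(E) is, locally on X, a quotient of a
quasi-coherent module: every point of X has an open neighbourhood V and a quasi-coherent O_V-module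
mapping onto Hᵐ(E)|_V. (The published statement says that Hᵐ(E) is a quotient of a quasi-coherent
O_X-module; its proof gives this only locally on X, which is what this row states, and the global
form fails: on the affine plane over ℚ, the direct image of an invertible module over the inverse
image of O_X on a triangle of three lines, twisted by the constant 2 around the cycle, is an
O_X-module of finite type with no nonzero global section, so it is not a quotient of any
quasi-coherent module.) -/
theorem result {X : Scheme.{u}} (m : ℤ) (E : DCoh.D X)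
    (hE : DCoh.IsPseudoCoherentD m E) :
    (∀ i : ℤ, m < i → Coh.IsQCoh (DCoh.HD E i)) ∧
      ∀ x : X, ∃ (V : X.Opens) (Q : (V : Scheme.{u}).Modules)
        (π : Q ⟶ (Scheme.Modules.restrictFunctor V.ι).obj (DCoh.HD E m)), x ∈ V ∧ Coh.IsQCoh Q ∧ Epi π := by
  constructor
  · intro i hi
    apply isQuasicoherent_of_locally
    intro x
    obtain ⟨V, P, hxV, hP, h⟩ := local_data m E hE x
    obtain ⟨φ, -, hφ⟩ := h i hi.le
    haveI := hφ hi
    haveI := isQuasicoherent_homology_of_isStrictlyPerfect P hP i
    exact ⟨V, hxV, Groth.Agent.Lib.Helper2.AffExt2.isQuasicoherent_of_iso (asIso φ)⟩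
  · intro x
    obtain ⟨V, P, hxV, hP, h⟩ := local_data m E hE x
    obtain ⟨φ, hφ, -⟩ := h m le_rfl
    exact ⟨V, P.homology m, φ, hxV, isQuasicoherent_homology_of_isStrictlyPerfect P hP m, hφ⟩

end Groth.Agent.S7240
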