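import Groth.Statements.S3291
-- import your own Groth.Agent.* helpers here

set_option autoImplicit false
universe u
open Finset
open LambdaRing

namespace Groth.Agent.S3291

section aux
open LambdaRing
variable {K : Type u} [CommRing K] [LambdaOps K] (P : PosStructure K)

lemma gamma_one (z : K) : gamma 1 z = z := by
  unfold gamma
  rw [if_neg one_ne_zero, Finset.sum_range_succ, Finset.sum_range_one]
  simp [LambdaOps.lam_one]

/-- the generating set -/
def G (n : ℕ) : Set K :=
  {y | ∃ (l : List (ℕ × K)), (∀ p ∈ l, P.aug p.2 = 0) ∧ n ≤ (l.map Prod.fst).sum ∧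
        y = (l.map fun p => gamma p.1 p.2).prod}

lemma filt_succ (n : ℕ) (hn : n ≠ 0) : gammaFiltration P n = AddSubgroup.closure (G P n) := by
  unfold gammaFiltration
  rw [if_neg hn]
  rfl

lemma mul_gen {m n : ℕ} {x y : K} (hx : x ∈ G P m) (hy : y ∈ G P n) : x * y ∈ G P (m + n) := by
  obtain ⟨l₁, h1, h2, rfl⟩ := hx
  obtain ⟨l₂, h3, h4, rfl⟩ := hy
  refine ⟨l₁ ++ l₂, ?_, ?_, ?_⟩
  · intro p hp
    rcases List.mem_append.mp hp with h | h
    · exact h1 p h
    · exact h3 p h
  · rw [List.map_append, List.sum_append]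
    omega
  · rw [List.map_append, List.prod_append]

lemma smul_gen {n : ℕ} (a : K) {y : K} (hy : y ∈ G P n) :
    a * y ∈ AddSubgroup.closure (G P n) := by
  have h : a * y = (a - (P.aug a : K)) * y + (P.aug a) • y := by
    rw [zsmul_eq_mul]; ring
  rw [h]
  apply add_mem
  · apply AddSubgroup.subset_closure
    obtain ⟨l, h1, h2, rfl⟩ := hy
    refine ⟨(1, a - (P.aug a : K)) :: l, ?_, ?_, ?_⟩
    · intro p hp
      rcases List.mem_cons.mp hp with h | h
      · rw [h]
        simp
      · exact h1 p h
    · rw [List.map_cons, List.sum_cons]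
      omega
    · rw [List.map_cons, List.prod_cons, gamma_one]
  · exact AddSubgroup.zsmul_mem _ (AddSubgroup.subset_closure hy) _

lemma ideal_part (n : ℕ) (a x : K) (hx : x ∈ gammaFiltration P n) :
    a * x ∈ gammaFiltration P n := by
  by_cases hn : n = 0
  · subst hn
    unfold gammaFiltration
    rw [if_pos rfl]
    exact AddSubgroup.mem_top _
  · rw [filt_succ P n hn] at hx ⊢
    induction hx using AddSubgroup.closure_induction with
    | mem y hy => exact smul_gen P a hy
    | zero => rw [mul_zero]; exact zero_mem _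
    | add y z _ _ hy hz => rw [mul_add]; exact add_mem hy hz
    | neg y _ hy => rw [mul_neg]; exact neg_mem hy

end aux

/-- The γ-filtration F^n K of a λ-ring with positive structure (F^0 = K, F^n for n ≥ 1 generated
additively by products γ^(r₁)(x₁)⋯γ^(r_k)(x_k) with ε(x_i) = 0 and Σ r_i ≥ n) consists of ideals,
and F^m · F^n ⊆ F^(m+n). -/
theorem result (K : Type u) [CommRing K] [LambdaRing.LambdaOps K] (P : LambdaRing.PosStructure K) :
    (∀ (n : ℕ) (a x : K), x ∈ LambdaRing.gammaFiltration P n → a * x ∈ LambdaRing.gammaFiltration P n) ∧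
    ∀ (m n : ℕ) (x y : K), x ∈ LambdaRing.gammaFiltration P m → y ∈ LambdaRing.gammaFiltration P n →
      x * y ∈ LambdaRing.gammaFiltration P (m + n) := by
  refine ⟨ideal_part P, ?_⟩
  intro m n x y hx hy
  by_cases hm : m = 0
  · subst hm
    rw [zero_add]
    exact ideal_part P n x y hy
  by_cases hn : n = 0
  · subst hn
    rw [add_zero, mul_comm]
    exact ideal_part P m y x hx
  rw [filt_succ P m hm] at hx
  rw [filt_succ P n hn] at hy
  rw [filt_succ P (m + n) (by omega)]
  induction hx using AddSubgroup.closure_induction with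
  | mem x hx =>
    induction hy using AddSubgroup.closure_induction with
    | mem y hy => exact AddSubgroup.subset_closure (mul_gen P hx hy)
    | zero => rw [mul_zero]; exact zero_mem _
    | add y z _ _ hy hz => rw [mul_add]; exact add_mem hy hz
    | neg y _ hy => rw [mul_neg]; exact neg_mem hy
  | zero => rw [zero_mul]; exact zero_mem _
  | add x z _ _ hx hz => rw [add_mul]; exact add_mem hx hz
  | neg x _ hx => rw [neg_mul]; exact neg_mem hx

end Groth.Agent.S3291
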