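import Groth.Statements.S1006
import Groth.Agent.Lib.Helper1.LocFree9

set_option autoImplicit false
universe u
open CategoryTheory CategoryTheory.Limits AlgebraicGeometry
attribute [local instance] HasDerivedCategory.standard
open Perf

namespace Groth.Agent.S1006

open Groth.Agent.Lib.Helper16.RS Groth.Agent.Lib.Helper16.PC DerivedCategory
  Groth.Agent.Lib.Helper1.LocPC Groth.Agent.Lib.Helper1.LocPerf Groth.Agent.Lib.Helper1.LocFree
  Groth.Agent.Lib.Helper29.FPDict CategoryTheory.Limits AlgebraicGeometry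

/-- local data of a perfect object. -/
theorem local_data {X : Scheme.{u}} (E : DCoh.D X) (hE : DCoh.IsPerfect E) (x : X) :
    ∃ (V : X.Opens) (P : CochainComplex (V : Scheme.{u}).Modules ℤ) (a b : ℤ), x ∈ V ∧
      DCoh.IsStrictlyPerfect P ∧ DCoh.VanishesOutside P a b ∧
      ∀ i : ℤ, Nonempty ((DCoh.HD E i).restrict V.ι ≅ P.homology i) := by
  obtain ⟨F₀, ⟨e₀⟩⟩ := exists_rep E
  obtain ⟨V, hxV, P, hP, ⟨e⟩⟩ := (isPerfect_iff_isOn E F₀ e₀).1 hE x
  have e1 : (RD V.ι).obj E ≅ Q.obj P :=
    (RD V.ι).mapIso e₀.symm ≪≫ RDQIso V.ι F₀ ≪≫ e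
  obtain ⟨a, b, hab⟩ := hP.1
  refine ⟨V, P, a, b, hxV, hP, hab, fun i => ?_⟩
  obtain ⟨e2⟩ := nonempty_map_homology_iso (Scheme.Modules.restrictFunctor V.ι) E i
  exact ⟨e2 ≪≫ (homologyFunctor _ i).mapIso e1 ≪≫ (homologyFunctorFactors _ i).app P⟩

/-- On a Noetherian scheme X every perfect object of D(O_X) has coherent cohomology sheaves and is
bounded. -/
theorem result (X : Scheme.{u}) [IsNoetherian X] (E : DCoh.D X) (hE : DCoh.IsPerfect E) :
    DCoh.IsCohD E ∧ ∃ a b : ℤ, E.IsGE a ∧ E.IsLE b := by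
  choose V P a b hxV hP hab hiso using local_data E hE
  constructor
  · intro i
    constructor
    · apply isQuasicoherent_of_locally
      intro x
      obtain ⟨e⟩ := hiso x i
      haveI := isQuasicoherent_homology_of_isStrictlyPerfect (P x) (hP x) i
      exact ⟨V x, hxV x, Groth.Agent.Lib.Helper2.AffExt2.isQuasicoherent_of_iso e.symm⟩
    · apply isFiniteType_of_locally
      intro x
      obtain ⟨e⟩ := hiso x i
      refine ⟨V x, hxV x, ?_⟩
      have h1 : SheafOfModules.IsFiniteType.{u} (R := (V x : Scheme.{u}).ringCatSheaf)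
          ((P x).homology i) :=
        isFiniteType_homology (P x)
          (fun j => Groth.Agent.Lib.Helper29.FreeIso.isQuasicoherent_of_isFinLocFree _ ((hP x).2 j))
          (fun j => by
            haveI := Groth.Agent.Lib.Helper29.FPFree.isFinitePresentation_of_isFinLocFree _
              ((hP x).2 j)
            exact isFiniteType_of_isFinitePresentation _) i
      exact @Groth.Agent.Lib.Helper17.CohKer.isFiniteType_of_epi _ _ _ e.inv _ h1
  · obtain ⟨t, ht⟩ := isCompact_univ.elim_finite_subcover (fun x : X => ((V x : X.Opens) : Set X))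
      (fun x => (V x).isOpen) (fun x _ => Set.mem_iUnion.2 ⟨x, hxV x⟩)
    obtain ⟨a₁, ha₁⟩ := (t.image (fun x => - a x)).exists_le
    obtain ⟨b₀, hb₀⟩ := (t.image b).exists_le
    have hzero : ∀ i : ℤ, (i < - a₁ ∨ b₀ < i) → IsZero (DCoh.HD E i) := by
      intro i hi
      apply isZero_of_locally
      intro y
      obtain ⟨x, hx⟩ := Set.mem_iUnion.1 (ht (Set.mem_univ y))
      obtain ⟨hxt, hyx⟩ := Set.mem_iUnion.1 hx
      obtain ⟨e⟩ := hiso x i
      refine ⟨V x, hyx, IsZero.of_iso ?_ e⟩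
      apply isZero_homology_of_isZero
      apply hab x i
      have h1 : - a₁ ≤ a x := by
        have h0 : - a x ≤ a₁ := ha₁ _ (Finset.mem_image_of_mem (fun x => - a x) hxt)
        omega
      have h2 : b x ≤ b₀ := hb₀ _ (Finset.mem_image_of_mem b hxt)
      rcases hi with hi | hi
      · exact Or.inl (lt_of_lt_of_le hi h1)
      · exact Or.inr (lt_of_le_of_lt h2 hi)
    refine ⟨- a₁, b₀, ?_, ?_⟩
    · rw [DerivedCategory.isGE_iff]
      exact fun i hi => hzero i (Or.inl hi)
    · rw [DerivedCategory.isLE_iff]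
      exact fun i hi => hzero i (Or.inr hi)

end Groth.Agent.S1006
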