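import Groth.Statements.S5621
import Groth.Agent.Lib.Helper16.CycProp2
import Groth.Agent.Lib.Helper16.PCohAbs
-- import your own Groth.Agent.* helpers here

set_option autoImplicit false
universe w v u
open CategoryTheory CategoryTheory.Limits
open PCoh

namespace Groth.Agent.S5621

open Groth.Agent.Lib.Helper16.CycProp Groth.Agent.Lib.Helper16.PCohAbs Groth.Agent.Lib.Helper8.PAmp
  Groth.Agent.Lib.Helper8.DRing2

/-- Let C be an abelian category and C₀ a strictly full additive subcategory, liftable and stable under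
kernels of epimorphisms. Let a ≤ b and let F be a complex with F^i = 0 for i outside [a, b], of
perfect amplitude in [a, b] (isomorphic in D(C) to a strictly perfect complex vanishing outside [a,
b]), and with F^i in C₀ for i > a. Then F^a lies in C₀. -/
theorem result {C : Type u} [Category.{v} C] [Abelian C] [HasDerivedCategory.{w} C]
    (P : ObjectProperty C) [P.IsClosedUnderIsomorphisms] [P.ContainsZero] (hsum : ∀ X Y : C, P X → P Y → P (X ⨯ Y))
    (hlift : ∀ (E F : C) (u : E ⟶ F), Epi u → P F → IsSplitEpi u)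
    (hst : ∀ (E F : C) (u : E ⟶ F), Epi u → P E → P F → P (kernel u))
    (a b : ℤ) (hab : a ≤ b) (F : CochainComplex C ℤ)
    (hvan : ∀ i : ℤ, i < a ∨ b < i → IsZero (F.X i)) (hP : ∀ i : ℤ, a < i → P (F.X i))
    (hamp : (∃ E : CochainComplex C ℤ, (∀ i : ℤ, P (E.X i)) ∧ (∀ i : ℤ, i < a ∨ b < i → IsZero (E.X i)) ∧ Nonempty (DerivedCategory.Q.obj E ≅ DerivedCategory.Q.obj F))) :
    P (F.X a) := by
  obtain ⟨E, hE, hEv, ⟨e⟩⟩ := hamp
  have hzero : ∀ X : C, IsZero X → P X := fun X hX => P.prop_of_isZero hX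
  have hbiprod := biprod_of_hsum P hsum
  have hproj := projective_of_hlift P hlift
  have : E.IsKProjective := isKProjective_of_hasProjAmp_data E b (fun i hi => hEv i (Or.inr hi))
    (fun i => hproj _ (hE i))
  obtain ⟨g, hg⟩ := exists_Q_map_of_isKProjective E F e.hom
  have hqi : QuasiIso g := by
    rw [← DerivedCategory.isIso_Q_map_iff_quasiIso, ← hg]
    infer_instance
  have hex : ∀ i : ℤ, (CochainComplex.mappingCone g).ExactAt i :=
    exactAt_mappingCone_of_quasiIso g
  have hKP : ∀ i : ℤ, P (E.X (i + 1)) → P (F.X i) → P ((CochainComplex.mappingCone g).X i) :=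
    fun i h1 h2 => P.prop_of_iso (HomologicalComplex.homotopyCofiber.XIsoBiprod g i (i + 1)
      (by simp)).symm (hbiprod _ _ h1 h2)
  have hKa : P ((CochainComplex.mappingCone g).X a) :=
    prop_middle P hzero hbiprod hlift hst (CochainComplex.mappingCone g) a b
      (fun i hi => isZero_mappingCone_X g i (hEv _ (Or.inr (by omega))) (hvan _ (Or.inr hi)))
      (fun i hi => isZero_mappingCone_X g i (hEv _ (Or.inl (by omega))) (hvan _ (Or.inl (by omega))))
      hex (fun i hi => hKP i (hE _) (hP i hi))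
      (hKP (a - 1) (hE _) (hzero _ (hvan _ (Or.inl (by omega)))))
  have h1 : P (E.X (a + 1) ⊞ F.X a) :=
    P.prop_of_iso (HomologicalComplex.homotopyCofiber.XIsoBiprod g a (a + 1) (by simp)) hKa
  have h2 := hst _ _ (biprod.fst : E.X (a + 1) ⊞ F.X a ⟶ E.X (a + 1)) inferInstance h1 (hE _)
  exact P.prop_of_iso (IsLimit.conePointUniqueUpToIso (kernelIsKernel _)
    (biprod.isKernelFstKernelFork _ _)) h2

end Groth.Agent.S5621
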