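import Groth.Statements.S7259
import Groth.Agent.Lib.Helper16.TorLoc3
import Groth.Agent.Lib.Helper16.TildeLoc
import Groth.Agent.Lib.Helper16.RestrictD

set_option autoImplicit false
universe u
open CategoryTheory CategoryTheory.Limits AlgebraicGeometry
attribute [local instance] HasDerivedCategory.standard
open Perf

namespace Groth.Agent.S7259

open Groth.Agent.Lib.Helper16 Groth.Agent.Lib.Helper16.TorLoc Groth.Agent.Lib.Helper16.Stk
  Groth.Agent.Lib.Helper16.TildeLoc CategoryTheory.Limits DerivedCategory

section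

variable {R A : Type u} [CommRing R] [CommRing A] (φ : R →+* A)

/-- the stalk complex over the base is the restriction of the stalk complex. -/
noncomputable def stalkCxOverIso (x : (Spec (CommRingCat.of A) : Scheme.{u}))
    (F : CochainComplex (Spec (CommRingCat.of A)).Modules ℤ) :
    (DerSch.stalkCxOver (Spec.map (CommRingCat.ofHom φ)) x).obj F ≅
      (resCx ((Spec.map (CommRingCat.ofHom φ)).stalkMap x).hom).obj (stkCx x F) :=
  HomologicalComplex.Hom.isoOfComponents (fun _ => Iso.refl _) (fun i j _ => by
    simp only [Iso.refl_hom, Category.comp_id, Category.id_comp]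
    rfl)

variable [PreservesFiniteLimits (tilde.functor (CommRingCat.of A))]

/-- the stalk complex of `F ≅ P~` over the base, in the derived category. -/
noncomputable def stalkOverIso (P : DRing.Cx A)
    (F : CochainComplex (Spec (CommRingCat.of A)).Modules ℤ)
    (e : Q.obj F ≅ (DCoh.tildeD (CommRingCat.of A)).obj (Q.obj P))
    (x : (Spec (CommRingCat.of A) : Scheme.{u})) :
    DRing.toD ((DerSch.stalkCxOver (Spec.map (CommRingCat.ofHom φ)) x).obj F) ≅
      DRing.toD ((resCx ((Spec.map (CommRingCat.ofHom φ)).stalkMap x).hom).obj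
        ((extCx (ψ (CommRingCat.of A) x)).obj P)) :=
  Q.mapIso (stalkCxOverIso φ x F) ≪≫
    (RestrictD.restrictQIso ((Spec.map (CommRingCat.ofHom φ)).stalkMap x).hom (stkCx x F)).symm ≪≫
    (DRing.restrictD ((Spec.map (CommRingCat.ofHom φ)).stalkMap x).hom).mapIso
      (TildeTor.stalkIso (CommRingCat.of A) x P F e).symm ≪≫
    RestrictD.restrictQIso ((Spec.map (CommRingCat.ofHom φ)).stalkMap x).hom
      ((extCx (ψ (CommRingCat.of A) x)).obj P)

end

/-- Let R → A be a ring map, f : X = Spec A ⟶ S = Spec R the induced morphism, M an object of D(A), and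
F a cochain complex of O_X-modules representing the associated object E = M~ of D(O_X) (tilde
recorded as exact). Then, viewed over f⁻¹O_S, the object E is of tor amplitude [a, b], in the
stalkwise form (at every x ∈ X the complex of stalks F_x has tor amplitude in [a, b] over the local
ring O_{S, f(x)}), precisely when the R-module complex obtained from M is of tor amplitude [a, b]
(its restriction of scalars is isomorphic in D(R) to a complex of flat R-modules vanishing outside
[a, b]). -/
theorem result {R A : Type u} [CommRing R] [CommRing A] (φ : R →+* A)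
    [PreservesFiniteLimits (tilde.functor (CommRingCat.of A))] (M : Dual.D A)
    (F : CochainComplex (Spec (CommRingCat.of A)).Modules ℤ)
    (hF : Nonempty (DCoh.toD (Spec (CommRingCat.of A)) F ≅ (DCoh.tildeD (CommRingCat.of A)).obj M)) (a b : ℤ) :
    DerSch.HasTorAmplitude (Spec.map (CommRingCat.ofHom φ)) a b F ↔
      DRing.HasTorAmplitudeIn R a b ((DRing.restrictD φ).obj M) := by
  obtain ⟨e1⟩ := hF
  let P : DRing.Cx A := Q.objPreimage M
  let e0 : Q.obj P ≅ M := Q.objObjPreimageIso M
  let e : Q.obj F ≅ (DCoh.tildeD (CommRingCat.of A)).obj (Q.obj P) :=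
    e1 ≪≫ (DCoh.tildeD (CommRingCat.of A)).mapIso e0.symm
  have hM : DRing.HasTorAmplitudeIn R a b ((DRing.restrictD φ).obj M) ↔
      DRing.HasTorAmplitudeIn R a b (DRing.toD ((resCx φ).obj P)) := by
    have e2 : (DRing.restrictD φ).obj M ≅ DRing.toD ((resCx φ).obj P) :=
      (DRing.restrictD φ).mapIso e0.symm ≪≫ RestrictD.restrictQIso φ P
    exact ⟨fun h => TorAmp.hasTorAmplitudeIn_of_iso e2 a b h,
      fun h => TorAmp.hasTorAmplitudeIn_of_iso e2.symm a b h⟩
  have hx : ∀ x : (Spec (CommRingCat.of A) : Scheme.{u}),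
      DerSch.HasTorAmplitudeAt (Spec.map (CommRingCat.ofHom φ)) a b F x ↔
        DRing.HasTorAmplitudeIn _ a b
          (DRing.toD ((resCx ((Spec.map (CommRingCat.ofHom φ)).stalkMap x).hom).obj
            ((extCx (ψ (CommRingCat.of A) x)).obj P))) := fun x =>
    ⟨fun h => TorAmp.hasTorAmplitudeIn_of_iso (stalkOverIso φ P F e x) a b h,
      fun h => TorAmp.hasTorAmplitudeIn_of_iso (stalkOverIso φ P F e x).symm a b h⟩
  rw [hM]
  constructor
  · intro h
    refine torAmp_up φ
      (fun x : (Spec (CommRingCat.of A) : Scheme.{u}) =>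
        ((Spec.map (CommRingCat.ofHom φ)).stalkMap x).hom)
      (fun x => ψ (CommRingCat.of R) ((Spec.map (CommRingCat.ofHom φ)).base x))
      (fun x => ψ (CommRingCat.of A) x)
      (fun x => ψ_comp (CommRingCat.ofHom φ) x) (fun x => flat_ψ _ _) (fun x => flat_ψ _ _)
      (isZero_of_forall_isZero_ext (CommRingCat.of A)) P a b (fun x => (hx x).1 (h x))
  · intro h x
    refine (hx x).2 ?_
    exact torAmp_down φ _ _ _ (ψ_comp (CommRingCat.ofHom φ) x) (flat_ψ _ _) (flat_ψ _ _)
      (nonempty_ext_res_iso (CommRingCat.of R) ((Spec.map (CommRingCat.ofHom φ)).base x)) P a b h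

end Groth.Agent.S7259
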