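import Groth.Statements.S7264
import Groth.Agent.S1004
import Groth.Agent.S7259
import Groth.Agent.Lib.Helper16.RelAmp1
import Groth.Agent.Lib.Helper16.PC7e

set_option autoImplicit false
universe u
open CategoryTheory CategoryTheory.Limits AlgebraicGeometry
attribute [local instance] HasDerivedCategory.standard
open Perf

namespace Groth.Agent.S7264

open Groth.Agent.Lib.Helper16.RS Groth.Agent.Lib.Helper16.PC DerivedCategory
  Groth.Agent.Lib.Helper1.LocPC Groth.Agent.Lib.Helper1.LocPerf Groth.Agent.Lib.Helper1.LocFree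
  CategoryTheory.Limits AlgebraicGeometry CategoryTheory.Pretriangulated
  Groth.Agent.Lib.Helper16.Stk Groth.Agent.Lib.Helper16 Groth.Agent.Lib.Helper16.RelAmp

/-- (1) ⇔ (2) in the affine case to which the proof reduces: let R → A be flat and of finite
presentation, f : X = Spec A ⟶ S = Spec R, M ∈ D(A) and E = M~ ∈ D(O_X) (tilde recorded as exact),
so that RΓ(X, E) = M. Then E is S-perfect (pseudo-coherent, and locally on X represented by a
bounded complex of O_X-modules flat over S) if and only if M is R-perfect (pseudo-coherent as a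
complex of A-modules and of finite tor dimension as a complex of R-modules). -/
theorem result (R A : Type u) [CommRing R] [CommRing A] [Algebra R A]
    [Module.Flat R A] [Algebra.FinitePresentation R A]
    [PreservesFiniteLimits (tilde.functor (CommRingCat.of A))] (M : Dual.D A) :
    ((∀ m : ℤ, DCoh.IsPseudoCoherentD m ((DCoh.tildeD (CommRingCat.of A)).obj M)) ∧
      DCoh.LocHasFiniteRelTorDim (Spec.map (CommRingCat.ofHom (algebraMap R A))) ((DCoh.tildeD (CommRingCat.of A)).obj M)) ↔
    Dual2.IsRelPerfect R A M := by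
  haveI : Flat (Spec.map (CommRingCat.ofHom (algebraMap R A))) := by
    rw [HasRingHomProperty.Spec_iff (P := @Flat)]
    change (algebraMap R A).Flat
    rw [RingHom.flat_algebraMap_iff]
    infer_instance
  -- a representative of `M~`
  obtain ⟨F, ⟨eF⟩⟩ := exists_rep ((DCoh.tildeD (CommRingCat.of A)).obj M)
  constructor
  · rintro ⟨hpc, hrel⟩
    refine ⟨pc'_of_pc (fun m => Groth.Agent.S1004.pc_of_pc_tilde (CommRingCat.of A) M m (hpc m)), ?_⟩
    rw [locHasFiniteRelTorDim_iff] at hrel
    choose W a b hxW htor using hrel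
    obtain ⟨t, ht⟩ := isCompact_univ.elim_finite_subcover
      (fun x : (Spec (CommRingCat.of A) : Scheme.{u}) =>
        ((W x : (Spec (CommRingCat.of A)).Opens) : Set (Spec (CommRingCat.of A) : Scheme.{u})))
      (fun x => (W x).isOpen) (fun x _ => Set.mem_iUnion.2 ⟨x, hxW x⟩)
    obtain ⟨a₁, ha₁⟩ := (t.image (fun x => - a x)).exists_le
    obtain ⟨b₀, hb₀⟩ := (t.image b).exists_le
    refine ⟨- a₁, b₀, (Groth.Agent.S7259.result (algebraMap R A) M F ⟨eF⟩ (- a₁) b₀).1 ?_⟩
    intro y
    obtain ⟨x, hx⟩ := Set.mem_iUnion.1 (ht (Set.mem_univ y))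
    obtain ⟨hxt, hyx⟩ := Set.mem_iUnion.1 hx
    have h1 : - a₁ ≤ a x := by
      have h0 : - a x ≤ a₁ := ha₁ _ (Finset.mem_image_of_mem (fun x => - a x) hxt)
      omega
    have h2 : b x ≤ b₀ := hb₀ _ (Finset.mem_image_of_mem b hxt)
    have h3 := torAt_of_iso _ _ _ eF.symm y (htor x y hyx)
    exact TorAmp.torAmp_mono _ _ _ _ _ h1 h2 ((torAt_toD_iff _ _ _ F y).1 h3)
  · rintro ⟨hpc', a, b, htor⟩
    refine ⟨fun m => Groth.Agent.S1004.pc_tilde_of_pc (CommRingCat.of A) M m (pc_of_pc' hpc' m), ?_⟩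
    rw [locHasFiniteRelTorDim_iff]
    intro x
    refine ⟨⊤, a, b, trivial, fun y _ => ?_⟩
    have h1 := (Groth.Agent.S7259.result (algebraMap R A) M F ⟨eF⟩ a b).2 htor y
    exact torAt_of_iso _ _ _ eF y ((torAt_toD_iff _ _ _ F y).2 h1)

end Groth.Agent.S7264
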