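import Groth.Statements.S7248
import Groth.Agent.Lib.Helper16.RS10
import Groth.Agent.Lib.Helper29.FreeIso3

set_option autoImplicit false
universe u
open CategoryTheory CategoryTheory.Limits AlgebraicGeometry
attribute [local instance] HasDerivedCategory.standard
open Perf

namespace Groth.Agent.S7248

open Groth.Agent.Lib.Helper16.RS in
theorem isPseudoCoherentD_of_isPerfect {X : Scheme.{u}} (E : DCoh.D X) (hE : DCoh.IsPerfect E) (m : ℤ) :
    DCoh.IsPseudoCoherentD m E := by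
  intro x
  obtain ⟨V, hx, hV⟩ := hE x
  refine ⟨V, hx, ?_⟩
  intro F hF
  obtain ⟨E₀, hE₀, ⟨e⟩⟩ := hV F hF
  exact ⟨E₀, e.inv, hE₀, fun i _ => inferInstance, inferInstance⟩

theorem isFlatOver_of_isFinLocFree {X S : Scheme.{u}} (g : X ⟶ S) [Flat g] (M : X.Modules)
    (hM : FlatMod.IsFinLocFree M) : FlatMod.IsFlatOver g M := by
  intro y
  obtain ⟨W, n, hy, ⟨e⟩⟩ := hM y
  obtain ⟨τ, hτ⟩ := Groth.Agent.Lib.Helper29.FreeIso.exists_isBasisOn_of_iso M W n e
  haveI := hτ.free_stalk y hy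
  have hflat : (g.stalkMap y).hom.Flat := Flat.stalkMap g y
  unfold FlatMod.IsFlatOverAt
  letI := FlatMod.moduleStalkOver g M y
  letI : Algebra (S.presheaf.stalk (g.base y)) (X.presheaf.stalk y) := (g.stalkMap y).hom.toAlgebra
  haveI : Module.Flat (S.presheaf.stalk (g.base y)) (X.presheaf.stalk y) := hflat
  haveI : IsScalarTower (S.presheaf.stalk (g.base y)) (X.presheaf.stalk y) (M.presheaf.stalk y) :=
    IsScalarTower.of_algebraMap_smul (fun r m => rfl)
  haveI : Module.Flat (X.presheaf.stalk y) (M.presheaf.stalk y) := Module.Flat.of_free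
  exact Module.Flat.trans (S.presheaf.stalk (g.base y)) (X.presheaf.stalk y) (M.presheaf.stalk y)

/-- Let f : X ⟶ S be flat and locally of finite presentation. Then a perfect object E of D(O_X) is
S-perfect, that is, E is pseudo-coherent (m-pseudo-coherent for every m) and, locally on X, the tor
dimension of E over the sheaf of rings f⁻¹O_S is finite (locally represented by a bounded complex of
O_X-modules flat over S). -/
theorem result {X S : Scheme.{u}} (f : X ⟶ S) [Flat f] [LocallyOfFinitePresentation f]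
    (E : DCoh.D X) (hE : DCoh.IsPerfect E) :
    (∀ m : ℤ, DCoh.IsPseudoCoherentD m E) ∧ DCoh.LocHasFiniteRelTorDim f E := by
  refine ⟨fun m => isPseudoCoherentD_of_isPerfect E hE m, ?_⟩
  intro x
  obtain ⟨F₀, ⟨e₀⟩⟩ := Groth.Agent.Lib.Helper16.RS.exists_rep E
  obtain ⟨V, hx, hV⟩ := hE x
  obtain ⟨E₀, ⟨⟨a, b, hab⟩, hfree⟩, ⟨e⟩⟩ := hV F₀ ⟨e₀⟩
  refine ⟨V, a, b, hx, ?_⟩
  rintro F' ⟨eF'⟩
  obtain ⟨e'⟩ := Groth.Agent.Lib.Helper16.RS.nonempty_iso_Q_RCx V.ι (e₀ ≪≫ eF'.symm)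
  exact ⟨E₀, hab, fun i => isFlatOver_of_isFinLocFree (V.ι ≫ f) _ (hfree i), ⟨e.symm ≪≫ e'⟩⟩

end Groth.Agent.S7248
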