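import Groth.Statements.S8804
import Groth.Agent.S3866
import Mathlib

set_option autoImplicit false
universe u
open AdicRing

namespace Groth.Agent.S8804

open Polynomial in
/-- A complete domain has no nontrivial idempotents mod `J`: idempotents lift. -/
theorem idem_lift {B : Type u} [CommRing B] [IsDomain B] (J : Ideal B) [IsAdicComplete J B]
    (r : B ⧸ J) (hr : IsIdempotentElem r) : r = 0 ∨ r = 1 := by
  obtain ⟨a₀, rfl⟩ := Ideal.Quotient.mk_surjective r
  have hH : HenselianRing B J := inferInstance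
  have h1 : (X ^ 2 - X : B[X]).eval a₀ ∈ J := by
    rw [← Ideal.Quotient.eq_zero_iff_mem]
    have : Ideal.Quotient.mk J a₀ * Ideal.Quotient.mk J a₀ = Ideal.Quotient.mk J a₀ := hr
    rw [eval_sub, eval_pow, eval_X, map_sub, map_pow, pow_two, this, sub_self]
  have h2 : IsUnit (Ideal.Quotient.mk J ((X ^ 2 - X : B[X]).derivative.eval a₀)) := by
    have hd : (X ^ 2 - X : B[X]).derivative.eval a₀ = 2 * a₀ - 1 := by
      rw [derivative_sub, derivative_X_pow, derivative_X, eval_sub, eval_mul, eval_one]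
      simp
    rw [hd]
    have : Ideal.Quotient.mk J a₀ * Ideal.Quotient.mk J a₀ = Ideal.Quotient.mk J a₀ := hr
    refine IsUnit.of_mul_eq_one (Ideal.Quotient.mk J (2 * a₀ - 1)) ?_
    simp only [map_sub, map_mul, map_one, map_ofNat]
    linear_combination 4 * this
  have hmonic : (X ^ 2 - X : B[X]).Monic := by
    apply monic_X_pow_sub
    simp
  obtain ⟨e, he, hea⟩ := hH.is_henselian _ hmonic a₀ h1 h2
  have he' : e * (e - 1) = 0 := by
    have : e ^ 2 - e = 0 := by simpa [IsRoot] using he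
    linear_combination this
  rcases mul_eq_zero.mp he' with h0 | h1'
  · left
    rw [Ideal.Quotient.eq_zero_iff_mem]
    have := J.neg_mem hea
    rw [h0] at this
    simpa using this
  · right
    have h1'' : e = 1 := sub_eq_zero.mp h1'
    rw [← map_one (Ideal.Quotient.mk J), eq_comm, Ideal.Quotient.eq]
    rw [h1''] at hea
    exact hea

theorem isPrecomplete_of_pow_le {A : Type*} [CommRing A] (J M : Ideal A) (k : ℕ)
    (hJM : J ≤ M) (hMJ : M ^ k ≤ J) [IsPrecomplete J A] : IsPrecomplete M A := by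
  have hMJ' : M ^ (k + 1) ≤ J := (Ideal.pow_le_pow_right (Nat.le_succ k)).trans hMJ
  refine ⟨fun f hf => ?_⟩
  have hg : ∀ {m n : ℕ}, m ≤ n →
      f ((k + 1) * m) ≡ f ((k + 1) * n) [SMOD (J ^ m • ⊤ : Submodule A A)] := by
    intro m n hmn
    refine SModEq.mono ?_ (hf (Nat.mul_le_mul_left (k + 1) hmn))
    refine Submodule.smul_mono_left ?_
    rw [pow_mul]
    exact Ideal.pow_right_mono hMJ' m
  obtain ⟨L, hL⟩ := IsPrecomplete.prec ‹IsPrecomplete J A› hg
  refine ⟨L, fun n => ?_⟩
  have h1 : f n ≡ f ((k + 1) * n) [SMOD (M ^ n • ⊤ : Submodule A A)] :=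
    hf (Nat.le_mul_of_pos_left n (Nat.succ_pos k))
  have h2 : f ((k + 1) * n) ≡ L [SMOD (M ^ n • ⊤ : Submodule A A)] := by
    refine SModEq.mono ?_ (hL n)
    exact Submodule.smul_mono_left (Ideal.pow_right_mono hJM n)
  exact h1.trans h2

/-- A Noetherian domain with a nonzero element lying in every nonzero prime has dimension ≤ 1. -/
theorem krullDimLE_one_of_mem_primes {B : Type u} [CommRing B] [IsDomain B] [IsNoetherianRing B]
    (f : B) (hf : f ≠ 0) (h : ∀ p : Ideal B, p.IsPrime → p ≠ ⊥ → f ∈ p) : Ring.KrullDimLE 1 B := by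
  classical
  rw [Ring.krullDimLE_one_iff_of_noZeroDivisors]
  intro p hp0 hp
  by_contra hmax
  obtain ⟨p2, hp2max, hpp2⟩ := Ideal.exists_le_maximal p hp.ne_top
  have hlt : p < p2 := lt_of_le_of_ne hpp2 (by rintro rfl; exact hmax hp2max)
  haveI := hp2max.isPrime
  haveI : (⊥ : Ideal B).IsPrime := Ideal.isPrime_bot
  -- any prime strictly above a nonzero prime has height ≥ 2
  have h2 : ∀ (a b : Ideal B), a.IsPrime → b.IsPrime → a ≠ ⊥ → a < b → ¬ b.height ≤ 1 := by
    intro a b ha hb ha0 hab hb1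
    have e1 : (⊥ : Ideal B).height + 1 ≤ a.height :=
      Ideal.height_add_one_le_of_lt_of_isPrime (bot_lt_iff_ne_bot.mpr ha0)
    have e2 : a.height + 1 ≤ b.height := Ideal.height_add_one_le_of_lt_of_isPrime hab
    have e3 : (1 : ℕ∞) ≤ a.height := le_trans (by simp) e1
    have e4 : (1 : ℕ∞) + 1 ≤ 1 := le_trans (add_le_add_left e3 1) (e2.trans hb1)
    norm_num at e4
  have hfin := (Ideal.span {f}).finite_minimalPrimes_of_isNoetherianRing
  have hnot : ¬ ((p2 : Set B) ⊆ ⋃ i ∈ (↑hfin.toFinset : Set (Ideal B)), (i : Set B)) := by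
    rw [Ideal.subset_union_prime ⊥ ⊥ (fun i hi _ _ => (hfin.mem_toFinset.mp hi).1.1)]
    rintro ⟨i, hi, hle⟩
    have hi' := hfin.mem_toFinset.mp hi
    haveI := hi'.1.1
    have : i.height ≤ 1 := Ideal.height_le_one_of_isPrincipal_of_mem_minimalPrimes _ i hi'
    exact h2 p i hp hi'.1.1 hp0 (lt_of_lt_of_le hlt hle) this
  rw [Set.not_subset] at hnot
  obtain ⟨y, hy2, hyn⟩ := hnot
  have hyn' : ∀ i ∈ (Ideal.span {f}).minimalPrimes, y ∉ i := by
    intro i hi hyi
    apply hyn
    simp only [Set.mem_iUnion, SetLike.mem_coe, exists_prop]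
    exact ⟨i, by simpa using hi, hyi⟩
  -- f ∈ p2
  have hfp2 : f ∈ p2 := h p2 inferInstance (by rintro rfl; exact hp0 (le_bot_iff.mp hpp2))
  obtain ⟨p', hp'min, hp'le⟩ := Ideal.exists_minimalPrimes_le
    (I := Ideal.span {y}) (J := p2) ((Ideal.span_singleton_le_iff_mem _).mpr hy2)
  haveI := hp'min.1.1
  have hyp' : y ∈ p' := hp'min.1.2 (Ideal.mem_span_singleton_self y)
  have hp'1 : p'.height ≤ 1 := Ideal.height_le_one_of_isPrincipal_of_mem_minimalPrimes _ p' hp'min
  have hp'0 : p' ≠ ⊥ := by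
    rintro rfl
    obtain ⟨i, hi, -⟩ := Ideal.exists_minimalPrimes_le
      (I := Ideal.span {f}) (J := p2) ((Ideal.span_singleton_le_iff_mem _).mpr hfp2)
    apply hyn' i hi
    rw [Ideal.mem_bot.mp hyp']
    exact i.zero_mem
  have hfp' : f ∈ p' := h p' inferInstance hp'0
  obtain ⟨i, hi, hile⟩ := Ideal.exists_minimalPrimes_le
    (I := Ideal.span {f}) (J := p') ((Ideal.span_singleton_le_iff_mem _).mpr hfp')
  have hi0 : i ≠ ⊥ := by
    rintro rfl
    exact hf (Ideal.mem_bot.mp (hi.1.2 (Ideal.mem_span_singleton_self f)))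
  rcases eq_or_lt_of_le hile with heq | hlt'
  · exact hyn' i hi (heq ▸ hyp')
  · exact h2 i p' hi.1.1 inferInstance hi0 hlt' hp'1

/-- Let A be a Noetherian ring which is complete for the adic topology of an ideal I, and let q be a
prime ideal of A. The following are equivalent: (1) I ⊄ q and q is maximal among the primes not
containing I; (5) dim(A/q) = 1 and I ⊄ q; (8) A/q is a one-dimensional complete local ring whose
maximal ideal is the radical of the image of I (stated as: the Krull dimension of A/q is 1, every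
maximal ideal of A/q equals the radical of I(A/q), and A/q is adically complete for that radical).
(The other equivalent forms, for other ideals of definition or for the induced topology, are not
stated.) -/
theorem result (A : Type u) [CommRing A] [IsNoetherianRing A] (I : Ideal A) [IsAdicComplete I A] (q : PrimeSpectrum A) : List.TFAE [¬ I ≤ q.asIdeal ∧ ∀ q' : PrimeSpectrum A, q ≤ q' → ¬ I ≤ q'.asIdeal → q' = q, ringKrullDim (A ⧸ q.asIdeal) = 1 ∧ ¬ I ≤ q.asIdeal, ringKrullDim (A ⧸ q.asIdeal) = 1 ∧ (∀ m : Ideal (A ⧸ q.asIdeal), m.IsMaximal → m = (I.map (Ideal.Quotient.mk q.asIdeal)).radical) ∧ IsAdicComplete (I.map (Ideal.Quotient.mk q.asIdeal)).radical (A ⧸ q.asIdeal)] := by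
  classical
  haveI : q.asIdeal.IsPrime := q.isPrime
  haveI : IsDomain (A ⧸ q.asIdeal) := Ideal.Quotient.isDomain _
  have hcompl : IsAdicComplete (I.map (Ideal.Quotient.mk q.asIdeal)) (A ⧸ q.asIdeal) := by
    have h := Groth.Agent.S3866.result A I (A ⧸ q.asIdeal)
    exact (IsAdicComplete.map_algebraMap_iff (R := A) (S := A ⧸ q.asIdeal)
      (M := A ⧸ q.asIdeal) (I := I)).mpr h
  have hJjac : I.map (Ideal.Quotient.mk q.asIdeal) ≤ Ideal.jacobson ⊥ :=
    IsAdicComplete.le_jacobson_bot _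
  have hJbot : I.map (Ideal.Quotient.mk q.asIdeal) = ⊥ ↔ I ≤ q.asIdeal := by
    rw [Ideal.map_eq_bot_iff_le_ker, Ideal.mk_ker]
  have hmaxJ : ∀ m : Ideal (A ⧸ q.asIdeal), m.IsMaximal →
      I.map (Ideal.Quotient.mk q.asIdeal) ≤ m :=
    fun m hm => hJjac.trans (sInf_le ⟨bot_le, hm⟩)
  have hdimle : ringKrullDim (A ⧸ q.asIdeal) = 1 → Ring.KrullDimLE 1 (A ⧸ q.asIdeal) := by
    intro h
    rw [Ring.krullDimLE_iff, h]
    simp
  tfae_have 1 → 2 := by
    rintro ⟨hI, hmax⟩
    refine ⟨?_, hI⟩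
    obtain ⟨a, haI, haq⟩ := SetLike.not_le_iff_exists.mp hI
    have hf0 : Ideal.Quotient.mk q.asIdeal a ≠ 0 := by
      rw [Ne, Ideal.Quotient.eq_zero_iff_mem]; exact haq
    have hfJ : Ideal.Quotient.mk q.asIdeal a ∈ I.map (Ideal.Quotient.mk q.asIdeal) :=
      Ideal.mem_map_of_mem _ haI
    have hprimes : ∀ p : Ideal (A ⧸ q.asIdeal), p.IsPrime → p ≠ ⊥ →
        Ideal.Quotient.mk q.asIdeal a ∈ p := by
      intro p hp hp0
      by_cases hIp : I ≤ p.comap (Ideal.Quotient.mk q.asIdeal)
      · exact hIp haI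
      · exfalso
        have hqp : q ≤ ⟨p.comap (Ideal.Quotient.mk q.asIdeal), inferInstance⟩ := by
          show q.asIdeal ≤ p.comap (Ideal.Quotient.mk q.asIdeal)
          conv_lhs => rw [← Ideal.mk_ker (I := q.asIdeal)]
          exact Ideal.comap_mono bot_le
        have := hmax ⟨p.comap (Ideal.Quotient.mk q.asIdeal), inferInstance⟩ hqp hIp
        apply hp0
        have h2 : p.comap (Ideal.Quotient.mk q.asIdeal) = q.asIdeal :=
          congrArg PrimeSpectrum.asIdeal this
        rw [← Ideal.map_comap_of_surjective (Ideal.Quotient.mk q.asIdeal)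
          Ideal.Quotient.mk_surjective p, h2, Ideal.map_quotient_self]
    haveI := krullDimLE_one_of_mem_primes _ hf0 hprimes
    apply le_antisymm
    · have := Ring.krullDimLE_iff.mp (inferInstance : Ring.KrullDimLE 1 (A ⧸ q.asIdeal))
      simpa using this
    · obtain ⟨m, hm⟩ := Ideal.exists_maximal (A ⧸ q.asIdeal)
      haveI := hm.isPrime
      haveI : (⊥ : Ideal (A ⧸ q.asIdeal)).IsPrime := Ideal.isPrime_bot
      have hm0 : m ≠ ⊥ := by
        rintro rfl; exact hf0 (Ideal.mem_bot.mp (hmaxJ ⊥ hm hfJ))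
      have h1 : (⊥ : Ideal (A ⧸ q.asIdeal)).height + 1 ≤ m.height :=
        Ideal.height_add_one_le_of_lt_of_isPrime (bot_lt_iff_ne_bot.mpr hm0)
      have h2 : (1 : ℕ∞) ≤ m.height := le_trans (by simp) h1
      calc (1 : WithBot ℕ∞) ≤ (m.height : WithBot ℕ∞) := by exact_mod_cast h2
        _ ≤ ringKrullDim (A ⧸ q.asIdeal) := Ideal.height_le_ringKrullDim_of_isPrime
  tfae_have 2 → 1 := by
    rintro ⟨hdim, hI⟩
    refine ⟨hI, fun q' hqq' hIq' => ?_⟩
    by_contra hne
    haveI : Ring.KrullDimLE 1 (A ⧸ q.asIdeal) := hdimle hdim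
    haveI : q'.asIdeal.IsPrime := q'.isPrime
    have hker : RingHom.ker (Ideal.Quotient.mk q.asIdeal) ≤ q'.asIdeal := by
      rw [Ideal.mk_ker]; exact hqq'
    have hprime : (q'.asIdeal.map (Ideal.Quotient.mk q.asIdeal)).IsPrime :=
      Ideal.map_isPrime_of_surjective Ideal.Quotient.mk_surjective hker
    have hcomap : (q'.asIdeal.map (Ideal.Quotient.mk q.asIdeal)).comap
        (Ideal.Quotient.mk q.asIdeal) = q'.asIdeal := by
      rw [Ideal.comap_map_of_surjective _ Ideal.Quotient.mk_surjective,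
        ← RingHom.ker_eq_comap_bot, sup_eq_left]
      exact hker
    have h0 : q'.asIdeal.map (Ideal.Quotient.mk q.asIdeal) ≠ ⊥ := by
      intro h
      rw [Ideal.map_eq_bot_iff_le_ker, Ideal.mk_ker] at h
      exact hne (PrimeSpectrum.ext (le_antisymm h hqq'))
    have hmax := hprime.isMaximal_of_ne_bot h0
    apply hIq'
    rw [← hcomap]
    exact Ideal.map_le_iff_le_comap.mp (hmaxJ _ hmax)
  tfae_have 2 → 3 := by
    rintro ⟨hdim, hI⟩
    haveI : Ring.KrullDimLE 1 (A ⧸ q.asIdeal) := hdimle hdim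
    have hJ0 : I.map (Ideal.Quotient.mk q.asIdeal) ≠ ⊥ := fun h => hI (hJbot.mp h)
    have hprimeMax : ∀ p : Ideal (A ⧸ q.asIdeal), p.IsPrime →
        I.map (Ideal.Quotient.mk q.asIdeal) ≤ p → p.IsMaximal := by
      intro p hp hJp
      exact hp.isMaximal_of_ne_bot (by rintro rfl; exact hJ0 (le_bot_iff.mp hJp))
    generalize hJdef : I.map (Ideal.Quotient.mk q.asIdeal) = J at *
    haveI : Ring.KrullDimLE 0 ((A ⧸ q.asIdeal) ⧸ J) := by
      apply Ring.KrullDimLE.mk₀
      intro P hP
      have hmaxc : (P.comap (Ideal.Quotient.mk J)).IsMaximal :=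
        hprimeMax _ (Ideal.comap_isPrime _ _) (by
          conv_lhs => rw [← Ideal.mk_ker (I := J)]
          exact Ideal.comap_mono bot_le)
      have := Ideal.map_eq_top_or_isMaximal_of_surjective (Ideal.Quotient.mk J)
        Ideal.Quotient.mk_surjective hmaxc
      rw [Ideal.map_comap_of_surjective _ Ideal.Quotient.mk_surjective] at this
      exact this.resolve_left hP.ne_top
    haveI : IsArtinianRing ((A ⧸ q.asIdeal) ⧸ J) :=
      isArtinianRing_iff_isNoetherianRing_krullDimLE_zero.mpr ⟨inferInstance, inferInstance⟩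
    have hlocal : ∀ m1 m2 : Ideal (A ⧸ q.asIdeal), m1.IsMaximal → m2.IsMaximal → m1 = m2 := by
      intro m1 m2 h1 h2
      by_contra hne
      have hk1 : RingHom.ker (Ideal.Quotient.mk J) ≤ m1 := by
        rw [Ideal.mk_ker]; exact hmaxJ m1 h1
      have hk2 : RingHom.ker (Ideal.Quotient.mk J) ≤ m2 := by
        rw [Ideal.mk_ker]; exact hmaxJ m2 h2
      haveI := h1.isPrime
      haveI := h2.isPrime
      haveI hP1 : (m1.map (Ideal.Quotient.mk J)).IsPrime :=
        Ideal.map_isPrime_of_surjective Ideal.Quotient.mk_surjective hk1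
      have hP2 : (m2.map (Ideal.Quotient.mk J)).IsPrime :=
        Ideal.map_isPrime_of_surjective Ideal.Quotient.mk_surjective hk2
      obtain ⟨r, hr1, hridem, hrall⟩ :=
        IsArtinianRing.exists_not_mem_forall_mem_of_ne (m1.map (Ideal.Quotient.mk J))
      have hne' : m2.map (Ideal.Quotient.mk J) ≠ m1.map (Ideal.Quotient.mk J) := by
        intro h
        apply hne
        have := congrArg (Ideal.comap (Ideal.Quotient.mk J)) h
        rw [Ideal.comap_map_of_surjective _ Ideal.Quotient.mk_surjective,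
          Ideal.comap_map_of_surjective _ Ideal.Quotient.mk_surjective,
          ← RingHom.ker_eq_comap_bot, sup_eq_left.mpr hk2, sup_eq_left.mpr hk1] at this
        exact this.symm
      have hr2 := hrall _ hP2 hne'
      rcases idem_lift J r hridem with h | h
      · exact hr1 (h ▸ Ideal.zero_mem _)
      · exact hP2.ne_top (Ideal.eq_top_of_isUnit_mem _ hr2 (h ▸ isUnit_one))
    have hrad : ∀ m : Ideal (A ⧸ q.asIdeal), m.IsMaximal → m = J.radical := by
      intro m hm
      rw [Ideal.radical_eq_sInf]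
      apply le_antisymm
      · apply le_sInf
        rintro p ⟨hJp, hp⟩
        exact (hlocal m p hm (hprimeMax p hp hJp)).le
      · exact sInf_le ⟨hmaxJ m hm, hm.isPrime⟩
    refine ⟨hdim, hrad, ?_⟩
    have hradjac : J.radical ≤ Ideal.jacobson ⊥ := by
      calc J.radical ≤ J.jacobson := Ideal.radical_le_jacobson
        _ ≤ (Ideal.jacobson ⊥).jacobson := Ideal.jacobson_mono hJjac
        _ = Ideal.jacobson ⊥ := Ideal.jacobson_idem
    haveI : IsHausdorff J.radical (A ⧸ q.asIdeal) := IsHausdorff.of_le_jacobson _ _ hradjac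
    obtain ⟨k, hk⟩ := Ideal.exists_radical_pow_le_of_fg J (IsNoetherian.noetherian _)
    haveI := hcompl.toIsPrecomplete
    haveI : IsPrecomplete J.radical (A ⧸ q.asIdeal) :=
      isPrecomplete_of_pow_le J _ k Ideal.le_radical hk
    exact { }
  tfae_have 3 → 2 := by
    rintro ⟨hdim, hrad, -⟩
    refine ⟨hdim, fun hI => ?_⟩
    have hJ0 : I.map (Ideal.Quotient.mk q.asIdeal) = ⊥ := hJbot.mpr hI
    obtain ⟨m, hm⟩ := Ideal.exists_maximal (A ⧸ q.asIdeal)
    have hm0 : m = ⊥ := by
      rw [hrad m hm, hJ0]; exact Ideal.radical_bot_of_isReduced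
    subst hm0
    haveI : Ring.KrullDimLE 0 (A ⧸ q.asIdeal) := by
      apply Ring.KrullDimLE.mk₀
      intro P hP
      have : P = ⊥ := (hm.eq_of_le hP.ne_top bot_le).symm
      rw [this]; exact hm
    have h0 := Ring.krullDimLE_iff.mp (inferInstance : Ring.KrullDimLE 0 (A ⧸ q.asIdeal))
    rw [hdim] at h0
    norm_num at h0
  tfae_finish

end Groth.Agent.S8804
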