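import Groth.Statements.S8306
import Groth.Agent.Lib.Helper17.FTExt
import Mathlib
set_option backward.isDefEq.respectTransparency.types false

set_option autoImplicit false
universe u
open CategoryTheory CategoryTheory.Limits AlgebraicGeometry Opposite TopologicalSpace
noncomputable section
open EGA2

namespace Groth.Agent.S8306
open Groth.Agent.Lib.Helper28.QCohLoc

/-- an epimorphism of quasi-coherent modules is surjective on the sections over an affine open -/
theorem surjective_app_of_epi {X : Scheme.{u}} {F G : X.Modules} [F.IsQuasicoherent] [G.IsQuasicoherent]
    (v : F ⟶ G) [Epi v] {U : X.Opens} (hU : IsAffineOpen U) : Function.Surjective (v.app U) := by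
  let S : ShortComplex X.Modules := ShortComplex.mk (kernel.ι v) v (kernel.condition v)
  have hS : S.ShortExact :=
    { exact := ShortComplex.exact_of_f_is_kernel _ (kernelIsKernel v)
      mono_f := inferInstanceAs (Mono (kernel.ι v))
      epi_g := ‹Epi v› }
  haveI : S.X₁.IsQuasicoherent := Groth.Agent.Lib.Helper17.CohKer.isQuasicoherent_kernel v
  exact Groth.Agent.Lib.Helper17.AffineSurj.surjective_app_of_shortExact S hS hU


/-- Exactness: in the form it takes for the direct image: let f : X → S be an affine morphism and v : F
→ G an epimorphism between quasi-coherent O_X-modules. Then the direct image f_*(v) : f_*F → f_*G, a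
homomorphism of modules over the direct-image algebra f_*O_X, is again an epimorphism. (The
published statement says that the module on X attached to a quasi-coherent f_*O_X-module is an exact
functor of that module; since this functor is inverse to the direct image on quasi-coherent modules
and the direct image is left exact, its exactness amounts to the direct image preserving
epimorphisms between quasi-coherent modules.) -/
theorem result {X S : Scheme.{u}} (f : X ⟶ S) [IsAffineHom f]
    (F G : X.Modules) (hF : Coh.IsQCoh F) (hG : Coh.IsQCoh G) (v : F ⟶ G) [Epi v] :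
    Epi ((AMod.dirImg f).map v) := by
  haveI : F.IsQuasicoherent := hF
  haveI : G.IsQuasicoherent := hG
  let R := AMod.ringSheaf (RelSpec.QCAlg.directImage f)
  apply (SheafOfModules.toSheaf.{u} R).epi_of_epi_map
  apply (config := { allowSynthFailures := true }) Sheaf.epi_of_isLocallySurjective
  refine ⟨fun {V} t => ?_⟩
  intro y hy
  obtain ⟨_, ⟨W, (hW : IsAffineOpen W), rfl⟩, hyW, hWV⟩ :=
    S.isBasis_affineOpens.exists_subset_of_mem_open hy V.2
  have hWV' : W ≤ V := hWV
  refine ⟨W, homOfLE hWV', ?_, hyW⟩
  let t' : Γ(G, f ⁻¹ᵁ V) := t
  obtain ⟨s, hs⟩ := surjective_app_of_epi v (hW.preimage f) (res G (f.preimage_mono hWV') t')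
  exact ⟨s, hs⟩

end Groth.Agent.S8306
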