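import Groth.Statements.S0232
import Groth.Agent.Lib.Helper17.FlatBCUnit
import Groth.Agent.Lib.Helper17.InvDescLoc
import Groth.Agent.Lib.Helper13.AlbTriv
import Groth.Agent.Lib.Helper28.GenIso
import Groth.Agent.Lib.Helper28.TensorPowGen
import Mathlib
set_option backward.isDefEq.respectTransparency.types false

set_option autoImplicit false
universe u
open CategoryTheory CategoryTheory.Limits AlgebraicGeometry
open Curves

namespace Groth.Agent.S0232

open TopologicalSpace
open Groth.Agent.Lib.Helper28 Groth.Agent.Lib.Helper28.QCohLoc Groth.Agent.Lib.Helper28.GenLocus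
open Groth.Agent.Lib.Helper17 Groth.Agent.Lib.Helper13.AlbTriv

theorem cl_eq_iff {Y : Scheme.{u}} (L M : Y.Modules) : PicF.cl L = PicF.cl M ↔ Nonempty (L ≅ M) := by
  constructor
  · intro h
    have h' := Quot.eqvGen_exact h
    clear h
    induction h' with
    | rel a b hab => exact hab
    | refl a => exact ⟨Iso.refl _⟩
    | symm a b _ ih => exact ⟨ih.some.symm⟩
    | trans a b c _ _ ih1 ih2 => exact ⟨ih1.some ≪≫ ih2.some⟩
  · intro h
    exact Quot.sound h

theorem isGen_of_iso {Z : Scheme.{u}} {M N : Z.Modules} (φ : M ≅ N) {U : Z.Opens} {g : Γ(M, U)}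
    (hg : IsGen M U g) : IsGen N U (φ.hom.app U g) := by
  intro W hW
  have hfun : (fun c : Γ(Z, W) => (c • res N hW (φ.hom.app U g) : Γ(N, W))) =
      (φ.hom.app W) ∘ (fun c : Γ(Z, W) => (c • res M hW g : Γ(M, W))) := by
    funext c
    rw [Function.comp_apply, Scheme.Modules.Hom.app_smul, app_res]
  rw [hfun]
  exact (app_bijective_of_isIso φ.hom W).comp (hg W hW)

theorem isArtinianRing_Γ (k : Type u) [Field k] (X : Scheme.{u}) [X.Over (Spec (CommRingCat.of k))]
    (hfin : Module.Finite k (Coh.HH X (Coh.structureModule X) 0)) : IsArtinianRing Γ(X, ⊤) := by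
  let ψ : k →+* Γ(X, ⊤) :=
    ((X ↘ Spec (CommRingCat.of k)).appTop).hom.comp (Scheme.ΓSpecIso (CommRingCat.of k)).inv.hom
  letI : Algebra k Γ(X, ⊤) := ψ.toAlgebra
  let eL : Coh.HH X (Coh.structureModule X) 0 ≃ₗ[k] Γ(X, ⊤) :=
    { toFun := fun x => (show Γ(X, ⊤) from e0 X x)
      invFun := fun r => (e0 X).symm (show Coh.Γtop X from r)
      left_inv := fun x => (e0 X).symm_apply_apply x
      right_inv := fun r => (e0 X).apply_symm_apply r
      map_add' := fun x y => map_add (e0 X) x y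
      map_smul' := fun c x => by
        show (show Γ(X, ⊤) from e0 X (c • x)) = ψ c * (show Γ(X, ⊤) from e0 X x)
        exact e0_smul k X c x }
  haveI : Module.Finite k Γ(X, ⊤) := Module.Finite.equiv eL
  exact IsArtinianRing.of_finite k Γ(X, ⊤)


/-- For a quasi-compact quasi-separated scheme X over a field k with finite-dimensional H^0(X, O_X), an
invertible module on X that becomes trivial after base change to a field extension k' is already
trivial (injectivity of Pic(X) → Pic(X_{k'}), stated on classes without a group structure). The base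
change is given as any pullback square. -/
theorem result (k : Type u) [Field k] (X : Scheme.{u}) [X.Over (Spec (CommRingCat.of k))]
    [CompactSpace X] [QuasiSeparatedSpace X]
    (hfin : Module.Finite k (Coh.HH X (Coh.structureModule X) 0))
    (k' : Type u) [Field k'] [Algebra k k'] (X' : Scheme.{u}) (g : X' ⟶ X) (q : X' ⟶ Spec (CommRingCat.of k'))
    (hpb : IsPullback g q (X ↘ Spec (CommRingCat.of k)) (Spec.map (CommRingCat.ofHom (algebraMap k k'))))
    (L : X.Modules) (hL : PicF.IsInvertible L) (htriv : PicF.IsTrivialCl (PicF.pullCl g (PicF.cl L))) :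
    PicF.IsTrivialCl (PicF.cl L) := by
  classical
  obtain ⟨e'⟩ := (cl_eq_iff _ _).mp htriv
  rw [PicF.IsTrivialCl, cl_eq_iff]
  let p : X ⟶ Spec (CommRingCat.of k) := X ↘ Spec (CommRingCat.of k)
  let f : X ⟶ Spec Γ(X, ⊤) := X.toSpecΓ
  let pY : Spec Γ(X, ⊤) ⟶ Spec (CommRingCat.of k) :=
    Spec.map p.appTop ≫ Spec.map (Scheme.ΓSpecIso (CommRingCat.of k)).inv
  have hfp : f ≫ pY = p := by
    show X.toSpecΓ ≫ Spec.map p.appTop ≫ Spec.map (Scheme.ΓSpecIso (CommRingCat.of k)).inv = p
    rw [← Scheme.toSpecΓ_naturality_assoc, toSpecΓ_SpecMap_ΓSpecIso_inv, Category.comp_id]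
  let y : Spec (CommRingCat.of k') ⟶ Spec (CommRingCat.of k) := Spec.map (CommRingCat.ofHom (algebraMap k k'))
  let gY : pullback pY y ⟶ Spec Γ(X, ⊤) := pullback.fst pY y
  let f' : X' ⟶ pullback pY y := pullback.lift (g ≫ f) q (by rw [Category.assoc, hfp]; exact hpb.w)
  have h : IsPullback g f' f gY := by
    refine IsPullback.of_bot ?_ (pullback.lift_fst _ _ _).symm (IsPullback.of_hasPullback pY y)
    rw [pullback.lift_snd, hfp]
    exact hpb
  haveI : Flat y := by
    rw [Flat.SpecMap_iff]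
    show (algebraMap k k').Flat
    rw [RingHom.flat_algebraMap_iff]
    infer_instance
  haveI : Surjective y := by
    constructor
    intro x
    obtain ⟨z⟩ := (inferInstance : Nonempty (Spec (CommRingCat.of k')))
    refine ⟨z, ?_⟩
    haveI : Subsingleton (Spec (CommRingCat.of k)) := inferInstanceAs (Subsingleton (PrimeSpectrum k))
    exact Subsingleton.elim _ _
  haveI : QuasiCompact y := inferInstance
  haveI : Flat gY := inferInstance
  haveI : Surjective gY := inferInstance
  haveI : QuasiCompact gY := inferInstance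
  have hf : ∀ V : (Spec Γ(X, ⊤)).Opens, Function.Bijective (f.app V) := FlatBCUnit.bijective_toSpecΓ_app X
  have hf' : ∀ W' : (pullback pY y).Opens, Function.Bijective (f'.app W') :=
    FlatBCUnit.bijective_app_baseChange f gY g f' h hf
  have hloc : ∀ y' : ↥(pullback pY y), ∃ (W' : (pullback pY y).Opens)
      (l : Γ((Scheme.Modules.pullback g).obj L, f' ⁻¹ᵁ W')), y' ∈ W' ∧
      IsGen ((Scheme.Modules.pullback g).obj L) (f' ⁻¹ᵁ W') l := by
    intro y'
    refine ⟨⊤, e'.inv.app ⊤ (oneSec X' ⊤), trivial, ?_⟩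
    exact isGen_of_iso e'.symm (isGen_oneSec (X := X') ⊤)
  haveI : IsArtinianRing Γ(X, ⊤) := isArtinianRing_Γ k X hfin
  haveI : DiscreteTopology (Spec Γ(X, ⊤)) := inferInstanceAs (DiscreteTopology (PrimeSpectrum Γ(X, ⊤)))
  have hex := fun y₀ : ↥(Spec Γ(X, ⊤)) => InvDescLoc.exists_common_gen f gY g f' h hf hf' L hL hloc y₀
  choose D x hyD hx _ using hex
  let pt : ↥(Spec Γ(X, ⊤)) → (Spec Γ(X, ⊤)).Opens := fun y₀ => ⟨{y₀}, isOpen_discrete _⟩
  have hpt : ∀ y₀, pt y₀ ≤ D y₀ := by
    intro y₀ z hz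
    have : z = y₀ := hz
    rw [this]
    exact hyD y₀
  let U : ↥(Spec Γ(X, ⊤)) → X.Opens := fun y₀ => f ⁻¹ᵁ pt y₀
  have hU : ∀ y₀, U y₀ ≤ f ⁻¹ᵁ D y₀ := fun y₀ z hz => hpt y₀ hz
  obtain ⟨ψ, -⟩ := exists_iso_of_cocycle_gen (M := L) (N := Coh.structureModule X) U
    (fun y₀ => res L (hU y₀) (x y₀)) (fun y₀ => oneSec X (U y₀))
    (fun y₀ => (hx y₀).res (hU y₀)) (fun y₀ => isGen_oneSec (U y₀))
    (fun z => ⟨f z, (rfl : f z = f z)⟩)
    (by
      intro y₁ y₂
      by_cases hy : y₁ = y₂
      · subst hy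
        exact ⟨1, by rw [one_smul], by rw [one_smul]⟩
      · have hbot : U y₁ ⊓ U y₂ ≤ ⊥ := by
          rintro z ⟨h1, h2⟩
          have e1 : f z = y₁ := h1
          have e2 : f z = y₂ := h2
          exact hy (e1.symm.trans e2)
        haveI := FlatBC.subsingleton_of_le_bot L hbot
        haveI := FlatBC.subsingleton_of_le_bot (Coh.structureModule X) hbot
        exact ⟨1, Subsingleton.elim _ _, Subsingleton.elim _ _⟩)
  exact ⟨ψ⟩

end Groth.Agent.S0232
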