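import Groth.Statements.S19022
import Groth.Agent.Lib.Helper29.FreeIso5

set_option autoImplicit false
universe u
open CategoryTheory AlgebraicGeometry
open PicF

namespace Groth.Agent.S19022

open CategoryTheory.Limits TopologicalSpace Opposite
open Groth.Agent.Lib.Helper28.QCohLoc Groth.Agent.Lib.Helper29.QCohStalk Groth.Agent.Lib.Helper29.FreeIso

/-- functions separating finitely many pairwise non-specialising points of an affine open -/
theorem exists_separating_functions {X : Scheme.{u}} {V : X.Opens} (hV : IsAffineOpen V)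
    (Z : Finset X) (hZV : ∀ z ∈ Z, z ∈ V) (hinc : ∀ z ∈ Z, ∀ w ∈ Z, z ≠ w → ¬ (w ⤳ z)) :
    ∃ a : {z // z ∈ Z} → Γ(X, V), (∀ z : {z // z ∈ Z}, a z ∉ germPrime V z.1 (hZV z.1 z.2)) ∧
      ∀ z w : {z // z ∈ Z}, z ≠ w → a z ∈ germPrime V w.1 (hZV w.1 w.2) := by
  classical
  have hb : ∀ z w : {z // z ∈ Z}, ∃ b : Γ(X, V), z ≠ w →
      (b ∈ germPrime V w.1 (hZV w.1 w.2) ∧ b ∉ germPrime V z.1 (hZV z.1 z.2)) := by
    intro z w
    by_cases h : z = w
    · exact ⟨1, fun h' => absurd h h'⟩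
    · have hne : z.1 ≠ w.1 := fun h' => h (Subtype.ext h')
      have h1 : ¬ germPrime V w.1 (hZV w.1 w.2) ≤ germPrime V z.1 (hZV z.1 z.2) := fun hle =>
        hinc z.1 z.2 w.1 w.2 hne (specializes_of_germPrime_le hV w.1 z.1 _ _ hle)
      obtain ⟨b, hbw, hbz⟩ := SetLike.not_le_iff_exists.1 h1
      exact ⟨b, fun _ => ⟨hbw, hbz⟩⟩
  choose b hb using hb
  refine ⟨fun z => ∏ w ∈ Finset.univ.erase z, b z w, ?_, ?_⟩
  · intro z hmem
    change (∏ w ∈ Finset.univ.erase z, b z w) ∈ _ at hmem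
    obtain ⟨w, hw, hbw⟩ := Ideal.IsPrime.prod_mem_iff.1 hmem
    exact (hb z w (Finset.ne_of_mem_erase hw).symm).2 hbw
  · intro z w hzw
    have hw : w ∈ Finset.univ.erase z := Finset.mem_erase.2 ⟨hzw.symm, Finset.mem_univ w⟩
    have h1 : (∏ w ∈ Finset.univ.erase z, b z w) = b z w * ∏ w' ∈ (Finset.univ.erase z).erase w, b z w' :=
      (Finset.mul_prod_erase _ _ hw).symm
    change (∏ w ∈ Finset.univ.erase z, b z w) ∈ _
    rw [h1]
    exact Ideal.mul_mem_right _ _ (hb z w hzw).1

/-- a basic open containing finitely many pairwise non-specialising points and contained in a union of given basic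
open neighbourhoods -/
theorem exists_basicOpen_le_iSup {X : Scheme.{u}} {V : X.Opens} (hV : IsAffineOpen V)
    (Z : Finset X) (hZV : ∀ z ∈ Z, z ∈ V) (hinc : ∀ z ∈ Z, ∀ w ∈ Z, z ≠ w → ¬ (w ⤳ z))
    (f : X → Γ(X, V)) (hf : ∀ z ∈ Z, z ∈ X.basicOpen (f z)) :
    ∃ g : Γ(X, V), (∀ z ∈ Z, z ∈ X.basicOpen g) ∧
      X.basicOpen g ≤ ⨆ z : {z // z ∈ Z}, X.basicOpen (f z.1) := by
  classical
  obtain ⟨a, ha1, ha2⟩ := exists_separating_functions hV Z hZV hinc
  refine ⟨∑ w : {z // z ∈ Z}, a w * f w.1, ?_, ?_⟩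
  · intro z hz
    by_contra hcon
    have hmem : (∑ w : {z // z ∈ Z}, a w * f w.1) ∈ germPrime V z (hZV z hz) :=
      (mem_germPrime_iff_notMem_basicOpen V z (hZV z hz) _).2 hcon
    let zs : {z // z ∈ Z} := ⟨z, hz⟩
    rw [← Finset.add_sum_erase Finset.univ _ (Finset.mem_univ zs)] at hmem
    have hrest : (∑ w ∈ Finset.univ.erase zs, a w * f w.1) ∈ germPrime V z (hZV z hz) :=
      Ideal.sum_mem _ fun w hw => Ideal.mul_mem_right _ _ (ha2 w zs (Finset.ne_of_mem_erase hw))
    have h1 : a zs * f z ∈ germPrime V z (hZV z hz) := (Ideal.add_mem_iff_left _ hrest).1 hmem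
    rcases Ideal.IsPrime.mem_or_mem inferInstance h1 with h2 | h2
    · exact ha1 zs h2
    · exact (mem_germPrime_iff_notMem_basicOpen V z (hZV z hz) _).1 h2 (hf z hz)
  · intro y hy
    have hyV : y ∈ V := X.basicOpen_le _ hy
    by_contra hcon
    have hall : ∀ w : {z // z ∈ Z}, f w.1 ∈ germPrime V y hyV := by
      intro w
      rw [mem_germPrime_iff_notMem_basicOpen]
      intro h
      exact hcon (Opens.mem_iSup.2 ⟨w, h⟩)
    have hmem : (∑ w : {z // z ∈ Z}, a w * f w.1) ∈ germPrime V y hyV :=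
      Ideal.sum_mem _ fun w _ => Ideal.mul_mem_left _ _ (hall w)
    exact (mem_germPrime_iff_notMem_basicOpen V y hyV _).1 hmem hy

/-- Let X be a scheme, L an invertible O_X-module and T a finite set of closed points of X that lies in
some affine open of X. Then T lies in an affine open U of X on which L is trivial (L restricted to U
is isomorphic to the structure sheaf). (The source states this for a smooth quasi-projective complex
surface, where every finite set of points lies in an affine open, and phrases it as: X^n and the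
symmetric product S^n X are covered by the opens U^n and S^n U with U affine and L trivial on U; the
printed argument uses only that the finitely many points lie in one affine open, which is taken as
the hypothesis here.) -/
theorem result
    (X : Scheme.{u}) (L : X.Modules) (hL : PicF.IsInvertible L)
    (T : Finset X) (hT : ∀ x ∈ T, IsClosed ({x} : Set X))
    (hU : ∃ U : X.Opens, IsAffineOpen U ∧ ∀ x ∈ T, x ∈ U) :
    ∃ U : X.Opens, IsAffineOpen U ∧ (∀ x ∈ T, x ∈ U) ∧
      Nonempty (L.restrict U.ι ≅ Coh.structureModule (↑U : Scheme.{u})) := by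
  obtain ⟨V, hV, hTV⟩ := hU
  have hL1 : FlatMod.IsFinLocFreeOfRank 1 L := by
    intro y
    obtain ⟨U, hyU, ⟨e⟩⟩ := hL y
    exact ⟨U, hyU, ⟨e ≪≫ (coproductUniqueIso (fun _ : Fin 1 => Coh.structureModule (↑U : Scheme.{u}))).symm⟩⟩
  have hinc : ∀ z ∈ T, ∀ w ∈ T, z ≠ w → ¬ (w ⤳ z) := by
    intro z _ w hw hzw h
    have h1 : z ∈ closure ({w} : Set X) := specializes_iff_mem_closure.1 h
    rw [(hT w hw).closure_eq] at h1
    exact hzw h1
  obtain ⟨σ, f, hf⟩ := exists_isBasisOn_nhds_of_finset L hL1 hV T hTV hinc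
  obtain ⟨g, hgT, hgle⟩ := exists_basicOpen_le_iSup hV T hTV hinc f (fun z hz => (hf z hz).1)
  have hbasis := isBasisOn_iSup L (fun z : {z // z ∈ T} => X.basicOpen (f z.1))
    (fun z => X.basicOpen_le (f z.1)) σ (fun z => (hf z.1 z.2).2)
  obtain ⟨e⟩ := (hbasis.mono hgle).nonempty_iso
  exact ⟨X.basicOpen g, hV.basicOpen g, hgT,
    ⟨e ≪≫ coproductUniqueIso (fun _ : Fin 1 => Coh.structureModule (↑(X.basicOpen g) : Scheme.{u}))⟩⟩



end Groth.Agent.S19022
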