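import Groth.Statements.S4460
import Groth.Agent.Lib.lead.FormalF

set_option autoImplicit false
universe u
open Formal

namespace Groth.Agent.S4460

open AlgebraicGeometry CategoryTheory in
/-- In the inverse-limit form. Let A be a Noetherian ring separated and complete for the I-adic
topology, X a scheme of finite type over Spec A and M a coherent O_X-module whose support is proper
over Spec A. Then for every p the canonical map from H^p(X, M) to the inverse limit of the groups
H^p(X, M/I^(n+1)M) is bijective. -/
theorem result (A : Type u) [CommRing A] [IsNoetherianRing A] (I : Ideal A)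
    [IsAdicComplete I A] (X : Scheme.{u}) [X.Over (Spec (CommRingCat.of A))]
    [LocallyOfFiniteType (X ↘ Spec (CommRingCat.of A))] [QuasiCompact (X ↘ Spec (CommRingCat.of A))]
    (M : X.Modules) (hM : Coh.IsCoh M)
    (hs : ClSub.IsProperOver (X ↘ Spec (CommRingCat.of A)) (CohB1.support M)) (p : ℕ) :
    Function.Bijective (Formal.toHHlim I M p) := by
  have hgood := Groth.Agent.Lib.Lead.FormalF.good_of_isProperOver_support A X I M hM hs p
  haveI : Module.Finite A (Coh.HH X M p) :=
    Groth.Agent.Lib.Lead.FormalF.finite_HH_of_isProperOver_support A X M hM hs p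
  haveI : IsAdicComplete I (Coh.HH X M p) :=
    Groth.Agent.Lib.Lead.ComplFin.isAdicComplete_of_finite I _
  have h1 : Function.Bijective (AdicCompletion.of I (Coh.HH X M p)) :=
    AdicCompletion.of_bijective I _
  have h2 := Groth.Agent.Lib.Lead.FormalD.Φ_bijective hgood.1 hgood.2
  have h3 : (Formal.toHHlim I M p : Coh.HH X M p → Formal.HHlim I M p) =
      Groth.Agent.Lib.Lead.FormalD.Φ I M p ∘ AdicCompletion.of I (Coh.HH X M p) := by
    funext x
    exact (Groth.Agent.Lib.Lead.FormalD.Φ_of I M p x).symm
  rw [h3]
  exact h2.comp h1

end Groth.Agent.S4460
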