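import Groth.Statements.S10829
import Groth.Agent.Lib.Helper1.ProjDimTop

set_option autoImplicit false
universe u
open AlgebraicGeometry
open Variety

namespace Groth.Agent.S10829

open Groth.Agent.Lib.Helper1.ProjDimPt Groth.Agent.Lib.Helper1.ProjDimTop in

/-- For a field k and a natural number n, projective n-space over k (Proj of the polynomial ring in n +
1 variables graded by degree) has Krull dimension n as a topological space. (The published statement
also gives affine n-space dimension n; that half is the Krull dimension of a polynomial ring and is
not restated here.) -/
theorem result (k : Type u) [Field k] (n : ℕ) :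
    topologicalKrullDim ↥(CohB1.ProjSpace n k) = (n : WithBot ℕ∞) := by
  change topologicalKrullDim (PS n k) = _
  rw [topologicalKrullDim_eq (Y := PS n k) le_iff_mem_closure, Order.krullDim_eq_iSup_coheight]
  apply le_antisymm
  · refine iSup_le fun x => ?_
    have h := coheight_add_ht x
    have h2 : Order.coheight x ≤ (n : ℕ∞) := by
      rw [← h]; exact le_self_add
    exact_mod_cast h2
  · refine le_trans ?_ (le_iSup _ (botPt : PS n k))
    have h := coheight_add_ht (botPt : PS n k)
    rw [ht_botPt] at h
    simp only [Nat.cast_zero, add_zero] at h
    rw [h]
    rfl

end Groth.Agent.S10829
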