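import Groth.Statements.S3557
import Groth.Agent.Lib.Helper28.ProjRed

set_option autoImplicit false
universe u
open CategoryTheory CategoryTheory.Limits AlgebraicGeometry
open EGA2

namespace Groth.Agent.S3557

open Groth.Agent.Lib.Helper28.ProjRed TopologicalSpace Opposite
open scoped HomogeneousIdeal

theorem main {A : Type u} [CommRing A] {σ : Type u} [SetLike σ A] [AddSubgroupClass σ A]
    (𝒜 : ℕ → σ) [GradedRing 𝒜]
    (hred : ∀ f ∈ (HomogeneousIdeal.irrelevant 𝒜).toIdeal, IsNilpotent f → f = 0) :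
    AlgebraicGeometry.IsIntegral (Proj 𝒜) ↔
      ((∃ f ∈ (HomogeneousIdeal.irrelevant 𝒜).toIdeal, f ≠ 0) ∧
        ∀ f ∈ (HomogeneousIdeal.irrelevant 𝒜).toIdeal, ∀ g ∈ (HomogeneousIdeal.irrelevant 𝒜).toIdeal,
          f * g = 0 → f = 0 ∨ g = 0) := by
  -- nonempty basic open of a nonzero element of the irrelevant ideal
  have hne : ∀ f ∈ (HomogeneousIdeal.irrelevant 𝒜).toIdeal, f ≠ 0 →
      ((ProjectiveSpectrum.basicOpen 𝒜 f : Opens _) : Set (ProjectiveSpectrum 𝒜)).Nonempty := by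
    intro f hf hf0
    by_contra hemp
    rw [Set.not_nonempty_iff_eq_empty] at hemp
    have : ProjectiveSpectrum.basicOpen 𝒜 f = ⊥ := Opens.ext hemp
    exact hf0 (hred f hf (isNilpotent_of_basicOpen_eq_bot 𝒜 hf this))
  constructor
  · intro hint
    have hirr : IrreducibleSpace (ProjectiveSpectrum 𝒜) :=
      inferInstanceAs (IrreducibleSpace (Proj 𝒜))
    refine ⟨?_, ?_⟩
    · obtain ⟨x⟩ : Nonempty (ProjectiveSpectrum 𝒜) := inferInstance
      obtain ⟨f, hf, hfx⟩ := SetLike.not_le_iff_exists.1 x.not_irrelevant_le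
      refine ⟨f, hf, ?_⟩
      rintro rfl
      exact hfx (zero_mem _)
    · intro f hf g hg hfg
      by_contra hcon
      push Not at hcon
      obtain ⟨z, hz⟩ := nonempty_preirreducible_inter (ProjectiveSpectrum.basicOpen 𝒜 f).2
        (ProjectiveSpectrum.basicOpen 𝒜 g).2 (hne f hf hcon.1) (hne g hg hcon.2)
      have : z ∈ ProjectiveSpectrum.basicOpen 𝒜 f ⊓ ProjectiveSpectrum.basicOpen 𝒜 g := hz
      rw [← ProjectiveSpectrum.basicOpen_mul, hfg, ProjectiveSpectrum.basicOpen_zero] at this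
      exact this
  · rintro ⟨⟨f₀, hf₀, hf₀0⟩, hdom⟩
    have hred' : IsReduced (Proj 𝒜) := projRed 𝒜 hred
    have hpre : PreirreducibleSpace (ProjectiveSpectrum 𝒜) := by
      refine PreirreducibleSpace.of_forall_nonempty_inter fun U V hU hV hUn hVn => ?_
      obtain ⟨x, hx⟩ := hUn
      obtain ⟨y, hy⟩ := hVn
      obtain ⟨_, ⟨r, rfl⟩, hxr, hrU⟩ :=
        (ProjectiveSpectrum.isTopologicalBasis_basic_opens 𝒜).exists_subset_of_mem_open hx hU
      obtain ⟨_, ⟨s, rfl⟩, hys, hsV⟩ :=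
        (ProjectiveSpectrum.isTopologicalBasis_basic_opens 𝒜).exists_subset_of_mem_open hy hV
      obtain ⟨f, hf, hfx⟩ := SetLike.not_le_iff_exists.1 x.not_irrelevant_le
      obtain ⟨g, hg, hgy⟩ := SetLike.not_le_iff_exists.1 y.not_irrelevant_le
      have hrf : r * f ∈ (HomogeneousIdeal.irrelevant 𝒜).toIdeal := Ideal.mul_mem_left _ _ hf
      have hsg : s * g ∈ (HomogeneousIdeal.irrelevant 𝒜).toIdeal := Ideal.mul_mem_left _ _ hg
      have hx' : x ∈ ProjectiveSpectrum.basicOpen 𝒜 (r * f) := by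
        rw [ProjectiveSpectrum.basicOpen_mul]; exact ⟨hxr, hfx⟩
      have hy' : y ∈ ProjectiveSpectrum.basicOpen 𝒜 (s * g) := by
        rw [ProjectiveSpectrum.basicOpen_mul]; exact ⟨hys, hgy⟩
      have hrf0 : r * f ≠ 0 := by
        intro h; rw [h, ProjectiveSpectrum.basicOpen_zero] at hx'; exact hx'
      have hsg0 : s * g ≠ 0 := by
        intro h; rw [h, ProjectiveSpectrum.basicOpen_zero] at hy'; exact hy'
      have hprod : (r * f) * (s * g) ≠ 0 := by
        intro h
        rcases hdom _ hrf _ hsg h with h | h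
        · exact hrf0 h
        · exact hsg0 h
      obtain ⟨z, hz⟩ := hne _ (Ideal.mul_mem_left _ _ hsg) hprod
      rw [ProjectiveSpectrum.basicOpen_mul, ProjectiveSpectrum.basicOpen_mul,
        ProjectiveSpectrum.basicOpen_mul] at hz
      exact ⟨z, hrU hz.1.1, hsV hz.2.1⟩
    obtain ⟨z, -⟩ := hne f₀ hf₀ hf₀0
    have hirr : IrreducibleSpace (Proj 𝒜) := { hpre with toNonempty := ⟨z⟩ }
    exact isIntegral_of_irreducibleSpace_of_isReduced _


/-- Let S be a graded ring which is essentially reduced (S_+ contains no nonzero nilpotent). Then Proj S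
is an integral scheme if and only if S is essentially integral, i.e. S_+ is nonzero and the product
of two nonzero elements of S_+ is nonzero. -/
theorem result {R A : Type u} [CommRing R] [CommRing A] [Algebra R A] (𝒜 : ℕ → Submodule R A) [GradedAlgebra 𝒜]
    (hred : ∀ f ∈ (HomogeneousIdeal.irrelevant 𝒜).toIdeal, IsNilpotent f → f = 0) :
    AlgebraicGeometry.IsIntegral (Proj 𝒜) ↔
      ((∃ f ∈ (HomogeneousIdeal.irrelevant 𝒜).toIdeal, f ≠ 0) ∧
        ∀ f ∈ (HomogeneousIdeal.irrelevant 𝒜).toIdeal, ∀ g ∈ (HomogeneousIdeal.irrelevant 𝒜).toIdeal,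
          f * g = 0 → f = 0 ∨ g = 0) := by
  exact main 𝒜 hred

end Groth.Agent.S3557
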