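import Groth.Statements.S7640
import Groth.Agent.Lib.Helper8.GenRank
import Groth.Agent.Lib.Helper8.ProjN
import Groth.Agent.Lib.Helper8.CurveTensor
import Groth.Agent.Lib.Helper8.AffPush
import Groth.Agent.Lib.Helper6.DevChev
import Groth.Agent.Lib.Helper16.LocFree5
import Groth.Agent.S1557

set_option autoImplicit false
universe u
open CategoryTheory CategoryTheory.Limits AlgebraicGeometry
open Variety

namespace Groth.Agent.S7640
open Groth.Agent.Lib.Helper8 Groth.Agent.Lib.Helper8.AffPush

/-- Let k be a field, let X and Y be proper curves over k (integral, proper over k, of dimension one)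
and let f : X → Y be a morphism over k that is not constant, i.e. sends the generic point of X to
that of Y. For a finite locally free module E of rank n on Y, the degree of f^*E is deg(X/Y) ·
deg(E), where deg(X/Y) is the degree of the function field of X over that of Y. -/
theorem result (k : Type u) [Field k] (X Y : Scheme.{u})
    [X.Over (Spec (CommRingCat.of k))] [Y.Over (Spec (CommRingCat.of k))] [IsIntegral X] [IsIntegral Y]
    [IsProper (X ↘ (Spec (CommRingCat.of k)))] [IsProper (Y ↘ (Spec (CommRingCat.of k)))]
    (hX : topologicalKrullDim X = 1) (hY : topologicalKrullDim Y = 1)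
    (f : X ⟶ Y) (hf : f ≫ (Y ↘ (Spec (CommRingCat.of k))) = X ↘ (Spec (CommRingCat.of k)))
    (hξ : f.base (genericPoint X) = genericPoint Y)
    (n : ℕ) (E : Y.Modules) (hE : FlatMod.IsFinLocFreeOfRank n E) :
    Curv2.deg k X ((Scheme.Modules.pullback f).obj E) n =
      (f.residueDegree (genericPoint X) : ℤ) * Curv2.deg k Y E n := by
  haveI : IsFinite f := CurveMap.isFinite_of_curves k hX hY f hf hξ
  haveI : IsNoetherian X := CurveRR.isNoetherian k X
  haveI : IsNoetherian Y := CurveRR.isNoetherian k Y
  have hcl : IsClosedMap f.base := f.isClosedMap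
  -- coherence of `f_* O_X`
  have hcohP : Coh.IsCoh ((Scheme.Modules.pushforward f).obj (Coh.structureModule X)) :=
    Groth.Agent.Lib.Helper6.DevChev.isCoh_push_of_isFinite f _
      Groth.Agent.Lib.Helper6.DevRed.isCoh_structureModule
  -- the projection formula
  obtain ⟨e⟩ := ProjN.nonempty_tensor_push_iso f E hE
  -- quasi-coherence of `f^* E`
  have hpb : Coh.IsCoh ((Scheme.Modules.pullback f).obj E) :=
    CurveTensor.isCoh_of_isFinLocFreeOfRank _
      (Groth.Agent.Lib.Helper16.LocFree.isFinLocFreeOfRank_pullback f E hE)
  have h1 := euler_push k f hf ((Scheme.Modules.pullback f).obj E) hpb.1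
  have h2 := euler_push k f hf (Coh.structureModule X) inferInstance
  have h3 := Groth.Agent.S1557.result k Y hY n E hE _ hcohP
  rw [EulerK.euler_congr k e] at h3
  -- the generic rank
  have hfib : f.base ⁻¹' {f.base (genericPoint X)} = {genericPoint X} := by
    ext x
    constructor
    · intro hx
      exact CurveMap.eq_genericPoint_of_map_eq hX.le hY f hcl x ((Set.mem_singleton_iff.1 hx).trans hξ)
    · intro hx
      rw [Set.mem_singleton_iff.1 hx]
      rfl
  have hFX : IsField (X.presheaf.stalk (genericPoint X)) :=
    (inferInstance : Field X.functionField).toIsField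
  have hFY : IsField (Y.presheaf.stalk (f.base (genericPoint X))) := by
    rw [hξ]
    exact (inferInstance : Field Y.functionField).toIsField
  have key : ∀ (y : Y) (hy : f.base (genericPoint X) = y),
      Module.finrank (Y.presheaf.stalk y)
        (((Scheme.Modules.pushforward f).obj (Coh.structureModule X)).presheaf.stalk y) =
      f.residueDegree (genericPoint X) := by
    intro y hy
    subst hy
    rw [GenRank.finrank_stalk_push f hcl (genericPoint X) hfib]
    exact GenRank.finrank_stalk_eq_residueDegree f (genericPoint X) hFX hFY
  rw [key _ hξ] at h3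
  unfold Curv2.deg at h3 ⊢
  rw [← h1, ← h2, h3]
  ring

end Groth.Agent.S7640
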