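import Groth.Statements.S16485
import Groth.Agent.S16484
import Groth.Agent.Lib.Helper17.ModStalk
import Groth.Agent.Lib.Helper29.FPDict

set_option autoImplicit false
universe u
open CategoryTheory AlgebraicGeometry
open RefHull

namespace Groth.Agent.S16485

open CategoryTheory.Limits Opposite TopologicalSpace
open Groth.Agent.Lib.Helper28.QCohLoc Groth.Agent.Lib.Helper29.QCohStalk
open Groth.Agent.Lib.Helper17.ModStalk

variable {X : Scheme.{u}}

/-- finitely many properties of open neighbourhoods of `x`, each stable under shrinking and each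
holding on some neighbourhood, hold on a common neighbourhood. -/
theorem exists_common_open {ι : Type*} [Finite ι] (x : X) (P : ι → X.Opens → Prop)
    (hP : ∀ i (W W' : X.Opens), W' ≤ W → P i W → P i W')
    (h : ∀ i, ∃ W : X.Opens, x ∈ W ∧ P i W) : ∃ W : X.Opens, x ∈ W ∧ ∀ i, P i W := by
  choose W hxW hW using h
  refine ⟨⨅ i, W i, ?_, fun i => hP i (W i) _ (iInf_le W i) (hW i)⟩
  change x ∈ ((⨅ i, W i : X.Opens) : Set X)
  rw [Opens.coe_iInf]
  exact Set.mem_iInter.2 hxW

/-- finitely many germs of a module at `x` are the germs of sections over one neighbourhood,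
which may be taken inside a given neighbourhood. -/
theorem exists_sections_of_germs (G : X.Modules) (x : X) (U : X.Opens) (hxU : x ∈ U)
    {ι : Type*} [Finite ι] (g : ι → G.presheaf.stalk x) :
    ∃ (V : X.Opens) (hx : x ∈ V) (_ : V ≤ U) (t : ι → Γ(G, V)),
      ∀ i, gm G V x hx (t i) = g i := by
  obtain ⟨W, hxW, hW⟩ := exists_common_open x
    (fun i W => ∀ hx : x ∈ W, ∃ t : Γ(G, W), gm G W x hx t = g i)
    (fun i W W' hle hW => by
      intro hx
      obtain ⟨t, ht⟩ := hW (hle hx)
      exact ⟨res G hle t, (gm_res G hle x hx t).trans ht⟩)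
    (fun i => by
      obtain ⟨W, hxW, t, ht⟩ := TopCat.Presheaf.exists_germ_eq G.presheaf (g i)
      exact ⟨W, hxW, fun _ => ⟨t, ht⟩⟩)
  have hx' : x ∈ W ⊓ U := ⟨hxW, hxU⟩
  choose t ht using fun i => hW i hxW
  exact ⟨W ⊓ U, hx', inf_le_right, fun i => res G inf_le_left (t i),
    fun i => (gm_res G inf_le_left x hx' (t i)).trans (ht i)⟩

/-- finitely many sections with zero germ at `x` vanish on a common neighbourhood. -/
theorem exists_nhd_res_eq_zero (G : X.Modules) (x : X) (V : X.Opens) (hxV : x ∈ V)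
    {ι : Type*} [Finite ι] (s : ι → Γ(G, V)) (hs : ∀ i, gm G V x hxV (s i) = 0) :
    ∃ (W : X.Opens) (_ : x ∈ W) (hWV : W ≤ V), ∀ i, res G hWV (s i) = 0 := by
  obtain ⟨W, hxW, hW⟩ := exists_common_open x
    (fun i W => ∃ hWV : W ≤ V, res G hWV (s i) = 0)
    (fun i W W' hle ⟨hWV, hW⟩ => ⟨hle.trans hWV, by rw [← res_res G hWV hle, hW, res_zero]⟩)
    (fun i => by
      have h0 : G.presheaf.germ V x hxV (s i) = G.presheaf.germ V x hxV 0 := by
        rw [map_zero]; exact hs i
      obtain ⟨W, hxW, iU, iV, h⟩ := TopCat.Presheaf.germ_eq G.presheaf x hxV hxV _ _ h0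
      refine ⟨W, hxW, iU.le, ?_⟩
      have h1 : res G iU.le (s i) = G.presheaf.map iV.op 0 := h
      rw [h1, map_zero])
  refine ⟨W ⊓ V, ⟨hxW, hxV⟩, inf_le_right, fun i => ?_⟩
  obtain ⟨hWV, h⟩ := hW i
  rw [← res_res G hWV inf_le_left, h, res_zero]

theorem resO_add {U V : X.Opens} (h : V ≤ U) (r r' : Γ(X, U)) :
    resO h (r + r') = resO h r + resO h r' := map_add _ _ _

theorem resO_mul {U V : X.Opens} (h : V ≤ U) (r r' : Γ(X, U)) :
    resO h (r * r') = resO h r * resO h r' := map_mul _ _ _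

theorem resO_zero {U V : X.Opens} (h : V ≤ U) : resO h (0 : Γ(X, U)) = 0 := map_zero _

theorem resO_one {U V : X.Opens} (h : V ≤ U) : resO h (1 : Γ(X, U)) = 1 := map_one _

section comb

variable (G : X.Modules) {U V : X.Opens} (hVU : V ≤ U) {n : ℕ} (t : Fin n → Γ(G, V))

/-- the combination `a ↦ Σ a_i|_V • t_i`. -/
noncomputable def comb (a : Fin n → Γ(X, U)) : Γ(G, V) := ∑ i, resO hVU (a i) • t i

theorem comb_add (a b : Fin n → Γ(X, U)) : comb G hVU t (a + b) = comb G hVU t a + comb G hVU t b := by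
  unfold comb
  rw [← Finset.sum_add_distrib]
  refine Finset.sum_congr rfl fun i _ => ?_
  rw [Pi.add_apply, resO_add, add_smul]

theorem comb_smul (c : Γ(X, U)) (a : Fin n → Γ(X, U)) :
    comb G hVU t (c • a) = resO hVU c • comb G hVU t a := by
  unfold comb
  rw [Finset.smul_sum]
  refine Finset.sum_congr rfl fun i _ => ?_
  rw [Pi.smul_apply, smul_eq_mul, resO_mul, mul_smul]

theorem comb_zero : comb G hVU t 0 = 0 := by
  unfold comb
  refine Finset.sum_eq_zero fun i _ => ?_
  rw [Pi.zero_apply, resO_zero, zero_smul]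

theorem gm_comb (a : Fin n → Γ(X, U)) (z : X) (hz : z ∈ V) :
    gm G V z hz (comb G hVU t a) = ∑ i, X.presheaf.germ U z (hVU hz) (a i) • gm G V z hz (t i) := by
  unfold comb
  rw [show gm G V z hz (∑ i, resO hVU (a i) • t i) = ∑ i, gm G V z hz (resO hVU (a i) • t i) from
    map_sum (G.presheaf.germ V z hz).hom _ _]
  refine Finset.sum_congr rfl fun i _ => ?_
  rw [gm_smul, germ_resO]

theorem res_comb {W : X.Opens} (hWV : W ≤ V) (a : Fin n → Γ(X, U)) :
    res G hWV (comb G hVU t a) = comb G (hWV.trans hVU) (fun i => res G hWV (t i)) a := by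
  unfold comb
  rw [show res G hWV (∑ i, resO hVU (a i) • t i) = ∑ i, res G hWV (resO hVU (a i) • t i) from
    map_sum (G.presheaf.map (homOfLE hWV).op).hom _ _]
  refine Finset.sum_congr rfl fun i _ => ?_
  rw [res_smul, resO_resO]

end comb

section lift

variable (F G : X.Modules) [F.IsQuasicoherent] {U V : X.Opens} (hU : IsAffineOpen U) (hVU : V ≤ U)
  {n : ℕ} (fN : (Fin n → Γ(X, U)) →ₗ[Γ(X, U)] Γ(F, U)) (hfN : Function.Surjective fN)
  (t : Fin n → Γ(G, V)) (hrel : ∀ a, fN a = 0 → comb G hVU t a = 0)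

/-- multiplication by a function invertible at `z` is bijective on the stalk at `z`. -/
theorem isUnit_algebraMap_end (z : X) (hz : z ∈ U)
    (s : (hU.primeIdealOf ⟨z, hz⟩).asIdeal.primeCompl) :
    letI := moduleStalkSections G U z hz
    IsUnit (algebraMap Γ(X, U) (Module.End Γ(X, U) (G.presheaf.stalk z)) s) := by
  letI := moduleStalkSections G U z hz
  letI := X.presheaf.algebra_section_stalk ⟨z, hz⟩
  haveI := hU.isLocalization_stalk ⟨z, hz⟩
  have hunit : IsUnit (X.presheaf.germ U z hz s.1) :=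
    (IsLocalization.AtPrime.isUnit_to_map_iff (X.presheaf.stalk z)
      (hU.primeIdealOf ⟨z, hz⟩).asIdeal s.1).2 s.2
  rw [Module.End.isUnit_iff]
  obtain ⟨v, hv⟩ := hunit
  refine ⟨fun a b hab => ?_, fun b => ⟨(↑v⁻¹ : X.presheaf.stalk z) • b, ?_⟩⟩
  · have h1 : (X.presheaf.germ U z hz s.1) • a = (X.presheaf.germ U z hz s.1) • b := hab
    rw [← hv] at h1
    have := congrArg (fun t => (↑v⁻¹ : X.presheaf.stalk z) • t) h1
    simpa [smul_smul] using this
  · change (X.presheaf.germ U z hz s.1) • ((↑v⁻¹ : X.presheaf.stalk z) • b) = b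
    rw [← hv, smul_smul, Units.mul_inv, one_smul]

/-- the `Γ(X,U)`-linear map `(Fin n → Γ(X,U)) → G_z`, `a ↦ (Σ a_i t_i)_z`. -/
noncomputable def Lam (z : X) (hz : z ∈ V) :
    letI := moduleStalkSections G U z (hVU hz)
    (Fin n → Γ(X, U)) →ₗ[Γ(X, U)] G.presheaf.stalk z :=
  letI := moduleStalkSections G U z (hVU hz)
  { toFun := fun a => gm G V z hz (comb G hVU t a)
    map_add' := fun a b => by rw [comb_add]; exact map_add _ _ _
    map_smul' := fun c a => by
      rw [comb_smul, gm_smul, germ_resO]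
      rfl }

/-- the induced stalk map `F_z → G_z` at a point `z ∈ V`. -/
noncomputable def stalkLift (z : X) (hz : z ∈ V) : StalkHom F G z :=
  letI := moduleStalkSections F U z (hVU hz)
  letI := moduleStalkSections G U z (hVU hz)
  letI := X.presheaf.algebra_section_stalk ⟨z, hVU hz⟩
  haveI := hU.isLocalization_stalk ⟨z, hVU hz⟩
  haveI : IsScalarTower Γ(X, U) (X.presheaf.stalk z) (F.presheaf.stalk z) :=
    IsScalarTower.of_compHom _ _ _
  haveI : IsScalarTower Γ(X, U) (X.presheaf.stalk z) (G.presheaf.stalk z) :=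
    IsScalarTower.of_compHom _ _ _
  haveI := isLocalizedModule_germLinear F hU z (hVU hz)
  LinearMap.extendScalarsOfIsLocalization (hU.primeIdealOf ⟨z, hVU hz⟩).asIdeal.primeCompl
    (X.presheaf.stalk z)
    (IsLocalizedModule.lift (hU.primeIdealOf ⟨z, hVU hz⟩).asIdeal.primeCompl
      (germLinear F U z (hVU hz))
      ((Submodule.liftQ (LinearMap.ker fN) (Lam G hVU t z hz) (fun a ha => by
          rw [LinearMap.mem_ker] at ha ⊢
          change gm G V z hz (comb G hVU t a) = 0
          rw [hrel a ha, gm_zero])) ∘ₗ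
        (fN.quotKerEquivOfSurjective hfN).symm.toLinearMap)
      (fun s => isUnit_algebraMap_end G hU z (hVU hz) s))

theorem stalkLift_gm (z : X) (hz : z ∈ V) (a : Fin n → Γ(X, U)) :
    stalkLift F G hU hVU fN hfN t hrel z hz (gm F U z (hVU hz) (fN a)) =
      gm G V z hz (comb G hVU t a) := by
  letI := moduleStalkSections F U z (hVU hz)
  letI := moduleStalkSections G U z (hVU hz)
  letI := X.presheaf.algebra_section_stalk ⟨z, hVU hz⟩
  haveI := hU.isLocalization_stalk ⟨z, hVU hz⟩
  haveI : IsScalarTower Γ(X, U) (X.presheaf.stalk z) (F.presheaf.stalk z) :=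
    IsScalarTower.of_compHom _ _ _
  haveI : IsScalarTower Γ(X, U) (X.presheaf.stalk z) (G.presheaf.stalk z) :=
    IsScalarTower.of_compHom _ _ _
  haveI := isLocalizedModule_germLinear F hU z (hVU hz)
  unfold stalkLift
  rw [LinearMap.extendScalarsOfIsLocalization_apply']
  have h1 : gm F U z (hVU hz) (fN a) = germLinear F U z (hVU hz) (fN a) := rfl
  rw [h1, IsLocalizedModule.lift_apply]
  have h2 : (fN.quotKerEquivOfSurjective hfN).symm (fN a) = Submodule.Quotient.mk a := by
    rw [LinearEquiv.symm_apply_eq]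
    rfl
  rw [LinearMap.comp_apply, LinearEquiv.coe_coe, h2, Submodule.liftQ_apply]
  rfl

end lift

section sect

variable (F G : X.Modules) [F.IsQuasicoherent] {U V : X.Opens} (hU : IsAffineOpen U) (hVU : V ≤ U)
  {n : ℕ} (fN : (Fin n → Γ(X, U)) →ₗ[Γ(X, U)] Γ(F, U)) (hfN : Function.Surjective fN)
  (t : Fin n → Γ(G, V)) (hrel : ∀ a, fN a = 0 → comb G hVU t a = 0)

/-- the family of stalk maps is locally induced by sections. -/
theorem isLocSect_stalkLift :
    IsLocSect F G (U := V) (fun z => stalkLift F G hU hVU fN hfN t hrel z.1 z.2) := by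
  intro V' i m y
  have hyV : y.1 ∈ V := i.le y.2
  have hyU : y.1 ∈ U := hVU hyV
  have hloc := isLocOn_of_isQuasicoherent F hU
  obtain ⟨s, m0, hs, hsm⟩ := exists_germ_smul_eq F hU hloc y.1 hyU (gm F V' y.1 y.2 m)
  obtain ⟨a, rfl⟩ := hfN m0
  have hV'U : V' ≤ U := i.le.trans hVU
  -- the equality of germs spreads out
  have h0 : gm F V' y.1 y.2 (resO hV'U s • m) = gm F V' y.1 y.2 (res F hV'U (fN a)) := by
    rw [gm_smul, germ_resO, gm_res]
    exact hsm
  obtain ⟨W1, hyW1, iA, iB, hres⟩ := TopCat.Presheaf.germ_eq F.presheaf y.1 y.2 y.2 _ _ h0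
  have hres' : res F iA.le (resO hV'U s • m) = res F iA.le (res F hV'U (fN a)) := hres
  have hyD : y.1 ∈ X.basicOpen s := (Scheme.mem_basicOpen X s y.1 hyU).2 hs
  let W : X.Opens := W1 ⊓ X.basicOpen s
  have hWV' : W ≤ V' := inf_le_left.trans iA.le
  have hWU : W ≤ U := hWV'.trans hV'U
  have hWV : W ≤ V := hWV'.trans i.le
  have hWD : W ≤ X.basicOpen s := inf_le_right
  -- `s` is invertible on `W`
  have hunit : IsUnit (resO hWU s) := by
    have h1 : IsUnit (resO (X.basicOpen_le s) s) := X.toRingedSpace.isUnit_res_basicOpen s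
    have h2 : resO hWU s = resO hWD (resO (X.basicOpen_le s) s) := (resO_resO _ _ _).symm
    rw [h2]
    exact h1.map (X.presheaf.map (homOfLE hWD).op).hom
  obtain ⟨v, hv⟩ := hunit
  refine ⟨W, ⟨hyW1, hyD⟩, homOfLE hWV', (↑v⁻¹ : Γ(X, W)) • res G hWV (comb G hVU t a), fun z => ?_⟩
  have hzV' : z.1 ∈ V' := hWV' z.2
  have hzV : z.1 ∈ V := hWV z.2
  have hzU : z.1 ∈ U := hWU z.2
  -- at `z`: `s_z • m_z = (fN a)_z`
  have h3 : X.presheaf.germ U z.1 hzU s • gm F V' z.1 hzV' m = gm F U z.1 hzU (fN a) := by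
    have h4 := congrArg (gm F W1 z.1 z.2.1) hres'
    rw [gm_res, gm_res, gm_smul, germ_resO, gm_res] at h4
    exact h4
  have h5 : X.presheaf.germ U z.1 hzU s •
      stalkLift F G hU hVU fN hfN t hrel z.1 hzV (gm F V' z.1 hzV' m) =
        gm G V z.1 hzV (comb G hVU t a) := by
    rw [← map_smul, h3, stalkLift_gm]
  change stalkLift F G hU hVU fN hfN t hrel z.1 hzV (gm F V' z.1 hzV' m) = gm G W z.1 z.2 _
  rw [gm_smul, gm_res, ← h5, smul_smul]
  have h6 : X.presheaf.germ W z.1 z.2 (↑v⁻¹ : Γ(X, W)) * X.presheaf.germ U z.1 hzU s = 1 := by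
    rw [← germ_resO hWU z.1 z.2 s, ← hv, ← map_mul, Units.inv_mul, map_one]
  rw [h6, one_smul]

/-- the section of the sheaf Hom over `V` given by the family of stalk maps. -/
noncomputable def liftSection : Γ(homSh F G, V) :=
  ⟨fun z => stalkLift F G hU hVU fN hfN t hrel z.1 z.2, isLocSect_stalkLift F G hU hVU fN hfN t hrel⟩

end sect

/-- `comb` as an additive map. -/
noncomputable def combHom (G : X.Modules) {U V : X.Opens} (hVU : V ≤ U) {n : ℕ} (t : Fin n → Γ(G, V)) :
    (Fin n → Γ(X, U)) →+ Γ(G, V) where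
  toFun := comb G hVU t
  map_zero' := comb_zero G hVU t
  map_add' := comb_add G hVU t

/-- the standard basis vectors. -/
def stdB {A : Type*} [Zero A] [One A] (n : ℕ) (i : Fin n) : Fin n → A := fun j => if i = j then 1 else 0

theorem comb_eq_zero_of_generators (G : X.Modules) {U V : X.Opens} (hVU : V ≤ U) {n m : ℕ}
    (t : Fin n → Γ(G, V)) (g : (Fin m → Γ(X, U)) →ₗ[Γ(X, U)] (Fin n → Γ(X, U)))
    (h : ∀ j, comb G hVU t (g (stdB m j)) = 0) (b : Fin m → Γ(X, U)) :
    comb G hVU t (g b) = 0 := by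
  have h1 : g b = ∑ j, b j • g (stdB m j) := LinearMap.pi_apply_eq_sum_univ g b
  rw [h1]
  change combHom G hVU t (∑ j, b j • g (stdB m j)) = 0
  rw [map_sum]
  refine Finset.sum_eq_zero fun j _ => ?_
  change comb G hVU t (b j • g (stdB m j)) = 0
  rw [comb_smul, h j, smul_zero]

/-- surjectivity of the evaluation map, in a reusable form: every linear map of stalks
`F_x → G_x` (with `F` of finite presentation) is the stalk map at `x` of a section of the sheaf
Hom over a neighbourhood of `x`. -/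
theorem exists_section_of_stalkHom (F G : X.Modules)
    [SheafOfModules.IsFinitePresentation.{u} (R := X.ringCatSheaf) F] (x : X) (φ : StalkHom F G x) :
    ∃ (V : X.Opens) (hx : x ∈ V) (g : Γ(homSh F G, V)), g.1 ⟨x, hx⟩ = φ := by
  obtain ⟨hq, hfp⟩ := (Groth.Agent.Lib.Helper29.FPDict.isFinitePresentation_iff F).1 inferInstance
  haveI := hq
  obtain ⟨U, hU, hxU, -⟩ := (Opens.isBasis_iff_nbhd.1 X.isBasis_affineOpens)
    (show x ∈ (⊤ : X.Opens) from trivial)
  have hU : IsAffineOpen U := hU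
  haveI := hfp U hU
  obtain ⟨n, m, fN, g, hfN, hex⟩ := Module.FinitePresentation.exists_fin' Γ(X, U) Γ(F, U)
  -- sections of `G` whose germs are the images of the generators
  obtain ⟨V0, hxV0, hV0U, t0, ht0⟩ := exists_sections_of_germs G x U hxU
    (fun i : Fin n => φ (gm F U x hxU (fN (stdB n i))))
  -- key identity at `x`
  have key : ∀ a : Fin n → Γ(X, U),
      gm G V0 x hxV0 (comb G hV0U t0 a) = φ (gm F U x hxU (fN a)) := by
    intro a
    rw [gm_comb]
    have h1 : fN a = ∑ i, a i • fN (stdB n i) := LinearMap.pi_apply_eq_sum_univ fN a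
    rw [h1, show gm F U x hxU (∑ i, a i • fN (stdB n i)) = ∑ i, gm F U x hxU (a i • fN (stdB n i)) from
      map_sum (F.presheaf.germ U x hxU).hom _ _, map_sum]
    refine Finset.sum_congr rfl fun i _ => ?_
    rw [gm_smul, map_smul, ht0 i]
  -- the relations hold near `x`
  obtain ⟨V, hxV, hVV0, hzero⟩ := exists_nhd_res_eq_zero G x V0 hxV0
    (fun j : Fin m => comb G hV0U t0 (g (stdB m j))) (fun j => by
      rw [key, hex.apply_apply_eq_zero, gm_zero, map_zero])
  have hVU : V ≤ U := hVV0.trans hV0U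
  let t : Fin n → Γ(G, V) := fun i => res G hVV0 (t0 i)
  have hrel : ∀ a, fN a = 0 → comb G hVU t a = 0 := by
    intro a ha
    obtain ⟨b, rfl⟩ := (hex a).1 ha
    refine comb_eq_zero_of_generators G hVU t g (fun j => ?_) b
    rw [← res_comb G hV0U t0 hVV0]
    exact hzero j
  refine ⟨V, hxV, liftSection F G hU hVU fN hfN t hrel, ?_⟩
  change stalkLift F G hU hVU fN hfN t hrel x hxV = φ
  refine LinearMap.ext fun ξ => ?_
  have hloc := isLocOn_of_isQuasicoherent F hU
  obtain ⟨s, m0, hs, hsm⟩ := exists_germ_smul_eq F hU hloc x hxU ξ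
  obtain ⟨a, rfl⟩ := hfN m0
  have h1 : X.presheaf.germ U x hxU s • stalkLift F G hU hVU fN hfN t hrel x hxV ξ =
      X.presheaf.germ U x hxU s • φ ξ := by
    rw [← map_smul, ← map_smul, hsm, stalkLift_gm, ← key a, ← res_comb G hV0U t0 hVV0, gm_res]
  obtain ⟨v, hv⟩ := hs
  rw [← hv] at h1
  have := congrArg (fun y => (↑v⁻¹ : X.presheaf.stalk x) • y) h1
  simpa [smul_smul] using this

/-- Let X be a scheme, F and G O_X-modules with F of finite presentation, and x a point of X. Then the
canonical O_{X,x}-linear map 𝓗om_{O_X}(F, G)_x → Hom_{O_{X,x}}(F_x, G_x), which sends the germ at x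
of a section of the sheaf Hom to the stalk map it induces at x, is bijective. (The source states
this for modules on an arbitrary ringed space; it is stated here for schemes, where the sheaf Hom of
the statement is available.) -/
theorem result (X : Scheme.{u}) (F G : X.Modules) (hF : CohB1.IsFP F) (x : X) :
    Function.Bijective (RefHull.evalStalk F G x) := by
  haveI : SheafOfModules.IsFinitePresentation.{u} (R := X.ringCatSheaf) F := hF
  refine ⟨Groth.Agent.S16484.result X F G
    (Groth.Agent.Lib.Helper29.FPDict.isFiniteType_of_isFinitePresentation F) x, fun φ => ?_⟩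
  obtain ⟨V, hx, g, hg⟩ := exists_section_of_stalkHom F G x φ
  exact ⟨(homSh F G).presheaf.germ V x hx g, (evalStalk_germ F G x hx g).trans hg⟩

end Groth.Agent.S16485
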