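import Groth.Statements.S1576
import Groth.Agent.Lib.Helper29.QCohStalk2
import Groth.Agent.Lib.Helper28.FinType

set_option autoImplicit false
universe u
open CategoryTheory CategoryTheory.Limits AlgebraicGeometry
open Divisors

namespace Groth.Agent.S1576

open TopologicalSpace
open Groth.Agent.Lib.Helper29.QCohStalk Groth.Agent.Lib.Helper28.QCohLoc

/-- associated points in a Noetherian affine chart of a module with finitely generated sections are finite -/
theorem finite_isWeakAssPoint_affine {X : Scheme.{u}} (F : X.Modules) [F.IsQuasicoherent] {V : X.Opens}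
    (hV : IsAffineOpen V) [IsNoetherianRing Γ(X, V)] [Module.Finite Γ(X, V) Γ(F, V)] :
    {x : X | x ∈ V ∧ Curv2.IsWeakAssPoint F x}.Finite := by
  have hloc := isLocOn_of_isQuasicoherent F hV
  have hfin : (associatedPrimes Γ(X, V) Γ(F, V)).Finite := associatedPrimes.finite _ _
  have hfin' : {P : PrimeSpectrum Γ(X, V) | P.asIdeal ∈ associatedPrimes Γ(X, V) Γ(F, V)}.Finite :=
    hfin.preimage (fun P _ Q _ h => PrimeSpectrum.ext h)
  refine (hfin'.image hV.fromSpec).subset ?_
  rintro x ⟨hxV, hwa⟩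
  obtain ⟨P, rfl⟩ := exists_fromSpec_eq hV hxV
  refine ⟨P, ?_, rfl⟩
  obtain ⟨m, hm⟩ := exists_ann_eq_germPrime_of_isWeakAssPoint hV hloc _ hxV hwa
  rw [germPrime_fromSpec] at hm
  refine ⟨P.2, m, ?_⟩
  have hcolon : (⊥ : Submodule Γ(X, V) Γ(F, V)).colon {m} = ann (R := Γ(X, V)) m := by
    ext r
    rw [mem_ann, Submodule.mem_colon_singleton, Submodule.mem_bot]
  rw [hcolon, hm, P.2.radical]

/-- Let X be locally Noetherian and F coherent. Then the associated points of F lying in any
quasi-compact open subset form a finite set. -/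
theorem result (X : Scheme.{u}) [IsLocallyNoetherian X]
    (F : X.Modules) (hF : Coh.IsCoh F) (U : X.Opens) (hU : IsCompact (U : Set X)) :
    {x : X | x ∈ U ∧ Curv2.IsAssPoint F x}.Finite := by
  haveI : F.IsQuasicoherent := hF.1
  haveI : SheafOfModules.IsFiniteType.{u} (R := X.ringCatSheaf) F := hF.2
  obtain ⟨t, ht, e⟩ := isCompact_and_isOpen_iff_finite_and_eq_biUnion_affineOpens.mp ⟨hU, U.2⟩
  have hfin : (⋃ V ∈ t, {x : X | x ∈ (V : X.affineOpens).1 ∧ Curv2.IsWeakAssPoint F x}).Finite := by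
    refine ht.biUnion fun V _ => ?_
    haveI : IsNoetherianRing Γ(X, V.1) := IsLocallyNoetherian.component_noetherian V
    haveI : Module.Finite Γ(X, V.1) Γ(F, V.1) :=
      Groth.Agent.Lib.Helper28.FinType.finite_of_isAffineOpen F V.2
    exact finite_isWeakAssPoint_affine F V.2
  refine hfin.subset ?_
  rintro x ⟨hxU, hx⟩
  have hxU' : x ∈ (U : Set X) := hxU
  rw [e] at hxU'
  obtain ⟨V, hVt, hxV⟩ := Set.mem_iUnion₂.1 hxU'
  exact Set.mem_biUnion hVt ⟨hxV, (isAssPoint_iff_isWeakAssPoint F x).1 hx⟩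

end Groth.Agent.S1576
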