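import Groth.Statements.S0010
import Groth.Agent.Lib.Helper17.MV
import Mathlib
set_option backward.isDefEq.respectTransparency.types false

set_option autoImplicit false
universe u
open Coherent

namespace Groth.Agent.S0010
open CategoryTheory CategoryTheory.Limits Opposite Abelian TopologicalSpace AlgebraicGeometry


open AlgebraicGeometry in
/-- Let X be a scheme in which the intersection of any two affine opens is affine (equivalently, X has
affine diagonal; e.g. X separated), covered by t affine opens. Then H^n(X, F) = 0 for every
quasi-coherent F and every n ≥ t. -/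
theorem result (X : Scheme.{u}) (t : ℕ) (U : Fin t → X.Opens)
    (hU : ∀ i, IsAffineOpen (U i)) (hcov : ⨆ i, U i = ⊤)
    (hd : ∀ V W : X.Opens, IsAffineOpen V → IsAffineOpen W → IsAffineOpen (V ⊓ W))
    (M : X.Modules) [Coh.IsQCoh M] (n : ℕ) (hn : t ≤ n) :
    Subsingleton (Coh.HH X M n) := by
  haveI : M.IsQuasicoherent := ‹Coh.IsQCoh M›
  let F : CohTop.Ab X.toTopCat := (SheafOfModules.toSheaf.{u} X.ringCatSheaf).obj M
  have e := Groth.Agent.Lib.Helper17.HCompare.topHEquiv F n
  suffices h : Subsingleton (CohTop.HU F n ⊤) from e.toEquiv.subsingleton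
  exact Groth.Agent.Lib.Helper17.MV.subsingleton_HU_top X t U hU hcov hd M n hn

end Groth.Agent.S0010
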