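import Groth.Statements.S0022
import Groth.Agent.S0010
import Mathlib
set_option backward.isDefEq.respectTransparency.types false

set_option autoImplicit false
universe u
open Coherent

namespace Groth.Agent.S0022
open AlgebraicGeometry CategoryTheory


open AlgebraicGeometry in
/-- For any ring R, any quasi-coherent module F on projective space ℙ^n_R and any i > n, H^i(ℙ^n_R, F) =
0. (The published statement is for coherent modules over a Noetherian ring; it is stated here for
quasi-coherent modules over any ring.) -/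
theorem result (n : ℕ) (R : Type u) [CommRing R]
    (M : (CohB1.ProjSpace n R).Modules) [Coh.IsQCoh M] (i : ℕ) (hi : n < i) :
    Subsingleton (Coh.HH (CohB1.ProjSpace n R) M i) := by
  let 𝒜 := CohB1.polyGrading n R
  let U : Fin (n + 1) → (CohB1.ProjSpace n R).Opens := fun k => Proj.basicOpen 𝒜 (MvPolynomial.X k)
  have hdeg : ∀ k : Fin (n + 1), (MvPolynomial.X k : MvPolynomial (Fin (n + 1)) R) ∈ 𝒜 1 := fun k =>
    MvPolynomial.isHomogeneous_X R k
  have hU : ∀ k, IsAffineOpen (U k) := fun k =>
    Proj.isAffineOpen_basicOpen 𝒜 (MvPolynomial.X k) (hdeg k) one_pos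
  have hcov : ⨆ k, U k = ⊤ := by
    apply Proj.iSup_basicOpen_eq_top' 𝒜 (fun k : Fin (n + 1) => (MvPolynomial.X k : MvPolynomial (Fin (n + 1)) R))
    · intro k; exact ⟨1, hdeg k⟩
    · rw [eq_top_iff]
      intro p hp0
      clear hp0
      induction p using MvPolynomial.induction_on with
      | C a =>
        have : (MvPolynomial.C a : MvPolynomial (Fin (n + 1)) R) ∈ 𝒜 0 := MvPolynomial.isHomogeneous_C _ a
        exact Subalgebra.algebraMap_mem _ (⟨_, this⟩ : 𝒜 0)
      | add p q hp hq => exact Subalgebra.add_mem _ hp hq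
      | mul_X p k hp => exact Subalgebra.mul_mem _ hp (Algebra.subset_adjoin ⟨k, rfl⟩)
  haveI : (CohB1.ProjSpace n R).IsSeparated := inferInstanceAs (Scheme.IsSeparated (Proj 𝒜))
  have hd : ∀ V W : (CohB1.ProjSpace n R).Opens, IsAffineOpen V → IsAffineOpen W → IsAffineOpen (V ⊓ W) :=
    fun V W hV hW => hV.inf hW
  exact Groth.Agent.S0010.result (CohB1.ProjSpace n R) (n + 1) U hU hcov hd M i hi

end Groth.Agent.S0022
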