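import Groth.Statements.S1536
import Groth.Agent.Lib.Helper17.ConnSections
import Groth.Agent.Lib.Helper17.FlatDescBij
import Groth.Agent.Lib.Helper13.AlbTriv
import Mathlib
set_option backward.isDefEq.respectTransparency.types false

set_option autoImplicit false
universe u
open CategoryTheory CategoryTheory.Limits AlgebraicGeometry
open Variety

namespace Groth.Agent.S1536

open Groth.Agent.Lib.Helper17 Groth.Agent.Lib.Helper13.AlbTriv

theorem bijective_app_of_univClosed {K : Type u} [Field K] [IsAlgClosed K] {Z : Scheme.{u}} [IsReduced Z]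
    [ConnectedSpace Z] (q : Z ⟶ Spec (CommRingCat.of K)) [UniversallyClosed q]
    (W' : (Spec (CommRingCat.of K)).Opens) : Function.Bijective (q.app W') := by
  by_cases hW : W' = ⊥
  · subst hW
    haveI : Subsingleton Γ(Spec (CommRingCat.of K), ⊥) := inferInstance
    haveI : Subsingleton Γ(Z, q ⁻¹ᵁ ⊥) := (inferInstance : Subsingleton Γ(Z, ⊥))
    exact ⟨fun a b _ => Subsingleton.elim _ _, fun t => ⟨0, Subsingleton.elim _ _⟩⟩
  · have hW' : W' = ⊤ := by
      haveI : Subsingleton (Spec (CommRingCat.of K)) := inferInstanceAs (Subsingleton (PrimeSpectrum K))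
      obtain ⟨w, hw⟩ : ∃ w, w ∈ W' := by
        by_contra hne
        apply hW
        ext w
        simp only [SetLike.mem_coe]
        constructor
        · intro hw; exact (hne ⟨w, hw⟩).elim
        · intro hw; exact hw.elim
      ext w'
      simp only [SetLike.mem_coe]
      constructor
      · intro _; trivial
      · intro _; rwa [Subsingleton.elim w' w]
    subst hW'
    let ψ : K →+* Γ(Z, ⊤) := (q.appTop).hom.comp (Scheme.ΓSpecIso (CommRingCat.of K)).inv.hom
    have hint : (q.appTop).hom.IsIntegral := isIntegral_appTop_of_universallyClosed q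
    have hψ : ∀ c, (q.app ⊤).hom c = ψ ((Scheme.ΓSpecIso (CommRingCat.of K)).hom.hom c) := by
      intro c
      show _ = (q.appTop).hom ((Scheme.ΓSpecIso (CommRingCat.of K)).inv.hom ((Scheme.ΓSpecIso (CommRingCat.of K)).hom.hom c))
      have h0 : (Scheme.ΓSpecIso (CommRingCat.of K)).inv.hom ((Scheme.ΓSpecIso (CommRingCat.of K)).hom.hom c) = c := by
        rw [← CommRingCat.comp_apply, Iso.hom_inv_id]
        rfl
      rw [h0]
      rfl
    haveI : Nonempty ((⊤ : Z.Opens) : Type u) := by
      obtain ⟨z⟩ := (inferInstance : Nonempty Z)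
      exact ⟨⟨z, trivial⟩⟩
    haveI : Nontrivial Γ(Z, ⊤) := Scheme.component_nontrivial Z ⊤
    constructor
    · intro a b hab
      have hab' : (q.app ⊤).hom a = (q.app ⊤).hom b := hab
      rw [hψ, hψ] at hab'
      have h1 := ψ.injective hab'
      have h2 := congrArg (Scheme.ΓSpecIso (CommRingCat.of K)).inv.hom h1
      rw [← CommRingCat.comp_apply, ← CommRingCat.comp_apply, Iso.hom_inv_id] at h2
      exact h2
    · intro s
      obtain ⟨P, hP, hPs⟩ := hint s
      have hs : ψ.IsIntegralElem s := by
        refine ⟨P.map (Scheme.ΓSpecIso (CommRingCat.of K)).hom.hom, hP.map _, ?_⟩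
        rw [Polynomial.eval₂_map]
        have : ψ.comp (Scheme.ΓSpecIso (CommRingCat.of K)).hom.hom = (q.appTop).hom := by
          ext c
          exact (hψ c).symm
        rw [this]
        exact hPs
      obtain ⟨c, hc⟩ := ConnSections.exists_eq_of_isIntegral ψ s hs
      exact ⟨(Scheme.ΓSpecIso (CommRingCat.of K)).inv.hom c, hc.symm⟩

theorem bijective_app_aux (k : Type u) [Field k] (X : Scheme.{u}) (p : X ⟶ Spec (CommRingCat.of k)) [IsProper p]
    [GeometricallyReduced p] [GeometricallyConnected p] :
    Function.Bijective (p.app ⊤) := by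
  let K := AlgebraicClosure k
  let y : Spec (CommRingCat.of K) ⟶ Spec (CommRingCat.of k) := Spec.map (CommRingCat.ofHom (algebraMap k K))
  let Z := pullback p y
  have hpb : IsPullback (pullback.fst p y) (pullback.snd p y) p y := IsPullback.of_hasPullback p y
  haveI : IsReduced Z := pullback_of_geometrically (GeometricallyReduced.geometrically_isReduced) K y
  haveI : ConnectedSpace Z :=
    pullback_of_geometrically (P := (ConnectedSpace ·)) (GeometricallyConnected.geometrically_connectedSpace) K y
  haveI : Flat y := by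
    rw [Flat.SpecMap_iff]
    show (algebraMap k K).Flat
    rw [RingHom.flat_algebraMap_iff]
    infer_instance
  haveI : Surjective y := by
    constructor
    intro x
    obtain ⟨z⟩ := (inferInstance : Nonempty (Spec (CommRingCat.of K)))
    refine ⟨z, ?_⟩
    haveI : Subsingleton (Spec (CommRingCat.of k)) := inferInstanceAs (Subsingleton (PrimeSpectrum k))
    exact Subsingleton.elim _ _
  have hf' : ∀ W' : (Spec (CommRingCat.of K)).Opens, Function.Bijective ((pullback.snd p y).app W') :=
    fun W' => bijective_app_of_univClosed (pullback.snd p y) W'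
  exact FlatDescBij.bijective_app p y (pullback.fst p y) (pullback.snd p y) hpb hf' ⊤


/-- For a proper scheme X over a field k which is geometrically reduced and geometrically connected,
H^0(X, O_X) is one-dimensional over k, i.e. the global functions are the constants. -/
theorem result (k : Type u) [Field k] (X : Scheme.{u}) [X.Over (Spec (CommRingCat.of k))] [IsProper (X ↘ (Spec (CommRingCat.of k)))]
    [GeometricallyReduced (X ↘ (Spec (CommRingCat.of k)))] [GeometricallyConnected (X ↘ (Spec (CommRingCat.of k)))] :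
    Module.finrank k (Coh.HH X (Coh.structureModule X) 0) = 1 := by
  have hbij := bijective_app_aux k X (X ↘ (Spec (CommRingCat.of k)))
  have hsurj : Function.Surjective (Coh.toGlobal (X ↘ Spec (CommRingCat.of k))) := by
    intro s
    obtain ⟨c, hc⟩ := hbij.2 s
    refine ⟨(Scheme.ΓSpecIso (CommRingCat.of k)).hom.hom c, ?_⟩
    show ((X ↘ Spec (CommRingCat.of k)).appTop).hom ((Scheme.ΓSpecIso (CommRingCat.of k)).inv.hom
      ((Scheme.ΓSpecIso (CommRingCat.of k)).hom.hom c)) = s
    have h0 : (Scheme.ΓSpecIso (CommRingCat.of k)).inv.hom ((Scheme.ΓSpecIso (CommRingCat.of k)).hom.hom c) = c := by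
      rw [← CommRingCat.comp_apply, Iso.hom_inv_id]
      rfl
    rw [h0]
    exact hc
  haveI : Nonempty X := by
    haveI : Surjective (X ↘ Spec (CommRingCat.of k)) := inferInstance
    obtain ⟨z⟩ := (inferInstance : Nonempty (Spec (CommRingCat.of k)))
    obtain ⟨x, -⟩ := (X ↘ Spec (CommRingCat.of k)).surjective z
    exact ⟨x⟩
  haveI : Nonempty ((⊤ : X.Opens) : Type u) := by
    obtain ⟨z⟩ := (inferInstance : Nonempty X)
    exact ⟨⟨z, trivial⟩⟩
  haveI : Nontrivial (Coh.Γtop X) := Scheme.component_nontrivial X ⊤
  rw [finrank_eq_one_iff']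
  refine ⟨(e0 X).symm 1, ?_, ?_⟩
  · intro h0
    have := congrArg (e0 X) h0
    rw [AddEquiv.apply_symm_apply, map_zero] at this
    exact one_ne_zero this
  · intro w
    obtain ⟨c, hc⟩ := hsurj (e0 X w)
    refine ⟨c, ?_⟩
    apply (e0 X).injective
    rw [e0_smul, AddEquiv.apply_symm_apply, hc, mul_one]

end Groth.Agent.S1536
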