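import Groth.Statements.S4408
import Groth.Agent.Lib.Helper17.QCAlgGen
import Groth.Agent.Lib.Helper17.Serre3
import Mathlib
set_option backward.isDefEq.respectTransparency.types false

set_option autoImplicit false
universe u
open CategoryTheory CategoryTheory.Limits AlgebraicGeometry
open EGA2

namespace Groth.Agent.S4408
open Opposite TopologicalSpace
open Groth.Agent.Lib.Helper17.Serre Groth.Agent.Lib.Helper28.QCohLoc Groth.Agent.Lib.Helper17.CohKer
open Groth.Agent.Lib.Helper17.QCAlgGen Groth.Agent.Lib.Helper17.FTExt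

/-- the unit section lies in the ideal of the complement over `U`. -/
theorem exists_ideal_section {X : Scheme.{u}} (U : X.Opens) :
    ∃ g : Γ(ClSub.idealMod (Scheme.IdealSheafData.vanishingIdeal
        ⟨(U : Set X)ᶜ, U.isOpen.isClosed_compl⟩), U),
      (ClSub.idealModι _).app U g = (show Γ(Coh.structureModule X, U) from (1 : Γ(X, U))) := by
  set I' := Scheme.IdealSheafData.vanishingIdeal ⟨(U : Set X)ᶜ, U.isOpen.isClosed_compl⟩ with hI'
  have hrange : Set.range I'.subschemeι = (U : Set X)ᶜ := by
    have := Scheme.IdealSheafData.range_subschemeι I'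
    rw [Scheme.IdealSheafData.coe_support_vanishingIdeal] at this
    exact this
  have hbot : I'.subschemeι ⁻¹ᵁ U = ⊥ := by
    rw [eq_bot_iff]
    intro z hz
    have : I'.subschemeι z ∈ (U : Set X)ᶜ := hrange ▸ ⟨z, rfl⟩
    exact this hz
  haveI : Subsingleton Γ(I'.subscheme, I'.subschemeι ⁻¹ᵁ U) := by
    rw [hbot]; infer_instance
  refine exists_kernel_app_eq (ClSub.toSubscheme I') U _ ?_
  exact Subsingleton.elim (α := Γ(I'.subscheme, I'.subschemeι ⁻¹ᵁ U)) _ _

/-- the ideal sheaf of the complement of an open. -/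
noncomputable abbrev cI {X : Scheme.{u}} (U : X.Opens) : X.IdealSheafData :=
  Scheme.IdealSheafData.vanishingIdeal ⟨(U : Set X)ᶜ, U.isOpen.isClosed_compl⟩

/-- global sections of the ideal of the complement of `U` have their non-vanishing locus in `U`. -/
theorem basicOpen_le_of_ideal {X : Scheme.{u}} (U : X.Opens) (s : Γ(ClSub.idealMod (cI U), ⊤))
    (r : Γ(X, ⊤)) (hr : (ClSub.idealModι (cI U)).app ⊤ s = r) :
    X.basicOpen r ≤ U := by
  have hrange : Set.range (cI U).subschemeι = (U : Set X)ᶜ := by
    have := Scheme.IdealSheafData.range_subschemeι (cI U)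
    rw [Scheme.IdealSheafData.coe_support_vanishingIdeal] at this
    exact this
  have h0 : (cI U).subschemeι.app ⊤ r = 0 := by
    rw [← hr]
    exact app_kernel_ι_app (ClSub.toSubscheme (cI U)) ⊤ s
  have hpre : (cI U).subschemeι ⁻¹ᵁ X.basicOpen r = ⊥ := by
    rw [Scheme.preimage_basicOpen, h0, Scheme.basicOpen_zero]
  intro y hy
  by_contra hyU
  obtain ⟨z, hz⟩ : y ∈ Set.range (cI U).subschemeι := by rw [hrange]; exact hyU
  have : z ∈ (cI U).subschemeι ⁻¹ᵁ X.basicOpen r := by
    change (cI U).subschemeι z ∈ X.basicOpen r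
    rw [hz]; exact hy
  rw [hpre] at this
  exact this


/-- a morphism from a free module which kills the basis sections is zero. -/
theorem free_hom_eq_zero {X : Scheme.{u}} {ι : Type u} {Q : X.Modules}
    (ψ : freeMod X ι ⟶ Q)
    (h : ∀ k : ι, ψ.app ⊤ ((SheafOfModules.freeSection (R := X.ringCatSheaf) k).val (op ⊤)) = 0) :
    ψ = 0 := by
  apply (SheafOfModules.freeHomEquiv Q).injective
  funext k
  rw [SheafOfModules.freeHomEquiv_apply, SheafOfModules.freeHomEquiv_apply]
  apply Subtype.ext
  funext V
  have hV : V.unop ≤ ⊤ := le_top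
  have h1 := (SheafOfModules.freeSection (R := X.ringCatSheaf) k).property (homOfLE hV).op
  have h2 : ψ.app V.unop ((SheafOfModules.freeSection (R := X.ringCatSheaf) k).val V) = 0 := by
    have h3 : (SheafOfModules.freeSection (R := X.ringCatSheaf) k).val V =
        res (freeMod X ι) hV
          ((SheafOfModules.freeSection (R := X.ringCatSheaf) k).val (op ⊤)) := h1.symm
    rw [h3, app_res, h k]
    exact map_zero _
  exact h2

/-- a global function vanishing at `x` dies in the residue field. -/
theorem fromSpecResidueField_app_eq_zero {X : Scheme.{u}} (x : X) (s : Γ(X, ⊤))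
    (hs : x ∉ X.basicOpen s) : (X.fromSpecResidueField x).app ⊤ s = 0 := by
  rw [← basicOpen_eq_bot_iff, ← Scheme.preimage_basicOpen, eq_bot_iff]
  intro z hz
  have h1 : X.fromSpecResidueField x z ∈ X.basicOpen s := hz
  rw [Scheme.fromSpecResidueField_apply] at h1
  exact hs h1


/-- (e') ⇒ (a): let X be a quasi-compact separated scheme such that every quasi-coherent submodule of
finite type of O_X is generated by its global sections. Then X is quasi-affine. (The published
statement also allows X to be a scheme whose underlying space is Noetherian; this row assumes it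
quasi-compact and separated.) -/
theorem result (X : Scheme.{u}) [CompactSpace X] [X.IsSeparated]
    (h : ∀ (J : X.Modules) (i : J ⟶ Coh.structureModule X), Mono i → Coh.IsQCoh J → CohB1.IsFT J →
      Curv2.IsGloballyGenerated J) :
    X.IsQuasiAffine := by
  refine Scheme.IsQuasiAffine.of_forall_exists_mem_basicOpen X fun x => ?_
  obtain ⟨_, ⟨U, hU, rfl⟩, hxU, -⟩ :=
    X.isBasis_affineOpens.exists_subset_of_mem_open (Set.mem_univ x) isOpen_univ
  obtain ⟨g, hg⟩ := exists_ideal_section U
  haveI : (ClSub.idealMod (cI U)).IsQuasicoherent := inferInstance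
  obtain ⟨G', i', hm, hq, hft, hsec⟩ :=
    exists_sub_through (ClSub.idealMod (cI U)) hU PUnit.{u+1} (fun _ => g)
  obtain ⟨g', hg'⟩ := hsec PUnit.unit
  haveI := hm
  obtain ⟨ι, p, hp⟩ := h G' (i' ≫ ClSub.idealModι (cI U)) inferInstance hq hft
  let p' : freeMod X ι ⟶ G' := p
  by_cases hex : ∃ s : Γ(G', ⊤),
      x ∈ X.basicOpen (show Γ(X, ⊤) from (ClSub.idealModι (cI U)).app ⊤ (i'.app ⊤ s))
  · obtain ⟨s, hs⟩ := hex
    have hle := basicOpen_le_of_ideal U (i'.app ⊤ s) _ rfl
    refine ⟨_, ?_, hs⟩
    have h1 := X.basicOpen_res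
      (show Γ(X, ⊤) from (ClSub.idealModι (cI U)).app ⊤ (i'.app ⊤ s)) (homOfLE (le_top : U ≤ ⊤)).op
    rw [inf_eq_right.2 hle] at h1
    rw [← h1]
    exact hU.basicOpen _
  · exfalso
    push Not at hex
    let j := X.fromSpecResidueField x
    let c := ClSub.unitToPush j
    have hzero : p' ≫ i' ≫ ClSub.idealModι (cI U) ≫ c = 0 := by
      refine free_hom_eq_zero _ fun k => ?_
      exact fromSpecResidueField_app_eq_zero x _ (hex _)
    haveI : Epi p' := hp
    have hzero' : i' ≫ ClSub.idealModι (cI U) ≫ c = 0 := by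
      rw [← cancel_epi p', hzero, comp_zero]
    have h1 : c.app U ((ClSub.idealModι (cI U)).app U (i'.app U g')) = 0 :=
      congrArg (fun ψ : (G' ⟶ _) => ψ.app U g') hzero'
    rw [hg', hg] at h1
    have h2 : (j.app U).hom (1 : Γ(X, U)) = 0 := h1
    rw [map_one] at h2
    haveI : Nonempty (j ⁻¹ᵁ U) := by
      obtain ⟨z⟩ : Nonempty (Spec (X.residueField x)) := inferInstance
      refine ⟨⟨z, ?_⟩⟩
      change j z ∈ U
      rw [Scheme.fromSpecResidueField_apply]
      exact hxU
    exact one_ne_zero h2

end Groth.Agent.S4408
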