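import Groth.Statements.S4409
import Groth.Agent.S4408
import Groth.Agent.Lib.Helper28.PullbackInv
import Groth.Agent.Lib.Helper28.QCohGlobal
import Mathlib
set_option backward.isDefEq.respectTransparency.types false

set_option autoImplicit false
universe u
open CategoryTheory CategoryTheory.Limits AlgebraicGeometry
open EGA2

namespace Groth.Agent.S4409
open Opposite TopologicalSpace
open Groth.Agent.Lib.Helper28.QCohLoc Groth.Agent.Lib.Helper28.PullbackInv Groth.Agent.Lib.Helper17.CohKer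

theorem counit_pbs {X Y : Scheme.{u}} (f : X ⟶ Y) (F : X.Modules) (V : Y.Opens) (m : Γ(F, f ⁻¹ᵁ V)) :
    ((Scheme.Modules.pullbackPushforwardAdjunction f).counit.app F).app (f ⁻¹ᵁ V)
      (pbs f ((Scheme.Modules.pushforward f).obj F) V m) = m := by
  have h := pbLift_pbs f (𝟙 ((Scheme.Modules.pushforward f).obj F)) V m
  have h2 : pbLift f (𝟙 ((Scheme.Modules.pushforward f).obj F)) =
      (Scheme.Modules.pullbackPushforwardAdjunction f).counit.app F := by
    unfold pbLift
    rw [Adjunction.homEquiv_counit, CategoryTheory.Functor.map_id, Category.id_comp]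
  rw [h2] at h
  exact h

/-- (a) ⇒ (d), the counit part -/
theorem epi_counit_of_isQuasiAffine {X Y : Scheme.{u}} (f : X ⟶ Y) (hqa : Mor2.IsQuasiAffine f)
    (F : X.Modules) [F.IsQuasicoherent] :
    Epi ((Scheme.Modules.pullbackPushforwardAdjunction f).counit.app F) := by
  obtain ⟨hqc, hqa⟩ := hqa
  let ε := (Scheme.Modules.pullbackPushforwardAdjunction f).counit.app F
  apply epi_of_locally_in_range (G := (Scheme.Modules.pullback f).obj ((Scheme.Modules.pushforward f).obj F)) (F := F)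
  intro U y x hx
  obtain ⟨_, ⟨V, (hV : IsAffineOpen V), rfl⟩, hxV, -⟩ :=
    Y.isBasis_affineOpens.exists_subset_of_mem_open (Set.mem_univ (f x)) isOpen_univ
  let Z : X.Opens := f ⁻¹ᵁ V
  haveI : (Z : Scheme.{u}).IsQuasiAffine := hqa V hV
  have hxZ : x ∈ Z := hxV
  obtain ⟨_, ⟨r₀, hr₀, rfl⟩, hxr, hrU⟩ :=
    Opens.isBasis_iff_nbhd.mp (Scheme.IsQuasiAffine.isBasis_basicOpen (Z : Scheme.{u}))
      (show (⟨x, hxZ⟩ : Z) ∈ Z.ι ⁻¹ᵁ U from hx)
  let W : X.Opens := Z.ι ''ᵁ ⊤
  have hWZ : W = Z := Scheme.Opens.ι_image_top Z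
  let r : Γ(X, W) := r₀
  have hbr : Z.ι ''ᵁ (Z : Scheme.{u}).basicOpen r₀ = X.basicOpen r := Scheme.Opens.ι_image_basicOpen Z r₀
  have hxr' : x ∈ X.basicOpen r := by
    rw [← hbr]
    exact ⟨⟨x, hxZ⟩, hxr, rfl⟩
  have hrU' : X.basicOpen r ≤ U := by
    rw [← hbr]
    rintro _ ⟨z, hz, rfl⟩
    exact hrU hz
  have hWc : IsCompact (W : Set X) := by
    rw [hWZ]
    exact QuasiCompact.isCompact_preimage (f := f) _ V.2 hV.isCompact
  have hWqs : IsQuasiSeparated (W : Set X) := by
    rw [hWZ]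
    have : QuasiSeparatedSpace (Z : Scheme.{u}) := inferInstance
    exact (isQuasiSeparated_iff_quasiSeparatedSpace _ Z.2).2 this
  obtain ⟨n, m, hm⟩ := exists_pow_smul_eq_res_of_qcqs F hWc hWqs r (res F hrU' y)
  have hunit : IsUnit (resO (X.basicOpen_le r) r) := RingedSpace.isUnit_res_basicOpen _ r
  obtain ⟨u, hu⟩ := hunit.pow n
  let m' : Γ(F, f ⁻¹ᵁ V) := res F (le_of_eq hWZ.symm) m
  have hle : X.basicOpen r ≤ f ⁻¹ᵁ V := (X.basicOpen_le r).trans (le_of_eq hWZ)
  refine ⟨X.basicOpen r, hrU', hxr', ((↑u⁻¹ : Γ(X, X.basicOpen r)) •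
    res _ hle (pbs f ((Scheme.Modules.pushforward f).obj F) V m') :
      Γ((Scheme.Modules.pullback f).obj ((Scheme.Modules.pushforward f).obj F), X.basicOpen r)), ?_⟩
  rw [Scheme.Modules.Hom.app_smul, app_res, counit_pbs, res_res]
  have h3 : res F (X.basicOpen_le r) m = ((u : Γ(X, X.basicOpen r)) • res F hrU' y : Γ(F, X.basicOpen r)) := by
    rw [hm, hu]
  have h4 : res F ((le_of_eq hWZ.symm).trans' hle) m = res F (X.basicOpen_le r) m := rfl
  rw [h3, smul_smul, Units.inv_mul, one_smul]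

/-- (a) ⇒ (d), separatedness -/
theorem isSeparated_of_isQuasiAffine {X Y : Scheme.{u}} (f : X ⟶ Y) (hqa : Mor2.IsQuasiAffine f) :
    IsSeparated f := by
  obtain ⟨hqc, hqa⟩ := hqa
  rw [HasAffineProperty.iff_of_iSup_eq_top (P := @IsSeparated) (fun V : Y.affineOpens => V)
    (iSup_affineOpens_eq_top Y)]
  intro V
  haveI : (f ⁻¹ᵁ V.1 : Scheme.{u}).IsQuasiAffine := hqa V.1 V.2
  change (f ⁻¹ᵁ V.1 : Scheme.{u}).IsSeparated
  infer_instance

/-- a function vanishing at `x` dies in the residue field. -/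
theorem fromSpecResidueField_app_eq_zero' {X : Scheme.{u}} (x : X) (W : X.Opens) (s : Γ(X, W))
    (hs : x ∉ X.basicOpen s) : (X.fromSpecResidueField x).app W s = 0 := by
  rw [← basicOpen_eq_bot_iff, ← Scheme.preimage_basicOpen, eq_bot_iff]
  intro z hz
  have h1 : X.fromSpecResidueField x z ∈ X.basicOpen s := hz
  rw [Scheme.fromSpecResidueField_apply] at h1
  exact hs h1

open Groth.Agent.S4408 in
/-- sections of the ideal of the complement of `U` have their non-vanishing locus in `U`. -/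
theorem basicOpen_le_of_ideal' {X : Scheme.{u}} (U W : X.Opens) (s : Γ(ClSub.idealMod (cI U), W))
    (r : Γ(X, W)) (hr : (ClSub.idealModι (cI U)).app W s = r) :
    X.basicOpen r ≤ U := by
  have hrange : Set.range (cI U).subschemeι = (U : Set X)ᶜ := by
    have := Scheme.IdealSheafData.range_subschemeι (cI U)
    rw [Scheme.IdealSheafData.coe_support_vanishingIdeal] at this
    exact this
  have h0 : (cI U).subschemeι.app W r = 0 := by
    rw [← hr]
    exact app_kernel_ι_app (ClSub.toSubscheme (cI U)) W s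
  have hpre : (cI U).subschemeι ⁻¹ᵁ X.basicOpen r = ⊥ := by
    rw [Scheme.preimage_basicOpen, h0, Scheme.basicOpen_zero]
  intro y hy
  by_contra hyU
  obtain ⟨z, hz⟩ : y ∈ Set.range (cI U).subschemeι := by rw [hrange]; exact hyU
  have : z ∈ (cI U).subschemeι ⁻¹ᵁ X.basicOpen r := by
    change (cI U).subschemeι z ∈ X.basicOpen r
    rw [hz]; exact hy
  rw [hpre] at this
  exact this

open Groth.Agent.S4408 in
theorem exists_section_ne {X Y : Scheme.{u}} (f : X ⟶ Y) (U : X.Opens) (x : X) (hxU : x ∈ U)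
    (hepi : Epi ((Scheme.Modules.pullbackPushforwardAdjunction f).counit.app (ClSub.idealMod (cI U)))) :
    ∃ (V : Y.Opens) (t : Γ(ClSub.idealMod (cI U), f ⁻¹ᵁ V)),
      x ∈ X.basicOpen (show Γ(X, f ⁻¹ᵁ V) from (ClSub.idealModι (cI U)).app (f ⁻¹ᵁ V) t) := by
  by_contra hex
  push Not at hex
  obtain ⟨g, hg⟩ := exists_ideal_section U
  let I := ClSub.idealMod (cI U)
  let ε := (Scheme.Modules.pullbackPushforwardAdjunction f).counit.app I
  let j := X.fromSpecResidueField x
  let c := ClSub.unitToPush j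
  have hzero : ε ≫ ClSub.idealModι (cI U) ≫ c = 0 := by
    apply pb_hom_ext
    intro V t
    change c.app (f ⁻¹ᵁ V) ((ClSub.idealModι (cI U)).app (f ⁻¹ᵁ V)
      (ε.app (f ⁻¹ᵁ V) (pbs f ((Scheme.Modules.pushforward f).obj I) V t))) = 0
    rw [counit_pbs]
    exact fromSpecResidueField_app_eq_zero' x _ _ (hex V t)
  haveI : Epi ε := hepi
  have hzero' : ClSub.idealModι (cI U) ≫ c = 0 := by
    rw [← cancel_epi ε, hzero, comp_zero]
  have h1 : c.app U ((ClSub.idealModι (cI U)).app U g) = 0 :=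
    congrArg (fun ψ : (I ⟶ _) => ψ.app U g) hzero'
  rw [hg] at h1
  have h2 : (j.app U).hom (1 : Γ(X, U)) = 0 := h1
  rw [map_one] at h2
  haveI : Nonempty (j ⁻¹ᵁ U) := by
    obtain ⟨z⟩ : Nonempty (Spec (X.residueField x)) := inferInstance
    refine ⟨⟨z, ?_⟩⟩
    change j z ∈ U
    rw [Scheme.fromSpecResidueField_apply]
    exact hxU
  exact one_ne_zero h2

/-- a basic open inside a basic open of a qcqs open is a basic open -/
theorem exists_basicOpen_eq {X : Scheme.{u}} (Z : X.Opens) (hZc : IsCompact (Z : Set X))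
    (hZqs : IsQuasiSeparated (Z : Set X)) (h' : Γ(X, Z)) (r : Γ(X, X.basicOpen h')) :
    ∃ s' : Γ(X, Z), X.basicOpen s' = X.basicOpen r := by
  obtain ⟨n, s, hs⟩ := exists_eq_pow_mul_of_isCompact_of_isQuasiSeparated X Z hZc hZqs h' r
  dsimp only [TopCat.Presheaf.restrictOpenCommRingCat_apply] at hs
  refine ⟨s * h', ?_⟩
  have hle : X.basicOpen (s * h') ≤ X.basicOpen h' := by
    rw [Scheme.basicOpen_mul]; exact inf_le_right
  have h1 : X.basicOpen (X.presheaf.map (homOfLE (X.basicOpen_le h')).op (s * h')) =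
      X.basicOpen h' ⊓ X.basicOpen (s * h') := Scheme.basicOpen_res _ _ _
  rw [inf_eq_right.2 hle] at h1
  rw [← h1, map_mul, hs, mul_assoc, mul_comm r, ← mul_assoc, ← pow_succ, Scheme.basicOpen_mul,
    Scheme.basicOpen_pow _ _ (Nat.succ_pos n), Scheme.basicOpen_res, inf_idem]
  exact inf_eq_right.2 (X.basicOpen_le r)

open Groth.Agent.S4408 in
theorem isQuasiAffine_of_counit {X Y : Scheme.{u}} (f : X ⟶ Y) [QuasiCompact f] (hsep : IsSeparated f)
    (hcounit : ∀ F : X.Modules, Coh.IsQCoh F →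
      Epi ((Scheme.Modules.pullbackPushforwardAdjunction f).counit.app F)) :
    Mor2.IsQuasiAffine f := by
  refine ⟨inferInstance, fun V hV => ?_⟩
  let Z : X.Opens := f ⁻¹ᵁ V
  have hZc : IsCompact (Z : Set X) := QuasiCompact.isCompact_preimage (f := f) _ V.2 hV.isCompact
  haveI : CompactSpace Z := isCompact_iff_compactSpace.1 hZc
  haveI : (Z : Scheme.{u}).IsSeparated := HasAffineProperty.restrict (P := @IsSeparated) hsep ⟨V, hV⟩
  have hZqs : IsQuasiSeparated (Z : Set X) := by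
    have : QuasiSeparatedSpace (Z : Scheme.{u}) := inferInstance
    exact (isQuasiSeparated_iff_quasiSeparatedSpace _ Z.2).2 this
  refine Scheme.IsQuasiAffine.of_forall_exists_mem_basicOpen _ fun z => ?_
  obtain ⟨x, hxZ⟩ := z
  obtain ⟨_, ⟨U, hU, rfl⟩, hxU, hUZ⟩ := X.isBasis_affineOpens.exists_subset_of_mem_open hxZ Z.2
  have hUZ' : U ≤ Z := hUZ
  haveI : (ClSub.idealMod (cI U)).IsQuasicoherent := inferInstance
  obtain ⟨V'', t, ht⟩ := exists_section_ne f U x hxU (hcounit _ inferInstance)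
  have hfx : f x ∈ V'' := X.basicOpen_le _ ht
  obtain ⟨h, hhle, hxh⟩ := hV.exists_basicOpen_le (V := V'' ⊓ V) ⟨f x, hfx, hxZ⟩ hxZ
  let h' : Γ(X, Z) := f.app V h
  have hpre : X.basicOpen h' = f ⁻¹ᵁ (Y.basicOpen h) := (Scheme.preimage_basicOpen f h).symm
  have hle'' : X.basicOpen h' ≤ f ⁻¹ᵁ V'' := by
    rw [hpre]; exact f.preimage_mono (hhle.trans inf_le_left)
  let I := ClSub.idealMod (cI U)
  let t' : Γ(I, X.basicOpen h') := res I hle'' t
  let r : Γ(X, X.basicOpen h') := (ClSub.idealModι (cI U)).app _ t'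
  have hr : r = X.presheaf.map (homOfLE hle'').op
      (show Γ(X, f ⁻¹ᵁ V'') from (ClSub.idealModι (cI U)).app (f ⁻¹ᵁ V'') t) :=
    app_res (ClSub.idealModι (cI U)) hle'' t
  have hxr : x ∈ X.basicOpen r := by
    rw [hr, Scheme.basicOpen_res]
    refine ⟨?_, ht⟩
    rw [hpre]
    exact hxh
  have hrU : X.basicOpen r ≤ U := basicOpen_le_of_ideal' U _ t' r rfl
  obtain ⟨s', hs'⟩ := exists_basicOpen_eq Z hZc hZqs h' r
  have himg : Z.ι ''ᵁ (Z : Scheme.{u}).basicOpen (Z.topIso.inv s') = X.basicOpen r := by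
    rw [Scheme.Opens.ι_image_basicOpen_topIso_inv, hs']
  refine ⟨Z.topIso.inv s', ?_, ?_⟩
  · rw [← Scheme.Hom.isAffineOpen_iff_of_isOpenImmersion Z.ι, himg]
    have : X.basicOpen r = X.basicOpen (X.presheaf.map (homOfLE hUZ').op s') := by
      rw [Scheme.basicOpen_res, hs', inf_eq_right.2 hrU]
    rw [this]
    exact hU.basicOpen _
  · have hmem : x ∈ Z.ι ''ᵁ (Z : Scheme.{u}).basicOpen (Z.topIso.inv s') := by
      rw [himg]; exact hxr
    obtain ⟨z', hz', hzz⟩ := hmem
    have : z' = ⟨x, hxZ⟩ := Subtype.ext hzz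
    rw [← this]
    exact hz'


/-- (a) ⇔ (d): let f : X → Y be a quasi-compact morphism. Then f is quasi-affine (the preimage of every
affine open of Y is a quasi-affine scheme) if and only if f is separated and, for every
quasi-coherent O_X-module F, the canonical morphism f^*(f_*(F)) → F (counit of the adjunction
between f^* and f_*) is an epimorphism. -/
theorem result {X Y : Scheme.{u}} (f : X ⟶ Y) [QuasiCompact f] :
    Mor2.IsQuasiAffine f ↔ (IsSeparated f ∧ ∀ F : X.Modules, Coh.IsQCoh F →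
      Epi ((Scheme.Modules.pullbackPushforwardAdjunction f).counit.app F)) := by
  constructor
  · intro hqa
    refine ⟨isSeparated_of_isQuasiAffine f hqa, fun F hF => ?_⟩
    haveI : F.IsQuasicoherent := hF
    exact epi_counit_of_isQuasiAffine f hqa F
  · rintro ⟨hsep, hcounit⟩
    exact isQuasiAffine_of_counit f hsep hcounit

end Groth.Agent.S4409
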