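import Groth.Statements.S1564
import Groth.Agent.Lib.Helper8.GrdEq

set_option autoImplicit false
universe u
open CategoryTheory CategoryTheory.Limits AlgebraicGeometry
open Curves

namespace Groth.Agent.S1564
open Groth.Agent.Lib.Helper8.KillA Groth.Agent.Lib.Helper8.EulerK Groth.Agent.Lib.Helper8.CurveInv
  Groth.Agent.Lib.Helper8.CurveDeg Groth.Agent.Lib.Helper8.CurveRR Groth.Agent.Lib.Helper8.GrdEq
  Groth.Agent.Lib.Helper2.HLesLin Groth.Agent.Lib.Helper4.HLesFin1

/-- Let X be a proper curve over a field k (an integral scheme of dimension 1, proper over k) with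
H^0(X, O_X) of dimension 1 over k, and L an invertible O_X-module with H^0(X, L) ≠ 0. Then dim_k
H^0(X, L) ≤ deg L + 1, and if equality holds and deg L > 0 then X has genus zero, i.e. H^1(X, O_X) =
0. (This is the statement that a linear series of degree d and dimension r has r ≤ d, with equality
for d ≥ 1 only in genus zero. The published statement does not exclude r = d = 0 in the equality
clause, where (O_X, H^0(X, O_X)) is a linear series on every such curve and the conclusion fails in
positive genus; the hypothesis 0 < deg L is therefore added to the equality clause here.) -/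
theorem result (k : Type u) [Field k] (X : Scheme.{u}) [X.Over (Spec (CommRingCat.of k))]
    [IsIntegral X] [IsProper (X ↘ (Spec (CommRingCat.of k)))] (hdim : topologicalKrullDim X = 1)
    (h0 : Module.finrank k (Coh.HH X (Coh.structureModule X) 0) = 1)
    (L : X.Modules) (hL : PicF.IsInvertible L) (hs : Nontrivial (Coh.HH X L 0)) :
    (Module.finrank k (Coh.HH X L 0) : ℤ) ≤ Curv2.deg k X L 1 + 1 ∧
      ((Module.finrank k (Coh.HH X L 0) : ℤ) = Curv2.deg k X L 1 + 1 → 0 < Curv2.deg k X L 1 →
        Curv2.genus k X = 0) := by
  haveI : IsLocallyNoetherian X := isLocallyNoetherian k X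
  obtain ⟨s, hs0⟩ := exists_section_ne_zero L hs
  have hO := isInvertible_structureModule X
  have hcO := Groth.Agent.Lib.Helper6.K0Op.isCoh_of_isInvertible _ hO
  have hcL := Groth.Agent.Lib.Helper6.K0Op.isCoh_of_isInvertible _ hL
  have hcQ := Groth.Agent.Lib.Helper6.DevCore.isCoh_cokernel s hcO hcL
  haveI : Mono s := mono_of_ne_zero hO hL s hs0
  let S : ShortComplex X.Modules := ShortComplex.mk s (cokernel.π s) (cokernel.condition s)
  have hS : S.ShortExact :=
    { exact := ShortComplex.exact_cokernel s
      mono_f := by dsimp [S]; infer_instance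
      epi_g := by dsimp [S]; infer_instance }
  obtain ⟨he, -⟩ := euler_eq_add k X hdim.le _ L hO hL s hs0
  have hdeg : Curv2.deg k X L 1 = (Module.finrank k (Coh.HH X (cokernel s) 0) : ℤ) := by
    unfold Curv2.deg
    rw [he]
    push_cast
    ring
  have hle := hh₂_le k S hS hcO hcL hcQ 0
  unfold hh at hle
  have hle' : Module.finrank k (Coh.HH X L 0) ≤
      Module.finrank k (Coh.HH X (Coh.structureModule X) 0) +
        Module.finrank k (Coh.HH X (cokernel s) 0) := hle
  refine ⟨by rw [hdeg]; rw [h0] at hle'; exact_mod_cast (by omega), fun heq hpos => ?_⟩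
  refine genus_eq_zero_of_surjective k X hdim hL hpos s hs0 ?_
  haveI := finite_HH k X _ hcO 0
  haveI := finite_HH k X _ hcL 0
  haveI := finite_HH k X _ hcQ 0
  let f : Coh.HH X (Coh.structureModule X) 0 →ₗ[k] Coh.HH X L 0 := Canon.HHlin k S.f 0
  let g : Coh.HH X L 0 →ₗ[k] Coh.HH X (cokernel s) 0 := Canon.HHlin k S.g 0
  have hfg : LinearMap.range f = LinearMap.ker g := range_eq_ker₂ S hS k 0
  have hinj : Function.Injective f := injective_zero S hS k
  have h1 := LinearMap.finrank_range_add_finrank_ker g
  have h2 : Module.finrank k (LinearMap.range f) =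
      Module.finrank k (Coh.HH X (Coh.structureModule X) 0) := LinearMap.finrank_range_of_inj hinj
  rw [← hfg, h2, h0] at h1
  have h3 : Module.finrank k (LinearMap.range g) = Module.finrank k (Coh.HH X (cokernel s) 0) := by
    rw [hdeg] at heq
    have : Module.finrank k (Coh.HH X L 0) = Module.finrank k (Coh.HH X (cokernel s) 0) + 1 := by
      exact_mod_cast heq
    omega
  have htop : LinearMap.range g = ⊤ := Submodule.eq_top_of_finrank_eq h3
  exact LinearMap.range_eq_top.1 htop

end Groth.Agent.S1564
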