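import Groth.Statements.S0043
import Groth.Agent.S0009
import Groth.Agent.Lib.Helper27.ExtFiltTop3
import Groth.Agent.Lib.Helper17.MV2
import Groth.Agent.Lib.Helper17.CohKer
import Groth.Agent.Lib.Helper17.Serre
import Groth.Agent.Lib.Helper17.GGDescent
import Groth.Agent.Lib.Helper17.HCompare
import Groth.Agent.Lib.Helper28.QCohGen
import Groth.Agent.Lib.Helper1.RestrExact
import Mathlib
set_option backward.isDefEq.respectTransparency.types false

set_option autoImplicit false
universe u
open Coherent

namespace Groth.Agent.S0043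
open AlgebraicGeometry CategoryTheory CategoryTheory.Limits Opposite TopologicalSpace Abelian

/-- a colimit of zero objects is zero -/
theorem isZero_pt_of_isColimit {C : Type*} [Category C] [HasZeroMorphisms C] {J : Type*} [Category J]
    {F : J ⥤ C} {c : Cocone F} (hc : IsColimit c) (h : ∀ j, IsZero (F.obj j)) : IsZero c.pt := by
  rw [IsZero.iff_id_eq_zero]
  apply hc.hom_ext
  intro j
  exact (h j).eq_of_src _ _

/-- an additive functor commuting with filtered colimits kills coproducts of objects it kills -/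
theorem isZero_obj_sigma {C D : Type*} [Category C] [Category D] [Abelian C] [Abelian D]
    (H : C ⥤ D) [H.Additive] {α : Type u} (f : α → C) [HasCoproduct f]
    [HasColimitsOfShape (Finset (Discrete α)) C]
    [PreservesColimit (CoproductsFromFiniteFiltered.liftToFinsetObj (Discrete.functor f)) H]
    (hf : ∀ a, IsZero (H.obj (f a))) : IsZero (H.obj (∐ f)) := by
  have hc := isColimitOfPreserves H (CoproductsFromFiniteFiltered.isColimitFiniteSubproductsCocone f)
  refine isZero_pt_of_isColimit hc ?_
  intro s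
  change IsZero (H.obj (∐ fun x : s => (Discrete.functor f).obj x))
  refine IsZero.of_iso ?_ (PreservesCoproduct.iso H (fun x : s => (Discrete.functor f).obj x))
  rw [IsZero.iff_id_eq_zero]
  apply Sigma.hom_ext
  intro x
  exact (hf x.1.as).eq_of_src _ _

/-- the functor `F ↦ H^q(U, F)` -/
noncomputable abbrev Hf (X : TopCat.{u}) (q : ℕ) (U : Opens X) : CohTop.Ab X ⥤ AddCommGrpCat.{u} :=
  (Sheaf.cohomologyPresheafFunctor (Opens.grothendieckTopology X) q).flip.obj (op U)

instance (X : TopCat.{u}) (q : ℕ) (U : Opens X) : (Hf X q U).Additive where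
  map_add {F G f g} := by
    exact (extFunctorObj ((yoneda ⋙ (Functor.whiskeringRight _ _ _).obj
      AddCommGrpCat.free ⋙ presheafToSheaf _ _).obj U) q).map_add

theorem isZero_Hf_free (X : Scheme.{u}) [CompactSpace X] [QuasiSeparatedSpace X] (q : ℕ)
    (h : IsZero ((Hf X.toTopCat q ⊤).obj ((SheafOfModules.toSheaf.{u} X.ringCatSheaf).obj
      (SheafOfModules.unit X.ringCatSheaf))))
    (I : Type u) :
    IsZero ((Hf X.toTopCat q ⊤).obj ((SheafOfModules.toSheaf.{u} X.ringCatSheaf).obj
      (SheafOfModules.free I))) := by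
  haveI : PreservesColimitsOfShape (Finset (Discrete I)) (SheafOfModules.toSheaf.{u} X.ringCatSheaf) :=
    Groth.Agent.Lib.Helper1.RestrExact.toSheaf_preservesColimitsOfShape _ _
  haveI : PreservesColimit (CoproductsFromFiniteFiltered.liftToFinsetObj
      (Discrete.functor (fun _ : I => SheafOfModules.unit X.ringCatSheaf)))
      (SheafOfModules.toSheaf.{u} X.ringCatSheaf ⋙ Hf X.toTopCat q ⊤) := by
    haveI : CompactSpace X.toTopCat := inferInstanceAs (CompactSpace X)
    haveI : QuasiSeparatedSpace X.toTopCat := inferInstanceAs (QuasiSeparatedSpace X)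
    haveI : PrespectralSpace X.toTopCat := inferInstanceAs (PrespectralSpace X)
    haveI := Groth.Agent.Lib.Helper27.ExtFilt.preservesColimit_of_isQuasiSeparated
      (X := X.toTopCat) ⊤ isCompact_univ isQuasiSeparated_univ q
      (CoproductsFromFiniteFiltered.liftToFinsetObj
        (Discrete.functor (fun _ : I => SheafOfModules.unit X.ringCatSheaf)) ⋙
        SheafOfModules.toSheaf.{u} X.ringCatSheaf)
    infer_instance
  exact isZero_obj_sigma (SheafOfModules.toSheaf.{u} X.ringCatSheaf ⋙ Hf X.toTopCat q ⊤)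
    (fun _ : I => SheafOfModules.unit X.ringCatSheaf) (fun _ => h)

/-- vanishing of `Ext` propagates along a short exact sequence (dimension shifting) -/
theorem subsingleton_ext_X₃ {C : Type*} [Category C] [Abelian C] [HasExt C]
    (A : C) (S : ShortComplex C) (hS : S.ShortExact) (n : ℕ)
    (h₂ : Subsingleton (Ext A S.X₂ n)) (h₁ : Subsingleton (Ext A S.X₁ (n + 1))) :
    Subsingleton (Ext A S.X₃ n) := by
  refine ⟨fun x y => ?_⟩
  obtain ⟨x₂, hx₂⟩ := Ext.covariant_sequence_exact₃ A hS x (rfl : n + 1 = n + 1) (h₁.elim _ _)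
  obtain ⟨y₂, hy₂⟩ := Ext.covariant_sequence_exact₃ A hS y (rfl : n + 1 = n + 1) (h₁.elim _ _)
  rw [← hx₂, ← hy₂, h₂.elim x₂ y₂]

/-- the property: quasi-coherent cohomology vanishes in degrees `≥ d` -/
def P (X : Scheme.{u}) (d : ℕ) : Prop :=
  ∀ (M : X.Modules), M.IsQuasicoherent → ∀ p : ℕ, d ≤ p →
    Subsingleton (CohTop.HU (X := X.toTopCat) ((SheafOfModules.toSheaf.{u} X.ringCatSheaf).obj M) p ⊤)

theorem P_step (X : Scheme.{u}) [X.IsQuasiAffine]
    (h : ∀ p : ℕ, 0 < p → ∀ I : Type u, Subsingleton (CohTop.HU (X := X.toTopCat)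
      ((SheafOfModules.toSheaf.{u} X.ringCatSheaf).obj (SheafOfModules.free I)) p ⊤))
    (d : ℕ) (hd : 0 < d) (hP : P X (d + 1)) : P X d := by
  intro F hF p hp
  haveI := hF
  haveI := Groth.Agent.Lib.Helper28.QCohLoc.epi_fromFree_of_isQuasiAffine F
  let φ := Groth.Agent.Lib.Helper28.QCohLoc.fromFree F
  let S : ShortComplex X.Modules := ShortComplex.mk (kernel.ι φ) φ (kernel.condition φ)
  have hS : S.ShortExact :=
    { exact := ShortComplex.exact_kernel φ
      mono_f := inferInstanceAs (Mono (kernel.ι φ))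
      epi_g := inferInstanceAs (Epi φ) }
  have hT := Groth.Agent.Lib.Helper17.Serre.shortExact_map_toSheaf' S hS
  have hK : (kernel φ).IsQuasicoherent := Groth.Agent.Lib.Helper17.CohKer.isQuasicoherent_kernel φ
  exact subsingleton_ext_X₃ _ _ hT p (h p (by omega) _) (hP _ hK (p + 1) (by omega))

theorem P_one (X : Scheme.{u}) [X.IsQuasiAffine]
    (h : ∀ p : ℕ, 0 < p → ∀ I : Type u, Subsingleton (CohTop.HU (X := X.toTopCat)
      ((SheafOfModules.toSheaf.{u} X.ringCatSheaf).obj (SheafOfModules.free I)) p ⊤)) : P X 1 := by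
  obtain ⟨d, hd⟩ := Groth.Agent.Lib.Helper17.MV.exists_vanishing_top (X := X)
  have key : ∀ k : ℕ, P X (k + 1) → P X 1 := by
    intro k
    induction k with
    | zero => exact id
    | succ k ih => exact fun hk => ih (P_step X h (k + 1) (by omega) hk)
  refine key d ?_
  intro M hM p hp
  exact hd M hM p (by omega)


open AlgebraicGeometry in
/-- If X is quasi-affine and H^p(X, O_X) = 0 for all p > 0, then X is affine. -/
theorem result (X : Scheme.{u}) [X.IsQuasiAffine]
    (h : ∀ p : ℕ, 0 < p → Subsingleton (Coh.HH X (Coh.structureModule X) p)) : IsAffine X := by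
  have h1 : ∀ p : ℕ, 0 < p → ∀ I : Type u, Subsingleton (CohTop.HU (X := X.toTopCat)
      ((SheafOfModules.toSheaf.{u} X.ringCatSheaf).obj (SheafOfModules.free I)) p ⊤) := by
    intro p hp I
    have h0 : Subsingleton (CohTop.HU (X := X.toTopCat)
        ((SheafOfModules.toSheaf.{u} X.ringCatSheaf).obj (SheafOfModules.unit X.ringCatSheaf)) p ⊤) :=
      @Equiv.subsingleton _ _ (Groth.Agent.Lib.Helper17.HCompare.topHEquiv (X := X.toTopCat)
        ((SheafOfModules.toSheaf.{u} X.ringCatSheaf).obj (SheafOfModules.unit X.ringCatSheaf)) p).symm.toEquiv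
        (h p hp)
    have hz := isZero_Hf_free X p (@AddCommGrpCat.isZero_of_subsingleton _ h0) I
    exact (AddCommGrpCat.subsingleton_of_isZero hz)
  have hP := P_one X h1
  refine Groth.Agent.S0009.result X (fun I i _ hI => ?_)
  exact @Equiv.subsingleton _ _ (Groth.Agent.Lib.Helper17.HCompare.topHEquiv (X := X.toTopCat)
        ((SheafOfModules.toSheaf.{u} X.ringCatSheaf).obj I) 1).toEquiv (hP I hI 1 le_rfl)

end Groth.Agent.S0043
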