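import Groth.Statements.S8880
import Groth.Agent.Lib.Helper4.PrimeAvoidOpen
import Mathlib
set_option backward.isDefEq.respectTransparency.types false

set_option autoImplicit false
universe u
open CategoryTheory CategoryTheory.Limits AlgebraicGeometry TopologicalSpace
open SDiv

namespace Groth.Agent.S8880

variable {X Y : Scheme.{u}} {π : X ⟶ Y} {d : ℕ}

/-- norm of a function vanishing at `x` vanishes at `π x` (basic-open form) -/
theorem not_mem_basicOpen_norm (N : Nrm.NormOfDegree π d) (U : Y.Opens) (t : Γ(X, π ⁻¹ᵁ U)) (x : X)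
    (hx : π.base x ∈ U) (hxt : x ∉ X.basicOpen t) : π.base x ∉ Y.basicOpen (N.norm U t) := by
  intro h
  have h1 : X.presheaf.germ (π ⁻¹ᵁ U) x hx t ∈ IsLocalRing.maximalIdeal (X.presheaf.stalk x) := by
    rw [IsLocalRing.mem_maximalIdeal, mem_nonunits_iff]
    intro hu
    exact hxt ((Scheme.mem_basicOpen _ t x hx).2 hu)
  have h2 := N.norm_mem U t x hx h1
  rw [IsLocalRing.mem_maximalIdeal, mem_nonunits_iff] at h2
  exact h2 ((Scheme.mem_basicOpen _ _ _ hx).1 h)

theorem surjective_of_norm [IsFinite π] (N : Nrm.NormOfDegree π d) : Function.Surjective π := by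
  intro y
  by_contra hy
  have hcl : IsClosed (Set.range π) := π.isClosedMap.isClosed_range
  let U : Y.Opens := ⟨(Set.range π)ᶜ, hcl.isOpen_compl⟩
  have hyU : y ∈ U := fun ⟨x, hx⟩ => hy ⟨x, hx⟩
  have hbot : π ⁻¹ᵁ U = ⊥ := by
    ext x
    simp only [Opens.coe_bot, Set.mem_empty_iff_false, iff_false]
    intro hx
    exact hx ⟨x, rfl⟩
  have h01 : (1 : Γ(X, π ⁻¹ᵁ U)) = 0 := by
    have : Subsingleton Γ(X, π ⁻¹ᵁ U) := by
      rw [hbot]
      infer_instance
    exact Subsingleton.elim _ _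
  have h1 : N.norm U 1 = 1 := map_one _
  have h2 : N.norm U (π.app U 0) = 0 ^ d := N.norm_app U 0
  rw [map_zero, zero_pow (by have := N.one_le; omega), ← h01, h1] at h2
  -- 1 = 0 in Γ(Y, U) but y ∈ U
  have h3 := congrArg (Y.presheaf.germ U y hyU) h2
  rw [map_one, map_zero] at h3
  exact one_ne_zero h3


/-- Let π : X ⟶ Y be a finite morphism of schemes such that a norm of degree d exists for π, and assume
X is quasi-affine. Then Y is quasi-affine. -/
theorem result {X Y : Scheme.{u}} (π : X ⟶ Y) [IsFinite π] (d : ℕ) (hN : Nrm.HasNorm π d)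
    (hX : X.IsQuasiAffine) : Y.IsQuasiAffine := by
  obtain ⟨N⟩ := hN
  have hsurj : Function.Surjective π := surjective_of_norm N
  haveI : CompactSpace Y := by
    constructor
    have h := (isCompact_univ (X := X)).image π.continuous
    rwa [Set.image_univ, hsurj.range_eq] at h
  refine Scheme.IsQuasiAffine.of_forall_exists_mem_basicOpen Y fun y => ?_
  obtain ⟨V, hV, hyV⟩ : ∃ V : Y.Opens, IsAffineOpen V ∧ y ∈ V := by
    obtain ⟨_, ⟨V, hV, rfl⟩, hyV, -⟩ := Y.isBasis_affineOpens.exists_subset_of_mem_open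
      (Set.mem_univ y) isOpen_univ
    exact ⟨V, hV, hyV⟩
  -- choose s
  obtain ⟨s, hs1, hs2⟩ : ∃ s : Γ(X, ⊤), π ⁻¹' {y} ⊆ X.basicOpen s ∧ X.basicOpen s ≤ π ⁻¹ᵁ V := by
    classical
    have hfin : (π ⁻¹' {y}).Finite := Scheme.Hom.finite_preimage_singleton π y
    obtain ⟨P, hP⟩ := (hfin.image X.toSpecΓ).exists_finset_coe
    have hPm : ∀ p, p ∈ P ↔ p ∈ X.toSpecΓ '' (π ⁻¹' {y}) := fun p => by
      rw [← hP]; rfl
    obtain ⟨g, hg1, hg2⟩ := Groth.Agent.Lib.Helper4.PrimeAvoidOpen.spec_version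
      (X.toSpecΓ ''ᵁ (π ⁻¹ᵁ V)) P (by
        intro p hp
        replace hp := (hPm p).1 hp
        obtain ⟨x, hx, rfl⟩ := hp
        refine ⟨x, ?_, rfl⟩
        change π x ∈ V
        rw [show π x = y from hx]
        exact hyV)
    refine ⟨g, ?_, ?_⟩
    · intro x hx
      rw [← Scheme.toSpecΓ_preimage_basicOpen]
      change g ∉ (X.toSpecΓ x).asIdeal
      exact hg1 _ ((hPm _).2 ⟨x, hx, rfl⟩)
    · rw [← Scheme.toSpecΓ_preimage_basicOpen]
      intro x hx
      have h1 : X.toSpecΓ x ∈ X.toSpecΓ ''ᵁ (π ⁻¹ᵁ V) := hg2 hx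
      obtain ⟨x', hx', he⟩ := h1
      rw [← X.toSpecΓ.isEmbedding.injective he]
      exact hx'
  let g : Γ(Y, ⊤) := N.norm ⊤ s
  have hgV : Y.basicOpen g ≤ V := by
    intro y' hy'
    obtain ⟨x', rfl⟩ := hsurj y'
    by_contra hnot
    have hx's : x' ∉ X.basicOpen s := fun h => hnot (hs2 h)
    exact not_mem_basicOpen_norm N ⊤ s x' trivial hx's hy'
  have hyg : y ∈ Y.basicOpen g := by
    let Z : Set X := (X.basicOpen s : Set X)ᶜ
    have hZ : IsClosed Z := (X.basicOpen s).isOpen.isClosed_compl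
    have hπZ : IsClosed (π '' Z) := π.isClosedMap _ hZ
    let U' : Y.Opens := ⟨(π '' Z)ᶜ, hπZ.isOpen_compl⟩
    have hyU' : y ∈ U' := by
      rintro ⟨x, hxZ, hxy⟩
      exact hxZ (hs1 hxy)
    have hle : π ⁻¹ᵁ U' ≤ X.basicOpen s := by
      intro x hx
      by_contra hxs
      exact hx ⟨x, hxs, rfl⟩
    have hunit : IsUnit (X.presheaf.map (homOfLE (le_top : π ⁻¹ᵁ U' ≤ π ⁻¹ᵁ ⊤)).op s) := by
      have h1 : IsUnit (X.presheaf.map (homOfLE (X.basicOpen_le s)).op s) :=
        X.toRingedSpace.isUnit_res_basicOpen s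
      have h2 := h1.map (X.presheaf.map (homOfLE hle).op).hom
      rw [← CommRingCat.comp_apply, ← X.presheaf.map_comp] at h2
      exact h2
    have hres := N.norm_res (homOfLE (le_top : U' ≤ ⊤)) s
    have hu2 : IsUnit (Y.presheaf.map (homOfLE (le_top : U' ≤ ⊤)).op g) := by
      rw [hres]
      exact hunit.map (N.norm U')
    have h3 := Y.basicOpen_of_isUnit hu2
    rw [Scheme.basicOpen_res] at h3
    have : y ∈ U' ⊓ Y.basicOpen g := by rw [h3]; exact hyU'
    exact this.2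
  refine ⟨g, ?_, hyg⟩
  have h4 : Y.basicOpen (Y.presheaf.map (homOfLE (le_top : V ≤ ⊤)).op g) = Y.basicOpen g := by
    rw [Scheme.basicOpen_res]
    exact inf_eq_right.2 hgV
  rw [← h4]
  exact hV.basicOpen _

end Groth.Agent.S8880
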