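import Groth.Statements.S8292
import Groth.Agent.Lib.Helper28.RelProj
import Groth.Agent.Lib.Helper28.ProjQ

set_option autoImplicit false
universe u
open CategoryTheory CategoryTheory.Limits AlgebraicGeometry Opposite TopologicalSpace
open scoped HomogeneousIdeal
noncomputable section
open EGA2

namespace Groth.Agent.S8292

open Groth.Agent.Lib.Helper28

theorem hju_app {Y : Scheme.{u}} (𝒮 𝒯 : RelProj.QCGrAlg Y) (M : Y.Modules)
    (u : M ⟶ 𝒮.toModule) (j : M ⟶ 𝒯.toModule)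
    (ubar : 𝒯.toQCAlg ⟶ 𝒮.toQCAlg)
    (hju : j ≫ RelSpec.QCAlg.Hom.toModuleMap ubar = u) (U : Y.Opens) (x : Γ(M, U)) :
    (ubar.hom.app (op U)).hom ((j.app U) x) = (u.app U) x := by
  rw [← hju]
  rfl

section alg
variable {A B : Type u} [CommRing A] [CommRing B] (𝒜 : ℕ → AddSubgroup A) (ℬ : ℕ → AddSubgroup B)
  [GradedRing 𝒜] [GradedRing ℬ] (φ : ℬ →+*ᵍ 𝒜)

/-- the image of the degree `k` part -/
def R (k : ℕ) : AddSubgroup A := (ℬ k).map (φ : B →+* A).toAddMonoidHom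

variable {𝒜 ℬ φ}

theorem mem_R {k : ℕ} {y : A} : y ∈ R 𝒜 ℬ φ k ↔ ∃ x ∈ ℬ k, φ x = y := by
  unfold R
  rw [AddSubgroup.mem_map]
  rfl

theorem R_mul {a b : ℕ} {x y : A} (hx : x ∈ R 𝒜 ℬ φ a) (hy : y ∈ R 𝒜 ℬ φ b) :
    x * y ∈ R 𝒜 ℬ φ (a + b) := by
  obtain ⟨x', hx', rfl⟩ := mem_R.1 hx
  obtain ⟨y', hy', rfl⟩ := mem_R.1 hy
  exact mem_R.2 ⟨x' * y', SetLike.mul_mem_graded hx' hy', map_mul φ x' y'⟩

variable (𝒜 ℬ φ) in
/-- the property carried through the closure induction -/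
def Pr (x : A) : Prop :=
  ∀ k, 1 ≤ k → ∀ s ∈ 𝒜 0, s * (DirectSum.decompose 𝒜 x k : A) ∈ R 𝒜 ℬ φ k

theorem Pr_mul {x y : A} (hx : Pr 𝒜 ℬ φ x) (hy : Pr 𝒜 ℬ φ y) : Pr 𝒜 ℬ φ (x * y) := by
  classical
  intro k hk s hs
  rw [DirectSum.decompose_mul, DirectSum.coe_mul_apply, Finset.mul_sum]
  refine AddSubgroup.sum_mem _ fun ij hij => ?_
  obtain ⟨a, b⟩ := ij
  rw [Finset.mem_filter] at hij
  have hab : a + b = k := hij.2
  change s * ((DirectSum.decompose 𝒜 x a : A) * (DirectSum.decompose 𝒜 y b : A)) ∈ _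
  by_cases ha : a = 0
  · subst ha
    have hb : b = k := by omega
    subst hb
    have h0 : s * (DirectSum.decompose 𝒜 x 0 : A) ∈ 𝒜 0 := by
      have := SetLike.mul_mem_graded (A := 𝒜) hs (SetLike.coe_mem (DirectSum.decompose 𝒜 x 0))
      simpa using this
    rw [← mul_assoc]
    exact hy b hk _ h0
  · have ha' : 1 ≤ a := Nat.one_le_iff_ne_zero.2 ha
    by_cases hb : b = 0
    · subst hb
      have hak : a = k := by omega
      subst hak
      have h0 : s * (DirectSum.decompose 𝒜 y 0 : A) ∈ 𝒜 0 := by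
        have := SetLike.mul_mem_graded (A := 𝒜) hs (SetLike.coe_mem (DirectSum.decompose 𝒜 y 0))
        simpa using this
      have e : s * ((DirectSum.decompose 𝒜 x a : A) * (DirectSum.decompose 𝒜 y 0 : A)) =
          (s * (DirectSum.decompose 𝒜 y 0 : A)) * (DirectSum.decompose 𝒜 x a : A) := by ring
      rw [e]
      exact hx a hk _ h0
    · have hb' : 1 ≤ b := Nat.one_le_iff_ne_zero.2 hb
      have h1 := hx a ha' s hs
      have h2 := hy b hb' 1 (SetLike.GradedOne.one_mem)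
      rw [one_mul] at h2
      rw [← mul_assoc, ← hab]
      exact R_mul h1 h2

theorem surj_pos
    (hgen : Subring.closure ((𝒜 0 : Set A) ∪ (𝒜 1 : Set A)) = ⊤)
    (h1 : ∀ s ∈ 𝒜 1, ∃ x ∈ ℬ 1, φ x = s) :
    ∀ k, 1 ≤ k → ∀ y ∈ 𝒜 k, ∃ x ∈ ℬ k, φ x = y := by
  classical
  have key : ∀ x : A, Pr 𝒜 ℬ φ x := by
    intro x
    have hx : x ∈ Subring.closure ((𝒜 0 : Set A) ∪ (𝒜 1 : Set A)) := by rw [hgen]; trivial
    induction hx using Subring.closure_induction with
    | mem x hx =>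
      intro k hk s hs
      rcases hx with hx | hx
      · rw [DirectSum.decompose_of_mem_ne 𝒜 hx (by omega : 0 ≠ k), mul_zero]
        exact zero_mem _
      · by_cases hk1 : k = 1
        · subst hk1
          rw [DirectSum.decompose_of_mem_same 𝒜 hx]
          have hsx : s * x ∈ 𝒜 1 := by
            have := SetLike.mul_mem_graded (A := 𝒜) hs hx
            simpa using this
          exact mem_R.2 (h1 _ hsx)
        · rw [DirectSum.decompose_of_mem_ne 𝒜 hx (Ne.symm hk1), mul_zero]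
          exact zero_mem _
    | zero =>
      intro k hk s hs
      rw [DirectSum.decompose_zero]
      simp only [DirectSum.zero_apply, ZeroMemClass.coe_zero, mul_zero]
      exact zero_mem _
    | one =>
      intro k hk s hs
      rw [DirectSum.decompose_of_mem_ne 𝒜 (SetLike.GradedOne.one_mem) (by omega : 0 ≠ k), mul_zero]
      exact zero_mem _
    | add x y _ _ hx hy =>
      intro k hk s hs
      rw [DirectSum.decompose_add]
      simp only [DirectSum.add_apply, AddMemClass.coe_add, mul_add]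
      exact add_mem (hx k hk s hs) (hy k hk s hs)
    | neg x _ hx =>
      intro k hk s hs
      have e : (DirectSum.decompose 𝒜 (-x) k : A) = -(DirectSum.decompose 𝒜 x k : A) := by
        rw [DirectSum.decompose_neg]; rfl
      rw [e, mul_neg]
      exact neg_mem (hx k hk s hs)
    | mul x y _ _ hx hy => exact Pr_mul hx hy
  intro k hk y hy
  have := key y k hk 1 (SetLike.GradedOne.one_mem)
  rw [one_mul, DirectSum.decompose_of_mem_same 𝒜 hy] at this
  exact mem_R.1 this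

end alg



/-- Let 𝒮 be a quasi-coherent positively graded O_Y-algebra generated by 𝒮_1, M a quasi-coherent
O_Y-module and u : M → 𝒮_1 a surjective module map; let ū : Sym(M) → 𝒮 be the graded algebra
homomorphism extending u. Then the morphism Proj(𝒮) → P(M) = Proj(Sym(M)) induced by ū is a closed
immersion. -/
theorem result {Y PT PS : Scheme.{u}} (𝒮 𝒯 : RelProj.QCGrAlg Y)
    (hgen : 𝒮.IsGenDegOne) (M : Y.Modules) (hM : Coh.IsQCoh M)
    (u : M ⟶ 𝒮.toModule)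
    (hu1 : ∀ (U : Y.Opens) (hU : IsAffineOpen U) (x : Γ(M, U)), (u.app U) x ∈ 𝒮.deg U hU 1)
    (husurj : ∀ (U : Y.Opens) (hU : IsAffineOpen U) (s : 𝒮.presheaf.obj (op U)), s ∈ 𝒮.deg U hU 1 →
      ∃ x : Γ(M, U), (u.app U) x = s)
    (j : M ⟶ 𝒯.toModule) (hT : RelProj.IsGrSymAlg M 𝒯 j)
    (ubar : 𝒯.toQCAlg ⟶ 𝒮.toQCAlg) (hubar : RelProj.IsGradedHom ubar)
    (hju : j ≫ RelSpec.QCAlg.Hom.toModuleMap ubar = u)
    (hirr : ∀ (U : Y.Opens) (hU : IsAffineOpen U),
      (𝒮.deg U hU)₊ ≤ ((𝒯.deg U hU)₊).map (RelProj.gradedHomAt ubar hubar U hU))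
    (pT : PT ⟶ Y) (pS : PS ⟶ Y)
    (chartT : ∀ (U : Y.Opens) (hU : IsAffineOpen U), (((pT ⁻¹ᵁ U : PT.Opens) : Scheme.{u}) ≅ Proj (𝒯.deg U hU)))
    (chartS : ∀ (U : Y.Opens) (hU : IsAffineOpen U), (((pS ⁻¹ᵁ U : PS.Opens) : Scheme.{u}) ≅ Proj (𝒮.deg U hU)))
    (hPT : RelProj.IsRelProj 𝒯 pT chartT) (hPS : RelProj.IsRelProj 𝒮 pS chartS)
    (h : PS ⟶ PT) (hh : RelProj.IsRelProjMap ubar hubar hirr chartT chartS h) : IsClosedImmersion h := by
  refine RelProj.of_chartwise ubar hubar hirr chartT chartS hPT hPS h hh @IsClosedImmersion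
    fun U hU => ?_
  have hTN : ProjQ.TNSurj (RelProj.gradedHomAt ubar hubar U hU) := by
    refine ⟨1, surj_pos (𝒜 := 𝒮.deg U hU) (ℬ := 𝒯.deg U hU)
      (φ := RelProj.gradedHomAt ubar hubar U hU) (hgen U hU) ?_⟩
    intro s hs
    obtain ⟨x, hx⟩ := husurj U hU s hs
    exact ⟨(j.app U) x, hT.2 U hU x, (hju_app 𝒮 𝒯 M u j ubar hju U x).trans hx⟩
  exact ProjMap.of_away _ (hirr U hU) @IsClosedImmersion fun i hi s hs =>
    IsClosedImmersion.spec_of_surjective _ (ProjQ.away_map_surjective_of_tnSurj _ hTN hi hs)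

end Groth.Agent.S8292
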