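import Groth.Statements.S0032
import Groth.Agent.Lib.Helper2.RpushQC6
import Groth.Agent.Lib.Helper6.CohTopLerayBase
import Groth.Agent.Lib.Helper17.AffineVanish

set_option autoImplicit false
universe u
open Coherent

namespace Groth.Agent.S0032

open AlgebraicGeometry CategoryTheory Opposite in
/-- Let f : X → S be quasi-compact and quasi-separated with S affine, and F quasi-coherent on X. Then
H^q(X, F) is isomorphic to the global sections of R^q f_* F (higher direct image of the underlying
abelian sheaf), for every q. -/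
theorem result {X S : Scheme.{u}} (f : X ⟶ S)
    [QuasiCompact f] [QuasiSeparated f] [IsAffine S] (M : X.Modules) [Coh.IsQCoh M] (q : ℕ) :
    Nonempty (Coh.HH X M q ≃+ ↑(((Coh.RpushAb f q).obj (Coh.toAb M)).obj.obj (op ⊤))) := by
  haveI : M.IsQuasicoherent := ‹Coh.IsQCoh M›
  refine Groth.Agent.Lib.Helper6.CohTopLerayBase.nonempty_H_addEquiv_sections f.base (Coh.toAb M)
    (fun p q' => ?_) q
  obtain ⟨e⟩ := Groth.Agent.S11319.result f M q'
  haveI : ((Coh.Rpush f q').obj M).IsQuasicoherent :=
    Groth.Agent.Lib.Helper2.RpushQC6.isQuasicoherent_Rpush f M q'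
  have h1 := Groth.Agent.Lib.Helper17.AffineVanish.subsingleton_H_of_isAffine
    ((Coh.Rpush f q').obj M) p
  refine ⟨fun x y => ?_⟩
  have hx : ∀ z : CohTop.H ((CohTop.Rpush f.base q').obj (Coh.toAb M)) (p + 1),
      z = Sheaf.H.map e.hom (p + 1) (Sheaf.H.map e.inv (p + 1) z) := by
    intro z
    rw [← Sheaf.H.map_comp_apply, e.inv_hom_id, Sheaf.H.map_id_apply]
  rw [hx x, hx y]
  congr 1
  exact h1.elim _ _

end Groth.Agent.S0032
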