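import Groth.Statements.S8355
import Mathlib.Tactic

set_option autoImplicit false
universe v u
open CategoryTheory CategoryTheory.Limits
open SpSeq

namespace Groth.Agent.S8355

section aux

variable {C : Type u} [Category.{v} C] [Abelian C] {r₀ : ℤ}

/-- one step up: zero on page `k` gives zero on page `k+1`. -/
theorem up_one (E : CohomologicalSpectralSequence C r₀) (pq : ℤ × ℤ) (k : ℤ) (hk : r₀ ≤ k)
    (h : IsZero ((E.page k hk).X pq)) : IsZero ((E.page (k + 1) (by lia)).X pq) := by
  have h1 : IsZero ((E.page k hk).homology pq) :=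
    ShortComplex.isZero_homology_of_isZero_X₂ _ h
  exact h1.of_iso (E.iso k (k + 1) pq rfl hk).symm

/-- upward propagation. -/
theorem up (E : CohomologicalSpectralSequence C r₀) (pq : ℤ × ℤ) (r : ℤ) (hr : r₀ ≤ r)
    (h : IsZero ((E.page r hr).X pq)) :
    ∀ (n : ℕ) (k : ℤ) (hk : r₀ ≤ k), k = r + n → IsZero ((E.page k hk).X pq) := by
  intro n
  induction n with
  | zero =>
    intro k hk hkn
    have : k = r := by simpa using hkn
    subst this
    exact h
  | succ n ih =>
    intro k hk hkn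
    have h1 := ih (r + n) (by lia) rfl
    have h2 := up_one E pq (r + n) (by lia) h1
    have : k = r + n + 1 := by rw [hkn]; push_cast; ring
    subst this
    exact h2

/-- one step down at a position whose differentials vanish. -/
theorem down_one (E : CohomologicalSpectralSequence C r₀) (pq : ℤ × ℤ) (k : ℤ) (hk : r₀ ≤ k)
    (h₁ : (E.page k hk).d (pq - (k, 1 - k)) pq = 0) (h₂ : (E.page k hk).d pq (pq + (k, 1 - k)) = 0)
    (h : IsZero ((E.page (k + 1) (by lia)).X pq)) : IsZero ((E.page k hk).X pq) := by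
  have h1 : IsZero ((E.page k hk).homology pq) := h.of_iso (E.iso k (k + 1) pq rfl hk)
  have hex : ((E.page k hk).sc pq).Exact := by
    rw [ShortComplex.exact_iff_isZero_homology]
    exact h1
  have hf : ((E.page k hk).sc pq).f = 0 := by
    change (E.page k hk).d _ pq = 0
    rw [(ComplexShape.up' ((k, 1 - k) : ℤ × ℤ)).prev_eq' (sub_add_cancel pq ((k, 1 - k) : ℤ × ℤ))]
    exact h₁
  have hg : ((E.page k hk).sc pq).g = 0 := by
    change (E.page k hk).d pq _ = 0
    rw [(ComplexShape.up' ((k, 1 - k) : ℤ × ℤ)).next_eq' rfl]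
    exact h₂
  have hmono : Mono ((E.page k hk).sc pq).g := hex.mono_g hf
  exact @IsZero.of_mono_eq_zero _ _ _ _ _ _ hmono hg

theorem down (E : CohomologicalSpectralSequence C r₀) (pq : ℤ × ℤ) (s : ℤ)
    (hs : SpSeq.StationaryAt E pq s) :
    ∀ (n : ℕ) (k m : ℤ) (hsk : s ≤ k) (hm : m = k + n) (h0k : r₀ ≤ k) (h0m : r₀ ≤ m),
      IsZero ((E.page m h0m).X pq) → IsZero ((E.page k h0k).X pq) := by
  intro n
  induction n with
  | zero =>
    intro k m hsk hm h0k h0m h
    have : m = k := by simpa using hm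
    subst this
    exact h
  | succ n ih =>
    intro k m hsk hm h0k h0m h
    have h1 : IsZero ((E.page (k + 1) (by lia)).X pq) :=
      ih (k + 1) m (by lia) (by rw [hm]; push_cast; ring) (by lia) h0m h
    obtain ⟨hd1, hd2⟩ := hs.2 k h0k hsk
    exact down_one E pq k h0k hd1 hd2 h1

end aux

/-- Let E be a spectral sequence in an abelian category and suppose E_r^{p,q} = 0. Then E_k^{p,q} = 0
for every k ≥ r, and E_∞^{p,q} = 0: for any abutment data (H^n) of E, the graded piece gr^p H^{p+q},
identified by the abutment with the limit term at (p, q), is zero. -/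
theorem result {C : Type u} [Category.{v} C] [Abelian C] {r₀ : ℤ}
    (E : CohomologicalSpectralSequence C r₀) (r : ℤ) (hr : r₀ ≤ r) (pq : ℤ × ℤ)
    (h : IsZero ((E.page r hr).X pq)) :
    (∀ (k : ℤ) (hk : r ≤ k), IsZero ((E.page k (hr.trans hk)).X pq)) ∧
      ∀ (H : ℤ → C) (a : SpSeq.Abutment E H),
        IsZero (SpSeq.grPiece (a.fil (pq.1 + pq.2)) (a.anti (pq.1 + pq.2)) pq.1) := by
  have hup : ∀ (k : ℤ) (hk : r ≤ k), IsZero ((E.page k (hr.trans hk)).X pq) := by
    intro k hk
    obtain ⟨n, hn⟩ := Int.eq_ofNat_of_zero_le (sub_nonneg.mpr hk)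
    exact up E pq r hr h n k (hr.trans hk) (by lia)
  refine ⟨hup, ?_⟩
  intro H a
  refine IsZero.of_iso ?_ (a.β pq).symm
  by_cases hrk : r ≤ a.rk pq
  · exact hup (a.rk pq) hrk
  · have hle : a.rk pq ≤ r := by lia
    obtain ⟨n, hn⟩ := Int.eq_ofNat_of_zero_le (sub_nonneg.mpr hle)
    exact down E pq (a.rk pq) (a.stat pq) n (a.rk pq) r le_rfl (by lia) (a.stat pq).1 hr h

end Groth.Agent.S8355
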