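import Groth.Statements.S5489
import Mathlib.LinearAlgebra.RootSystem.Finite.Lemmas
-- import your own Groth.Agent.* helpers here

set_option autoImplicit false
open RootD

namespace Groth.Agent.S5489

/-- If a root α, distinct from roots α_1, ..., α_n, is a non-negative rational combination of them, then
some α_l with non-zero coefficient has (α^v, α_l) > 0 and α - α_l a root. -/
theorem result {ι M N : Type*} [AddCommGroup M] [AddCommGroup N]
    (P : RootPairing ι ℤ M N) [Finite ι] {n : ℕ} (a : Fin n → ι) (m : Fin n → ℕ)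
    (k : ι) (hne : ∀ l, a l ≠ k) (c : ℕ) (hc : 0 < c) (hk : c • P.root k = ∑ l, m l • P.root (a l)) :
    ∃ l : Fin n, m l ≠ 0 ∧ 0 < P.pairing (a l) k ∧ P.root k - P.root (a l) ∈ Set.range P.root := by
  classical
  have hpI : ∀ i j, P.pairingIn ℤ i j = P.pairing i j := fun i j => by
    simpa using P.algebraMap_pairingIn ℤ i j
  have h1 : (c : ℤ) * 2 = ∑ l, (m l : ℤ) * P.pairing (a l) k := by
    have := congrArg (P.coroot' k) hk
    simpa [map_sum, map_nsmul] using this
  have h2 : ∃ l, 0 < (m l : ℤ) * P.pairing (a l) k := by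
    by_contra hcon
    push Not at hcon
    have : ∑ l, (m l : ℤ) * P.pairing (a l) k ≤ 0 := Finset.sum_nonpos fun l _ => hcon l
    have hc' : (0 : ℤ) < c := by exact_mod_cast hc
    omega
  obtain ⟨l, hl⟩ := h2
  have hml : m l ≠ 0 := by
    rintro h0
    simp [h0] at hl
  have hpos : 0 < P.pairing (a l) k := by
    have hm : (0 : ℤ) ≤ m l := by positivity
    by_contra hneg
    push Not at hneg
    have := mul_nonpos_of_nonneg_of_nonpos hm hneg
    omega
  refine ⟨l, hml, hpos, ?_⟩
  have hset := P.pairingIn_pairingIn_mem_set_of_isCrystallographic k (a l)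
  have hpos' : 0 < P.pairingIn ℤ k (a l) := by
    rw [← hpI] at hpos
    simp only [Set.mem_insert_iff, Set.mem_singleton_iff, Prod.mk.injEq] at hset
    omega
  exact P.root_sub_root_mem_of_pairingIn_pos hpos' (hne l).symm

end Groth.Agent.S5489
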