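import Groth.Statements.S5498
import Groth.Agent.S5487
import Mathlib.LinearAlgebra.RootSystem.Finite.Lemmas

set_option autoImplicit false
open RootD

namespace Groth.Agent.S5498

variable {ι M N : Type*} [AddCommGroup M] [AddCommGroup N] (P : RootPairing ι ℤ M N)

/-- linked by a chain of pairwise non-orthogonal roots -/
def Linked (i j : ι) : Prop := Relation.ReflTransGen (fun a b => P.pairing a b ≠ 0) i j

lemma pairing_ne_zero_symm {a b : ι} [Finite ι] (h : P.pairing a b ≠ 0) : P.pairing b a ≠ 0 :=
  fun h0 => h (P.pairing_eq_zero_iff'.mp h0)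

lemma linked_symm [Finite ι] {i j : ι} (h : Linked P i j) : Linked P j i := by
  induction h with
  | refl => exact Relation.ReflTransGen.refl
  | tail _ hbc ih => exact Relation.ReflTransGen.head (pairing_ne_zero_symm P hbc) ih

lemma pairing_add {i j k : ι} (h : P.root k = P.root i + P.root j) :
    P.pairing i k + P.pairing j k = 2 := by
  have := P.pairing_same k
  rw [← this]
  simp only [RootPairing.pairing, RootPairing.root', h, map_add, LinearMap.add_apply]

lemma pairing_neg_self (i : ι) : P.pairing i (P.reflectionPerm i i) ≠ 0 := by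
  rw [P.pairing_reflectionPerm_self_right, P.pairing_same]; norm_num

lemma linked_univ [Finite ι]
    (hirr : ∀ R' : Set ι, RootD.IsClosedSub P R' → RootD.IsSymmSub P R' → RootD.IsClosedSub P R'ᶜ →
      RootD.IsSymmSub P R'ᶜ → R' = ∅ ∨ R' = Set.univ) (i j : ι) : Linked P i j := by
  have key : ∀ {a b k : ι}, P.root k = P.root a + P.root b →
      (Linked P i a ∧ Linked P i b → Linked P i k) ∧ (Linked P i k → Linked P i a ∨ Linked P i b) := by
    intro a b k h
    have h2 := pairing_add P h
    have hne : P.pairing a k ≠ 0 ∨ P.pairing b k ≠ 0 := by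
      by_contra hcon
      push Not at hcon
      rw [hcon.1, hcon.2] at h2
      omega
    refine ⟨fun ⟨ha, hb⟩ => ?_, fun hk => ?_⟩
    · rcases hne with h' | h'
      · exact Relation.ReflTransGen.tail ha h'
      · exact Relation.ReflTransGen.tail hb h'
    · rcases hne with h' | h'
      · exact Or.inl (Relation.ReflTransGen.tail hk (pairing_ne_zero_symm P h'))
      · exact Or.inr (Relation.ReflTransGen.tail hk (pairing_ne_zero_symm P h'))
  have c1 : RootD.IsClosedSub P {j | Linked P i j} := by
    intro a b k ha hb h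
    exact (key h).1 ⟨ha, hb⟩
  have c2 : RootD.IsSymmSub P {j | Linked P i j} := by
    intro a ha
    exact Relation.ReflTransGen.tail ha (pairing_neg_self P a)
  have c3 : RootD.IsClosedSub P {j | Linked P i j}ᶜ := by
    intro a b k ha hb h hk
    rcases (key h).2 hk with h' | h'
    · exact ha h'
    · exact hb h'
  have c4 : RootD.IsSymmSub P {j | Linked P i j}ᶜ := by
    intro a ha hk
    exact ha (Relation.ReflTransGen.tail hk (pairing_ne_zero_symm P (pairing_neg_self P a)))
  rcases hirr {j | Linked P i j} c1 c2 c3 c4 with h | h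
  · exact absurd (show i ∈ {j | Linked P i j} from Relation.ReflTransGen.refl) (by rw [h]; simp)
  · have : j ∈ {j | Linked P i j} := by rw [h]; trivial
    exact this

lemma exists_boundary {r : ι → ι → Prop} {S : Set ι} {a b : ι} (h : Relation.ReflTransGen r a b)
    (ha : a ∈ S) (hb : b ∉ S) : ∃ a' b', a' ∈ S ∧ b' ∉ S ∧ r a' b' := by
  induction h with
  | refl => exact absurd ha hb
  | @tail c d hac hcd ih =>
    by_cases hc : c ∈ S
    · exact ⟨c, d, hc, hb, hcd⟩
    · exact ih hc

lemma pairingIn_eq (Q : RootPairing ι ℤ M N) (i j : ι) : Q.pairingIn ℤ i j = Q.pairing i j := by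
  simpa using Q.algebraMap_pairingIn ℤ i j

/-- core step: no closed symmetric set with closed symmetric complement can separate
non-orthogonal roots. -/
lemma no_boundary [Finite ι] (Q : RootPairing ι ℤ M N) (R' : Set ι)
    (h1 : RootD.IsClosedSub Q R') (h2 : RootD.IsSymmSub Q R') (h3 : RootD.IsClosedSub Q R'ᶜ)
    (h4 : RootD.IsSymmSub Q R'ᶜ) {a b : ι} (ha : a ∈ R') (hb : b ∉ R')
    (hneg : Q.pairing a b < 0) : False := by
  have hne : Q.root a ≠ -Q.root b := by
    intro h
    have : Q.root a = Q.root (Q.reflectionPerm b b) := by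
      rw [Q.root_reflectionPerm, Q.reflection_apply_self, h]
    have hab := Q.root.injective this
    have := h4 hb
    rw [← hab] at this
    exact this ha
  obtain ⟨c, hc⟩ := Q.root_add_root_mem_of_pairingIn_neg (i := a) (j := b)
    (by rw [pairingIn_eq]; exact hneg) hne
  by_cases hcR : c ∈ R'
  · -- root b = root c + root (-a)
    have := h1 (i := c) (j := Q.reflectionPerm a a) (k := b) hcR (h2 ha)
      (by rw [Q.root_reflectionPerm, Q.reflection_apply_self, hc]; abel)
    exact hb this
  · have := h3 (i := c) (j := Q.reflectionPerm b b) (k := a) hcR (h4 hb)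
      (by rw [Q.root_reflectionPerm, Q.reflection_apply_self, hc]; abel)
    exact this ha


/-- If R is irreducible then so is the dual datum R^v, and long(α)·long(α^v) (equivalently ℓ(α) ℓ(α^v))
is constant on the roots. -/
theorem result {ι M N : Type*} [AddCommGroup M] [AddCommGroup N]
    (P : RootPairing ι ℤ M N) [Finite ι] [Fintype ι] [Nonempty ι]
    (hirr : ∀ R' : Set ι, RootD.IsClosedSub P R' → RootD.IsSymmSub P R' → RootD.IsClosedSub P R'ᶜ →
      RootD.IsSymmSub P R'ᶜ → R' = ∅ ∨ R' = Set.univ) :
    (∀ R' : Set ι, RootD.IsClosedSub P.flip R' → RootD.IsSymmSub P.flip R' → RootD.IsClosedSub P.flip R'ᶜ →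
      RootD.IsSymmSub P.flip R'ᶜ → R' = ∅ ∨ R' = Set.univ) ∧
    ∀ i j : ι, P.RootForm (P.root i) (P.root i) * P.CorootForm (P.coroot i) (P.coroot i) =
      P.RootForm (P.root j) (P.root j) * P.CorootForm (P.coroot j) (P.coroot j) := by
  refine ⟨?_, ?_⟩
  · intro R' h1 h2 h3 h4
    by_contra hcon
    push Not at hcon
    obtain ⟨a, ha⟩ := hcon.1
    obtain ⟨b, hb⟩ := (Set.ne_univ_iff_exists_notMem R').mp hcon.2
    obtain ⟨a', b', ha', hb', hr⟩ := exists_boundary (linked_univ P hirr a b) ha hb
    have hr' : P.flip.pairing a' b' ≠ 0 := by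
      have := pairing_ne_zero_symm P hr
      simpa using this
    rcases lt_or_gt_of_ne hr' with hlt | hgt
    · exact no_boundary P.flip R' h1 h2 h3 h4 ha' hb' hlt
    · refine no_boundary P.flip R' h1 h2 h3 h4 ha' (h4 hb') ?_
      rw [P.flip.pairing_reflectionPerm_self_right]
      linarith
  · intro i j
    have h := linked_univ P hirr i j
    induction h with
    | refl => rfl
    | @tail c d _ hcd ih =>
      rw [ih]
      exact Groth.Agent.S5487.result P c d (fun ho => hcd ho.1)


end Groth.Agent.S5498
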