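import Groth.Statements.S5448
import Mathlib
import Groth.Agent.Lib.Helper4.RootD

set_option autoImplicit false
open RootD

namespace Groth.Agent.S5448

/-- The elements of a system of simple roots (root-only sense) are indivisible, i.e. none of them is
twice a root. -/
theorem result {ι M N : Type*} [AddCommGroup M] [AddCommGroup N]
    (P : RootPairing ι ℤ M N) [Finite ι] (Δ : Set ι) (hΔ : RootD.IsSimpleSys P Δ)
    (i : ι) (hi : i ∈ Δ) : RootD.IsIndiv P i := by
  open Groth.Agent.Lib.Helper4.RD in
  intro j hj
  -- coefficient vectors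
  have h1 : lc P Δ ((2 : ℤ) • coef hΔ j) = P.root i := by
    rw [map_smul, lc_coef, hj]
  have h2 := coef_eq_of_lc_eq hΔ i _ h1
  rw [coef_simple hΔ ⟨i, hi⟩] at h2
  have h3 := DFunLike.congr_fun h2 ⟨i, hi⟩
  simp only [Finsupp.single_eq_same, Finsupp.smul_apply, smul_eq_mul] at h3
  omega

end Groth.Agent.S5448
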