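import Groth.Statements.S14503
import Mathlib
import Groth.Agent.Lib.Helper25.LatticeDist
-- import your own Groth.Agent.* helpers here

set_option autoImplicit false
set_option linter.unusedSectionVars false
set_option linter.style.haveILetI false
universe u
open IntTh

namespace Groth.Agent.S14503

open IntTh
open Groth.Agent.Lib.Helper25.LatticeDist

theorem ordFrac_eq (A : Type u) [CommRing A] [IsDomain A] [IsNoetherianRing A]
    [Ring.KrullDimLE 1 A] (K : Type u) [Field K] [Algebra A K] [IsFractionRing A K] (x : K) :
    CycAlg.ordFrac A K x = ordZ A x := by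
  unfold CycAlg.ordFrac ordZ
  rw [dif_pos ⟨inferInstance, inferInstance, inferInstance, inferInstance⟩]

section
variable (A : Type u) [CommRing A] (B : Type u) [CommRing B] [IsDomain B] [Algebra A B]
  (K L : Type u) [Field K] [Field L] [Algebra A K] [Algebra B L]
  [IsFractionRing B L] [Algebra K L] [Algebra A L] [IsScalarTower A B L] [IsScalarTower A K L]
  [FiniteDimensional K L]

/-- the inclusion `B → L` as an `A`-linear map -/
noncomputable def inc : B →ₗ[A] L := (IsScalarTower.toAlgHom A B L).toLinearMap

theorem inc_apply (x : B) : inc A B L x = algebraMap B L x := rfl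

theorem inc_injective : Function.Injective (inc A B L) :=
  IsFractionRing.injective B L

theorem span_range_inc : Submodule.span K (Set.range (inc A B L)) = ⊤ := by
  have hset : Set.range (inc A B L) = ((MonoidHom.mrange (algebraMap B L : B →* L) : Submonoid L) : Set L) := by
    ext x; simp [inc_apply]
  have h1 : (Algebra.adjoin K (Set.range (inc A B L))).toSubmodule =
      Submodule.span K (Set.range (inc A B L)) := by
    rw [Algebra.adjoin_eq_span, hset, Submonoid.closure_eq]
  rw [← h1, eq_top_iff]
  intro x _
  obtain ⟨b₁, b₂, hb₂, rfl⟩ := IsFractionRing.div_surjective (A := B) x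
  rw [Subalgebra.mem_toSubmodule, div_eq_mul_inv]
  have m1 : algebraMap B L b₁ ∈ Algebra.adjoin K (Set.range (inc A B L)) :=
    Algebra.subset_adjoin ⟨b₁, rfl⟩
  have m2 : algebraMap B L b₂ ∈ Algebra.adjoin K (Set.range (inc A B L)) :=
    Algebra.subset_adjoin ⟨b₂, rfl⟩
  refine Subalgebra.mul_mem _ m1 ?_
  have := Subalgebra.inv_mem_of_algebraic (A := Algebra.adjoin K (Set.range (inc A B L)))
    (x := ⟨_, m2⟩) (Algebra.IsAlgebraic.isAlgebraic _)
  exact this

end

/-- Let A ⊆ B be a module-finite extension of domains with A Noetherian local of Krull dimension one, K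
⊆ L their fraction fields, and r ∈ B nonzero. Then B/rB has finite length as an A-module and
length_A(B/rB) equals the order at the closed point of A of the norm N_{L/K}(r), i.e.
length_A(A/(a)) − length_A(A/(b)) for N_{L/K}(r) = a/b. -/
theorem result (A : Type u) [CommRing A] [IsDomain A]
    [IsNoetherianRing A] [IsLocalRing A] (hA : ringKrullDim A = 1) (B : Type u) [CommRing B]
    [IsDomain B] [Algebra A B] (hinj : Function.Injective (algebraMap A B)) [Module.Finite A B]
    (K L : Type u) [Field K] [Field L] [Algebra A K] [IsFractionRing A K] [Algebra B L]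
    [IsFractionRing B L] [Algebra K L] [Algebra A L] [IsScalarTower A B L] [IsScalarTower A K L]
    [FiniteDimensional K L] (r : B) (hr : r ≠ 0) :
    Module.length A (B ⧸ Ideal.span {r}) < ⊤ ∧
      ((Module.length A (B ⧸ Ideal.span {r})).toNat : ℤ) =
        CycAlg.ordFrac A K (Algebra.norm K (algebraMap B L r)) := by
  haveI : Ring.KrullDimLE 1 A := Ring.krullDimLE_iff.2 (by rw [hA]; exact le_refl _)
  set M : Submodule A L := LinearMap.range (inc A B L) with hMdef
  have hM : Submodule.IsLattice K M :=
    { fg := by
        rw [hMdef, LinearMap.range_eq_map]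
        exact (Module.Finite.fg_top).map _
      span_eq_top := by
        rw [hMdef, LinearMap.coe_range]
        exact span_range_inc A B K L }
  have hr' : algebraMap B L r ≠ 0 := by
    intro h0
    exact hr (IsFractionRing.injective B L (by rw [h0, map_zero]))
  -- multiplication by r as a linear equivalence
  let φ : L ≃ₗ[K] L := LinearEquiv.ofBijective (Algebra.lmul K L (algebraMap B L r))
    ⟨fun x y hxy => mul_left_cancel₀ hr' hxy, fun y => ⟨(algebraMap B L r)⁻¹ * y, by
      show algebraMap B L r * _ = y
      rw [← mul_assoc, mul_inv_cancel₀ hr', one_mul]⟩⟩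
  have hφ : φ.toLinearMap = Algebra.lmul K L (algebraMap B L r) := by
    ext x; rfl
  have hφM := isLattice_map φ M hM
  have hle : M.map (φ.toLinearMap.restrictScalars A) ≤ M := by
    rintro _ ⟨_, ⟨c, rfl⟩, rfl⟩
    refine ⟨r * c, ?_⟩
    show algebraMap B L (r * c) = algebraMap B L r * algebraMap B L c
    rw [map_mul]
  have hmain := chi_eq_ordZ_det hM φ
  unfold chi Groth.Agent.Lib.Helper25.LatticeDist.dist at hmain
  rw [inf_eq_right.2 hle, relLen_self] at hmain
  simp only [ENat.toNat_zero, Nat.cast_zero, sub_zero] at hmain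
  have hfin := relLen_ne_top (K := K) hφM hM
  -- the isomorphism of quotients
  have hiso : Module.length A (B ⧸ Ideal.span {r}) =
      relLen (M.map (φ.toLinearMap.restrictScalars A)) M := by
    unfold relLen
    rw [← (Submodule.Quotient.restrictScalarsEquiv A (Ideal.span {r})).length_eq]
    apply LinearEquiv.length_eq
    refine Submodule.Quotient.equiv _ _ (LinearEquiv.ofInjective (inc A B L) (inc_injective A B L)) ?_
    ext y
    constructor
    · rintro ⟨x, hx, rfl⟩
      obtain ⟨c, rfl⟩ := Ideal.mem_span_singleton'.1 hx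
      refine ⟨algebraMap B L c, ⟨c, rfl⟩, ?_⟩
      show algebraMap B L r * algebraMap B L c = algebraMap B L (c * r)
      rw [map_mul, mul_comm]
    · rintro ⟨_, ⟨c, rfl⟩, hzy⟩
      refine ⟨c * r, Ideal.mem_span_singleton'.2 ⟨c, rfl⟩, ?_⟩
      apply Subtype.ext
      show algebraMap B L (c * r) = (y : L)
      have hzy' : algebraMap B L r * algebraMap B L c = (y : L) := hzy
      rw [← hzy', map_mul, mul_comm]
  rw [hiso]
  refine ⟨hfin.lt_top, ?_⟩
  rw [ordFrac_eq, Algebra.norm_apply, ← hφ]
  exact hmain

end Groth.Agent.S14503
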