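import Groth.Statements.S6480
import Mathlib
import Groth.Agent.S0616
import Groth.Agent.Lib.Helper25.LatticeDist
-- import your own Groth.Agent.* helpers here

set_option autoImplicit false
set_option linter.unusedSectionVars false
set_option linter.style.haveILetI false
set_option linter.unusedVariables false
universe u
open CycAlg

namespace Groth.Agent.S6480

open CycAlg
open Pointwise
open Groth.Agent.Lib.Helper2.RelLength Groth.Agent.Lib.Helper2.LenAt
open Groth.Agent.Lib.Helper25.LatticeDist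

section Gen
variable {A : Type u} [CommRing A] [IsNoetherianRing A]

/-- a nonzerodivisor of `A` is regular on a module without embedded primes -/
theorem reg_of_ass {M : Type u} [AddCommGroup M] [Module A M]
    (hMemb : ∀ p ∈ associatedPrimes A M, p ∈ minimalPrimes A) (b : A)
    (hb : b ∈ nonZeroDivisors A) (m : M) (hm : b • m = 0) : m = 0 := by
  by_contra hne
  have hmem : b ∈ {r : A | ∃ x : M, x ≠ 0 ∧ r • x = 0} := ⟨m, hne, hm⟩
  rw [← biUnion_associatedPrimes_eq_zero_divisors A M] at hmem
  simp only [Set.mem_iUnion] at hmem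
  obtain ⟨p, hp, hbp⟩ := hmem
  exact Set.disjoint_left.1
    (Ideal.disjoint_nonZeroDivisors_of_mem_minimalPrimes (hMemb p hp)) hbp hb

theorem toNat_finset_sum {ι : Type*} (S : Finset ι) (f : ι → ℕ∞) (h : ∑ i ∈ S, f i ≠ ⊤) :
    (∑ i ∈ S, f i).toNat = ∑ i ∈ S, (f i).toNat := by
  classical
  induction S using Finset.induction_on with
  | empty => simp
  | insert i S hi ih =>
    rw [Finset.sum_insert hi] at h ⊢
    rw [Finset.sum_insert hi]
    have h1 : f i ≠ ⊤ := fun h0 => h (by rw [h0]; simp)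
    have h2 : ∑ j ∈ S, f j ≠ ⊤ := fun h0 => h (by rw [h0]; simp)
    rw [ENat.toNat_add h1 h2, ih h2]

/-- `ℓ_A(A/(q + a)) = ord_{A/q}(a mod q)` -/
theorem length_quot_sup_eq_ord (q : Ideal A) (a : A) :
    Module.length A (A ⧸ (q ⊔ Ideal.span {a})) = Ring.ord (A ⧸ q) (Ideal.Quotient.mk q a) := by
  unfold Ring.ord
  have hmap : (Ideal.span {a}).map (Ideal.Quotient.mk q) = Ideal.span {Ideal.Quotient.mk q a} := by
    rw [Ideal.map_span, Set.image_singleton]
  rw [← hmap, ← Module.length_eq_of_surjective (S := A) (R := A ⧸ q) Ideal.Quotient.mk_surjective]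
  exact ((DoubleQuot.quotQuotEquivQuotSupₐ A q (Ideal.span {a})).toLinearEquiv).length_eq.symm


theorem ordFrac_eq_ordZ (B : Type u) [CommRing B] [IsDomain B] [IsNoetherianRing B]
    [Ring.KrullDimLE 1 B] (K : Type u) [Field K] [Algebra B K] [IsFractionRing B K] (x : K) :
    CycAlg.ordFrac B K x = ordZ B x := by
  unfold CycAlg.ordFrac ordZ
  rw [dif_pos ⟨inferInstance, inferInstance, inferInstance, inferInstance⟩]

theorem ordFrac_term [Ring.KrullDimLE 1 A] (q : Ideal A) [q.IsPrime] (a b : A) (ha : a ∉ q)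
    (hb : b ∉ q) :
    CycAlg.ordFrac (A ⧸ q) q.ResidueField
        (algebraMap A q.ResidueField a / algebraMap A q.ResidueField b) =
      ((Module.length A (A ⧸ (q ⊔ Ideal.span {a}))).toNat : ℤ) -
        ((Module.length A (A ⧸ (q ⊔ Ideal.span {b}))).toNat : ℤ) := by
  haveI : Ring.KrullDimLE 1 (A ⧸ q) :=
    Ring.krullDimLE_iff.2 ((ringKrullDim_quotient_le q).trans (Ring.krullDimLE_iff.1 inferInstance))
  rw [ordFrac_eq_ordZ, length_quot_sup_eq_ord, length_quot_sup_eq_ord]
  have ha' : Ideal.Quotient.mk q a ≠ 0 := fun h => ha (Ideal.Quotient.eq_zero_iff_mem.1 h)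
  have hb' : Ideal.Quotient.mk q b ≠ 0 := fun h => hb (Ideal.Quotient.eq_zero_iff_mem.1 h)
  have e1 : algebraMap A q.ResidueField a =
      algebraMap (A ⧸ q) q.ResidueField (Ideal.Quotient.mk q a) :=
    IsScalarTower.algebraMap_apply A (A ⧸ q) q.ResidueField a
  have e2 : algebraMap A q.ResidueField b =
      algebraMap (A ⧸ q) q.ResidueField (Ideal.Quotient.mk q b) :=
    IsScalarTower.algebraMap_apply A (A ⧸ q) q.ResidueField b
  rw [e1, e2, ← ordZ_algebraMap (K := q.ResidueField) ha',
    ← ordZ_algebraMap (K := q.ResidueField) hb']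
  have hinj := IsFractionRing.injective (A ⧸ q) q.ResidueField
  have hbK : algebraMap (A ⧸ q) q.ResidueField (Ideal.Quotient.mk q b) ≠ 0 :=
    fun h => hb' (hinj (by rw [h, map_zero]))
  have haK : algebraMap (A ⧸ q) q.ResidueField (Ideal.Quotient.mk q a) ≠ 0 :=
    fun h => ha' (hinj (by rw [h, map_zero]))
  have := ordZ_mul (A := A ⧸ q) (div_ne_zero haK hbK) hbK
  rw [div_mul_cancel₀ _ hbK] at this
  linarith

end Gen

/-- Let A be a Noetherian local ring of dimension 1, a, b ∈ A nonzerodivisors, A without embedded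
primes, M a finite A-module without embedded associated primes and with Supp(M) = Spec(A). Put I =
{x ∈ A | x·(a/b) ∈ A}, and write 𝔮_1, …, 𝔮_t for the minimal prime ideals of A. The conclusion is
that M contains (a/b)IM, and that the difference length_A(M/(a/b)IM) minus length_A(M/IM) equals the
sum over i of length_{A_{𝔮_i}}(M_{𝔮_i}) multiplied by ord_{A/𝔮_i}(a/b). Encoding: I is the ideal
quotient (bA : aA); '(a/b)IM ⊂ M' is aIM ⊆ bM; (a/b)IM is the submodule of m with bm ∈ aIM (b acts
injectively on M); ord_{A/𝔮}(a/b) is CycAlg.ordFrac on κ(𝔮) = Frac(A/𝔮); lengths are truncated to ℕ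
(they are finite here). -/
theorem result {A : Type u} [CommRing A] [IsNoetherianRing A] [IsLocalRing A] (hA : ringKrullDim A = 1) {M : Type u} [AddCommGroup M] [Module A M] [Module.Finite A M] (a b : A) (ha : a ∈ nonZeroDivisors A) (hb : b ∈ nonZeroDivisors A) (hAemb : ∀ p ∈ associatedPrimes A A, p ∈ minimalPrimes A) (hMemb : ∀ p ∈ associatedPrimes A M, p ∈ minimalPrimes A) (hsupp : Module.support A M = Set.univ) (I : Ideal A) (hI : I = (Ideal.span {b}).colon (Ideal.span {a})) (P : Submodule A M) (hP : P = Submodule.comap (LinearMap.lsmul A M b) ((Ideal.span {a} * I) • (⊤ : Submodule A M))) : (Ideal.span {a} * I) • (⊤ : Submodule A M) ≤ LinearMap.range (LinearMap.lsmul A M b) ∧ ((Module.length A (M ⧸ P)).toNat : ℤ) - ((Module.length A (M ⧸ I • (⊤ : Submodule A M))).toNat : ℤ) = ∑ᶠ (q : PrimeSpectrum A) (_ : q.asIdeal ∈ minimalPrimes A), ((Module.length (Localization.AtPrime q.asIdeal) (LocalizedModule q.asIdeal.primeCompl M)).toNat : ℤ) * CycAlg.ordFrac (A ⧸ q.asIdeal) q.asIdeal.ResidueField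 (algebraMap A q.asIdeal.ResidueField a / algebraMap A q.asIdeal.ResidueField b) := by
  classical
  haveI : Ring.KrullDimLE 1 A := Ring.krullDimLE_iff.2 (by rw [hA]; exact le_refl _)
  set X : Submodule A M := (Ideal.span {a} * I) • (⊤ : Submodule A M) with hX
  set IM : Submodule A M := I • (⊤ : Submodule A M) with hIM
  set bM : Submodule A M := LinearMap.range (LinearMap.lsmul A M b) with hbM
  -- basic facts on I
  have hbI : b ∈ I := by
    rw [hI, Submodule.mem_colon]
    intro p hp
    obtain ⟨c, rfl⟩ := Ideal.mem_span_singleton'.1 hp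
    exact Ideal.mem_span_singleton'.2 ⟨c * a, by simp [mul_comm]⟩
  have haI : Ideal.span {a} * I ≤ Ideal.span {b} := by
    rw [Ideal.mul_le]
    intro y hy x hx
    rw [hI, Submodule.mem_colon] at hx
    have := hx y hy
    rwa [smul_eq_mul, mul_comm] at this
  -- part 1
  have hXb : X ≤ bM := by
    rw [hX, Submodule.smul_le]
    intro r hr m _
    obtain ⟨c, hc⟩ := Ideal.mem_span_singleton'.1 (haI hr)
    refine ⟨c • m, ?_⟩
    rw [LinearMap.lsmul_apply, smul_smul, mul_comm, hc]
  refine ⟨hXb, ?_⟩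
  have hXI : X ≤ IM := Submodule.smul_mono_left Ideal.mul_le_right
  -- regularity
  have hregb : ∀ m : M, b • m = 0 → m = 0 := reg_of_ass hMemb b hb
  have hrega : ∀ m : M, a • m = 0 → m = 0 := reg_of_ass hMemb a ha
  have hamin : ∀ p ∈ minimalPrimes A, a ∉ p := fun p hp hap =>
    Set.disjoint_left.1 (Ideal.disjoint_nonZeroDivisors_of_mem_minimalPrimes hp) hap ha
  have hbmin : ∀ p ∈ minimalPrimes A, b ∉ p := fun p hp hbp =>
    Set.disjoint_left.1 (Ideal.disjoint_nonZeroDivisors_of_mem_minimalPrimes hp) hbp hb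
  -- the rl chain
  have c1 : rl X ⊤ = rl X IM + rl IM ⊤ := rl_add hXI le_top
  have c2 : rl X ⊤ = rl X bM + rl bM ⊤ := rl_add hXb le_top
  have e_IM : rl IM ⊤ = Module.length A (M ⧸ IM) := rl_top_eq IM
  have e_bM : rl bM ⊤ = Module.length A (M ⧸ b • (⊤ : Submodule A M)) := by
    rw [rl_top_eq]
    have : b • (⊤ : Submodule A M) = bM := by
      ext x
      rw [Submodule.mem_smul_pointwise_iff_exists]
      constructor
      · rintro ⟨y, _, rfl⟩; exact ⟨y, rfl⟩
      · rintro ⟨y, rfl⟩; exact ⟨y, trivial, rfl⟩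
    rw [this]
  have e_P : rl X bM = Module.length A (M ⧸ P) := by
    have h := rl_iso (LinearMap.lsmul A M b) X (⊤ : Submodule A M)
    rw [Submodule.map_top, sup_eq_right.2 hXb, ← hP, rl_top_eq] at h
    exact h.symm
  have e_XI : rl X IM = Module.length A (↥IM ⧸ a • (⊤ : Submodule A ↥IM)) := by
    unfold rl
    have : X.submoduleOf IM = a • (⊤ : Submodule A ↥IM) := by
      ext x
      rw [Submodule.mem_smul_pointwise_iff_exists]
      have hXa : X = a • IM := by
        rw [hX, hIM, Submodule.mul_smul, Submodule.ideal_span_singleton_smul]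
      constructor
      · intro hx
        have hx' : (x : M) ∈ a • IM := hXa ▸ hx
        obtain ⟨y, hy, hyx⟩ := (Submodule.mem_smul_pointwise_iff_exists _ _ _).1 hx'
        exact ⟨⟨y, hy⟩, trivial, Subtype.ext hyx⟩
      · rintro ⟨y, _, rfl⟩
        show ((a • y : ↥IM) : M) ∈ X
        rw [hXa]
        exact (Submodule.mem_smul_pointwise_iff_exists _ _ _).2 ⟨y, y.2, rfl⟩
    rw [this]
  -- S0616 twice
  have f1 := Groth.Agent.S0616.result hA M b hbmin
  have f2 := Groth.Agent.S0616.result hA ↥IM a hamin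
  have k1 : Module.length A (LinearMap.ker (LinearMap.lsmul A M b)) = 0 := by
    rw [Module.length_eq_zero_iff]
    refine ⟨fun x y => ?_⟩
    have hz : ∀ z : LinearMap.ker (LinearMap.lsmul A M b), z = 0 := fun z =>
      Subtype.ext (hregb z z.2)
    rw [hz x, hz y]
  have k2 : Module.length A (LinearMap.ker (LinearMap.lsmul A ↥IM a)) = 0 := by
    rw [Module.length_eq_zero_iff]
    refine ⟨fun x y => ?_⟩
    have hz : ∀ z : LinearMap.ker (LinearMap.lsmul A ↥IM a), z = 0 := fun z => by
      apply Subtype.ext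
      apply Subtype.ext
      apply hrega
      have := z.2
      rw [LinearMap.mem_ker, LinearMap.lsmul_apply] at this
      exact congrArg Subtype.val this
    rw [hz x, hz y]
  rw [k1, zero_add] at f1
  rw [k2, zero_add] at f2
  -- localisation of IM
  have hloc : ∀ q : PrimeSpectrum A, q.asIdeal ∈ minimalPrimes A →
      Module.length (Localization.AtPrime q.asIdeal) (LocalizedModule q.asIdeal.primeCompl ↥IM) =
        Module.length (Localization.AtPrime q.asIdeal) (LocalizedModule q.asIdeal.primeCompl M) := by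
    intro q hq
    have h := lenAt_exact q IM.subtype IM.mkQ (Submodule.injective_subtype _)
      (Submodule.mkQ_surjective _) (LinearMap.exact_subtype_mkQ IM)
    have h0 : lenAt q (M ⧸ IM) = 0 := by
      unfold lenAt
      rw [Module.length_eq_zero_iff, LocalizedModule.subsingleton_iff]
      intro m
      refine ⟨b, hbmin _ hq, ?_⟩
      obtain ⟨m, rfl⟩ := Submodule.Quotient.mk_surjective _ m
      rw [← Submodule.Quotient.mk_smul, Submodule.Quotient.mk_eq_zero]
      exact Submodule.smul_mem_smul hbI trivial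
    rw [h0, add_zero] at h
    exact h.symm
  -- finiteness
  have hfin_bM : Module.length A (M ⧸ b • (⊤ : Submodule A M)) ≠ ⊤ := by
    refine length_ne_top_of_torsion b hb (fun x => ?_)
    obtain ⟨m, rfl⟩ := Submodule.Quotient.mk_surjective _ x
    rw [← Submodule.Quotient.mk_smul, Submodule.Quotient.mk_eq_zero]
    exact Submodule.smul_mem_pointwise_smul _ _ _ trivial
  have hfin_XI : Module.length A (↥IM ⧸ a • (⊤ : Submodule A ↥IM)) ≠ ⊤ := by
    refine length_ne_top_of_torsion a ha (fun x => ?_)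
    obtain ⟨m, rfl⟩ := Submodule.Quotient.mk_surjective _ x
    rw [← Submodule.Quotient.mk_smul, Submodule.Quotient.mk_eq_zero]
    exact Submodule.smul_mem_pointwise_smul _ _ _ trivial
  have hfin_IM : Module.length A (M ⧸ IM) ≠ ⊤ := by
    refine length_ne_top_of_torsion b hb (fun x => ?_)
    obtain ⟨m, rfl⟩ := Submodule.Quotient.mk_surjective _ x
    rw [← Submodule.Quotient.mk_smul, Submodule.Quotient.mk_eq_zero]
    exact Submodule.smul_mem_smul hbI trivial
  have hfin_P : Module.length A (M ⧸ P) ≠ ⊤ := by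
    refine length_ne_top_of_torsion a ha (fun x => ?_)
    obtain ⟨m, rfl⟩ := Submodule.Quotient.mk_surjective _ x
    rw [← Submodule.Quotient.mk_smul, Submodule.Quotient.mk_eq_zero, hP, Submodule.mem_comap,
      LinearMap.lsmul_apply, smul_smul]
    exact Submodule.smul_mem_smul
      (Ideal.mul_mem_mul_rev (Ideal.mem_span_singleton_self a) hbI) trivial
  -- the ENat identity
  have hmain : Module.length A (M ⧸ P) + Module.length A (M ⧸ b • (⊤ : Submodule A M)) =
      Module.length A (↥IM ⧸ a • (⊤ : Submodule A ↥IM)) + Module.length A (M ⧸ IM) := by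
    rw [← e_P, ← e_bM, ← e_XI, ← e_IM, ← c1, ← c2]
  -- the finite index set
  have hfinS : {q : PrimeSpectrum A | q.asIdeal ∈ minimalPrimes A}.Finite := by
    have h0 : (minimalPrimes A).Finite := Ideal.finite_minimalPrimes_of_isNoetherianRing A ⊥
    exact h0.preimage (fun x _ y _ hxy => PrimeSpectrum.ext hxy)
  have hS : ∀ q, q ∈ hfinS.toFinset ↔ q.asIdeal ∈ minimalPrimes A := by
    intro q; simp
  have g1 : Module.length A (M ⧸ b • (⊤ : Submodule A M)) = ∑ q ∈ hfinS.toFinset,
      Module.length (Localization.AtPrime q.asIdeal) (LocalizedModule q.asIdeal.primeCompl M) *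
        Module.length A (A ⧸ (q.asIdeal ⊔ Ideal.span {b})) :=
    f1.trans (finsum_mem_eq_finite_toFinset_sum _ hfinS)
  have g2 : Module.length A (↥IM ⧸ a • (⊤ : Submodule A ↥IM)) = ∑ q ∈ hfinS.toFinset,
      Module.length (Localization.AtPrime q.asIdeal) (LocalizedModule q.asIdeal.primeCompl M) *
        Module.length A (A ⧸ (q.asIdeal ⊔ Ideal.span {a})) :=
    (f2.trans (finsum_mem_eq_finite_toFinset_sum _ hfinS)).trans
      (Finset.sum_congr rfl fun q hq => by rw [hloc q ((hS q).1 hq)])
  have n1 := congrArg ENat.toNat g1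
  have n2 := congrArg ENat.toNat g2
  rw [toNat_finset_sum _ _ (g1 ▸ hfin_bM)] at n1
  rw [toNat_finset_sum _ _ (g2 ▸ hfin_XI)] at n2
  simp only [ENat.toNat_mul] at n1 n2
  -- RHS as a finset sum
  have hR : (∑ᶠ (q : PrimeSpectrum A) (_ : q.asIdeal ∈ minimalPrimes A), ((Module.length (Localization.AtPrime q.asIdeal) (LocalizedModule q.asIdeal.primeCompl M)).toNat : ℤ) * CycAlg.ordFrac (A ⧸ q.asIdeal) q.asIdeal.ResidueField (algebraMap A q.asIdeal.ResidueField a / algebraMap A q.asIdeal.ResidueField b)) =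
      ∑ q ∈ hfinS.toFinset, ((Module.length (Localization.AtPrime q.asIdeal) (LocalizedModule q.asIdeal.primeCompl M)).toNat : ℤ) *
        (((Module.length A (A ⧸ (q.asIdeal ⊔ Ideal.span {a}))).toNat : ℤ) -
          ((Module.length A (A ⧸ (q.asIdeal ⊔ Ideal.span {b}))).toNat : ℤ)) := by
    refine (finsum_mem_eq_finite_toFinset_sum _ hfinS).trans (Finset.sum_congr rfl fun q hq => ?_)
    have hq' := (hS q).1 hq
    haveI := q.2
    rw [ordFrac_term q.asIdeal a b (hamin _ hq') (hbmin _ hq')]
  rw [hR]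
  simp only [mul_sub, Finset.sum_sub_distrib]
  have h3 := congrArg ENat.toNat hmain
  rw [ENat.toNat_add hfin_P hfin_bM, ENat.toNat_add hfin_XI hfin_IM] at h3
  have n1' : ((Module.length A (M ⧸ b • (⊤ : Submodule A M))).toNat : ℤ) = _ := congrArg (Nat.cast (R := ℤ)) n1
  have n2' : ((Module.length A (↥IM ⧸ a • (⊤ : Submodule A ↥IM))).toNat : ℤ) = _ := congrArg (Nat.cast (R := ℤ)) n2
  push_cast at n1' n2'
  rw [← n1', ← n2']
  have h3' : ((Module.length A (M ⧸ P)).toNat : ℤ) + ((Module.length A (M ⧸ b • (⊤ : Submodule A M))).toNat : ℤ) =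
      ((Module.length A (↥IM ⧸ a • (⊤ : Submodule A ↥IM))).toNat : ℤ) + ((Module.length A (M ⧸ IM)).toNat : ℤ) := by
    exact_mod_cast h3
  linarith

end Groth.Agent.S6480
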