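import Groth.Statements.S1833
import Mathlib
import Groth.Agent.Lib.Helper2.ChiLocal2
import Groth.Agent.Lib.Helper25.CokerDet
-- import your own Groth.Agent.* helpers here

set_option autoImplicit false
set_option linter.unusedSectionVars false
set_option linter.style.haveILetI false
universe u v
open Pointwise
open CycAlg

namespace Groth.Agent.S1833

open Groth.Agent.Lib.Helper2.ChiLocal Groth.Agent.Lib.Helper2.ChiLocal2
open Groth.Agent.Lib.Helper2.Snake Groth.Agent.Lib.Helper2.LenAt
open Groth.Agent.Lib.Helper25.CokerDet Function
open Pointwise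

theorem length_quot_sup_eq_ord {A : Type u} [CommRing A] (q : Ideal A) (a : A) :
    Module.length A (A ⧸ (q ⊔ Ideal.span {a})) = Ring.ord (A ⧸ q) (Ideal.Quotient.mk q a) := by
  unfold Ring.ord
  have hmap : (Ideal.span {a}).map (Ideal.Quotient.mk q) = Ideal.span {Ideal.Quotient.mk q a} := by
    rw [Ideal.map_span, Set.image_singleton]
  rw [← hmap, ← Module.length_eq_of_surjective (S := A) (R := A ⧸ q) Ideal.Quotient.mk_surjective]
  exact ((DoubleQuot.quotQuotEquivQuotSupₐ A q (Ideal.span {a})).toLinearEquiv).length_eq.symm

lemma eq_max_of_supportDim_le_zero (R : Type u) [CommRing R] [IsLocalRing R] (N : Type u)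
    [AddCommGroup N] [Module R N] [Module.Finite R N] (h : Module.supportDim R N ≤ 0) :
    ∀ q ∈ Module.support R N, q.asIdeal = IsLocalRing.maximalIdeal R := by
  intro q hq
  by_contra hne
  haveI : Nontrivial N := by
    by_contra hN
    rw [not_nontrivial_iff_subsingleton] at hN
    rw [Module.support_eq_empty_iff.2 hN] at hq
    exact hq
  have hlt : q < IsLocalRing.closedPoint R :=
    lt_of_le_of_ne (IsLocalRing.le_maximalIdeal q.isPrime.ne_top)
      (fun h => hne (congrArg PrimeSpectrum.asIdeal h))
  have : 0 < Module.supportDim R N := by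
    rw [Module.supportDim, Order.krullDim_pos_iff]
    exact ⟨⟨q, hq⟩, ⟨IsLocalRing.closedPoint R, IsLocalRing.closedPoint_mem_support R N⟩, hlt⟩
  exact absurd h (not_le.2 this)

lemma smul_top_eq_range_lsmul {R : Type u} [CommRing R] (M : Type u) [AddCommGroup M] [Module R M]
    (x : R) : x • (⊤ : Submodule R M) = LinearMap.range (LinearMap.lsmul R M x) := by
  ext y
  simp [Submodule.mem_smul_pointwise_iff_exists]

/-- Let R be Noetherian local, M a finite R-module whose support has dimension at most 1, and x an
element with M/xM supported in dimension ≤ 0. Then length(M/xM) = length(ker(x : M → M)) + Σ_q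
ord_{R/q}(x) · length_{R_q}(M_q), the sum running over the primes q of the support other than the
maximal ideal (stated in ℕ∞; all terms are finite under the hypotheses). -/
theorem result (R : Type u) [CommRing R] [IsNoetherianRing R] [IsLocalRing R] (M : Type u) [AddCommGroup M] [Module R M] [Module.Finite R M] (x : R) (h1 : Module.supportDim R M ≤ 1) (h0 : Module.supportDim R (M ⧸ x • (⊤ : Submodule R M)) ≤ 0) : Module.length R (M ⧸ x • (⊤ : Submodule R M)) = Module.length R (LinearMap.ker (LinearMap.lsmul R M x)) + ∑ᶠ (p : PrimeSpectrum R) (_ : p ∈ Module.support R M ∧ p.asIdeal ≠ IsLocalRing.maximalIdeal R), Ring.ord (R ⧸ p.asIdeal) (Ideal.Quotient.mk p.asIdeal x) * Module.length (Localization.AtPrime p.asIdeal) (LocalizedModule p.asIdeal.primeCompl M) := by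
  classical
  -- finiteness of `M/xM`
  have hfl : IsFiniteLength R (M ⧸ x • (⊤ : Submodule R M)) :=
    isFiniteLength_of_support_subset _ (eq_max_of_supportDim_le_zero R _ h0)
  have hA : Module.length R (M ⧸ x • (⊤ : Submodule R M)) = a x M := by
    unfold a
    refine (Submodule.quotEquivOfEq _ _ ?_).length_eq
    rw [Submodule.ideal_span_singleton_smul]
  have hafin : a x M ≠ ⊤ := by
    rw [← hA]; exact Module.length_ne_top_iff.2 hfl
  by_cases hx : x ∈ IsLocalRing.maximalIdeal R
  · by_cases hdim : 0 < Module.supportDim R M
    · -- main case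
      obtain ⟨-, hform⟩ := main_aux x hx M hdim hafin M subset_rfl hafin
      rw [hA, hform]
      congr 1
      refine Eq.trans ?_ (finsum_set_coe_eq_finsum_mem (f := fun p : PrimeSpectrum R =>
        Ring.ord (R ⧸ p.asIdeal) (Ideal.Quotient.mk p.asIdeal x) *
          Module.length (Localization.AtPrime p.asIdeal)
            (LocalizedModule p.asIdeal.primeCompl M))
        {p : PrimeSpectrum R | p ∈ Module.support R M ∧ p.asIdeal ≠ IsLocalRing.maximalIdeal R})
      let e : (Module.annihilator R M).minimalPrimes →
          {p : PrimeSpectrum R | p ∈ Module.support R M ∧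
            p.asIdeal ≠ IsLocalRing.maximalIdeal R} := fun p =>
        ⟨⟨p.1, (show p.1 ∈ (Module.annihilator R M).minimalPrimes from p.2).1.1⟩, by
          have hp : p.1 ∈ (Module.annihilator R M).minimalPrimes := p.2
          refine ⟨?_, ne_max_of_minimal M hdim p.1 p.2⟩
          rw [Module.mem_support_iff_of_finite]
          exact hp.1.2⟩
      refine finsum_eq_of_bijective e ⟨?_, ?_⟩ ?_
      · intro p q hpq
        apply Subtype.ext
        have := congrArg (fun z => (z.1 : PrimeSpectrum R).asIdeal) hpq
        exact this
      · rintro ⟨p, hp, hpm⟩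
        exact ⟨⟨p.asIdeal, minimal_of_mem_support x hx M hafin p hp hpm⟩, rfl⟩
      · intro p
        show lenAt _ M * a x (R ⧸ p.1) = Ring.ord (R ⧸ p.1) (Ideal.Quotient.mk p.1 x) * lenAt _ M
        rw [a_quot_ideal, length_quot_sup_eq_ord, mul_comm]
    · -- finite length case
      have hle : Module.supportDim R M ≤ 0 := not_lt.1 hdim
      have hall := eq_max_of_supportDim_le_zero R M hle
      have hMfl : IsFiniteLength R M := isFiniteLength_of_support_subset M hall
      have hsum : ∑ᶠ (p : PrimeSpectrum R) (_ : p ∈ Module.support R M ∧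
          p.asIdeal ≠ IsLocalRing.maximalIdeal R),
          Ring.ord (R ⧸ p.asIdeal) (Ideal.Quotient.mk p.asIdeal x) *
            Module.length (Localization.AtPrime p.asIdeal)
              (LocalizedModule p.asIdeal.primeCompl M) = 0 := by
        refine finsum_mem_eq_zero_of_forall_eq_zero (s := {p : PrimeSpectrum R |
          p ∈ Module.support R M ∧ p.asIdeal ≠ IsLocalRing.maximalIdeal R}) ?_
        rintro p ⟨hp, hpm⟩
        exact absurd (hall p hp) hpm
      rw [hsum, add_zero,
        length_ker_eq_length_coker (LinearMap.lsmul R M x) (Module.length_ne_top_iff.2 hMfl)]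
      exact (Submodule.quotEquivOfEq _ _ (smul_top_eq_range_lsmul M x)).length_eq
  · -- `x` a unit
    have hu : IsUnit x := by
      by_contra h
      exact hx ((IsLocalRing.mem_maximalIdeal x).2 h)
    have h1' : Module.length R (M ⧸ x • (⊤ : Submodule R M)) = 0 := by
      rw [Module.length_eq_zero_iff]
      have : x • (⊤ : Submodule R M) = ⊤ := by
        rw [eq_top_iff]
        intro y _
        rw [Submodule.mem_smul_pointwise_iff_exists]
        obtain ⟨u, rfl⟩ := hu
        exact ⟨(↑u⁻¹ : R) • y, trivial, by rw [smul_smul, Units.mul_inv, one_smul]⟩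
      rw [this]
      infer_instance
    have h2' : Module.length R (LinearMap.ker (LinearMap.lsmul R M x)) = 0 := by
      rw [Module.length_eq_zero_iff]
      have : LinearMap.ker (LinearMap.lsmul R M x) = ⊥ := by
        rw [LinearMap.ker_eq_bot']
        intro y hy
        obtain ⟨u, rfl⟩ := hu
        have : (↑u⁻¹ : R) • ((u : R) • y) = 0 := by
          have hy' : (u : R) • y = 0 := hy
          rw [hy', smul_zero]
        rwa [smul_smul, Units.inv_mul, one_smul] at this
      rw [this]
      infer_instance
    have hsum : ∑ᶠ (p : PrimeSpectrum R) (_ : p ∈ Module.support R M ∧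
        p.asIdeal ≠ IsLocalRing.maximalIdeal R),
        Ring.ord (R ⧸ p.asIdeal) (Ideal.Quotient.mk p.asIdeal x) *
          Module.length (Localization.AtPrime p.asIdeal)
            (LocalizedModule p.asIdeal.primeCompl M) = 0 := by
      refine finsum_mem_eq_zero_of_forall_eq_zero (s := {p : PrimeSpectrum R |
        p ∈ Module.support R M ∧ p.asIdeal ≠ IsLocalRing.maximalIdeal R}) ?_
      intro p _
      have : Ring.ord (R ⧸ p.asIdeal) (Ideal.Quotient.mk p.asIdeal x) = 0 := by
        unfold Ring.ord
        rw [Module.length_eq_zero_iff]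
        have : Ideal.span {Ideal.Quotient.mk p.asIdeal x} = ⊤ :=
          Ideal.span_singleton_eq_top.2 (hu.map _)
        rw [this]
        infer_instance
      rw [this, zero_mul]
    rw [h1', h2', hsum, add_zero]

end Groth.Agent.S1833
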