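import Groth.Statements.S1851
import Mathlib
import Groth.Agent.Lib.Helper18.Key.Compare
import Groth.Agent.Lib.Helper18.Key.Monomial
import Groth.Agent.Lib.Helper18.Key.Glue

set_option maxHeartbeats 1000000
set_option linter.style.haveILetI false
open IsLocalRing Groth.Agent.Lib.Helper18.Tame Groth.Agent.Lib.Helper18.Key

set_option autoImplicit false
universe u
open CycAlg

namespace Groth.Agent.S1851

/-- The key lemma for nonzerodivisors; a low-degree case of the Gersten complex for Milnor K-theory: let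
A be a Noetherian local ring of dimension 2 and a, b nonzerodivisors. Then the sum over the
height-one primes 𝔮 of A of ord_{A/𝔮}(∂_{A_𝔮}(a, b)) is zero, where ∂_{A_𝔮} is the tame symbol of
the one-dimensional local ring A_𝔮 with values in κ(𝔮) = Frac(A/𝔮) (only finitely many terms are
nonzero). -/
theorem result (A : Type u) [CommRing A] [IsNoetherianRing A] [IsLocalRing A] (hA : ringKrullDim A = 2) (a b : A) (ha : a ∈ nonZeroDivisors A) (hb : b ∈ nonZeroDivisors A) : ∑ᶠ (q : PrimeSpectrum A) (_ : q.asIdeal.height = 1), CycAlg.ordFrac (A ⧸ q.asIdeal) q.asIdeal.ResidueField (CycAlg.tameSymbol (Localization.AtPrime q.asIdeal) (algebraMap A (Localization.AtPrime q.asIdeal) a) (algebraMap A (Localization.AtPrime q.asIdeal) b)) = 0 := by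
  classical
  have hA2 : ringKrullDim A ≤ 2 := hA.le
  have hab : a * b ∈ nonZeroDivisors A := mul_mem ha hb
  have hfinS : {q : PrimeSpectrum A | a * b ∈ q.asIdeal ∧ q.asIdeal ≠ maximalIdeal A}.Finite :=
    finite_primes_through hA2 hab
  obtain ⟨B, hBfin, hBloc, hmono⟩ := exists_glue hA2 ha hb hfinS
  haveI := hBfin
  haveI := hBloc
  haveI : IsNoetherianRing B := IsNoetherianRing.of_finite A B
  haveI : Algebra.IsIntegral A B := Algebra.IsIntegral.of_finite A B
  have hB2 : ringKrullDim B ≤ 2 :=
    (Groth.Agent.Lib.Helper18.NormOrd.ringKrullDim_le_of_isIntegral A B).trans hA2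
  have haB := algebraMap_mem_nonZeroDivisors_sub B ha
  have hbB := algebraMap_mem_nonZeroDivisors_sub B hb
  have habB : algebraMap A B a * algebraMap A B b ∈ nonZeroDivisors B := mul_mem haB hbB
  have hfinSB : {q' : PrimeSpectrum B | algebraMap A B a * algebraMap A B b ∈ q'.asIdeal ∧
      q'.asIdeal ≠ maximalIdeal B}.Finite := finite_primes_through hB2 habB
  set F : Finset (PrimeSpectrum A) := hfinS.toFinset with hFdef
  set FB : Finset (PrimeSpectrum B) := hfinSB.toFinset with hFBdef
  have hF : ∀ q, q ∈ F ↔ (a * b ∈ q.asIdeal ∧ q.asIdeal ≠ maximalIdeal A) := by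
    intro q
    rw [hFdef, Set.Finite.mem_toFinset]
    rfl
  have hFB : ∀ q', q' ∈ FB ↔ (algebraMap A B a * algebraMap A B b ∈ q'.asIdeal ∧
      q'.asIdeal ≠ maximalIdeal B) := by
    intro q'
    rw [hFBdef, Set.Finite.mem_toFinset]
    rfl
  -- the residue degree
  have hunderB : (maximalIdeal B).comap (algebraMap A B) = maximalIdeal A :=
    under_eq_maximalIdeal A B (maximalIdeal B)
  have hdfin : Module.length A (B ⧸ maximalIdeal B) ≠ ⊤ := by
    apply length_quot_ideal_ne_top_of_pow (maximalIdeal B) 1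
    intro r hr
    rw [pow_one, ← hunderB] at hr
    exact hr
  obtain ⟨d, hd⟩ := ENat.ne_top_iff_exists.1 hdfin
  -- the comparison at each prime
  have hpp := fun (q : PrimeSpectrum A)
      (hq : a * b ∈ q.asIdeal ∧ q.asIdeal ≠ maximalIdeal A) =>
    per_prime hA2 ha hb B q.asIdeal hq.1 hq.2 (hmono q hq) d hd.symm FB hFB
  -- the contraction of a prime of `B` through `ab`
  have hcontr : ∀ q' : PrimeSpectrum B, algebraMap A B a * algebraMap A B b ∈ q'.asIdeal →
      q'.asIdeal ≠ maximalIdeal B →
      (a * b ∈ q'.asIdeal.comap (algebraMap A B) ∧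
        q'.asIdeal.comap (algebraMap A B) ≠ maximalIdeal A) := by
    intro q' h1 h2
    refine ⟨?_, ?_⟩
    · show algebraMap A B (a * b) ∈ q'.asIdeal
      rw [map_mul]
      exact h1
    · intro h
      apply h2
      have hmax : q'.asIdeal.IsMaximal := by
        apply Ideal.isMaximal_of_isIntegral_of_isMaximal_comap (R := A) q'.asIdeal
        rw [h]
        exact maximalIdeal.isMaximal A
      exact IsLocalRing.eq_maximalIdeal hmax
  -- presentations at the primes of `B`
  have hexP : ∀ q' : PrimeSpectrum B, algebraMap A B a * algebraMap A B b ∈ q'.asIdeal →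
      q'.asIdeal ≠ maximalIdeal B →
      Nonempty (Pres (Localization.AtPrime q'.asIdeal) (algebraMap B _ (algebraMap A B a))
        (algebraMap B _ (algebraMap A B b))) := by
    intro q' h1 h2
    exact (hpp ⟨q'.asIdeal.comap (algebraMap A B), inferInstance⟩ (hcontr q' h1 h2)).1 q'
      ((hFB q').2 ⟨h1, h2⟩) rfl
  let P : ∀ q' : PrimeSpectrum B, algebraMap A B a * algebraMap A B b ∈ q'.asIdeal →
      q'.asIdeal ≠ maximalIdeal B →
      Pres (Localization.AtPrime q'.asIdeal) (algebraMap B _ (algebraMap A B a))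
        (algebraMap B _ (algebraMap A B b)) := fun q' h1 h2 => Classical.choice (hexP q' h1 h2)
  have hKM := key_monomial hB2 haB hbB P
  let g : PrimeSpectrum B → ℤ := fun q' =>
    if h : algebraMap A B a * algebraMap A B b ∈ q'.asIdeal ∧ q'.asIdeal ≠ maximalIdeal B then
      ordFrac (B ⧸ q'.asIdeal) q'.asIdeal.ResidueField (P q' h.1 h.2).theta else 0
  have hg : ∀ q' : PrimeSpectrum B, algebraMap A B a * algebraMap A B b ∈ q'.asIdeal →
      q'.asIdeal ≠ maximalIdeal B →
      ∀ P₂ : Pres (Localization.AtPrime q'.asIdeal) (algebraMap B _ (algebraMap A B a))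
        (algebraMap B _ (algebraMap A B b)),
      g q' = ordFrac (B ⧸ q'.asIdeal) q'.asIdeal.ResidueField P₂.theta := by
    intro q' h1 h2 P₂
    simp only [g]
    rw [dif_pos ⟨h1, h2⟩]
    haveI : IsNoetherianRing (Localization.AtPrime q'.asIdeal) :=
      IsLocalization.isNoetherianRing q'.asIdeal.primeCompl _ inferInstance
    haveI : Ring.KrullDimLE 1 (Localization.AtPrime q'.asIdeal) :=
      (Order.krullDimLE_iff 1 _).2 (ringKrullDim_atPrime_le_one hB2 habB q'.asIdeal h1 h2)
    rw [Pres.theta_eq (P q' h1 h2) P₂]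
  have hsumB : ∑ q' ∈ FB, g q' = 0 := by
    have hg' : ∀ q' : {q' : PrimeSpectrum B // algebraMap A B a * algebraMap A B b ∈ q'.asIdeal ∧
        q'.asIdeal ≠ maximalIdeal B},
        ordFrac (B ⧸ q'.1.asIdeal) q'.1.asIdeal.ResidueField (P q'.1 q'.2.1 q'.2.2).theta =
          g q'.1 := by
      intro q'
      simp only [g]
      rw [dif_pos q'.2]
    rw [finsum_congr hg'] at hKM
    have h5 : ∑ᶠ q' : {q' : PrimeSpectrum B // algebraMap A B a * algebraMap A B b ∈ q'.asIdeal ∧
        q'.asIdeal ≠ maximalIdeal B}, g q'.1 =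
        ∑ᶠ q' ∈ {q' : PrimeSpectrum B | algebraMap A B a * algebraMap A B b ∈ q'.asIdeal ∧
        q'.asIdeal ≠ maximalIdeal B}, g q' :=
      finsum_set_coe_eq_finsum_mem (f := g) _
    rw [h5, finsum_mem_eq_finite_toFinset_sum g hfinSB] at hKM
    exact hKM
  -- the summand
  let h : PrimeSpectrum A → ℤ := fun q => ordFrac (A ⧸ q.asIdeal) q.asIdeal.ResidueField
    (tameSymbol (Localization.AtPrime q.asIdeal) (algebraMap A _ a) (algebraMap A _ b))
  have hin : ∀ q ∈ F, h q = (d : ℤ) * ∑ q' ∈ FB.filter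
      (fun q' => q'.asIdeal.comap (algebraMap A B) = q.asIdeal), g q' := by
    intro q hq
    exact (hpp q ((hF q).1 hq)).2 g hg
  have hheight : (maximalIdeal A).height = 2 := by
    have h1 := IsLocalRing.maximalIdeal_height_eq_ringKrullDim (R := A)
    rw [hA] at h1
    exact WithBot.coe_injective h1
  have hout : ∀ q : PrimeSpectrum A, q ∉ F → q.asIdeal.height = 1 → h q = 0 := by
    intro q hqF hht
    have hne : q.asIdeal ≠ maximalIdeal A := by
      intro heq
      rw [heq, hheight] at hht
      exact absurd hht (by norm_num)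
    have hnot : a * b ∉ q.asIdeal := fun hmem => hqF ((hF q).2 ⟨hmem, hne⟩)
    have hanot : a ∉ q.asIdeal := fun hmem => hnot (Ideal.mul_mem_right _ _ hmem)
    have hbnot : b ∉ q.asIdeal := fun hmem => hnot (Ideal.mul_mem_left _ _ hmem)
    have hua : IsUnit (algebraMap A (Localization.AtPrime q.asIdeal) a) :=
      IsLocalization.map_units _ (⟨a, hanot⟩ : q.asIdeal.primeCompl)
    have hub : IsUnit (algebraMap A (Localization.AtPrime q.asIdeal) b) :=
      IsLocalization.map_units _ (⟨b, hbnot⟩ : q.asIdeal.primeCompl)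
    haveI : IsNoetherianRing (Localization.AtPrime q.asIdeal) :=
      IsLocalization.isNoetherianRing q.asIdeal.primeCompl _ inferInstance
    simp only [h]
    rw [tameSymbol_eq_one_of_units hua hub, ordFrac_one']
  have hfun : (fun q : PrimeSpectrum A => ∑ᶠ (_ : q.asIdeal.height = 1), h q) =
      fun q => if q ∈ F then h q else 0 := by
    funext q
    rw [finsum_eq_if]
    by_cases hq : q ∈ F
    · rw [if_pos hq, if_pos (height_eq_one hA2 hab q.asIdeal ((hF q).1 hq).1 ((hF q).1 hq).2)]
    · rw [if_neg hq]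
      split_ifs with hht
      · exact hout q hq hht
      · rfl
  show ∑ᶠ q : PrimeSpectrum A, ∑ᶠ (_ : q.asIdeal.height = 1), h q = 0
  rw [hfun, finsum_eq_finset_sum_of_support_subset (s := F) _ (by
    intro q hq
    rw [Function.mem_support] at hq
    by_contra hqF
    exact hq (if_neg hqF))]
  rw [Finset.sum_congr rfl (fun q hq => by rw [if_pos hq, hin q hq]), ← Finset.mul_sum]
  have hfib : ∑ q ∈ F, ∑ q' ∈ FB.filter
      (fun q' => q'.asIdeal.comap (algebraMap A B) = q.asIdeal), g q' = ∑ q' ∈ FB, g q' := by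
    have hmaps : ∀ q' ∈ FB, (⟨q'.asIdeal.comap (algebraMap A B), inferInstance⟩ :
        PrimeSpectrum A) ∈ F := by
      intro q' hq'
      have := (hFB q').1 hq'
      exact (hF _).2 (hcontr q' this.1 this.2)
    rw [← Finset.sum_fiberwise_of_maps_to hmaps g]
    apply Finset.sum_congr rfl
    intro q _
    apply Finset.sum_congr _ (fun _ _ => rfl)
    ext q'
    simp only [Finset.mem_filter]
    constructor
    · rintro ⟨h1, h2⟩
      exact ⟨h1, PrimeSpectrum.ext h2⟩
    · rintro ⟨h1, h2⟩
      exact ⟨h1, congrArg PrimeSpectrum.asIdeal h2⟩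
  rw [hfib, hsumB, mul_zero]

end Groth.Agent.S1851
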