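import Groth.Statements.S1559
import Groth.Agent.Lib.Helper18.GeomIrrGen
import Groth.Agent.Lib.Helper22.SchGeomConn4
open Groth.Agent.Lib.Helper18

set_option autoImplicit false
universe u
open CategoryTheory CategoryTheory.Limits AlgebraicGeometry
open Variety

namespace Groth.Agent.S1559

/-- A scheme X over a field k is geometrically connected as soon as its base change to a separable
algebraic closure of k is connected. -/
theorem result (k : Type u) [Field k] (X : Scheme.{u}) [X.Over (Spec (CommRingCat.of k))]
    [ConnectedSpace (Curv2.bc k X (SeparableClosure k))] :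
    GeometricallyConnected (X ↘ (Spec (CommRingCat.of k))) := by
  set f := X ↘ (Spec (CommRingCat.of k)) with hf
  let Ω := SeparableClosure k
  let fΩ : pullback f (Spec.map (CommRingCat.ofHom (algebraMap k Ω))) ⟶ Spec (CommRingCat.of Ω) :=
    pullback.snd f (Spec.map (CommRingCat.ofHom (algebraMap k Ω)))
  haveI hconn : ConnectedSpace ↥(pullback f (Spec.map (CommRingCat.ofHom (algebraMap k Ω)))) := ‹_›
  have hgc : GeometricallyConnected fΩ := by
    obtain ⟨y⟩ : Nonempty ↥(pullback f (Spec.map (CommRingCat.ofHom (algebraMap k Ω)))) :=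
      inferInstance
    refine Groth.Agent.Lib.Helper22.SchGeomConn.geometricallyConnected_of_residueFieldProp fΩ y
      ⟨GeomIrrGen.resMap fΩ y, (GeomIrrGen.fromSpecResidueField_comp fΩ y).symm, ?_⟩
    letI : Algebra Ω ((pullback f (Spec.map (CommRingCat.ofHom (algebraMap k Ω)))).residueField y) :=
      (GeomIrrGen.resMap fΩ y).toAlgebra
    show separableClosure Ω _ = ⊥
    rw [eq_bot_iff]
    intro a ha
    have hsurj := IsSepClosed.algebraMap_surjective Ω
      (separableClosure Ω ((pullback f (Spec.map (CommRingCat.ofHom (algebraMap k Ω)))).residueField y))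
    obtain ⟨c, hc⟩ := hsurj ⟨a, ha⟩
    refine IntermediateField.mem_bot.mpr ⟨c, ?_⟩
    have := congrArg Subtype.val hc
    exact this
  haveI : GeometricallyConnected (FBase.bcStr f Ω) := hgc
  exact Groth.Agent.Lib.Helper22.SchGeomConn.geometricallyConnected_of_bcStr f Ω

end Groth.Agent.S1559
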