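import Groth.Statements.S1538
import Groth.Agent.Lib.Helper18.GeomIrrGen
import Groth.Agent.Lib.Helper18.GeomIrrAlg
open Groth.Agent.Lib.Helper18

set_option autoImplicit false
universe u
open CategoryTheory CategoryTheory.Limits AlgebraicGeometry
open Variety

namespace Groth.Agent.S1538

/-- A scheme X over a field k is geometrically irreducible as soon as its base change to a separable
algebraic closure of k is irreducible. -/
theorem result (k : Type u) [Field k] (X : Scheme.{u}) [X.Over (Spec (CommRingCat.of k))]
    [IrreducibleSpace (Curv2.bc k X (SeparableClosure k))] :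
    GeometricallyIrreducible (X ↘ (Spec (CommRingCat.of k))) := by
  set f := X ↘ (Spec (CommRingCat.of k)) with hf
  haveI hbc : IrreducibleSpace ↥(pullback f (Spec.map (CommRingCat.ofHom
      (algebraMap k (SeparableClosure k))))) := ‹_›
  haveI : Nonempty X := ⟨(pullback.fst f (Spec.map (CommRingCat.ofHom
      (algebraMap k (SeparableClosure k))))) (Nonempty.some inferInstance)⟩
  haveI : IrreducibleSpace X := by
    rw [irreducibleSpace_def]
    show IsIrreducible (Set.univ : Set X)
    rw [← Set.range_eq_univ.mpr (GeomIrrGen.surjective_fst f (Spec.map (CommRingCat.ofHom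
      (algebraMap k (SeparableClosure k))))), ← Set.image_univ]
    exact (IrreducibleSpace.isIrreducible_univ _).image _
      (pullback.fst f _).continuous.continuousOn
  letI : Algebra k (X.residueField (genericPoint X)) :=
    (GeomIrrGen.resMap f (genericPoint X)).toAlgebra
  have hsep : ∀ α : X.residueField (genericPoint X), IsSeparable k α →
      α ∈ Set.range (algebraMap k (X.residueField (genericPoint X))) := by
    intro α hα
    have hT := GeomIrrGen.irreducibleSpace_tensor_of_bc f (SeparableClosure k)
    have hdeg : (minpoly k α).degree ≠ 0 :=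
      (Polynomial.degree_pos_of_irreducible (minpoly.irreducible hα.isIntegral)).ne'
    obtain ⟨β, hβ⟩ := IsSepClosed.exists_aeval_eq_zero (SeparableClosure k) (minpoly k α) hdeg hα
    let ψ : AdjoinRoot (minpoly k α) →ₐ[k] SeparableClosure k :=
      AdjoinRoot.liftAlgHom (minpoly k α) (Algebra.ofId k (SeparableClosure k)) β (by
        rwa [Polynomial.aeval_def] at hβ)
    exact GeomIrrAlg.mem_range_of_irreducible_tensor α hα ψ hT
  refine GeomIrrGen.geometricallyIrreducible_of_generic f ?_
  exact Groth.Agent.Lib.Helper22.SchGeomConn.geometricallyIrreducible_specMap_of_sepClosedIn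
    (k := k) (F := X.residueField (genericPoint X)) hsep

end Groth.Agent.S1538
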