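import Groth.Statements.S10918
import Mathlib
import Groth.Agent.Lib.Helper21.DepthKit12
import Groth.Agent.S10834

set_option autoImplicit false
universe u
open CInt

namespace Groth.Agent.S10918

open IsLocalRing Module Pointwise RingTheory.Sequence
open Groth.Agent.Lib.Helper21.DepthKit

attribute [local instance] MvPolynomial.gradedAlgebra

section
variable {R : Type u} [CommRing R]

/-- `dim R/I ≤ dim R - ht I`. -/
theorem ringKrullDim_quotient_le_sub (d r : ℕ) (hd : ringKrullDim R = d) (I : Ideal R)
    (hr : (r : ℕ∞) ≤ I.height) : ringKrullDim (R ⧸ I) ≤ ((d - r : ℕ) : WithBot ℕ∞) := by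
  rw [ringKrullDim_quotient, Order.krullDim_eq_iSup_coheight]
  refine iSup_le fun a => ?_
  have h1 : Order.coheight a ≤ Order.coheight a.1 :=
    Order.coheight_le_coheight_apply_of_strictMono Subtype.val (fun _ _ h => h) a
  have h2 : (r : ℕ∞) ≤ Order.height a.1 := by
    rw [← PrimeSpectrum.height_eq_orderHeight]
    exact hr.trans (Ideal.height_mono ((PrimeSpectrum.mem_zeroLocus _ _).1 a.2))
  haveI : Nonempty (PrimeSpectrum R) := ⟨a.1⟩
  have h3 : ((Order.height a.1 + Order.coheight a.1 : ℕ∞) : WithBot ℕ∞) ≤ (d : WithBot ℕ∞) := by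
    rw [← hd, ringKrullDim, Order.krullDim_eq_iSup_height_add_coheight_of_nonempty (α := PrimeSpectrum R)]
    exact WithBot.coe_le_coe.2
      (le_iSup (fun b : PrimeSpectrum R => Order.height b + Order.coheight b) a.1)
  have h4 : Order.height a.1 + Order.coheight a.1 ≤ (d : ℕ∞) := by exact_mod_cast h3
  have h5 : Order.coheight a ≤ ((d - r : ℕ) : ℕ∞) := by
    have h6 : (r : ℕ∞) + Order.coheight a.1 ≤ (d : ℕ∞) :=
      (add_le_add_left h2 _).trans h4
    have h7 := ENat.le_sub_of_add_le_left (ENat.coe_ne_top r) h6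
    exact h1.trans (by simpa using h7)
  calc (Order.coheight a : WithBot ℕ∞) ≤ (((d - r : ℕ) : ℕ∞) : WithBot ℕ∞) :=
        WithBot.coe_le_coe.2 h5
    _ = _ := rfl

end

section
variable {R : Type u} [CommRing R] [IsLocalRing R] [IsNoetherianRing R]

/-- In a CM local ring, a sequence `xs` in the maximal ideal with `ht (xs) ≥ length xs` has CM
quotient of dimension `dim R - length xs`. -/
theorem isCM_quot_of_height (hR : LocCoh.IsCohenMacaulayModule R R) (xs : List R)
    (hm : ∀ x ∈ xs, x ∈ maximalIdeal R) (hht : (xs.length : ℕ∞) ≤ (Ideal.ofList xs).height) :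
    LocCoh.IsCohenMacaulayModule R (R ⧸ (Ideal.ofList xs • ⊤ : Submodule R R)) ∧
      supportDim R (R ⧸ (Ideal.ofList xs • ⊤ : Submodule R R)) + xs.length = supportDim R R := by
  obtain ⟨d, hd⟩ := exists_nat_supportDim (A := R) (M := R)
  have hd' : ringKrullDim R = d := by rw [← supportDim_self_eq_ringKrullDim, hd]
  have h1 := ringKrullDim_quotient_le_sub d xs.length hd' (Ideal.ofList xs) hht
  have heq : (Ideal.ofList xs • ⊤ : Submodule R R) = Ideal.ofList xs := by simp
  have h2 : supportDim R (R ⧸ (Ideal.ofList xs • ⊤ : Submodule R R)) =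
      ringKrullDim (R ⧸ Ideal.ofList xs) := by
    rw [supportDim_eq_of_equiv (Submodule.quotEquivOfEq _ _ heq),
      Module.supportDim_quotient_eq_ringKrullDim]
  have h3 := supportDim_le_quot_ofList_add_length xs R hm
  rw [h2, hd] at h3
  have hrd : xs.length ≤ d := by
    have hle : Ideal.ofList xs ≤ maximalIdeal R := Ideal.span_le.2 (fun x hx => hm x hx)
    have h5 := hht.trans (Ideal.height_mono hle)
    rw [← WithBot.coe_le_coe, IsLocalRing.maximalIdeal_height_eq_ringKrullDim, hd'] at h5
    exact_mod_cast h5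
  have h4 : ringKrullDim (R ⧸ Ideal.ofList xs) + (xs.length : WithBot ℕ∞) = (d : WithBot ℕ∞) := by
    generalize ringKrullDim (R ⧸ Ideal.ofList xs) = D at h1 h3 ⊢
    induction D using WithBot.recBotCoe with
    | bot => simp at h3
    | coe n =>
      have hn : n ≤ ((d - xs.length : ℕ) : ℕ∞) := by
        have : ((n : ℕ∞) : WithBot ℕ∞) ≤ (((d - xs.length : ℕ) : ℕ∞) : WithBot ℕ∞) := h1
        exact WithBot.coe_le_coe.1 this
      lift n to ℕ using ne_top_of_le_ne_top (ENat.coe_ne_top _) hn
      have h1' : n ≤ d - xs.length := by exact_mod_cast hn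
      have h3' : d ≤ n + xs.length := by exact_mod_cast h3
      have : n + xs.length = d := by omega
      exact_mod_cast this
  have h6 : supportDim R (R ⧸ (Ideal.ofList xs • ⊤ : Submodule R R)) + xs.length =
      supportDim R R := by rw [h2, h4, hd]
  refine ⟨?_, h6⟩
  have hreg := isWeaklyRegular_of_supportDim_drop xs R hR hm h6
  exact isCM_quot_ofList xs R hR hm hreg

end

section
variable {A : Type u} [CommRing A] [IsNoetherianRing A]

theorem height_le_height_map (q : Ideal A) [q.IsPrime] (I : Ideal A) :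
    I.height ≤ (I.map (algebraMap A (Localization.AtPrime q))).height := by
  rw [← IsLocalization.height_under q.primeCompl (I.map (algebraMap A (Localization.AtPrime q)))]
  exact Ideal.height_mono Ideal.le_comap_map

/-- `(A/(xs))_q ≃ A_q/(xs)A_q` as `A_q`-modules. -/
noncomputable def locQuotEquiv (q : Ideal A) [q.IsPrime] (xs : List A) :
    (Localization.AtPrime q ⧸ (Ideal.ofList (xs.map (algebraMap A (Localization.AtPrime q))) • ⊤ :
        Submodule (Localization.AtPrime q) (Localization.AtPrime q)))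
      ≃ₗ[Localization.AtPrime q] LocalizedModule q.primeCompl (A ⧸ Ideal.ofList xs) := by
  have heq : (Ideal.ofList xs • ⊤ : Submodule A A) = Ideal.ofList xs := by simp
  let e1 : (A ⧸ (Ideal.ofList xs • ⊤ : Submodule A A)) ≃ₗ[A] (A ⧸ Ideal.ofList xs) :=
    Submodule.quotEquivOfEq _ _ heq
  let e1L : LocalizedModule q.primeCompl (A ⧸ (Ideal.ofList xs • ⊤ : Submodule A A))
      ≃ₗ[Localization.AtPrime q] LocalizedModule q.primeCompl (A ⧸ Ideal.ofList xs) :=
    IsLocalizedModule.mapEquiv q.primeCompl
      (LocalizedModule.mkLinearMap q.primeCompl (A ⧸ (Ideal.ofList xs • ⊤ : Submodule A A)))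
      (LocalizedModule.mkLinearMap q.primeCompl (A ⧸ Ideal.ofList xs)) (Localization.AtPrime q) e1
  let e2 : (Localization.AtPrime q ⧸
        (Ideal.ofList (xs.map (algebraMap A (Localization.AtPrime q))) • ⊤ :
          Submodule (Localization.AtPrime q) (Localization.AtPrime q)))
      ≃ₗ[Localization.AtPrime q]
      (LocalizedModule q.primeCompl A ⧸
        (Ideal.ofList (xs.map (algebraMap A (Localization.AtPrime q))) • ⊤ :
          Submodule (Localization.AtPrime q) (LocalizedModule q.primeCompl A))) :=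
    Submodule.Quotient.equiv _ _ (Groth.Agent.S6880.locSelfEquiv q).symm
      (by rw [Submodule.map_smul'', Submodule.map_top, LinearEquiv.range])
  exact e2 ≪≫ₗ localizedQuotOfListEquiv (M := A) q xs ≪≫ₗ e1L

theorem isCM_localized_quot_ofList (q : Ideal A) [q.IsPrime]
    (hR : LocCoh.IsCohenMacaulayModule (Localization.AtPrime q) (Localization.AtPrime q))
    (xs : List A) (hm : ∀ x ∈ xs, x ∈ q) (hht : (xs.length : ℕ∞) ≤ (Ideal.ofList xs).height) :
    LocCoh.IsCohenMacaulayModule (Localization.AtPrime q)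
      (LocalizedModule q.primeCompl (A ⧸ Ideal.ofList xs)) ∧
    supportDim (Localization.AtPrime q) (LocalizedModule q.primeCompl (A ⧸ Ideal.ofList xs)) +
      xs.length = ((q.height : ℕ∞) : WithBot ℕ∞) := by
  have hmL : ∀ y ∈ xs.map (algebraMap A (Localization.AtPrime q)),
      y ∈ maximalIdeal (Localization.AtPrime q) := by
    intro y hy
    obtain ⟨x, hx, rfl⟩ := List.mem_map.1 hy
    exact (IsLocalization.AtPrime.to_map_mem_maximal_iff _ q x).2 (hm x hx)
  have hhtL : ((xs.map (algebraMap A (Localization.AtPrime q))).length : ℕ∞) ≤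
      (Ideal.ofList (xs.map (algebraMap A (Localization.AtPrime q)))).height := by
    rw [List.length_map, ← Ideal.map_ofList]
    exact hht.trans (height_le_height_map q _)
  obtain ⟨h1, h2⟩ := isCM_quot_of_height hR _ hmL hhtL
  refine ⟨isCM_congr (locQuotEquiv q xs) h1, ?_⟩
  rw [← supportDim_eq_of_equiv (locQuotEquiv q xs)]
  rw [List.length_map] at h2
  rw [h2, supportDim_self_eq_ringKrullDim, IsLocalization.AtPrime.ringKrullDim_eq_height q]

/-- complete intersection in a regular ring: CM at every prime, and heights drop by `r`. -/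
theorem quot_ofList_facts
    (hreg : ∀ (p : Ideal A) (_ : p.IsPrime), IsRegularLocalRing (Localization.AtPrime p))
    (xs : List A) (hht : (xs.length : ℕ∞) ≤ (Ideal.ofList xs).height)
    (P : Ideal (A ⧸ Ideal.ofList xs)) [P.IsPrime] :
    LocCoh.IsCohenMacaulayModule (Localization.AtPrime P)
      (LocalizedModule P.primeCompl (A ⧸ Ideal.ofList xs)) ∧
    P.height + xs.length = (P.comap (algebraMap A (A ⧸ Ideal.ofList xs))).height := by
  have hs : Function.Surjective (algebraMap A (A ⧸ Ideal.ofList xs)) :=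
    Ideal.Quotient.mk_surjective
  haveI hqp : (P.comap (algebraMap A (A ⧸ Ideal.ofList xs))).IsPrime := Ideal.comap_isPrime _ P
  haveI := hreg _ hqp
  have hm : ∀ x ∈ xs, x ∈ P.comap (algebraMap A (A ⧸ Ideal.ofList xs)) := by
    intro x hx
    have hxJ : x ∈ Ideal.ofList xs := Ideal.subset_span hx
    rw [Ideal.mem_comap, Ideal.Quotient.algebraMap_eq, Ideal.Quotient.eq_zero_iff_mem.2 hxJ]
    exact P.zero_mem
  obtain ⟨hcm, hdim⟩ := isCM_localized_quot_ofList _
    (Groth.Agent.S10834.isCM_of_isRegularLocalRing _) xs hm hht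
  unfold LocCoh.IsCohenMacaulayModule at hcm ⊢
  rw [supportDim_localization_of_surjective (N := A ⧸ Ideal.ofList xs) hs P] at hcm hdim
  rw [depth_localization_of_surjective (N := A ⧸ Ideal.ofList xs) hs P] at hcm
  refine ⟨hcm, ?_⟩
  rw [Groth.Agent.S2659.supportDim_locSelf P] at hdim
  exact_mod_cast hdim

theorem hasSk_quot_ofList
    (hreg : ∀ (p : Ideal A) (_ : p.IsPrime), IsRegularLocalRing (Localization.AtPrime p))
    (xs : List A) (hht : (xs.length : ℕ∞) ≤ (Ideal.ofList xs).height) (k : ℕ) :
    LocCoh.HasSk k (A ⧸ Ideal.ofList xs) (A ⧸ Ideal.ofList xs) := by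
  intro P hP
  have hcm := (quot_ofList_facts hreg xs hht P).1
  unfold LocCoh.IsCohenMacaulayModule at hcm
  rw [hcm]
  exact min_le_right _ _

end

section
variable {k : Type u} [Field k] {m : ℕ}

/-- kill the first `i` variables -/
noncomputable def killFirst (k : Type u) [Field k] (m i : ℕ) :
    MvPolynomial (Fin m) k →ₐ[k] MvPolynomial (Fin m) k :=
  MvPolynomial.aeval (fun j : Fin m => if (j : ℕ) < i then 0 else MvPolynomial.X j)

theorem killFirst_X (i : ℕ) (j : Fin m) :
    killFirst k m i (MvPolynomial.X j) = if (j : ℕ) < i then 0 else MvPolynomial.X j := by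
  simp [killFirst]

theorem killFirst_comp (i : ℕ) (p : MvPolynomial (Fin m) k) :
    killFirst k m (i + 1) (killFirst k m i p) = killFirst k m (i + 1) p := by
  have : (killFirst k m (i + 1)).comp (killFirst k m i) = killFirst k m (i + 1) := by
    apply MvPolynomial.algHom_ext
    intro j
    rw [AlgHom.comp_apply, killFirst_X, killFirst_X]
    split_ifs with h1 h2 h2
    · simp
    · omega
    · rw [killFirst_X, if_pos h2]
    · rw [killFirst_X, if_neg h2]
  exact congrArg (fun f => f p) this

theorem ker_killFirst_lt (i : ℕ) (hi : i < m) :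
    RingHom.ker (killFirst k m i) < RingHom.ker (killFirst k m (i + 1)) := by
  refine lt_of_le_of_ne ?_ ?_
  · intro p hp
    rw [RingHom.mem_ker] at hp ⊢
    rw [← killFirst_comp, hp, map_zero]
  · intro h
    have h1 : (MvPolynomial.X ⟨i, hi⟩ : MvPolynomial (Fin m) k) ∈
        RingHom.ker (killFirst k m (i + 1)) := by
      rw [RingHom.mem_ker, killFirst_X, if_pos (by simp)]
    rw [← h, RingHom.mem_ker, killFirst_X, if_neg (by simp)] at h1
    exact MvPolynomial.X_ne_zero _ h1

theorem sub_killFirst_mem (q : Ideal (MvPolynomial (Fin m) k))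
    (hq : ∀ j, (MvPolynomial.X j : MvPolynomial (Fin m) k) ∈ q) (p : MvPolynomial (Fin m) k) :
    p - killFirst k m m p ∈ q := by
  induction p using MvPolynomial.induction_on with
  | C a => simp [killFirst]
  | add p₁ p₂ h₁ h₂ =>
    have : p₁ + p₂ - killFirst k m m (p₁ + p₂) =
      (p₁ - killFirst k m m p₁) + (p₂ - killFirst k m m p₂) := by rw [map_add]; ring
    rw [this]; exact q.add_mem h₁ h₂
  | mul_X p j h =>
    rw [map_mul, killFirst_X, if_pos j.2, mul_zero, sub_zero]
    exact q.mul_mem_left _ (hq j)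

/-- a prime of `k[x_0..x_{m-1}]` containing all the variables has height at least `m`. -/
theorem le_height_of_X_mem (q : Ideal (MvPolynomial (Fin m) k)) [hqp : q.IsPrime]
    (hq : ∀ j, (MvPolynomial.X j : MvPolynomial (Fin m) k) ∈ q) : (m : ℕ∞) ≤ q.height := by
  let f : Fin (m + 1) → PrimeSpectrum (MvPolynomial (Fin m) k) := fun i =>
    ⟨RingHom.ker (killFirst k m i), RingHom.ker_isPrime _⟩
  have hf : StrictMono f := by
    rw [Fin.strictMono_iff_lt_succ]
    intro i
    exact ker_killFirst_lt (i : ℕ) i.2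
  let s : LTSeries (PrimeSpectrum (MvPolynomial (Fin m) k)) := LTSeries.mk m f hf
  have hlast : s.last ≤ ⟨q, hqp⟩ := by
    show RingHom.ker (killFirst k m ((Fin.last m : Fin (m+1)) : ℕ)) ≤ q
    intro p hp
    rw [RingHom.mem_ker] at hp
    have := sub_killFirst_mem q hq p
    have hp' : killFirst k m m p = 0 := by simpa using hp
    rwa [hp', sub_zero] at this
  have := Order.length_le_height hlast
  have h2 := PrimeSpectrum.height_eq_orderHeight (⟨q, hqp⟩ : PrimeSpectrum _)
  simp only at h2
  rw [h2]
  exact this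

end

section Homog
variable {σ : Type} {k : Type u} [Field k]

/-- minimal primes over a homogeneous ideal of `k[σ]` lie in the irrelevant ideal. -/
theorem constantCoeff_eq_zero_of_mem_minimalPrimes (J : Ideal (MvPolynomial σ k))
    (hJ : J.IsHomogeneous (MvPolynomial.homogeneousSubmodule σ k))
    (P : Ideal (MvPolynomial σ k)) (hP : P ∈ J.minimalPrimes) (p : MvPolynomial σ k)
    (hp : p ∈ P) : MvPolynomial.constantCoeff p = 0 := by
  have hPp : P.IsPrime := hP.1.1
  have hcore : (P.homogeneousCore (MvPolynomial.homogeneousSubmodule σ k)).toIdeal.IsPrime :=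
    hPp.homogeneousCore
  have h1 : J ≤ (P.homogeneousCore (MvPolynomial.homogeneousSubmodule σ k)).toIdeal := by
    rw [← hJ.toIdeal_homogeneousCore_eq_self]
    exact Ideal.homogeneousCore_mono (MvPolynomial.homogeneousSubmodule σ k) hP.1.2
  have h2 : P ≤ (P.homogeneousCore (MvPolynomial.homogeneousSubmodule σ k)).toIdeal :=
    hP.2 ⟨hcore, h1⟩ (Ideal.toIdeal_homogeneousCore_le _ P)
  have hPh : P.IsHomogeneous (MvPolynomial.homogeneousSubmodule σ k) := by
    have : (P.homogeneousCore (MvPolynomial.homogeneousSubmodule σ k)).toIdeal = P :=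
      le_antisymm (Ideal.toIdeal_homogeneousCore_le _ P) h2
    rw [← this]
    exact (P.homogeneousCore (MvPolynomial.homogeneousSubmodule σ k)).isHomogeneous
  have h3 := MvPolynomial.homogeneousComponent_mem_of_mem hPh hp 0
  rw [MvPolynomial.homogeneousComponent_zero] at h3
  by_contra hne
  apply hPp.ne_top
  rw [Ideal.eq_top_iff_one]
  have hne' : MvPolynomial.coeff 0 p ≠ 0 := hne
  have : (1 : MvPolynomial σ k) =
      MvPolynomial.C (MvPolynomial.coeff 0 p)⁻¹ * MvPolynomial.C (MvPolynomial.coeff 0 p) := by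
    rw [← MvPolynomial.C_mul, inv_mul_cancel₀ hne', MvPolynomial.C_1]
  rw [this]
  exact P.mul_mem_left _ h3

theorem isHomogeneous_span_range {r : ℕ} (f : Fin r → MvPolynomial σ k) (d : Fin r → ℕ)
    (hf : ∀ i, (f i).IsHomogeneous (d i)) :
    (Ideal.span (Set.range f)).IsHomogeneous (MvPolynomial.homogeneousSubmodule σ k) := by
  apply Ideal.homogeneous_span
  rintro _ ⟨i, rfl⟩
  exact ⟨d i, hf i⟩

end Homog

/-- a Noetherian normal local domain of dimension at most one is regular. -/
theorem isRegularLocalRing_of_normal_of_height_le_one (R : Type u) [CommRing R] [IsDomain R]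
    [IsNoetherianRing R] [IsLocalRing R] [IsIntegrallyClosed R]
    (h : (maximalIdeal R).height ≤ 1) : IsRegularLocalRing R := by
  have h1 : ∀ P : Ideal R, P ≠ ⊥ → P.IsPrime → P = maximalIdeal R := by
    intro P hP0 hPp
    by_contra hne
    have hlt : P < maximalIdeal R := lt_of_le_of_ne (le_maximalIdeal hPp.ne_top) hne
    have hbot : (⊥ : Ideal R) < P := bot_lt_iff_ne_bot.2 hP0
    have h2 := Ideal.height_add_one_le_of_lt_of_isPrime hlt
    have h3 := Ideal.height_add_one_le_of_lt_of_isPrime hbot
    have h4 : (2 : ℕ∞) ≤ 1 := by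
      calc (2 : ℕ∞) = 0 + 1 + 1 := by norm_num
        _ ≤ (⊥ : Ideal R).height + 1 + 1 := by gcongr; exact zero_le
        _ ≤ P.height + 1 := by gcongr
        _ ≤ (maximalIdeal R).height := h2
        _ ≤ 1 := h
    norm_num at h4
  have htfae := (tfae_of_isNoetherianRing_of_isLocalRing_of_isDomain (R := R)).out 3 0
  haveI : IsPrincipalIdealRing R := htfae.1 ⟨inferInstance, h1⟩
  infer_instance

section Core
variable (k : Type u) [Field k] (n r : ℕ)

theorem core (hr : r < n) (J : Ideal (MvPolynomial (Fin (n + 1)) k))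
    (xs : List (MvPolynomial (Fin (n + 1)) k)) (hJxs : J = Ideal.ofList xs) (hlen : xs.length = r)
    (hJh : J.IsHomogeneous (MvPolynomial.homogeneousSubmodule (Fin (n + 1)) k))
    (hJ : J.height = r)
    (hnorm : ∀ (Q : Ideal (MvPolynomial (Fin (n + 1)) k ⧸ J)) [Q.IsPrime],
      (∃ i, Ideal.Quotient.mk J (MvPolynomial.X i) ∉ Q) →
        IsDomain (Localization.AtPrime Q) ∧ IsIntegrallyClosed (Localization.AtPrime Q)) :
    IsDomain (MvPolynomial (Fin (n + 1)) k ⧸ J) ∧
      IsIntegrallyClosed (MvPolynomial (Fin (n + 1)) k ⧸ J) := by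
  subst hJxs
  have hreg : ∀ (p : Ideal (MvPolynomial (Fin (n + 1)) k)) (_ : p.IsPrime),
      IsRegularLocalRing (Localization.AtPrime p) := fun p hp => inferInstance
  have hht : (xs.length : ℕ∞) ≤ (Ideal.ofList xs).height := by rw [hJ, hlen]
  have hSk := hasSk_quot_ofList hreg xs hht 2
  have hRk : LocCoh.HasRk 1 (MvPolynomial (Fin (n + 1)) k ⧸ Ideal.ofList xs) := by
    intro Q hQ hQ1
    have hQ1' : Q.height ≤ 1 := by exact_mod_cast hQ1
    have hex : ∃ i, Ideal.Quotient.mk (Ideal.ofList xs) (MvPolynomial.X i) ∉ Q := by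
      by_contra hall
      push Not at hall
      haveI : (Q.comap (algebraMap (MvPolynomial (Fin (n + 1)) k)
          (MvPolynomial (Fin (n + 1)) k ⧸ Ideal.ofList xs))).IsPrime := Ideal.comap_isPrime _ Q
      have h1 := le_height_of_X_mem (Q.comap (algebraMap (MvPolynomial (Fin (n + 1)) k)
          (MvPolynomial (Fin (n + 1)) k ⧸ Ideal.ofList xs))) (fun j => hall j)
      have h2 := (quot_ofList_facts hreg xs hht Q).2
      rw [← h2, hlen] at h1
      have h3 : ((n + 1 : ℕ) : ℕ∞) ≤ 1 + r := h1.trans (add_le_add_left hQ1' _)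
      have h4 : n + 1 ≤ 1 + r := by exact_mod_cast h3
      omega
    obtain ⟨hdom, hic⟩ := hnorm Q hex
    apply isRegularLocalRing_of_normal_of_height_le_one
    rw [← WithBot.coe_le_coe, IsLocalRing.maximalIdeal_height_eq_ringKrullDim,
      IsLocalization.AtPrime.ringKrullDim_eq_height Q]
    exact_mod_cast hQ1'
  have hall := (Groth.Agent.S0601.result (MvPolynomial (Fin (n + 1)) k ⧸ Ideal.ofList xs)).2
    ⟨hRk, hSk⟩
  -- notation
  set S' := MvPolynomial (Fin (n + 1)) k ⧸ Ideal.ofList xs with hS'
  -- `S'` is reduced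
  haveI hred : IsReduced S' := by
    apply isReduced_ofLocalizationMaximal
    intro P hP
    haveI := (hall P).1
    infer_instance
  -- the irrelevant ideal
  let m : Ideal (MvPolynomial (Fin (n + 1)) k) :=
    RingHom.ker (MvPolynomial.constantCoeff : MvPolynomial (Fin (n + 1)) k →+* k)
  haveI hmmax : m.IsMaximal := RingHom.ker_isMaximal_of_surjective _
    (fun a => ⟨MvPolynomial.C a, MvPolynomial.constantCoeff_C _ a⟩)
  have hJtop : Ideal.ofList xs ≠ ⊤ := by
    intro h
    rw [h, Ideal.height_top] at hJ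
    exact ENat.top_ne_coe r hJ
  obtain ⟨P₀, hP₀⟩ := Ideal.nonempty_minimalPrimes hJtop
  have hJm : Ideal.ofList xs ≤ m := fun p hp =>
    constantCoeff_eq_zero_of_mem_minimalPrimes _ hJh P₀ hP₀ p (hP₀.1.2 hp)
  have hsurj : Function.Surjective (Ideal.Quotient.mk (Ideal.ofList xs)) :=
    Ideal.Quotient.mk_surjective
  haveI hm'p : (m.map (Ideal.Quotient.mk (Ideal.ofList xs))).IsPrime :=
    Ideal.map_isPrime_of_surjective hsurj (by rw [Ideal.mk_ker]; exact hJm)
  -- minimal primes of `S'` lie in `m'`
  have hmin : ∀ P' ∈ minimalPrimes S', P' ≤ m.map (Ideal.Quotient.mk (Ideal.ofList xs)) := by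
    intro P' hP' y hy
    obtain ⟨a, rfl⟩ := hsurj y
    have h1 : P'.comap (Ideal.Quotient.mk (Ideal.ofList xs)) ∈ (Ideal.ofList xs).minimalPrimes := by
      rw [Ideal.minimalPrimes_eq_comap]
      exact ⟨P', hP', rfl⟩
    have h2 := constantCoeff_eq_zero_of_mem_minimalPrimes _ hJh _ h1 a hy
    exact Ideal.mem_map_of_mem _ h2
  -- elements outside `m'` are non-zero-divisors
  have hnzd : (m.map (Ideal.Quotient.mk (Ideal.ofList xs))).primeCompl ≤ nonZeroDivisors S' := by
    intro s hs
    rw [mem_nonZeroDivisors_iff_right]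
    intro y hy
    have h0 : y ∈ sInf (minimalPrimes S') := by
      rw [Ideal.mem_sInf]
      intro P' hP'
      haveI : P'.IsPrime := hP'.1.1
      have : y * s ∈ P' := by rw [hy]; exact P'.zero_mem
      rcases Ideal.IsPrime.mem_or_mem ‹_› this with h | h
      · exact h
      · exact absurd (hmin P' hP' h) hs
    rw [minimalPrimes, Ideal.sInf_minimalPrimes] at h0
    have h1 : IsNilpotent y := by
      rwa [← mem_nilradical, nilradical]
    exact IsReduced.eq_zero _ h1
  haveI hdomL := (hall (m.map (Ideal.Quotient.mk (Ideal.ofList xs)))).1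
  have hinj : Function.Injective (algebraMap S'
      (Localization.AtPrime (m.map (Ideal.Quotient.mk (Ideal.ofList xs))))) :=
    IsLocalization.injective (Localization.AtPrime (m.map (Ideal.Quotient.mk (Ideal.ofList xs)))) hnzd
  haveI hdom : IsDomain S' := hinj.isDomain _
  refine ⟨hdom, ?_⟩
  exact IsIntegrallyClosed.of_localization_maximal fun p _ _ => (hall p).2

end Core


/-- Let k be a field, S = k[x_0, …, x_n], and f_1, …, f_r with r < n homogeneous polynomials of positive
degrees whose ideal J has height r, so that Y = V_+(J) ⊆ P^n_k is a global complete intersection of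
dimension n − r ≥ 1 with homogeneous coordinate ring S' = S/J. Suppose Y is normal, expressed on the
affine cone: for every prime ideal Q of S' not containing all the classes of the x_i (every point of
the cone Spec S' other than the vertex), the localization S'_Q is an integrally closed domain. Then
S' is an integrally closed domain, i.e. Y is projectively normal. -/
theorem result
    (k : Type u) [Field k] (n r : ℕ) (hr : r < n) (f : Fin r → MvPolynomial (Fin (n + 1)) k) (d : Fin r → ℕ)
    (hf : ∀ i, (f i).IsHomogeneous (d i)) (hd : ∀ i, 0 < d i)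
    (hJ : (Ideal.span (Set.range f)).height = r)
    (hnorm : ∀ (Q : Ideal (MvPolynomial (Fin (n + 1)) k ⧸ Ideal.span (Set.range f))) [Q.IsPrime],
      (∃ i, Ideal.Quotient.mk (Ideal.span (Set.range f)) (MvPolynomial.X i) ∉ Q) →
        IsDomain (Localization.AtPrime Q) ∧ IsIntegrallyClosed (Localization.AtPrime Q)) :
    IsDomain (MvPolynomial (Fin (n + 1)) k ⧸ Ideal.span (Set.range f)) ∧
      IsIntegrallyClosed (MvPolynomial (Fin (n + 1)) k ⧸ Ideal.span (Set.range f)) := by
  refine core k n r hr (Ideal.span (Set.range f)) (List.ofFn f) ?_ (List.length_ofFn) 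
    (isHomogeneous_span_range f d hf) hJ hnorm
  unfold Ideal.ofList
  congr 1
  ext x
  simp [List.mem_ofFn]

end Groth.Agent.S10918
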