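import Groth.Statements.S6332
-- import your own Groth.Agent.* helpers here

set_option autoImplicit false
universe u
open Fields

namespace Groth.Agent.S6332

open IntermediateField in
/-- Let L/K be a finite Galois extension of fields of characteristic p > 0 whose degree equals the prime
p (equivalently, the Galois group is cyclic of order p). Then there is an element z of L with z ^ p
- z in K which generates L over K. -/
theorem result {K L : Type u} [Field K] [Field L] [Algebra K L] (p : ℕ)
    [Fact p.Prime] [CharP K p] [FiniteDimensional K L] [IsGalois K L]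
    (hdeg : Module.finrank K L = p) :
    ∃ z : L, z ^ p - z ∈ Set.range (algebraMap K L) ∧ K⟮z⟯ = ⊤ := by
  classical
  have hp : p.Prime := Fact.out
  have hcard : Nat.card (L ≃ₐ[K] L) = p := by rw [IsGalois.card_aut_eq_finrank, hdeg]
  haveI : CharP L p := charP_of_injective_algebraMap (algebraMap K L).injective p
  have hnt : Nontrivial (L ≃ₐ[K] L) := by
    rw [← Finite.one_lt_card_iff_nontrivial, hcard]; exact hp.one_lt
  obtain ⟨σ, hσ⟩ := exists_ne (1 : L ≃ₐ[K] L)
  have htop : Subgroup.zpowers σ = ⊤ := zpowers_eq_top_of_prime_card hcard hσ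
  have hσp : σ ^ p = 1 := by rw [← hcard]; exact pow_card_eq_one'
  -- elements fixed by σ lie in K
  have hfix : ∀ x : L, σ x = x → x ∈ Set.range (algebraMap K L) := by
    intro x hx
    rw [IsGalois.mem_range_algebraMap_iff_fixed]
    intro τ
    have h1 : Subgroup.zpowers σ ≤ MulAction.stabilizer (L ≃ₐ[K] L) x := by
      rw [Subgroup.zpowers_le, MulAction.mem_stabilizer_iff]
      exact hx
    have h2 : τ ∈ MulAction.stabilizer (L ≃ₐ[K] L) x := h1 (htop ▸ Subgroup.mem_top τ)
    exact MulAction.mem_stabilizer_iff.mp h2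
  -- the nilpotent operator N = σ - 1
  let N : Module.End K L := σ.toLinearMap - 1
  haveI : CharP (Module.End K L) p :=
    charP_of_injective_algebraMap (algebraMap K (Module.End K L)).injective p
  have hNp : N ^ p = 0 := by
    have hc : Commute (σ.toLinearMap : Module.End K L) 1 := Commute.one_right _
    have h1 : (σ.toLinearMap : Module.End K L) ^ p = 1 := by
      ext x
      have : ∀ n : ℕ, ((σ.toLinearMap : Module.End K L) ^ n) x = (σ ^ n) x := by
        intro n
        induction n generalizing x with
        | zero => simp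
        | succ n ih => rw [pow_succ, Module.End.mul_apply, ih, pow_succ]; rfl
      rw [this, hσp]; rfl
    show (σ.toLinearMap - 1 : Module.End K L) ^ p = 0
    rw [sub_pow_char_of_commute (p := p) hc, h1, one_pow, sub_self]
  have hN1 : N ≠ 0 := by
    intro h
    apply hσ
    ext x
    have : N x = 0 := by rw [h]; rfl
    have h2 : σ x - x = 0 := this
    rw [sub_eq_zero] at h2
    simpa using h2
  -- find z with N z = 1
  have hex : ∃ j, N ^ j = 0 := ⟨p, hNp⟩
  have hj0 : Nat.find hex ≠ 0 := by
    intro h0
    have := Nat.find_spec hex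
    rw [h0, pow_zero] at this
    exact one_ne_zero this
  have hj1 : Nat.find hex ≠ 1 := by
    intro h1
    have := Nat.find_spec hex
    rw [h1, pow_one] at this
    exact hN1 this
  obtain ⟨j, hj⟩ : ∃ j, Nat.find hex = j + 2 := ⟨Nat.find hex - 2, by omega⟩
  have hjn : N ^ (j + 1) ≠ 0 := by
    have := Nat.find_min hex (m := j + 1) (by omega)
    exact this
  have hjz : N ^ (j + 2) = 0 := by rw [← hj]; exact Nat.find_spec hex
  obtain ⟨w, hw⟩ : ∃ w, (N ^ (j + 1)) w ≠ 0 := by
    by_contra hcon
    simp only [not_exists, not_not] at hcon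
    exact hjn (LinearMap.ext hcon)
  have hNu : N ((N ^ (j + 1)) w) = 0 := by
    rw [← Module.End.mul_apply, ← pow_succ', hjz]; rfl
  have hσu : σ ((N ^ (j + 1)) w) = (N ^ (j + 1)) w := by
    have h2 : σ ((N ^ (j + 1)) w) - (N ^ (j + 1)) w = 0 := hNu
    exact sub_eq_zero.mp h2
  obtain ⟨c, hc⟩ := hfix _ hσu
  have hc0 : c ≠ 0 := by
    rintro rfl
    rw [map_zero] at hc
    exact hw hc.symm
  let z : L := c⁻¹ • (N ^ j) w
  have hNz : N z = 1 := by
    show N (c⁻¹ • (N ^ j) w) = 1
    rw [map_smul, ← Module.End.mul_apply, ← pow_succ', ← hc, Algebra.smul_def, ← map_mul,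
      inv_mul_cancel₀ hc0, map_one]
  have hσz : σ z = z + 1 := by
    have h2 : σ z - z = 1 := hNz
    rw [← h2]; ring
  refine ⟨z, ?_, ?_⟩
  · apply hfix
    rw [map_sub, map_pow, hσz, add_pow_char, one_pow]
    ring
  · have hzK : z ∉ (⊥ : IntermediateField K L) := by
      intro hz
      rw [IsGalois.mem_bot_iff_fixed] at hz
      have := hz σ
      rw [hσz] at this
      simp at this
    have hne : K⟮z⟯ ≠ ⊥ := by
      intro h
      exact hzK (IntermediateField.adjoin_simple_eq_bot_iff.mp h)
    have hdvd : Module.finrank K K⟮z⟯ ∣ p := by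
      rw [← hdeg, ← Module.finrank_mul_finrank K K⟮z⟯ L]
      exact Dvd.intro _ rfl
    rcases (Nat.dvd_prime hp).mp hdvd with h1 | h1
    · exact absurd (IntermediateField.finrank_eq_one_iff.mp h1) hne
    · apply IntermediateField.eq_of_le_of_finrank_eq le_top
      rw [h1, IntermediateField.finrank_top', hdeg]

end Groth.Agent.S6332
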