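import Groth.Statements.S12600
import Groth.Agent.Lib.Helper18.Hasse.Span
open Groth.Agent.Lib.Helper18.Hasse Groth.Agent.Lib.Helper18.FF

set_option autoImplicit false
open FunFld

namespace Groth.Agent.S12600

/-- Over an algebraically closed constant field, for a linearly independent tuple `φ = (φ₀, …, φₙ)`, a
`k`-endomorphism `τ` and a total Hasse derivative `H`, there are exactly `n` `τ`-orders `j₁ < ⋯ <
jₙ` and the Wronskian `det [τ(φ) | D^(j₁) φ | ⋯ | D^(jₙ) φ]` is nonzero. -/
theorem result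
    (k K : Type*) [Field k] [IsAlgClosed k] [Field K] [Algebra k K]
    (hK : FunFld.IsFunctionField k K) {n : ℕ} (φ : Fin (n + 1) → K) (hφ : LinearIndependent k φ)
    (τ : K →ₐ[k] K) (s : K) (H : K →ₐ[k] PowerSeries K) (hH : LocRes.IsHasseFamily s H) :
    ∃ J : Fin n → ℕ, FunFld.IsOrders K (FunFld.hcol τ H φ) J ∧ (FunFld.wrMat τ H φ J).det ≠ 0 := by
  classical
  have hrank : Module.finrank K (Fin (n + 1) → K) = n + 1 := Module.finrank_fin_fun K
  have h0 : FunFld.hcol τ H φ 0 ≠ 0 := by
    intro h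
    have h1 : τ (φ 0) = 0 := congrFun h 0
    have h2 : φ 0 = 0 := (map_eq_zero_iff τ τ.toRingHom.injective).mp h1
    exact hφ.ne_zero 0 h2
  have hspan : Submodule.span K (Set.range (FunFld.hcol τ H φ)) = ⊤ := by
    rw [eq_top_iff, ← span_hasseD_eq_top hK φ hφ hH]
    apply Submodule.span_mono
    rintro _ ⟨j, rfl⟩
    exact ⟨j + 1, rfl⟩
  obtain ⟨J, hJ, hli⟩ := exists_isOrders_of_span_eq_top hrank _ h0 hspan
  refine ⟨J, hJ, ?_⟩
  have hcol : (FunFld.wrMat τ H φ J).col = fun col => FunFld.hcol τ H φ (idx J col) := by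
    funext col i
    induction col using Fin.cases with
    | zero => rfl
    | succ l => rfl
  have h1 : LinearIndependent K (FunFld.wrMat τ H φ J).col := by
    rw [hcol]
    exact hli
  have hu := Matrix.linearIndependent_cols_iff_isUnit.mp h1
  exact ((Matrix.isUnit_iff_isUnit_det _).mp hu).ne_zero

end Groth.Agent.S12600
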