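import Groth.Statements.S12607
import Groth.Agent.Lib.Helper18.Hasse.Adapted
open Groth.Agent.Lib.Helper18.Hasse Groth.Agent.Lib.Helper18.FF

set_option autoImplicit false
open FunFld

namespace Groth.Agent.S12607

/-- Over an algebraically closed constant field, let `φ = (φ₀, …, φₙ)` be an effective projective map
normalized at the place `P`, `t` a local parameter at `P` and `j'₁ < ⋯ < j'ₙ` the orders of `φ` at
`P`, `j'₀ = 0`. Then the span of `φ` has a basis `φ'₀, …, φ'ₙ` with `φ'ₗ = t^(j'ₗ) · (1 + higher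
order terms)` at `P`; in particular `j` is one of the `j'ₗ` exactly when some function in the span
of `φ` has order `j` at `P`. -/
theorem result
    (k K : Type*) [Field k] [IsAlgClosed k] [Field K] [Algebra k K]
    (hK : FunFld.IsFunctionField k K) (P : FunFld.Place k K) {n : ℕ} (φ : Fin (n + 1) → K) (hφ : LinearIndependent k φ)
    (heff : (1 : K) ∈ Submodule.span k (Set.range φ)) (hnorm : ∀ i, P.1 (φ i) ≤ 1)
    (t : K) (ht : P.1 t = WithZero.exp (-1))
    (Ht : K →ₐ[k] PowerSeries K) (hHt : LocRes.IsHasseFamily t Ht)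
    (J' : Fin n → ℕ) (hJ' : FunFld.IsOrders (IsLocalRing.ResidueField P.O) (FunFld.hcolAt P Ht φ) J') :
    (∃ φ' : Fin (n + 1) → K,
      Submodule.span k (Set.range φ') = Submodule.span k (Set.range φ) ∧
      P.1 (φ' 0) = 1 ∧ FunFld.evalP P (φ' 0) = 1 ∧
      ∀ l : Fin n, P.1 (φ' l.succ) = WithZero.exp (-(J' l : ℤ)) ∧
        FunFld.evalP P (φ' l.succ / t ^ J' l) = 1) ∧
    ∀ j : ℕ, (j = 0 ∨ j ∈ Set.range J') ↔
      ∃ f ∈ Submodule.span k (Set.range φ), P.1 f = WithZero.exp (-(j : ℤ)) := by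
  constructor
  · obtain ⟨φ', -, hspan, h0, hl⟩ := exists_adapted hK P ht hHt φ hφ heff hnorm J' hJ'
    refine ⟨φ', hspan, ?_, ?_, fun l => ⟨(hl l).2.1, (hl l).2.2⟩⟩
    · rw [h0, map_one]
    · rw [h0, evalP_one]
  · intro j
    constructor
    · rintro (rfl | hj)
      · refine ⟨1, heff, ?_⟩
        rw [map_one, Nat.cast_zero, neg_zero, WithZero.exp_zero]
      · exact ((isJump_hcolAt_succ_iff hK P ht hHt φ hnorm j).mp ((hJ'.2 j).mp hj)).2
    · rintro ⟨f, hfV, hf⟩
      rcases Nat.eq_zero_or_pos j with h | h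
      · exact Or.inl h
      · exact Or.inr ((hJ'.2 j).mpr
          ((isJump_hcolAt_succ_iff hK P ht hHt φ hnorm j).mpr ⟨h, f, hfV, hf⟩))

end Groth.Agent.S12607
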