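import Groth.Statements.S11070
import Groth.Agent.Lib.Helper18.FF.PlaneDegree
import Groth.Agent.Lib.Helper18.FF.PlaneSetup2
open Groth.Agent.Lib.Helper18.FF

set_option autoImplicit false
open FunFld

namespace Groth.Agent.S11070

/-- Over an algebraically closed constant field, a plane curve `V = V(f)` with natural map `(1 : x :
y)`, `K = k(x, y)`, has degree `deg V = deg f`: the degree of the divisor of the map `(1 : x : y)`
equals the total degree of the irreducible polynomial relation `f(x, y) = 0`. -/
theorem result
    (k K : Type*) [Field k] [IsAlgClosed k] [Field K] [Algebra k K]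
    (hK : FunFld.IsFunctionField k K) (x y : K)
    (hxy : IntermediateField.adjoin k ({x, y} : Set K) = ⊤) (f : MvPolynomial (Fin 2) k)
    (hf : Irreducible f) (hfxy : MvPolynomial.aeval ![x, y] f = 0) :
    (FunFld.mapDiv k ![(1 : K), x, y]).deg = f.totalDegree := by
  classical
  haveI : Infinite k := IsAlgClosed.instInfinite
  have hf0 : f ≠ 0 := hf.ne_zero
  have htop := topPoly_ne_zero hf0
  obtain ⟨c, hcS, hc⟩ := plane_exists_generic_avoiding hK x y (topPoly f).roots.toFinset
  have hceval : (topPoly f).eval c ≠ 0 := by
    intro h0
    apply hcS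
    rw [Multiset.mem_toFinset, Polynomial.mem_roots htop]
    exact h0
  obtain ⟨u, N, hu, -, hut, hEN, -, -, -, hminN⟩ := plane_setup_of hK x y hxy c hc
  have hg : Irreducible (shear c f) := irreducible_shear c hf
  have hgy : MvPolynomial.aeval ![u, y] (shear c f) = 0 := by
    rw [aeval_shear]
    have : u - c • y = x := by rw [hu]; ring
    rw [this]
    exact hfxy
  have hdeg := (bivariate_gauss hut hg hgy).2
  have h1 := natDegree_equivMvPolynomial_symm_le (shear c f)
  have h2 := totalDegree_shear_le c f
  have h3 := totalDegree_le_natDegree_shear c f hceval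
  rw [hEN]
  have : N = f.totalDegree := by
    rw [← hminN, hdeg]
    omega
  rw [this]

end Groth.Agent.S11070
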