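import Groth.Statements.S12615
import Groth.Agent.Lib.Helper18.Hasse.WDiv
open Groth.Agent.Lib.Helper18.Hasse Groth.Agent.Lib.Helper18.FF

set_option autoImplicit false
open FunFld

namespace Groth.Agent.S12615

/-- Over an algebraically closed constant field, let `P` be a fixed point of the `k`-endomorphism `τ`,
`φ` an effective projective map normalized at `P` with `τ`-orders `j₁, …, jₙ` and orders `j'₁, …,
j'ₙ` at `P`. Then the coefficient of the Weierstrass divisor `W(φ, τ)` at `P` is at least `Σ (j'ₗ -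
jₗ)`; if `τ = 1` or `P` is a strong fixed point, it equals `Σ (j'ₗ - jₗ)` exactly when the matrix of
binomial coefficients `(j'_r choose j_s)`, read in `k`, has nonzero determinant. The divisor of `dt`
in `W` is read through a family of Laurent expansions. -/
theorem result
    (k K : Type*) [Field k] [IsAlgClosed k] [Field K] [Algebra k K]
    (hK : FunFld.IsFunctionField k K) (τ : K →ₐ[k] K) (P : FunFld.Place k K) (hP : FunFld.IsFixedPt τ P)
    {n : ℕ} (φ : Fin (n + 1) → K) (hφ : LinearIndependent k φ)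
    (heff : (1 : K) ∈ Submodule.span k (Set.range φ)) (hnorm : ∀ i, P.1 (φ i) ≤ 1)
    (t : K) (ht : P.1 t = WithZero.exp (-1))
    (Ht : K →ₐ[k] PowerSeries K) (hHt : LocRes.IsHasseFamily t Ht)
    (J : Fin n → ℕ) (hJ : FunFld.IsOrders K (FunFld.hcol τ Ht φ) J)
    (J' : Fin n → ℕ) (hJ' : FunFld.IsOrders (IsLocalRing.ResidueField P.O) (FunFld.hcolAt P Ht φ) J')
    (Φ : FunFld.Place k K → (K →ₐ[k] LaurentSeries k))
    (hΦ : ∀ P : FunFld.Place k K, LocRes.IsExpansionAt P.1 (Φ P)) :
    (∑ l, ((J' l : ℤ) - J l)) ≤ FunFld.wDiv τ Ht Φ t φ J P ∧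
    ((τ = AlgHom.id k K ∨ FunFld.IsStrongFixedPt τ P) →
      (FunFld.wDiv τ Ht Φ t φ J P = ∑ l, ((J' l : ℤ) - J l) ↔ (FunFld.binomMat k J' J).det ≠ 0)) := by
  classical
  have hW := wr_local hK P ht hHt τ hP φ hφ heff hnorm J' hJ' J
  have hdetne := det_wrMat_ne_zero_of_isOrders τ Ht φ hφ J hJ
  rw [wDiv_apply_local hK P ht hHt τ hP φ heff hnorm J Φ (hΦ P)]
  rw [val_eq_exp_neg_ord P hdetne, WithZero.exp_le_exp, WithZero.exp_injective.eq_iff] at hW
  refine ⟨by have := hW.1; omega, fun hcase => ?_⟩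
  have hcase' : (∀ l, 0 < J l) ∨ FunFld.IsStrongFixedPt τ P := by
    rcases hcase with hτ | hs
    · left
      subst hτ
      have hc01 : FunFld.hcol (AlgHom.id k K) Ht φ 1 = FunFld.hcol (AlgHom.id k K) Ht φ 0 := by
        funext i
        change LocRes.hasseD Ht 0 (φ i) = φ i
        exact hasseD_zero hHt _
      intro l
      by_contra h
      have h0 : J l = 0 := by omega
      have hjump := (hJ.2 (J l)).mp ⟨l, rfl⟩
      rw [h0] at hjump
      apply hjump
      rw [zero_add, hc01]
      exact Submodule.subset_span ⟨0, by simp, rfl⟩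
    · exact Or.inr hs
  rw [← hW.2 hcase']
  constructor
  · intro h
    omega
  · intro h
    omega

end Groth.Agent.S12615
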