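import Groth.Statements.S11275
import Mathlib

set_option autoImplicit false
universe u
open W4bk4grassmannian

namespace Groth.Agent.S11275

open W4bk4grassmannian

/-- Laplace-type lemma: a determinant having `t` rows taken from `Z` lies in the ideal of
`t`-minors of `Z`. -/
theorem lap {R : Type u} [CommRing R] {r d : Type} [Fintype r] [Fintype d] (Z : Matrix r d R) (t : ℕ) :
    ∀ (m : ℕ) (N : Matrix (Fin m) (Fin m) R) (ρ : Fin t ↪ Fin m) (f : Fin t → r) (g : Fin m → d),
      (∀ k q, N (ρ k) q = Z (f k) (g q)) → N.det ∈ CAlgX.minorIdeal Z t := by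
  intro m
  induction m with
  | zero =>
    intro N ρ f g h
    have : N.submatrix ρ ρ = Z.submatrix f (g ∘ ρ) := by
      ext k q
      exact h k (ρ q)
    have hsurj : Function.Surjective ρ := fun p => p.elim0
    have e : Fin t ≃ Fin 0 := Equiv.ofBijective ρ ⟨ρ.injective, hsurj⟩
    have hdet : N.det = (N.submatrix ρ ρ).det := by
      have := Matrix.det_submatrix_equiv_self (Equiv.ofBijective ρ ⟨ρ.injective, hsurj⟩) N
      exact this.symm
    rw [hdet, this]
    exact Ideal.subset_span ⟨(f, g ∘ ρ), rfl⟩
  | succ m ih =>
    intro N ρ f g h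
    by_cases hsurj : Function.Surjective ρ
    · have : N.submatrix ρ ρ = Z.submatrix f (g ∘ ρ) := by
        ext k q
        exact h k (ρ q)
      have hdet : N.det = (N.submatrix ρ ρ).det := by
        have := Matrix.det_submatrix_equiv_self (Equiv.ofBijective ρ ⟨ρ.injective, hsurj⟩) N
        exact this.symm
      rw [hdet, this]
      exact Ideal.subset_span ⟨(f, g ∘ ρ), rfl⟩
    · rw [Function.Surjective] at hsurj
      push_neg at hsurj
      obtain ⟨p, hp⟩ := hsurj
      rw [Matrix.det_succ_row N p]
      apply Ideal.sum_mem
      intro q _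
      apply Ideal.mul_mem_left
      have hex : ∀ k, ∃ z, p.succAbove z = ρ k := fun k => Fin.exists_succAbove_eq (hp k)
      choose ρ' hρ' using hex
      have hinj : Function.Injective ρ' := by
        intro a b hab
        apply ρ.injective
        rw [← hρ' a, ← hρ' b, hab]
      apply ih (N.submatrix p.succAbove q.succAbove) ⟨ρ', hinj⟩ f (g ∘ q.succAbove)
      intro k q'
      simp only [Matrix.submatrix_apply, Function.Embedding.coeFn_mk, Function.comp_apply]
      rw [hρ' k]
      exact h k _

section Main

variable (K : Type u) [CommRing K] (d r t : ℕ)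

/-- intermediate generating set -/
def JSet : Set (CellRing K d r) :=
  {f | ∃ (a : Fin d → Fin (d + r)) (ρ : Fin t ↪ Fin d), (∀ k, d ≤ (a (ρ k)).val) ∧
    f = ((cellMatrix K d r).submatrix a id).det}

theorem cell_hi (i : Fin (d + r)) (j : Fin d) (h : d ≤ i.val) :
    cellMatrix K d r i j = genMatrix K r d ⟨i.val - d, by have := i.isLt; omega⟩ j := by
  simp only [cellMatrix, genMatrix, Matrix.of_apply]
  rw [dif_neg (by omega)]

theorem cell_lo (i : Fin (d + r)) (j : Fin d) (h : i.val < d) :
    cellMatrix K d r i j = if i.val = j.val then 1 else 0 := by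
  simp only [cellMatrix, Matrix.of_apply]
  rw [dif_pos h]

theorem J_le_minor : Ideal.span (JSet K d r t) ≤ CAlgX.minorIdeal (genMatrix K r d) t := by
  rw [Ideal.span_le]
  rintro _ ⟨a, ρ, ha, rfl⟩
  apply lap (genMatrix K r d) t d _ ρ (fun k => ⟨(a (ρ k)).val - d, by have := (a (ρ k)).isLt; have := ha k; omega⟩) id
  intro k q
  rw [Matrix.submatrix_apply, cell_hi K d r _ _ (ha k)]

/-- the embedding of the last `t` positions -/
def iota (htd : t ≤ d) : Fin t ↪ Fin d :=
  ⟨fun k => ⟨d - t + k.val, by have := k.isLt; omega⟩, fun a b h => by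
    apply Fin.ext
    have := congrArg Fin.val h
    simp only at this
    omega⟩

theorem L_le_J (hd : 0 < d) (ht : 0 < t) (htd : t ≤ d) :
    Ideal.span {f : CellRing K d r | ∃ θ : Idx d (d + r),
        d ≤ (θ.1 ⟨d - t, Nat.sub_lt hd ht⟩).val ∧ f = cellMinor K d r θ} ≤
      Ideal.span (JSet K d r t) := by
  rw [Ideal.span_le]
  rintro _ ⟨θ, hθ, rfl⟩
  apply Ideal.subset_span
  refine ⟨θ.1, iota d t htd, ?_, rfl⟩
  intro k
  have hmono : θ.1 ⟨d - t, Nat.sub_lt hd ht⟩ ≤ θ.1 (iota d t htd k) := by
    apply θ.2.monotone
    rw [Fin.le_def]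
    change d - t ≤ d - t + k.val
    omega
  exact le_trans hθ (Fin.le_def.mp hmono)

theorem sign_sq {R : Type*} [CommRing R] {n : Type*} [DecidableEq n] [Fintype n] (σ : Equiv.Perm n) :
    ((Equiv.Perm.sign σ : ℤˣ) : R) * ((Equiv.Perm.sign σ : ℤˣ) : R) = 1 := by
  rw [← Int.cast_mul, ← Units.val_mul, Int.units_mul_self]
  simp

theorem J_le_L (hd : 0 < d) (ht : 0 < t) (htd : t ≤ d) :
    Ideal.span (JSet K d r t) ≤
    Ideal.span {f : CellRing K d r | ∃ θ : Idx d (d + r),
        d ≤ (θ.1 ⟨d - t, Nat.sub_lt hd ht⟩).val ∧ f = cellMinor K d r θ} := by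
  rw [Ideal.span_le]
  rintro _ ⟨a, ρ, ha, rfl⟩
  by_cases hinj : Function.Injective a
  · let σ : Equiv.Perm (Fin d) := Tuple.sort a
    have hmono : Monotone (a ∘ σ) := Tuple.monotone_sort a
    have hsm : StrictMono (a ∘ σ) := hmono.strictMono_of_injective (hinj.comp σ.injective)
    let θ : Idx d (d + r) := ⟨a ∘ σ, hsm⟩
    have hdet : cellMinor K d r θ = ((Equiv.Perm.sign σ : ℤˣ) : CellRing K d r) *
        ((cellMatrix K d r).submatrix a id).det := by
      rw [← Matrix.det_permute]
      rfl
    have hdet' : ((cellMatrix K d r).submatrix a id).det =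
        ((Equiv.Perm.sign σ : ℤˣ) : CellRing K d r) * cellMinor K d r θ := by
      rw [hdet, ← mul_assoc, sign_sq, one_mul]
    rw [hdet']
    apply Ideal.mul_mem_left
    apply Ideal.subset_span
    refine ⟨θ, ?_, rfl⟩
    by_contra hlt
    push_neg at hlt
    -- positions of the big entries
    have hpos : ∀ k : Fin t, d - t < (σ.symm (ρ k)).val := by
      intro k
      by_contra hle
      push_neg at hle
      have h1 : θ.1 (σ.symm (ρ k)) ≤ θ.1 ⟨d - t, Nat.sub_lt hd ht⟩ :=
        hsm.monotone (Fin.le_def.mpr hle)
      have h2 : θ.1 (σ.symm (ρ k)) = a (ρ k) := by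
        change a (σ (σ.symm (ρ k))) = a (ρ k)
        rw [Equiv.apply_symm_apply]
      rw [h2] at h1
      have := ha k
      have := Fin.le_def.mp h1
      omega
    let φ : Fin t → Fin (t - 1) := fun k =>
      ⟨(σ.symm (ρ k)).val - (d - t + 1), by
        have := hpos k
        have := (σ.symm (ρ k)).isLt
        omega⟩
    have hφ : Function.Injective φ := by
      intro k l hkl
      have h1 := congrArg Fin.val hkl
      simp only [φ] at h1
      have h2 := hpos k
      have h3 := hpos l
      have : (σ.symm (ρ k)).val = (σ.symm (ρ l)).val := by omega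
      exact ρ.injective (σ.symm.injective (Fin.ext this))
    have := Fintype.card_le_of_injective φ hφ
    simp only [Fintype.card_fin] at this
    omega
  · have : ((cellMatrix K d r).submatrix a id).det = 0 := by
      rw [Function.Injective] at hinj
      push_neg at hinj
      obtain ⟨p, q, hpq, hne⟩ := hinj
      apply Matrix.det_zero_of_row_eq hne
      ext j
      simp [Matrix.submatrix_apply, hpq]
    rw [this]
    exact zero_mem _

theorem exists_perm (htd : t ≤ d) (g : Fin t → Fin d) (hg : Function.Injective g) :
    ∃ τ : Equiv.Perm (Fin d), ∀ k, τ (iota d t htd k) = g k := by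
  classical
  let f' : Fin d → Fin d := fun p =>
    if h : d - t ≤ p.val then g ⟨p.val - (d - t), by have := p.isLt; omega⟩ else p
  let s : Finset (Fin d) := Finset.univ.filter fun p => d - t ≤ p.val
  have hinj : Set.InjOn f' s := by
    intro p hp q hq hpq
    have hp' : d - t ≤ p.val := by simpa [s] using hp
    have hq' : d - t ≤ q.val := by simpa [s] using hq
    simp only [f', dif_pos hp', dif_pos hq'] at hpq
    have := congrArg Fin.val (hg hpq)
    simp only at this
    apply Fin.ext
    omega
  obtain ⟨g', hg'⟩ := Finset.exists_equiv_extend_of_card_eq (α := Fin d) (t := (Finset.univ : Finset (Fin d)))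
    (by simp) (s := s) (f := f') (Finset.subset_univ _) hinj
  refine ⟨g'.trans (Equiv.subtypeUnivEquiv (fun x => Finset.mem_univ x)), fun k => ?_⟩
  have hk : iota d t htd k ∈ s := by
    simp only [s, Finset.mem_filter, Finset.mem_univ, true_and]
    change d - t ≤ d - t + k.val
    omega
  rw [Equiv.trans_apply, Equiv.subtypeUnivEquiv_apply, hg' _ hk]
  have hk' : d - t ≤ (iota d t htd k).val := by
    change d - t ≤ d - t + k.val
    omega
  simp only [f', dif_pos hk']
  congr 1
  apply Fin.ext
  change d - t + k.val - (d - t) = k.val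
  omega

theorem minor_le_J (htd : t ≤ d) :
    CAlgX.minorIdeal (genMatrix K r d) t ≤ Ideal.span (JSet K d r t) := by
  classical
  rw [CAlgX.minorIdeal, Ideal.span_le]
  rintro _ ⟨⟨f, g⟩, rfl⟩
  change ((genMatrix K r d).submatrix f g).det ∈ _
  by_cases hg : Function.Injective g
  · obtain ⟨τ, hτ⟩ := exists_perm d t htd g hg
    let a : Fin d → Fin (d + r) := fun p =>
      if h : p.val < d - t then Fin.castAdd r (τ p)
      else ⟨d + (f ⟨p.val - (d - t), by have := p.isLt; omega⟩).val, by
        have := (f ⟨p.val - (d - t), by have := p.isLt; omega⟩).isLt; omega⟩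
    have ha_hi : ∀ k : Fin t, a (iota d t htd k) = ⟨d + (f k).val, by have := (f k).isLt; omega⟩ := by
      intro k
      have hk' : ¬ (iota d t htd k).val < d - t := by
        change ¬ d - t + k.val < d - t
        omega
      simp only [a, dif_neg hk']
      apply Fin.ext
      simp only
      congr 3
      apply Fin.ext
      change d - t + k.val - (d - t) = k.val
      omega
    have ha : ∀ k, d ≤ (a (iota d t htd k)).val := by
      intro k
      rw [ha_hi]
      simp
    set M := (cellMatrix K d r).submatrix a τ with hM
    have h1 : M.det = ((Equiv.Perm.sign τ : ℤˣ) : CellRing K d r) *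
        ((cellMatrix K d r).submatrix a id).det := by
      rw [← Matrix.det_permute']
      rfl
    have h2 : M.det = ((genMatrix K r d).submatrix f g).det := by
      let e : Fin (d - t) ⊕ Fin t ≃ Fin d := finSumFinEquiv.trans (finCongr (by omega))
      have he_inl : ∀ i : Fin (d - t), (e (Sum.inl i)).val = i.val := fun i => rfl
      have he_inr : ∀ k : Fin t, e (Sum.inr k) = iota d t htd k := fun k => by
        apply Fin.ext
        rfl
      rw [← Matrix.det_submatrix_equiv_self e M]
      have : M.submatrix e e = Matrix.fromBlocks 1 0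
          (Matrix.of fun k i => M (e (Sum.inr k)) (e (Sum.inl i))) ((genMatrix K r d).submatrix f g) := by
        apply Matrix.ext
        rintro (i | k) (j | l)
        · simp only [Matrix.submatrix_apply, Matrix.fromBlocks_apply₁₁, hM]
          have hi : (e (Sum.inl i)).val < d - t := by rw [he_inl]; exact i.isLt
          have hai : a (e (Sum.inl i)) = Fin.castAdd r (τ (e (Sum.inl i))) := by
            simp only [a, dif_pos hi]
          rw [hai, cell_lo K d r _ _ (by simp)]
          simp only [Fin.val_castAdd, Fin.val_inj, EmbeddingLike.apply_eq_iff_eq, Sum.inl.injEq]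
          rw [Matrix.one_apply]
        · simp only [Matrix.submatrix_apply, Matrix.fromBlocks_apply₁₂, hM, Matrix.zero_apply]
          have hi : (e (Sum.inl i)).val < d - t := by rw [he_inl]; exact i.isLt
          have hai : a (e (Sum.inl i)) = Fin.castAdd r (τ (e (Sum.inl i))) := by
            simp only [a, dif_pos hi]
          rw [hai, cell_lo K d r _ _ (by simp)]
          simp only [Fin.val_castAdd, Fin.val_inj, EmbeddingLike.apply_eq_iff_eq, reduceCtorEq,
            if_false]
        · simp only [Matrix.submatrix_apply, Matrix.fromBlocks_apply₂₁, Matrix.of_apply]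
        · simp only [Matrix.submatrix_apply, Matrix.fromBlocks_apply₂₂, hM]
          rw [he_inr, he_inr, ha_hi, hτ, cell_hi K d r _ _ (by simp)]
          simp only [genMatrix, Matrix.of_apply]
          congr 3
          omega
      rw [this, Matrix.det_fromBlocks_zero₁₂, Matrix.det_one, one_mul]
    rw [← h2, h1]
    exact Ideal.mul_mem_left _ _ (Ideal.subset_span ⟨a, iota d t htd, ha, rfl⟩)
  · have : ((genMatrix K r d).submatrix f g).det = 0 := by
      rw [Function.Injective] at hg
      push_neg at hg
      obtain ⟨p, q, hpq, hne⟩ := hg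
      apply Matrix.det_zero_of_column_eq hne
      intro k
      simp [Matrix.submatrix_apply, hpq]
    rw [this]
    exact zero_mem _

end Main


open W4bk4grassmannian in
/-- Ideal-theoretic form; determinantal ideals as ideals of opposite cells of Schubert varieties: let K
be a commutative ring, d, r ≥ 1, 1 ≤ t ≤ min(d, r), Z the generic r × d matrix over K[z_{ij}] and
[I_d ; Z] the (d + r) × d matrix with the identity block on top. For θ ∈ I(d, d + r) let q_θ be the
d × d minor of [I_d ; Z] on the rows θ (the Plücker coordinate p_θ on the opposite big cell). Then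
the ideal generated by the q_θ with θ_{d-t} ≥ d (0-indexed; these are the θ not below the index φ =
(t-1, …, d-1, d+r+1-t, …, d+r-1) of the Schubert variety whose opposite cell is D_t) equals the
ideal generated by the t × t minors of Z. (The published statement is over an algebraically closed
field and identifies the determinantal variety D_t with the opposite cell of the Schubert variety
X(φ); this row states the equality of ideals behind that identification, over any commutative ring
K.) -/
theorem result (K : Type u) [CommRing K] (d r t : ℕ) (hd : 0 < d)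
    (ht : 0 < t) (htd : t ≤ d) (htr : t ≤ r) :
    Ideal.span {f : CellRing K d r | ∃ θ : Idx d (d + r),
        d ≤ (θ.1 ⟨d - t, Nat.sub_lt hd ht⟩).val ∧ f = cellMinor K d r θ} =
      CAlgX.minorIdeal (genMatrix K r d) t := by
  exact le_antisymm ((L_le_J K d r t hd ht htd).trans (J_le_minor K d r t))
    ((minor_le_J K d r t htd).trans (J_le_L K d r t hd ht htd))

end Groth.Agent.S11275
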