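import Groth.Statements.S11268
-- import your own Groth.Agent.* helpers here

set_option autoImplicit false
open W4bk4grassmannian

namespace Groth.Agent.S11268

theorem val_le_of_strictMono {d n : ℕ} (a : Fin d → Fin n) (ha : StrictMono a) (t : Fin d) :
    t.val ≤ (a t).val := by
  obtain ⟨t, ht⟩ := t
  induction t with
  | zero => exact Nat.zero_le _
  | succ t ih =>
    have h1 : (⟨t, by omega⟩ : Fin d) < ⟨t + 1, ht⟩ := by
      rw [Fin.lt_def]; simp
    have h2 := ha h1
    have h3 := ih (by omega)
    rw [Fin.lt_def] at h2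
    simp only at h3 ⊢
    omega

theorem aux (d n : ℕ) (τ w : Idx d n) (h : τ < w) :
    ∃ φ ∈ divisors w, τ ≤ φ := by
  classical
  have hle : ∀ t, τ.1 t ≤ w.1 t := fun t => (le_of_lt h) t
  have hne : ∃ t, τ.1 t < w.1 t := by
    by_contra hcon
    push Not at hcon
    apply ne_of_lt h
    apply Subtype.ext
    funext t
    exact le_antisymm (hle t) (hcon t)
  -- smallest such index
  obtain ⟨t₀, ht₀, hmin⟩ := (wellFounded_lt (α := Fin d)).has_min {t | τ.1 t < w.1 t} hne
  have ht₀' : (τ.1 t₀).val < (w.1 t₀).val := ht₀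
  have hbelow : ∀ s, s < t₀ → τ.1 s = w.1 s := by
    intro s hs
    by_contra hcon
    exact hmin s (lt_of_le_of_ne (hle s) hcon) hs
  -- the new tuple
  let a : Fin d → Fin n := fun t =>
    if t = t₀ then ⟨(w.1 t₀).val - 1, by have := (w.1 t₀).isLt; omega⟩ else w.1 t
  have ha₀ : (a t₀).val = (w.1 t₀).val - 1 := by simp [a]
  have ha : ∀ t, t ≠ t₀ → a t = w.1 t := by intro t ht; simp [a, ht]
  have hmono : StrictMono a := by
    intro s t hst
    rw [Fin.lt_def]
    by_cases hs : s = t₀
    · subst hs
      have ht : t ≠ s := (ne_of_lt hst).symm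
      rw [ha t ht, ha₀]
      have := w.2 hst
      rw [Fin.lt_def] at this
      omega
    · by_cases ht : t = t₀
      · subst ht
        rw [ha s hs, ha₀]
        have h1 : τ.1 s = w.1 s := hbelow s hst
        have h2 := τ.2 hst
        rw [Fin.lt_def] at h2
        rw [← h1]
        omega
      · rw [ha s hs, ha t ht]
        exact w.2 hst
  refine ⟨⟨a, hmono⟩, ⟨?_, ?_⟩, ?_⟩
  · -- φ < w
    refine lt_of_le_of_ne ?_ ?_
    · intro t
      change a t ≤ w.1 t
      by_cases ht : t = t₀
      · subst ht
        rw [Fin.le_def, ha₀]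
        omega
      · rw [ha t ht]
    · intro heq
      have := congrArg (fun x : Idx d n => (x.1 t₀).val) heq
      simp only at this
      rw [ha₀] at this
      omega
  · -- codegree
    unfold codeg
    have hge : t₀.val ≤ (a t₀).val := val_le_of_strictMono a hmono t₀
    rw [← Finset.add_sum_erase _ _ (Finset.mem_univ t₀),
      ← Finset.add_sum_erase (f := fun t : Fin d => (w.1 t).val - t.val) _ (Finset.mem_univ t₀)]
    have hrest : ∑ x ∈ Finset.univ.erase t₀, ((a x).val - x.val) =
        ∑ x ∈ Finset.univ.erase t₀, ((w.1 x).val - x.val) := by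
      apply Finset.sum_congr rfl
      intro x hx
      rw [ha x (Finset.ne_of_mem_erase hx)]
    change ((a t₀).val - t₀.val) + ∑ x ∈ Finset.univ.erase t₀, ((a x).val - x.val) + 1 = _
    rw [hrest]
    rw [ha₀] at hge ⊢
    omega
  · intro t
    change τ.1 t ≤ a t
    by_cases ht : t = t₀
    · subst ht
      rw [Fin.le_def, ha₀]
      omega
    · rw [ha t ht]
      exact hle t

open W4bk4grassmannian in
/-- Let τ < w in I(d,n), the strictly increasing maps Fin d → Fin n ordered entrywise. Then there is a
Schubert divisor φ of w, i.e. φ < w with Σ_t (φ_t - t) + 1 = Σ_t (w_t - t), such that τ ≤ φ: every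
proper Schubert subvariety of X(w) lies in a Schubert divisor of X(w). -/
theorem result (d n : ℕ) (τ w : Idx d n) (h : τ < w) :
    ∃ φ ∈ divisors w, τ ≤ φ := by
  exact aux d n τ w h

end Groth.Agent.S11268
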