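import Groth.Statements.S13050
import Groth.Agent.Lib.Helper18.PtCount.Finite
open Groth.Agent.Lib.Helper18.PtCount Groth.Agent.Lib.Helper18.Curve

set_option autoImplicit false
universe u
open CategoryTheory AlgebraicGeometry
open Zeta

namespace Groth.Agent.S13050

/-- For a scheme X of finite type over a finite field k and a finite extension k'/k of degree r, the
number of k'-valued points of X over k equals ∑_{e ∣ r} e · #{closed points x of X with [κ(x) : k] =
e}. (Stated for any scheme of finite type over k; the published statement takes X reduced, which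
plays no role.) -/
theorem result {k : Type u} [Field k] [Finite k] {X : Scheme.{u}}
    (f : X ⟶ Spec (CommRingCat.of k)) [LocallyOfFiniteType f] [QuasiCompact f]
    (k' : Type u) [Field k'] [Algebra k k'] [Finite k'] :
    SgaExt.pointCount f k' = Zeta.nPts f (Module.finrank k k') := by
  classical
  have hnpos : 0 < Module.finrank k k' := finrank_pos_of_finite (k := k) k'
  have hfin := finite_setOf_resDeg_dvd f k'
  rw [pointCount_eq_sum f k' hfin.toFinset (fun x => by rw [Set.Finite.mem_toFinset]; rfl)]
  unfold Zeta.nPts
  have hdeg : ∀ e ∈ (Module.finrank k k').divisors, Zeta.degCount f e =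
      (hfin.toFinset.filter (fun x => resDeg f x = e)).card := by
    intro e he
    have he' := Nat.dvd_of_mem_divisors he
    have hepos : 0 < e := Nat.pos_of_mem_divisors he
    unfold Zeta.degCount
    rw [← Nat.card_eq_finsetCard]
    apply Nat.card_congr
    refine Equiv.subtypeEquivRight (fun x => ?_)
    rw [Finset.mem_filter, Set.Finite.mem_toFinset, residueDegree_eq_resDeg]
    constructor
    · rintro ⟨-, h⟩
      refine ⟨?_, h⟩
      show resDeg f x ∣ Module.finrank k k'
      rw [h]
      exact he'
    · rintro ⟨-, h⟩
      exact ⟨isClosed_of_resDeg_pos f (by rw [h]; exact hepos), h⟩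
  have hR : ∑ e ∈ (Module.finrank k k').divisors, e * Zeta.degCount f e =
      ∑ e ∈ (Module.finrank k k').divisors,
        e * (hfin.toFinset.filter (fun x => resDeg f x = e)).card :=
    Finset.sum_congr rfl (fun e he => by rw [hdeg e he])
  rw [hR]
  rw [← Finset.sum_fiberwise_of_maps_to (s := hfin.toFinset) (t := (Module.finrank k k').divisors)
    (g := resDeg f) (f := resDeg f) ?_]
  · refine Finset.sum_congr rfl fun e he => ?_
    rw [Finset.sum_congr rfl (fun x hx => (Finset.mem_filter.mp hx).2), Finset.sum_const,
      smul_eq_mul, mul_comm]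
  · intro x hx
    rw [Nat.mem_divisors]
    exact ⟨hfin.mem_toFinset.mp hx, hnpos.ne'⟩

end Groth.Agent.S13050
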