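import Groth.Statements.S12609
import Groth.Agent.Lib.Helper18.Hasse.Canonical
open Groth.Agent.Lib.Helper18.Hasse Groth.Agent.Lib.Helper18.FF

set_option autoImplicit false
open FunFld

namespace Groth.Agent.S12609

/-- Over an algebraically closed constant field, let `φ` be the canonical map (a basis of `L(C)`, `C`
canonical), normalized at the place `P` after multiplication by `y ≠ 0`, and `t` a local parameter
at `P`. For `j ≥ 1`: the canonical orders at `P` include `j` exactly when `j + 1` is a gap number at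
`P`, i.e. `L((j+1)P) = L(jP)`. -/
theorem result
    (k K : Type*) [Field k] [IsAlgClosed k] [Field K] [Algebra k K]
    (hK : FunFld.IsFunctionField k K) (C : FunFld.Divisor k K) (hC : FunFld.IsCanonical k K C)
    {n : ℕ} (φ : Fin (n + 1) → K) (hφ : LinearIndependent k φ)
    (hspan : Submodule.span k (Set.range φ) = FunFld.L C)
    (P : FunFld.Place k K) (y : K) (hy : y ≠ 0)
    (heff : (1 : K) ∈ Submodule.span k (Set.range (y • φ))) (hnorm : ∀ i, P.1 (y * φ i) ≤ 1)
    (t : K) (ht : P.1 t = WithZero.exp (-1))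
    (Ht : K →ₐ[k] PowerSeries K) (hHt : LocRes.IsHasseFamily t Ht) (j : ℕ) (hj : 1 ≤ j) :
    FunFld.IsJump (IsLocalRing.ResidueField P.O) (FunFld.hcolAt P Ht (y • φ)) (j + 1) ↔
      FunFld.L (Finsupp.single P ((j : ℤ) + 1)) = FunFld.L (Finsupp.single P (j : ℤ)) := by
  classical
  have hdeg := deg_eq_one_of_isAlgClosed hK P
  have hnorm' : ∀ i, P.1 ((y • φ) i) ≤ 1 := fun i => by
    simpa [Pi.smul_apply, smul_eq_mul] using hnorm i
  rw [isJump_hcolAt_succ_iff hK P ht hHt (y • φ) hnorm' j]
  have hcomb : ∀ a : Fin (n + 1) → k, ∑ i, a i • (y • φ) i = y * ∑ i, a i • φ i := by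
    intro a
    rw [Finset.mul_sum]
    refine Finset.sum_congr rfl fun i _ => ?_
    simp only [Pi.smul_apply, smul_eq_mul, mul_smul_comm]
  have hspan' : ∀ f, f ∈ Submodule.span k (Set.range (y • φ)) ↔ ∃ g ∈ FunFld.L C, f = y * g := by
    intro f
    rw [Submodule.mem_span_range_iff_exists_fun]
    constructor
    · rintro ⟨a, rfl⟩
      refine ⟨∑ i, a i • φ i, ?_, hcomb a⟩
      rw [← hspan]
      exact Submodule.sum_mem _ fun i _ =>
        Submodule.smul_mem _ _ (Submodule.subset_span ⟨i, rfl⟩)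
    · rintro ⟨g, hg, rfl⟩
      rw [← hspan] at hg
      obtain ⟨a, rfl⟩ := (Submodule.mem_span_range_iff_exists_fun k).mp hg
      exact ⟨a, hcomb a⟩
  have hle : ∀ g ∈ FunFld.L C, P.1 (y * g) ≤ 1 := by
    intro g hg
    obtain ⟨a, ha⟩ := (Submodule.mem_span_range_iff_exists_fun k).mp
      ((hspan' (y * g)).mpr ⟨g, hg, rfl⟩)
    rw [← ha]
    exact P.1.map_sum_le fun i _ => (val_smul_le P (a i) _).trans (hnorm' i)
  -- the genus is positive
  have hgenus : 0 < FunFld.genus k K := by
    rw [← ell_canonical hK hC]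
    unfold FunFld.ell
    rw [← hspan, finrank_span_eq_card hφ]
    simp
  -- no base point
  have hyP : P.1 y = WithZero.exp (-(C P)) := by
    apply le_antisymm
    · have h1 : FunFld.L (Finsupp.single P ((0 : ℤ) + 1) : FunFld.Divisor k K) =
          FunFld.L (Finsupp.single P (0 : ℤ)) := by
        have hle2 : (Finsupp.single P (0 : ℤ) : FunFld.Divisor k K) ≤
            Finsupp.single P ((0 : ℤ) + 1) := by
          intro Q
          by_cases hQ : Q = P
          · subst hQ
            rw [Finsupp.single_eq_same, Finsupp.single_eq_same]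
            omega
          · rw [Finsupp.single_eq_of_ne hQ, Finsupp.single_eq_of_ne hQ]
        symm
        rw [L_eq_iff_ell_eq hK hle2]
        have h2 : FunFld.ell (Finsupp.single P ((0 : ℤ) + 1) : FunFld.Divisor k K) ≤ 1 :=
          ell_le_one_of_deg_eq_one hK hgenus (by rw [deg_single, hdeg]; norm_num)
        have h3 := ell_mono hK hle2
        have h4 : FunFld.ell (Finsupp.single P (0 : ℤ) : FunFld.Divisor k K) = 1 := by
          rw [Finsupp.single_zero]
          exact ell_zero hK
        omega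
      obtain ⟨g1, hg1, hg1P⟩ := (exists_mem_L_val_eq_iff C P (le_refl (0 : ℤ))).mpr
        ((canonical_gap_iff hK hC P hdeg 0).mpr h1)
      have h5 := hle g1 hg1
      rw [map_mul, hg1P, sub_zero] at h5
      calc P.1 y = P.1 y * WithZero.exp (C P) * WithZero.exp (-(C P)) := by
            rw [mul_assoc, ← WithZero.exp_add, add_neg_cancel, WithZero.exp_zero, mul_one]
        _ ≤ 1 * WithZero.exp (-(C P)) := mul_le_mul' h5 le_rfl
        _ = _ := one_mul _
    · obtain ⟨g0, hg0, hg0y⟩ := (hspan' 1).mp heff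
      have h1 := hg0 P
      have h2 : P.1 y * P.1 g0 = 1 := by rw [← map_mul, ← hg0y, map_one]
      calc WithZero.exp (-(C P)) = WithZero.exp (-(C P)) * (P.1 y * P.1 g0) := by
            rw [h2, mul_one]
        _ = P.1 y * (WithZero.exp (-(C P)) * P.1 g0) := by
            rw [mul_left_comm]
        _ ≤ P.1 y * (WithZero.exp (-(C P)) * WithZero.exp (C P)) :=
            mul_le_mul' le_rfl (mul_le_mul' le_rfl h1)
        _ = P.1 y := by
            rw [← WithZero.exp_add, neg_add_cancel, WithZero.exp_zero, mul_one]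
  rw [← canonical_gap_iff hK hC P hdeg (j : ℤ),
    ← exists_mem_L_val_eq_iff C P (Int.natCast_nonneg j)]
  constructor
  · rintro ⟨-, f, hf, hfP⟩
    obtain ⟨g, hg, rfl⟩ := (hspan' f).mp hf
    refine ⟨g, hg, ?_⟩
    rw [map_mul, hyP] at hfP
    calc P.1 g = WithZero.exp (C P) * (WithZero.exp (-(C P)) * P.1 g) := by
          rw [← mul_assoc, ← WithZero.exp_add, add_neg_cancel, WithZero.exp_zero, one_mul]
      _ = _ := by rw [hfP, ← WithZero.exp_add, sub_eq_add_neg]
  · rintro ⟨g, hg, hgP⟩
    refine ⟨by omega, y * g, (hspan' _).mpr ⟨g, hg, rfl⟩, ?_⟩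
    rw [map_mul, hyP, hgP, ← WithZero.exp_add]
    congr 1
    ring

end Groth.Agent.S12609
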