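import Groth.Statements.S13062
import Groth.Agent.Lib.Helper18.PtCount.Affine
open Groth.Agent.Lib.Helper18.PtCount

set_option autoImplicit false
universe u
open CategoryTheory AlgebraicGeometry
open Zeta

namespace Groth.Agent.S13062

/-- If X is a variety of dimension r over a finite field k with q elements, there is a constant c_X > 0
with #X(F_{q^e}) ≤ c_X q^{re} for every e ≥ 1. Stated for any scheme of finite type over k of
dimension at most r, with a natural-number constant. -/
theorem result {k : Type u} [Field k] [Finite k] {X : Scheme.{u}}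
    (f : X ⟶ Spec (CommRingCat.of k)) [LocallyOfFiniteType f] [QuasiCompact f] (r : ℕ)
    (hr : topologicalKrullDim X ≤ r) :
    ∃ c : ℕ, ∀ (k' : Type u) [Field k'] [Algebra k k'] [Finite k'],
      SgaExt.pointCount f k' ≤ c * Nat.card k ^ (r * Module.finrank k k') := by
  classical
  haveI : CompactSpace X := QuasiCompact.compactSpace_of_compactSpace f
  have haff : ∀ x : X, ∃ U : X.Opens, IsAffineOpen U ∧ x ∈ U := by
    intro x
    refine ⟨(X.affineCover.f (X.affineCover.idx x)).opensRange, isAffineOpen_opensRange _, ?_⟩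
    exact X.affineCover.covers x
  choose U hU hxU using haff
  obtain ⟨t, ht⟩ := isCompact_univ.elim_finite_subcover (fun x => (U x : Set X))
    (fun x => (U x).isOpen) (fun x _ => Set.mem_iUnion.2 ⟨x, hxU x⟩)
  have hN : ∀ x : X, ∃ N : ℕ, ∀ (k' : Type u) [Field k'] [Algebra k k'] [Finite k'],
      Finite (PtsIn f k' (U x)) ∧
        Nat.card (PtsIn f k' (U x)) ≤ N * Nat.card k ^ (r * Module.finrank k k') := by
    intro x
    letI := (cU f (U x)).toAlgebra
    haveI : Algebra.FiniteType k Γ(X, U x) := finiteType_cU f (hU x)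
    have hdim : ringKrullDim Γ(X, U x) ≤ r := (ringKrullDim_Γ_le_top (hU x)).trans hr
    obtain ⟨N, hN⟩ := exists_card_algHom_le (k := k) (A := Γ(X, U x)) r hdim
    refine ⟨N, fun k' _ _ _ => ?_⟩
    obtain ⟨h1, h2⟩ := hN k'
    haveI := h1
    exact ⟨Finite.of_injective _ (ptsAlgHom_injective f k' (hU x)),
      (Nat.card_le_card_of_injective _ (ptsAlgHom_injective f k' (hU x))).trans h2⟩
  choose N hN using hN
  refine ⟨∑ x ∈ t, N x, fun k' _ _ _ => ?_⟩
  have hidx : ∀ g : Spec (CommRingCat.of k') ⟶ X, ∃ x ∈ t, Set.range g ⊆ U x := by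
    intro g
    have h1 := ht (Set.mem_univ (g default))
    simp only [Set.mem_iUnion] at h1
    obtain ⟨x, hx, hgx⟩ := h1
    refine ⟨x, hx, ?_⟩
    rintro _ ⟨y, rfl⟩
    rw [Subsingleton.elim y default]
    exact hgx
  choose idx hidxt hidxU using hidx
  let F : { g : Spec (CommRingCat.of k') ⟶ X //
      g ≫ f = Spec.map (CommRingCat.ofHom (algebraMap k k')) } →
        Σ x : t, PtsIn f k' (U x.1) :=
    fun g => ⟨⟨idx g.1, hidxt g.1⟩, ⟨g.1, g.2, hidxU g.1⟩⟩
  have hF : Function.Injective F := by
    intro g g' h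
    apply Subtype.ext
    have h1 : ∀ a b : Σ x : t, PtsIn f k' (U x.1), a = b → a.2.1 = b.2.1 := by
      rintro a _ rfl
      rfl
    exact h1 _ _ h
  haveI : ∀ x : t, Finite (PtsIn f k' (U x.1)) := fun x => (hN x.1 k').1
  unfold SgaExt.pointCount
  calc Nat.card _ ≤ Nat.card (Σ x : t, PtsIn f k' (U x.1)) :=
        Nat.card_le_card_of_injective F hF
    _ = ∑ x : t, Nat.card (PtsIn f k' (U x.1)) := Nat.card_sigma
    _ ≤ ∑ x : t, N x.1 * Nat.card k ^ (r * Module.finrank k k') :=
        Finset.sum_le_sum fun x _ => (hN x.1 k').2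
    _ = (∑ x ∈ t, N x) * Nat.card k ^ (r * Module.finrank k k') := by
        rw [Finset.sum_mul, ← Finset.sum_coe_sort t (fun x => N x * _)]

end Groth.Agent.S13062
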