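import Groth.Statements.S14414
import Mathlib
import Groth.Agent.Lib.Helper21.TorShift

set_option autoImplicit false
universe u
open CategoryTheory CategoryTheory.Limits
open CAlg

namespace Groth.Agent.S14414

section helpers
open Groth.Agent.Lib.Helper21.TorShift CategoryTheory CategoryTheory.Limits

theorem main (R : Type u) [CommRing R] (M : ModuleCat.{u} R) (q : ℕ) :
    ∀ (N : ModuleCat.{u} R) [HasProjectiveDimensionLE N q] (i : ℕ), q < i →
      IsZero (((CategoryTheory.Tor (ModuleCat.{u} R) i).obj M).obj N) := by
  induction q with
  | zero =>
    intro N hN i hi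
    have : Projective N := (projective_iff_hasProjectiveDimensionLE_zero N).2 hN
    obtain ⟨n, rfl⟩ : ∃ n, i = n + 1 := ⟨i - 1, by omega⟩
    exact isZero_Tor_succ_of_projective _ _ _ _
  | succ q ih =>
    intro N hN i hi
    obtain ⟨n, rfl⟩ : ∃ n, i = n + 2 := ⟨i - 2, by omega⟩
    -- short exact sequence 0 → K → P → N → 0
    let P := Projective.over N
    let π : P ⟶ N := Projective.π N
    let S : ShortComplex (ModuleCat.{u} R) := ShortComplex.mk (kernel.ι π) π (kernel.condition π)
    have hS : S.ShortExact :=
      { exact := ShortComplex.exact_of_f_is_kernel _ (kernelIsKernel π)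
        mono_f := by dsimp [S]; infer_instance
        epi_g := by dsimp [S]; infer_instance }
    have hK : HasProjectiveDimensionLT (kernel π) (q + 1) := by
      have h2 : HasProjectiveDimensionLT S.X₂ (q + 1) := by
        dsimp [S]; infer_instance
      have h3 : HasProjectiveDimensionLT S.X₃ (q + 1 + 1) := hN
      exact hS.hasProjectiveDimensionLT_X₁ (q + 1) h2 h3
    have hK' : HasProjectiveDimensionLE (kernel π) q := hK
    have e := torShiftIso M (kernel.ι π) π (kernel.condition π) hS n
    rw [e.isZero_iff]
    exact ih (kernel π) (n + 1) (by omega)

end helpers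


/-- Let R be a commutative ring and N an R-module of projective dimension at most q, in the sense that
Ext^i_R(N, N′) = 0 for all i > q and all N′ (equivalently, N has a projective resolution of length
at most q). Then for every R-module M and every i > q, Tor_i^R(M, N) — the value at N of the i-th
left derived functor of M ⊗_R (-) — is zero. -/
theorem result (R : Type u) [CommRing R]
    (M N : ModuleCat.{u} R) (q : ℕ) [HasProjectiveDimensionLE N q] (i : ℕ) (hi : q < i) :
    IsZero (((CategoryTheory.Tor (ModuleCat.{u} R) i).obj M).obj N) := by
  exact main R M q N i hi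

end Groth.Agent.S14414
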