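import Groth.Statements.S5758
import Mathlib
import Groth.Agent.Lib.Helper21.DepthKit4

set_option autoImplicit false
universe u
open EGA41

namespace Groth.Agent.S5758
open Groth.Agent.Lib.Helper21.DepthKit


/-- Let A be a Noetherian local ring, M a nonzero finitely generated Cohen-Macaulay A-module and x_1,
..., x_r elements of the maximal ideal. The sequence (x_i) is M-regular if and only if dim(M/(x_1 M
+ ... + x_r M)) = dim(M) - r, i.e. if and only if the x_i are part of a system of parameters for M;
and when this holds the quotient M/(x_1 M + ... + x_r M) is again a Cohen-Macaulay module. -/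
theorem result (A : Type u) [CommRing A]
    [IsLocalRing A] [IsNoetherianRing A] (M : Type u) [AddCommGroup M] [Module A M] [Module.Finite A M]
    (hM : LocCoh.IsCohenMacaulayModule A M) (xs : List A) (hxs : ∀ x ∈ xs, x ∈ IsLocalRing.maximalIdeal A) :
    (RingTheory.Sequence.IsWeaklyRegular M xs ↔
        Module.supportDim A (M ⧸ (Ideal.ofList xs • (⊤ : Submodule A M))) + xs.length =
          Module.supportDim A M) ∧
      (RingTheory.Sequence.IsWeaklyRegular M xs →
        LocCoh.IsCohenMacaulayModule A (M ⧸ (Ideal.ofList xs • (⊤ : Submodule A M)))) := by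
  have hnt := nontrivial_of_isCM hM
  refine ⟨⟨fun h => ?_, fun h => isWeaklyRegular_of_supportDim_drop xs M hM hxs h⟩,
    fun h => isCM_quot_ofList xs M hM hxs h⟩
  have hreg : RingTheory.Sequence.IsRegular M xs :=
    (IsLocalRing.isRegular_iff_isWeaklyRegular_of_subset_maximalIdeal hxs).2 h
  exact Module.supportDim_add_length_eq_supportDim_of_isRegular xs hreg

end Groth.Agent.S5758
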