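import Groth.Statements.S10882
import Groth.Agent.Lib.lead.EquidimBC
import Groth.Agent.Lib.lead.FibreDimFormula
import Groth.Agent.Lib.lead.VarDomSub
import Groth.Agent.Lib.Helper18.GalFibre
import Groth.Agent.Lib.Helper7.FibreStalkIso
import Groth.Agent.S2082

set_option autoImplicit false
universe u
open CategoryTheory AlgebraicGeometry
open FlatMor

namespace Groth.Agent.S10882

/-- Let X and Y be schemes locally of finite type over a field k and f : X → Y a k-morphism, with Y
regular (all local rings regular), X Cohen–Macaulay (all local rings Cohen–Macaulay), X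
equidimensional of dimension e, Y equidimensional of dimension d ≤ e, and all fibres of f
equidimensional of dimension e − d (every irreducible component of every fibre has dimension e − d).
Then f is flat. -/
theorem result (k : Type u) [Field k] {X Y : Scheme.{u}}
    (q : Y ⟶ Spec (CommRingCat.of k)) [LocallyOfFiniteType q] (f : X ⟶ Y) [LocallyOfFiniteType (f ≫ q)]
    (hY : ∀ y : Y, IsRegularLocalRing (Y.presheaf.stalk y))
    (hX : ∀ x : X, LocCoh.IsCohenMacaulayLocalRing (X.presheaf.stalk x))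
    (e d : ℕ) (hde : d ≤ e)
    (hXe : ∀ Z ∈ irreducibleComponents (X : Type u), topologicalKrullDim Z = e)
    (hYd : ∀ Z ∈ irreducibleComponents (Y : Type u), topologicalKrullDim Z = d)
    (hfib : ∀ y : Y, ∀ Z ∈ irreducibleComponents (f.base ⁻¹' {y}), topologicalKrullDim Z = (e - d : ℕ)) :
    Flat f := by
  letI : Y.Over (Spec (CommRingCat.of k)) := ⟨q⟩
  letI : X.Over (Spec (CommRingCat.of k)) := ⟨f ≫ q⟩
  haveI : LocallyOfFiniteType (Y ↘ Spec (CommRingCat.of k)) := ‹LocallyOfFiniteType q›
  haveI : LocallyOfFiniteType (X ↘ Spec (CommRingCat.of k)) := ‹LocallyOfFiniteType (f ≫ q)›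
  haveI : LocallyOfFiniteType f := locallyOfFiniteType_of_comp f q
  haveI : IsLocallyNoetherian X :=
    LocallyOfFiniteType.isLocallyNoetherian (X ↘ Spec (CommRingCat.of k))
  haveI : IsLocallyNoetherian Y :=
    LocallyOfFiniteType.isLocallyNoetherian (Y ↘ Spec (CommRingCat.of k))
  have hf : f ≫ (Y ↘ Spec (CommRingCat.of k)) = X ↘ Spec (CommRingCat.of k) := rfl
  apply Flat.of_stalkMap
  intro x
  obtain ⟨nx, hnx, -⟩ := Groth.Agent.Lib.Helper7.VarDim.exists_nat_dim_closure_eq k X x
  obtain ⟨ny, hny, -⟩ := Groth.Agent.Lib.Helper7.VarDim.exists_nat_dim_closure_eq k Y (f x)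
  have hadd := Groth.Agent.Lib.lead.VarTdAdd.td_add k f hf x
  unfold Groth.Agent.Lib.Helper18.GenFinite.td at hadd
  rw [hnx, hny] at hadd
  have hsum : ny + Groth.Agent.Lib.Helper24.FibreDim.tr f x = nx := by exact_mod_cast hadd
  have hXl := Groth.Agent.Lib.lead.FlatEquidimGen.localDim_eq_of_equidim X k e hXe x
  have hYl := Groth.Agent.Lib.lead.FlatEquidimGen.localDim_eq_of_equidim Y k d hYd (f x)
  rw [Groth.Agent.Lib.Helper24.FibreDim.localDim_eq_td_add_coheight k X x nx hnx] at hXl
  rw [Groth.Agent.Lib.Helper24.FibreDim.localDim_eq_td_add_coheight k Y (f x) ny hny] at hYl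
  -- coheights are finite
  have hcxtop : Order.coheight x ≠ ⊤ := by
    have h1 : ringKrullDim (X.presheaf.stalk x) ≠ ⊤ := ringKrullDim_ne_top
    rw [ringKrullDim_stalk_eq_coheight] at h1
    intro h
    rw [h] at h1
    exact h1 rfl
  have hcytop : Order.coheight (f x) ≠ ⊤ := by
    have h1 : ringKrullDim (Y.presheaf.stalk (f x)) ≠ ⊤ := ringKrullDim_ne_top
    rw [ringKrullDim_stalk_eq_coheight] at h1
    intro h
    rw [h] at h1
    exact h1 rfl
  obtain ⟨cx, hcx⟩ := ENat.ne_top_iff_exists.mp hcxtop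
  obtain ⟨cy, hcy⟩ := ENat.ne_top_iff_exists.mp hcytop
  rw [← hcx] at hXl
  rw [← hcy] at hYl
  have hX' : nx + cx = e := by exact_mod_cast hXl
  have hY' : ny + cy = d := by exact_mod_cast hYl
  -- the fibre
  obtain ⟨b, hb⟩ := Groth.Agent.Lib.lead.FibreDimFormula.exists_nat_G f x
  have hfd : FlatMor.fibreDimAt f x = ((e - d : ℕ) : WithBot ℕ∞) := by
    apply Groth.Agent.Lib.lead.EquidimBC.fibreDimAt_eq_of_fibre_equidim f (e - d) x
    intro T hT
    have h1 := Groth.Agent.Lib.Helper18.GalFibre.image_mem_irreducibleComponents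
      (f.fiberHomeo (f x)) hT
    rw [← hfib (f x) _ h1]
    exact IsHomeomorph.topologicalKrullDim_eq _ ((f.fiberHomeo (f x)).image T).isHomeomorph
  rw [Groth.Agent.Lib.lead.FibreDimFormula.fibreDimAt_eq f x b hb] at hfd
  have hF' : Groth.Agent.Lib.Helper24.FibreDim.tr f x + b = e - d := by exact_mod_cast hfd
  have hkey : cx = cy + b := by omega
  -- the dimension equality
  obtain ⟨ε⟩ := Groth.Agent.Lib.Helper7.FibreStalkIso.nonempty_ringEquiv f x
  have hdim : ringKrullDim (X.presheaf.stalk x) = ringKrullDim (Y.presheaf.stalk (f x)) +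
      ringKrullDim (X.presheaf.stalk x ⧸
        (IsLocalRing.maximalIdeal (Y.presheaf.stalk (f x))).map (f.stalkMap x).hom) := by
    rw [ringKrullDim_eq_of_ringEquiv ε,
      Groth.Agent.Lib.lead.FibreOrder.ringKrullDim_fiber_stalk f x, hb,
      ringKrullDim_stalk_eq_coheight, ringKrullDim_stalk_eq_coheight, ← hcx, ← hcy, hkey]
    push_cast
    rfl
  letI : Algebra (Y.presheaf.stalk (f x)) (X.presheaf.stalk x) := (f.stalkMap x).hom.toAlgebra
  haveI : IsLocalHom (algebraMap (Y.presheaf.stalk (f x)) (X.presheaf.stalk x)) :=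
    inferInstanceAs (IsLocalHom (f.stalkMap x).hom)
  haveI := hY (f x)
  haveI := hX x
  exact Groth.Agent.S2082.result (R := Y.presheaf.stalk (f x)) (S := X.presheaf.stalk x) hdim

end Groth.Agent.S10882
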