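import Groth.Statements.S9688
import Groth.Agent.Lib.Helper13.NormDimOne

set_option autoImplicit false
universe u
open CategoryTheory CategoryTheory.Limits AlgebraicGeometry
open Mor

namespace Groth.Agent.S9688

/-- Let X be an integral Japanese scheme (every nonempty affine open has Japanese, i.e. N-2, coordinate
ring). Then the normalization morphism X^ν ⟶ X is finite. (The quasi-compactness and
quasi-separatedness binders on Spec K(X) ⟶ X always hold; they are only needed to form the
normalization.) -/
theorem result (X : Scheme.{u}) [IsIntegral X] [QuasiCompact (X.fromSpecStalk (genericPoint ↥X))] [QuasiSeparated (X.fromSpecStalk (genericPoint ↥X))]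
    (hJ : ∀ (U : X.Opens), IsAffineOpen U → ∀ (hne : Nonempty ↥U),
      @CAlg.IsN2 ↑Γ(X, U) _ (@IsIntegral.component_integral X _ U hne)) :
    IsFinite (Curv2.normalizationι X) := by
  haveI : IsIntegralHom (Curv2.normalizationι X) :=
    inferInstanceAs (IsIntegralHom (X.fromSpecStalk (genericPoint X)).fromNormalization)
  refine { finite_app := fun U hU => ?_ }
  by_cases hne : Nonempty U
  · haveI := hne
    haveI : IsDomain Γ(X, U) := IsIntegral.component_integral U
    haveI hfr := functionField_isFractionRing_of_isAffineOpen X U hU
    haveI : FaithfulSMul Γ(X, U) X.functionField :=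
      (faithfulSMul_iff_algebraMap_injective _ _).mpr (IsFractionRing.injective _ _)
    letI := FractionRing.liftAlgebra Γ(X, U) X.functionField
    have hfd : FiniteDimensional (FractionRing Γ(X, U)) X.functionField := by
      refine Module.Finite.of_surjective (Algebra.linearMap (FractionRing Γ(X, U)) X.functionField) ?_
      intro z
      obtain ⟨p, q, hq, rfl⟩ := IsFractionRing.div_surjective (A := Γ(X, U)) z
      refine ⟨algebraMap _ _ p / algebraMap _ _ q, ?_⟩
      rw [Algebra.linearMap_apply, map_div₀, ← IsScalarTower.algebraMap_apply,
        ← IsScalarTower.algebraMap_apply]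
    have hfin : Module.Finite Γ(X, U) (integralClosure Γ(X, U) X.functionField) :=
      hJ U hU hne X.functionField hfd
    obtain ⟨e, he⟩ := Lib.Helper13.NormDimOne.exists_sectionsEquiv X hU
    have h1 : (e.symm.toRingHom.comp (algebraMap Γ(X, U)
        (integralClosure Γ(X, U) X.functionField))).Finite :=
      RingHom.Finite.comp (RingHom.Finite.of_surjective _ e.symm.surjective)
        (RingHom.finite_algebraMap.mpr hfin)
    have h2 : e.symm.toRingHom.comp (algebraMap Γ(X, U)
        (integralClosure Γ(X, U) X.functionField)) =
        ((X.fromSpecStalk (genericPoint X)).fromNormalization.app U).hom := by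
      ext a
      rw [RingHom.comp_apply, ← he a]
      exact e.symm_apply_apply _
    rw [h2] at h1
    exact h1
  · have hU0 : U = ⊥ := by
      ext x
      simp only [TopologicalSpace.Opens.coe_bot, Set.mem_empty_iff_false, iff_false]
      exact fun hx => hne ⟨⟨x, hx⟩⟩
    subst hU0
    letI := ((Curv2.normalizationι X).app ⊥).hom.toAlgebra
    haveI : Subsingleton Γ(Curv2.normalization X, (Curv2.normalizationι X) ⁻¹ᵁ ⊥) := by
      rw [Scheme.Hom.preimage_bot]
      infer_instance
    show Module.Finite _ _
    infer_instance

end Groth.Agent.S9688
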