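import Groth.Statements.S1585
import Groth.Agent.Lib.Helper13.NormFT
import Groth.Agent.S9688

set_option autoImplicit false
universe u
open CategoryTheory CategoryTheory.Limits AlgebraicGeometry
open Variety

namespace Groth.Agent.S1585

/-- Part (1): and (4), for an integral scheme locally of finite type over a field: the normalization
morphism ν (normalization of X in its function field) is finite, dominant and an isomorphism over a
nonempty open, and the normalization is an integral scheme all of whose local rings are integrally
closed domains. (The quasi-compactness/quasi-separatedness binders on Spec K(X) → X always hold;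
they are needed only to form Mathlib's relative normalization.) -/
theorem result (k : Type u) [Field k] (X : Scheme.{u}) [X.Over (Spec (CommRingCat.of k))] [IsIntegral X] [LocallyOfFiniteType (X ↘ (Spec (CommRingCat.of k)))]
    [QuasiCompact (X.fromSpecStalk (genericPoint X))] [QuasiSeparated (X.fromSpecStalk (genericPoint X))] :
    IsFinite (Curv2.normalizationι X) ∧ IsDominant (Curv2.normalizationι X) ∧
      (∃ V : X.Opens, (V : Set X).Nonempty ∧ IsIso (Curv2.normalizationι X ∣_ V)) ∧
      IsIntegral (Curv2.normalization X) ∧ Pi1.IsNormalScheme (Curv2.normalization X) := by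
  have hfin : IsFinite (Curv2.normalizationι X) :=
    Groth.Agent.S9688.result X (fun U hU hne =>
      Lib.Helper13.NormFT.isN2_sections k (X ↘ (Spec (CommRingCat.of k))) hU hne)
  have hsurj : Function.Surjective (Curv2.normalizationι X) :=
    Lib.Helper13.Normalization.surjective_fromNormalization
      (Field.toIsField X.functionField) _ (Lib.Helper13.NormDimOne.hgη_fromSpecStalk X)
  refine ⟨hfin, ⟨hsurj.denseRange⟩, ?_, Lib.Helper13.NormDimOne.isIntegral_normalization X,
    Lib.Helper13.NormIso.isNormal_normalization X⟩
  obtain ⟨V, hVne, hV⟩ :=
    Lib.Helper13.NormFT.exists_normal_open k (X ↘ (Spec (CommRingCat.of k)))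
  exact ⟨V, hVne, Lib.Helper13.NormIso.isIso_morphismRestrict_normalization X V hV⟩

end Groth.Agent.S1585
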