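import Groth.Statements.S0318
import Groth.Agent.Lib.helper11.LCDepth
import Groth.Agent.S0319
import Groth.Agent.Lib.Helper21.DepthKit7

set_option autoImplicit false
universe u v
open LocCoh

namespace Groth.Agent.S0318

/-- Part (1): =(3): for a finite module M over a Noetherian ring and an ideal I with IM ≠ M, the I-depth
of M is the least degree in which the local cohomology of M with support in I is nonzero. -/
theorem result (R : Type u) [CommRing R] [IsNoetherianRing R] (I : Ideal R) (M : Type u) [AddCommGroup M] [Module R M] [Module.Finite R M] (hIM : I • (⊤ : Submodule R M) ≠ ⊤) (n : ℕ) : LocCoh.idealDepth I M = n ↔ ((∀ i : ℕ, i < n → Subsingleton (LocCoh.H I i M)) ∧ Nontrivial (LocCoh.H I n M)) := by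
  open CategoryTheory Abelian in
  exact (by
  -- forward direction for an arbitrary `d`
  have fwd : ∀ d : ℕ, LocCoh.idealDepth I M = d →
      ((∀ i : ℕ, i < d → Subsingleton (LocCoh.H I i M)) ∧ Nontrivial (LocCoh.H I d M)) := by
    intro d hd
    refine ⟨fun i hi => ?_, ?_⟩
    · apply Groth.Agent.Lib.helper11.LCKit.subsingleton_of_lt_idealDepth I i M hIM
      rw [hd]; exact_mod_cast hi
    · obtain ⟨hA, hnt⟩ := (Groth.Agent.S0319.result R I M hIM d).mp hd
      obtain ⟨rs, hlen, hmem, hreg⟩ := Groth.Agent.S0319.seq_of_A R I M hIM d hA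
      obtain ⟨y₀, hy₀⟩ := exists_ne (0 : Ext (ModuleCat.of R (R ⧸ I)) (ModuleCat.of R M) d)
      let e : Groth.Agent.Lib.helper11.LCKit.Q I 1 ≅ ModuleCat.of R (R ⧸ I) :=
        (Submodule.quotEquivOfEq (I ^ 1) I (pow_one I)).toModuleIso
      let y : Ext (Groth.Agent.Lib.helper11.LCKit.Q I 1) (ModuleCat.of R M) d :=
        (Ext.mk₀ e.hom).comp y₀ (zero_add d)
      have hy : y ≠ 0 := by
        intro h
        apply hy₀
        have : (Ext.mk₀ e.inv).comp y (zero_add d) = y₀ := by
          simp only [y]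
          rw [← Ext.comp_assoc_of_second_deg_zero, Ext.mk₀_comp_mk₀, Iso.inv_hom_id,
            Ext.mk₀_id_comp]
        rw [← this, h, Ext.comp_zero]
      subst hlen
      have hinj := Groth.Agent.Lib.helper11.LCKit.ιE_injective I M rs hreg hmem 1
      refine ⟨⟨Groth.Agent.Lib.helper11.LCKit.ιE I rs.length (ModuleCat.of R M) 1 y, 0, ?_⟩⟩
      intro h
      apply hy
      apply hinj
      rw [h, map_zero]
  constructor
  · exact fwd n
  · rintro ⟨hvan, hnt⟩
    obtain ⟨d, hd⟩ := Groth.Agent.Lib.Helper21.DepthKit.exists_nat_idealDepth (A := R) I hIM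
      (M := M)
    obtain ⟨hvan', hnt'⟩ := fwd d hd
    rw [hd]
    rcases lt_trichotomy n d with h | h | h
    · exact absurd (hvan' n h) (not_subsingleton_iff_nontrivial.mpr hnt)
    · rw [h]
    · exact absurd (hvan d h) (not_subsingleton_iff_nontrivial.mpr hnt'))

end Groth.Agent.S0318
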