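import Groth.Statements.S9264
-- import your own Groth.Agent.* helpers here

set_option autoImplicit false
universe u
attribute [local instance] HasDerivedCategory.standard
open CategoryTheory
open DerCA

namespace Groth.Agent.S9264

theorem isZero_X (R : Type u) [CommRing R] (M : ModuleCat.{u} R) (fs : List R) :
    ∀ q : ℤ, (q < 0 ∨ (fs.length : ℤ) < q) → Limits.IsZero ((DerCA.extCech M fs).X q) := by
  induction fs with
  | nil =>
    intro q hq
    apply HomologicalComplex.isZero_single_obj_X
    rcases hq with h | h
    · omega
    · simp at h; omega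
  | cons f fs ih =>
    intro q hq
    have hq' : (q < 0 ∨ (fs.length : ℤ) < q) ∧ (q - 1 < 0 ∨ (fs.length : ℤ) < q - 1) := by
      simp only [List.length_cons, Nat.cast_add, Nat.cast_one] at hq
      rcases hq with h | h
      · exact ⟨Or.inl h, Or.inl (by omega)⟩
      · exact ⟨Or.inr (by omega), Or.inr (by omega)⟩
    have h1 := ih q hq'.1
    have h2 : Limits.IsZero (((locCx (Submonoid.powers f)).obj (extCech M fs)).X (q - 1)) := by
      change Limits.IsZero ((locFunctor (Submonoid.powers f)).obj ((extCech M fs).X (q - 1)))
      exact Functor.map_isZero _ (ih (q - 1) hq'.2)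
    have h3 : Limits.IsZero ((extCech M fs).X q ⊞ ((locCx (Submonoid.powers f)).obj (extCech M fs)).X (q - 1)) :=
      (Limits.IsZero.iff_id_eq_zero _).2
        (Limits.biprod.hom_ext _ _ (h1.eq_of_tgt _ _) (h2.eq_of_tgt _ _))
    exact Limits.IsZero.of_iso h3 (mappingCoconeXIso _ q)

theorem aux (R : Type u) [CommRing R] (fs : List R)
    (M : ModuleCat.{u} R) (q : ℤ) (hq : q < 0 ∨ (fs.length : ℤ) < q) :
    Limits.IsZero (DerCA.extCechH fs M q) := by
  have h := isZero_X R M fs q hq
  have : (DerCA.extCech M fs).ExactAt q := ShortComplex.exact_of_isZero_X₂ _ h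
  exact (HomologicalComplex.exactAt_iff_isZero_homology _ _).1 this

/-- The cohomology of the extended alternating Cech complex of a module M with respect to f_1, ..., f_r
vanishes in degrees outside [0, r]. -/
theorem result (R : Type u) [CommRing R] (fs : List R)
    (M : ModuleCat.{u} R) (q : ℤ) (hq : q < 0 ∨ (fs.length : ℤ) < q) :
    Limits.IsZero (DerCA.extCechH fs M q) := by
  exact aux R fs M q hq

end Groth.Agent.S9264
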