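import Groth.Statements.S0045
import Groth.Agent.Lib.Helper28.FinType
import Groth.Agent.Lib.Helper28.ModIsoCover
import Groth.Agent.Lib.Helper29.QCohExact
import Mathlib
set_option backward.isDefEq.respectTransparency.types false

set_option autoImplicit false
universe u
open Coherent

namespace Groth.Agent.S0045
open CategoryTheory CategoryTheory.Limits AlgebraicGeometry Opposite TopologicalSpace
open Groth.Agent.Lib.Helper28.QCohLoc Groth.Agent.Lib.Helper28.FinType Groth.Agent.Lib.Helper29.QCohStalk

/-- the image of the sections of a submodule -/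
noncomputable def secRange {X : Scheme.{u}} {M : X.Modules} (P : Subobject M) (U : X.Opens) :
    Submodule Γ(X, U) Γ(M, U) where
  carrier := Set.range (P.arrow.app U)
  add_mem' := by
    rintro _ _ ⟨a, rfl⟩ ⟨b, rfl⟩
    exact ⟨a + b, map_add _ _ _⟩
  zero_mem' := ⟨0, map_zero _⟩
  smul_mem' := by
    rintro r _ ⟨a, rfl⟩
    exact ⟨r • a, Scheme.Modules.Hom.app_smul _ r a⟩

theorem mem_secRange {X : Scheme.{u}} {M : X.Modules} (P : Subobject M) (U : X.Opens) (y : Γ(M, U)) :
    y ∈ secRange P U ↔ ∃ x, P.arrow.app U x = y := Iff.rfl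

theorem secRange_mono {X : Scheme.{u}} {M : X.Modules} {P Q : Subobject M} (h : P ≤ Q) (U : X.Opens) :
    secRange P U ≤ secRange Q U := by
  intro y hy
  obtain ⟨x, rfl⟩ := (mem_secRange P U y).1 hy
  refine (mem_secRange Q U _).2 ⟨(Subobject.ofLE P Q h).app U x, ?_⟩
  have h1 : Subobject.ofLE P Q h ≫ Q.arrow = P.arrow := Subobject.ofLE_arrow h
  have h2 := congrArg (fun ψ : ((P : X.Modules) ⟶ M) => ψ.app U x) h1
  exact h2

open AlgebraicGeometry CategoryTheory in

open AlgebraicGeometry CategoryTheory in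
/-- On a Noetherian scheme, any increasing sequence of quasi-coherent submodules of a coherent module is
eventually constant. -/
theorem result (X : Scheme.{u}) [IsNoetherian X] (M : X.Modules)
    (hM : Coh.IsCoh M) (F : ℕ →o Subobject M) (hF : ∀ n, Coh.IsQCoh ((F n : Subobject M) : X.Modules)) :
    ∃ n : ℕ, ∀ m : ℕ, n ≤ m → F m = F n := by
  obtain ⟨hq, hft⟩ := hM
  haveI : M.IsQuasicoherent := hq
  haveI : SheafOfModules.IsFiniteType.{u} (R := X.ringCatSheaf) M := hft
  -- finite affine cover
  let 𝒰 := X.affineCover.finiteSubcover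
  haveI : Finite 𝒰.I₀ := inferInstance
  let U : 𝒰.I₀ → X.Opens := fun i => (𝒰.f i).opensRange
  have hU : ∀ i, IsAffineOpen (U i) := fun i => isAffineOpen_opensRange (𝒰.f i)
  have hcov : ∀ x : X, ∃ i, x ∈ U i := fun x => ⟨𝒰.idx x, 𝒰.covers x⟩
  -- Noetherian modules of sections
  have hnoeth : ∀ i, IsNoetherian Γ(X, U i) Γ(M, U i) := by
    intro i
    haveI : IsNoetherianRing Γ(X, U i) := IsLocallyNoetherian.component_noetherian ⟨U i, hU i⟩
    haveI : Module.Finite Γ(X, U i) Γ(M, U i) := finite_of_isAffineOpen M (hU i)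
    exact isNoetherian_of_isNoetherianRing_of_finite _ _
  -- stabilisation on each member
  have hstab : ∀ i, ∃ n : ℕ, ∀ m : ℕ, n ≤ m → secRange (F n) (U i) = secRange (F m) (U i) := by
    intro i
    haveI := hnoeth i
    let f : ℕ →o Submodule Γ(X, U i) Γ(M, U i) :=
      ⟨fun n => secRange (F n) (U i), fun a b hab => secRange_mono (F.monotone hab) (U i)⟩
    exact (monotone_stabilizes_iff_noetherian.mpr inferInstance) f
  choose N hN using hstab
  haveI : Fintype 𝒰.I₀ := Fintype.ofFinite _
  refine ⟨Finset.univ.sup N, fun m hm => ?_⟩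
  set n := Finset.univ.sup N with hn
  have hle : F n ≤ F m := F.monotone hm
  -- the inclusion is an isomorphism
  haveI : (F n : X.Modules).IsQuasicoherent := hF n
  haveI : (F m : X.Modules).IsQuasicoherent := hF m
  have hiso : IsIso (Subobject.ofLE (F n) (F m) hle) := by
    refine isIso_of_affine_cover _ U hU hcov (fun i => isLocOn_of_isQuasicoherent _ (hU i))
      (fun i => isLocOn_of_isQuasicoherent _ (hU i)) (fun i => ⟨?_, ?_⟩)
    · exact injective_app_of_mono _ inferInstance (U i)
    · intro y
      have hNi : N i ≤ n := Finset.le_sup (Finset.mem_univ i)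
      have e1 : secRange (F n) (U i) = secRange (F m) (U i) := by
        rw [← hN i n hNi, ← hN i m (hNi.trans hm)]
      have hy : (F m).arrow.app (U i) y ∈ secRange (F m) (U i) := (mem_secRange _ _ _).2 ⟨y, rfl⟩
      rw [← e1] at hy
      obtain ⟨x, hx⟩ := (mem_secRange _ _ _).1 hy
      refine ⟨x, ?_⟩
      apply injective_app_of_mono (F m).arrow inferInstance (U i)
      have h1 : Subobject.ofLE (F n) (F m) hle ≫ (F m).arrow = (F n).arrow := Subobject.ofLE_arrow hle
      have h2 := congrArg (fun ψ : (((F n : Subobject M) : X.Modules) ⟶ M) => ψ.app (U i) x) h1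
      exact h2.trans hx
  refine le_antisymm ?_ hle
  exact Subobject.le_of_comm (inv (Subobject.ofLE (F n) (F m) hle)) (by
    rw [IsIso.inv_comp_eq, Subobject.ofLE_arrow])

end Groth.Agent.S0045
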