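import Groth.Statements.S12430
import Groth.Agent.Lib.Helper2.CurveSub
import Groth.Agent.Lib.Helper2.RegSmooth
import Groth.Agent.Lib.Helper2.SSDegZero

set_option autoImplicit false
universe u
open CategoryTheory CategoryTheory.Limits AlgebraicGeometry
open Curves

namespace Groth.Agent.S12430

/-- Let C be a curve over an algebraically closed field k (integral, proper over k, of dimension one,
all local rings regular) and E a locally free O_C-module of rank 2 which is normalized — H^0(C, E) ≠
0 while H^0(C, E ⊗ M) = 0 for every invertible O_C-module M of negative degree. Then for every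
nonzero morphism s : O_C → E the cokernel of s is an invertible O_C-module (so E is an extension of
an invertible module by O_C). -/
theorem result (k : Type u) [Field k] [IsAlgClosed k] (C : Scheme.{u}) [C.Over (Spec (CommRingCat.of k))]
    [IsIntegral C] [IsProper (C ↘ (Spec (CommRingCat.of k)))] (hdimC : topologicalKrullDim C = 1)
    (hregC : ∀ x : C, IsRegularLocalRing (C.presheaf.stalk x))
    (E : C.Modules) (hE : FlatMod.IsFinLocFreeOfRank 2 E)
    (hE0 : Nontrivial (Coh.HH C E 0))
    (hEneg : ∀ M : C.Modules, PicF.IsInvertible M → Curv2.deg k C M 1 < 0 → Subsingleton (Coh.HH C (CohB1.tensorMod E M) 0))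
    (s : Coh.structureModule C ⟶ E) (hs : s ≠ 0) :
    PicF.IsInvertible (cokernel s) := by
  classical
  haveI : Smooth (C ↘ Spec (CommRingCat.of k)) :=
    Groth.Agent.Lib.Helper2.RegSmooth.smooth_of_regular k (C ↘ Spec (CommRingCat.of k)) hregC
  haveI : IsLocallyNoetherian C := Groth.Agent.Lib.Helper8.EulerK.isLocallyNoetherian k C
  have hOinv := Groth.Agent.Lib.Helper28.AmpleUnit.isInvertible_structureModule C
  have hO1 := Groth.Agent.Lib.Helper6.K0Op.isFinLocFreeOfRank_one_of_isInvertible _ hOinv
  haveI : Mono s := Groth.Agent.Lib.Helper2.CurveSub.mono_of_ne_zero k C hdimC hO1 hE s hs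
  obtain ⟨F', a, i', hi', hai, hF', hdegle, hcok, hdegsum, -⟩ :=
    Groth.Agent.Lib.Helper2.CurveSat.exists_saturation k C hdimC hE hO1 s
  haveI := hi'
  have hcok1 : FlatMod.IsFinLocFreeOfRank 1 (cokernel i') := hcok
  have hF'inv := Groth.Agent.Lib.Helper19.BertiniGlue.isInvertible_of_rank_one hF'
  have hcokinv := Groth.Agent.Lib.Helper19.BertiniGlue.isInvertible_of_rank_one hcok1
  have hdegO : Curv2.deg k C (Coh.structureModule C) 1 = 0 :=
    Groth.Agent.Lib.Helper2.SSDegZero.deg_structureModule k C
  rw [hdegO] at hdegle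
  by_cases hpos : 0 < Curv2.deg k C F' 1
  · exfalso
    obtain ⟨M, hMi, hM⟩ := Groth.Agent.Lib.Helper8.InvInverse.exists_isInverseOf hF'inv
    have hdegM := Groth.Agent.Lib.Helper8.DegGroup.deg_inverse_eq_neg k C hdimC.le hF'inv hMi hM
    have hsub := hEneg M hMi (by omega)
    have hi'0 : i' ≠ 0 := by
      intro h0
      exact Groth.Agent.Lib.Helper4.CurveVB.not_isZero_of_rank_pos Nat.one_pos hF'
        (IsZero.of_mono_eq_zero i' h0)
    have hnt : Nontrivial (Coh.HH C (CohB1.tensorMod M E) 0) :=
      (Groth.Agent.Lib.Helper2.TensEq.exists_hom_ne_zero_iff hM E).1 ⟨i', hi'0⟩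
    have hsub' : Subsingleton (Coh.HH C (CohB1.tensorMod M E) 0) :=
      Groth.Agent.Lib.Helper8.GGCoh.subsingleton_HH_of_iso
        (Groth.Agent.Lib.Helper6.K0Inv.braidIso M E) 0 hsub
    exact not_subsingleton _ hsub'
  · have hdeg0 : Curv2.deg k C (Coh.structureModule C) 1 = Curv2.deg k C F' 1 := by
      rw [hdegO]; omega
    haveI : Mono a := by
      haveI : Mono (a ≫ i') := by rw [hai]; infer_instance
      exact mono_of_mono a i'
    haveI : IsIso a :=
      (Groth.Agent.Lib.Helper4.CurveVB.deg_le_of_mono_of_rank_eq k C hdimC.le a hO1 hF').2 hdeg0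
    subst hai
    exact Groth.Agent.Lib.Helper28.AmpleIso.isInvertible_of_iso (cokernelEpiComp a i').symm hcokinv

end Groth.Agent.S12430
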