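import Groth.Statements.S2159
import Mathlib.Algebra.Category.ModuleCat.Biproducts
-- import your own Groth.Agent.* helpers here

set_option autoImplicit false
universe u
open CAlg

namespace Groth.Agent.S2159


/-- General splitting lemma: a surjection onto a projective module splits. -/
theorem split_of_surj {R X P : Type u} [CommRing R] [AddCommGroup X] [Module R X]
    [AddCommGroup P] [Module R P] [Module.Projective R P] (g : X →ₗ[R] P)
    (hg : Function.Surjective g) : Nonempty ((LinearMap.ker g × P) ≃ₗ[R] X) := by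
  obtain ⟨f, hf⟩ := g.exists_rightInverse_of_surjective (LinearMap.range_eq_top.2 hg)
  exact ⟨lequivProdOfRightSplitExact (j := (LinearMap.ker g).subtype) (g := g) (f := f)
    (Submodule.injective_subtype _) (by simp) hf⟩

/-- Given surjections `p₁ : P₁ → M` and `p₂ : P₂ → M` from projective modules, with kernels `K` and `L`,
there is an isomorphism `K ⊕ P₂ ≅ L ⊕ P₁`. -/
theorem result {R M P₁ P₂ : Type u} [CommRing R] [AddCommGroup M] [Module R M] [AddCommGroup P₁] [Module R P₁]
    [Module.Projective R P₁] [AddCommGroup P₂] [Module R P₂] [Module.Projective R P₂] (p₁ : P₁ →ₗ[R] M) (p₂ : P₂ →ₗ[R] M)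
    (h₁ : Function.Surjective p₁) (h₂ : Function.Surjective p₂) :
    Nonempty ((LinearMap.ker p₁ × P₂) ≃ₗ[R] (LinearMap.ker p₂ × P₁)) := by
  classical
  -- the fibre product
  let X : Submodule R (P₁ × P₂) := LinearMap.ker (p₁.coprod (-p₂))
  have hX : ∀ z : P₁ × P₂, z ∈ X ↔ p₁ z.1 = p₂ z.2 := by
    intro z
    simp only [X, LinearMap.mem_ker, LinearMap.coprod_apply, LinearMap.neg_apply]
    exact ⟨fun h => by rwa [← sub_eq_add_neg, sub_eq_zero] at h,
      fun h => by rw [← sub_eq_add_neg, sub_eq_zero]; exact h⟩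
  let π₁ : X →ₗ[R] P₁ := (LinearMap.fst R P₁ P₂).comp X.subtype
  let π₂ : X →ₗ[R] P₂ := (LinearMap.snd R P₁ P₂).comp X.subtype
  have hπ₁ : Function.Surjective π₁ := by
    intro a
    obtain ⟨b, hb⟩ := h₂ (p₁ a)
    exact ⟨⟨(a, b), (hX _).2 hb.symm⟩, rfl⟩
  have hπ₂ : Function.Surjective π₂ := by
    intro b
    obtain ⟨a, ha⟩ := h₁ (p₂ b)
    exact ⟨⟨(a, b), (hX _).2 ha⟩, rfl⟩
  -- kernels
  let e₁ : LinearMap.ker π₁ ≃ₗ[R] LinearMap.ker p₂ :=
    { toFun := fun z => ⟨z.1.1.2, by
        have h1 : z.1.1.1 = 0 := z.2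
        have h2 := (hX z.1.1).1 z.1.2
        rw [h1, map_zero] at h2
        exact h2.symm⟩
      map_add' := fun _ _ => rfl
      map_smul' := fun _ _ => rfl
      invFun := fun b => ⟨⟨(0, b.1), (hX _).2 (by simpa using b.2.symm)⟩, rfl⟩
      left_inv := fun z => by
        have h1 : z.1.1.1 = 0 := z.2
        apply Subtype.ext; apply Subtype.ext
        exact Prod.ext h1.symm rfl
      right_inv := fun b => rfl }
  let e₂ : LinearMap.ker π₂ ≃ₗ[R] LinearMap.ker p₁ :=
    { toFun := fun z => ⟨z.1.1.1, by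
        have h1 : z.1.1.2 = 0 := z.2
        have h2 := (hX z.1.1).1 z.1.2
        rw [h1, map_zero] at h2
        exact h2⟩
      map_add' := fun _ _ => rfl
      map_smul' := fun _ _ => rfl
      invFun := fun a => ⟨⟨(a.1, 0), (hX _).2 (by simpa using a.2)⟩, rfl⟩
      left_inv := fun z => by
        have h1 : z.1.1.2 = 0 := z.2
        apply Subtype.ext; apply Subtype.ext
        exact Prod.ext rfl h1.symm
      right_inv := fun a => rfl }
  obtain ⟨f₁⟩ := split_of_surj π₁ hπ₁
  obtain ⟨f₂⟩ := split_of_surj π₂ hπ₂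
  exact ⟨((e₂.symm.prodCongr (LinearEquiv.refl R P₂)).trans f₂).trans
    (f₁.symm.trans (e₁.prodCongr (LinearEquiv.refl R P₁)))⟩

end Groth.Agent.S2159
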