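import Groth.Statements.S10909
import Groth.Agent.Lib.Helper5.RegKaehlerGlobal
import Groth.Agent.Lib.helper19.RegularLocal

set_option autoImplicit false
universe u
open TensorProduct
open SmVar

namespace Groth.Agent.S10909

/-- Let k be an algebraically closed field and A a k-algebra of finite type with irreducible spectrum
(the nilradical of A is prime) and Krull dimension n; X = Spec A is then an irreducible separated
k-scheme of finite type of dimension n. Then X is a nonsingular variety — A is reduced and every
localization of A at a prime is a regular local ring — if and only if the module of Kähler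
differentials Ω_{A/k} is locally free of rank n: projective, with fibre κ(P) ⊗_A Ω_{A/k} of
dimension n at every prime P. -/
theorem result (k : Type u) [Field k]
    [IsAlgClosed k] (A : Type u) [CommRing A] [Algebra k A] [Algebra.FiniteType k A]
    (hirr : (nilradical A).IsPrime) (n : ℕ) (hn : ringKrullDim A = n) :
    (IsReduced A ∧ IsRegularRing A) ↔
      (Module.Projective A (Ω[A⁄k]) ∧
        ∀ (P : Ideal A) [P.IsPrime],
          Module.finrank P.ResidueField (P.ResidueField ⊗[A] Ω[A⁄k]) = n) := by
  have hnoeth : IsNoetherianRing A := Algebra.FiniteType.isNoetherianRing k A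
  constructor
  · rintro ⟨hred, hreg⟩
    have hsm : Algebra.Smooth k A := Lib.Helper5.RegSmoothCore.smooth_of_isRegularRing k A
    have hfs : Algebra.FormallySmooth k A := inferInstance
    have hproj : Module.Projective A (Ω[A⁄k]) := ((Algebra.formallySmooth_iff k A).1 hfs).1
    refine ⟨hproj, ?_⟩
    intro P hP
    obtain ⟨m, hm, hPm⟩ := Ideal.exists_le_maximal P hP.ne_top
    have h1 := Lib.Helper5.RegKaehlerGlobal.finrank_fiber_of_regular k A hirr n hn m
    have h2 := Module.rankAtStalk_eq_of_le_of_finite_of_flat' (Ω[A⁄k]) hPm
    rw [Module.rankAtStalk_eq, Module.rankAtStalk_eq] at h2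
    exact h2.trans h1
  · rintro ⟨hproj, hrank⟩
    have hreg : IsRegularRing A :=
      Lib.Helper5.RegKaehlerGlobal.isRegularRing_of_projective k A hirr n hn hproj hrank
    refine ⟨?_, hreg⟩
    apply isReduced_ofLocalizationMaximal
    intro m hm
    have : IsRegularLocalRing (Localization.AtPrime m) :=
      IsRegularRing.isRegularLocalRing_localization m
    have : IsDomain (Localization.AtPrime m) :=
      Lib.helper19.isDomain_of_isRegularLocalRing _
    infer_instance

end Groth.Agent.S10909
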