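import Groth.Statements.S0345
import Groth.Agent.Lib.helper11.GorensteinLocal
import Groth.Agent.S5790

set_option autoImplicit false
universe u v
open Goren

namespace Groth.Agent.S0345

/-- For a Noetherian ring A, the A-module A has finite injective dimension exactly when every
localization of A at a prime is Gorenstein and A has finite Krull dimension. -/
theorem result (A : Type u) [CommRing A] [IsNoetherianRing A] : (∃ n : ℕ, CategoryTheory.HasInjectiveDimensionLT (ModuleCat.of A A) n) ↔ (LocCoh.IsGorensteinRing A ∧ ringKrullDim A < ⊤) := by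
  constructor
  · rintro ⟨n, hn⟩
    have hn1 : CategoryTheory.HasInjectiveDimensionLT (ModuleCat.of A A) (n + 1) :=
      CategoryTheory.hasInjectiveDimensionLT_of_ge _ n (n + 1) (by omega)
    have hloc := (Groth.Agent.S5790.result A A n).mp hn1
    have hG : ∀ (p : Ideal A) [p.IsPrime],
        LocCoh.IsGorensteinLocalRing (Localization.AtPrime p) := by
      intro p hp
      exact LocCoh.IsGorensteinLocalRing.mk ⟨n + 1, hloc ⟨p, hp⟩⟩
    refine ⟨LocCoh.IsGorensteinRing.mk hG, ?_⟩
    have hle : ringKrullDim A ≤ (n : WithBot ℕ∞) := by
      rw [ringKrullDim_le_iff_isMaximal_height_le]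
      intro m hm
      haveI := hm.isPrime
      haveI := hG m
      obtain ⟨d, hd⟩ := Groth.Agent.Lib.Helper21.DepthKit.exists_nat_supportDim
        (A := Localization.AtPrime m) (M := Localization.AtPrime m)
      rw [Module.supportDim_self_eq_ringKrullDim] at hd
      have hmain := Groth.Agent.Lib.helper11.GorensteinLocal.gorenstein_main
        (A := Localization.AtPrime m)
        LocCoh.IsGorensteinLocalRing.exists_hasInjectiveDimensionLT d hd
      have hdn : d ≤ n := by
        by_contra hlt
        haveI : CategoryTheory.HasInjectiveDimensionLT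
            (ModuleCat.of (Localization.AtPrime m) (Localization.AtPrime m)) (n + 1) :=
          hloc ⟨m, hm.isPrime⟩
        have hsub := CategoryTheory.HasInjectiveDimensionLT.subsingleton
          (ModuleCat.of (Localization.AtPrime m) (Localization.AtPrime m)) (n + 1) d (by omega)
          (ModuleCat.of (Localization.AtPrime m)
            (Localization.AtPrime m ⧸ IsLocalRing.maximalIdeal (Localization.AtPrime m)))
        exact not_subsingleton_iff_nontrivial.mpr hmain.2.1 hsub
      rw [← IsLocalization.AtPrime.ringKrullDim_eq_height m (Localization.AtPrime m), hd]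
      exact_mod_cast hdn
    exact lt_of_le_of_lt hle (WithBot.coe_lt_coe.mpr (ENat.natCast_lt_top n))
  · rintro ⟨hG, hdim⟩
    rcases subsingleton_or_nontrivial A with hA | hA
    · exact ⟨0, (ModuleCat.isZero_of_subsingleton (ModuleCat.of A A)).hasInjectiveDimensionLT_zero⟩
    have hbot : ringKrullDim A ≠ ⊥ := by
      have h0 : (0 : WithBot ℕ∞) ≤ ringKrullDim A := ringKrullDim_nonneg_of_nontrivial
      intro hb
      rw [hb] at h0
      exact absurd h0 (by decide)
    obtain ⟨D, hD⟩ : ∃ D : ℕ, ringKrullDim A = D := by
      obtain ⟨D', hD'⟩ := WithBot.ne_bot_iff_exists.mp hbot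
      have hne : D' ≠ ⊤ := by
        rintro rfl
        rw [← hD'] at hdim
        exact lt_irrefl _ hdim
      obtain ⟨D, rfl⟩ := ENat.ne_top_iff_exists.mp hne
      exact ⟨D, hD'.symm⟩
    refine ⟨D + 1, (Groth.Agent.S5790.result A A D).mpr ?_⟩
    intro p
    haveI := hG.isGorensteinLocalRing_localization p.asIdeal
    obtain ⟨d, hd⟩ := Groth.Agent.Lib.Helper21.DepthKit.exists_nat_supportDim
      (A := Localization.AtPrime p.asIdeal) (M := Localization.AtPrime p.asIdeal)
    rw [Module.supportDim_self_eq_ringKrullDim] at hd
    have hmain := Groth.Agent.Lib.helper11.GorensteinLocal.gorenstein_main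
      (A := Localization.AtPrime p.asIdeal)
      LocCoh.IsGorensteinLocalRing.exists_hasInjectiveDimensionLT d hd
    have hdD : d ≤ D := by
      have h1 : ringKrullDim (Localization.AtPrime p.asIdeal) ≤ ringKrullDim A := by
        rw [IsLocalization.AtPrime.ringKrullDim_eq_height p.asIdeal]
        exact Ideal.height_le_ringKrullDim_of_ne_top p.2.ne_top
      rw [hd, hD] at h1
      exact_mod_cast h1
    haveI := hmain.1
    exact CategoryTheory.hasInjectiveDimensionLT_of_ge
      (ModuleCat.of (Localization.AtPrime p.asIdeal) (Localization.AtPrime p.asIdeal))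
      (d + 1) (D + 1) (by omega)

end Groth.Agent.S0345
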