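import Groth.Statements.S17756
-- import your own Groth.Agent.* helpers here
import Groth.Agent.Lib.Helper26.Matlis
import Mathlib.Algebra.Module.SpanRankOperations

set_option autoImplicit false
universe u
open Matlis

namespace Groth.Agent.S17756

open IsLocalRing in
/-- the socle of the dual is the dual of `M / mM` (length version, along any presentation of the
quotient) -/
lemma length_torsionBy_linearMap {R : Type u} [CommRing R] [IsLocalRing R]
    {E : Type u} [AddCommGroup E] [Module R E]
    {M Q : Type u} [AddCommGroup M] [Module R M] [AddCommGroup Q] [Module R Q]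
    (π : M →ₗ[R] Q) (hπ : Function.Surjective π)
    (hker : LinearMap.ker π = maximalIdeal R • (⊤ : Submodule R M)) :
    Module.length R (LocCoh.torsionBy (maximalIdeal R) (M →ₗ[R] E)) =
      Module.length R (Q →ₗ[R] E) := by
  have hinj : Function.Injective (LinearMap.lcomp R E π) :=
    LinearMap.lcomp_injective_of_surjective _ hπ
  have hex : Function.Exact (LinearMap.lcomp R E π) (LinearMap.lcomp R E (LinearMap.ker π).subtype) :=
    LinearMap.exact_lcomp_of_exact_of_surjective E
      (LinearMap.exact_iff.2 (by rw [Submodule.range_subtype])) hπ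
  have hrange : LinearMap.range (LinearMap.lcomp R E π) =
      LocCoh.torsionBy (maximalIdeal R) (M →ₗ[R] E) := by
    ext φ
    rw [Submodule.mem_torsionBySet_iff]
    refine ⟨fun hφ => ?_, fun h => (hex φ).1 ?_⟩
    · have h := (hex φ).2 hφ
      intro a
      ext x
      have hx : (a : R) • x ∈ LinearMap.ker π := by
        rw [hker]
        exact Submodule.smul_mem_smul a.2 trivial
      have := LinearMap.congr_fun h ⟨_, hx⟩
      simpa using this
    · ext ⟨x, hx⟩
      rw [hker] at hx
      show φ x = 0
      refine Submodule.smul_induction_on hx ?_ ?_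
      · intro a ha y _
        have := LinearMap.congr_fun (h ⟨a, ha⟩) y
        simpa using this
      · intro y z hy hz
        rw [map_add, hy, hz, add_zero]
  rw [← hrange]
  exact (LinearEquiv.ofInjective _ hinj).length_eq.symm

/-- Let R be a Noetherian local ring with maximal ideal m and residue field k, E an injective hull of k,
and M a finitely generated R-module with Matlis dual M^v = Hom_R(M, E). Then the minimal number of
generators of M equals the k-dimension of the socle of M^v, the submodule of elements of M^v killed
by m (stated as its length as an R-module). -/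
theorem result (R : Type u) [CommRing R] [IsNoetherianRing R] [IsLocalRing R] (E : Type u) [AddCommGroup E] [Module R E] (f : IsLocalRing.ResidueField R →ₗ[R] E) (hf : InjHull.IsInjectiveHull f) (M : Type u) [AddCommGroup M] [Module R M] [Module.Finite R M] : ((⊤ : Submodule R M).spanFinrank : ℕ∞) = Module.length R (LocCoh.torsionBy (IsLocalRing.maximalIdeal R) (M →ₗ[R] E)) := by
  classical
  have hfg : (⊤ : Submodule R M).FG := Module.Finite.fg_top
  have h1 := IsLocalRing.spanFinrank_eq_finrank_quotient (⊤ : Submodule R M) hfg
  let e : ↥(⊤ : Submodule R M) ≃ₗ[R] M := Submodule.topEquiv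
  let π : M →ₗ[R] (↥(⊤ : Submodule R M) ⧸
      IsLocalRing.maximalIdeal R • (⊤ : Submodule R ↥(⊤ : Submodule R M))) :=
    (Submodule.mkQ _) ∘ₗ e.symm.toLinearMap
  have hπ : Function.Surjective π := (Submodule.mkQ_surjective _).comp e.symm.surjective
  have hker : LinearMap.ker π = IsLocalRing.maximalIdeal R • (⊤ : Submodule R M) := by
    rw [LinearMap.ker_comp, Submodule.ker_mkQ]
    have : (IsLocalRing.maximalIdeal R • (⊤ : Submodule R ↥(⊤ : Submodule R M))).comap
          e.symm.toLinearMap =
        (IsLocalRing.maximalIdeal R • (⊤ : Submodule R ↥(⊤ : Submodule R M))).map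
          e.toLinearMap := by
      rw [← Submodule.map_equiv_eq_comap_symm]
    rw [this, Submodule.map_smul'', Submodule.map_top, LinearEquiv.range]
  rw [length_torsionBy_linearMap π hπ hker]
  -- now the length of the quotient
  letI : Field (R ⧸ IsLocalRing.maximalIdeal R) := Ideal.Quotient.field _
  have hlenQ : Module.length R (↥(⊤ : Submodule R M) ⧸
      IsLocalRing.maximalIdeal R • (⊤ : Submodule R ↥(⊤ : Submodule R M))) =
        ((⊤ : Submodule R M).spanFinrank : ℕ∞) := by
    rw [h1, Module.length_eq_of_surjective (S := R) (R := R ⧸ IsLocalRing.maximalIdeal R)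
      Ideal.Quotient.mk_surjective, Module.length_eq_finrank]
  have hQfin : IsFiniteLength R (↥(⊤ : Submodule R M) ⧸
      IsLocalRing.maximalIdeal R • (⊤ : Submodule R ↥(⊤ : Submodule R M))) := by
    rw [← Module.length_ne_top_iff, hlenQ]
    exact ENat.natCast_ne_top _
  rw [Groth.Agent.Lib.Helper26.Matlis.length_linearMap hf _ hQfin, hlenQ]

end Groth.Agent.S17756
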