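import Groth.Statements.S6315
import Mathlib
import Groth.Agent.Lib.Helper21.TorLES

set_option autoImplicit false
universe u
open CategoryTheory
open CAlg

namespace Groth.Agent.S6315

section helpers
open Groth.Agent.Lib.Helper21.TorLES CategoryTheory CategoryTheory.Limits MonoidalCategory

lemma shortExact_of {R : Type u} [CommRing R] {K P N : Type u} [AddCommGroup K] [Module R K]
    [AddCommGroup P] [Module R P] [AddCommGroup N] [Module R N]
    (i : K →ₗ[R] P) (q : P →ₗ[R] N) (hi : Function.Injective i) (hex : Function.Exact i q)
    (hq : Function.Surjective q) :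
    (ShortComplex.mk (ModuleCat.ofHom i) (ModuleCat.ofHom q)
      (by ext x; exact hex.apply_apply_eq_zero x)).ShortExact :=
  ModuleCat.shortComplex_shortExact _ hex hi hq

theorem aux (R : Type u) [CommRing R] [IsNoetherianRing R] (N : Type u)
    [AddCommGroup N] [Module R N] [Module.Finite R N] (p : ℕ) :
    (∀ (M : Type u) [AddCommGroup M] [Module R M] [Module.Finite R M],
      Module.Finite R (((CategoryTheory.Tor (ModuleCat.{u} R) p).obj (ModuleCat.of R M)).obj
        (ModuleCat.of R N))) ∧
    (∀ (M : Type u) [AddCommGroup M] [Module R M] [Module.Finite R M],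
      Module.Finite R (((CategoryTheory.Tor (ModuleCat.{u} R) (p + 1)).obj (ModuleCat.of R M)).obj
        (ModuleCat.of R N))) := by
  induction p with
  | zero =>
    refine ⟨fun M _ _ _ => ?_, fun M _ _ _ => ?_⟩
    · have e := (Functor.leftDerivedZeroIsoSelf (tensorLeft (ModuleCat.of R M))).app (ModuleCat.of R N)
      have : Module.Finite R ((tensorLeft (ModuleCat.of R M)).obj (ModuleCat.of R N)) := by
        change Module.Finite R (TensorProduct R M N)
        infer_instance
      exact Module.Finite.equiv e.toLinearEquiv.symm
    · obtain ⟨k, q, hq⟩ := Module.Finite.exists_fin' R M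
      let K := LinearMap.ker q
      have hS := shortExact_of (R := R) (K := K) (P := (Fin k → R)) (N := M) K.subtype q
        K.injective_subtype (LinearMap.exact_subtype_ker_map q) hq
      have : Module.Flat R (ModuleCat.of R (Fin k → R)) := by
        change Module.Flat R (Fin k → R)
        infer_instance
      have e := torFirstOneIsoKernel _ _ _ hS (ModuleCat.of R N)
      let φ := (e.hom ≫ kernel.ι _).hom
      have hφ : Function.Injective φ := by
        have : Mono (e.hom ≫ kernel.ι (ModuleCat.ofHom K.subtype ▷ ModuleCat.of R N)) := inferInstance
        exact (ModuleCat.mono_iff_injective _).1 this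
      have hfin : Module.Finite R (TensorProduct R K N) := inferInstance
      have : IsNoetherian R ((ModuleCat.of R K) ⊗ (ModuleCat.of R N) : ModuleCat.{u} R) := by
        change IsNoetherian R (TensorProduct R K N)
        exact isNoetherian_of_isNoetherianRing_of_finite R (TensorProduct R K N)
      exact Module.Finite.of_injective φ hφ
  | succ p ih =>
    refine ⟨ih.2, fun M _ _ _ => ?_⟩
    obtain ⟨k, q, hq⟩ := Module.Finite.exists_fin' R M
    let K := LinearMap.ker q
    have hS := shortExact_of (R := R) (K := K) (P := (Fin k → R)) (N := M) K.subtype q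
      K.injective_subtype (LinearMap.exact_subtype_ker_map q) hq
    have : Module.Flat R (ModuleCat.of R (Fin k → R)) := by
      change Module.Flat R (Fin k → R)
      infer_instance
    have e := torFirstShiftIso _ _ _ hS (ModuleCat.of R N) p
    have := ih.2 K
    exact Module.Finite.equiv e.toLinearEquiv.symm

end helpers


/-- Let R be a Noetherian ring and M, N finite R-modules. Then Tor_pᴿ(M, N) is a finite R-module for all
p. -/
theorem result (R : Type u) [CommRing R] [IsNoetherianRing R] (M N : Type u) [AddCommGroup M] [Module R M] [AddCommGroup N] [Module R N] [Module.Finite R M] [Module.Finite R N] (p : ℕ) : Module.Finite R (((CategoryTheory.Tor (ModuleCat.{u} R) p).obj (ModuleCat.of R M)).obj (ModuleCat.of R N)) := by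
  exact (aux R N p).1 M

end Groth.Agent.S6315
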