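import Groth.Statements.S18646
import Mathlib.RingTheory.FiniteType
import Mathlib.RingTheory.Noetherian.Basic
import Mathlib.RingTheory.TensorProduct.Finite
import Mathlib.RingTheory.FiniteStability

set_option autoImplicit false
universe u
open scoped TensorProduct
open GrSegre

namespace Groth.Agent.S18646

open DirectSum

section proj
variable {k : Type u} [Field k] {R : Type u} [CommRing R] [Algebra k R] (𝒜 : ℤ → Submodule k R)
  [GradedAlgebra 𝒜] {S : Type u} [CommRing S] [Algebra k S] (ℬ : ℤ → Submodule k S)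
  [GradedAlgebra ℬ]

/-- the bilinear map `(a, b) ↦ ∑ₙ aₙ ⊗ bₙ` -/
noncomputable def diagBil : R →ₗ[k] (S →ₗ[k] R ⊗[k] S) :=
  (DirectSum.toModule k ℤ (S →ₗ[k] R ⊗[k] S) fun n =>
    (LinearMap.lcomp k (R ⊗[k] S) (GradedAlgebra.proj ℬ n)) ∘ₗ (TensorProduct.mk k R S) ∘ₗ
      (𝒜 n).subtype) ∘ₗ (DirectSum.decomposeLinearEquiv 𝒜).toLinearMap

/-- projection of `R ⊗ S` onto the diagonal part -/
noncomputable def diagProj : R ⊗[k] S →ₗ[k] R ⊗[k] S := TensorProduct.lift (diagBil 𝒜 ℬ)

lemma diagProj_tmul_of_mem {m : ℤ} {a : R} (ha : a ∈ 𝒜 m) (b : S) :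
    diagProj 𝒜 ℬ (a ⊗ₜ b) = a ⊗ₜ (GradedAlgebra.proj ℬ m b) := by
  simp only [diagProj, TensorProduct.lift.tmul, diagBil, LinearMap.comp_apply,
    LinearEquiv.coe_coe, DirectSum.decomposeLinearEquiv_apply, DirectSum.decompose_of_mem 𝒜 ha]
  rw [← DirectSum.lof_eq_of k, DirectSum.toModule_lof]
  rfl

end proj

section props
variable {k : Type u} [Field k] {R : Type u} [CommRing R] [Algebra k R] (𝒜 : ℤ → Submodule k R)
  [GradedAlgebra 𝒜] {S : Type u} [CommRing S] [Algebra k S] (ℬ : ℤ → Submodule k S)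
  [GradedAlgebra ℬ]

/-- the span of the diagonal elementary tensors of degree `m` -/
def W (m : ℤ) : Submodule k (R ⊗[k] S) :=
  Submodule.span k {x : R ⊗[k] S | ∃ a ∈ 𝒜 m, ∃ b ∈ ℬ m, x = a ⊗ₜ[k] b}

lemma diagProj_mul {m : ℤ} {d : R ⊗[k] S} (hd : d ∈ W 𝒜 ℬ m) (c : R ⊗[k] S) :
    diagProj 𝒜 ℬ (d * c) = d * diagProj 𝒜 ℬ c := by
  induction hd using Submodule.span_induction with
  | mem d hd =>
    obtain ⟨x, hx, y, hy, rfl⟩ := hd
    induction c using TensorProduct.induction_on with
    | zero => simp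
    | add c c' hc hc' => rw [mul_add, map_add, hc, hc', map_add, mul_add]
    | tmul a b =>
      revert b
      induction a using DirectSum.Decomposition.inductionOn 𝒜 with
      | zero => intro b; simp
      | add a a' ha ha' =>
        intro b
        rw [TensorProduct.add_tmul, mul_add, map_add, ha, ha', map_add, mul_add]
      | homogeneous a =>
        intro b
        rename_i i
        rw [Algebra.TensorProduct.tmul_mul_tmul,
          diagProj_tmul_of_mem 𝒜 ℬ (SetLike.GradedMul.mul_mem hx a.2),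
          diagProj_tmul_of_mem 𝒜 ℬ a.2, Algebra.TensorProduct.tmul_mul_tmul]
        congr 1
        simp only [GradedAlgebra.proj_apply]
        exact DirectSum.coe_decompose_mul_add_of_left_mem ℬ hy
  | zero => simp
  | add d d' _ _ hd hd' => rw [add_mul, map_add, hd, hd', add_mul]
  | smul r d _ hd => rw [smul_mul_assoc, map_smul, hd, smul_mul_assoc]

lemma diagProj_of_mem {m : ℤ} {d : R ⊗[k] S} (hd : d ∈ W 𝒜 ℬ m) : diagProj 𝒜 ℬ d = d := by
  induction hd using Submodule.span_induction with
  | mem d hd =>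
    obtain ⟨x, hx, y, hy, rfl⟩ := hd
    rw [diagProj_tmul_of_mem 𝒜 ℬ hx, GradedAlgebra.proj_apply, DirectSum.decompose_of_mem_same ℬ hy]
  | zero => simp
  | add d d' _ _ hd hd' => rw [map_add, hd, hd']
  | smul r d _ hd => rw [map_smul, hd]

lemma diagProj_mem (c : R ⊗[k] S) : diagProj 𝒜 ℬ c ∈ ⨆ m, W 𝒜 ℬ m := by
  induction c using TensorProduct.induction_on with
  | zero => simp
  | add c c' hc hc' => rw [map_add]; exact Submodule.add_mem _ hc hc'
  | tmul a b =>
    revert b
    induction a using DirectSum.Decomposition.inductionOn 𝒜 with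
    | zero => intro b; simp
    | add a a' ha ha' =>
      intro b
      rw [TensorProduct.add_tmul, map_add]
      exact Submodule.add_mem _ (ha b) (ha' b)
    | homogeneous a =>
      intro b
      rename_i i
      rw [diagProj_tmul_of_mem 𝒜 ℬ a.2]
      refine Submodule.mem_iSup_of_mem i (Submodule.subset_span ⟨a, a.2, _, ?_, rfl⟩)
      rw [GradedAlgebra.proj_apply]
      exact SetLike.coe_mem _

end props


/-- Let R and S be graded rings defined over a field k. Then their Segre product T = R # S is a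
Noetherian ring (hence again a graded ring defined over k). Here a graded ring defined over k is a
commutative k-algebra of finite type, graded in nonnegative degrees by k-subspaces with degree-zero
part k·1; the Segre product T = R # S = ⊕_n R_n ⊗_k S_n (graded by T_n = R_n ⊗_k S_n) is presented
abstractly as a graded k-algebra T with an injective k-algebra homomorphism ψ : T → R ⊗_k S carrying
T_n onto the k-span of the elementary tensors a ⊗ b with a ∈ R_n, b ∈ S_n, for every n. -/
theorem result (k : Type u) [Field k] (R : Type u) [CommRing R] [Algebra k R] (𝒜 : ℤ → Submodule k R) [GradedAlgebra 𝒜] (hposR : ∀ n : ℤ, n < 0 → 𝒜 n = ⊥) (h0R : 𝒜 0 = Submodule.span k {(1 : R)}) [Algebra.FiniteType k R] (S : Type u) [CommRing S] [Algebra k S] (ℬ : ℤ → Submodule k S) [GradedAlgebra ℬ] (hposS : ∀ n : ℤ, n < 0 → ℬ n = ⊥) (h0S : ℬ 0 = Submodule.span k {(1 : S)}) [Algebra.FiniteType k S] (T : Type u) [CommRing T] [Algebra k T] (𝒯 : ℤ → Submodule k T) [GradedAlgebra 𝒯] (ψ : T →ₐ[k] TensorProduct k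 R S) (hψ : Function.Injective ψ) (hdegT : ∀ n : ℤ, (𝒯 n).map ψ.toLinearMap = Submodule.span k {x : TensorProduct k R S | ∃ a ∈ 𝒜 n, ∃ b ∈ ℬ n, x = a ⊗ₜ[k] b}) : IsNoetherianRing T := by
  classical
  have hft : Algebra.FiniteType k (TensorProduct k R S) :=
    Algebra.FiniteType.trans (S := R) inferInstance inferInstance
  have hC : IsNoetherianRing (TensorProduct k R S) := Algebra.FiniteType.isNoetherianRing k _
  have hW : ∀ n, (𝒯 n).map ψ.toLinearMap = W 𝒜 ℬ n := hdegT
  -- ψ t is fixed by the projection and the projection is ψ(T)-linear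
  have h1 : ∀ t : T, diagProj 𝒜 ℬ (ψ t) = ψ t := by
    intro t
    induction t using DirectSum.Decomposition.inductionOn 𝒯 with
    | zero => simp
    | add t t' ht ht' => rw [map_add, map_add, ht, ht']
    | homogeneous t =>
      rename_i n
      apply diagProj_of_mem 𝒜 ℬ (m := n)
      rw [← hW n]
      exact Submodule.mem_map_of_mem t.2
  have h2 : ∀ (t : T) (c : TensorProduct k R S), diagProj 𝒜 ℬ (ψ t * c) = ψ t * diagProj 𝒜 ℬ c := by
    intro t
    induction t using DirectSum.Decomposition.inductionOn 𝒯 with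
    | zero => intro c; simp
    | add t t' ht ht' => intro c; rw [map_add, add_mul, map_add, ht, ht', add_mul]
    | homogeneous t =>
      rename_i n
      intro c
      apply diagProj_mul 𝒜 ℬ (m := n)
      rw [← hW n]
      exact Submodule.mem_map_of_mem t.2
  have h3 : ∀ c : TensorProduct k R S, ∃ t : T, ψ t = diagProj 𝒜 ℬ c := by
    intro c
    have hle : (⨆ m, W 𝒜 ℬ m) ≤ LinearMap.range ψ.toLinearMap := by
      refine iSup_le fun m => ?_
      rw [← hW m]
      exact LinearMap.map_le_range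
    obtain ⟨t, ht⟩ := hle (diagProj_mem 𝒜 ℬ c)
    exact ⟨t, ht⟩
  rw [isNoetherianRing_iff_ideal_fg]
  intro J
  have hfg : (Ideal.span ((fun t => ψ t) '' (J : Set T))).FG :=
    (isNoetherianRing_iff_ideal_fg _).mp hC _
  obtain ⟨X', hX', hspan⟩ := (Submodule.fg_span_iff_fg_span_finset_subset _).mp hfg
  obtain ⟨X, hX, rfl⟩ := Finset.subset_set_image_iff.mp hX'
  refine ⟨X, le_antisymm (Submodule.span_le.mpr hX) ?_⟩
  intro j hj
  have hj' : ψ j ∈ Ideal.span ((X.image fun t => ψ t : Finset (TensorProduct k R S)) : Set _) :=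
    (show Ideal.span ((fun t => ψ t) '' (J : Set T)) = Ideal.span _ from hspan) ▸
      Ideal.subset_span ⟨j, hj, rfl⟩
  obtain ⟨f, -, hf⟩ := Submodule.mem_span_finset.mp hj'
  rw [Finset.sum_image (fun a _ b _ h => hψ h)] at hf
  choose g hg using h3
  have h4 : ψ j = ψ (∑ x ∈ X, g (f (ψ x)) * x) := by
    rw [map_sum]
    conv_lhs => rw [← h1 j, ← hf, map_sum]
    refine Finset.sum_congr rfl fun x _ => ?_
    rw [smul_eq_mul, mul_comm, h2, ← hg, map_mul, mul_comm]
  rw [hψ h4]
  refine Submodule.sum_mem _ fun x hx => ?_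
  exact Submodule.smul_mem _ _ (Submodule.subset_span hx)

end Groth.Agent.S18646
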