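import Groth.Statements.S2119
-- import your own Groth.Agent.* helpers here

set_option autoImplicit false
universe u
open CAlg

namespace Groth.Agent.S2119

section
variable {A : Type u} [CommRing A] [IsDomain A] (P : Set A) (hP : ∀ p ∈ P, Prime p)
include hP

theorem lemC (x : A) (hx : ∀ p ∈ P, ¬ p ∣ x) {s : A} (hs : s ∈ Submonoid.closure P) :
    ∀ a, x ∣ s * a → x ∣ a := by
  induction hs using Submonoid.closure_induction with
  | mem p hp =>
    intro a ⟨c, hc⟩
    have hpp := hP p hp
    have h1 : p ∣ x * c := ⟨a, hc.symm⟩
    rcases hpp.dvd_or_dvd h1 with h | ⟨c', rfl⟩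
    · exact absurd h (hx p hp)
    · refine ⟨c', ?_⟩
      have : p * a = p * (x * c') := by rw [hc]; ring
      exact mul_left_cancel₀ hpp.ne_zero this
  | one => intro a h; simpa using h
  | mul s t _ _ ihs iht =>
    intro a h
    apply iht
    apply ihs
    rwa [← mul_assoc]

theorem lemD {s : A} (hs : s ∈ Submonoid.closure P) :
    ∀ a b y, a * b = s * y → ∃ a' b' s1 s2, s1 ∈ Submonoid.closure P ∧ s2 ∈ Submonoid.closure P ∧
      a = s1 * a' ∧ b = s2 * b' ∧ a' * b' = y := by
  induction hs using Submonoid.closure_induction with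
  | mem p hp =>
    intro a b y h
    have hpp := hP p hp
    have h1 : p ∣ a * b := ⟨y, h⟩
    rcases hpp.dvd_or_dvd h1 with ⟨a', rfl⟩ | ⟨b', rfl⟩
    · refine ⟨a', b, p, 1, Submonoid.subset_closure hp, Submonoid.one_mem _, rfl, (one_mul b).symm, ?_⟩
      have : p * (a' * b) = p * y := by rw [← h]; ring
      exact mul_left_cancel₀ hpp.ne_zero this
    · refine ⟨a, b', 1, p, Submonoid.one_mem _, Submonoid.subset_closure hp, (one_mul a).symm, rfl, ?_⟩
      have : p * (a * b') = p * y := by rw [← h]; ring
      exact mul_left_cancel₀ hpp.ne_zero this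
  | one =>
    intro a b y h
    exact ⟨a, b, 1, 1, Submonoid.one_mem _, Submonoid.one_mem _, (one_mul a).symm, (one_mul b).symm,
      by simpa using h⟩
  | mul s t _ _ ihs iht =>
    intro a b y h
    obtain ⟨a', b', s1, s2, hs1, hs2, rfl, rfl, h'⟩ := ihs a b (t * y) (by rw [h]; ring)
    obtain ⟨a'', b'', t1, t2, ht1, ht2, rfl, rfl, h''⟩ := iht a' b' y h'
    exact ⟨a'', b'', s1 * t1, s2 * t2, Submonoid.mul_mem _ hs1 ht1, Submonoid.mul_mem _ hs2 ht2,
      by ring, by ring, h''⟩

theorem closure_le_nonZeroDivisors : Submonoid.closure P ≤ nonZeroDivisors A := by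
  rw [Submonoid.closure_le]
  intro p hp
  exact mem_nonZeroDivisors_of_ne_zero (hP p hp).ne_zero

theorem prime_of_irreducible [IsDomain (Localization (Submonoid.closure P))]
    (hS : UniqueFactorizationMonoid (Localization (Submonoid.closure P))) (x : A)
    (hx : Irreducible x) : Prime x := by
  by_cases hcase : ∃ p ∈ P, p ∣ x
  · obtain ⟨p, hp, u, rfl⟩ := hcase
    have hpp := hP p hp
    rcases hx.isUnit_or_isUnit rfl with h | h
    · exact absurd h hpp.not_isUnit
    · exact (associated_mul_unit_right p u h).prime hpp
  · push Not at hcase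
    let L := Localization (Submonoid.closure P)
    have hinj : Function.Injective (algebraMap A L) :=
      IsLocalization.injective L (closure_le_nonZeroDivisors P hP)
    -- `x` does not become a unit
    have hnu : ¬ IsUnit (algebraMap A L x) := by
      intro hu
      obtain ⟨⟨y, s⟩, hy⟩ := IsLocalization.surj (Submonoid.closure P) (↑hu.unit⁻¹ : L)
      have h1 : algebraMap A L (x * y) = algebraMap A L s := by
        rw [map_mul, ← hy]
        simp only
        rw [← mul_assoc, IsUnit.mul_val_inv, one_mul]
      have h2 : x * y = s := hinj h1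
      have h3 : x ∣ (s : A) * 1 := ⟨y, by rw [mul_one, h2]⟩
      have h4 := lemC P hP x hcase s.2 1 h3
      exact hx.not_isUnit (isUnit_of_dvd_one h4)
    have hirr : Irreducible (algebraMap A L x) := by
      refine ⟨hnu, ?_⟩
      intro α β hαβ
      obtain ⟨⟨a, s1⟩, ha⟩ := IsLocalization.surj (Submonoid.closure P) α
      obtain ⟨⟨b, s2⟩, hb⟩ := IsLocalization.surj (Submonoid.closure P) β
      simp only at ha hb
      have h1 : algebraMap A L (a * b) = algebraMap A L ((s1 * s2 : A) * x) := by
        rw [map_mul, map_mul, map_mul, ← ha, ← hb, hαβ]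
        ring
      have h2 := hinj h1
      obtain ⟨a', b', t1, t2, ht1, ht2, rfl, rfl, h3⟩ :=
        lemD P hP (Submonoid.mul_mem _ s1.2 s2.2) a b x h2
      rcases hx.isUnit_or_isUnit h3.symm with hu | hu
      · left
        have : IsUnit (α * algebraMap A L s1) := by
          rw [ha, map_mul]
          exact (IsLocalization.map_units L ⟨t1, ht1⟩).mul (hu.map _)
        exact isUnit_of_mul_isUnit_left this
      · right
        have : IsUnit (β * algebraMap A L s2) := by
          rw [hb, map_mul]
          exact (IsLocalization.map_units L ⟨t2, ht2⟩).mul (hu.map _)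
        exact isUnit_of_mul_isUnit_left this
    have hprime : Prime (algebraMap A L x) := UniqueFactorizationMonoid.irreducible_iff_prime.mp hirr
    refine ⟨hx.ne_zero, hx.not_isUnit, ?_⟩
    intro a b hab
    have key : ∀ a : A, algebraMap A L x ∣ algebraMap A L a → x ∣ a := by
      intro a ⟨γ, hγ⟩
      obtain ⟨⟨c, s⟩, hc⟩ := IsLocalization.surj (Submonoid.closure P) γ
      simp only at hc
      have h1 : algebraMap A L ((s : A) * a) = algebraMap A L (x * c) := by
        rw [map_mul, map_mul, hγ, ← hc]
        ring
      have h2 := hinj h1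
      exact lemC P hP x hcase s.2 a ⟨c, h2⟩
    have : algebraMap A L x ∣ algebraMap A L a * algebraMap A L b := by
      rw [← map_mul]
      exact map_dvd _ hab
    rcases hprime.dvd_or_dvd this with h | h
    · exact Or.inl (key a h)
    · exact Or.inr (key b h)

end

/-- Nagata's criterion for factoriality, final assertion: let `A` be a domain in which every nonzero
nonunit factors into irreducibles, and `S` the multiplicative subset generated by a set of prime
elements. If the localization `S⁻¹A` is a unique factorization domain, then so is `A`. -/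
theorem result {A : Type u} [CommRing A] [IsDomain A]
    (hfac : ∀ a : A, a ≠ 0 → ¬ IsUnit a → ∃ f : Multiset A, (∀ b ∈ f, Irreducible b) ∧ Associated f.prod a) (P : Set A)
    (hP : ∀ p ∈ P, Prime p) [IsDomain (Localization (Submonoid.closure P))]
    (hS : UniqueFactorizationMonoid (Localization (Submonoid.closure P))) : UniqueFactorizationMonoid A := by
  apply UniqueFactorizationMonoid.of_exists_prime_factors
  intro a ha
  by_cases hu : IsUnit a
  · refine ⟨0, by simp, ?_⟩
    rw [Multiset.prod_zero]
    exact (associated_one_iff_isUnit.mpr hu).symm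
  · obtain ⟨f, hf, hfa⟩ := hfac a ha hu
    exact ⟨f, fun b hb => prime_of_irreducible P hP hS b (hf b hb), hfa⟩

end Groth.Agent.S2119
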