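import Groth.Statements.S19752
import Groth.Agent.Lib.Helper14.GrDualLib

set_option autoImplicit false
universe u
open GrDual

namespace Groth.Agent.S19752

open Groth.Agent.Lib.Helper14.GrDualLib DirectSum

section Inj

variable {k : Type u} [Field k] {R : Type u} [CommRing R] [Algebra k R] (𝒜 : ℤ → Submodule k R)
  [GradedAlgebra 𝒜] {D : Type u} [AddCommGroup D] [Module R D] [Module k D] [IsScalarTower k R D]
  (𝒟 : ℤ → AddSubgroup D) [DirectSum.Decomposition 𝒟] [SetLike.GradedSMul 𝒜 𝒟]
  (β : D →ₗ[k] R →ₗ[k] k) (hD : GrSeg.IsGDual R 𝒜 𝒟 β)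

include hD in
theorem starInj : GrLC.IsStarInj 𝒜 𝒟 := by
  classical
  intro A B f hf hfinj g₀ hg₀
  letI : Module k A.carrier := Module.compHom A.carrier (algebraMap k R)
  letI : Module k B.carrier := Module.compHom B.carrier (algebraMap k R)
  haveI : IsScalarTower k R A.carrier := IsScalarTower.of_algebraMap_smul (fun _ _ => rfl)
  haveI : IsScalarTower k R B.carrier := IsScalarTower.of_algebraMap_smul (fun _ _ => rfl)
  -- functional on A
  let lamA : A.carrier →ₗ[k] k := (β.flip 1) ∘ₗ (g₀.restrictScalars k)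
  have hlamA : ∀ a, lamA a = β (g₀ a) 1 := fun _ => rfl
  obtain ⟨ρ, hρ⟩ := LinearMap.exists_leftInverse_of_injective (f.restrictScalars k)
    (LinearMap.ker_eq_bot.mpr hfinj)
  have hρ' : ∀ a, ρ (f a) = a := fun a => by
    have := congrArg (fun φ => φ a) hρ
    simpa using this
  -- projection to degree zero as a k-linear map on B
  let proj0 : B.carrier →ₗ[k] B.carrier :=
    { toFun := fun b => ((decompose B.gr b) 0 : B.carrier)
      map_add' := by intro a b; simp [decompose_add]
      map_smul' := by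
        intro c b
        change ((decompose B.gr (algebraMap k R c • b)) 0 : B.carrier)
          = algebraMap k R c • ((decompose B.gr b) 0 : B.carrier)
        have hgr : GrLC.IsGrHom B.gr B.gr (LinearMap.lsmul R B.carrier (algebraMap k R c)) := by
          intro j m hm
          have := smul_mem_piece 𝒜 B.gr (SetLike.algebraMap_mem_graded 𝒜 c) hm
          rwa [zero_add] at this
        exact decompose_map_of_grHom B.gr B.gr hgr b 0 }
  have hproj0 : ∀ b, proj0 b = ((decompose B.gr b) 0 : B.carrier) := fun _ => rfl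
  let Lam : B.carrier →ₗ[k] k := lamA ∘ₗ ρ ∘ₗ proj0
  have hLam : ∀ b, Lam b = lamA (ρ ((decompose B.gr b) 0 : B.carrier)) := fun _ => rfl
  have hLam_ne : ∀ (j : ℤ) (b : B.carrier), b ∈ B.gr j → j ≠ 0 → Lam b = 0 := by
    intro j b hb hj
    rw [hLam, decompose_of_mem_ne B.gr hb hj, map_zero, map_zero]
  have hlamA0 : ∀ a, lamA ((decompose A.gr a) 0 : A.carrier) = lamA a := by
    intro a
    rw [hlamA, hlamA, ← decompose_map_of_grHom A.gr 𝒟 hg₀]
    have := pair_decompose_left 𝒜 𝒟 β hD (g₀ a) (x := (1 : R)) (n := 0)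
      (SetLike.GradedOne.one_mem)
    rw [neg_zero] at this
    exact this.symm
  have hLamf : ∀ a, Lam (f a) = lamA a := by
    intro a
    rw [hLam, decompose_map_of_grHom A.gr B.gr hf, hρ', hlamA0]
  -- key: β (g₀ a) r = lamA (r • a)
  have hg₀β : ∀ a r, β (g₀ a) r = lamA (r • a) := by
    intro a r
    rw [hlamA, map_smul, hD.map_smul, smul_eq_mul, mul_one]
  -- existence for homogeneous b
  have hex_hom : ∀ (n : ℤ) (b : B.carrier), b ∈ B.gr n →
      ∃ d, d ∈ 𝒟 n ∧ ∀ r : R, β d r = Lam (r • b) := by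
    intro n b hb
    let φ : R →ₗ[k] k := Lam ∘ₗ ((LinearMap.toSpanSingleton R B.carrier b).restrictScalars k)
    have hφ : ∀ r, φ r = Lam (r • b) := fun _ => rfl
    obtain ⟨d, hd, hdφ⟩ := hD.exists_eq n φ
    refine ⟨d, hd, fun r => ?_⟩
    rw [← hφ]
    rw [← DirectSum.sum_support_decompose 𝒜 r, map_sum, map_sum]
    apply Finset.sum_congr rfl
    intro j _
    by_cases hj : j = -n
    · exact hdφ _ (by rw [← hj]; exact SetLike.coe_mem _)
    · rw [hD.vanish n d hd j hj _ (SetLike.coe_mem _), hφ]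
      symm
      apply hLam_ne (j + n) _ (smul_mem_piece 𝒜 B.gr (SetLike.coe_mem _) hb)
      intro h; apply hj; omega
  choose! dd hdd hddβ using hex_hom
  have hex : ∀ b : B.carrier, ∃ d, ∀ r : R, β d r = Lam (r • b) := by
    intro b
    refine ⟨∑ n ∈ (decompose B.gr b).support, dd n ((decompose B.gr b) n : B.carrier), fun r => ?_⟩
    rw [map_sum, LinearMap.sum_apply]
    conv_rhs => rw [← DirectSum.sum_support_decompose B.gr b, Finset.smul_sum, map_sum]
    apply Finset.sum_congr rfl
    intro n _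
    exact hddβ n _ (SetLike.coe_mem _) r
  choose hh hhβ using hex
  have hsep : ∀ d : D, (∀ r, β d r = 0) → d = 0 := fun d h => sep_left 𝒜 𝒟 β hD h
  let h : B.carrier →ₗ[R] D :=
    { toFun := hh
      map_add' := by
        intro a b
        rw [← sub_eq_zero]
        apply hsep
        intro r
        rw [map_sub, map_add, LinearMap.sub_apply, LinearMap.add_apply, hhβ, hhβ, hhβ, smul_add,
          map_add, sub_self]
      map_smul' := by
        intro s b
        rw [← sub_eq_zero]
        apply hsep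
        intro r
        rw [map_sub, LinearMap.sub_apply, RingHom.id_apply, hD.map_smul, hhβ, hhβ, smul_eq_mul,
          mul_comm, mul_smul, sub_self] }
  have hh_apply : ∀ b, h b = hh b := fun _ => rfl
  refine ⟨h, ?_, ?_⟩
  · intro n b hb
    have : h b = dd n b := by
      rw [← sub_eq_zero]
      apply hsep
      intro r
      rw [map_sub, LinearMap.sub_apply, hh_apply, hhβ, hddβ n b hb, sub_self]
    rw [this]; exact hdd n b hb
  · ext a
    rw [LinearMap.comp_apply, ← sub_eq_zero]
    apply hsep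
    intro r
    rw [map_sub, LinearMap.sub_apply, hh_apply, hhβ, hg₀β, ← map_smul, hLamf, sub_self]

end Inj


/-- Let R = ⊕_{n ≥ 0} R_n be a Noetherian graded ring with R_0 = k a field, m = R_+ and k = R/m. Then
the graded k-dual R^* = ⊕_n Hom_k(R_{−n}, k) is the injective envelope of R/m in the category of
graded R-modules: for every injective homomorphism of graded R-modules e : R/m → R^*, the module R^*
is an injective object of the graded category and every nonzero graded submodule of R^* meets the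
image of e. Here a graded ring defined over k is a commutative k-algebra of finite type, graded in
nonnegative degrees by k-subspaces with degree-zero part k·1, and R_+ is the ideal spanned by the
R_n with n > 0 (a Noetherian such ring is the same as one of finite type over k); the graded k-dual
M^* = ⊕_n Hom_k(M_{−n}, k) of a graded R-module M (with r ∈ R acting by (r f)(x) = f(r x)) is
presented abstractly as a graded R-module D with a k-bilinear pairing β : D × M → k compatible with
the R-actions, under which D_n pairs to zero with M_m for m ≠ −n and is identified with the full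
dual space of M_{−n}. -/
theorem result (k : Type u) [Field k] (R : Type u) [CommRing R] [Algebra k R] (𝒜 : ℤ → Submodule k R) [GradedAlgebra 𝒜] (hposR : ∀ n : ℤ, n < 0 → 𝒜 n = ⊥) (h0R : 𝒜 0 = Submodule.span k {(1 : R)}) [Algebra.FiniteType k R] (mR : HomogeneousIdeal 𝒜) (hmR : mR.toIdeal = Ideal.span (⋃ n ∈ Set.Ioi (0 : ℤ), (𝒜 n : Set R))) (D : Type u) [AddCommGroup D] [Module R D] [Module k D] [IsScalarTower k R D] (𝒟 : ℤ → AddSubgroup D) [DirectSum.Decomposition 𝒟] [SetLike.GradedSMul 𝒜 𝒟] (β : D →ₗ[k] R →ₗ[k] k) (hD : GrSeg.IsGDual R 𝒜 𝒟 β) (e : (R ⧸ mR.toIdeal) →ₗ[R] D) (he : Function.Injective e) (hegr : GrLC.IsGrHom (GrLC.quotGr 𝒜 mR) 𝒟 e) : GrLC.IsStarInjHull 𝒜 (GrLC.quotGr 𝒜 mR) 𝒟 e := by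
  classical
  refine { injective := he, grHom := hegr, essential := ?_, starInj := starInj 𝒜 𝒟 β hD }
  intro P hP hPne
  -- a nonzero homogeneous element of P
  obtain ⟨p, hpP, hp0⟩ := (Submodule.ne_bot_iff P).mp hPne
  obtain ⟨n, hn⟩ : ∃ n, ((decompose 𝒟 p) n : D) ≠ 0 := by
    by_contra hcon
    push Not at hcon
    apply hp0
    rw [← DirectSum.sum_support_decompose 𝒟 p]
    exact Finset.sum_eq_zero fun i _ => hcon i
  set d : D := ((decompose 𝒟 p) n : D) with hd
  have hdP : d ∈ P := hP n hpP
  have hdn : d ∈ 𝒟 n := SetLike.coe_mem _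
  -- r with β d r ≠ 0
  obtain ⟨r, hr, hβr⟩ : ∃ r, r ∈ 𝒜 (-n) ∧ β d r ≠ 0 := by
    by_contra hcon
    push Not at hcon
    exact hn (hD.eq_zero n d hdn hcon)
  set d' : D := r • d with hd'
  have hd'P : d' ∈ P := P.smul_mem r hdP
  have hd'0 : d' ∈ 𝒟 0 := by
    have := smul_mem_piece 𝒜 𝒟 hr hdn
    rwa [neg_add_cancel] at this
  have hβd' : β d' 1 = β d r := by rw [hd', hD.map_smul, smul_eq_mul, mul_one]
  have hd'ne : d' ≠ 0 := by
    intro h; rw [h, map_zero, LinearMap.zero_apply] at hβd'; exact hβr hβd'.symm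
  -- 1 ∉ mR
  have h1 : (1 : R) ∉ mR.toIdeal := by
    intro h1m
    rw [hmR] at h1m
    have key : ∀ x ∈ Ideal.span (⋃ n ∈ Set.Ioi (0 : ℤ), (𝒜 n : Set R)),
        ((decompose 𝒜 x) 0 : R) = 0 := by
      intro x hx
      obtain ⟨c, t, hts, -, hsum⟩ := Submodule.mem_span_iff_exists_finset_subset.mp hx
      rw [← hsum, decompose_sum, DFinsupp.finsetSum_apply, Submodule.coe_sum]
      apply Finset.sum_eq_zero
      intro y hy
      have hy' := hts hy
      simp only [Set.mem_iUnion, Set.mem_Ioi, SetLike.mem_coe, exists_prop] at hy'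
      obtain ⟨j, hj, hyj⟩ := hy'
      have h := coe_decompose_mul_add_of_right_mem 𝒜 (i := -j) (a := c y) hyj
      rw [neg_add_cancel] at h
      rw [smul_eq_mul, h]
      have hz : ((decompose 𝒜 (c y)) (-j) : R) ∈ (⊥ : Submodule k R) := by
        have h0 := hposR (-j) (by omega)
        have h1 : ((decompose 𝒜 (c y)) (-j) : R) ∈ 𝒜 (-j) := SetLike.coe_mem _
        exact h0 ▸ h1
      rw [Submodule.mem_bot] at hz
      rw [hz, zero_mul]
    have := key 1 h1m
    rw [decompose_of_mem_same 𝒜 SetLike.GradedOne.one_mem] at this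
    apply hd'ne
    rw [← one_smul R d', this, zero_smul]
  set ε : D := e (Ideal.Quotient.mk mR.toIdeal 1) with hε
  have hε0 : ε ∈ 𝒟 0 := by
    apply hegr 0
    refine ⟨1, ?_, rfl⟩
    exact (SetLike.GradedOne.one_mem : (1 : R) ∈ 𝒜 0)
  have hεne : ε ≠ 0 := by
    intro h
    rw [hε, ← map_zero e] at h
    have := he h
    rw [Ideal.Quotient.eq_zero_iff_mem] at this
    exact h1 this
  -- elements of 𝒟 0 vanishing at 1 vanish
  have hzero : ∀ x : D, x ∈ 𝒟 0 → β x 1 = 0 → x = 0 := by
    intro x hx hx1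
    apply hD.eq_zero 0 x hx
    intro y hy
    rw [neg_zero, h0R, Submodule.mem_span_singleton] at hy
    obtain ⟨c, rfl⟩ := hy
    rw [map_smul, hx1, smul_zero]
  have hβε : β ε 1 ≠ 0 := fun h => hεne (hzero ε hε0 h)
  set c : k := β d' 1 / β ε 1 with hc
  have hd'eq : d' = c • ε := by
    rw [← sub_eq_zero]
    apply hzero
    · have : d' - c • ε ∈ pieceK 𝒜 𝒟 0 :=
        Submodule.sub_mem _ hd'0 (Submodule.smul_mem _ _ hε0)
      exact this
    · have e1 : β (c • ε) 1 = c * β ε 1 := by
        rw [LinearMap.map_smul, LinearMap.smul_apply, smul_eq_mul]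
      rw [map_sub, LinearMap.sub_apply, e1, hc, div_mul_cancel₀ _ hβε, sub_self]
  intro hbot
  have hmem : d' ∈ P ⊓ LinearMap.range e := by
    refine ⟨hd'P, ?_⟩
    refine ⟨algebraMap k R c • Ideal.Quotient.mk mR.toIdeal 1, ?_⟩
    rw [map_smul, algebraMap_smul, hd'eq]
  rw [hbot, Submodule.mem_bot] at hmem
  exact hd'ne hmem

end Groth.Agent.S19752
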