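import Groth.Statements.S3405
import Groth.Agent.Lib.Helper2.HilbSamuel
import Groth.Agent.Lib.Helper7.SupportDimParams

set_option autoImplicit false
universe u
open EGA41

namespace Groth.Agent.S3405

/-- The degree of the Hilbert–Samuel polynomial equals the dimension: let A be a Noetherian ring with
finitely many maximal ideals, r its Jacobson radical and M a nonzero finitely generated A-module.
Then there is a polynomial P with rational coefficients such that the length of M/rⁿM is finite and
equals P(n) for all large n, and the degree of P is the dimension of M (the Krull dimension of its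
support). -/
theorem result (A : Type u) [CommRing A] [IsNoetherianRing A]
    [Finite (MaximalSpectrum A)] (M : Type u) [AddCommGroup M] [Module A M] [Module.Finite A M] [Nontrivial M] :
    ∃ P : Polynomial ℚ,
      (∃ N : ℕ, ∀ n : ℕ, N ≤ n →
        ∃ ℓ : ℕ, Module.length A (M ⧸ (Ring.jacobson A ^ n • (⊤ : Submodule A M))) = ℓ ∧ (ℓ : ℚ) = P.eval (n : ℚ)) ∧
      (P.natDegree : WithBot ℕ∞) = Module.supportDim A M := by
  classical
  obtain ⟨P, hP⟩ := Groth.Agent.Lib.Helper2.HilbSamuel.exists_HS (A := A) (M := M)
  refine ⟨P, ?_, ?_⟩
  · obtain ⟨N, hN⟩ := hP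
    refine ⟨N, fun n hn => ⟨(Groth.Agent.Lib.Helper2.HilbSamuel.L A M n).toNat, ?_, hN n hn⟩⟩
    rw [← Groth.Agent.Lib.Helper2.HilbSamuel.L_eq,
      ENat.coe_toNat (Groth.Agent.Lib.Helper2.HilbSamuel.L_ne_top n)]
  · apply le_antisymm
    · -- upper bound via parameters
      by_cases htop : Module.supportDim A M = ⊤
      · rw [htop]; exact le_top
      · have hbot : Module.supportDim A M ≠ ⊥ := Module.supportDim_ne_bot_of_nontrivial A M
        obtain ⟨e, he⟩ := WithBot.ne_bot_iff_exists.1 hbot
        have hetop : e ≠ ⊤ := by
          rintro rfl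
          exact htop he.symm
        obtain ⟨d, rfl⟩ := ENat.ne_top_iff_exists.1 hetop
        obtain ⟨l, hlen, hl, hfl⟩ :=
          Groth.Agent.Lib.Helper7.SuppDimParams.exists_list_of_supportDim_le d M (le_of_eq he.symm)
        have := Groth.Agent.Lib.Helper2.HilbSamuel.HS.natDegree_le_length l hl M P hP hfl
        rw [hlen] at this
        rw [← he]
        exact_mod_cast this
    · -- lower bound via chains
      unfold Module.supportDim Order.krullDim
      apply iSup_le
      intro p
      have := Groth.Agent.Lib.Helper2.HilbSamuel.HS.le_natDegree_of_chain p.length M P hP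
        (fun i => (p i).1)
        (fun i j hij => p.strictMono hij) (fun i => (p i).2)
      exact_mod_cast this

end Groth.Agent.S3405
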