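import Groth.Statements.S13175
import Mathlib
-- import your own Groth.Agent.* helpers here

set_option autoImplicit false
universe u v w
open scoped TensorProduct
open ZeroCyc

namespace Groth.Agent.S13175

theorem exists_lift_pair {A : Type u} [CommRing A] {B : Type v} [CommRing B] [Algebra A B]
    {S : Type u} [CommRing S] [Algebra A S] (x y : S ⊗[A] B) :
    ∃ (n : ℕ) (ψ : MvPolynomial (Fin n) A →ₐ[A] S) (p q : MvPolynomial (Fin n) A ⊗[A] B),
      ψ.toLinearMap.rTensor B p = x ∧ ψ.toLinearMap.rTensor B q = y := by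
  obtain ⟨A₁, hA₁, hx⟩ := TensorProduct.Algebra.exists_of_fg x
  obtain ⟨A₂, hA₂, hy⟩ := TensorProduct.Algebra.exists_of_fg y
  obtain ⟨gen, hgen⟩ := PolynomialLaw.exists_range_φ_eq_of_fg (hA₁.sup hA₂)
  obtain ⟨p, hp⟩ := PolynomialLaw.exists_lift_of_mem_range_rTensor A₁
    (φ := PolynomialLaw.φ A gen) (hgen ▸ le_sup_left) hx
  obtain ⟨q, hq⟩ := PolynomialLaw.exists_lift_of_mem_range_rTensor A₂
    (φ := PolynomialLaw.φ A gen) (hgen ▸ le_sup_right) hy
  exact ⟨gen.card, PolynomialLaw.φ A gen, p, q, hp, hq⟩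

theorem rTensor_eq_map {A : Type u} [CommRing A] {B : Type v} [CommRing B] [Algebra A B]
    {S T : Type u} [CommRing S] [Algebra A S] [CommRing T] [Algebra A T] (ψ : S →ₐ[A] T)
    (z : S ⊗[A] B) :
    ψ.toLinearMap.rTensor B z = Algebra.TensorProduct.map ψ (AlgHom.id A B) z := by
  induction z using TensorProduct.induction_on with
  | zero => simp
  | tmul s b => simp
  | add a b ha hb => rw [map_add, map_add, ha, hb]

theorem rTensor_mul {A : Type u} [CommRing A] {B : Type v} [CommRing B] [Algebra A B]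
    {S T : Type u} [CommRing S] [Algebra A S] [CommRing T] [Algebra A T] (ψ : S →ₐ[A] T)
    (p q : S ⊗[A] B) :
    ψ.toLinearMap.rTensor B (p * q) = ψ.toLinearMap.rTensor B p * ψ.toLinearMap.rTensor B q := by
  rw [rTensor_eq_map, rTensor_eq_map, rTensor_eq_map, map_mul]

theorem rTensor_one {A : Type u} [CommRing A] {B : Type v} [CommRing B] [Algebra A B]
    {S T : Type u} [CommRing S] [Algebra A S] [CommRing T] [Algebra A T] (ψ : S →ₐ[A] T) :
    ψ.toLinearMap.rTensor B (1 : S ⊗[A] B) = 1 := by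
  rw [rTensor_eq_map, map_one]

/-- Let B and C be A-algebras and F : B → C a polynomial law. If the maps F over the polynomial rings
A[t_1, …, t_n], n ≥ 0, are multiplicative (send 1 to 1 and products to products), then F is a
multiplicative law: F sends 1 to 1 and products to products over every A-algebra. -/
theorem result {A : Type u} [CommRing A] {B : Type v} [CommRing B] [Algebra A B] {C : Type w} [CommRing C] [Algebra A C]
    (F : B →ₚₗ[A] C)
    (h1 : ∀ n : ℕ, F.toFun' (MvPolynomial (Fin n) A) 1 = 1)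
    (hmul : ∀ (n : ℕ) (x y : MvPolynomial (Fin n) A ⊗[A] B),
      F.toFun' (MvPolynomial (Fin n) A) (x * y) = F.toFun' (MvPolynomial (Fin n) A) x * F.toFun' (MvPolynomial (Fin n) A) y) :
    ∀ (S : Type u) [CommRing S] [Algebra A S], F.toFun' S 1 = 1 ∧
      ∀ x y : S ⊗[A] B, F.toFun' S (x * y) = F.toFun' S x * F.toFun' S y := by
  intro S _ _
  constructor
  · let ψ : MvPolynomial (Fin 0) A →ₐ[A] S := MvPolynomial.aeval (fun i => Fin.elim0 i)
    have h := PolynomialLaw.isCompat_apply' (f := F) ψ (1 : MvPolynomial (Fin 0) A ⊗[A] B)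
    rw [h1 0, rTensor_one, rTensor_one] at h
    exact h.symm
  · intro x y
    obtain ⟨n, ψ, p, q, rfl, rfl⟩ := exists_lift_pair x y
    rw [← rTensor_mul, ← PolynomialLaw.isCompat_apply', ← PolynomialLaw.isCompat_apply',
      ← PolynomialLaw.isCompat_apply', hmul, rTensor_mul]

end Groth.Agent.S13175
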