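import Groth.Statements.S13174
-- import your own Groth.Agent.* helpers here
import Mathlib

set_option autoImplicit false
universe u v w
open scoped TensorProduct
open ZeroCyc

namespace Groth.Agent.S13174

section helpers

open MvPolynomial LinearMap

variable {A : Type u} [CommRing A] {M : Type v} [AddCommGroup M] [Module A M]
  {N : Type w} [AddCommGroup N] [Module A N]

/-- compatible families -/
def Compat (T : ∀ n : ℕ, MvPolynomial (Fin n) A ⊗[A] M → MvPolynomial (Fin n) A ⊗[A] N) : Prop :=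
  ∀ (n m : ℕ) (φ : MvPolynomial (Fin n) A →ₐ[A] MvPolynomial (Fin m) A),
    φ.toLinearMap.rTensor N ∘ T n = T m ∘ φ.toLinearMap.rTensor M

variable {T : ∀ n : ℕ, MvPolynomial (Fin n) A ⊗[A] M → MvPolynomial (Fin n) A ⊗[A] N}

lemma compat_apply (hT : Compat T) {n m : ℕ}
    (φ : MvPolynomial (Fin n) A →ₐ[A] MvPolynomial (Fin m) A) (x : MvPolynomial (Fin n) A ⊗[A] M) :
    φ.toLinearMap.rTensor N (T n x) = T m (φ.toLinearMap.rTensor M x) :=
  congrFun (hT n m φ) x

lemma transfer (hT : Compat T) {S : Type*} [CommSemiring S] [Algebra A S] {n m : ℕ}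
    (θ : MvPolynomial (Fin n) A →ₐ[A] MvPolynomial (Fin m) A)
    (ψn : MvPolynomial (Fin n) A →ₐ[A] S) (ψm : MvPolynomial (Fin m) A →ₐ[A] S)
    (h : ψm.comp θ = ψn) (p : MvPolynomial (Fin n) A ⊗[A] M) :
    ψn.toLinearMap.rTensor N (T n p) =
      ψm.toLinearMap.rTensor N (T m (θ.toLinearMap.rTensor M p)) := by
  rw [← compat_apply hT, ← LinearMap.comp_apply, ← rTensor_comp, ← AlgHom.comp_toLinearMap, h]

lemma step_tmul (hT : Compat T) {S : Type*} [CommSemiring S] [Algebra A S] {n : ℕ}
    (ψ : MvPolynomial (Fin n) A →ₐ[A] S) (a : MvPolynomial (Fin n) A) (ha : ψ a = 0) (m : M)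
    (u : MvPolynomial (Fin n) A ⊗[A] M) :
    ψ.toLinearMap.rTensor N (T n (u + a ⊗ₜ m)) = ψ.toLinearMap.rTensor N (T n u) := by
  let ι₁ : MvPolynomial (Fin n) A →ₐ[A] MvPolynomial (Fin (n+1)) A := rename Fin.succ
  let Q : MvPolynomial (Fin (n+1)) A ⊗[A] M := ι₁.toLinearMap.rTensor M u + (X 0) ⊗ₜ m
  let α : MvPolynomial (Fin (n+1)) A →ₐ[A] MvPolynomial (Fin n) A :=
    aeval (Fin.cons a X : Fin (n+1) → MvPolynomial (Fin n) A)
  let β : MvPolynomial (Fin (n+1)) A →ₐ[A] MvPolynomial (Fin n) A :=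
    aeval (Fin.cons 0 X : Fin (n+1) → MvPolynomial (Fin n) A)
  have hαι : α.comp ι₁ = AlgHom.id A _ := by
    apply MvPolynomial.algHom_ext
    intro i
    simp [α, ι₁]
  have hβι : β.comp ι₁ = AlgHom.id A _ := by
    apply MvPolynomial.algHom_ext
    intro i
    simp [β, ι₁]
  have hα : α.toLinearMap.rTensor M Q = u + a ⊗ₜ m := by
    simp only [Q, map_add, ← LinearMap.comp_apply, ← rTensor_comp, ← AlgHom.comp_toLinearMap, hαι]
    simp [α]
  have hβ : β.toLinearMap.rTensor M Q = u := by
    simp only [Q, map_add, ← LinearMap.comp_apply, ← rTensor_comp, ← AlgHom.comp_toLinearMap, hβι]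
    simp [β]
  have hαβ : ψ.comp α = ψ.comp β := by
    apply MvPolynomial.algHom_ext
    intro i
    refine Fin.cases ?_ (fun j => ?_) i
    · simp [α, β, ha]
    · simp [α, β]
  rw [← hα, ← transfer hT α (ψ.comp α) ψ rfl Q, hαβ, transfer hT β (ψ.comp β) ψ rfl Q, hβ]

lemma step_ker (hT : Compat T) {S : Type*} [CommSemiring S] [Algebra A S] {n : ℕ}
    (ψ : MvPolynomial (Fin n) A →ₐ[A] S) (K : Submodule A (MvPolynomial (Fin n) A))
    (hK : ∀ a ∈ K, ψ a = 0) (z : K ⊗[A] M) :
    ∀ u : MvPolynomial (Fin n) A ⊗[A] M,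
      ψ.toLinearMap.rTensor N (T n (u + K.subtype.rTensor M z)) =
        ψ.toLinearMap.rTensor N (T n u) := by
  induction z using TensorProduct.induction_on with
  | zero => intro u; simp
  | tmul a m =>
    intro u
    simpa using step_tmul hT ψ a (hK a a.2) m u
  | add z1 z2 h1 h2 =>
    intro u
    rw [map_add, ← add_assoc, h2, h1]

lemma exists_combine {S : Type*} [CommSemiring S] [Algebra A S] {n n' : ℕ}
    (ψ : MvPolynomial (Fin n) A →ₐ[A] S) (ψ' : MvPolynomial (Fin n') A →ₐ[A] S) :
    ∃ (Ψ : MvPolynomial (Fin (n + n')) A →ₐ[A] S)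
      (θ : MvPolynomial (Fin n) A →ₐ[A] MvPolynomial (Fin (n + n')) A)
      (θ' : MvPolynomial (Fin n') A →ₐ[A] MvPolynomial (Fin (n + n')) A),
      Ψ.comp θ = ψ ∧ Ψ.comp θ' = ψ' := by
  refine ⟨aeval (Fin.addCases (fun i => ψ (X i)) (fun j => ψ' (X j))),
    rename (Fin.castAdd n'), rename (Fin.natAdd n), ?_, ?_⟩
  · apply MvPolynomial.algHom_ext
    intro i
    simp
  · apply MvPolynomial.algHom_ext
    intro i
    simp

end helpers

section helpers2

open MvPolynomial LinearMap

variable {A : Type u} [CommRing A] {M : Type v} [AddCommGroup M] [Module A M]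
  {N : Type w} [AddCommGroup N] [Module A N]
variable {T : ∀ n : ℕ, MvPolynomial (Fin n) A ⊗[A] M → MvPolynomial (Fin n) A ⊗[A] N}

lemma same_ring (hT : Compat T) {S : Type*} [CommRing S] [Algebra A S] {n : ℕ}
    (ψ : MvPolynomial (Fin n) A →ₐ[A] S) (q q' : MvPolynomial (Fin n) A ⊗[A] M)
    (h : ψ.toLinearMap.rTensor M q = ψ.toLinearMap.rTensor M q') :
    ψ.toLinearMap.rTensor N (T n q) = ψ.toLinearMap.rTensor N (T n q') := by
  classical
  have hB : Subalgebra.FG (R := A) ψ.range := by
    rw [← Algebra.map_top]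
    exact Subalgebra.FG.map _ Algebra.FiniteType.out
  set t := rTensor M ψ.rangeRestrict.toLinearMap q with ht
  set t' := rTensor M ψ.rangeRestrict.toLinearMap q' with ht'
  have htt' : rTensor M (Subalgebra.val _).toLinearMap t =
      rTensor M (Subalgebra.val _).toLinearMap t' := by
    simp only [ht, ht', ← LinearMap.comp_apply, ← rTensor_comp, ← AlgHom.comp_toLinearMap,
      AlgHom.val_comp_rangeRestrict, h]
  obtain ⟨B', hBB', hB'fg, hB'⟩ := TensorProduct.Algebra.eq_of_fg_of_subtype_eq hB htt'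
  obtain ⟨s, hs⟩ := PolynomialLaw.exists_range_φ_eq_of_fg hB'fg
  obtain ⟨Ψ, θ, θ', hθ, hθ'⟩ := exists_combine ψ (PolynomialLaw.φ A s)
  have hB'' : B' ≤ Ψ.range := by
    rw [← hs, ← hθ']
    exact AlgHom.range_comp_le_range _ _
  have hcomp : Ψ.rangeRestrict.comp θ =
      (Subalgebra.inclusion hB'').comp ((Subalgebra.inclusion hBB').comp ψ.rangeRestrict) := by
    apply AlgHom.ext
    intro x
    apply Subtype.ext
    have := congrArg (fun f => f x) hθ
    simpa using this
  have heq : rTensor M Ψ.rangeRestrict.toLinearMap (rTensor M θ.toLinearMap q) =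
      rTensor M Ψ.rangeRestrict.toLinearMap (rTensor M θ.toLinearMap q') := by
    simp only [← LinearMap.comp_apply, ← rTensor_comp, ← AlgHom.comp_toLinearMap, hcomp]
    simp only [AlgHom.comp_toLinearMap, rTensor_comp, LinearMap.comp_apply]
    rw [← ht, ← ht', hB']
  set g := Ψ.rangeRestrict.toLinearMap with hg
  set K := LinearMap.ker g with hKdef
  have hex : Function.Exact (rTensor M K.subtype) (rTensor M g) :=
    rTensor_exact M (LinearMap.exact_subtype_ker_map g) Ψ.rangeRestrict_surjective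
  have hmem : rTensor M θ.toLinearMap q' - rTensor M θ.toLinearMap q ∈
      Set.range (rTensor M K.subtype) := by
    rw [← hex]
    rw [map_sub, heq, sub_self]
  obtain ⟨z, hz⟩ := hmem
  have hK : ∀ a ∈ K, Ψ a = 0 := by
    intro a ha
    have : g a = 0 := ha
    exact congrArg Subtype.val this
  have := step_ker hT Ψ K hK z (rTensor M θ.toLinearMap q)
  rw [hz, add_sub_cancel] at this
  rw [transfer hT θ ψ Ψ hθ q, transfer hT θ ψ Ψ hθ q', this]

end helpers2

section helpers3

open MvPolynomial LinearMap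

variable {A : Type u} [CommRing A] {M : Type v} [AddCommGroup M] [Module A M]
  {N : Type w} [AddCommGroup N] [Module A N]
variable {T : ∀ n : ℕ, MvPolynomial (Fin n) A ⊗[A] M → MvPolynomial (Fin n) A ⊗[A] N}

lemma same (hT : Compat T) {S : Type*} [CommSemiring S] [Algebra A S] {n : ℕ}
    (ψ : MvPolynomial (Fin n) A →ₐ[A] S) (q q' : MvPolynomial (Fin n) A ⊗[A] M)
    (h : ψ.toLinearMap.rTensor M q = ψ.toLinearMap.rTensor M q') :
    ψ.toLinearMap.rTensor N (T n q) = ψ.toLinearMap.rTensor N (T n q') := by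
  let _ : CommRing S :=
    { (inferInstance : CommSemiring S), Module.addCommMonoidToAddCommGroup A (M := S) with }
  exact same_ring hT ψ q q' h

end helpers3

section helpers4

open MvPolynomial LinearMap

variable {A : Type u} [CommRing A] {M : Type v} [AddCommGroup M] [Module A M]
  {N : Type w} [AddCommGroup N] [Module A N]
variable {T : ∀ n : ℕ, MvPolynomial (Fin n) A ⊗[A] M → MvPolynomial (Fin n) A ⊗[A] N}

lemma key (hT : Compat T) {S : Type*} [CommSemiring S] [Algebra A S] {n n' : ℕ}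
    (ψ : MvPolynomial (Fin n) A →ₐ[A] S) (ψ' : MvPolynomial (Fin n') A →ₐ[A] S)
    (p : MvPolynomial (Fin n) A ⊗[A] M) (p' : MvPolynomial (Fin n') A ⊗[A] M)
    (h : ψ.toLinearMap.rTensor M p = ψ'.toLinearMap.rTensor M p') :
    ψ.toLinearMap.rTensor N (T n p) = ψ'.toLinearMap.rTensor N (T n' p') := by
  obtain ⟨Ψ, θ, θ', hθ, hθ'⟩ := exists_combine ψ ψ'
  rw [transfer hT θ ψ Ψ hθ p, transfer hT θ' ψ' Ψ hθ' p']
  apply same hT
  rw [← LinearMap.comp_apply, ← rTensor_comp, ← AlgHom.comp_toLinearMap, hθ,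
    ← LinearMap.comp_apply, ← rTensor_comp, ← AlgHom.comp_toLinearMap, hθ', h]

/-- the underlying function of the polynomial law attached to a compatible family -/
noncomputable def lawFun (T : ∀ n : ℕ, MvPolynomial (Fin n) A ⊗[A] M → MvPolynomial (Fin n) A ⊗[A] N)
    (S : Type u) [CommSemiring S] [Algebra A S] (x : S ⊗[A] M) : S ⊗[A] N :=
  ((PolynomialLaw.exists_lift (R := A) x).choose_spec.choose).toLinearMap.rTensor N
    (T _ (PolynomialLaw.exists_lift (R := A) x).choose_spec.choose_spec.choose)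

lemma lawFun_eq (hT : Compat T) {S : Type u} [CommSemiring S] [Algebra A S] {n : ℕ}
    (ψ : MvPolynomial (Fin n) A →ₐ[A] S) (p : MvPolynomial (Fin n) A ⊗[A] M) :
    lawFun T S (ψ.toLinearMap.rTensor M p) = ψ.toLinearMap.rTensor N (T n p) := by
  unfold lawFun
  apply key hT
  exact (PolynomialLaw.exists_lift (R := A)
    (ψ.toLinearMap.rTensor M p)).choose_spec.choose_spec.choose_spec

/-- the polynomial law attached to a compatible family -/
noncomputable def lawOf (T : ∀ n : ℕ, MvPolynomial (Fin n) A ⊗[A] M → MvPolynomial (Fin n) A ⊗[A] N)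
    (hT : Compat T) : M →ₚₗ[A] N where
  toFun' S _ _ := lawFun T S
  isCompat' {S _ _ S' _ _} φ := by
    funext x
    obtain ⟨n, ψ, p, rfl⟩ := PolynomialLaw.exists_lift (R := A) x
    simp only [Function.comp_apply]
    rw [lawFun_eq hT, ← LinearMap.comp_apply, ← rTensor_comp, ← AlgHom.comp_toLinearMap,
      ← LinearMap.comp_apply, ← rTensor_comp, ← AlgHom.comp_toLinearMap, lawFun_eq hT]

lemma lawOf_toFun' (hT : Compat T) (n : ℕ) :
    (lawOf T hT).toFun' (MvPolynomial (Fin n) A) = T n := by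
  funext x
  obtain ⟨n', ψ, p, rfl⟩ := PolynomialLaw.exists_lift (R := A) x
  change lawFun T _ _ = _
  rw [lawFun_eq hT, compat_apply hT]

end helpers4

/-- Let M and N be A-modules. Polynomial laws M → N correspond one-to-one, by restriction, to families
of maps T_n : M[t_1, …, t_n] → N[t_1, …, t_n], n ≥ 0, compatible with all A-algebra homomorphisms
A[t_1, …, t_n] → A[t_1, …, t_m]: in the definition of a polynomial law the category of A-algebras
may be replaced by the polynomial rings in finitely many variables. (Here a polynomial law is given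
on all commutative A-algebra semirings of the universe of A.) -/
theorem result {A : Type u} [CommRing A] {M : Type v} [AddCommGroup M] [Module A M] {N : Type w} [AddCommGroup N] [Module A N] :
    Function.Bijective (fun F : M →ₚₗ[A] N =>
      (⟨fun n => F.toFun' (MvPolynomial (Fin n) A), fun n m φ => F.isCompat' φ⟩ :
        {T : ∀ n : ℕ, MvPolynomial (Fin n) A ⊗[A] M → MvPolynomial (Fin n) A ⊗[A] N //
          ∀ (n m : ℕ) (φ : MvPolynomial (Fin n) A →ₐ[A] MvPolynomial (Fin m) A),
            φ.toLinearMap.rTensor N ∘ T n = T m ∘ φ.toLinearMap.rTensor M})) := by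
  constructor
  · intro F G h
    have h' : ∀ n : ℕ, F.toFun' (MvPolynomial (Fin n) A) = G.toFun' (MvPolynomial (Fin n) A) :=
      fun n => congrFun (congrArg Subtype.val h) n
    apply PolynomialLaw.ext
    funext S _ _ x
    obtain ⟨n, ψ, p, rfl⟩ := PolynomialLaw.exists_lift (R := A) x
    have hF := congrFun (F.isCompat' ψ) p
    have hG := congrFun (G.isCompat' ψ) p
    simp only [Function.comp_apply] at hF hG
    rw [← hF, ← hG, h' n]
  · rintro ⟨T, hT⟩
    refine ⟨lawOf T hT, ?_⟩
    apply Subtype.ext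
    funext n
    exact lawOf_toFun' hT n

end Groth.Agent.S13174
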