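import Groth.Statements.S7397
import Mathlib.Tactic.Ring
import Mathlib.Tactic.Linarith

set_option autoImplicit false
universe u
open Mor

namespace Groth.Agent.S7397

/-- Let `A ⊆ B` be a ring extension and `b ∈ B`, `b ∉ A`, with `b^n, b^(n+1) ∈ A` for some `n ≥ 2`. Then
some `b' ∈ B` with `b' ∉ A` has `b'^2 ∈ A` and `b'^3 ∈ A`. -/
theorem result {B : Type u} [CommRing B] (A : Subring B) (b : B) (hb : b ∉ A)
    (n : ℕ) (hn : 2 ≤ n) (h1 : b ^ n ∈ A) (h2 : b ^ (n + 1) ∈ A) :
    ∃ b' : B, b' ∉ A ∧ b' ^ 2 ∈ A ∧ b' ^ 3 ∈ A := by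
  classical
  have hex : ∃ N : ℕ, ∀ m, N ≤ m → b ^ m ∈ A := by
    refine ⟨n * n, fun m hm => ?_⟩
    have hn0 : 0 < n := by omega
    have hr : m % n < n := Nat.mod_lt _ hn0
    have hq : n ≤ m / n := by
      rw [Nat.le_div_iff_mul_le hn0]; exact hm
    have hdecomp : ∃ q r : ℕ, m = n * q + (n + 1) * r := by
      have h := Nat.div_add_mod m n
      have hle : m % n ≤ m / n := by omega
      obtain ⟨k, hk⟩ := Nat.exists_eq_add_of_le hle
      refine ⟨k, m % n, ?_⟩
      generalize m % n = r at *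
      generalize m / n = q at *
      subst hk
      rw [← h]
      ring
    obtain ⟨q, r, hdecomp⟩ := hdecomp
    rw [hdecomp, pow_add, pow_mul, pow_mul]
    exact A.mul_mem (A.pow_mem h1 _) (A.pow_mem h2 _)
  have hN := Nat.find_spec hex
  have hmin := fun k => Nat.find_min hex (m := k)
  set N := Nat.find hex with hNdef
  have hN2 : 2 ≤ N := by
    by_contra hlt
    have : b ^ 1 ∈ A := hN 1 (by omega)
    rw [pow_one] at this
    exact hb this
  refine ⟨b ^ (N - 1), ?_, ?_, ?_⟩
  · intro hmem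
    apply hmin (N - 1) (by omega)
    intro m hm
    rcases Nat.eq_or_lt_of_le hm with h | h
    · rw [← h]; exact hmem
    · exact hN m (by omega)
  · rw [← pow_mul]; exact hN _ (by omega)
  · rw [← pow_mul]; exact hN _ (by omega)

end Groth.Agent.S7397
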