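import Groth.Statements.S7402
import Groth.Agent.Lib.Helper9.QuotPoly

set_option autoImplicit false
universe u
open CategoryTheory AlgebraicGeometry
open Polynomial
open Mor

namespace Groth.Agent.S7402

/-- Let `A` be a ring and `x, y ∈ A` with `x^3 = y^2`. Then `A → B = A[t]/(t^2 - x, t^3 - y)` induces a
universal homeomorphism on spectra and isomorphisms on residue fields. -/
theorem result (A : Type u) [CommRing A] (x y : A) (h : x ^ 3 = y ^ 2) :
    FlatMor.IsUnivHomeo (Spec.map (CommRingCat.ofHom (algebraMap A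
      (A[X] ⧸ Ideal.span ({X ^ 2 - C x, X ^ 3 - C y} : Set A[X]))))) ∧
    ∀ q : Spec (CommRingCat.of (A[X] ⧸ Ideal.span ({X ^ 2 - C x, X ^ 3 - C y} : Set A[X]))),
      Function.Surjective ((Spec.map (CommRingCat.ofHom (algebraMap A
        (A[X] ⧸ Ideal.span ({X ^ 2 - C x, X ^ 3 - C y} : Set A[X]))))).residueFieldMap q) := by
  set I : Ideal A[X] := Ideal.span ({X ^ 2 - C x, X ^ 3 - C y} : Set A[X]) with hI
  have ht2 : (Ideal.Quotient.mk I X : A[X] ⧸ I) ^ 2 = algebraMap A (A[X] ⧸ I) x := by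
    have h1 : algebraMap A (A[X] ⧸ I) x = Ideal.Quotient.mk I (C x) := rfl
    rw [h1, ← map_pow, Ideal.Quotient.eq]
    exact Ideal.subset_span (by simp)
  have ht3 : (Ideal.Quotient.mk I X : A[X] ⧸ I) ^ 3 = algebraMap A (A[X] ⧸ I) y := by
    have h1 : algebraMap A (A[X] ⧸ I) y = Ideal.Quotient.mk I (C y) := rfl
    rw [h1, ← map_pow, Ideal.Quotient.eq]
    exact Ideal.subset_span (by simp)
  have hB := Groth.Agent.Lib.Helper9.Towers.exists_tower_singleton (A := A)
    (Ideal.Quotient.mk I X : A[X] ⧸ I) (Groth.Agent.Lib.Helper9.Towers.adjoin_mk_X_eq_top I)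
    Groth.Agent.Lib.Helper9.Towers.stepSN
    ⟨ht2 ▸ Subalgebra.algebraMap_mem _ x, ht3 ▸ Subalgebra.algebraMap_mem _ y⟩
  have hB' : ∀ E : Finset (A[X] ⧸ I), ∃ l : List (A[X] ⧸ I),
      (↑E : Set (A[X] ⧸ I)) ⊆ Algebra.adjoin A {b | b ∈ l} ∧
      Groth.Agent.Lib.Helper9.Towers.IsTow (A := A) Groth.Agent.Lib.Helper9.Towers.stepWN l := by
    intro E
    obtain ⟨l, h1, h2⟩ := hB E
    exact ⟨l, h1, fun i => Or.inl (h2 i)⟩
  have hsurj : Function.Surjective (PrimeSpectrum.comap (algebraMap A (A[X] ⧸ I))) := by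
    apply Groth.Agent.Lib.Helper9.Towers.comap_surjective_of_forall_exists_hom
    intro p
    refine ⟨p.asIdeal.ResidueField, inferInstance, RingHom.id _, ?_⟩
    have hxy : algebraMap A p.asIdeal.ResidueField x ^ 3 =
        algebraMap A p.asIdeal.ResidueField y ^ 2 := by
      rw [← map_pow, ← map_pow, h]
    by_cases hx0 : algebraMap A p.asIdeal.ResidueField x = 0
    · have hy0 : algebraMap A p.asIdeal.ResidueField y = 0 := by
        rw [hx0] at hxy
        exact (pow_eq_zero_iff (two_ne_zero)).mp (hxy.symm.trans (by ring))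
      apply Groth.Agent.Lib.Helper9.Towers.exists_hom_of_root I
        (algebraMap A p.asIdeal.ResidueField) 0 _ hI
      intro f hf
      rcases hf with rfl | rfl
      · simp [hx0]
      · simp [hy0]
    · have hy0 : algebraMap A p.asIdeal.ResidueField y ≠ 0 := by
        intro hy0
        rw [hy0] at hxy
        exact hx0 ((pow_eq_zero_iff (three_ne_zero)).mp (hxy.trans (by ring)))
      apply Groth.Agent.Lib.Helper9.Towers.exists_hom_of_root I
        (algebraMap A p.asIdeal.ResidueField)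
        (algebraMap A p.asIdeal.ResidueField y / algebraMap A p.asIdeal.ResidueField x) _ hI
      intro f hf
      rcases hf with rfl | rfl
      · simp only [eval₂_sub, eval₂_pow, eval₂_X, eval₂_C]
        rw [div_pow, ← hxy]
        field_simp
        ring
      · simp only [eval₂_sub, eval₂_pow, eval₂_X, eval₂_C]
        rw [div_pow, hxy]
        field_simp
        ring
  refine ⟨Groth.Agent.Lib.Helper9.Towers.isUnivHomeo_of_WN' hsurj hB', ?_⟩
  exact (Groth.Agent.Lib.Helper9.UnivHomeoRing.resSurj_iff_SpecMap _).mp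
    (Groth.Agent.Lib.Helper9.Towers.resSurj_of_SN hB)

end Groth.Agent.S7402
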