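import Groth.Statements.S7403
import Groth.Agent.Lib.Helper9.QuotPoly

set_option autoImplicit false
universe u
open CategoryTheory AlgebraicGeometry
open Polynomial
open Mor

namespace Groth.Agent.S7403

/-- Let `A` be a ring, `p` a prime number and `x, y ∈ A` with `p^p x = y^p`. Then `A → B = A[t]/(t^p -
x, p t - y)` induces a universal homeomorphism on spectra. -/
theorem result (A : Type u) [CommRing A] (p : ℕ) (hp : p.Prime) (x y : A)
    (h : (p : A) ^ p * x = y ^ p) :
    FlatMor.IsUnivHomeo (Spec.map (CommRingCat.ofHom (algebraMap A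
      (A[X] ⧸ Ideal.span ({X ^ p - C x, C (p : A) * X - C y} : Set A[X]))))) := by
  set I : Ideal A[X] := Ideal.span ({X ^ p - C x, C (p : A) * X - C y} : Set A[X]) with hI
  have htp : (Ideal.Quotient.mk I X : A[X] ⧸ I) ^ p = algebraMap A (A[X] ⧸ I) x := by
    have h1 : algebraMap A (A[X] ⧸ I) x = Ideal.Quotient.mk I (C x) := rfl
    rw [h1, ← map_pow, Ideal.Quotient.eq]
    exact Ideal.subset_span (by simp)
  have hpt : ((p : ℕ) : A[X] ⧸ I) * (Ideal.Quotient.mk I X : A[X] ⧸ I) =
      algebraMap A (A[X] ⧸ I) y := by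
    have h1 : algebraMap A (A[X] ⧸ I) y = Ideal.Quotient.mk I (C y) := rfl
    have h2 : ((p : ℕ) : A[X] ⧸ I) = Ideal.Quotient.mk I (C (p : A)) := by
      rw [map_natCast C, map_natCast]
    rw [h1, h2, ← map_mul, Ideal.Quotient.eq]
    exact Ideal.subset_span (by simp)
  have hB := Groth.Agent.Lib.Helper9.Towers.exists_tower_singleton (A := A)
    (Ideal.Quotient.mk I X : A[X] ⧸ I) (Groth.Agent.Lib.Helper9.Towers.adjoin_mk_X_eq_top I)
    Groth.Agent.Lib.Helper9.Towers.stepWN
    (Or.inr ⟨p, hp, hpt ▸ Subalgebra.algebraMap_mem _ y, htp ▸ Subalgebra.algebraMap_mem _ x⟩)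
  have hsurj : Function.Surjective (PrimeSpectrum.comap (algebraMap A (A[X] ⧸ I))) := by
    apply Groth.Agent.Lib.Helper9.Towers.comap_surjective_of_forall_exists_hom
    intro 𝔭
    refine ⟨AlgebraicClosure 𝔭.asIdeal.ResidueField, inferInstance,
      algebraMap 𝔭.asIdeal.ResidueField (AlgebraicClosure 𝔭.asIdeal.ResidueField), ?_⟩
    set ψ : A →+* AlgebraicClosure 𝔭.asIdeal.ResidueField :=
      (algebraMap 𝔭.asIdeal.ResidueField (AlgebraicClosure 𝔭.asIdeal.ResidueField)).comp
        (algebraMap A 𝔭.asIdeal.ResidueField) with hψ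
    have hxy : ((p : ℕ) : AlgebraicClosure 𝔭.asIdeal.ResidueField) ^ p * ψ x = ψ y ^ p := by
      rw [← map_natCast ψ, ← map_pow, ← map_mul, ← map_pow, h]
    by_cases hp0 : ((p : ℕ) : AlgebraicClosure 𝔭.asIdeal.ResidueField) = 0
    · have hy0 : ψ y = 0 := by
        rw [hp0, zero_pow hp.ne_zero, zero_mul] at hxy
        exact (pow_eq_zero_iff hp.ne_zero).mp hxy.symm
      obtain ⟨τ, hτ⟩ := IsAlgClosed.exists_pow_nat_eq (ψ x) hp.pos
      apply Groth.Agent.Lib.Helper9.Towers.exists_hom_of_root I ψ τ _ hI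
      intro f hf
      rcases hf with rfl | rfl
      · simp [hτ]
      · simp only [eval₂_sub, eval₂_mul, eval₂_X, eval₂_C]
        rw [map_natCast, hp0, hy0]
        ring
    · apply Groth.Agent.Lib.Helper9.Towers.exists_hom_of_root I ψ
        (ψ y / ((p : ℕ) : AlgebraicClosure 𝔭.asIdeal.ResidueField)) _ hI
      intro f hf
      rcases hf with rfl | rfl
      · simp only [eval₂_sub, eval₂_pow, eval₂_X, eval₂_C]
        rw [div_pow, ← hxy]
        field_simp
        ring
      · simp only [eval₂_sub, eval₂_mul, eval₂_X, eval₂_C]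
        rw [map_natCast]
        field_simp
        ring
  exact Groth.Agent.Lib.Helper9.Towers.isUnivHomeo_of_WN' hsurj hB

end Groth.Agent.S7403
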