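import Groth.Statements.S0415
import Groth.Agent.Lib.Helper9.UnivHomeoRing

set_option autoImplicit false
universe u
open FlatMor

namespace Groth.Agent.S0415

open AlgebraicGeometry CategoryTheory Limits in
/-- A morphism of schemes is a universal homeomorphism if and only if it is integral, universally
injective and surjective. -/
theorem result {X Y : Scheme.{u}} (f : X ⟶ Y) :
    FlatMor.IsUnivHomeo f ↔ IsIntegralHom f ∧ UniversallyInjective f ∧ Surjective f := by

  rw [Groth.Agent.Lib.Helper9.UnivHomeoRing.isUnivHomeo_iff]
  constructor
  · rintro ⟨hc, hi, hs⟩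
    refine ⟨?_, hi, hs⟩
    have hinj : Function.Injective f := f.injective
    have hcl : IsClosedMap f := f.isClosedMap
    have hind : Topology.IsInducing f :=
      (Topology.IsClosedEmbedding.of_continuous_injective_isClosedMap f.continuous hinj hcl).isInducing
    have hr : IsClosed (Set.range f) := hcl.isClosed_range
    have : IsAffineHom f := isAffineHom_of_isInducing f hind hr
    exact IsIntegralHom.iff_universallyClosed_and_isAffineHom.mpr ⟨hc, this⟩
  · rintro ⟨hint, hi, hs⟩
    exact ⟨inferInstance, hi, hs⟩

end Groth.Agent.S0415
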