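import Groth.Statements.S0416
-- import your own Groth.Agent.* helpers here
import Groth.Agent.Lib.Helper1.UnivHomeo
import Mathlib.AlgebraicGeometry.Morphisms.Immersion

set_option autoImplicit false
universe u
open FlatMor

namespace Groth.Agent.S0416

section helpers

open CategoryTheory CategoryTheory.Limits AlgebraicGeometry MorphismProperty

theorem univOpen_of_immersion_surjective {X Y : Scheme.{u}} (f : X ⟶ Y) [IsImmersion f]
    [Surjective f] : UniversallyOpen f := by
  constructor
  intro X' Y' i₁ i₂ f' hpb
  have h1 : IsImmersion f' := MorphismProperty.of_isPullback hpb.flip inferInstance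
  have h2 : Surjective f' := MorphismProperty.of_isPullback hpb.flip inferInstance
  exact (f'.isEmbedding.toHomeomorphOfSurjective f'.surjective).isOpenMap

instance : IsStableUnderBaseChange FlatMor.IsUnivHomeo.{u} := by
  unfold FlatMor.IsUnivHomeo; infer_instance

instance : IsMultiplicative FlatMor.IsUnivHomeo.{u} := by
  rw [Groth.Agent.Lib.Helper1.UnivHomeo.isUnivHomeo_eq]; infer_instance

theorem le_diagonal : FlatMor.IsUnivHomeo.{u} ≤ FlatMor.IsUnivHomeo.{u}.diagonal := by
  intro X Y f hf
  rw [Groth.Agent.Lib.Helper1.UnivHomeo.isUnivHomeo_eq] at hf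
  obtain ⟨⟨hf1, hf2⟩, hf3⟩ := hf
  change FlatMor.IsUnivHomeo (pullback.diagonal f)
  rw [Groth.Agent.Lib.Helper1.UnivHomeo.isUnivHomeo_eq]
  have hsurj : Surjective (pullback.diagonal f) := by
    have : (diagonal @Surjective : MorphismProperty Scheme.{u}) f := by
      rw [← universallyInjective_eq_diagonal]; exact hf2
    exact this
  exact ⟨⟨univOpen_of_immersion_surjective _, inferInstance⟩, hsurj⟩


end helpers

open AlgebraicGeometry CategoryTheory Limits in
/-- When a composite of two morphisms is a universal homeomorphism and so is either factor, the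
remaining factor is a universal homeomorphism as well. -/
theorem result {X Y Z : Scheme.{u}} (g : X ⟶ Y) (h : Y ⟶ Z) :
    (FlatMor.IsUnivHomeo (g ≫ h) → FlatMor.IsUnivHomeo g → FlatMor.IsUnivHomeo h) ∧
    (FlatMor.IsUnivHomeo (g ≫ h) → FlatMor.IsUnivHomeo h → FlatMor.IsUnivHomeo g) := by
  constructor
  · intro hgh hg Y' Z' i₁ i₂ h' hpb
    have hpb1 : IsPullback (pullback.snd g i₁) (pullback.fst g i₁) i₁ g :=
      (IsPullback.of_hasPullback g i₁).flip
    have hpb2 := hpb1.paste_horiz hpb
    have e1 : IsHomeomorph (pullback.snd g i₁).base := hg _ _ _ hpb1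
    have e2 : IsHomeomorph (pullback.snd g i₁ ≫ h').base := hgh _ _ _ hpb2
    change IsHomeomorph h'.base
    have : (h'.base : Y' → Z') = (pullback.snd g i₁ ≫ h').base ∘ e1.homeomorph.symm := by
      funext y
      simp only [Function.comp_apply]
      have : (pullback.snd g i₁).base (e1.homeomorph.symm y) = y :=
        e1.homeomorph.apply_symm_apply y
      conv_lhs => rw [← this]
      rfl
    rw [this]
    exact e2.comp e1.homeomorph.symm.isHomeomorph
  · intro hgh hh
    have : FlatMor.IsUnivHomeo.{u}.HasOfPostcompProperty FlatMor.IsUnivHomeo.{u} :=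
      MorphismProperty.hasOfPostcompProperty_iff_le_diagonal.2 le_diagonal
    exact MorphismProperty.of_postcomp (W := FlatMor.IsUnivHomeo.{u}) g h hh hgh

end Groth.Agent.S0416
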