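import Groth.Statements.S7421
import Mathlib

set_option autoImplicit false
universe u
open CategoryTheory AlgebraicGeometry
open HTop

namespace Groth.Agent.S7421

/-- A seminormal ring is reduced, and a seminormal scheme is reduced. -/
theorem result :
    (∀ (A : Type u) [CommRing A], HTop.IsSeminormalRing A → IsReduced A) ∧
    ∀ (X : Scheme.{u}), HTop.IsSeminormal X → AlgebraicGeometry.IsReduced X := by
  have h1 : ∀ (A : Type u) [CommRing A], HTop.IsSeminormalRing A → IsReduced A := by
    intro A _ h
    rw [isReduced_iff_pow_one_lt 2 (by norm_num)]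
    intro z hz
    obtain ⟨a, -, ha⟩ := h 0 0 (by simp)
    have hz' := ha z ⟨hz.symm, by rw [pow_succ, hz, zero_mul]⟩
    have h0 := ha 0 ⟨by simp, by simp⟩
    rw [hz', h0]
  refine ⟨h1, fun X hX => ?_⟩
  have : ∀ x : X, _root_.IsReduced (X.presheaf.stalk x) := by
    intro x
    obtain ⟨U, hxU, hU⟩ := hX x
    have hred : _root_.IsReduced Γ(X, U) := h1 _ hU
    letI : Algebra Γ(X, U) (X.presheaf.stalk x) :=
      TopCat.Presheaf.algebra_section_stalk X.presheaf ⟨x, hxU⟩
    have hloc := U.2.isLocalization_stalk ⟨x, hxU⟩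
    exact isReduced_localizationPreserves (U.2.primeIdealOf ⟨x, hxU⟩).asIdeal.primeCompl
      (X.presheaf.stalk x) hred
  exact AlgebraicGeometry.isReduced_of_isReduced_stalk X

end Groth.Agent.S7421
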