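import Groth.Statements.S8684
import Groth.Agent.Lib.Helper20.SymSurj
-- import your own Groth.Agent.* helpers here

set_option autoImplicit false
universe u
open LambdaRing

namespace Groth.Agent.S8684

/-- For every n there is a polynomial P ∈ ℤ[X_1, …, X_n, Y_1, …, Y_n] such that substituting the k-th
elementary symmetric functions of two families T, U of n variables for X_k and Y_k yields the n-th
elementary symmetric function of the n² products T_a U_b, and P is isobaric of weight n separately
in the X_k and in the Y_k, the variables X_k and Y_k having weight k. -/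
theorem result (n : ℕ) :
    ∃ P : MvPolynomial (Fin n ⊕ Fin n) ℤ, LambdaRing.IsMulPoly n P := by
  open Groth.Agent.Lib.Helper20.Sym MvPolynomial in
  classical
  obtain ⟨P₀, hP₀⟩ := exists_Bmap_eq_of_bisymm n (mulGen n n)
    (fun e₁ e₂ => rename_sumCongr_mulGen e₁ e₂ n)
  refine ⟨weightedHomogeneousComponent
    (Sum.elim (fun k : Fin n => (((k : ℕ) + 1, 0) : ℕ × ℕ))
      (fun k : Fin n => ((0, (k : ℕ) + 1) : ℕ × ℕ))) ((n, n) : ℕ × ℕ) P₀, ?_, ?_⟩
  · change Bmap n n _ = _
    unfold Bmap
    rw [← whc_aeval_int
      (Sum.elim (fun k : Fin n => (((k : ℕ) + 1, 0) : ℕ × ℕ))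
        (fun k : Fin n => ((0, (k : ℕ) + 1) : ℕ × ℕ))) (wOm n)
      (Sum.elim (fun k : Fin n => eT n ((k : ℕ) + 1)) (fun k : Fin n => eU n ((k : ℕ) + 1)))
      (by
        rintro (k | k)
        · exact isWeightedHomogeneous_eT _
        · exact isWeightedHomogeneous_eU _) P₀ ((n, n) : ℕ × ℕ)]
    change weightedHomogeneousComponent (wOm n) ((n, n) : ℕ × ℕ) (Bmap n n P₀) = _
    rw [hP₀]
    exact (isWeightedHomogeneous_mulGen n).weightedHomogeneousComponent_same
  · exact weightedHomogeneousComponent_isWeightedHomogeneous _ _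

end Groth.Agent.S8684
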