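import Groth.Statements.S8685
import Groth.Agent.Lib.Helper20.SymUnivQ
-- import your own Groth.Agent.* helpers here

set_option autoImplicit false
universe u
open LambdaRing

namespace Groth.Agent.S8685

/-- For all i, j there is a polynomial Q ∈ ℤ[X_1, …, X_{ij}] such that substituting the k-th elementary
symmetric function of ij variables T for X_k yields the j-th elementary symmetric function of the
products of the T_a over the i-element subsets of the variables, and Q is isobaric of weight ij, the
variable X_k having weight k. -/
theorem result (i j : ℕ) :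
    ∃ Q : MvPolynomial (Fin (i * j)) ℤ, LambdaRing.IsCompPoly i j Q := by
  open Groth.Agent.Lib.Helper20.Sym MvPolynomial in
  classical
  -- `compGen` is symmetric, hence a polynomial in the elementary symmetric functions
  have hsym : (compGen (i * j) i j).IsSymmetric := fun e => rename_compGen e i j
  obtain ⟨Q₀, hQ₀⟩ := esymmAlgHom_fin_surjective ℤ (le_refl (i * j)) ⟨compGen (i * j) i j, hsym⟩
  have hQ₀' : Emap (i * j) (i * j) Q₀ = compGen (i * j) i j := by
    have := congrArg Subtype.val hQ₀
    rw [esymmAlgHom_apply] at this
    exact this
  -- take the isobaric component of weight `i * j`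
  refine ⟨weightedHomogeneousComponent (fun k : Fin (i * j) => (k : ℕ) + 1) (i * j) Q₀, ?_, ?_⟩
  · change Emap (i * j) (i * j) _ = _
    unfold Emap
    rw [← whc_aeval_int (fun k : Fin (i * j) => (k : ℕ) + 1) (fun _ : Fin (i * j) => (1 : ℕ))
      (fun k : Fin (i * j) => esymm (Fin (i * j)) ℤ ((k : ℕ) + 1))
      (fun k => isWeightedHomogeneous_esymm _) Q₀ (i * j)]
    change weightedHomogeneousComponent (fun _ : Fin (i * j) => (1 : ℕ)) (i * j)
      (Emap (i * j) (i * j) Q₀) = _
    rw [hQ₀']
    exact (isWeightedHomogeneous_compGen i j).weightedHomogeneousComponent_same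
  · exact weightedHomogeneousComponent_isWeightedHomogeneous _ _

end Groth.Agent.S8685
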