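import Groth.Statements.S0738
-- import your own Groth.Agent.* helpers here
import Mathlib

set_option autoImplicit false
open Topology
universe u
open ProEtW

namespace Groth.Agent.S0738

open TopologicalSpace

theorem quasiSep {X Y : Type*} [TopologicalSpace X] [TopologicalSpace Y] [QuasiSeparatedSpace Y]
    [PrespectralSpace Y] (f : X → Y) (hf : IsClosedEmbedding f) : QuasiSeparatedSpace X := by
  have hb := (PrespectralSpace.isTopologicalBasis (X := Y)).isInducing hf.isInducing
  have hb' : IsTopologicalBasis (Set.range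
      (fun U : {U : Set Y // IsOpen U ∧ IsCompact U} => f ⁻¹' U.1)) := by
    convert hb using 1
    ext s
    simp only [Set.mem_range, Subtype.exists, Set.mem_image, Set.mem_ofPred_eq, exists_prop]
  refine QuasiSeparatedSpace.of_isTopologicalBasis hb' ?_
  rintro ⟨U, hU1, hU2⟩ ⟨V, hV1, hV2⟩
  rw [← Set.preimage_inter]
  exact hf.isCompact_preimage (QuasiSeparatedSpace.inter_isCompact U V hU1 hU2 hV1 hV2)

theorem spectral {X Y : Type*} [TopologicalSpace X] [TopologicalSpace Y] [SpectralSpace Y]
    (f : X → Y) (hf : IsClosedEmbedding f) : SpectralSpace X where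
  __ := hf.quasiSober
  __ := PrespectralSpace.of_isClosedEmbedding f hf
  __ := quasiSep f hf
  __ := hf.isEmbedding.t0Space
  __ := hf.compactSpace

theorem closed_singleton_iff {X : Type*} [TopologicalSpace X] (Y : Set X) (hY : IsClosed Y) (y : Y) :
    IsClosed ({y} : Set Y) ↔ IsClosed ({y.1} : Set X) := by
  have hemb : IsClosedEmbedding (Subtype.val : Y → X) := hY.isClosedEmbedding_subtypeVal
  rw [hemb.isClosed_iff_image_isClosed]
  simp

/-- A closed subset of a w-local spectral space is w-local (with the subspace topology). -/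
theorem result (X : Type u) [TopologicalSpace X] (hX : ProEtW.IsWLocal X)
    (Y : Set X) (hY : IsClosed Y) : ProEtW.IsWLocal ↥Y := by
  obtain ⟨hsp, hcl, huniq⟩ := hX
  have hemb : IsClosedEmbedding (Subtype.val : Y → X) := hY.isClosedEmbedding_subtypeVal
  refine ⟨spectral _ hemb, ?_, ?_⟩
  · have : {x : Y | IsClosed ({x} : Set Y)} = Subtype.val ⁻¹' {x : X | IsClosed ({x} : Set X)} := by
      ext y
      exact closed_singleton_iff Y hY y
    rw [this]
    exact hcl.preimage continuous_subtype_val
  · intro y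
    obtain ⟨c, ⟨hc1, hc2⟩, hcu⟩ := huniq y.1
    have hcY : c ∈ Y := hc2.mem_closed hY y.2
    refine ⟨⟨c, hcY⟩, ⟨(closed_singleton_iff Y hY ⟨c, hcY⟩).2 hc1, ?_⟩, ?_⟩
    · exact (subtype_specializes_iff _ _).2 hc2
    · rintro ⟨d, hdY⟩ ⟨hd1, hd2⟩
      apply Subtype.ext
      exact hcu d ⟨(closed_singleton_iff Y hY ⟨d, hdY⟩).1 hd1, (subtype_specializes_iff _ _).1 hd2⟩

end Groth.Agent.S0738
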