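import Groth.Statements.S5756
import Mathlib
import Groth.Agent.Lib.Helper21.DepthKit5
import Groth.Agent.S5752

set_option autoImplicit false
universe u
open EGA41

namespace Groth.Agent.S5756

open IsLocalRing Groth.Agent.Lib.Helper21.DepthKit Pointwise

section
variable {A B : Type u} [CommRing A] [CommRing B] [Algebra A B]
variable {M : Type u} [AddCommGroup M] [Module B M] [Module A M] [IsScalarTower A B M]

theorem isSMulRegular_algebraMap_iff (a : A) :
    IsSMulRegular M (algebraMap A B a) ↔ IsSMulRegular M a := by
  unfold IsSMulRegular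
  have : (fun m : M => algebraMap A B a • m) = fun m : M => a • m := by
    funext m; rw [algebraMap_smul]
  rw [this]

/-- the `A`-linear identification `M/aM ≃ M/φ(a)M` -/
noncomputable def quotEquiv (a : A) :
    QuotSMulTop a M ≃ₗ[A] QuotSMulTop (algebraMap A B a) M :=
  (Submodule.quotEquivOfEq (a • (⊤ : Submodule A M))
    ((algebraMap A B a • (⊤ : Submodule B M)).restrictScalars A) (by
      ext x
      simp only [Submodule.mem_smul_pointwise_iff_exists, Submodule.mem_top, true_and,
        Submodule.restrictScalars_mem]
      constructor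
      · rintro ⟨y, rfl⟩; exact ⟨y, by rw [algebraMap_smul]⟩
      · rintro ⟨y, rfl⟩; exact ⟨y, by rw [algebraMap_smul]⟩)) ≪≫ₗ
    (Submodule.Quotient.restrictScalarsEquiv A (algebraMap A B a • (⊤ : Submodule B M)))

instance finite_quot [Module.Finite A M] (P : Submodule B M) : Module.Finite A (M ⧸ P) :=
  Module.Finite.of_surjective (P.mkQ.restrictScalars A) P.mkQ_surjective

end


section
variable {A B : Type u} [CommRing A] [CommRing B] [IsLocalRing A] [IsLocalRing B]
  [IsNoetherianRing A] [IsNoetherianRing B] [Algebra A B] [IsLocalHom (algebraMap A B)]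

omit [IsNoetherianRing A] [IsNoetherianRing B] in
theorem map_mem_maximalIdeal {a : A} (ha : a ∈ maximalIdeal A) :
    algebraMap A B a ∈ maximalIdeal B := by
  rw [mem_maximalIdeal, mem_nonunits_iff] at ha ⊢
  exact fun h => ha (isUnit_of_map_unit (algebraMap A B) a h)

variable {M : Type u} [AddCommGroup M] [Module B M] [Module A M] [IsScalarTower A B M]
  [Module.Finite A M]

theorem isArtinian_torsion :
    IsArtinian A (Submodule.torsionBySet A M (maximalIdeal A : Set A)) := by
  haveI : IsNoetherian A M := isNoetherian_of_isNoetherianRing_of_finite A M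
  haveI : Module.Finite (A ⧸ maximalIdeal A)
      (Submodule.torsionBySet A M (maximalIdeal A : Set A)) :=
    Module.Finite.of_restrictScalars_finite A _ _
  haveI : IsArtinianRing (A ⧸ maximalIdeal A) :=
    inferInstanceAs (IsArtinianRing (ResidueField A))
  exact isArtinian_of_surjective_algebraMap (S := A) (R := A ⧸ maximalIdeal A)
    Ideal.Quotient.mk_surjective

theorem depth_zero_transfer [Nontrivial M] (h0 : LocCoh.depth A M = 0) :
    LocCoh.depth B M = 0 := by
  haveI : Module.Finite B M := Module.Finite.of_restrictScalars_finite A B M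
  rw [Groth.Agent.S5752.result] at h0 ⊢
  obtain ⟨-, x, hx⟩ := (isAssociatedPrime_iff).mp h0
  have hx0 : x ≠ 0 := by
    rintro rfl
    have : (1 : A) ∈ maximalIdeal A := by rw [hx]; simp [Submodule.mem_colon_singleton]
    exact (Ideal.ne_top_iff_one _).mp (maximalIdeal.isMaximal A).ne_top this
  have hxm : ∀ a ∈ maximalIdeal A, a • x = 0 := by
    intro a ha
    rw [hx, Submodule.mem_colon_singleton] at ha
    simpa using ha
  set T := Submodule.torsionBySet A M (maximalIdeal A : Set A) with hT
  have hxT : x ∈ T := by
    rw [hT, Submodule.mem_torsionBySet_iff]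
    intro a; exact hxm a a.2
  by_contra hnot
  have hex : ∃ b ∈ maximalIdeal B, IsSMulRegular M b := by
    by_contra hcon
    push Not at hcon
    obtain ⟨Q, hQ, hle⟩ :=
      exists_le_associatedPrime_of_forall_not_isSMulRegular (M := M) (maximalIdeal B) hcon
    have hQe : Q = maximalIdeal B :=
      le_antisymm (le_maximalIdeal hQ.isPrime.ne_top) hle
    exact hnot (hQe ▸ hQ)
  obtain ⟨b, hb, hreg⟩ := hex
  have hcT : ∀ (c : B), ∀ y ∈ T, c • y ∈ T := by
    intro c y hy
    rw [hT, Submodule.mem_torsionBySet_iff] at hy ⊢
    intro a
    rw [smul_comm, hy a, smul_zero]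
  have hbT : ∀ y ∈ T, b • y ∈ T := hcT b
  let f : T →ₗ[A] T := ((LinearMap.lsmul B M b).restrictScalars A).restrict hbT
  have hfinj : Function.Injective f := by
    intro y z hyz
    apply Subtype.ext
    apply hreg
    exact congrArg Subtype.val hyz
  haveI : IsArtinian A T := isArtinian_torsion
  have hfsurj := IsArtinian.surjective_of_injective_endomorphism f hfinj
  let N : Submodule B M :=
    { carrier := T
      add_mem' := fun {y z} hy hz => T.add_mem hy hz
      zero_mem' := T.zero_mem
      smul_mem' := fun c y hy => hcT c y hy }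
  have hNfg : N.FG := by
    haveI : IsNoetherian B M := isNoetherian_of_isNoetherianRing_of_finite B M
    exact IsNoetherian.noetherian N
  have hle : N ≤ maximalIdeal B • N := by
    intro y hy
    obtain ⟨⟨z, hz⟩, hzy⟩ := hfsurj ⟨y, hy⟩
    have : b • z = y := congrArg Subtype.val hzy
    rw [← this]
    exact Submodule.smul_mem_smul hb hz
  have hbot := Submodule.eq_bot_of_le_smul_of_le_jacobson_bot (maximalIdeal B) N hNfg hle
    (IsLocalRing.maximalIdeal_le_jacobson _)
  have : x ∈ N := hxT
  rw [hbot] at this
  exact hx0 ((Submodule.mem_bot B).mp this)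

end


section
variable {A B : Type u} [CommRing A] [CommRing B] [IsLocalRing A] [IsLocalRing B]
  [IsNoetherianRing A] [IsNoetherianRing B] [Algebra A B] [IsLocalHom (algebraMap A B)]

theorem aux (n : ℕ) : ∀ (M : Type u) [AddCommGroup M] [Module B M] [Module A M]
    [IsScalarTower A B M] [Module.Finite A M] [Nontrivial M],
    LocCoh.depth A M = n → LocCoh.depth B M = n := by
  induction n with
  | zero =>
    intro M _ _ _ _ _ _ h
    exact_mod_cast depth_zero_transfer (A := A) (B := B) (M := M) (by exact_mod_cast h)
  | succ n ih =>
    intro M _ _ _ _ _ _ h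
    haveI : Module.Finite B M := Module.Finite.of_restrictScalars_finite A B M
    obtain ⟨a, ha, hreg⟩ := exists_regular_of_one_le_depth (A := A) (M := M) (by
      rw [h]; exact_mod_cast Nat.succ_le_succ (Nat.zero_le n))
    have hb : algebraMap A B a ∈ maximalIdeal B := map_mem_maximalIdeal ha
    have hregB : IsSMulRegular M (algebraMap A B a) := (isSMulRegular_algebraMap_iff a).mpr hreg
    haveI : Nontrivial (QuotSMulTop (algebraMap A B a) M) :=
      nontrivial_quotSMulTop (A := B) (M := M) _ hb
    have h1 := depth_quotSMulTop (A := A) (M := M) a ha hreg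
    have h2 := depth_quotSMulTop (A := B) (M := M) _ hb hregB
    have h3 : LocCoh.depth A (QuotSMulTop a M) = n := by
      rw [h] at h1
      have : LocCoh.depth A (QuotSMulTop a M) + 1 = (n : ℕ∞) + 1 := by exact_mod_cast h1
      exact ENat.add_left_injective_of_ne_top (by simp) this
    have h4 : LocCoh.depth A (QuotSMulTop (algebraMap A B a) M) = n := by
      rw [← depth_congr (quotEquiv (M := M) a)]; exact h3
    have h5 := ih (QuotSMulTop (algebraMap A B a) M) h4
    rw [← h2, h5]
    norm_cast

end


/-- Suppose A and B are Noetherian local rings and ρ : A → B is a local homomorphism. Given a B-module M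
that, viewed as an A-module through ρ, is finitely generated, the depth of M over A coincides with
the depth of M over B. -/
theorem result (A B : Type u) [CommRing A] [CommRing B] [IsLocalRing A]
    [IsLocalRing B] [IsNoetherianRing A] [IsNoetherianRing B] [Algebra A B] [IsLocalHom (algebraMap A B)]
    (M : Type u) [AddCommGroup M] [Module B M] [Module A M] [IsScalarTower A B M] [Module.Finite A M] :
    LocCoh.depth A M = LocCoh.depth B M := by
  haveI : Module.Finite B M := Module.Finite.of_restrictScalars_finite A B M
  rcases subsingleton_or_nontrivial M with hM | hM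
  · rw [depth_of_subsingleton, depth_of_subsingleton]
  · obtain ⟨n, hn⟩ := ENat.ne_top_iff_exists.1 (depth_ne_top (A := A) (M := M))
    rw [← hn, aux (A := A) (B := B) n M hn.symm]

end Groth.Agent.S5756
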