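import Groth.Statements.S4906
import Mathlib
import Groth.Agent.S0604
import Groth.Agent.S10834
import Groth.Agent.Lib.helper11.GlDimRegular
import Groth.Agent.Lib.Helper7.StalkFree
import Groth.Agent.Lib.Helper21.DepthKit3
import Groth.Agent.Lib.helper19.RegularLocal

set_option autoImplicit false
universe u
open CategoryTheory AlgebraicGeometry
open EGA43

namespace Groth.Agent.S4906

/-- the generizations of a point form a copy of the spectrum of the local ring -/
theorem topologicalKrullDim_generizations (X : Scheme.{u}) (x : X) :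
    topologicalKrullDim ↥{t : X | t ⤳ x} = ringKrullDim (X.presheaf.stalk x) := by
  have hemb : Topology.IsEmbedding (X.fromSpecStalk x) := (X.fromSpecStalk x).isEmbedding
  have hr : Set.range (X.fromSpecStalk x) = {t | t ⤳ x} := Scheme.range_fromSpecStalk
  let e : Spec (X.presheaf.stalk x) ≃ₜ {t : X | t ⤳ x} :=
    hemb.toHomeomorph.trans (Homeomorph.setCongr hr)
  rw [← IsHomeomorph.topologicalKrullDim_eq e e.isHomeomorph]
  exact PrimeSpectrum.topologicalKrullDim_eq_ringKrullDim _

/-- in a scheme with integral local ring at `x`, some irreducible component contains all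
generizations of `x`. -/
theorem exists_component_generizations (X : Scheme.{u}) (x : X)
    [IsDomain (X.presheaf.stalk x)] :
    ∃ T ∈ irreducibleComponents (X : Type u), x ∈ T ∧ ∀ t : X, t ⤳ x → t ∈ T := by
  set η : X := X.fromSpecStalk x ⟨⊥, Ideal.isPrime_bot⟩ with hη
  have key : ∀ t : X, t ⤳ x → t ∈ irreducibleComponent η := by
    intro t ht
    have ht' : t ∈ Set.range (X.fromSpecStalk x) := by
      rw [Scheme.range_fromSpecStalk]; exact ht
    obtain ⟨p, rfl⟩ := ht'
    have h1 : (⟨⊥, Ideal.isPrime_bot⟩ : PrimeSpectrum (X.presheaf.stalk x)) ⤳ p := by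
      rw [← PrimeSpectrum.le_iff_specializes]
      exact bot_le (a := p.asIdeal)
    have h2 : η ⤳ X.fromSpecStalk x p := h1.map (X.fromSpecStalk x).continuous
    have h3 : X.fromSpecStalk x p ∈ closure {η} := h2.mem_closure
    exact (isClosed_irreducibleComponent.closure_subset_iff.2
      (Set.singleton_subset_iff.2 mem_irreducibleComponent)) h3
  exact ⟨irreducibleComponent η, irreducibleComponent_mem_irreducibleComponents η,
    key x specializes_rfl, key⟩

open Groth.Agent.Lib.Helper21 in

/-- Let X be a regular biequidimensional scheme — Noetherian, with regular local rings, of finite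
dimension, with all irreducible components of dimension dim X and with dim T = dim cl{y} +
codim(cl{y}, T) for every closed irreducible T and point y of T — and F a coherent O_X-module. Then
for every point x of the support of F one has prof(F_x) + dim cl{x} + proj.dim(F_x) = dim X, that
is, the rectified depth prof*_x(F) equals dim X − proj.dim_{O_{X,x}}(F_x). -/
theorem result (X : Scheme.{u}) [IsNoetherian X]
    (hreg : ∀ x : X, IsRegularLocalRing ↑(X.presheaf.stalk x))
    (hfin : topologicalKrullDim X < ⊤)
    (hcomp : ∀ C ∈ irreducibleComponents (X : Type u), topologicalKrullDim ↥C = topologicalKrullDim X)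
    (hchain : ∀ (y : X) (T : Set X), IsClosed T → IsIrreducible T → y ∈ T →
      topologicalKrullDim ↥T = topologicalKrullDim ↥(closure ({y} : Set X)) + topologicalKrullDim ↥{t : X | t ∈ T ∧ t ⤳ y})
    (F : X.Modules) (hF : Coh.IsCoh F) (x : X) (hx : x ∈ CohB1.support F) :
    ((LocCoh.depth ↑(X.presheaf.stalk x) ↑(F.presheaf.stalk x) : ℕ∞) : WithBot ℕ∞) +
        topologicalKrullDim ↥(closure ({x} : Set X)) +
        projectiveDimension (ModuleCat.of ↑(X.presheaf.stalk x) ↑(F.presheaf.stalk x)) =
      topologicalKrullDim X := by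
  haveI : IsRegularLocalRing (X.presheaf.stalk x) := hreg x
  haveI : IsDomain (X.presheaf.stalk x) :=
    Groth.Agent.Lib.helper19.isDomain_of_isRegularLocalRing _
  haveI : Module.Finite (X.presheaf.stalk x) (F.presheaf.stalk x) :=
    Groth.Agent.Lib.Helper7.StalkFree.finite_stalk_of_isCoh X F hF x
  haveI : Nontrivial (F.presheaf.stalk x) := not_subsingleton_iff_nontrivial.1 hx
  obtain ⟨T, hT, hxT, hgen⟩ := exists_component_generizations X x
  have h1 := hchain x T (isClosed_of_mem_irreducibleComponents T hT) hT.1 hxT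
  have hset : {t : X | t ∈ T ∧ t ⤳ x} = {t : X | t ⤳ x} := by
    ext t; exact ⟨fun h => h.2, fun h => ⟨hgen t h, h⟩⟩
  rw [hset, topologicalKrullDim_generizations, hcomp T hT] at h1
  obtain ⟨d, hd⟩ := DepthKit.exists_nat_supportDim (A := X.presheaf.stalk x)
    (M := X.presheaf.stalk x)
  have hd' : ringKrullDim (X.presheaf.stalk x) = d := by
    rw [← Module.supportDim_self_eq_ringKrullDim, hd]
  have hpd := Groth.Agent.Lib.helper11.GlDimRegular.hasProjectiveDimensionLT_of_isRegularLocalRing
    d hd' (ModuleCat.of (X.presheaf.stalk x) (F.presheaf.stalk x))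
  have hpd_lt : projectiveDimension (ModuleCat.of (X.presheaf.stalk x) (F.presheaf.stalk x)) <
      ((d + 1 : ℕ) : WithBot ℕ∞) := projectiveDimension_lt_iff.2 hpd
  have hne : projectiveDimension (ModuleCat.of (X.presheaf.stalk x) (F.presheaf.stalk x)) ≠ ⊥ := by
    rw [Ne, projectiveDimension_eq_bot_iff, ModuleCat.isZero_iff_subsingleton]
    exact not_subsingleton _
  obtain ⟨e, he⟩ : ∃ e : ℕ,
      projectiveDimension (ModuleCat.of (X.presheaf.stalk x) (F.presheaf.stalk x)) = e := by
    obtain ⟨a, ha⟩ := WithBot.ne_bot_iff_exists.1 hne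
    have hat : a ≠ ⊤ := by
      rintro rfl
      rw [← ha] at hpd_lt
      exact absurd hpd_lt (by simp)
    obtain ⟨n, rfl⟩ := ENat.ne_top_iff_exists.1 hat
    exact ⟨n, ha.symm⟩
  have hAB := Groth.Agent.S0604.result (X.presheaf.stalk x) (F.presheaf.stalk x) e he
  have hCM : Module.supportDim (X.presheaf.stalk x) (X.presheaf.stalk x) =
      ((LocCoh.depth (X.presheaf.stalk x) (X.presheaf.stalk x) : ℕ∞) : WithBot ℕ∞) :=
    Groth.Agent.S10834.isCM_of_isRegularLocalRing _
  obtain ⟨dm, hdm⟩ := DepthKit.exists_nat_depth (A := X.presheaf.stalk x)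
    (M := F.presheaf.stalk x)
  rw [hd, hAB, hdm] at hCM
  have hnat : d = e + dm := by exact_mod_cast hCM
  rw [hdm, he, h1, hd', hnat]
  push_cast
  abel

end Groth.Agent.S4906
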