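import Groth.Statements.S4907
import Mathlib
import Groth.Agent.S4906
import Groth.Agent.S2677
import Groth.Agent.Lib.Helper21.PDStalk

set_option autoImplicit false
universe u
open CategoryTheory AlgebraicGeometry
open EGA43

namespace Groth.Agent.S4907

open TopologicalSpace Groth.Agent.Lib.Helper28.QCohLoc Groth.Agent.Lib.Helper29.QCohStalk

theorem nat_of_pos_lt_top {a : WithBot ℕ∞} (h0 : a ≠ ⊥) (h1 : a < ⊤) : ∃ d : ℕ, a = d := by
  obtain ⟨b, hb⟩ := WithBot.ne_bot_iff_exists.1 h0
  have hbt : b ≠ ⊤ := by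
    rintro rfl
    rw [← hb] at h1
    exact absurd h1 (by simp)
  obtain ⟨d, rfl⟩ := ENat.ne_top_iff_exists.1 hbt
  exact ⟨d, hb.symm⟩

theorem topologicalKrullDim_closure_ne_bot {X : Type*} [TopologicalSpace X] (y : X) :
    topologicalKrullDim ↥(closure ({y} : Set X)) ≠ ⊥ := by
  haveI : Nonempty (IrreducibleCloseds ↥(closure ({y} : Set X))) :=
    ⟨⟨closure {⟨y, subset_closure rfl⟩}, isIrreducible_singleton.closure, isClosed_closure⟩⟩
  exact Order.krullDim_ne_bot_iff.2 inferInstance

theorem add_nat_le_iff (a : WithBot ℕ∞) (n m : ℕ) :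
    a + (n : WithBot ℕ∞) ≤ ((m + n : ℕ) : WithBot ℕ∞) ↔ a ≤ (m : WithBot ℕ∞) := by
  induction a using WithBot.recBotCoe with
  | bot => simp
  | coe a =>
    induction a using ENat.recTopCoe with
    | top =>
      constructor
      · intro h1
        exfalso
        have : ((⊤ : ℕ∞) : WithBot ℕ∞) + (n : WithBot ℕ∞) = ((⊤ : ℕ∞) : WithBot ℕ∞) := by
          rw [show ((n : WithBot ℕ∞)) = (((n : ℕ∞)) : WithBot ℕ∞) from rfl, ← WithBot.coe_add, top_add]
        rw [this] at h1
        have h2 : ((⊤ : ℕ∞) : WithBot ℕ∞) ≤ ((((m + n : ℕ) : ℕ∞)) : WithBot ℕ∞) := h1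
        rw [WithBot.coe_le_coe] at h2
        exact absurd h2 (by simp)
      · intro h1
        exfalso
        have h2 : ((⊤ : ℕ∞) : WithBot ℕ∞) ≤ ((((m : ℕ) : ℕ∞)) : WithBot ℕ∞) := h1
        rw [WithBot.coe_le_coe] at h2
        exact absurd h2 (by simp)
    | coe k =>
      constructor
      · intro h1
        have h2 : k + n ≤ m + n := by exact_mod_cast h1
        have h3 : k ≤ m := by omega
        exact_mod_cast h3
      · intro h1
        have h2 : k ≤ m := by exact_mod_cast h1
        have h3 : k + n ≤ m + n := by omega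
        exact_mod_cast h3

theorem add_nat_le_iff' (a : WithBot ℕ∞) (n D : ℕ) (h : D < n) :
    a + (n : WithBot ℕ∞) ≤ (D : WithBot ℕ∞) ↔ a = ⊥ := by
  induction a using WithBot.recBotCoe with
  | bot => simp
  | coe a =>
    induction a using ENat.recTopCoe with
    | top =>
      constructor
      · intro h1
        exfalso
        have : ((⊤ : ℕ∞) : WithBot ℕ∞) + (n : WithBot ℕ∞) = ((⊤ : ℕ∞) : WithBot ℕ∞) := by
          rw [show ((n : WithBot ℕ∞)) = (((n : ℕ∞)) : WithBot ℕ∞) from rfl, ← WithBot.coe_add, top_add]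
        rw [this] at h1
        have h2 : ((⊤ : ℕ∞) : WithBot ℕ∞) ≤ (((D : ℕ∞)) : WithBot ℕ∞) := h1
        rw [WithBot.coe_le_coe] at h2
        exact absurd h2 (by simp)
      · intro h1
        exact absurd h1 (by simp)
    | coe k =>
      constructor
      · intro h1
        have h2 : k + n ≤ D := by exact_mod_cast h1
        omega
      · intro h1
        exact absurd h1 (by simp)

open Groth.Agent.Lib.Helper21 in
/-- pointwise reformulation of the rectified depth inequality through the projective dimension. -/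
theorem key (X : Scheme.{u}) [IsNoetherian X]
    (hreg : ∀ x : X, IsRegularLocalRing ↑(X.presheaf.stalk x))
    (hfin : topologicalKrullDim X < ⊤)
    (hcomp : ∀ C ∈ irreducibleComponents (X : Type u), topologicalKrullDim ↥C = topologicalKrullDim X)
    (hchain : ∀ (y : X) (T : Set X), IsClosed T → IsIrreducible T → y ∈ T →
      topologicalKrullDim ↥T = topologicalKrullDim ↥(closure ({y} : Set X)) + topologicalKrullDim ↥{t : X | t ∈ T ∧ t ⤳ y})
    (F : X.Modules) (hF : Coh.IsCoh F) (n D : ℕ) (hD : topologicalKrullDim X = D) (y : X) :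
    ((n : WithBot ℕ∞) ≤
      ((LocCoh.depth ↑(X.presheaf.stalk y) ↑(F.presheaf.stalk y) : ℕ∞) : WithBot ℕ∞) +
        topologicalKrullDim ↥(closure ({y} : Set X))) ↔
    projectiveDimension (ModuleCat.of ↑(X.presheaf.stalk y) ↑(F.presheaf.stalk y)) +
      (n : WithBot ℕ∞) ≤ (D : WithBot ℕ∞) := by
  haveI : IsRegularLocalRing (X.presheaf.stalk y) := hreg y
  have hc0 := topologicalKrullDim_closure_ne_bot y
  have hc1 : topologicalKrullDim ↥(closure ({y} : Set X)) < ⊤ :=
    lt_of_le_of_lt (topologicalKrullDim_subspace_le X _) hfin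
  obtain ⟨cn, hcn⟩ := nat_of_pos_lt_top hc0 hc1
  by_cases hs : Subsingleton (F.presheaf.stalk y)
  · have h1 : LocCoh.depth (X.presheaf.stalk y) (F.presheaf.stalk y) = ⊤ :=
      DepthKit.depth_of_subsingleton
    have h2 : projectiveDimension (ModuleCat.of (X.presheaf.stalk y) (F.presheaf.stalk y)) = ⊥ := by
      rw [projectiveDimension_eq_bot_iff, ModuleCat.isZero_iff_subsingleton]
      exact hs
    rw [h1, h2, hcn]
    constructor
    · intro _
      simp
    · intro _
      have : ((⊤ : ℕ∞) : WithBot ℕ∞) + (cn : WithBot ℕ∞) = ((⊤ : ℕ∞) : WithBot ℕ∞) := by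
        rw [show ((cn : WithBot ℕ∞)) = (((cn : ℕ∞)) : WithBot ℕ∞) from rfl, ← WithBot.coe_add,
          top_add]
      rw [this]
      exact le_top
  · have hx : y ∈ CohB1.support F := hs
    have hmain := Groth.Agent.S4906.result X hreg hfin hcomp hchain F hF y hx
    haveI : Module.Finite (X.presheaf.stalk y) (F.presheaf.stalk y) :=
      Groth.Agent.Lib.Helper7.StalkFree.finite_stalk_of_isCoh X F hF y
    haveI : Nontrivial (F.presheaf.stalk y) := not_subsingleton_iff_nontrivial.1 hs
    obtain ⟨dm, hdm⟩ := DepthKit.exists_nat_depth (A := X.presheaf.stalk y)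
      (M := F.presheaf.stalk y)
    obtain ⟨d, hd⟩ := DepthKit.exists_nat_supportDim (A := X.presheaf.stalk y)
      (M := X.presheaf.stalk y)
    have hd' : ringKrullDim (X.presheaf.stalk y) = d := by
      rw [← Module.supportDim_self_eq_ringKrullDim, hd]
    have hpd := Groth.Agent.Lib.helper11.GlDimRegular.hasProjectiveDimensionLT_of_isRegularLocalRing
      d hd' (ModuleCat.of (X.presheaf.stalk y) (F.presheaf.stalk y))
    have hpd_lt : projectiveDimension (ModuleCat.of (X.presheaf.stalk y) (F.presheaf.stalk y)) <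
        ((d + 1 : ℕ) : WithBot ℕ∞) := projectiveDimension_lt_iff.2 hpd
    have hne : projectiveDimension (ModuleCat.of (X.presheaf.stalk y) (F.presheaf.stalk y)) ≠ ⊥ := by
      rw [Ne, projectiveDimension_eq_bot_iff, ModuleCat.isZero_iff_subsingleton]
      exact hs
    obtain ⟨e, he⟩ := nat_of_pos_lt_top hne (lt_of_lt_of_le hpd_lt le_top)
    rw [hdm, hcn, he, hD] at hmain
    rw [hdm, hcn, he]
    have hnat : dm + cn + e = D := by exact_mod_cast hmain
    constructor
    · intro h
      have h' : n ≤ dm + cn := by exact_mod_cast h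
      have : e + n ≤ D := by omega
      exact_mod_cast this
    · intro h
      have h' : e + n ≤ D := by exact_mod_cast h
      have : n ≤ dm + cn := by omega
      exact_mod_cast this

open Groth.Agent.Lib.Helper21 in

/-- Let X be a regular biequidimensional scheme (Noetherian, regular local rings, finite dimension, all
irreducible components of dimension dim X, and dim T = dim cl{y} + codim(cl{y}, T) for every closed
irreducible T and point y of T) and F a coherent O_X-module. Then the rectified depth x ↦ prof(F_x)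
+ dim cl{x} is lower semicontinuous: for every integer n the set of x with prof(F_x) + dim cl{x} ≥ n
is open. -/
theorem result (X : Scheme.{u}) [IsNoetherian X]
    (hreg : ∀ x : X, IsRegularLocalRing ↑(X.presheaf.stalk x))
    (hfin : topologicalKrullDim X < ⊤)
    (hcomp : ∀ C ∈ irreducibleComponents (X : Type u), topologicalKrullDim ↥C = topologicalKrullDim X)
    (hchain : ∀ (y : X) (T : Set X), IsClosed T → IsIrreducible T → y ∈ T →
      topologicalKrullDim ↥T = topologicalKrullDim ↥(closure ({y} : Set X)) + topologicalKrullDim ↥{t : X | t ∈ T ∧ t ⤳ y})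
    (F : X.Modules) (hF : Coh.IsCoh F) (n : ℕ) :
    IsOpen {x : X | (n : WithBot ℕ∞) ≤
      ((LocCoh.depth ↑(X.presheaf.stalk x) ↑(F.presheaf.stalk x) : ℕ∞) : WithBot ℕ∞) +
        topologicalKrullDim ↥(closure ({x} : Set X))} := by
  haveI : F.IsQuasicoherent := hF.1
  haveI : SheafOfModules.IsFiniteType.{u} (R := X.ringCatSheaf) F := hF.2
  rw [isOpen_iff_forall_mem_open]
  intro x hxW
  -- the dimension of `X`
  have hX0 : topologicalKrullDim X ≠ ⊥ := by
    haveI : Nonempty (IrreducibleCloseds X) :=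
      ⟨⟨closure {x}, isIrreducible_singleton.closure, isClosed_closure⟩⟩
    exact Order.krullDim_ne_bot_iff.2 inferInstance
  obtain ⟨D, hD⟩ := nat_of_pos_lt_top hX0 hfin
  have hkey := key X hreg hfin hcomp hchain F hF n D hD
  obtain ⟨U, hU', hxU, -⟩ := (Opens.isBasis_iff_nbhd.1 X.isBasis_affineOpens)
    (show x ∈ (⊤ : X.Opens) from trivial)
  have hU : IsAffineOpen U := hU'
  have hloc := isLocOn_of_isQuasicoherent F hU
  haveI : Module.Finite Γ(X, U) Γ(F, U) :=
    Groth.Agent.Lib.Helper28.FinType.finite_of_isAffineOpen F hU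
  haveI : IsNoetherianRing Γ(X, U) := IsLocallyNoetherian.component_noetherian ⟨U, hU⟩
  set S : Set (PrimeSpectrum Γ(X, U)) := {p | projectiveDimension
    (ModuleCat.of (Localization.AtPrime p.asIdeal) (LocalizedModule p.asIdeal.primeCompl Γ(F, U))) +
      (n : WithBot ℕ∞) ≤ (D : WithBot ℕ∞)} with hS
  have hSopen : IsOpen S := by
    by_cases hn : n ≤ D
    · obtain ⟨m, rfl⟩ : ∃ m, D = m + n := ⟨D - n, by omega⟩
      have h1 := Groth.Agent.S2677.result Γ(X, U) Γ(F, U) m
      have h2 : S = {p : PrimeSpectrum Γ(X, U) | projectiveDimension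
          (ModuleCat.of (Localization.AtPrime p.asIdeal)
            (LocalizedModule p.asIdeal.primeCompl Γ(F, U))) ≤ m} := by
        ext p
        exact add_nat_le_iff _ n m
      rw [h2]
      exact h1
    · have h2 : S = (Module.support Γ(X, U) Γ(F, U))ᶜ := by
        ext p
        rw [Set.mem_compl_iff, Module.notMem_support_iff, hS, Set.mem_setOf_eq,
          add_nat_le_iff' _ n D (by omega), projectiveDimension_eq_bot_iff,
          ModuleCat.isZero_iff_subsingleton]
      rw [h2, Module.support_eq_zeroLocus]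
      exact (PrimeSpectrum.isClosed_zeroLocus _).isOpen_compl
  have hdict : ∀ (y : X) (hy : y ∈ U),
      (y ∈ {x : X | (n : WithBot ℕ∞) ≤
      ((LocCoh.depth ↑(X.presheaf.stalk x) ↑(F.presheaf.stalk x) : ℕ∞) : WithBot ℕ∞) +
        topologicalKrullDim ↥(closure ({x} : Set X))}) ↔ hU.primeIdealOf ⟨y, hy⟩ ∈ S := by
    intro y hy
    rw [Set.mem_setOf_eq, hS, Set.mem_setOf_eq, hkey y, (PDStalk.pd_stalk_eq F hU hloc y hy).1]
  refine ⟨hU.fromSpec '' S, ?_, hU.fromSpec.isOpenEmbedding.isOpenMap _ hSopen, ?_⟩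
  · rintro _ ⟨p, hp, rfl⟩
    have hyU : hU.fromSpec p ∈ U := by
      have : hU.fromSpec p ∈ Set.range hU.fromSpec := ⟨p, rfl⟩
      rw [hU.range_fromSpec] at this
      exact this
    rw [hdict _ hyU]
    have hpp : hU.primeIdealOf ⟨hU.fromSpec p, hyU⟩ = p :=
      hU.fromSpec.isOpenEmbedding.injective (hU.fromSpec_primeIdealOf ⟨hU.fromSpec p, hyU⟩)
    rw [hpp]
    exact hp
  · exact ⟨hU.primeIdealOf ⟨x, hxU⟩, (hdict x hxU).1 hxW, hU.fromSpec_primeIdealOf ⟨x, hxU⟩⟩

end Groth.Agent.S4907
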