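import Groth.Statements.S4961
import Groth.Agent.Lib.Helper21.CMAff8

set_option autoImplicit false
open CategoryTheory AlgebraicGeometry
universe u v w
open EGA43

namespace Groth.Agent.S4961

/-- Let f : X ⟶ Y be a morphism locally of finite presentation. The set of points x of X at which f is
Cohen–Macaulay (f flat at x and the local ring at x of the fibre through x Cohen–Macaulay) is open
in X. -/
theorem result {X Y : Scheme.{u}} (f : X ⟶ Y)
    [LocallyOfFinitePresentation f] : IsOpen {x : X | MoreMor.IsCMAt f x} := by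
  rw [isOpen_iff_forall_mem_open]
  intro x hcm
  obtain ⟨x₁, hspec, hcm₁, hcl₁⟩ :=
    Groth.Agent.Lib.Helper21.CMAff.exists_closed_specialization_CM f x hcm
  obtain ⟨n, U, hx₁, g, hg, hlqf, hflat⟩ :=
    Groth.Agent.Lib.Helper21.CMAff.exists_flat_lqf_toAffineSpace_of_closed f x₁ hcm₁ hcl₁
  refine ⟨U, ?_, U.2, hspec.mem_open U.2 hx₁⟩
  intro y hy
  haveI := hlqf
  exact Groth.Agent.Lib.Helper21.CMAff.isCMAt_of_lqf_flat f y (ULift.{u} (Fin n)) U hy g hg
    (Flat.stalkMap g _)

end Groth.Agent.S4961
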