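import Groth.Statements.S1483
import Groth.Agent.Lib.Helper21.FlatDescQ5
import Groth.Agent.Lib.Helper29.FPFree

set_option autoImplicit false
universe u
open FlatMor

namespace Groth.Agent.S1483

open AlgebraicGeometry CategoryTheory Limits
open Groth.Agent.Lib.Helper21.FlatDesc IsLocalRing

set_option maxHeartbeats 1600000 in
set_option synthInstance.maxHeartbeats 200000 in
open AlgebraicGeometry CategoryTheory Limits in
/-- Fibrewise flatness criterion (critère de platitude par fibres), pointwise equivalence for a module: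
let f : X → Y and g : Y → S be morphisms of schemes with X locally of finite presentation over S
(via g ∘ f) and Y locally of finite type over S, F a finitely presented quasi-coherent O_X-module,
and x a point of X with images y = f(x) and s = g(y) at which the stalk F_x is nonzero. The
following are equivalent: (a) F is flat over S at x and F_x / 𝔪_s F_x is flat over O_{Y,y} / 𝔪_s
O_{Y,y}; (b) the morphism g is flat at the point y and F is Y-flat at x. The published statement
also asserts that the locus of such x is open in the support of F; that is not restated here (the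
companion statement for F = O_X carries it). -/
theorem result {X Y S : Scheme.{u}} (f : X ⟶ Y) (g : Y ⟶ S) [LocallyOfFinitePresentation (f ≫ g)] [LocallyOfFiniteType g]
    (F : X.Modules) (hq : Coh.IsQCoh F) (hfp : CohB1.IsFP F) (x : X) (hx : Nontrivial ↑(F.presheaf.stalk x)) :
    letI := FlatMod.moduleStalkOver f F x
    (FlatMod.IsFlatOverAt (f ≫ g) F x ∧
      Module.Flat (↑(Y.presheaf.stalk (f x)) ⧸ Ideal.map (g.stalkMap (f x)).hom (IsLocalRing.maximalIdeal ↑(S.presheaf.stalk (g (f x)))))
        (↑(F.presheaf.stalk x) ⧸ (Ideal.map (g.stalkMap (f x)).hom (IsLocalRing.maximalIdeal ↑(S.presheaf.stalk (g (f x)))) •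
          (⊤ : Submodule ↑(Y.presheaf.stalk (f x)) ↑(F.presheaf.stalk x))))) ↔
    ((g.stalkMap (f x)).hom.Flat ∧ FlatMod.IsFlatOverAt f F x) := by
  letI mB : Module (Y.presheaf.stalk (f x)) (F.presheaf.stalk x) := FlatMod.moduleStalkOver f F x
  letI aAB : Algebra (S.presheaf.stalk (g (f x))) (Y.presheaf.stalk (f x)) :=
    (g.stalkMap (f x)).hom.toAlgebra
  letI aBC : Algebra (Y.presheaf.stalk (f x)) (X.presheaf.stalk x) := (f.stalkMap x).hom.toAlgebra
  letI aAC : Algebra (S.presheaf.stalk (g (f x))) (X.presheaf.stalk x) :=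
    ((f ≫ g).stalkMap x).hom.toAlgebra
  haveI tw : IsScalarTower (S.presheaf.stalk (g (f x))) (Y.presheaf.stalk (f x))
      (X.presheaf.stalk x) := IsScalarTower.of_algebraMap_eq fun a => by
    show ((f ≫ g).stalkMap x).hom a = (f.stalkMap x).hom ((g.stalkMap (f x)).hom a)
    rw [Scheme.Hom.stalkMap_comp]
    rfl
  haveI : IsLocalHom (algebraMap (S.presheaf.stalk (g (f x))) (Y.presheaf.stalk (f x))) :=
    inferInstanceAs (IsLocalHom (g.stalkMap (f x)).hom)
  haveI : IsLocalHom (algebraMap (Y.presheaf.stalk (f x)) (X.presheaf.stalk x)) :=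
    inferInstanceAs (IsLocalHom (f.stalkMap x).hom)
  haveI hEFT : Algebra.EssFiniteType (S.presheaf.stalk (g (f x))) (Y.presheaf.stalk (f x)) :=
    LocallyOfFiniteType.stalkMap (f := g) (f x)
  obtain ⟨C₀, _, a, b, TC, hab, ha, hloc⟩ := essFP_stalkMap (f ≫ g) x
  letI aAC₀ : Algebra (S.presheaf.stalk (g (f x))) C₀ := a.toAlgebra
  letI aC₀C : Algebra C₀ (X.presheaf.stalk x) := b.toAlgebra
  haveI twC : IsScalarTower (S.presheaf.stalk (g (f x))) C₀ (X.presheaf.stalk x) :=
    IsScalarTower.of_algebraMap_eq fun r => by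
      show ((f ≫ g).stalkMap x).hom r = b (a r)
      rw [hab]; rfl
  haveI : Algebra.FinitePresentation (S.presheaf.stalk (g (f x))) C₀ := ha
  haveI := hloc
  -- module structures
  letI mA : Module (S.presheaf.stalk (g (f x))) (F.presheaf.stalk x) :=
    FlatMod.moduleStalkOver (f ≫ g) F x
  haveI tBC : IsScalarTower (Y.presheaf.stalk (f x)) (X.presheaf.stalk x) (F.presheaf.stalk x) :=
    IsScalarTower.of_algebraMap_smul fun _ _ => rfl
  haveI tAC : IsScalarTower (S.presheaf.stalk (g (f x))) (X.presheaf.stalk x)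
      (F.presheaf.stalk x) := IsScalarTower.of_algebraMap_smul fun _ _ => rfl
  haveI tAB : IsScalarTower (S.presheaf.stalk (g (f x))) (Y.presheaf.stalk (f x))
      (F.presheaf.stalk x) := ⟨fun r s m => by
    rw [← algebraMap_smul (X.presheaf.stalk x) (r • s) m, Algebra.smul_def r s, map_mul, mul_smul,
      algebraMap_smul (X.presheaf.stalk x) s m, ← IsScalarTower.algebraMap_apply,
      algebraMap_smul]⟩
  haveI : SheafOfModules.IsFinitePresentation.{u} (R := X.ringCatSheaf) F := hfp
  haveI hfpM : Module.FinitePresentation (X.presheaf.stalk x) (F.presheaf.stalk x) :=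
    Groth.Agent.Lib.Helper29.FPFree.fp_stalk F x
  constructor
  · rintro ⟨h1, h2⟩
    haveI hflA : Module.Flat (S.presheaf.stalk (g (f x))) (F.presheaf.stalk x) := h1
    exact fibre_criterion_essFT_module (S.presheaf.stalk (g (f x))) (Y.presheaf.stalk (f x))
      (X.presheaf.stalk x)
      (Algebra.EssFiniteType.subalgebra (S.presheaf.stalk (g (f x))) (Y.presheaf.stalk (f x)))
      (Algebra.EssFiniteType.submonoid (S.presheaf.stalk (g (f x))) (Y.presheaf.stalk (f x)))
      C₀ TC (F.presheaf.stalk x) h2
  · rintro ⟨h1, h2⟩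
    haveI hAB : Module.Flat (S.presheaf.stalk (g (f x))) (Y.presheaf.stalk (f x)) := h1
    haveI hBM : Module.Flat (Y.presheaf.stalk (f x)) (F.presheaf.stalk x) := h2
    refine ⟨?_, flat_quot_smul_of_flat _ _ _⟩
    exact Module.Flat.trans (S.presheaf.stalk (g (f x))) (Y.presheaf.stalk (f x))
      (F.presheaf.stalk x)

end Groth.Agent.S1483
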