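import Groth.Statements.S12908
import Mathlib
import Groth.Agent.S12906

set_option autoImplicit false
universe u
open CAlgX

namespace Groth.Agent.S12908

section helpers
open Matrix

variable {R : Type u} [CommRing R] {t : ℕ}

/-- the maximal minors -/
noncomputable def δ (Ψ : Matrix (Fin (t + 1)) (Fin t) R) (i : Fin (t + 1)) : R :=
  (Ψ.submatrix i.succAbove id).det

/-- the bordered matrix `[v | Ψ]` -/
def B (Ψ : Matrix (Fin (t + 1)) (Fin t) R) (v : Fin (t + 1) → R) :
    Matrix (Fin (t + 1)) (Fin (t + 1)) R :=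
  Matrix.of fun i j => Fin.cases (v i) (fun j' => Ψ i j') j

lemma B_submatrix (Ψ : Matrix (Fin (t + 1)) (Fin t) R) (v : Fin (t + 1) → R) (i : Fin (t + 1)) :
    (B Ψ v).submatrix i.succAbove Fin.succ = Ψ.submatrix i.succAbove id := by
  ext a b
  simp [B]

lemma det_B (Ψ : Matrix (Fin (t + 1)) (Fin t) R) (v : Fin (t + 1) → R) :
    (B Ψ v).det = ∑ i : Fin (t + 1), (-1 : R) ^ (i : ℕ) * δ Ψ i * v i := by
  rw [Matrix.det_succ_column_zero]
  refine Finset.sum_congr rfl fun i _ => ?_
  rw [B_submatrix]
  simp only [B, Matrix.of_apply, Fin.cases_zero, δ]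
  ring

/-- Cramer: if `det [v | Ψ] = 0` then `δ_k v ∈ range Ψ` -/
lemma minor_smul_mem_range (Ψ : Matrix (Fin (t + 1)) (Fin t) R) (v : Fin (t + 1) → R)
    (hv : ∑ i : Fin (t + 1), (-1 : R) ^ (i : ℕ) * δ Ψ i * v i = 0) (k : Fin (t + 1)) :
    δ Ψ k • v ∈ LinearMap.range Ψ.mulVecLin := by
  have h1 : B Ψ v * (B Ψ v).adjugate = 0 := by
    rw [Matrix.mul_adjugate, det_B, hv, zero_smul]
  -- column `k` of the adjugate
  set c : Fin (t + 1) → R := fun j => (B Ψ v).adjugate j k with hc
  have h2 : ∀ i, v i * c 0 + ∑ j : Fin t, Ψ i j * c j.succ = 0 := by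
    intro i
    have := congrFun (congrFun h1 i) k
    rw [Matrix.mul_apply, Fin.sum_univ_succ] at this
    simp only [B, Matrix.of_apply, Fin.cases_zero, Fin.cases_succ, Matrix.zero_apply] at this
    exact this
  have h3 : c 0 = (-1 : R) ^ (k : ℕ) * δ Ψ k := by
    rw [hc]
    simp only
    rw [Matrix.adjugate_fin_succ_eq_det_submatrix, Fin.succAbove_zero, B_submatrix]
    simp [δ]
  have hmem : ((-1 : R) ^ (k : ℕ) * δ Ψ k) • v ∈ LinearMap.range Ψ.mulVecLin := by
    refine ⟨fun j => - c j.succ, ?_⟩
    funext i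
    rw [Matrix.mulVecLin_apply]
    change ∑ j, Ψ i j * (- c j.succ) = _
    have := h2 i
    rw [h3] at this
    simp only [mul_neg, Finset.sum_neg_distrib, Pi.smul_apply, smul_eq_mul]
    linear_combination -this
  have := Submodule.smul_mem _ ((-1 : R) ^ (k : ℕ)) hmem
  rw [smul_smul, ← mul_assoc, ← pow_add, ← two_mul, pow_mul] at this
  simpa using this

lemma exists_succAbove_comp (f : Fin t → Fin (t + 1)) (hf : Function.Injective f) :
    ∃ (i : Fin (t + 1)) (σ : Equiv.Perm (Fin t)), f = i.succAbove ∘ σ := by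
  classical
  -- an element outside the range
  have hne : ∃ i, i ∉ Set.range f := by
    by_contra hcon
    push Not at hcon
    have hsurj : Function.Surjective f := hcon
    have := Fintype.card_le_of_surjective f hsurj
    simp at this
  obtain ⟨i, hi⟩ := hne
  have hex : ∀ j, ∃ z, i.succAbove z = f j := fun j =>
    Fin.exists_succAbove_eq (fun h => hi ⟨j, h⟩)
  choose g hg using hex
  have hginj : Function.Injective g := by
    intro a b hab
    apply hf
    rw [← hg a, ← hg b, hab]
  have hgbij : Function.Bijective g := Finite.injective_iff_bijective.mp hginj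
  refine ⟨i, Equiv.ofBijective g hgbij, ?_⟩
  funext j
  exact (hg j).symm

lemma minorIdeal_eq (Ψ : Matrix (Fin (t + 1)) (Fin t) R) :
    minorIdeal Ψ t = Ideal.span (Set.range (δ Ψ)) := by
  classical
  apply le_antisymm
  · unfold minorIdeal
    rw [Ideal.span_le]
    rintro _ ⟨⟨f, g⟩, rfl⟩
    simp only
    rw [SetLike.mem_coe]
    by_cases hg : Function.Injective g
    · have hgbij : Function.Bijective g := Finite.injective_iff_bijective.mp hg
      set τ : Equiv.Perm (Fin t) := Equiv.ofBijective g hgbij with hτ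
      have h1 : Ψ.submatrix f g = (Ψ.submatrix f id).submatrix id τ := by
        ext a b; simp [hτ]
      rw [h1, Matrix.det_permute']
      apply Ideal.mul_mem_left
      by_cases hf : Function.Injective f
      · obtain ⟨i, σ, rfl⟩ := exists_succAbove_comp f hf
        have h2 : Ψ.submatrix (i.succAbove ∘ σ) id = (Ψ.submatrix i.succAbove id).submatrix σ id := by
          ext a b; simp
        rw [h2, Matrix.det_permute]
        apply Ideal.mul_mem_left
        exact Ideal.subset_span ⟨i, rfl⟩
      · rw [Function.Injective] at hf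
        push Not at hf
        obtain ⟨a, b, hab, hne⟩ := hf
        rw [Matrix.det_zero_of_row_eq hne (by ext c; simp [hab])]
        exact Ideal.zero_mem _
    · rw [Function.Injective] at hg
      push Not at hg
      obtain ⟨a, b, hab, hne⟩ := hg
      rw [Matrix.det_zero_of_column_eq hne (by intro c; simp [hab])]
      exact Ideal.zero_mem _
  · rw [Ideal.span_le]
    rintro _ ⟨i, rfl⟩
    exact Ideal.subset_span ⟨(i.succAbove, id), rfl⟩

open RingTheory.Sequence in
lemma exists_regular_pair {J : Ideal R} (h : 2 ≤ LocCoh.idealDepth J R) :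
    ∃ x ∈ J, ∃ y ∈ J, IsSMulRegular R x ∧ ∀ r s : R, y * r = x * s → ∃ s', r = x * s' := by
  classical
  unfold LocCoh.idealDepth at h
  split_ifs at h with htop
  · have hJ : J = ⊤ := by
      rw [smul_eq_mul, Ideal.mul_top] at htop
      exact htop
    refine ⟨1, hJ ▸ Submodule.mem_top, 1, hJ ▸ Submodule.mem_top, IsSMulRegular.one R, ?_⟩
    intro r s hrs
    exact ⟨s, by simpa using hrs⟩
  · have h1 : (1 : ℕ∞) < ⨆ (rs : List R) (_ : IsWeaklyRegular R rs ∧ ∀ r ∈ rs, r ∈ J),
        (rs.length : ℕ∞) := lt_of_lt_of_le (by norm_num) h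
    obtain ⟨rs, hrs⟩ := lt_iSup_iff.mp h1
    obtain ⟨⟨hreg, hmem⟩, hlen⟩ := lt_iSup_iff.mp hrs
    have hlen' : 1 < rs.length := by exact_mod_cast hlen
    match rs, hreg, hmem, hlen' with
    | x :: y :: rest, hreg, hmem, _ =>
      rw [isWeaklyRegular_cons_iff] at hreg
      obtain ⟨hx, hreg'⟩ := hreg
      rw [isWeaklyRegular_cons_iff] at hreg'
      obtain ⟨hy, -⟩ := hreg'
      refine ⟨x, hmem x (by simp), y, hmem y (by simp), hx, ?_⟩
      intro r s hrs
      have h3 := @hy (Submodule.Quotient.mk r) 0 (by
        simp only [smul_zero]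
        rw [← Submodule.Quotient.mk_smul, Submodule.Quotient.mk_eq_zero, smul_eq_mul, hrs]
        exact Submodule.smul_mem_pointwise_smul s x ⊤ Submodule.mem_top)
      rw [Submodule.Quotient.mk_eq_zero] at h3
      obtain ⟨s', -, hs'⟩ := (Submodule.mem_smul_pointwise_iff_exists _ _ _).mp h3
      exact ⟨s', by rw [← hs', smul_eq_mul]⟩

lemma minor_smul_eq_zero (Ψ : Matrix (Fin (t + 1)) (Fin t) R) (w : Fin t → R)
    (hw : Ψ.mulVec w = 0) (k : Fin (t + 1)) : δ Ψ k • w = 0 := by
  have h1 : (Ψ.submatrix k.succAbove id).mulVec w = 0 := by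
    funext i
    have := congrFun hw (k.succAbove i)
    simpa [Matrix.mulVec, dotProduct] using this
  have h2 := congrArg (fun u => (Ψ.submatrix k.succAbove id).adjugate.mulVec u) h1
  simp only [Matrix.mulVec_mulVec, Matrix.adjugate_mul, Matrix.mulVec_zero, Matrix.smul_mulVec,
    Matrix.one_mulVec] at h2
  exact h2

end helpers


/-- Let R be a Noetherian ring, t a natural number, Ψ a (t+1) × t matrix over R such that the
I_t(Ψ)-depth of R is at least 2, where I_t(Ψ) is the ideal generated by the t × t minors of Ψ, and a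
a non-zero-divisor of R. Put Δ_i = a · (-1)^i det Ψ_i, where Ψ_i is Ψ with row i deleted. Then 0 →
R^t → R^{t+1} → R, with first map Ψ and second map v ↦ Σ_i Δ_i v_i, is exact: Ψ is injective and the
kernel of the second map equals the image of Ψ; moreover the image of the second map is the ideal a
· I_t(Ψ). (The published statement adds that this ideal has depth 2 exactly when a is a unit; that
clause is not stated here.) -/
theorem result {R : Type u} [CommRing R] [IsNoetherianRing R] (t : ℕ)
    (Ψ : Matrix (Fin (t + 1)) (Fin t) R) (hdepth : 2 ≤ LocCoh.idealDepth (CAlgX.minorIdeal Ψ t) R)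
    (a : R) (ha : a ∈ nonZeroDivisors R) :
    LinearMap.ker Ψ.mulVecLin = ⊥ ∧
      LinearMap.ker (Fintype.linearCombination R
          (fun i : Fin (t + 1) => a * ((-1 : R) ^ (i : ℕ) * (Ψ.submatrix i.succAbove id).det))) =
        LinearMap.range Ψ.mulVecLin ∧
      LinearMap.range (Fintype.linearCombination R
          (fun i : Fin (t + 1) => a * ((-1 : R) ^ (i : ℕ) * (Ψ.submatrix i.succAbove id).det))) =
        Ideal.span {a} * CAlgX.minorIdeal Ψ t := by
  classical
  obtain ⟨x, hxJ, y, hyJ, hx, hy⟩ := exists_regular_pair hdepth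
  rw [minorIdeal_eq] at hxJ hyJ
  -- elements of the minor ideal kill kernel vectors
  have hkill : ∀ z ∈ Ideal.span (Set.range (δ Ψ)), ∀ w : Fin t → R, Ψ.mulVec w = 0 → z • w = 0 := by
    intro z hz w hw
    induction hz using Submodule.span_induction with
    | mem z hz =>
      obtain ⟨k, rfl⟩ := hz
      exact minor_smul_eq_zero Ψ w hw k
    | zero => simp
    | add z z' _ _ h1 h2 => rw [add_smul, h1, h2, add_zero]
    | smul c z _ h1 => rw [smul_eq_mul, mul_smul, h1, smul_zero]
  have hinj : LinearMap.ker Ψ.mulVecLin = ⊥ := by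
    rw [eq_bot_iff]
    intro w hw
    rw [LinearMap.mem_ker, Matrix.mulVecLin_apply] at hw
    rw [Submodule.mem_bot]
    have h1 := hkill x hxJ w hw
    funext j
    have h2 := congrFun h1 j
    rw [Pi.smul_apply, Pi.zero_apply] at h2
    exact hx (by simpa using h2)
  refine ⟨hinj, ?_, ?_⟩
  · -- middle exactness
    apply le_antisymm
    · intro v hv
      rw [LinearMap.mem_ker, Fintype.linearCombination_apply] at hv
      have hv' : ∑ i : Fin (t + 1), (-1 : R) ^ (i : ℕ) * δ Ψ i * v i = 0 := by
        have h1 : a * ∑ i : Fin (t + 1), (-1 : R) ^ (i : ℕ) * δ Ψ i * v i = 0 := by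
          rw [← hv, Finset.mul_sum]
          refine Finset.sum_congr rfl fun i _ => ?_
          simp only [smul_eq_mul, δ]
          ring
        exact (mul_left_mem_nonZeroDivisors_eq_zero_iff ha).mp h1
      -- all elements of the minor ideal multiply `v` into the range
      have hrange : ∀ z ∈ Ideal.span (Set.range (δ Ψ)), z • v ∈ LinearMap.range Ψ.mulVecLin := by
        intro z hz
        induction hz using Submodule.span_induction with
        | mem z hz =>
          obtain ⟨k, rfl⟩ := hz
          exact minor_smul_mem_range Ψ v hv' k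
        | zero => rw [zero_smul]; exact Submodule.zero_mem _
        | add z z' _ _ h1 h2 => rw [add_smul]; exact Submodule.add_mem _ h1 h2
        | smul c z _ h1 => rw [smul_eq_mul, mul_smul]; exact Submodule.smul_mem _ c h1
      obtain ⟨wx, hwx⟩ := hrange x hxJ
      obtain ⟨wy, hwy⟩ := hrange y hyJ
      rw [Matrix.mulVecLin_apply] at hwx hwy
      -- `y • wx = x • wy`
      have h1 : Ψ.mulVec (y • wx - x • wy) = 0 := by
        rw [Matrix.mulVec_sub, Matrix.mulVec_smul, Matrix.mulVec_smul, hwx, hwy, smul_smul,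
          smul_smul, mul_comm, sub_self]
      have h2 : y • wx - x • wy = 0 := by
        have : y • wx - x • wy ∈ LinearMap.ker Ψ.mulVecLin := by
          rw [LinearMap.mem_ker, Matrix.mulVecLin_apply]; exact h1
        rw [hinj] at this
        exact this
      have h3 : ∀ j, ∃ s', wx j = x * s' := by
        intro j
        apply hy (wx j) (wy j)
        have := congrFun h2 j
        simp only [Pi.sub_apply, Pi.smul_apply, smul_eq_mul, Pi.zero_apply] at this
        exact sub_eq_zero.mp this
      choose w hw using h3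
      refine ⟨w, ?_⟩
      rw [Matrix.mulVecLin_apply]
      have h4 : x • Ψ.mulVec w = x • v := by
        rw [← Matrix.mulVec_smul, ← hwx]
        congr 1
        funext j
        simp [hw j]
      funext i
      have := congrFun h4 i
      simp only [Pi.smul_apply, smul_eq_mul] at this
      exact hx (by simpa using this)
    · rintro _ ⟨w, rfl⟩
      rw [LinearMap.mem_ker, Fintype.linearCombination_apply, Matrix.mulVecLin_apply]
      have h1 : ∀ i : Fin (t + 1), (Ψ.mulVec w) i • (a * ((-1 : R) ^ (i : ℕ) * (Ψ.submatrix i.succAbove id).det)) =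
          ∑ j, a * w j * ((-1 : R) ^ (i : ℕ) * (Ψ.submatrix i.succAbove id).det * Ψ i j) := by
        intro i
        change (∑ j, Ψ i j * w j) * _ = _
        rw [Finset.sum_mul]
        refine Finset.sum_congr rfl fun j _ => ?_
        ring
      simp_rw [h1]
      rw [Finset.sum_comm]
      refine Finset.sum_eq_zero fun j _ => ?_
      rw [← Finset.mul_sum, Groth.Agent.S12906.result t Ψ j, mul_zero]
  · rw [Fintype.range_linearCombination, minorIdeal_eq]
    apply le_antisymm
    · rw [Submodule.span_le]
      rintro _ ⟨i, rfl⟩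
      apply Ideal.mul_mem_mul (Ideal.mem_span_singleton_self a)
      exact Ideal.mul_mem_left _ _ (Ideal.subset_span ⟨i, rfl⟩)
    · rw [Ideal.mul_le]
      intro r hr s hs
      obtain ⟨c, rfl⟩ := Ideal.mem_span_singleton'.mp hr
      induction hs using Submodule.span_induction with
      | mem z hz =>
        obtain ⟨k, rfl⟩ := hz
        have : c * a * δ Ψ k = (c * (-1 : R) ^ (k : ℕ)) • (a * ((-1 : R) ^ (k : ℕ) * (Ψ.submatrix k.succAbove id).det)) := by
          simp only [smul_eq_mul, δ]
          have h2 : ((-1 : R) ^ (k : ℕ)) * ((-1 : R) ^ (k : ℕ)) = 1 := by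
            rw [← pow_add, ← two_mul, pow_mul]; simp
          linear_combination (-(c * a * (Ψ.submatrix k.succAbove id).det)) * h2
        rw [this]
        exact Submodule.smul_mem _ _ (Submodule.subset_span ⟨k, rfl⟩)
      | zero => rw [mul_zero]; exact Submodule.zero_mem _
      | add z z' _ _ h1 h2 => rw [mul_add]; exact Submodule.add_mem _ h1 h2
      | smul c' z _ h1 =>
        rw [smul_eq_mul, mul_left_comm]
        exact Submodule.smul_mem _ c' h1

end Groth.Agent.S12908
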