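import Groth.Statements.S9277
import Mathlib

set_option autoImplicit false
universe u
open CAlgX

namespace Groth.Agent.S9277

open Matrix

theorem mccoy {R : Type u} [CommRing R] {m n : ℕ} (M : Matrix (Fin n) (Fin m) R)
    (hinj : Function.Injective M.mulVecLin) (a : R)
    (ha : a ∈ (CAlgX.minorIdeal M m).annihilator) : a = 0 := by
  classical
  by_contra ha0
  let P : ℕ → Prop := fun s =>
    ∃ (f : Fin s → Fin n) (g : Fin s → Fin m), a * det (M.submatrix f g) ≠ 0
  have hP0 : P 0 := ⟨Fin.elim0, Fin.elim0, by rw [det_isEmpty, mul_one]; exact ha0⟩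
  have hPm : ¬ P m := by
    rintro ⟨f, g, hfg⟩
    apply hfg
    have := (Submodule.mem_annihilator.mp ha) (det (M.submatrix f g))
      (Ideal.subset_span ⟨(f, g), rfl⟩)
    simpa using this
  have hex : ∃ s, ¬ P s := ⟨m, hPm⟩
  have hfind_ne : Nat.find hex ≠ 0 := by
    intro h0
    have := Nat.find_spec hex
    rw [h0] at this
    exact this hP0
  obtain ⟨s, hs⟩ := Nat.exists_eq_succ_of_ne_zero hfind_ne
  have hPs : P s := by
    by_contra h
    have := Nat.find_min' hex h
    omega
  have hPs1 : ¬ P (s + 1) := by
    have := Nat.find_spec hex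
    rwa [hs] at this
  have hsm : s + 1 ≤ m := by
    have := Nat.find_min' hex hPm
    omega
  obtain ⟨f, g, hfg⟩ := hPs
  have hginj : Function.Injective g := by
    by_contra h
    apply hfg
    obtain ⟨i, j, hij, hne⟩ : ∃ i j, g i = g j ∧ i ≠ j := by
      simpa [Function.Injective] using h
    rw [Matrix.det_zero_of_column_eq hne (by intro k; simp [hij]), mul_zero]
  obtain ⟨j₀, hj₀⟩ : ∃ j₀, ∀ k, g k ≠ j₀ := by
    by_contra h
    push Not at h
    have := Fintype.card_le_of_surjective g h
    simp at this
    omega
  let g' : Fin (s + 1) → Fin m := Fin.cons j₀ g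
  let c : Fin (s + 1) → R := fun k =>
    a * ((-1) ^ (k : ℕ) * det (M.submatrix f (g' ∘ k.succAbove)))
  let x : Fin m → R := fun j => ∑ k, if g' k = j then c k else 0
  have hMx : M.mulVecLin x = 0 := by
    ext i
    rw [Matrix.mulVecLin_apply]
    simp only [Matrix.mulVec, dotProduct, x, Pi.zero_apply]
    have h1 : ∀ j, M i j * ∑ k, (if g' k = j then c k else 0) =
        ∑ k, (if g' k = j then M i (g' k) * c k else 0) := by
      intro j
      rw [Finset.mul_sum]
      refine Finset.sum_congr rfl fun k _ => ?_
      split_ifs with h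
      · rw [h]
      · rw [mul_zero]
    simp_rw [h1]
    rw [Finset.sum_comm]
    simp only [Finset.sum_ite_eq, Finset.mem_univ, if_true]
    have hdet : a * det (M.submatrix (Fin.cons i f : Fin (s + 1) → Fin n) g') = 0 := by
      by_contra h
      exact hPs1 ⟨_, _, h⟩
    rw [Matrix.det_succ_row_zero, Finset.mul_sum] at hdet
    rw [← hdet]
    refine Finset.sum_congr rfl fun k _ => ?_
    have e1 : (M.submatrix (Fin.cons i f : Fin (s + 1) → Fin n) g').submatrix Fin.succ k.succAbove
        = M.submatrix f (g' ∘ k.succAbove) := by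
      ext p q
      simp [Matrix.submatrix_apply]
    rw [e1]
    simp only [Matrix.submatrix_apply, Fin.cons_zero, c]
    ring
  have hx0 : x = 0 := hinj (by rw [hMx, map_zero])
  have hxj : x j₀ = a * det (M.submatrix f g) := by
    simp only [x]
    rw [Fin.sum_univ_succ]
    have h0 : g' 0 = j₀ := rfl
    have hsucc : ∀ k : Fin s, g' k.succ = g k := fun k => rfl
    rw [if_pos h0]
    have : ∑ k : Fin s, (if g' k.succ = j₀ then c k.succ else 0) = 0 := by
      apply Finset.sum_eq_zero
      intro k _
      rw [hsucc, if_neg (hj₀ k)]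
    rw [this, add_zero]
    simp only [c]
    have e2 : g' ∘ (0 : Fin (s + 1)).succAbove = g := by
      ext k
      simp [g']
    rw [e2]
    simp
  apply hfg
  rw [← hxj, hx0]
  rfl


theorem minorIdeal_eq_bot_of_lt {R : Type u} [CommRing R] {m n : ℕ} (M : Matrix (Fin n) (Fin m) R)
    (r : ℕ) (hr : m < r) : CAlgX.minorIdeal M r = ⊥ := by
  unfold CAlgX.minorIdeal
  rw [Ideal.span_eq_bot]
  rintro _ ⟨⟨f, g⟩, rfl⟩
  obtain ⟨i, j, hne, hij⟩ := Fintype.exists_ne_map_eq_of_card_lt g (by simpa using hr)
  exact Matrix.det_zero_of_column_eq hne (by intro k; simp [hij])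

theorem main (R : Type u) [CommRing R] [Nontrivial R] (m n : ℕ) (M : Matrix (Fin n) (Fin m) R) :
    Function.Injective (Matrix.mulVecLin M) ↔
      CAlgX.matrixRank M = m ∧ (CAlgX.detIdeal M).annihilator = ⊥ := by
  constructor
  · intro hinj
    have hann : (CAlgX.minorIdeal M m).annihilator = ⊥ := by
      rw [eq_bot_iff]; intro a ha; exact mccoy M hinj a ha
    have hne : CAlgX.minorIdeal M m ≠ ⊥ := by
      intro h
      rw [h, Submodule.annihilator_bot] at hann
      exact top_ne_bot hann
    have hbdd : ∀ r, CAlgX.minorIdeal M r ≠ ⊥ → r ≤ m := by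
      intro r hr
      by_contra hlt
      push Not at hlt
      exact hr (minorIdeal_eq_bot_of_lt M r hlt)
    have hrank : CAlgX.matrixRank M = m := by
      unfold CAlgX.matrixRank
      apply le_antisymm
      · exact csSup_le ⟨m, hne⟩ hbdd
      · exact le_csSup ⟨m, hbdd⟩ hne
    refine ⟨hrank, ?_⟩
    unfold CAlgX.detIdeal
    rw [hrank, hann]
  · rintro ⟨hrank, hann⟩
    unfold CAlgX.detIdeal at hann
    rw [hrank] at hann
    rw [← LinearMap.ker_eq_bot, eq_bot_iff]
    intro x hx
    rw [LinearMap.mem_ker, Matrix.mulVecLin_apply] at hx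
    have hxj : ∀ j, x j ∈ (CAlgX.minorIdeal M m).annihilator := by
      intro j
      unfold CAlgX.minorIdeal
      rw [Submodule.mem_annihilator_span]
      rintro ⟨_, ⟨f, g⟩, rfl⟩
      simp only [smul_eq_mul]
      by_cases hg : Function.Injective g
      · have hgb : Function.Bijective g := Finite.injective_iff_bijective.mp hg
        have h1 : M.submatrix f g *ᵥ (x ∘ g) = 0 := by
          have := Matrix.submatrix_mulVec_equiv M (x ∘ g) f (Equiv.ofBijective g hgb)
          have e : (x ∘ g) ∘ (Equiv.ofBijective g hgb).symm = x := by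
            ext k
            simp [Function.comp, Equiv.ofBijective_apply_symm_apply]
          rw [e, hx] at this
          rw [show (M.submatrix f g) = M.submatrix f (Equiv.ofBijective g hgb) from rfl, this]
          rfl
        have h2 : (M.submatrix f g).det • (x ∘ g) = 0 := by
          have := congrArg (fun v => (M.submatrix f g).adjugate *ᵥ v) h1
          simp only [Matrix.mulVec_mulVec, Matrix.adjugate_mul, Matrix.mulVec_zero,
            Matrix.smul_mulVec, Matrix.one_mulVec] at this
          exact this
        obtain ⟨k, rfl⟩ := hgb.2 j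
        have := congrFun h2 k
        simp only [Pi.smul_apply, Function.comp, smul_eq_mul, Pi.zero_apply] at this
        rw [mul_comm]; exact this
      · obtain ⟨i, j', hij, hne⟩ : ∃ i j, g i = g j ∧ i ≠ j := by
          simpa [Function.Injective] using hg
        rw [Matrix.det_zero_of_column_eq hne (by intro k; simp [hij]), mul_zero]
    rw [hann] at hxj
    rw [Submodule.mem_bot]
    ext j
    exact hxj j


/-- Let R be a local ring and φ : R^m → R^n a map of finite free modules with matrix M. Then φ is
injective if and only if the rank of M is m and the annihilator of the determinantal ideal I(M)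
(generated by the minors of size the rank) is zero. -/
theorem result (R : Type u) [CommRing R] [IsLocalRing R]
    (m n : ℕ) (M : Matrix (Fin n) (Fin m) R) :
    Function.Injective (Matrix.mulVecLin M) ↔
      CAlgX.matrixRank M = m ∧ (CAlgX.detIdeal M).annihilator = ⊥ := by
  exact main R m n M

end Groth.Agent.S9277
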