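import Groth.Statements.S12907
import Mathlib
import Groth.Agent.S12906
import Groth.Agent.S12908
import Groth.Agent.S9277

set_option autoImplicit false
universe u
open CAlgX

namespace Groth.Agent.S12907

section helpers
open Matrix

variable {R : Type u} [CommRing R]

/-- Noetherian: zero annihilator ⇒ contains nzd -/
lemma exists_nzd_mem [IsNoetherianRing R] (J : Ideal R)
    (h : ∀ z : R, (∀ y ∈ J, z * y = 0) → z = 0) : ∃ x ∈ J, x ∈ nonZeroDivisors R := by
  by_contra hcon
  push Not at hcon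
  have hdisj : Disjoint (J : Set R) (nonZeroDivisors R) := by
    rw [Set.disjoint_left]
    intro x hx hx'
    exact hcon x hx hx'
  have := Ideal.bot_lt_annihilator_of_disjoint_nonZeroDivisors hdisj
  obtain ⟨z, hz, hz0⟩ := SetLike.exists_of_lt this
  apply hz0
  rw [Submodule.mem_bot]
  apply h z
  intro y hy
  have := Module.mem_annihilator.mp hz ⟨y, hy⟩
  exact congrArg Subtype.val this

lemma mccoy_nzd [IsNoetherianRing R] {m n : ℕ} (Ψ : Matrix (Fin n) (Fin m) R)
    (hinj : Function.Injective Ψ.mulVecLin) : ∃ x ∈ minorIdeal Ψ m, x ∈ nonZeroDivisors R :=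
  exists_nzd_mem (minorIdeal Ψ m) (fun z hz =>
    Groth.Agent.S9277.mccoy Ψ hinj z (Submodule.mem_annihilator.mpr
      (fun y hy => by rw [smul_eq_mul]; exact hz y hy)))

lemma minorIdeal_eq_span_rows {m n : ℕ} (Ψ : Matrix (Fin n) (Fin m) R) :
    minorIdeal Ψ m = Ideal.span (Set.range fun f : Fin m → Fin n => (Ψ.submatrix f id).det) := by
  classical
  apply le_antisymm
  · unfold minorIdeal
    rw [Ideal.span_le]
    rintro _ ⟨⟨f, g⟩, rfl⟩
    simp only
    rw [SetLike.mem_coe]
    by_cases hg : Function.Injective g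
    · have hgbij : Function.Bijective g := Finite.injective_iff_bijective.mp hg
      set τ : Equiv.Perm (Fin m) := Equiv.ofBijective g hgbij with hτ
      have h1 : Ψ.submatrix f g = (Ψ.submatrix f id).submatrix id τ := by
        ext a b; simp [hτ]
      rw [h1, Matrix.det_permute']
      apply Ideal.mul_mem_left
      exact Ideal.subset_span ⟨f, rfl⟩
    · rw [Function.Injective] at hg
      push Not at hg
      obtain ⟨a, b, hab, hne⟩ := hg
      rw [Matrix.det_zero_of_column_eq hne (by intro c; simp [hab])]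
      exact Ideal.zero_mem _
  · rw [Ideal.span_le]
    rintro _ ⟨f, rfl⟩
    exact Ideal.subset_span ⟨(f, id), rfl⟩

lemma alt_sum_mulVec {t : ℕ} (Φ : Matrix (Fin (t+1)) (Fin t) R) (w : Fin t → R) :
    ∑ k : Fin (t+1), (-1 : R)^(k:ℕ) * (Φ.submatrix k.succAbove id).det * (Φ.mulVec w) k = 0 := by
  have h1 : ∀ k : Fin (t+1), (-1 : R)^(k:ℕ) * (Φ.submatrix k.succAbove id).det * (Φ.mulVec w) k =
      ∑ j, w j * ((-1 : R)^(k:ℕ) * (Φ.submatrix k.succAbove id).det * Φ k j) := by
    intro k
    change _ * (∑ j, Φ k j * w j) = _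
    rw [Finset.mul_sum]
    refine Finset.sum_congr rfl fun j _ => ?_
    ring
  simp_rw [h1]
  rw [Finset.sum_comm]
  refine Finset.sum_eq_zero fun j _ => ?_
  rw [← Finset.mul_sum, Groth.Agent.S12906.result t Φ j, mul_zero]

lemma pi_apply {n : ℕ} (π : (Fin n → R) →ₗ[R] R) (v : Fin n → R) :
    π v = ∑ l, v l * π (Pi.single l 1) := by
  classical
  conv_lhs => rw [pi_eq_sum_univ' v]
  simp [map_sum]

lemma claimA {m n : ℕ} (Ψ : Matrix (Fin n) (Fin m) R) (π : (Fin n → R) →ₗ[R] R)
    (hex : LinearMap.ker π = LinearMap.range Ψ.mulVecLin) (hn : m + 2 ≤ n)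
    (f : Fin m → Fin n) (j : Fin n) (hj : j ∉ Set.range f) :
    π (Pi.single j 1) * (Ψ.submatrix f id).det = 0 := by
  classical
  obtain ⟨i, hi, hij⟩ : ∃ i : Fin n, i ∉ Set.range f ∧ i ≠ j := by
    by_contra hcon
    push Not at hcon
    have : Fintype.card (Fin n) ≤ Fintype.card (Option (Fin m)) := by
      apply Fintype.card_le_of_surjective (fun o : Option (Fin m) => o.elim j f)
      intro i
      by_cases hi : i ∈ Set.range f
      · obtain ⟨a, rfl⟩ := hi; exact ⟨some a, rfl⟩
      · exact ⟨none, (hcon i hi).symm⟩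
    simp at this
    omega
  set p : Fin n → R := fun l => π (Pi.single l 1) with hp
  set v : Fin n → R := p j • Pi.single i 1 - p i • Pi.single j 1 with hv
  have hvker : v ∈ LinearMap.ker π := by
    rw [LinearMap.mem_ker, hv, map_sub, map_smul, map_smul, smul_eq_mul, smul_eq_mul]
    simp only [hp]; ring
  rw [hex] at hvker
  obtain ⟨w, hw⟩ := hvker
  rw [Matrix.mulVecLin_apply] at hw
  set T : Fin (m+1) → Fin n := Fin.cons i f with hT
  set Φ : Matrix (Fin (m+1)) (Fin m) R := Ψ.submatrix T id with hΦ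
  have h1 := alt_sum_mulVec Φ w
  have h2 : ∀ k : Fin (m+1), (Φ.mulVec w) k = v (T k) := by
    intro k
    rw [← hw]
    simp [hΦ, Matrix.mulVec, dotProduct]
  rw [Fin.sum_univ_succ] at h1
  have h3 : ∀ k : Fin m, (Φ.mulVec w) k.succ = 0 := by
    intro k
    rw [h2, hT, Fin.cons_succ, hv]
    have h4 : f k ≠ i := fun h => hi ⟨k, h⟩
    have h5 : f k ≠ j := fun h => hj ⟨k, h⟩
    simp [Pi.single_apply, h4, h5]
  have h6 : (Φ.mulVec w) 0 = p j := by
    rw [h2, hT, Fin.cons_zero, hv]
    simp [Pi.single_apply, hij]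
  simp only [h3, mul_zero, Finset.sum_const_zero, add_zero, h6] at h1
  have h7 : Φ.submatrix (0 : Fin (m+1)).succAbove id = Ψ.submatrix f id := by
    ext a b
    simp [hΦ, hT]
  rw [h7] at h1
  simp only [Fin.val_zero, pow_zero, one_mul] at h1
  rw [mul_comm]; exact h1

lemma claimB {m n : ℕ} (Ψ : Matrix (Fin n) (Fin m) R) (π : (Fin n → R) →ₗ[R] R)
    (hex : LinearMap.ker π = LinearMap.range Ψ.mulVecLin) (hn : n ≠ m + 1)
    (f : Fin m → Fin n) (j : Fin n) :
    (Ψ.submatrix f id).det ^ 2 * π (Pi.single j 1) = 0 := by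
  classical
  by_cases hf : Function.Injective f
  swap
  · rw [Function.Injective] at hf; push Not at hf
    obtain ⟨a, b, hab, hne⟩ := hf
    rw [Matrix.det_zero_of_row_eq hne (by ext c; simp [hab])]
    simp
  have hmn : m ≤ n := by simpa using Fintype.card_le_of_injective f hf
  have hA : ∀ l : Fin n, l ∉ Set.range f → π (Pi.single l 1) * (Ψ.submatrix f id).det = 0 := by
    intro l hl
    have hn2 : m + 2 ≤ n := by
      have : m < n := by
        by_contra hcon
        have hmn' : n = m := by omega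
        subst hmn'
        exact hl ((Finite.injective_iff_surjective.mp hf) l)
      omega
    exact claimA Ψ π hex hn2 f l hl
  by_cases hj : j ∈ Set.range f
  swap
  · rw [pow_two, mul_assoc, mul_comm _ (π _), hA j hj, mul_zero]
  obtain ⟨b, rfl⟩ := hj
  set A : Matrix (Fin m) (Fin m) R := Ψ.submatrix f id with hAdef
  set Δ := A.det with hΔ
  set u : Fin m → R := fun c => A.adjugate c b with hu
  have hAu : A.mulVec u = Δ • Pi.single b 1 := by
    funext c
    have := congrFun (congrFun (Matrix.mul_adjugate A) c) b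
    rw [Matrix.mul_apply] at this
    simp only [Matrix.mulVec, dotProduct, hu]
    rw [this]
    simp [Matrix.smul_apply, Matrix.one_apply, Pi.single_apply, hΔ]
  have hker : π (Ψ.mulVec u) = 0 := by
    have : Ψ.mulVec u ∈ LinearMap.ker π := by rw [hex]; exact ⟨u, rfl⟩
    exact this
  rw [pi_apply π (Ψ.mulVec u)] at hker
  have h1 : ∑ l : Fin n, Δ * ((Ψ.mulVec u) l * π (Pi.single l 1)) = 0 := by
    rw [← Finset.mul_sum, hker, mul_zero]
  rw [← Finset.sum_subset (Finset.subset_univ (Finset.univ.image f))] at h1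
  · rw [Finset.sum_image (fun a _ b _ h => hf h)] at h1
    have h2 : ∀ c : Fin m, (Ψ.mulVec u) (f c) = (A.mulVec u) c := by
      intro c; simp [hAdef, Matrix.mulVec, dotProduct]
    simp_rw [h2, hAu] at h1
    simp only [Pi.smul_apply, Pi.single_apply, smul_eq_mul] at h1
    rw [Finset.sum_eq_single b] at h1
    · simpa [pow_two, mul_assoc] using h1
    · intro c _ hc; simp [hc]
    · simp
  · intro l _ hl
    have hl' : l ∉ Set.range f := by
      rintro ⟨c, hc⟩; exact hl (Finset.mem_image.mpr ⟨c, Finset.mem_univ _, hc⟩)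
    rw [mul_left_comm, mul_comm Δ, hA l hl', mul_zero]

lemma rank_eq [IsNoetherianRing R] {m n : ℕ} (Ψ : Matrix (Fin n) (Fin m) R)
    (π : (Fin n → R) →ₗ[R] R)
    (hΨ : LinearMap.ker Ψ.mulVecLin = ⊥) (hex : LinearMap.ker π = LinearMap.range Ψ.mulVecLin)
    (hI : LinearMap.range π ≠ ⊥) : n = m + 1 := by
  classical
  by_contra hn
  apply hI
  have hinj : Function.Injective Ψ.mulVecLin := LinearMap.ker_eq_bot.mp hΨ
  obtain ⟨x, hxJ, hx⟩ := mccoy_nzd Ψ hinj
  rw [minorIdeal_eq_span_rows] at hxJ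
  set K : Ideal R := Ideal.span (Set.range fun f : Fin m → Fin n => (Ψ.submatrix f id).det ^ 2)
    with hK
  have hrad : Ideal.span (Set.range fun f : Fin m → Fin n => (Ψ.submatrix f id).det) ≤
      K.radical := by
    rw [Ideal.span_le]
    rintro _ ⟨f, rfl⟩
    exact ⟨2, Ideal.subset_span ⟨f, rfl⟩⟩
  obtain ⟨N, hN⟩ := hrad hxJ
  have hKp : ∀ k ∈ K, ∀ j, k * π (Pi.single j 1) = 0 := by
    intro k hk j
    induction hk using Submodule.span_induction with
    | mem z hz => obtain ⟨f, rfl⟩ := hz; exact claimB Ψ π hex hn f j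
    | zero => simp
    | add a b _ _ h1 h2 => rw [add_mul, h1, h2, add_zero]
    | smul c a _ h1 => rw [smul_eq_mul, mul_assoc, h1, mul_zero]
  have hp0 : ∀ j, π (Pi.single j 1) = 0 := by
    intro j
    have := hKp _ hN j
    exact (mul_left_mem_nonZeroDivisors_eq_zero_iff (pow_mem hx N)).mp this
  rw [eq_bot_iff]
  rintro _ ⟨v, rfl⟩
  rw [pi_apply π v]
  simp [hp0]

lemma mulVec_map_injective {m n : ℕ} (Ψ : Matrix (Fin n) (Fin m) R) (π : (Fin n → R) →ₗ[R] R)
    (hinj : Function.Injective Ψ.mulVecLin) (hex : LinearMap.ker π = LinearMap.range Ψ.mulVecLin)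
    (x : R) (hx : x ∈ nonZeroDivisors R) :
    Function.Injective (Ψ.map (Ideal.Quotient.mk (Ideal.span {x}))).mulVecLin := by
  rw [← LinearMap.ker_eq_bot, eq_bot_iff]
  intro vbar hv
  rw [LinearMap.mem_ker, Matrix.mulVecLin_apply] at hv
  obtain ⟨v, rfl⟩ : ∃ v : Fin m → R,
      (fun c => Ideal.Quotient.mk (Ideal.span {x}) (v c)) = vbar := by
    choose v hv using fun c => Ideal.Quotient.mk_surjective (vbar c)
    exact ⟨v, funext hv⟩
  have h1 : ∀ i, (Ψ.mulVec v) i ∈ Ideal.span {x} := by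
    intro i
    have := congrFun hv i
    rw [← Ideal.Quotient.eq_zero_iff_mem]
    simp only [Matrix.mulVec, dotProduct, Matrix.map_apply, Pi.zero_apply] at this
    rw [← this]
    simp [Matrix.mulVec, dotProduct, map_sum]
  choose w hw using fun i => Ideal.mem_span_singleton'.mp (h1 i)
  have h2 : Ψ.mulVec v = x • w := by
    funext i; rw [← hw i]; simp [mul_comm]
  have h3 : π w = 0 := by
    have : π (x • w) = 0 := by
      rw [← h2]
      have : Ψ.mulVec v ∈ LinearMap.ker π := by rw [hex]; exact ⟨v, rfl⟩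
      exact this
    rw [map_smul, smul_eq_mul] at this
    exact (mul_left_mem_nonZeroDivisors_eq_zero_iff hx).mp this
  have h4 : w ∈ LinearMap.range Ψ.mulVecLin := by rw [← hex]; exact h3
  obtain ⟨u, hu⟩ := h4
  rw [Matrix.mulVecLin_apply] at hu
  have h5 : v = x • u := by
    apply hinj
    rw [Matrix.mulVecLin_apply, Matrix.mulVecLin_apply, Matrix.mulVec_smul, hu, h2]
  rw [Submodule.mem_bot]
  funext c
  rw [h5]
  simp [Ideal.Quotient.eq_zero_iff_mem, Ideal.mem_span_singleton]

lemma minorIdeal_map {S : Type u} [CommRing S] (φ : R →+* S) {m n : ℕ}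
    (Ψ : Matrix (Fin n) (Fin m) R) (r : ℕ) :
    minorIdeal (Ψ.map φ) r = Ideal.map φ (minorIdeal Ψ r) := by
  unfold minorIdeal
  rw [Ideal.map_span]
  congr 1
  ext z
  simp only [Set.mem_range, Set.mem_image]
  constructor
  · rintro ⟨fg, rfl⟩
    refine ⟨_, ⟨fg, rfl⟩, ?_⟩
    rw [RingHom.map_det]; rfl
  · rintro ⟨_, ⟨fg, rfl⟩, rfl⟩
    exact ⟨fg, by rw [RingHom.map_det]; rfl⟩

open RingTheory.Sequence in
lemma depth_ge_two [IsNoetherianRing R] {m n : ℕ} (Ψ : Matrix (Fin n) (Fin m) R)
    (π : (Fin n → R) →ₗ[R] R)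
    (hinj : Function.Injective Ψ.mulVecLin) (hex : LinearMap.ker π = LinearMap.range Ψ.mulVecLin) :
    2 ≤ LocCoh.idealDepth (minorIdeal Ψ m) R := by
  classical
  unfold LocCoh.idealDepth
  split_ifs with htop
  · exact le_top
  obtain ⟨x, hxJ, hx⟩ := mccoy_nzd Ψ hinj
  have hinj' := mulVec_map_injective Ψ π hinj hex x hx
  obtain ⟨ybar, hyJ, hy⟩ := mccoy_nzd _ hinj'
  rw [minorIdeal_map] at hyJ
  obtain ⟨y, hyJ', rfl⟩ := (Ideal.mem_map_iff_of_surjective _ Ideal.Quotient.mk_surjective).mp hyJ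
  have hreg : IsWeaklyRegular R [x, y] := by
    rw [isWeaklyRegular_cons_iff]
    refine ⟨?_, ?_⟩
    · intro a b hab
      simp only [smul_eq_mul] at hab
      have h1 : x * (a - b) = 0 := by rw [mul_sub, hab, sub_self]
      exact sub_eq_zero.mp ((mul_left_mem_nonZeroDivisors_eq_zero_iff hx).mp h1)
    · rw [isWeaklyRegular_cons_iff]
      refine ⟨?_, IsWeaklyRegular.nil _ _⟩
      intro a b hab
      obtain ⟨a, rfl⟩ := Submodule.Quotient.mk_surjective _ a
      obtain ⟨b, rfl⟩ := Submodule.Quotient.mk_surjective _ b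
      simp only at hab
      rw [← Submodule.Quotient.mk_smul, ← Submodule.Quotient.mk_smul,
        Submodule.Quotient.eq] at hab
      obtain ⟨c, -, hc⟩ := (Submodule.mem_smul_pointwise_iff_exists _ _ _).mp hab
      simp only [smul_eq_mul] at hc
      have h1 : Ideal.Quotient.mk (Ideal.span {x}) y * Ideal.Quotient.mk (Ideal.span {x}) (a - b)
          = 0 := by
        rw [← map_mul, Ideal.Quotient.eq_zero_iff_mem, Ideal.mem_span_singleton]
        exact ⟨c, by rw [hc]; ring⟩
      have h2 := (mul_left_mem_nonZeroDivisors_eq_zero_iff hy).mp h1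
      rw [Ideal.Quotient.eq_zero_iff_mem, Ideal.mem_span_singleton] at h2
      obtain ⟨d, hd⟩ := h2
      rw [Submodule.Quotient.eq, hd]
      exact Submodule.smul_mem_pointwise_smul d x ⊤ Submodule.mem_top
  refine le_trans ?_ (le_iSup₂_of_le [x, y] ⟨hreg, by
    intro r hr
    simp only [List.mem_cons, List.not_mem_nil, or_false] at hr
    rcases hr with rfl | rfl
    · exact hxJ
    · exact hyJ'⟩ le_rfl)
  simp

end helpers


/-- Let R be a Noetherian ring and I a nonzero ideal admitting a free resolution 0 → R^m → R^n → I → 0: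
an injective matrix Ψ with n rows and m columns, and a linear map π : R^n → R with image I whose
kernel is the image of Ψ. Then n = m + 1; there is a non-zero-divisor a with I = a · I_m(Ψ), where
I_m(Ψ) is the ideal generated by the m × m minors of Ψ; and the I_m(Ψ)-depth of R is at least 2.
(The published statement also asserts that this depth is exactly 2; only the lower bound is stated
here. The hypothesis that I is nonzero is implicit in the published statement.) -/
theorem result {R : Type u} [CommRing R] [IsNoetherianRing R] (m n : ℕ)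
    (Ψ : Matrix (Fin n) (Fin m) R) (π : (Fin n → R) →ₗ[R] R)
    (hΨ : LinearMap.ker Ψ.mulVecLin = ⊥) (hex : LinearMap.ker π = LinearMap.range Ψ.mulVecLin)
    (hI : LinearMap.range π ≠ ⊥) :
    n = m + 1 ∧
      (∃ a : R, a ∈ nonZeroDivisors R ∧ LinearMap.range π = Ideal.span {a} * CAlgX.minorIdeal Ψ m) ∧
      2 ≤ LocCoh.idealDepth (CAlgX.minorIdeal Ψ m) R := by
  classical
  have hn := rank_eq Ψ π hΨ hex hI
  subst hn
  have hinj : Function.Injective Ψ.mulVecLin := LinearMap.ker_eq_bot.mp hΨ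
  have hdepth := depth_ge_two Ψ π hinj hex
  refine ⟨rfl, ?_, hdepth⟩
  obtain ⟨-, hker, hrange⟩ := Groth.Agent.S12908.result m Ψ hdepth 1 (one_mem _)
  obtain ⟨x, hxJ, y, hyJ, hx, hy⟩ := Groth.Agent.S12908.exists_regular_pair hdepth
  set δ : (Fin (m + 1) → R) →ₗ[R] R := Fintype.linearCombination R
      (fun i : Fin (m + 1) => 1 * ((-1 : R) ^ (i : ℕ) * (Ψ.submatrix i.succAbove id).det)) with hδ
  have hJ : LinearMap.range δ = CAlgX.minorIdeal Ψ m := by
    rw [hrange, Ideal.span_singleton_one, Ideal.top_mul]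
  have hkk : ∀ v, δ v = 0 ↔ π v = 0 := by
    intro v
    rw [← LinearMap.mem_ker, ← LinearMap.mem_ker, hker, hex]
  obtain ⟨vx, hvx⟩ : x ∈ LinearMap.range δ := by rw [hJ]; exact hxJ
  obtain ⟨vy, hvy⟩ : y ∈ LinearMap.range δ := by rw [hJ]; exact hyJ
  have h1 : y * π vx = x * π vy := by
    have : δ (y • vx - x • vy) = 0 := by
      rw [map_sub, map_smul, map_smul, hvx, hvy, smul_eq_mul, smul_eq_mul, mul_comm, sub_self]
    have := (hkk _).mp this
    rw [map_sub, map_smul, map_smul, smul_eq_mul, smul_eq_mul] at this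
    exact sub_eq_zero.mp this
  obtain ⟨a, ha⟩ := hy _ _ h1
  have h2 : ∀ v, π v = a * δ v := by
    intro v
    have : δ (δ v • vx - x • v) = 0 := by
      rw [map_sub, map_smul, map_smul, hvx, smul_eq_mul, smul_eq_mul, mul_comm, sub_self]
    have := (hkk _).mp this
    rw [map_sub, map_smul, map_smul, smul_eq_mul, smul_eq_mul, ha] at this
    have h3 : x * (a * δ v - π v) = 0 := by linear_combination this
    have := hx (show x • (a * δ v - π v) = x • 0 by rw [smul_zero]; exact h3)
    exact (sub_eq_zero.mp this).symm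
  refine ⟨a, ?_, ?_⟩
  · rw [mem_nonZeroDivisors_iff_right]
    intro z hz
    have h3 : δ (z • vx) = 0 := by
      rw [hkk, h2, map_smul, hvx, smul_eq_mul]
      linear_combination x * hz
    rw [map_smul, hvx, smul_eq_mul] at h3
    exact hx (show x • z = x • 0 by rw [smul_zero, smul_eq_mul, mul_comm]; exact h3)
  · apply le_antisymm
    · rintro _ ⟨v, rfl⟩
      rw [h2, Ideal.mem_span_singleton_mul]
      exact ⟨δ v, by rw [← hJ]; exact ⟨v, rfl⟩, rfl⟩
    · intro z hz
      obtain ⟨d, hd, rfl⟩ := Ideal.mem_span_singleton_mul.mp hz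
      rw [← hJ] at hd
      obtain ⟨v, rfl⟩ := hd
      exact ⟨v, h2 v⟩

end Groth.Agent.S12907
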