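import Groth.Statements.S11457
import Mathlib
import Groth.Agent.Lib.Helper21.FlatKit3
import Groth.Agent.S12907

set_option autoImplicit false
universe u
open DefT

namespace Groth.Agent.S11457

open TensorProduct Function Groth.Agent.Lib.Helper21.FlatKit

section helpers

variable {C' : Type u} [CommRing C'] (J : Ideal C') {A' : Type u} [CommRing A'] [Algebra C' A']

theorem mem_smul_top_iff (a : A') :
    a ∈ J • (⊤ : Submodule C' A') ↔ a ∈ J.map (algebraMap C' A') := by
  rw [Ideal.smul_top_eq_map]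
  rfl

theorem pi_mem_smul_top_iff {n : ℕ} (v : Fin n → A') :
    v ∈ J • (⊤ : Submodule C' (Fin n → A')) ↔ ∀ i, v i ∈ J.map (algebraMap C' A') := by
  constructor
  · intro hv i
    induction hv using Submodule.smul_induction_on' with
    | smul j hj w _ =>
      rw [Pi.smul_apply, Algebra.smul_def]
      exact Ideal.mul_mem_right _ _ (Ideal.mem_map_of_mem _ hj)
    | add x _ y _ hx hy => rw [Pi.add_apply]; exact add_mem hx hy
  · intro hv
    have : v = ∑ i, Pi.single i (v i) := by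
      ext j
      simp [Finset.sum_apply, Pi.single_apply]
    rw [this]
    refine Submodule.sum_mem _ fun i _ => ?_
    have hi : v i ∈ J • (⊤ : Submodule C' A') := (mem_smul_top_iff J _).2 (hv i)
    have hmap : Submodule.map (LinearMap.single C' (fun _ : Fin n => A') i)
        (J • (⊤ : Submodule C' A')) ≤ J • (⊤ : Submodule C' (Fin n → A')) := by
      rw [Submodule.map_smul'']
      exact Submodule.smul_mono le_rfl le_top
    exact hmap ⟨v i, hi, rfl⟩

end helpers


section helpers2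

variable {C' : Type u} [CommRing C'] (J : Ideal C') {A' : Type u} [CommRing A'] [Algebra C' A']

/-- transport of flatness of the reduction -/
theorem flat_reduction (𝔣 : Ideal A')
    (h : Module.Flat (C' ⧸ J) ((A' ⧸ J.map (algebraMap C' A')) ⧸
      𝔣.map (Ideal.Quotient.mk (J.map (algebraMap C' A'))))) :
    Module.Flat (C' ⧸ J) ((C' ⧸ J) ⊗[C'] (A' ⧸ 𝔣)) := by
  set 𝔍 : Ideal A' := J.map (algebraMap C' A') with h𝔍
  let e₁ : ((A' ⧸ 𝔣) ⧸ J.map (algebraMap C' (A' ⧸ 𝔣))) ≃ₐ[C' ⧸ J] (C' ⧸ J) ⊗[C'] (A' ⧸ 𝔣) :=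
    Algebra.TensorProduct.quotIdealMapEquivQuotTensor (A' ⧸ 𝔣) J
  have hid : J.map (algebraMap C' (A' ⧸ 𝔣)) = 𝔍.map (Ideal.Quotient.mkₐ C' 𝔣) := by
    rw [h𝔍]
    show _ = Ideal.map (Ideal.Quotient.mk 𝔣) (Ideal.map (algebraMap C' A') J)
    rw [Ideal.map_map]
    rfl
  let e₂ : ((A' ⧸ 𝔣) ⧸ J.map (algebraMap C' (A' ⧸ 𝔣))) ≃ₐ[C']
      ((A' ⧸ 𝔣) ⧸ 𝔍.map (Ideal.Quotient.mkₐ C' 𝔣)) := Ideal.quotientEquivAlgOfEq C' hid
  let e₃ : ((A' ⧸ 𝔣) ⧸ 𝔍.map (Ideal.Quotient.mkₐ C' 𝔣)) ≃ₐ[C']
      ((A' ⧸ 𝔍) ⧸ 𝔣.map (Ideal.Quotient.mkₐ C' 𝔍)) := DoubleQuot.quotQuotEquivCommₐ C' 𝔣 𝔍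
  let e : ((A' ⧸ 𝔍) ⧸ 𝔣.map (Ideal.Quotient.mk 𝔍)) ≃ₗ[C'] (C' ⧸ J) ⊗[C'] (A' ⧸ 𝔣) :=
    (e₃.symm.toLinearEquiv.trans e₂.symm.toLinearEquiv).trans
      (e₁.toLinearEquiv.restrictScalars C')
  exact Module.Flat.of_linearEquiv
    (e.symm.extendScalarsOfSurjective (S := C' ⧸ J) Ideal.Quotient.mk_surjective)

end helpers2



/-- Let C' be a local Artin ring, J ⊊ C' a proper ideal annihilated by the maximal ideal, C = C'/J, A' a
flat C'-algebra of finite type with smooth special fibre, and A = A'/JA'. Let φ be an (r+1) × r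
matrix over A such that 0 → A^r → A^{r+1} → A is exact, the second map sending v to Σ_i v_i f_i with
f_i = (−1)^i det(φ with row i removed), and such that A/(f_0, …, f_r) is flat over C. Then every
matrix φ' over A' lifting φ has the same property over A': multiplication by φ' is injective, its
image is the kernel of the map given by the signed maximal minors f'_i of φ', and A'/(f'_0, …, f'_r)
is flat over C' (its reduction to A is A/(f_0, …, f_r) since minors commute with reduction). -/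
theorem result (C' : Type u) [CommRing C'] [IsLocalRing C'] [IsArtinianRing C'] (J : Ideal C')
    (hJ : IsLocalRing.maximalIdeal C' * J = ⊥) (hJne : J ≠ ⊤) (A' : Type u) [CommRing A'] [Algebra C' A'] [Module.Flat C' A']
    [Algebra.FiniteType C' A']
    [Algebra.Smooth (C' ⧸ IsLocalRing.maximalIdeal C') (A' ⧸ (IsLocalRing.maximalIdeal C').map (algebraMap C' A'))]
    (r : ℕ) (φ' : Matrix (Fin (r + 1)) (Fin r) A')
    (hφ : (Function.Injective (φ'.map (Ideal.Quotient.mk (J.map (algebraMap C' A')))).mulVecLin ∧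
        LinearMap.range (φ'.map (Ideal.Quotient.mk (J.map (algebraMap C' A')))).mulVecLin = LinearMap.ker (Fintype.linearCombination (A' ⧸ J.map (algebraMap C' A')) (fun i : Fin (r + 1) => (-1 : (A' ⧸ J.map (algebraMap C' A'))) ^ (i : ℕ) * ((φ'.map (Ideal.Quotient.mk (J.map (algebraMap C' A')))).submatrix i.succAbove id).det))))
    [Module.Flat (C' ⧸ J) ((A' ⧸ J.map (algebraMap C' A')) ⧸ Ideal.span (Set.range (fun i : Fin (r + 1) => (-1 : (A' ⧸ J.map (algebraMap C' A'))) ^ (i : ℕ) * ((φ'.map (Ideal.Quotient.mk (J.map (algebraMap C' A')))).submatrix i.succAbove id).det)))] :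
    Function.Injective φ'.mulVecLin ∧
      LinearMap.range φ'.mulVecLin = LinearMap.ker (Fintype.linearCombination A' (fun i : Fin (r + 1) => (-1 : A') ^ (i : ℕ) * ((φ').submatrix i.succAbove id).det)) ∧
      Module.Flat C' (A' ⧸ Ideal.span (Set.range (fun i : Fin (r + 1) => (-1 : A') ^ (i : ℕ) * ((φ').submatrix i.succAbove id).det))) := by
  classical
  set 𝔍 : Ideal A' := J.map (algebraMap C' A') with h𝔍
  set π : A' →+* A' ⧸ 𝔍 := Ideal.Quotient.mk 𝔍 with hπ
  set f' : Fin (r + 1) → A' := fun i => (-1 : A') ^ (i : ℕ) * ((φ').submatrix i.succAbove id).det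
    with hf'
  set fb : Fin (r + 1) → A' ⧸ 𝔍 :=
    fun i => (-1 : A' ⧸ 𝔍) ^ (i : ℕ) * ((φ'.map π).submatrix i.succAbove id).det with hfb
  obtain ⟨hφinj, hφex⟩ := hφ
  have hπf : ∀ i, π (f' i) = fb i := by
    intro i
    simp only [hf', hfb, map_mul, map_pow, map_neg, map_one]
    congr 1
    rw [RingHom.map_det]
    rfl
  -- nilpotency
  have hJm : J ≤ IsLocalRing.maximalIdeal C' := IsLocalRing.le_maximalIdeal hJne
  have hJnil : IsNilpotent J := by
    refine ⟨2, ?_⟩
    rw [pow_two, Ideal.zero_eq_bot, ← le_bot_iff, ← hJ]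
    exact Ideal.mul_mono_left hJm
  -- modules
  have hP : Module.Flat C' (Fin r → A') := Module.Flat.trans C' A' _
  have hQ : Module.Flat C' (Fin (r + 1) → A') := Module.Flat.trans C' A' _
  let fL : (Fin r → A') →ₗ[C'] (Fin (r + 1) → A') := φ'.mulVecLin.restrictScalars C'
  let gL : (Fin (r + 1) → A') →ₗ[C'] A' := (Fintype.linearCombination A' f').restrictScalars C'
  set 𝔣 : Ideal A' := Ideal.span (Set.range f') with h𝔣
  let hL : A' →ₗ[C'] (A' ⧸ 𝔣) := (Ideal.Quotient.mkₐ C' 𝔣).toLinearMap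
  have hfg : gL ∘ₗ fL = 0 := by
    apply LinearMap.ext
    intro p
    show Fintype.linearCombination A' f' (φ'.mulVec p) = 0
    rw [Fintype.linearCombination_apply]
    have := Groth.Agent.S12907.alt_sum_mulVec φ' p
    rw [← this]
    refine Finset.sum_congr rfl fun i _ => ?_
    simp only [hf', smul_eq_mul]
    ring
  have hgh : Exact gL hL := by
    intro a
    show Ideal.Quotient.mk 𝔣 a = 0 ↔ a ∈ Set.range (Fintype.linearCombination A' f')
    rw [Ideal.Quotient.eq_zero_iff_mem, h𝔣]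
    have := SetLike.ext_iff.1 (Fintype.range_linearCombination A' f') a
    rw [LinearMap.mem_range] at this
    exact this.symm
  have hh : Surjective hL := Ideal.Quotient.mk_surjective
  -- reduction
  have hmap𝔣 : 𝔣.map (Ideal.Quotient.mk 𝔍) = Ideal.span (Set.range fb) := by
    rw [h𝔣, Ideal.map_span, ← Set.range_comp]
    congr 2
    ext i
    exact hπf i
  have hflatred : Module.Flat (C' ⧸ J) ((C' ⧸ J) ⊗[C'] (A' ⧸ 𝔣)) := by
    apply flat_reduction J 𝔣
    rw [hmap𝔣]
    infer_instance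
  have hπmul : ∀ (p : Fin r → A'), (fun i => π (φ'.mulVec p i)) = (φ'.map π).mulVec (π ∘ p) := by
    intro p
    ext i
    exact RingHom.map_mulVec π φ' p i
  have hinj : Injective (fL.lTensor (C' ⧸ J)) := by
    apply injective_lTensor_quotient_of
    intro p hp
    rw [pi_mem_smul_top_iff] at hp ⊢
    have h0 : (φ'.map π).mulVec (π ∘ p) = 0 := by
      rw [← hπmul]
      ext i
      exact Ideal.Quotient.eq_zero_iff_mem.2 (hp i)
    have h1 : π ∘ p = 0 := hφinj (by rw [Matrix.mulVecLin_apply, h0, map_zero])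
    intro i
    exact Ideal.Quotient.eq_zero_iff_mem.1 (congrFun h1 i)
  have hred : Exact (fL.lTensor (C' ⧸ J)) (gL.lTensor (C' ⧸ J)) := by
    apply exact_lTensor_quotient_of J fL gL hfg
    intro q hq
    rw [mem_smul_top_iff] at hq
    have h0 : Fintype.linearCombination (A' ⧸ 𝔍) fb (π ∘ q) = 0 := by
      have : π (Fintype.linearCombination A' f' q) = 0 := Ideal.Quotient.eq_zero_iff_mem.2 hq
      rw [Fintype.linearCombination_apply, map_sum] at this
      rw [Fintype.linearCombination_apply, ← this]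
      refine Finset.sum_congr rfl fun i _ => ?_
      rw [smul_eq_mul, smul_eq_mul, map_mul, hπf]
      rfl
    have h1 : (π ∘ q) ∈ LinearMap.range (φ'.map π).mulVecLin := by
      rw [hφex]; exact h0
    obtain ⟨wb, hwb⟩ := h1
    have hsurj : ∀ i, ∃ a, π a = wb i := fun i => Ideal.Quotient.mk_surjective (wb i)
    choose w hw using hsurj
    refine ⟨w, ?_⟩
    rw [pi_mem_smul_top_iff]
    intro i
    apply Ideal.Quotient.eq_zero_iff_mem.1
    show π ((q - φ'.mulVec w) i) = 0
    rw [Pi.sub_apply, map_sub]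
    have h2 : π (φ'.mulVec w i) = (φ'.map π).mulVec (π ∘ w) i := congrFun (hπmul w) i
    rw [h2]
    have h3 : π ∘ w = wb := funext hw
    rw [h3]
    have h4 := congrFun hwb i
    rw [Matrix.mulVecLin_apply] at h4
    rw [h4]
    exact sub_self _
  obtain ⟨hflat, hex, hinjf⟩ :=
    flat_and_exact_of_complex' hJnil fL gL hL hfg hgh hh hinj hred
  refine ⟨hinjf, ?_, hflat⟩
  have := LinearMap.exact_iff.1 hex
  ext v
  have h5 := SetLike.ext_iff.1 this v
  exact h5.symm

end Groth.Agent.S11457
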