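import Groth.Statements.S13134
import Mathlib
import Groth.Agent.Lib.Helper21.FlatKit5

set_option autoImplicit false
universe u v
open CAlg

namespace Groth.Agent.S13134

section helpers
open Groth.Agent.Lib.Helper21.FlatKit TensorProduct Function

variable {A' : Type u} [CommRing A'] [IsArtinianRing A'] [IsLocalRing A'] (I : Ideal A')

theorem isNilpotent_of_ne_top (hI : I ≠ ⊤) : IsNilpotent I := by
  obtain ⟨n, hn⟩ := isNilpotent_maximalIdeal (A := A')
  refine ⟨n, ?_⟩
  rw [Ideal.zero_eq_bot, ← le_bot_iff, ← Ideal.zero_eq_bot, ← hn]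
  exact Ideal.pow_right_mono (IsLocalRing.le_maximalIdeal hI) n

omit [IsArtinianRing A'] [IsLocalRing A'] in
theorem le_of_le_sup_smul_of_isNilpotent {M : Type*} [AddCommGroup M] [Module A' M]
    (hI : IsNilpotent I) (N K : Submodule A' M) (h : K ≤ N ⊔ I • K) : K ≤ N := by
  obtain ⟨n, hn⟩ := hI
  have key : ∀ k : ℕ, K ≤ N ⊔ I ^ k • K := by
    intro k
    induction k with
    | zero => simp
    | succ k ih =>
      calc K ≤ N ⊔ I • K := h
        _ ≤ N ⊔ I • (N ⊔ I ^ k • K) := sup_le_sup_left (Submodule.smul_mono le_rfl ih) _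
        _ = N ⊔ (I • N ⊔ I • (I ^ k • K)) := by rw [Submodule.smul_sup]
        _ ≤ N ⊔ I ^ (k + 1) • K := by
          refine sup_le le_sup_left (sup_le (Submodule.smul_le_right.trans le_sup_left) ?_)
          rw [← Submodule.mul_smul, ← pow_succ']
          exact le_sup_right
  have := key n
  rwa [hn, Ideal.zero_eq_bot, Submodule.bot_smul, sup_bot_eq] at this

omit [IsArtinianRing A'] [IsLocalRing A'] in
/-- if `P/K` is flat then `K ∩ I P = I K`. -/
theorem mem_smul_of_flat_quotient {P : Type*} [AddCommGroup P] [Module A' P]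
    {Q : Type*} [AddCommGroup Q] [Module A' Q] [Module.Flat A' Q]
    (g : P →ₗ[A'] Q) (hg : Surjective g) (q : P) (hq : g q = 0)
    (hqI : q ∈ I • (⊤ : Submodule A' P)) :
    q ∈ I • (LinearMap.ker g) := by
  set K := LinearMap.ker g with hK
  have hinj : Injective (K.subtype.lTensor (A' ⧸ I)) :=
    LinearMap.lTensor_injective_of_exact_of_flat g hg K.subtype K.injective_subtype
      (LinearMap.exact_subtype_ker_map g) (A' ⧸ I)
  have h1 : (1 : A' ⧸ I) ⊗ₜ[A'] (⟨q, hq⟩ : K) = 0 := by
    apply hinj
    rw [LinearMap.lTensor_tmul, map_zero]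
    exact (one_tmul_eq_zero_iff I q).2 hqI
  have h2 : (⟨q, hq⟩ : K) ∈ I • (⊤ : Submodule A' K) := (one_tmul_eq_zero_iff I _).1 h1
  have h3 : Submodule.map K.subtype (I • (⊤ : Submodule A' K)) = I • K := by
    rw [Submodule.map_smul'', Submodule.map_top, Submodule.range_subtype]
  rw [← h3]
  exact ⟨⟨q, hq⟩, h2, rfl⟩

end helpers



/-- Let A' be an Artinian local ring, I a proper ideal, A = A'/I and f_1, …, f_m ∈ A[x_1, …, x_n]. Every
flat A'-algebra B' equipped with a surjection π onto A[x]/(f_1, …, f_m) with kernel I·B', compatible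
with A' → A, is a quotient of A'[x_1, …, x_n] by the ideal generated by some lifts f'_1, …, f'_m of
the f_i, compatibly with π and with reduction of polynomials modulo I. (The published statement is
for a surjection of local Artinian algebras with a fixed residue field over a ring of Witt vectors;
only the Artinian local base and the proper ideal are used, which is the form taken here.) -/
theorem result
    {A' : Type u} [CommRing A'] [IsArtinianRing A'] [IsLocalRing A'] (I : Ideal A') (hI : I ≠ ⊤)
    {n m : ℕ} (f : Fin m → MvPolynomial (Fin n) (A' ⧸ I))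
    {B' : Type v} [CommRing B'] [Algebra A' B'] [Module.Flat A' B']
    (π : B' →+* MvPolynomial (Fin n) (A' ⧸ I) ⧸ Ideal.span (Set.range f))
    (hπ : Function.Surjective π) (hker : RingHom.ker π = I.map (algebraMap A' B'))
    (hcomp : π.comp (algebraMap A' B') =
      ((Ideal.Quotient.mk (Ideal.span (Set.range f))).comp MvPolynomial.C).comp (Ideal.Quotient.mk I)) :
    ∃ (f' : Fin m → MvPolynomial (Fin n) A') (ψ : MvPolynomial (Fin n) A' →ₐ[A'] B'),
      (∀ i, MvPolynomial.map (Ideal.Quotient.mk I) (f' i) = f i) ∧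
      Function.Surjective ψ ∧ RingHom.ker ψ.toRingHom = Ideal.span (Set.range f') ∧
      ∀ q, π (ψ q) = Ideal.Quotient.mk (Ideal.span (Set.range f)) (MvPolynomial.map (Ideal.Quotient.mk I) q) := by
  classical
  have hInil := isNilpotent_of_ne_top I hI
  set ρ : MvPolynomial (Fin n) A' →+* MvPolynomial (Fin n) (A' ⧸ I) :=
    MvPolynomial.map (Ideal.Quotient.mk I) with hρ
  have hρsurj : Function.Surjective ρ := MvPolynomial.map_surjective _ Ideal.Quotient.mk_surjective
  -- step 1
  have hb : ∀ j : Fin n, ∃ b : B', π b = Ideal.Quotient.mk (Ideal.span (Set.range f)) (MvPolynomial.X j) := fun j => hπ _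
  choose b hb using hb
  let ψ : MvPolynomial (Fin n) A' →ₐ[A'] B' := MvPolynomial.aeval b
  -- step 2
  have hπψ : ∀ q, π (ψ q) = Ideal.Quotient.mk (Ideal.span (Set.range f)) (ρ q) := by
    intro q
    have : (π.comp ψ.toRingHom) = (Ideal.Quotient.mk (Ideal.span (Set.range f))).comp ρ := by
      apply MvPolynomial.ringHom_ext
      · intro a
        have h1 := RingHom.congr_fun hcomp a
        simp only [RingHom.comp_apply] at h1
        simp only [RingHom.comp_apply, AlgHom.toRingHom_eq_coe, RingHom.coe_coe, ψ,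
          MvPolynomial.aeval_C, hρ, MvPolynomial.map_C]
        exact h1
      · intro j
        simp only [RingHom.comp_apply, AlgHom.toRingHom_eq_coe, RingHom.coe_coe, ψ,
          MvPolynomial.aeval_X, hρ, MvPolynomial.map_X]
        exact hb j
    exact RingHom.congr_fun this q
  -- kernel of ρ
  have hkerρ : ∀ t : MvPolynomial (Fin n) A', ρ t = 0 ↔
      t ∈ I • (⊤ : Submodule A' (MvPolynomial (Fin n) A')) := by
    intro t
    rw [Ideal.smul_top_eq_map, Submodule.restrictScalars_mem, MvPolynomial.algebraMap_eq,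
      ← RingHom.mem_ker, hρ, MvPolynomial.ker_map, Ideal.mk_ker]
  -- kernel of π
  have hkerπ : ∀ y : B', π y = 0 ↔ y ∈ I • (⊤ : Submodule A' B') := by
    intro y
    rw [Ideal.smul_top_eq_map, Submodule.restrictScalars_mem, ← hker, RingHom.mem_ker]
  -- step 3
  have hψsurj : Function.Surjective ψ := by
    have : LinearMap.range ψ.toLinearMap = ⊤ := by
      apply Groth.Agent.Lib.Helper21.FlatKit.eq_top_of_sup_smul_of_isNilpotent I hInil
      rw [eq_top_iff]
      rintro y -
      obtain ⟨pb, hpb⟩ := Ideal.Quotient.mk_surjective (π y)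
      obtain ⟨p, rfl⟩ := hρsurj pb
      have h0 : π (y - ψ p) = 0 := by rw [map_sub, hπψ, hpb, sub_self]
      have : y = ψ p + (y - ψ p) := by ring
      rw [this]
      exact Submodule.add_mem_sup ⟨p, rfl⟩ ((hkerπ _).1 h0)
    intro y
    have hy : y ∈ LinearMap.range ψ.toLinearMap := by rw [this]; trivial
    exact hy
  -- step 4
  have hlift : ∀ i : Fin m, ∃ f'i : MvPolynomial (Fin n) A', ψ f'i = 0 ∧ ρ f'i = f i := by
    intro i
    obtain ⟨g, hg⟩ := hρsurj (f i)
    have h0 : π (ψ g) = 0 := by
      rw [hπψ, hg, Ideal.Quotient.eq_zero_iff_mem]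
      exact Ideal.subset_span ⟨i, rfl⟩
    have h1 : ψ g ∈ I • (⊤ : Submodule A' B') := (hkerπ _).1 h0
    have h2 : Submodule.map ψ.toLinearMap (I • (⊤ : Submodule A' (MvPolynomial (Fin n) A'))) =
        I • (⊤ : Submodule A' B') := by
      rw [Submodule.map_smul'', Submodule.map_top, LinearMap.range_eq_top.2 hψsurj]
    rw [← h2] at h1
    obtain ⟨t, ht, htg⟩ := h1
    refine ⟨g - t, ?_, ?_⟩
    · rw [map_sub]
      have : ψ t = ψ g := htg
      rw [this, sub_self]
    · rw [map_sub, hg, (hkerρ t).2 ht, sub_zero]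
  choose f' hf'ψ hf'ρ using hlift
  refine ⟨f', ψ, hf'ρ, hψsurj, ?_, hπψ⟩
  -- step 5
  apply le_antisymm
  · intro q hq
    have hq0 : ψ q = 0 := hq
    let K : Submodule A' (MvPolynomial (Fin n) A') := LinearMap.ker ψ.toLinearMap
    let N : Submodule A' (MvPolynomial (Fin n) A') :=
      (Ideal.span (Set.range f')).restrictScalars A'
    have hKN : K ≤ N := by
      apply le_of_le_sup_smul_of_isNilpotent I hInil
      intro q hq
      have hq0 : ψ q = 0 := hq
      have h1 : ρ q ∈ (Ideal.span (Set.range f)) := by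
        rw [← Ideal.Quotient.eq_zero_iff_mem, ← hπψ, hq0, map_zero]
      rw [Ideal.mem_span_range_iff_exists_fun] at h1
      obtain ⟨cb, hcb⟩ := h1
      have hc : ∀ i, ∃ c, ρ c = cb i := fun i => hρsurj (cb i)
      choose c hc using hc
      set q' := q - ∑ i, c i * f' i with hq'
      have hq'0 : ψ q' = 0 := by
        rw [hq', map_sub, hq0, map_sum, zero_sub, neg_eq_zero]
        refine Finset.sum_eq_zero fun i _ => ?_
        rw [map_mul, hf'ψ, mul_zero]
      have hq'ρ : ρ q' = 0 := by
        rw [hq', map_sub, map_sum, ← hcb, sub_eq_zero]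
        refine Finset.sum_congr rfl fun i _ => ?_
        rw [map_mul, hc, hf'ρ]
      have h3 : q' ∈ I • K :=
        mem_smul_of_flat_quotient I ψ.toLinearMap hψsurj q' hq'0 ((hkerρ q').1 hq'ρ)
      have : q = (∑ i, c i * f' i) + q' := by rw [hq']; ring
      rw [this]
      refine Submodule.add_mem_sup ?_ h3
      show (∑ i, c i * f' i) ∈ Ideal.span (Set.range f')
      exact Ideal.sum_mem _ fun i _ => Ideal.mul_mem_left _ _ (Ideal.subset_span ⟨i, rfl⟩)
    exact hKN hq0
  · rw [Ideal.span_le]
    rintro _ ⟨i, rfl⟩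
    exact hf'ψ i

end Groth.Agent.S13134
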