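import Groth.Statements.S19471
import Mathlib
import Groth.Agent.Lib.Helper21.TorShift
import Groth.Agent.Lib.Helper21.TorLES
import Groth.Agent.Lib.Helper21.PolyPD
import Groth.Agent.Lib.Helper21.GrSyzRes
import Groth.Agent.Lib.Helper21.GrSyzIrrel
import Groth.Agent.Lib.Helper21.GrSyzMin

set_option autoImplicit false
set_option backward.isDefEq.respectTransparency false
set_option backward.defeqAttrib.useBackward true
universe u
open GrSyz

namespace Groth.Agent.S19471

section helpers
open CategoryTheory CategoryTheory.Limits Groth.Agent.Lib.Helper21.TorShift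
  Groth.Agent.Lib.Helper21.TorLES MonoidalCategory

universe v w

theorem isZero_leftDerived_of_pd {C : Type w} [Category.{v} C] [Abelian C] [EnoughProjectives C]
    {D : Type*} [Category D] [Abelian D]
    (G : C ⥤ D) [G.Additive] (q : ℕ) :
    ∀ (N : C) [HasProjectiveDimensionLE N q] (i : ℕ), q < i →
      IsZero ((G.leftDerived i).obj N) := by
  induction q with
  | zero =>
    intro N hN i hi
    have : Projective N := (projective_iff_hasProjectiveDimensionLE_zero N).2 hN
    obtain ⟨n, rfl⟩ : ∃ n, i = n + 1 := ⟨i - 1, by omega⟩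
    exact G.isZero_leftDerived_obj_projective_succ _ _
  | succ q ih =>
    intro N hN i hi
    obtain ⟨n, rfl⟩ : ∃ n, i = n + 2 := ⟨i - 2, by omega⟩
    let P := Projective.over N
    let π : P ⟶ N := Projective.π N
    let S : ShortComplex C := ShortComplex.mk (kernel.ι π) π (kernel.condition π)
    have hS : S.ShortExact :=
      { exact := ShortComplex.exact_of_f_is_kernel _ (kernelIsKernel π)
        mono_f := by dsimp [S]; infer_instance
        epi_g := by dsimp [S]; infer_instance }
    have hK : HasProjectiveDimensionLT (kernel π) (q + 1) := by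
      have h2 : HasProjectiveDimensionLT S.X₂ (q + 1) := by
        dsimp [S]; infer_instance
      have h3 : HasProjectiveDimensionLT S.X₃ (q + 1 + 1) := hN
      exact hS.hasProjectiveDimensionLT_X₁ (q + 1) h2 h3
    have hK' : HasProjectiveDimensionLE (kernel π) q := hK
    have e := leftDerivedShiftIso G (ProjectiveResolution.of (kernel π)) (kernel.ι π) π
      (kernel.condition π) hS n
    rw [e.isZero_iff]
    exact ih (kernel π) (n + 1) (by omega)

theorem isZero_tor_of_pd_left (R : Type u) [CommRing R] (K M : ModuleCat.{u} R) (q : ℕ)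
    [HasProjectiveDimensionLE K q] (i : ℕ) (hi : q < i) :
    IsZero (((Tor (ModuleCat.{u} R) i).obj K).obj M) := by
  obtain ⟨e⟩ := balance i K M
  rw [e.isZero_iff]
  exact isZero_leftDerived_of_pd (tensorRight M) q K i hi

end helpers


/-- Let k be an algebraically closed field, S = k[x_0, …, x_n] with its standard grading, and M a
finitely generated ℤ-graded S-module. Then M has a graded free resolution of length at most n + 1:
an exact sequence 0 → F_{n+1} → … → F_1 → F_0 → M → 0 in which every F_i is a finite direct sum of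
twists S(−j) (a finite-rank free module with a homogeneous basis) and all maps respect the grading. -/
theorem result (k : Type u) [Field k] [IsAlgClosed k] (n : ℕ)
    (M : Type u) [AddCommGroup M] [Module k M] [Module (MvPolynomial (Fin (n + 1)) k) M]
    [IsScalarTower k (MvPolynomial (Fin (n + 1)) k) M] [Module.Finite (MvPolynomial (Fin (n + 1)) k) M]
    (ℳ : ℤ → Submodule k M) [DirectSum.Decomposition ℳ]
    [SetLike.GradedSMul (GrSyz.stdGr k (Fin (n + 1))) ℳ] :
    ∃ F : GrSyz.FreeRes (GrSyz.stdGr k (Fin (n + 1))) ℳ, F.HasLengthLE (n + 1) := by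
  obtain ⟨F, hF⟩ := Groth.Agent.Lib.Helper21.GrSyzMin.exists_minimal_freeRes
    (irrel (stdGr k (Fin (n + 1)))).toIdeal
    (Groth.Agent.Lib.Helper21.GrSyzMin.isUnit_decompose_zero k (Fin (n + 1))) ℳ
  refine ⟨F, ?_⟩
  intro i hi
  have hpd : CategoryTheory.HasProjectiveDimensionLE
      (ModuleCat.of (MvPolynomial (Fin (n + 1)) k)
        (MvPolynomial (Fin (n + 1)) k ⧸ (irrel (stdGr k (Fin (n + 1)))).toIdeal)) (n + 1) := by
    have h := Groth.Agent.Lib.Helper21.PolyPD.pd_quot k (n + 1) (n + 1) le_rfl
    rw [Groth.Agent.Lib.Helper21.PolyPD.I_top_eq_ker,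
      ← Groth.Agent.Lib.Helper21.GrSyzIrrel.irrel_eq_ker] at h
    exact h
  have hz := isZero_tor_of_pd_left (MvPolynomial (Fin (n + 1)) k)
    (ModuleCat.of _ (MvPolynomial (Fin (n + 1)) k ⧸ (irrel (stdGr k (Fin (n + 1)))).toIdeal))
    (ModuleCat.of _ M) (n + 1) i hi
  have hl := Groth.Agent.Lib.Helper21.GrSyzRes.length_tor F _ hF i
  rw [ModuleCat.isZero_iff_subsingleton] at hz
  rw [Module.length_eq_zero] at hl
  exact_mod_cast hl.symm

end Groth.Agent.S19471
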