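import Groth.Statements.S18702
import Mathlib
import Groth.Agent.Lib.Helper21.DepthKit9
import Groth.Agent.S6880

set_option autoImplicit false
universe u
open QGor

namespace Groth.Agent.S18702

open RingTheory.Sequence IsLocalRing Module Pointwise
open Groth.Agent.Lib.Helper21.DepthKit

section
variable {A : Type u} [CommRing A] [IsNoetherianRing A] (I : Ideal A)

/-- ideal depth of `Hom(M,N)` is at least `min (2, depth_I N)`. -/
theorem le_idealDepth_hom {M N : Type u} [AddCommGroup M] [Module A M] [Module.Finite A M]
    [AddCommGroup N] [Module A N] [Module.Finite A N] (j : ℕ) (hj : j ≤ 2)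
    (h : (j : ℕ∞) ≤ LocCoh.idealDepth I N) : (j : ℕ∞) ≤ LocCoh.idealDepth I (M →ₗ[A] N) := by
  haveI : Module.Finite A (M →ₗ[A] N) := Groth.Agent.S6876.finite_hom
  rw [idealDepth_eq_iInf_depth_localization]
  refine le_iInf₂ fun p hp => ?_
  have h1 := h.trans (idealDepth_le_depth_localization I p.asIdeal hp)
  have hj2 : j = 0 ∨ j = 1 ∨ j = 2 := by omega
  rcases hj2 with rfl | rfl | rfl
  · simp
  · have := one_le_depth_localization_hom (M := M) (N := N) p.asIdeal (by simpa using h1)
    simpa using this
  · have := two_le_depth_localization_hom (M := M) (N := N) p.asIdeal (by simpa using h1)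
    simpa using this

theorem le_idealDepth_of_reflexive {G : Type u} [AddCommGroup G] [Module A G] [Module.Finite A G]
    [Module.IsReflexive A G] (j : ℕ) (hj : j ≤ 2)
    (h : (j : ℕ∞) ≤ LocCoh.idealDepth I A) : (j : ℕ∞) ≤ LocCoh.idealDepth I G := by
  haveI : Module.Finite A (Module.Dual A G) := Groth.Agent.S6876.finite_hom
  let e : G ≃ₗ[A] (Module.Dual A G →ₗ[A] A) := Module.evalEquiv A G
  rw [idealDepth_congr I e]
  exact le_idealDepth_hom I j hj h

theorem hasSk_of_reflexive {G : Type u} [AddCommGroup G] [Module A G] [Module.Finite A G]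
    [Module.IsReflexive A G] (k : ℕ) (hk : k ≤ 2) (h : LocCoh.HasSk k A A) : LocCoh.HasSk k A G := by
  intro p _
  refine sk_transfer ?_ ?_ (h p)
  · rw [supportDim_eq_of_equiv (Groth.Agent.S6880.locSelfEquiv p), supportDim_self_eq_ringKrullDim]
    exact supportDim_le_ringKrullDim _ _
  · intro j hj hjN
    rw [depth_congr (Groth.Agent.S6880.locSelfEquiv p)] at hjN
    exact Groth.Agent.S6880.le_depth_localization_of_reflexive (M := G) p j (hj.trans hk) hjN

end


/-- Affine form, for an arbitrary Noetherian ring A (not assumed to be a domain). Let I be an ideal and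
G a finite reflexive A-module (the evaluation map into the double dual is bijective). For k = 1 and
k = 2: if depth_I A ≥ k then depth_I G ≥ k; and if A satisfies (S_k) then G satisfies (S_k). -/
theorem result (A : Type u) [CommRing A] [IsNoetherianRing A] (I : Ideal A)
    (G : Type u) [AddCommGroup G] [Module A G] [Module.Finite A G] [Module.IsReflexive A G] :
    (1 ≤ LocCoh.idealDepth I A → 1 ≤ LocCoh.idealDepth I G) ∧
    (2 ≤ LocCoh.idealDepth I A → 2 ≤ LocCoh.idealDepth I G) ∧
    (LocCoh.HasSk 1 A A → LocCoh.HasSk 1 A G) ∧ (LocCoh.HasSk 2 A A → LocCoh.HasSk 2 A G) := by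
  refine ⟨fun h => ?_, fun h => ?_, hasSk_of_reflexive 1 (by norm_num), hasSk_of_reflexive 2 le_rfl⟩
  · have := le_idealDepth_of_reflexive I (G := G) 1 (by norm_num) (by simpa using h)
    simpa using this
  · have := le_idealDepth_of_reflexive I (G := G) 2 le_rfl (by simpa using h)
    simpa using this

end Groth.Agent.S18702
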