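import Groth.Statements.S18708
import Mathlib
import Groth.Agent.Lib.Helper21.FlatKit7
import Groth.Agent.Lib.Helper21.FlatLocal2
import Groth.Agent.Lib.Helper21.FlatLocal6
import Groth.Agent.Lib.Helper21.DepthKit7
import Groth.Agent.S18700
import Groth.Agent.S0321
import Groth.Agent.S18706

set_option autoImplicit false
universe u
open QGor

namespace Groth.Agent.S18708
open Groth.Agent.Lib.Helper21 TensorProduct Function

section L1
variable {A B : Type u} [CommRing A] [CommRing B] [Algebra A B] (𝔞 : Ideal A)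

theorem map_mem_smul_top {X Y : Type*} [AddCommGroup X] [Module A X] [AddCommGroup Y] [Module A Y]
    (g : X →ₗ[A] Y) {x : X} (hx : x ∈ 𝔞 • (⊤ : Submodule A X)) :
    g x ∈ 𝔞 • (⊤ : Submodule A Y) := by
  have : Submodule.map g (𝔞 • ⊤) ≤ 𝔞 • ⊤ := by
    rw [Submodule.map_smul'']
    exact Submodule.smul_mono le_rfl le_top
  exact this ⟨x, hx, rfl⟩

variable {M' M M'' : Type u} [AddCommGroup M'] [Module B M'] [Module A M'] [IsScalarTower A B M']
    [AddCommGroup M] [Module B M] [Module A M] [IsScalarTower A B M]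
    [AddCommGroup M''] [Module B M''] [Module A M''] [IsScalarTower A B M'']

/-- If `mk y 1 ∈ 𝔞 (M')_S` then `s y ∈ 𝔞 M'` for some `s ∈ S`. -/
theorem exists_smul_mem_of_mk_mem (S : Submonoid B) (y : M')
    (hz : LocalizedModule.mkLinearMap S M' y ∈ 𝔞 • (⊤ : Submodule A (LocalizedModule S M'))) :
    ∃ s ∈ S, s • y ∈ 𝔞 • (⊤ : Submodule A M') := by
  rw [← FlatLocal.mem_map_smul_top_iff (S := B)] at hz
  have h1 : ((𝔞.map (algebraMap A B)) • (⊤ : Submodule B M')).localized₀ S
      (LocalizedModule.mkLinearMap S M') =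
      (𝔞.map (algebraMap A B)) • (⊤ : Submodule B (LocalizedModule S M')) := by
    rw [Submodule.localized₀_smul, Submodule.localized₀_top]
  rw [← h1] at hz
  obtain ⟨w, hw, s, hws⟩ := hz
  rw [IsLocalizedModule.mk'_eq_iff] at hws
  have hws' : LocalizedModule.mkLinearMap S M' w = LocalizedModule.mkLinearMap S M' ((s : B) • y) := by
    rw [hws, map_smul]; rfl
  obtain ⟨c, hc⟩ := IsLocalizedModule.exists_of_eq (S := S) hws'
  refine ⟨c * s, (c * s).2, ?_⟩
  rw [← FlatLocal.mem_map_smul_top_iff (S := B)]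
  have : ((c : B) * (s : B)) • y = (c : B) • w := by
    rw [mul_smul]
    exact hc.symm
  show ((c : B) * (s : B)) • y ∈ _
  rw [this]
  exact Submodule.smul_mem _ _ hw

theorem exists_smul_mem_of_flatAt
    (i : M' →ₗ[B] M) (p : M →ₗ[B] M'') (hi : Injective i) (hp : Surjective p) (hip : Exact i p)
    (q : Ideal B) [q.IsPrime] (hflat : FlatCA.FlatAt A q M'')
    (y : M') (hy : i y ∈ 𝔞 • (⊤ : Submodule A M)) :
    ∃ s ∉ q, s • y ∈ 𝔞 • (⊤ : Submodule A M') := by
  let S := q.primeCompl
  let iq : LocalizedModule S M' →ₗ[B] LocalizedModule S M :=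
    IsLocalizedModule.map S (LocalizedModule.mkLinearMap S M') (LocalizedModule.mkLinearMap S M) i
  let pq : LocalizedModule S M →ₗ[B] LocalizedModule S M'' :=
    IsLocalizedModule.map S (LocalizedModule.mkLinearMap S M) (LocalizedModule.mkLinearMap S M'') p
  have hiq : Injective iq := IsLocalizedModule.map_injective S _ _ i hi
  have hpq : Surjective pq := IsLocalizedModule.map_surjective S _ _ p hp
  have hex : Exact iq pq := IsLocalizedModule.map_exact S _ _ _ i p hip
  haveI : Module.Flat A (LocalizedModule S M'') := hflat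
  have hinj : Injective ((iq.restrictScalars A).lTensor (A ⧸ 𝔞)) :=
    LinearMap.lTensor_injective_of_exact_of_flat (pq.restrictScalars A) hpq
      (iq.restrictScalars A) hiq hex (A ⧸ 𝔞)
  have hz : LocalizedModule.mkLinearMap S M' y ∈
      𝔞 • (⊤ : Submodule A (LocalizedModule S M')) := by
    rw [← FlatKit.one_tmul_eq_zero_iff]
    apply hinj
    rw [map_zero, LinearMap.lTensor_tmul, FlatKit.one_tmul_eq_zero_iff]
    have h2 : iq (LocalizedModule.mkLinearMap S M' y) = LocalizedModule.mkLinearMap S M (i y) :=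
      IsLocalizedModule.map_apply S _ _ i y
    rw [LinearMap.restrictScalars_apply, h2]
    exact map_mem_smul_top 𝔞 ((LocalizedModule.mkLinearMap S M).restrictScalars A) hy
  obtain ⟨s, hs, hsy⟩ := exists_smul_mem_of_mk_mem 𝔞 S y hz
  exact ⟨s, fun h => hs h, hsy⟩

end L1

section L2
variable {B : Type u} [CommRing B] [IsNoetherianRing B] (J : Ideal B)

theorem exists_pow_smul_mem {M : Type*} [AddCommGroup M] [Module B M]
    (W : Submodule B M) (y : M)
    (h : ∀ q : PrimeSpectrum B, ¬ J ≤ q.asIdeal → ∃ s ∉ q.asIdeal, s • y ∈ W) :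
    ∃ n : ℕ, ∀ j ∈ J ^ n, j • y ∈ W := by
  let c : Ideal B := W.comap (LinearMap.toSpanSingleton B M y)
  have hc : ∀ b, b ∈ c ↔ b • y ∈ W := fun b => by
    simp [c, Submodule.mem_comap, LinearMap.toSpanSingleton_apply]
  have hrad : J ≤ c.radical := by
    rw [Ideal.radical_eq_sInf]
    intro x hx
    rw [Ideal.mem_sInf]
    rintro q ⟨hcq, hq⟩
    by_contra hxq
    have hJq : ¬ J ≤ q := fun hle => hxq (hle hx)
    obtain ⟨s, hs, hsy⟩ := h ⟨q, hq⟩ hJq
    exact hs (hcq ((hc s).2 hsy))
  obtain ⟨n, hn⟩ := Ideal.exists_pow_le_of_le_radical_of_fg hrad (IsNoetherian.noetherian J)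
  exact ⟨n, fun j hj => (hc j).1 (hn hj)⟩

theorem eq_zero_of_pow_smul_eq_zero {P : Type u} [AddCommGroup P] [Module B P] [Module.Finite B P]
    (h : 1 ≤ LocCoh.idealDepth J P) (z : P) (n : ℕ) (hz : ∀ j ∈ J ^ n, j • z = 0) : z = 0 := by
  by_cases hJP : J • (⊤ : Submodule B P) = ⊤
  · obtain ⟨r, hr, hr0⟩ := Submodule.exists_sub_one_mem_and_smul_eq_zero_of_fg_of_le_smul J
      (⊤ : Submodule B P) Module.Finite.fg_top (by rw [hJP])
    have h1 : (1 - r) • z = z := by
      rw [sub_smul, one_smul, hr0 z Submodule.mem_top, sub_zero]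
    have h2 : ∀ k : ℕ, (1 - r) ^ k • z = z := by
      intro k
      induction k with
      | zero => simp
      | succ k ih => rw [pow_succ, mul_smul, h1, ih]
    have h3 : (1 - r) ∈ J := by
      have : 1 - r = -(r - 1) := by ring
      rw [this]
      exact J.neg_mem hr
    rw [← h2 n]
    exact hz _ (Ideal.pow_mem_pow h3 n)
  · obtain ⟨x, hxJ, hx⟩ := DepthKit.exists_regular_of_one_le_idealDepth J hJP h
    have h1 : x ^ n • z = 0 := hz _ (Ideal.pow_mem_pow hxJ n)
    exact (hx.pow n) (by show x ^ n • z = x ^ n • (0 : P); rw [h1, smul_zero])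

end L2


section Loc
variable {A B : Type u} [CommRing A] [CommRing B] [Algebra A B]
variable {M' M M'' : Type u} [AddCommGroup M'] [Module B M'] [Module A M'] [IsScalarTower A B M']
    [AddCommGroup M] [Module B M] [Module A M] [IsScalarTower A B M]
    [AddCommGroup M''] [Module B M''] [Module A M''] [IsScalarTower A B M'']

/-- kernel term of a short exact sequence is flat at `q` if the middle is flat and the cokernel is
flat at `q` -/
theorem flatAt_of_exact (i : M' →ₗ[B] M) (p : M →ₗ[B] M'') (hi : Injective i) (hp : Surjective p)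
    (hip : Exact i p) (q : Ideal B) [q.IsPrime] [Module.Flat A M] (hflat : FlatCA.FlatAt A q M'') :
    FlatCA.FlatAt A q M' := by
  let S := q.primeCompl
  let iq : LocalizedModule S M' →ₗ[B] LocalizedModule S M :=
    IsLocalizedModule.map S (LocalizedModule.mkLinearMap S M') (LocalizedModule.mkLinearMap S M) i
  let pq : LocalizedModule S M →ₗ[B] LocalizedModule S M'' :=
    IsLocalizedModule.map S (LocalizedModule.mkLinearMap S M) (LocalizedModule.mkLinearMap S M'') p
  have hiq : Injective iq := IsLocalizedModule.map_injective S _ _ i hi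
  have hpq : Surjective pq := IsLocalizedModule.map_surjective S _ _ p hp
  have hex : Exact iq pq := IsLocalizedModule.map_exact S _ _ _ i p hip
  haveI : Module.Flat A (LocalizedModule S M'') := hflat
  haveI : Module.Flat A (LocalizedModule S M) :=
    FlatLocal.flat_of_isLocalizedModule S (LocalizedModule.mkLinearMap S M)
  exact FlatKit.flat_of_exact_of_flat (iq.restrictScalars A) (pq.restrictScalars A) hiq hpq hex

/-- if the cokernel is flat then `i⁻¹(𝔞 M) = 𝔞 M'` -/
theorem mem_smul_top_of_flat (𝔞 : Ideal A) (i : M' →ₗ[B] M) (p : M →ₗ[B] M'') (hi : Injective i)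
    (hp : Surjective p) (hip : Exact i p) [Module.Flat A M''] (y : M')
    (hy : i y ∈ 𝔞 • (⊤ : Submodule A M)) : y ∈ 𝔞 • (⊤ : Submodule A M') := by
  have hinj : Injective ((i.restrictScalars A).lTensor (A ⧸ 𝔞)) :=
    LinearMap.lTensor_injective_of_exact_of_flat (p.restrictScalars A) hp
      (i.restrictScalars A) hi hip (A ⧸ 𝔞)
  rw [← FlatKit.one_tmul_eq_zero_iff]
  apply hinj
  rw [map_zero, LinearMap.lTensor_tmul, FlatKit.one_tmul_eq_zero_iff]
  exact hy

end Loc

section Tors
variable {A B : Type u} [CommRing A] [CommRing B] [IsNoetherianRing B] [IsLocalRing A] [Algebra A B]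
  (J : Ideal B)
variable {M' M M'' : Type u} [AddCommGroup M'] [Module B M'] [Module A M'] [IsScalarTower A B M']
    [AddCommGroup M] [Module B M] [Module A M] [IsScalarTower A B M]
    [AddCommGroup M''] [Module B M''] [Module A M''] [IsScalarTower A B M'']

/-- (T): the class of `y` in `M'/mM'` is `J`-power torsion when `i y ∈ m M` and `M''` is flat off
`V(J)`. -/
theorem exists_pow_smul_mem_mB (i : M' →ₗ[B] M) (p : M →ₗ[B] M'') (hi : Injective i)
    (hp : Surjective p) (hip : Exact i p)
    (hflat : ∀ q : PrimeSpectrum B, ¬ J ≤ q.asIdeal → FlatCA.FlatAt A q.asIdeal M'')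
    (y : M') (hy : i y ∈ EGA4.mB A B • (⊤ : Submodule B M)) :
    ∃ n : ℕ, ∀ j ∈ J ^ n, j • y ∈ EGA4.mB A B • (⊤ : Submodule B M') := by
  apply exists_pow_smul_mem J
  intro q hq
  rw [FlatLocal.mem_map_smul_top_iff (S := B)] at hy
  obtain ⟨s, hs, hsy⟩ := exists_smul_mem_of_flatAt (IsLocalRing.maximalIdeal A) i p hi hp hip
    q.asIdeal (hflat q hq) y hy
  refine ⟨s, hs, ?_⟩
  rw [FlatLocal.mem_map_smul_top_iff (S := B)]
  exact hsy

/-- (C) -/
theorem mem_mB_of_map_mem [Module.Finite B M'] (i : M' →ₗ[B] M) (p : M →ₗ[B] M'')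
    (hi : Injective i) (hp : Surjective p) (hip : Exact i p)
    (hflat : ∀ q : PrimeSpectrum B, ¬ J ≤ q.asIdeal → FlatCA.FlatAt A q.asIdeal M'')
    (hd : 1 ≤ LocCoh.idealDepth J (EGA4.FibMod A B M'))
    (y : M') (hy : i y ∈ EGA4.mB A B • (⊤ : Submodule B M)) :
    y ∈ EGA4.mB A B • (⊤ : Submodule B M') := by
  obtain ⟨n, hn⟩ := exists_pow_smul_mem_mB J i p hi hp hip hflat y hy
  have h0 : (Submodule.Quotient.mk y : EGA4.FibMod A B M') = 0 := by
    apply eq_zero_of_pow_smul_eq_zero J hd _ n
    intro j hj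
    rw [← Submodule.Quotient.mk_smul, Submodule.Quotient.mk_eq_zero]
    exact hn j hj
  exact (Submodule.Quotient.mk_eq_zero _).1 h0

end Tors


section Main
variable (A B : Type u) [CommRing A] [CommRing B]
    [IsNoetherianRing A] [IsNoetherianRing B] [IsLocalRing A] [IsLocalRing B] [Algebra A B]
    [IsLocalHom (algebraMap A B)] (J : Ideal B)
    {F E0 E1 G : Type u} [AddCommGroup F] [Module B F] [Module A F] [IsScalarTower A B F]
    [Module.Finite B F]
    [AddCommGroup E0] [Module B E0] [Module A E0] [IsScalarTower A B E0] [Module.Finite B E0]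
    [Module.Flat A E0]
    [AddCommGroup E1] [Module B E1] [Module A E1] [IsScalarTower A B E1] [Module.Finite B E1]
    [Module.Flat A E1]
    [AddCommGroup G] [Module B G] [Module A G] [IsScalarTower A B G] [Module.Finite B G]
    (f : F →ₗ[B] E0) (u : E0 →ₗ[B] E1) (v : E1 →ₗ[B] G)

/-- the map induced on closed fibres -/
noncomputable def fibMap {M N : Type u} [AddCommGroup M] [Module B M] [AddCommGroup N] [Module B N]
    (g : M →ₗ[B] N) : EGA4.FibMod A B M →ₗ[B] EGA4.FibMod A B N :=
  Submodule.mapQ _ _ g (by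
    rw [← Submodule.map_le_iff_le_comap, Submodule.map_smul'']
    exact Submodule.smul_mono le_rfl le_top)

theorem fibMap_mk {M N : Type u} [AddCommGroup M] [Module B M] [AddCommGroup N] [Module B N]
    (g : M →ₗ[B] N) (x : M) :
    fibMap A B g (Submodule.Quotient.mk x) = Submodule.Quotient.mk (g x) := rfl

variable {A B}
variable (hf : Function.Injective f) (hfu : Function.Exact f u) (huv : Function.Exact u v)
  (hv : Function.Surjective v)

include hfu in
theorem exact_S1 : Exact f u.rangeRestrict := by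
  intro x
  rw [← hfu x]
  constructor
  · intro h; exact congrArg Subtype.val h
  · intro h; exact Subtype.ext h

include huv in
theorem exact_S2 : Exact (LinearMap.range u).subtype v := by
  intro x
  rw [huv x]
  simp

include huv hv in
theorem flatAt_range (hGU : ∀ q : PrimeSpectrum B, ¬ J ≤ q.asIdeal → FlatCA.FlatAt A q.asIdeal G)
    (q : PrimeSpectrum B) (hq : ¬ J ≤ q.asIdeal) : FlatCA.FlatAt A q.asIdeal (LinearMap.range u) :=
  flatAt_of_exact (LinearMap.range u).subtype v (Submodule.injective_subtype _) hv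
    (exact_S2 u v huv) q.asIdeal (hGU q hq)

include hfu huv hv in
/-- Step C/D: the fibre map of `f` is injective. -/
theorem fibMap_injective
    (hGU : ∀ q : PrimeSpectrum B, ¬ J ≤ q.asIdeal → FlatCA.FlatAt A q.asIdeal G)
    (hdF : 1 ≤ LocCoh.idealDepth J (EGA4.FibMod A B F)) (hf : Function.Injective f) :
    Function.Injective (fibMap A B f) := by
  rw [injective_iff_map_eq_zero]
  intro z hz
  obtain ⟨y, rfl⟩ := Submodule.Quotient.mk_surjective _ z
  rw [fibMap_mk, Submodule.Quotient.mk_eq_zero] at hz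
  rw [Submodule.Quotient.mk_eq_zero]
  exact mem_mB_of_map_mem J f u.rangeRestrict hf u.surjective_rangeRestrict (exact_S1 f u hfu)
    (flatAt_range J u v huv hv hGU) hdF y hz

/-- `m K = u(m E0)` -/
theorem mB_range_eq :
    EGA4.mB A B • (⊤ : Submodule B (LinearMap.range u)) =
      Submodule.map u.rangeRestrict (EGA4.mB A B • (⊤ : Submodule B E0)) := by
  rw [Submodule.map_smul'', Submodule.map_top, LinearMap.range_rangeRestrict]

include hfu huv hv in
/-- Step E: main claim. -/
theorem exists_sub_mem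
    (hGU : ∀ q : PrimeSpectrum B, ¬ J ≤ q.asIdeal → FlatCA.FlatAt A q.asIdeal G)
    (hd0 : 1 ≤ LocCoh.idealDepth J (EGA4.FibMod A B E0))
    (hdF : 2 ≤ LocCoh.idealDepth J (EGA4.FibMod A B F)) (hf : Function.Injective f)
    (e : E0) (he : u e ∈ EGA4.mB A B • (⊤ : Submodule B E1)) :
    ∃ y : F, e - f y ∈ EGA4.mB A B • (⊤ : Submodule B E0) := by
  have hdF1 : 1 ≤ LocCoh.idealDepth J (EGA4.FibMod A B F) := le_trans (by norm_num) hdF
  have hφ := fibMap_injective J f u v hfu huv hv hGU hdF1 hf
  set φ := fibMap A B f with hφdef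
  set Fbar : Submodule B (EGA4.FibMod A B E0) := LinearMap.range φ with hFbar
  -- depth of the quotient
  have hdFbar : 2 ≤ LocCoh.idealDepth J Fbar := by
    rw [← DepthKit.idealDepth_congr J (LinearEquiv.ofInjective φ hφ)]
    exact hdF
  have hdQ : 1 ≤ LocCoh.idealDepth J (EGA4.FibMod A B E0 ⧸ Fbar) := by
    have h := (Groth.Agent.S0321.result B J Fbar (EGA4.FibMod A B E0) (EGA4.FibMod A B E0 ⧸ Fbar)
      Fbar.subtype Fbar.mkQ (Submodule.injective_subtype _) (Submodule.mkQ_surjective _)
      (LinearMap.exact_subtype_mkQ Fbar)).2.1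
    refine le_trans (le_min hd0 ?_) h
    have h2 : (1 : ℕ∞) + 1 ≤ LocCoh.idealDepth J Fbar := by
      have : (1 : ℕ∞) + 1 = 2 := by norm_num
      rw [this]; exact hdFbar
    exact ENat.le_sub_of_add_le_left (by norm_num) h2
  -- J-power torsion
  obtain ⟨n, hn⟩ := exists_pow_smul_mem_mB J (LinearMap.range u).subtype v
    (Submodule.injective_subtype _) hv (exact_S2 u v huv) hGU (u.rangeRestrict e) he
  have hz : (Fbar.mkQ (Submodule.Quotient.mk e) : EGA4.FibMod A B E0 ⧸ Fbar) = 0 := by
    apply eq_zero_of_pow_smul_eq_zero J hdQ _ n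
    intro j hj
    have h1 := hn j hj
    rw [mB_range_eq] at h1
    obtain ⟨e', he', he'eq⟩ := h1
    have h2 : u (j • e - e') = 0 := by
      have := congrArg Subtype.val he'eq
      change u e' = j • u e at this
      rw [map_sub, map_smul, this, sub_self]
    obtain ⟨y, hy⟩ := (hfu _).1 h2
    rw [← map_smul, Submodule.mkQ_apply, Submodule.Quotient.mk_eq_zero, ← Submodule.Quotient.mk_smul]
    refine ⟨Submodule.Quotient.mk y, ?_⟩
    rw [hφdef, fibMap_mk, hy]
    rw [Submodule.Quotient.eq]
    have : j • e - e' - j • e = - e' := by abel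
    rw [this]
    exact Submodule.neg_mem _ he'
  rw [Submodule.mkQ_apply, Submodule.Quotient.mk_eq_zero] at hz
  obtain ⟨z, hz⟩ := hz
  obtain ⟨y, rfl⟩ := Submodule.Quotient.mk_surjective _ z
  refine ⟨y, ?_⟩
  rw [hφdef, fibMap_mk, eq_comm, Submodule.Quotient.eq] at hz
  exact hz


include hfu huv hv in
/-- Step F: flatness of `G` from depth of the closed fibre of `F`. -/
theorem flat_of_depth
    (hGU : ∀ q : PrimeSpectrum B, ¬ J ≤ q.asIdeal → FlatCA.FlatAt A q.asIdeal G)
    (hd0 : 1 ≤ LocCoh.idealDepth J (EGA4.FibMod A B E0))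
    (hdF : 2 ≤ LocCoh.idealDepth J (EGA4.FibMod A B F)) (hf : Function.Injective f) :
    Module.Flat A G := by
  have hIB : (IsLocalRing.maximalIdeal A).map (algebraMap A B) ≤ Ideal.jacobson ⊥ := by
    rw [IsLocalRing.jacobson_eq_maximalIdeal ⊥ bot_ne_top]
    exact IsLocalRing.map_maximalIdeal_le (algebraMap A B)
  haveI : Module.Flat (A ⧸ IsLocalRing.maximalIdeal A) ((A ⧸ IsLocalRing.maximalIdeal A) ⊗[A] G) :=
    FlatKit.flat_quotient_maximal (IsLocalRing.maximalIdeal A) _
  apply FlatKit.flat_coker_of_localCriterion (B := B) (IsLocalRing.maximalIdeal A) hIB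
    ((LinearMap.range u).subtype.restrictScalars A) (v.restrictScalars A) (exact_S2 u v huv) hv
  apply FlatKit.injective_lTensor_quotient_of
  intro k hk
  obtain ⟨e, he⟩ := k.2
  have he' : u e ∈ EGA4.mB A B • (⊤ : Submodule B E1) := by
    rw [FlatLocal.mem_map_smul_top_iff (S := B), he]
    exact hk
  obtain ⟨y, hy⟩ := exists_sub_mem J f u v hfu huv hv hGU hd0 hdF hf e he'
  rw [← FlatLocal.mem_map_smul_top_iff (S := B)]
  show k ∈ EGA4.mB A B • (⊤ : Submodule B (LinearMap.range u))
  rw [mB_range_eq]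
  refine ⟨e - f y, hy, ?_⟩
  apply Subtype.ext
  show u (e - f y) = k
  rw [map_sub, (hfu (f y)).2 ⟨y, rfl⟩, sub_zero, he]

include huv hv in
theorem flat_range_of_flat [Module.Flat A G] : Module.Flat A (LinearMap.range u) :=
  FlatKit.flat_of_exact_of_flat ((LinearMap.range u).subtype.restrictScalars A)
    (v.restrictScalars A) (Submodule.injective_subtype _) hv (exact_S2 u v huv)

include hfu huv hv in
theorem flat_F_of_flat [Module.Flat A G] (hf : Function.Injective f) : Module.Flat A F := by
  haveI := flat_range_of_flat (A := A) u v huv hv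
  exact FlatKit.flat_of_exact_of_flat (f.restrictScalars A) (u.rangeRestrict.restrictScalars A)
    hf u.surjective_rangeRestrict (exact_S1 f u hfu)

include hfu huv hv in
/-- Step G. -/
theorem depth_of_flat [Module.Flat A G] (hf : Function.Injective f)
    (h0 : 2 ≤ LocCoh.idealDepth J (EGA4.FibMod A B E0))
    (h1 : 1 ≤ LocCoh.idealDepth J (EGA4.FibMod A B E1)) :
    2 ≤ LocCoh.idealDepth J (EGA4.FibMod A B F) := by
  haveI := flat_range_of_flat (A := A) u v huv hv
  have hφ : Function.Injective (fibMap A B f) := by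
    rw [injective_iff_map_eq_zero]
    intro z hz
    obtain ⟨y, rfl⟩ := Submodule.Quotient.mk_surjective _ z
    rw [fibMap_mk, Submodule.Quotient.mk_eq_zero, FlatLocal.mem_map_smul_top_iff (S := B)] at hz
    rw [Submodule.Quotient.mk_eq_zero, FlatLocal.mem_map_smul_top_iff (S := B)]
    exact mem_smul_top_of_flat (IsLocalRing.maximalIdeal A) f u.rangeRestrict hf
      u.surjective_rangeRestrict (exact_S1 f u hfu) y hz
  have hker : LinearMap.range (fibMap A B f) = LinearMap.ker (fibMap A B u) := by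
    ext z
    obtain ⟨e, rfl⟩ := Submodule.Quotient.mk_surjective _ z
    constructor
    · rintro ⟨w, hw⟩
      obtain ⟨y, rfl⟩ := Submodule.Quotient.mk_surjective _ w
      rw [LinearMap.mem_ker, ← hw, fibMap_mk, fibMap_mk, (hfu (f y)).2 ⟨y, rfl⟩]
      rfl
    · intro hz
      rw [LinearMap.mem_ker, fibMap_mk, Submodule.Quotient.mk_eq_zero,
        FlatLocal.mem_map_smul_top_iff (S := B)] at hz
      have hk : u.rangeRestrict e ∈
          (IsLocalRing.maximalIdeal A) • (⊤ : Submodule A (LinearMap.range u)) :=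
        mem_smul_top_of_flat (IsLocalRing.maximalIdeal A) (LinearMap.range u).subtype v
          (Submodule.injective_subtype _) hv (exact_S2 u v huv) (u.rangeRestrict e) hz
      rw [← FlatLocal.mem_map_smul_top_iff (S := B)] at hk
      change u.rangeRestrict e ∈ EGA4.mB A B • (⊤ : Submodule B (LinearMap.range u)) at hk
      rw [mB_range_eq] at hk
      obtain ⟨e', he', he'eq⟩ := hk
      have h2 : u (e - e') = 0 := by
        have := congrArg Subtype.val he'eq
        change u e' = u e at this
        rw [map_sub, this, sub_self]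
      obtain ⟨y, hy⟩ := (hfu _).1 h2
      refine ⟨Submodule.Quotient.mk y, ?_⟩
      rw [fibMap_mk, hy, Submodule.Quotient.eq]
      have : e - e' - e = - e' := by abel
      rw [this]
      exact Submodule.neg_mem _ he'
  have e : EGA4.FibMod A B F ≃ₗ[B] LinearMap.ker (fibMap A B u) :=
    (LinearEquiv.ofInjective (fibMap A B f) hφ).trans (LinearEquiv.ofEq _ _ hker)
  rw [DepthKit.idealDepth_congr J e]
  exact (Groth.Agent.S18700.result B J (EGA4.FibMod A B E0) (EGA4.FibMod A B E1)
    (fibMap A B u)).2 h0 h1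

end Main



/-- Affine-local form at a point of the equivalence (b) ⇔ (c) ⇔ (b″) and of the note after it. Let A → B
be a local homomorphism of Noetherian local rings, m the maximal ideal of A, J an ideal of B and 0 →
F → E⁰ → E¹ → G → 0 an exact sequence of finite B-modules with E⁰, E¹ flat over A, G_q flat over A
for every prime q not containing J, depth_J (E⁰/mE⁰) ≥ 2 and depth_J (E¹/mE¹) ≥ 1. Then depth_J
(F/mF) ≥ 2 (the restriction map of the closed fibre of F off V(J) is bijective) if and only if G is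
flat over A, if and only if depth_J (F/m^(n+1)F) ≥ 2 for all n; and when G is flat over A so is F. -/
theorem result (A B : Type u) [CommRing A] [CommRing B]
    [IsNoetherianRing A] [IsNoetherianRing B] [IsLocalRing A] [IsLocalRing B] [Algebra A B]
    [IsLocalHom (algebraMap A B)] (J : Ideal B)
    (F E0 E1 G : Type u) [AddCommGroup F] [Module B F] [Module A F] [IsScalarTower A B F] [Module.Finite B F]
    [AddCommGroup E0] [Module B E0] [Module A E0] [IsScalarTower A B E0] [Module.Finite B E0] [Module.Flat A E0]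
    [AddCommGroup E1] [Module B E1] [Module A E1] [IsScalarTower A B E1] [Module.Finite B E1] [Module.Flat A E1]
    [AddCommGroup G] [Module B G] [Module A G] [IsScalarTower A B G] [Module.Finite B G]
    (f : F →ₗ[B] E0) (u : E0 →ₗ[B] E1) (v : E1 →ₗ[B] G)
    (hf : Function.Injective f) (hfu : Function.Exact f u) (huv : Function.Exact u v) (hv : Function.Surjective v)
    (hGU : ∀ q : PrimeSpectrum B, ¬ J ≤ q.asIdeal → FlatCA.FlatAt A q.asIdeal G)
    (h0 : 2 ≤ LocCoh.idealDepth J (EGA4.FibMod A B E0)) (h1 : 1 ≤ LocCoh.idealDepth J (EGA4.FibMod A B E1)) :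
    (2 ≤ LocCoh.idealDepth J (EGA4.FibMod A B F) ↔ Module.Flat A G) ∧
    (Module.Flat A G ↔ ∀ n : ℕ, 2 ≤ LocCoh.idealDepth J (F ⧸ ((EGA4.mB A B) ^ (n + 1) • (⊤ : Submodule B F)))) ∧
    (Module.Flat A G → Module.Flat A F) := by
  have h01 : 1 ≤ LocCoh.idealDepth J (EGA4.FibMod A B E0) := le_trans (by norm_num) h0
  have hA : 2 ≤ LocCoh.idealDepth J (EGA4.FibMod A B F) → Module.Flat A G := fun hdF =>
    flat_of_depth J f u v hfu huv hv hGU h01 hdF hf
  have hB : Module.Flat A G → 2 ≤ LocCoh.idealDepth J (EGA4.FibMod A B F) := fun hG => by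
    haveI := hG
    exact depth_of_flat J f u v hfu huv hv hf h0 h1
  have hC : Module.Flat A G → Module.Flat A F := fun hG => by
    haveI := hG
    exact flat_F_of_flat f u v hfu huv hv hf
  refine ⟨⟨hA, hB⟩, ⟨fun hG n => ?_, fun h => ?_⟩, hC⟩
  · haveI : Module.Flat A F := hC hG
    apply Groth.Agent.S18706.result A B J F _ (hB hG) n
    intro q _
    exact FlatLocal.flat_of_isLocalizedModule q.asIdeal.primeCompl
      (LocalizedModule.mkLinearMap q.asIdeal.primeCompl F)
  · apply hA
    have h2 := h 0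
    have heq : (EGA4.mB A B) ^ (0 + 1) • (⊤ : Submodule B F) = EGA4.mB A B • (⊤ : Submodule B F) := by
      rw [zero_add, pow_one]
    rw [DepthKit.idealDepth_congr J (Submodule.quotEquivOfEq _ _ heq)] at h2
    exact h2

end Groth.Agent.S18708
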