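import Groth.Statements.S18726
import Mathlib
import Groth.Agent.S18708
import Groth.Agent.S18705
import Groth.Agent.S0323
import Groth.Agent.Lib.helper11.LCKit3
import Groth.Agent.Lib.Helper2.HZDepth1

set_option autoImplicit false
universe u
open QGor

namespace Groth.Agent.S18726

open Groth.Agent.Lib.helper11.LCKit CategoryTheory Function

section LES
variable {B : Type u} [CommRing B] (J : Ideal B)

/-- a piece of the long exact sequence of local cohomology. -/
theorem subsingleton_H_of_ses {X₁ X₂ X₃ : Type u} [AddCommGroup X₁] [Module B X₁]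
    [AddCommGroup X₂] [Module B X₂] [AddCommGroup X₃] [Module B X₃]
    (i : X₁ →ₗ[B] X₂) (p : X₂ →ₗ[B] X₃) (hi : Injective i) (hp : Surjective p)
    (hip : Exact i p) (n : ℕ) (h2 : Subsingleton (LocCoh.H J n X₂))
    (h1 : Subsingleton (LocCoh.H J (n + 1) X₁)) : Subsingleton (LocCoh.H J n X₃) := by
  let S := ModuleCat.shortComplexOfCompEqZero i p hip.linearMap_comp_eq_zero
  have hS : S.ShortExact := ModuleCat.shortComplex_shortExact S hip hi hp
  have key : ∀ x : (localCohomology J n).obj S.X₃, x = 0 := by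
    intro x
    have h : (δ J n hS).hom x = 0 := h1.elim _ _
    obtain ⟨x₂, rfl⟩ := exact₃ J n hS x h
    rw [h2.elim x₂ 0, map_zero]
  exact ⟨fun x y => (key x).trans (key y).symm⟩

/-- right exact sequence whose left map has `J`-power torsion kernel. -/
theorem subsingleton_H_of_rightExact [IsNoetherianRing B] {X Y Z : Type u}
    [AddCommGroup X] [Module B X] [AddCommGroup Y] [Module B Y] [AddCommGroup Z] [Module B Z]
    (a : X →ₗ[B] Y) (b : Y →ₗ[B] Z) (hb : Surjective b) (hab : Exact a b)
    (htors : ∀ x, a x = 0 → ∃ n : ℕ, ∀ j ∈ J ^ n, j • x = 0) (n : ℕ)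
    (hX : Subsingleton (LocCoh.H J (n + 1) X)) (hY : Subsingleton (LocCoh.H J n Y)) :
    Subsingleton (LocCoh.H J n Z) := by
  have hK : LocCoh.IsPowerTorsion J (LinearMap.ker a) := by
    rintro ⟨x, hx⟩
    obtain ⟨k, hk⟩ := htors x hx
    exact ⟨k, fun j hj => Subtype.ext (hk j hj)⟩
  have hK2 : Subsingleton (LocCoh.H J (n + 1 + 1) (LinearMap.ker a)) :=
    (Groth.Agent.S0323.result B J _ hK).2 _ (by omega)
  have hex1 : Exact (LinearMap.ker a).subtype a.rangeRestrict := by
    intro x
    constructor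
    · intro h
      exact ⟨⟨x, congrArg Subtype.val h⟩, rfl⟩
    · rintro ⟨⟨y, hy⟩, rfl⟩
      exact Subtype.ext hy
  have hI : Subsingleton (LocCoh.H J (n + 1) (LinearMap.range a)) :=
    subsingleton_H_of_ses J (LinearMap.ker a).subtype a.rangeRestrict
      (Submodule.injective_subtype _) a.surjective_rangeRestrict hex1 (n + 1) hX hK2
  have hex2 : Exact (LinearMap.range a).subtype b := by
    intro y
    rw [hab y]
    simp
  exact subsingleton_H_of_ses J (LinearMap.range a).subtype b (Submodule.injective_subtype _) hb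
    hex2 n hY hI

end LES

section Fib
variable (A B : Type u) [CommRing A] [CommRing B]
    [IsNoetherianRing A] [IsNoetherianRing B] [IsLocalRing A] [IsLocalRing B] [Algebra A B]
    [IsLocalHom (algebraMap A B)]

open Groth.Agent.S18708 in
theorem fibMap_surjective {Y Z : Type u} [AddCommGroup Y] [Module B Y] [AddCommGroup Z] [Module B Z]
    (b : Y →ₗ[B] Z) (hb : Surjective b) : Surjective (fibMap A B b) := by
  intro z
  obtain ⟨z, rfl⟩ := Submodule.Quotient.mk_surjective _ z
  obtain ⟨y, rfl⟩ := hb z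
  exact ⟨Submodule.Quotient.mk y, rfl⟩

open Groth.Agent.S18708 in
theorem fibMap_exact {X Y Z : Type u} [AddCommGroup X] [Module B X] [AddCommGroup Y] [Module B Y]
    [AddCommGroup Z] [Module B Z] (a : X →ₗ[B] Y) (b : Y →ₗ[B] Z) (hb : Surjective b)
    (hab : Exact a b) : Exact (fibMap A B a) (fibMap A B b) := by
  intro y
  obtain ⟨y, rfl⟩ := Submodule.Quotient.mk_surjective _ y
  constructor
  · intro h
    rw [fibMap_mk, Submodule.Quotient.mk_eq_zero] at h
    have hmap : EGA4.mB A B • (⊤ : Submodule B Z) =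
        Submodule.map b (EGA4.mB A B • (⊤ : Submodule B Y)) := by
      rw [Submodule.map_smul'', Submodule.map_top, LinearMap.range_eq_top.2 hb]
    rw [hmap] at h
    obtain ⟨y', hy', hy'eq⟩ := h
    have h2 : b (y - y') = 0 := by rw [map_sub, hy'eq, sub_self]
    obtain ⟨x, hx⟩ := (hab _).1 h2
    refine ⟨Submodule.Quotient.mk x, ?_⟩
    rw [fibMap_mk, hx, Submodule.Quotient.eq]
    have : y - y' - y = - y' := by abel
    rw [this]
    exact Submodule.neg_mem _ hy'
  · rintro ⟨x, hx⟩
    obtain ⟨x, rfl⟩ := Submodule.Quotient.mk_surjective _ x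
    rw [← hx, fibMap_mk, fibMap_mk, (hab (a x)).2 ⟨x, rfl⟩]
    rfl

end Fib

/-- Affine-local form at a point. Let A → B be a local homomorphism of Noetherian local rings, m the
maximal ideal of A, J an ideal of B, and 0 → F → E⁰ → E¹ → G → 0 an exact sequence of finite
B-modules with E⁰, E¹ flat over A, G_q flat over A for every prime q not containing J, depth_J
(E⁰/mE⁰) ≥ 2 and depth_J (E¹/mE¹) ≥ 1. Assume H²_J(F/mF) = 0; since under these hypotheses the
module of sections of F/mF off V(J) is finite and its J-depth is ≥ 3 exactly when H²_J(F/mF)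
vanishes, this is the condition that that module of sections has J-depth ≥ 3. Then F and G are flat
over A, and depth_J (F/mF) ≥ 2 (the restriction map of the closed fibre of F off V(J) is bijective). -/
theorem result (A B : Type u) [CommRing A] [CommRing B]
    [IsNoetherianRing A] [IsNoetherianRing B] [IsLocalRing A] [IsLocalRing B] [Algebra A B]
    [IsLocalHom (algebraMap A B)] (J : Ideal B)
    (F E0 E1 G : Type u) [AddCommGroup F] [Module B F] [Module A F] [IsScalarTower A B F] [Module.Finite B F]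
    [AddCommGroup E0] [Module B E0] [Module A E0] [IsScalarTower A B E0] [Module.Finite B E0] [Module.Flat A E0]
    [AddCommGroup E1] [Module B E1] [Module A E1] [IsScalarTower A B E1] [Module.Finite B E1] [Module.Flat A E1]
    [AddCommGroup G] [Module B G] [Module A G] [IsScalarTower A B G] [Module.Finite B G]
    (f : F →ₗ[B] E0) (u : E0 →ₗ[B] E1) (v : E1 →ₗ[B] G)
    (hf : Function.Injective f) (hfu : Function.Exact f u) (huv : Function.Exact u v) (hv : Function.Surjective v)
    (hGU : ∀ q : PrimeSpectrum B, ¬ J ≤ q.asIdeal → FlatCA.FlatAt A q.asIdeal G)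
    (h0 : 2 ≤ LocCoh.idealDepth J (EGA4.FibMod A B E0)) (h1 : 1 ≤ LocCoh.idealDepth J (EGA4.FibMod A B E1))
    (hH2 : Subsingleton (LocCoh.H J 2 (EGA4.FibMod A B F))) :
    Module.Flat A F ∧ Module.Flat A G ∧ 2 ≤ LocCoh.idealDepth J (EGA4.FibMod A B F) := by
  suffices hG : Module.Flat A G by
    have h := Groth.Agent.S18708.result A B J F E0 E1 G f u v hf hfu huv hv hGU h0 h1
    exact ⟨h.2.2 hG, hG, h.1.2 hG⟩
  apply Groth.Agent.S18705.result A B J G hGU
  have hcast : (1 : ℕ∞) = ((1 : ℕ) : ℕ∞) := rfl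
  have hcast2 : (2 : ℕ∞) = ((2 : ℕ) : ℕ∞) := rfl
  rw [hcast, Groth.Agent.Lib.Helper2.HZDepth1.le_idealDepth_iff]
  rw [hcast2, Groth.Agent.Lib.Helper2.HZDepth1.le_idealDepth_iff] at h0
  rw [hcast, Groth.Agent.Lib.Helper2.HZDepth1.le_idealDepth_iff] at h1
  intro i hi
  obtain rfl : i = 0 := by omega
  -- first right exact sequence
  have hM : Subsingleton (LocCoh.H J 1 (EGA4.FibMod A B (LinearMap.range u))) := by
    apply subsingleton_H_of_rightExact J (Groth.Agent.S18708.fibMap A B f)
      (Groth.Agent.S18708.fibMap A B u.rangeRestrict)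
      (fibMap_surjective A B _ u.surjective_rangeRestrict)
      (fibMap_exact A B _ _ u.surjective_rangeRestrict (Groth.Agent.S18708.exact_S1 f u hfu))
      _ 1 hH2 (h0 1 (by norm_num))
    intro z hz
    obtain ⟨y, rfl⟩ := Submodule.Quotient.mk_surjective _ z
    rw [Groth.Agent.S18708.fibMap_mk, Submodule.Quotient.mk_eq_zero] at hz
    obtain ⟨n, hn⟩ := Groth.Agent.S18708.exists_pow_smul_mem_mB J f u.rangeRestrict hf
      u.surjective_rangeRestrict (Groth.Agent.S18708.exact_S1 f u hfu)
      (Groth.Agent.S18708.flatAt_range J u v huv hv hGU) y hz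
    refine ⟨n, fun j hj => ?_⟩
    rw [← Submodule.Quotient.mk_smul, Submodule.Quotient.mk_eq_zero]
    exact hn j hj
  apply subsingleton_H_of_rightExact J (Groth.Agent.S18708.fibMap A B (LinearMap.range u).subtype)
    (Groth.Agent.S18708.fibMap A B v)
    (fibMap_surjective A B _ hv)
    (fibMap_exact A B _ _ hv (Groth.Agent.S18708.exact_S2 u v huv))
    _ 0 hM (h1 0 (by norm_num))
  intro z hz
  obtain ⟨y, rfl⟩ := Submodule.Quotient.mk_surjective _ z
  rw [Groth.Agent.S18708.fibMap_mk, Submodule.Quotient.mk_eq_zero] at hz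
  obtain ⟨n, hn⟩ := Groth.Agent.S18708.exists_pow_smul_mem_mB J (LinearMap.range u).subtype v
    (Submodule.injective_subtype _) hv (Groth.Agent.S18708.exact_S2 u v huv) hGU y hz
  refine ⟨n, fun j hj => ?_⟩
  rw [← Submodule.Quotient.mk_smul, Submodule.Quotient.mk_eq_zero]
  exact hn j hj

end Groth.Agent.S18726
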