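import Groth.Statements.S0389
import Groth.Agent.Lib.helper11.GenFreeFP
import Mathlib.RingTheory.FiniteStability

set_option autoImplicit false
universe u
open FlatMor

namespace Groth.Agent.S0389

open TensorProduct Groth.Agent.Lib.helper11.GenFree Groth.Agent.Lib.helper11.GenFreeTools in
/-- finite presentation of the base change of a finite type algebra, given generators of the kernel
up to powers of `f`. -/
theorem fp_algebra {R S : Type u} [CommRing R] [CommRing S] [Algebra R S] (n : ℕ)
    (π : MvPolynomial (Fin n) R →ₐ[R] S) (hπ : Function.Surjective π) (f : R)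
    (κ : Finset (MvPolynomial (Fin n) R)) (hκ : ∀ k ∈ κ, π k = 0)
    (hpow : ∀ p : MvPolynomial (Fin n) R, π p = 0 → ∃ m : ℕ,
      f ^ m • p ∈ Ideal.span (κ : Set (MvPolynomial (Fin n) R))) :
    Algebra.FinitePresentation (Localization.Away f) (Localization.Away f ⊗[R] S) := by
  classical
  set A := Localization.Away f
  let g : A ⊗[R] MvPolynomial (Fin n) R →ₐ[A] A ⊗[R] S :=
    Algebra.TensorProduct.map (AlgHom.id A A) π
  have hgsurj : Function.Surjective g := Algebra.FiniteType.baseChangeAux_surj A hπ
  have hker_eq : RingHom.ker g = Ideal.map Algebra.TensorProduct.includeRight (RingHom.ker π) :=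
    Algebra.TensorProduct.lTensor_ker π hπ
  have hspan : Ideal.map (Algebra.TensorProduct.includeRight :
      MvPolynomial (Fin n) R →ₐ[R] A ⊗[R] MvPolynomial (Fin n) R) (RingHom.ker π) =
      Ideal.span ((Algebra.TensorProduct.includeRight :
        MvPolynomial (Fin n) R →ₐ[R] A ⊗[R] MvPolynomial (Fin n) R) '' (κ : Set _)) := by
    apply le_antisymm
    · rw [Ideal.map_le_iff_le_comap]
      intro p hp
      rw [Ideal.mem_comap]
      obtain ⟨m, hm⟩ := hpow p hp
      have h1 : (Algebra.TensorProduct.includeRight :
          MvPolynomial (Fin n) R →ₐ[R] A ⊗[R] MvPolynomial (Fin n) R) (f ^ m • p) ∈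
          Ideal.span ((Algebra.TensorProduct.includeRight :
            MvPolynomial (Fin n) R →ₐ[R] A ⊗[R] MvPolynomial (Fin n) R) '' (κ : Set _)) := by
        rw [← Ideal.map_span]
        exact Ideal.mem_map_of_mem _ hm
      rw [map_smul, Algebra.smul_def] at h1
      have hu : IsUnit (algebraMap R (A ⊗[R] MvPolynomial (Fin n) R) (f ^ m)) := by
        rw [IsScalarTower.algebraMap_apply R A (A ⊗[R] MvPolynomial (Fin n) R), map_pow]
        exact ((IsLocalization.Away.algebraMap_isUnit f).pow m).map _
      exact (Ideal.unit_mul_mem_iff_mem _ hu).mp h1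
    · rw [Ideal.span_le]
      rintro _ ⟨k, hk, rfl⟩
      exact Ideal.mem_map_of_mem _ (hκ k hk)
  have hfgg : Ideal.FG (RingHom.ker g) := by
    rw [hker_eq, hspan, ← Finset.coe_image]
    exact ⟨_, rfl⟩
  let g' : MvPolynomial (Fin n) A →ₐ[A] A ⊗[R] S :=
    AlgHom.comp g (MvPolynomial.algebraTensorAlgEquiv R A).symm.toAlgHom
  refine ⟨n, g', ?_, Ideal.fg_ker_comp _ _ ?_ hfgg ?_⟩
  · simp_all [g, g']
  · change Ideal.FG (RingHom.ker (AlgEquiv.symm (MvPolynomial.algebraTensorAlgEquiv R A)))
    simp only [RingHom.ker_equiv]
    exact Submodule.fg_bot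
  · simpa using EquivLike.surjective _

/-- finite presentation of a localized module, given generators of the relation module up to
powers of `f'`. -/
theorem fp_module {S M : Type u} [CommRing S] [AddCommGroup M] [Module S M] (t : ℕ)
    (q : (Fin t → S) →ₗ[S] M) (hq : Function.Surjective q) (f' : S)
    (κ : Finset (Fin t → S)) (hκ : ∀ k ∈ κ, q k = 0)
    (hpow : ∀ v : Fin t → S, q v = 0 → ∃ m : ℕ,
      f' ^ m • v ∈ Submodule.span S (κ : Set (Fin t → S))) :
    Module.FinitePresentation (Localization.Away f')
      (LocalizedModule (Submonoid.powers f') M) := by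
  classical
  set W : Submodule S (Fin t → S) := Submodule.span S (κ : Set (Fin t → S)) with hWdef
  have hW : W ≤ LinearMap.ker q := by
    rw [hWdef, Submodule.span_le]
    intro k hk
    exact hκ k hk
  haveI : Module.FinitePresentation S ((Fin t → S) ⧸ W) :=
    Module.finitePresentation_of_surjective W.mkQ (Submodule.mkQ_surjective W)
      (by rw [Submodule.ker_mkQ]; exact ⟨κ, rfl⟩)
  let q' : ((Fin t → S) ⧸ W) →ₗ[S] M := W.liftQ q hW
  have hq' : Function.Surjective q' := by
    intro y
    obtain ⟨v, rfl⟩ := hq y
    exact ⟨W.mkQ v, rfl⟩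
  set T := Submonoid.powers f'
  let L : LocalizedModule T ((Fin t → S) ⧸ W) →ₗ[S] LocalizedModule T M :=
    IsLocalizedModule.map T (LocalizedModule.mkLinearMap T _) (LocalizedModule.mkLinearMap T M) q'
  have hLs : Function.Surjective L := IsLocalizedModule.map_surjective T _ _ q' hq'
  have hLi : Function.Injective L := by
    rw [injective_iff_map_eq_zero]
    intro x hx
    induction x using LocalizedModule.induction_on with
    | h y s =>
      obtain ⟨v, rfl⟩ := Submodule.mkQ_surjective W y
      rw [IsLocalizedModule.map_LocalizedModules, ← LocalizedModule.zero_mk 1,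
        LocalizedModule.mk_eq] at hx
      obtain ⟨⟨_, j, rfl⟩, hu⟩ := hx
      rw [one_smul, smul_zero, smul_zero] at hu
      have h1 : q (f' ^ j • v) = 0 := by
        rw [map_smul]
        exact hu
      obtain ⟨m, hm⟩ := hpow _ h1
      rw [smul_smul, ← pow_add] at hm
      let u : T := ⟨f' ^ (m + j), m + j, rfl⟩
      rw [← LocalizedModule.mk_cancel_common_left u s (W.mkQ v)]
      have h2 : u • W.mkQ v = 0 := by
        change f' ^ (m + j) • W.mkQ v = 0
        rw [← map_smul]
        exact (Submodule.Quotient.mk_eq_zero W).mpr hm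
      rw [h2, LocalizedModule.zero_mk]
  exact Module.FinitePresentation.of_equiv
    (LinearEquiv.extendScalarsOfIsLocalization T (Localization.Away f')
      (LinearEquiv.ofBijective L ⟨hLi, hLs⟩))

open TensorProduct in
/-- Generic freeness: over a domain, for a finite type algebra and a finite module over it, after
inverting one nonzero element of the base the algebra and the module become free over the base, the
algebra becomes finitely presented over the base and the module finitely presented over the algebra. -/
theorem result {R S M : Type u} [CommRing R] [IsDomain R] [CommRing S] [Algebra R S] [Algebra.FiniteType R S] [AddCommGroup M] [Module S M] [Module R M] [IsScalarTower R S M] [Module.Finite S M] :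
    ∃ f : R, f ≠ 0 ∧ Module.Free (Localization.Away f) (Localization.Away f ⊗[R] M) ∧
      Module.Free (Localization.Away f) (Localization.Away f ⊗[R] S) ∧
      Algebra.FinitePresentation (Localization.Away f) (Localization.Away f ⊗[R] S) ∧
      Module.FinitePresentation (Localization.Away (algebraMap R S f)) (LocalizedModule (Submonoid.powers (algebraMap R S f)) M) := by
  classical
  have hft : Algebra.FiniteType R S := inferInstance
  obtain ⟨n, π, hπ⟩ := Algebra.FiniteType.iff_quotient_mvPolynomial''.mp hft
  obtain ⟨f₁, hf₁, H₁⟩ := Groth.Agent.Lib.helper11.GenFreeTools.GenFree.exists_spec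
    (Groth.Agent.Lib.helper11.GenFreeTools.genFree_of_finiteType (R := R) S M)
  obtain ⟨f₂, hf₂, H₂⟩ := Groth.Agent.Lib.helper11.GenFreeTools.GenFree.exists_spec
    (Groth.Agent.Lib.helper11.GenFreeTools.genFree_of_finiteType (R := R) S S)
  -- relations of the algebra
  let K₃ : Submodule (MvPolynomial (Fin n) R) (Fin 1 → MvPolynomial (Fin n) R) :=
    Submodule.comap (LinearMap.proj 0 : (Fin 1 → MvPolynomial (Fin n) R) →ₗ[MvPolynomial (Fin n) R]
      MvPolynomial (Fin n) R) (RingHom.ker π)
  obtain ⟨f₃, hf₃, κ₃, hκ₃, hpow₃⟩ := Groth.Agent.Lib.helper11.GenFreeFP.exists_finset_pow n 1 K₃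
  -- relations of the module
  obtain ⟨t, q, hq⟩ := Module.Finite.exists_fin' S M
  let K₄ : Submodule (MvPolynomial (Fin n) R) (Fin t → MvPolynomial (Fin n) R) :=
    { carrier := {v | q (fun i => π (v i)) = 0}
      add_mem' := by
        intro v w hv hw
        simp only [Set.mem_setOf_eq] at hv hw ⊢
        have : (fun i => π ((v + w) i)) = (fun i => π (v i)) + fun i => π (w i) := by
          funext i
          simp
        rw [this, map_add, hv, hw, add_zero]
      zero_mem' := by
        simp only [Set.mem_setOf_eq]
        have : (fun i => π ((0 : Fin t → MvPolynomial (Fin n) R) i)) = 0 := by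
          funext i
          simp
        rw [this, map_zero]
      smul_mem' := by
        intro c v hv
        simp only [Set.mem_setOf_eq] at hv ⊢
        have : (fun i => π ((c • v) i)) = π c • fun i => π (v i) := by
          funext i
          simp
        rw [this, map_smul, hv, smul_zero] }
  obtain ⟨f₄, hf₄, κ₄, hκ₄, hpow₄⟩ := Groth.Agent.Lib.helper11.GenFreeFP.exists_finset_pow n t K₄
  have hf : f₁ * f₂ * f₃ * f₄ ≠ 0 := mul_ne_zero (mul_ne_zero (mul_ne_zero hf₁ hf₂) hf₃) hf₄
  refine ⟨f₁ * f₂ * f₃ * f₄, hf, ?_, ?_, ?_, ?_⟩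
  · exact (H₁ _ ⟨f₂ * f₃ * f₄, by ring⟩ hf).1
  · exact (H₂ _ ⟨f₁ * f₃ * f₄, by ring⟩ hf).1
  · refine fp_algebra n π hπ _ (κ₃.image fun v => v 0) ?_ ?_
    · intro k hk
      obtain ⟨v, hv, rfl⟩ := Finset.mem_image.mp hk
      exact hκ₃ v hv
    · intro p hp
      have hpK : (fun _ => p : Fin 1 → MvPolynomial (Fin n) R) ∈ K₃ := hp
      obtain ⟨m, hm⟩ := hpow₃ (f₁ * f₂ * f₃ * f₄) ⟨f₁ * f₂ * f₄, by ring⟩
        _ hpK
      refine ⟨m, ?_⟩
      have h1 := Submodule.mem_map_of_mem (f := (LinearMap.proj 0 :
        (Fin 1 → MvPolynomial (Fin n) R) →ₗ[MvPolynomial (Fin n) R] MvPolynomial (Fin n) R)) hm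
      rw [Submodule.map_span, ← Finset.coe_image] at h1
      exact h1
  · refine fp_module t q hq _ (κ₄.image fun v i => π (v i)) ?_ ?_
    · intro k hk
      obtain ⟨v, hv, rfl⟩ := Finset.mem_image.mp hk
      exact hκ₄ v hv
    · intro w hw
      choose v hv using fun i => hπ (w i)
      have hvK : v ∈ K₄ := by
        change q (fun i => π (v i)) = 0
        have : (fun i => π (v i)) = w := funext hv
        rw [this, hw]
      obtain ⟨m, hm⟩ := hpow₄ (f₁ * f₂ * f₃ * f₄) ⟨f₁ * f₂ * f₃, by ring⟩ v hvK
      refine ⟨m, ?_⟩
      have key : ∀ x ∈ Submodule.span (MvPolynomial (Fin n) R) (κ₄ : Set (Fin t → MvPolynomial (Fin n) R)),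
          (fun i => π (x i)) ∈ Submodule.span S
            ((κ₄.image fun v i => π (v i) : Finset (Fin t → S)) : Set (Fin t → S)) := by
        intro x hx
        induction hx using Submodule.span_induction with
        | mem x hx =>
          exact Submodule.subset_span (Finset.mem_coe.mpr (Finset.mem_image.mpr ⟨x, hx, rfl⟩))
        | zero =>
          have : (fun i => π ((0 : Fin t → MvPolynomial (Fin n) R) i)) = 0 := by
            funext i
            simp
          rw [this]
          exact Submodule.zero_mem _
        | add x y _ _ hx hy =>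
          have : (fun i => π ((x + y) i)) = (fun i => π (x i)) + fun i => π (y i) := by
            funext i
            simp
          rw [this]
          exact Submodule.add_mem _ hx hy
        | smul c x _ hx =>
          have : (fun i => π ((c • x) i)) = π c • fun i => π (x i) := by
            funext i
            simp
          rw [this]
          exact Submodule.smul_mem _ _ hx
      have h1 := key _ hm
      have h2 : (fun i => π (((f₁ * f₂ * f₃ * f₄) ^ m • v) i)) =
          (algebraMap R S (f₁ * f₂ * f₃ * f₄)) ^ m • w := by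
        funext i
        simp only [Pi.smul_apply, smul_eq_mul, ← map_pow, Algebra.smul_def]
        rw [map_mul, AlgHom.commutes, hv]
      rw [h2] at h1
      exact h1

end Groth.Agent.S0389
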