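import Groth.Statements.S18703
import Groth.Agent.Lib.Helper7.ReflexiveLoc
import Groth.Agent.Lib.Helper21.DepthKit7

set_option autoImplicit false
universe u
open QGor

namespace Groth.Agent.S18703

open Groth.Agent.Lib.Helper7.ReflLoc Groth.Agent.Lib.Helper21.DepthKit RingTheory.Sequence

section aux

variable {A : Type u} [CommRing A] [IsNoetherianRing A]
  {G : Type u} [AddCommGroup G] [Module A G] [Module.Finite A G]

theorem le_radical_of_forall (I J : Ideal A)
    (h : ∀ p : Ideal A, p.IsPrime → ¬ I ≤ p → ¬ J ≤ p) : I ≤ J.radical := by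
  rw [Ideal.radical_eq_sInf]
  apply le_sInf
  rintro p ⟨hJp, hp⟩
  by_contra hIp
  exact h p hp hIp hJp

theorem eq_top_of_forall (J : Ideal A) (h : ∀ p : Ideal A, p.IsPrime → ¬ J ≤ p) : J = ⊤ := by
  by_contra hne
  obtain ⟨m, hm, hJm⟩ := Ideal.exists_le_maximal J hne
  exact h m hm.isPrime hJm

/-- the annihilator ideal of an element -/
def annOf (g : G) : Ideal A := LinearMap.ker (LinearMap.toSpanSingleton A G g)

theorem mem_annOf (g : G) (a : A) : a ∈ annOf g ↔ a • g = 0 := by
  unfold annOf
  rw [LinearMap.mem_ker, LinearMap.toSpanSingleton_apply]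

/-- the conductor of `c` into the range of the evaluation map -/
def condOf (c : Module.Dual A (Module.Dual A G)) : Ideal A :=
  (LinearMap.range (Module.Dual.eval A G)).colon {c}

theorem mem_condOf (c : Module.Dual A (Module.Dual A G)) (a : A) :
    a ∈ condOf c ↔ a • c ∈ LinearMap.range (Module.Dual.eval A G) := by
  unfold condOf
  rw [Submodule.mem_colon_singleton]

theorem annOf_not_le (p : Ideal A) [p.IsPrime]
    [Module.IsReflexive (Localization.AtPrime p) (LocalizedModule p.primeCompl G)]
    (g : G) (hg : Module.Dual.eval A G g = 0) : ¬ annOf g ≤ p := by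
  obtain ⟨s, hs, hsg⟩ := exists_smul_eq_zero_of_eval_eq_zero p g hg
  intro hle
  exact hs (hle ((mem_annOf g s).2 hsg))

theorem condOf_not_le (p : Ideal A) [p.IsPrime]
    [Module.IsReflexive (Localization.AtPrime p) (LocalizedModule p.primeCompl G)]
    (c : Module.Dual A (Module.Dual A G)) : ¬ condOf c ≤ p := by
  obtain ⟨s, hs, g, hsg⟩ := exists_smul_mem_range_eval p c
  intro hle
  exact hs (hle ((mem_condOf c s).2 ⟨g, hsg.symm⟩))

theorem core (I : Ideal A) (x y z : A) (hxI : x ∈ I) (hyI : y ∈ I) (hzI : z ∈ I)
    (hx : IsSMulRegular G x) (hy : IsSMulRegular (QuotSMulTop x G) y) (hz : IsSMulRegular A z)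
    (hinj : Function.Injective (Module.Dual.eval A G))
    (c : Module.Dual A (Module.Dual A G))
    (hc : ∀ a ∈ I, a • c ∈ LinearMap.range (Module.Dual.eval A G)) :
    c ∈ LinearMap.range (Module.Dual.eval A G) := by
  obtain ⟨g₁, h1⟩ := hc x hxI
  obtain ⟨g₂, h2⟩ := hc y hyI
  have h3 : y • g₁ = x • g₂ := hinj (by rw [map_smul, map_smul, h1, h2, smul_comm])
  have h4 : (Submodule.Quotient.mk g₁ : QuotSMulTop x G) = 0 := by
    apply hy
    show y • (Submodule.Quotient.mk g₁ : QuotSMulTop x G) = y • 0
    rw [smul_zero, ← Submodule.Quotient.mk_smul, h3, Submodule.Quotient.mk_eq_zero]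
    exact Submodule.smul_mem_pointwise_smul _ _ _ Submodule.mem_top
  rw [Submodule.Quotient.mk_eq_zero] at h4
  obtain ⟨g', -, hg'⟩ := (Submodule.mem_smul_pointwise_iff_exists _ _ _).1 h4
  have hxd : x • (c - Module.Dual.eval A G g') = 0 := by
    rw [smul_sub, ← h1, ← map_smul, hg', sub_self]
  obtain ⟨g₃', h5⟩ := hc z hzI
  have h6 : Module.Dual.eval A G (g₃' - z • g') = z • (c - Module.Dual.eval A G g') := by
    rw [map_sub, map_smul, h5, smul_sub]
  have h7 : x • (g₃' - z • g') = 0 := by
    apply hinj
    rw [map_smul, h6, smul_comm, hxd, smul_zero, map_zero]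
  have h8 : g₃' - z • g' = 0 := hx (by show x • (g₃' - z • g') = x • 0; rw [h7, smul_zero])
  have h9 : z • (c - Module.Dual.eval A G g') = 0 := by rw [← h6, h8, map_zero]
  have h10 : c - Module.Dual.eval A G g' = 0 := by
    ext f
    have := LinearMap.congr_fun h9 f
    rw [LinearMap.smul_apply, LinearMap.zero_apply] at this
    rw [LinearMap.zero_apply]
    exact hz (by show z • ((c - Module.Dual.eval A G g') f) = z • 0; rw [this, smul_zero])
  exact ⟨g', (sub_eq_zero.1 h10).symm⟩

theorem mem_range_of_pow_le (I : Ideal A) (x y z : A) (hxI : x ∈ I) (hyI : y ∈ I) (hzI : z ∈ I)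
    (hx : IsSMulRegular G x) (hy : IsSMulRegular (QuotSMulTop x G) y) (hz : IsSMulRegular A z)
    (hinj : Function.Injective (Module.Dual.eval A G)) (n : ℕ) :
    ∀ c : Module.Dual A (Module.Dual A G),
      (∀ a ∈ I ^ n, a • c ∈ LinearMap.range (Module.Dual.eval A G)) →
      c ∈ LinearMap.range (Module.Dual.eval A G) := by
  induction n with
  | zero =>
    intro c hc
    have := hc 1 (by simp)
    rwa [one_smul] at this
  | succ n ih =>
    intro c hc
    apply ih c
    intro a ha
    apply core I x y z hxI hyI hzI hx hy hz hinj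
    intro b hb
    rw [smul_smul]
    exact hc (b * a) (by rw [pow_succ']; exact Ideal.mul_mem_mul hb ha)

theorem isReflexive_of_subsingleton (B : Type*) [CommRing B] (N : Type*) [AddCommGroup N]
    [Module B N] [Subsingleton N] : Module.IsReflexive B N := by
  refine ⟨⟨fun a b _ => Subsingleton.elim a b, fun c => ⟨0, ?_⟩⟩⟩
  ext f
  have : f = 0 := by
    ext n
    rw [Subsingleton.elim n 0, map_zero, map_zero]
  rw [this, map_zero, map_zero]

end aux

/-- Affine form. Let A be a Noetherian ring and I an ideal with depth_I A ≥ 1. Let G be a finite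
A-module such that G_p is a reflexive A_p-module for every prime p not containing I (G is reflexive
off V(I)). If depth_I G ≥ 2, then G is reflexive. -/
theorem result (A : Type u) [CommRing A] [IsNoetherianRing A] (I : Ideal A)
    (hA : 1 ≤ LocCoh.idealDepth I A)
    (G : Type u) [AddCommGroup G] [Module A G] [Module.Finite A G]
    (hU : ∀ p : PrimeSpectrum A, ¬ I ≤ p.asIdeal →
      Module.IsReflexive (Localization.AtPrime p.asIdeal) (LocalizedModule p.asIdeal.primeCompl G))
    (hG : 2 ≤ LocCoh.idealDepth I G) : Module.IsReflexive A G := by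
  by_cases hIG : I • (⊤ : Submodule A G) = ⊤
  · -- every prime is good
    have hgood : ∀ p : Ideal A, ∀ hp : p.IsPrime,
        Module.IsReflexive (Localization.AtPrime p) (LocalizedModule p.primeCompl G) := by
      intro p hp
      by_cases hIp : I ≤ p
      · obtain ⟨r, hr, hrG⟩ := Submodule.exists_sub_one_mem_and_smul_eq_zero_of_fg_of_le_smul I
          (⊤ : Submodule A G) Module.Finite.fg_top (by rw [hIG])
        have hrp : r ∉ p := by
          intro h
          apply hp.ne_top
          rw [Ideal.eq_top_iff_one]
          have : (1 : A) = r - (r - 1) := by ring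
          rw [this]
          exact p.sub_mem h (hIp hr)
        haveI : Subsingleton (LocalizedModule p.primeCompl G) := by
          rw [LocalizedModule.subsingleton_iff]
          intro m
          exact ⟨r, hrp, hrG m Submodule.mem_top⟩
        exact isReflexive_of_subsingleton _ _
      · exact hU ⟨p, hp⟩ hIp
    refine ⟨⟨?_, ?_⟩⟩
    · rw [injective_iff_map_eq_zero]
      intro g hg
      have h1 : annOf g = ⊤ := eq_top_of_forall _ (fun p hp => by
        haveI := hp
        haveI := hgood p hp
        exact annOf_not_le p g hg)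
      have h2 : (1 : A) ∈ annOf g := h1 ▸ Submodule.mem_top
      rw [mem_annOf, one_smul] at h2
      exact h2
    · intro c
      have h1 : condOf c = ⊤ := eq_top_of_forall _ (fun p hp => by
        haveI := hp
        haveI := hgood p hp
        exact condOf_not_le p c)
      have h2 : (1 : A) ∈ condOf c := h1 ▸ Submodule.mem_top
      rw [mem_condOf, one_smul] at h2
      exact h2
  · have hIA : I • (⊤ : Submodule A A) ≠ ⊤ := by
      intro h
      apply hIG
      have hI : I = ⊤ := by
        have : I • (⊤ : Submodule A A) = I := Ideal.mul_top I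
        rw [← this]; exact h
      rw [hI]
      exact Submodule.top_smul _
    obtain ⟨z, hzI, hz⟩ := exists_regular_of_one_le_idealDepth I hIA hA
    obtain ⟨rs, hlen, hmem, hreg⟩ := (natCast_le_idealDepth_iff I hIG 2).1 (by exact_mod_cast hG)
    match rs, hlen, hmem, hreg with
    | [x, y], _, hmem, hreg =>
      rw [isWeaklyRegular_cons_iff] at hreg
      obtain ⟨hx, hreg2⟩ := hreg
      rw [isWeaklyRegular_cons_iff] at hreg2
      have hy := hreg2.1
      have hxI : x ∈ I := hmem x (by simp)
      have hyI : y ∈ I := hmem y (by simp)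
      have hinj : Function.Injective (Module.Dual.eval A G) := by
        rw [injective_iff_map_eq_zero]
        intro g hg
        have h1 : I ≤ (annOf g).radical := le_radical_of_forall _ _ (fun p hp hIp => by
          haveI := hp
          haveI := hU ⟨p, hp⟩ hIp
          exact annOf_not_le p g hg)
        obtain ⟨n, hn⟩ := h1 hxI
        rw [mem_annOf] at hn
        exact (hx.pow n) (by show x ^ n • g = x ^ n • 0; rw [hn, smul_zero])
      refine ⟨⟨hinj, ?_⟩⟩
      intro c
      have h1 : I ≤ (condOf c).radical := le_radical_of_forall _ _ (fun p hp hIp => by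
        haveI := hp
        haveI := hU ⟨p, hp⟩ hIp
        exact condOf_not_le p c)
      obtain ⟨n, hn⟩ := Ideal.exists_pow_le_of_le_radical_of_fg h1
        ((isNoetherianRing_iff_ideal_fg A).1 inferInstance I)
      exact mem_range_of_pow_le I x y z hxI hyI hzI hx hy hz hinj n c
        (fun a ha => (mem_condOf c a).1 (hn ha))

end Groth.Agent.S18703
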