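import Groth.Statements.S18722
import Mathlib
import Groth.Agent.Lib.Helper21.FlatLocal14
import Groth.Agent.S18702
import Groth.Agent.S18703

set_option autoImplicit false
universe u
open QGor

namespace Groth.Agent.S18722

open Groth.Agent.Lib.Helper21 Groth.Agent.Lib.Helper21.FlatLocal in
/-- fibre-local-ring depth bounds at the primes containing `J` give `depth_J B ≥ n` for flat `A → B`. -/
theorem le_idealDepth_self_of_fibre (A B : Type u) [CommRing A] [CommRing B]
    [IsNoetherianRing A] [IsNoetherianRing B] [Algebra A B] [Module.Flat A B] (J : Ideal B) (n : ℕ∞)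
    (h : ∀ q : PrimeSpectrum B, J ≤ q.asIdeal →
      n ≤ LocCoh.idealDepth (q.asIdeal.map (algebraMap B (EGA4.FibLocRing A B q.asIdeal)))
        (EGA4.FibLocRing A B q.asIdeal)) :
    n ≤ LocCoh.idealDepth J B := by
  refine le_idealDepth_of_fibre (A := A) (B := B) B J n ?_
  intro q hq
  have h1 := h q hq
  rw [idealDepth_fibLocMod]
  rw [map_fibLocRing_eq (A := A) q.asIdeal,
    ← DepthKit.idealDepth_map_of_surjective (R := Localization.AtPrime q.asIdeal)
      (S := EGA4.FibLocRing A B q.asIdeal) (EGA4.FibLocRing A B q.asIdeal)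
      Ideal.Quotient.mk_surjective (IsLocalRing.maximalIdeal (Localization.AtPrime q.asIdeal))] at h1
  have e := localizedSelfQuotEquiv q.asIdeal
    ((q.asIdeal.comap (algebraMap A B)).map (algebraMap A (Localization.AtPrime q.asIdeal)))
  unfold LocCoh.depth
  rw [DepthKit.idealDepth_congr _ e]
  exact h1

/-- Affine form. Let A → B be a flat homomorphism of Noetherian rings and J an ideal of B such that the
fibre local ring B_q/pB_q has depth ≥ 1 at every prime q ⊇ J (p the contraction of q); let F be a
finite B-module. (1) If F_q is reflexive for every prime q not containing J and depth_J F ≥ 2 (F is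
the module of sections of its restriction off V(J)), then F is reflexive. (2) If F is reflexive and
the fibre local rings at primes q ⊇ J have depth ≥ 2, then depth_J F ≥ 2. -/
theorem result (A B : Type u) [CommRing A] [CommRing B]
    [IsNoetherianRing A] [IsNoetherianRing B] [Algebra A B] [Module.Flat A B] (J : Ideal B)
    (hZ1 : ∀ q : PrimeSpectrum B, J ≤ q.asIdeal →
      1 ≤ LocCoh.idealDepth (q.asIdeal.map (algebraMap B (EGA4.FibLocRing A B q.asIdeal))) (EGA4.FibLocRing A B q.asIdeal))
    (F : Type u) [AddCommGroup F] [Module B F] [Module.Finite B F] :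
    ((∀ q : PrimeSpectrum B, ¬ J ≤ q.asIdeal →
        Module.IsReflexive (Localization.AtPrime q.asIdeal) (LocalizedModule q.asIdeal.primeCompl F)) →
      2 ≤ LocCoh.idealDepth J F → Module.IsReflexive B F) ∧
    (Module.IsReflexive B F →
      (∀ q : PrimeSpectrum B, J ≤ q.asIdeal →
        2 ≤ LocCoh.idealDepth (q.asIdeal.map (algebraMap B (EGA4.FibLocRing A B q.asIdeal))) (EGA4.FibLocRing A B q.asIdeal)) →
      2 ≤ LocCoh.idealDepth J F) := by
  have hB1 : 1 ≤ LocCoh.idealDepth J B := le_idealDepth_self_of_fibre A B J 1 hZ1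
  refine ⟨fun hU hF => Groth.Agent.S18703.result B J hB1 F hU hF, ?_⟩
  intro hrefl hZ2
  have hB2 : 2 ≤ LocCoh.idealDepth J B := le_idealDepth_self_of_fibre A B J 2 hZ2
  exact (Groth.Agent.S18702.result B J F).2.1 hB2

end Groth.Agent.S18722
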