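import Groth.Statements.S18725
import Groth.Agent.Lib.Helper21.FlatOpen
import Groth.Agent.Lib.Helper21.FlatLocal14
import Groth.Agent.Lib.Helper21.DepthKit13
import Groth.Agent.S18708

set_option autoImplicit false
universe u
open QGor

namespace Groth.Agent.S18725
open Groth.Agent.Lib.Helper21 TensorProduct Function IsLocalRing

section Local
variable {A B : Type u} [CommRing A] [CommRing B] [IsNoetherianRing A] [IsNoetherianRing B] [Algebra A B]
  (q : Ideal B) [q.IsPrime]

attribute [local instance] Localization.AtPrime.algebraOfLiesOver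
attribute [local instance] FlatLocal.moduleLoc

instance liesOver_comap : q.LiesOver (q.comap (algebraMap A B)) := ⟨rfl⟩

/-- the depth of the closed fibre of `X_q` over `A_p` along the maximal ideal of `B_q` is the depth of
the fibre stalk. -/
theorem idealDepth_fibMod_loc (X : Type u) [AddCommGroup X] [Module B X] [Module A X]
    [IsScalarTower A B X] :
    LocCoh.idealDepth (maximalIdeal (Localization.AtPrime q))
      (EGA4.FibMod (Localization.AtPrime (q.comap (algebraMap A B))) (Localization.AtPrime q)
        (LocalizedModule q.primeCompl X)) =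
    LocCoh.idealDepth (q.map (algebraMap B (EGA4.FibLocRing A B q))) (EGA4.FibLocMod A B q X) := by
  rw [FlatLocal.idealDepth_fibLocMod]
  unfold LocCoh.depth
  exact DepthKit.idealDepth_congr _ (Submodule.quotEquivOfEq _ _
    (by unfold EGA4.mB; rw [FlatLocal.map_maximalIdeal_loc (q.comap (algebraMap A B)) q]))

variable {F E0 E1 G : Type u} [AddCommGroup F] [Module B F] [Module A F] [IsScalarTower A B F]
    [Module.Finite B F]
    [AddCommGroup E0] [Module B E0] [Module A E0] [IsScalarTower A B E0] [Module.Finite B E0]
    [Module.Flat A E0]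
    [AddCommGroup E1] [Module B E1] [Module A E1] [IsScalarTower A B E1] [Module.Finite B E1]
    [Module.Flat A E1]
    [AddCommGroup G] [Module B G] [Module A G] [IsScalarTower A B G] [Module.Finite B G]
    (f : F →ₗ[B] E0) (u : E0 →ₗ[B] E1) (v : E1 →ₗ[B] G)

theorem exact_loc {X Y Z : Type u} [AddCommGroup X] [Module B X] [AddCommGroup Y] [Module B Y]
    [AddCommGroup Z] [Module B Z] (g : X →ₗ[B] Y) (h : Y →ₗ[B] Z) (hgh : Exact g h) :
    Exact (LocalizedModule.map q.primeCompl g) (LocalizedModule.map q.primeCompl h) :=
  LocalizedModule.map_exact q.primeCompl g h hgh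

/-- (⟹), local part: if `G` is flat at `q` then the fibre stalk of `F` at `q` has depth `≥ 2`. -/
theorem depth_of_flatAt (hf : Injective f) (hfu : Exact f u) (huv : Exact u v) (hv : Surjective v)
    (hG : FlatCA.FlatAt A q G)
    (h0 : 2 ≤ LocCoh.idealDepth (q.map (algebraMap B (EGA4.FibLocRing A B q))) (EGA4.FibLocMod A B q E0))
    (h1 : 1 ≤ LocCoh.idealDepth (q.map (algebraMap B (EGA4.FibLocRing A B q))) (EGA4.FibLocMod A B q E1)) :
    2 ≤ LocCoh.idealDepth (q.map (algebraMap B (EGA4.FibLocRing A B q))) (EGA4.FibLocMod A B q F) := by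
  rw [← idealDepth_fibMod_loc q F]
  rw [← idealDepth_fibMod_loc q E0] at h0
  rw [← idealDepth_fibMod_loc q E1] at h1
  haveI : Module.Flat (Localization.AtPrime (q.comap (algebraMap A B))) (LocalizedModule q.primeCompl E0) :=
    FlatLocal.flat_loc _ q E0
  haveI : Module.Flat (Localization.AtPrime (q.comap (algebraMap A B))) (LocalizedModule q.primeCompl E1) :=
    FlatLocal.flat_loc _ q E1
  haveI : Module.Flat (Localization.AtPrime (q.comap (algebraMap A B))) (LocalizedModule q.primeCompl G) :=
    (Module.flat_iff_of_isLocalization (Localization.AtPrime (q.comap (algebraMap A B)))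
      (q.comap (algebraMap A B)).primeCompl _).2 hG
  exact Groth.Agent.S18708.depth_of_flat (maximalIdeal (Localization.AtPrime q))
    (LocalizedModule.map q.primeCompl f) (LocalizedModule.map q.primeCompl u)
    (LocalizedModule.map q.primeCompl v) (exact_loc q f u hfu) (exact_loc q u v huv)
    (LocalizedModule.map_surjective q.primeCompl v hv)
    (LocalizedModule.map_injective q.primeCompl f hf) h0 h1

/-- (⟸), local part: if `G` is flat at all strictly smaller primes and the fibre stalk of `F` at `q`
has depth `≥ 2`, then `G` is flat at `q`. -/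
theorem flatAt_of_depth (hf : Injective f) (hfu : Exact f u) (huv : Exact u v) (hv : Surjective v)
    (hsmall : ∀ (q' : Ideal B) [q'.IsPrime], q' < q → FlatCA.FlatAt A q' G)
    (h0 : 1 ≤ LocCoh.idealDepth (q.map (algebraMap B (EGA4.FibLocRing A B q))) (EGA4.FibLocMod A B q E0))
    (hF : 2 ≤ LocCoh.idealDepth (q.map (algebraMap B (EGA4.FibLocRing A B q))) (EGA4.FibLocMod A B q F)) :
    FlatCA.FlatAt A q G := by
  rw [← idealDepth_fibMod_loc q F] at hF
  rw [← idealDepth_fibMod_loc q E0] at h0
  haveI : Module.Flat (Localization.AtPrime (q.comap (algebraMap A B))) (LocalizedModule q.primeCompl E0) :=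
    FlatLocal.flat_loc _ q E0
  haveI : Module.Flat (Localization.AtPrime (q.comap (algebraMap A B))) (LocalizedModule q.primeCompl E1) :=
    FlatLocal.flat_loc _ q E1
  have hGU : ∀ Q : PrimeSpectrum (Localization.AtPrime q),
      ¬ maximalIdeal (Localization.AtPrime q) ≤ Q.asIdeal →
      FlatCA.FlatAt (Localization.AtPrime (q.comap (algebraMap A B))) Q.asIdeal
        (LocalizedModule q.primeCompl G) := by
    intro Q hQ
    have hq'le : Q.asIdeal.comap (algebraMap B (Localization.AtPrime q)) ≤ q := by
      have h1 : Q.asIdeal ≤ maximalIdeal (Localization.AtPrime q) := IsLocalRing.le_maximalIdeal Q.isPrime.ne_top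
      calc Q.asIdeal.comap (algebraMap B (Localization.AtPrime q))
          ≤ (maximalIdeal (Localization.AtPrime q)).comap (algebraMap B (Localization.AtPrime q)) :=
            Ideal.comap_mono h1
        _ = q := Localization.AtPrime.comap_maximalIdeal
    have hq'ne : Q.asIdeal.comap (algebraMap B (Localization.AtPrime q)) ≠ q := by
      intro h
      apply hQ
      rw [← Localization.AtPrime.map_eq_maximalIdeal, Ideal.map_le_iff_le_comap, h]
    have hflat := hsmall (Q.asIdeal.comap (algebraMap B (Localization.AtPrime q)))
      (lt_of_le_of_ne hq'le hq'ne)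
    haveI := DepthKit.isLocalizedModule_comp_atPrime q.primeCompl
      (LocalizedModule.mkLinearMap q.primeCompl G) Q.asIdeal
    let e : LocalizedModule (Q.asIdeal.comap (algebraMap B (Localization.AtPrime q))).primeCompl G ≃ₗ[B]
        LocalizedModule Q.asIdeal.primeCompl (LocalizedModule q.primeCompl G) :=
      IsLocalizedModule.iso (Q.asIdeal.comap (algebraMap B (Localization.AtPrime q))).primeCompl
        (((LocalizedModule.mkLinearMap Q.asIdeal.primeCompl
          (LocalizedModule q.primeCompl G)).restrictScalars B) ∘ₗ
          (LocalizedModule.mkLinearMap q.primeCompl G))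
    haveI : Module.Flat A (LocalizedModule (Q.asIdeal.comap (algebraMap B (Localization.AtPrime q))).primeCompl G) :=
      hflat
    have hA : Module.Flat A (LocalizedModule Q.asIdeal.primeCompl (LocalizedModule q.primeCompl G)) :=
      Module.Flat.of_linearEquiv (e.restrictScalars A).symm
    unfold FlatCA.FlatAt
    exact (Module.flat_iff_of_isLocalization (Localization.AtPrime (q.comap (algebraMap A B)))
      (q.comap (algebraMap A B)).primeCompl _).2 hA
  have hres := Groth.Agent.S18708.flat_of_depth (maximalIdeal (Localization.AtPrime q))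
    (LocalizedModule.map q.primeCompl f) (LocalizedModule.map q.primeCompl u)
    (LocalizedModule.map q.primeCompl v) (exact_loc q f u hfu) (exact_loc q u v huv)
    (LocalizedModule.map_surjective q.primeCompl v hv) hGU h0 hF
    (LocalizedModule.map_injective q.primeCompl f hf)
  exact (Module.flat_iff_of_isLocalization (Localization.AtPrime (q.comap (algebraMap A B)))
    (q.comap (algebraMap A B)).primeCompl _).1 hres

end Local



/-- Affine form of the equivalence (c) ⇔ (d). Let A → B be a homomorphism of finite type between
Noetherian rings, J an ideal of B and 0 → F → E⁰ → E¹ → G → 0 an exact sequence of finite B-modules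
such that E⁰, E¹ are flat over A, G_q is flat over A for every prime q not containing J, and for
every prime q ⊇ J with contraction p the fibre stalk E⁰_q/pE⁰_q has depth ≥ 2 and E¹_q/pE¹_q has
depth ≥ 1. Then for a prime n of B the following are equivalent: G is flat over A at n; there is a
basic open neighbourhood D(s) of n such that at every prime q ∈ D(s) the module F is flat over A at
q and, if q ⊇ J, the fibre stalk F_q/pF_q has depth ≥ 2 (the restriction maps of the fibres of F off
V(J) are bijective on D(s)). -/
theorem result (A B : Type u) [CommRing A] [CommRing B]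
    [IsNoetherianRing A] [IsNoetherianRing B] [Algebra A B] (hft : Algebra.FiniteType A B) (J : Ideal B)
    (F E0 E1 G : Type u) [AddCommGroup F] [Module B F] [Module A F] [IsScalarTower A B F] [Module.Finite B F]
    [AddCommGroup E0] [Module B E0] [Module A E0] [IsScalarTower A B E0] [Module.Finite B E0] [Module.Flat A E0]
    [AddCommGroup E1] [Module B E1] [Module A E1] [IsScalarTower A B E1] [Module.Finite B E1] [Module.Flat A E1]
    [AddCommGroup G] [Module B G] [Module A G] [IsScalarTower A B G] [Module.Finite B G]
    (f : F →ₗ[B] E0) (u : E0 →ₗ[B] E1) (v : E1 →ₗ[B] G)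
    (hf : Function.Injective f) (hfu : Function.Exact f u) (huv : Function.Exact u v) (hv : Function.Surjective v)
    (hGU : ∀ q : PrimeSpectrum B, ¬ J ≤ q.asIdeal → FlatCA.FlatAt A q.asIdeal G)
    (h0 : ∀ q : PrimeSpectrum B, J ≤ q.asIdeal →
      2 ≤ LocCoh.idealDepth (q.asIdeal.map (algebraMap B (EGA4.FibLocRing A B q.asIdeal))) (EGA4.FibLocMod A B q.asIdeal E0))
    (h1 : ∀ q : PrimeSpectrum B, J ≤ q.asIdeal →
      1 ≤ LocCoh.idealDepth (q.asIdeal.map (algebraMap B (EGA4.FibLocRing A B q.asIdeal))) (EGA4.FibLocMod A B q.asIdeal E1))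
    (n : PrimeSpectrum B) :
    FlatCA.FlatAt A n.asIdeal G ↔
      ∃ s : B, s ∉ n.asIdeal ∧ ∀ q : PrimeSpectrum B, s ∉ q.asIdeal →
        FlatCA.FlatAt A q.asIdeal F ∧
        (J ≤ q.asIdeal →
          2 ≤ LocCoh.idealDepth (q.asIdeal.map (algebraMap B (EGA4.FibLocRing A B q.asIdeal))) (EGA4.FibLocMod A B q.asIdeal F)) := by
  haveI := hft
  have exS1 : Exact f u.rangeRestrict := by
    intro x
    rw [← hfu x]
    constructor
    · intro h; exact congrArg Subtype.val h
    · intro h; exact Subtype.ext h
  have exS2 : Exact (LinearMap.range u).subtype v := by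
    intro x
    rw [huv x]
    simp
  constructor
  · intro hG
    haveI : Module.Flat A (LocalizedModule n.asIdeal.primeCompl G) := hG
    obtain ⟨s, hsn, hs⟩ := FlatOpen.exists_basicOpen_flat (A := A) G n.asIdeal
    refine ⟨s, hsn, fun q hsq => ?_⟩
    have hGq : FlatCA.FlatAt A q.asIdeal G := hs q.asIdeal hsq
    refine ⟨?_, fun hJq => depth_of_flatAt q.asIdeal f u v hf hfu huv hv hGq (h0 q hJq) (h1 q hJq)⟩
    have hR : FlatCA.FlatAt A q.asIdeal (LinearMap.range u) :=
      Groth.Agent.S18708.flatAt_of_exact (LinearMap.range u).subtype v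
        (Submodule.injective_subtype _) hv exS2 q.asIdeal hGq
    exact Groth.Agent.S18708.flatAt_of_exact f u.rangeRestrict hf
      (LinearMap.surjective_rangeRestrict u) exS1 q.asIdeal hR
  · rintro ⟨s, hsn, hs⟩
    have main : ∀ (k : ℕ) (q : PrimeSpectrum B), q.asIdeal ≤ n.asIdeal → q.asIdeal.height = k →
        FlatCA.FlatAt A q.asIdeal G := by
      intro k
      induction k using Nat.strong_induction_on with
      | _ k ih =>
        intro q hqn hk
        by_cases hJq : J ≤ q.asIdeal
        · have hsq : s ∉ q.asIdeal := fun h => hsn (hqn h)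
          refine flatAt_of_depth q.asIdeal f u v hf hfu huv hv ?_
            (le_trans (by norm_num) (h0 q hJq)) ((hs q hsq).2 hJq)
          intro q' _ hq'q
          have hlt : q'.height < q.asIdeal.height := Ideal.height_strict_mono_of_isPrime hq'q
          have hfin : q'.height ≠ ⊤ := ne_top_of_lt hlt
          obtain ⟨k', hk'⟩ := ENat.ne_top_iff_exists.mp hfin
          have hkk : k' < k := by
            rw [hk, ← hk'] at hlt
            exact_mod_cast hlt
          exact ih k' hkk ⟨q', inferInstance⟩ (le_trans hq'q.le hqn) hk'.symm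
        · exact hGU q hJq
    have hfin : n.asIdeal.height ≠ ⊤ := Ideal.height_ne_top n.isPrime.ne_top
    obtain ⟨k, hk⟩ := ENat.ne_top_iff_exists.mp hfin
    exact main k n le_rfl hk.symm

end Groth.Agent.S18725
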