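import Groth.Statements.S18711
import Mathlib
import Groth.Agent.Lib.Helper21.QuasiInv
import Groth.Agent.Lib.Helper21.RdBC7
import Groth.Agent.Lib.Helper21.FibGen
import Groth.Agent.S18722
import Groth.Agent.S18725
import Groth.Agent.S18700

set_option autoImplicit false
universe u
open QGor

namespace Groth.Agent.S18711

open Groth.Agent.Lib.Helper21 Groth.Agent.Lib.Helper21.RetractUpTo
  Groth.Agent.Lib.Helper21.QuasiInv Function TensorProduct

section Aux
variable {B : Type u} [CommRing B]

/-- monotonicity of the ideal depth in the ideal. -/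
theorem idealDepth_mono {I I' : Ideal B} (h : I ≤ I') (M : Type u) [AddCommGroup M] [Module B M] :
    LocCoh.idealDepth I M ≤ LocCoh.idealDepth I' M := by
  classical
  by_cases h' : I' • (⊤ : Submodule B M) = ⊤
  · rw [LocCoh.idealDepth, LocCoh.idealDepth, if_pos h']
    exact le_top
  · have h0 : I • (⊤ : Submodule B M) ≠ ⊤ := fun h1 => by
      have h2 := Submodule.smul_mono h (le_refl (⊤ : Submodule B M))
      rw [h1] at h2
      exact h' (top_le_iff.1 h2)
    conv_lhs => rw [LocCoh.idealDepth, if_neg h0]
    refine iSup₂_le fun rs hrs => ?_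
    exact DepthKit.length_le_idealDepth I' rs hrs.1 (fun r hr => h (hrs.2 r hr))

variable {E0 E1 G : Type u} [AddCommGroup E0] [Module B E0] [AddCommGroup E1] [Module B E1]
  [Module.Projective B E1] [AddCommGroup G] [Module B G]

/-- a generalized inverse of `u` up to `s`, for `s` in the retract ideal of the cokernel. -/
theorem exists_genInverse (u : E0 →ₗ[B] E1) (v : E1 →ₗ[B] G) (huv : Exact u v)
    (hv : Surjective v) {s : B} (hs : IsRetractUpTo G s) :
    ∃ τ : E1 →ₗ[B] E0, ∀ x, u (τ (u x)) = s • u x := by
  obtain ⟨P, _, _, hf, hp, α, β, hαβ⟩ := hs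
  haveI := hp
  obtain ⟨β', hβ'⟩ := Module.projective_lifting_property v β hv
  have hσ : ∀ g, v (β' (α g)) = s • g := fun g => by
    have h1 := LinearMap.congr_fun hβ' (α g)
    have h2 := LinearMap.congr_fun hαβ g
    simp only [LinearMap.comp_apply, LinearMap.smul_apply, LinearMap.id_apply] at h1 h2
    rw [h1, h2]
  let t : E1 →ₗ[B] E1 := s • LinearMap.id - (β' ∘ₗ α) ∘ₗ v
  have ht : ∀ x, t x ∈ LinearMap.range u := fun x => by
    apply (huv _).1
    show v (s • x - β' (α (v x))) = 0
    rw [map_sub, map_smul, hσ, sub_self]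
  let t' : E1 →ₗ[B] LinearMap.range u := t.codRestrict (LinearMap.range u) ht
  obtain ⟨τ, hτ⟩ := Module.projective_lifting_property u.rangeRestrict t'
    u.surjective_rangeRestrict
  refine ⟨τ, fun x => ?_⟩
  have h1 := congrArg Subtype.val (LinearMap.congr_fun hτ (u x))
  change u (τ (u x)) = t (u x) at h1
  rw [h1]
  show s • u x - β' (α (v (u x))) = s • u x
  rw [(huv (u x)).2 ⟨x, rfl⟩, map_zero, map_zero, sub_zero]

variable (B' : Type u) [CommRing B'] [Algebra B B'] [Module.Finite B E0] [Module.Projective B E0]

/-- the kernel of the base change of `u` is a retract of `B' ⊗ E0` up to `s`. -/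
theorem isRetractUpTo_ker_baseChange (u : E0 →ₗ[B] E1) (τ : E1 →ₗ[B] E0) (s : B)
    (h : ∀ x, u (τ (u x)) = s • u x) :
    IsRetractUpTo (LinearMap.ker (u.baseChange B')) (algebraMap B B' s) := by
  have h' : ∀ x, (u.baseChange B') ((τ.baseChange B') ((u.baseChange B') x)) =
      algebraMap B B' s • (u.baseChange B') x := by
    intro x
    induction x using TensorProduct.induction_on with
    | zero => simp
    | tmul b e =>
      simp only [LinearMap.baseChange_tmul, h]
      rw [TensorProduct.tmul_smul, TensorProduct.smul_tmul', TensorProduct.smul_tmul',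
        Algebra.smul_def, smul_eq_mul]
    | add x y hx hy => simp only [map_add, hx, hy, smul_add]
  let ρ : B' ⊗[B] E0 →ₗ[B'] B' ⊗[B] E0 :=
    algebraMap B B' s • LinearMap.id - (τ.baseChange B') ∘ₗ (u.baseChange B')
  have hρ : ∀ x, ρ x ∈ LinearMap.ker (u.baseChange B') := fun x => by
    rw [LinearMap.mem_ker]
    show (u.baseChange B') (algebraMap B B' s • x - (τ.baseChange B') ((u.baseChange B') x)) = 0
    rw [map_sub, map_smul, h', sub_self]
  refine ⟨B' ⊗[B] E0, inferInstance, inferInstance, inferInstance, inferInstance,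
    (LinearMap.ker (u.baseChange B')).subtype,
    ρ.codRestrict (LinearMap.ker (u.baseChange B')) hρ, ?_⟩
  ext x
  show algebraMap B B' s • (x : B' ⊗[B] E0) - (τ.baseChange B') ((u.baseChange B') x) = _
  rw [LinearMap.mem_ker.1 x.2, map_zero, sub_zero]
  rfl

end Aux

section Proj
variable {A B : Type u} [CommRing A] [CommRing B] [Algebra A B] (q : Ideal B) [q.IsPrime]
  (E : Type u) [AddCommGroup E] [Module B E] [Module.Finite B E] [Module.Projective B E]

/-- the fibre stalk of a finite projective module is finite projective over the fibre local ring. -/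
theorem projective_fibLocMod :
    Module.Projective (EGA4.FibLocRing A B q) (EGA4.FibLocMod A B q E) ∧
      Module.Finite (EGA4.FibLocRing A B q) (EGA4.FibLocMod A B q E) := by
  let I := (q.comap (algebraMap A B)).map (algebraMap A (Localization.AtPrime q))
  let e : (Localization.AtPrime q ⧸ I) ⊗[Localization.AtPrime q] (LocalizedModule q.primeCompl E)
      ≃ₗ[Localization.AtPrime q ⧸ I] EGA4.FibLocMod A B q E :=
    (TensorProduct.quotTensorEquivQuotSMul (LocalizedModule q.primeCompl E) I).extendScalarsOfSurjective
      Ideal.Quotient.mk_surjective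
  exact ⟨Module.Projective.of_equiv e, Module.Finite.equiv e⟩

end Proj

open TensorProduct in
/-- Affine form. Let A → B be a flat homomorphism of Noetherian rings, J an ideal of B such that for
every prime q ⊇ J with contraction p the fibre local ring B_q/pB_q has depth ≥ 2, A → A′ a
homomorphism of Noetherian rings and B′ = A′ ⊗_A B the (Noetherian) pushout. Let 0 → F → E⁰ → E¹ → G
→ 0 be an exact sequence of finite B-modules with E⁰, E¹ projective and F_q, G_q free for every
prime q not containing J. Then F is reflexive; the kernel K′ of B′ ⊗_B E⁰ → B′ ⊗_B E¹ is a reflexive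
B′-module with depth_{JB′} K′ ≥ 2 (so it is the module of sections of the pull-back of F off
V(JB′)); and K′ is flat over A′ with depth ≥ 2 along JB′ on every fibre stalk K′_{q′}/p′K′_{q′} if
and only if B′ ⊗_B G is flat over A′. (The published statement phrases the last left-hand condition
as the relative S₂ condition of K′ over A′; the two agree when the fibres of Spec B′ → Spec A′
satisfy S₂ off V(JB′), and without that the relative S₂ form fails already for A = A′ a field, J =
B, F = E⁰ = B not S₂ and E¹ = G = 0, so the fibrewise-depth form, which is what the proof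
establishes, is stated.) -/
theorem result (A B : Type u) [CommRing A] [CommRing B] [IsNoetherianRing A] [IsNoetherianRing B] [Algebra A B]
    (A' B' : Type u) [CommRing A'] [CommRing B'] [IsNoetherianRing A'] [IsNoetherianRing B']
    [Algebra A A'] [Algebra B B'] [Algebra A' B'] [Algebra A B'] [IsScalarTower A B B'] [IsScalarTower A A' B']
    [Algebra.IsPushout A B A' B'] [Module.Flat A B] (J : Ideal B)
    (hZ : ∀ q : PrimeSpectrum B, J ≤ q.asIdeal →
      2 ≤ LocCoh.idealDepth (q.asIdeal.map (algebraMap B (EGA4.FibLocRing A B q.asIdeal))) (EGA4.FibLocRing A B q.asIdeal))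
    (F E0 E1 G : Type u) [AddCommGroup F] [Module B F] [Module.Finite B F]
    [AddCommGroup E0] [Module B E0] [Module.Finite B E0] [Module.Projective B E0]
    [AddCommGroup E1] [Module B E1] [Module.Finite B E1] [Module.Projective B E1]
    [AddCommGroup G] [Module B G] [Module.Finite B G]
    (f : F →ₗ[B] E0) (u : E0 →ₗ[B] E1) (v : E1 →ₗ[B] G)
    (hf : Function.Injective f) (hfu : Function.Exact f u) (huv : Function.Exact u v) (hv : Function.Surjective v)
    (hFU : ∀ q : PrimeSpectrum B, ¬ J ≤ q.asIdeal → Module.Free (Localization.AtPrime q.asIdeal) (LocalizedModule q.asIdeal.primeCompl F))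
    (hGU : ∀ q : PrimeSpectrum B, ¬ J ≤ q.asIdeal → Module.Free (Localization.AtPrime q.asIdeal) (LocalizedModule q.asIdeal.primeCompl G)) :
    Module.IsReflexive B F ∧
    Module.IsReflexive B' (LinearMap.ker (u.baseChange B')) ∧
    2 ≤ LocCoh.idealDepth (J.map (algebraMap B B')) (LinearMap.ker (u.baseChange B')) ∧
    ((∀ q' : PrimeSpectrum B', FlatCA.FlatAt A' q'.asIdeal (LinearMap.ker (u.baseChange B')) ∧
        2 ≤ LocCoh.idealDepth ((J.map (algebraMap B B')).map (algebraMap B' (EGA4.FibLocRing A' B' q'.asIdeal)))
          (EGA4.FibLocMod A' B' q'.asIdeal (LinearMap.ker (u.baseChange B')))) ↔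
      Module.Flat A' (B' ⊗[B] G)) := by
  classical
  haveI hpo : Algebra.IsPushout A A' B B' := Algebra.IsPushout.symm inferInstance
  haveI : Module.Flat A' B' := Module.Flat.isBaseChange A A' B B' hpo.out
  set J' := J.map (algebraMap B B') with hJ'
  -- depth of the rings along `J`
  have hB2 : 2 ≤ LocCoh.idealDepth J B := Groth.Agent.S18722.le_idealDepth_self_of_fibre A B J 2 hZ
  have hZ' := RdBC.forall_fibre_self_bc A B A' B' J 2 hZ
  have hB'2 : 2 ≤ LocCoh.idealDepth J' B' :=
    Groth.Agent.S18722.le_idealDepth_self_of_fibre A' B' J' 2 hZ'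
  have hB1 : 1 ≤ LocCoh.idealDepth J B := le_trans (by norm_num) hB2
  have hB'1 : 1 ≤ LocCoh.idealDepth J' B' := le_trans (by norm_num) hB'2
  have hcast2 : (2 : ℕ∞) = ((2 : ℕ) : ℕ∞) := rfl
  -- depth of finite projective modules
  have hproj : ∀ (R : Type u) [CommRing R] [IsNoetherianRing R] (I : Ideal R)
      (P : Type u) [AddCommGroup P] [Module R P] [Module.Finite R P] [Module.Projective R P],
      2 ≤ LocCoh.idealDepth I R → 2 ≤ LocCoh.idealDepth I P := by
    intro R _ _ I P _ _ _ _ h
    rw [hcast2] at h ⊢
    exact Groth.Agent.S18702.le_idealDepth_of_reflexive I 2 le_rfl h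
  set u' := u.baseChange B' with hu'
  set v' := v.baseChange B' with hv'
  set K' := LinearMap.ker u' with hK'
  have huv' : Exact u' v' := by
    show Function.Exact ⇑(u.baseChange B') ⇑(v.baseChange B')
    rw [LinearMap.baseChange_eq_ltensor, LinearMap.baseChange_eq_ltensor]
    exact lTensor_exact B' huv hv
  have hvs' : Surjective v' := by
    show Function.Surjective ⇑(v.baseChange B')
    rw [LinearMap.baseChange_eq_ltensor]
    exact LinearMap.lTensor_surjective B' hv
  have hdE0 : 2 ≤ LocCoh.idealDepth J' (B' ⊗[B] E0) := hproj B' J' _ hB'2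
  have hdE1 : 2 ≤ LocCoh.idealDepth J' (B' ⊗[B] E1) := hproj B' J' _ hB'2
  have hdK' : 2 ≤ LocCoh.idealDepth J' K' :=
    (Groth.Agent.S18700.result B' J' (B' ⊗[B] E0) (B' ⊗[B] E1) u').2 hdE0
      (le_trans (by norm_num) hdE1)
  refine ⟨?_, ?_, hdK', ?_⟩
  · -- `F` is reflexive
    obtain ⟨n, hn⟩ := exists_pow_le_retractIdeal F J hFU
    have hdF : 2 ≤ LocCoh.idealDepth J F := by
      have hker : LinearMap.range f = LinearMap.ker u := (LinearMap.exact_iff.1 hfu).symm
      let e : F ≃ₗ[B] LinearMap.ker u :=
        (LinearEquiv.ofInjective f hf).trans (LinearEquiv.ofEq _ _ hker)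
      rw [DepthKit.idealDepth_congr J e]
      exact (Groth.Agent.S18700.result B J E0 E1 u).2 (hproj B J _ hB2)
        (le_trans (by norm_num) (hproj B J E1 hB2))
    exact isReflexive_of_pow_le F J n (hn.trans (retractIdeal_le_quasiInvIdeal_eval F)) hdF hB1
  · -- `K'` is reflexive
    obtain ⟨n, hn⟩ := exists_pow_le_retractIdeal G J hGU
    have hn' : J' ^ n ≤ retractIdeal K' := by
      rw [hJ', ← Ideal.map_pow, Ideal.map_le_iff_le_comap]
      intro s hs
      obtain ⟨τ, hτ⟩ := exists_genInverse u v huv hv (hn hs)
      exact isRetractUpTo_ker_baseChange B' u τ s hτ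
    exact isReflexive_of_pow_le K' J' n (hn'.trans (retractIdeal_le_quasiInvIdeal_eval _)) hdK' hB'1
  · -- the equivalence
    haveI : Module.Flat A' (B' ⊗[B] E0) := Module.Flat.trans A' B' _
    haveI : Module.Flat A' (B' ⊗[B] E1) := Module.Flat.trans A' B' _
    have hf' : Injective K'.subtype := Submodule.injective_subtype _
    have hfu' : Exact K'.subtype u' := LinearMap.exact_subtype_ker_map u'
    -- fibre depths of the projective terms
    have hE : ∀ (E : Type u) [AddCommGroup E] [Module B E] [Module.Finite B E]
        [Module.Projective B E] (r : PrimeSpectrum B'), J' ≤ r.asIdeal →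
        2 ≤ LocCoh.idealDepth (r.asIdeal.map (algebraMap B' (EGA4.FibLocRing A' B' r.asIdeal)))
          (EGA4.FibLocMod A' B' r.asIdeal (B' ⊗[B] E)) := by
      intro E _ _ _ _ r hr
      obtain ⟨h1, h2⟩ := projective_fibLocMod (A := A') r.asIdeal (B' ⊗[B] E)
      haveI := h1
      haveI := h2
      exact hproj _ _ _ (hZ' r hr)
    -- freeness of `B' ⊗ G` off `V(J')`
    have hGfree : ∀ r : PrimeSpectrum B', ¬ J' ≤ r.asIdeal →
        FlatCA.FlatAt A' r.asIdeal (B' ⊗[B] G) := by
      intro r hr
      have h1 : r ∈ Module.freeLocus B' (B' ⊗[B] G) := by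
        apply Module.comap_freeLocus_le
        rw [Set.mem_preimage, Module.mem_freeLocus]
        apply hGU
        intro hle
        exact hr (Ideal.map_le_iff_le_comap.2 hle)
      rw [Module.mem_freeLocus] at h1
      haveI := h1
      unfold FlatCA.FlatAt
      exact Module.Flat.trans A' (Localization.AtPrime r.asIdeal) _
    constructor
    · -- (⇒)
      intro H
      have main : ∀ (k : ℕ) (r : PrimeSpectrum B'), r.asIdeal.height = k →
          FlatCA.FlatAt A' r.asIdeal (B' ⊗[B] G) := by
        intro k
        induction k using Nat.strong_induction_on with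
        | _ k ih =>
          intro r hk
          by_cases hJr : J' ≤ r.asIdeal
          · refine Groth.Agent.S18725.flatAt_of_depth (F := K') r.asIdeal K'.subtype u' v' hf' hfu' huv' hvs' ?_
              (le_trans (by norm_num) (hE E0 r hJr)) ?_
            · intro r' _ hr'r
              have hlt : r'.height < r.asIdeal.height := Ideal.height_strict_mono_of_isPrime hr'r
              have hfin : r'.height ≠ ⊤ := ne_top_of_lt hlt
              obtain ⟨k', hk'⟩ := ENat.ne_top_iff_exists.mp hfin
              have hkk : k' < k := by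
                rw [hk, ← hk'] at hlt
                exact_mod_cast hlt
              exact ih k' hkk ⟨r', inferInstance⟩ hk'.symm
            · refine le_trans (H r).2 (idealDepth_mono ?_ _)
              exact Ideal.map_mono hJr
          · exact hGfree r hJr
      have hall : ∀ r : PrimeSpectrum B', FlatCA.FlatAt A' r.asIdeal (B' ⊗[B] G) := by
        intro r
        have hfin : r.asIdeal.height ≠ ⊤ := Ideal.height_ne_top r.isPrime.ne_top
        obtain ⟨k, hk⟩ := ENat.ne_top_iff_exists.mp hfin
        exact main k r hk.symm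
      exact Module.flat_of_isLocalized_maximal B' (B' ⊗[B] G)
        (fun P _ => LocalizedModule P.primeCompl (B' ⊗[B] G))
        (fun P _ => LocalizedModule.mkLinearMap P.primeCompl (B' ⊗[B] G))
        (fun P hP => hall ⟨P, hP.isPrime⟩)
    · -- (⇐)
      intro hG'
      haveI := hG'
      have hGr : ∀ r : PrimeSpectrum B', FlatCA.FlatAt A' r.asIdeal (B' ⊗[B] G) := fun r =>
        FlatLocal.flat_of_isLocalizedModule r.asIdeal.primeCompl
          (LocalizedModule.mkLinearMap r.asIdeal.primeCompl (B' ⊗[B] G))
      have exS1 : Exact K'.subtype u'.rangeRestrict := by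
        intro x
        rw [← hfu' x]
        constructor
        · intro h; exact congrArg Subtype.val h
        · intro h; exact Subtype.ext h
      have exS2 : Exact (LinearMap.range u').subtype v' := by
        intro x
        rw [huv' x]
        simp
      have hK : ∀ r : PrimeSpectrum B', J' ≤ r.asIdeal →
          2 ≤ LocCoh.idealDepth (r.asIdeal.map (algebraMap B' (EGA4.FibLocRing A' B' r.asIdeal)))
            (EGA4.FibLocMod A' B' r.asIdeal K') := fun r hr =>
        Groth.Agent.S18725.depth_of_flatAt (F := K') r.asIdeal K'.subtype u' v' hf' hfu' huv' hvs' (hGr r)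
          (hE E0 r hr) (le_trans (by norm_num) (hE E1 r hr))
      intro q'
      refine ⟨?_, FibGen.le_idealDepth_fibLocMod_of_forall A' B' J' K' 2 hK q'.asIdeal⟩
      have hR : FlatCA.FlatAt A' q'.asIdeal (LinearMap.range u') :=
        Groth.Agent.S18708.flatAt_of_exact (LinearMap.range u').subtype v'
          (Submodule.injective_subtype _) hvs' exS2 q'.asIdeal (hGr q')
      exact Groth.Agent.S18708.flatAt_of_exact (M' := K') K'.subtype u'.rangeRestrict hf'
        (LinearMap.surjective_rangeRestrict u') exS1 q'.asIdeal hR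

end Groth.Agent.S18711
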