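import Groth.Statements.S18709
import Mathlib
import Groth.Agent.Lib.Helper21.RetractUpTo2
import Groth.Agent.S18711

set_option autoImplicit false
universe u
open QGor

namespace Groth.Agent.S18709

/-- Affine form; the flatness and depth hypotheses of the printed lemma only serve to place the sequence
in the situation of the key proposition and are not needed for the existence. Let B be a Noetherian
ring, J an ideal and F a finite reflexive B-module with F_q free for every prime q not containing J.
Then there is an exact sequence 0 → F → Bⁿ → Bᵐ → G → 0 with G_q free for every prime q not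
containing J. -/
theorem result (B : Type u) [CommRing B] [IsNoetherianRing B]
    (J : Ideal B) (F : Type u) [AddCommGroup F] [Module B F] [Module.Finite B F] [Module.IsReflexive B F]
    (hU : ∀ q : PrimeSpectrum B, ¬ J ≤ q.asIdeal →
      Module.Free (Localization.AtPrime q.asIdeal) (LocalizedModule q.asIdeal.primeCompl F)) :
    ∃ (n m : ℕ) (g : F →ₗ[B] (Fin n → B)) (h : (Fin n → B) →ₗ[B] (Fin m → B)),
      Function.Injective g ∧ Function.Exact g h ∧
      ∀ q : PrimeSpectrum B, ¬ J ≤ q.asIdeal →
        Module.Free (Localization.AtPrime q.asIdeal)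
          (LocalizedModule q.asIdeal.primeCompl ((Fin m → B) ⧸ LinearMap.range h)) := by
  classical
  open Groth.Agent.Lib.Helper21.RetractUpTo in
  haveI : Module.Finite B (Module.Dual B F) := Groth.Agent.S6876.finite_hom
  haveI : Module.FinitePresentation B (Module.Dual B F) := Module.finitePresentation_of_finite B _
  obtain ⟨n, m, π, h₀, hπ, hex⟩ := Module.FinitePresentation.exists_fin' B (Module.Dual B F)
  let en : (Fin n → B) ≃ₗ[B] Module.Dual B (Fin n → B) := (Pi.basisFun B (Fin n)).toDualEquiv
  let em : (Fin m → B) ≃ₗ[B] Module.Dual B (Fin m → B) := (Pi.basisFun B (Fin m)).toDualEquiv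
  let g : F →ₗ[B] (Fin n → B) :=
    en.symm.toLinearMap ∘ₗ π.dualMap ∘ₗ (Module.evalEquiv B F).toLinearMap
  let h : (Fin n → B) →ₗ[B] (Fin m → B) := em.symm.toLinearMap ∘ₗ h₀.dualMap ∘ₗ en.toLinearMap
  have hg : ∀ x, g x = en.symm (π.dualMap (Module.evalEquiv B F x)) := fun _ => rfl
  have hh : ∀ y, h y = em.symm (h₀.dualMap (en y)) := fun _ => rfl
  have hzero : ∀ c, π (h₀ c) = 0 := fun c => (hex (h₀ c)).2 ⟨c, rfl⟩
  refine ⟨n, m, g, h, ?_, ?_, ?_⟩
  · intro x y hxy
    rw [hg, hg] at hxy
    have h1 := en.symm.injective hxy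
    have h2 := LinearMap.dualMap_injective_of_surjective hπ h1
    exact (Module.evalEquiv B F).injective h2
  · intro y
    constructor
    · intro hy
      rw [hh] at hy
      have h1 : h₀.dualMap (en y) = 0 := by
        have := congrArg em hy
        rwa [LinearEquiv.apply_symm_apply, map_zero] at this
      have hle : LinearMap.ker π ≤ LinearMap.ker (en y) := by
        intro c hc
        obtain ⟨d, rfl⟩ := (hex c).1 hc
        have := LinearMap.congr_fun h1 d
        rwa [LinearMap.dualMap_apply, LinearMap.zero_apply] at this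
      let ξ : Module.Dual B (Module.Dual B F) :=
        ((LinearMap.ker π).liftQ (en y) hle) ∘ₗ (π.quotKerEquivOfSurjective hπ).symm.toLinearMap
      have hξ : π.dualMap ξ = en y := by
        refine LinearMap.ext fun c => ?_
        show ((LinearMap.ker π).liftQ (en y) hle) ((π.quotKerEquivOfSurjective hπ).symm (π c)) =
          en y c
        have : (π.quotKerEquivOfSurjective hπ).symm (π c) = Submodule.Quotient.mk c := by
          rw [LinearEquiv.symm_apply_eq]
          rfl
        rw [this]
        rfl
      refine ⟨(Module.evalEquiv B F).symm ξ, ?_⟩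
      rw [hg, LinearEquiv.apply_symm_apply, hξ, LinearEquiv.symm_apply_apply]
    · rintro ⟨x, rfl⟩
      rw [hh, hg, LinearEquiv.apply_symm_apply]
      have : h₀.dualMap (π.dualMap (Module.evalEquiv B F x)) = 0 := by
        refine LinearMap.ext fun c => ?_
        show (Module.evalEquiv B F x) (π (h₀ c)) = 0
        rw [hzero, map_zero]
      rw [this, map_zero]
  · intro q hq
    obtain ⟨k, hk⟩ := exists_pow_le_retractIdeal F J hU
    have hnle : ¬ J ^ k ≤ q.asIdeal := fun hle => hq (q.isPrime.le_of_pow_le hle)
    obtain ⟨s, hsJ, hsq⟩ := SetLike.not_le_iff_exists.1 hnle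
    have hs : IsRetractUpTo (Module.Dual B F) s := (hk hsJ).dual
    obtain ⟨τ, hτ⟩ := Groth.Agent.S18711.exists_genInverse h₀ π hex hπ hs
    have hτ' : ∀ ψ : Module.Dual B (Fin n → B),
        h₀.dualMap (τ.dualMap (h₀.dualMap ψ)) = s • h₀.dualMap ψ := by
      intro ψ
      refine LinearMap.ext fun c => ?_
      show ψ (h₀ (τ (h₀ c))) = s • ψ (h₀ c)
      rw [hτ, map_smul]
    let τ' : (Fin m → B) →ₗ[B] (Fin n → B) :=
      en.symm.toLinearMap ∘ₗ τ.dualMap ∘ₗ em.toLinearMap
    have hτ'' : ∀ y, h (τ' (h y)) = s • h y := by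
      intro y
      show em.symm (h₀.dualMap (en (en.symm (τ.dualMap (em (em.symm (h₀.dualMap (en y)))))))) =
        s • em.symm (h₀.dualMap (en y))
      rw [LinearEquiv.apply_symm_apply, LinearEquiv.apply_symm_apply, hτ', map_smul]
    have hG := isRetractUpTo_quotient_range h τ' s hτ''
    exact free_localizedModule_of_isRetractUpTo _ q.asIdeal hG hsq

end Groth.Agent.S18709
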