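import Groth.Statements.S5794
import Mathlib

set_option autoImplicit false
universe u
open TopDim

namespace Groth.Agent.S5794

open TopologicalSpace in
theorem main (X : Type u) [TopologicalSpace X]
    [TopologicalSpace.NoetherianSpace X] [T0Space X] [Nonempty X] :
    topologicalKrullDim X = 0 ↔ Finite X ∧ DiscreteTopology X := by
  constructor
  · intro h
    have hmax : ∀ Z : IrreducibleCloseds X, IsMax Z :=
      Order.krullDim_nonpos_iff_forall_isMax.mp h.le
    let Zc : X → IrreducibleCloseds X := fun x =>
      ⟨closure {x}, isIrreducible_singleton.closure, isClosed_closure⟩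
    have hcl : ∀ x y : X, y ∈ closure ({x} : Set X) → y = x := by
      intro x y hy
      have hle : Zc y ≤ Zc x := by
        show closure {y} ⊆ closure {x}
        exact closure_minimal (Set.singleton_subset_iff.mpr hy) isClosed_closure
      have hge : Zc x ≤ Zc y := hmax (Zc y) hle
      have heq : closure ({x} : Set X) = closure {y} := Set.Subset.antisymm hge hle
      exact ((inseparable_iff_closure_eq.mpr heq).eq).symm
    have hsub : ∀ Z ∈ irreducibleComponents X, Z.Subsingleton := by
      intro Z hZ
      have hZirr : IsIrreducible Z := hZ.1
      have hZcl : IsClosed Z := isClosed_of_mem_irreducibleComponents Z hZ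
      let Z' : IrreducibleCloseds X := ⟨Z, hZirr, hZcl⟩
      obtain ⟨x, hx⟩ := hZirr.nonempty
      have hle : Zc x ≤ Z' := by
        show closure {x} ⊆ Z
        exact closure_minimal (Set.singleton_subset_iff.mpr hx) hZcl
      have hge : Z' ≤ Zc x := hmax (Zc x) hle
      intro a ha b hb
      rw [hcl x a (hge ha), hcl x b (hge hb)]
    have hfin : (Set.univ : Set X).Finite := by
      rw [← sUnion_irreducibleComponents]
      exact Set.Finite.sUnion NoetherianSpace.finite_irreducibleComponents
        (fun Z hZ => (hsub Z hZ).finite)
    have hF : Finite X := Set.finite_univ_iff.mp hfin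
    have hT1 : T1Space X := ⟨fun x => by
      have : closure ({x} : Set X) = {x} := by
        apply Set.Subset.antisymm
        · intro y hy; exact hcl x y hy
        · exact subset_closure
      rw [← this]; exact isClosed_closure⟩
    exact ⟨hF, inferInstance⟩
  · rintro ⟨_, _⟩
    apply le_antisymm (topologicalKrullDim_zero_of_discreteTopology X)
    obtain ⟨x⟩ := ‹Nonempty X›
    haveI : Nonempty (IrreducibleCloseds X) :=
      ⟨⟨closure {x}, isIrreducible_singleton.closure, isClosed_closure⟩⟩
    exact Order.krullDim_nonneg


/-- Let X be a nonempty Noetherian Kolmogoroff space. Then dim(X) = 0 if and only if X is finite and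
discrete. -/
theorem result (X : Type u) [TopologicalSpace X]
    [TopologicalSpace.NoetherianSpace X] [T0Space X] [Nonempty X] :
    topologicalKrullDim X = 0 ↔ Finite X ∧ DiscreteTopology X := by
  exact main X

end Groth.Agent.S5794
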