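import Groth.Statements.S4573
import Groth.Agent.Lib.Helper5.GeomRegInjK
import Groth.Agent.Lib.Helper5.KahlerInjE
import Groth.Agent.Lib.Helper5.AdicRegG
import Groth.Agent.Lib.Helper5.AdicRegF

set_option autoImplicit false
universe u
open TensorProduct IsLocalRing
open EGA41

namespace Groth.Agent.S4573

/-- Let k be a field of characteristic exponent p and A a Noetherian local k-algebra. Then A is formally
smooth over k for the adic topology of its maximal ideal if and only if, for every finite extension
k' of k with k'^p ⊆ k, the ring k' ⊗_k A is regular. -/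
theorem result {k A : Type u} [Field k] (p : ℕ)
    [ExpChar k p] [CommRing A] [IsLocalRing A] [IsNoetherianRing A] [Algebra k A] :
    CAlgX.IsAdicFormallySmooth k A (maximalIdeal A) ↔
      ∀ (k' : Type u) [Field k'] [Algebra k k'], Module.Finite k k' →
        (∀ x : k', x ^ p ∈ (algebraMap k k').range) → IsRegularRing (k' ⊗[k] A) := by
  constructor
  · intro h k' _ _ hfin _
    exact Groth.Agent.Lib.Helper5.AdicReg.geomRegular_of_adicSmooth h k' hfin
  · intro hA
    have h1 : IsRegularRing (k ⊗[k] A) := hA k (Module.Finite.self k)
      (fun x => ⟨x ^ p, rfl⟩)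
    have h2 : IsRegularRing A :=
      IsRegularRing.of_ringEquiv (Algebra.TensorProduct.lid k A).toRingEquiv
    have h3 : IsRegularLocalRing A := IsRegularLocalRing.of_isRegularRing_of_isLocalRing A
    rcases ‹ExpChar k p› with _ | hprime
    · have hgr : Algebra.IsGeometricallyReduced k (ResidueField A) :=
        Groth.Agent.Lib.Helper5.CohenEqui.geomReduced_of_perfect _ _
      exact Groth.Agent.Lib.Helper5.AdicReg.adicSmooth_of_regular
    · have hfact : Fact p.Prime := ⟨hprime⟩
      refine Groth.Agent.Lib.Helper5.KahlerInj.adicSmooth_of_regular_of_injective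
        (Groth.Agent.Lib.Helper5.GeomRegInj.injective_of_regular_exponent_one k A p ?_)
      intro k' _ _ hfin hx
      exact hA k' hfin (fun x => hx x)

end Groth.Agent.S4573
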