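import Groth.Statements.S5991
import Mathlib
import Groth.Agent.Lib.Helper5.ComplKaehler
import Groth.Agent.S9405
-- import your own Groth.Agent.* helpers here

set_option autoImplicit false
universe u
open scoped TensorProduct
open EGA418

namespace Groth.Agent.S5991

/-- Let k be a field, R and S complete Noetherian local k-algebras such that the module of differentials
of the residue field of S over k is finite-dimensional, and let S be a finite R-algebra through a
k-algebra homomorphism R → S. Write m for the maximal ideal of S and complete m-adically. Then the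
S-module Ω_{S/R} is m-adically complete (it is its own completion), and the sequence of completed
modules (S ⊗_R Ω_{R/k})^ ⟶ (Ω_{S/k})^ ⟶ (Ω_{S/R})^ ⟶ 0, induced by the canonical maps S ⊗_R Ω_{R/k}
⟶ Ω_{S/k} ⟶ Ω_{S/R}, is exact: the second map is surjective and its kernel is the image of the
first. -/
theorem result (k R S : Type u) [Field k] [CommRing R] [IsNoetherianRing R]
    [IsLocalRing R] [Algebra k R] [IsAdicComplete (IsLocalRing.maximalIdeal R) R]
    [CommRing S] [IsNoetherianRing S] [IsLocalRing S] [Algebra k S]
    [IsAdicComplete (IsLocalRing.maximalIdeal S) S] [Algebra R S] [IsScalarTower k R S]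
    [Module.Finite R S] [Module.Finite (IsLocalRing.ResidueField S) (Ω[IsLocalRing.ResidueField S⁄k])] :
    IsAdicComplete (IsLocalRing.maximalIdeal S) (Ω[S⁄R]) ∧
      Function.Surjective (AdicCompletion.map (IsLocalRing.maximalIdeal S) (KaehlerDifferential.map k R S S)) ∧
      LinearMap.range (AdicCompletion.map (IsLocalRing.maximalIdeal S) (KaehlerDifferential.mapBaseChange k R S)) =
        LinearMap.ker (AdicCompletion.map (IsLocalRing.maximalIdeal S) (KaehlerDifferential.map k R S S)) := by

  classical
  have hfin : Module.Finite S Ω[S⁄R] := inferInstance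
  have hcot : Module.Finite (S ⧸ IsLocalRing.maximalIdeal S) (IsLocalRing.maximalIdeal S).Cotangent :=
    inferInstanceAs (Module.Finite (IsLocalRing.ResidueField S) (IsLocalRing.CotangentSpace S))
  have hres : Module.Finite (S ⧸ IsLocalRing.maximalIdeal S) (Ω[S ⧸ IsLocalRing.maximalIdeal S⁄k]) :=
    inferInstanceAs (Module.Finite (IsLocalRing.ResidueField S) (Ω[IsLocalRing.ResidueField S⁄k]))
  have hW : Module.Finite S (AdicCompletion (IsLocalRing.maximalIdeal S) (Ω[S⁄k])) :=
    Groth.Agent.Lib.Helper5.ComplKaehler.finite_completedKaehler (A := k) (IsLocalRing.maximalIdeal S)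
  have hψs : Function.Surjective (KaehlerDifferential.map k R S S) :=
    KaehlerDifferential.map_surjective k R S
  have hex := KaehlerDifferential.exact_mapBaseChange_map k R S
  refine ⟨Groth.Agent.S9405.isAdicComplete_of_finite (IsLocalRing.maximalIdeal S) _,
    AdicCompletion.map_surjective _ hψs, ?_⟩
  apply le_antisymm
  · rintro _ ⟨y, rfl⟩
    rw [LinearMap.mem_ker, AdicCompletion.map_comp_apply]
    have h0 : (KaehlerDifferential.map k R S S) ∘ₗ (KaehlerDifferential.mapBaseChange k R S) = 0 := by
      ext t
      exact hex.apply_apply_eq_zero _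
    rw [h0, AdicCompletion.map_zero]
    rfl
  · intro x hx
    let P : Submodule S (AdicCompletion (IsLocalRing.maximalIdeal S) (Ω[S⁄k])) :=
      LinearMap.range ((AdicCompletion.map (IsLocalRing.maximalIdeal S)
        (KaehlerDifferential.mapBaseChange k R S)).restrictScalars S)
    have hQ : IsHausdorff (IsLocalRing.maximalIdeal S)
        (AdicCompletion (IsLocalRing.maximalIdeal S) (Ω[S⁄k]) ⧸ P) := inferInstance
    have key : ∀ n : ℕ, ∃ p ∈ P, x - p ∈ ((IsLocalRing.maximalIdeal S) ^ n • ⊤ :
        Submodule S (AdicCompletion (IsLocalRing.maximalIdeal S) (Ω[S⁄k]))) := by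
      intro n
      obtain ⟨w, hw⟩ := Submodule.mkQ_surjective _
        (AdicCompletion.eval (IsLocalRing.maximalIdeal S) _ n x)
      have h1 : AdicCompletion.eval (IsLocalRing.maximalIdeal S) _ n
          (AdicCompletion.map (IsLocalRing.maximalIdeal S) (KaehlerDifferential.map k R S S) x) = 0 := by
        rw [LinearMap.mem_ker.mp hx, map_zero]
      have h2 : KaehlerDifferential.map k R S S w ∈
          ((IsLocalRing.maximalIdeal S) ^ n • ⊤ : Submodule S (Ω[S⁄R])) := by
        rw [AdicCompletion.eval_apply, AdicCompletion.map_val_apply] at h1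
        have hw' : x.val n = Submodule.mkQ _ w := hw.symm
        rw [hw'] at h1
        simpa using h1
      have h3 : ((IsLocalRing.maximalIdeal S) ^ n • ⊤ : Submodule S (Ω[S⁄R])) =
          Submodule.map (KaehlerDifferential.map k R S S)
            ((IsLocalRing.maximalIdeal S) ^ n • ⊤ : Submodule S (Ω[S⁄k])) := by
        rw [Submodule.map_smul'', Submodule.map_top, LinearMap.range_eq_top.mpr hψs]
      rw [h3] at h2
      obtain ⟨w', hw'm, hw'e⟩ := h2
      have h4 : KaehlerDifferential.map k R S S (w - w') = 0 := by
        rw [map_sub, hw'e, sub_self]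
      obtain ⟨t, ht⟩ := (hex (w - w')).mp h4
      refine ⟨AdicCompletion.map (IsLocalRing.maximalIdeal S)
        (KaehlerDifferential.mapBaseChange k R S) (AdicCompletion.of (IsLocalRing.maximalIdeal S) _ t),
        ⟨_, rfl⟩, ?_⟩
      rw [AdicCompletion.pow_smul_top_eq_ker_eval (IsNoetherian.noetherian _), LinearMap.mem_ker,
        map_sub, AdicCompletion.map_of, AdicCompletion.eval_of, ht, ← hw, ← map_sub,
        Submodule.mkQ_apply, Submodule.Quotient.mk_eq_zero]
      simpa using hw'm
    have hx0 : P.mkQ x = 0 := by
      apply hQ.haus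
      intro n
      obtain ⟨p, hp, hxp⟩ := key n
      rw [SModEq.zero]
      have : P.mkQ x = P.mkQ (x - p) := by
        rw [map_sub, Submodule.mkQ_apply _ p, (Submodule.Quotient.mk_eq_zero P).mpr hp]
        simp
      rw [this]
      have hle : Submodule.map P.mkQ ((IsLocalRing.maximalIdeal S) ^ n • ⊤ :
          Submodule S (AdicCompletion (IsLocalRing.maximalIdeal S) (Ω[S⁄k]))) ≤
          ((IsLocalRing.maximalIdeal S) ^ n • ⊤ :
            Submodule S (AdicCompletion (IsLocalRing.maximalIdeal S) (Ω[S⁄k]) ⧸ P)) := by
        rw [Submodule.map_smul'']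
        exact smul_mono_right _ le_top
      exact hle ⟨_, hxp, rfl⟩
    obtain ⟨y, hy⟩ := (Submodule.Quotient.mk_eq_zero P).mp hx0
    exact ⟨y, hy⟩

end Groth.Agent.S5991
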