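import Groth.Statements.S9257
import Mathlib
import Groth.Agent.Lib.Helper22.GRingM
import Groth.Agent.Lib.helper19.CompletionLocal
-- import your own Groth.Agent.* helpers here

set_option autoImplicit false
universe u
open CAlg

namespace Groth.Agent.S9257

/-- A Noetherian ring R is a G-ring exactly when, for all primes q ⊆ p of R, the completion of the local
domain (R/q)_p tensored with its fraction field κ(q) is geometrically regular over κ(q). Here the
pairs q ⊆ p are enumerated as primes P of R/q. -/
theorem result (R : Type u) [CommRing R] [IsNoetherianRing R] :
    CAlg.IsGRing R ↔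
      ∀ (q : Ideal R) [q.IsPrime] (P : Ideal (R ⧸ q)) [P.IsPrime],
        CAlg.IsGeometricallyRegular (⊥ : Ideal (Localization.AtPrime P)).ResidueField
          (EGA4.formalFibre (Localization.AtPrime P) (⊥ : Ideal (Localization.AtPrime P))) := by
  classical
  constructor
  · intro hG q _ P _
    haveI := hG.1
    let p : Ideal R := P.comap (algebraMap R (R ⧸ q))
    haveI hp : p.IsPrime := Ideal.comap_isPrime _ _
    haveI : P.LiesOver p := ⟨rfl⟩
    have hqp : q ≤ p := by
      intro x hx
      change algebraMap R (R ⧸ q) x ∈ P
      rw [show algebraMap R (R ⧸ q) x = 0 from Ideal.Quotient.eq_zero_iff_mem.mpr hx]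
      exact zero_mem _
    have hdisj : Disjoint (p.primeCompl : Set R) (q : Set R) := by
      rw [Set.disjoint_left]
      intro x hx hxq
      exact hx (hqp hxq)
    haveI hrprime : (q.map (algebraMap R (Localization.AtPrime p))).IsPrime :=
      IsLocalization.isPrime_of_isPrime_disjoint p.primeCompl _ q inferInstance hdisj
    have hr : (q.map (algebraMap R (Localization.AtPrime p))).comap
        (algebraMap R (Localization.AtPrime p)) = q :=
      IsLocalization.under_map_of_isPrime_disjoint p.primeCompl _ inferInstance hdisj
    exact (Groth.Agent.Lib.Helper22.GRing.geomRegular_fiber_iff R p q P _ hr).mp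
      ((hG.2 p).2 (q.map (algebraMap R (Localization.AtPrime p)))).2
  · intro H
    refine ⟨inferInstance, fun p _ => ?_⟩
    haveI : IsNoetherianRing (Localization.AtPrime p) :=
      IsLocalization.isNoetherianRing p.primeCompl _ inferInstance
    haveI : IsNoetherianRing (AdicCompletion (IsLocalRing.maximalIdeal (Localization.AtPrime p))
        (Localization.AtPrime p)) :=
      Groth.Agent.Lib.helper19.isNoetherianRing_adicCompletion _ _
    refine ⟨AdicCompletion.flat_of_isNoetherian _, fun r _ => ⟨?_, ?_⟩⟩
    · have h1 : Algebra.EssFiniteType
          (AdicCompletion (IsLocalRing.maximalIdeal (Localization.AtPrime p))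
            (Localization.AtPrime p))
          (TensorProduct (Localization.AtPrime p)
            (AdicCompletion (IsLocalRing.maximalIdeal (Localization.AtPrime p))
              (Localization.AtPrime p)) r.ResidueField) := inferInstance
      have h2 : IsNoetherianRing (TensorProduct (Localization.AtPrime p)
            (AdicCompletion (IsLocalRing.maximalIdeal (Localization.AtPrime p))
              (Localization.AtPrime p)) r.ResidueField) :=
        Algebra.EssFiniteType.isNoetherianRing
          (AdicCompletion (IsLocalRing.maximalIdeal (Localization.AtPrime p))
            (Localization.AtPrime p))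
          (TensorProduct (Localization.AtPrime p)
            (AdicCompletion (IsLocalRing.maximalIdeal (Localization.AtPrime p))
              (Localization.AtPrime p)) r.ResidueField)
      exact isNoetherianRing_of_ringEquiv _
        (Algebra.TensorProduct.comm (Localization.AtPrime p)
          (AdicCompletion (IsLocalRing.maximalIdeal (Localization.AtPrime p))
            (Localization.AtPrime p)) r.ResidueField).toRingEquiv
    · let q : Ideal R := r.comap (algebraMap R (Localization.AtPrime p))
      haveI : q.IsPrime := Ideal.comap_isPrime _ _
      have hqp : q ≤ p := by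
        intro x hx
        by_contra hxp
        have hu : IsUnit (algebraMap R (Localization.AtPrime p) x) :=
          IsLocalization.map_units _ (⟨x, hxp⟩ : p.primeCompl)
        exact (Ideal.IsPrime.ne_top inferInstance) (Ideal.eq_top_of_isUnit_mem r hx hu)
      have hker : RingHom.ker (Ideal.Quotient.mk q) ≤ p := by
        rw [Ideal.mk_ker]
        exact hqp
      haveI hPprime : (p.map (Ideal.Quotient.mk q)).IsPrime :=
        Ideal.map_isPrime_of_surjective Ideal.Quotient.mk_surjective hker
      haveI : (p.map (Ideal.Quotient.mk q)).LiesOver p := ⟨by
        change p = (p.map (Ideal.Quotient.mk q)).comap (Ideal.Quotient.mk q)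
        rw [Ideal.comap_map_of_surjective _ Ideal.Quotient.mk_surjective, ← RingHom.ker_eq_comap_bot,
          Ideal.mk_ker]
        exact (sup_eq_left.mpr hqp).symm⟩
      exact (Groth.Agent.Lib.Helper22.GRing.geomRegular_fiber_iff R p q
        (p.map (Ideal.Quotient.mk q)) r rfl).mpr (H q (p.map (Ideal.Quotient.mk q)))

end Groth.Agent.S9257
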