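import Groth.Statements.S0598
import Mathlib
import Groth.Agent.Lib.Helper22.GRingN
import Groth.Agent.S9257
-- import your own Groth.Agent.* helpers here

set_option autoImplicit false
universe u
open CAlg

namespace Groth.Agent.S0598

/-- A Noetherian local ring complete with respect to its maximal ideal is a G-ring. -/
theorem result (R : Type u) [CommRing R] [IsLocalRing R] [IsNoetherianRing R]
    [IsAdicComplete (IsLocalRing.maximalIdeal R) R] : CAlg.IsGRing R := by
  apply (Groth.Agent.S9257.result R).mpr
  intro q _ P _
  haveI : IsLocalRing (R ⧸ q) :=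
    IsLocalRing.of_surjective' (Ideal.Quotient.mk q) Ideal.Quotient.mk_surjective
  haveI : IsAdicComplete (IsLocalRing.maximalIdeal (R ⧸ q)) (R ⧸ q) :=
    Groth.Agent.Lib.Helper5.FlatCohen.isAdicComplete_quotient q
  exact Groth.Agent.Lib.Helper22.GRing.geomRegular_generic_formalFibre (R ⧸ q) P

end Groth.Agent.S0598
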