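import Groth.Statements.S4744
import Mathlib
import Groth.Agent.Lib.Helper21.CMDescent
import Groth.Agent.Lib.Helper21.CMKit
import Groth.Agent.Lib.Helper22.CplDescent
import Groth.Agent.S2717

set_option autoImplicit false
universe u
open EGA4

namespace Groth.Agent.S4744

open Groth.Agent.Lib.Helper21 Groth.Agent.Lib.Helper21.CMKit
open TensorProduct


/-- Let A → A' be a flat local homomorphism of Noetherian local rings all of whose fibre rings k(p) ⊗_A
A' are Cohen–Macaulay. If the completion map of A' is regular (the formal fibres of A' are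
geometrically regular), then the formal fibres of A are Cohen–Macaulay. -/
theorem result (A A' : Type u) [CommRing A] [CommRing A'] [IsNoetherianRing A]
    [IsNoetherianRing A'] [IsLocalRing A] [IsLocalRing A'] [Algebra A A'] [IsLocalHom (algebraMap A A')]
    [Module.Flat A A'] (hf : ∀ (p : Ideal A) [p.IsPrime], LocCoh.IsCohenMacaulayRing (p.Fiber A'))
    (hA' : CAlg.IsRegularHom A' (EGA4.Cpl A')) : EGA4.HasCMFormalFibres A := by
  obtain ⟨alg, htower, hff⟩ := Groth.Agent.Lib.Helper22.CplDescent.exists_cpl_algebra A A'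
  letI := alg
  haveI := htower
  haveI := hff
  haveI : IsNoetherianRing (EGA4.Cpl A') :=
    Groth.Agent.Lib.helper19.isNoetherianRing_adicCompletion A' (IsLocalRing.maximalIdeal A')
  haveI : IsNoetherianRing (EGA4.Cpl A) :=
    Groth.Agent.Lib.helper19.isNoetherianRing_adicCompletion A (IsLocalRing.maximalIdeal A)
  haveI : IsScalarTower A A' (EGA4.Cpl A') := .of_algebraMap_eq (fun _ => rfl)
  haveI : Module.Flat A' (EGA4.Cpl A') := hA'.1
  have hBC : ∀ (q : Ideal A') [q.IsPrime], LocCoh.IsCohenMacaulayRing (q.Fiber (EGA4.Cpl A')) := by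
    intro q hq
    haveI : IsRegularRing (q.ResidueField ⊗[q.ResidueField] q.Fiber (EGA4.Cpl A')) :=
      (hA'.2 q).2 q.ResidueField inferInstance
    let e : (q.ResidueField ⊗[q.ResidueField] q.Fiber (EGA4.Cpl A')) ≃+* q.Fiber (EGA4.Cpl A') :=
      (Algebra.TensorProduct.lid q.ResidueField (q.Fiber (EGA4.Cpl A'))).toRingEquiv
    haveI : IsRegularRing (q.Fiber (EGA4.Cpl A')) :=
      IsRegularRing.of_ringEquiv (R := q.ResidueField ⊗[q.ResidueField] q.Fiber (EGA4.Cpl A')) e
    exact isCM_of_isRegularRing _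
  obtain ⟨hflat, hAC⟩ := Groth.Agent.S2717.result A A' (EGA4.Cpl A') hf hBC
  haveI := hflat
  intro p hp
  exact (CMDescent.CM_fibres_descent A (EGA4.Cpl A) (EGA4.Cpl A') hAC).2 p

end Groth.Agent.S4744
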