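import Groth.Statements.S7666
import Mathlib.RingTheory.Ideal.Height
import Mathlib.RingTheory.Noetherian.Basic
import Mathlib.Algebra.Ring.GeomSum

set_option autoImplicit false
universe u
open CategoryTheory CategoryTheory.Limits AlgebraicGeometry
open Variety

namespace Groth.Agent.S7666

/-- in a local ring of dimension one every prime is minimal or maximal -/
lemma prime_eq_max_of_lt (A : Type u) [CommRing A] [IsLocalRing A] (hdim : ringKrullDim A = 1)
    (p q : Ideal A) [p.IsPrime] [q.IsPrime] (hpq : p < q) : q = IsLocalRing.maximalIdeal A := by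
  by_contra hne
  have hq : q < IsLocalRing.maximalIdeal A :=
    lt_of_le_of_ne (IsLocalRing.le_maximalIdeal (Ideal.IsPrime.ne_top inferInstance)) hne
  have h1 := Ideal.height_add_one_le_of_lt_of_isPrime hpq
  have h2 := Ideal.height_add_one_le_of_lt_of_isPrime hq
  have h3 : (IsLocalRing.maximalIdeal A).height ≤ ringKrullDim A :=
    Ideal.height_le_ringKrullDim_of_isPrime
  rw [hdim] at h3
  have h4 : (IsLocalRing.maximalIdeal A).height ≤ 1 := by exact_mod_cast h3
  have h5 : (2 : ℕ∞) ≤ (IsLocalRing.maximalIdeal A).height := by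
    calc (2 : ℕ∞) = 0 + 1 + 1 := by norm_num
      _ ≤ p.height + 1 + 1 := by gcongr; exact zero_le
      _ ≤ q.height + 1 := by gcongr
      _ ≤ _ := h2
  have := le_trans h5 h4
  norm_num at this


/-- Let A be a one-dimensional Noetherian local ring and L = ∏ A_p, the product over the minimal primes
of A. If a_1, a_2 ∈ m_A have the same image in L, then a_1 and a_2 have equal n-th powers for some
positive integer n. -/
theorem result (A : Type u) [CommRing A]
    [IsLocalRing A] [IsNoetherianRing A] (hdim : ringKrullDim A = 1)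
    (a₁ a₂ : A) (h₁ : a₁ ∈ IsLocalRing.maximalIdeal A) (h₂ : a₂ ∈ IsLocalRing.maximalIdeal A)
    (heq : ∀ p : {p : PrimeSpectrum A // p.asIdeal ∈ minimalPrimes A},
      algebraMap A (Localization.AtPrime p.1.asIdeal) a₁ = algebraMap A (Localization.AtPrime p.1.asIdeal) a₂) :
    ∃ n : ℕ, 0 < n ∧ a₁ ^ n = a₂ ^ n := by
  set d := a₁ - a₂ with hd
  set J : Ideal A := (Ideal.span {d}).annihilator with hJ
  have hJmem : ∀ x, x ∈ J ↔ x * d = 0 := by
    intro x
    rw [hJ, Submodule.mem_annihilator_span_singleton, smul_eq_mul]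
  -- J is not contained in any minimal prime
  have hnot : ∀ p : Ideal A, p ∈ minimalPrimes A → ¬ J ≤ p := by
    intro p hp hle
    haveI : p.IsPrime := hp.1.1
    have h := heq ⟨⟨p, hp.1.1⟩, hp⟩
    obtain ⟨s, hs⟩ := (IsLocalization.eq_iff_exists p.primeCompl _).mp h
    have : (s : A) ∈ J := by
      rw [hJmem, hd, mul_sub, hs, sub_self]
    exact s.2 (hle this)
  -- every prime containing J is the maximal ideal
  have hrad : IsLocalRing.maximalIdeal A ≤ J.radical := by
    rw [Ideal.radical_eq_sInf]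
    apply le_sInf
    rintro q ⟨hJq, hqp⟩
    haveI := hqp
    obtain ⟨p, hp, hpq⟩ := Ideal.exists_minimalPrimes_le (bot_le : (⊥ : Ideal A) ≤ q)
    haveI : p.IsPrime := hp.1.1
    have hne : p ≠ q := by
      rintro rfl
      exact hnot p hp hJq
    have := prime_eq_max_of_lt A hdim p q (lt_of_le_of_ne hpq hne)
    rw [this]
  obtain ⟨N, hN⟩ := Ideal.exists_pow_le_of_le_radical_of_fg hrad
    (IsNoetherian.noetherian (IsLocalRing.maximalIdeal A))
  have k1 : a₁ ^ N * d = 0 := (hJmem _).mp (hN (Ideal.pow_mem_pow h₁ N))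
  have k2 : a₂ ^ N * d = 0 := (hJmem _).mp (hN (Ideal.pow_mem_pow h₂ N))
  refine ⟨2 * N + 1, by omega, ?_⟩
  rw [← sub_eq_zero, ← geom_sum₂_mul, Finset.sum_mul]
  apply Finset.sum_eq_zero
  intro i hi
  rw [Finset.mem_range] at hi
  by_cases hiN : N ≤ i
  · obtain ⟨j, rfl⟩ := Nat.exists_eq_add_of_le hiN
    rw [pow_add]
    calc a₁ ^ N * a₁ ^ j * a₂ ^ (2 * N + 1 - 1 - (N + j)) * (a₁ - a₂)
        = (a₁ ^ N * d) * (a₁ ^ j * a₂ ^ (2 * N + 1 - 1 - (N + j))) := by rw [hd]; ring
      _ = 0 := by rw [k1, zero_mul]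
  · have : 2 * N + 1 - 1 - i = N + (N - i) := by omega
    rw [this, pow_add]
    calc a₁ ^ i * (a₂ ^ N * a₂ ^ (N - i)) * (a₁ - a₂)
        = (a₂ ^ N * d) * (a₁ ^ i * a₂ ^ (N - i)) := by rw [hd]; ring
      _ = 0 := by rw [k2, zero_mul]

end Groth.Agent.S7666
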