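import Groth.Statements.S7667
import Groth.Agent.S7666

set_option autoImplicit false
universe u
open CategoryTheory CategoryTheory.Limits AlgebraicGeometry
open Variety

namespace Groth.Agent.S7667

lemma uniform {ι : Type*} [Finite ι] {P : ι → ℕ → Prop} (h : ∀ i, ∃ M, ∀ n ≥ M, P i n) :
    ∃ M, ∀ i, ∀ n ≥ M, P i n := by
  choose M hM using h
  cases nonempty_fintype ι
  exact ⟨Finset.univ.sup M, fun i n hn =>
    hM i n (le_trans (Finset.le_sup (Finset.mem_univ i)) hn)⟩

/-- index type of minimal primes -/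
abbrev MinP (A : Type u) [CommRing A] := {p : PrimeSpectrum A // p.asIdeal ∈ minimalPrimes A}

/-- product of localizations at minimal primes -/
abbrev LL (A : Type u) [CommRing A] := ∀ p : MinP A, Localization.AtPrime p.1.asIdeal

instance (A : Type u) [CommRing A] [IsNoetherianRing A] : Finite (MinP A) := by
  have hfin : (minimalPrimes A).Finite := minimalPrimes.finite_of_isNoetherianRing A
  have : Finite (minimalPrimes A) := hfin
  refine Finite.of_injective (fun p : MinP A => (⟨p.1.asIdeal, p.2⟩ : minimalPrimes A)) ?_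
  intro p q h
  apply Subtype.ext
  apply PrimeSpectrum.ext
  exact congrArg Subtype.val h

lemma nilp_of_mem (A : Type u) [CommRing A] (p : Ideal A) [p.IsPrime] (hp : p ∈ minimalPrimes A)
    (y : A) (hy : y ∈ p) : IsNilpotent (algebraMap A (Localization.AtPrime p) y) := by
  have h1 := IsLocalization.AtPrime.radical_map_of_mem_minimalPrimes
    (A := Localization.AtPrime p) p ⊥ hp
  have h2 : algebraMap A (Localization.AtPrime p) y ∈
      (Ideal.map (algebraMap A (Localization.AtPrime p)) ⊥).radical := by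
    rw [h1]; exact Ideal.mem_map_of_mem _ hy
  rw [Ideal.map_bot] at h2
  exact h2

/-- separating elements -/
lemma exists_sep (A : Type u) [CommRing A] [IsNoetherianRing A] (p : MinP A) :
    ∃ w : A, w ∉ p.1.asIdeal ∧ ∀ q : MinP A, q ≠ p → w ∈ q.1.asIdeal := by
  classical
  cases nonempty_fintype (MinP A)
  have hnot : ¬ ((Finset.univ.erase p).inf fun q : MinP A => q.1.asIdeal) ≤ p.1.asIdeal := by
    intro hle
    obtain ⟨q, hq, hqp⟩ := (Ideal.IsPrime.inf_le' p.1.isPrime).1 hle
    have hqne : q ≠ p := (Finset.mem_erase.1 hq).1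
    have : p.1.asIdeal ≤ q.1.asIdeal := p.2.2 ⟨q.1.isPrime, bot_le⟩ hqp
    exact hqne (Subtype.ext (PrimeSpectrum.ext (le_antisymm hqp this)))
  obtain ⟨w, hw, hwp⟩ := SetLike.not_le_iff_exists.1 hnot
  refine ⟨w, hwp, fun q hq => ?_⟩
  have := (Finset.inf_le (f := fun q : MinP A => q.1.asIdeal) (Finset.mem_erase.2 ⟨hq, Finset.mem_univ q⟩)) hw
  exact this

open Groth.Agent.S7666 in
/-- Key lemma: `p` minimal, `s ∉ p`, `a ∈ m`: a power of `a` agrees with a multiple of `s` in `A_p`. -/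
lemma key (A : Type u) [CommRing A] [IsLocalRing A] [IsNoetherianRing A]
    (hdim : ringKrullDim A = 1) (p : Ideal A) [p.IsPrime] (hp : p ∈ minimalPrimes A)
    (s : A) (hs : s ∉ p) (a : A) (ha : a ∈ IsLocalRing.maximalIdeal A) :
    ∃ M : ℕ, ∀ n ≥ M, ∃ x : A, algebraMap A (Localization.AtPrime p) (a ^ n) =
      algebraMap A (Localization.AtPrime p) (s * x) := by
  have hrad : a ∈ (Ideal.span {s} ⊔ p).radical := by
    rw [Ideal.radical_eq_sInf, Ideal.mem_sInf]
    rintro q ⟨hq, hqp⟩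
    have hpq : p ≤ q := le_trans le_sup_right hq
    have hne : p ≠ q := by
      rintro rfl
      exact hs (hq (Ideal.mem_sup_left (Ideal.mem_span_singleton_self s)))
    have := prime_eq_max_of_lt A hdim p q (lt_of_le_of_ne hpq hne)
    rw [this]; exact ha
  obtain ⟨e, he⟩ := hrad
  obtain ⟨u, hu, y, hy, huy⟩ := Submodule.mem_sup.1 he
  obtain ⟨x₀, rfl⟩ := Ideal.mem_span_singleton'.1 hu
  obtain ⟨N, hN⟩ := nilp_of_mem A p hp y hy
  have hdvd : x₀ * s ∣ a ^ (e * N) - y ^ N := by
    have := sub_dvd_pow_sub_pow (a ^ e) y N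
    rw [← pow_mul] at this
    rw [← huy, add_sub_cancel_right] at this
    exact this
  obtain ⟨z, hz⟩ := hdvd
  refine ⟨e * N, fun n hn => ⟨a ^ (n - e * N) * x₀ * z, ?_⟩⟩
  have h3 : a ^ n = a ^ (n - e * N) * (x₀ * s * z + y ^ N) := by
    rw [← hz, sub_add_cancel, ← pow_add, Nat.sub_add_cancel hn]
  rw [h3, map_mul, map_add, map_pow _ y, hN, add_zero, ← map_mul]
  congr 1; ring

/-- "idempotent-like" elements -/
lemma exists_idem (A : Type u) [CommRing A] [IsLocalRing A] [IsNoetherianRing A]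
    (hdim : ringKrullDim A = 1) (a : A) (ha : a ∈ IsLocalRing.maximalIdeal A) (p : MinP A) :
    ∃ M : ℕ, ∀ n ≥ M, ∃ e : A, algebraMap A (Localization.AtPrime p.1.asIdeal) e =
      algebraMap A (Localization.AtPrime p.1.asIdeal) (a ^ n) ∧
      ∀ q : MinP A, q ≠ p → algebraMap A (Localization.AtPrime q.1.asIdeal) e = 0 := by
  obtain ⟨w, hwp, hwq⟩ := exists_sep A p
  have h1 : ∀ q : MinP A, ∃ N : ℕ, ∀ n ≥ N, q ≠ p →
      algebraMap A (Localization.AtPrime q.1.asIdeal) (w ^ n) = 0 := by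
    intro q
    by_cases hq : q = p
    · exact ⟨0, fun n _ h => absurd hq h⟩
    · obtain ⟨N, hN⟩ := nilp_of_mem A q.1.asIdeal q.2 w (hwq q hq)
      refine ⟨N, fun n hn _ => ?_⟩
      rw [map_pow]
      exact pow_eq_zero_of_le hn hN
  obtain ⟨N, hN⟩ := uniform h1
  have hs : w ^ N ∉ p.1.asIdeal := fun h => hwp (p.1.isPrime.mem_of_pow_mem N h)
  obtain ⟨M, hM⟩ := key A hdim p.1.asIdeal p.2 (w ^ N) hs a ha
  refine ⟨M, fun n hn => ?_⟩
  obtain ⟨x, hx⟩ := hM n hn
  refine ⟨w ^ N * x, hx.symm, fun q hq => ?_⟩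
  rw [map_mul, hN q N le_rfl hq, zero_mul]

lemma claim (A : Type u) [CommRing A] [IsLocalRing A] [IsNoetherianRing A]
    (hdim : ringKrullDim A = 1) (a : A) (ha : a ∈ IsLocalRing.maximalIdeal A) (l : LL A) :
    ∃ M : ℕ, ∀ n ≥ M, ∃ c : A, algebraMap A (LL A) c = algebraMap A (LL A) a ^ n * l := by
  classical
  have h1 : ∀ p : MinP A, ∃ M : ℕ, ∀ n ≥ M, ∃ c : A,
      algebraMap A (Localization.AtPrime p.1.asIdeal) c =
        algebraMap A (Localization.AtPrime p.1.asIdeal) a ^ n * l p := by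
    intro p
    obtain ⟨⟨b, s⟩, hbs⟩ := IsLocalization.surj p.1.asIdeal.primeCompl (l p)
    obtain ⟨M, hM⟩ := key A hdim p.1.asIdeal p.2 s.1 s.2 a ha
    refine ⟨M, fun n hn => ?_⟩
    obtain ⟨x, hx⟩ := hM n hn
    refine ⟨x * b, ?_⟩
    rw [← map_pow, hx, map_mul, map_mul, ← hbs]
    ring
  obtain ⟨M1, hM1⟩ := uniform h1
  obtain ⟨M2, hM2⟩ := uniform (exists_idem A hdim a ha)
  refine ⟨M1 + M2, fun n hn => ?_⟩
  have hc := fun p => hM1 p (n - M2) (by omega)
  have he := fun p => hM2 p M2 le_rfl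
  choose c hc using hc
  choose e he he' using he
  cases nonempty_fintype (MinP A)
  refine ⟨∑ p, e p * c p, ?_⟩
  funext q
  rw [Pi.algebraMap_apply, map_sum, Finset.sum_eq_single q]
  · rw [map_mul, he, hc, Pi.mul_apply, Pi.pow_apply, Pi.algebraMap_apply, map_pow, ← mul_assoc,
      ← pow_add, Nat.add_sub_cancel' (by omega)]
  · intro p _ hpq
    rw [map_mul, he' p q (Ne.symm hpq), zero_mul]
  · intro h; exact absurd (Finset.mem_univ q) h


/-- Let A be a one-dimensional Noetherian local ring, L the product of the localizations A_p over its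
minimal primes p, and I the intersection of those primes (the nilradical of A). If f ∈ L equals i +
a with a in the maximal ideal of A and i ∈ I·L, then for some positive integer n, f^n belongs to the
subring of L obtained as the image of the structure map from A. -/
theorem result (A : Type u) [CommRing A]
    [IsLocalRing A] [IsNoetherianRing A] (hdim : ringKrullDim A = 1)
    (a : A) (ha : a ∈ IsLocalRing.maximalIdeal A)
    (i : ∀ p : {p : PrimeSpectrum A // p.asIdeal ∈ minimalPrimes A}, Localization.AtPrime p.1.asIdeal)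
    (hi : i ∈ (nilradical A).map (algebraMap A (∀ p : {p : PrimeSpectrum A // p.asIdeal ∈ minimalPrimes A}, Localization.AtPrime p.1.asIdeal))) :
    ∃ n : ℕ, 0 < n ∧ (i + algebraMap A (∀ p : {p : PrimeSpectrum A // p.asIdeal ∈ minimalPrimes A}, Localization.AtPrime p.1.asIdeal) a) ^ n ∈
      (algebraMap A (∀ p : {p : PrimeSpectrum A // p.asIdeal ∈ minimalPrimes A}, Localization.AtPrime p.1.asIdeal)).range := by
  have hle : (nilradical A).map (algebraMap A (LL A)) ≤ nilradical (LL A) := by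
    rw [Ideal.map_le_iff_le_comap]
    intro x hx
    exact (mem_nilradical.1 hx).map _
  obtain ⟨N, hN⟩ := mem_nilradical.1 (hle hi)
  obtain ⟨M, hM⟩ := uniform (fun k : Fin N => claim A hdim a ha (i ^ (k : ℕ)))
  refine ⟨M + N + 1, by omega, ?_⟩
  rw [add_pow]
  refine Subring.sum_mem _ fun m hm => ?_
  by_cases hmN : m < N
  · obtain ⟨c, hc⟩ := hM ⟨m, hmN⟩ (M + N + 1 - m) (by omega)
    refine ⟨c * ((M + N + 1).choose m : A), ?_⟩
    rw [map_mul, hc, map_natCast]
    ring
  · rw [pow_eq_zero_of_le (not_lt.1 hmN) hN, zero_mul, zero_mul]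
    exact Subring.zero_mem _

end Groth.Agent.S7667
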