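import Groth.Statements.S7651
import Groth.Agent.S7667
import Mathlib.Algebra.Group.Pi.Units
import Mathlib.RingTheory.LocalProperties.Reduced

set_option autoImplicit false
universe u
open CategoryTheory CategoryTheory.Limits AlgebraicGeometry
open Variety

namespace Groth.Agent.S7651

open Groth.Agent.S7666 Groth.Agent.S7667

section A0
variable (A : Type u) [CommRing A] [IsLocalRing A]

lemma max_not_minimal (hdim : ringKrullDim A = 1) :
    IsLocalRing.maximalIdeal A ∉ minimalPrimes A := by
  intro hmin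
  have : Ring.KrullDimLE 0 A := by
    rw [Ring.krullDimLE_zero_iff]
    intro I hI
    have h1 : I ≤ IsLocalRing.maximalIdeal A := IsLocalRing.le_maximalIdeal hI.ne_top
    have h2 : IsLocalRing.maximalIdeal A ≤ I := hmin.2 ⟨hI, bot_le⟩ h1
    rw [le_antisymm h1 h2]
    infer_instance
  have h0 : ringKrullDim A ≤ 0 := by
    have h := (Order.krullDimLE_iff (n := 0) (α := PrimeSpectrum A)).1 this
    rw [Nat.cast_zero] at h
    exact h
  rw [hdim] at h0
  norm_num at h0

/-- a prime containing an element outside all minimal primes is maximal -/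
lemma eq_max_of_mem (hdim : ringKrullDim A = 1) (q : Ideal A) [q.IsPrime]
    (h : ∀ p ∈ minimalPrimes A, ¬ q ≤ p) : q = IsLocalRing.maximalIdeal A := by
  obtain ⟨p, hp, hpq⟩ := Ideal.exists_minimalPrimes_le (bot_le : ⊥ ≤ q)
  have hne : p ≠ q := by
    rintro rfl
    exact h p hp le_rfl
  haveI := hp.1.1
  exact prime_eq_max_of_lt A hdim p q (lt_of_le_of_ne hpq hne)

variable [IsNoetherianRing A]

lemma exists_param (hdim : ringKrullDim A = 1) :
    ∃ f ∈ IsLocalRing.maximalIdeal A, ∀ p ∈ minimalPrimes A, f ∉ p := by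
  classical
  have hfin : (minimalPrimes A).Finite := minimalPrimes.finite_of_isNoetherianRing A
  by_contra hcon
  push Not at hcon
  have hsub : (IsLocalRing.maximalIdeal A : Set A) ⊆
      ⋃ q ∈ (hfin.toFinset : Set (Ideal A)), (q : Set A) := by
    intro a ha
    obtain ⟨q, hq, haq⟩ := hcon a ha
    exact Set.mem_biUnion (Finset.mem_coe.mpr (hfin.mem_toFinset.2 hq)) haq
  obtain ⟨q, hq, hle⟩ := (Ideal.subset_union_prime (s := hfin.toFinset) (f := fun q => q)
    (IsLocalRing.maximalIdeal A) (IsLocalRing.maximalIdeal A)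
    (fun q hq _ _ => (hfin.mem_toFinset.1 hq).1.1)).mp hsub
  have hq' := hfin.mem_toFinset.1 hq
  have : q = IsLocalRing.maximalIdeal A :=
    le_antisymm (IsLocalRing.le_maximalIdeal hq'.1.1.ne_top) hle
  exact max_not_minimal A hdim (this ▸ hq')

omit [IsNoetherianRing A] in
lemma rad_iff (hdim : ringKrullDim A = 1) (f : A) (hf : f ∈ IsLocalRing.maximalIdeal A) :
    (IsLocalRing.maximalIdeal A = (Ideal.span {f}).radical) ↔ (∀ p ∈ minimalPrimes A, f ∉ p) := by
  constructor
  · intro h p hp hfp
    haveI := hp.1.1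
    have h1 : (Ideal.span {f}).radical ≤ p :=
      (Ideal.IsPrime.radical_le_iff hp.1.1).2 ((Ideal.span_singleton_le_iff_mem _).2 hfp)
    rw [← h] at h1
    have : p = IsLocalRing.maximalIdeal A :=
      le_antisymm (IsLocalRing.le_maximalIdeal hp.1.1.ne_top) h1
    exact max_not_minimal A hdim (this ▸ hp)
  · intro h
    apply le_antisymm
    · rw [Ideal.radical_eq_sInf]
      refine le_sInf ?_
      rintro q ⟨hq, hqp⟩
      have hfq : f ∈ q := hq (Ideal.mem_span_singleton_self f)
      rw [eq_max_of_mem A hdim q (fun p hp hle => h p hp (hle hfq))]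
    · exact (Ideal.IsPrime.radical_le_iff inferInstance).2
        ((Ideal.span_singleton_le_iff_mem _).2 hf)


section B
variable {A}
variable (f : A) (hf2 : ∀ p ∈ minimalPrimes A, f ∉ p)

include hf2 in
lemma units_LL (y : Submonoid.powers f) : IsUnit (Algebra.ofId A (LL A) y) := by
  obtain ⟨y, k, rfl⟩ := y
  rw [Pi.isUnit_iff]
  intro p
  show IsUnit (algebraMap A (Localization.AtPrime p.1.asIdeal) (f ^ k))
  refine IsLocalization.map_units (M := p.1.asIdeal.primeCompl) _ ⟨f ^ k, ?_⟩
  intro h
  exact hf2 _ p.2 (p.1.isPrime.mem_of_pow_mem k h)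

/-- the comparison map `A_f → ∏ A_p` -/
noncomputable def psi : Localization.Away f →ₐ[A] LL A :=
  IsLocalization.liftAlgHom (M := Submonoid.powers f) (f := Algebra.ofId A (LL A)) (units_LL f hf2)

variable [IsNoetherianRing A]

include hf2 in
lemma psi_injective (hdim : ringKrullDim A = 1) (hf : f ∈ IsLocalRing.maximalIdeal A) :
    Function.Injective (psi f hf2) := by
  rw [injective_iff_map_eq_zero]
  intro x hx
  obtain ⟨b, s, rfl⟩ := IsLocalization.exists_mk'_eq (Submonoid.powers f) x
  have hb : algebraMap A (LL A) b = 0 := by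
    have h1 : psi f hf2 (IsLocalization.mk' (Localization.Away f) b s) *
        algebraMap A (LL A) s = algebraMap A (LL A) b := by
      rw [← (psi f hf2).commutes, ← (psi f hf2).commutes, ← map_mul, IsLocalization.mk'_spec]
    rw [← h1, hx, zero_mul]
  -- `f` lies in the radical of the annihilator of `b`
  have hrad : f ∈ (Ideal.span {b}).annihilator.radical := by
    rw [Ideal.radical_eq_sInf, Ideal.mem_sInf]
    rintro q ⟨hq, hqp⟩
    have := eq_max_of_mem A hdim q (fun p hp hle => by
      haveI := hp.1.1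
      have hbp : algebraMap A (Localization.AtPrime p) b = 0 :=
        congrFun hb ⟨⟨p, hp.1.1⟩, hp⟩
      obtain ⟨c, hc⟩ := (IsLocalization.map_eq_zero_iff p.primeCompl _ b).1 hbp
      have : (c : A) ∈ (Ideal.span {b}).annihilator := by
        rw [Submodule.mem_annihilator_span_singleton]
        exact hc
      exact c.2 (hle (hq this)))
    rw [this]; exact hf
  obtain ⟨N, hN⟩ := hrad
  rw [Submodule.mem_annihilator_span_singleton] at hN
  rw [IsLocalization.mk'_eq_zero_iff]
  exact ⟨⟨f ^ N, N, rfl⟩, hN⟩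

include hf2 in
lemma psi_surjective (hdim : ringKrullDim A = 1) (hf : f ∈ IsLocalRing.maximalIdeal A) :
    Function.Surjective (psi f hf2) := by
  intro l
  obtain ⟨M, hM⟩ := claim A hdim f hf l
  obtain ⟨c, hc⟩ := hM M le_rfl
  refine ⟨IsLocalization.mk' _ c (⟨f ^ M, M, rfl⟩ : Submonoid.powers f), ?_⟩
  have hu : IsUnit (algebraMap A (LL A) f ^ M) := by
    rw [← map_pow]
    exact units_LL f hf2 ⟨f ^ M, M, rfl⟩
  apply hu.mul_left_cancel
  rw [← hc, ← map_pow, ← (psi f hf2).commutes, ← (psi f hf2).commutes c, ← map_mul]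
  congr 1
  rw [mul_comm]
  exact IsLocalization.mk'_spec _ c (⟨f ^ M, M, rfl⟩ : Submonoid.powers f)

end B

end A0


section C
variable (A : Type u) [CommRing A] [IsLocalRing A]

lemma nzd_imp (f : A) (hf : f ∈ nonZeroDivisors A) : ∀ p ∈ minimalPrimes A, f ∉ p := by
  intro p hp hfp
  exact Set.disjoint_left.1 (Ideal.disjoint_nonZeroDivisors_of_mem_minimalPrimes hp) hfp hf

lemma exists_nzd_of_depth (h : LocCoh.depth A A = 1) :
    ∃ t ∈ IsLocalRing.maximalIdeal A, t ∈ nonZeroDivisors A := by
  classical
  by_contra hcon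
  push Not at hcon
  unfold LocCoh.depth LocCoh.idealDepth at h
  split_ifs at h with h1
  · exact absurd h (by simp)
  · have hle : (⨆ (rs : List A) (_ : RingTheory.Sequence.IsWeaklyRegular A rs ∧
        ∀ r ∈ rs, r ∈ IsLocalRing.maximalIdeal A), (rs.length : ℕ∞)) ≤ 0 := by
      refine iSup₂_le fun rs hrs => ?_
      cases rs with
      | nil => simp
      | cons r rs' =>
        exfalso
        have hreg := ((RingTheory.Sequence.isWeaklyRegular_cons_iff A r rs').1 hrs.1).1
        refine hcon r (hrs.2 r List.mem_cons_self) ?_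
        rw [mem_nonZeroDivisors_iff_right]
        intro x hx
        apply hreg
        simp only [smul_eq_mul, mul_zero]
        rw [mul_comm]; exact hx
    rw [h] at hle
    norm_num at hle


lemma nzd_of_param (hdim : ringKrullDim A = 1) (f : A) (hf : f ∈ IsLocalRing.maximalIdeal A)
    (hf2 : ∀ p ∈ minimalPrimes A, f ∉ p) (H : LocCoh.depth A A = 1 ∨ IsReduced A) :
    f ∈ nonZeroDivisors A := by
  rw [mem_nonZeroDivisors_iff_right]
  intro x hx
  rcases H with H | H
  · obtain ⟨t, htm, ht⟩ := exists_nzd_of_depth A H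
    have hrad := (rad_iff A hdim f hf).2 hf2
    have : t ∈ (Ideal.span {f}).radical := hrad ▸ htm
    obtain ⟨k, hk⟩ := this
    obtain ⟨y, hy⟩ := Ideal.mem_span_singleton'.1 hk
    have htk : t ^ k ∈ nonZeroDivisors A := pow_mem ht k
    apply (mem_nonZeroDivisors_iff_right.1 htk) x
    rw [← hy, mul_comm y, ← mul_assoc, hx, zero_mul]
  · have hx' : x ∈ sInf (minimalPrimes A) := by
      rw [Ideal.mem_sInf]
      intro p hp
      have h1 : x * f ∈ p := by rw [hx]; exact p.zero_mem
      exact (hp.1.1.mem_or_mem h1).resolve_right (hf2 p hp)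
    have h2 : sInf (minimalPrimes A) = (⊥ : Ideal A).radical := Ideal.sInf_minimalPrimes
    rw [h2] at hx'
    have h3 : IsNilpotent x := hx'
    exact h3.eq_zero

lemma isLocalization_nzd (hdim : ringKrullDim A = 1) (f : A) (hf : f ∈ IsLocalRing.maximalIdeal A)
    (hf2 : ∀ p ∈ minimalPrimes A, f ∉ p) (hnzd : f ∈ nonZeroDivisors A) :
    IsLocalization (nonZeroDivisors A) (Localization.Away f) := by
  refine IsLocalization.of_le (M := Submonoid.powers f) (S := Localization.Away f)
    (nonZeroDivisors A) ((Submonoid.powers_le).2 hnzd) ?_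
  intro r hr
  by_cases hrm : r ∈ IsLocalRing.maximalIdeal A
  · have hrad := (rad_iff A hdim r hrm).2 (nzd_imp A r hr)
    have : f ∈ (Ideal.span {r}).radical := hrad ▸ hf
    obtain ⟨k, hk⟩ := this
    obtain ⟨y, hy⟩ := Ideal.mem_span_singleton'.1 hk
    have hu : IsUnit (algebraMap A (Localization.Away f) (y * r)) := by
      rw [hy, map_pow]
      exact (IsLocalization.Away.algebraMap_isUnit f).pow k
    rw [map_mul] at hu
    exact isUnit_of_mul_isUnit_right hu
  · have : IsUnit r := by
      by_contra h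
      exact hrm ((IsLocalRing.mem_maximalIdeal r).2 h)
    exact this.map _

lemma param_of_isLocalization_nzd (f : A)
    (h : IsLocalization (nonZeroDivisors A) (Localization.Away f)) :
    ∀ p ∈ minimalPrimes A, f ∉ p := by
  apply nzd_imp
  have hu : IsUnit (algebraMap A (Localization.Away f) f) := IsLocalization.Away.algebraMap_isUnit f
  obtain ⟨z, hz⟩ := hu.exists_right_inv
  obtain ⟨b, s, rfl⟩ := IsLocalization.exists_mk'_eq (nonZeroDivisors A) z
  have h1 : algebraMap A (Localization.Away f) (f * b) = algebraMap A (Localization.Away f) s := by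
    have := IsLocalization.mk'_spec (Localization.Away f) b s
    calc algebraMap A (Localization.Away f) (f * b)
        = algebraMap A (Localization.Away f) f * (IsLocalization.mk' (Localization.Away f) b s *
          algebraMap A (Localization.Away f) s) := by rw [this, map_mul]
      _ = (algebraMap A (Localization.Away f) f * IsLocalization.mk' (Localization.Away f) b s) *
          algebraMap A (Localization.Away f) s := by ring
      _ = _ := by rw [hz, one_mul]
  obtain ⟨c, hc⟩ := (IsLocalization.eq_iff_exists (nonZeroDivisors A) _).1 h1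
  have h2 : f * b = s := (mul_cancel_left_mem_nonZeroDivisors c.2).1 hc
  rw [mem_nonZeroDivisors_iff_right]
  intro x hx
  apply (mem_nonZeroDivisors_iff_right.1 s.2) x
  rw [← h2, ← mul_assoc, hx, zero_mul]

end C

section D
variable (A : Type u) [CommRing A]

lemma maxIdeal_eq_bot_of_reduced [IsReduced A] (p : Ideal A) [p.IsPrime]
    (hp : p ∈ minimalPrimes A) : IsLocalRing.maximalIdeal (Localization.AtPrime p) = ⊥ := by
  rw [eq_bot_iff]
  intro x hx
  rw [← IsLocalization.AtPrime.map_eq_maximalIdeal p (Localization.AtPrime p),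
    ← IsLocalization.AtPrime.radical_map_of_mem_minimalPrimes (A := Localization.AtPrime p) p ⊥ hp,
    Ideal.map_bot] at hx
  have h3 : IsNilpotent x := hx
  rw [h3.eq_zero]
  exact Ideal.zero_mem _

/-- for reduced `A` and minimal `p`, `A_p ≃ κ(p)` -/
noncomputable def resEquiv [IsReduced A] (p : Ideal A) [p.IsPrime]
    (hp : p ∈ minimalPrimes A) : Localization.AtPrime p ≃ₐ[A] p.ResidueField :=
  AlgEquiv.ofBijective (IsScalarTower.toAlgHom A (Localization.AtPrime p) p.ResidueField) (by
    constructor
    · rw [injective_iff_map_eq_zero]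
      intro x hx
      have : x ∈ IsLocalRing.maximalIdeal (Localization.AtPrime p) := by
        rw [← IsLocalRing.residue_eq_zero_iff]
        exact hx
      rw [maxIdeal_eq_bot_of_reduced A p hp] at this
      exact this
    · exact IsLocalRing.residue_surjective)

end D


/-- Let (A, m) be a Noetherian local ring of dimension one and f ∈ m. Then (1) m = √(f), (2) f lies in
no minimal prime of A, and (3) A_f ≅ ∏_{p minimal} A_p as A-algebras, are equivalent; such an f
exists; if A has depth one, for instance if A is reduced, they are also equivalent to (4) f is a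
nonzerodivisor and to (5) A → A_f is the localization of A at all its nonzerodivisors; and if A is
reduced they are also equivalent to (6) A_f ≅ ∏_{p minimal} κ(p) as A-algebras. -/
theorem result (A : Type u) [CommRing A] [IsLocalRing A]
    [IsNoetherianRing A] (hdim : ringKrullDim A = 1) :
    (∃ f ∈ IsLocalRing.maximalIdeal A, ∀ p ∈ minimalPrimes A, f ∉ p) ∧
    ∀ f ∈ IsLocalRing.maximalIdeal A,
      ((IsLocalRing.maximalIdeal A = (Ideal.span {f}).radical) ↔ (∀ p ∈ minimalPrimes A, f ∉ p)) ∧
      ((∀ p ∈ minimalPrimes A, f ∉ p) ↔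
        Nonempty (Localization.Away f ≃ₐ[A] (∀ p : {p : PrimeSpectrum A // p.asIdeal ∈ minimalPrimes A}, Localization.AtPrime p.1.asIdeal))) ∧
      ((LocCoh.depth A A = 1 ∨ IsReduced A) →
        ((∀ p ∈ minimalPrimes A, f ∉ p) ↔ f ∈ nonZeroDivisors A) ∧
        ((∀ p ∈ minimalPrimes A, f ∉ p) ↔ IsLocalization (nonZeroDivisors A) (Localization.Away f))) ∧
      (IsReduced A →
        ((∀ p ∈ minimalPrimes A, f ∉ p) ↔
          Nonempty (Localization.Away f ≃ₐ[A] (∀ p : {p : PrimeSpectrum A // p.asIdeal ∈ minimalPrimes A}, p.1.asIdeal.ResidueField)))) := by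
  refine ⟨exists_param A hdim, fun f hf => ⟨rad_iff A hdim f hf, ⟨fun hf2 => ?_, fun ⟨e⟩ => ?_⟩,
    fun H => ⟨⟨fun hf2 => nzd_of_param A hdim f hf hf2 H, nzd_imp A f⟩,
      ⟨fun hf2 => isLocalization_nzd A hdim f hf hf2 (nzd_of_param A hdim f hf hf2 H),
        param_of_isLocalization_nzd A f⟩⟩,
    fun hred => ⟨fun hf2 => ?_, fun ⟨e⟩ => ?_⟩⟩⟩
  · exact ⟨AlgEquiv.ofBijective (psi f hf2)
      ⟨psi_injective f hf2 hdim hf, psi_surjective f hf2 hdim hf⟩⟩
  · intro p hp hfp
    have hu : IsUnit (algebraMap A (LL A) f) := by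
      rw [← e.commutes]
      exact (IsLocalization.Away.algebraMap_isUnit f).map e
    haveI := hp.1.1
    have hu' := (Pi.isUnit_iff.1 hu) (⟨⟨p, hp.1.1⟩, hp⟩ : MinP A)
    have hu'' : IsUnit (algebraMap A (Localization.AtPrime p) f) := hu'
    exact (IsLocalization.AtPrime.isUnit_to_map_iff (Localization.AtPrime p) p f).1 hu'' hfp
  · exact ⟨(AlgEquiv.ofBijective (psi f hf2)
      ⟨psi_injective f hf2 hdim hf, psi_surjective f hf2 hdim hf⟩).trans
      (AlgEquiv.piCongrRight (fun P : MinP A => resEquiv A P.1.asIdeal P.2))⟩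
  · intro p hp hfp
    have hu : IsUnit (algebraMap A (∀ p : MinP A, p.1.asIdeal.ResidueField) f) := by
      rw [← e.commutes]
      exact (IsLocalization.Away.algebraMap_isUnit f).map e
    haveI := hp.1.1
    have hu' := (Pi.isUnit_iff.1 hu) (⟨⟨p, hp.1.1⟩, hp⟩ : MinP A)
    have hu'' : IsUnit (algebraMap A p.ResidueField f) := hu'
    exact hu''.ne_zero ((Ideal.algebraMap_residueField_eq_zero).2 hfp)

end Groth.Agent.S7651
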