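import Groth.Statements.S16540
-- import your own Groth.Agent.* helpers here
import Mathlib.LinearAlgebra.TensorProduct.RightExactness
import Mathlib.RingTheory.WittVector.Domain
import Mathlib.RingTheory.WittVector.Teichmuller

set_option autoImplicit false
universe u v
open Disp

namespace Groth.Agent.S16540


open Dieu

noncomputable section Helpers

section T

variable {A B : Type u} [CommRing A] [CommRing B] (g : A →+* B)
variable {P : Type v} [AddCommGroup P] [Module A P]
variable (a : A →+* A) (b : B →+* B) (hab : ∀ s, g (a s) = b (g s))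

/-- `x ↦ 1 ⊗ (1 ⊗ x)`. -/
def theta : P →ₛₗ[g.comp a] BC b (BC g P) where
  toFun x := BC.tmul b 1 (BC.tmul g 1 x)
  map_add' x y := by rw [BC.tmul_add, BC.tmul_add]
  map_smul' s x := by
    rw [← BC.tmul_apply_eq, BC.tmul_eq_smul_tmul_one g (g s), ← BC.tmul_mul_apply, one_mul,
      RingHom.comp_apply, hab, BC.tmul_eq_smul_tmul_one b (b (g s))]

/-- `w ⊗ x ↦ g w ⊗ (1 ⊗ x)`. -/
def T : BC a P →ₛₗ[g] BC b (BC g P) :=
  (BC.lift (g.comp a) (theta g a b hab)).comp (BC.push a g)

theorem T_tmul (w : A) (x : P) :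
    T g a b hab (BC.tmul a w x) = BC.tmul b (g w) (BC.tmul g 1 x) := by
  rw [T, LinearMap.comp_apply, BC.push_tmul, BC.lift_tmul]
  change g w • BC.tmul b 1 (BC.tmul g 1 x) = _
  rw [BC.smul_tmul, mul_one]

theorem T_cast {a a' : A →+* A} (ea : a = a') {b b' : B →+* B} (eb : b = b')
    (hab : ∀ s, g (a s) = b (g s)) (hab' : ∀ s, g (a' s) = b' (g s)) (z : BC a P) :
    BC.castHom eb (T g a b hab z) = T g a' b' hab' (BC.castHom ea z) := by
  subst ea eb
  rfl

theorem T_push (c : A →+* A) (d : B →+* B) (hcd : ∀ s, g (c s) = d (g s))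
    (hab2 : ∀ s, g ((c.comp a) s) = (d.comp b) (g s)) (z : BC a P) :
    BC.push b d (T g a b hab z) = T g (c.comp a) (d.comp b) hab2 (BC.push a c z) := by
  induction z using BC.induction_on with
  | zero => rw [map_zero, map_zero, map_zero, map_zero]
  | tmul w x => rw [T_tmul, BC.push_tmul, BC.push_tmul, T_tmul, hcd]
  | add z₁ z₂ h₁ h₂ => rw [map_add, map_add, map_add, map_add, h₁, h₂]

end T

section Ker

open TensorProduct

variable {A B C : Type u} [CommRing A] [CommRing B] [CommRing C] (g : A →+* B) (h : B →+* C)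
variable {P : Type v} [AddCommGroup P] [Module A P]

/-- `b ↦ h b` as an `A`-linear map between the twisted copies. -/
def pi1 : Res g →ₗ[A] Res (h.comp g) where
  toFun t := Res.mk (h.comp g) (h t.val)
  map_add' s t := by apply Res.ext; simp
  map_smul' a t := by apply Res.ext; simp

theorem pi1_surjective (hh : Function.Surjective h) : Function.Surjective (pi1 g h) := by
  intro t
  obtain ⟨b, hb⟩ := hh t.val
  exact ⟨Res.mk g b, Res.ext (h.comp g) hb⟩

theorem kappa_eq (Q : Submodule A P) (y : BC g P) :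
    (BC.push g h) (BC.map g Q.mkQ y) = TensorProduct.map (pi1 g h) Q.mkQ y := by
  induction y using BC.induction_on with
  | zero => rw [map_zero, map_zero]; exact (map_zero _).symm
  | tmul b x => rw [BC.map_tmul, BC.push_tmul]; rfl
  | add z₁ z₂ h₁ h₂ =>
    rw [map_add, map_add, h₁, h₂]
    exact (map_add (TensorProduct.map (pi1 g h) Q.mkQ) _ _).symm

theorem ker_le_aux (hh : Function.Surjective h) (Q : Submodule A P) (Z : Submodule B (BC g P))
    (h1 : ∀ (w : B) (q : P), q ∈ Q → BC.tmul g w q ∈ Z)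
    (h2 : ∀ (w : B) (x : P), h w = 0 → BC.tmul g w x ∈ Z) (y : Res g ⊗[A] P)
    (hy : y ∈ LinearMap.ker (TensorProduct.map (pi1 g h) Q.mkQ)) :
    (show BC g P from y) ∈ Z := by
  rw [TensorProduct.map_ker (LinearMap.exact_subtype_ker_map (pi1 g h))
    (pi1_surjective g h hh) (LinearMap.exact_subtype_mkQ Q) (Submodule.mkQ_surjective Q),
    Submodule.mem_sup] at hy
  obtain ⟨y1, ⟨z1, rfl⟩, y2, ⟨z2, rfl⟩, hsum⟩ := hy
  subst hsum
  refine Z.add_mem (x := show BC g P from _) (y := show BC g P from _) ?_ ?_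
  · induction z1 using TensorProduct.induction_on with
    | zero => rw [map_zero]; exact Z.zero_mem
    | tmul t q => exact h1 t.val q q.2
    | add a b ha hb => rw [map_add]; exact Z.add_mem ha hb
  · induction z2 using TensorProduct.induction_on with
    | zero => rw [map_zero]; exact Z.zero_mem
    | tmul t x =>
      refine h2 t.1.val x ?_
      have := t.2
      rw [LinearMap.mem_ker] at this
      exact congrArg Res.val this
    | add a b ha hb => rw [map_add]; exact Z.add_mem ha hb

theorem ker_le (hh : Function.Surjective h) (Q : Submodule A P) (Z : Submodule B (BC g P))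
    (h1 : ∀ (w : B) (q : P), q ∈ Q → BC.tmul g w q ∈ Z)
    (h2 : ∀ (w : B) (x : P), h w = 0 → BC.tmul g w x ∈ Z) (y : BC g P)
    (hy : (BC.push g h) (BC.map g Q.mkQ y) = 0) : y ∈ Z := by
  rw [kappa_eq] at hy
  exact ker_le_aux g h hh Q Z h1 h2 y hy

end Ker

section Disp

variable {p : ℕ} [Fact p.Prime] {S R : Type u} [CommRing S] [CommRing R]
variable {P : Type v} [AddCommGroup P] [Module (WittVector p S) P]
variable (f : S →+* R)

local notation "σS" => (WittVector.frobenius : WittVector p S →+* WittVector p S)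
local notation "σR" => (WittVector.frobenius : WittVector p R →+* WittVector p R)
local notation "Wf" => (WittVector.map f : WittVector p S →+* WittVector p R)

theorem map_frob (s : WittVector p S) : Wf (σS s) = σR (Wf s) :=
  (WittVector.frobenius_isPoly p).map f s

theorem map_frob_pow (n : ℕ) (s : WittVector p S) : Wf ((σS ^ n) s) = (σR ^ n) (Wf s) := by
  induction n generalizing s with
  | zero => rfl
  | succ n ih =>
    rw [pow_succ, pow_succ]
    change Wf ((σS ^ n) (σS s)) = (σR ^ n) (σR (Wf s))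
    rw [ih, map_frob]

/-- The operator `V^#` of the base change. -/
def VsR (Vs : P →ₗ[WittVector p S] BC σS P) : BC Wf P →ₗ[WittVector p R] BC σR (BC Wf P) :=
  BC.lift Wf ((T Wf σS σR (map_frob f)).comp Vs)

theorem VsR_tmul (Vs : P →ₗ[WittVector p S] BC σS P) (u : WittVector p R) (x : P) :
    VsR f Vs (BC.tmul Wf u x) = u • T Wf σS σR (map_frob f) (Vs x) := by
  rw [VsR, BC.lift_tmul]
  rfl

theorem tmul_one_tmul (u : WittVector p R) (x : P) :
    BC.tmul σR 1 (BC.tmul Wf u x) = σR u • BC.tmul σR 1 (BC.tmul Wf 1 x) := by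
  rw [BC.tmul_eq_smul_tmul_one Wf u, ← BC.tmul_mul_apply, one_mul, BC.tmul_eq_smul_tmul_one σR (σR u)]

theorem VsR_F (D : W4c1extbt610.Display3n p S P)
    (DR : W4c1extbt610.Display3n p R (BC Wf P)) (hDR : IsDispBaseChange f D DR)
    (Vs : P →ₗ[WittVector p S] BC σS P) (hVs : IsVSharp D Vs) (z : BC Wf P) :
    VsR f Vs (DR.F z) = (p : WittVector p R) • BC.tmul σR 1 z := by
  induction z using BC.induction_on with
  | zero => rw [map_zero, map_zero, BC.tmul_zero, smul_zero]
  | tmul u x =>
    have h := hVs.app_smul_F 1 x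
    rw [one_smul] at h
    rw [tmul_one_tmul f u x, hDR.F_tmul, VsR_tmul, h, map_smulₛₗ, map_natCast, T_tmul, map_one,
      smul_comm]
  | add z₁ z₂ h₁ h₂ => rw [map_add, map_add, h₁, h₂, BC.tmul_add, smul_add]

theorem constantCoeff_surjective :
    Function.Surjective (WittVector.constantCoeff : WittVector p R →+* R) :=
  fun r => ⟨WittVector.teichmuller p r, WittVector.teichmuller_coeff_zero p r⟩

theorem exists_verschiebung_eq (w : WittVector p R)
    (h : (WittVector.constantCoeff : WittVector p R →+* R) w = 0) :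
    ∃ u : WittVector p R, WittVector.verschiebung u = w := by
  refine ⟨w.shift 1, ?_⟩
  have := WittVector.eq_iterate_verschiebung (x := w) (n := 1) (by
    intro i hi
    obtain rfl : i = 0 := by omega
    exact h)
  exact this.symm

theorem mem_Q_iff {D : W4c1extbt610.Display3n p S P}
    {DR : W4c1extbt610.Display3n p R (BC Wf P)} (hDR : IsDispBaseChange f D DR) (y : BC Wf P) :
    y ∈ DR.Q ↔ bcQuotMap f D.Q y = 0 := by
  rw [hDR.Q_eq, LinearMap.mem_ker]

theorem tmul_mem_Q {D : W4c1extbt610.Display3n p S P}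
    {DR : W4c1extbt610.Display3n p R (BC Wf P)} (hDR : IsDispBaseChange f D DR)
    (w : WittVector p R) (q : P) (hq : q ∈ D.Q) : BC.tmul Wf w q ∈ DR.Q := by
  rw [mem_Q_iff f hDR, bcQuotMap_tmul, Submodule.mkQ_apply, (Submodule.Quotient.mk_eq_zero _).2 hq,
    BC.tmul_zero]

theorem verschiebung_tmul_mem_Q {D : W4c1extbt610.Display3n p S P}
    {DR : W4c1extbt610.Display3n p R (BC Wf P)} (hDR : IsDispBaseChange f D DR)
    (w : WittVector p R) (x : P) : BC.tmul Wf (WittVector.verschiebung w) x ∈ DR.Q := by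
  have h0 : (WittVector.constantCoeff : WittVector p R →+* R) (WittVector.verschiebung w) = 0 :=
    WittVector.verschiebung_coeff_zero w
  rw [mem_Q_iff f hDR, bcQuotMap_tmul, h0, BC.zero_tmul]

theorem VsR_Vinv (D : W4c1extbt610.Display3n p S P)
    (DR : W4c1extbt610.Display3n p R (BC Wf P)) (hDR : IsDispBaseChange f D DR)
    (Vs : P →ₗ[WittVector p S] BC σS P) (hVs : IsVSharp D Vs) (y : DR.Q) :
    VsR f Vs (DR.Vinv y) = BC.tmul σR 1 (y : BC Wf P) := by
  let f₁ : DR.Q →ₛₗ[σR] BC σR (BC Wf P) := (VsR f Vs).comp DR.Vinv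
  let f₂ : DR.Q →ₛₗ[σR] BC σR (BC Wf P) := (BC.ι σR (BC Wf P)).comp DR.Q.subtype
  have key : DR.Q ≤ Submodule.map DR.Q.subtype (LinearMap.eqLocus f₁ f₂) := by
    intro y hy
    rw [mem_Q_iff f hDR] at hy
    refine ker_le Wf (WittVector.constantCoeff : WittVector p R →+* R) constantCoeff_surjective
      D.Q _ ?_ ?_ y hy
    · intro w q hq
      have hmem := tmul_mem_Q f hDR w q hq
      refine ⟨⟨_, hmem⟩, ?_, rfl⟩
      change VsR f Vs (DR.Vinv ⟨BC.tmul Wf w q, hmem⟩) = BC.tmul σR 1 (BC.tmul Wf w q)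
      have e1 : DR.Vinv ⟨BC.tmul Wf w q, hmem⟩ = BC.tmul Wf (σR w) (D.Vinv ⟨q, hq⟩) :=
        hDR.Vinv_tmul w ⟨q, hq⟩ hmem
      have h := hVs.app_smul_Vinv 1 ⟨q, hq⟩
      rw [one_smul] at h
      rw [tmul_one_tmul f w q, e1, VsR_tmul, h, T_tmul, map_one]
    · intro w x hw
      obtain ⟨u, rfl⟩ := exists_verschiebung_eq w hw
      have hmem := verschiebung_tmul_mem_Q f hDR u x
      refine ⟨⟨_, hmem⟩, ?_, rfl⟩
      change VsR f Vs (DR.Vinv ⟨BC.tmul Wf (WittVector.verschiebung u) x, hmem⟩) =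
        BC.tmul σR 1 (BC.tmul Wf (WittVector.verschiebung u) x)
      have h := hVs.app_smul_F 1 x
      rw [one_smul] at h
      rw [tmul_one_tmul f (WittVector.verschiebung u) x, hDR.Vinv_verschiebung_tmul u x hmem,
        VsR_tmul, h, map_smulₛₗ, map_natCast, T_tmul, map_one]
      change _ = WittVector.frobenius (WittVector.verschiebung u) • _
      rw [WittVector.frobenius_verschiebung, mul_smul]
  obtain ⟨y', hy', hyy⟩ := key y.2
  have : y' = y := Subtype.ext hyy
  subst this
  exact hy'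

theorem vSharpPow_VsR (Vs : P →ₗ[WittVector p S] BC σS P) (n : ℕ) (x : P) :
    vSharpPow (VsR f Vs) n (BC.tmul Wf 1 x) =
      T Wf (σS ^ (n + 1)) (σR ^ (n + 1)) (map_frob_pow f (n + 1)) (vSharpPow Vs n x) := by
  induction n generalizing x with
  | zero =>
    rw [vSharpPow_zero_apply, vSharpPow_zero_apply, VsR_tmul, one_smul]
    exact T_cast Wf _ _ _ _ _
  | succ n ih =>
    rw [vSharpPow_succ_apply, vSharpPow_succ_apply, VsR_tmul, one_smul]
    generalize Vs x = z
    induction z using BC.induction_on with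
    | zero => simp only [map_zero]
    | tmul w y =>
      rw [T_tmul, BC.map_tmul, ih, BC.lift_tmul, BC.map_tmul, BC.lift_tmul, map_smul, map_smul,
        map_smulₛₗ]
      congr 1
      rw [T_push Wf (σS ^ (n + 1)) (σR ^ (n + 1)) (map_frob_pow f (n + 1)) σS σR (map_frob f)
        (fun s => by rw [RingHom.comp_apply, RingHom.comp_apply, map_frob, map_frob_pow])]
      exact T_cast Wf _ _ _ _ _
    | add z₁ z₂ h₁ h₂ => simp only [map_add, h₁, h₂]

theorem map_mem_J (j : WittVector p S)
    (hj : j ∈ W4c1extbt610.IV p S ⊔ Ideal.span {(p : WittVector p S)}) :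
    Wf j ∈ W4c1extbt610.IV p R ⊔ Ideal.span {(p : WittVector p R)} := by
  have : W4c1extbt610.IV p S ⊔ Ideal.span {(p : WittVector p S)} ≤
      Ideal.comap Wf (W4c1extbt610.IV p R ⊔ Ideal.span {(p : WittVector p R)}) := by
    refine sup_le ?_ ?_
    · rw [W4c1extbt610.IV, Ideal.span_le]
      rintro _ ⟨w, rfl⟩
      rw [SetLike.mem_coe, Ideal.mem_comap]
      change WittVector.map f (WittVector.verschiebung w) ∈ _
      rw [WittVector.map_verschiebung]
      exact Ideal.mem_sup_left (W4c1extbt610.verschiebung_mem_IV p R _)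
    · rw [Ideal.span_le, Set.singleton_subset_iff, SetLike.mem_coe, Ideal.mem_comap, map_natCast]
      exact Ideal.mem_sup_right (Ideal.subset_span rfl)
  exact this hj

theorem T_mem (n : ℕ) (z : BC (σS ^ (n + 1)) P)
    (hz : z ∈ (W4c1extbt610.IV p S ⊔ Ideal.span {(p : WittVector p S)}) •
      (⊤ : Submodule (WittVector p S) (BC (σS ^ (n + 1)) P))) :
    T Wf (σS ^ (n + 1)) (σR ^ (n + 1)) (map_frob_pow f (n + 1)) z ∈
      (W4c1extbt610.IV p R ⊔ Ideal.span {(p : WittVector p R)}) •
        (⊤ : Submodule (WittVector p R) (BC (σR ^ (n + 1)) (BC Wf P))) := by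
  refine Submodule.smul_induction_on hz ?_ ?_
  · intro j hj z _
    rw [map_smulₛₗ]
    exact Submodule.smul_mem_smul (map_mem_J f j hj) Submodule.mem_top
  · intro a b ha hb
    rw [map_add]
    exact Submodule.add_mem _ ha hb

end Disp

end Helpers

/-- Let p be a prime, S a commutative ring in which p is nilpotent, f : S → R a homomorphism of
commutative rings, and (P, Q, F, V⁻¹) a display over S, that is, a 3n-display whose operator V#
satisfies the nilpotence condition. Let (P_R, Q_R, F_R, V_R⁻¹) be a 3n-display structure on P_R =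
W(R) ⊗_{W(S)} P which is the base change of (P, Q, F, V⁻¹) along f (Q_R the kernel of P_R → R ⊗_S
(P/Q), F_R(w ⊗ x) = σ(w) ⊗ F x, V_R⁻¹(w ⊗ y) = σ(w) ⊗ V⁻¹ y for y ∈ Q, V_R⁻¹(V(w) ⊗ x) = w ⊗ F x).
Then (P_R, Q_R, F_R, V_R⁻¹) is a display over R. -/
theorem result (p : ℕ) [Fact p.Prime] (S R : Type u) [CommRing S] [CommRing R]
    (hp : IsNilpotent (p : S)) (f : S →+* R)
    (P : Type v) [AddCommGroup P] [Module (WittVector p S) P] (D : W4c1extbt610.Display3n p S P)
    (hD : Dieu.IsDisplay D)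
    (DR : W4c1extbt610.Display3n p R (Dieu.BC (WittVector.map f : WittVector p S →+* WittVector p R) P)) (hDR : Dieu.IsDispBaseChange f D DR) :
    Dieu.IsDisplay DR := by
  obtain ⟨Vs, hVs, n, hn⟩ := hD
  refine ⟨VsR f Vs, ⟨?_, ?_⟩, n, ?_⟩
  · intro w z
    rw [map_smul, VsR_F f D DR hDR Vs hVs, smul_comm, BC.smul_tmul, mul_one]
  · intro w y
    rw [map_smul, VsR_Vinv f D DR hDR Vs hVs, BC.smul_tmul, mul_one]
  · intro z
    induction z using Dieu.BC.induction_on with
    | zero => rw [map_zero]; exact Submodule.zero_mem _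
    | tmul u x =>
      rw [Dieu.BC.tmul_eq_smul_tmul_one, map_smul, vSharpPow_VsR]
      exact Submodule.smul_mem _ _ (T_mem f n _ (hn x))
    | add z₁ z₂ h₁ h₂ => rw [map_add]; exact Submodule.add_mem _ h₁ h₂

end Groth.Agent.S16540
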