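import Groth.Statements.S6337
import Groth.Agent.Lib.Helper14.MLProd
import Mathlib.LinearAlgebra.DirectSum.TensorProduct

set_option autoImplicit false
universe u
open CAlg

namespace Groth.Agent.S6337

open Groth.Agent.Lib.Helper14.MLProd TensorProduct

section

variable {R : Type u} [CommRing R] {ι : Type u} (M : ι → Type u)
    [∀ i, AddCommGroup (M i)] [∀ i, Module R (M i)]

lemma directSumLeft_apply [DecidableEq ι] (N : Type u) [AddCommGroup N] [Module R N]
    (x : (DirectSum ι M) ⊗[R] N) (j : ι) :
    TensorProduct.directSumLeft R R M N x j =
      LinearMap.rTensor N (DirectSum.component R ι M j) x := by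
  induction x using TensorProduct.induction_on with
  | zero => simp
  | tmul m n => rw [TensorProduct.directSumLeft_tmul]; rfl
  | add y z hy hz => rw [map_add, map_add, DirectSum.add_apply, hy, hz]

lemma eq_zero_of_components [DecidableEq ι] (N : Type u) [AddCommGroup N] [Module R N]
    (x : (DirectSum ι M) ⊗[R] N)
    (h : ∀ j, LinearMap.rTensor N (DirectSum.component R ι M j) x = 0) : x = 0 := by
  apply (TensorProduct.directSumLeft R R M N).injective
  rw [map_zero]
  apply DFinsupp.ext
  intro j
  rw [directSumLeft_apply, h j]
  rfl

lemma lof_univInj [DecidableEq ι] (i : ι) :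
    CAlgX.UniversallyInjective R (DirectSum.lof R ι M i) := by
  intro Q _ _
  apply Function.LeftInverse.injective (g := LinearMap.rTensor Q (DirectSum.component R ι M i))
  intro x
  rw [← LinearMap.rTensor_comp_apply]
  have : DirectSum.component R ι M i ∘ₗ DirectSum.lof R ι M i = LinearMap.id := by
    ext m
    simp
  rw [this, LinearMap.rTensor_id, LinearMap.id_apply]

end


/-- A direct sum of modules is Mittag-Leffler if and only if each summand is Mittag-Leffler. -/
theorem result (R : Type u) [CommRing R] {ι : Type u} (M : ι → Type u)
    [∀ i, AddCommGroup (M i)] [∀ i, Module R (M i)] :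
    CAlg.IsMittagLeffler R (DirectSum ι M) ↔ ∀ i, CAlg.IsMittagLeffler R (M i) := by
  classical
  constructor
  · intro h i κ Q _ _
    intro x y hxy
    apply lof_univInj M i (∀ k, Q k)
    apply h κ Q
    rw [piRightHom_natural, piRightHom_natural, hxy]
  · intro h κ Q _ _
    rw [injective_iff_map_eq_zero]
    intro x hx
    apply eq_zero_of_components M
    intro j
    apply h j κ Q
    rw [piRightHom_natural, hx, map_zero]
    ext k
    simp

end Groth.Agent.S6337
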