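import Groth.Statements.S0517
import Groth.Agent.Lib.Helper12.HenselUnique

set_option autoImplicit false
universe u
open Hensel

namespace Groth.Agent.S0517

/-- Given strictly henselian local rings `R` and `S`, a local ring map `φ` between them, and a square
system of `n` polynomial equations in `n` unknowns over `R` whose quotient algebra is étale over
`R`, applying `φ` coordinatewise matches the solutions of the system in `Rⁿ` bijectively with the
solutions of the transported system in `Sⁿ`. -/
theorem result (R : Type u) [CommRing R]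
    [HenselianLocalRing R] [IsSepClosed (IsLocalRing.ResidueField R)] (S : Type u) [CommRing S]
    [HenselianLocalRing S] [IsSepClosed (IsLocalRing.ResidueField S)] (φ : R →+* S) [IsLocalHom φ] (n : ℕ)
    (P : Fin n → MvPolynomial (Fin n) R)
    [Algebra.Etale R (MvPolynomial (Fin n) R ⧸ Ideal.span (Set.range P))] :
    Set.BijOn (fun r : Fin n → R => φ ∘ r)
      {r : Fin n → R | ∀ i, MvPolynomial.eval r (P i) = 0}
      {s : Fin n → S | ∀ i, MvPolynomial.eval s (MvPolynomial.map φ (P i)) = 0} := by
  open IsLocalRing in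
  let _ : Algebra R S := φ.toAlgebra
  have hφalg : algebraMap R S = φ := RingHom.algebraMap_toAlgebra φ
  set I : Ideal (MvPolynomial (Fin n) R) := Ideal.span (Set.range P) with hI
  have hPI : ∀ i, Ideal.Quotient.mk I (P i) = 0 := fun i =>
    Ideal.Quotient.eq_zero_iff_mem.mpr (Ideal.subset_span ⟨i, rfl⟩)
  -- solutions give algebra maps
  have lift : ∀ (T : Type u) [CommRing T] [Algebra R T] (s : Fin n → T),
      (∀ i, MvPolynomial.aeval s (P i) = 0) →
      ∃ F : (MvPolynomial (Fin n) R ⧸ I) →ₐ[R] T,
        ∀ p, F (Ideal.Quotient.mk I p) = MvPolynomial.aeval s p := by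
    intro T _ _ s hs
    have hle : I ≤ RingHom.ker (MvPolynomial.aeval s : MvPolynomial (Fin n) R →ₐ[R] T) := by
      rw [hI, Ideal.span_le]
      rintro _ ⟨i, rfl⟩
      exact hs i
    exact ⟨Ideal.Quotient.liftₐ I (MvPolynomial.aeval s) (fun a ha => hle ha), fun p => rfl⟩
  have hmR : ∀ x : R, φ x ∈ maximalIdeal S ↔ x ∈ maximalIdeal R := by
    intro x
    constructor
    · intro hx hu
      exact hx (hu.map φ)
    · intro hx
      exact map_nonunit φ x hx
  have hφeval : ∀ (r : Fin n → R) (p : MvPolynomial (Fin n) R),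
      φ (MvPolynomial.eval r p) = MvPolynomial.eval (φ ∘ r) (MvPolynomial.map φ p) := by
    intro r p
    rw [MvPolynomial.eval_map, MvPolynomial.eval, MvPolynomial.coe_eval₂Hom,
      MvPolynomial.eval₂_comp_left φ (RingHom.id R) r p, RingHom.comp_id]
  have hSsol : ∀ (s : Fin n → S) (p : MvPolynomial (Fin n) R),
      MvPolynomial.aeval s p = MvPolynomial.eval s (MvPolynomial.map φ p) := by
    intro s p
    rw [MvPolynomial.eval_map, MvPolynomial.aeval_def, hφalg]
  have haeval : ∀ (r : Fin n → R) (p : MvPolynomial (Fin n) R),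
      MvPolynomial.aeval r p = MvPolynomial.eval r p := fun r p => rfl
  refine ⟨?_, ?_, ?_⟩
  · intro r hr i
    show MvPolynomial.eval (φ ∘ r) (MvPolynomial.map φ (P i)) = 0
    rw [← hφeval, hr i, map_zero]
  · intro r₁ hr₁ r₂ hr₂ h12
    obtain ⟨F₁, hF₁⟩ := lift R r₁ (fun i => by rw [haeval]; exact hr₁ i)
    obtain ⟨F₂, hF₂⟩ := lift R r₂ (fun i => by rw [haeval]; exact hr₂ i)
    have hF : F₁ = F₂ := by
      apply Groth.Agent.Lib.Helper12.algHom_eq_of_sub_mem_maximalIdeal R R _ F₁ F₂
      intro a
      obtain ⟨p, rfl⟩ := Ideal.Quotient.mk_surjective a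
      rw [hF₁, hF₂, haeval, haeval, ← hmR,
        map_sub, hφeval, hφeval]
      have h12' : φ ∘ r₁ = φ ∘ r₂ := h12
      rw [h12', sub_self]
      exact Ideal.zero_mem _
    funext i
    have h1 := hF₁ (MvPolynomial.X i)
    have h2 := hF₂ (MvPolynomial.X i)
    rw [MvPolynomial.aeval_X] at h1 h2
    rw [← h1, ← h2, hF]
  · intro s hs
    obtain ⟨F, hF⟩ := lift S s (fun i => by rw [hSsol]; exact hs i)
    let q : Ideal (MvPolynomial (Fin n) R ⧸ I) := Ideal.comap F.toRingHom (maximalIdeal S)
    have hqp : q.IsPrime := Ideal.comap_isPrime _ _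
    have hqm : q.LiesOver (maximalIdeal R) := by
      refine ⟨?_⟩
      ext x
      rw [Ideal.under, Ideal.mem_comap, Ideal.mem_comap]
      show _ ↔ F (algebraMap R _ x) ∈ maximalIdeal S
      rw [F.commutes, hφalg, hmR]
    have hbij := Groth.Agent.Lib.Helper12.bijective_residueField_mapₐ_of_isSepClosed R
      (MvPolynomial (Fin n) R ⧸ I) q
    obtain ⟨f, hf⟩ := Groth.Agent.Lib.Helper12.exists_section_of_etale R
      (MvPolynomial (Fin n) R ⧸ I) q hbij
    have hfq : ∀ a, f a ∈ maximalIdeal R ↔ a ∈ q := by
      intro a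
      rw [← hf]
      rfl
    have hG : (Algebra.ofId R S).comp f = F := by
      apply Groth.Agent.Lib.Helper12.algHom_eq_of_sub_mem_maximalIdeal R S _
      intro a
      -- find r₀ with a - r₀ ∈ q
      obtain ⟨y, hy⟩ := hbij.2 (algebraMap _ q.ResidueField a)
      obtain ⟨r₀, rfl⟩ := Ideal.algebraMap_residueField_surjective (maximalIdeal R) y
      have hr₀ : a - algebraMap R _ r₀ ∈ q := by
        rw [← Ideal.algebraMap_residueField_eq_zero, map_sub, ← hy, AlgHom.commutes,
          ← IsScalarTower.algebraMap_apply, sub_self]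
      have e1 : ((Algebra.ofId R S).comp f) a - F a =
          ((Algebra.ofId R S).comp f) (a - algebraMap R _ r₀) - F (a - algebraMap R _ r₀) := by
        rw [map_sub, map_sub, AlgHom.commutes, AlgHom.commutes]
        ring
      rw [e1]
      refine Ideal.sub_mem _ ?_ hr₀
      show algebraMap R S (f (a - algebraMap R _ r₀)) ∈ maximalIdeal S
      rw [hφalg, hmR, hfq]
      exact hr₀
    refine ⟨fun i => f (Ideal.Quotient.mk I (MvPolynomial.X i)), ?_, ?_⟩
    · intro i
      have h3 : ∀ p, f (Ideal.Quotient.mk I p) =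
          MvPolynomial.eval (fun i => f (Ideal.Quotient.mk I (MvPolynomial.X i))) p := by
        intro p
        have := MvPolynomial.aeval_unique (f.comp (Ideal.Quotient.mkₐ R I))
        rw [← haeval]
        exact DFunLike.congr_fun this p
      show MvPolynomial.eval _ (P i) = 0
      rw [← h3, hPI, map_zero]
    · funext i
      show φ (f (Ideal.Quotient.mk I (MvPolynomial.X i))) = s i
      have := DFunLike.congr_fun hG (Ideal.Quotient.mk I (MvPolynomial.X i))
      rw [hF, MvPolynomial.aeval_X] at this
      rw [← this]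
      show _ = algebraMap R S _
      rw [hφalg]
      rfl

end Groth.Agent.S0517
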