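import Groth.Statements.S0078
import Mathlib.FieldTheory.Finite.Basic

set_option autoImplicit false
universe u
open EtBase

namespace Groth.Agent.S0078

/-- Second half — for such an F the fixed vectors F v = v form a finite set of size at most p ^ dim V
(an F_p-space of dimension at most dim V). -/
theorem result {k V : Type u} [Field k] [IsAlgClosed k] (p : ℕ) [Fact p.Prime] [CharP k p]
    [AddCommGroup V] [Module k V] [FiniteDimensional k V] (F : V →+ V)
    (hF : ∀ (c : k) (v : V), F (c • v) = c ^ p • F v) :
    Set.Finite {v : V | F v = v} ∧ Nat.card {v : V | F v = v} ≤ p ^ Module.finrank k V := by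
  classical
  set S : Set V := {v : V | F v = v} with hS
  obtain ⟨b, hbS, hspan, hli⟩ := exists_linearIndependent k S
  have hp1 : 1 < p := (Fact.out : p.Prime).one_lt
  set T : Set k := {c | c ^ p = c} with hT
  have hTsub : T ⊆ ((Polynomial.X ^ p - Polynomial.X : Polynomial k).roots.toFinset : Set k) := by
    intro c hc
    simp only [Finset.mem_coe, Multiset.mem_toFinset]
    rw [Polynomial.mem_roots (FiniteField.X_pow_card_sub_X_ne_zero k hp1)]
    have hc' : c ^ p = c := hc
    simp [Polynomial.IsRoot, sub_eq_zero, hc']
  have hTfin : T.Finite := (Finset.finite_toSet _).subset hTsub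
  have hTcard : Nat.card T ≤ p := by
    calc Nat.card T = T.ncard := Nat.card_coe_set_eq T
      _ ≤ ((Polynomial.X ^ p - Polynomial.X : Polynomial k).roots.toFinset : Set k).ncard :=
          Set.ncard_le_ncard hTsub (Finset.finite_toSet _)
      _ = (Polynomial.X ^ p - Polynomial.X : Polynomial k).roots.toFinset.card :=
          Set.ncard_coe_finset _
      _ ≤ Multiset.card (Polynomial.X ^ p - Polynomial.X : Polynomial k).roots :=
          Multiset.toFinset_card_le _
      _ ≤ (Polynomial.X ^ p - Polynomial.X : Polynomial k).natDegree := Polynomial.card_roots' _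
      _ = p := FiniteField.X_pow_card_sub_X_natDegree_eq k hp1
  have : Finite b := hli.setFinite
  haveI : Fintype b := Fintype.ofFinite b
  have : Finite T := hTfin
  have hbcard : Fintype.card b ≤ Module.finrank k V := hli.fintype_card_le_finrank
  have hrange : Set.range (fun x : b => (x : V)) = b := Subtype.range_coe
  have hmem : ∀ v ∈ S, v ∈ Submodule.span k (Set.range (fun x : b => (x : V))) := by
    intro v hv
    rw [hrange, hspan]
    exact Submodule.subset_span hv
  have hcoef : ∀ (v : V) (hv : v ∈ S) (i : b), hli.repr ⟨v, hmem v hv⟩ i ∈ T := by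
    intro v hv i
    set l := hli.repr ⟨v, hmem v hv⟩ with hl
    have h1 : Finsupp.linearCombination k (fun x : b => (x : V)) l = v :=
      hli.linearCombination_repr ⟨v, hmem v hv⟩
    have h2 : Finsupp.linearCombination k (fun x : b => (x : V))
        (l.mapRange (fun c => c ^ p) (zero_pow (Fact.out : p.Prime).ne_zero)) = v := by
      have hFv : F v = v := hv
      conv_rhs => rw [← hFv, ← h1]
      rw [Finsupp.linearCombination_apply, Finsupp.linearCombination_apply,
        Finsupp.sum_mapRange_index (by intro a; simp), Finsupp.sum, Finsupp.sum, map_sum]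
      refine Finset.sum_congr rfl ?_
      intro i _
      rw [hF]
      have : F (i : V) = i := hbS i.2
      rw [this]
    have h3 := hli.finsuppLinearCombination_injective (h2.trans h1.symm)
    have h4 := DFunLike.congr_fun h3 i
    rw [Finsupp.mapRange_apply] at h4
    exact h4
  let φ : S → (b → T) := fun v i => ⟨hli.repr ⟨v.1, hmem v.1 v.2⟩ i, hcoef v.1 v.2 i⟩
  have hφ : Function.Injective φ := by
    intro v w hvw
    have h1 : hli.repr ⟨v.1, hmem v.1 v.2⟩ = hli.repr ⟨w.1, hmem w.1 w.2⟩ := by
      ext i
      exact congrArg Subtype.val (congrFun hvw i)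
    have h2 := hli.linearCombination_repr ⟨v.1, hmem v.1 v.2⟩
    have h3 := hli.linearCombination_repr ⟨w.1, hmem w.1 w.2⟩
    rw [h1] at h2
    exact Subtype.ext (h2.symm.trans h3)
  have : Finite S := Finite.of_injective φ hφ
  refine ⟨Set.toFinite S, ?_⟩
  calc Nat.card S ≤ Nat.card (b → T) := Nat.card_le_card_of_injective φ hφ
    _ = Nat.card T ^ Nat.card b := Nat.card_fun
    _ ≤ p ^ Nat.card b := Nat.pow_le_pow_left hTcard _
    _ = p ^ Fintype.card b := by rw [Nat.card_eq_fintype_card]
    _ ≤ p ^ Module.finrank k V := Nat.pow_le_pow_right (Fact.out : p.Prime).pos hbcard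

end Groth.Agent.S0078
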