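import Groth.Statements.S4574
import Groth.Agent.S2036
import Groth.Agent.S2035
import Groth.Agent.Lib.Helper5.RegularProd

set_option autoImplicit false
universe u
open IsLocalRing
open EGA41

namespace Groth.Agent.S4574

/-- Let k be a field and A a Noetherian local k-algebra, formally smooth over k for its adic topology.
Then every localization A_p at a prime p is formally smooth over k for the pA_p-adic topology. -/
theorem result {k A : Type u} [Field k] [CommRing A]
    [IsLocalRing A] [IsNoetherianRing A] [Algebra k A] (h : CAlgX.IsAdicFormallySmooth k A (maximalIdeal A))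
    (p : Ideal A) [p.IsPrime] :
    CAlgX.IsAdicFormallySmooth k (Localization.AtPrime p) (maximalIdeal (Localization.AtPrime p)) := by
  have hgeo : CAlg.IsGeometricallyRegular k A :=
    Groth.Agent.Lib.Helper5.AdicReg.geomRegular_of_adicSmooth h
  have hgeo' : CAlg.IsGeometricallyRegular k (Localization.AtPrime p) := by
    intro k' _ _ hfin
    have hreg : IsRegularRing (TensorProduct k k' A) := hgeo k' hfin
    let M' : Submonoid (TensorProduct k k' A) :=
      p.primeCompl.map (Algebra.TensorProduct.includeRight (R := k) (A := k'))
    have hreg' : IsRegularRing (Localization M') :=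
      Groth.Agent.Lib.Helper5.RegularProd.isRegularRing_of_isLocalization M' _
    let e := IsLocalization.tensorProductEquivOfMapIncludeRight k k' p.primeCompl
      (Localization.AtPrime p) (Localization M')
    exact IsRegularRing.of_ringEquiv e.symm.toRingEquiv
  obtain ⟨q, hq⟩ := CharP.exists k
  rcases CharP.char_is_prime_or_zero k q with hprime | h0
  · have hfact : Fact q.Prime := ⟨hprime⟩
    exact (Groth.Agent.S2036.result q).mp hgeo'
  · subst h0
    have hz : CharZero k := CharP.charP_to_charZero k
    have h1 : IsRegularRing (TensorProduct k k (Localization.AtPrime p)) :=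
      hgeo' k (Module.Finite.self k)
    have h2 : IsRegularRing (Localization.AtPrime p) :=
      IsRegularRing.of_ringEquiv (Algebra.TensorProduct.lid k (Localization.AtPrime p)).toRingEquiv
    have h3 : IsRegularLocalRing (Localization.AtPrime p) :=
      IsRegularLocalRing.of_isRegularRing_of_isLocalRing _
    exact Groth.Agent.S2035.result.mp h3

end Groth.Agent.S4574
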