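import Groth.Statements.S1486
import Mathlib
import Groth.Agent.S1488
import Groth.Agent.Lib.Helper22.FSLocB
-- import your own Groth.Agent.* helpers here

set_option autoImplicit false
universe u
open FlatMor

namespace Groth.Agent.S1486

open AlgebraicGeometry CategoryTheory Limits in
/-- (1) ⇔ (3): a morphism f : X → Y is formally smooth (lifting against first order thickenings of
affine schemes, rings in the same universe) if and only if for all affine opens U ⊆ f⁻¹(V) the ring
map O_Y(V) → O_X(U) is formally smooth. -/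
theorem result {X Y : Scheme.{u}} (f : X ⟶ Y) :
    MoreMor.IsFormallySmoothHom f ↔ ∀ (U : X.Opens) (V : Y.Opens) (hU : IsAffineOpen U) (hV : IsAffineOpen V) (hUV : U ≤ f ⁻¹ᵁ V),
      letI := (f.appLE V U hUV).hom.toAlgebra
      Algebra.FormallySmooth Γ(Y, V) Γ(X, U) := by
  constructor
  · intro hf U V hU hV hUV
    exact Groth.Agent.S1488.W1.formallySmooth_of_lifting hf U V hU hV hUV
  · intro H
    haveI : Groth.Agent.Lib.Helper22.FSLocB.FSLoc f := ⟨fun {V} hV {U} hU e => H U V hU hV e⟩
    intro A _ I hI a b hab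
    let p : pullback f b ⟶ Spec (.of A) := pullback.snd f b
    haveI : Groth.Agent.Lib.Helper22.FSLocB.FSLoc p :=
      MorphismProperty.pullback_snd (P := @Groth.Agent.Lib.Helper22.FSLocB.FSLoc) _ _ inferInstance
    let s₀ : Spec (.of (A ⧸ I)) ⟶ pullback f b :=
      pullback.lift a (Spec.map (CommRingCat.ofHom (Ideal.Quotient.mk I))) hab.symm
    have hs : s₀ ≫ p = Spec.map (CommRingCat.ofHom (Ideal.Quotient.mk I)) :=
      pullback.lift_snd _ _ _
    obtain ⟨s, hs1, hs2⟩ := Groth.Agent.Lib.Helper22.FSLocB.exists_section' I hI p s₀ hs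
    refine ⟨s ≫ pullback.fst f b, ?_, ?_⟩
    · rw [← Category.assoc, hs1]; exact pullback.lift_fst _ _ _
    · rw [Category.assoc, pullback.condition, ← Category.assoc, hs2, Category.id_comp]

end Groth.Agent.S1486
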