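import Groth.Statements.S4631
import Mathlib
import Groth.Agent.Lib.Helper22.TowerPts
import Groth.Agent.Lib.Helper5.StalkBCH
import Groth.Agent.Lib.Helper22.GeomIrr
import Groth.Agent.Lib.Helper22.SchGeomConn2
-- import your own Groth.Agent.* helpers here

set_option autoImplicit false
open CategoryTheory AlgebraicGeometry
universe u
open FBase

namespace Groth.Agent.S4631

/-- Let X be a scheme over an algebraically closed field k and x a point of X. Then X is geometrically
pointwise integral at x over k if and only if the local ring of X at x is a domain. -/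
theorem result {k : Type u} [Field k] [IsAlgClosed k] {X : Scheme.{u}}
    (f : X ⟶ Spec (CommRingCat.of k)) (x : X) :
    FBase.IsGeomPtIntegralAt f x ↔ IsDomain ↑(X.presheaf.stalk x) := by
  constructor
  · intro H
    obtain ⟨x', hx'⟩ := Groth.Agent.Lib.Helper22.SchGeomConn.surjective_bcπ f k x
    haveI := H k x' hx'
    haveI : Flat (FBase.bcπ f k) :=
      MorphismProperty.of_isPullback (P := @Flat)
        (IsPullback.of_hasPullback f (Spec.map (CommRingCat.ofHom (algebraMap k k)))).flip
        (Groth.Agent.Lib.Helper22.SchGeomConn.flat_specMap_field k)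
    subst hx'
    exact (Groth.Agent.Lib.Helper22.TowerPts.stalkMap_injective_of_flat
      (FBase.bcπ f k) x').isDomain _
  · intro hD K _ _ x' hx'
    letI : X.Over (Spec (CommRingCat.of k)) := ⟨f⟩
    letI := Curv2.stalkAlgebra k X x
    obtain ⟨Q, hQ, ⟨e⟩⟩ := Groth.Agent.Lib.Helper5.StalkBC.exists_equiv_of_specializes k X K x x'
      (by
        have : Curv2.bcFst k X K x' = x := hx'
        rw [this])
    haveI : IsDomain (TensorProduct k ↑(X.presheaf.stalk x) K) :=
      Groth.Agent.Lib.Helper22.GeomIrr.isDomain_tensor
    haveI : IsDomain (Localization.AtPrime Q) :=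
      IsLocalization.isDomain_localization Q.primeCompl_le_nonZeroDivisors
    exact MulEquiv.isDomain _ e.toMulEquiv

end Groth.Agent.S4631
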