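import Groth.Statements.S7652
import Groth.Agent.S7651
import Groth.Agent.Lib.Helper14.ProdNormal

set_option autoImplicit false
universe u
open CategoryTheory CategoryTheory.Limits AlgebraicGeometry
open Variety

namespace Groth.Agent.S7652

open Groth.Agent.S7666 Groth.Agent.S7667 Groth.Agent.S7651 Helper14

variable (A : Type u) [CommRing A]

/-- fraction field of `A/p` for a minimal prime -/
abbrev Kp (i : MinP A) := FractionRing (A ⧸ i.1.asIdeal)

/-- normalization of `A/p` -/
abbrev Dp (i : MinP A) := integralClosure (A ⧸ i.1.asIdeal) (Kp A i)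

/-- bridging equivalence: integral closure over `A` and over `A/p` agree -/
noncomputable def bridge (i : MinP A) : integralClosure A (Kp A i) ≃ₐ[A] Dp A i where
  toFun x := ⟨x.1, x.2.tower_top⟩
  invFun y := ⟨y.1, by
    haveI : Algebra.IsIntegral A (A ⧸ i.1.asIdeal) :=
      Algebra.isIntegral_of_surjective Ideal.Quotient.mk_surjective
    exact isIntegral_trans _ y.2⟩
  left_inv _ := rfl
  right_inv _ := rfl
  map_mul' _ _ := rfl
  map_add' _ _ := rfl
  commutes' _ := rfl

instance (i : MinP A) : IsIntegrallyClosed (Dp A i) :=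
  integralClosure.isIntegrallyClosedOfFiniteExtension (Kp A i)

lemma finite_Dp (hN : CAlg.IsNagata A) (i : MinP A) : Module.Finite A (Dp A i) := by
  haveI : Module.Finite (A ⧸ i.1.asIdeal) (Dp A i) :=
    hN.2 i.1.asIdeal (Kp A i) inferInstance
  exact Module.Finite.trans (A ⧸ i.1.asIdeal) (Dp A i)

/-- `κ(p) ≃ Frac(A/p)` -/
noncomputable def resFrac (i : MinP A) : i.1.asIdeal.ResidueField ≃ₐ[A] Kp A i :=
  ((FractionRing.algEquiv (A ⧸ i.1.asIdeal) i.1.asIdeal.ResidueField).symm).restrictScalars A

variable [IsLocalRing A] [IsReduced A] [IsNoetherianRing A]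

/-- the total ring of fractions is the product of the fraction fields of the `A/p` -/
theorem exists_E (hdim : ringKrullDim A = 1) :
    Nonempty (FractionRing A ≃ₐ[A] ∀ i : MinP A, Kp A i) := by
  obtain ⟨f, hf, hf2⟩ := exists_param A hdim
  have hnzd := nzd_of_param A hdim f hf hf2 (Or.inr inferInstance)
  haveI := isLocalization_nzd A hdim f hf hf2 hnzd
  let e1 : FractionRing A ≃ₐ[A] Localization.Away f :=
    IsLocalization.algEquiv (nonZeroDivisors A) _ _
  let e2 : Localization.Away f ≃ₐ[A] LL A := AlgEquiv.ofBijective (psi f hf2)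
      ⟨psi_injective f hf2 hdim hf, psi_surjective f hf2 hdim hf⟩
  let e3 : LL A ≃ₐ[A] ∀ i : MinP A, i.1.asIdeal.ResidueField :=
    AlgEquiv.piCongrRight (fun P : MinP A => resEquiv A P.1.asIdeal P.2)
  let e4 : (∀ i : MinP A, i.1.asIdeal.ResidueField) ≃ₐ[A] ∀ i : MinP A, Kp A i :=
    AlgEquiv.piCongrRight (resFrac A)
  exact ⟨e1.trans (e2.trans (e3.trans e4))⟩

/-- the normalization is the product of the normalizations of the `A/p` -/
theorem exists_Psi (hdim : ringKrullDim A = 1) :
    Nonempty (integralClosure A (FractionRing A) ≃ₐ[A] ∀ i : MinP A, Dp A i) := by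
  obtain ⟨E⟩ := exists_E A hdim
  exact ⟨(AlgEquiv.mapIntegralClosure E).trans ((integralClosurePiEquiv (Kp A)).trans
    (AlgEquiv.piCongrRight (bridge A)))⟩

theorem part1 (hN : CAlg.IsNagata A) (hdim : ringKrullDim A = 1) :
    Module.Finite A (integralClosure A (FractionRing A)) := by
  obtain ⟨Ψ⟩ := exists_Psi A hdim
  haveI := finite_Dp A hN
  exact Module.Finite.equiv Ψ.symm.toLinearEquiv

theorem part2 (hdim : ringKrullDim A = 1) (p : PrimeSpectrum (integralClosure A (FractionRing A))) :
    IsDomain (Localization.AtPrime p.asIdeal) ∧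
      IsIntegrallyClosed (Localization.AtPrime p.asIdeal) := by
  obtain ⟨Ψ⟩ := exists_Psi A hdim
  exact localization_normal_of_equiv_pi Ψ.toRingEquiv p.asIdeal


section part3
variable (A : Type u) [CommRing A]

/-- a common denominator for a finite normalization -/
lemma exists_common_denominator (hfin : Module.Finite A (integralClosure A (FractionRing A))) :
    ∃ s ∈ nonZeroDivisors A, ∀ x : integralClosure A (FractionRing A),
      s • x ∈ LinearMap.range (Algebra.linearMap A (integralClosure A (FractionRing A))) := by
  classical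
  obtain ⟨S, hS⟩ := (Module.finite_def.1 hfin)
  have hden : ∀ x : integralClosure A (FractionRing A), ∃ s ∈ nonZeroDivisors A,
      s • x ∈ LinearMap.range (Algebra.linearMap A (integralClosure A (FractionRing A))) := by
    intro x
    obtain ⟨⟨a, s⟩, hx⟩ := IsLocalization.surj (nonZeroDivisors A) (x : FractionRing A)
    refine ⟨s.1, s.2, a, ?_⟩
    apply Subtype.ext
    simp only [Algebra.linearMap_apply]
    rw [Algebra.smul_def, mul_comm]
    exact hx.symm
  choose d hd hdx using hden
  refine ⟨∏ x ∈ S, d x, Submonoid.prod_mem _ fun x _ => hd x, ?_⟩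
  have hle : Submodule.span A (S : Set (integralClosure A (FractionRing A))) ≤
      (LinearMap.range (Algebra.linearMap A (integralClosure A (FractionRing A)))).comap
        (LinearMap.lsmul A (integralClosure A (FractionRing A)) (∏ x ∈ S, d x)) := by
    rw [Submodule.span_le]
    intro x hx
    rw [SetLike.mem_coe, Submodule.mem_comap, LinearMap.lsmul_apply,
      ← Finset.mul_prod_erase S d hx, mul_comm, mul_smul]
    exact Submodule.smul_mem _ _ (hdx x)
  intro x
  have hx : x ∈ Submodule.span A (S : Set (integralClosure A (FractionRing A))) := by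
    rw [hS]; exact Submodule.mem_top
  exact hle hx


lemma artinian_quot [IsLocalRing A] [IsNoetherianRing A] (hdim : ringKrullDim A = 1) (s : A)
    (hs : s ∈ nonZeroDivisors A) : IsArtinianRing (A ⧸ Ideal.span {s}) := by
  rw [isArtinianRing_iff_krullDimLE_zero, Ring.krullDimLE_zero_iff]
  intro I hI
  have hsurj : Function.Surjective (Ideal.Quotient.mk (Ideal.span {s})) :=
    Ideal.Quotient.mk_surjective
  haveI : (I.comap (Ideal.Quotient.mk (Ideal.span {s}))).IsPrime := Ideal.comap_isPrime _ I
  have hsq : s ∈ I.comap (Ideal.Quotient.mk (Ideal.span {s})) := by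
    rw [Ideal.mem_comap, Ideal.Quotient.eq_zero_iff_mem.2 (Ideal.mem_span_singleton_self s)]
    exact I.zero_mem
  have hq := eq_max_of_mem A hdim (I.comap (Ideal.Quotient.mk (Ideal.span {s})))
    (fun p hp hle => nzd_imp A s hs p hp (hle hsq))
  have hI' : I = (IsLocalRing.maximalIdeal A).map (Ideal.Quotient.mk (Ideal.span {s})) := by
    rw [← hq, Ideal.map_comap_of_surjective _ hsurj]
  rcases Ideal.map_eq_top_or_isMaximal_of_surjective (Ideal.Quotient.mk (Ideal.span {s})) hsurj
    (IsLocalRing.maximalIdeal.isMaximal A) with h | h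
  · exact absurd (hI'.trans h) hI.ne_top
  · rw [hI']; exact h

lemma length_lt_top_of_torsion [IsNoetherianRing A] (s : A)
    (hart : IsArtinianRing (A ⧸ Ideal.span {s})) (M : Type u) [AddCommGroup M] [Module A M]
    [Module.Finite A M] (hM : Module.IsTorsionBy A M s) : Module.length A M < ⊤ := by
  letI := hM.module
  haveI : Module.Finite (A ⧸ Ideal.span {s}) M :=
    Module.Finite.of_restrictScalars_finite A (A ⧸ Ideal.span {s}) M
  haveI : IsArtinian (A ⧸ Ideal.span {s}) M := inferInstance
  haveI : IsArtinian A M :=
    isArtinian_of_surjective_algebraMap (R := A ⧸ Ideal.span {s}) (S := A)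
      Ideal.Quotient.mk_surjective
  exact lt_top_iff_ne_top.2 Module.length_ne_top


theorem part3 [IsLocalRing A] [IsReduced A] (hN : CAlg.IsNagata A) (hdim : ringKrullDim A = 1) :
    Curv2.deltaInv A < ⊤ := by
  haveI := hN.1
  have hfin := part1 A hN hdim
  obtain ⟨s, hs, hsx⟩ := exists_common_denominator A hfin
  unfold Curv2.deltaInv
  refine length_lt_top_of_torsion A s (artinian_quot A hdim s hs) _ ?_
  intro x
  obtain ⟨x, rfl⟩ := Submodule.Quotient.mk_surjective _ x
  rw [← Submodule.Quotient.mk_smul, Submodule.Quotient.mk_eq_zero]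
  exact hsx x

end part3


/-- For a reduced local Nagata ring (A, m) of Krull dimension one, write A' for the integral closure of
A in its total fraction ring. Then A' is a finite A-module, every localization of A' at a prime is
an integrally closed domain, and the quotient A'/A is an A-module of finite length. (The published
statement also says that A' is Nagata, which follows from the finiteness of A' over A; this row does
not restate it.) -/
theorem result (A : Type u) [CommRing A] [IsLocalRing A]
    [IsReduced A] (hN : CAlg.IsNagata A) (hdim : ringKrullDim A = 1) :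
    Module.Finite A (integralClosure A (FractionRing A)) ∧
      (∀ p : PrimeSpectrum (integralClosure A (FractionRing A)),
        IsDomain (Localization.AtPrime p.asIdeal) ∧ IsIntegrallyClosed (Localization.AtPrime p.asIdeal)) ∧
      Curv2.deltaInv A < ⊤ := by
  haveI := hN.1
  exact ⟨part1 A hN hdim, part2 A hdim, part3 A hN hdim⟩

end Groth.Agent.S7652
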