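import Groth.Statements.S7655
import Groth.Agent.S7652
import Groth.Agent.Lib.Helper14.TotalFrac
import Groth.Agent.Lib.Helper14.BranchBound

set_option autoImplicit false
universe u
open CategoryTheory CategoryTheory.Limits AlgebraicGeometry
open Variety

namespace Groth.Agent.S7655

open Helper14 IsLocalRing

variable (A : Type u) [CommRing A]

/-- `A ≃ A_red` for reduced `A` -/
noncomputable def redEquiv [IsReduced A] : A ≃+* CAlg2.red A :=
  (RingEquiv.quotientBot A).symm.trans
    (Ideal.quotEquivOfEq (nilradical_eq_zero A).symm)

lemma redEquiv_apply [IsReduced A] (a : A) :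
    redEquiv A a = Ideal.Quotient.mk (nilradical A) a := rfl

example : Algebra A (CAlg2.normRed A) := inferInstance
example : IsScalarTower A (CAlg2.red A) (CAlg2.normRed A) := inferInstance

lemma algebraMap_normRed (a : A) : algebraMap A (CAlg2.normRed A) a =
    algebraMap (CAlg2.red A) (CAlg2.normRed A) (Ideal.Quotient.mk (nilradical A) a) := rfl

/-- the normalizations of `A` and `A_red` agree, `A`-linearly -/
noncomputable def normLin [IsReduced A] :
    integralClosure A (FractionRing A) ≃ₗ[A] CAlg2.normRed A :=
  { (normalizationEquivOfRingEquiv (redEquiv A)).toAddEquiv with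
    map_smul' := fun a x => by
      show normalizationEquivOfRingEquiv (redEquiv A) (a • x) =
        a • normalizationEquivOfRingEquiv (redEquiv A) x
      rw [Algebra.smul_def, Algebra.smul_def, map_mul,
        normalizationEquivOfRingEquiv_algebraMap, redEquiv_apply, algebraMap_normRed] }

lemma normLin_algebraMap [IsReduced A] (a : A) :
    normLin A (algebraMap A (integralClosure A (FractionRing A)) a) =
      algebraMap A (CAlg2.normRed A) a := by
  show normalizationEquivOfRingEquiv (redEquiv A) _ = _
  rw [normalizationEquivOfRingEquiv_algebraMap, redEquiv_apply, algebraMap_normRed]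

lemma deltaInv_eq [IsReduced A] : Curv2.deltaInv A =
    Module.length A (CAlg2.normRed A ⧸ LinearMap.range (Algebra.linearMap A (CAlg2.normRed A))) := by
  unfold Curv2.deltaInv
  refine (Submodule.Quotient.equiv _ _ (normLin A) ?_).length_eq
  ext y
  constructor
  · rintro ⟨x, ⟨a, rfl⟩, rfl⟩
    exact ⟨a, (normLin_algebraMap A a).symm⟩
  · rintro ⟨a, rfl⟩
    exact ⟨_, ⟨a, rfl⟩, normLin_algebraMap A a⟩


/-- Let (A, m) be a reduced Nagata local ring of dimension one. Then the δ-invariant of A is at least
the number of geometric branches of A minus one. -/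
theorem result (A : Type u) [CommRing A] [IsLocalRing A]
    [IsReduced A] (hN : CAlg.IsNagata A) (hdim : ringKrullDim A = 1) :
    Brnch.numGeomBranches A ≤ Curv2.deltaInv A + 1 := by
  haveI := hN.1
  have hfin : (minimalPrimes A).Finite := minimalPrimes.finite_of_isNoetherianRing A
  have hA' : Module.Finite A (integralClosure A (FractionRing A)) :=
    (Groth.Agent.S7652.result A hN hdim).1
  haveI : Module.Finite A (CAlg2.normRed A) := Module.Finite.equiv (normLin A)
  unfold Brnch.numGeomBranches
  rw [if_pos hfin, deltaInv_eq]
  exact card_sigma_embOver_le (A := A) (S := CAlg2.normRed A)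
    (AlgebraicClosure (ResidueField A))

end Groth.Agent.S7655
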