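import Groth.Statements.S7654
import Mathlib
import Groth.Agent.Lib.Helper22.DeltaInvC
-- import your own Groth.Agent.* helpers here

set_option autoImplicit false
universe u
open CategoryTheory CategoryTheory.Limits AlgebraicGeometry
open Variety

namespace Groth.Agent.S7654

/-- For a reduced local Nagata ring A of Krull dimension one, the δ-invariant does not change on passing
to a henselization of A, to a strict henselization of A, or to the completion of A. -/
theorem result (A : Type u) [CommRing A] [IsLocalRing A]
    [IsReduced A] (hN : CAlg.IsNagata A) (hdim : ringKrullDim A = 1) :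
    (∀ (B : Type u) [CommRing B] [IsLocalRing B] [Algebra A B] [IsLocalHom (algebraMap A B)],
        Hensel.IsHenselization A B → Curv2.deltaInv B = Curv2.deltaInv A) ∧
      (∀ (B : Type u) [CommRing B] [IsLocalRing B] [Algebra A B] [IsLocalHom (algebraMap A B)],
        Hensel.IsStrictHenselization A B → Curv2.deltaInv B = Curv2.deltaInv A) ∧
      Curv2.deltaInv (Curv2.cpl A) = Curv2.deltaInv A := by
  have : IsNoetherianRing A := hN.1
  have hfin :=
    Groth.Agent.Lib.Helper12.AnUnram.finite_integralClosure_fractionRing_of_isNagata A hN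
  refine ⟨?_, ?_, ?_⟩
  · intro B _ _ _ _ hB
    haveI := hB
    haveI : IsNoetherianRing B :=
      Groth.Agent.Lib.Helper12.HensFibre.isNoetherianRing_of_isHenselization A B
    obtain ⟨e⟩ := Groth.Agent.Lib.Helper12.Henselization.nonempty_algEquiv (A := A) B
    haveI : Module.Flat A B := Module.Flat.of_linearEquiv e.toLinearEquiv
    have hmax := Groth.Agent.S0507.result A B
    have hT : Groth.Agent.Lib.Helper12.AUn.FormalLike A B :=
      ⟨inferInstance, inferInstance, hmax, fun y => by
        obtain ⟨a, ha⟩ := Groth.Agent.Lib.Helper12.HensFC.exists_sub_algebraMap_mem_hens' A B 1 y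
        exact ⟨a, by simpa using ha⟩⟩
    exact Groth.Agent.Lib.Helper22.DeltaInv.deltaInv_eq A B hdim hfin
      (fun m' _ x => Groth.Agent.Lib.Helper22.DeltaInv.hV_of_formalLike A B _ hT m' x) hmax
  · intro B _ _ _ _ hB
    haveI := hB
    haveI : IsNoetherianRing B :=
      Groth.Agent.Lib.Helper12.HensFibre.isNoetherianRing_of_isStrictHenselization A B
    obtain ⟨e⟩ := Groth.Agent.Lib.Helper12.StrictHenselization.nonempty_algEquiv (A := A) B
    haveI : Module.Flat A B := Module.Flat.of_linearEquiv e.toLinearEquiv
    exact Groth.Agent.Lib.Helper22.DeltaInv.deltaInv_eq A B hdim hfin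
      (fun m' _ x => Groth.Agent.Lib.Helper22.DeltaInv.hV_of_isIndEssEtale A B _
        (Groth.Agent.Lib.Helper12.HensFibre.isIndEssEtale_of_isStrictHenselization A B) m' x)
      (Groth.Agent.S0538.result A B)
  · have hT := Groth.Agent.Lib.Helper12.AUn.FormalLike.cpl A
    haveI := hT.noeth
    haveI := hT.flat
    haveI : IsLocalHom (algebraMap A (Curv2.cpl A)) := ⟨fun a ha => by
      by_contra hna
      have h1 : algebraMap A (Curv2.cpl A) a ∈ IsLocalRing.maximalIdeal (Curv2.cpl A) := by
        rw [← hT.map_max]
        exact Ideal.mem_map_of_mem _ ((IsLocalRing.mem_maximalIdeal a).mpr hna)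
      exact (IsLocalRing.mem_maximalIdeal _).mp h1 ha⟩
    exact Groth.Agent.Lib.Helper22.DeltaInv.deltaInv_eq A (Curv2.cpl A) hdim hfin
      (fun m' _ x => Groth.Agent.Lib.Helper22.DeltaInv.hV_of_formalLike A (Curv2.cpl A) _ hT m' x)
      hT.map_max

end Groth.Agent.S7654
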