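import Groth.Statements.S2032
import Groth.Agent.Lib.Helper18.AwayQuot
import Mathlib.RingTheory.Smooth.StandardSmooth
import Mathlib.RingTheory.Extension.Presentation.Submersive

set_option autoImplicit false
universe u
open Smoothing

namespace Groth.Agent.S2032

section Core

open MvPolynomial Algebra

variable {R A : Type u} [CommRing R] [CommRing A] [Algebra R A]
variable {n c : ℕ} (v : Fin c → MvPolynomial (Fin n) R) (hom : MvPolynomial (Fin n) R →ₐ[R] A)
  (hv : ∀ x ∈ Ideal.span (Set.range v), hom x = 0)

/-- The induced map from the quotient by the leading relations. -/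
noncomputable def piHom : (MvPolynomial (Fin n) R ⧸ Ideal.span (Set.range v)) →ₐ[R] A :=
  Ideal.Quotient.liftₐ _ hom hv

theorem piHom_mk (x : MvPolynomial (Fin n) R) :
    piHom v hom hv (Ideal.Quotient.mk _ x) = hom x := rfl

theorem core (hv : ∀ x ∈ Ideal.span (Set.range v), hom x = 0)
    {S : Type u} [CommRing S] [Algebra A S] [Algebra R S] [IsScalarTower R A S]
    (hsurj : Function.Surjective hom) (a a' : A) [IsLocalization.Away a S] (cols : Fin c → Fin n)
    (hcols : Function.Injective cols)
    (hunit : a = a' * hom (Matrix.det (Matrix.of fun j k : Fin c => pderiv (cols k) (v j))))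
    (I : Ideal (MvPolynomial (Fin n) R)) (hker : RingHom.ker hom.toRingHom = I) (hI : I.FG)
    (at' : MvPolynomial (Fin n) R) (hat : hom at' = a)
    (hk : ∀ y ∈ I, at' * y ∈ Ideal.span (Set.range v) ⊔ I ^ 2) :
    Algebra.IsStandardSmooth R S := by
  classical
  letI algBA : Algebra (MvPolynomial (Fin n) R ⧸ Ideal.span (Set.range v)) A :=
    (piHom v hom hv).toRingHom.toAlgebra
  letI algBS : Algebra (MvPolynomial (Fin n) R ⧸ Ideal.span (Set.range v)) S :=
    ((algebraMap A S).comp (piHom v hom hv).toRingHom).toAlgebra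
  haveI : IsScalarTower (MvPolynomial (Fin n) R ⧸ Ideal.span (Set.range v)) A S :=
    IsScalarTower.of_algebraMap_eq (fun _ => rfl)
  haveI : IsScalarTower R (MvPolynomial (Fin n) R ⧸ Ideal.span (Set.range v)) S :=
    IsScalarTower.of_algebraMap_eq (R := R) (S := MvPolynomial (Fin n) R ⧸ Ideal.span (Set.range v))
      (A := S) (fun r => by
      change algebraMap R S r =
        algebraMap A S (piHom v hom hv (algebraMap R _ r))
      rw [AlgHom.commutes, ← IsScalarTower.algebraMap_apply])
  have halg : ∀ y : MvPolynomial (Fin n) R ⧸ Ideal.span (Set.range v),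
      algebraMap _ A y = piHom v hom hv y := fun _ => rfl
  have hπsurj : Function.Surjective (algebraMap (MvPolynomial (Fin n) R ⧸ Ideal.span (Set.range v)) A) := by
    intro x
    obtain ⟨y, rfl⟩ := hsurj x
    exact ⟨Ideal.Quotient.mk _ y, rfl⟩
  -- the kernel
  set Ibar : Ideal (MvPolynomial (Fin n) R ⧸ Ideal.span (Set.range v)) :=
    I.map (Ideal.Quotient.mk (Ideal.span (Set.range v))) with hIbar
  have hkerπ : ∀ y : MvPolynomial (Fin n) R ⧸ Ideal.span (Set.range v),
      algebraMap _ A y = 0 ↔ y ∈ Ibar := by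
    intro y
    obtain ⟨x, rfl⟩ := Ideal.Quotient.mk_surjective y
    rw [halg, piHom_mk]
    constructor
    · intro hx
      exact Ideal.mem_map_of_mem _ (hker ▸ (RingHom.mem_ker.mpr hx : x ∈ RingHom.ker hom.toRingHom))
    · intro hx
      rw [hIbar, Ideal.mem_map_iff_of_surjective _ Ideal.Quotient.mk_surjective] at hx
      obtain ⟨x', hx', hxx'⟩ := hx
      rw [Ideal.Quotient.eq] at hxx'
      have h1 : hom x' = 0 := by
        have : x' ∈ RingHom.ker hom.toRingHom := hker ▸ hx'
        exact RingHom.mem_ker.mp this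
      have h2 := hv _ hxx'
      rw [map_sub, h1, zero_sub, neg_eq_zero] at h2
      exact h2
  have hfg : Ibar.FG := hI.map _
  set b : MvPolynomial (Fin n) R ⧸ Ideal.span (Set.range v) := Ideal.Quotient.mk _ at' with hb
  have hbmul : ∀ y ∈ Ibar, b * y ∈ Ibar * Ibar := by
    intro y hy
    rw [hIbar, Ideal.mem_map_iff_of_surjective _ Ideal.Quotient.mk_surjective] at hy
    obtain ⟨x, hx, rfl⟩ := hy
    have h1 := hk x hx
    rw [hb, ← map_mul]
    have h2 : Ideal.Quotient.mk (Ideal.span (Set.range v)) (at' * x) ∈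
        (Ideal.span (Set.range v) ⊔ I ^ 2).map (Ideal.Quotient.mk (Ideal.span (Set.range v))) :=
      Ideal.mem_map_of_mem _ h1
    rw [Ideal.map_sup, Ideal.map_quotient_self, bot_sup_eq, Ideal.map_pow, pow_two] at h2
    exact h2
  obtain ⟨s', N, hs'kill, hs'⟩ :=
    Groth.Agent.Lib.Helper18.AwayQuot.exists_kill_of_smul_le_sq Ibar hfg b hbmul
  have hbA : algebraMap _ A b = a := by rw [halg, hb, piHom_mk, hat]
  have hs'A : algebraMap _ A s' = a ^ N := by
    have := (hkerπ (s' - b ^ N)).mpr hs'
    rw [map_sub, map_pow, hbA, sub_eq_zero] at this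
    exact this
  haveI hloc : IsLocalization.Away (b * s') S := by
    refine Groth.Agent.Lib.Helper18.AwayQuot.away_of_surjective_of_kill hπsurj a (b * s') N ?_ ?_
    · rw [map_mul, hbA, hs'A, pow_succ']
    · intro y hy
      rw [mul_assoc, hs'kill y ((hkerπ y).mp hy), mul_zero]
  -- presentations
  let P0 : PreSubmersivePresentation R (MvPolynomial (Fin n) R ⧸ Ideal.span (Set.range v)) (Fin n) (Fin c) :=
    PreSubmersivePresentation.naive (v := v) cols hcols
  let Q0 : PreSubmersivePresentation (MvPolynomial (Fin n) R ⧸ Ideal.span (Set.range v))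
      S Unit Unit :=
    PreSubmersivePresentation.localizationAway S (b * s')
  have hP0 : P0.jacobian = Ideal.Quotient.mk _
      (Matrix.det (Matrix.of fun j k : Fin c => pderiv (cols k) (v j))) := by
    rw [PreSubmersivePresentation.jacobian_eq_jacobiMatrix_det]
    have hmat : P0.jacobiMatrix = (Matrix.of fun j k : Fin c => pderiv (cols k) (v j)).transpose := by
      ext i j
      rw [PreSubmersivePresentation.jacobiMatrix_naive]
      rfl
    rw [hmat, Matrix.det_transpose]
    rfl
  have hjac : IsUnit (Q0.comp P0).jacobian := by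
    rw [PreSubmersivePresentation.comp_jacobian_eq_jacobian_smul_jacobian, Algebra.smul_def]
    refine IsUnit.mul ?_ ?_
    · rw [hP0]
      have hau : IsUnit (algebraMap A S a) :=
        IsLocalization.Away.algebraMap_isUnit a
      rw [hunit, map_mul] at hau
      exact isUnit_of_mul_isUnit_right hau
    · rw [PreSubmersivePresentation.localizationAway_jacobian]
      exact IsLocalization.Away.algebraMap_isUnit (b * s')
  exact (SubmersivePresentation.mk (Q0.comp P0) hjac).isStandardSmooth

end Core

/-- For a finitely presented `R`-algebra `A` and `a ∈ A`, if `a` is elementary standard then `A_a` is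
standard smooth over `R`. (Part (f), the converse for large powers of `a`, is not stated: as
published it fails, for example for the nodal cubic `A = {g ∈ ℚ[u] : g(0) = g(1)}` and `a =
u(u-1)`.) -/
theorem result {R A : Type u} [CommRing R] [CommRing A]
    [Algebra R A] [Algebra.FinitePresentation R A] (a : A)
    (ha : Smoothing.IsElementaryStandard R A a) : Algebra.IsStandardSmooth R (Localization.Away a) := by
  obtain ⟨P, ⟨a', ha'⟩, hkill⟩ := ha
  obtain ⟨at', hat⟩ := P.surj a
  have hJI : ∀ x ∈ Ideal.span (Set.range fun j : Fin P.c => P.rel (Fin.castLE P.hcm j)),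
      x ∈ Ideal.span (Set.range P.rel) := by
    intro x hx
    refine (Ideal.span_mono ?_) hx
    rintro _ ⟨j, rfl⟩
    exact ⟨_, rfl⟩
  have hv : ∀ x ∈ Ideal.span (Set.range fun j : Fin P.c => P.rel (Fin.castLE P.hcm j)),
      P.hom x = 0 := by
    intro x hx
    have := hJI x hx
    rw [← P.ker_eq] at this
    exact RingHom.mem_ker.mp this
  refine core (S := Localization.Away a) (fun j : Fin P.c => P.rel (Fin.castLE P.hcm j)) P.hom hv P.surj a a'
    (Fin.castLE P.hcn) (Fin.castLE_injective _) ha' (Ideal.span (Set.range P.rel)) P.ker_eq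
    (Submodule.fg_span (Set.finite_range P.rel)) at' hat ?_
  intro y hy
  refine Submodule.span_induction (p := fun y _ => at' * y ∈
    Ideal.span (Set.range fun j : Fin P.c => P.rel (Fin.castLE P.hcm j)) ⊔
      Ideal.span (Set.range P.rel) ^ 2) ?_ ?_ ?_ ?_ hy
  · rintro _ ⟨j, rfl⟩
    by_cases hj : (j : ℕ) < P.c
    · refine Ideal.mem_sup_left (Ideal.mul_mem_left _ _ (Ideal.subset_span ⟨⟨j, hj⟩, ?_⟩))
      congr 1
    · have := hkill at' hat j (not_lt.mp hj)
      have hle : Ideal.span (P.rel '' {j' : Fin P.m | (j' : ℕ) < P.c}) ⊔ Ideal.span (Set.range P.rel) ^ 2 ≤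
          Ideal.span (Set.range fun j : Fin P.c => P.rel (Fin.castLE P.hcm j)) ⊔
            Ideal.span (Set.range P.rel) ^ 2 := by
        refine sup_le_sup_right (Ideal.span_mono ?_) _
        rintro _ ⟨j', hj', rfl⟩
        exact ⟨⟨j', hj'⟩, by congr 1⟩
      exact hle this
  · rw [mul_zero]; exact Submodule.zero_mem _
  · intro x y _ _ hx hy
    rw [mul_add]; exact Submodule.add_mem _ hx hy
  · intro r x _ hx
    rw [smul_eq_mul, mul_left_comm]
    exact Ideal.mul_mem_left _ _ hx

end Groth.Agent.S2032
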