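import Groth.Statements.S2108
import Groth.Agent.Lib.helper10.JacSmooth

set_option autoImplicit false
universe u
open Smoothing

namespace Groth.Agent.S2108

/-- Let `A = R[x_1, …, x_n]/(f_1, …, f_m)` and `𝔮` a prime of `A` at which `R → A` is smooth. Then there
are `a ∈ A ∖ 𝔮`, an integer `c` and injections picking `c` relations and `c` variables such that `a`
is a multiple of the image of the corresponding Jacobian minor and `a f_ℓ` lies in the ideal
generated by the chosen relations plus the square of the relation ideal, for every `ℓ`. -/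
theorem result {R A : Type u} [CommRing R] [CommRing A] [Algebra R A] {n m : ℕ}
    (f : Fin m → MvPolynomial (Fin n) R) (φ : MvPolynomial (Fin n) R →ₐ[R] A) (hφ : Function.Surjective φ)
    (hker : RingHom.ker φ.toRingHom = Ideal.span (Set.range f)) (q : Ideal A) [q.IsPrime] [Algebra.IsSmoothAt R q] :
    ∃ a : A, a ∉ q ∧ ∃ (c : ℕ) (rows : Fin c ↪ Fin m) (cols : Fin c ↪ Fin n) (a' : A),
      a = a' * φ (Smoothing.jacobianMinor f rows cols) ∧
      ∀ a₁ : MvPolynomial (Fin n) R, φ a₁ = a → ∀ ℓ : Fin m,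
        a₁ * f ℓ ∈ Ideal.span (Set.range (f ∘ rows)) ⊔ Ideal.span (Set.range f) ^ 2 := by
  classical
  obtain ⟨c, rows, cols, hdet, hs⟩ := Groth.Agent.Lib.helper10.JacSmooth.main f φ hφ hker q
  choose s hsq hsf using hs
  refine ⟨φ (Smoothing.jacobianMinor f rows cols) * ∏ ℓ, φ (s ℓ), ?_, c, rows, cols,
    ∏ ℓ, φ (s ℓ), mul_comm _ _, ?_⟩
  · intro h
    rcases Ideal.IsPrime.mem_or_mem ‹q.IsPrime› h with h | h
    · exact hdet h
    · obtain ⟨ℓ, -, hℓ⟩ := (Ideal.IsPrime.prod_mem_iff (hp := ‹q.IsPrime›)).1 h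
      exact hsq ℓ hℓ
  · intro a₁ ha₁ ℓ
    have hI : a₁ - Smoothing.jacobianMinor f rows cols * ∏ ℓ, s ℓ ∈ Ideal.span (Set.range f) := by
      rw [← hker, RingHom.mem_ker]
      show φ _ = 0
      rw [map_sub, map_mul, map_prod, ha₁, sub_self]
    have hfℓ : f ℓ ∈ Ideal.span (Set.range f) := Ideal.subset_span ⟨ℓ, rfl⟩
    obtain ⟨r, hr⟩ := Finset.dvd_prod_of_mem s (Finset.mem_univ ℓ)
    have e : a₁ * f ℓ = (a₁ - Smoothing.jacobianMinor f rows cols * ∏ ℓ, s ℓ) * f ℓ +
        (Smoothing.jacobianMinor f rows cols * r) * (s ℓ * f ℓ) := by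
      rw [hr]; ring
    rw [e]
    refine Submodule.add_mem _ (Submodule.mem_sup_right ?_) (Ideal.mul_mem_left _ _ (hsf ℓ))
    rw [pow_two]
    exact Ideal.mul_mem_mul hI hfℓ

end Groth.Agent.S2108
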