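import Groth.Statements.S5776

set_option autoImplicit false
universe u
open EGA41

namespace Groth.Agent.S5776

universe v

open RingTheory.Sequence

/-- weak regularity is closed under extensions -/
theorem ext_regular {A : Type u} [CommRing A] {M' M M'' : Type v} [AddCommGroup M'] [Module A M']
    [AddCommGroup M] [Module A M] [AddCommGroup M''] [Module A M''] (i : M' →ₗ[A] M) (p : M →ₗ[A] M'')
    (hi : Function.Injective i) (hp : Function.Surjective p) (hex : Function.Exact i p) (fs : List A)
    (hM' : IsWeaklyRegular M' fs) (hM'' : IsWeaklyRegular M'' fs) :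
    IsWeaklyRegular M fs := by
  induction fs generalizing M' M M'' with
  | nil => exact IsWeaklyRegular.nil A M
  | cons r rs ih =>
    rw [isWeaklyRegular_cons_iff] at hM' hM'' ⊢
    obtain ⟨hM1, hM2⟩ := hM'
    obtain ⟨hM''1, hM''2⟩ := hM''
    refine ⟨isSMulRegular_of_range_eq_ker hi hex.linearMap_ker_eq.symm hM1 hM''1, ?_⟩
    refine ih (QuotSMulTop.map r i) (QuotSMulTop.map r p) ?_ (QuotSMulTop.map_surjective r hp)
      (QuotSMulTop.map_exact r hex hp) hM2 hM''2
    have h0 : Function.Exact (0 : M' →ₗ[A] M') i := by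
      intro x
      constructor
      · intro hx
        exact ⟨0, by simpa using (hi (by simpa using hx : i x = i 0)).symm⟩
      · rintro ⟨y, rfl⟩
        simp
    have := QuotSMulTop.map_first_exact_on_four_term_exact_of_isSMulRegular_last h0 hex hM''1
    rw [injective_iff_map_eq_zero]
    intro x hx
    obtain ⟨y, hy⟩ := (this x).mp hx
    rw [← hy]
    simp

section

variable {A : Type u} [CommRing A] {M : Type v} [AddCommGroup M] [Module A M]

/-- multiplication by `y` as a map `M/xM → M/(xy)M`. -/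
def mulMap (x y : A) : QuotSMulTop x M →ₗ[A] QuotSMulTop (x * y) M :=
  Submodule.mapQ _ _ (LinearMap.lsmul A M y) (by
    intro m hm
    obtain ⟨m', -, rfl⟩ := (Submodule.mem_smul_pointwise_iff_exists _ _ _).1 hm
    refine (Submodule.mem_smul_pointwise_iff_exists _ _ _).2 ⟨m', Submodule.mem_top, ?_⟩
    simp [mul_smul, smul_comm y x])

/-- projection `M/(xy)M → M/yM`. -/
def projMap (x y : A) : QuotSMulTop (x * y) M →ₗ[A] QuotSMulTop y M :=
  Submodule.mapQ _ _ LinearMap.id (by
    intro m hm
    obtain ⟨m', -, rfl⟩ := (Submodule.mem_smul_pointwise_iff_exists _ _ _).1 hm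
    refine (Submodule.mem_smul_pointwise_iff_exists _ _ _).2 ⟨x • m', Submodule.mem_top, ?_⟩
    simp [mul_smul, smul_comm y x])

theorem mulMap_mk (x y : A) (m : M) :
    mulMap x y (Submodule.Quotient.mk m : QuotSMulTop x M) = Submodule.Quotient.mk (y • m) := rfl

theorem projMap_mk (x y : A) (m : M) :
    projMap x y (Submodule.Quotient.mk m : QuotSMulTop (x * y) M) = Submodule.Quotient.mk m := rfl

theorem mulMap_injective (x y : A) (hy : IsSMulRegular M y) :
    Function.Injective (mulMap (M := M) x y) := by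
  rw [injective_iff_map_eq_zero]
  intro q hq
  obtain ⟨m, rfl⟩ := Submodule.Quotient.mk_surjective _ q
  rw [mulMap_mk, Submodule.Quotient.mk_eq_zero] at hq
  obtain ⟨m', -, hm'⟩ := (Submodule.mem_smul_pointwise_iff_exists _ _ _).1 hq
  rw [Submodule.Quotient.mk_eq_zero]
  refine (Submodule.mem_smul_pointwise_iff_exists _ _ _).2 ⟨m', Submodule.mem_top, ?_⟩
  apply hy
  simp only
  rw [← hm', mul_smul, smul_comm]

theorem projMap_surjective (x y : A) : Function.Surjective (projMap (M := M) x y) := by
  intro q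
  obtain ⟨m, rfl⟩ := Submodule.Quotient.mk_surjective _ q
  exact ⟨Submodule.Quotient.mk m, rfl⟩

theorem mul_proj_exact (x y : A) : Function.Exact (mulMap (M := M) x y) (projMap x y) := by
  intro q
  obtain ⟨m, rfl⟩ := Submodule.Quotient.mk_surjective _ q
  rw [projMap_mk, Submodule.Quotient.mk_eq_zero]
  constructor
  · intro hm
    obtain ⟨m', -, rfl⟩ := (Submodule.mem_smul_pointwise_iff_exists _ _ _).1 hm
    exact ⟨Submodule.Quotient.mk m', rfl⟩
  · rintro ⟨q', hq'⟩
    obtain ⟨m', rfl⟩ := Submodule.Quotient.mk_surjective _ q'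
    rw [mulMap_mk, Submodule.Quotient.eq] at hq'
    obtain ⟨m'', -, hm''⟩ := (Submodule.mem_smul_pointwise_iff_exists _ _ _).1 hq'
    refine (Submodule.mem_smul_pointwise_iff_exists _ _ _).2
      ⟨m' - x • m'', Submodule.mem_top, ?_⟩
    have h2 : y • x • m'' = y • m' - m := by rw [← hm'', mul_smul, smul_comm y x]
    rw [smul_sub, h2]
    abel

theorem regular_mul (x y : A) (rs : List A) (hx : IsWeaklyRegular M (x :: rs))
    (hy : IsWeaklyRegular M (y :: rs)) : IsWeaklyRegular M ((x * y) :: rs) := by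
  rw [isWeaklyRegular_cons_iff] at hx hy ⊢
  refine ⟨hx.1.mul hy.1, ?_⟩
  exact ext_regular (mulMap x y) (projMap x y) (mulMap_injective x y hy.1)
    (projMap_surjective x y) (mul_proj_exact x y) rs hx.2 hy.2

theorem regular_pow (x : A) (rs : List A) (hx : IsWeaklyRegular M (x :: rs)) :
    ∀ v : ℕ, 1 ≤ v → IsWeaklyRegular M (x ^ v :: rs) := by
  intro v hv
  induction v, hv using Nat.le_induction with
  | base => simpa using hx
  | succ v _ ih =>
    rw [pow_succ]
    exact regular_mul _ _ rs ih hx

end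

theorem main {A : Type u} [CommRing A] : ∀ (n : ℕ) (M : Type u) [AddCommGroup M]
    [Module A M] (f : Fin n → A) (v : Fin n → ℕ) (_ : ∀ i, 1 ≤ v i)
    (_ : IsWeaklyRegular M (List.ofFn f)),
    IsWeaklyRegular M (List.ofFn fun i => f i ^ v i) := by
  intro n
  induction n with
  | zero => intro M _ _ f v _ _; simp
  | succ n ih =>
    intro M _ _ f v hv hf
    rw [List.ofFn_succ] at hf ⊢
    have h1 := regular_pow (f 0) _ hf (v 0) (hv 0)
    rw [isWeaklyRegular_cons_iff] at h1 ⊢
    refine ⟨h1.1, ?_⟩
    exact ih (QuotSMulTop (f 0 ^ v 0) M) (fun i => f i.succ) (fun i => v i.succ)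
      (fun i => hv _) h1.2


/-- Let A be a ring, M an A-module and (f_i)_{1 ≤ i ≤ n} an M-regular sequence of elements of A. Then
for any exponents v_i ≥ 1 the sequence (f_i ^ v_i) is again M-regular. -/
theorem result (A : Type u) [CommRing A] (M : Type u) [AddCommGroup M]
    [Module A M] (n : ℕ) (f : Fin n → A) (v : Fin n → ℕ) (hv : ∀ i, 1 ≤ v i)
    (hf : RingTheory.Sequence.IsWeaklyRegular M (List.ofFn f)) :
    RingTheory.Sequence.IsWeaklyRegular M (List.ofFn fun i => f i ^ v i) := by
  exact main n M f v hv hf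

end Groth.Agent.S5776
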