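import Groth.Statements.S6820
-- import your own Groth.Agent.* helpers here
import Mathlib

set_option autoImplicit false
universe u
open Smoothing

namespace Groth.Agent.S6820

/-- Let A be a Noetherian ring, M a finite A-module, S a multiplicative subset of A and π an element of
A such that on the localised module S⁻¹M the kernels of multiplication by π and by π² agree. Then
there is an element s of S such that for every n > 0 the kernels of multiplication by sⁿπ and by
(sⁿπ)² on M agree. (Kernel equalities are written as implications, the reverse inclusions being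
automatic.) -/
theorem result {A : Type u} [CommRing A] [IsNoetherianRing A]
    (M : Type u) [AddCommGroup M] [Module A M] [Module.Finite A M] (S : Submonoid A) (π : A)
    (h : ∀ m : LocalizedModule S M, π ^ 2 • m = 0 → π • m = 0) :
    ∃ s ∈ S, ∀ n : ℕ, 0 < n → ∀ m : M, (s ^ n * π) ^ 2 • m = 0 → (s ^ n * π) • m = 0 := by
  classical
  let f : M →ₗ[A] LocalizedModule S M := LocalizedModule.mkLinearMap S M
  let T : Submodule A M := LinearMap.ker f
  haveI : IsNoetherian A M := isNoetherian_of_isNoetherianRing_of_finite A M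
  have hfg : T.FG := IsNoetherian.noetherian T
  obtain ⟨gens, hgens⟩ := hfg
  have hex : ∀ g ∈ gens, ∃ s : S, (s : A) • g = 0 := by
    intro g hg
    have hgT : g ∈ T := hgens ▸ Submodule.subset_span hg
    have hg0 : f g = 0 := hgT
    obtain ⟨s', hs'⟩ := (IsLocalizedModule.eq_zero_iff S f).1 hg0
    exact ⟨s', hs'⟩
  choose! σ hσ using hex
  let s : S := ∏ g ∈ gens, σ g
  have hsT : ∀ m ∈ T, (s : A) • m = 0 := by
    intro m hm
    rw [← hgens] at hm
    refine Submodule.span_induction ?_ ?_ ?_ ?_ hm
    · intro g hg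
      have hs : s = (∏ g' ∈ gens.erase g, σ g') * σ g := (Finset.prod_erase_mul _ _ hg).symm
      rw [hs, Submonoid.coe_mul, mul_smul, hσ g hg, smul_zero]
    · rw [smul_zero]
    · intro x y _ _ hx hy
      rw [smul_add, hx, hy, add_zero]
    · intro a x _ hx
      rw [smul_comm, hx, smul_zero]
  refine ⟨(s : A), s.2, ?_⟩
  intro n hn m hm
  have h1 : f (((s : A) ^ n * π) ^ 2 • m) = 0 := by rw [hm, map_zero]
  have h2 : ((s ^ (2 * n) : S) : A) • (π ^ 2 • f m) = 0 := by
    rw [← h1, map_smul, ← mul_smul]
    congr 1
    rw [SubmonoidClass.coe_pow]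
    ring
  have h3 : π ^ 2 • f m = 0 := by
    apply IsLocalizedModule.smul_injective f (s ^ (2 * n))
    change ((s ^ (2 * n) : S) : A) • (π ^ 2 • f m) = ((s ^ (2 * n) : S) : A) • 0
    rw [h2, smul_zero]
  have h4 : π • f m = 0 := h _ h3
  have h5 : π • m ∈ T := by
    change f (π • m) = 0
    rw [map_smul, h4]
  have h6 : (s : A) • (π • m) = 0 := hsT _ h5
  obtain ⟨k, rfl⟩ : ∃ k, n = k + 1 := ⟨n - 1, by omega⟩
  rw [pow_succ, mul_assoc, mul_smul, mul_smul, h6, smul_zero]

end Groth.Agent.S6820
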