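import Groth.Statements.S6829
-- import your own Groth.Agent.* helpers here
import Groth.Agent.Lib.Helper27.SmoothingAux

set_option autoImplicit false
universe u
open Smoothing

namespace Groth.Agent.S6829

open TensorProduct in
/-- Let A be a finitely presented R-algebra, R → R' a ring map and a ∈ A. If a is elementary standard,
resp. strictly standard, in A over R, then a ⊗ 1 is elementary standard, resp. strictly standard, in
A ⊗_R R' over R' (written here as 1 ⊗ a in R' ⊗_R A). -/
theorem result {R A R' : Type u} [CommRing R] [CommRing A] [Algebra R A]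
    [Algebra.FinitePresentation R A] [CommRing R'] [Algebra R R'] (a : A) :
    (Smoothing.IsElementaryStandard R A a →
        Smoothing.IsElementaryStandard R' (R' ⊗[R] A) ((1 : R') ⊗ₜ[R] a)) ∧
      (Smoothing.IsStrictlyStandard R A a →
        Smoothing.IsStrictlyStandard R' (R' ⊗[R] A) ((1 : R') ⊗ₜ[R] a)) := by
  constructor
  · rintro ⟨P, ⟨a', ha'⟩, hk⟩
    refine ⟨Groth.Agent.Lib.Helper27.SmoothingAux.baseChange R' P, ⟨(1 : R') ⊗ₜ[R] a', ?_⟩,
      Groth.Agent.Lib.Helper27.SmoothingAux.killsTail_baseChange R' P a hk⟩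
    change _ = _ * Groth.Agent.Lib.Helper27.SmoothingAux.bcHom R' P
      (Smoothing.jacobianMinor (fun j => MvPolynomial.map (algebraMap R R') (P.rel j))
        (Fin.castLE P.hcm) (Fin.castLE P.hcn))
    rw [Groth.Agent.Lib.Helper27.SmoothingAux.jacobianMinor_map,
      Groth.Agent.Lib.Helper27.SmoothingAux.bcHom_map, Algebra.TensorProduct.tmul_mul_tmul, one_mul, ← ha']
  · rintro ⟨P, hmem, hk⟩
    refine ⟨Groth.Agent.Lib.Helper27.SmoothingAux.baseChange R' P, ?_,
      Groth.Agent.Lib.Helper27.SmoothingAux.killsTail_baseChange R' P a hk⟩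
    change _ ∈ Ideal.span (Set.range fun cols : Fin P.c → Fin P.n =>
      Groth.Agent.Lib.Helper27.SmoothingAux.bcHom R' P
        (Smoothing.jacobianMinor (fun j => MvPolynomial.map (algebraMap R R') (P.rel j))
          (Fin.castLE P.hcm) cols))
    have hm := Ideal.mem_map_of_mem
      ((Algebra.TensorProduct.includeRight : A →ₐ[R] R' ⊗[R] A) : A →+* R' ⊗[R] A) hmem
    rw [Ideal.map_span, ← Set.range_comp] at hm
    have heq : (fun cols : Fin P.c → Fin P.n =>
        Groth.Agent.Lib.Helper27.SmoothingAux.bcHom R' P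
          (Smoothing.jacobianMinor (fun j => MvPolynomial.map (algebraMap R R') (P.rel j))
            (Fin.castLE P.hcm) cols)) =
        (⇑((Algebra.TensorProduct.includeRight : A →ₐ[R] R' ⊗[R] A) : A →+* R' ⊗[R] A) ∘
          fun cols : Fin P.c → Fin P.n =>
            P.hom (Smoothing.jacobianMinor P.rel (Fin.castLE P.hcm) cols)) := by
      funext cols
      rw [Groth.Agent.Lib.Helper27.SmoothingAux.jacobianMinor_map,
        Groth.Agent.Lib.Helper27.SmoothingAux.bcHom_map]
      rfl
    rw [heq]
    exact hm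

end Groth.Agent.S6829
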