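import Groth.Statements.S6860
-- import your own Groth.Agent.* helpers here
import Groth.Agent.Lib.Helper27.PointPres

set_option autoImplicit false
universe u
open Smoothing

namespace Groth.Agent.S6860

/-- Let R → A be standard smooth and E ⊆ A a finite subset. Then A admits a standard smooth presentation
A = R[x₁, …, x_N]/(f₁, …, f_c) (a submersive presentation: finitely many generators and relations,
an injection from the relations to the variables picking the distinguished variables, and the
Jacobian of the relations with respect to the distinguished variables invertible in A) in which
every element of E is the class of a distinguished variable. (The published statement arranges E to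
be exactly the classes of the first n = |E| variables, all of them distinguished, with c ≥ n; this
row states that E is contained in the set of classes of the distinguished variables, which is what
that arrangement gives.) -/
theorem result {R A : Type u} [CommRing R] [CommRing A] [Algebra R A]
    [Algebra.IsStandardSmooth R A] (E : Finset A) :
    ∃ (ι σ : Type) (_ : Finite ι) (_ : Finite σ) (P : Algebra.SubmersivePresentation R A ι σ),
      (↑E : Set A) ⊆ Set.range (P.val ∘ P.map) := by
  classical
  obtain ⟨ι, σ, hσ, hι, ⟨P⟩⟩ := (inferInstance : Algebra.IsStandardSmooth R A).out
  let k := E.card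
  let ef : Fin k ≃ E := E.equivFin.symm
  let e : Fin k → A := fun i => (ef i : A)
  let Q := Groth.Agent.Lib.Helper27.PointPres.subPres e
  refine ⟨Fin k ⊕ ι, Fin k ⊕ σ, inferInstance, inferInstance, Q.comp P, ?_⟩
  intro x hx
  refine ⟨Sum.inl (ef.symm ⟨x, hx⟩), ?_⟩
  change (Q.comp P).val ((Q.comp P).map (Sum.inl (ef.symm ⟨x, hx⟩))) = x
  change e (ef.symm ⟨x, hx⟩) = x
  change ((ef (ef.symm ⟨x, hx⟩) : E) : A) = x
  rw [Equiv.apply_symm_apply]

end Groth.Agent.S6860
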