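import Groth.Statements.S2033
import Mathlib
import Groth.Agent.Lib.Helper22.PopZa
import Groth.Agent.Lib.Helper22.PopQ
-- import your own Groth.Agent.* helpers here

set_option autoImplicit false
universe u
open Smoothing

namespace Groth.Agent.S2033

open TensorProduct in
/-- Let `R` be Noetherian, `A → Λ` an `R`-algebra map with `A` finitely presented, `𝔮 ⊆ Λ` a prime
minimal over the radical of the extended singular ideal of `A`, and `𝔭` its contraction to `R`. If
the localized problem `R_𝔭 → R_𝔭 ⊗ A → Λ_𝔮` can be resolved at `𝔮Λ_𝔮`, then `A → Λ` factors through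
a finitely presented `R`-algebra `C` whose singular ideal over `R` does not extend into `𝔮`. -/
theorem result {R A Λ Rₚ Λq : Type u} [CommRing R] [IsNoetherianRing R] [CommRing A]
    [Algebra R A] [Algebra.FinitePresentation R A] [CommRing Λ] [Algebra R Λ] (φ : A →ₐ[R] Λ)
    (𝔮 : Ideal Λ) [𝔮.IsPrime] (hmin : 𝔮 ∈ (Smoothing.singRad R φ).minimalPrimes)
    [CommRing Rₚ] [Algebra R Rₚ] [IsLocalization.AtPrime Rₚ (𝔮.comap (algebraMap R Λ))]
    [CommRing Λq] [Algebra Λ Λq] [IsLocalization.AtPrime Λq 𝔮] [Algebra R Λq] [IsScalarTower R Λ Λq]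
    [Algebra Rₚ Λq] [IsScalarTower R Rₚ Λq]
    (hres : Smoothing.Resolvable Rₚ
      (Algebra.TensorProduct.lift (Algebra.ofId Rₚ Λq) ((IsScalarTower.toAlgHom R Λ Λq).comp φ)
        (fun _ _ => Commute.all _ _) : Rₚ ⊗[R] A →ₐ[Rₚ] Λq) (𝔮.map (algebraMap Λ Λq))) :
    ∃ (C : Type u) (_ : CommRing C) (_ : Algebra R C), Algebra.FinitePresentation R C ∧
      ∃ (g : A →ₐ[R] C) (h : C →ₐ[R] Λ), h.comp g = φ ∧
        ¬ (Smoothing.singularIdeal R C).map h ≤ 𝔮 := by
  classical
  obtain ⟨B₀, _, _, hfp, g₀, h₀, hcomp, -, hnot⟩ := hres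
  haveI : IsLocalRing Λq := IsLocalization.AtPrime.isLocalRing Λq 𝔮
  have hP : 𝔮.map (algebraMap Λ Λq) = IsLocalRing.maximalIdeal Λq :=
    IsLocalization.AtPrime.map_eq_maximalIdeal 𝔮 Λq
  rw [hP, Smoothing.singRad,
    (IsLocalRing.maximalIdeal.isMaximal Λq).isPrime.radical_le_iff, Ideal.map_le_iff_le_comap,
    SetLike.not_le_iff_exists] at hnot
  obtain ⟨b, hb, hb'⟩ := hnot
  have hunit : IsUnit (h₀ b) := by
    rw [Ideal.mem_comap] at hb'
    exact (IsLocalRing.notMem_maximalIdeal).mp hb'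
  haveI := hfp
  haveI : Algebra.Smooth Rₚ (Localization.Away b) :=
    Groth.Agent.Lib.Helper22.Pop.smooth_away_of_mem_singularIdeal hb
  have hf : ∀ y : Submonoid.powers b, IsUnit (h₀ y) := by
    rintro ⟨_, n, rfl⟩
    rw [map_pow]
    exact hunit.pow n
  refine Groth.Agent.Lib.Helper22.Pop.delocalize_weak_of_smooth (B' := Localization.Away b) φ 𝔮
    ((IsScalarTower.toAlgHom Rₚ B₀ (Localization.Away b)).comp g₀)
    (IsLocalization.liftAlgHom (M := Submonoid.powers b) (f := h₀) hf) ?_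
  rw [← hcomp]
  ext x
  simp

end Groth.Agent.S2033
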