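import Groth.Statements.S9282
import Groth.Agent.Lib.Helper5.JacAdic
import Mathlib.RingTheory.Extension.Cotangent.Basic

set_option autoImplicit false
universe u
open CAlg

namespace Groth.Agent.S9282

theorem key_aux {A B K : Type u} [CommRing A] [CommRing B] [CommRing K] [Algebra A B]
    [Algebra B K] [Algebra A K] [IsScalarTower A B K] {I : Ideal B}
    (hfs : CAlgX.IsAdicFormallySmooth A B I)
    (hI : ∃ k : ℕ, ∀ x ∈ I ^ k, algebraMap B K x = 0)
    (ξ : MvPolynomial K A)
    (hξ : MvPolynomial.map (algebraMap A B) ξ ∈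
      RingHom.ker (MvPolynomial.aeval (R := B) (id : K → K)) ^ 2) :
    ξ ∈ RingHom.ker (MvPolynomial.aeval (R := A) (id : K → K)) ^ 2 := by
  let pA : MvPolynomial K A →ₐ[A] K := MvPolynomial.aeval (R := A) (id : K → K)
  let pB : MvPolynomial K B →ₐ[B] K := MvPolynomial.aeval (R := B) (id : K → K)
  let π : (MvPolynomial K A ⧸ RingHom.ker pA.toRingHom ^ 2) →ₐ[A] K := pA.kerSquareLift
  have hπmk : ∀ z, π (Ideal.Quotient.mk _ z) = pA z := fun z => rfl
  have hπsurj : Function.Surjective π := by
    intro k
    exact ⟨Ideal.Quotient.mk _ (MvPolynomial.X k), by rw [hπmk]; exact MvPolynomial.aeval_X _ _⟩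
  have hπsq : RingHom.ker π ^ 2 = ⊥ := by
    change RingHom.ker (AlgHom.kerSquareLift pA).toRingHom ^ 2 = ⊥
    rw [AlgHom.ker_kerSquareLift, Ideal.cotangentIdeal_square]
  obtain ⟨σ, hσ⟩ := Lib.Helper5.JacAdic.lift_surj hfs π hπsurj hπsq
    (IsScalarTower.toAlgHom A B K) hI
  have hσ' : ∀ b : B, π (σ b) = algebraMap B K b :=
    fun b => congrArg (fun g => g b) hσ
  let Sg : MvPolynomial K B →+* (MvPolynomial K A ⧸ RingHom.ker pA.toRingHom ^ 2) :=
    MvPolynomial.eval₂Hom (σ : B →+* _) (fun k => Ideal.Quotient.mk _ (MvPolynomial.X k))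
  have h1 : Sg.comp (MvPolynomial.map (algebraMap A B)) = Ideal.Quotient.mk _ := by
    apply MvPolynomial.ringHom_ext
    · intro a
      rw [RingHom.comp_apply, MvPolynomial.map_C]
      simp only [Sg, MvPolynomial.coe_eval₂Hom, MvPolynomial.eval₂_C]
      exact σ.commutes a
    · intro k
      rw [RingHom.comp_apply, MvPolynomial.map_X]
      simp only [Sg, MvPolynomial.coe_eval₂Hom, MvPolynomial.eval₂_X]
  have h2 : (π : _ →+* K).comp Sg = (pB : _ →+* K) := by
    apply MvPolynomial.ringHom_ext
    · intro b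
      simp only [RingHom.comp_apply, Sg, MvPolynomial.coe_eval₂Hom, MvPolynomial.eval₂_C]
      change π (σ b) = pB (MvPolynomial.C b)
      rw [hσ' b]
      exact (MvPolynomial.aeval_C _ _).symm
    · intro k
      simp only [RingHom.comp_apply, Sg, MvPolynomial.coe_eval₂Hom, MvPolynomial.eval₂_X]
      change π (Ideal.Quotient.mk _ (MvPolynomial.X k)) = pB (MvPolynomial.X k)
      rw [hπmk]
      exact (MvPolynomial.aeval_X _ _).trans (MvPolynomial.aeval_X _ _).symm
  have h3 : RingHom.ker pB ≤ (RingHom.ker π).comap Sg := by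
    intro ζ hζ
    rw [Ideal.mem_comap, RingHom.mem_ker]
    have := RingHom.congr_fun h2 ζ
    rw [RingHom.comp_apply] at this
    exact this.trans hζ
  have h4 : RingHom.ker pB ^ 2 ≤ (⊥ : Ideal _).comap Sg := by
    rw [← Ideal.map_le_iff_le_comap, Ideal.map_pow, ← hπsq]
    exact Ideal.pow_right_mono (Ideal.map_le_iff_le_comap.2 h3) 2
  have h5 : Sg (MvPolynomial.map (algebraMap A B) ξ) = 0 := by
    have := h4 hξ
    rwa [Ideal.mem_comap, Ideal.mem_bot] at this
  have h6 := RingHom.congr_fun h1 ξ
  rw [RingHom.comp_apply, h5] at h6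
  exact Ideal.Quotient.eq_zero_iff_mem.1 h6.symm

/-- Let A → B be a local ring map between Noetherian local rings that is formally smooth for the adic
topology of the maximal ideal of B, and write K for the residue field of B. In the Jacobi–Zariski
sequence attached to A → B → K, the map from H_1(NL_{K/A}) to H_1(NL_{K/B}), which is m_B/m_B^2, is
injective; the remaining terms are exact in general, so that sequence starts with a zero. -/
theorem result (A B : Type u) [CommRing A]
    [CommRing B] [IsLocalRing A] [IsLocalRing B] [IsNoetherianRing A] [IsNoetherianRing B]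
    [Algebra A B] [IsLocalHom (algebraMap A B)]
    (hfs : CAlgX.IsAdicFormallySmooth A B (IsLocalRing.maximalIdeal B)) :
    Function.Injective
      (Algebra.H1Cotangent.map A B (IsLocalRing.ResidueField B) (IsLocalRing.ResidueField B)) := by
  let PA := Algebra.Generators.self A (IsLocalRing.ResidueField B)
  let PB := Algebra.Generators.self B (IsLocalRing.ResidueField B)
  let f := (Algebra.Generators.defaultHom PA PB).toExtensionHom
  have hf : ∀ ξ : MvPolynomial (IsLocalRing.ResidueField B) A,
      f.toRingHom ξ = MvPolynomial.map (algebraMap A B) ξ := by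
    intro ξ
    change (Algebra.Generators.defaultHom PA PB).toAlgHom ξ = _
    induction ξ using MvPolynomial.induction_on with
    | C a => rw [Algebra.Generators.Hom.toAlgHom_C, MvPolynomial.map_C]
    | add p q hp hq => rw [map_add, map_add, hp, hq]
    | mul_X p k hp =>
      rw [map_mul, map_mul, hp, Algebra.Generators.Hom.toAlgHom_X, MvPolynomial.map_X]
      rfl
  have key : ∀ ξ : PA.toExtension.Ring, f.toRingHom ξ ∈ PB.toExtension.ker ^ 2 →
      ξ ∈ PA.toExtension.ker ^ 2 := by
    intro ξ hξ
    have hkA : PA.toExtension.ker = RingHom.ker (MvPolynomial.aeval (R := A)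
        (id : IsLocalRing.ResidueField B → IsLocalRing.ResidueField B)) :=
      PA.ker_eq_ker_aeval_val
    have hkB : PB.toExtension.ker = RingHom.ker (MvPolynomial.aeval (R := B)
        (id : IsLocalRing.ResidueField B → IsLocalRing.ResidueField B)) :=
      PB.ker_eq_ker_aeval_val
    rw [hkA]
    rw [hkB, hf] at hξ
    exact key_aux hfs ⟨1, fun x hx => by
        rw [pow_one] at hx
        exact (IsLocalRing.residue_eq_zero_iff x).2 hx⟩ ξ hξ
  rw [injective_iff_map_eq_zero]
  intro x hx
  apply Algebra.Extension.h1Cotangentι_ext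
  obtain ⟨ξ, hξ⟩ := Algebra.Extension.Cotangent.mk_surjective x.1
  have h7 : Algebra.Extension.Cotangent.map f x.1 = 0 := by
    have := congrArg Subtype.val hx
    exact this
  rw [← hξ, Algebra.Extension.Cotangent.map_mk, Algebra.Extension.Cotangent.mk_eq_zero_iff] at h7
  rw [← hξ]
  exact (Algebra.Extension.Cotangent.mk_eq_zero_iff ξ).2 (key ξ.1 h7)

end Groth.Agent.S9282
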