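import Groth.Statements.S2029
import Mathlib
import Groth.Agent.Lib.Helper22.PopZ
-- import your own Groth.Agent.* helpers here

set_option autoImplicit false
universe u
open Smoothing

namespace Groth.Agent.S2029

open TensorProduct in
/-- Let `R → A → Λ` with `A` finitely presented over `R`, `S ⊆ R` a multiplicative subset and `R_S` the
localization. If `R_S ⊗ A → R_S ⊗ Λ` factors through a smooth `R_S`-algebra, then `A → Λ` factors
through an `R`-algebra `B` in which some element of `S` is elementary standard over `R`. -/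
theorem result {R A Λ Rₛ B' : Type u} [CommRing R] [CommRing A] [Algebra R A]
    [Algebra.FinitePresentation R A] [CommRing Λ] [Algebra R Λ] (φ : A →ₐ[R] Λ) (S : Submonoid R)
    [CommRing Rₛ] [Algebra R Rₛ] [IsLocalization S Rₛ] [CommRing B'] [Algebra Rₛ B']
    [Algebra.Smooth Rₛ B'] (g : Rₛ ⊗[R] A →ₐ[Rₛ] B') (h : B' →ₐ[Rₛ] Rₛ ⊗[R] Λ)
    (hgh : h.comp g = Algebra.TensorProduct.map (AlgHom.id Rₛ Rₛ) φ) :
    ∃ (B : Type u) (_ : CommRing B) (_ : Algebra R B) (α : A →ₐ[R] B) (β : B →ₐ[R] Λ),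
      β.comp α = φ ∧ ∃ s ∈ S, Smoothing.IsElementaryStandard R B (algebraMap R B s) := by
  classical
  letI algRB : Algebra R B' := ((algebraMap Rₛ B').comp (algebraMap R Rₛ)).toAlgebra
  haveI : IsScalarTower R Rₛ B' := IsScalarTower.of_algebraMap_eq (fun _ => rfl)
  let ψ : A →ₐ[R] B' := (g.restrictScalars R).comp Algebra.TensorProduct.includeRight
  obtain ⟨n, N, c, t, πA, gg, f, cols, i, s₀, s₁, τ, hπA, hker, hcols, hs₀, hs₁, h1, h2, hτ, hτi⟩ :=
    Groth.Agent.Lib.Helper22.Pop.front_end (R' := Rₛ) S ψ h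
  haveI : IsLocalizedModule S (TensorProduct.mk R Rₛ Λ 1) :=
    (isLocalizedModule_iff_isBaseChange S Rₛ (TensorProduct.mk R Rₛ Λ 1)).mpr
      (TensorProduct.isBaseChange R Λ Rₛ)
  refine Groth.Agent.Lib.Helper22.Pop.delocalize_base_core φ S
    (Algebra.TensorProduct.includeRight : Λ →ₐ[R] Rₛ ⊗[R] Λ) ?_ ?_ πA gg f cols i s₀ s₁ τ
    hπA hker hcols hs₀ hs₁ h1 h2 hτ ?_
  · intro y
    obtain ⟨⟨x, s⟩, hx⟩ := IsLocalizedModule.surj S (TensorProduct.mk R Rₛ Λ 1) y
    refine ⟨s, s.2, x, ?_⟩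
    rw [← Algebra.smul_def]
    exact hx
  · intro x hx
    have hx' : (TensorProduct.mk R Rₛ Λ 1) x = 0 := hx
    obtain ⟨s, hs⟩ := (IsLocalizedModule.eq_zero_iff S (TensorProduct.mk R Rₛ Λ 1)).mp hx'
    refine ⟨s, s.2, ?_⟩
    rw [← Algebra.smul_def]
    exact hs
  · intro k
    rw [hτi k]
    have h3 := congrArg (fun χ => χ ((1 : Rₛ) ⊗ₜ[R] πA (MvPolynomial.X k))) hgh
    simp only [AlgHom.comp_apply, Algebra.TensorProduct.map_tmul, AlgHom.coe_id, id_eq] at h3
    exact h3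

end Groth.Agent.S2029
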