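import Groth.Statements.S14856
import Mathlib
-- import your own Groth.Agent.* helpers here

set_option autoImplicit false
universe u
open CAlg

namespace Groth.Agent.S14856


theorem ghost_eq (p : ℕ) [Fact p.Prime] (S : Type u) [CommRing S] (x : WittVector p S) (n : ℕ) :
    WittVector.ghostComponent n x =
      ∑ i ∈ Finset.range (n + 1), (p : S) ^ i * x.coeff i ^ p ^ (n - i) := by
  rw [WittVector.ghostComponent_apply, wittPolynomial_eq_sum_C_mul_X_pow]
  simp [map_sum]

theorem arith (p : ℕ) (hp : 2 ≤ p) (k s : ℕ) (hs : 1 ≤ s) : k + s ≤ s * p ^ k := by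
  have h1 : k + 1 ≤ p ^ k := Nat.lt_pow_self hp
  calc k + s ≤ s * (k + 1) := by nlinarith
    _ ≤ s * p ^ k := Nat.mul_le_mul_left s h1

theorem term_dvd (p : ℕ) (hp : 2 ≤ p) (S : Type u) [CommRing S] (a : S) (s j n : ℕ) (hs : 1 ≤ s)
    (hjn : j ≤ n) (h : (p : S) ^ s ∣ a) : (p : S) ^ (n + s) ∣ (p : S) ^ j * a ^ p ^ (n - j) := by
  obtain ⟨y, rfl⟩ := h
  rw [mul_pow, ← pow_mul, ← mul_assoc, ← pow_add]
  apply Dvd.dvd.mul_right
  apply pow_dvd_pow
  have := arith p hp (n - j) s hs
  omega

theorem cancel_pow (p : ℕ) (S : Type u) [CommRing S] (hS : ∀ y : S, (p : S) * y = 0 → y = 0)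
    (k : ℕ) (y : S) (h : (p : S) ^ k * y = 0) : y = 0 := by
  induction k with
  | zero => simpa using h
  | succ k ih =>
    apply ih
    apply hS
    rw [← mul_assoc, ← pow_succ']
    exact h

/-- Let p be a prime and S a commutative ring in which p is a non-zero-divisor. For a p-typical Witt
vector x over S, a natural number m and an integer s ≥ 1, the power p^s divides each of the Witt
components x_0, …, x_m if and only if p^(n+s) divides the n-th ghost component w_n(x) = x_0^(p^n) +
p x_1^(p^(n-1)) + ⋯ + p^n x_n for every n ≤ m. -/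
theorem result (p : ℕ) [Fact p.Prime] (S : Type u) [CommRing S]
    (hS : ∀ y : S, (p : S) * y = 0 → y = 0) (x : WittVector p S) (m s : ℕ) (hs : 1 ≤ s) :
    (∀ i ≤ m, (p : S) ^ s ∣ x.coeff i) ↔
      (∀ n ≤ m, (p : S) ^ (n + s) ∣ WittVector.ghostComponent n x) := by
  have hp : 2 ≤ p := (Fact.out : p.Prime).two_le
  constructor
  · intro h n hn
    rw [ghost_eq]
    apply Finset.dvd_sum
    intro i hi
    have hin : i ≤ n := Nat.lt_succ_iff.mp (Finset.mem_range.mp hi)
    exact term_dvd p hp S _ s i n hs hin (h i (le_trans hin hn))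
  · intro h i
    induction i using Nat.strong_induction_on with
    | _ i ih =>
      intro him
      have hg := h i him
      rw [ghost_eq, Finset.sum_range_succ, Nat.sub_self, pow_zero, pow_one] at hg
      have hsum : (p : S) ^ (i + s) ∣
          ∑ j ∈ Finset.range i, (p : S) ^ j * x.coeff j ^ p ^ (i - j) := by
        apply Finset.dvd_sum
        intro j hj
        have hji : j < i := Finset.mem_range.mp hj
        exact term_dvd p hp S _ s j i hs hji.le (ih j hji (le_trans hji.le him))
      have hlast : (p : S) ^ (i + s) ∣ (p : S) ^ i * x.coeff i := (dvd_add_right hsum).mp hg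
      obtain ⟨c, hc⟩ := hlast
      refine ⟨c, ?_⟩
      have : (p : S) ^ i * (x.coeff i - (p : S) ^ s * c) = 0 := by
        rw [mul_sub, hc, pow_add]; ring
      exact sub_eq_zero.mp (cancel_pow p S hS i _ this)

end Groth.Agent.S14856
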