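import Groth.Statements.S13607
import Groth.Agent.S3148
-- import your own Groth.Agent.* helpers here

set_option autoImplicit false
open CategoryTheory CategoryTheory.Limits Opposite
universe w v u
open ARSys

namespace Groth.Agent.S13607

open Groth.Agent.S3148

theorem homKilledBy_of_killedBy {C : Type u} [Category.{v} C] {A : Type w} [CommRing A] [Preadditive C]
    [Linear A C] {I : Ideal A} {X Y : C} (hY : ARSys.KilledBy I Y) (f : X ⟶ Y) :
    ARSys.HomKilledBy I f := by
  intro a ha
  have : a • f = f ≫ (a • 𝟙 Y) := by rw [Linear.comp_smul, Category.comp_id]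
  rw [this, hY a ha, comp_zero]

theorem IsQuot.epi {C : Type u} [Category.{v} C] {A : Type w} [CommRing A] [Preadditive C]
    [Linear A C] {I : Ideal A} {X Q : C} {p : X ⟶ Q} (h : ARSys.IsQuot I p) : Epi p := by
  constructor
  intro Z ψ ψ' hψ
  have hk : ARSys.HomKilledBy I (p ≫ ψ) := by
    intro a ha
    have e : a • (p ≫ ψ) = p ≫ (a • 𝟙 Q) ≫ ψ := by
      rw [Linear.smul_comp, Category.id_comp, Linear.comp_smul]
    rw [e, h.1 a ha, zero_comp, comp_zero]
  obtain ⟨ψ₀, _, huniq⟩ := h.2 Z (p ≫ ψ) hk
  rw [huniq ψ rfl, huniq ψ' hψ.symm]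

/-- In an abelian category linear over a commutative ring A with an ideal J, let X be a J-adic
projective system indexed by the natural numbers and Y a projective system whose n-th term is killed
by J^(n+1) for every n. Then for every r, every morphism from the translate X[r] to Y factors
uniquely through the canonical translation map X[r] ⟶ X: there is exactly one morphism g : X ⟶ Y
whose n-th component, precomposed with the transition map X_(n+r) ⟶ X_n, is the n-th component of
the given morphism. In particular morphisms X ⟶ Y up to translation are the same as morphisms X ⟶ Y.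
(The published statement is for systems of finitely generated modules over a Noetherian ring, and
for systems of sheaves of modules on the small etale site; this row states it in any linear abelian
category, which is all the argument uses.) -/
theorem result {C : Type u} [Category.{v} C] [Abelian C] {A : Type w} [CommRing A] [Linear A C]
    (J : Ideal A) (X Y : ARSys.PS C) (hX : ARSys.IsAdic J X) (hY : ARSys.TermKilled J Y) (r : ℕ)
    (f : (ARSys.shift C r).obj X ⟶ Y) :
    ∃! g : X ⟶ Y, ∀ n : ℕ, f.app (op n) = ARSys.shiftMap X r n ≫ g.app (op n) := by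
  classical
  have hq : ∀ n : ℕ, ARSys.IsQuot (J ^ (n + 1)) (ARSys.tr X (Nat.le_add_right n r)) :=
    fun n => hX.2 n (n + r) _
  have hepi : ∀ n : ℕ, Epi (ARSys.tr X (Nat.le_add_right n r)) := fun n => IsQuot.epi (hq n)
  let fn : ∀ n : ℕ, X.obj (op (n + r)) ⟶ Y.obj (op n) := fun n => f.app (op n)
  have hex : ∀ n : ℕ, ∃! ψ : X.obj (op n) ⟶ Y.obj (op n),
      ARSys.tr X (Nat.le_add_right n r) ≫ ψ = fn n :=
    fun n => (hq n).2 _ (fn n) (homKilledBy_of_killedBy (hY n) _)
  choose gfun hg hguniq using hex
  have hnat : ∀ (n m : ℕ) (h : n ≤ m), ARSys.tr X h ≫ gfun n = gfun m ≫ ARSys.tr Y h := by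
    intro n m h
    have := hepi m
    rw [← cancel_epi (ARSys.tr X (Nat.le_add_right m r))]
    have hf : ARSys.tr X (Nat.add_le_add_right h r) ≫ fn n = fn m ≫ ARSys.tr Y h :=
      f.naturality (homOfLE h).op
    rw [← Category.assoc, tr_comp, ← Category.assoc, hg m, ← hf, ← hg n, ← Category.assoc, tr_comp]
  let g : X ⟶ Y :=
    { app := fun k => gfun k.unop
      naturality := by
        intro k l φ
        have h : l.unop ≤ k.unop := leOfHom φ.unop
        have hφ : φ = (homOfLE h).op := Subsingleton.elim _ _
        subst hφ
        exact hnat l.unop k.unop h }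
  refine ⟨g, fun n => (hg n).symm, ?_⟩
  intro g' hg'
  ext k
  obtain ⟨n⟩ := k
  change g'.app (op n) = gfun n
  exact hguniq n _ (hg' n).symm

end Groth.Agent.S13607
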