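import Groth.Statements.S0128
-- import your own Groth.Agent.* helpers here
import Groth.Agent.Lib.Helper23.Strata

set_option autoImplicit false
universe u
open CategoryTheory CategoryTheory.Limits AlgebraicGeometry Opposite
open EtPBC

namespace Groth.Agent.S0128

/-- (1) iff (3), abelian case: for X quasi-compact and quasi-separated, F is constructible iff X itself
admits a finite partition into constructible locally closed strata along which F becomes finite
locally constant. -/
theorem result (X : Scheme.{u}) [CompactSpace X] [QuasiSeparatedSpace X]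
    (F : EtCoh.Ab X) :
    EtPBC.IsConstructible F ↔ EtPBC.AdaptedStrata F (Set.univ : Set X) := by
  open Groth.Agent.Lib.Helper23.Strata in
  have key : EtPBC.AdaptedStrata F (Set.univ : Set X) ↔ Adapted F ⊤ := adaptedStrata_iff F ⊤
  rw [key]
  constructor
  · intro hF
    have hx : ∀ x : X, ∃ W : X.Opens, IsAffineOpen W ∧ x ∈ W := fun x => by
      obtain ⟨W, hW, hx, -⟩ := exists_isAffineOpen_mem_and_subset (x := x) (U := ⊤) trivial
      exact ⟨W, hW, hx⟩
    choose W hWa hxW using hx
    obtain ⟨t, ht⟩ := isCompact_univ.elim_finite_subcover (fun x : X => (W x : Set X))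
      (fun x => (W x).isOpen) (fun y _ => Set.mem_iUnion.2 ⟨y, hxW y⟩)
    let e := t.equivFin
    haveI : QuasiSeparatedSpace ((⊤ : X.Opens) : Scheme.{u}) :=
      (⊤ : X.Opens).ι.isOpenEmbedding.quasiSeparatedSpace
    apply Adapted.glue ⊤ t.card (fun k => W (e.symm k).1)
      (fun k => le_top) (fun k => (hWa _).isCompact)
    · intro y hy
      have := ht (Set.mem_univ y)
      simp only [Set.mem_iUnion, exists_prop] at this
      obtain ⟨x, hxt, hyx⟩ := this
      refine Set.mem_iUnion.2 ⟨e ⟨x, hxt⟩, ?_⟩
      simp only [Equiv.symm_apply_apply]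
      exact hyx
    · intro k
      exact (adaptedStrata_iff F _).1 (hF _ (hWa (e.symm k).1))
  · intro h V hV
    rw [adaptedStrata_iff]
    exact h.restrict_open le_top


end Groth.Agent.S0128
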