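import Groth.Statements.S0127
-- import your own Groth.Agent.* helpers here
import Groth.Agent.Lib.Helper23.Strata

set_option autoImplicit false
universe u
open CategoryTheory CategoryTheory.Limits AlgebraicGeometry Opposite
open EtPBC

namespace Groth.Agent.S0127

/-- Abelian case: if F is a constructible abelian sheaf on Y_et and f : X -> Y is any morphism of
schemes, then f^* F is constructible on X_et. -/
theorem result {X Y : Scheme.{u}} (f : X ⟶ Y) [EtCoh.BCCont f]
    (F : EtCoh.Ab Y) (hF : EtPBC.IsConstructible F) :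
    EtPBC.IsConstructible ((EtCoh.pull f).obj F) := by
  open Groth.Agent.Lib.Helper23.Strata in
  intro W hW
  rw [adaptedStrata_iff]
  have hx : ∀ x : W, ∃ (V : Y.Opens) (W' : X.Opens), IsAffineOpen V ∧ IsAffineOpen W' ∧
      (x : X) ∈ W' ∧ W' ≤ W ⊓ f ⁻¹ᵁ V := by
    intro x
    obtain ⟨V, hV, hfx, -⟩ := exists_isAffineOpen_mem_and_subset (x := f x.1) (U := ⊤) trivial
    obtain ⟨W', hW', hxW', hs⟩ :=
      exists_isAffineOpen_mem_and_subset (x := x.1) (U := W ⊓ f ⁻¹ᵁ V) ⟨x.2, hfx⟩
    exact ⟨V, W', hV, hW', hxW', hs⟩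
  choose V W' hVa hW'a hxW' hs using hx
  have hWc : IsCompact (W : Set X) := hW.isCompact
  obtain ⟨t, ht⟩ := hWc.elim_finite_subcover (fun x : W => (W' x : Set X))
    (fun x => (W' x).isOpen) (fun y hy => Set.mem_iUnion.2 ⟨⟨y, hy⟩, hxW' _⟩)
  let e := t.equivFin
  haveI : IsAffine (W : Scheme.{u}) := hW
  apply Adapted.glue W t.card (fun k => W' (e.symm k).1)
    (fun k => (hs _).trans inf_le_left) (fun k => (hW'a _).isCompact)
  · intro y hy
    have := ht hy
    simp only [Set.mem_iUnion, exists_prop] at this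
    obtain ⟨x, hxt, hyx⟩ := this
    refine Set.mem_iUnion.2 ⟨e ⟨x, hxt⟩, ?_⟩
    simp only [Equiv.symm_apply_apply]
    exact hyx
  · intro k
    exact Adapted.pullback f _ ((hs _).trans inf_le_right)
      ((adaptedStrata_iff F _).1 (hF _ (hVa (e.symm k).1)))


end Groth.Agent.S0127
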