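import Groth.Statements.S0142
-- import your own Groth.Agent.* helpers here
import Groth.Agent.Lib.Helper23.ConstrACC

set_option autoImplicit false
universe u
open CategoryTheory CategoryTheory.Limits AlgebraicGeometry Opposite
open EtPBC

namespace Groth.Agent.S0142

/-- For X Noetherian and F a constructible abelian sheaf on X_et, every increasing sequence of
subsheaves F_1 ⊆ F_2 ⊆ ... ⊆ F is eventually constant. -/
theorem result (X : Scheme.{u}) [IsNoetherian X]
    (F : EtCoh.Ab X) (hF : EtPBC.IsConstructible F) (c : ℕ →o Subobject F) :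
    ∃ N, ∀ m, N ≤ m → c m = c N := by
  obtain ⟨N, hN⟩ := Groth.Agent.Lib.Helper23.ConstrACC.exists_stab F hF
    (fun m => ((c m : Subobject F) : EtCoh.Ab X)) (fun m => (c m).arrow)
    (fun m m' h => Subobject.ofLE (c m) (c m') (c.monotone h))
    (fun m m' h => Subobject.ofLE_arrow _)
  refine ⟨N, fun m hm => ?_⟩
  haveI := hN m hm
  exact (Subobject.eq_of_comm (asIso (Subobject.ofLE (c N) (c m) (c.monotone hm)))
    (Subobject.ofLE_arrow _)).symm

end Groth.Agent.S0142
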