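import Groth.Statements.S0648
import Groth.Agent.Lib.Helper6.MPOverShriek

set_option autoImplicit false
open CategoryTheory CategoryTheory.Limits AlgebraicGeometry Opposite
universe u
open EtCore

namespace Groth.Agent.S0648

/-- For an etale morphism j : U -> X the extension by zero functor j_! on abelian sheaves preserves
finite limits (it is a left adjoint, so it is then exact). (Continuity of the composition functor of
etale sites, which always holds, is carried as an instance hypothesis.) -/
theorem result {U X : Scheme.{u}} (j : U ⟶ X) [AlgebraicGeometry.Etale j] [EtShriek.JCont j] :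
    PreservesFiniteLimits (EtShriek.extZero j) := by
  open Groth.Agent.Lib.Helper6 in
  classical
  have hj : EtCoh.etaleMP j := inferInstance
  let M : MultiAdj.MultiInit.{u} (EtShriek.compEtale j) :=
    MPOverShriek.mpOverMap (P := EtCoh.etaleMP.{u}) hj
  haveI : AB4OfSize.{u} AddCommGrpCat.{u + 1} := AB4OfSize_shrink.{u, u + 1} _
  have hA : MultiAdj.SigmaMono M AddCommGrpCat.{u + 1} := fun V X Y f hf => by
    haveI := hf
    exact OverShriek.mono_sigmaMap f
  have e : EtShriek.extZero j ≅
      MultiAdj.shriek M U.smallEtaleTopology X.smallEtaleTopology (A := AddCommGrpCat.{u + 1}) :=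
    Adjunction.leftAdjointUniq (EtShriek.extZeroAdj j) (MultiAdj.adj M _ _)
  haveI := MultiAdj.shriek_preservesFiniteLimits M U.smallEtaleTopology X.smallEtaleTopology hA
  exact preservesFiniteLimits_of_natIso e.symm

end Groth.Agent.S0648
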