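import Groth.Statements.S0130
-- import your own Groth.Agent.* helpers here
import Groth.Agent.Lib.Helper23.StrataCover

set_option autoImplicit false
universe u
open CategoryTheory CategoryTheory.Limits AlgebraicGeometry Opposite
open EtPBC

namespace Groth.Agent.S0130

/-- Abelian case: X quasi-compact and quasi-separated, T_i -> X immersions with constructible images
covering X, and F pulled back to each T_i constructible; then F is constructible. -/
theorem result (X : Scheme.{u}) [CompactSpace X] [QuasiSeparatedSpace X]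
    (F : EtCoh.Ab X) {ι : Type u} (T : ι → Scheme.{u}) (g : ∀ i, T i ⟶ X) [∀ i, IsImmersion (g i)]
    [∀ i, EtCoh.BCCont (g i)]
    (hc : ∀ i, Topology.IsConstructible (Set.range (g i)))
    (hcov : (⋃ i, Set.range (g i)) = Set.univ)
    (h : ∀ i, EtPBC.IsConstructible ((EtCoh.pull (g i)).obj F)) :
    EtPBC.IsConstructible F := by
  open Groth.Agent.Lib.Helper23.Strata in
  obtain ⟨t, ht⟩ := Groth.Agent.Lib.Helper23.ConstrTop.exists_finite_cover
    (fun i => Set.range (g i)) hc hcov
  let e := t.equivFin
  have hcov' : Groth.Agent.Lib.Helper23.Strata.Covered F t.card := by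
    refine ⟨fun k => T (e.symm k).1, fun k => g (e.symm k).1, fun k => inferInstance,
      fun k => hc _, fun x => ?_, fun k => h _⟩
    obtain ⟨i, hi, hx⟩ := ht x
    refine ⟨e ⟨i, hi⟩, ?_⟩
    have he : (e.symm (e ⟨i, hi⟩)).1 = i := by rw [Equiv.symm_apply_apply]
    change x ∈ Set.range (g (e.symm (e ⟨i, hi⟩)).1)
    rw [he]
    exact hx
  exact (Groth.Agent.S0128.result X F).2
    ((Groth.Agent.Lib.Helper23.Strata.adaptedStrata_iff F ⊤).2
      (Groth.Agent.Lib.Helper23.Strata.adapted_of_covered _ X F hcov'))


end Groth.Agent.S0130
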