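import Groth.Statements.S0649
-- import your own Groth.Agent.* helpers here
import Groth.Agent.Lib.Helper23.EtGlue

set_option autoImplicit false
open CategoryTheory CategoryTheory.Limits AlgebraicGeometry Opposite
universe u
open EtCore

namespace Groth.Agent.S0649

open Groth.Agent.Lib.Helper23.EtGlue

variable {V' V Y X : Scheme.{u}} (j : V ⟶ X) [AlgebraicGeometry.Etale j]
    (f : Y ⟶ X) (j' : V' ⟶ Y) [AlgebraicGeometry.Etale j'] (f' : V' ⟶ V)
    (h : IsPullback j' f' f j)

set_option backward.isDefEq.respectTransparency.types false in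
set_option backward.isDefEq.respectTransparency false in
include h in
/-- pasting: `W ×_V V' ≅ W ×_X Y` -/
lemma isPullback_paste (W : V.Etale) :
    IsPullback (pullback.fst W.hom f') (pullback.snd W.hom f' ≫ j') (W.hom ≫ j) f :=
  IsPullback.paste_vert (IsPullback.of_hasPullback W.hom f') h.flip

set_option backward.isDefEq.respectTransparency.types false in
set_option backward.isDefEq.respectTransparency false in
/-- the site-level base change isomorphism -/
noncomputable def siteIso :
    EtCoh.bc f' ⋙ EtShriek.compEtale j' ≅ EtShriek.compEtale j ⋙ EtCoh.bc f :=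
  NatIso.ofComponents
    (fun W => MorphismProperty.Over.isoMk (isPullback_paste j f j' f' h W).isoPullback
      (by
        change (isPullback_paste j f j' f' h W).isoPullback.hom ≫ pullback.snd (W.hom ≫ j) f =
          pullback.snd W.hom f' ≫ j'
        exact IsPullback.isoPullback_hom_snd _))
    (by
      intro W₁ W₂ g
      apply hom_ext_of_left
      let a : pullback W₁.hom f' ⟶ pullback W₂.hom f' := ((EtCoh.bc f').map g).left
      let b : pullback (W₁.hom ≫ j) f ⟶ pullback (W₂.hom ≫ j) f :=
        ((EtCoh.bc f).map ((EtShriek.compEtale j).map g)).left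
      let i₁ := (isPullback_paste j f j' f' h W₁).isoPullback
      let i₂ := (isPullback_paste j f j' f' h W₂).isoPullback
      have a1 : a ≫ pullback.fst W₂.hom f' = pullback.fst W₁.hom f' ≫ g.left :=
        (EtCoh.isPullback_bc_map f' g).w
      have a2 : a ≫ pullback.snd W₂.hom f' = pullback.snd W₁.hom f' :=
        MorphismProperty.Over.w ((EtCoh.bc f').map g)
      have b1 : b ≫ pullback.fst (W₂.hom ≫ j) f = pullback.fst (W₁.hom ≫ j) f ≫ g.left :=
        (EtCoh.isPullback_bc_map f ((EtShriek.compEtale j).map g)).w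
      have b2 : b ≫ pullback.snd (W₂.hom ≫ j) f = pullback.snd (W₁.hom ≫ j) f :=
        MorphismProperty.Over.w ((EtCoh.bc f).map ((EtShriek.compEtale j).map g))
      have c1 : i₁.hom ≫ pullback.fst (W₁.hom ≫ j) f = pullback.fst W₁.hom f' :=
        IsPullback.isoPullback_hom_fst _
      have c2 : i₁.hom ≫ pullback.snd (W₁.hom ≫ j) f = pullback.snd W₁.hom f' ≫ j' :=
        IsPullback.isoPullback_hom_snd _
      have d1 : i₂.hom ≫ pullback.fst (W₂.hom ≫ j) f = pullback.fst W₂.hom f' :=
        IsPullback.isoPullback_hom_fst _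
      have d2 : i₂.hom ≫ pullback.snd (W₂.hom ≫ j) f = pullback.snd W₂.hom f' ≫ j' :=
        IsPullback.isoPullback_hom_snd _
      change a ≫ i₂.hom = i₁.hom ≫ b
      apply pullback.hom_ext
      · rw [Category.assoc, Category.assoc, d1, a1, b1, ← Category.assoc, c1]
      · rw [Category.assoc, Category.assoc, d2, b2, c2, ← Category.assoc, a2])

/-- Extension by zero commutes with pullback, for abelian sheaves. Let f : Y → X be a morphism of
schemes and j : V → X étale, and let V' = Y ×_X V with projections j' : V' → Y and f' : V' → V. Then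
the functors j'_! ∘ f'^(-1) and f^(-1) ∘ j_! from abelian sheaves on V_ét to abelian sheaves on Y_ét
are isomorphic. Only the existence of an isomorphism of functors is asserted; the published
statement gives the canonical one. (Continuity of the composition functor of étale sites, which
always holds, is carried as an instance hypothesis.) -/
theorem result {V' V Y X : Scheme.{u}} (j : V ⟶ X) [AlgebraicGeometry.Etale j] [EtShriek.JCont j]
    (f : Y ⟶ X) (j' : V' ⟶ Y) [AlgebraicGeometry.Etale j'] [EtShriek.JCont j'] (f' : V' ⟶ V)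
    (h : IsPullback j' f' f j) :
    Nonempty (EtCoh.pull f' ⋙ EtShriek.extZero j' ≅ EtShriek.extZero j ⋙ EtCoh.pull f) := by
  haveI c1 : (EtCoh.bc f' ⋙ EtShriek.compEtale j').IsContinuous V.smallEtaleTopology
      Y.smallEtaleTopology := Functor.isContinuous_comp _ _ _ V'.smallEtaleTopology _
  haveI c2 : (EtShriek.compEtale j ⋙ EtCoh.bc f).IsContinuous V.smallEtaleTopology
      Y.smallEtaleTopology := Functor.isContinuous_comp _ _ _ X.smallEtaleTopology _
  -- right adjoints agree
  let e : EtShriek.restrAlong j' ⋙ EtCoh.push f' ≅ EtCoh.push f ⋙ EtShriek.restrAlong j :=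
    Functor.sheafPushforwardContinuousComp' (F := EtCoh.bc f') (G := EtShriek.compEtale j')
      (FG := EtShriek.compEtale j ⋙ EtCoh.bc f) (siteIso j f j' f' h)
      AddCommGrpCat.{u + 1} V.smallEtaleTopology V'.smallEtaleTopology Y.smallEtaleTopology ≪≫
    (Functor.sheafPushforwardContinuousComp (EtShriek.compEtale j) (EtCoh.bc f)
      AddCommGrpCat.{u + 1} V.smallEtaleTopology X.smallEtaleTopology Y.smallEtaleTopology).symm
  let adj1 : EtCoh.pull f' ⋙ EtShriek.extZero j' ⊣ EtShriek.restrAlong j' ⋙ EtCoh.push f' :=
    (EtCoh.pullPushAdj f').comp (EtShriek.extZeroAdj j')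
  let adj2 : EtShriek.extZero j ⋙ EtCoh.pull f ⊣ EtCoh.push f ⋙ EtShriek.restrAlong j :=
    (EtShriek.extZeroAdj j).comp (EtCoh.pullPushAdj f)
  exact ⟨Adjunction.leftAdjointUniq adj1 (adj2.ofNatIsoRight e.symm)⟩


end Groth.Agent.S0649
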