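import Groth.Statements.S0133
-- import your own Groth.Agent.* helpers here
import Groth.Agent.Lib.Helper23.ShriekConstr

set_option autoImplicit false
universe u
open CategoryTheory CategoryTheory.Limits AlgebraicGeometry Opposite
open EtPBC

namespace Groth.Agent.S0133

/-- (2): for j : U -> X etale with U and X quasi-compact and quasi-separated and M a finite abelian
group, j_! M is a constructible abelian sheaf on X_et. -/
theorem result (X : Scheme.{u}) [CompactSpace X] [QuasiSeparatedSpace X]
    (U : X.Etale) [CompactSpace U.left] [QuasiSeparatedSpace U.left]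
    (M : Type) [AddCommGroup M] [Finite M] :
    EtPBC.IsConstructible (EtPBC.extZeroConst U M) := by
  haveI : Etale U.hom := U.prop
  let B : AddCommGrpCat.{u + 1} := AddCommGrpCat.of (ULift.{u + 1} M)
  have hB : Finite B := inferInstanceAs (Finite (ULift.{u + 1} M))
  let Ul : Scheme.{u} := U.left
  let jj : Ul ⟶ X := U.hom
  haveI : Etale jj := U.prop
  haveI : CompactSpace Ul := inferInstanceAs (CompactSpace U.left)
  haveI : QuasiSeparatedSpace Ul := inferInstanceAs (QuasiSeparatedSpace U.left)
  have h := Groth.Agent.Lib.Helper23.ShriekConstr.constructible_extZero_const jj B hB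
  exact Groth.Agent.Lib.Helper23.Strata.constructible_of_iso
    (Groth.Agent.Lib.Helper23.ShriekRep.shIso U B).symm h

end Groth.Agent.S0133
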