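import Groth.Statements.S0182
-- import your own Groth.Agent.* helpers here
import Groth.Agent.Lib.Helper23.SurjLocus

set_option autoImplicit false
universe u
open CategoryTheory CategoryTheory.Limits AlgebraicGeometry Opposite
open EtPBC

namespace Groth.Agent.S0182

lemma surjective_iff_isZero {X : Scheme.{u}} {F G : EtCoh.Ab X} (φ : F ⟶ G) {Ω : Type u} [Field Ω]
    [IsSepClosed Ω] (ξ : Spec (CommRingCat.of Ω) ⟶ X) :
    Function.Surjective ((EtCoh.stalk ξ).map φ) ↔ IsZero ((EtCoh.stalk ξ).obj (cokernel φ)) := by
  rw [← AddCommGrpCat.epi_iff_surjective]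
  have e := PreservesCokernel.iso (EtCoh.stalk ξ) φ
  constructor
  · intro h
    exact (isZero_cokernel_of_epi ((EtCoh.stalk ξ).map φ)).of_iso e
  · intro h
    exact Preadditive.epi_of_isZero_cokernel _ (h.of_iso e.symm)

/-- (1), surjectivity case, for abelian sheaves: X quasi-compact and quasi-separated, F -> G a map of
constructible abelian sheaves on X_et; the set of points x of X such that F -> G is surjective on
stalks at (every) geometric point over x is constructible. The source states this for constructible
sheaves of sets; an abelian constructible sheaf is one, with the same stalks. -/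
theorem result (X : Scheme.{u}) [CompactSpace X] [QuasiSeparatedSpace X]
    {F G : EtCoh.Ab X} (φ : F ⟶ G) (hF : EtPBC.IsConstructible F) (hG : EtPBC.IsConstructible G) :
    Topology.IsConstructible {x : X | ∀ (Ω : Type u) [Field Ω] [IsSepClosed Ω]
      (ξ : Spec (CommRingCat.of Ω) ⟶ X), Set.range ξ = {x} →
        Function.Surjective ((EtCoh.stalk ξ).map φ)} := by
  have he : {x : X | ∀ (Ω : Type u) [Field Ω] [IsSepClosed Ω]
      (ξ : Spec (CommRingCat.of Ω) ⟶ X), Set.range ξ = {x} →
        Function.Surjective ((EtCoh.stalk ξ).map φ)} =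
      {x : X | Groth.Agent.Lib.Helper23.SurjLocus.StalkZeroAt (cokernel φ) x} := by
    ext x
    constructor
    · intro h Ω _ _ ξ hξ
      exact (surjective_iff_isZero φ ξ).1 (h Ω ξ hξ)
    · intro h Ω _ _ ξ hξ
      exact (surjective_iff_isZero φ ξ).2 (h Ω ξ hξ)
  rw [he]
  exact Groth.Agent.Lib.Helper23.SurjLocus.isConstructible_stalkZero _
    (Groth.Agent.Lib.Helper23.Strata.constructible_kernel_cokernel φ hF hG).2


end Groth.Agent.S0182
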