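import Groth.Statements.S8526
-- import your own Groth.Agent.* helpers here
import Groth.Agent.Lib.Helper23.SurjLocus
import Groth.Agent.S0127

set_option autoImplicit false
universe u
open CategoryTheory CategoryTheory.Limits AlgebraicGeometry Opposite
open EtPBC

namespace Groth.Agent.S8526

open Groth.Agent.Lib.Helper23 Groth.Agent.Lib.Helper23.SurjLocus in
lemma supp_eq {X : Scheme.{u}} (F : EtCoh.Ab X) :
    EtPBC.supp F = {x : X | StalkZeroAt F x}ᶜ := by
  ext x
  simp only [EtPBC.supp, Set.mem_setOf_eq, Set.mem_compl_iff, StalkZeroAt]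
  constructor
  · rintro ⟨Ω, i1, i2, ξ, hξ, hz⟩ h
    exact hz (h Ω ξ hξ)
  · intro h
    by_contra hc
    apply h
    intro Ω _ _ ξ hξ
    by_contra hz
    exact hc ⟨Ω, inferInstance, inferInstance, ξ, hξ, hz⟩

/-- Let F be a constructible abelian sheaf on the small etale site of a scheme X. Then the support of F,
the set of points of X over which some geometric stalk of F is nonzero, is a locally constructible
subset of X. -/
theorem result {X : Scheme.{u}} (F : EtCoh.Ab X) (hF : EtPBC.IsConstructible F) :
    Topology.IsLocallyConstructible (EtPBC.supp F) := by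
  intro x
  obtain ⟨U, hU, hxU, -⟩ := exists_isAffineOpen_mem_and_subset (x := x) (U := ⊤) trivial
  refine ⟨U, U.isOpen.mem_nhds hxU, U.isOpen, ?_⟩
  haveI : IsAffine (U : Scheme.{u}) := hU
  have hc : EtPBC.IsConstructible ((EtCoh.pull U.ι).obj F) := Groth.Agent.S0127.result U.ι F hF
  have h1 := Groth.Agent.Lib.Helper23.SurjLocus.isConstructible_stalkZero _ hc
  have h2 : ((Subtype.val : ((U : Set X) : Type u) → X) ⁻¹' EtPBC.supp F) =
      {t : (U : Scheme.{u}) | Groth.Agent.Lib.Helper23.SurjLocus.StalkZeroAt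
        ((EtCoh.pull U.ι).obj F) t}ᶜ := by
    rw [supp_eq]
    ext t
    simp only [Set.mem_preimage, Set.mem_compl_iff, Set.mem_setOf_eq]
    exact not_congr (Groth.Agent.Lib.Helper23.SurjLocus.stalkZeroAt_pull_iff U.ι F t).symm
  rw [h2]
  exact h1.compl

end Groth.Agent.S8526
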