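import Groth.Statements.S17539
import Groth.Agent.Lib.Helper9.Decaying2
import Mathlib.RingTheory.AdicCompletion.Functoriality

set_option autoImplicit false
universe u v w
open W4c5adicflatcompl
open CAlg

namespace Groth.Agent.S17539

section
variable {A : Type u} [CommRing A] (I : Ideal A) (M : Type w) [AddCommGroup M] [Module A M]

theorem mk_val_eq_zero_iff (a : AdicCompletion.AdicCauchySequence I M) (n : ℕ) :
    (AdicCompletion.mk I M a).val n = 0 ↔ a n ∈ (I ^ n • ⊤ : Submodule A M) := by
  show Submodule.mkQ (I ^ n • ⊤ : Submodule A M) (a n) = 0 ↔ _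
  rw [Submodule.mkQ_apply, Submodule.Quotient.mk_eq_zero]

/-- If the completion `M^` is precomplete, the kernel of the `n`-th evaluation is `I ^ n M^`. -/
theorem mem_pow_smul_top_of_val_eq_zero [IsPrecomplete I (AdicCompletion I M)]
    (x : AdicCompletion I M) (n : ℕ) (hx : x.val n = 0) :
    x ∈ (I ^ n • ⊤ : Submodule A (AdicCompletion I M)) := by
  obtain ⟨a, rfl⟩ := AdicCompletion.mk_surjective I M x
  have han : a n ∈ (I ^ n • ⊤ : Submodule A M) := (mk_val_eq_zero_iff I M a n).mp hx
  have hof : ∀ (k : ℕ) (y : M), y ∈ (I ^ k • ⊤ : Submodule A M) →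
      AdicCompletion.of I M y ∈ (I ^ k • ⊤ : Submodule A (AdicCompletion I M)) := fun k y hy =>
    Submodule.smul_top_le_comap_smul_top (I ^ k) (AdicCompletion.of I M) hy
  -- partial sums s j = of (a (n + j))
  have hcauchy : ∀ {i j : ℕ}, i ≤ j → AdicCompletion.of I M (a (n + i)) ≡
      AdicCompletion.of I M (a (n + j)) [SMOD (I ^ i • ⊤ : Submodule A (AdicCompletion I M))] := by
    intro i j hij
    rw [SModEq.sub_mem, ← map_sub]
    apply hof
    have h1 := a.property (show n + i ≤ n + j by omega)
    rw [SModEq.sub_mem] at h1
    exact Submodule.smul_mono_left (Ideal.pow_le_pow_right (by omega)) h1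
  obtain ⟨L, hL⟩ := IsPrecomplete.prec ‹IsPrecomplete I (AdicCompletion I M)› hcauchy
  have hLx : L = AdicCompletion.mk I M a := by
    apply AdicCompletion.ext
    intro j
    have h1 := hL j
    rw [SModEq.sub_mem] at h1
    have h2 := AdicCompletion.pow_smul_top_le_ker_eval I (M := M) j h1
    rw [LinearMap.mem_ker, map_sub, sub_eq_zero, AdicCompletion.eval_apply,
      AdicCompletion.eval_apply] at h2
    rw [← h2]
    show Submodule.mkQ (I ^ j • ⊤ : Submodule A M) (a (n + j)) =
      Submodule.mkQ (I ^ j • ⊤ : Submodule A M) (a j)
    rw [Submodule.mkQ_apply, Submodule.mkQ_apply]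
    exact (a.property (show j ≤ n + j by omega)).symm
  rw [← hLx]
  have h1 := hL n
  rw [SModEq.sub_mem] at h1
  have h2 : AdicCompletion.of I M (a (n + n)) ∈
      (I ^ n • ⊤ : Submodule A (AdicCompletion I M)) := by
    apply hof
    have h3 := a.property (show n ≤ n + n by omega)
    rw [SModEq.sub_mem] at h3
    have : a (n + n) = a n - (a n - a (n + n)) := by abel
    rw [this]
    exact Submodule.sub_mem _ han h3
  have : L = AdicCompletion.of I M (a (n + n)) - (AdicCompletion.of I M (a (n + n)) - L) := by
    abel
  rw [this]
  exact Submodule.sub_mem _ h2 h1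

end


/-- For a commutative ring A, an ideal I, a set Z and an A-module M whose I-adic completion M^ is itself
I-adically complete, the canonical map from the I-adic completion of Z →₀ M to the functions Z → M^,
whose z-th coordinate is the completion of evaluation at z, is injective with image the I-adically
decaying functions Z → M^. (The source states bijectivity of the inverse map, from decaying
functions to the limit of the finitely supported functions Z → M/I^n M, induced by the projections
M^ → M/I^n M; the two formulations are equivalent.) -/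
theorem result {A : Type u} [CommRing A] (I : Ideal A) (Z : Type v)
    (M : Type w) [AddCommGroup M] [Module A M] [IsAdicComplete I (AdicCompletion I M)] :
    Function.Injective
        (LinearMap.pi fun z : Z =>
          (AdicCompletion.map I (Finsupp.lapply (M := M) (R := A) z)).restrictScalars A) ∧
      LinearMap.range
        (LinearMap.pi fun z : Z =>
          (AdicCompletion.map I (Finsupp.lapply (M := M) (R := A) z)).restrictScalars A) =
        decaying I Z (AdicCompletion I M) := by
  classical
  set Ψ := (LinearMap.pi fun z : Z =>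
    (AdicCompletion.map I (Finsupp.lapply (M := M) (R := A) z)).restrictScalars A) with hΨ
  have hΨval : ∀ (w : AdicCompletion.AdicCauchySequence I (Z →₀ M)) (z : Z) (n : ℕ),
      (Ψ (AdicCompletion.mk I _ w) z).val n =
        Submodule.mkQ (I ^ n • ⊤ : Submodule A M) (w n z) := fun w z n => rfl
  have hsingle : ∀ (n : ℕ) (v : Z →₀ M), (∀ z, v z ∈ (I ^ n • ⊤ : Submodule A M)) →
      v ∈ (I ^ n • ⊤ : Submodule A (Z →₀ M)) := by
    intro n v hv
    rw [← Finsupp.sum_single v]
    refine Submodule.sum_mem _ fun z _ => ?_
    exact Submodule.smul_top_le_comap_smul_top (I ^ n) (Finsupp.lsingle (R := A) z) (hv z)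
  have hIsPre : IsPrecomplete I (AdicCompletion I M) := IsAdicComplete.toIsPrecomplete
  constructor
  · rw [← LinearMap.ker_eq_bot, eq_bot_iff]
    intro ξ hξ
    rw [Submodule.mem_bot]
    rw [LinearMap.mem_ker] at hξ
    obtain ⟨w, rfl⟩ := AdicCompletion.mk_surjective I _ ξ
    apply AdicCompletion.ext
    intro n
    rw [AdicCompletion.val_zero_apply, mk_val_eq_zero_iff]
    apply hsingle
    intro z
    have h1 : (Ψ (AdicCompletion.mk I _ w) z).val n = 0 := by
      rw [hξ]
      rfl
    rw [hΨval, Submodule.mkQ_apply, Submodule.Quotient.mk_eq_zero] at h1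
    exact h1
  · apply le_antisymm
    · rintro _ ⟨ξ, rfl⟩
      obtain ⟨w, rfl⟩ := AdicCompletion.mk_surjective I _ ξ
      intro n
      refine (w n).support.finite_toSet.subset ?_
      intro z hz
      by_contra hzs
      apply hz
      apply mem_pow_smul_top_of_val_eq_zero
      rw [hΨval]
      have : w n z = 0 := Finsupp.notMem_support_iff.mp hzs
      rw [this, map_zero]
    · intro g hg
      choose a ha using fun z => AdicCompletion.mk_surjective I M (g z)
      let T : ℕ → Finset Z := fun n => (hg n).toFinset
      have hTout : ∀ n z, z ∉ T n → a z n ∈ (I ^ n • ⊤ : Submodule A M) := by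
        intro n z hz
        have h1 : g z ∈ (I ^ n • ⊤ : Submodule A (AdicCompletion I M)) := by
          by_contra hcon
          exact hz ((hg n).mem_toFinset.mpr hcon)
        have h2 := AdicCompletion.pow_smul_top_le_ker_eval I (M := M) n h1
        rw [LinearMap.mem_ker, AdicCompletion.eval_apply, ← ha z] at h2
        exact (mk_val_eq_zero_iff I M (a z) n).mp h2
      let w : ℕ → (Z →₀ M) := fun n => ∑ z ∈ T n, Finsupp.single z (a z n)
      have hwz : ∀ n z, w n z = if z ∈ T n then a z n else 0 := by
        intro n z
        simp only [w, Finsupp.finsetSum_apply, Finsupp.single_apply]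
        rw [Finset.sum_ite_eq']
      have hwc : ∀ n, w n ≡ w (n + 1) [SMOD (I ^ n • ⊤ : Submodule A (Z →₀ M))] := by
        intro n
        rw [SModEq.sub_mem]
        apply hsingle
        intro z
        rw [Finsupp.sub_apply, hwz, hwz]
        have hc := (a z).property (Nat.le_succ n)
        rw [SModEq.sub_mem] at hc
        by_cases h1 : z ∈ T n <;> by_cases h2 : z ∈ T (n + 1)
        · rw [if_pos h1, if_pos h2]
          exact hc
        · rw [if_pos h1, if_neg h2, sub_zero]
          have h3 := hTout (n + 1) z h2
          have h4 : a z (n + 1) ∈ (I ^ n • ⊤ : Submodule A M) :=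
            Groth.Agent.Lib.Helper9.pow_smul_top_anti (Nat.le_succ n) h3
          have : a z n = (a z n - a z (n + 1)) + a z (n + 1) := by abel
          rw [this]
          exact Submodule.add_mem _ hc h4
        · rw [if_neg h1, if_pos h2, zero_sub, Submodule.neg_mem_iff]
          have h3 := hTout n z h1
          have : a z (n + 1) = a z n - (a z n - a z (n + 1)) := by abel
          rw [this]
          exact Submodule.sub_mem _ h3 hc
        · rw [if_neg h1, if_neg h2, sub_zero]
          exact Submodule.zero_mem _
      refine ⟨AdicCompletion.mk I _ (AdicCompletion.AdicCauchySequence.mk I _ w hwc), ?_⟩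
      funext z
      rw [← ha z]
      apply AdicCompletion.ext
      intro n
      rw [hΨval]
      show Submodule.mkQ (I ^ n • ⊤ : Submodule A M) (w n z) =
        Submodule.mkQ (I ^ n • ⊤ : Submodule A M) (a z n)
      rw [hwz]
      by_cases h1 : z ∈ T n
      · rw [if_pos h1]
      · rw [if_neg h1, map_zero, Submodule.mkQ_apply, eq_comm, Submodule.Quotient.mk_eq_zero]
        exact hTout n z h1

end Groth.Agent.S17539
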