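import Groth.Statements.S17543
import Groth.Agent.Lib.Helper9.Decaying2
import Mathlib.RingTheory.Finiteness.Cardinality
import Mathlib.LinearAlgebra.TensorProduct.Pi

set_option autoImplicit false
universe u v w
open W4c5adicflatcompl
open CAlg

namespace Groth.Agent.S17543

open Groth.Agent.Lib.Helper9 in
theorem mem_pow_smul_top_pi_iff {A : Type u} [CommRing A] (J : Ideal A) {r : ℕ} (c : Fin r → A) :
    c ∈ (J • ⊤ : Submodule A (Fin r → A)) ↔ ∀ i, c i ∈ J := by
  classical
  constructor
  · intro hc i
    let p : (Fin r → A) →ₗ[A] A := LinearMap.proj i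
    have : p c ∈ (J • ⊤ : Submodule A (Fin r → A)).map p := ⟨c, hc, rfl⟩
    rw [Submodule.map_smul''] at this
    have h3 := Submodule.smul_mono (le_refl J) (le_top : Submodule.map p ⊤ ≤ ⊤) this
    rwa [smul_eq_mul, Ideal.mul_top] at h3
  · intro hc
    have : c = ∑ i, c i • (Pi.single i 1 : Fin r → A) := by
      funext j
      simp [Finset.sum_apply, Pi.single_apply]
    rw [this]
    exact Submodule.sum_mem _ fun i _ => Submodule.smul_mem_smul (hc i) Submodule.mem_top

theorem pi_mem_decaying_iff {A : Type u} [CommRing A] (I : Ideal A) {Z : Type v} {r : ℕ}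
    (h : Z → (Fin r → A)) :
    h ∈ decaying I Z (Fin r → A) ↔ ∀ i, (fun z => h z i) ∈ decaying I Z A := by
  have htopA : ∀ k : ℕ, (I ^ k • ⊤ : Submodule A A) = I ^ k := fun k => by
    rw [smul_eq_mul, Ideal.mul_top]
  constructor
  · intro hh i n
    refine (hh n).subset ?_
    intro z hz hcon
    apply hz
    rw [htopA]
    exact (mem_pow_smul_top_pi_iff (I ^ n) (h z)).mp hcon i
  · intro hh n
    have : {z | h z ∉ (I ^ n • ⊤ : Submodule A (Fin r → A))} ⊆
        ⋃ i, {z | h z i ∉ (I ^ n • ⊤ : Submodule A A)} := by
      intro z hz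
      simp only [Set.mem_iUnion, Set.mem_ofPred_eq]
      by_contra hcon
      push Not at hcon
      apply hz
      rw [mem_pow_smul_top_pi_iff]
      intro i
      have := hcon i
      rwa [htopA] at this
    exact (Set.finite_iUnion fun i => hh i n).subset this


/-- Over a Noetherian ring A which is I-adically complete, for a finitely generated A-module M and a set
Z, the canonical map from M ⊗ (decaying functions Z → A) to functions Z → M is injective and its
image is the module of decaying functions Z → M. -/
theorem result {A : Type u} [CommRing A] [IsNoetherianRing A] (I : Ideal A)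
    [IsAdicComplete I A] (Z : Type v) (M : Type w) [AddCommGroup M] [Module A M]
    [Module.Finite A M] :
    Function.Injective
        ((TensorProduct.piScalarRightHom A A M Z) ∘ₗ ((decaying I Z A).subtype.lTensor M)) ∧
      LinearMap.range
        ((TensorProduct.piScalarRightHom A A M Z) ∘ₗ ((decaying I Z A).subtype.lTensor M)) =
        decaying I Z M := by
  classical
  have hIjac : I ≤ (⊥ : Ideal A).jacobson := IsAdicComplete.le_jacobson_bot I
  have htopA : ∀ k : ℕ, (I ^ k • ⊤ : Submodule A A) = I ^ k := fun k => by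
    rw [smul_eq_mul, Ideal.mul_top]
  set Φ := (TensorProduct.piScalarRightHom A A M Z) ∘ₗ ((decaying I Z A).subtype.lTensor M) with hΦ
  have hΦ_tmul : ∀ (m : M) (d : decaying I Z A),
      Φ (m ⊗ₜ[A] d) = fun z => (d : Z → A) z • m := by
    intro m d
    simp [hΦ]
  -- generators of M
  obtain ⟨r, π, hπ⟩ := Module.Finite.exists_fin' A M
  set e : Fin r → M := fun i => π (Pi.single i 1) with he
  have hπsum : ∀ c : Fin r → A, π c = ∑ i, c i • e i := by
    intro c
    rw [LinearMap.pi_apply_eq_sum_univ π c]
    refine Finset.sum_congr rfl fun i _ => ?_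
    congr 2
    funext j
    simp [Pi.single_apply, eq_comm]
  -- every tensor is a combination of the e i
  have hrep : ∀ t : TensorProduct A M (decaying I Z A),
      ∃ d : Fin r → decaying I Z A, t = ∑ i, e i ⊗ₜ[A] d i := by
    intro t
    induction t using TensorProduct.induction_on with
    | zero => exact ⟨0, by simp⟩
    | tmul m d =>
      obtain ⟨c, rfl⟩ := hπ m
      refine ⟨fun i => c i • d, ?_⟩
      rw [hπsum, TensorProduct.sum_tmul]
      refine Finset.sum_congr rfl fun i _ => ?_
      rw [TensorProduct.smul_tmul]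
    | add x y hx hy =>
      obtain ⟨dx, rfl⟩ := hx
      obtain ⟨dy, rfl⟩ := hy
      exact ⟨dx + dy, by simp [TensorProduct.tmul_add, Finset.sum_add_distrib]⟩
  have hΦ_sum : ∀ d : Fin r → decaying I Z A,
      Φ (∑ i, e i ⊗ₜ[A] d i) = fun z => π (fun i => (d i : Z → A) z) := by
    intro d
    rw [map_sum]
    funext z
    rw [hπsum]
    simp [hΦ_tmul, Finset.sum_apply]
  constructor
  · -- injectivity
    rw [← LinearMap.ker_eq_bot, LinearMap.ker_eq_bot']
    intro t ht
    obtain ⟨d, rfl⟩ := hrep t
    rw [hΦ_sum] at ht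
    -- the coefficient vector takes values in the kernel of π
    set K := LinearMap.ker π with hK
    have hmemK : ∀ z, (fun i => (d i : Z → A) z) ∈ K := fun z => by
      rw [hK, LinearMap.mem_ker]
      exact congrFun ht z
    let h' : Z → K := fun z => ⟨fun i => (d i : Z → A) z, hmemK z⟩
    have hh'dec : h' ∈ decaying I Z K := by
      rw [Groth.Agent.Lib.Helper9.mem_decaying_submodule_iff]
      rw [pi_mem_decaying_iff]
      intro i
      exact (d i).2
    -- generators of K
    obtain ⟨s, ρ, hρ⟩ := Module.Finite.exists_fin' A K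
    have hKhaus : IsHausdorff I K := IsHausdorff.of_le_jacobson I K hIjac
    obtain ⟨q, hq, hqh⟩ := Groth.Agent.Lib.Helper9.exists_decaying_lift ρ hρ h' hh'dec
    rw [pi_mem_decaying_iff] at hq
    set k : Fin s → K := fun j => ρ (Pi.single j 1) with hk
    have hρsum : ∀ c : Fin s → A, ρ c = ∑ j, c j • k j := by
      intro c
      rw [LinearMap.pi_apply_eq_sum_univ ρ c]
      refine Finset.sum_congr rfl fun j _ => ?_
      congr 2
      funext j'
      simp [Pi.single_apply, eq_comm]
    let e' : Fin s → decaying I Z A := fun j => ⟨fun z => q z j, hq j⟩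
    have hd : ∀ i, d i = ∑ j, ((k j : Fin r → A) i) • e' j := by
      intro i
      apply Subtype.ext
      funext z
      have h1 := congrArg (fun x : K => (x : Fin r → A) i) (hqh z)
      simp only [h'] at h1
      rw [← h1, hρsum]
      simp [e', Finset.sum_apply, mul_comm]
    have hπk : ∀ j, π (k j : Fin r → A) = 0 := fun j => LinearMap.mem_ker.mp (k j).2
    calc ∑ i, e i ⊗ₜ[A] d i
        = ∑ i, ∑ j, (((k j : Fin r → A) i) • e i) ⊗ₜ[A] e' j := by
          refine Finset.sum_congr rfl fun i _ => ?_
          rw [hd i, TensorProduct.tmul_sum]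
          refine Finset.sum_congr rfl fun j _ => ?_
          rw [TensorProduct.smul_tmul]
      _ = ∑ j, (∑ i, ((k j : Fin r → A) i) • e i) ⊗ₜ[A] e' j := by
          rw [Finset.sum_comm]
          refine Finset.sum_congr rfl fun j _ => ?_
          rw [TensorProduct.sum_tmul]
      _ = 0 := by
          refine Finset.sum_eq_zero fun j _ => ?_
          rw [← hπsum, hπk, TensorProduct.zero_tmul]
  · -- range
    apply le_antisymm
    · rintro _ ⟨t, rfl⟩
      obtain ⟨d, rfl⟩ := hrep t
      rw [hΦ_sum]
      intro n
      have hvec : (fun z => (fun i => (d i : Z → A) z)) ∈ decaying I Z (Fin r → A) := by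
        rw [pi_mem_decaying_iff]
        intro i
        exact (d i).2
      refine (hvec n).subset ?_
      intro z hz hcon
      apply hz
      have : π (fun i => (d i : Z → A) z) ∈ (I ^ n • ⊤ : Submodule A (Fin r → A)).map π :=
        ⟨_, hcon, rfl⟩
      rw [Submodule.map_smul''] at this
      exact Submodule.smul_mono le_rfl le_top this
    · intro g hg
      have hMhaus : IsHausdorff I M := IsHausdorff.of_le_jacobson I M hIjac
      obtain ⟨h, hh, hhg⟩ := Groth.Agent.Lib.Helper9.exists_decaying_lift π hπ g hg
      rw [pi_mem_decaying_iff] at hh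
      refine ⟨∑ i, e i ⊗ₜ[A] (⟨fun z => h z i, hh i⟩ : decaying I Z A), ?_⟩
      rw [hΦ_sum]
      funext z
      exact hhg z

end Groth.Agent.S17543
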