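import Groth.Statements.S17545
import Groth.Agent.S17543
import Mathlib.RingTheory.Flat.Tensor

set_option autoImplicit false
universe u v w
open W4c5adicflatcompl
open CAlg

namespace Groth.Agent.S17545

/-- For a Noetherian ring A which is I-adically complete and any set Z, the A-module of I-adically
decaying functions Z → A is flat. -/
theorem result {A : Type u} [CommRing A] [IsNoetherianRing A]
    (I : Ideal A) [IsAdicComplete I A] (Z : Type v) :
    Module.Flat A (decaying I Z A) := by
  rw [Module.Flat.iff_rTensor_injective']
  intro J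
  have hinj := (Groth.Agent.S17543.result I Z J).1
  set ΦJ := (TensorProduct.piScalarRightHom A A J Z) ∘ₗ ((decaying I Z A).subtype.lTensor J) with hΦJ
  set ΦA := (TensorProduct.piScalarRightHom A A A Z) ∘ₗ ((decaying I Z A).subtype.lTensor A) with hΦA
  have hcomm : (J.subtype.compLeft Z) ∘ₗ ΦJ = ΦA ∘ₗ (LinearMap.rTensor (decaying I Z A) J.subtype) := by
    apply TensorProduct.ext'
    intro j d
    funext z
    simp [hΦJ, hΦA]
  intro t1 t2 h
  apply hinj
  have h2 := congrArg ΦA h
  have h3 : ∀ t, ΦA (LinearMap.rTensor (decaying I Z A) J.subtype t) = (J.subtype.compLeft Z) (ΦJ t) :=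
    fun t => (LinearMap.congr_fun hcomm t).symm
  rw [h3, h3] at h2
  funext z
  apply Subtype.ext
  exact congrFun h2 z

end Groth.Agent.S17545
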