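import Groth.Statements.S6347
import Groth.Agent.Lib.Helper14.MLProd
import Mathlib.RingTheory.Flat.Tensor
import Mathlib.RingTheory.TensorProduct.Finite
import Mathlib.RingTheory.Noetherian.Basic

set_option autoImplicit false
universe u
open CAlg

namespace Groth.Agent.S6347

open TensorProduct Groth.Agent.Lib.Helper14.MLProd

section

variable (R : Type u) [CommRing R] (A : Type u)

/-- the canonical map `N ⊗ R^A → N^A`. -/
noncomputable def θ (N : Type u) [AddCommGroup N] [Module R N] :
    N ⊗[R] (A → R) →ₗ[R] (A → N) :=
  (LinearEquiv.piCongrRight (fun _ : A => TensorProduct.rid R N)).toLinearMap ∘ₗ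
    TensorProduct.piRightHom R R N (fun _ : A => R)

lemma θ_tmul (N : Type u) [AddCommGroup N] [Module R N] (n : N) (f : A → R) :
    θ R A N (n ⊗ₜ f) = fun a => f a • n := by
  ext a
  simp [θ]

lemma θ_bijective_of_fp (N : Type u) [AddCommGroup N] [Module R N] [Module.FinitePresentation R N] :
    Function.Bijective (θ R A N) := by
  unfold θ
  rw [LinearMap.coe_comp]
  exact (LinearEquiv.bijective _).comp (piRightHom_bijective_of_finitePresentation _)

lemma θ_injective [IsNoetherianRing R] (N : Type u) [AddCommGroup N] [Module R N] :
    Function.Injective (θ R A N) := by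
  rw [injective_iff_map_eq_zero]
  intro x hx
  obtain ⟨J, hJ, y, rfl⟩ := Submodule.exists_fg_le_eq_rTensor_subtype x
  haveI : Module.Finite R J := Module.Finite.iff_fg.mpr hJ
  haveI : Module.FinitePresentation R J := Module.finitePresentation_of_finite R J
  have hnat : ∀ y : J ⊗[R] (A → R),
      θ R A N (LinearMap.rTensor (A → R) J.subtype y) = fun a => (θ R A J y a : N) := by
    intro y
    induction y using TensorProduct.induction_on with
    | zero => simp; rfl
    | tmul n f =>
      rw [LinearMap.rTensor_tmul, θ_tmul, θ_tmul]
      rfl
    | add y z hy hz =>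
      rw [map_add, map_add, hy, hz, map_add]
      rfl
  rw [hnat] at hx
  have hy0 : θ R A J y = 0 := by
    ext a
    have := congrFun hx a
    simpa using this
  have : y = 0 := (θ_bijective_of_fp R A J).1 (by rw [hy0, map_zero])
  rw [this, map_zero]

end



section

variable (R : Type u) [CommRing R] (A : Type u)

theorem flat_pi [IsNoetherianRing R] : Module.Flat R (A → R) := by
  rw [Module.Flat.iff_rTensor_injective]
  intro I hI
  haveI : Module.Finite R I := Module.Finite.iff_fg.mpr hI
  haveI : Module.FinitePresentation R I := Module.finitePresentation_of_finite R I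
  rw [injective_iff_map_eq_zero]
  intro x hx
  -- compare with the pointwise maps
  have hsq : ∀ x : I ⊗[R] (A → R),
      TensorProduct.piRightHom R R R (fun _ : A => R) (LinearMap.rTensor (A → R) I.subtype x) =
        fun a => LinearMap.rTensor R I.subtype (TensorProduct.piRightHom R R I (fun _ : A => R) x a) := by
    intro x
    induction x using TensorProduct.induction_on with
    | zero => simp; rfl
    | tmul i f =>
      ext a
      simp
    | add y z hy hz =>
      rw [map_add, map_add, hy, hz, map_add]
      ext a
      simp
  have h1 := hsq x
  rw [hx, map_zero] at h1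
  have hinj : Function.Injective (LinearMap.rTensor R (I.subtype : I →ₗ[R] R)) :=
    Module.Flat.rTensor_preserves_injective_linearMap _ Subtype.val_injective
  have h2 : TensorProduct.piRightHom R R I (fun _ : A => R) x = 0 := by
    ext a
    apply hinj
    rw [Pi.zero_apply, map_zero]
    exact (congrFun h1 a).symm
  exact (piRightHom_bijective_of_finitePresentation (R := R) (P := I) (fun _ : A => R)).1
    (by rw [h2, map_zero])

theorem ml_pi [IsNoetherianRing R] : CAlg.IsMittagLeffler R (A → R) := by
  intro ι Q _ _
  have key : ∀ x : (A → R) ⊗[R] (∀ i, Q i),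
      (fun i a => θ R A (Q i) (TensorProduct.comm R _ _
        (TensorProduct.piRightHom R R (A → R) Q x i)) a) =
      fun i a => θ R A (∀ i, Q i) (TensorProduct.comm R _ _ x) a i := by
    intro x
    induction x using TensorProduct.induction_on with
    | zero => simp
    | tmul f q =>
      ext i a
      simp [θ_tmul]
    | add y z hy hz =>
      have e1 : (fun i a => θ R A (Q i) (TensorProduct.comm R _ _
          (TensorProduct.piRightHom R R (A → R) Q (y + z) i)) a) =
          (fun i a => θ R A (Q i) (TensorProduct.comm R _ _
          (TensorProduct.piRightHom R R (A → R) Q y i)) a) +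
          (fun i a => θ R A (Q i) (TensorProduct.comm R _ _
          (TensorProduct.piRightHom R R (A → R) Q z i)) a) := by
        ext i a
        simp
      have e2 : (fun i a => θ R A (∀ i, Q i) (TensorProduct.comm R _ _ (y + z)) a i) =
          (fun i a => θ R A (∀ i, Q i) (TensorProduct.comm R _ _ y) a i) +
          (fun i a => θ R A (∀ i, Q i) (TensorProduct.comm R _ _ z) a i) := by
        ext i a
        simp
      rw [e1, e2, hy, hz]
  intro x y hxy
  have h1 := key x
  have h2 := key y
  rw [hxy, h2] at h1
  apply (TensorProduct.comm R (A → R) (∀ i, Q i)).injective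
  apply θ_injective R A
  ext a i
  exact (congrFun (congrFun h1 i) a).symm

end


/-- Over a Noetherian ring R, the product module R^A (functions from any set A to R) is flat and
Mittag-Leffler. -/
theorem result (R : Type u) [CommRing R] [IsNoetherianRing R]
    (A : Type u) : Module.Flat R (A → R) ∧ CAlg.IsMittagLeffler R (A → R) := by
  exact ⟨flat_pi R A, ml_pi R A⟩

end Groth.Agent.S6347
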