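import Groth.Statements.S3508
-- import your own Groth.Agent.* helpers here
import Groth.Agent.Lib.Helper23.ShriekPres

set_option autoImplicit false
universe u
open CategoryTheory CategoryTheory.Limits AlgebraicGeometry Opposite
open EtCd

namespace Groth.Agent.S3508

open Groth.Agent.Lib.Helper23 Groth.Agent.Lib.Helper23.ShriekPres Groth.Agent.Lib.Helper23.ShriekRep

lemma gens_of_constructible {X : Scheme.{u}} (F : EtCoh.Ab X) (hF : EtPBC.IsConstructible F)
    (Ω : Type u) [Field Ω] [IsSepClosed Ω] (ξ : Spec (CommRingCat.of Ω) ⟶ X)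
    (γ : (EtCoh.stalk ξ).obj F) : ∃ n ∈ {n : ℕ | 0 < n}, 0 < n ∧ n • γ = 0 := by
  haveI := SpecIso2.finite_stalk_of_constructible F hF ξ
  refine ⟨Nat.card ((EtCoh.stalk ξ).obj F), Nat.card_pos, Nat.card_pos, ?_⟩
  exact card_nsmul_eq_zero'

/-- Let X be a quasi-compact and quasi-separated scheme. An abelian sheaf F on the small etale site of X
is constructible if and only if it is isomorphic to the cokernel of a morphism ⨁_j j_{V_j !} Z/m_j →
⨁_i j_{U_i !} Z/n_i for finite families of affine etale X-schemes U_i, V_j (the source first states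
it with quasi-compact quasi-separated objects and then notes that U_i, V_j may even be taken affine)
and positive integers n_i, m_j (j_! the extension by zero of the constant sheaf). -/
theorem result (X : Scheme.{u}) [CompactSpace X] [QuasiSeparatedSpace X]
    (F : EtCoh.Ab X) :
    EtPBC.IsConstructible F ↔
      ∃ (a b : ℕ) (U : Fin a → X.Etale) (V : Fin b → X.Etale) (n : Fin a → ℕ) (m : Fin b → ℕ),
        (∀ i, 0 < n i ∧ IsAffine (U i).left) ∧ (∀ j, 0 < m j ∧ IsAffine (V j).left) ∧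
        ∃ φ : (⨁ fun j => EtPBC.extZeroConst (V j) (ZMod (m j))) ⟶ (⨁ fun i => EtPBC.extZeroConst (U i) (ZMod (n i))),
          Nonempty (F ≅ cokernel φ) := by
  constructor
  · intro hF
    obtain ⟨𝒜, ψ, hψ⟩ := exists_epi (N := {n : ℕ | 0 < n}) F hF (gens_of_constructible F hF)
    have hK : EtPBC.IsConstructible (kernel ψ) :=
      (Strata.constructible_kernel_cokernel ψ 𝒜.constructible hF).1
    obtain ⟨ℬ, ψ', hψ'⟩ := exists_epi (N := {n : ℕ | 0 < n}) (kernel ψ) hK
      (gens_of_constructible _ hK)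
    refine ⟨𝒜.b, ℬ.b, 𝒜.W, ℬ.W, 𝒜.n, ℬ.n, fun i => ⟨(𝒜.hn i).2, 𝒜.aff i⟩,
      fun j => ⟨(ℬ.hn j).2, ℬ.aff j⟩, ψ' ≫ kernel.ι ψ, ⟨cokerIso ψ ψ'⟩⟩
  · rintro ⟨a, b, U, V, n, m, hU, hV, φ, ⟨e⟩⟩
    have h1 : EtPBC.IsConstructible (⨁ fun i => EtPBC.extZeroConst (U i) (ZMod (n i))) :=
      ConstrSum.constructible_biproduct _ _ (fun i =>
        constructible_sh2_Zn (U i) (hU i).2 (n i) (hU i).1)
    have h2 : EtPBC.IsConstructible (⨁ fun j => EtPBC.extZeroConst (V j) (ZMod (m j))) :=
      ConstrSum.constructible_biproduct _ _ (fun j =>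
        constructible_sh2_Zn (V j) (hV j).2 (m j) (hV j).1)
    exact Strata.constructible_of_iso e.symm (Strata.constructible_kernel_cokernel φ h2 h1).2

end Groth.Agent.S3508
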