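import Groth.Statements.S8540
-- import your own Groth.Agent.* helpers here
import Groth.Agent.S0142
import Groth.Agent.Lib.Helper23.ShriekPres
import Groth.Agent.Lib.Helper23.ConstrSub
import Groth.Agent.Lib.Helper23.StalkSurj
import Groth.Agent.Lib.Helper23.ConstrSum

set_option autoImplicit false
universe u
open CategoryTheory CategoryTheory.Limits AlgebraicGeometry Opposite
open EtPBC

namespace Groth.Agent.S8540

open Groth.Agent.Lib.Helper23
open ZeroObject

set_option backward.isDefEq.respectTransparency.types false in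
set_option backward.isDefEq.respectTransparency false in
/-- every germ of a torsion sheaf is killed by a positive integer -/
lemma torsion_germ {X : Scheme.{u}} (F : EtCoh.Ab X) (hF : EtCoh.IsTorsion F) {Ω : Type u}
    [Field Ω] [IsSepClosed Ω] (ξ : Spec (CommRingCat.of Ω) ⟶ X) (γ : (EtCoh.stalk ξ).obj F) :
    ∃ n : ℕ, 0 < n ∧ n • γ = 0 := by
  let Φ := Scheme.pointSmallEtale ξ
  obtain ⟨W₀, w₀, s₀, rfl⟩ := Φ.toPresheafFiber_jointly_surjective γ
  haveI : Etale W₀.hom := W₀.prop
  let Wl : Scheme.{u} := W₀.left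
  let wl : Spec (CommRingCat.of Ω) ⟶ Wl := w₀.left
  have hw : wl ≫ W₀.hom = ξ := Over.w w₀
  obtain ⟨V, g, ⟨v, hv⟩, hfin⟩ := hF W₀ s₀ (wl default)
  let Vl : Scheme.{u} := V.left
  let gl : Vl ⟶ Wl := g.left
  have hgw : gl ≫ W₀.hom = V.hom := MorphismProperty.Over.w g
  have hge : EtCoh.etaleMP gl := by
    have h1 : EtCoh.etaleMP (gl ≫ W₀.hom) := by rw [hgw]; exact V.prop
    exact EtCoh.etaleMP.of_postcomp (W' := EtCoh.etaleMP) gl W₀.hom W₀.prop h1
  haveI : Etale gl := hge
  obtain ⟨l, hl, -⟩ := Scheme.exists_fac_of_etale_of_isSepClosed gl wl v hv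
  have hlw : l ≫ V.hom = ξ := by rw [← hgw, ← Category.assoc, hl, hw]
  let y : Φ.fiber.obj V := Over.homMk l hlw
  have hy : Φ.fiber.map g y = w₀ := by
    apply Over.OverMorphism.ext
    exact hl
  obtain ⟨n, hn, hns⟩ := isOfFinAddOrder_iff_nsmul_eq_zero.1 hfin
  refine ⟨n, hn, ?_⟩
  have h1 : Φ.toPresheafFiber W₀ w₀ F.obj s₀ =
      Φ.toPresheafFiber V y F.obj (F.obj.map g.op s₀) := by
    rw [Φ.toPresheafFiber_w_apply, hy]
  have h2 : n • Φ.toPresheafFiber V y F.obj (F.obj.map g.op s₀) = 0 := by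
    rw [← map_nsmul, hns, map_zero]
  exact (congrArg (fun z => n • z) h1).trans h2

theorem constructible_of_noeth (X : Scheme.{u}) [IsNoetherian X] (F : EtCoh.Ab X)
    (hF : EtCoh.IsTorsion F) [IsNoetherianObject F] : EtPBC.IsConstructible F := by
  classical
  let S : Set (Subobject F) := {I | ∃ (G : EtCoh.Ab X) (_ : EtPBC.IsConstructible G) (ψ : G ⟶ F),
    I = imageSubobject ψ}
  have hS : S.Nonempty := ⟨imageSubobject (0 : (0 : EtCoh.Ab X) ⟶ F), 0,
    ConstrSum.constructible_of_isZero (isZero_zero _), 0, rfl⟩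
  obtain ⟨I, ⟨G, hG, ψ, rfl⟩, hmax⟩ := (wellFounded_gt (α := Subobject F)).has_min S hS
  have hepi : Epi ψ := by
    rw [StalkSurj.epi_iff_surjAt]
    intro x Ω _ _ ξ hξ γ
    obtain ⟨n, hn, hnγ⟩ := torsion_germ F hF ξ γ
    obtain ⟨W, hW, φ, g, hg⟩ := ShriekPres.exists_gen ξ F γ n hnγ
    let G' : EtCoh.Ab X := G ⊞ ShriekRep.sh2 W (ShriekPres.Zn n)
    have hG' : EtPBC.IsConstructible G' :=
      ConstrSum.constructible_biprod hG (ShriekPres.constructible_sh2_Zn W hW n hn)
    let ψ' : G' ⟶ F := biprod.desc ψ φ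
    have h1 : biprod.inl ≫ ψ' = ψ := biprod.inl_desc _ _
    have h2 : biprod.inr ≫ ψ' = φ := biprod.inr_desc _ _
    have hle : imageSubobject ψ ≤ imageSubobject ψ' := by
      have h3 : imageSubobject (biprod.inl ≫ ψ') ≤ imageSubobject ψ' := imageSubobject_comp_le _ _
      rw [h1] at h3
      exact h3
    have heq : imageSubobject ψ' = imageSubobject ψ := by
      by_contra hne
      exact hmax _ ⟨G', hG', ψ', rfl⟩ (lt_of_le_of_ne hle (Ne.symm hne))
    let t : ShriekRep.sh2 W (ShriekPres.Zn n) ⟶ (imageSubobject ψ : EtCoh.Ab X) :=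
      biprod.inr ≫ factorThruImageSubobject ψ' ≫ Subobject.ofLE _ _ heq.le
    have ht : t ≫ (imageSubobject ψ).arrow = φ := by
      simp only [t, Category.assoc, Subobject.ofLE_arrow, imageSubobject_arrow_comp]
      exact h2
    have hsurj := (StalkSurj.epi_iff_surjAt (factorThruImageSubobject ψ)).1 inferInstance x Ω ξ hξ
    obtain ⟨h, hh⟩ := hsurj ((EtCoh.stalk ξ).map t g)
    refine ⟨h, ?_⟩
    have e1 : (EtCoh.stalk ξ).map ψ =
        (EtCoh.stalk ξ).map (factorThruImageSubobject ψ) ≫
          (EtCoh.stalk ξ).map (imageSubobject ψ).arrow := by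
      rw [← Functor.map_comp, imageSubobject_arrow_comp]
    have e2 : (EtCoh.stalk ξ).map φ =
        (EtCoh.stalk ξ).map t ≫ (EtCoh.stalk ξ).map (imageSubobject ψ).arrow := by
      rw [← Functor.map_comp, ht]
    have e3 : (EtCoh.stalk ξ).map ψ h =
        (EtCoh.stalk ξ).map (imageSubobject ψ).arrow
          ((EtCoh.stalk ξ).map (factorThruImageSubobject ψ) h) :=
      congrArg (fun k => (ConcreteCategory.hom k) h) e1
    have e4 : (EtCoh.stalk ξ).map φ g =
        (EtCoh.stalk ξ).map (imageSubobject ψ).arrow ((EtCoh.stalk ξ).map t g) :=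
      congrArg (fun k => (ConcreteCategory.hom k) g) e2
    rw [e3, hh, ← e4]
    exact hg
  exact ConstrSub.constructible_of_epi ψ hG

/-- Let X be a Noetherian scheme and F a torsion abelian sheaf on the small etale site of X. Then F is
constructible if and only if F is a Noetherian object of the category of abelian etale sheaves on X
(ascending chain condition on subsheaves). -/
theorem result (X : Scheme.{u}) [IsNoetherian X] (F : EtCoh.Ab X)
    (hF : EtCoh.IsTorsion F) :
    EtPBC.IsConstructible F ↔ IsNoetherianObject F := by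
  constructor
  · intro h
    exact (isNoetherianObject_iff_monotone_chain_condition F).2 (fun c => by
      obtain ⟨N, hN⟩ := Groth.Agent.S0142.result X F h c
      exact ⟨N, fun m hm => (hN m hm).symm⟩)
  · intro h
    exact constructible_of_noeth X F hF

end Groth.Agent.S8540
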