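import Groth.Statements.S0134
-- import your own Groth.Agent.* helpers here
import Groth.Agent.Lib.Helper23.ColimConstr
import Groth.Agent.S8540

set_option autoImplicit false
universe u
open CategoryTheory CategoryTheory.Limits AlgebraicGeometry Opposite
open EtPBC

namespace Groth.Agent.S0134

open Groth.Agent.Lib.Helper23

lemma good_constructible (X : Scheme.{u}) :
    ColimConstr.Good (fun G : EtCoh.Ab X => EtPBC.IsConstructible G) where
  constr _ h := h
  iso e h := Strata.constructible_of_iso e h
  zero _ h := ConstrSum.constructible_of_isZero h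
  biprod h h' := ConstrSum.constructible_biprod h h'
  coker f h h' := (Strata.constructible_kernel_cokernel f h h').2

/-- (2): on a quasi-compact quasi-separated scheme X every torsion abelian sheaf on X_et is the colimit
of a filtered diagram of constructible abelian sheaves. -/
theorem result (X : Scheme.{u}) [CompactSpace X] [QuasiSeparatedSpace X]
    (F : EtCoh.Ab X) (hF : EtCoh.IsTorsion F) :
    ∃ (J : Type (u + 1)) (_ : SmallCategory J) (_ : IsFiltered J) (D : J ⥤ EtCoh.Ab X)
      (c : Cocone D) (_ : IsColimit c), (∀ j, EtPBC.IsConstructible (D.obj j)) ∧ Nonempty (c.pt ≅ F) := by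
  refine ColimConstr.main F _ (good_constructible X) ?_
  intro Ω _ _ ξ γ
  obtain ⟨n, hn, hnγ⟩ := Groth.Agent.S8540.torsion_germ F hF ξ γ
  obtain ⟨W, hW, φ, hφ⟩ := ShriekPres.exists_gen ξ F γ n hnγ
  exact ⟨_, ShriekPres.constructible_sh2_Zn W hW n hn, φ, hφ⟩

end Groth.Agent.S0134
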