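import Groth.Statements.S0651
-- import your own Groth.Agent.* helpers here
import Groth.Agent.Lib.Helper23.EtRestr
import Mathlib.CategoryTheory.Adjunction.Triple

set_option autoImplicit false
open CategoryTheory CategoryTheory.Limits AlgebraicGeometry Opposite
universe u
open EtCore

namespace Groth.Agent.S0651

open CategoryTheory AlgebraicGeometry Opposite Limits GrothendieckTopology
open Groth.Agent.Lib.Helper23.EtRestr

set_option backward.isDefEq.respectTransparency.types false in
set_option backward.isDefEq.respectTransparency false in
lemma isIso_counit_restrPush {U X : Scheme.{u}} (j : U ⟶ X) [IsOpenImmersion j]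
    [AlgebraicGeometry.Etale j] [EtShriek.JCont j] : IsIso (restrPushAdj j).counit := by
  haveI : IsIso (adjSite j).unit := inferInstance
  rw [NatTrans.isIso_iff_isIso_app]
  intro F
  rw [← isIso_iff_of_reflects_iso _ (sheafToPresheaf _ _), NatTrans.isIso_iff_isIso_app]
  intro V
  change IsIso (F.obj.map (((adjSite j).unit.app V.unop).op) ≫ 𝟙 _)
  infer_instance


/-- For an open immersion j : U -> X and an abelian sheaf F on the small etale site of U, the counit
j^{-1} j_* F -> F of the pullback/direct image adjunction and the unit F -> j^{-1} j_! F of the
extension-by-zero/restriction adjunction are isomorphisms. (Continuity of the composition functor of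
etale sites, which always holds, is carried as an instance hypothesis.) -/
theorem result {U X : Scheme.{u}} (j : U ⟶ X) [IsOpenImmersion j]
    [AlgebraicGeometry.Etale j] [EtShriek.JCont j] (F : EtCoh.Ab U) :
    IsIso ((EtCoh.pullPushAdj j).counit.app F) ∧ IsIso ((EtShriek.extZeroAdj j).unit.app F) := by
  have h1 := isIso_counit_restrPush j
  constructor
  · let ff := (restrPushAdj j).fullyFaithfulROfIsIsoCounit
    haveI := ff.full
    haveI := ff.faithful
    infer_instance
  · let t : Adjunction.Triple (EtShriek.extZero j) (EtShriek.restrAlong j) (EtCoh.push j) :=
      ⟨EtShriek.extZeroAdj j, restrPushAdj j⟩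
    have h2 : IsIso (EtShriek.extZeroAdj j).unit := t.isIso_unit_iff_isIso_counit.2 h1
    infer_instance

end Groth.Agent.S0651
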