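import Groth.Statements.S0652
-- import your own Groth.Agent.* helpers here
import Groth.Agent.Lib.Helper23.EtRecoll
import Groth.Agent.S0100
import Groth.Agent.S0622
import Mathlib.AlgebraicGeometry.IdealSheaf.Subscheme

set_option autoImplicit false
open CategoryTheory CategoryTheory.Limits AlgebraicGeometry Opposite
universe u
open EtCore

namespace Groth.Agent.S0652

/-- the reduced closed complement of an open immersion -/
lemma exists_closed_compl {U X : Scheme.{u}} (j : U ⟶ X) [IsOpenImmersion j] :
    ∃ (Z : Scheme.{u}) (i : Z ⟶ X), IsClosedImmersion i ∧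
      Set.range j.base = (Set.range i.base)ᶜ := by
  have ho : IsOpen (Set.range j.base) := j.isOpenEmbedding.isOpen_range
  let C : TopologicalSpace.Closeds X := ⟨(Set.range j.base)ᶜ, ho.isClosed_compl⟩
  let I := Scheme.IdealSheafData.vanishingIdeal C
  refine ⟨I.subscheme, I.subschemeι, inferInstance, ?_⟩
  have h1 : Set.range I.subschemeι.base = (Set.range j.base)ᶜ := by
    have := I.range_subschemeι
    rw [Scheme.IdealSheafData.coe_support_vanishingIdeal] at this
    exact this
  rw [h1, compl_compl]

/-- For an open immersion j : U -> X and an abelian sheaf F on the small etale site of U, an abelian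
sheaf G on X is isomorphic to j_! F as soon as G restricts to a sheaf isomorphic to F on U and has
vanishing stalks at every geometric point of X not in U. (Continuity of the composition functor of
etale sites, which always holds, is carried as an instance hypothesis.) -/
theorem result {U X : Scheme.{u}} (j : U ⟶ X) [IsOpenImmersion j]
    [AlgebraicGeometry.Etale j] [EtShriek.JCont j] (F : EtCoh.Ab U) (G : EtCoh.Ab X)
    (hres : Nonempty ((EtShriek.restrAlong j).obj G ≅ F))
    (hzero : ∀ (Ω : Type u) [Field Ω] [IsSepClosed Ω] (ξ : Spec (CommRingCat.of Ω) ⟶ X),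
      Set.range ξ.base ⊆ (Set.range j.base)ᶜ → IsZero ((EtCoh.stalk ξ).obj G)) :
    Nonempty (G ≅ (EtShriek.extZero j).obj F) := by
  obtain ⟨Z, i, hi, hZU⟩ := exists_closed_compl j
  obtain ⟨e⟩ := hres
  have hJC := Groth.Agent.Lib.Helper23.EtRecoll.isZero_of_restr_pull i j hZU
  have hzG : IsZero ((EtCoh.pull i).obj G) := by
    apply Groth.Agent.S0622.isZero_of_stalks
    intro Ω _ _ ζ
    obtain ⟨e1⟩ := Groth.Agent.S0100.result i G ζ
    refine (hzero Ω (ζ ≫ i) ?_).of_iso e1
    rintro x ⟨t, rfl⟩
    change (ζ ≫ i) t ∈ (Set.range j.base)ᶜ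
    rw [hZU, compl_compl]
    exact ⟨ζ t, rfl⟩
  have hz1 : IsZero ((EtCoh.pull i).obj ((EtShriek.extZero j).obj
      ((EtShriek.restrAlong j).obj G))) :=
    Groth.Agent.Lib.Helper23.EtRecoll.isZero_pull_extZero i j hZU _
  haveI : IsIso ((EtShriek.extZeroAdj j).counit.app G) := by
    apply Groth.Agent.Lib.Helper23.JointExact.isIso_of (EtShriek.restrAlong j) (EtCoh.pull i) hJC
    · exact Groth.Agent.Lib.Helper23.EtRecoll.isIso_restr_counit j G
    · exact ⟨⟨0, hz1.eq_of_src _ _, hzG.eq_of_src _ _⟩⟩
  exact ⟨(asIso ((EtShriek.extZeroAdj j).counit.app G)).symm ≪≫ (EtShriek.extZero j).mapIso e⟩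

end Groth.Agent.S0652
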