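import Groth.Statements.S0654
-- import your own Groth.Agent.* helpers here
import Groth.Agent.Lib.Helper23.EtRecoll

set_option autoImplicit false
open CategoryTheory CategoryTheory.Limits AlgebraicGeometry Opposite
universe u
open EtCore

namespace Groth.Agent.S0654

/-- Let i : Z -> X be a closed immersion and j : U -> X the open immersion of the complement of its
image. For every abelian sheaf F on the small etale site of X, the counit j_! (F|_U) -> F followed
by the unit F -> i_* i^{-1} F composes to zero and the resulting three-term sequence is short exact.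
(Continuity of the composition functor of etale sites, which always holds, is carried as an instance
hypothesis.) -/
theorem result {Z X : Scheme.{u}} (i : Z ⟶ X) [IsClosedImmersion i]
    (U : X.Opens) (hU : (U : Set X) = (Set.range i.base)ᶜ) [AlgebraicGeometry.Etale U.ι] [EtShriek.JCont U.ι]
    (F : EtCoh.Ab X) :
    ∃ w : (EtShriek.extZeroAdj U.ι).counit.app F ≫ (EtCoh.pullPushAdj i).unit.app F = 0,
      (ShortComplex.mk _ _ w).ShortExact := by
  have hZU : Set.range (U.ι).base = (Set.range i.base)ᶜ := by
    rw [← hU]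
    exact Scheme.Opens.range_ι U
  have w : (EtShriek.extZeroAdj U.ι).counit.app F ≫ (EtCoh.pullPushAdj i).unit.app F = 0 :=
    Groth.Agent.Lib.Helper23.EtRecoll.extZero_to_push_eq_zero i U.ι hZU _
  refine ⟨w, ?_⟩
  have hJC := Groth.Agent.Lib.Helper23.EtRecoll.isZero_of_restr_pull i U.ι hZU
  haveI hR := Groth.Agent.Lib.Helper23.EtRecoll.isIso_restr_counit U.ι F
  haveI hP := Groth.Agent.Lib.Helper23.EtRecoll.isIso_pull_unit i F
  have hz3 : IsZero ((EtShriek.restrAlong U.ι).obj ((EtCoh.push i).obj ((EtCoh.pull i).obj F))) :=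
    Groth.Agent.Lib.Helper23.EtRecoll.isZero_restr_push i U.ι hZU _
  have hz1 : IsZero ((EtCoh.pull i).obj ((EtShriek.extZero U.ι).obj
      ((EtShriek.restrAlong U.ι).obj F))) :=
    Groth.Agent.Lib.Helper23.EtRecoll.isZero_pull_extZero i U.ι hZU _
  haveI : Mono ((EtShriek.extZeroAdj U.ι).counit.app F) := by
    apply Groth.Agent.Lib.Helper23.JointExact.mono_of (EtShriek.restrAlong U.ι) (EtCoh.pull i) hJC
    · infer_instance
    · exact ⟨fun _ _ _ => hz1.eq_of_tgt _ _⟩
  haveI : Epi ((EtCoh.pullPushAdj i).unit.app F) := by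
    apply Groth.Agent.Lib.Helper23.JointExact.epi_of (EtShriek.restrAlong U.ι) (EtCoh.pull i) hJC
    · exact ⟨fun _ _ _ => hz3.eq_of_src _ _⟩
    · infer_instance
  refine ShortComplex.ShortExact.mk' ?_ inferInstance inferInstance
  apply Groth.Agent.Lib.Helper23.JointExact.exact_of (EtShriek.restrAlong U.ι) (EtCoh.pull i) hJC
  · have hg : (ShortComplex.map (ShortComplex.mk _ _ w) (EtShriek.restrAlong U.ι)).g = 0 :=
      hz3.eq_of_tgt _ _
    rw [ShortComplex.exact_iff_epi _ hg]
    change Epi ((EtShriek.restrAlong U.ι).map ((EtShriek.extZeroAdj U.ι).counit.app F))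
    infer_instance
  · have hf : (ShortComplex.map (ShortComplex.mk _ _ w) (EtCoh.pull i)).f = 0 :=
      hz1.eq_of_src _ _
    rw [ShortComplex.exact_iff_mono _ hf]
    change Mono ((EtCoh.pull i).map ((EtCoh.pullPushAdj i).unit.app F))
    infer_instance

end Groth.Agent.S0654
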