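import Groth.Statements.S0129
-- import your own Groth.Agent.* helpers here
import Groth.Agent.Lib.Helper23.Strata

set_option autoImplicit false
universe u
open CategoryTheory CategoryTheory.Limits AlgebraicGeometry Opposite
open EtPBC

namespace Groth.Agent.S0129

/-- Abelian case: if X is covered by opens U_i and the restriction of F to each U_i is constructible,
then F is constructible. -/
theorem result {X : Scheme.{u}} (F : EtCoh.Ab X) {ι : Type u} (U : ι → X.Opens)
    (hU : ⨆ i, U i = ⊤) [∀ i, EtCoh.BCCont (U i).ι]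
    (h : ∀ i, EtPBC.IsConstructible ((EtCoh.pull (U i).ι).obj F)) :
    EtPBC.IsConstructible F := by
  open Groth.Agent.Lib.Helper23.Strata in
  intro V hV
  rw [adaptedStrata_iff]
  have hx : ∀ x : V, ∃ (i : ι) (W : X.Opens), IsAffineOpen W ∧ (x : X) ∈ W ∧ W ≤ V ⊓ U i := by
    intro x
    have hxt : (x : X) ∈ (⨆ i, U i) := by rw [hU]; trivial
    obtain ⟨i, hi⟩ := TopologicalSpace.Opens.mem_iSup.1 hxt
    obtain ⟨W, hW, hxW, hWs⟩ :=
      exists_isAffineOpen_mem_and_subset (x := x.1) (U := V ⊓ U i) ⟨x.2, hi⟩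
    exact ⟨i, W, hW, hxW, hWs⟩
  choose i W hWa hxW hWs using hx
  have hVc : IsCompact (V : Set X) := hV.isCompact
  obtain ⟨t, ht⟩ := hVc.elim_finite_subcover (fun x : V => (W x : Set X))
    (fun x => (W x).isOpen) (fun y hy => Set.mem_iUnion.2 ⟨⟨y, hy⟩, hxW _⟩)
  let e := t.equivFin
  haveI : IsAffine (V : Scheme.{u}) := hV
  apply Adapted.glue V t.card (fun k => W (e.symm k).1)
    (fun k => (hWs _).trans inf_le_left) (fun k => (hWa _).isCompact)
  · intro y hy
    have := ht hy
    simp only [Set.mem_iUnion, exists_prop] at this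
    obtain ⟨x, hxt, hyx⟩ := this
    refine Set.mem_iUnion.2 ⟨e ⟨x, hxt⟩, ?_⟩
    simp only [Equiv.symm_apply_apply]
    exact hyx
  · intro k
    let x := (e.symm k).1
    have hle : W x ≤ U (i x) := (hWs x).trans inf_le_right
    have hle' : W x ≤ (U (i x)).ι.opensRange := by
      rw [Scheme.Opens.opensRange_ι]
      exact hle
    have hV'a : IsAffineOpen ((U (i x)).ι ⁻¹ᵁ W x) :=
      (hWa x).preimage_of_isOpenImmersion (U (i x)).ι hle'
    have h1 := (adaptedStrata_iff _ _).1 (h (i x) _ hV'a)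
    have h2 := Adapted.of_open (U (i x)) _ h1
    rw [(U (i x)).ι.image_preimage_eq_opensRange_inf, inf_eq_right.mpr hle'] at h2
    exact h2


end Groth.Agent.S0129
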