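import Groth.Statements.S8546
-- import your own Groth.Agent.* helpers here
import Groth.Agent.Lib.Helper23.ConstrDescentFam
import Groth.Agent.Lib.Helper23.ConstrTop
import Groth.Agent.S0129

set_option autoImplicit false
universe u
open CategoryTheory CategoryTheory.Limits AlgebraicGeometry Opposite
open EtPBC

namespace Groth.Agent.S8546

/-- Let f : X → Y be a surjective morphism locally of finite presentation and F an abelian sheaf on the
small etale site of Y. Then F is constructible if and only if f⁻¹F is constructible. (No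
quasi-compactness hypothesis on X or Y.) -/
theorem result {X Y : Scheme.{u}} (f : X ⟶ Y) [Surjective f]
    [LocallyOfFinitePresentation f] (F : EtCoh.Ab Y) :
    EtPBC.IsConstructible F ↔ EtPBC.IsConstructible ((EtCoh.pull f).obj F) := by
  refine ⟨fun hF => Groth.Agent.S0127.result f F hF, fun h => ?_⟩
  refine Groth.Agent.S0129.result F (ι := Y.affineOpens) (fun V => V.1)
    (iSup_affineOpens_eq_top Y) ?_
  intro V
  haveI : IsAffine (V.1 : Scheme.{u}) := V.2
  let I := {W : X.affineOpens // W.1 ≤ f ⁻¹ᵁ V.1}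
  let gW : ∀ W : I, (W.1.1 : Scheme.{u}) ⟶ (V.1 : Scheme.{u}) := fun W => f.resLE V.1 W.1.1 W.2
  haveI : ∀ W : I, IsAffine (W.1.1 : Scheme.{u}) := fun W => W.1.2
  have hgW : ∀ W : I, gW W ≫ V.1.ι = W.1.1.ι ≫ f := fun W => Scheme.Hom.resLE_comp_ι f W.2
  have hZ : ∀ W : I, Topology.IsConstructible (Set.range (gW W)) := by
    intro W
    rw [← Set.image_univ]
    exact (gW W).isConstructible_image Topology.IsConstructible.univ
  have hcov : (⋃ W : I, Set.range (gW W)) = Set.univ := by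
    apply Set.eq_univ_of_forall
    intro v
    obtain ⟨x, hx⟩ := f.surjective v.1
    have hxV : x ∈ f ⁻¹ᵁ V.1 := by
      change f x ∈ V.1
      rw [hx]
      exact v.2
    obtain ⟨W₀, hW₀, hxW, hle⟩ := TopologicalSpace.Opens.isBasis_iff_nbhd.mp X.isBasis_affineOpens hxV
    let W : I := ⟨⟨W₀, hW₀⟩, hle⟩
    refine Set.mem_iUnion.2 ⟨W, ⟨x, hxW⟩, ?_⟩
    apply Subtype.ext
    have h1 : (gW W ≫ V.1.ι) ⟨x, hxW⟩ = (W.1.1.ι ≫ f) ⟨x, hxW⟩ := by rw [hgW W]
    exact h1.trans hx
  obtain ⟨t, ht⟩ := Groth.Agent.Lib.Helper23.ConstrTop.exists_finite_cover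
    (fun W : I => Set.range (gW W)) hZ hcov
  refine Groth.Agent.Lib.Helper23.ConstrDescentFam.constructible_of_pull (ι := t)
    (fun k => (k.1.1.1 : Scheme.{u})) (fun k => gW k.1) ?_ _ ?_
  · apply Set.eq_univ_of_forall
    intro v
    obtain ⟨W, hW, hv⟩ := ht v
    exact Set.mem_iUnion.2 ⟨⟨W, hW⟩, hv⟩
  · intro k
    have h1 : EtPBC.IsConstructible ((EtCoh.pull k.1.1.1.ι).obj ((EtCoh.pull f).obj F)) :=
      Groth.Agent.S0127.result _ _ h
    refine Groth.Agent.Lib.Helper23.Strata.constructible_of_iso ?_ h1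
    exact ((EtCore.pullComp k.1.1.1.ι f).app F).symm ≪≫
      (EtCore.pullCongr (hgW k.1).symm).app F ≪≫ (EtCore.pullComp (gW k.1) V.1.ι).app F

end Groth.Agent.S8546
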