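import Groth.Statements.S6629
-- import your own Groth.Agent.* helpers here
import Groth.Agent.Lib.Helper23.EtGlue2

set_option autoImplicit false
open CategoryTheory CategoryTheory.Limits AlgebraicGeometry Opposite
universe u
open EtDesc

namespace Groth.Agent.S6629

open CategoryTheory AlgebraicGeometry Opposite Limits GrothendieckTopology
open Groth.Agent.Lib.Helper23.EtSite Groth.Agent.Lib.Helper23.EtGlue

set_option backward.isDefEq.respectTransparency.types false in
set_option backward.isDefEq.respectTransparency false in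
/-- Compatibility of base change with the symmetry isomorphisms. -/
lemma bc_map_symm {X S : Scheme.{u}} (f : X ⟶ S) {V V' : S.Etale} (b : V' ⟶ V) :
    ((EtCoh.bc f).map b).left ≫ (pullbackSymmetry V.hom f).hom =
      (pullbackSymmetry V'.hom f).hom ≫
        pullback.map f V'.hom f V.hom (𝟙 X) b.left (𝟙 S) (by simp) (by simp) := by
  have e1 : ((EtCoh.bc f).map b).left ≫ pullback.snd V.hom f = pullback.snd V'.hom f := by
    dsimp [EtCoh.bc]
    exact pullback.lift_snd _ _ _
  have e2 : ((EtCoh.bc f).map b).left ≫ pullback.fst V.hom f = pullback.fst V'.hom f ≫ b.left := by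
    dsimp [EtCoh.bc]
    exact pullback.lift_fst _ _ _
  apply pullback.hom_ext
  · rw [Category.assoc, pullbackSymmetry_hom_comp_fst, e1, Category.assoc, pullback.lift_fst,
      ← Category.assoc, pullbackSymmetry_hom_comp_fst, Category.comp_id]
  · rw [Category.assoc, pullbackSymmetry_hom_comp_snd, e2, Category.assoc, pullback.lift_snd,
      ← Category.assoc, pullbackSymmetry_hom_comp_snd]


set_option backward.isDefEq.respectTransparency.types false in
set_option backward.isDefEq.respectTransparency false in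
lemma locSurj {X S : Scheme.{u}} (f : X ⟶ S) (hB : BigSite.PropB f) {F G : EtDesc.Sh X}
    (φ : F ⟶ G) (hφ : Sheaf.IsLocallySurjective φ) :
    Sheaf.IsLocallySurjective ((EtDesc.pushSh f).map φ) := by
  refine ⟨fun {V} t => ?_⟩
  have hcovT := Presheaf.imageSieve_mem X.smallEtaleTopology φ.hom
    (U := op ((EtCoh.bc f).obj V)) t
  choose A α hα hx using exists_arrow_of_mem _ hcovT
  choose sA hsA using hα
  let σ := pullbackSymmetry V.hom f
  obtain ⟨κ, V', v', hv'et, hv'cov, hdec⟩ := hB V.left V.hom ((EtCoh.bc f).obj V).left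
    (fun x => (A x).left) (fun x => (α x).left ≫ σ.hom) (fun x => inferInstance) (fun y => by
      obtain ⟨a, ha⟩ := hx (σ.inv y)
      refine ⟨σ.inv y, a, ?_⟩
      change σ.hom ((α (σ.inv y)).left a) = y
      rw [ha, ← Scheme.Hom.comp_apply, Iso.inv_hom_id]
      rfl)
  apply sieve_mem_of_forall_point
  intro y
  obtain ⟨j, hj⟩ := hv'cov y
  haveI := hv'et j
  let V'' : S.Etale := Scheme.Etale.mk (v' j ≫ V.hom)
  let b : V'' ⟶ V := MorphismProperty.Over.homMk (v' j) rfl trivial
  refine ⟨V'', b, ?_, hj⟩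
  obtain ⟨μ, W, hdisj, hcov, hW⟩ := hdec j
  choose i h hh using hW
  let σj := pullbackSymmetry (v' j ≫ V.hom) f
  let W' : μ → ((EtCoh.bc f).obj V'').left.Opens := fun a => σj.hom ⁻¹ᵁ W a
  have hdisj' : ∀ a b, a ≠ b → Disjoint (W' a) (W' b) := by
    intro a b hab
    have h0 := hdisj a b hab
    rw [← TopologicalSpace.Opens.coe_disjoint] at h0 ⊢
    exact h0.preimage _
  have hcov' : (⨆ a, W' a) = ⊤ := by
    ext z
    simp only [TopologicalSpace.Opens.coe_iSup, Set.mem_iUnion, SetLike.mem_coe,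
      TopologicalSpace.Opens.coe_top, Set.mem_univ, iff_true]
    have hz : σj.hom z ∈ ((⨆ a, W a : (pullback f (v' j ≫ V.hom)).Opens) : Set _) := by
      rw [hcov]; trivial
    rw [TopologicalSpace.Opens.coe_iSup] at hz
    obtain ⟨a, ha⟩ := Set.mem_iUnion.1 hz
    exact ⟨a, ha⟩
  let h' : ∀ a, (W' a).toScheme ⟶ (A (i a)).left := fun a => (σj.hom ∣_ W a) ≫ h a
  have hh' : ∀ a, h' a ≫ (α (i a)).left = (W' a).ι ≫ ((EtCoh.bc f).map b).left := by
    intro a
    have key : ((EtCoh.bc f).map b).left ≫ σ.hom = σj.hom ≫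
        pullback.map f (v' j ≫ V.hom) f V.hom (𝟙 X) (v' j) (𝟙 S) (by simp) (by simp) :=
      bc_map_symm f b
    have hmono : Mono σ.hom := inferInstance
    rw [← cancel_mono σ.hom]
    calc (h' a ≫ (α (i a)).left) ≫ σ.hom
        = (σj.hom ∣_ W a) ≫ (h a ≫ (α (i a)).left ≫ σ.hom) := by
          simp only [h', Category.assoc]
      _ = (σj.hom ∣_ W a) ≫ ((W a).ι ≫
            pullback.map f (v' j ≫ V.hom) f V.hom (𝟙 X) (v' j) (𝟙 S) (by simp) (by simp)) := by
          rw [hh a]
      _ = ((σj.hom ∣_ W a) ≫ (W a).ι) ≫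
            pullback.map f (v' j ≫ V.hom) f V.hom (𝟙 X) (v' j) (𝟙 S) (by simp) (by simp) :=
          (Category.assoc _ _ _).symm
      _ = ((W' a).ι ≫ σj.hom) ≫
            pullback.map f (v' j ≫ V.hom) f V.hom (𝟙 X) (v' j) (𝟙 S) (by simp) (by simp) := by
          rw [morphismRestrict_ι]
      _ = (W' a).ι ≫ (σj.hom ≫
            pullback.map f (v' j ≫ V.hom) f V.hom (𝟙 X) (v' j) (𝟙 S) (by simp) (by simp)) :=
          Category.assoc _ _ _
      _ = (W' a).ι ≫ (((EtCoh.bc f).map b).left ≫ σ.hom) := by rw [key]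
      _ = ((W' a).ι ≫ ((EtCoh.bc f).map b).left) ≫ σ.hom := (Category.assoc _ _ _).symm
  let k : ∀ a, opn ((EtCoh.bc f).obj V'') (W' a) ⟶ A (i a) := fun a =>
    MorphismProperty.Over.homMk (h' a) (by
      have hw : (α (i a)).left ≫ ((EtCoh.bc f).obj V).hom = (A (i a)).hom := Over.w (α (i a)).hom
      have hw2 : ((EtCoh.bc f).map b).left ≫ ((EtCoh.bc f).obj V).hom =
          ((EtCoh.bc f).obj V'').hom := Over.w ((EtCoh.bc f).map b).hom
      change h' a ≫ (A (i a)).hom = (W' a).ι ≫ ((EtCoh.bc f).obj V'').hom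
      rw [← hw, ← Category.assoc, hh' a, Category.assoc, hw2]) trivial
  have hk : ∀ a, k a ≫ α (i a) = opnι ((EtCoh.bc f).obj V'') (W' a) ≫ (EtCoh.bc f).map b :=
    fun a => hom_ext_of_left _ _ (hh' a)
  obtain ⟨s', hs', -⟩ := existsUnique_glue_family F ((EtCoh.bc f).obj V'') W' hdisj' hcov'
    (fun a => F.obj.map (k a).op (sA (i a)))
  refine ⟨s', ?_⟩
  obtain ⟨r, hr1, hr2⟩ := existsUnique_glue_family G ((EtCoh.bc f).obj V'') W' hdisj' hcov'
    (fun a => G.obj.map (opnι ((EtCoh.bc f).obj V'') (W' a) ≫ (EtCoh.bc f).map b).op t)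
  have e1 : φ.hom.app (op ((EtCoh.bc f).obj V'')) s' = r := hr2 _ (fun a => by
    have hn := NatTrans.naturality_apply φ.hom (opnι ((EtCoh.bc f).obj V'') (W' a)).op s'
    rw [← hn, hs' a]
    have hn2 := NatTrans.naturality_apply φ.hom (k a).op (sA (i a))
    rw [hn2, hsA (i a), ← hk a]
    simp only [op_comp, Functor.map_comp]
    rfl)
  have e2 : G.obj.map ((EtCoh.bc f).map b).op t = r := hr2 _ (fun a => by
    simp only [op_comp, Functor.map_comp]
    rfl)
  exact e1.trans e2.symm

/-- Let f : X ⟶ Y be a morphism of schemes satisfying condition (B) (for every etale V ⟶ Y and every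
etale covering of X ×_Y V there is an etale covering of V by schemes V_j such that each X ×_Y V_j is
a disjoint union of open subschemes each mapping into X ×_Y V through a member of the given
covering). Then the direct image of sheaves of sets on the small etale sites along f sends
epimorphisms to epimorphisms. -/
theorem result {X Y : Scheme.{u}} (f : X ⟶ Y) (hB : BigSite.PropB f) :
    (EtDesc.pushSh f).PreservesEpimorphisms := by
  refine ⟨fun {F G} φ hφ => ?_⟩
  rw [epi_iff_isLocallySurjective] at hφ ⊢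
  exact locSurj f hB φ hφ


end Groth.Agent.S6629
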