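import Groth.Statements.S6359
-- import your own Groth.Agent.* helpers here
import Groth.Agent.Lib.Helper23.PureSplit

set_option autoImplicit false
universe u
open CAlg

namespace Groth.Agent.S6359

/-- Let f : M → N and g : M → M' be maps of R-modules such that the cokernel of f is finitely presented.
Then g dominates f (for every module Q the kernel of f ⊗ id_Q is contained in the kernel of g ⊗
id_Q) if and only if g factors through f. -/
theorem result (R : Type u) [CommRing R] {M N M' : Type u}
    [AddCommGroup M] [Module R M] [AddCommGroup N] [Module R N] [AddCommGroup M'] [Module R M']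
    (f : M →ₗ[R] N) (g : M →ₗ[R] M') [Module.FinitePresentation R (N ⧸ LinearMap.range f)] :
    (∀ (Q : Type u) [AddCommGroup Q] [Module R Q], LinearMap.ker (f.rTensor Q) ≤ LinearMap.ker (g.rTensor Q)) ↔
      ∃ h : N →ₗ[R] M', g = h ∘ₗ f := by
  constructor
  · intro hdom
    -- the pushout `N' = (M' × N) / {(g m, -f m)}`
    let φ : M →ₗ[R] M' × N := g.prod (-f)
    let P := (M' × N) ⧸ LinearMap.range φ
    let mk : M' × N →ₗ[R] P := (LinearMap.range φ).mkQ
    let ι' : M' →ₗ[R] P := mk ∘ₗ LinearMap.inl R M' N
    let ν : N →ₗ[R] P := mk ∘ₗ LinearMap.inr R M' N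
    have hmkφ : ∀ m, mk (φ m) = 0 := fun m =>
      (Submodule.Quotient.mk_eq_zero _).mpr ⟨m, rfl⟩
    have hνf : ∀ m, ν (f m) = ι' (g m) := by
      intro m
      have h0 := hmkφ m
      have h1 : φ m = LinearMap.inl R M' N (g m) - LinearMap.inr R M' N (f m) := by
        ext <;> simp [φ]
      rw [h1, map_sub, sub_eq_zero] at h0
      exact h0.symm
    -- universal injectivity of `ι'`
    have hexφ : Function.Exact φ mk := LinearMap.exact_map_mkQ_range φ
    have hmk : Function.Surjective mk := Submodule.mkQ_surjective _
    have hunivR : ∀ (Q : Type u) [AddCommGroup Q] [Module R Q],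
        Function.Injective (ι'.rTensor Q) := by
      intro Q _ _
      rw [injective_iff_map_eq_zero]
      intro x hx
      have h1 : mk.rTensor Q ((LinearMap.inl R M' N).rTensor Q x) = 0 := by
        rw [← LinearMap.comp_apply, ← LinearMap.rTensor_comp]
        exact hx
      obtain ⟨w, hw⟩ := (rTensor_exact Q hexφ hmk _).mp h1
      have h2 : (f.rTensor Q) w = 0 := by
        have := congrArg ((LinearMap.snd R M' N).rTensor Q) hw
        rw [← LinearMap.comp_apply, ← LinearMap.comp_apply, ← LinearMap.rTensor_comp,
          ← LinearMap.rTensor_comp] at this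
        have e1 : LinearMap.snd R M' N ∘ₗ φ = -f := by ext; simp [φ]
        have e2 : LinearMap.snd R M' N ∘ₗ LinearMap.inl R M' N = 0 := by ext; simp
        rw [e1, e2, LinearMap.rTensor_zero, LinearMap.zero_apply, LinearMap.rTensor_neg,
          LinearMap.neg_apply, neg_eq_zero] at this
        exact this
      have h3 : (g.rTensor Q) w = 0 := hdom Q h2
      have := congrArg ((LinearMap.fst R M' N).rTensor Q) hw
      rw [← LinearMap.comp_apply, ← LinearMap.comp_apply, ← LinearMap.rTensor_comp,
        ← LinearMap.rTensor_comp] at this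
      have e1 : LinearMap.fst R M' N ∘ₗ φ = g := by ext; simp [φ]
      have e2 : LinearMap.fst R M' N ∘ₗ LinearMap.inl R M' N = LinearMap.id := by ext; simp
      rw [e1, e2, LinearMap.rTensor_id, LinearMap.id_apply, h3] at this
      exact this.symm
    have huniv : ∀ (Q : Type u) [AddCommGroup Q] [Module R Q],
        Function.Injective (ι'.lTensor Q) := by
      intro Q _ _
      rw [LinearMap.lTensor_inj_iff_rTensor_inj]
      exact hunivR Q
    have hι' : Function.Injective ι' := by
      have := hunivR R
      intro a b hab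
      have h1 : ι'.rTensor R (a ⊗ₜ 1) = ι'.rTensor R (b ⊗ₜ 1) := by
        rw [LinearMap.rTensor_tmul, LinearMap.rTensor_tmul, hab]
      have h2 := this h1
      have h3 := congrArg (TensorProduct.rid R M') h2
      simpa using h3
    -- the cokernel of `ι'` is `N / range f`
    let q0 : M' × N →ₗ[R] N ⧸ LinearMap.range f :=
      (LinearMap.range f).mkQ ∘ₗ LinearMap.snd R M' N
    have hq0 : LinearMap.range φ ≤ LinearMap.ker q0 := by
      rintro _ ⟨m, rfl⟩
      rw [LinearMap.mem_ker]
      show (LinearMap.range f).mkQ ((φ m).2) = 0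
      rw [Submodule.mkQ_apply, Submodule.Quotient.mk_eq_zero]
      exact ⟨-m, by simp [φ]⟩
    let q : P →ₗ[R] N ⧸ LinearMap.range f := (LinearMap.range φ).liftQ q0 hq0
    have hqmk : ∀ z, q (mk z) = q0 z := fun z => rfl
    have hq : Function.Surjective q := by
      intro c
      obtain ⟨n, rfl⟩ := Submodule.mkQ_surjective _ c
      exact ⟨mk (0, n), rfl⟩
    have hex : Function.Exact ι' q := by
      intro z
      constructor
      · intro hz
        obtain ⟨⟨m', n⟩, rfl⟩ := hmk z
        rw [hqmk] at hz
        have hn : n ∈ LinearMap.range f := (Submodule.Quotient.mk_eq_zero _).mp hz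
        obtain ⟨m, rfl⟩ := hn
        refine ⟨m' + g m, ?_⟩
        show mk (LinearMap.inl R M' N (m' + g m)) = mk (m', f m)
        rw [← sub_eq_zero, ← map_sub]
        have : LinearMap.inl R M' N (m' + g m) - (m', f m) = φ m := by
          ext <;> simp [φ]
        rw [this, hmkφ]
      · rintro ⟨m', rfl⟩
        show q0 (LinearMap.inl R M' N m') = 0
        simp [q0]
    obtain ⟨ρ, hρ⟩ := Helper23.Pure.exists_retraction ι' q hι' hex hq huniv
    refine ⟨ρ ∘ₗ ν, ?_⟩
    ext m
    rw [LinearMap.comp_apply, LinearMap.comp_apply, hνf, ← LinearMap.comp_apply, hρ,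
      LinearMap.id_apply]
  · rintro ⟨h, rfl⟩ Q _ _ x hx
    rw [LinearMap.mem_ker] at hx ⊢
    rw [LinearMap.rTensor_comp, LinearMap.comp_apply, hx, map_zero]

end Groth.Agent.S6359
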