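import Groth.Statements.S10721
-- import your own Groth.Agent.* helpers here

set_option autoImplicit false
universe u
open TensorProduct
open EtAlg

namespace Groth.Agent.S10721

theorem eq_zero_of_one_tmul_eq_zero {R R' : Type u} [CommRing R] [CommRing R'] [Algebra R R'] {f : R}
    (hq : EtGlue.QuotPowBijective R R' f)
    {Q : Type u} [AddCommGroup Q] [Module R Q] (htors : ∀ q : Q, ∃ n : ℕ, f ^ n • q = 0)
    (q : Q) (h : (1 : R') ⊗ₜ[R] q = 0) : q = 0 := by
  classical
  have hsurj : ∀ (n : ℕ) (r' : R'), ∃ r : R,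
      algebraMap R R' r - r' ∈ Ideal.map (algebraMap R R') (Ideal.span {f ^ n}) := by
    intro n r'
    rcases Nat.eq_zero_or_pos n with hn | hn
    · subst hn
      refine ⟨0, ?_⟩
      rw [pow_zero, Ideal.span_singleton_one, Ideal.map_top]
      exact Submodule.mem_top
    · obtain ⟨x, hx⟩ := (hq n hn).2 (Ideal.Quotient.mk _ r')
      obtain ⟨r, rfl⟩ := Ideal.Quotient.mk_surjective x
      refine ⟨r, ?_⟩
      rw [Ideal.quotientMap_mk] at hx
      exact Ideal.Quotient.eq.mp hx
  have hinj : ∀ (n : ℕ) (r : R), 0 < n →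
      algebraMap R R' r ∈ Ideal.map (algebraMap R R') (Ideal.span {f ^ n}) → r ∈ Ideal.span {f ^ n} := by
    intro n r hn hr
    have h1 := (hq n hn).1
    have h0 : Ideal.quotientMap (Ideal.map (algebraMap R R') (Ideal.span {f ^ n})) (algebraMap R R')
        Ideal.le_comap_map (Ideal.Quotient.mk (Ideal.span {f ^ n}) r) = 0 := by
      rw [Ideal.quotientMap_mk]; exact Ideal.Quotient.eq_zero_iff_mem.mpr hr
    have h2 := (injective_iff_map_eq_zero _).mp h1 _ h0
    exact Ideal.Quotient.eq_zero_iff_mem.mp h2
  have hmono : ∀ m n : ℕ, m ≤ n → Ideal.map (algebraMap R R') (Ideal.span {f ^ n}) ≤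
      Ideal.map (algebraMap R R') (Ideal.span {f ^ m}) := by
    intro m n hmn
    apply Ideal.map_mono
    exact Ideal.span_singleton_le_span_singleton.mpr (pow_dvd_pow f hmn)
  have hpow : ∀ (m n : ℕ) (x : Q), m ≤ n → f ^ m • x = 0 → f ^ n • x = 0 := by
    intro m n x hmn hx
    obtain ⟨k, rfl⟩ := Nat.exists_eq_add_of_le hmn
    rw [add_comm, pow_add, mul_smul, hx, smul_zero]
  choose rr hrr using hsurj
  choose nn hnn using htors
  let ρ : R' → Q → Q := fun r' x => rr (nn x) r' • x
  have key : ∀ (r' : R') (x : Q) (n : ℕ) (r : R), f ^ n • x = 0 →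
      algebraMap R R' r - r' ∈ Ideal.map (algebraMap R R') (Ideal.span {f ^ n}) → ρ r' x = r • x := by
    intro r' x n r hx hr
    change rr (nn x) r' • x = r • x
    set n₀ := nn x with hn₀
    set r₀ := rr n₀ r' with hr₀
    set m := min n n₀ with hm
    have hxm : f ^ m • x = 0 := by
      rcases min_choice n n₀ with h' | h'
      · rw [hm, h']; exact hx
      · rw [hm, h']; exact hnn x
    have hmem : algebraMap R R' (r₀ - r) ∈ Ideal.map (algebraMap R R') (Ideal.span {f ^ m}) := by
      have e : algebraMap R R' (r₀ - r) = (algebraMap R R' r₀ - r') - (algebraMap R R' r - r') := by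
        rw [map_sub]; ring
      rw [e]
      exact Ideal.sub_mem _ (hmono m n₀ (min_le_right _ _) (hrr n₀ r')) (hmono m n (min_le_left _ _) hr)
    rcases Nat.eq_zero_or_pos m with hm0 | hm0
    · rw [hm0, pow_zero, one_smul] at hxm
      rw [hxm, smul_zero, smul_zero]
    · have h3 := hinj m (r₀ - r) hm0 hmem
      obtain ⟨a, ha⟩ := Ideal.mem_span_singleton'.mp h3
      have : (r₀ - r) • x = 0 := by
        rw [← ha, mul_smul, hxm, smul_zero]
      rw [sub_smul, sub_eq_zero] at this
      exact this
  have H1 : ∀ (a b : R') (x : Q), ρ (a + b) x = ρ a x + ρ b x := by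
    intro a b x
    have e := key (a + b) x (nn x) (rr (nn x) a + rr (nn x) b) (hnn x) (by
      have e : algebraMap R R' (rr (nn x) a + rr (nn x) b) - (a + b) =
          (algebraMap R R' (rr (nn x) a) - a) + (algebraMap R R' (rr (nn x) b) - b) := by
        rw [map_add]; ring
      rw [e]
      exact Ideal.add_mem _ (hrr _ _) (hrr _ _))
    rw [e, add_smul]
  have H2 : ∀ (c : R) (a : R') (x : Q), ρ (c • a) x = c • ρ a x := by
    intro c a x
    have e := key (c • a) x (nn x) (c * rr (nn x) a) (hnn x) (by
      have e : algebraMap R R' (c * rr (nn x) a) - c • a =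
          algebraMap R R' c * (algebraMap R R' (rr (nn x) a) - a) := by
        rw [map_mul, Algebra.smul_def]; ring
      rw [e]
      exact Ideal.mul_mem_left _ _ (hrr _ _))
    rw [e, mul_smul]
  have H3 : ∀ (a : R') (x y : Q), ρ a (x + y) = ρ a x + ρ a y := by
    intro a x y
    set N := max (nn x) (nn y) with hN
    have hx : f ^ N • x = 0 := hpow _ _ x (le_max_left _ _) (hnn x)
    have hy : f ^ N • y = 0 := hpow _ _ y (le_max_right _ _) (hnn y)
    have hxy : f ^ N • (x + y) = 0 := by rw [smul_add, hx, hy, add_zero]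
    rw [key a (x + y) N (rr N a) hxy (hrr _ _), key a x N (rr N a) hx (hrr _ _),
      key a y N (rr N a) hy (hrr _ _), smul_add]
  have H4 : ∀ (c : R) (a : R') (x : Q), ρ a (c • x) = c • ρ a x := by
    intro c a x
    have hcx : f ^ (nn x) • (c • x) = 0 := by rw [smul_comm, hnn x, smul_zero]
    rw [key a (c • x) (nn x) (rr (nn x) a) hcx (hrr _ _), smul_comm]
  let ρl : R' ⊗[R] Q →ₗ[R] Q := TensorProduct.lift (LinearMap.mk₂ R ρ H1 H2 H3 H4)
  have hρ1 : ρl ((1 : R') ⊗ₜ[R] q) = q := by
    simp only [ρl, TensorProduct.lift.tmul, LinearMap.mk₂_apply]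
    rw [key 1 q (nn q) 1 (hnn q) (by rw [map_one, sub_self]; exact Ideal.zero_mem _), one_smul]
  rw [← hρ1, h, map_zero]


/-- Glueing along a glueing pair detects closed immersions of affine schemes, stated for coordinate
rings. Let `(R → R', f)` be a glueing pair and `φ : A → B` a homomorphism of `R`-algebras with `A`,
`B` glueable as `R`-modules (so `Spec A`, `Spec B` are affine and glueable over `Spec R`). Then `φ`
is surjective (a closed immersion on spectra) if and only if `A_f → B_f` and `R' ⊗_R A → R' ⊗_R B`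
are surjective. -/
theorem result (R : Type u) [CommRing R] (R' : Type u) [CommRing R'] [Algebra R R'] (f : R)
    (hRR' : EtGlue.IsGlueingPair R R' f) (A B : Type u) [CommRing A] [Algebra R A] [CommRing B] [Algebra R B]
    (hA : EtGlue.IsGlueable R R' f A) (hB : EtGlue.IsGlueable R R' f B) (φ : A →ₐ[R] B) :
    Function.Surjective φ ↔
      Function.Surjective (Localization.awayMap φ.toRingHom (algebraMap R A f)) ∧ Function.Surjective (Algebra.TensorProduct.map (AlgHom.id R R') φ).toRingHom := by
  constructor
  · intro hφ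
    refine ⟨?_, ?_⟩
    · rw [Localization.awayMap_surjective_iff]
      intro b
      obtain ⟨a, rfl⟩ := hφ b
      exact ⟨a, 0, by simp⟩
    · change Function.Surjective (Algebra.TensorProduct.map (AlgHom.id R R') φ)
      intro t
      induction t using TensorProduct.induction_on with
      | zero => exact ⟨0, map_zero _⟩
      | tmul r' b =>
        obtain ⟨a, rfl⟩ := hφ b
        exact ⟨r' ⊗ₜ[R] a, by simp⟩
      | add x y hx hy =>
        obtain ⟨x', rfl⟩ := hx
        obtain ⟨y', rfl⟩ := hy
        exact ⟨x' + y', map_add _ _ _⟩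
  · rintro ⟨h1, h2⟩
    rw [Localization.awayMap_surjective_iff] at h1
    have h2' : Function.Surjective (Algebra.TensorProduct.map (AlgHom.id R R') φ) := h2
    set N : Submodule R B := LinearMap.range φ.toLinearMap with hN
    have htors : ∀ x : B ⧸ N, ∃ n : ℕ, f ^ n • x = 0 := by
      intro x
      obtain ⟨b, rfl⟩ := Submodule.Quotient.mk_surjective N x
      obtain ⟨a, m, ham⟩ := h1 b
      refine ⟨m, ?_⟩
      rw [← Submodule.Quotient.mk_smul, Submodule.Quotient.mk_eq_zero]
      refine ⟨a, ?_⟩
      change φ a = f ^ m • b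
      have e : φ.toRingHom (algebraMap R A f) = algebraMap R B f := φ.commutes f
      rw [e] at ham
      change φ a = algebraMap R B f ^ m * b at ham
      rw [ham, Algebra.smul_def, map_pow]
    intro b
    have hzero : ((1 : R') ⊗ₜ[R] (Submodule.Quotient.mk b : B ⧸ N)) = 0 := by
      obtain ⟨t, ht⟩ := h2' ((1 : R') ⊗ₜ[R] b)
      have hcomp : ∀ t : R' ⊗[R] A,
          LinearMap.lTensor R' N.mkQ (Algebra.TensorProduct.map (AlgHom.id R R') φ t) = 0 := by
        intro t
        induction t using TensorProduct.induction_on with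
        | zero => simp
        | tmul r' a =>
          rw [Algebra.TensorProduct.map_tmul, LinearMap.lTensor_tmul]
          have : N.mkQ (φ a) = 0 := by
            rw [Submodule.mkQ_apply, Submodule.Quotient.mk_eq_zero]
            exact ⟨a, rfl⟩
          rw [this, TensorProduct.tmul_zero]
        | add x y hx hy => rw [map_add, map_add, hx, hy, add_zero]
      have := hcomp t
      rw [ht, LinearMap.lTensor_tmul] at this
      exact this
    have hb := eq_zero_of_one_tmul_eq_zero hRR'.1 htors _ hzero
    rw [Submodule.Quotient.mk_eq_zero] at hb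
    obtain ⟨a, ha⟩ := hb
    exact ⟨a, ha⟩

end Groth.Agent.S10721
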