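import Groth.Statements.S10722
import Groth.Agent.S10721
import Mathlib.RingTheory.RingHom.FiniteType
-- import your own Groth.Agent.* helpers here

set_option autoImplicit false
universe u
open TensorProduct
open EtAlg

namespace Groth.Agent.S10722

theorem tensor_map_finiteType {R : Type u} [CommRing R] {R' : Type u} [CommRing R'] [Algebra R R']
    {A B : Type u} [CommRing A] [Algebra R A] [CommRing B] [Algebra R B] (φ : A →ₐ[R] B)
    (h : φ.toRingHom.FiniteType) :
    (Algebra.TensorProduct.map (AlgHom.id R R') φ).toRingHom.FiniteType := by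
  classical
  letI : Algebra A B := φ.toRingHom.toAlgebra
  have hft : Algebra.FiniteType A B := h
  obtain ⟨s, hs⟩ := hft.out
  set G := (Algebra.TensorProduct.map (AlgHom.id R R') φ).toRingHom with hG
  letI : Algebra (R' ⊗[R] A) (R' ⊗[R] B) := G.toAlgebra
  change Algebra.FiniteType (R' ⊗[R] A) (R' ⊗[R] B)
  refine ⟨⟨s.image (fun b => (1 : R') ⊗ₜ[R] b), ?_⟩⟩
  rw [eq_top_iff]
  have hone : ∀ b : B, ((1 : R') ⊗ₜ[R] b) ∈
      Algebra.adjoin (R' ⊗[R] A) ((s.image (fun b => (1 : R') ⊗ₜ[R] b) : Finset (R' ⊗[R] B)) : Set (R' ⊗[R] B)) := by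
    intro b
    have hb : b ∈ Algebra.adjoin A (s : Set B) := by rw [hs]; trivial
    induction hb using Algebra.adjoin_induction with
    | mem x hx =>
      apply Algebra.subset_adjoin
      rw [Finset.coe_image]
      exact Set.mem_image_of_mem _ hx
    | algebraMap a =>
      have : ((1 : R') ⊗ₜ[R] (algebraMap A B a)) = algebraMap (R' ⊗[R] A) (R' ⊗[R] B) ((1 : R') ⊗ₜ[R] a) := by
        change _ = G _
        simp [hG]
        rfl
      rw [this]
      exact Subalgebra.algebraMap_mem _ _
    | add x y _ _ hx hy =>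
      rw [TensorProduct.tmul_add]; exact add_mem hx hy
    | mul x y _ _ hx hy =>
      have : ((1 : R') ⊗ₜ[R] (x * y)) = ((1 : R') ⊗ₜ[R] x) * ((1 : R') ⊗ₜ[R] y) := by
        rw [Algebra.TensorProduct.tmul_mul_tmul, one_mul]
      rw [this]; exact mul_mem hx hy
  rintro t -
  induction t using TensorProduct.induction_on with
  | zero => exact zero_mem _
  | add x y hx hy => exact add_mem hx hy
  | tmul r' b =>
    have : (r' ⊗ₜ[R] b) = algebraMap (R' ⊗[R] A) (R' ⊗[R] B) (r' ⊗ₜ[R] (1 : A)) * ((1 : R') ⊗ₜ[R] b) := by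
      change _ = G _ * _
      simp [hG]
    rw [this]
    exact mul_mem (Subalgebra.algebraMap_mem _ _) (hone b)



theorem exists_finset_mem_range {R : Type u} [CommRing R] {R' : Type u} [CommRing R'] [Algebra R R']
    {B : Type u} [CommRing B] [Algebra R B] (y : R' ⊗[R] B) :
    ∃ T : Finset B, ∀ B₁ : Subalgebra R B, (T : Set B) ⊆ B₁ →
      y ∈ (Algebra.TensorProduct.map (AlgHom.id R R') B₁.val).range := by
  classical
  induction y using TensorProduct.induction_on with
  | zero => exact ⟨∅, fun B₁ _ => zero_mem _⟩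
  | tmul r' b =>
    refine ⟨{b}, fun B₁ hB₁ => ?_⟩
    have hb : b ∈ B₁ := hB₁ (by simp)
    exact ⟨r' ⊗ₜ[R] ⟨b, hb⟩, by simp⟩
  | add x y hx hy =>
    obtain ⟨Tx, hTx⟩ := hx
    obtain ⟨Ty, hTy⟩ := hy
    refine ⟨Tx ∪ Ty, fun B₁ hB₁ => ?_⟩
    rw [Finset.coe_union] at hB₁
    exact add_mem (hTx B₁ (Set.subset_union_left.trans hB₁)) (hTy B₁ (Set.subset_union_right.trans hB₁))

theorem finiteType_of_glueing {R : Type u} [CommRing R] {R' : Type u} [CommRing R'] [Algebra R R'] {f : R}
    (hq : EtGlue.QuotPowBijective R R' f)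
    {A B : Type u} [CommRing A] [Algebra R A] [CommRing B] [Algebra R B] (φ : A →ₐ[R] B)
    (h1 : (Localization.awayMap φ.toRingHom (algebraMap R A f)).FiniteType)
    (h2 : (Algebra.TensorProduct.map (AlgHom.id R R') φ).toRingHom.FiniteType) :
    φ.toRingHom.FiniteType := by
  classical
  letI : Algebra A B := φ.toRingHom.toAlgebra
  haveI : IsScalarTower R A B := IsScalarTower.of_algebraMap_eq (fun r => (φ.commutes r).symm)
  set fA := algebraMap R A f with hfA
  set fB := φ.toRingHom fA with hfB
  have hfB' : fB = algebraMap R B f := φ.commutes f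
  have hfB'' : fB = algebraMap A B fA := rfl
  set g := Localization.awayMap φ.toRingHom fA with hg
  letI : Algebra (Localization.Away fA) (Localization.Away fB) := g.toAlgebra
  haveI : IsScalarTower A B (Localization.Away fB) := inferInstance
  haveI : IsScalarTower A (Localization.Away fA) (Localization.Away fB) :=
    IsScalarTower.of_algebraMap_eq (fun a => by
      rw [IsScalarTower.algebraMap_apply A B (Localization.Away fB)]
      change algebraMap B (Localization.Away fB) (φ.toRingHom a) = g (algebraMap A (Localization.Away fA) a)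
      rw [hg]
      exact (IsLocalization.map_eq _ _).symm)
  have hft1 : Algebra.FiniteType (Localization.Away fA) (Localization.Away fB) := h1
  obtain ⟨s, hs⟩ := hft1.out
  set G := (Algebra.TensorProduct.map (AlgHom.id R R') φ).toRingHom with hG
  letI : Algebra (R' ⊗[R] A) (R' ⊗[R] B) := G.toAlgebra
  have hft2 : Algebra.FiniteType (R' ⊗[R] A) (R' ⊗[R] B) := h2
  obtain ⟨s2, hs2⟩ := hft2.out
  choose Tof hTof using (exists_finset_mem_range (R := R) (R' := R') (B := B))
  set T : Finset B := IsLocalization.finsetIntegerMultiple (Submonoid.powers fB) s ∪ s2.biUnion Tof with hT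
  set B₀ : Subalgebra A B := Algebra.adjoin A (T : Set B) with hB₀
  have hTB₀ : (T : Set B) ⊆ B₀ := Algebra.subset_adjoin
  -- torsion claim
  have htorsB : ∀ b : B, ∃ n : ℕ, fB ^ n * b ∈ B₀ := by
    intro b
    have hx : algebraMap B (Localization.Away fB) b ∈
        Algebra.adjoin (Localization.Away fA) (s : Set (Localization.Away fB)) := by
      rw [hs]; trivial
    obtain ⟨⟨t, k, rfl⟩, ht⟩ := multiple_mem_adjoin_of_mem_localization_adjoin (Submonoid.powers fA)
      (Localization.Away fA) (s : Set (Localization.Away fB)) _ hx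
    have ht' : algebraMap B (Localization.Away fB) (fB ^ k * b) ∈
        Algebra.adjoin A (s : Set (Localization.Away fB)) := by
      convert ht using 1
      rw [Submonoid.smul_def, Algebra.smul_def, IsScalarTower.algebraMap_apply A B (Localization.Away fB),
        map_mul, map_pow (algebraMap A B), hfB'']
    have hA₁ : (IsLocalization.finsetIntegerMultiple (Submonoid.powers fB) s : Set B) ⊆ B₀ := by
      intro x hx
      apply hTB₀
      rw [hT, Finset.coe_union]
      exact Or.inl hx
    have hA₂ : Submonoid.powers fB ≤ B₀.toSubmonoid := by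
      rw [Submonoid.powers_le]
      change fB ∈ B₀
      rw [hfB'']
      exact Subalgebra.algebraMap_mem _ _
    obtain ⟨⟨m, j, rfl⟩, hm⟩ := IsLocalization.exists_smul_mem_of_mem_adjoin (Submonoid.powers fB)
      (fB ^ k * b) s B₀ hA₁ hA₂ ht'
    refine ⟨j + k, ?_⟩
    rw [pow_add, mul_assoc]
    exact hm
  set N : Submodule R B := (Subalgebra.toSubmodule B₀).restrictScalars R with hN
  have hmemN : ∀ b : B, b ∈ N ↔ b ∈ B₀ := fun b => Iff.rfl
  have htors : ∀ x : B ⧸ N, ∃ n : ℕ, f ^ n • x = 0 := by
    intro x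
    obtain ⟨b, rfl⟩ := Submodule.Quotient.mk_surjective N x
    obtain ⟨n, hn⟩ := htorsB b
    refine ⟨n, ?_⟩
    rw [← Submodule.Quotient.mk_smul, Submodule.Quotient.mk_eq_zero, hmemN, Algebra.smul_def, map_pow,
      ← hfB']
    exact hn
  set B₁ : Subalgebra R B := B₀.restrictScalars R with hB₁
  have hTB₁ : (T : Set B) ⊆ B₁ := hTB₀
  set ι := Algebra.TensorProduct.map (AlgHom.id R R') B₁.val with hι
  have hall : ∀ t : R' ⊗[R] B, t ∈ ι.range := by
    intro t
    have ht : t ∈ Algebra.adjoin (R' ⊗[R] A) (s2 : Set (R' ⊗[R] B)) := by rw [hs2]; trivial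
    induction ht using Algebra.adjoin_induction with
    | mem y hy =>
      apply hTof y B₁
      intro b hb
      apply hTB₁
      rw [hT, Finset.coe_union]
      right
      rw [Finset.coe_biUnion]
      exact Set.mem_biUnion hy hb
    | algebraMap x =>
      change G x ∈ ι.range
      induction x using TensorProduct.induction_on with
      | zero => rw [map_zero]; exact zero_mem _
      | tmul r' a =>
        refine ⟨r' ⊗ₜ[R] ⟨φ a, ?_⟩, ?_⟩
        · change algebraMap A B a ∈ B₀; exact Subalgebra.algebraMap_mem _ _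
        · simp [hι, hG]
      | add x y hx hy => rw [map_add]; exact add_mem hx hy
    | add x y _ _ hx hy => exact add_mem hx hy
    | mul x y _ _ hx hy => exact mul_mem hx hy
  have hzero : ∀ b : B, ((1 : R') ⊗ₜ[R] (Submodule.Quotient.mk b : B ⧸ N)) = 0 := by
    intro b
    obtain ⟨u, hu⟩ := hall ((1 : R') ⊗ₜ[R] b)
    have hcomp : ∀ u : R' ⊗[R] B₁, LinearMap.lTensor R' N.mkQ (ι u) = 0 := by
      intro u
      induction u using TensorProduct.induction_on with
      | zero => simp
      | tmul r' n =>
        have e1 : ι (r' ⊗ₜ[R] n) = r' ⊗ₜ[R] (n : B) := by simp [hι]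
        rw [e1, LinearMap.lTensor_tmul]
        have e2 : N.mkQ (n : B) = 0 := by
          rw [Submodule.mkQ_apply, Submodule.Quotient.mk_eq_zero]; exact n.2
        rw [e2, TensorProduct.tmul_zero]
      | add x y hx hy => rw [map_add, map_add, hx, hy, add_zero]
    have h3 := hcomp u
    have hu' : ι u = (1 : R') ⊗ₜ[R] b := hu
    rw [hu', LinearMap.lTensor_tmul] at h3
    exact h3
  change Algebra.FiniteType A B
  refine ⟨⟨T, ?_⟩⟩
  rw [eq_top_iff]
  rintro b -
  have hb := Groth.Agent.S10721.eq_zero_of_one_tmul_eq_zero hq htors _ (hzero b)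
  rw [Submodule.Quotient.mk_eq_zero] at hb
  exact hb

/-- Glueing along a glueing pair detects finite type morphisms of affine schemes, stated for coordinate
rings. Let `(R → R', f)` be a glueing pair and `φ : A → B` a homomorphism of `R`-algebras with `A`,
`B` glueable as `R`-modules (so `Spec A`, `Spec B` are affine and glueable over `Spec R`). Then `φ`
is of finite type if and only if `A_f → B_f` and `R' ⊗_R A → R' ⊗_R B` are. -/
theorem result (R : Type u) [CommRing R] (R' : Type u) [CommRing R'] [Algebra R R'] (f : R)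
    (hRR' : EtGlue.IsGlueingPair R R' f) (A B : Type u) [CommRing A] [Algebra R A] [CommRing B] [Algebra R B]
    (hA : EtGlue.IsGlueable R R' f A) (hB : EtGlue.IsGlueable R R' f B) (φ : A →ₐ[R] B) :
    φ.toRingHom.FiniteType ↔ (Localization.awayMap φ.toRingHom (algebraMap R A f)).FiniteType ∧ (Algebra.TensorProduct.map (AlgHom.id R R') φ).toRingHom.FiniteType := by
  constructor
  · intro h
    exact ⟨RingHom.localization_away_map_finiteType A B _ _ φ.toRingHom (algebraMap R A f) h,
      tensor_map_finiteType φ h⟩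
  · rintro ⟨h1, h2⟩
    exact finiteType_of_glueing hRR'.1 φ h1 h2

end Groth.Agent.S10722
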