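import Groth.Statements.S14950
import Mathlib.LinearAlgebra.TensorProduct.Quotient
import Mathlib.RingTheory.Ideal.Quotient.Operations
-- import your own Groth.Agent.* helpers here

set_option autoImplicit false
universe u
open TensorProduct
open EtAlg

namespace Groth.Agent.S14950

theorem exists_lift_of_ker {B' B A' A : Type u} [CommRing B'] [CommRing B] [CommRing A'] [CommRing A]
    [Algebra B' B] [Algebra B' A'] [Algebra B A] [Algebra A' A] [Algebra B' A] [IsScalarTower B' B A] [IsScalarTower B' A' A]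
    (hsq : EtMil.IsFibreSquare B' B A' A) (j : B') (hj : algebraMap B' B j = 0) (a' : A') :
    ∃! b' : B', algebraMap B' B b' = 0 ∧ algebraMap B' A' b' = algebraMap B' A' j * a' := by
  apply hsq.2
  rw [map_zero, map_mul, ← IsScalarTower.algebraMap_apply B' A' A, IsScalarTower.algebraMap_apply B' B A,
    hj, map_zero, zero_mul]

theorem surj_of_fibre {B' B A' A : Type u} [CommRing B'] [CommRing B] [CommRing A'] [CommRing A]
    [Algebra B' B] [Algebra B' A'] [Algebra B A] [Algebra A' A] [Algebra B' A] [IsScalarTower B' B A] [IsScalarTower B' A' A]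
    (hsq : EtMil.IsFibreSquare B' B A' A) : Function.Surjective (algebraMap B' B) := by
  intro b
  obtain ⟨a', ha'⟩ := hsq.1 (algebraMap B A b)
  obtain ⟨b', ⟨hb', _⟩, _⟩ := hsq.2 b a' ha'.symm
  exact ⟨b', hb'⟩

theorem smul_eq_zero_of_ker {B' B A' A : Type u} [CommRing B'] [CommRing B] [CommRing A'] [CommRing A]
    [Algebra B' B] [Algebra B' A'] [Algebra B A] [Algebra A' A] [Algebra B' A] [IsScalarTower B' B A] [IsScalarTower B' A' A]
    (hsq : EtMil.IsFibreSquare B' B A' A)
    (L' : Type u) [AddCommGroup L'] [Module B' L'] (l : L')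
    (h2 : ((1 : A') ⊗ₜ[B'] l : A' ⊗[B'] L') = 0) (j : B') (hj : algebraMap B' B j = 0) : j • l = 0 := by
  classical
  have hex := exists_lift_of_ker hsq j hj
  choose ψ hψ huniq using hex
  have hψadd : ∀ a b, ψ (a + b) = ψ a + ψ b := by
    intro a b
    symm
    apply huniq
    refine ⟨?_, ?_⟩
    · rw [map_add, (hψ a).1, (hψ b).1, add_zero]
    · rw [map_add, (hψ a).2, (hψ b).2, mul_add]
  have hψsmul : ∀ (c : B') a, ψ (c • a) = c • ψ a := by
    intro c a
    symm
    apply huniq
    refine ⟨?_, ?_⟩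
    · rw [smul_eq_mul, map_mul, (hψ a).1, mul_zero]
    · rw [smul_eq_mul, map_mul, (hψ a).2, Algebra.smul_def]; ring
  have hψone : ψ 1 = j := by
    symm
    apply huniq
    exact ⟨hj, by rw [mul_one]⟩
  let ψl : A' →ₗ[B'] B' := { toFun := ψ, map_add' := hψadd, map_smul' := hψsmul }
  let f : A' ⊗[B'] L' →ₗ[B'] L' := TensorProduct.lift ((LinearMap.lsmul B' L').comp ψl)
  have hf : f ((1 : A') ⊗ₜ[B'] l) = j • l := by
    simp only [f, TensorProduct.lift.tmul, LinearMap.comp_apply, LinearMap.lsmul_apply]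
    change ψ 1 • l = j • l
    rw [hψone]
  rw [← hf, h2, map_zero]

theorem mem_smul_top_of_ker {B' B : Type u} [CommRing B'] [CommRing B]
    [Algebra B' B] (hsurj : Function.Surjective (algebraMap B' B))
    (L' : Type u) [AddCommGroup L'] [Module B' L'] (l : L')
    (h1 : ((1 : B) ⊗ₜ[B'] l : B ⊗[B'] L') = 0) :
    l ∈ (RingHom.ker (algebraMap B' B)) • (⊤ : Submodule B' L') := by
  have hsurj' : Function.Surjective (Algebra.ofId B' B) := hsurj
  let e : (B' ⧸ RingHom.ker (Algebra.ofId B' B)) ≃ₐ[B'] B :=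
    Ideal.quotientKerAlgEquivOfSurjective hsurj'
  have hker : RingHom.ker (Algebra.ofId B' B) = RingHom.ker (algebraMap B' B) := rfl
  let E : (B' ⧸ RingHom.ker (Algebra.ofId B' B)) ⊗[B'] L' ≃ₗ[B'] B ⊗[B'] L' :=
    TensorProduct.congr e.toLinearEquiv (LinearEquiv.refl B' L')
  have h3 : ((1 : B' ⧸ RingHom.ker (Algebra.ofId B' B)) ⊗ₜ[B'] l) = 0 := by
    apply E.injective
    rw [map_zero]
    simp only [E, TensorProduct.congr_tmul, LinearEquiv.refl_apply, AlgEquiv.toLinearEquiv_apply, map_one]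
    exact h1
  have h4 := TensorProduct.quotTensorEquivQuotSMul_mk_one_tmul (M := L') (RingHom.ker (Algebra.ofId B' B)) l
  rw [h3, map_zero] at h4
  have h5 := (Submodule.Quotient.mk_eq_zero _).mp h4.symm
  rw [hker] at h5
  exact h5


/-- Let B' = B ×_A A' be a fibre product of commutative rings with A' → A surjective, let J be the
kernel of B' → B and L' a B'-module. The canonical map from L' to pairs in (B ⊗_{B'} L') × (A'
⊗_{B'} L') has kernel annihilated by J and contained in J L': if l ∈ L' satisfies 1 ⊗ l = 0 in B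
⊗_{B'} L' and 1 ⊗ l = 0 in A' ⊗_{B'} L', then j • l = 0 for every j ∈ J, and l ∈ J L'. (Surjectivity
of that map onto the compatible pairs is a separate result.) -/
theorem result (B' B A' A : Type u) [CommRing B'] [CommRing B] [CommRing A'] [CommRing A]
    [Algebra B' B] [Algebra B' A'] [Algebra B A] [Algebra A' A] [Algebra B' A] [IsScalarTower B' B A] [IsScalarTower B' A' A]
    (hsq : EtMil.IsFibreSquare B' B A' A)
    (L' : Type u) [AddCommGroup L'] [Module B' L'] (l : L')
    (h1 : ((1 : B) ⊗ₜ[B'] l : B ⊗[B'] L') = 0) (h2 : ((1 : A') ⊗ₜ[B'] l : A' ⊗[B'] L') = 0) :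
    (∀ j : B', algebraMap B' B j = 0 → j • l = 0) ∧
      l ∈ (RingHom.ker (algebraMap B' B)) • (⊤ : Submodule B' L') := by
  refine ⟨fun j hj => smul_eq_zero_of_ker hsq L' l h2 j hj, ?_⟩
  exact mem_smul_top_of_ker (surj_of_fibre hsq) L' l h1

end Groth.Agent.S14950
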