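import Groth.Statements.S2006
-- import your own Groth.Agent.* helpers here
import Mathlib
import Groth.Agent.Lib.Helper23.BLTorsion

set_option autoImplicit false
universe u
open TensorProduct
open EtAlg

namespace Groth.Agent.S2006

theorem exists_finset_tensor (R R' : Type u) [CommRing R] [CommRing R'] [Algebra R R']
    (M : Type u) [AddCommGroup M] [Module R M] (x : R' ⊗[R] M) :
    ∃ s : Finset M, x ∈ Submodule.span R' ((fun m => (1 : R') ⊗ₜ[R] m) '' (s : Set M)) := by
  classical
  induction x using TensorProduct.induction_on with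
  | zero => exact ⟨∅, zero_mem _⟩
  | tmul a m =>
    refine ⟨{m}, ?_⟩
    have : a ⊗ₜ[R] m = a • ((1 : R') ⊗ₜ[R] m) := by
      rw [TensorProduct.smul_tmul', smul_eq_mul, mul_one]
    rw [this]
    exact Submodule.smul_mem _ _ (Submodule.subset_span ⟨m, by simp, rfl⟩)
  | add a b ha hb =>
    obtain ⟨s, hs⟩ := ha
    obtain ⟨t, ht⟩ := hb
    refine ⟨s ∪ t, add_mem ?_ ?_⟩
    · exact Submodule.span_mono (Set.image_mono (by simp)) hs
    · exact Submodule.span_mono (Set.image_mono (by simp)) ht

theorem exists_finset_span_tensor (R R' : Type u) [CommRing R] [CommRing R'] [Algebra R R']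
    (M : Type u) [AddCommGroup M] [Module R M] (h : Module.Finite R' (R' ⊗[R] M)) :
    ∃ s : Finset M, Submodule.span R' ((fun m => (1 : R') ⊗ₜ[R] m) '' (s : Set M)) = ⊤ := by
  classical
  obtain ⟨T, hT⟩ := h
  choose g hg using exists_finset_tensor R R' M
  refine ⟨T.biUnion g, ?_⟩
  rw [eq_top_iff, ← hT, Submodule.span_le]
  intro x hx
  exact Submodule.span_mono (Set.image_mono (by
    intro m hm
    simp only [Finset.coe_biUnion, Set.mem_iUnion]
    exact ⟨x, hx, hm⟩)) (hg x)

theorem exists_finset_loc (R : Type u) [CommRing R] (f : R)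
    (M : Type u) [AddCommGroup M] [Module R M]
    (h : Module.Finite (Localization.Away f) (LocalizedModule (Submonoid.powers f) M)) :
    ∃ s : Finset M, ∀ m : M, ∃ k : ℕ, f ^ k • m ∈ Submodule.span R (s : Set M) := by
  classical
  obtain ⟨T, hT⟩ := h
  let ι := LocalizedModule.mkLinearMap (Submonoid.powers f) M
  have hsurj := IsLocalizedModule.mk'_surjective (Submonoid.powers f) ι
  choose g hg using hsurj
  refine ⟨T.image (fun y => (g y).1), ?_⟩
  set N₂ : Submodule R M := Submodule.span R ((T.image (fun y => (g y).1) : Finset M) : Set M) with hN₂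
  have hle : (⊤ : Submodule (Localization.Away f) (LocalizedModule (Submonoid.powers f) M)) ≤
      N₂.localized' (Localization.Away f) (Submonoid.powers f) ι := by
    rw [← hT, Submodule.span_le]
    intro y hy
    refine ⟨(g y).1, Submodule.subset_span ?_, (g y).2, ?_⟩
    · simp only [Finset.coe_image, Set.mem_image, Finset.mem_coe]
      exact ⟨y, hy, rfl⟩
    · exact hg y
  intro m
  obtain ⟨n, hn, s, hs⟩ := hle (Submodule.mem_top (x := ι m))
  rw [IsLocalizedModule.mk'_eq_iff, Submonoid.smul_def, ← map_smul,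
    IsLocalizedModule.eq_iff_exists (Submonoid.powers f)] at hs
  obtain ⟨c, hc⟩ := hs
  obtain ⟨k, hk⟩ := (c * s).2
  have hk' : f ^ k = ((c * s : Submonoid.powers f) : R) := hk
  refine ⟨k, ?_⟩
  have : f ^ k • m = c • n := by
    rw [hc, hk', Submonoid.coe_mul, mul_smul, Submonoid.smul_def]
  rw [this]
  exact Submodule.smul_mem _ _ hn


/-- Let R -> R' induce bijections R/f^n R -> R'/f^n R' for all n > 0 and let M be an R-module. Then M is
finitely generated if and only if R' ⊗_R M is finitely generated over R' and M_f is finitely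
generated over R_f. -/
theorem result (R R' : Type u) [CommRing R] [CommRing R'] [Algebra R R'] (f : R)
    (hq : EtGlue.QuotPowBijective R R' f) (M : Type u) [AddCommGroup M] [Module R M] :
    Module.Finite R M ↔ Module.Finite R' (R' ⊗[R] M) ∧
      Module.Finite (Localization.Away f) (LocalizedModule (Submonoid.powers f) M) := by
  constructor
  · intro h
    exact ⟨inferInstance, inferInstance⟩
  · rintro ⟨h1, h2⟩
    classical
    obtain ⟨s₁, hs₁⟩ := exists_finset_span_tensor R R' M h1
    obtain ⟨s₂, hs₂⟩ := exists_finset_loc R f M h2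
    set N : Submodule R M := Submodule.span R ((s₁ ∪ s₂ : Finset M) : Set M) with hN
    have hQ : ∀ q : M ⧸ N, ∃ n : ℕ, f ^ n • q = 0 := by
      intro q
      obtain ⟨m, rfl⟩ := N.mkQ_surjective q
      obtain ⟨k, hk⟩ := hs₂ m
      refine ⟨k, ?_⟩
      rw [← map_smul, Submodule.mkQ_apply, Submodule.Quotient.mk_eq_zero]
      exact Submodule.span_mono (by simp) hk
    have hker : (⊤ : Submodule R' (R' ⊗[R] M)) ≤ LinearMap.ker (N.mkQ.baseChange R') := by
      rw [← hs₁, Submodule.span_le]
      rintro _ ⟨m, hm, rfl⟩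
      simp only [SetLike.mem_coe, LinearMap.mem_ker, LinearMap.baseChange_tmul, Submodule.mkQ_apply]
      rw [(Submodule.Quotient.mk_eq_zero N).mpr (Submodule.subset_span (by simp [hm])),
        TensorProduct.tmul_zero]
    have hsub : Subsingleton (R' ⊗[R] (M ⧸ N)) := by
      refine ⟨fun a b => ?_⟩
      have hsurj : Function.Surjective (N.mkQ.baseChange R') :=
        LinearMap.lTensor_surjective R' N.mkQ_surjective
      obtain ⟨a', rfl⟩ := hsurj a
      obtain ⟨b', rfl⟩ := hsurj b
      rw [LinearMap.mem_ker.mp (hker (Submodule.mem_top (x := a'))),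
        LinearMap.mem_ker.mp (hker (Submodule.mem_top (x := b')))]
    have hQs : Subsingleton (M ⧸ N) := Helper23.BL.subsingleton_of_tensor hq hQ hsub
    rw [Submodule.Quotient.subsingleton_iff] at hQs
    exact ⟨⟨s₁ ∪ s₂, hQs⟩⟩

end Groth.Agent.S2006
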