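import Groth.Statements.S14953
-- import your own Groth.Agent.* helpers here
import Mathlib
import Groth.Agent.S2006
import Groth.Agent.S14949

set_option autoImplicit false
universe u
open TensorProduct
open EtAlg

namespace Groth.Agent.S14953

theorem subsingleton_tensor_quotient (R R' : Type u) [CommRing R] [CommRing R'] [Algebra R R']
    (M : Type u) [AddCommGroup M] [Module R M] (s : Finset M)
    (hs : Submodule.span R' ((fun m => (1 : R') ⊗ₜ[R] m) '' (s : Set M)) = ⊤)
    (N : Submodule R M) (hN : (s : Set M) ⊆ N) : Subsingleton (R' ⊗[R] (M ⧸ N)) := by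
  have hker : (⊤ : Submodule R' (R' ⊗[R] M)) ≤ LinearMap.ker (N.mkQ.baseChange R') := by
    rw [← hs, Submodule.span_le]
    rintro _ ⟨m, hm, rfl⟩
    simp only [SetLike.mem_coe, LinearMap.mem_ker, LinearMap.baseChange_tmul, Submodule.mkQ_apply]
    rw [(Submodule.Quotient.mk_eq_zero N).mpr (hN hm), TensorProduct.tmul_zero]
  refine ⟨fun a b => ?_⟩
  have hsurj : Function.Surjective (N.mkQ.baseChange R') :=
    LinearMap.lTensor_surjective R' N.mkQ_surjective
  obtain ⟨a', rfl⟩ := hsurj a
  obtain ⟨b', rfl⟩ := hsurj b
  rw [LinearMap.mem_ker.mp (hker (Submodule.mem_top (x := a'))),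
    LinearMap.mem_ker.mp (hker (Submodule.mem_top (x := b')))]


/-- Let B' = B ×_A A' be a fibre product of commutative rings with A' → A surjective and L' a B'-module.
If B ⊗_{B'} L' is a finitely generated B-module and A' ⊗_{B'} L' is a finitely generated A'-module,
then L' is a finitely generated B'-module. (The published statement is about flat modules of finite
type; the finiteness conclusion does not use flatness, which descends separately.) -/
theorem result (B' B A' A : Type u) [CommRing B'] [CommRing B] [CommRing A'] [CommRing A]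
    [Algebra B' B] [Algebra B' A'] [Algebra B A] [Algebra A' A] [Algebra B' A] [IsScalarTower B' B A] [IsScalarTower B' A' A]
    (hsq : EtMil.IsFibreSquare B' B A' A)
    (L' : Type u) [AddCommGroup L'] [Module B' L']
    [Module.Finite B (B ⊗[B'] L')] [Module.Finite A' (A' ⊗[B'] L')] : Module.Finite B' L' := by
  classical
  obtain ⟨s₁, hs₁⟩ := Groth.Agent.S2006.exists_finset_span_tensor B' B L' inferInstance
  obtain ⟨s₂, hs₂⟩ := Groth.Agent.S2006.exists_finset_span_tensor B' A' L' inferInstance
  set N : Submodule B' L' := Submodule.span B' ((s₁ ∪ s₂ : Finset L') : Set L') with hN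
  haveI h1 : Subsingleton (B ⊗[B'] (L' ⧸ N)) :=
    subsingleton_tensor_quotient B' B L' s₁ hs₁ N (fun x hx => Submodule.subset_span (by
      simp only [Finset.coe_union, Set.mem_union]
      exact Or.inl hx))
  haveI h2 : Subsingleton (A' ⊗[B'] (L' ⧸ N)) :=
    subsingleton_tensor_quotient B' A' L' s₂ hs₂ N (fun x hx => Submodule.subset_span (by
      simp only [Finset.coe_union, Set.mem_union]
      exact Or.inr hx))
  have hQ : Subsingleton (L' ⧸ N) := Groth.Agent.S14949.result B' B A' A hsq (L' ⧸ N)
  rw [Submodule.Quotient.subsingleton_iff] at hQ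
  exact ⟨⟨s₁ ∪ s₂, hQ⟩⟩

end Groth.Agent.S14953
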