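import Groth.Statements.S2003
-- import your own Groth.Agent.* helpers here
import Groth.Agent.S2002
import Groth.Agent.S2006
import Mathlib.Algebra.Module.FinitePresentation
import Mathlib.RingTheory.Flat.EquationalCriterion
import Mathlib.RingTheory.Finiteness.Cardinality

set_option autoImplicit false
universe u
open TensorProduct
open EtAlg

namespace Groth.Agent.S2003

theorem finite_baseChange_ker {R : Type u} [CommRing R] (S : Type u) [CommRing S] [Algebra R S]
    {K F M : Type u} [AddCommGroup K] [AddCommGroup F] [AddCommGroup M]
    [Module R K] [Module R F] [Module R M] (j : K →ₗ[R] F) (q : F →ₗ[R] M)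
    (hjq : Function.Exact j q) (hq : Function.Surjective q)
    (hSj : Function.Injective (j.lTensor S)) [Module.Finite R F]
    [Module.FinitePresentation S (S ⊗[R] M)] : Module.Finite S (S ⊗[R] K) := by
  have hex : Function.Exact (j.baseChange S) (q.baseChange S) := lTensor_exact S hjq hq
  have hsurj : Function.Surjective (q.baseChange S) := LinearMap.lTensor_surjective S hq
  have hinj : Function.Injective (j.baseChange S) := hSj
  have hfg : (LinearMap.ker (q.baseChange S)).FG :=
    Module.FinitePresentation.fg_ker (q.baseChange S) hsurj
  rw [LinearMap.exact_iff.mp hex] at hfg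
  haveI : Module.Finite S (LinearMap.range (j.baseChange S)) := Module.Finite.iff_fg.mpr hfg
  exact Module.Finite.equiv (LinearEquiv.ofInjective (j.baseChange S) hinj).symm

/-- Let (R -> R', f) be a glueing pair and M any R-module. Then M is finite projective over R exactly
when both of its base changes are: R' ⊗_R M over R', and M_f over R_f. -/
theorem result (R R' : Type u) [CommRing R] [CommRing R'] [Algebra R R'] (f : R)
    (hRR : EtGlue.IsGlueingPair R R' f) (M : Type u) [AddCommGroup M] [Module R M] :
    (Module.Finite R M ∧ Module.Projective R M) ↔
      (Module.Finite R' (R' ⊗[R] M) ∧ Module.Projective R' (R' ⊗[R] M)) ∧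
      (Module.Finite (Localization.Away f) (LocalizedModule (Submonoid.powers f) M) ∧
        Module.Projective (Localization.Away f) (LocalizedModule (Submonoid.powers f) M)) := by
  constructor
  · rintro ⟨h1, h2⟩
    refine ⟨⟨inferInstance, inferInstance⟩, ⟨inferInstance, ?_⟩⟩
    exact Module.Projective.of_equiv
      (LocalizedModule.equivTensorProduct (Submonoid.powers f) M).symm
  · rintro ⟨⟨hfin', hproj'⟩, ⟨hfinf, hprojf⟩⟩
    haveI hM : Module.Finite R M := (Groth.Agent.S2006.result R R' f hRR.1 M).mpr ⟨hfin', hfinf⟩
    haveI hflat : Module.Flat R M :=
      (Groth.Agent.S2002.result R R' f hRR M).mpr ⟨inferInstance, inferInstance⟩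
    obtain ⟨n, q, hq⟩ := Module.Finite.exists_fin' R M
    have hj : Function.Injective (LinearMap.ker q).subtype := Submodule.injective_subtype _
    have hjq : Function.Exact (LinearMap.ker q).subtype q := LinearMap.exact_subtype_ker_map q
    haveI : Module.FinitePresentation R' (R' ⊗[R] M) := Module.finitePresentation_of_projective _ _
    haveI : Module.Finite (Localization.Away f) (Localization.Away f ⊗[R] M) :=
      Module.Finite.equiv (LocalizedModule.equivTensorProduct (Submonoid.powers f) M)
    haveI : Module.Projective (Localization.Away f) (Localization.Away f ⊗[R] M) :=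
      Module.Projective.of_equiv (LocalizedModule.equivTensorProduct (Submonoid.powers f) M)
    haveI : Module.FinitePresentation (Localization.Away f) (Localization.Away f ⊗[R] M) :=
      Module.finitePresentation_of_projective _ _
    have hK : Module.Finite R (LinearMap.ker q) := by
      rw [Groth.Agent.S2006.result R R' f hRR.1]
      constructor
      · exact finite_baseChange_ker R' _ q hjq hq
          (LinearMap.lTensor_injective_of_exact_of_flat q hq _ hj hjq R')
      · haveI : Module.Finite (Localization.Away f) (Localization.Away f ⊗[R] LinearMap.ker q) :=
          finite_baseChange_ker (Localization.Away f) _ q hjq hq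
            (LinearMap.lTensor_injective_of_exact_of_flat q hq _ hj hjq (Localization.Away f))
        exact Module.Finite.equiv
          (LocalizedModule.equivTensorProduct (Submonoid.powers f) (LinearMap.ker q)).symm
    haveI : Module.FinitePresentation R M :=
      Module.finitePresentation_of_surjective q hq (Module.Finite.iff_fg.mp hK)
    exact ⟨hM, Module.Flat.projective_of_finitePresentation⟩

end Groth.Agent.S2003
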