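import Groth.Statements.S0088
-- import your own Groth.Agent.* helpers here
import Groth.Agent.Lib.Helper23.DimZeroGamma
import Mathlib.Algebra.Homology.DerivedCategory.Ext.EnoughProjectives

set_option autoImplicit false
open CategoryTheory CategoryTheory.Limits AlgebraicGeometry Opposite
universe u
open EtBase

namespace Groth.Agent.S0088

lemma ulift_hom_ext {A : Type*} [AddCommGroup A] (φ ψ : ULift.{u + 1} ℤ →+ A)
    (h : φ ⟨1⟩ = ψ ⟨1⟩) : φ = ψ := by
  have h' : φ.comp AddEquiv.ulift.symm.toAddMonoidHom =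
      ψ.comp AddEquiv.ulift.symm.toAddMonoidHom := AddMonoidHom.ext_int h
  ext ⟨n⟩
  exact DFunLike.congr_fun h' n

open Groth.Agent.Lib.Helper23 in
set_option backward.isDefEq.respectTransparency.types false in
set_option backward.isDefEq.respectTransparency false in
theorem projective_constZ (S : Scheme.{u}) [IsAffine S] (h1 : ∀ s : S, IsClosed ({s} : Set S))
    (h2 : ∀ s : S, IsSepClosed (S.residueField s)) :
    Projective ((constantSheaf S.smallEtaleTopology AddCommGrpCat.{u + 1}).obj
      (AddCommGrpCat.of (ULift.{u + 1} ℤ))) := by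
  constructor
  intro E X f e _
  let adj := EtCore.constAdj S
  let f' := adj.homEquiv _ _ f
  let t : X.obj.obj (op (EtCoh.top S)) := f' (ULift.up 1)
  obtain ⟨r, hr⟩ := DimZeroGamma.gsec_surjective h1 h2 e t
  let ψ' : AddCommGrpCat.of (ULift.{u + 1} ℤ) ⟶ (EtCore.gsec S).obj E :=
    AddCommGrpCat.ofHom ((zmultiplesHom _ r).comp AddEquiv.ulift.toAddMonoidHom)
  refine ⟨(adj.homEquiv _ _).symm ψ', ?_⟩
  apply (adj.homEquiv _ _).injective
  rw [Adjunction.homEquiv_naturality_right, Equiv.apply_symm_apply]
  apply AddCommGrpCat.hom_ext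
  apply ulift_hom_ext
  change e.hom.app (op (EtCoh.top S)) ((1 : ℤ) • r) = t
  rw [one_smul]
  exact hr

/-- On an affine scheme all of whose points are closed and all of whose residue fields are separably
closed, every abelian étale sheaf has vanishing cohomology in positive degrees. -/
theorem result (S : Scheme.{u}) [IsAffine S] (h1 : ∀ s : S, IsClosed ({s} : Set S))
    (h2 : ∀ s : S, IsSepClosed (S.residueField s)) (F : EtCoh.Ab S) (i : ℕ) (hi : 1 ≤ i) :
    Subsingleton (EtCoh.H S F i) := by
  haveI := projective_constZ S h1 h2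
  obtain ⟨n, rfl⟩ : ∃ n, i = n + 1 := ⟨i - 1, by omega⟩
  refine ⟨fun a b => ?_⟩
  rw [Abelian.Ext.eq_zero_of_projective a, Abelian.Ext.eq_zero_of_projective b]


end Groth.Agent.S0088
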