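import Groth.Statements.S0304
-- import your own Groth.Agent.* helpers here
import Groth.Agent.Lib.Helper26.InjHull

set_option autoImplicit false
universe u v
open InjHull

namespace Groth.Agent.S0304

open Groth.Agent.Lib.Helper26.InjHull

/-- an injective submodule is a direct summand -/
lemma exists_isCompl_of_injective {R : Type u} [CommRing R] {E : Type u} [AddCommGroup E]
    [Module R E] (E' : Submodule R E) [Module.Injective R E'] : ∃ C : Submodule R E, IsCompl E' C := by
  obtain ⟨r, hr⟩ := Module.Injective.out E'.subtype (Submodule.subtype_injective _)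
    (LinearMap.id : E' →ₗ[R] E')
  refine ⟨LinearMap.ker r, ?_, ?_⟩
  · rw [Submodule.disjoint_def]
    intro x hx1 hx2
    have := hr ⟨x, hx1⟩
    rw [LinearMap.id_apply, Submodule.subtype_apply] at this
    rw [LinearMap.mem_ker] at hx2
    rw [hx2] at this
    exact (congrArg Subtype.val this).symm
  · rw [codisjoint_iff, eq_top_iff]
    intro y _
    have : y = (r y : E) + (y - (r y : E)) := by abel
    rw [this]
    refine Submodule.add_mem_sup (r y).2 ?_
    rw [LinearMap.mem_ker, map_sub]
    have := hr (r y)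
    rw [LinearMap.id_apply, Submodule.subtype_apply] at this
    rw [this, sub_self]

/-- in an indecomposable injective module every nonzero submodule is essential -/
lemma essIn_top_of_indecomposable {R : Type u} [CommRing R] {E : Type u} [AddCommGroup E]
    [Module R E] (hE : InjHull.IsIndecomposable R E) [Module.Injective R E] {N : Submodule R E}
    (hN : N ≠ ⊥) : EssIn N ⊤ := by
  obtain ⟨E', hE', hmax⟩ := exists_maximal_essIn N
  haveI : Module.Injective R E' := injective_of_maximal_essIn hmax hE'
  obtain ⟨C, hC⟩ := exists_isCompl_of_injective E'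
  rcases hE.2 E' C hC with h | h
  · exfalso
    apply hN
    rw [eq_bot_iff, ← h]
    exact hE'.1
  · have : E' = ⊤ := by
      have := hC.sup_eq_top
      rwa [h, sup_bot_eq] at this
    rwa [this] at hE'

/-- Let R be a commutative ring and E an indecomposable injective R-module. Then any two nonzero
submodules of E have nonzero intersection, and the set of elements r ∈ R such that r·x = 0 for some
nonzero x ∈ E is a prime ideal of R. -/
theorem result (R : Type u) [CommRing R] (E : Type u) [AddCommGroup E] [Module R E] (hE : InjHull.IsIndecomposable R E) (hinj : Module.Injective R E) : (∀ N N' : Submodule R E, N ≠ ⊥ → N' ≠ ⊥ → N ⊓ N' ≠ ⊥) ∧ ∃ p : Ideal R, p.IsPrime ∧ (p : Set R) = {r : R | ∃ x : E, x ≠ 0 ∧ r • x = 0} := by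
  haveI := hinj
  have huni : ∀ N N' : Submodule R E, N ≠ ⊥ → N' ≠ ⊥ → N ⊓ N' ≠ ⊥ := by
    intro N N' hN hN'
    have := (essIn_top_of_indecomposable hE hN').inf_ne_bot (le_top : N ≤ ⊤) hN
    exact this
  refine ⟨huni, ?_⟩
  haveI := hE.1
  let P : Ideal R :=
    { carrier := {r : R | ∃ x : E, x ≠ 0 ∧ r • x = 0}
      zero_mem' := by
        obtain ⟨x, hx⟩ := exists_ne (0 : E)
        exact ⟨x, hx, zero_smul R x⟩
      add_mem' := by
        rintro r s ⟨x, hx, hrx⟩ ⟨y, hy, hsy⟩
        have h1 : Submodule.span R {x} ≠ ⊥ := fun h => hx (Submodule.span_singleton_eq_bot.1 h)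
        have h2 : Submodule.span R {y} ≠ ⊥ := fun h => hy (Submodule.span_singleton_eq_bot.1 h)
        obtain ⟨z, hz, hz0⟩ := (Submodule.ne_bot_iff _).1 (huni _ _ h1 h2)
        obtain ⟨hz1, hz2⟩ := Submodule.mem_inf.1 hz
        obtain ⟨a, ha⟩ := Submodule.mem_span_singleton.1 hz1
        obtain ⟨b, hb⟩ := Submodule.mem_span_singleton.1 hz2
        refine ⟨z, hz0, ?_⟩
        rw [add_smul]
        nth_rewrite 1 [← ha]
        rw [← hb, smul_comm, hrx, smul_zero, smul_comm, hsy, smul_zero, add_zero]
      smul_mem' := by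
        rintro t r ⟨x, hx, hrx⟩
        exact ⟨x, hx, by rw [smul_eq_mul, mul_smul, hrx, smul_zero]⟩ }
  refine ⟨P, ⟨?_, ?_⟩, rfl⟩
  · intro h
    have : (1 : R) ∈ P := by rw [h]; trivial
    obtain ⟨x, hx, h1x⟩ := this
    rw [one_smul] at h1x
    exact hx h1x
  · rintro r s ⟨x, hx, hrsx⟩
    by_cases hsx : s • x = 0
    · exact Or.inr ⟨x, hx, hsx⟩
    · exact Or.inl ⟨s • x, hsx, by rw [smul_smul]; exact hrsx⟩

end Groth.Agent.S0304
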