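import Groth.Statements.S0305
-- import your own Groth.Agent.* helpers here
import Mathlib.RingTheory.LocalRing.ResidueField.Ideal

set_option autoImplicit false
universe u v
open InjHull

namespace Groth.Agent.S0305

/-- Let R be a commutative ring, p a prime ideal, and E an injective hull of R/p. Then E is
indecomposable, and E is also an injective hull of the residue field κ(p). -/
theorem result (R : Type u) [CommRing R] (p : Ideal R) [p.IsPrime] (E : Type u) [AddCommGroup E] [Module R E] (f : (R ⧸ p) →ₗ[R] E) (hf : InjHull.IsInjectiveHull f) : InjHull.IsIndecomposable R E ∧ ∃ g : p.ResidueField →ₗ[R] E, InjHull.IsInjectiveHull g := by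
  classical
  haveI := hf.isInjective
  haveI : Nontrivial (R ⧸ p) := Ideal.Quotient.nontrivial_iff.2 (Ideal.IsPrime.ne_top inferInstance)
  refine ⟨⟨?_, ?_⟩, ?_⟩
  · exact hf.injective.nontrivial
  · intro N N' hNN'
    by_contra hcon
    push Not at hcon
    obtain ⟨hN, hN'⟩ := hcon
    obtain ⟨x, hx, hx0⟩ := (Submodule.ne_bot_iff _).1 (hf.essential N hN)
    obtain ⟨y, hy, hy0⟩ := (Submodule.ne_bot_iff _).1 (hf.essential N' hN')
    obtain ⟨hx1, a, rfl⟩ := hx
    obtain ⟨hy1, b, rfl⟩ := hy
    obtain ⟨a', rfl⟩ := Ideal.Quotient.mk_surjective a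
    obtain ⟨b', rfl⟩ := Ideal.Quotient.mk_surjective b
    have ha0 : Ideal.Quotient.mk p a' ≠ 0 := fun h => hx0 (by rw [h, map_zero])
    have hb0 : Ideal.Quotient.mk p b' ≠ 0 := fun h => hy0 (by rw [h, map_zero])
    have hab : f (Ideal.Quotient.mk p (a' * b')) ∈ N ⊓ N' := by
      constructor
      · have : Ideal.Quotient.mk p (a' * b') = b' • Ideal.Quotient.mk p a' := by
          rw [Algebra.smul_def, Ideal.Quotient.algebraMap_eq, ← map_mul, mul_comm]
        rw [this, map_smul]
        exact N.smul_mem _ hx1
      · have : Ideal.Quotient.mk p (a' * b') = a' • Ideal.Quotient.mk p b' := by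
          rw [Algebra.smul_def, Ideal.Quotient.algebraMap_eq, ← map_mul]
        rw [this, map_smul]
        exact N'.smul_mem _ hy1
    rw [hNN'.inf_eq_bot, Submodule.mem_bot] at hab
    have h0 : Ideal.Quotient.mk p (a' * b') = 0 := hf.injective (by rw [hab, map_zero])
    rw [map_mul] at h0
    rcases mul_eq_zero.1 h0 with h | h
    · exact ha0 h
    · exact hb0 h
  · let ι : (R ⧸ p) →ₗ[R] p.ResidueField :=
      (IsScalarTower.toAlgHom R (R ⧸ p) p.ResidueField).toLinearMap
    have hι : Function.Injective ι := Ideal.injective_algebraMap_quotient_residueField p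
    obtain ⟨g, hg⟩ := Module.Injective.extension_property R E _ _ ι hι f
    have hgι : ∀ a, g (ι a) = f a := fun a => LinearMap.congr_fun hg a
    refine ⟨g, ⟨⟨?_, ?_⟩, hf.isInjective⟩⟩
    · rw [← LinearMap.ker_eq_bot, LinearMap.ker_eq_bot']
      intro z hz
      by_contra hz0
      obtain ⟨⟨a, b⟩, hab⟩ := IsLocalization.surj (nonZeroDivisors (R ⧸ p)) z
      obtain ⟨b', hb'⟩ := Ideal.Quotient.mk_surjective (b : R ⧸ p)
      have h1 : b' • z = ι a := by
        rw [Algebra.smul_def, IsScalarTower.algebraMap_apply R (R ⧸ p) p.ResidueField,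
          Ideal.Quotient.algebraMap_eq, hb', mul_comm]
        exact hab
      have h2 : f a = 0 := by rw [← hgι, ← h1, map_smul, hz, smul_zero]
      have ha : a = 0 := hf.injective (by rw [h2, map_zero])
      have hb0 : algebraMap (R ⧸ p) p.ResidueField (b : R ⧸ p) ≠ 0 := by
        intro h
        have := (Ideal.injective_algebraMap_quotient_residueField p) (by rw [h, map_zero] :
          algebraMap (R ⧸ p) p.ResidueField (b : R ⧸ p) = algebraMap (R ⧸ p) p.ResidueField 0)
        exact nonZeroDivisors.ne_zero b.2 this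
      simp only [ha, map_zero] at hab
      rcases mul_eq_zero.1 hab with h | h
      · exact hz0 h
      · exact hb0 h
    · intro N hN
      have hle : LinearMap.range f ≤ LinearMap.range g := by
        rintro _ ⟨a, rfl⟩
        exact ⟨ι a, hgι a⟩
      intro hbot
      apply hf.essential N hN
      rw [eq_bot_iff, ← hbot]
      exact inf_le_inf_left N hle

end Groth.Agent.S0305
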