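import Groth.Statements.S0306
-- import your own Groth.Agent.* helpers here
import Groth.Agent.S0304
import Groth.Agent.S0305
import Mathlib.RingTheory.Ideal.AssociatedPrime.Basic

set_option autoImplicit false
universe u v
open InjHull

namespace Groth.Agent.S0306

/-- Over a Noetherian ring every indecomposable injective module is an injective hull of the residue
field of some prime. -/
theorem result (R : Type u) [CommRing R] [IsNoetherianRing R] (E : Type u) [AddCommGroup E] [Module R E] (hE : InjHull.IsIndecomposable R E) (hinj : Module.Injective R E) : ∃ (p : Ideal R) (_ : p.IsPrime) (g : p.ResidueField →ₗ[R] E), InjHull.IsInjectiveHull g := by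
  classical
  haveI := hinj
  haveI := hE.1
  obtain ⟨p, hp⟩ := associatedPrimes.nonempty R E
  obtain ⟨hprime, y, hy⟩ := isAssociatedPrime_iff.1 hp
  haveI := hprime
  have hmem : ∀ r : R, r ∈ p ↔ r • y = 0 := by
    intro r
    rw [hy, Submodule.mem_colon_singleton, Submodule.mem_bot]
  have hy0 : y ≠ 0 := by
    intro h
    apply hprime.ne_top
    rw [Ideal.eq_top_iff_one, hmem, h, smul_zero]
  let f : (R ⧸ p) →ₗ[R] E := Submodule.liftQ p (LinearMap.toSpanSingleton R E y) (fun r hr => by
    rw [LinearMap.mem_ker, LinearMap.toSpanSingleton_apply]; exact (hmem r).1 hr)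
  have hfmk : ∀ r : R, f (Ideal.Quotient.mk p r) = r • y := by
    intro r
    show f (Submodule.Quotient.mk r) = r • y
    rw [Submodule.liftQ_apply, LinearMap.toSpanSingleton_apply]
  have hfinj : Function.Injective f := by
    rw [← LinearMap.ker_eq_bot, LinearMap.ker_eq_bot']
    intro a ha
    obtain ⟨r, rfl⟩ := Ideal.Quotient.mk_surjective a
    rw [hfmk] at ha
    exact Ideal.Quotient.eq_zero_iff_mem.2 ((hmem r).2 ha)
  have hrange : LinearMap.range f ≠ ⊥ := by
    intro h
    have : f (Ideal.Quotient.mk p 1) ∈ LinearMap.range f := ⟨_, rfl⟩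
    rw [h, Submodule.mem_bot, hfmk, one_smul] at this
    exact hy0 this
  have hull : InjHull.IsInjectiveHull f :=
    ⟨⟨hfinj, fun N hN =>
      (Groth.Agent.S0304.essIn_top_of_indecomposable hE hrange).inf_ne_bot le_top hN⟩, hinj⟩
  obtain ⟨-, g, hg⟩ := Groth.Agent.S0305.result R p E f hull
  exact ⟨p, hprime, g, hg⟩

end Groth.Agent.S0306
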