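import Groth.Statements.S0300
import Mathlib

set_option autoImplicit false
universe u v
open InjHull

namespace Groth.Agent.S0300

/-- Over a Noetherian ring, injectivity of modules is preserved under arbitrary direct sums. -/
theorem result (R : Type u) [CommRing R] [IsNoetherianRing R] {ι : Type u} (E : ι → Type u) [∀ i, AddCommGroup (E i)] [∀ i, Module R (E i)] (hE : ∀ i, Module.Injective R (E i)) : Module.Injective R (DirectSum ι E) := by
  classical
  refine Module.Baer.injective fun I g => ?_
  -- finite support
  obtain ⟨t, ht⟩ := (isNoetherianRing_iff_ideal_fg R).mp ‹_› I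
  have htI : ∀ x ∈ t, x ∈ I := fun x hx => ht ▸ Ideal.subset_span hx
  let s : Finset ι := t.attach.biUnion fun x => DFinsupp.support (g ⟨x.1, htI x.1 x.2⟩)
  have hsupp : ∀ (x : I) (j : ι), j ∉ s → (g x) j = 0 := by
    intro x j hj
    -- the submodule of I where component j ∘ g vanishes
    let K : Submodule R I := LinearMap.ker ((DirectSum.component R ι E j) ∘ₗ g)
    suffices h : (⊤ : Submodule R I) ≤ K by
      have := h (Submodule.mem_top (x := x))
      exact this
    have hspan : Submodule.span R {y : I | (y : R) ∈ t} = ⊤ := by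
      rw [eq_top_iff]
      rintro ⟨y, hy⟩ -
      have hy' : y ∈ Ideal.span (t : Set R) := ht ▸ hy
      induction hy' using Submodule.span_induction with
      | mem z hz => exact Submodule.subset_span (by simpa using hz)
      | zero => exact (Submodule.span R _).zero_mem
      | add a b ha hb iha ihb =>
        have ha' : a ∈ I := ht ▸ ha
        have hb' : b ∈ I := ht ▸ hb
        have := Submodule.add_mem _ (iha ha') (ihb hb')
        exact this
      | smul r a ha iha =>
        have ha' : a ∈ I := ht ▸ ha
        have := Submodule.smul_mem _ r (iha ha')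
        exact this
    rw [← hspan, Submodule.span_le]
    rintro ⟨y, hyI⟩ (hy : y ∈ t)
    simp only [SetLike.mem_coe, LinearMap.mem_ker, LinearMap.coe_comp, Function.comp_apply, K]
    by_contra hne
    apply hj
    simp only [s, Finset.mem_biUnion]
    exact ⟨⟨y, hy⟩, Finset.mem_attach _ _, DFinsupp.mem_support_iff.mpr hne⟩
  have hB : ∀ i, Module.Baer R (E i) := fun i => Module.Baer.of_injective (hE i)
  choose g' hg' using fun i => hB i I ((DirectSum.component R ι E i) ∘ₗ g)
  refine ⟨∑ i ∈ s, (DirectSum.lof R ι E i) ∘ₗ g' i, fun x hx => ?_⟩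
  refine DFinsupp.ext fun j => ?_
  have e1 : (((∑ i ∈ s, (DirectSum.lof R ι E i) ∘ₗ g' i) x : DirectSum ι E)) j =
      ∑ i ∈ s, (DirectSum.lof R ι E i (g' i x)) j := by
    rw [LinearMap.sum_apply, DFinsupp.finsetSum_apply]
    rfl
  rw [e1]
  by_cases hj : j ∈ s
  · rw [Finset.sum_eq_single j]
    · rw [DirectSum.lof_apply, hg' j x hx]
      rfl
    · intro i _ hij
      exact DFinsupp.single_eq_of_ne (Ne.symm hij)
    · intro h; exact absurd hj h
  · rw [hsupp ⟨x, hx⟩ j hj]
    refine Finset.sum_eq_zero fun i hi => ?_
    have : j ≠ i := fun h => hj (h ▸ hi)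
    exact DFinsupp.single_eq_of_ne this

end Groth.Agent.S0300
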