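import Groth.Statements.S12903
import Groth.Agent.Lib.Helper17.CohKer
import Groth.Agent.Lib.Helper28.ModAffineExt
import Mathlib
set_option backward.isDefEq.respectTransparency.types false

set_option autoImplicit false
universe u
open CategoryTheory CategoryTheory.Limits AlgebraicGeometry Opposite
open Coherent

namespace Groth.Agent.S12903
open Groth.Agent.Lib.Helper17.CohKer Groth.Agent.Lib.Helper28.QCohLoc

variable {X : Scheme.{u}}

/-- the annihilator ideal of a section -/
def annSec (F : X.Modules) (V : X.Opens) (s : Γ(F, V)) : Ideal Γ(X, V) where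
  carrier := {a | a • s = 0}
  add_mem' := by
    intro a b ha hb
    change (a + b) • s = 0
    rw [add_smul, ha, hb, add_zero]
  zero_mem' := zero_smul _ s
  smul_mem' := by
    intro c a ha
    change (c * a) • s = 0
    rw [mul_smul, ha, smul_zero]

theorem mem_annSec (F : X.Modules) (V : X.Opens) (s : Γ(F, V)) (a : Γ(X, V)) :
    a ∈ annSec F V s ↔ a • s = 0 := Iff.rfl

theorem key {U : Scheme.{u}} (j : U ⟶ X) [IsOpenImmersion j]
    (F : X.Modules) [F.IsQuasicoherent] (V : X.Opens) (hV : IsAffineOpen V)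
    (I : Ideal Γ(X, V)) (hI : I.FG)
    (hZ : ∀ x : X, x ∈ V → (x ∉ Set.range j.base ↔ ∀ f ∈ I, x ∉ X.basicOpen f))
    (s : Γ(F, V)) :
    (∃ k : Γ(kernel ((Scheme.Modules.restrictAdjunction j).unit.app F), V),
      (kernel.ι ((Scheme.Modules.restrictAdjunction j).unit.app F)).app V k = s) ↔
      ∃ n : ℕ, ∀ a ∈ I ^ n, a • s = 0 := by
  set η := (Scheme.Modules.restrictAdjunction j).unit.app F with hη
  have hηapp : ∀ (W : X.Opens) (t : Γ(F, W)),
      η.app W t = F.presheaf.map (homOfLE (j.image_preimage_le W)).op t := fun W t => rfl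
  -- basic opens of elements of I lie in the image
  have hD : ∀ f ∈ I, X.basicOpen f ≤ j ''ᵁ (j ⁻¹ᵁ V) := by
    intro f hf x hx
    have hxV : x ∈ V := X.basicOpen_le f hx
    have hxr : x ∈ Set.range j.base := by
      by_contra hne
      exact ((hZ x hxV).1 hne) f hf hx
    obtain ⟨y, rfl⟩ := hxr
    exact ⟨y, hxV, rfl⟩
  constructor
  · rintro ⟨k, rfl⟩
    have h0 : η.app V ((kernel.ι η).app V k) = 0 := app_kernel_ι_app η V k
    rw [hηapp] at h0
    set s := (kernel.ι η).app V k with hs
    have hle : I ≤ (annSec F V s).radical := by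
      intro f hf
      have h1 : res F (X.basicOpen_le f) s = 0 := by
        have : res F (X.basicOpen_le f) s = res F (hD f hf) (res F (j.image_preimage_le V) s) :=
          (res_res F _ _ s).symm
        rw [this]
        change res F (hD f hf) (F.presheaf.map (homOfLE (j.image_preimage_le V)).op s) = 0
        rw [h0]
        exact map_zero _
      obtain ⟨n, hn⟩ := (isLocOn_of_isQuasicoherent F hV).inj f s h1
      exact ⟨n, hn⟩
    obtain ⟨n, hn⟩ := Ideal.exists_pow_le_of_le_radical_of_fg hle hI
    exact ⟨n, fun a ha => hn ha⟩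
  · rintro ⟨n, hn⟩
    apply exists_kernel_app_eq η V s
    rw [hηapp]
    -- locally zero
    let ι' := {f : Γ(X, V) // f ∈ I}
    refine eq_of_locally_eq F (fun f : ι' => X.basicOpen f.1) _ (fun f => hD f.1 f.2) ?_ _ _ (fun f => ?_)
    · intro x hx
      obtain ⟨y, hy, rfl⟩ := hx
      have hxV : j.base y ∈ V := hy
      have : ¬ ∀ f ∈ I, j.base y ∉ X.basicOpen f := fun hall => ((hZ _ hxV).2 hall) ⟨y, rfl⟩
      push Not at this
      obtain ⟨f, hf, hxf⟩ := this
      exact TopologicalSpace.Opens.mem_iSup.mpr ⟨⟨f, hf⟩, hxf⟩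
    · refine Eq.trans ?_ (map_zero _).symm
      have h1 : res F (hD f.1 f.2) (F.presheaf.map (homOfLE (j.image_preimage_le V)).op s) =
          res F (X.basicOpen_le f.1) s := res_res F _ _ s
      rw [h1]
      have h2 : (f.1 ^ n) • s = 0 := hn _ (Ideal.pow_mem_pow f.2 n)
      have h3 := congrArg (res F (X.basicOpen_le f.1)) h2
      rw [res_smul, res_zero, resO_pow] at h3
      exact ((isUnit_ur f.1).pow n).smul_eq_zero.1 h3


/-- Let X be a scheme, j : U → X a quasi-compact open immersion with closed complement Z, F a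
quasi-coherent O_X-module, V an affine open of X and I a finitely generated ideal of Γ(V, O_X)
cutting out Z ∩ V (a point of V lies outside U if and only if it lies in no basic open X_f with f ∈
I). Then a section s of F over V belongs to the subsheaf Γ_Z(F) of sections supported in Z (the
kernel of F → j_*(F|_U)) if and only if I^n s = 0 for some n. -/
theorem result {U X : Scheme.{u}} (j : U ⟶ X) [IsOpenImmersion j] [QuasiCompact j]
    (F : X.Modules) (hF : Coh.IsQCoh F) (V : X.Opens) (hV : IsAffineOpen V)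
    (I : Ideal (X.ringCatSheaf.obj.obj (op V))) (hI : I.FG)
    (hZ : ∀ x : X, x ∈ V → (x ∉ Set.range j.base ↔ ∀ f ∈ I, x ∉ X.basicOpen (f : Γ(X, V))))
    (s : F.val.obj (op V)) :
    s ∈ Set.range ((((CxOX.gammaZι j).app F).val.app (op V)).hom) ↔ ∃ n : ℕ, ∀ a ∈ I ^ n, a • s = 0 := by
  haveI : F.IsQuasicoherent := hF
  have h := key j F V hV I hI hZ s
  exact h

end Groth.Agent.S12903
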