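import Groth.Statements.S3055
-- import your own Groth.Agent.* helpers here
import Groth.Agent.Lib.Helper23.EtGlue2
import Mathlib.CategoryTheory.Sites.DenseSubsite.SheafEquiv
import Mathlib.CategoryTheory.Sites.DenseSubsite.InducedTopology

set_option autoImplicit false
open CategoryTheory CategoryTheory.Limits AlgebraicGeometry Opposite
universe u
open EtDesc

namespace Groth.Agent.S3055

open Groth.Agent.Lib.Helper23.EtGlue

variable (k : Type u) [Field k] [IsSepClosed k]

/-- the inclusion of the one-point category as the final object of `(Spec k)_et` -/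
noncomputable abbrev G : Discrete PUnit.{1} ⥤ (Spec (CommRingCat.of k)).Etale :=
  Functor.fromPUnit (EtCoh.top (Spec (CommRingCat.of k)))

set_option backward.isDefEq.respectTransparency.types false in
set_option backward.isDefEq.respectTransparency false in
instance subsingleton_hom_top (U : (Spec (CommRingCat.of k)).Etale) :
    Subsingleton (U ⟶ EtCoh.top (Spec (CommRingCat.of k))) := by
  refine ⟨fun a b => hom_ext_of_left _ _ ?_⟩
  have ha : a.left ≫ 𝟙 _ = U.hom := MorphismProperty.Over.w a
  have hb : b.left ≫ 𝟙 _ = U.hom := MorphismProperty.Over.w b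
  rw [Category.comp_id] at ha hb
  exact ha.trans hb.symm

set_option backward.isDefEq.respectTransparency.types false in
set_option backward.isDefEq.respectTransparency false in
/-- every point of an etale `k`-scheme (`k` separably closed) is the image of a section -/
lemma exists_section (U : (Spec (CommRingCat.of k)).Etale) (x : U.left) :
    ∃ σ : EtCoh.top (Spec (CommRingCat.of k)) ⟶ U, x ∈ Set.range σ.left := by
  haveI : AlgebraicGeometry.Etale U.hom := U.prop
  let f : U.left ⟶ Spec (CommRingCat.of k) := U.hom
  obtain ⟨l, hl, hx⟩ := Scheme.exists_fac_of_etale_of_isSepClosed f (𝟙 (Spec (CommRingCat.of k))) x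
    (by subsingleton)
  exact ⟨MorphismProperty.Over.homMk l hl trivial, ⟨(default : Spec (CommRingCat.of k)), hx⟩⟩

instance : (G k).Full where
  map_surjective {a b} f :=
    ⟨eqToHom (by subsingleton), (subsingleton_hom_top k (EtCoh.top _)).elim _ _⟩

instance : (G k).Faithful where
  map_injective {a b} f g _ := Subsingleton.elim _ _

set_option backward.isDefEq.respectTransparency.types false in
set_option backward.isDefEq.respectTransparency false in
instance isCoverDense : (G k).IsCoverDense (Spec (CommRingCat.of k)).smallEtaleTopology where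
  is_cover U := by
    apply sieve_mem_of_forall_point
    intro x
    obtain ⟨σ, hσ⟩ := exists_section k U x
    exact ⟨EtCoh.top _, σ, Presieve.in_coverByImage (G k) (Y := (⟨⟨⟩⟩ : Discrete PUnit.{1})) σ, hσ⟩

/-- the induced topology on the one-point category -/
noncomputable abbrev J₀ : GrothendieckTopology (Discrete PUnit.{1}) :=
  (G k).inducedTopology (Spec (CommRingCat.of k)).smallEtaleTopology

instance isDenseSubsite :
    (G k).IsDenseSubsite (J₀ k) (Spec (CommRingCat.of k)).smallEtaleTopology := inferInstance

instance : (((G k).sheafPushforwardContinuous (Type (u + 1)) (J₀ k)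
    (Spec (CommRingCat.of k)).smallEtaleTopology)).IsEquivalence := inferInstance

/-- evaluation at the unique object -/
noncomputable abbrev E : Sheaf (J₀ k) (Type (u + 1)) ⥤ Type (u + 1) :=
  (sheafSections (J₀ k) (Type (u + 1))).obj (op (⟨⟨⟩⟩ : Discrete PUnit.{1}))

set_option backward.isDefEq.respectTransparency.types false in
set_option backward.isDefEq.respectTransparency false in
lemma eq_top_of_mem (S : Sieve (⟨⟨⟩⟩ : Discrete PUnit.{1})) (hS : S ∈ J₀ k _) : S = ⊤ := by
  have h1 : S.functorPushforward (G k) ∈
      (Spec (CommRingCat.of k)).smallEtaleTopology ((G k).obj ⟨⟨⟩⟩) :=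
    (Functor.mem_inducedTopology_iff_of_isCoverDense (G k) _ S).1 hS
  obtain ⟨T, g, hg, -⟩ := exists_arrow_of_mem _ h1 (default : Spec (CommRingCat.of k))
  obtain ⟨Y, f, h, hf, -⟩ := hg
  rw [← Sieve.id_mem_iff_eq_top]
  obtain ⟨⟨⟩⟩ := Y
  have : f = 𝟙 _ := Subsingleton.elim _ _
  rwa [this] at hf

instance : (E k).Faithful where
  map_injective {F F'} a b h := by
    apply Sheaf.hom_ext
    ext X : 2
    exact h

instance : (E k).Full where
  map_surjective {F F'} f := by
    refine ⟨⟨{ app := fun _ => f, naturality := ?_ }⟩, rfl⟩
    intro X Y g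
    obtain ⟨⟨⟨⟩⟩⟩ := X
    obtain ⟨⟨⟨⟩⟩⟩ := Y
    have : g = 𝟙 _ := Subsingleton.elim _ _
    subst this
    simp

instance : (E k).EssSurj where
  mem_essImage T := by
    refine ⟨⟨(Functor.const _).obj T, ?_⟩, ⟨Iso.refl _⟩⟩
    rw [isSheaf_iff_isSheaf_of_type]
    intro X S hS
    obtain ⟨⟨⟩⟩ := X
    rw [eq_top_of_mem k S hS]
    exact Presieve.isSheafFor_top _

instance : (E k).IsEquivalence where

/-- For a separably closed field k and X = Spec k, the global sections functor from sheaves of sets on
X_et (valued one universe up) to sets is an equivalence of categories. -/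
theorem result (k : Type u) [Field k] [IsSepClosed k] :
    ((sheafSections (Spec (CommRingCat.of k)).smallEtaleTopology (Type (u + 1))).obj
      (op (EtCoh.top (Spec (CommRingCat.of k))))).IsEquivalence := by
  let e : (sheafSections (Spec (CommRingCat.of k)).smallEtaleTopology (Type (u + 1))).obj
      (op (EtCoh.top (Spec (CommRingCat.of k)))) ≅
      ((G k).sheafPushforwardContinuous (Type (u + 1)) (J₀ k)
        (Spec (CommRingCat.of k)).smallEtaleTopology) ⋙ E k :=
    NatIso.ofComponents (fun F => Iso.refl _) (fun f => by
      rfl)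
  exact Functor.isEquivalence_of_iso e.symm


end Groth.Agent.S3055
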