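import Groth.Statements.S5592
-- import your own Groth.Agent.* helpers here
import Groth.Agent.S3055
import Groth.Prelude.Def_EtCore

set_option autoImplicit false
open CategoryTheory CategoryTheory.Limits AlgebraicGeometry Opposite
universe u
open EtDesc

namespace Groth.Agent.S5592

set_option backward.isDefEq.respectTransparency.types false in
set_option backward.isDefEq.respectTransparency false in
/-- `f_*` followed by global sections is global sections (sheaves of sets) -/
noncomputable def pushShSecIso {X Y : Scheme.{u}} (f : X ⟶ Y) :
    EtDesc.pushSh f ⋙ (sheafSections Y.smallEtaleTopology (Type (u + 1))).obj (op (EtCoh.top Y)) ≅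
      (sheafSections X.smallEtaleTopology (Type (u + 1))).obj (op (EtCoh.top X)) :=
  NatIso.ofComponents (fun F => F.obj.mapIso (EtCore.bcTopIso f).op.symm) (fun {F G} φ => by
    simp only [Functor.comp_map, Functor.mapIso_hom, Iso.symm_hom]
    exact (φ.hom.naturality _).symm)

/-- Let k' be a separably closed extension field of a separably closed field k and u : Spec k' -> Spec k
the canonical morphism. Then the inverse image functor u^* from etale sheaves of sets on Spec k to
etale sheaves of sets on Spec k' is an equivalence of categories. -/
theorem result (k k' : Type u) [Field k] [IsSepClosed k]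
    [Field k'] [IsSepClosed k'] [Algebra k k'] :
    (EtDesc.pullSh (Spec.map (CommRingCat.ofHom (algebraMap k k')))).IsEquivalence := by
  let v := Spec.map (CommRingCat.ofHom (algebraMap k k'))
  haveI := Groth.Agent.S3055.result k
  haveI := Groth.Agent.S3055.result k'
  haveI : (EtDesc.pushSh v ⋙ (sheafSections (Spec (CommRingCat.of k)).smallEtaleTopology
      (Type (u + 1))).obj (op (EtCoh.top (Spec (CommRingCat.of k))))).IsEquivalence :=
    Functor.isEquivalence_of_iso (pushShSecIso v).symm
  haveI : (EtDesc.pushSh v).IsEquivalence :=
    Functor.isEquivalence_of_comp_right (EtDesc.pushSh v)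
      ((sheafSections (Spec (CommRingCat.of k)).smallEtaleTopology
        (Type (u + 1))).obj (op (EtCoh.top (Spec (CommRingCat.of k)))))
  exact (EtDesc.adjSh v).isEquivalence_left_of_isEquivalence_right


end Groth.Agent.S5592
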