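import Groth.Statements.S0671
-- import your own Groth.Agent.* helpers here
import Groth.Agent.S0622
import Groth.Agent.Lib.Helper23.EtGlue2
import Mathlib.AlgebraicGeometry.Morphisms.UniversallyOpen

set_option autoImplicit false
open CategoryTheory CategoryTheory.Limits AlgebraicGeometry Opposite
universe u
open EtCore

namespace Groth.Agent.S0671

open CategoryTheory AlgebraicGeometry Opposite Limits GrothendieckTopology
open Groth.Agent.Lib.Helper23.EtSite Groth.Agent.Lib.Helper23.EtGlue
open Groth.Agent.S0622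

set_option backward.isDefEq.respectTransparency.types false in
set_option backward.isDefEq.respectTransparency false in
lemma isClosed_sectSupp {S : Scheme.{u}} (F : EtCoh.Ab S) (U : S.Etale) (σ : EtCoh.sect F U) :
    IsClosed (EtShriek.sectSupp F U σ) := by
  rw [← isOpen_compl_iff]
  have h : (EtShriek.sectSupp F U σ)ᶜ =
      ⋃ (W : S.Etale) (g : W ⟶ U) (_ : F.obj.map g.op σ = 0), Set.range g.left := by
    ext x
    simp only [EtShriek.sectSupp, Set.mem_compl_iff, Set.mem_setOf_eq, Set.mem_iUnion,
      Set.mem_range]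
    constructor
    · intro hx
      by_contra hcon
      apply hx
      intro W g hw h0
      exact hcon ⟨W, g, h0, hw⟩
    · rintro ⟨W, g, h0, hw⟩ hx
      exact hx W g hw h0
  rw [h]
  exact isOpen_iUnion fun W => isOpen_iUnion fun g => isOpen_iUnion fun _ =>
    (Scheme.Hom.isOpenMap g.left).isOpen_range



set_option backward.isDefEq.respectTransparency.types false in
set_option backward.isDefEq.respectTransparency false in
lemma germ_eq_zero_iff {S : Scheme.{u}} (F : EtCoh.Ab S) {Ω : Type u} [Field Ω] [IsSepClosed Ω]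
    (ξ : Spec (CommRingCat.of Ω) ⟶ S) (U : S.Etale) (x : (Scheme.pointSmallEtale ξ).fiber.obj U)
    (σ : EtCoh.sect F U) :
    (Scheme.pointSmallEtale ξ).toPresheafFiber U x F.obj σ = 0 ↔
      ∃ (W : S.Etale) (g : W ⟶ U) (y : (Scheme.pointSmallEtale ξ).fiber.obj W),
        (Scheme.pointSmallEtale ξ).fiber.map g y = x ∧ F.obj.map g.op σ = 0 := by
  have h0 : (Scheme.pointSmallEtale ξ).toPresheafFiber U x F.obj (0 : F.obj.obj (op U)) = 0 :=
    map_zero _
  rw [← h0, Point.toPresheafFiber_eq_iff']
  constructor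
  · rintro ⟨W, g, y, hy, h⟩
    refine ⟨W, g, y, hy, ?_⟩
    rw [h]; exact map_zero _
  · rintro ⟨W, g, y, hy, h⟩
    refine ⟨W, g, y, hy, ?_⟩
    rw [h]; exact (map_zero _).symm

set_option backward.isDefEq.respectTransparency.types false in
set_option backward.isDefEq.respectTransparency false in
lemma supp_subset {S : Scheme.{u}} (F : EtCoh.Ab S) :
    EtPBC.supp F ⊆ ⋃ (U : S.Etale) (σ : EtCoh.sect F U), U.hom.base '' EtShriek.sectSupp F U σ := by
  rintro x ⟨Ω, _, _, ξ, hξ, hnz⟩
  let Φ := Scheme.pointSmallEtale ξ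
  have hex : ∃ p : ((EtCoh.stalk ξ).obj F : Type (u+1)), p ≠ 0 := by
    by_contra hcon
    push_neg at hcon
    apply hnz
    haveI : Subsingleton ((EtCoh.stalk ξ).obj F : Type (u+1)) :=
      ⟨fun a b => (hcon a).trans (hcon b).symm⟩
    exact AddCommGrpCat.isZero_of_subsingleton _
  obtain ⟨p, hp⟩ := hex
  obtain ⟨U, u, σ, rfl⟩ := Φ.toPresheafFiber_jointly_surjective (P := F.obj) p
  have hxi : ξ (default : Spec (CommRingCat.of Ω)) = x := by
    have : ξ (default : Spec (CommRingCat.of Ω)) ∈ Set.range ξ := ⟨_, rfl⟩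
    rw [hξ] at this
    exact this
  let ul : Spec (CommRingCat.of Ω) ⟶ U.left := u.left
  have hul : ul ≫ U.hom = ξ := Over.w u
  let u₀ : U.left := ul (default : Spec (CommRingCat.of Ω))
  have hu₀ : U.hom u₀ = x := by
    have h1 := congrArg (fun φ : Spec (CommRingCat.of Ω) ⟶ S => φ (default : Spec (CommRingCat.of Ω))) hul
    simp only [Scheme.Hom.comp_apply] at h1
    exact h1.trans hxi
  refine Set.mem_iUnion₂.2 ⟨U, σ, u₀, ?_, hu₀⟩
  intro W g ⟨w, hw⟩ h0
  apply hp
  obtain ⟨l, hl, _⟩ := Scheme.exists_fac_of_etale_of_isSepClosed g.left ul w hw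
  have hgw : g.left ≫ U.hom = W.hom := Over.w g.hom
  let y : Φ.fiber.obj W := Over.homMk l (by
    change l ≫ W.hom = ξ
    rw [← hgw, ← Category.assoc, hl, hul])
  have hy : Φ.fiber.map g y = u := by
    apply Over.OverMorphism.ext
    exact hl
  rw [germ_eq_zero_iff]
  exact ⟨W, g, y, hy, h0⟩


set_option backward.isDefEq.respectTransparency.types false in
set_option backward.isDefEq.respectTransparency false in
lemma subset_supp {S : Scheme.{u}} (F : EtCoh.Ab S) :
    (⋃ (U : S.Etale) (σ : EtCoh.sect F U), U.hom.base '' EtShriek.sectSupp F U σ) ⊆ EtPBC.supp F := by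
  intro x hx
  obtain ⟨U, σ, u₀, hu₀, rfl⟩ := Set.mem_iUnion₂.1 hx
  let Ω := SeparableClosure (U.left.residueField u₀)
  let ul : Spec (CommRingCat.of Ω) ⟶ U.left :=
    Spec.map (CommRingCat.ofHom (algebraMap (U.left.residueField u₀) Ω)) ≫
      U.left.fromSpecResidueField u₀
  have hul : ∀ z, ul z = u₀ := fun z => by
    change (U.left.fromSpecResidueField u₀) _ = u₀
    exact Scheme.fromSpecResidueField_apply u₀ _
  let ξ : Spec (CommRingCat.of Ω) ⟶ S := ul ≫ U.hom
  refine ⟨Ω, inferInstance, inferInstance, ξ, ?_, ?_⟩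
  · ext z
    simp only [Set.mem_range, Set.mem_singleton_iff]
    constructor
    · rintro ⟨a, rfl⟩
      change U.hom (ul a) = _
      rw [hul]
    · rintro rfl
      refine ⟨default, ?_⟩
      change U.hom (ul _) = _
      rw [hul]
  · intro hz
    let Φ := Scheme.pointSmallEtale ξ
    let u : Φ.fiber.obj U := Over.homMk ul rfl
    have h0 : Φ.toPresheafFiber U u F.obj σ = 0 := by
      have hsub : Subsingleton ((Φ.presheafFiber.obj F.obj : AddCommGrpCat.{u+1}) : Type (u+1)) :=
        AddCommGrpCat.subsingleton_of_isZero hz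
      exact @Subsingleton.elim _ hsub _ _
    rw [germ_eq_zero_iff] at h0
    obtain ⟨W, g, y, hy, h⟩ := h0
    let yl : Spec (CommRingCat.of Ω) ⟶ W.left := y.left
    refine hu₀ W g ⟨yl (default : Spec (CommRingCat.of Ω)), ?_⟩ h
    have h1 : yl ≫ g.left = ul := congrArg (fun φ => φ.left) hy
    have h2 := congrArg (fun φ : Spec (CommRingCat.of Ω) ⟶ U.left => φ (default : Spec (CommRingCat.of Ω))) h1
    simp only [Scheme.Hom.comp_apply] at h2
    exact h2.trans (hul _)

/-- For an abelian sheaf F on the small etale site of S and a section σ over an etale S-scheme U, the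
support of σ is a closed subset of U; and a point of S has a nonzero geometric stalk exactly when it
is the image of a point lying in the support of some section over some etale S-scheme. -/
theorem result {S : Scheme.{u}} (F : EtCoh.Ab S) :
    (∀ (U : S.Etale) (σ : EtCoh.sect F U), IsClosed (EtShriek.sectSupp F U σ)) ∧
    EtPBC.supp F = ⋃ (U : S.Etale) (σ : EtCoh.sect F U), U.hom.base '' EtShriek.sectSupp F U σ := by
  exact ⟨fun U σ => isClosed_sectSupp F U σ, Set.Subset.antisymm (supp_subset F) (subset_supp F)⟩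

end Groth.Agent.S0671
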