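import Groth.Statements.S12444
-- import your own Groth.Agent.* helpers here
import Groth.Agent.Lib.Helper26.CatOrder4

set_option autoImplicit false
universe u
open PtTop

namespace Groth.Agent.S12444

/-- A topological space X is catenary if and only if it has an open covering by catenary subspaces
(here: every point has a catenary open neighbourhood); and if X is catenary then so is every locally
closed subspace of X. -/
theorem result (X : Type u) [TopologicalSpace X] :
    (PtTop.IsCatenarySpace X ↔
      ∀ x : X, ∃ U : TopologicalSpace.Opens X, x ∈ U ∧ PtTop.IsCatenarySpace U) ∧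
    (PtTop.IsCatenarySpace X → ∀ S : Set X, IsLocallyClosed S → PtTop.IsCatenarySpace S) := by
  have hcat : ∀ (Y : Type u) [TopologicalSpace Y], PtTop.IsCatenarySpace Y ↔
      Groth.Agent.Lib.Helper24.CatOrd (TopologicalSpace.IrreducibleCloseds Y) := by
    intro Y _
    exact Groth.Agent.Lib.Helper26.CatOrder.cat_iff_catOrd
      (P := TopologicalSpace.IrreducibleCloseds Y)
  have part2 : PtTop.IsCatenarySpace X → ∀ S : Set X, IsLocallyClosed S →
      PtTop.IsCatenarySpace S := by
    intro h S hS
    rw [hcat] at h ⊢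
    exact Groth.Agent.Lib.Helper24.CatOrd.of_orderEmbedding (Groth.Agent.Lib.Helper26.IrrSub.emb S)
      (Groth.Agent.Lib.Helper26.IrrSub.ordConnected_range_emb hS) h
  refine ⟨⟨fun h x => ⟨⊤, trivial, part2 h _ isOpen_univ.isLocallyClosed⟩, fun H => ?_⟩, part2⟩
  rw [hcat]
  apply Groth.Agent.Lib.Helper24.CatOrd.of_cover
  intro p q hpq
  obtain ⟨x, hx⟩ := p.isIrreducible.nonempty
  obtain ⟨U, hxU, hU⟩ := H x
  exact ⟨TopologicalSpace.IrreducibleCloseds U, inferInstance,
    Groth.Agent.Lib.Helper26.IrrSub.emb (U : Set X),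
    Groth.Agent.Lib.Helper26.IrrSub.ordConnected_range_emb U.isOpen.isLocallyClosed,
    (hcat U).1 hU,
    Groth.Agent.Lib.Helper26.IrrSub.mem_range_emb_of_isOpen U.isOpen p hxU hx,
    Groth.Agent.Lib.Helper26.IrrSub.mem_range_emb_of_isOpen U.isOpen q hxU (hpq hx)⟩

end Groth.Agent.S12444
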