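import Groth.Statements.S7577
-- import your own Groth.Agent.* helpers here
import Groth.Agent.Lib.Helper26.CatOrder3

set_option autoImplicit false
universe u
open PtTop

namespace Groth.Agent.S7577

/-- Let X be a sober topological space and δ : X → ℤ a dimension function. Then X is catenary, and for
any specialization x ⤳ y the codimension of the closure of {y} in the closure of {x} equals δ(x) −
δ(y). -/
theorem result {X : Type u} [TopologicalSpace X] [QuasiSober X] [T0Space X]
    (δ : X → ℤ) (hδ : PtTop.IsDimensionFunction δ) :
    PtTop.IsCatenarySpace X ∧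
    ∀ x y : X, x ⤳ y →
      PtTop.codim (⟨closure {y}, isIrreducible_singleton.closure, isClosed_closure⟩ : TopologicalSpace.IrreducibleCloseds X)
        (closure {x}) = ((δ x - δ y).toNat : ℕ∞) := by
  classical
  let gp : TopologicalSpace.IrreducibleCloseds X → X := fun Z => Z.isIrreducible'.genericPoint
  have hgp : ∀ Z : TopologicalSpace.IrreducibleCloseds X, closure {gp Z} = (Z : Set X) :=
    fun Z => Z.isIrreducible'.closure_genericPoint Z.isClosed'
  let d : TopologicalSpace.IrreducibleCloseds X → ℤ := fun Z => δ (gp Z)
  have hspec : ∀ Z Z' : TopologicalSpace.IrreducibleCloseds X, Z ≤ Z' → gp Z' ⤳ gp Z := by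
    intro Z Z' h
    rw [specializes_iff_closure_subset, hgp, hgp]
    exact h
  have hinj : ∀ Z Z' : TopologicalSpace.IrreducibleCloseds X, gp Z = gp Z' → Z = Z' := by
    intro Z Z' h
    apply SetLike.coe_injective
    rw [← hgp Z, ← hgp Z', h]
  have hmono : ∀ a b : TopologicalSpace.IrreducibleCloseds X, a < b → d a < d b := by
    intro a b hab
    exact hδ.1 (gp b) (gp a) (hspec a b hab.le) (fun h => hab.ne (hinj _ _ h.symm))
  have hcov : ∀ a b : TopologicalSpace.IrreducibleCloseds X, a ⋖ b → d b = d a + 1 := by
    intro a b hab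
    apply hδ.2
    refine ⟨hspec a b hab.le, fun h => hab.lt.ne (hinj _ _ h.symm), fun z hz1 hz2 => ?_⟩
    let W : TopologicalSpace.IrreducibleCloseds X :=
      ⟨closure {z}, isIrreducible_singleton.closure, isClosed_closure⟩
    have hW1 : a ≤ W := by
      show (a : Set X) ⊆ closure {z}
      rw [← hgp a]
      exact specializes_iff_closure_subset.1 hz2
    have hW2 : W ≤ b := by
      show closure {z} ⊆ (b : Set X)
      rw [← hgp b]
      exact specializes_iff_closure_subset.1 hz1
    have hW : W = a ∨ W = b := by
      rcases eq_or_lt_of_le hW1 with h | h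
      · exact Or.inl h.symm
      · rcases eq_or_lt_of_le hW2 with h' | h'
        · exact Or.inr h'
        · exact absurd h' (hab.2 h)
    rcases hW with h | h
    · right
      have h1 : IsGenericPoint z (a : Set X) :=
        congrArg (fun W : TopologicalSpace.IrreducibleCloseds X => (W : Set X)) h
      exact IsGenericPoint.eq h1 (hgp a)
    · left
      have h1 : IsGenericPoint z (b : Set X) :=
        congrArg (fun W : TopologicalSpace.IrreducibleCloseds X => (W : Set X)) h
      exact IsGenericPoint.eq h1 (hgp b)
  have hcod : ∀ Y Y' : TopologicalSpace.IrreducibleCloseds X,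
      PtTop.codim Y (Y' : Set X) = Groth.Agent.Lib.Helper26.CatOrder.cod Y Y' := fun Y Y' => rfl
  constructor
  · unfold PtTop.IsCatenarySpace
    simp only [hcod]
    exact Groth.Agent.Lib.Helper26.CatOrder.catenary_of_dimfun hmono hcov
  · intro x y hxy
    let Zx : TopologicalSpace.IrreducibleCloseds X :=
      ⟨closure {x}, isIrreducible_singleton.closure, isClosed_closure⟩
    let Zy : TopologicalSpace.IrreducibleCloseds X :=
      ⟨closure {y}, isIrreducible_singleton.closure, isClosed_closure⟩
    have hle : Zy ≤ Zx := specializes_iff_closure_subset.1 hxy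
    have hgx : gp Zx = x := IsGenericPoint.eq (hgp Zx) (rfl : closure {x} = (Zx : Set X))
    have hgy : gp Zy = y := IsGenericPoint.eq (hgp Zy) (rfl : closure {y} = (Zy : Set X))
    have := Groth.Agent.Lib.Helper26.CatOrder.cod_eq_of_dimfun hmono hcov hle
    show PtTop.codim Zy (Zx : Set X) = _
    rw [hcod, this]
    show (((δ (gp Zx) - δ (gp Zy)).toNat : ℕ) : ℕ∞) = _
    rw [hgx, hgy]

end Groth.Agent.S7577
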