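import Groth.Statements.S12519
import Groth.Agent.Lib.Helper24.FFExt.Quad
import Groth.Agent.Lib.Helper24.FFExt.RatPlace

set_option autoImplicit false
open FunFld

namespace Groth.Agent.S12519

open Groth.Agent.Lib.Helper24.FFExt Groth.Agent.Lib.Helper18.FF in
theorem main (k K : Type*) [Field k] [Field K] [PerfectField k] (h2 : ringChar k = 2)
    [Algebra k K] [Algebra (RatFunc k) K] [IsScalarTower k (RatFunc k) K]
    (hdeg : Module.finrank (RatFunc k) K = 2) [Algebra.IsSeparable (RatFunc k) K]
    (y : K) (hy : y ∉ Set.range (algebraMap (RatFunc k) K))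
    (f : RatFunc k) (heq : y ^ 2 + y = algebraMap (RatFunc k) K f)
    (P₀ : FunFld.Place k (RatFunc k)) :
    ((P₀.ord f < 0 ∧ Odd (P₀.ord f)) → (∃! P : FunFld.Place k K, FunFld.IsOver P P₀) ∧
      ∀ P : FunFld.Place k K, FunFld.IsOver P P₀ → FunFld.IsOverWith P P₀ 2 ∧ P.deg = P₀.deg) ∧
    (0 ≤ P₀.ord f → ∀ P : FunFld.Place k K, FunFld.IsOver P P₀ → FunFld.IsOverWith P P₀ 1) := by
  classical
  have hK₀ : FunFld.IsFunctionField k (RatFunc k) := isFunctionField_ratFunc
  haveI : FiniteDimensional (RatFunc k) K := Module.finite_of_finrank_pos (by rw [hdeg]; norm_num)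
  constructor
  · rintro ⟨hneg, hodd⟩
    have hf0 : f ≠ 0 := by
      rintro rfl
      rw [ord_zero] at hneg
      exact lt_irrefl _ hneg
    have heven : ∀ P : FunFld.Place k K, FunFld.IsOver P P₀ → 2 ≤ FunFld.ramIdx P P₀ := by
      intro P hP
      have he := isOver_isOverWith_ramIdx hP
      have h1 := isOverWith_ord_eq he f
      have hpos := isOver_ramIdx_pos hP
      have hfK0 : algebraMap (RatFunc k) K f ≠ 0 := (map_ne_zero _).mpr hf0
      have hordneg : P.ord (algebraMap (RatFunc k) K f) < 0 := by
        rw [h1]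
        have : (0 : ℤ) < (FunFld.ramIdx P P₀ : ℤ) := by exact_mod_cast hpos
        nlinarith
      have hPf : 1 < P.1 (algebraMap (RatFunc k) K f) := (one_lt_val_iff_ord_neg P hfK0).mpr hordneg
      have hPy : 1 < P.1 y := by
        by_contra hle
        push Not at hle
        have : P.1 (y ^ 2 + y) ≤ 1 := by
          refine (P.1.map_add _ _).trans (max_le ?_ hle)
          rw [map_pow]
          exact pow_le_one₀ zero_le hle
        rw [heq] at this
        exact absurd hPf (not_lt.mpr this)
      have hy0 : y ≠ 0 := by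
        rintro rfl
        rw [map_zero] at hPy
        exact absurd hPy (by simp)
      have hlt : P.1 y < P.1 (y ^ 2) := by
        rw [map_pow, pow_two]
        have h0 : 0 < P.1 y := zero_lt_one.trans hPy
        calc P.1 y = P.1 y * 1 := (mul_one _).symm
          _ < P.1 y * P.1 y := mul_lt_mul_of_pos_left hPy h0
      have hval : P.1 (y ^ 2 + y) = P.1 (y ^ 2) := Valuation.map_add_eq_of_lt_left _ hlt
      have hord : P.ord (y ^ 2 + y) = 2 * P.ord y := by
        unfold FunFld.Place.ord
        rw [hval, map_pow, WithZero.log_pow, nsmul_eq_mul]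
        push_cast
        ring
      rw [← heq, hord] at h1
      obtain ⟨m, hm⟩ := hodd
      by_contra hlt2
      have h1' : FunFld.ramIdx P P₀ = 1 := by omega
      rw [h1', hm] at h1
      push_cast at h1
      omega
    exact unique_of_forall_two_le (K' := K) hK₀ hdeg P₀ heven
  · intro hnonneg P hP
    have hP0f : P₀.1 f ≤ 1 := by
      rcases eq_or_ne f 0 with rfl | hf0
      · simp
      · exact (val_le_one_iff_ord_nonneg P₀ hf0).mpr hnonneg
    have hPf : P.1 (algebraMap (RatFunc k) K f) ≤ 1 := (isOver_le_one_iff hP f).mpr hP0f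
    have hPy : P.1 y ≤ 1 := by
      by_contra hlt
      push Not at hlt
      have hlt' : P.1 y < P.1 (y ^ 2) := by
        rw [map_pow, pow_two]
        have h0 : 0 < P.1 y := zero_lt_one.trans hlt
        calc P.1 y = P.1 y * 1 := (mul_one _).symm
          _ < P.1 y * P.1 y := mul_lt_mul_of_pos_left hlt h0
      have hval : P.1 (y ^ 2 + y) = P.1 (y ^ 2) := Valuation.map_add_eq_of_lt_left _ hlt'
      rw [heq, map_pow] at hval
      have : 1 < P.1 y ^ 2 := one_lt_pow₀ hlt two_ne_zero
      rw [← hval] at this
      exact absurd hPf (not_le.mpr this)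
    obtain ⟨σ, hσ⟩ := exists_algEquiv_ne hdeg hy
    have h2K : (2 : K) = 0 := by
      have h2k : (2 : k) = 0 := by
        have := ringChar.spec k 2
        have h3 : ((2 : ℕ) : k) = 0 := this.mpr (by rw [h2])
        exact_mod_cast h3
      have : (2 : K) = algebraMap k K 2 := by rw [map_ofNat]
      rw [this, h2k, map_zero]
    have h1 : (σ y) ^ 2 + σ y = y ^ 2 + y := by
      rw [← map_pow, ← map_add, heq, σ.commutes]
    have h3 : (σ y - y) * (σ y + y + 1) = 0 := by linear_combination h1
    have h4 : σ y - y = -1 := by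
      rcases mul_eq_zero.mp h3 with h | h
      · exact absurd (sub_eq_zero.mp h) hσ
      · linear_combination h - y * h2K
    refine isOverWith_one_of_quadratic hK₀ hdeg hP σ y hPy ?_
    rw [h4, Valuation.map_neg, map_one]

/-- Let `k` be perfect of characteristic `2`, `K` separable of degree `2` over `k(x)`, and `y ∈ K \
k(x)` with `y² + y = f(x)`. At a place `p` of `k(x)/k` where `f` has a pole of odd order there is a
unique place `P` of `K` above `p`, with `e(P|p) = 2` and `deg P = deg p` (residue degree `1`); at a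
place where `f` has no pole, every place of `K` above it is unramified. The different is not stated. -/
theorem result (k K : Type*) [Field k] [Field K] [PerfectField k] (h2 : ringChar k = 2)
    [Algebra k K] [Algebra (RatFunc k) K] [IsScalarTower k (RatFunc k) K]
    (hdeg : Module.finrank (RatFunc k) K = 2) [Algebra.IsSeparable (RatFunc k) K]
    (y : K) (hy : y ∉ Set.range (algebraMap (RatFunc k) K))
    (f : RatFunc k) (heq : y ^ 2 + y = algebraMap (RatFunc k) K f)
    (P₀ : FunFld.Place k (RatFunc k)) :
    ((P₀.ord f < 0 ∧ Odd (P₀.ord f)) → (∃! P : FunFld.Place k K, FunFld.IsOver P P₀) ∧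
      ∀ P : FunFld.Place k K, FunFld.IsOver P P₀ → FunFld.IsOverWith P P₀ 2 ∧ P.deg = P₀.deg) ∧
    (0 ≤ P₀.ord f → ∀ P : FunFld.Place k K, FunFld.IsOver P P₀ → FunFld.IsOverWith P P₀ 1) :=
  main k K h2 hdeg y hy f heq P₀

end Groth.Agent.S12519
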