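import Groth.Statements.S11034
import Groth.Agent.Lib.Helper24.FFExt.Over
import Groth.Agent.Lib.Helper24.FFExt.RatPlace

set_option autoImplicit false
open FunFld

namespace Groth.Agent.S11034

open Groth.Agent.Lib.Helper24.FFExt Groth.Agent.Lib.Helper18.FF in
theorem main (k K : Type*) [Field k] [Field K] (h2 : ringChar k ≠ 2) [Algebra k K]
    [Algebra (RatFunc k) K] [IsScalarTower k (RatFunc k) K]
    (hdeg : Module.finrank (RatFunc k) K = 2) (y : K) (f : Polynomial k) (hf : Squarefree f)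
    (hd : 1 ≤ f.natDegree)
    (heq : y ^ 2 = algebraMap (RatFunc k) K (algebraMap (Polynomial k) (RatFunc k) f))
    (p : Polynomial k) (hp : Irreducible p) (hpf : p ∣ f)
    (P₀ : FunFld.Place k (RatFunc k)) (hP₀ : P₀.1 (algebraMap (Polynomial k) (RatFunc k) p) < 1) :
    (∃! P : FunFld.Place k K, FunFld.IsOver P P₀) ∧
    ∀ P : FunFld.Place k K, FunFld.IsOver P P₀ → FunFld.IsOverWith P P₀ 2 ∧ P.deg = P₀.deg := by
  classical
  have hK₀ : FunFld.IsFunctionField k (RatFunc k) := isFunctionField_ratFunc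
  haveI : FiniteDimensional (RatFunc k) K := Module.finite_of_finrank_pos (by rw [hdeg]; norm_num)
  have hordf : P₀.ord (algebraMap (Polynomial k) (RatFunc k) f) = 1 :=
    ord_squarefree_eq P₀ hp hP₀ hf hpf
  have hf0 : f ≠ 0 := hf.ne_zero
  have hy0 : y ≠ 0 := by
    rintro rfl
    rw [zero_pow two_ne_zero] at heq
    have := (map_eq_zero (algebraMap (RatFunc k) K)).mp heq.symm
    exact RatFunc.algebraMap_ne_zero hf0 this
  have hfin := finite_isOver (K' := K) hK₀ P₀
  have hsum := sum_ramIdx_mul_deg (K' := K) hK₀ P₀ hfin.toFinset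
    (fun Q => Set.Finite.mem_toFinset hfin)
  rw [hdeg] at hsum
  have hdeg0 := deg_pos hK₀ P₀
  -- every place above has even ramification index
  have heven : ∀ P : FunFld.Place k K, FunFld.IsOver P P₀ → 2 ≤ FunFld.ramIdx P P₀ := by
    intro P hP
    have he := isOver_isOverWith_ramIdx hP
    have h1 := isOverWith_ord_eq he (algebraMap (Polynomial k) (RatFunc k) f)
    rw [← heq, pow_two, ord_mul P hy0 hy0, hordf, mul_one] at h1
    have hpos := isOver_ramIdx_pos hP
    omega
  have hterm : ∀ P : FunFld.Place k K, FunFld.IsOver P P₀ →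
      2 * P₀.deg ≤ FunFld.ramIdx P P₀ * P.deg := by
    intro P hP
    exact Nat.mul_le_mul (heven P hP) (deg_le_deg hK₀ hP)
  have hmain : ∀ P : FunFld.Place k K, FunFld.IsOver P P₀ →
      FunFld.IsOverWith P P₀ 2 ∧ P.deg = P₀.deg := by
    intro P hP
    have hmem : P ∈ hfin.toFinset := (Set.Finite.mem_toFinset hfin).mpr hP
    have h1 : FunFld.ramIdx P P₀ * P.deg ≤ 2 * P₀.deg := by
      rw [← hsum]
      exact Finset.single_le_sum (f := fun Q => FunFld.ramIdx Q P₀ * Q.deg)
        (fun _ _ => Nat.zero_le _) hmem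
    have h2 := heven P hP
    have h3 := deg_le_deg hK₀ hP
    have h4 : 2 * P.deg ≤ FunFld.ramIdx P P₀ * P.deg := Nat.mul_le_mul_right _ h2
    have h5 : P.deg = P₀.deg := by omega
    have h6 : FunFld.ramIdx P P₀ = 2 := by
      have h7 : FunFld.ramIdx P P₀ * P.deg = 2 * P.deg := by omega
      exact Nat.eq_of_mul_eq_mul_right (by omega) h7
    refine ⟨?_, h5⟩
    rw [← h6]
    exact isOver_isOverWith_ramIdx hP
  refine ⟨?_, hmain⟩
  obtain ⟨P, hP⟩ := exists_place_over (K' := K) hK₀ P₀
  refine ⟨P, hP, fun P' hP' => ?_⟩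
  by_contra hne
  have hsub : ({P, P'} : Finset (FunFld.Place k K)) ⊆ hfin.toFinset := by
    intro Q hQ
    rw [Finset.mem_insert, Finset.mem_singleton] at hQ
    rcases hQ with rfl | rfl
    · exact (Set.Finite.mem_toFinset hfin).mpr hP
    · exact (Set.Finite.mem_toFinset hfin).mpr hP'
  have h1 := Finset.sum_le_sum_of_subset (f := fun Q => FunFld.ramIdx Q P₀ * Q.deg) hsub
  rw [Finset.sum_pair (Ne.symm hne), hsum] at h1
  have h2 := hterm P hP
  have h3 := hterm P' hP'
  omega


/-- For `char k ≠ 2` and `K = k(x, y)`, `y² = f(x)` with `f` squarefree, each irreducible factor `p` of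
`f` has a unique place `P` of `K` above it, with `e(P|p) = 2`, `f(P|p) = 1` and `deg P = deg p`. The
zero divisor of `y` and the behaviour above the infinite place of `k(x)` are not stated. -/
theorem result (k K : Type*) [Field k] [Field K] (h2 : ringChar k ≠ 2) [Algebra k K]
    [Algebra (RatFunc k) K] [IsScalarTower k (RatFunc k) K]
    (hdeg : Module.finrank (RatFunc k) K = 2) (y : K) (f : Polynomial k) (hf : Squarefree f)
    (hd : 1 ≤ f.natDegree)
    (heq : y ^ 2 = algebraMap (RatFunc k) K (algebraMap (Polynomial k) (RatFunc k) f))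
    (p : Polynomial k) (hp : Irreducible p) (hpf : p ∣ f)
    (P₀ : FunFld.Place k (RatFunc k)) (hP₀ : P₀.1 (algebraMap (Polynomial k) (RatFunc k) p) < 1) :
    (∃! P : FunFld.Place k K, FunFld.IsOver P P₀) ∧
    ∀ P : FunFld.Place k K, FunFld.IsOver P P₀ → FunFld.IsOverWith P P₀ 2 ∧ P.deg = P₀.deg :=
  main k K h2 hdeg y f hf hd heq p hp hpf P₀ hP₀

end Groth.Agent.S11034
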