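import Groth.Statements.S12516
import Groth.Agent.Lib.Helper24.FFExt.Hyper
import Groth.Agent.Lib.Helper24.FFExt.Conorm

set_option autoImplicit false
open FunFld

namespace Groth.Agent.S12516

open Groth.Agent.Lib.Helper24.FFExt Groth.Agent.Lib.Helper18.FF in
theorem main (k K : Type*) [Field k] [Field K] (h2 : ringChar k ≠ 2) [Algebra k K]
    [Algebra (RatFunc k) K] [IsScalarTower k (RatFunc k) K]
    (hdeg : Module.finrank (RatFunc k) K = 2) (y : K) (f : Polynomial k) (hf : Squarefree f)
    (hd : 1 ≤ f.natDegree)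
    (heq : y ^ 2 = algebraMap (RatFunc k) K (algebraMap (Polynomial k) (RatFunc k) f))
    (Pinf : FunFld.Place k (RatFunc k)) (hinf : Pinf.ord (RatFunc.X : RatFunc k) < 0) :
    (Odd f.natDegree → (∃! P : FunFld.Place k K, FunFld.IsOver P Pinf) ∧
      ∀ P : FunFld.Place k K, FunFld.IsOver P Pinf → FunFld.IsOverWith P Pinf 2 ∧ P.deg = 1) ∧
    (Even f.natDegree → (FunFld.conorm K (Finsupp.single Pinf 1)).deg = 2 ∧
      ∀ P : FunFld.Place k K, FunFld.IsOver P Pinf → FunFld.IsOverWith P Pinf 1) := by
  classical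
  have hK₀ : FunFld.IsFunctionField k (RatFunc k) := isFunctionField_ratFunc
  haveI : FiniteDimensional (RatFunc k) K := Module.finite_of_finrank_pos (by rw [hdeg]; norm_num)
  have hinf' : 1 < Pinf.1 RatFunc.X := one_lt_val_X_of_ord_neg Pinf hinf
  have hf0 : f ≠ 0 := hf.ne_zero
  have hordf : Pinf.ord (algebraMap (Polynomial k) (RatFunc k) f) = -(f.natDegree : ℤ) :=
    ord_poly_inf Pinf hinf' hf0
  have hdegP : Pinf.deg = 1 := deg_inf Pinf hinf'
  have hy0 : y ≠ 0 := by
    rintro rfl
    rw [zero_pow two_ne_zero] at heq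
    have := (map_eq_zero (algebraMap (RatFunc k) K)).mp heq.symm
    exact RatFunc.algebraMap_ne_zero hf0 this
  constructor
  · intro hodd
    have heven : ∀ P : FunFld.Place k K, FunFld.IsOver P Pinf → 2 ≤ FunFld.ramIdx P Pinf := by
      intro P hP
      have he := isOver_isOverWith_ramIdx hP
      have h1 := isOverWith_ord_eq he (algebraMap (Polynomial k) (RatFunc k) f)
      rw [← heq, pow_two, ord_mul P hy0 hy0, hordf] at h1
      have hpos := isOver_ramIdx_pos hP
      obtain ⟨m, hm⟩ := hodd
      by_contra hlt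
      have h1' : FunFld.ramIdx P Pinf = 1 := by omega
      rw [h1', hm] at h1
      push_cast at h1
      omega
    have := unique_of_forall_two_le (K' := K) hK₀ hdeg Pinf heven
    rw [hdegP] at this
    exact this
  · intro hev
    obtain ⟨m, hm⟩ := hev
    constructor
    · rw [deg_conorm hK₀, hdeg, deg_single, hdegP]
      norm_num
    · intro P hP
      obtain ⟨σ, hσ⟩ := hyper_exists_involution h2 hdeg hf hd heq
      set Xk : K := algebraMap (RatFunc k) K RatFunc.X with hXk
      have hXk0 : Xk ≠ 0 := (map_ne_zero _).mpr RatFunc.X_ne_zero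
      set w : K := y * (Xk ^ m)⁻¹ with hw
      have he := isOver_isOverWith_ramIdx hP
      have hPX0 : P.1 Xk ≠ 0 := (Valuation.ne_zero_iff _).mpr hXk0
      have hw2 : P.1 w ^ 2 = 1 := by
        rw [hw, map_mul, map_inv₀, map_pow, mul_pow, ← map_pow, heq, he, inv_pow, ← pow_mul,
          val_poly_inf Pinf hinf' hf0, hXk, he, ← pow_mul, ← pow_mul, hm]
        have h0 : Pinf.1 RatFunc.X ≠ 0 := (zero_lt_one.trans hinf').ne'
        rw [show (m + m) * FunFld.ramIdx P Pinf = FunFld.ramIdx P Pinf * (m * 2) by ring]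
        exact mul_inv_cancel₀ (pow_ne_zero _ h0)
      have hw1 : P.1 w = 1 := (pow_eq_one_iff_of_nonneg zero_le two_ne_zero).mp hw2
      have hσw : σ w = -w := by
        rw [hw, map_mul, map_inv₀, map_pow, hσ, hXk, σ.commutes]
        ring
      have h2k : (2 : k) ≠ 0 := Ring.two_ne_zero h2
      have hP2 : P.1 (2 : K) = 1 := by
        have : (2 : K) = algebraMap k K 2 := by rw [map_ofNat]
        rw [this]
        exact val_algebraMap P h2k
      refine isOverWith_one_of_quadratic hK₀ hdeg hP σ w hw1.le ?_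
      rw [hσw, show -w - w = -(2 * w) by ring, Valuation.map_neg, map_mul, hP2, hw1, mul_one]

/-- Let `char k ≠ 2`, `K` of degree `2` over `k(x)`, `y ∈ K` with `y² = f(x)` for a squarefree
polynomial `f` of degree `≥ 1`, and `P∞` the place of `k(x)` at which `x` has a pole. If `deg f` is
odd there is a unique place of `K` above `P∞`; it has ramification index `2` and degree `1`. If `deg
f` is even, every place of `K` above `P∞` is unramified and the conorm of `P∞` has degree `2` (so it
is one place of degree `2` or the sum of two places of degree `1`). -/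
theorem result (k K : Type*) [Field k] [Field K] (h2 : ringChar k ≠ 2) [Algebra k K]
    [Algebra (RatFunc k) K] [IsScalarTower k (RatFunc k) K]
    (hdeg : Module.finrank (RatFunc k) K = 2) (y : K) (f : Polynomial k) (hf : Squarefree f)
    (hd : 1 ≤ f.natDegree)
    (heq : y ^ 2 = algebraMap (RatFunc k) K (algebraMap (Polynomial k) (RatFunc k) f))
    (Pinf : FunFld.Place k (RatFunc k)) (hinf : Pinf.ord (RatFunc.X : RatFunc k) < 0) :
    (Odd f.natDegree → (∃! P : FunFld.Place k K, FunFld.IsOver P Pinf) ∧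
      ∀ P : FunFld.Place k K, FunFld.IsOver P Pinf → FunFld.IsOverWith P Pinf 2 ∧ P.deg = 1) ∧
    (Even f.natDegree → (FunFld.conorm K (Finsupp.single Pinf 1)).deg = 2 ∧
      ∀ P : FunFld.Place k K, FunFld.IsOver P Pinf → FunFld.IsOverWith P Pinf 1) :=
  main k K h2 hdeg y f hf hd heq Pinf hinf

end Groth.Agent.S12516
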