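import Groth.Statements.S12535
import Groth.Agent.S11034
import Groth.Agent.Lib.Helper24.FFExt.Under

set_option autoImplicit false
open FunFld

namespace Groth.Agent.S12535

open Polynomial Groth.Agent.Lib.Helper24.FFExt Groth.Agent.Lib.Helper18.FF in
theorem exists_irreducible_dvd_val_lt_one {k : Type*} [Field k] (P₀ : FunFld.Place k (RatFunc k)) :
    ∀ f : k[X], f ≠ 0 → P₀.1 (algebraMap k[X] (RatFunc k) f) < 1 →
      ∃ p : k[X], Irreducible p ∧ p ∣ f ∧ P₀.1 (algebraMap k[X] (RatFunc k) p) < 1 := by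
  intro f
  induction f using UniqueFactorizationMonoid.induction_on_prime with
  | h₁ => intro h; exact absurd rfl h
  | h₂ x hx =>
    intro _ hlt
    exfalso
    obtain ⟨c, hc, rfl⟩ := Polynomial.isUnit_iff.mp hx
    have hc0 : c ≠ 0 := hc.ne_zero
    have : algebraMap k[X] (RatFunc k) (C c) = algebraMap k (RatFunc k) c := by
      rw [RatFunc.algebraMap_eq_C]; rfl
    rw [this, val_algebraMap P₀ hc0] at hlt
    exact lt_irrefl _ hlt
  | h₃ a p ha hp ih =>
    intro _ hlt
    rw [map_mul, map_mul] at hlt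
    by_cases hpl : P₀.1 (algebraMap k[X] (RatFunc k) p) < 1
    · exact ⟨p, hp.irreducible, dvd_mul_right p a, hpl⟩
    · push Not at hpl
      have hal : P₀.1 (algebraMap k[X] (RatFunc k) a) < 1 := by
        by_contra hcon
        push Not at hcon
        exact absurd hlt (not_lt.mpr (one_le_mul_of_one_le_of_one_le hpl hcon))
      obtain ⟨q, hq, hqa, hql⟩ := ih ha hal
      exact ⟨q, hq, dvd_mul_of_dvd_right hqa p, hql⟩

open Polynomial Groth.Agent.Lib.Helper24.FFExt Groth.Agent.Lib.Helper18.FF in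
theorem main (k K : Type*) [Field k] [Field K] (h2 : ringChar k ≠ 2) [Algebra k K]
    [Algebra (RatFunc k) K] [IsScalarTower k (RatFunc k) K]
    (hdeg : Module.finrank (RatFunc k) K = 2) (y : K) (f : Polynomial k) (hf : Squarefree f)
    (hd : 1 ≤ f.natDegree)
    (heq : y ^ 2 = algebraMap (RatFunc k) K (algebraMap (Polynomial k) (RatFunc k) f)) (P : FunFld.Place k K) :
    (0 < P.ord y → P.ord y = 1) ∧
    (0 < P.ord y ↔ ∃ P₀ : FunFld.Place k (RatFunc k), FunFld.IsOver P P₀ ∧ 0 ≤ P₀.ord (RatFunc.X : RatFunc k) ∧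
      0 < P₀.ord (algebraMap (Polynomial k) (RatFunc k) f)) := by
  classical
  have hK₀ : FunFld.IsFunctionField k (RatFunc k) := isFunctionField_ratFunc
  haveI : FiniteDimensional (RatFunc k) K := Module.finite_of_finrank_pos (by rw [hdeg]; norm_num)
  have hf0 : f ≠ 0 := hf.ne_zero
  have hfR0 : algebraMap k[X] (RatFunc k) f ≠ 0 := RatFunc.algebraMap_ne_zero hf0
  have hy0 : y ≠ 0 := by
    rintro rfl
    rw [zero_pow two_ne_zero] at heq
    have := (map_eq_zero (algebraMap (RatFunc k) K)).mp heq.symm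
    exact hfR0 this
  have hkey : ∀ (P₀ : FunFld.Place k (RatFunc k)) (e : ℕ), FunFld.IsOverWith P P₀ e →
      2 * P.ord y = e * P₀.ord (algebraMap k[X] (RatFunc k) f) := by
    intro P₀ e he
    have h1 := isOverWith_ord_eq he (algebraMap (Polynomial k) (RatFunc k) f)
    rw [← heq, pow_two, ord_mul P hy0 hy0] at h1
    linarith
  obtain ⟨P₀, hP₀⟩ := exists_isOver (K := RatFunc k) (K' := K) hK₀ P
  have he := isOver_isOverWith_ramIdx hP₀
  have hepos := isOver_ramIdx_pos hP₀
  have h1 := hkey P₀ _ he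
  have hX0 : (RatFunc.X : RatFunc k) ≠ 0 := RatFunc.X_ne_zero
  have hfpos : 0 < P.ord y → 0 < P₀.ord (algebraMap k[X] (RatFunc k) f) := by
    intro hy
    have h3 : (0 : ℤ) < (FunFld.ramIdx P P₀ : ℤ) := by exact_mod_cast hepos
    have h4 : 0 < (FunFld.ramIdx P P₀ : ℤ) * P₀.ord (algebraMap k[X] (RatFunc k) f) := by
      rw [← h1]; linarith
    exact pos_of_mul_pos_left (by rwa [mul_comm] at h4) h3.le
  refine ⟨fun hy => ?_, ⟨fun hy => ?_, ?_⟩⟩
  · have hfp := hfpos hy
    have hlt : P₀.1 (algebraMap k[X] (RatFunc k) f) < 1 := (val_lt_one_iff_ord_pos P₀ hfR0).mpr hfp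
    obtain ⟨p, hp, hpf, hpl⟩ := exists_irreducible_dvd_val_lt_one P₀ f hf0 hlt
    have h5 := (Groth.Agent.S11034.main k K h2 hdeg y f hf hd heq p hp hpf P₀ hpl).2 P hP₀
    have h6 : FunFld.ramIdx P P₀ = 2 := isOverWith_ramIdx_eq h5.1
    have h7 : P₀.ord (algebraMap k[X] (RatFunc k) f) = 1 := ord_squarefree_eq P₀ hp hpl hf hpf
    rw [h6, h7] at h1
    push_cast at h1
    linarith
  · have hfp := hfpos hy
    have hlt : P₀.1 (algebraMap k[X] (RatFunc k) f) < 1 := (val_lt_one_iff_ord_pos P₀ hfR0).mpr hfp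
    refine ⟨P₀, hP₀, ?_, hfp⟩
    exact (val_le_one_iff_ord_nonneg P₀ hX0).mp (val_X_le_one_of_val_poly_lt_one P₀ hf0 hlt)
  · rintro ⟨P₀', hP₀', -, hfp⟩
    have he' := isOver_isOverWith_ramIdx hP₀'
    have hepos' := isOver_ramIdx_pos hP₀'
    have h1' := hkey P₀' _ he'
    have h3 : (0 : ℤ) < (FunFld.ramIdx P P₀' : ℤ) := by exact_mod_cast hepos'
    have := mul_pos h3 hfp
    linarith

/-- Let `char k ≠ 2`, `K` of degree `2` over `k(x)`, and `y ∈ K` with `y² = f(x)`, `f` a squarefree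
polynomial of degree `≥ 1`. Then a place `P` of `K` is a zero of `y` exactly when it lies over a
finite place of `k(x)` where `f` has a zero, and in that case `ord_P(y) = 1`: the divisor of zeros
of `y` is `Σ P_i`, one place over each irreducible factor of `f`, with multiplicity one. -/
theorem result (k K : Type*) [Field k] [Field K] (h2 : ringChar k ≠ 2) [Algebra k K]
    [Algebra (RatFunc k) K] [IsScalarTower k (RatFunc k) K]
    (hdeg : Module.finrank (RatFunc k) K = 2) (y : K) (f : Polynomial k) (hf : Squarefree f)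
    (hd : 1 ≤ f.natDegree)
    (heq : y ^ 2 = algebraMap (RatFunc k) K (algebraMap (Polynomial k) (RatFunc k) f)) (P : FunFld.Place k K) :
    (0 < P.ord y → P.ord y = 1) ∧
    (0 < P.ord y ↔ ∃ P₀ : FunFld.Place k (RatFunc k), FunFld.IsOver P P₀ ∧ 0 ≤ P₀.ord (RatFunc.X : RatFunc k) ∧
      0 < P₀.ord (algebraMap (Polynomial k) (RatFunc k) f)) :=
  main k K h2 hdeg y f hf hd heq P

end Groth.Agent.S12535
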