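import Groth.Statements.S0353
import Groth.Agent.Lib.Helper4.CartierFinal
import Groth.Agent.Lib.Helper4.RedNbhd
import Groth.Agent.Lib.Helper4.GrpSmooth2

set_option autoImplicit false
universe u v
open CategoryTheory MonoidalCategory CartesianMonoidalCategory MonObj GrpObj AlgebraicGeometry
open GrpSch

namespace Groth.Agent.S0353

/-- A group scheme locally of finite type over a field of characteristic zero is smooth over the field. -/
theorem result (K : Type u) [Field K] (G : Over (Spec (CommRingCat.of K))) [GrpObj G] [CharZero K] [LocallyOfFiniteType G.hom] : Smooth G.hom := by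
  have : PerfectField K := PerfectField.ofCharZero
  have hred : _root_.IsReduced (G.left.presheaf.stalk (Groth.Agent.Lib.Helper4.CartierGeom.unitPt G)) :=
    Groth.Agent.Lib.Helper4.CartierFinal.isReduced_stalk_unitPt G
  have hne := Groth.Agent.Lib.Helper4.RedNbhd.nonempty_smoothLocus_of_isReduced_stalk G.hom
    (Groth.Agent.Lib.Helper4.CartierGeom.unitPt G)
  haveI : GrpObj (Over.mk G.hom) := (inferInstance : GrpObj G)
  exact Groth.Agent.Lib.Helper4.GrpSmooth2.smooth_of_nonempty_smoothLocus_field G.hom hne

end Groth.Agent.S0353
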