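import Groth.Statements.S5375
import Groth.Agent.Lib.Helper26.CoalgFin
import Groth.Agent.Lib.Helper26.ComodRInt
import Groth.Agent.Lib.Helper23.Reynolds
import Mathlib.RingTheory.HopfAlgebra.Convolution
-- import your own Groth.Agent.* helpers here

set_option autoImplicit false
universe u
open CategoryTheory CategoryTheory.Limits MonoidalCategory CartesianMonoidalCategory MonObj GrpObj AlgebraicGeometry
open SGA3

namespace Groth.Agent.S5375

open TensorProduct Groth.Agent.Lib.Helper26.Comod Groth.Agent.Lib.Helper23

/-- Let A be a commutative Hopf algebra over a field k (an affine k-group, not necessarily of finite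
type) and x an element of A. Then there is a subalgebra B of A of finite type over k containing x
which is a sub-Hopf-algebra: the comultiplication sends B into B ⊗ B and the antipode preserves B. -/
theorem result (k : Type u) [Field k] (A : Type u) [CommRing A] [HopfAlgebra k A] (x : A) :
    ∃ B : Subalgebra k A, x ∈ B ∧ B.FG ∧ SGA3.IsHopfSubalgebra k A B := by
  classical
  obtain ⟨D, hD, hDfin, hxD⟩ := exists_finite_subcoalg_mem (k := k) x
  obtain ⟨s, hs⟩ := Module.Finite.iff_fg.mp hDfin
  let gen : Finset A := s ∪ s.image (HopfAlgebra.antipode k (A := A))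
  let B : Subalgebra k A := Algebra.adjoin k (gen : Set A)
  have hgenB : ∀ y ∈ gen, y ∈ B := fun y hy => Algebra.subset_adjoin hy
  have hDB : ∀ d ∈ D, d ∈ B := by
    intro d hd
    have hle : D ≤ Subalgebra.toSubmodule B := by
      rw [← hs, Submodule.span_le]
      intro y hy
      exact hgenB y (Finset.mem_union_left _ hy)
    exact hle hd
  have hSDB : ∀ d ∈ D, HopfAlgebra.antipode k d ∈ B := by
    intro d hd
    have hle : D ≤ (Subalgebra.toSubmodule B).comap (HopfAlgebra.antipode k (A := A)) := by
      rw [← hs, Submodule.span_le]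
      intro y hy
      exact hgenB _ (Finset.mem_union_right _ (Finset.mem_image_of_mem _ hy))
    exact hle hd
  have hmapeq : ∀ z : B ⊗[k] B, Algebra.TensorProduct.map B.val B.val z =
      TensorProduct.map B.val.toLinearMap B.val.toLinearMap z := fun z => rfl
  -- comultiplication
  have hcomulD : ∀ w : D ⊗[k] D, TensorProduct.map D.subtype D.subtype w ∈
      LinearMap.range (TensorProduct.map B.val.toLinearMap B.val.toLinearMap) := by
    intro w
    induction w using TensorProduct.induction_on with
    | zero => simp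
    | tmul d₁ d₂ =>
      exact ⟨(⟨d₁.1, hDB _ d₁.2⟩ : B) ⊗ₜ[k] (⟨d₂.1, hDB _ d₂.2⟩ : B), rfl⟩
    | add w₁ w₂ h₁ h₂ => rw [map_add]; exact Submodule.add_mem _ h₁ h₂
  have hcomulSD : ∀ w : D ⊗[k] D, antiSwap (k := k) (TensorProduct.map D.subtype D.subtype w) ∈
      LinearMap.range (TensorProduct.map B.val.toLinearMap B.val.toLinearMap) := by
    intro w
    induction w using TensorProduct.induction_on with
    | zero => simp
    | tmul d₁ d₂ =>
      rw [TensorProduct.map_tmul, antiSwap_tmul]
      exact ⟨(⟨_, hSDB _ d₂.2⟩ : B) ⊗ₜ[k] (⟨_, hSDB _ d₁.2⟩ : B), rfl⟩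
    | add w₁ w₂ h₁ h₂ => rw [map_add, map_add]; exact Submodule.add_mem _ h₁ h₂
  have hsD : ∀ y ∈ s, y ∈ D := fun y hy => hs ▸ Submodule.subset_span hy
  refine ⟨B, hDB x hxD, ⟨gen, rfl⟩, ?_, ?_⟩
  · let Tc : Subalgebra k (A ⊗[k] A) := (Algebra.TensorProduct.map B.val B.val).range
    have hle : B ≤ Tc.comap (Bialgebra.comulAlgHom k A) := by
      apply Algebra.adjoin_le
      intro y hy
      rw [Finset.mem_coe, Finset.mem_union, Finset.mem_image] at hy
      change Bialgebra.comulAlgHom k A y ∈ (Algebra.TensorProduct.map B.val B.val).range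
      rcases hy with hy | ⟨d, hd, rfl⟩
      · obtain ⟨w, hw⟩ := hD y (hsD y hy)
        obtain ⟨z, hz⟩ := hcomulD w
        exact ⟨z, (hmapeq z).trans (hz.trans hw)⟩
      · obtain ⟨w, hw⟩ := hD d (hsD d hd)
        obtain ⟨z, hz⟩ := hcomulSD w
        refine ⟨z, (hmapeq z).trans (hz.trans ?_)⟩
        rw [hw]
        exact (comul_antipode (k := k) d).symm
    intro b hb
    obtain ⟨z, hz⟩ := hle hb
    exact ⟨z, (hmapeq z).symm.trans hz⟩
  · have hle : B ≤ B.comap (HopfAlgebra.antipodeAlgHom k A) := by
      apply Algebra.adjoin_le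
      intro y hy
      rw [Finset.mem_coe, Finset.mem_union, Finset.mem_image] at hy
      change HopfAlgebra.antipode k y ∈ B
      rcases hy with hy | ⟨d, hd, rfl⟩
      · exact hSDB y (hsD y hy)
      · rw [antipode_antipode]
        exact hDB d (hsD d hd)
    intro b hb
    exact hle hb

end Groth.Agent.S5375
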