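import Groth.Statements.S19479
import Mathlib
import Groth.Agent.Lib.Helper25.Comod
-- import your own Groth.Agent.* helpers here

set_option autoImplicit false
universe u v w
open HopfRep

namespace Groth.Agent.S19479

open TensorProduct HopfRep
open Groth.Agent.Lib.Helper20.CB
open Groth.Agent.Lib.Helper25.Comod

section
variable {K : Type u} {C : Type v} [Field K] [AddCommGroup C] [Module K C] [Coalgebra K C]
  {V : Type w} [AddCommGroup V] [Module K V] [HopfRep.Comod K C V]

theorem act_mem (W : Submodule K V) (hW : IsSubcomod (k := K) (A := C) W) (φ : C →ₗ[K] K)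
    {w : V} (hw : w ∈ W) : act φ w ∈ W := by
  obtain ⟨t, ht⟩ := hW w hw
  rw [Groth.Agent.Lib.Helper20.CB.act_apply, ← ht]
  clear ht
  induction t using TensorProduct.induction_on with
  | zero => simp
  | tmul x c =>
    rw [LinearMap.rTensor_tmul, LinearMap.lTensor_tmul, TensorProduct.rid_tmul]
    exact W.smul_mem _ x.2
  | add t₁ t₂ h₁ h₂ => rw [map_add, map_add, map_add]; exact W.add_mem h₁ h₂

theorem isSubcomod_iff (W : Submodule K V) :
    IsSubcomod (k := K) (A := C) W ↔ ∀ φ : C →ₗ[K] K, W ≤ W.comap (act φ) := by
  classical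
  constructor
  · intro hW φ w hw
    exact act_mem W hW φ hw
  · intro h
    exact isSubcomod_of_act_stable (Module.Basis.ofVectorSpace K C) W (fun φ w hw => h φ hw)

variable (K C V) in
/-- The complete sublattice of subcomodules. -/
def L : CompleteSublattice (Submodule K V) :=
  CompleteSublattice.mk' {W | IsSubcomod (k := K) (A := C) W}
    (by
      intro s hs
      rw [Set.mem_ofPred_eq, isSubcomod_iff]
      intro φ
      refine sSup_le (fun W hW => ?_)
      have := (isSubcomod_iff W).mp (hs hW) φ
      exact this.trans (Submodule.comap_mono (le_sSup hW)))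
    (by
      intro s hs
      rw [Set.mem_ofPred_eq, isSubcomod_iff]
      intro φ w hw
      rw [Submodule.mem_comap, Submodule.mem_sInf]
      intro W hW
      exact (isSubcomod_iff W).mp (hs hW) φ ((Submodule.mem_sInf.mp hw) W hW))

theorem mem_L (W : Submodule K V) : W ∈ L K C V ↔ IsSubcomod (k := K) (A := C) W := Iff.rfl

instance : IsModularLattice (L K C V) where
  sup_inf_le_assoc_of_le := by
    intro x y z hxz
    exact (IsModularLattice.sup_inf_le_assoc_of_le (α := Submodule K V) (x := x.1) y.1 (z := z.1) hxz)

theorem isCompactElement_of_fg (U : L K C V) (hU : (U : Submodule K V).FG) :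
    IsCompactElement U := by
  rw [CompleteLattice.isCompactElement_iff_le_of_directed_sSup_le]
  intro s hs hdir hle
  have hc := (Submodule.fg_iff_compact _).mp hU
  rw [CompleteLattice.isCompactElement_iff_le_of_directed_sSup_le] at hc
  obtain ⟨x, ⟨y, hy, rfl⟩, hx⟩ := hc {(t : Submodule K V) | t ∈ s} (by
      obtain ⟨a, ha⟩ := hs; exact ⟨a.1, a, ha, rfl⟩) (by
      rintro _ ⟨a, ha, rfl⟩ _ ⟨b, hb, rfl⟩
      obtain ⟨c, hc, hac, hbc⟩ := hdir a ha b hb
      exact ⟨c.1, ⟨c, hc, rfl⟩, hac, hbc⟩) (by
      have := (Subtype.coe_le_coe.mpr hle)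
      rwa [CompleteSublattice.coe_sSup] at this)
  exact ⟨y, hy, hx⟩

instance : IsCompactlyGenerated (L K C V) where
  exists_sSup_eq := by
    intro W
    refine ⟨{U | U ≤ W ∧ (U : Submodule K V).FG}, fun U hU => isCompactElement_of_fg U hU.2, ?_⟩
    apply le_antisymm
    · exact sSup_le (fun U hU => hU.1)
    · intro w hw
      obtain ⟨U', hU', hfg, hwU'⟩ := exists_fg_subcomod (k := K) (C := C) (w : V)
      have hinf : U' ⊓ W.1 ∈ L K C V := (L K C V).infClosed' hU' W.2
      have hfg' : (U' ⊓ W.1).FG := by
        have : Module.Finite K U' := Module.Finite.iff_fg.mpr hfg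
        exact Module.Finite.iff_fg.mp (Submodule.finiteDimensional_inf_left U' W.1)
      have hmem : (⟨U' ⊓ W.1, hinf⟩ : L K C V) ∈ {U : L K C V | U ≤ W ∧ (U : Submodule K V).FG} :=
        ⟨(inf_le_right : U' ⊓ W.1 ≤ W.1), hfg'⟩
      have := le_sSup hmem
      exact this ⟨hwU', hw⟩

end

open TensorProduct in
/-- Let K be a field, C a K-coalgebra and V a right C-comodule. The following are equivalent: (i) V is
the internal direct sum of a family of simple subcomodules, i.e. there is an independent family of
subcomodules W_i with sum V, each W_i nonzero and having no subcomodules inside it other than 0 and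
W_i; (ii) every subcomodule of V has a complementary subcomodule. A subcomodule is a subspace W
whose coaction lands in the image of W ⊗ C. (The source states this for left comodules; a left
comodule over C is a right comodule over the co-opposite coalgebra, so the statement is the same.) -/
theorem result {K : Type u} {C : Type v} [Field K]
    [AddCommGroup C] [Module K C] [Coalgebra K C] (V : Type w) [AddCommGroup V] [Module K V] [HopfRep.Comod K C V] :
    (∃ (ι : Type w) (W : ι → Submodule K V), iSupIndep W ∧ iSup W = ⊤ ∧ ∀ i,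
        HopfRep.IsSubcomod (k := K) (A := C) (W i) ∧ W i ≠ ⊥ ∧
          ∀ W' : Submodule K V, HopfRep.IsSubcomod (k := K) (A := C) W' → W' ≤ W i → W' = ⊥ ∨ W' = W i) ↔
      HopfRep.IsSemisimpleComod K C V := by
  have hss : HopfRep.IsSemisimpleComod K C V ↔ ComplementedLattice (L K C V) := by
    rw [CompleteSublattice.isComplemented_iff]
    constructor
    · intro h W hW
      obtain ⟨W', hW', hc⟩ := h W hW
      exact ⟨W', hW', hc⟩
    · intro h W hW
      obtain ⟨W', hW', hc⟩ := h W hW
      exact ⟨W', hW', hc⟩
  rw [hss]
  constructor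
  · rintro ⟨ι, W, hind, hsup, hW⟩
    apply complementedLattice_of_sSup_atoms_eq_top
    rw [eq_top_iff]
    have hatom : ∀ i, IsAtom (⟨W i, (hW i).1⟩ : L K C V) := by
      intro i
      refine ⟨?_, ?_⟩
      · intro h
        exact (hW i).2.1 (congrArg Subtype.val h)
      · intro b hb
        rcases (hW i).2.2 b.1 b.2 hb.le with h | h
        · exact Subtype.ext h
        · exact absurd (Subtype.ext h) hb.ne
    have : (⊤ : L K C V) = ⨆ i, (⟨W i, (hW i).1⟩ : L K C V) := by
      apply Subtype.ext
      rw [CompleteSublattice.coe_iSup, CompleteSublattice.coe_top, ← hsup]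
    rw [this]
    exact iSup_le (fun i => le_sSup (hatom i))
  · intro hc
    have hat : IsAtomistic (L K C V) := complementedLattice_iff_isAtomistic.mp hc
    obtain ⟨s, hind, hsup, hatom⟩ := exists_sSupIndep_of_sSup_atoms_eq_top
      (α := L K C V) sSup_atoms_eq_top
    refine ⟨s, fun i => (i.1 : Submodule K V), ?_, ?_, ?_⟩
    · intro i
      have h1 := hind i.2
      rw [CompleteSublattice.disjoint_iff] at h1
      refine h1.mono_right ?_
      rw [CompleteSublattice.coe_sSup]
      refine iSup_le (fun j => iSup_le (fun hji => ?_))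
      refine le_sSup ⟨j.1, ⟨j.2, ?_⟩, rfl⟩
      intro h
      exact hji (Subtype.ext h)
    · have := congrArg (Subtype.val) hsup
      rw [CompleteSublattice.coe_sSup, CompleteSublattice.coe_top] at this
      rw [← this]
      apply le_antisymm
      · exact iSup_le (fun i => le_sSup ⟨i.1, i.2, rfl⟩)
      · refine sSup_le ?_
        rintro _ ⟨a, ha, rfl⟩
        exact le_iSup (fun i : s => (i.1 : Submodule K V)) ⟨a, ha⟩
    · intro i
      have ha := hatom i.2
      refine ⟨i.1.2, ?_, ?_⟩
      · intro h
        exact ha.1 (Subtype.ext h)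
      · intro W' hW' hle
        have hle' : (⟨W', hW'⟩ : L K C V) ≤ i.1 := hle
        rcases hle'.eq_or_lt with h | h
        · right; exact congrArg Subtype.val h
        · left; exact congrArg Subtype.val (ha.2 _ h)

end Groth.Agent.S19479
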