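import Groth.Statements.S5338
import Mathlib

set_option autoImplicit false
universe u
open CategoryTheory CategoryTheory.Limits MonoidalCategory CartesianMonoidalCategory MonObj GrpObj AlgebraicGeometry
open SGA3

namespace Groth.Agent.S5338

section helpers
open TensorProduct

lemma le_of_le_sup_smul {A M : Type*} [CommRing A] [AddCommGroup M] [Module A M] (n : Ideal A)
    (hn : IsNilpotent n) (N M' : Submodule A M) (h : M' ≤ N ⊔ n • M') : M' ≤ N := by
  obtain ⟨k, hk⟩ := hn
  have key : ∀ j : ℕ, M' ≤ N ⊔ n ^ j • M' := by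
    intro j
    induction j with
    | zero => simp
    | succ j ih =>
      calc M' ≤ N ⊔ n • M' := h
        _ ≤ N ⊔ n • (N ⊔ n ^ j • M') := sup_le_sup_left (Submodule.smul_mono le_rfl ih) _
        _ = N ⊔ (n • N ⊔ n • (n ^ j • M')) := by rw [Submodule.smul_sup]
        _ ≤ N ⊔ n ^ (j + 1) • M' := by
            rw [← Submodule.mul_smul, ← pow_succ']
            exact sup_le le_sup_left (sup_le (Submodule.smul_le_right.trans le_sup_left) le_sup_right)
  have := key k
  rwa [hk, Submodule.zero_eq_bot, Submodule.bot_smul, sup_bot_eq] at this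

/-- flatness: `K ∩ 𝔞N ⊆ 𝔞K` when `N/K` is flat. -/
lemma inf_smul_top_le_of_flat {A N P : Type*} [CommRing A] [AddCommGroup N] [Module A N]
    [AddCommGroup P] [Module A P] [Module.Flat A P] (f : N →ₗ[A] P) (hf : Function.Surjective f)
    (𝔞 : Ideal A) : LinearMap.ker f ⊓ 𝔞 • ⊤ ≤ 𝔞 • LinearMap.ker f := by
  intro x ⟨hxK, hxa⟩
  have hinj := LinearMap.lTensor_injective_of_exact_of_flat f hf (LinearMap.ker f).subtype
    (LinearMap.ker f).subtype_injective (LinearMap.exact_subtype_ker_map f) (A ⧸ 𝔞)
  have h0 : ((1 : A ⧸ 𝔞) ⊗ₜ[A] x : (A ⧸ 𝔞) ⊗[A] N) = 0 := by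
    rw [← (quotTensorEquivQuotSMul N 𝔞).map_eq_zero_iff, quotTensorEquivQuotSMul_mk_one_tmul,
      Submodule.Quotient.mk_eq_zero]
    exact hxa
  have h1 : ((1 : A ⧸ 𝔞) ⊗ₜ[A] (⟨x, hxK⟩ : LinearMap.ker f) : (A ⧸ 𝔞) ⊗[A] LinearMap.ker f) = 0 := by
    apply hinj
    rw [LinearMap.lTensor_tmul, map_zero]
    exact h0
  rw [← (quotTensorEquivQuotSMul (LinearMap.ker f) 𝔞).map_eq_zero_iff,
    quotTensorEquivQuotSMul_mk_one_tmul, Submodule.Quotient.mk_eq_zero] at h1
  have := Submodule.mem_map_of_mem (f := (LinearMap.ker f).subtype) h1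
  rw [Submodule.map_smul'', Submodule.map_top, Submodule.range_subtype] at this
  exact this

lemma finiteType_of_quotient {B C : Type u} [CommRing B] [CommRing C] [Algebra B C] (J : Ideal B)
    (hJ : IsNilpotent J)
    (h : Algebra.FiniteType (B ⧸ J) (C ⧸ J.map (algebraMap B C))) : Algebra.FiniteType B C := by
  classical
  obtain ⟨t, ht⟩ := h.out
  have hsurj := Ideal.Quotient.mk_surjective (I := J.map (algebraMap B C))
  let lift : (C ⧸ J.map (algebraMap B C)) → C := fun c => (hsurj c).choose
  have hlift : ∀ c, Ideal.Quotient.mk _ (lift c) = c := fun c => (hsurj c).choose_spec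
  let t' : Finset C := t.image lift
  refine ⟨⟨t', ?_⟩⟩
  -- every element of the quotient adjoin lifts to the adjoin
  have hmem : ∀ z ∈ Algebra.adjoin (B ⧸ J) (t : Set (C ⧸ J.map (algebraMap B C))),
      ∃ c ∈ Algebra.adjoin B (t' : Set C), Ideal.Quotient.mk _ c = z := by
    intro z hz
    induction hz using Algebra.adjoin_induction with
    | mem z hz =>
      exact ⟨lift z, Algebra.subset_adjoin (Finset.mem_image_of_mem _ hz), hlift z⟩
    | algebraMap r =>
      obtain ⟨r, rfl⟩ := Ideal.Quotient.mk_surjective r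
      exact ⟨algebraMap B C r, Subalgebra.algebraMap_mem _ r, rfl⟩
    | add x y _ _ hx hy =>
      obtain ⟨a, ha, rfl⟩ := hx
      obtain ⟨b, hb, rfl⟩ := hy
      exact ⟨a + b, Subalgebra.add_mem _ ha hb, map_add _ _ _⟩
    | mul x y _ _ hx hy =>
      obtain ⟨a, ha, rfl⟩ := hx
      obtain ⟨b, hb, rfl⟩ := hy
      exact ⟨a * b, Subalgebra.mul_mem _ ha hb, map_mul _ _ _⟩
  have key : (⊤ : Submodule B C) ≤
      Subalgebra.toSubmodule (Algebra.adjoin B (t' : Set C)) ⊔ J • (⊤ : Submodule B C) := by
    intro c _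
    obtain ⟨c', hc', hcc'⟩ := hmem (Ideal.Quotient.mk _ c) (by rw [ht]; trivial)
    have : c - c' ∈ J.map (algebraMap B C) := by
      rw [← Ideal.Quotient.eq_zero_iff_mem, map_sub, hcc', sub_self]
    have hc : c = c' + (c - c') := by ring
    rw [hc]
    refine Submodule.add_mem_sup hc' ?_
    rw [Ideal.smul_top_eq_map]
    exact this
  have := le_of_le_sup_smul J hJ _ _ key
  rw [eq_top_iff]
  intro c _
  exact this (Submodule.mem_top (x := c))

lemma finitePresentation_of_quotient {A B C : Type u} [CommRing A] [CommRing B] [CommRing C]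
    [Algebra A B] [Algebra B C] [Algebra A C] [IsScalarTower A B C] (n : Ideal A)
    (hn : IsNilpotent n) [Module.Flat A C]
    (h : Algebra.FinitePresentation (B ⧸ n.map (algebraMap A B))
      (C ⧸ (n.map (algebraMap A B)).map (algebraMap B C))) : Algebra.FinitePresentation B C := by
  classical
  set J := n.map (algebraMap A B) with hJdef
  have hJ : IsNilpotent J := by
    obtain ⟨k, hk⟩ := hn
    exact ⟨k, by rw [hJdef, ← Ideal.map_pow, hk]; simp⟩
  have hft : Algebra.FiniteType B C := finiteType_of_quotient J hJ inferInstance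
  obtain ⟨r, π, hπ⟩ := Algebra.FiniteType.iff_quotient_mvPolynomial''.mp hft
  let ρ : MvPolynomial (Fin r) B →+* MvPolynomial (Fin r) (B ⧸ J) :=
    MvPolynomial.map (Ideal.Quotient.mk J)
  have hπC : ((π : MvPolynomial (Fin r) B →+* C)).comp MvPolynomial.C = algebraMap B C := by
    rw [← MvPolynomial.algebraMap_eq]; exact π.comp_algebraMap
  have hρ : Function.Surjective ρ := MvPolynomial.map_surjective _ Ideal.Quotient.mk_surjective
  let mkC := Ideal.Quotient.mk (J.map (algebraMap B C))
  let g : MvPolynomial (Fin r) (B ⧸ J) →ₐ[B ⧸ J] (C ⧸ J.map (algebraMap B C)) :=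
    MvPolynomial.aeval (fun i => mkC (π (MvPolynomial.X i)))
  have hgρ : (g : MvPolynomial (Fin r) (B ⧸ J) →+* _).comp ρ =
      mkC.comp (π : MvPolynomial (Fin r) B →+* C) := by
    apply MvPolynomial.ringHom_ext
    · intro b
      have h1 : (π : MvPolynomial (Fin r) B →+* C) (MvPolynomial.C b) = algebraMap B C b :=
        RingHom.congr_fun hπC b
      rw [RingHom.comp_apply, RingHom.comp_apply, h1]
      show g (MvPolynomial.map (Ideal.Quotient.mk J) (MvPolynomial.C b)) = _
      rw [MvPolynomial.map_C]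
      show MvPolynomial.aeval _ (MvPolynomial.C _) = _
      rw [MvPolynomial.aeval_C]
      rfl
    · intro i
      rw [RingHom.comp_apply, RingHom.comp_apply]
      show g (MvPolynomial.map (Ideal.Quotient.mk J) (MvPolynomial.X i)) = _
      rw [MvPolynomial.map_X]
      show MvPolynomial.aeval _ (MvPolynomial.X i) = _
      rw [MvPolynomial.aeval_X]
      rfl
  have hgρ' : ∀ p, g (ρ p) = mkC (π p) := fun p => RingHom.congr_fun hgρ p
  have hg : Function.Surjective g := by
    intro z
    obtain ⟨c, rfl⟩ := Ideal.Quotient.mk_surjective z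
    obtain ⟨p, rfl⟩ := hπ c
    exact ⟨ρ p, hgρ' p⟩
  have hkerg : (RingHom.ker g.toRingHom).FG :=
    Algebra.FinitePresentation.ker_fG_of_surjective g hg
  set K : Ideal (MvPolynomial (Fin r) B) :=
    RingHom.ker (π : MvPolynomial (Fin r) B →+* C) with hK
  have hkerρ : RingHom.ker ρ = J.map (MvPolynomial.C : B →+* MvPolynomial (Fin r) B) := by
    rw [MvPolynomial.ker_map, Ideal.mk_ker]
  -- K maps onto ker g
  have hKmap : ∀ q ∈ RingHom.ker g.toRingHom, ∃ k ∈ K, ρ k = q := by
    intro q hq
    obtain ⟨p, rfl⟩ := hρ q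
    have h1 : mkC (π p) = 0 := by rw [← hgρ']; exact hq
    have h2 : π p ∈ J.map (algebraMap B C) := Ideal.Quotient.eq_zero_iff_mem.mp h1
    have h3 : J.map (algebraMap B C) =
        (J.map (MvPolynomial.C : B →+* MvPolynomial (Fin r) B)).map
          (π : MvPolynomial (Fin r) B →+* C) := by
      conv_rhs => rw [Ideal.map_map, hπC]
    rw [h3] at h2
    obtain ⟨j, hj, hjp⟩ :=
      (Ideal.mem_map_iff_of_surjective (π : MvPolynomial (Fin r) B →+* C) hπ).mp h2
    refine ⟨p - j, ?_, ?_⟩
    · rw [hK, RingHom.mem_ker, map_sub]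
      have : (π : MvPolynomial (Fin r) B →+* C) j = (π : MvPolynomial (Fin r) B →+* C) p := hjp
      rw [this, sub_self]
    · rw [map_sub]
      have : ρ j = 0 := by
        have : j ∈ RingHom.ker ρ := by rw [hkerρ]; exact hj
        exact this
      rw [this, sub_zero]
  obtain ⟨T, hT⟩ := hkerg
  have hTsub : ∀ q ∈ T, q ∈ RingHom.ker g.toRingHom := fun q hq => hT ▸ Ideal.subset_span hq
  choose! kk hkkK hkkρ using hKmap
  let K' : Ideal (MvPolynomial (Fin r) B) :=
    Ideal.span ((T.image kk : Finset (MvPolynomial (Fin r) B)) : Set (MvPolynomial (Fin r) B))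
  have hK'K : K' ≤ K := by
    rw [Ideal.span_le]
    intro x hx
    simp only [Finset.coe_image, Set.mem_image, Finset.mem_coe] at hx
    obtain ⟨q, hq, rfl⟩ := hx
    exact hkkK q (hTsub q hq)
  have hK'map : K'.map ρ = RingHom.ker g.toRingHom := by
    rw [Ideal.map_span, ← hT]
    congr 1
    ext q
    simp only [Finset.coe_image, Set.mem_image, Finset.mem_coe, exists_exists_and_eq_and]
    constructor
    · rintro ⟨q', hq', rfl⟩; rw [hkkρ q' (hTsub q' hq')]; exact hq'
    · intro hq; exact ⟨q, hq, hkkρ q (hTsub q hq)⟩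
  have hKle : K ≤ K' ⊔ RingHom.ker ρ := by
    intro k hk
    have : ρ k ∈ K'.map ρ := by
      rw [hK'map, RingHom.mem_ker]
      show g (ρ k) = 0
      have hk0 : π k = 0 := (RingHom.mem_ker).mp hk
      rw [hgρ', hk0, map_zero]
    have := Ideal.mem_comap.mpr this
    rwa [Ideal.comap_map_of_surjective ρ hρ, ← RingHom.ker_eq_comap_bot] at this
  -- the A-linear picture
  let f : MvPolynomial (Fin r) B →ₗ[A] C := (π.restrictScalars A).toLinearMap
  have hf : Function.Surjective f := hπ
  have hkerf : ∀ x, x ∈ LinearMap.ker f ↔ x ∈ K := fun x => Iff.rfl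
  have hJP : ∀ j ∈ J.map (MvPolynomial.C : B →+* MvPolynomial (Fin r) B),
      j ∈ n • (⊤ : Submodule A (MvPolynomial (Fin r) B)) := by
    intro j hj
    rw [Ideal.smul_top_eq_map, Submodule.restrictScalars_mem]
    have : n.map (algebraMap A (MvPolynomial (Fin r) B)) =
        J.map (MvPolynomial.C : B →+* MvPolynomial (Fin r) B) := by
      rw [hJdef, Ideal.map_map, IsScalarTower.algebraMap_eq A B (MvPolynomial (Fin r) B),
        MvPolynomial.algebraMap_eq]
    rw [this]; exact hj
  have hnak : LinearMap.ker f ≤ K'.restrictScalars A ⊔ n • LinearMap.ker f := by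
    intro k hk
    have hkK : k ∈ K := (hkerf k).mp hk
    obtain ⟨k', hk', j, hj, rfl⟩ := Submodule.mem_sup.mp (hKle hkK)
    have hjK : j ∈ K := by
      have := K.sub_mem hkK (hK'K hk')
      simpa using this
    refine Submodule.add_mem_sup (by exact hk') ?_
    apply inf_smul_top_le_of_flat f hf n
    exact ⟨(hkerf j).mpr hjK, hJP j (hkerρ ▸ hj)⟩
  have hfinal : K ≤ K' := by
    intro k hk
    exact le_of_le_sup_smul n hn _ _ hnak ((hkerf k).mpr hk)
  have hKFG : K.FG := by
    have : K = K' := le_antisymm hfinal hK'K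
    rw [this]
    exact ⟨T.image kk, rfl⟩
  exact Algebra.FinitePresentation.of_surjective hπ hKFG

end helpers


/-- Let A → B → C be homomorphisms of commutative rings and n a nilpotent ideal of A; write nB and nC
for the extended ideals. (i) If C/nC is a (B/nB)-algebra of finite type, then C is a B-algebra of
finite type. (ii) If moreover C is flat over A and C/nC is a (B/nB)-algebra of finite presentation,
then C is a B-algebra of finite presentation. -/
theorem result (A B C : Type u) [CommRing A] [CommRing B] [CommRing C]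
    [Algebra A B] [Algebra B C] [Algebra A C] [IsScalarTower A B C] (n : Ideal A) (hn : IsNilpotent n) :
    (Algebra.FiniteType (B ⧸ n.map (algebraMap A B)) (C ⧸ (n.map (algebraMap A B)).map (algebraMap B C)) →
      Algebra.FiniteType B C) ∧
    (Module.Flat A C →
      Algebra.FinitePresentation (B ⧸ n.map (algebraMap A B)) (C ⧸ (n.map (algebraMap A B)).map (algebraMap B C)) →
      Algebra.FinitePresentation B C) := by
  refine ⟨fun h => ?_, fun hflat h => ?_⟩
  · have hJ : IsNilpotent (n.map (algebraMap A B)) := by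
      obtain ⟨k, hk⟩ := hn
      exact ⟨k, by rw [← Ideal.map_pow, hk]; simp⟩
    exact finiteType_of_quotient _ hJ h
  · exact finitePresentation_of_quotient n hn h

end Groth.Agent.S5338
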