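import Groth.Statements.S2984
import Groth.Agent.Lib.Helper14.MultFinite

set_option autoImplicit false
universe u
open TensorProduct SGA3b
open SGA3b

namespace Groth.Agent.S2984

open Groth.Agent.Lib.Helper14.MultFinite WithConv

lemma torsionIdeal_eq_bot_iff (R : Type u) [CommRing R] (A : Type u) [CommRing A] [HopfAlgebra R A]
    (n : ℕ) : torsionIdeal R A n = ⊥ ↔ Killed R A n := by
  unfold torsionIdeal Killed
  constructor
  · intro h
    apply WithConv.ofConv_injective
    apply AlgHom.ext
    intro a
    have h1 : a - algebraMap R A (Coalgebra.counit (R := R) a) ∈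
        RingHom.ker (Bialgebra.counitAlgHom R A) := by
      show Bialgebra.counitAlgHom R A _ = 0
      simp
    have h2 := Ideal.mem_map_of_mem (powConv R A n) h1
    rw [h, Ideal.mem_bot, map_sub, sub_eq_zero, AlgHom.commutes] at h2
    exact h2
  · intro h
    rw [eq_bot_iff, Ideal.map_le_iff_le_comap]
    intro a ha
    rw [Ideal.mem_comap, Ideal.mem_bot]
    show ((toConv (AlgHom.id R A)) ^ n).ofConv a = 0
    rw [h]
    show algebraMap R A (Coalgebra.counit (R := R) a) = 0
    have : Coalgebra.counit (R := R) a = 0 := ha
    rw [this, map_zero]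


/-- Let R be a ring and G = Spec A an R-group scheme of multiplicative type and of finite type, with A a
Hopf algebra over R. Then A is finite over R if and only if the n-th power map of G is trivial for
some n > 0 (the kernel ₙG is all of G). (Affine group schemes over an affine base are taken in
Hopf-algebra form; base change is the tensor product.) -/
theorem result (R : Type u) [CommRing R] (A : Type u) [CommRing A] [HopfAlgebra R A] (hft : Algebra.FiniteType R A) (h : IsMultType R A) :
    Module.Finite R A ↔ ∃ n : ℕ, 0 < n ∧ torsionIdeal R A n = ⊥ := by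
  obtain ⟨s, hs, hconst⟩ := h
  constructor
  · intro hfin
    obtain ⟨s', hss, hs'⟩ := (Ideal.span_eq_top_iff_finite s).mp hs
    have hex : ∀ f : s', ∃ n : ℕ, 0 < n ∧
        Killed (Localization.Away f.val) (Localization.Away f.val ⊗[R] A) n := fun f =>
      exists_killed_of_finite _ _ inferInstance (hconst f.val (hss f.property))
    choose nf hpos hk using hex
    refine ⟨∏ f ∈ s'.attach, nf f, Finset.prod_pos fun f _ => hpos f, ?_⟩
    rw [torsionIdeal_eq_bot_iff]
    apply killed_of_cover R A (s' : Set R) hs'
    intro f hf
    have hdvd : nf ⟨f, hf⟩ ∣ ∏ g ∈ s'.attach, nf g :=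
      Finset.dvd_prod_of_mem nf (Finset.mem_attach s' ⟨f, hf⟩)
    obtain ⟨m, hm⟩ := hdvd
    rw [hm]
    exact (hk ⟨f, hf⟩).mul m
  · rintro ⟨n, hn, htor⟩
    rw [torsionIdeal_eq_bot_iff] at htor
    apply finite_of_cover R A s hs
    intro f hf
    exact finite_of_killed _ _ inferInstance n hn (htor.baseChange _) (hconst f hf)

end Groth.Agent.S2984
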