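import Groth.Statements.S3018
import Groth.Agent.Lib.Helper24.HopfNormal.Takeuchi

set_option autoImplicit false
universe u
open CategoryTheory MonoidalCategory CartesianMonoidalCategory MonObj GrpObj AlgebraicGeometry TensorProduct
open SGA3

namespace Groth.Agent.S3018

/-- Let A be a commutative Hopf algebra over a field k (an affine k-group scheme, not necessarily of
finite type) and I a Hopf ideal of A which is normal (the closed subgroup scheme it defines is
stable under conjugation by points with values in every k-algebra). Then there is a sub-Hopf-algebra
B of A such that A is faithfully flat over B and I is the ideal of A generated by the augmentation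
ideal of B. (Geometrically: Spec B is the quotient group, Spec A → Spec B the quotient map, and its
kernel is Spec(A/I).) -/
theorem result (k : Type u) [Field k]
    (A : Type u) [CommRing A] [HopfAlgebra k A] (I : Ideal A) [I.IsHopfIdeal k]
    (hI : SGA3.IsNormalHopfIdeal k A I) :
    ∃ B : Subalgebra k A, SGA3.IsHopfSubalgebra k A B ∧ Module.FaithfullyFlat B A ∧
      I = SGA3.augIdealSpan k A B := by
  open Groth.Agent.Lib.Helper24.HopfNormal Groth.Agent.Lib.Helper24.HopfFF in
  have hN := normalP_mk I hI
  have hB : IsSub (coinv (Bialgebra.Quotient.mkBialgHom (R := k) I)) := isSub_coinv _ hN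
  exact ⟨coinv (Bialgebra.Quotient.mkBialgHom (R := k) I), (isSub_iff _).1 hB,
    faithfullyFlat_of_isSub hB, eq_augIdealSpan_coinv I hI⟩


end Groth.Agent.S3018
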