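import Groth.Statements.S4418
import Groth.Agent.Lib.Helper28.RelProjProper
import Groth.Agent.S2355

set_option autoImplicit false
universe u
open CategoryTheory CategoryTheory.Limits AlgebraicGeometry
open EGA2

open Groth.Agent.Lib.Helper28

namespace Groth.Agent.S4418

/-- Every projective morphism f : X → Y is quasi-projective (of finite type with an f-ample module) and
proper. -/
theorem result {X Y : Scheme.{u}} (f : X ⟶ Y) (hf : RelProj.IsProjective f) :
    RelProj.IsQuasiProjective f ∧ IsProper f := by
  classical
  obtain ⟨𝒮, P, p, chart, e, hgen, hft, hP, rfl⟩ := hf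
  have hprop : IsProper p := RelProjProper.isProper hgen hft hP
  have hprop' : IsProper (e.hom ≫ p) := inferInstance
  refine ⟨⟨inferInstance, inferInstance, ?_⟩, hprop'⟩
  have hqc : QuasiCompact p := inferInstance
  have hL := (RelProjGen1.isInvertible_and_isRelAmple hgen hft (RelTwistEx.isRelTwist hP 1)).2
  have hqa : Mor2.IsQuasiAffine e.hom := by
    refine ⟨inferInstance, fun V hV => ?_⟩
    have : IsAffine ((e.hom ⁻¹ᵁ V : X.Opens) : Scheme.{u}) := hV.preimage e.hom
    infer_instance
  exact ⟨_, Groth.Agent.S2355.result p e.hom hqa _ hL⟩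

end Groth.Agent.S4418
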