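import Groth.Statements.S1699
import Groth.Agent.Lib.Helper29.BlowUpUP2

set_option autoImplicit false
universe u
open CategoryTheory CategoryTheory.Limits AlgebraicGeometry TopologicalSpace
open SDiv

namespace Groth.Agent.S1699

open Groth.Agent.Lib.Helper29.EffCart Groth.Agent.Lib.Helper29.FlatExt

/-- On a Noetherian affine open, the associated points are the associated primes of the ring of
sections. -/
lemma isAssociatedPrime_stalk_iff {X : Scheme.{u}} (W : X.affineOpens)
    [IsNoetherianRing Γ(X, W.1)] (q : PrimeSpectrum Γ(X, W.1)) :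
    IsAssociatedPrime (IsLocalRing.maximalIdeal (X.presheaf.stalk (W.2.fromSpec q)))
        (X.presheaf.stalk (W.2.fromSpec q)) ↔
      IsAssociatedPrime q.asIdeal Γ(X, W.1) := by
  set x := W.2.fromSpec q with hx
  have hxW : x ∈ W.1 := fromSpec_mem W q
  letI := X.presheaf.algebra_section_stalk ⟨x, hxW⟩
  haveI := W.2.isLocalization_stalk ⟨x, hxW⟩
  have hp : W.2.primeIdealOf ⟨x, hxW⟩ = q :=
    fromSpec_injective W (W.2.fromSpec_primeIdealOf ⟨x, hxW⟩)
  have hcomap : (IsLocalRing.maximalIdeal (X.presheaf.stalk x)).comap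
      (algebraMap Γ(X, W.1) (X.presheaf.stalk x)) = q.asIdeal := by
    rw [← hp]
    exact IsLocalization.AtPrime.under_maximalIdeal (X.presheaf.stalk x)
      (W.2.primeIdealOf ⟨x, hxW⟩).asIdeal
  constructor
  · intro h
    have := Module.associatedPrimes.comap_mem_associatedPrimes_of_mem_associatedPrimes_of_isLocalizedModule_of_fg
      (W.2.primeIdealOf ⟨x, hxW⟩).asIdeal.primeCompl
      (Algebra.linearMap Γ(X, W.1) (X.presheaf.stalk x))
      (IsLocalRing.maximalIdeal (X.presheaf.stalk x)) h
      ((isNoetherianRing_iff_ideal_fg _).1 inferInstance _)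
    rw [hcomap] at this
    exact this
  · intro h
    refine Module.associatedPrimes.mem_associatedPrimes_of_comap_mem_associatedPrimes_of_isLocalizedModule
      (W.2.primeIdealOf ⟨x, hxW⟩).asIdeal.primeCompl
      (Algebra.linearMap Γ(X, W.1) (X.presheaf.stalk x))
      (IsLocalRing.maximalIdeal (X.presheaf.stalk x)) ?_
    rw [hcomap]
    exact h

/-- (1) if and only if (3): let X be a locally Noetherian scheme and U an open subscheme. Then U is
scheme-theoretically dense in X if and only if U contains every associated point of X (every point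
whose local ring has its maximal ideal as an associated prime). -/
theorem result (X : Scheme.{u}) [IsLocallyNoetherian X] (U : X.Opens) :
    CInt.IsSchematicallyDense U ↔ ∀ x : ↥X, IsAssociatedPrime (IsLocalRing.maximalIdeal ↑(X.presheaf.stalk x)) ↑(X.presheaf.stalk x) → x ∈ U := by
  constructor
  · intro hdense x hass
    by_contra hxU
    obtain ⟨_, ⟨W, hW, rfl⟩, hxW, -⟩ := X.isBasis_affineOpens.exists_subset_of_mem_open
      (Set.mem_univ x) isOpen_univ
    haveI : IsNoetherianRing Γ(X, W) := IsLocallyNoetherian.component_noetherian ⟨W, hW⟩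
    obtain ⟨q, rfl⟩ := exists_fromSpec_eq ⟨W, hW⟩ hxW
    have hq := (isAssociatedPrime_stalk_iff ⟨W, hW⟩ q).1 hass
    obtain ⟨-, a, ha⟩ := (isAssociatedPrime_iff).1 hq
    have hmem : ∀ r : Γ(X, W), r ∈ q.asIdeal ↔ r * a = 0 := by
      intro r
      rw [ha, Submodule.mem_colon_singleton, Submodule.mem_bot, smul_eq_mul]
    have ha0 : a ≠ 0 := by
      rintro rfl
      have : (1 : Γ(X, W)) ∈ q.asIdeal := (hmem 1).2 (mul_zero 1)
      exact q.isPrime.ne_top ((Ideal.eq_top_iff_one _).2 this)
    apply ha0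
    apply hdense W
    rw [map_zero]
    refine TopCat.Presheaf.section_ext X.sheaf (W ⊓ U) _ 0 ?_
    intro y hy
    change X.presheaf.germ (W ⊓ U) y hy ((X.presheaf.map (homOfLE inf_le_left).op).hom a) =
      X.presheaf.germ (W ⊓ U) y hy 0
    rw [map_zero, X.presheaf.germ_res_apply (homOfLE inf_le_left) y hy a]
    obtain ⟨py, rfl⟩ := exists_fromSpec_eq ⟨W, hW⟩ hy.1
    have hnle : ¬ (q ≤ py) := by
      intro hle
      have hsp := (fromSpec_specializes_iff ⟨W, hW⟩ q py).2 hle
      exact hxU (mem_of_specializes hsp hy.2)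
    obtain ⟨r, hrq, hrpy⟩ := Set.not_subset.1 hnle
    have hunit : IsUnit (X.presheaf.germ W (hW.fromSpec py) hy.1 r) :=
      (Scheme.mem_basicOpen _ _ _ hy.1).1 ((fromSpec_mem_basicOpen_iff ⟨W, hW⟩ py r).2 hrpy)
    have h0 : X.presheaf.germ W (hW.fromSpec py) hy.1 r * X.presheaf.germ W (hW.fromSpec py) hy.1 a = 0 := by
      rw [← map_mul, (hmem r).1 hrq, map_zero]
    exact (hunit.mul_right_eq_zero).1 h0
  · intro hU V s t hst
    rw [← sub_eq_zero]
    have hst' : (X.presheaf.map (homOfLE (inf_le_left : V ⊓ U ≤ V)).op).hom (s - t) = 0 := by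
      rw [map_sub, sub_eq_zero]
      exact hst
    set d := s - t with hd
    refine TopCat.Presheaf.section_ext X.sheaf V d 0 ?_
    intro y hy
    change X.presheaf.germ V y hy d = X.presheaf.germ V y hy 0
    rw [map_zero]
    obtain ⟨_, ⟨W, hW, rfl⟩, hyW, hWV⟩ := X.isBasis_affineOpens.exists_subset_of_mem_open hy V.2
    have hWV' : W ≤ V := hWV
    haveI : IsNoetherianRing Γ(X, W) := IsLocallyNoetherian.component_noetherian ⟨W, hW⟩
    set a := (X.presheaf.map (homOfLE hWV').op).hom d with hadef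
    have hga : X.presheaf.germ W y hyW a = X.presheaf.germ V y hy d :=
      X.presheaf.germ_res_apply (homOfLE hWV') y hyW d
    rw [← hga]
    have ha0 : a = 0 := by
      by_contra hne
      obtain ⟨P, hP, hle⟩ := exists_le_isAssociatedPrime_of_isNoetherianRing (R := Γ(X, W)) a hne
      haveI := hP.isPrime
      let Q : PrimeSpectrum Γ(X, W) := ⟨P, hP.isPrime⟩
      have hass := (isAssociatedPrime_stalk_iff ⟨W, hW⟩ Q).2 hP
      have hQU := hU _ hass
      have hQW : hW.fromSpec Q ∈ W := fromSpec_mem ⟨W, hW⟩ Q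
      have hg0 : X.presheaf.germ W (hW.fromSpec Q) hQW a = 0 := by
        have h1 : X.presheaf.germ W (hW.fromSpec Q) hQW a =
            X.presheaf.germ V (hW.fromSpec Q) (hWV' hQW) d :=
          X.presheaf.germ_res_apply (homOfLE hWV') _ hQW d
        have h2 : X.presheaf.germ (V ⊓ U) (hW.fromSpec Q) ⟨hWV' hQW, hQU⟩
            ((X.presheaf.map (homOfLE (inf_le_left : V ⊓ U ≤ V)).op).hom d) =
            X.presheaf.germ V (hW.fromSpec Q) (hWV' hQW) d :=
          X.presheaf.germ_res_apply (homOfLE inf_le_left) _ _ d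
        rw [h1, ← h2, hst', map_zero]
      obtain ⟨g, hg, hga0⟩ := stalk_affine_eq_zero hW _ hQW a hg0
      have hgP : g ∈ P := hle (by
        rw [Submodule.mem_colon_singleton, Submodule.mem_bot, smul_eq_mul]; exact hga0)
      have hmem : hW.fromSpec Q ∈ X.basicOpen g := (Scheme.mem_basicOpen _ _ _ hQW).2 hg
      exact (fromSpec_mem_basicOpen_iff ⟨W, hW⟩ Q g).1 hmem hgP
    rw [ha0, map_zero]

end Groth.Agent.S1699
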