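import Groth.Statements.S4871
import Groth.Agent.Lib.Helper25.UnitDense
-- import your own Groth.Agent.* helpers here

set_option autoImplicit false
set_option linter.style.haveILetI false
universe u
open CategoryTheory AlgebraicGeometry
open EGA43

namespace Groth.Agent.S4871

open CategoryTheory.Limits in
/-- Let f : X ⟶ S be flat and locally of finite presentation and U an open subscheme of X. Then U is
universally schematically dense in X relative to S, i.e. for every base change S' ⟶ S the preimage
of U in X ×_S S' is schematically dense, if and only if for every point s of S the trace U_s of U on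
the fibre X_s is schematically dense in X_s. -/
theorem result {X S : Scheme.{u}} (f : X ⟶ S) [Flat f]
    [LocallyOfFinitePresentation f] (U : X.Opens) :
    (∀ (S' : Scheme.{u}) (g : S' ⟶ S), CInt.IsSchematicallyDense ((pullback.fst f g) ⁻¹ᵁ U)) ↔
      ∀ s : S, CInt.IsSchematicallyDense ((f.fiberι s) ⁻¹ᵁ U) := by
  constructor
  · intro h s
    exact h (Spec (S.residueField s)) (S.fromSpecResidueField s)
  · intro hfib S' g V
    haveI := Groth.Agent.Lib.Helper25.UnitDense.isFinitePresentation_structureModule X
    have hflat := Groth.Agent.Lib.Helper25.UnitDense.isFlatOver_structureModule f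
    -- the fibre hypothesis for the structure module
    have hfib' : ∀ (s : S) (V : (↑(f.fiber s) : Scheme.{u}).Opens),
        Function.Injective (((Scheme.Modules.pullback (f.fiberι s)).obj
          (Coh.structureModule X)).presheaf.map
          (homOfLE (inf_le_left : V ⊓ (f.fiberι s) ⁻¹ᵁ U ≤ V)).op) := by
      intro s V
      rw [Groth.Agent.Lib.Helper25.UnitDense.injective_res_iff_of_iso
        (Groth.Agent.Lib.Helper16.RS.pullbackUnitIso (f.fiberι s))]
      exact hfib s V
    have key := Groth.Agent.Lib.Helper25.FibScheme.eq_zero_of_fibres f (Coh.structureModule X)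
      hflat U hfib' (IsPullback.of_hasPullback f g) V
    have hinj : Function.Injective (((Scheme.Modules.pullback (pullback.fst f g)).obj
        (Coh.structureModule X)).presheaf.map
        (homOfLE (inf_le_left : V ⊓ (pullback.fst f g) ⁻¹ᵁ U ≤ V)).op) := by
      intro t₁ t₂ h12
      have := key (t₁ - t₂) (by rw [map_sub, h12, sub_self])
      exact sub_eq_zero.1 this
    rw [Groth.Agent.Lib.Helper25.UnitDense.injective_res_iff_of_iso
      (Groth.Agent.Lib.Helper16.RS.pullbackUnitIso (pullback.fst f g))] at hinj
    exact hinj

end Groth.Agent.S4871
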