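import Groth.Statements.S9256
import Mathlib

set_option autoImplicit false
universe u
open CAlg

namespace Groth.Agent.S9256

open TensorProduct IsLocalRing

theorem isReduced_of_regular_artinian (R : Type*) [CommRing R] [IsArtinianRing R]
    [IsRegularRing R] : IsReduced R := by
  apply isReduced_ofLocalizationMaximal
  intro J hJ
  have hreg : IsRegularLocalRing (Localization.AtPrime J) := inferInstance
  have hdim : ringKrullDim (Localization.AtPrime J) = 0 :=
    ringKrullDimZero_iff_ringKrullDim_eq_zero.1 inferInstance
  have h1 := hreg.spanFinrank_maximalIdeal
  rw [hdim] at h1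
  have h2 : (maximalIdeal (Localization.AtPrime J)).spanFinrank = 0 := by exact_mod_cast h1
  have h3 : maximalIdeal (Localization.AtPrime J) = ⊥ :=
    (Submodule.spanFinrank_eq_zero_iff_eq_bot (IsNoetherian.noetherian _)).1 h2
  constructor
  intro x hx
  have h4 : x ∈ maximalIdeal (Localization.AtPrime J) :=
    Ring.KrullDimLE.isNilpotent_iff_mem_maximalIdeal.1 hx
  rw [h3] at h4
  exact h4

theorem isRegularRing_of_reduced_artinian (R : Type*) [CommRing R] [IsArtinianRing R]
    [IsReduced R] : IsRegularRing R := by
  have : IsNoetherianRing R := inferInstance
  rw [isRegularRing_iff]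
  intro p hp
  have hf : IsField (Localization.AtPrime p) := Ring.KrullDimLE.isField_of_isReduced
  have hdom : IsDomain (Localization.AtPrime p) := hf.isDomain
  have hpir : IsPrincipalIdealRing (Localization.AtPrime p) := hf.isPrincipalIdealRing
  infer_instance

theorem fibre_lemma (k κ K : Type u) [Field k] [Field κ] [Field K] [Algebra k κ] [Algebra k K]
    (hκ : Function.Bijective (algebraMap k κ)) :
    IsNoetherianRing (κ ⊗[k] K) ∧
      (CAlg.IsGeometricallyRegular κ (κ ⊗[k] K) ↔ Algebra.IsGeometricallyReduced k K) := by
  let e : k ≃ₐ[k] κ := AlgEquiv.ofBijective (Algebra.ofId k κ) hκ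
  have he : ∀ x, e x = algebraMap k κ x := fun x => rfl
  constructor
  · let E : κ ⊗[k] K ≃ₐ[k] K :=
      (Algebra.TensorProduct.congr e.symm AlgEquiv.refl).trans (Algebra.TensorProduct.lid k K)
    exact isNoetherianRing_of_ringEquiv K E.symm.toRingEquiv
  · constructor
    · intro h
      rw [Algebra.isGeometricallyReduced_field_iff]
      have h1 : IsReduced (K ⊗[k] AlgebraicClosure k) := by
        apply IsReduced.tensorProduct_of_flat_of_forall_fg
        intro B hB
        let _ : Field B := (Subalgebra.isField_of_algebraic B).toField
        have hft : Algebra.FiniteType k B := (Subalgebra.fg_iff_finiteType B).1 hB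
        have halg : Algebra.IsAlgebraic k B :=
          Algebra.IsAlgebraic.of_injective B.val Subtype.val_injective
        have hint : Algebra.IsIntegral k B := inferInstance
        have hfin : Module.Finite k B := Algebra.IsIntegral.finite
        let _ : Algebra κ B := ((algebraMap k B).comp e.symm.toRingEquiv.toRingHom).toAlgebra
        have hst : IsScalarTower k κ B := IsScalarTower.of_algebraMap_eq (fun x => by
          change algebraMap k B x = algebraMap k B (e.symm (algebraMap k κ x))
          rw [← he, AlgEquiv.symm_apply_apply])
        have hfin' : Module.Finite κ B := Module.Finite.of_restrictScalars_finite k κ B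
        have hreg := h B hfin'
        have hreg2 : IsRegularRing (K ⊗[k] B) :=
          IsRegularRing.of_ringEquiv
            ((Algebra.TensorProduct.cancelBaseChange k κ κ B K).toRingEquiv.trans
              (Algebra.TensorProduct.comm k B K).toRingEquiv)
        have hart : IsArtinianRing (K ⊗[k] B) := IsArtinianRing.of_finite K _
        exact isReduced_of_regular_artinian _
      exact isReduced_of_injective (Algebra.TensorProduct.comm k (AlgebraicClosure k) K).toRingHom
        (Algebra.TensorProduct.comm k (AlgebraicClosure k) K).injective
    · intro h k' _ _ hfin'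
      let _ : Algebra k k' := ((algebraMap κ k').comp (algebraMap k κ)).toAlgebra
      have hst : IsScalarTower k κ k' := IsScalarTower.of_algebraMap_eq (fun x => rfl)
      have hfκ : Module.Finite k κ := Module.Finite.of_surjective (Algebra.linearMap k κ) hκ.2
      have hfin : Module.Finite k k' := Module.Finite.trans κ k'
      have hred : IsReduced (k' ⊗[k] K) := inferInstance
      have hred2 : IsReduced (K ⊗[k] k') :=
        isReduced_of_injective (Algebra.TensorProduct.comm k K k').toRingHom
          (Algebra.TensorProduct.comm k K k').injective
      have hart : IsArtinianRing (K ⊗[k] k') := IsArtinianRing.of_finite K _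
      have hreg : IsRegularRing (K ⊗[k] k') := isRegularRing_of_reduced_artinian _
      exact IsRegularRing.of_ringEquiv
        ((Algebra.TensorProduct.cancelBaseChange k κ κ k' K).toRingEquiv.trans
          (Algebra.TensorProduct.comm k k' K).toRingEquiv).symm

/-- For a field extension K of k, the ring map k → K is regular exactly when K is separable over k, that
is, geometrically reduced over k. -/
theorem result (k K : Type u) [Field k] [Field K]
    [Algebra k K] : CAlg.IsRegularHom k K ↔ Algebra.IsGeometricallyReduced k K := by
  constructor
  · intro h
    have h1 := (h.2 (⊥ : Ideal k)).2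
    exact (fibre_lemma k (⊥ : Ideal k).ResidueField K
      (Ideal.algEquivResidueFieldOfField ⊥).bijective).2.1 h1
  · intro h
    refine ⟨inferInstance, fun p hp => ?_⟩
    have := fibre_lemma k p.ResidueField K (Ideal.algEquivResidueFieldOfField p).bijective
    exact ⟨this.1, this.2.2 h⟩

end Groth.Agent.S9256
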