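import Groth.Statements.S4759
import Mathlib.AlgebraicGeometry.Morphisms.FinitePresentation
-- import your own Groth.Agent.* helpers here

set_option autoImplicit false
universe u
open CategoryTheory AlgebraicGeometry
open Lim8

namespace Groth.Agent.S4759

/-- Let S = lim S_i be a cofiltered limit of schemes with affine transition maps, some stage S_{i₀}
being quasi-compact and quasi-separated. Then every constructible subset Z of S is the preimage
under the projection S ⟶ S_i of a constructible subset of S_i, for some index i over i₀. -/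
theorem result {I : Type u} [SmallCategory I] [IsCofiltered I]
    (D : I ⥤ Scheme.{u}) (c : Limits.Cone D) (hc : Limits.IsLimit c)
    [∀ (i j : I) (f : i ⟶ j), IsAffineHom (D.map f)] (i₀ : I) [CompactSpace (D.obj i₀)]
    [QuasiSeparatedSpace (D.obj i₀)] (Z : Set c.pt) (hZ : Topology.IsConstructible Z) :
    ∃ (i : I) (_ : i ⟶ i₀) (Zi : Set (D.obj i)),
      Topology.IsConstructible Zi ∧ (⇑(c.π.app i) ⁻¹' Zi : Set c.pt) = Z := by
  have hπ := isAffineHom_π_app D c hc
  have : CompactSpace c.pt := QuasiCompact.compactSpace_of_compactSpace (c.π.app i₀)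
  induction hZ using Topology.IsConstructible.empty_union_induction with
  | open_retrocompact U hUopen hUcomp =>
    obtain ⟨i, V, hV, hVU⟩ := exists_preimage_eq D c hc ⟨U, hUopen⟩ hUcomp.isCompact
    let k := IsCofiltered.min i i₀
    let a : k ⟶ i := IsCofiltered.minToLeft i i₀
    let b : k ⟶ i₀ := IsCofiltered.minToRight i i₀
    have : QuasiSeparatedSpace (D.obj k) := quasiSeparatedSpace_of_quasiSeparated (D.map b)
    refine ⟨k, b, (D.map a) ⁻¹' V, ?_, ?_⟩
    · exact IsCompact.isConstructible
        (QuasiCompact.isCompact_preimage _ V.2 hV) (V.2.preimage (D.map a).continuous)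
    · have h1 : (c.π.app k ≫ D.map a) = c.π.app i := c.w a
      have h2 := congrArg (fun W : c.pt.Opens => (W : Set c.pt)) hVU
      simp only [TopologicalSpace.Opens.map_coe, TopologicalSpace.Opens.coe_mk] at h2
      rw [← h2, ← h1]
      rfl
  | union s hs t ht ihs iht =>
    obtain ⟨i, f, Zi, hZi, rfl⟩ := ihs
    obtain ⟨j, g, Zj, hZj, rfl⟩ := iht
    let k := IsCofiltered.min i j
    let a : k ⟶ i := IsCofiltered.minToLeft i j
    let b : k ⟶ j := IsCofiltered.minToRight i j
    refine ⟨k, a ≫ f, (D.map a) ⁻¹' Zi ∪ (D.map b) ⁻¹' Zj,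
      ((D.map a).isConstructible_preimage hZi).union ((D.map b).isConstructible_preimage hZj), ?_⟩
    have h1 : (c.π.app k ≫ D.map a) = c.π.app i := c.w a
    have h2 : (c.π.app k ≫ D.map b) = c.π.app j := c.w b
    rw [← h1, ← h2]
    rfl
  | compl s hs ih =>
    obtain ⟨i, f, Zi, hZi, rfl⟩ := ih
    exact ⟨i, f, Ziᶜ, hZi.compl, rfl⟩

end Groth.Agent.S4759
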