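import Groth.Statements.S2106
import Groth.Agent.Lib.Helper21.FlatDescQ2

set_option autoImplicit false
universe u
open CAlg

namespace Groth.Agent.S2106

open Groth.Agent.Lib.Helper21.FlatDesc TensorProduct IsLocalRing

set_option maxHeartbeats 1600000 in
set_option synthInstance.maxHeartbeats 200000 in
/-- Let `R → S → S'` be local homomorphisms of local rings with `S` and `S'` essentially of finite
presentation over `R`, and `M` a nonzero finitely presented `S'`-module which is flat over `R` and
such that `M/𝔪_R M` is flat over `S/𝔪_R S`. Then `S` is flat over `R` and `M` is flat over `S`. -/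
theorem result {R S S' M : Type u} [CommRing R] [CommRing S] [CommRing S']
    [IsLocalRing R] [IsLocalRing S] [IsLocalRing S'] [Algebra R S] [Algebra S S'] [Algebra R S'] [IsScalarTower R S S']
    [IsLocalHom (algebraMap R S)] [IsLocalHom (algebraMap S S')]
    (hS : CAlgX.IsEssFinitePresentation R S) (hS' : CAlgX.IsEssFinitePresentation R S')
    [AddCommGroup M] [Module S' M] [Module S M] [Module R M] [IsScalarTower S S' M] [IsScalarTower R S' M]
    [IsScalarTower R S M] [Module.FinitePresentation S' M] [Nontrivial M] [Module.Flat R M]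
    (hfib : Module.Flat (S ⧸ (IsLocalRing.maximalIdeal R).map (algebraMap R S))
      (M ⧸ (IsLocalRing.maximalIdeal R).map (algebraMap R S) • (⊤ : Submodule S M))) :
    Module.Flat R S ∧ Module.Flat S M := by
  obtain ⟨S₀, _, _, _, _, T, hfpS, hlocS⟩ := hS
  obtain ⟨S'₀, _, _, _, _, T', hfpS', hlocS'⟩ := hS'
  haveI := hfpS
  haveI := hfpS'
  haveI := hlocS
  haveI := hlocS'
  let σ : S₀ →ₐ[R] S' := (IsScalarTower.toAlgHom R S S').comp (IsScalarTower.toAlgHom R S₀ S)
  obtain ⟨t, φ, ψ, hψφ, hψ, ht⟩ := exists_spread R S₀ S'₀ S' T' σ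
  have hσ : ∀ x, ψ (φ x) = algebraMap S S' (algebraMap S₀ S x) := fun x => by
    have := congrArg (fun f => f x) hψφ
    exact this
  letI aφ : Algebra S₀ (Localization.Away t) := φ.toRingHom.toAlgebra
  letI aψ : Algebra (Localization.Away t) S' := ψ.toRingHom.toAlgebra
  letI mC' : Module (Localization.Away t) M := Module.compHom M ψ.toRingHom
  letI mS₀ : Module S₀ M := Module.compHom M (algebraMap S₀ S)
  haveI tw1 : IsScalarTower R S₀ (Localization.Away t) :=
    IsScalarTower.of_algebraMap_eq fun r => (φ.commutes r).symm
  haveI tw2 : IsScalarTower R (Localization.Away t) S' :=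
    IsScalarTower.of_algebraMap_eq fun r => (ψ.commutes r).symm
  haveI tw3 : IsScalarTower S'₀ (Localization.Away t) S' :=
    IsScalarTower.of_algebraMap_eq fun x => (hψ x).symm
  haveI tw4 : IsScalarTower (Localization.Away t) S' M :=
    IsScalarTower.of_algebraMap_smul fun _ _ => rfl
  haveI tw5 : IsScalarTower S₀ S M := IsScalarTower.of_algebraMap_smul fun _ _ => rfl
  haveI tw6 : IsScalarTower S₀ (Localization.Away t) M := ⟨fun s c m => by
    show ψ (s • c) • m = algebraMap S₀ S s • (ψ c • m)
    rw [Algebra.smul_def, map_mul]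
    show (ψ (φ s) * ψ c) • m = _
    rw [hσ, mul_smul, algebraMap_smul]⟩
  haveI tw7 : IsScalarTower R (Localization.Away t) M := ⟨fun r c m => by
    show ψ (r • c) • m = r • (ψ c • m)
    rw [map_smul, smul_assoc]⟩
  haveI tw8 : IsScalarTower R S₀ M := ⟨fun r s m => by
    show algebraMap S₀ S (r • s) • m = r • (algebraMap S₀ S s • m)
    rw [Algebra.smul_def, map_mul, ← IsScalarTower.algebraMap_apply, mul_smul, algebraMap_smul]⟩
  -- finite presentation of `Localization.Away t` over `R`
  haveI : Algebra.FinitePresentation S'₀ (Localization.Away t) :=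
    IsLocalization.Away.finitePresentation t
  haveI : Algebra.FinitePresentation R (Localization.Away t) :=
    Algebra.FinitePresentation.trans R S'₀ (Localization.Away t)
  -- `S'` is a localization of `Localization.Away t`
  haveI hAt : IsLocalization.AtPrime S' ((maximalIdeal S').comap (algebraMap S'₀ S')) :=
    isLocalization_atPrime_of_isLocalRing T'
  have hle : Submonoid.powers t ≤ ((maximalIdeal S').comap (algebraMap S'₀ S')).primeCompl := by
    rintro _ ⟨k, rfl⟩
    exact fun h => ht (Ideal.IsPrime.mem_of_pow_mem inferInstance k h)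
  haveI hloc'' : IsLocalization
      (((maximalIdeal S').comap (algebraMap S'₀ S')).primeCompl.map
        (algebraMap S'₀ (Localization.Away t))) S' :=
    IsLocalization.isLocalization_of_submonoid_le (Localization.Away t) S' (Submonoid.powers t)
      ((maximalIdeal S').comap (algebraMap S'₀ S')).primeCompl hle
  -- local hom `R → S'`
  haveI : IsLocalHom (algebraMap R S') := by
    rw [IsScalarTower.algebraMap_eq R S S']
    exact RingHom.isLocalHom_comp _ _
  -- the fibre hypothesis over `S₀`
  haveI : Module.Flat S₀ S := IsLocalization.flat S T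
  have hI : ((maximalIdeal R).map (algebraMap R S₀)).map (algebraMap S₀ S) =
      (maximalIdeal R).map (algebraMap R S) := by
    rw [Ideal.map_map, ← IsScalarTower.algebraMap_eq]
  rw [← hI] at hfib
  haveI hfib₀ : Module.Flat (S₀ ⧸ (maximalIdeal R).map (algebraMap R S₀))
      ((S₀ ⧸ (maximalIdeal R).map (algebraMap R S₀)) ⊗[S₀] M) :=
    flat_fibre_of_flat_fibre_flat ((maximalIdeal R).map (algebraMap R S₀)) M hfib
  have hflat₀ : Module.Flat S₀ M :=
    flat_of_flat_fibre_essFP R S₀ (Localization.Away t) S'
      (((maximalIdeal S').comap (algebraMap S'₀ S')).primeCompl.map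
        (algebraMap S'₀ (Localization.Away t))) M
  have hflatS : Module.Flat S M := (Module.flat_iff_of_isLocalization S T M).2 hflat₀
  haveI := hflatS
  haveI : Module.FaithfullyFlat S M := faithfullyFlat_of_isLocalHom S S' M
  exact ⟨flat_of_flat_of_faithfullyFlat_module R S M, hflatS⟩

end Groth.Agent.S2106
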