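import Groth.Statements.S9735
import Mathlib
import Groth.Agent.Lib.Helper27.SchemeField

set_option autoImplicit false
universe u
open FlatMor

namespace Groth.Agent.S9735

open AlgebraicGeometry CategoryTheory Limits TensorProduct

/-- a common extension of two field extensions -/
theorem exists_common_ext (k K k' : Type u) [Field k] [Field K] [Field k'] [Algebra k K]
    [Algebra k k'] :
    ∃ (L : Type u) (_ : Field L) (φK : K →+* L) (φk' : k' →+* L),
      φK.comp (algebraMap k K) = φk'.comp (algebraMap k k') := by
  haveI : Nontrivial (K ⊗[k] k') :=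
    Algebra.TensorProduct.nontrivial_of_algebraMap_injective_of_flat_left (R := k) K k'
      (algebraMap k k').injective
  obtain ⟨m, hm⟩ := Ideal.exists_maximal (K ⊗[k] k')
  refine ⟨(K ⊗[k] k') ⧸ m, Ideal.Quotient.field m, (Ideal.Quotient.mk m).comp
    (Algebra.TensorProduct.includeLeftRingHom : K →+* K ⊗[k] k'), (Ideal.Quotient.mk m).comp
    (Algebra.TensorProduct.includeRight : k' →ₐ[k] K ⊗[k] k').toRingHom, ?_⟩
  ext c
  simp only [RingHom.comp_apply]
  congr 1
  simp [Algebra.TensorProduct.includeLeftRingHom, Algebra.algebraMap_eq_smul_one,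
    TensorProduct.smul_tmul']

/-- geometric reducedness descends along a field extension of the base field. -/
theorem geometricallyReduced_of_fieldExt {k k' : Type u} [Field k] [Field k'] [Algebra k k']
    {X₀ X₀' : Scheme.{u}} (h : X₀ ⟶ Spec (.of k)) (h' : X₀' ⟶ Spec (.of k')) (p : X₀' ⟶ X₀)
    (hp : IsPullback p h' h (Spec.map (CommRingCat.ofHom (algebraMap k k'))))
    [GeometricallyReduced h'] : GeometricallyReduced h := by
  rw [geometricallyReduced_iff, geometrically_iff_of_commRing]
  intro K _ _ Y fst snd hY
  obtain ⟨L, _, φK, φk', hcomm⟩ := exists_common_ext k K k'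
  let sL : Spec (.of L) ⟶ Spec (.of K) := Spec.map (CommRingCat.ofHom φK)
  let sk' : Spec (.of L) ⟶ Spec (.of k') := Spec.map (CommRingCat.ofHom φk')
  have hs : sL ≫ Spec.map (CommRingCat.ofHom (algebraMap k K)) =
      sk' ≫ Spec.map (CommRingCat.ofHom (algebraMap k k')) := by
    simp only [sL, sk', ← Spec.map_comp, ← CommRingCat.ofHom_comp, hcomm]
  have hW1 : IsPullback (pullback.fst snd sL) (pullback.snd snd sL) snd sL :=
    IsPullback.of_hasPullback snd sL
  have hbig : IsPullback (pullback.fst snd sL ≫ fst) (pullback.snd snd sL) h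
      (sk' ≫ Spec.map (CommRingCat.ofHom (algebraMap k k'))) := by
    rw [← hs]
    exact hW1.paste_horiz hY
  let q : pullback snd sL ⟶ X₀' :=
    hp.lift (pullback.fst snd sL ≫ fst) (pullback.snd snd sL ≫ sk') (by
      simpa [Category.assoc] using hbig.w)
  have hq1 : q ≫ p = pullback.fst snd sL ≫ fst := hp.lift_fst _ _ _
  have hq2 : q ≫ h' = pullback.snd snd sL ≫ sk' := hp.lift_snd _ _ _
  have hsmall : IsPullback q (pullback.snd snd sL) h' sk' := by
    refine IsPullback.of_right ?_ hq2 hp
    rw [hq1]
    exact hbig
  have hgr : geometrically IsReduced h' := (geometricallyReduced_iff h').1 inferInstance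
  haveI hWred : IsReduced (pullback snd sL) := hgr sk' q (pullback.snd snd sL) hsmall
  haveI : Flat sL := by
    rw [Flat.SpecMap_iff]
    exact RingHom.Flat.of_isField (Field.toIsField K) _
  haveI : Surjective sL := by
    refine ⟨fun x => ?_⟩
    haveI : Nonempty (Spec (CommRingCat.of L)) := inferInstanceAs (Nonempty (PrimeSpectrum L))
    haveI : Subsingleton (Spec (CommRingCat.of K)) :=
      inferInstanceAs (Subsingleton (PrimeSpectrum K))
    obtain ⟨z⟩ := ‹Nonempty (Spec (CommRingCat.of L))›
    exact ⟨z, Subsingleton.elim _ _⟩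
  exact Groth.Agent.Lib.Helper27.SchemeField.isReduced_of_flat_surjective (pullback.fst snd sL)


open AlgebraicGeometry CategoryTheory Limits in
/-- Given a morphism f : X ⟶ Y and any g : Y' ⟶ Y, let f' : X' ⟶ Y' be obtained from f by pulling back
along g (a cartesian square with g' : X' ⟶ X). A point y' of Y' has geometrically reduced fibre
under f' exactly when g y' has geometrically reduced fibre under f. -/
theorem result {X Y X' Y' : Scheme.{u}} (f : X ⟶ Y) (g : Y' ⟶ Y) (f' : X' ⟶ Y') (g' : X' ⟶ X)
    (hc : IsPullback g' f' f g) :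
    {y' : ↑Y' | GeometricallyReduced (f'.fiberToSpecResidueField y')} =
      g ⁻¹' {y : ↑Y | GeometricallyReduced (f.fiberToSpecResidueField y)} := by
  ext y'
  simp only [Set.mem_setOf_eq, Set.mem_preimage]
  have hpb := isPullback_fiberToSpecResidueField_of_isPullback hc y'
  constructor
  · intro h
    letI : Algebra (Y.residueField (g y')) (Y'.residueField y') :=
      (g.residueFieldMap y').hom.toAlgebra
    exact geometricallyReduced_of_fieldExt (k := Y.residueField (g y'))
      (k' := Y'.residueField y') (f.fiberToSpecResidueField (g y'))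
      (f'.fiberToSpecResidueField y') _ hpb
  · intro h
    exact MorphismProperty.of_isPullback (P := @GeometricallyReduced) hpb h

end Groth.Agent.S9735
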