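import Groth.Statements.S1460
import Mathlib.RingTheory.Extension.Presentation.Core
-- import your own Groth.Agent.* helpers here

set_option autoImplicit false
universe u
open FlatMor

namespace Groth.Agent.S1460

open AlgebraicGeometry CategoryTheory Limits TensorProduct in
lemma ring_case (R B : Type u) [CommRing R] [CommRing B] [Algebra R B]
    [Algebra.FinitePresentation R B] :
    ∃ (R₀ B₀ : CommRingCat.{u}) (φ₀ : R₀ ⟶ B₀) (ψ : R₀ ⟶ CommRingCat.of R)
      (ψ' : B₀ ⟶ CommRingCat.of B),
      IsPushout φ₀ ψ ψ' (CommRingCat.ofHom (algebraMap R B)) ∧ Algebra.FiniteType ℤ R₀ ∧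
        φ₀.hom.FiniteType := by
  let P := Algebra.Presentation.ofFinitePresentation R B
  let e : CommRingCat.of (R ⊗[P.Core] P.ModelOfHasCoeffs P.Core) ≅ CommRingCat.of B :=
    (P.tensorModelOfHasCoeffsEquiv P.Core).toRingEquiv.toCommRingCatIso
  have h := (CommRingCat.isPushout_tensorProduct P.Core R (P.ModelOfHasCoeffs P.Core)).flip
  refine ⟨.of P.Core, .of (P.ModelOfHasCoeffs P.Core), CommRingCat.ofHom (algebraMap _ _),
    CommRingCat.ofHom (algebraMap _ _),
    CommRingCat.ofHom Algebra.TensorProduct.includeRight.toRingHom ≫ e.hom, ?_, ?_, ?_⟩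
  · refine h.of_iso (Iso.refl _) (Iso.refl _) (Iso.refl _) e (by simp) (by simp) (by simp) ?_
    ext r
    have := (P.tensorModelOfHasCoeffsEquiv P.Core).commutes r
    simpa [Algebra.TensorProduct.algebraMap_apply, e] using this
  · exact inferInstanceAs (Algebra.FiniteType ℤ P.Core)
  · have : Algebra.FinitePresentation P.Core (P.ModelOfHasCoeffs P.Core) := inferInstance
    have h2 : Algebra.FiniteType P.Core (P.ModelOfHasCoeffs P.Core) := inferInstance
    exact (RingHom.finiteType_algebraMap).mpr h2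


open AlgebraicGeometry CategoryTheory Limits in
/-- Let f : X → S be a morphism of finite presentation between affine schemes. Then f is the base change
of a morphism of finite type f₀ : X₀ → S₀ between affine schemes with S₀ of finite type over ℤ. -/
theorem result {X S : Scheme.{u}} (f : X ⟶ S) [IsAffine X] [IsAffine S] [LocallyOfFinitePresentation f] :
    ∃ (X₀ S₀ : Scheme.{u}) (f₀ : X₀ ⟶ S₀) (g : S ⟶ S₀) (g' : X ⟶ X₀), IsAffine X₀ ∧ IsAffine S₀ ∧ IsPullback g' f f₀ g ∧
      Algebra.FiniteType ℤ Γ(S₀, ⊤) ∧ LocallyOfFiniteType f₀ := by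
  algebraize [f.appTop.hom]
  have hfp : Algebra.FinitePresentation Γ(S, ⊤) Γ(X, ⊤) := by
    have h1 : RingHom.FinitePresentation f.appTop.hom :=
      (HasRingHomProperty.iff_of_isAffine (P := @LocallyOfFinitePresentation)).mp inferInstance
    exact h1
  obtain ⟨R₀, B₀, φ₀, ψ, ψ', hpo, hR₀, hφ₀⟩ := ring_case Γ(S, ⊤) Γ(X, ⊤)
  have hpb := isPullback_SpecMap_of_isPushout _ _ _ _ hpo
  have hsq : IsPullback X.isoSpec.hom f (Spec.map f.appTop) S.isoSpec.hom :=
    IsPullback.of_horiz_isIso ⟨Scheme.isoSpec_hom_naturality f⟩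
  have hpb' : IsPullback (Spec.map ψ') (Spec.map f.appTop) (Spec.map φ₀) (Spec.map ψ) := hpb
  refine ⟨Spec B₀, Spec R₀, Spec.map φ₀, S.isoSpec.hom ≫ Spec.map ψ, X.isoSpec.hom ≫ Spec.map ψ',
    inferInstance, inferInstance, hsq.paste_horiz hpb', ?_, ?_⟩
  · exact Algebra.FiniteType.equiv hR₀
      { (Scheme.ΓSpecIso R₀).symm.commRingCatIsoToRingEquiv with
        commutes' := fun r => by simp }
  · exact (HasRingHomProperty.Spec_iff (P := @LocallyOfFiniteType)).mpr hφ₀

end Groth.Agent.S1460
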