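import Groth.Statements.S13106
import Mathlib.AlgebraicGeometry.Morphisms.Separated
import Mathlib.AlgebraicGeometry.Morphisms.ClosedImmersion
import Mathlib.AlgebraicGeometry.IdealSheaf.Basic

set_option autoImplicit false
universe u
open GrpSch

namespace Groth.Agent.S13106

open CategoryTheory AlgebraicGeometry Limits

theorem ker_ι_eq_bot {Y : Scheme.{u}} (U : Y.Opens) (hU : CInt.IsSchematicallyDense U) :
    U.ι.ker = ⊥ := by
  rw [eq_bot_iff, Scheme.IdealSheafData.le_def]
  intro V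
  refine (Scheme.Hom.ideal_ker_le _ V).trans ?_
  rw [Scheme.IdealSheafData.ideal_bot]
  intro x hx
  rw [RingHom.mem_ker] at hx
  rw [Pi.bot_apply, Ideal.mem_bot]
  have hle : U.ι ''ᵁ U.ι ⁻¹ᵁ V.1 ≤ V.1 ⊓ U := by
    rintro _ ⟨y, hy, rfl⟩
    exact ⟨hy, y.2⟩
  have hinj := hU V.1
  apply hinj
  rw [map_zero]
  -- x restricted to V ⊓ U is zero since its further restriction ... hmm
  have h2 : V.1 ⊓ U ≤ U.ι ''ᵁ U.ι ⁻¹ᵁ V.1 := by
    rintro y ⟨hyV, hyU⟩
    exact ⟨⟨y, hyU⟩, hyV, rfl⟩
  have heq : U.ι ''ᵁ U.ι ⁻¹ᵁ V.1 = V.1 ⊓ U := le_antisymm hle h2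
  rw [Scheme.Opens.ι_app] at hx
  have : Y.presheaf.map (homOfLE (inf_le_left : V.1 ⊓ U ≤ V.1)).op =
      Y.presheaf.map (homOfLE (x := U.ι ''ᵁ U.ι ⁻¹ᵁ V.1) (Set.image_preimage_subset _ _)).op ≫
        Y.presheaf.map (homOfLE h2).op := by
    rw [← Functor.map_comp]; rfl
  rw [this, CommRingCat.comp_apply]
  exact (congrArg _ hx).trans (map_zero _)


open CategoryTheory AlgebraicGeometry in
/-- Let f : X → Y be a morphism of schemes and U ⊆ Y a schematically dense open subscheme (for every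
open V of Y, restriction of functions from V to V ∩ U is injective) such that the restriction f⁻¹(U)
→ U of f is an isomorphism. Then two morphisms from Y to a scheme separated over a base T that agree
after composing with f and have the same composite to T are equal: if Z → T is separated and v₁, v₂
: Y → Z satisfy v₁ ≫ (Z → T) = v₂ ≫ (Z → T) and f ≫ v₁ = f ≫ v₂, then v₁ = v₂. (The published
statement is the case of a morphism between two prolongations over A[[t]] of a finite group scheme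
over A((t)), where U is the generic fibre, schematically dense by flatness; uniqueness of
prolongation maps follows.) -/
theorem result {X Y Z T : Scheme.{u}} (f : X ⟶ Y)
    (U : Y.Opens) (hU : CInt.IsSchematicallyDense U) [IsIso (f ∣_ U)]
    (z : Z ⟶ T) [IsSeparated z] (v₁ v₂ : Y ⟶ Z) (hz : v₁ ≫ z = v₂ ≫ z) (h : f ≫ v₁ = f ≫ v₂) :
    v₁ = v₂ := by
  have hker := ker_ι_eq_bot U hU
  -- agreement on U
  have hUv : U.ι ≫ v₁ = U.ι ≫ v₂ := by
    have e : U.ι = inv (f ∣_ U) ≫ (f ⁻¹ᵁ U).ι ≫ f := by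
      rw [IsIso.eq_inv_comp, morphismRestrict_ι]
    rw [e]
    simp only [Category.assoc, h]
  let Y' : Over T := Over.mk (v₁ ≫ z)
  let Z' : Over T := Over.mk z
  let w₁ : Y' ⟶ Z' := Over.homMk v₁ rfl
  let w₂ : Y' ⟶ Z' := Over.homMk v₂ hz.symm
  have : IsSeparated Z'.hom := ‹IsSeparated z›
  have hcl : IsClosedImmersion (equalizer.ι w₁ w₂).left := inferInstance
  let U' : Over T := Over.mk (U.ι ≫ v₁ ≫ z)
  let uι : U' ⟶ Y' := Over.homMk U.ι rfl
  have hu : uι ≫ w₁ = uι ≫ w₂ := by
    ext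
    exact hUv
  let k : U' ⟶ equalizer w₁ w₂ := equalizer.lift uι hu
  have hk : k.left ≫ (equalizer.ι w₁ w₂).left = U.ι := by
    have := equalizer.lift_ι uι hu
    exact congrArg CommaMorphism.left this
  have hιker : (equalizer.ι w₁ w₂).left.ker = ⊥ := by
    rw [eq_bot_iff, ← hker, ← hk]
    exact Scheme.Hom.le_ker_comp _ _
  have hiso : IsIso (equalizer.ι w₁ w₂).left := IsClosedImmersion.isIso_iff_ker_eq_bot.mpr hιker
  have hcond := congrArg CommaMorphism.left (equalizer.condition w₁ w₂)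
  simp only [Over.comp_left] at hcond
  exact (cancel_epi (equalizer.ι w₁ w₂).left).mp hcond

end Groth.Agent.S13106
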