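import Groth.Statements.S1763
import Groth.Agent.Lib.Helper2.AssClass
import Groth.Agent.Lib.helper11.LCTorsion

set_option autoImplicit false
universe u
open LocCoh

namespace Groth.Agent.S1763

open CategoryTheory Groth.Agent.Lib.helper11.LCKit Groth.Agent.Lib.Helper2.AssClass

section helpers

variable {A : Type u} [CommRing A] [IsNoetherianRing A] (I : Ideal A)

/-- `H⁰_I` of a noetherian module is noetherian. -/
theorem isNoetherian_H0 (N : Type u) [AddCommGroup N] [Module A N] [IsNoetherian A N] :
    IsNoetherian A (LocCoh.H I 0 N) :=
  isNoetherian_of_injective (ev I (ModuleCat.of A N)) (ev_injective I (ModuleCat.of A N))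

/-- The class of modules with finite `H¹_I` is closed under submodules and extensions. -/
theorem classHyp : ClassHyp (A := A) (fun N _ _ => Module.Finite A (LocCoh.H I 1 N)) where
  zero := by
    intro N _ _ _
    haveI : Subsingleton (LocCoh.H I 1 N) :=
      subsingleton_of_isTors I 1 (by omega) (ModuleCat.of A N)
        (fun m => ⟨0, fun a _ => Subsingleton.elim _ _⟩)
    infer_instance
  sub := by
    intro N' N _ _ _ _ _ f hf hN
    haveI : IsNoetherian A N := isNoetherian_of_isNoetherianRing_of_finite A N
    haveI : IsNoetherian A (LocCoh.H I 1 N) := isNoetherian_of_isNoetherianRing_of_finite A _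
    have hex : Function.Exact f (LinearMap.range f).mkQ := LinearMap.exact_map_mkQ_range f
    let S : ShortComplex (ModuleCat.{u} A) :=
      ModuleCat.shortComplexOfCompEqZero f (LinearMap.range f).mkQ hex.linearMap_comp_eq_zero
    have hS : S.ShortExact :=
      ModuleCat.shortComplex_shortExact S hex hf (Submodule.mkQ_surjective _)
    haveI : IsNoetherian A (LocCoh.H I 0 (N ⧸ LinearMap.range f)) := isNoetherian_H0 I _
    haveI : IsNoetherian A (LocCoh.H I 1 N') := by
      refine isNoetherian_of_range_eq_ker (δ I 0 hS).hom ((localCohomology I 1).map S.f).hom ?_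
      apply le_antisymm
      · rintro _ ⟨y, rfl⟩
        exact LinearMap.mem_ker.2 (map_f_δ I 0 hS y)
      · intro x hx
        obtain ⟨y, hy⟩ := exact₁ I 0 hS x (LinearMap.mem_ker.1 hx)
        exact ⟨y, hy⟩
    infer_instance
  ext := by
    intro N' N N'' _ _ _ _ _ _ _ f g hf hg hex hN' hN''
    haveI : IsNoetherian A (LocCoh.H I 1 N') := isNoetherian_of_isNoetherianRing_of_finite A _
    haveI : IsNoetherian A (LocCoh.H I 1 N'') := isNoetherian_of_isNoetherianRing_of_finite A _
    let S : ShortComplex (ModuleCat.{u} A) :=
      ModuleCat.shortComplexOfCompEqZero f g hex.linearMap_comp_eq_zero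
    have hS : S.ShortExact := ModuleCat.shortComplex_shortExact S hex hf hg
    haveI : IsNoetherian A (LocCoh.H I 1 N) := by
      refine isNoetherian_of_range_eq_ker ((localCohomology I 1).map S.f).hom
        ((localCohomology I 1).map S.g).hom ?_
      apply le_antisymm
      · rintro _ ⟨y, rfl⟩
        exact LinearMap.mem_ker.2 (map_g_map_f I 1 hS y)
      · intro x hx
        obtain ⟨y, hy⟩ := exact₂ I 1 hS x (LinearMap.mem_ker.1 hx)
        exact ⟨y, hy⟩
    infer_instance

end helpers

/-- Fix a Noetherian ring A, an ideal I of A and a finitely generated A-module M. The local cohomology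
module H¹_I(M) is finitely generated over A if and only if, for each associated prime p of M with I
⊄ p, the module H¹_I(A/p) is finitely generated over A. (Affine form, through finiteness of H¹_I, of
a statement about coherence of direct images along the inclusion of the open complement of V(I).) -/
theorem result (A : Type u) [CommRing A] [IsNoetherianRing A] (I : Ideal A) (M : Type u) [AddCommGroup M] [Module A M] [Module.Finite A M] : Module.Finite A (LocCoh.H I 1 M) ↔ ∀ p : Ideal A, p ∈ associatedPrimes A M → ¬ I ≤ p → Module.Finite A (LocCoh.H I 1 (A ⧸ p)) := by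
  constructor
  · intro h p hp _
    obtain ⟨_, f, hf⟩ := (isAssociatedPrime_iff_exists_injective_linearMap p M).1 hp
    exact (classHyp I).sub (A ⧸ p) M f hf h
  · intro h
    refine of_ass (classHyp I) M (fun p hp => ?_)
    by_cases hIp : I ≤ p
    · haveI : Subsingleton (LocCoh.H I 1 (A ⧸ p)) :=
        subsingleton_of_isTors I 1 (by omega) (ModuleCat.of A (A ⧸ p)) (fun m => ⟨1, fun a ha => by
          rw [pow_one] at ha
          obtain ⟨m, rfl⟩ := Submodule.Quotient.mk_surjective _ m
          rw [← Submodule.Quotient.mk_smul, Submodule.Quotient.mk_eq_zero, smul_eq_mul]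
          exact p.mul_mem_right _ (hIp ha)⟩)
      infer_instance
    · exact h p hp hIp

end Groth.Agent.S1763
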