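import Groth.Statements.S18933
import Mathlib
import Groth.Agent.Lib.Helper25.FiniteSyntomic
-- import your own Groth.Agent.* helpers here

set_option autoImplicit false
set_option linter.unusedSectionVars false
set_option linter.style.haveILetI false
set_option linter.unusedVariables false
universe u
open Synt

namespace Groth.Agent.S18933

open MvPolynomial
open Groth.Agent.Lib.Helper25.FiniteSyntomic

/-- the polynomial ring seen as an algebra over itself via `expand p` -/
def Tgt (_p : ℕ) (σ : Type) (A : Type u) [CommRing A] : Type u := MvPolynomial σ A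

section
variable (p : ℕ) (σ : Type) (A : Type u) [CommRing A]

noncomputable instance : CommRing (Tgt p σ A) := inferInstanceAs (CommRing (MvPolynomial σ A))

noncomputable instance : Algebra (MvPolynomial σ A) (Tgt p σ A) :=
  (MvPolynomial.expand p : MvPolynomial σ A →ₐ[A] MvPolynomial σ A).toRingHom.toAlgebra

lemma smul_def' (r : MvPolynomial σ A) (t : Tgt p σ A) :
    r • t = (show MvPolynomial σ A from expand p r * (show MvPolynomial σ A from t)) := rfl

lemma algebraMap_def (r : MvPolynomial σ A) :
    algebraMap (MvPolynomial σ A) (Tgt p σ A) r = (show MvPolynomial σ A from expand p r) := rfl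

variable [Fintype σ] [DecidableEq σ]

/-- exponent vector of a residue function -/
noncomputable def rr (e : σ → Fin p) : σ →₀ ℕ := Finsupp.equivFunOnFinite.symm (fun i => (e i : ℕ))

@[simp] lemma rr_apply (e : σ → Fin p) (i : σ) : rr p σ e i = (e i : ℕ) := rfl

lemma rr_injective : Function.Injective (rr p σ) := by
  intro e e' h
  funext i
  apply Fin.ext
  have := DFunLike.congr_fun h i
  simpa using this

/-- quotient by p -/
noncomputable def qd (d : σ →₀ ℕ) : σ →₀ ℕ := d.mapRange (· / p) (Nat.zero_div p)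
/-- remainder mod p -/
noncomputable def md (d : σ →₀ ℕ) : σ →₀ ℕ := d.mapRange (· % p) (Nat.zero_mod p)

@[simp] lemma qd_apply (d : σ →₀ ℕ) (i : σ) : qd p σ d i = d i / p := rfl
@[simp] lemma md_apply (d : σ →₀ ℕ) (i : σ) : md p σ d i = d i % p := rfl

lemma qd_md (d : σ →₀ ℕ) : p • qd p σ d + md p σ d = d := by
  ext i
  simp [Nat.div_add_mod]

variable (hp : 0 < p)
include hp

/-- residue function of an exponent vector -/
def em (d : σ →₀ ℕ) : σ → Fin p := fun i => ⟨d i % p, Nat.mod_lt _ hp⟩

lemma rr_em (d : σ →₀ ℕ) : rr p σ (em p σ hp d) = md p σ d := by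
  ext i; rfl

lemma md_add (q : σ →₀ ℕ) (e : σ → Fin p) : md p σ (p • q + rr p σ e) = rr p σ e := by
  ext i
  simp [Nat.add_mod, Nat.mod_eq_of_lt (e i).2]

lemma qd_add (q : σ →₀ ℕ) (e : σ → Fin p) : qd p σ (p • q + rr p σ e) = q := by
  ext i
  simp only [qd_apply, Finsupp.coe_add, Finsupp.coe_smul, Pi.add_apply, Pi.smul_apply, rr_apply,
    smul_eq_mul]
  rw [Nat.mul_add_div hp, Nat.div_eq_of_lt (e i).2, add_zero]

omit hp in
/-- the coordinate projections -/
noncomputable def proj (e₀ : σ → Fin p) : MvPolynomial σ A →ₗ[A] MvPolynomial σ A :=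
  (basisMonomials σ A).constr A
    (fun d => if md p σ d = rr p σ e₀ then monomial (qd p σ d) (1 : A) else 0)

omit hp in
lemma proj_monomial (e₀ : σ → Fin p) (d : σ →₀ ℕ) (c : A) :
    proj p σ A e₀ (monomial d c) =
      if md p σ d = rr p σ e₀ then monomial (qd p σ d) c else 0 := by
  have h : monomial d c = c • (basisMonomials σ A d) := by
    simp [coe_basisMonomials, smul_monomial]
  rw [h, map_smul, proj, Module.Basis.constr_basis]
  split_ifs <;> simp [smul_monomial]

lemma proj_expand_mul (e₀ e : σ → Fin p) (g : MvPolynomial σ A) :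
    proj p σ A e₀ (expand p g * monomial (rr p σ e) 1) = if e = e₀ then g else 0 := by
  induction g using MvPolynomial.induction_on' with
  | monomial q c =>
    rw [expand_monomial, monomial_mul, mul_one, proj_monomial, md_add p σ hp, qd_add p σ hp]
    by_cases h : e = e₀
    · simp [h]
    · rw [if_neg h, if_neg (fun h' => h (rr_injective p σ h'))]
  | add f g hf hg =>
    rw [map_add, add_mul, map_add, hf, hg]
    split_ifs <;> simp

/-- the basis vectors -/
noncomputable def bv (e : σ → Fin p) : Tgt p σ A := (monomial (rr p σ e) (1 : A) : MvPolynomial σ A)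

lemma linearIndependent_bv : LinearIndependent (MvPolynomial σ A) (bv p σ A) := by
  rw [Fintype.linearIndependent_iff]
  intro g hg e₀
  have h1 : (∑ e, expand p (g e) * monomial (rr p σ e) (1 : A) : MvPolynomial σ A) = 0 := hg
  have h2 := congrArg (proj p σ A e₀) h1
  rw [map_sum, map_zero] at h2
  simp only [proj_expand_mul p σ A hp] at h2
  simpa using h2

lemma span_bv : ⊤ ≤ Submodule.span (MvPolynomial σ A) (Set.range (bv p σ A)) := by
  intro t _
  induction (show MvPolynomial σ A from t) using MvPolynomial.induction_on' with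
  | monomial d c =>
    have h : (monomial d c : MvPolynomial σ A) =
        (show Tgt p σ A from (monomial (qd p σ d) c : MvPolynomial σ A) • bv p σ A (em p σ hp d)) := by
      rw [smul_def', bv, rr_em]
      change _ = expand p (monomial (qd p σ d) c) * monomial (md p σ d) 1
      rw [expand_monomial, monomial_mul, mul_one, qd_md]
    rw [h]
    exact Submodule.smul_mem _ _ (Submodule.subset_span ⟨_, rfl⟩)
  | add f g hf hg => exact Submodule.add_mem _ hf hg

/-- the basis -/
noncomputable def basis : Module.Basis (σ → Fin p) (MvPolynomial σ A) (Tgt p σ A) :=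
  Module.Basis.mk (linearIndependent_bv p σ A hp) (span_bv p σ A hp)

lemma free : Module.Free (MvPolynomial σ A) (Tgt p σ A) := Module.Free.of_basis (basis p σ A hp)
lemma finite : Module.Finite (MvPolynomial σ A) (Tgt p σ A) := Module.Finite.of_basis (basis p σ A hp)

end

section pres
variable (p : ℕ) (σ : Type) (A : Type u) [CommRing A]

/-- relations `Y_i ^ p - X_i` -/
noncomputable def vrel : σ → MvPolynomial σ (MvPolynomial σ A) :=
  fun i => X i ^ p - C (X i)

/-- forward map -/
noncomputable def fwd0 : MvPolynomial σ (MvPolynomial σ A) →ₐ[MvPolynomial σ A] Tgt p σ A :=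
  aeval (fun i => (show Tgt p σ A from (X i : MvPolynomial σ A)))

lemma fwd0_vrel (i : σ) : fwd0 p σ A (vrel p σ A i) = 0 := by
  unfold fwd0 vrel
  rw [map_sub, map_pow, aeval_X, aeval_C, algebraMap_def, expand_X]
  exact sub_self _

noncomputable def fwd : (MvPolynomial σ (MvPolynomial σ A) ⧸ Ideal.span (Set.range (vrel p σ A)))
    →ₐ[MvPolynomial σ A] Tgt p σ A :=
  Ideal.Quotient.liftₐ _ (fwd0 p σ A) (by
    intro a ha
    have : Ideal.span (Set.range (vrel p σ A)) ≤ RingHom.ker (fwd0 p σ A) := by
      rw [Ideal.span_le]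
      rintro _ ⟨i, rfl⟩
      exact fwd0_vrel p σ A i
    exact this ha)

abbrev Q := (MvPolynomial σ (MvPolynomial σ A) ⧸ Ideal.span (Set.range (vrel p σ A)))

/-- quotient map -/
noncomputable def mkQ : MvPolynomial σ (MvPolynomial σ A) →+* Q p σ A :=
  Ideal.Quotient.mk (Ideal.span (Set.range (vrel p σ A)))

noncomputable def bwd' : MvPolynomial σ A →+* Q p σ A :=
  eval₂Hom ((mkQ p σ A).comp (C.comp C)) (fun i => mkQ p σ A (X i))

noncomputable def bwd : Tgt p σ A →+* Q p σ A := bwd' p σ A

/-- identity -/
noncomputable def idT : Tgt p σ A →+* MvPolynomial σ A := RingHom.id (MvPolynomial σ A)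

lemma fwd_mk (x : MvPolynomial σ (MvPolynomial σ A)) :
    fwd p σ A (Ideal.Quotient.mk _ x) = fwd0 p σ A x := rfl

lemma fwd_bwd' : ((idT p σ A).comp (fwd p σ A : Q p σ A →+* Tgt p σ A)).comp (bwd' p σ A) =
    RingHom.id _ := by
  apply MvPolynomial.ringHom_ext
  · intro a
    simp only [bwd', RingHom.comp_apply, RingHom.id_apply, eval₂Hom_C]
    erw [fwd_mk]
    unfold fwd0
    rw [aeval_C, algebraMap_def, expand_C]
  · intro i
    simp only [bwd', RingHom.comp_apply, RingHom.id_apply, eval₂Hom_X']
    erw [fwd_mk]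
    unfold fwd0
    rw [aeval_X]

lemma fwd_bwd (t : Tgt p σ A) : fwd p σ A (bwd p σ A t) = t :=
  RingHom.congr_fun (fwd_bwd' p σ A) t

lemma bwd_expand : (bwd' p σ A).comp (expand p : MvPolynomial σ A →ₐ[A] MvPolynomial σ A).toRingHom =
    (Ideal.Quotient.mk _).comp C := by
  apply MvPolynomial.ringHom_ext
  · intro a
    simp only [bwd', RingHom.comp_apply, AlgHom.toRingHom_eq_coe, RingHom.coe_coe, expand_C,
      eval₂Hom_C]
    rfl
  · intro i
    simp only [bwd', RingHom.comp_apply, AlgHom.toRingHom_eq_coe, RingHom.coe_coe, expand_X,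
      map_pow, eval₂Hom_X']
    rw [← map_pow]
    exact (Ideal.Quotient.eq).2 (Ideal.subset_span ⟨i, rfl⟩)

lemma bwd_fwd' : ((bwd p σ A).comp (fwd p σ A : Q p σ A →+* Tgt p σ A)).comp
    (Ideal.Quotient.mk _) = Ideal.Quotient.mk _ := by
  apply MvPolynomial.ringHom_ext
  · intro r
    simp only [RingHom.comp_apply]
    erw [fwd_mk]
    unfold fwd0
    rw [aeval_C, algebraMap_def]
    exact RingHom.congr_fun (bwd_expand p σ A) r
  · intro i
    simp only [RingHom.comp_apply]
    erw [fwd_mk]
    unfold fwd0
    rw [aeval_X]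
    simp only [bwd, bwd']
    exact eval₂Hom_X' _ _ _

lemma bwd_fwd (x : Q p σ A) : bwd p σ A (fwd p σ A x) = x := by
  obtain ⟨x, rfl⟩ := Ideal.Quotient.mk_surjective x
  exact RingHom.congr_fun (bwd_fwd' p σ A) x

/-- the equivalence -/
noncomputable def eqv : Q p σ A ≃ₐ[MvPolynomial σ A] Tgt p σ A :=
  AlgEquiv.ofBijective (fwd p σ A)
    ⟨Function.LeftInverse.injective (bwd_fwd p σ A),
     Function.RightInverse.surjective (fwd_bwd p σ A)⟩

/-- the presentation -/
noncomputable def pres : Algebra.Presentation (MvPolynomial σ A) (Tgt p σ A) σ σ :=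
  (Algebra.Presentation.naive (v := vrel p σ A)).ofAlgEquiv (eqv p σ A)

end pres

/-- Let p be a prime, A a Noetherian commutative ring and m a natural number, and let φ be the A-algebra
endomorphism of the polynomial ring A[T_1, …, T_m] with φ(T_i) = T_i^p. Then φ is syntomic and
faithfully flat (so Spec φ is a covering for the syntomic topology). -/
theorem result (p : ℕ) [Fact p.Prime]
    (A : Type u) [CommRing A] [IsNoetherianRing A] (m : ℕ)
    (φ : MvPolynomial (Fin m) A →ₐ[A] MvPolynomial (Fin m) A)
    (hφ : ∀ i : Fin m, φ (MvPolynomial.X i) = MvPolynomial.X i ^ p) :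
    @Synt.IsSyntomic (MvPolynomial (Fin m) A) _ (MvPolynomial (Fin m) A) _ φ.toRingHom.toAlgebra ∧
      φ.toRingHom.FaithfullyFlat := by
  have hp : 0 < p := (Fact.out : p.Prime).pos
  obtain rfl : φ = expand p := by
    apply MvPolynomial.algHom_ext
    intro i
    rw [hφ, expand_X]
  haveI := free p (Fin m) A hp
  haveI := finite p (Fin m) A hp
  have h1 : Synt.IsSyntomic (MvPolynomial (Fin m) A) (Tgt p (Fin m) A) :=
    isSyntomic_of_finite_flat _ _ rfl (pres p (Fin m) A)
  have h2 : Module.FaithfullyFlat (MvPolynomial (Fin m) A) (Tgt p (Fin m) A) := by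
    rcases subsingleton_or_nontrivial A with h | h
    · refine { submodule_ne_top := fun m hm => ?_ }
      exact absurd (Subsingleton.elim m ⊤) hm.ne_top
    · haveI : Nontrivial (Tgt p (Fin m) A) := inferInstanceAs (Nontrivial (MvPolynomial (Fin m) A))
      infer_instance
  exact ⟨h1, h2⟩

end Groth.Agent.S18933
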