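import Groth.Statements.S5973
import Groth.Agent.Lib.Helper29.GrBC
import Groth.Agent.Lib.Helper17.FinTypePushPull

set_option autoImplicit false
universe u
open CategoryTheory CategoryTheory.Limits AlgebraicGeometry TopologicalSpace Opposite
open Nrm16

namespace Groth.Agent.S5973



open Groth.Agent.Lib.Helper29.ConormalBC in
/-- the module of an ideal sheaf with finitely generated ideals is of finite type. -/
theorem isFiniteType_idealMod {X : Scheme.{u}} (K : X.IdealSheafData)
    (hK : ∀ U : X.affineOpens, (K.ideal U).FG) :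
    SheafOfModules.IsFiniteType.{u} (R := X.ringCatSheaf) (ClSub.idealMod K) := by
  refine Groth.Agent.Lib.Helper17.FinTypeConv.isFiniteType_of_forall_finite_sections _ ?_
  intro U
  have h1 := range_idealιLin K U.2
  have h2 : (LinearMap.range (idealιLin K U.1)).FG := by
    rw [h1]
    exact hK U
  let e := LinearEquiv.ofInjective (idealιLin K U.1) (idealιLin_injective K U.1)
  haveI : Module.Finite Γ(X, U.1) (LinearMap.range (idealιLin K U.1)) :=
    Module.Finite.iff_fg.2 h2
  exact Module.Finite.equiv e.symm

theorem fg_ker_of_lfp {Z X : Scheme.{u}} (i : Z ⟶ X) [IsClosedImmersion i]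
    [LocallyOfFinitePresentation i] (U : X.affineOpens) : (i.ker.ideal U).FG := by
  rw [Scheme.Hom.ker_apply]
  have haff : IsAffineOpen (i ⁻¹ᵁ U.1) := U.2.preimage i
  have hsurj : Function.Surjective (i.app U.1).hom := i.app_surjective U.1 U.2
  have hfp : (i.app U.1).hom.FinitePresentation := by
    have := HasRingHomProperty.appLE (P := @LocallyOfFinitePresentation) i inferInstance U
      ⟨i ⁻¹ᵁ U.1, haff⟩ le_rfl
    rwa [← Scheme.Hom.app_eq_appLE] at this
  set φ := (i.app U.1).hom with hφ
  letI : Algebra Γ(X, U.1) Γ(Z, i ⁻¹ᵁ U.1) := φ.toAlgebra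
  haveI : Algebra.FinitePresentation Γ(X, U.1) Γ(Z, i ⁻¹ᵁ U.1) := hfp
  have h := Algebra.FinitePresentation.ker_fG_of_surjective
    (Algebra.ofId Γ(X, U.1) Γ(Z, i ⁻¹ᵁ U.1)) hsurj
  exact h

/-- Let f : Y ⟶ X be a closed immersion which is locally of finite presentation. Then for every n the
n-th graded piece Gr_n(f) = I^n/I^(n+1) of the ideal of f, as an O_Y-module, is quasi-coherent of
finite type. (The published statement allows any immersion locally of finite presentation; this row
states the case of a closed immersion.) -/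
theorem result {Y X : Scheme.{u}} (f : Y ⟶ X) [IsClosedImmersion f]
    [LocallyOfFinitePresentation f] (n : ℕ) :
    Coh.IsCoh (PrinPart.grMod f n) := by
  haveI : SheafOfModules.IsFiniteType.{u} (R := X.ringCatSheaf) (ClSub.idealMod (f.ker ^ n)) := by
    refine isFiniteType_idealMod _ ?_
    intro U
    change ((f.ker.ideal U) ^ n).FG
    exact Ideal.FG.pow (fg_ker_of_lfp f U)
  refine ⟨?_, ?_⟩
  · change ((Scheme.Modules.pullback f).obj (ClSub.idealMod (f.ker ^ n))).IsQuasicoherent
    infer_instance
  · exact Groth.Agent.Lib.Helper17.FinTypePushPull.isFiniteType_pullback f _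



end Groth.Agent.S5973
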