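import Groth.Statements.S5841
import Groth.Agent.Lib.Helper29.ZClosLib2
import Groth.Agent.Lib.Helper28.QCohPush

set_option autoImplicit false
universe u
open ZClos

namespace Groth.Agent.S5841

open CategoryTheory CategoryTheory.Limits AlgebraicGeometry TopologicalSpace Opposite
open ZClos Groth.Agent.Lib.Helper28.QCohLoc Groth.Agent.Lib.Helper29.ZClosLib Groth.Agent.Lib.Helper29.FilColimSec

theorem isQuasicoherent_resPush {X : Scheme.{u}} [IsLocallyNoetherian X] (U : X.Opens) (F : X.Modules)
    [F.IsQuasicoherent] : ((resPush U).obj F).IsQuasicoherent := by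
  haveI : ((Scheme.Modules.restrictFunctor U.ι).obj F).IsQuasicoherent := inferInstance
  exact isQuasicoherent_pushforward U.ι _

theorem cinj_smul {X : Scheme.{u}} (Z : Set X) (F : X.Modules) (T : Cl Z) (V : X.Opens) (a : Γ(X, V))
    (s : Γ(((diagram Z).obj F).obj T, V)) :
    cinj Z F T V (a • s : Γ(((diagram Z).obj F).obj T, V)) = a • cinj Z F T V s :=
  Scheme.Modules.Hom.app_smul (colimit.ι ((diagram Z).obj F) T) a s

open CategoryTheory CategoryTheory.Limits AlgebraicGeometry in
/-- For a locally Noetherian scheme X, a subset Z of X stable under specialization and a quasi-coherent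
O_X-module F, the Z-closure H⁰_{X/Z}(F) is quasi-coherent. -/
theorem result (X : Scheme.{u}) [IsLocallyNoetherian X] (Z : Set X)
    (hZ : StableUnderSpecialization Z) (F : X.Modules) (hF : Coh.IsQCoh F) :
    Coh.IsQCoh ((ZClos.H0 Z).obj F) := by
  haveI : F.IsQuasicoherent := hF
  have hG : ∀ (T : Cl Z) (V : X.affineOpens), IsLocOn (((diagram Z).obj F).obj T) V.1 := fun T V => by
    haveI := isQuasicoherent_resPush T.U F
    exact isLocOn_of_isQuasicoherent (M := (resPush T.U).obj F) V.2
  refine isQuasicoherent_of_forall_isLocOn _ fun V => ⟨fun r y => ?_, fun r x hx => ?_⟩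
  · have hc : IsCompact ((X.basicOpen r : X.Opens) : Set X) := (V.2.basicOpen r).isCompact
    obtain ⟨T, s, rfl⟩ := cinj_surj Z F _ hc y
    obtain ⟨n, x, hx⟩ := (hG T V).surj r (show Γ(((diagram Z).obj F).obj T, X.basicOpen r) from s)
    refine ⟨n, cinj Z F T V.1 x, ?_⟩
    have e1 := cinj_smul Z F T (X.basicOpen r) (resO (X.basicOpen_le r) r ^ n)
      (show Γ(((diagram Z).obj F).obj T, X.basicOpen r) from s)
    have e2 : cinj Z F T (X.basicOpen r) (res F (Op_mono T (X.basicOpen_le r)) x) =
        res ((H0 Z).obj F) (X.basicOpen_le r) (cinj Z F T V.1 x) := (cinj_res Z F T (X.basicOpen_le r) x).symm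
    exact e1.symm.trans ((congrArg (fun z => cinj Z F T (X.basicOpen r) z) hx).trans e2)
  · obtain ⟨T, s, rfl⟩ := cinj_surj Z F V.1 V.2.isCompact x
    have hc : IsCompact ((X.basicOpen r : X.Opens) : Set X) := (V.2.basicOpen r).isCompact
    rw [cinj_res] at hx
    obtain ⟨T', hT, h0⟩ := cinj_eq_zero Z F _ hc T _ hx
    rw [res_res] at h0
    have h1 : res (((diagram Z).obj F).obj T') (X.basicOpen_le r)
        (show Γ(((diagram Z).obj F).obj T', V.1) from res F (Op_anti hT V.1) s) = 0 := by
      change res F (Op_mono T' (X.basicOpen_le r)) (res F (Op_anti hT V.1) s) = 0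
      rw [res_res]
      exact h0
    obtain ⟨n, hn⟩ := (hG T' V).inj r _ h1
    refine ⟨n, ?_⟩
    rw [cinj_trans Z F hT V.1 s]
    have e1 := cinj_smul Z F T' V.1 (r ^ n)
      (show Γ(((diagram Z).obj F).obj T', V.1) from res F (Op_anti hT V.1) s)
    exact e1.symm.trans ((congrArg (fun z => cinj Z F T' V.1 z) hn).trans (cinj_zero Z F T' V.1))



end Groth.Agent.S5841
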