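import Groth.Statements.S5120
import Mathlib.Algebra.Polynomial.Div
import Mathlib.Algebra.Polynomial.Inductions
import Mathlib.Algebra.Polynomial.Degree.Support

set_option autoImplicit false
universe u
open SGA1t

namespace Groth.Agent.S5120

open Polynomial

variable {A : Type u} [CommRing A]

/-- The map `c ↦ ∑ c_i(g) X^i`. -/
noncomputable def Φ (p : ℕ) (c : Fin p → A[X]) : A[X] :=
  ∑ i : Fin p, aeval (X - X ^ p : A[X]) (c i) * X ^ (i : ℕ)

theorem Φ_decomp (p : ℕ) (c : Fin p → A[X]) (a : Fin p → A) :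
    Φ p (fun i => X * c i + C (a i)) =
      (X - X ^ p) * Φ p c + ∑ i : Fin p, C (a i) * X ^ (i : ℕ) := by
  unfold Φ
  rw [Finset.mul_sum, ← Finset.sum_add_distrib]
  refine Finset.sum_congr rfl fun i _ => ?_
  simp only [map_add, map_mul, aeval_X, aeval_C, algebraMap_eq]
  ring

variable [Nontrivial A]

theorem natDegree_h (p : ℕ) (hp : 2 ≤ p) : (X ^ p - X : A[X]).natDegree = p := by
  rw [natDegree_sub_eq_left_of_natDegree_lt]
  · simp
  · simp; omega

theorem monic_h (p : ℕ) (hp : 2 ≤ p) : (X ^ p - X : A[X]).Monic := by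
  apply monic_X_pow_sub
  rw [degree_X]
  exact_mod_cast (show 1 < p by omega)

theorem exists_rep (p : ℕ) (hp : 2 ≤ p) : ∀ (n : ℕ) (q : A[X]), q.natDegree = n →
    ∃ c : Fin p → A[X], q = Φ p c := by
  intro n
  induction n using Nat.strong_induction_on with
  | _ n ih =>
  intro q hn
  have hh := monic_h (A := A) p hp
  have hdeg := natDegree_h (A := A) p hp
  have hne1 : (X ^ p - X : A[X]) ≠ 1 := by
    intro h1
    have := congrArg natDegree h1
    rw [hdeg, natDegree_one] at this
    omega
  set r := q %ₘ (X ^ p - X) with hr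
  set q₁ := q /ₘ (X ^ p - X) with hq₁
  have hrdeg : r.natDegree < p := by
    have := natDegree_modByMonic_lt q hh hne1
    rwa [hdeg] at this
  have hrsum : r = ∑ i : Fin p, C (r.coeff i) * X ^ (i : ℕ) := by
    conv_lhs => rw [as_sum_range' r p hrdeg]
    rw [Fin.sum_univ_eq_sum_range (fun i => C (r.coeff i) * X ^ i) p]
    refine Finset.sum_congr rfl fun i _ => ?_
    rw [C_mul_X_pow_eq_monomial]
  have hq : r + (X ^ p - X) * q₁ = q := modByMonic_add_div q _
  obtain ⟨c₁, hc₁⟩ : ∃ c₁ : Fin p → A[X], q₁ = Φ p c₁ := by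
    by_cases hlt : q.natDegree < p
    · refine ⟨0, ?_⟩
      have : q₁ = 0 := by
        rw [hq₁, divByMonic_eq_zero_iff hh]
        apply degree_lt_degree
        rw [hdeg]; exact hlt
      rw [this]
      simp [Φ]
    · apply ih q₁.natDegree _ q₁ rfl
      rw [hq₁, natDegree_divByMonic q hh, hdeg, ← hn]
      omega
  refine ⟨fun i => X * (- c₁ i) + C (r.coeff i), ?_⟩
  rw [Φ_decomp, ← hrsum]
  have : Φ p (fun i => - c₁ i) = - Φ p c₁ := by
    unfold Φ
    simp [Finset.sum_neg_distrib]
  rw [this, ← hc₁, ← hq]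
  ring

theorem step (p : ℕ) (hp : 2 ≤ p) (c : Fin p → A[X]) (h0 : Φ p c = 0) :
    (∀ i, (c i).coeff 0 = 0) ∧ Φ p (fun i => divX (c i)) = 0 := by
  have hh := monic_h (A := A) p hp
  have hdeg := natDegree_h (A := A) p hp
  have hc : c = fun i => X * divX (c i) + C ((c i).coeff 0) := by
    funext i
    conv_lhs => rw [← divX_mul_X_add (c i)]
    ring
  rw [hc, Φ_decomp] at h0
  set r := ∑ i : Fin p, C ((c i).coeff 0) * X ^ (i : ℕ) with hr
  have hrdeg : degree r < degree (X ^ p - X : A[X]) := by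
    rw [degree_eq_natDegree hh.ne_zero, hdeg]
    exact degree_sum_fin_lt _
  have := div_modByMonic_unique (f := (0 : A[X])) (-Φ p (fun i => divX (c i))) r hh
    ⟨by linear_combination h0, hrdeg⟩
  rw [zero_divByMonic, zero_modByMonic] at this
  obtain ⟨h1, h2⟩ := this
  refine ⟨fun i => ?_, by rw [← neg_eq_zero]; exact h1.symm⟩
  have := congrArg (fun f => coeff f (i : ℕ)) h2
  simp only [coeff_zero, hr, finset_sum_coeff, coeff_C_mul, coeff_X_pow] at this
  rw [Finset.sum_eq_single i] at this
  · simpa using this.symm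
  · intro j _ hji
    rw [if_neg, mul_zero]
    intro h
    exact hji (Fin.ext h.symm)
  · intro h; exact absurd (Finset.mem_univ i) h

theorem inj (p : ℕ) (hp : 2 ≤ p) (k : ℕ) : ∀ (c : Fin p → A[X]), Φ p c = 0 → ∀ i, (c i).coeff k = 0 := by
  induction k with
  | zero => intro c h0; exact (step p hp c h0).1
  | succ k ih =>
    intro c h0 i
    have := ih _ (step p hp c h0).2 i
    rwa [coeff_divX] at this

omit [Nontrivial A] in
theorem Φ_sub (p : ℕ) (c c' : Fin p → A[X]) : Φ p (c - c') = Φ p c - Φ p c' := by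
  unfold Φ
  rw [← Finset.sum_sub_distrib]
  refine Finset.sum_congr rfl fun i _ => ?_
  simp only [Pi.sub_apply, map_sub]
  ring


open Polynomial in
/-- The computation behind the exactness of the Artin-Schreier sequence 0 → Z/p → G_a → G_a → 0 in
characteristic p, i.e. faithful flatness of ℘ = id − F: Let p be a prime and A a ring of
characteristic p. Then A[t] is free of rank p over itself via the endomorphism t ↦ t − t^p, with
basis 1, t, …, t^{p−1}: every polynomial q can be written in exactly one way as Σ_{i<p} c_i(t − t^p)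
t^i. -/
theorem result (p : ℕ) [Fact p.Prime] (A : Type u) [CommRing A] [CharP A p]
    (q : A[X]) :
    ∃! c : Fin p → A[X], q = ∑ i : Fin p, aeval (X - X ^ p : A[X]) (c i) * X ^ (i : ℕ) := by
  have hp : 2 ≤ p := (Fact.out : p.Prime).two_le
  have : Nontrivial A := CharP.nontrivial_of_char_ne_one (R := A) (v := p) (by omega)
  obtain ⟨c, hc⟩ := exists_rep p hp _ q rfl
  refine ⟨c, hc, ?_⟩
  intro c' hc'
  have h0 : Φ p (c' - c) = 0 := by
    rw [Φ_sub, ← hc]
    show Φ p c' - q = 0
    rw [hc']; exact sub_self _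
  funext i
  ext k
  have := inj p hp k _ h0 i
  simpa [sub_eq_zero] using this

end Groth.Agent.S5120
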