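import Groth.Statements.S9716
import Groth.Agent.Lib.Helper29.FreeIso6
import Groth.Agent.Lib.Helper28.QCohPush
import Groth.Agent.S12451

set_option autoImplicit false
universe u
open CategoryTheory AlgebraicGeometry
open Mor

namespace Groth.Agent.S9716

open CategoryTheory.Limits
open Groth.Agent.Lib.Helper28.QCohLoc Groth.Agent.Lib.Helper28.TwistGen Groth.Agent.Lib.Helper29.FreeIso
open Groth.Agent.Lib.Helper29.QCohStalk

variable {X S : Scheme.{u}} (f : X ⟶ S)

/-- the pushforward of the structure sheaf -/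
noncomputable abbrev PO : S.Modules := (Scheme.Modules.pushforward f).obj (Coh.structureModule X)

example (V : S.Opens) : Γ(PO f, V) = Γ(Coh.structureModule X, f ⁻¹ᵁ V) := rfl

theorem smul_PO (V : S.Opens) (a : Γ(S, V)) (m : Γ(PO f, V)) :
    a • m = toSM (f.app V a * ofSM (show Γ(Coh.structureModule X, f ⁻¹ᵁ V) from m)) := rfl

theorem res_PO {V W : S.Opens} (h : W ≤ V) (m : Γ(PO f, V)) :
    res (PO f) h m = toSM (resO (f.preimage_mono h) (ofSM (show Γ(Coh.structureModule X, f ⁻¹ᵁ V) from m))) := rfl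
theorem sum_PO (V : S.Opens) {n : ℕ} (c : Fin n → Γ(S, V)) (t : Fin n → Γ(PO f, V)) :
    ofSM (show Γ(Coh.structureModule X, f ⁻¹ᵁ V) from (∑ j, c j • t j : Γ(PO f, V))) =
      ∑ j, f.app V (c j) * ofSM (show Γ(Coh.structureModule X, f ⁻¹ᵁ V) from t j) := rfl

/-- local freeness of `f_* O_X` gives affine opens over which `f` is finite free -/
theorem exists_affine_free (h : FlatMod.IsFinLocFree (PO f)) (s : S) :
    ∃ V : S.Opens, IsAffineOpen V ∧ s ∈ V ∧
      (letI := (f.app V).hom.toAlgebra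
       Module.Free Γ(S, V) Γ(X, f ⁻¹ᵁ V) ∧ Module.Finite Γ(S, V) Γ(X, f ⁻¹ᵁ V)) := by
  obtain ⟨U, n, hsU, ⟨e⟩⟩ := h s
  obtain ⟨τ, hτ, hgen⟩ := exists_isBasisOn_of_iso' (PO f) U n e
  obtain ⟨V, hV, hsV, hVU⟩ := (TopologicalSpace.Opens.isBasis_iff_nbhd.1 S.isBasis_affineOpens) hsU
  refine ⟨V, hV, hsV, ?_⟩
  letI := (f.app V).hom.toAlgebra
  let b : Fin n → Γ(X, f ⁻¹ᵁ V) := fun j => ofSM (show Γ(Coh.structureModule X, f ⁻¹ᵁ V) from res (PO f) hVU (τ j))
  have hsmul : ∀ (a : Γ(S, V)) (m : Γ(X, f ⁻¹ᵁ V)), a • m = f.app V a * m := fun a m => Algebra.smul_def a m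
  have hli : LinearIndependent Γ(S, V) b := by
    rw [Fintype.linearIndependent_iff]
    intro c hc
    refine hτ.1 V hVU c ?_
    have h1 := sum_PO f V c (fun j => res (PO f) hVU (τ j))
    have h2 : (∑ j, f.app V (c j) * b j : Γ(X, f ⁻¹ᵁ V)) = 0 := by
      rw [← hc]
      exact Finset.sum_congr rfl fun j _ => (hsmul _ _).symm
    exact h1.trans h2
  have hspan : Submodule.span Γ(S, V) (Set.range b) = ⊤ := by
    rw [eq_top_iff]
    rintro m -
    obtain ⟨c, hc⟩ := hgen V hVU (toSM m)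
    have h1 := sum_PO f V c (fun j => res (PO f) hVU (τ j))
    have h2 : m = ∑ j, c j • b j := by
      have h3 : m = ofSM (show Γ(Coh.structureModule X, f ⁻¹ᵁ V) from (toSM m)) := rfl
      rw [h3, hc]
      exact h1.trans (Finset.sum_congr rfl fun j _ => (hsmul _ _).symm)
    rw [h2]
    exact Submodule.sum_mem _ fun j _ => Submodule.smul_mem _ _ (Submodule.subset_span ⟨j, rfl⟩)
  exact ⟨Module.Free.of_basis (Module.Basis.mk hli hspan.ge), Module.Finite.of_basis (Module.Basis.mk hli hspan.ge)⟩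

theorem flat_of_cover [IsAffineHom f]
    (h : ∀ s : S, ∃ V : S.Opens, IsAffineOpen V ∧ s ∈ V ∧ (f.app V).hom.Flat) : Flat f := by
  rw [HasRingHomProperty.iff_exists_appLE (P := @Flat)
    (RingHom.Flat.stableUnderComposition.stableUnderCompositionWithLocalizationAway
      RingHom.Flat.holdsForLocalizationAway).left]
  intro x
  obtain ⟨V, hV, hxV, hflat⟩ := h (f x)
  refine ⟨⟨V, hV⟩, ⟨f ⁻¹ᵁ V, hV.preimage f⟩, hxV, le_rfl, ?_⟩
  rw [← Scheme.Hom.app_eq_appLE]
  exact hflat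

theorem lfp_of_cover [IsAffineHom f]
    (h : ∀ s : S, ∃ V : S.Opens, IsAffineOpen V ∧ s ∈ V ∧ (f.app V).hom.FinitePresentation) :
    LocallyOfFinitePresentation f := by
  rw [HasRingHomProperty.iff_exists_appLE (P := @LocallyOfFinitePresentation)
    (RingHom.finitePresentation_stableUnderComposition.stableUnderCompositionWithLocalizationAway
      RingHom.finitePresentation_holdsForLocalizationAway).left]
  intro x
  obtain ⟨V, hV, hxV, hfp⟩ := h (f x)
  refine ⟨⟨V, hV⟩, ⟨f ⁻¹ᵁ V, hV.preimage f⟩, hxV, le_rfl, ?_⟩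
  rw [← Scheme.Hom.app_eq_appLE]
  exact hfp

set_option backward.isDefEq.respectTransparency.types false in
theorem isFinite_of_cover [IsAffineHom f]
    (h : ∀ s : S, ∃ V : S.Opens, IsAffineOpen V ∧ s ∈ V ∧ (f.app V).hom.Finite) : IsFinite f := by
  choose V hV hsV hfin using h
  rw [HasAffineProperty.iff_of_iSup_eq_top (P := @IsFinite)
    (Q := fun X _ f _ ↦ IsAffine X ∧ RingHom.Finite (f.appTop).hom) (fun s => (⟨V s, hV s⟩ : S.affineOpens))
    (by
      rw [eq_top_iff]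
      intro s _
      exact TopologicalSpace.Opens.mem_iSup.2 ⟨s, hsV s⟩)]
  intro s
  refine ⟨(hV s).preimage f, ?_⟩
  show RingHom.Finite ((f ∣_ V s).app ⊤).hom
  rw [morphismRestrict_app]
  refine (RingHom.finite_respectsIso.cancel_right_isIso (f.app ((V s).ι ''ᵁ ⊤)) _).2 ?_
  have h1 := hfin s
  have h2 : (V s).ι ''ᵁ ⊤ = V s := Scheme.Opens.ι_image_top _
  rw [h2]
  exact h1


theorem forward (haff : IsAffineHom f) (h : FlatMod.IsFinLocFree (PO f)) : Mor2.IsFinLocFree f := by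
  have key := exists_affine_free f h
  refine ⟨isFinite_of_cover f ?_, flat_of_cover f ?_, lfp_of_cover f ?_⟩
  · intro s
    obtain ⟨V, hV, hsV, hfree, hfin⟩ := key s
    exact ⟨V, hV, hsV, hfin⟩
  · intro s
    obtain ⟨V, hV, hsV, hfree, hfin⟩ := key s
    refine ⟨V, hV, hsV, ?_⟩
    letI := (f.app V).hom.toAlgebra
    show Module.Flat Γ(S, V) Γ(X, f ⁻¹ᵁ V)
    infer_instance
  · intro s
    obtain ⟨V, hV, hsV, hfree, hfin⟩ := key s
    refine ⟨V, hV, hsV, ?_⟩
    letI := (f.app V).hom.toAlgebra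
    show Algebra.FinitePresentation Γ(S, V) Γ(X, f ⁻¹ᵁ V)
    haveI : Module.FinitePresentation Γ(S, V) Γ(X, f ⁻¹ᵁ V) := Module.finitePresentation_of_projective _ _
    exact Algebra.FinitePresentation.of_finitePresentation _ _


/-- over a basic open of an affine open, the sections of `X` over the preimage are the localized module -/
theorem free_basicOpen [IsAffineHom f] {V : S.Opens} (hV : IsAffineOpen V) (g : Γ(S, V))
    (hfree : letI := (f.app V).hom.toAlgebra
      Module.Free (Localization (Submonoid.powers g)) (LocalizedModule (Submonoid.powers g) Γ(X, f ⁻¹ᵁ V)))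
    (hfin : letI := (f.app V).hom.toAlgebra; Module.Finite Γ(S, V) Γ(X, f ⁻¹ᵁ V)) :
    letI := (f.app (S.basicOpen g)).hom.toAlgebra
    Module.Free Γ(S, S.basicOpen g) Γ(X, f ⁻¹ᵁ S.basicOpen g) ∧
      Module.Finite Γ(S, S.basicOpen g) Γ(X, f ⁻¹ᵁ S.basicOpen g) := by
  letI algAB : Algebra Γ(S, V) Γ(X, f ⁻¹ᵁ V) := (f.app V).hom.toAlgebra
  letI algWB : Algebra Γ(S, S.basicOpen g) Γ(X, f ⁻¹ᵁ S.basicOpen g) := (f.app (S.basicOpen g)).hom.toAlgebra
  have hle : f ⁻¹ᵁ S.basicOpen g ≤ f ⁻¹ᵁ V := f.preimage_mono (S.basicOpen_le g)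
  letI algBB : Algebra Γ(X, f ⁻¹ᵁ V) Γ(X, f ⁻¹ᵁ S.basicOpen g) := (X.presheaf.map (homOfLE hle).op).hom.toAlgebra
  letI algAB' : Algebra Γ(S, V) Γ(X, f ⁻¹ᵁ S.basicOpen g) :=
    ((algebraMap Γ(S, S.basicOpen g) Γ(X, f ⁻¹ᵁ S.basicOpen g)).comp
      (algebraMap Γ(S, V) Γ(S, S.basicOpen g))).toAlgebra
  haveI tow1 : IsScalarTower Γ(S, V) Γ(S, S.basicOpen g) Γ(X, f ⁻¹ᵁ S.basicOpen g) :=
    IsScalarTower.of_algebraMap_eq fun _ => rfl
  haveI tow2 : IsScalarTower Γ(S, V) Γ(X, f ⁻¹ᵁ V) Γ(X, f ⁻¹ᵁ S.basicOpen g) :=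
    IsScalarTower.of_algebraMap_eq fun a => app_resO f (S.basicOpen_le g) a
  haveI locA : IsLocalization (Submonoid.powers g) Γ(S, S.basicOpen g) := hV.isLocalization_basicOpen g
  haveI locB : IsLocalization (Algebra.algebraMapSubmonoid Γ(X, f ⁻¹ᵁ V) (Submonoid.powers g))
      Γ(X, f ⁻¹ᵁ S.basicOpen g) := by
    have h1 := (hV.preimage f).isLocalization_of_eq_basicOpen (f.app V g) (homOfLE hle)
      (Scheme.preimage_basicOpen f g)
    have h2 : Algebra.algebraMapSubmonoid Γ(X, f ⁻¹ᵁ V) (Submonoid.powers g) =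
        Submonoid.powers (f.app V g) := Submonoid.map_powers _ _
    rw [h2]
    exact h1
  haveI locM : IsLocalizedModule (Submonoid.powers g)
      (IsScalarTower.toAlgHom Γ(S, V) Γ(X, f ⁻¹ᵁ V) Γ(X, f ⁻¹ᵁ S.basicOpen g)).toLinearMap :=
    isLocalizedModule_iff_isLocalization.2 locB
  haveI : Module.Free (Localization (Submonoid.powers g)) (LocalizedModule (Submonoid.powers g) Γ(X, f ⁻¹ᵁ V)) :=
    hfree
  refine ⟨?_, ?_⟩
  · exact Groth.Agent.S12451.free_of_isLocalizedModule_of_free (Submonoid.powers g)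
      (R₁ := Localization (Submonoid.powers g))
      (LocalizedModule.mkLinearMap (Submonoid.powers g) Γ(X, f ⁻¹ᵁ V))
      (IsScalarTower.toAlgHom Γ(S, V) Γ(X, f ⁻¹ᵁ V) Γ(X, f ⁻¹ᵁ S.basicOpen g)).toLinearMap
  · haveI := hfin
    exact Module.Finite.of_isLocalizedModule (Submonoid.powers g) (Rₚ := Γ(S, S.basicOpen g))
      (IsScalarTower.toAlgHom Γ(S, V) Γ(X, f ⁻¹ᵁ V) Γ(X, f ⁻¹ᵁ S.basicOpen g)).toLinearMap


theorem backward (h : Mor2.IsFinLocFree f) : IsAffineHom f ∧ FlatMod.IsFinLocFree (PO f) := by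
  obtain ⟨hfin, hflat, hfp⟩ := h
  haveI : IsAffineHom f := inferInstance
  refine ⟨inferInstance, ?_⟩
  intro s
  obtain ⟨V, hV, hsV, -⟩ := (TopologicalSpace.Opens.isBasis_iff_nbhd.1 S.isBasis_affineOpens)
    (show s ∈ (⊤ : S.Opens) from trivial)
  letI algAB : Algebra Γ(S, V) Γ(X, f ⁻¹ᵁ V) := (f.app V).hom.toAlgebra
  haveI hfinV : Module.Finite Γ(S, V) Γ(X, f ⁻¹ᵁ V) := IsFinite.finite_app f V hV
  haveI hflatV : Module.Flat Γ(S, V) Γ(X, f ⁻¹ᵁ V) := by
    have h1 := Flat.flat_appLE f hV (hV.preimage f) le_rfl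
    rw [← Scheme.Hom.app_eq_appLE] at h1
    exact h1
  haveI hfpV : Algebra.FinitePresentation Γ(S, V) Γ(X, f ⁻¹ᵁ V) := by
    have h1 := LocallyOfFinitePresentation.finitePresentation_appLE f hV (hV.preimage f) le_rfl
    rw [← Scheme.Hom.app_eq_appLE] at h1
    exact h1
  haveI : Module.FinitePresentation Γ(S, V) Γ(X, f ⁻¹ᵁ V) :=
    Module.FinitePresentation.of_finite_of_finitePresentation _ _
  let p := germPrime V s hsV
  haveI : Module.Free (Localization.AtPrime p) (LocalizedModule p.primeCompl Γ(X, f ⁻¹ᵁ V)) :=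
    Module.free_of_flat_of_isLocalRing
  obtain ⟨g, hg, hfree, -⟩ := Module.FinitePresentation.exists_free_localizedModule_powers
    p.primeCompl (LocalizedModule.mkLinearMap p.primeCompl Γ(X, f ⁻¹ᵁ V)) (Localization.AtPrime p)
  have hsW : s ∈ S.basicOpen g := by
    by_contra hcon
    exact hg ((mem_germPrime_iff_notMem_basicOpen V s hsV g).2 hcon)
  obtain ⟨hfreeW, hfinW⟩ := free_basicOpen f hV g hfree hfinV
  letI algWB : Algebra Γ(S, S.basicOpen g) Γ(X, f ⁻¹ᵁ S.basicOpen g) := (f.app (S.basicOpen g)).hom.toAlgebra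
  haveI := hfreeW
  haveI := hfinW
  haveI : Nonempty (S.basicOpen g) := ⟨⟨s, hsW⟩⟩
  haveI : Nontrivial Γ(S, S.basicOpen g) := Scheme.component_nontrivial _ _
  let b := Module.finBasis Γ(S, S.basicOpen g) Γ(X, f ⁻¹ᵁ S.basicOpen g)
  let E : Γ(X, f ⁻¹ᵁ S.basicOpen g) ≃ₗ[Γ(S, S.basicOpen g)] Γ(PO f, S.basicOpen g) :=
    { toFun := fun m => toSM m
      invFun := fun m => ofSM (show Γ(Coh.structureModule X, f ⁻¹ᵁ S.basicOpen g) from m)
      map_add' := fun _ _ => rfl
      map_smul' := fun a m => by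
        rw [Algebra.smul_def]
        rfl
      left_inv := fun _ => rfl
      right_inv := fun _ => rfl }
  let b' := b.map E
  have hW : IsAffineOpen (S.basicOpen g) := hV.basicOpen g
  have hB : IsBasisOn (PO f) (S.basicOpen g) (fun j => b' j) :=
    isBasisOn_of_basis (PO f) hW (isLocOn_pushforward f (Coh.structureModule X) hW)
      (fun j => b' j) b'.linearIndependent b'.span_eq
  exact ⟨S.basicOpen g, _, hsW, hB.nonempty_iso⟩


/-- (1) ⇔ (2): a morphism f : X ⟶ S is affine with direct image f_*O_X a finite locally free O_S-module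
(locally on S isomorphic to a finite direct sum of copies of the structure sheaf, of possibly
varying rank) if and only if f is finite, flat and locally of finite presentation. -/
theorem result {X S : Scheme.{u}} (f : X ⟶ S) :
    (IsAffineHom f ∧ FlatMod.IsFinLocFree ((Scheme.Modules.pushforward f).obj (Coh.structureModule X))) ↔
      Mor2.IsFinLocFree f := by
  exact ⟨fun h => forward f h.1 h.2, backward f⟩



end Groth.Agent.S9716
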