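import Groth.Statements.S0109
import Groth.Agent.Lib.Helper14.EtGaCech
import Groth.Agent.Lib.Helper14.CartanOne
import Groth.Agent.Lib.Helper27.EtTransport6

set_option autoImplicit false
open CategoryTheory CategoryTheory.Limits AlgebraicGeometry Opposite
universe u
open EtBase

namespace Groth.Agent.S0109

open Groth.Agent.Lib.Helper27.EtTransport Groth.Agent.Lib.Helper14.EtAff
open Groth.Agent.Lib.Helper14.EtGaCech Groth.Agent.Lib.Helper6

lemma obj_eq (S : Scheme.{u}) : ((ΦE S).obj (EtCoh.Ga S)).obj = PGa S := rfl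

lemma cechAcyc (S : Scheme.{u}) :
    CechFamCartan.CechAcyc (KE S) (CovA S) ((ΦE S).obj (EtCoh.Ga S)) := by
  intro U ι Y hCov p
  exact isZero_cechH U ι Y hCov p

lemma TE_mem_BA (S : Scheme.{u}) [IsAffine S] : TE S ∈ BA S := by
  change IsAffine S
  infer_instance

lemma ext_zfree_eq_zero (S : Scheme.{u}) [IsAffine S] (q : ℕ)
    (x : Abelian.Ext (SheafCoh.Zfree (KE S) (TE S)) ((ΦE S).obj (EtCoh.Ga S)) (q + 1)) : x = 0 :=
  Groth.Agent.Lib.Helper14.CartanOne.cartan (KE S) (BA S) (CovA S) covA_h1 covA_h2 q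
    ((ΦE S).obj (EtCoh.Ga S)) (cechAcyc S) (TE S) (TE_mem_BA S) x


/-- On an affine scheme S, the étale cohomology H^p(S_ét, G_a) of the additive group sheaf (the
structure sheaf) vanishes for every p ≥ 1. -/
theorem result (S : Scheme.{u}) [IsAffine S] (p : ℕ) (hp : 1 ≤ p) : Subsingleton (EtCoh.H S (EtCoh.Ga S) p) := by
  obtain ⟨q, rfl⟩ : ∃ q, p = q + 1 := ⟨p - 1, by omega⟩
  -- transport along the equivalence
  have e1 := (extFunctorObjIso (ΦE S) (constZ S) (q + 1)).app (EtCoh.Ga S)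
  have e2 := ((Abelian.extFunctor (q + 1)).mapIso (zfreeIsoΦ S).symm.op).app ((ΦE S).obj (EtCoh.Ga S))
  have h0 : Subsingleton (Abelian.Ext (SheafCoh.Zfree (KE S) (TE S)) ((ΦE S).obj (EtCoh.Ga S)) (q + 1)) :=
    ⟨fun a b => (ext_zfree_eq_zero S q a).trans (ext_zfree_eq_zero S q b).symm⟩
  have h1 := @Equiv.subsingleton _ _ (e2.symm.addCommGroupIsoToAddEquiv.toEquiv) h0
  exact @Equiv.subsingleton _ _ (e1.addCommGroupIsoToAddEquiv.toEquiv) h1

end Groth.Agent.S0109
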