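import Groth.Statements.S0108
-- import your own Groth.Agent.* helpers here
import Groth.Agent.Lib.Helper23.EtRootCover
import Groth.Agent.Lib.Helper23.EtGlue
import Mathlib.CategoryTheory.Sites.EpiMono

set_option autoImplicit false
open CategoryTheory CategoryTheory.Limits AlgebraicGeometry Opposite
universe u
open EtBase

namespace Groth.Agent.S0108

open Groth.Agent.Lib.Helper23.EtSite Groth.Agent.Lib.Helper23.EtGlue Groth.Agent.Lib.Helper23.EtRootCover

lemma isEmpty_of_isUnit_zero (T : Scheme.{u}) (h : IsUnit (0 : Γ(T, ⊤))) : IsEmpty T := by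
  have h1 : T.basicOpen (0 : Γ(T, ⊤)) = ⊤ := Scheme.basicOpen_of_isUnit _ h
  rw [Scheme.basicOpen_zero] at h1
  refine ⟨fun x => ?_⟩
  have : x ∈ (⊤ : T.Opens) := trivial
  rw [← h1] at this
  exact this

set_option backward.isDefEq.respectTransparency.types false in
set_option backward.isDefEq.respectTransparency false in
lemma imageSieve_mem (S : Scheme.{u}) (n : ℕ) (hn : IsUnit (n : Γ(S, ⊤))) (U : S.Etale)
    (s : ToType ((EtCoh.Gm S).obj.obj (op U))) :
    Presheaf.imageSieve (EtCoh.powMap S n).hom s ∈ S.smallEtaleTopology U := by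
  have hnU : IsUnit (n : Γ(U.left, ⊤)) := by
    have := hn.map U.hom.appTop.hom
    rwa [map_natCast] at this
  by_cases hE : IsEmpty U.left
  · exact S.smallEtaleTopology.superset_covering bot_le (bot_mem_of_isEmpty U)
  · have hpos : 0 < n := by
      rcases Nat.eq_zero_or_pos n with rfl | hpos
      · exact absurd (isEmpty_of_isUnit_zero U.left (by simpa using hnU)) hE
      · exact hpos
    haveI : Nontrivial Γ(U.left, ⊤) := by
      rcases subsingleton_or_nontrivial Γ(U.left, ⊤) with h | h
      · exact absurd (isEmpty_of_isUnit_zero U.left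
          (by rw [Subsingleton.elim (0 : Γ(U.left, ⊤)) 1]; exact isUnit_one)) hE
      · exact h
    let a : (Γ(U.left, ⊤))ˣ := Additive.toMul (ULift.down s)
    obtain ⟨V, g, t, hsurj, ht⟩ := exists_root_cover U (Polynomial.X ^ n - Polynomial.C (a : Γ(U.left, ⊤)))
      (Polynomial.monic_X_pow_sub_C _ hpos.ne') (Polynomial.separable_X_pow_sub_C_unit a hnU)
      (by rw [Polynomial.natDegree_X_pow_sub_C]; exact hpos.ne')
    rw [Polynomial.eval₂_sub, Polynomial.eval₂_pow, Polynomial.eval₂_X, Polynomial.eval₂_C,
      sub_eq_zero] at ht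
    have htu : IsUnit t := by
      have h1 : IsUnit (t ^ n) := by
        rw [ht]
        exact a.isUnit.map g.left.appTop.hom
      exact (isUnit_pow_iff hpos.ne').1 h1
    let τ : ToType ((EtCoh.Gm S).obj.obj (op V)) := ULift.up (Additive.ofMul htu.unit)
    have hg : (Presheaf.imageSieve (EtCoh.powMap S n).hom s).arrows g := by
      refine ⟨τ, ?_⟩
      have key : (EtCoh.Gm S).obj.map g.op s =
          ULift.up (Additive.ofMul (Units.map g.left.appTop.hom.toMonoidHom a)) := rfl
      have key2 : (EtCoh.powMap S n).hom.app (op V) τ = n • τ := by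
        have e1 : (EtCoh.powMap S n).hom = n • (𝟙 (EtCoh.Gm S) : EtCoh.Gm S ⟶ EtCoh.Gm S).hom :=
          (sheafToPresheaf _ _).map_nsmul
        rw [e1, NatTrans.app_nsmul]
        rfl
      rw [key, key2]
      apply ULift.ext
      apply Additive.toMul.injective
      apply Units.ext
      change (htu.unit ^ n : (Γ(V.left, ⊤))ˣ).val = g.left.appTop.hom a
      rw [Units.val_pow_eq_pow_val, IsUnit.unit_spec, ht]
    refine S.smallEtaleTopology.superset_covering ?_ (generate_singleton_mem g hsurj)
    rintro Y h ⟨_, k, _, ⟨_⟩, rfl⟩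
    exact (Presheaf.imageSieve (EtCoh.powMap S n).hom s).downward_closed hg k

/-- The Kummer sequence — when n is invertible on S, the n-th power map on the multiplicative group
sheaf is an epimorphism of étale sheaves (its kernel μ_n is, by definition in the prelude, the sheaf
of n-th roots of unity, so the sequence 0 → μ_n → G_m → G_m → 0 is exact). -/
theorem result (S : Scheme.{u}) (n : ℕ) (hn : IsUnit (n : Γ(S, ⊤))) : Epi (EtCoh.powMap S n) := by
  exact (Sheaf.isLocallySurjective_iff_epi' AddCommGrpCat.{u+1} _).1 ⟨fun {U} s => imageSieve_mem S n hn U s⟩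


end Groth.Agent.S0108
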