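import Groth.Statements.S18415
-- import your own Groth.Agent.* helpers here
import Groth.Agent.S0108

set_option autoImplicit false
universe u
open CategoryTheory AlgebraicGeometry
open EtCoh

namespace Groth.Agent.S18415

open Opposite CategoryTheory.Limits
open Groth.Agent.Lib.Helper23.EtSite Groth.Agent.Lib.Helper23.EtGlue Groth.Agent.Lib.Helper23.EtRootCover

set_option backward.isDefEq.respectTransparency.types false in
set_option backward.isDefEq.respectTransparency false in
lemma imageSieve_mem (p : ℕ) (hp : p.Prime) {X : Scheme.{u}} (h0 : (p : Γ(X, ⊤)) = 0) (U : X.Etale)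
    (s : ToType ((EtCoh.Ga X).obj.obj (op U))) :
    Presheaf.imageSieve (W4c5etcohweilstudent.artinSchreierEndo X p hp h0).hom s ∈
      X.smallEtaleTopology U := by
  by_cases hE : IsEmpty U.left
  · exact X.smallEtaleTopology.superset_covering bot_le (bot_mem_of_isEmpty U)
  · haveI : Nontrivial Γ(U.left, ⊤) := by
      rcases subsingleton_or_nontrivial Γ(U.left, ⊤) with h | h
      · exact absurd (Groth.Agent.S0108.isEmpty_of_isUnit_zero U.left
          (by rw [Subsingleton.elim (0 : Γ(U.left, ⊤)) 1]; exact isUnit_one)) hE
      · exact h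
    let a : Γ(U.left, ⊤) := ULift.down s
    have hpU : (p : Γ(U.left, ⊤)) = 0 := W4c5etcohweilstudent.natCast_eq_zero_etale p h0 U
    have hdeg : (Polynomial.X + Polynomial.C a : Polynomial Γ(U.left, ⊤)).degree < (p : WithBot ℕ) := by
      rw [Polynomial.degree_X_add_C]
      exact_mod_cast hp.one_lt
    have hmonic : (Polynomial.X ^ p - (Polynomial.X + Polynomial.C a) : Polynomial Γ(U.left, ⊤)).Monic :=
      Polynomial.monic_X_pow_sub hdeg
    have hnat : (Polynomial.X ^ p - (Polynomial.X + Polynomial.C a) : Polynomial Γ(U.left, ⊤)).natDegree ≠ 0 := by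
      rw [Polynomial.natDegree_sub_eq_left_of_natDegree_lt]
      · rw [Polynomial.natDegree_X_pow]; exact hp.ne_zero
      · rw [Polynomial.natDegree_X_pow, Polynomial.natDegree_X_add_C]; exact hp.one_lt
    have hsep : (Polynomial.X ^ p - (Polynomial.X + Polynomial.C a) : Polynomial Γ(U.left, ⊤)).Separable := by
      rw [Polynomial.separable_def]
      have hder : Polynomial.derivative
          (Polynomial.X ^ p - (Polynomial.X + Polynomial.C a) : Polynomial Γ(U.left, ⊤)) = -1 := by
        rw [Polynomial.derivative_sub, Polynomial.derivative_X_pow, Polynomial.derivative_add,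
          Polynomial.derivative_X, Polynomial.derivative_C, hpU]
        simp
      rw [hder]
      exact ⟨0, -1, by ring⟩
    obtain ⟨V, g, t, hsurj, ht⟩ := exists_root_cover U _ hmonic hsep hnat
    rw [Polynomial.eval₂_sub, Polynomial.eval₂_pow, Polynomial.eval₂_X, Polynomial.eval₂_add,
      Polynomial.eval₂_X, Polynomial.eval₂_C, sub_eq_zero] at ht
    let τ : ToType ((EtCoh.Ga X).obj.obj (op V)) := ULift.up t
    have hg : (Presheaf.imageSieve (W4c5etcohweilstudent.artinSchreierEndo X p hp h0).hom s).arrows g := by
      refine ⟨τ, ?_⟩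
      have key : (EtCoh.Ga X).obj.map g.op s = ULift.up (g.left.appTop.hom a) := rfl
      have key2 : (W4c5etcohweilstudent.artinSchreierEndo X p hp h0).hom.app (op V) τ =
          ULift.up (t ^ p - t) := rfl
      rw [key, key2, ht]
      congr 1
      ring
    refine X.smallEtaleTopology.superset_covering ?_ (generate_singleton_mem g hsurj)
    rintro Y h ⟨_, k, _, ⟨_⟩, rfl⟩
    exact (Presheaf.imageSieve (W4c5etcohweilstudent.artinSchreierEndo X p hp h0).hom s).downward_closed hg k

/-- Let p be a prime and X a scheme with p = 0 in Γ(X, O_X). Then the Artin–Schreier endomorphism x ↦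
x^p − x of the additive group sheaf G_a on the small étale site of X is an epimorphism of abelian
étale sheaves (the right-hand exactness of 0 → Z/p → G_a → G_a → 0 on X_et). (The published example
takes X a variety over a field of characteristic p; this row assumes only that p = 0 in Γ(X, O_X).) -/
theorem result
    (p : ℕ) (hp : p.Prime) {X : Scheme.{u}} (h0 : (p : Γ(X, ⊤)) = 0) :
    Epi (W4c5etcohweilstudent.artinSchreierEndo X p hp h0) := by
  exact (Sheaf.isLocallySurjective_iff_epi' AddCommGrpCat.{u+1} _).1
    ⟨fun {U} s => imageSieve_mem p hp h0 U s⟩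


end Groth.Agent.S18415
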