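import Groth.Statements.S6416
-- import your own Groth.Agent.* helpers here

set_option autoImplicit false
open CategoryTheory
universe v₁ u₁ v₂ u₂ v₃ u₃
open FibCat

namespace Groth.Agent.S6416

/-- The composite of two functors fibred in groupoids is fibred in groupoids. -/
theorem result {𝒜 : Type u₁} [Category.{v₁} 𝒜] {ℬ : Type u₂} [Category.{v₂} ℬ] {𝒞 : Type u₃} [Category.{v₃} 𝒞] (F : 𝒜 ⥤ ℬ) (G : ℬ ⥤ 𝒞) (hF : FibCat.IsFibGrpd F) (hG : FibCat.IsFibGrpd G) : FibCat.IsFibGrpd (F ⋙ G) := by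
  constructor
  · intro x V f
    obtain ⟨y', φ', hφ'⟩ := hG.exists_lift (x := F.obj x) f
    obtain ⟨y, φ, hφ⟩ := hF.exists_lift (x := x) φ'
    refine ⟨y, φ, ?_⟩
    have h1 : F.obj y = y' := IsHomLift.domain_eq F φ' φ
    subst h1
    have h2 : φ' = F.map φ := IsHomLift.eq_of_isHomLift F φ' φ
    subst h2
    have h3 : G.obj (F.obj y) = V := IsHomLift.domain_eq G f (F.map φ)
    subst h3
    have h4 : f = G.map (F.map φ) := IsHomLift.eq_of_isHomLift G f (F.map φ)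
    subst h4
    exact IsHomLift.map (F ⋙ G) φ
  · intro y x φ
    have hFφ : F.IsStronglyCartesian (F.map φ) φ := hF.isStronglyCartesian φ
    have hGφ : G.IsStronglyCartesian (G.map (F.map φ)) (F.map φ) := hG.isStronglyCartesian (F.map φ)
    refine { toIsHomLift := IsHomLift.map (F ⋙ G) φ, universal_property' := ?_ }
    intro a' g φ' hφ'
    have hg : g ≫ G.map (F.map φ) = G.map (F.map φ') :=
      IsHomLift.eq_of_isHomLift (F ⋙ G) (g ≫ (F ⋙ G).map φ) φ'
    -- Step A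
    have hA : G.IsHomLift (g ≫ G.map (F.map φ)) (F.map φ') := by
      rw [hg]; exact IsHomLift.map (G) (F.map φ')
    obtain ⟨χ', ⟨hχ'1, hχ'2⟩, hχ'u⟩ :=
      Functor.IsStronglyCartesian.universal_property G (G.map (F.map φ)) (F.map φ) g _ rfl (F.map φ')
    have hχ'g : g = G.map χ' := IsHomLift.eq_of_isHomLift G g χ'
    -- Step B
    have hB : F.IsHomLift (χ' ≫ F.map φ) φ' := by
      rw [hχ'2]; exact IsHomLift.map (F) φ'
    obtain ⟨χ, ⟨hχ1, hχ2⟩, hχu⟩ :=
      Functor.IsStronglyCartesian.universal_property F (F.map φ) φ χ' _ rfl φ'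
    have hχχ' : χ' = F.map χ := IsHomLift.eq_of_isHomLift F χ' χ
    refine ⟨χ, ⟨?_, hχ2⟩, ?_⟩
    · rw [hχ'g, hχχ']
      exact IsHomLift.map (F ⋙ G) χ
    · rintro χ₂ ⟨hχ₂1, hχ₂2⟩
      have h5 : g = G.map (F.map χ₂) := IsHomLift.eq_of_isHomLift (F ⋙ G) g χ₂
      have h6 : F.map χ₂ = χ' := by
        apply hχ'u
        refine ⟨?_, ?_⟩
        · rw [h5]; exact IsHomLift.map (G) (F.map χ₂)
        · rw [← F.map_comp, hχ₂2]
      apply hχu
      refine ⟨?_, hχ₂2⟩
      rw [← h6]; exact IsHomLift.map (F) χ₂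

end Groth.Agent.S6416
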