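import Groth.Statements.S10520
import Groth.Agent.Lib.Helper3.AlgSpFpqc3
import Groth.Agent.Lib.Helper3.AlgSpBC

set_option autoImplicit false
universe u
open CategoryTheory CategoryTheory.Limits AlgebraicGeometry
open AlgSp

namespace Groth.Agent.S10520

/-- The property of morphisms of algebraic spaces over S given by f is quasi-separated (diagonal
representable and quasi-compact) is fpqc local on the base: for an fpqc covering of an algebraic
space Y by algebraic spaces Y_i, a morphism f : X ⟶ Y of algebraic spaces and cartesian squares X_i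
= Y_i ×_Y X, f has the property if and only if every X_i ⟶ Y_i has it. -/
theorem result (S : Scheme.{u}) :
    AlgSp.IsLocalOnBase (AlgSp.IsFpqcCover (S := S)) AlgSp.IsQuasiSeparatedMor := by
  intro ι Y Yi g hY hYi hcov X f hX Xi p q hXi sq
  constructor
  · intro hf i
    exact Groth.Agent.Lib.Helper3.repWith_diagonal_of_isPullback _ (sq i) hf
  · intro hp
    have hrep := (Groth.Agent.S9900.repWith_diagonal_lft_mono hX f).rep
    refine Groth.Agent.Lib.Helper3.repWith_quasiCompact_of_isQuasiCompactMor _ hrep ?_
    have hY' : AlgSp.IsAlgSpace (pullback f f) :=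
      Groth.Agent.Lib.Helper3.isAlgSpace_of_isPullback' hY hX hX (IsPullback.of_hasPullback f f)
    refine Groth.Agent.Lib.Helper3.isQuasiCompactMor_of_stdRefinement
      (Yi := fun i => pullback (p i) (p i))
      (g := fun i => pullback.map (p i) (p i) f f (q i) (q i) (g i) (sq i).w.symm (sq i).w.symm)
      (p := fun i => pullback.diagonal (p i)) (q := q) hX hY' ?_
      (fun i => Groth.Agent.Lib.Helper3.isPullback_diagonal_of_isPullback (sq i))
      (fun i => Groth.Agent.Lib.Helper3.isQuasiCompactMor_of_repWith_quasiCompact _ (hp i))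
    intro Z hZ h
    obtain ⟨m, W, c, hW, hfl, hsurj, hl⟩ := hcov.2 Z hZ (h ≫ pullback.fst f f ≫ f)
    refine ⟨m, W, c, hW, hfl, hsurj, fun j => ?_⟩
    obtain ⟨i, l, hl⟩ := hl j
    have sqm := Groth.Agent.Lib.Helper3.isPullback_map_of_isPullback (sq i)
    have hw : ((AlgSp.yon S).map (c j) ≫ h) ≫ pullback.fst f f ≫ f = l ≫ g i := by
      rw [hl]
      simp only [Category.assoc]
    exact ⟨i, sqm.lift _ _ hw, sqm.lift_fst _ _ hw⟩

end Groth.Agent.S10520
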