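import Groth.Statements.S10535
import Groth.Agent.Lib.Helper3.AlgSpFpqc3
import Groth.Agent.Lib.Helper3.AlgSpBC

set_option autoImplicit false
universe u
open CategoryTheory CategoryTheory.Limits AlgebraicGeometry
open AlgSp

namespace Groth.Agent.S10535

/-- The property of morphisms of algebraic spaces over S given by f is separated (diagonal representable
and a closed immersion) is fpqc local on the base: for an fpqc covering of an algebraic space Y by
algebraic spaces Y_i, a morphism f : X ⟶ Y of algebraic spaces and cartesian squares X_i = Y_i ×_Y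
X, f has the property if and only if every X_i ⟶ Y_i has it. -/
theorem result (S : Scheme.{u}) :
    AlgSp.IsLocalOnBase (AlgSp.IsFpqcCover (S := S)) AlgSp.IsSeparatedMor := by
  intro ι Y Yi g hY hYi hcov X f hX Xi p q hXi sq
  constructor
  · intro hf i
    exact Groth.Agent.Lib.Helper3.repWith_diagonal_of_isPullback _ (sq i) hf
  · intro hp
    have hrep := Groth.Agent.S9900.repWith_diagonal_lft_mono hX f
    have huc : AlgSp.IsUnivClosedMor (pullback.diagonal f) := by
      refine Groth.Agent.Lib.Helper3.isUnivClosedMor_of_stdRefinement
        (Yi := fun i => pullback (p i) (p i))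
        (g := fun i => pullback.map (p i) (p i) f f (q i) (q i) (g i) (sq i).w.symm (sq i).w.symm)
        (p := fun i => pullback.diagonal (p i)) (q := q) ?_
        (fun i => Groth.Agent.Lib.Helper3.isPullback_diagonal_of_isPullback (sq i))
        (fun i => ?_)
      · intro Z hZ h
        obtain ⟨m, W, c, hW, hfl, hsurj, hl⟩ := hcov.2 Z hZ (h ≫ pullback.fst f f ≫ f)
        refine ⟨m, W, c, hW, hfl, hsurj, fun j => ?_⟩
        obtain ⟨i, l, hl⟩ := hl j
        have sqm := Groth.Agent.Lib.Helper3.isPullback_map_of_isPullback (sq i)
        have hw : ((AlgSp.yon S).map (c j) ≫ h) ≫ pullback.fst f f ≫ f = l ≫ g i := by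
          rw [hl]
          simp only [Category.assoc]
        exact ⟨i, sqm.lift _ _ hw, sqm.lift_fst _ _ hw⟩
      · have hpi : AlgSp.RepWith @IsClosedImmersion (pullback.diagonal (p i)) := hp i
        refine Groth.Agent.S9922.isUnivClosedMor_of_repWith
          (Groth.Agent.Lib.Helper3.repWith_mono ?_ hpi)
        intro A₀ B₀ k hk
        have : IsClosedImmersion k := hk
        change UniversallyClosed k
        infer_instance
    have hucr := Groth.Agent.S9922.repWith_universallyClosed_of_isUnivClosedMor hrep.rep huc
    change AlgSp.RepWith @IsClosedImmersion (pullback.diagonal f)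
    rw [Groth.Agent.Lib.Helper3.isClosedImmersion_eq]
    exact ⟨hrep.rep, fun U V g fst snd sq =>
      ⟨⟨hucr.property g fst snd sq, (hrep.property g fst snd sq).1⟩,
        (hrep.property g fst snd sq).2⟩⟩

end Groth.Agent.S10535
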