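import Groth.Statements.S0626
-- import your own Groth.Agent.* helpers here
import Groth.Agent.Lib.Helper23.NormalLocIrr

set_option autoImplicit false
open CategoryTheory CategoryTheory.Limits AlgebraicGeometry Opposite
universe u
open EtCore

namespace Groth.Agent.S0626

/-- Let X be an integral normal scheme (all local rings integrally closed) with generic point η, let g :
Spec O_{X,η} → X be the canonical morphism, and let M be an abelian group. Then the adjunction unit
from the constant étale sheaf with value M on X to g_* of its pullback is an isomorphism. (Since the
pullback of a constant sheaf is constant, this says that g_* of the constant sheaf M on the spectrum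
of the function field is the constant sheaf M on X.) -/
theorem result (X : Scheme.{u}) [IsIntegral X]
    (hN : ∀ x : X, IsIntegrallyClosed (X.presheaf.stalk x)) (M : Type) [AddCommGroup M] :
    IsIso ((EtCoh.pullPushAdj (X.fromSpecStalk (genericPoint X))).unit.app (EtCoh.const X M)) := by
  open Groth.Agent.Lib.Helper23 in
  apply LCPull.isIso_unit_const M (X.fromSpecStalk (genericPoint X))
  intro W
  haveI : Etale W.hom := W.prop
  have hη := genericPoint_spec X
  have hg : Set.range (X.fromSpecStalk (genericPoint X)) = {genericPoint X} := by
    rw [Scheme.range_fromSpecStalk]
    ext y
    simp only [Set.mem_setOf_eq, Set.mem_singleton_iff]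
    constructor
    · intro h
      exact (h.antisymm (hη.specializes trivial)).eq
    · rintro rfl
      exact specializes_rfl
  exact LCTop.lcMap_bijective_generic M (X.fromSpecStalk (genericPoint X)) (genericPoint X) hη hg
    W.hom (NormalLocIrr.locIrr_of_etale hN W.hom)


end Groth.Agent.S0626
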