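import Groth.Statements.S14451
-- import your own Groth.Agent.* helpers here
import Groth.Agent.Lib.Helper23.ExtAdj

set_option autoImplicit false
universe u
open CategoryTheory CategoryTheory.Limits AlgebraicGeometry
open EtCore

namespace Groth.Agent.S14451

open Abelian Groth.Agent.Lib.Helper23.ExtAdj

/-- precomposition with `mk₀` of an isomorphism is bijective -/
lemma precomp_iso_bijective {C : Type*} [Category C] [Abelian C] [HasExt C] {A B : C} (e : A ≅ B)
    (Z : C) (n : ℕ) :
    Function.Bijective (fun x : Ext B Z n => (Ext.mk₀ e.hom).comp x (zero_add n)) := by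
  refine Function.bijective_iff_has_inverse.2
    ⟨fun y => (Ext.mk₀ e.inv).comp y (zero_add n), ?_, ?_⟩
  · intro x
    dsimp only
    rw [← Ext.comp_assoc (Ext.mk₀ e.inv) (Ext.mk₀ e.hom) x (zero_add 0) (zero_add n) (by omega),
      Ext.mk₀_comp_mk₀, Iso.inv_hom_id, Ext.mk₀_id_comp]
  · intro y
    dsimp only
    rw [← Ext.comp_assoc (Ext.mk₀ e.hom) (Ext.mk₀ e.inv) y (zero_add 0) (zero_add n) (by omega),
      Ext.mk₀_comp_mk₀, Iso.hom_inv_id, Ext.mk₀_id_comp]

set_option backward.isDefEq.respectTransparency.types false in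
set_option backward.isDefEq.respectTransparency false in
lemma HofPush_eq {X Y : Scheme.{u}} (f : X ⟶ Y)
    [PreservesFiniteLimits (EtCoh.pull f)] (F : EtCoh.Ab X) (p : ℕ)
    (e : EtCoh.H Y ((EtCoh.push f).obj F) p) :
    EtLim.HofPush f F p e =
      (Ext.mk₀ (EtCore.pullConst f ℤ).inv).comp
        (extAdj (EtCoh.pullPushAdj f) (EtCoh.const Y ℤ) F p e) (zero_add p) := by
  have h1 : EtLim.HofPush f F p e =
      ((Ext.mk₀ (EtCore.pullConst f ℤ).inv).comp (e.mapExactFunctor (EtCoh.pull f)) (zero_add p)).comp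
        (Ext.mk₀ ((EtCoh.pullPushAdj f).counit.app F)) (add_zero p) := rfl
  rw [h1, extAdj_apply]
  exact Ext.comp_assoc_of_third_deg_zero _ _ _ _

/-- Let f : X ⟶ Y be a morphism of schemes and F an abelian sheaf on the small étale site of X whose
higher direct images R^q f_* F vanish for all q > 0. Then for every p the canonical map H^p(Y, f_*
F) → H^p(X, F) (pull back along f, then apply the counit f⁻¹ f_* F ⟶ F) is bijective. (Exactness of
f⁻¹, which always holds, is carried as an instance hypothesis.) -/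
theorem result {X Y : Scheme.{u}} (f : X ⟶ Y)
    [PreservesFiniteLimits (EtCoh.pull f)] (F : EtCoh.Ab X)
    (hR : ∀ q : ℕ, 0 < q → IsZero ((EtCoh.Rpush f q).obj F)) (p : ℕ) :
    Function.Bijective (EtLim.HofPush f F p) := by
  have h1 := extAdj_bijective (EtCoh.pullPushAdj f) (EtCoh.const Y ℤ) p F hR
  have h2 := precomp_iso_bijective (EtCore.pullConst f ℤ).symm F p
  have : (EtLim.HofPush f F p : _ → _) =
      (fun x => (Ext.mk₀ (EtCore.pullConst f ℤ).symm.hom).comp x (zero_add p)) ∘
        (extAdj (EtCoh.pullPushAdj f) (EtCoh.const Y ℤ) F p) := by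
    funext e
    exact HofPush_eq f F p e
  rw [this]
  exact h2.comp h1


end Groth.Agent.S14451
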