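import Groth.Statements.S9902
import Groth.Agent.S9900

set_option autoImplicit false
universe u
open CategoryTheory CategoryTheory.Limits AlgebraicGeometry
open AlgSp

namespace Groth.Agent.S9902

open Groth.Agent.Lib.Helper3

theorem repWith_section {S : Scheme.{u}} (P : MorphismProperty Scheme.{u})
    [P.IsStableUnderBaseChange] {X T : AlgSp.Sp S} (f : X ⟶ T) (s : T ⟶ X) (hs : s ≫ f = 𝟙 T)
    (hd : AlgSp.RepWith P (pullback.diagonal f)) : AlgSp.RepWith P s := by
  have h1 : AlgSp.RepWith P (pullback.lift (𝟙 T) s (by simp) : T ⟶ pullback (s ≫ f) f) :=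
    MorphismProperty.of_isPullback (pullback_lift_diagonal_isPullback s f) hd
  have : IsIso (s ≫ f) := by rw [hs]; infer_instance
  have h2 : IsIso (pullback.snd (s ≫ f) f) := inferInstance
  have h3 : s = (pullback.lift (𝟙 T) s (by simp) : T ⟶ pullback (s ≫ f) f) ≫
      pullback.snd (s ≫ f) f := by rw [pullback.lift_snd]
  rw [h3]
  exact MorphismProperty.RespectsIso.postcomp _ _ _ h1

/-- Let s be a section of a morphism f : X -> T of algebraic spaces. Then s is representable by schemes
and, in the representable sense, a separated monomorphism that is locally of finite type and locally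
quasi-finite; when f is separated s is a closed immersion, and when f is quasi-separated s is
quasi-compact. (The published lemma also shows that s is an immersion when f is locally separated;
this row omits that clause.) -/
theorem result {S : Scheme.{u}} {X T : AlgSp.Space S} (f : X ⟶ T) (s : T ⟶ X)
    (hs : s ≫ f = 𝟙 T) :
    AlgSp.Representable s.hom ∧
    AlgSp.RepWith @LocallyOfFiniteType s.hom ∧
    AlgSp.RepWith (@LocallyQuasiFinite ⊓ @LocallyOfFiniteType) s.hom ∧
    AlgSp.RepWith @IsSeparated s.hom ∧
    AlgSp.RepWith (MorphismProperty.monomorphisms Scheme.{u}) s.hom ∧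
    (AlgSp.IsSeparatedMor f.hom → AlgSp.RepWith @IsClosedImmersion s.hom) ∧
    (AlgSp.IsQuasiSeparatedMor f.hom → AlgSp.RepWith @QuasiCompact s.hom) := by
  have hs' : s.hom ≫ f.hom = 𝟙 T.obj := by
    have := congrArg (fun k => k.hom) hs
    exact this
  have h0 := Groth.Agent.S9900.repWith_diagonal_lft_mono X.property f.hom
  have : MorphismProperty.IsStableUnderBaseChange
      ((@LocallyOfFiniteType : MorphismProperty Scheme.{u}) ⊓
        MorphismProperty.monomorphisms Scheme.{u}) :=
    inferInstance
  have h1 := repWith_section _ f.hom s.hom hs' h0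
  refine ⟨h1.rep, repWith_mono inf_le_left h1, repWith_mono ?_ h1, repWith_mono ?_ h1,
    repWith_mono inf_le_right h1, fun hs => repWith_section _ _ _ hs' hs,
    fun hs => repWith_section _ _ _ hs' hs⟩
  · intro A B f hf
    have : Mono f := hf.2
    have : LocallyOfFiniteType f := hf.1
    exact ⟨inferInstance, hf.1⟩
  · intro A B f hf
    have : Mono f := hf.2
    infer_instance

end Groth.Agent.S9902
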