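import Groth.Statements.S6393
-- import your own Groth.Agent.* helpers here

set_option autoImplicit false
open CategoryTheory
universe v₂ u₂ v u
open FibCat

namespace Groth.Agent.S6393


set_option backward.isDefEq.respectTransparency false in
set_option backward.isDefEq.respectTransparency.types false in
theorem aux {C : Type u} [Category.{v} C] {S : Type u₂} [Category.{v₂} S] (p : S ⥤ C) :
    FibCat.IsFibGrpd p ↔ (p.IsFibered ∧ ∀ U : C, IsGroupoid (p.Fiber U)) := by
  constructor
  · intro h
    have hfib : p.IsFibered := by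
      apply Functor.IsFibered.of_exists_isStronglyCartesian
      intro a R f
      obtain ⟨b, φ, hφ⟩ := h.exists_lift f
      refine ⟨b, φ, ?_⟩
      have h1 := h.isStronglyCartesian φ
      have h2 : p.map φ = eqToHom (IsHomLift.domain_eq p f φ) ≫ f := by
        simpa using IsHomLift.fac' p f φ
      have hd := IsHomLift.domain_eq p f φ
      subst hd
      rw [eqToHom_refl, Category.id_comp] at h2
      rw [← h2]
      exact h1
    refine ⟨hfib, fun U => ⟨fun {X Y} φ => ?_⟩⟩
    have h1 := h.isStronglyCartesian (Functor.Fiber.fiberInclusion.map φ)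
    have h2 : IsIso (p.map (Functor.Fiber.fiberInclusion.map φ)) := by
      rw [IsHomLift.fac' p (𝟙 U) (Functor.Fiber.fiberInclusion.map φ)]
      infer_instance
    have h3 : IsIso (Functor.Fiber.fiberInclusion.map φ) :=
      Functor.IsStronglyCartesian.isIso_of_base_isIso p
        (p.map (Functor.Fiber.fiberInclusion.map φ)) (Functor.Fiber.fiberInclusion.map φ)
    have h4 : p.IsHomLift (𝟙 U) (inv (Functor.Fiber.fiberInclusion.map φ)) := inferInstance
    refine ⟨Functor.Fiber.homMk p U (inv (Functor.Fiber.fiberInclusion.map φ)), ?_, ?_⟩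
    · apply Functor.Fiber.hom_ext
      simp
    · apply Functor.Fiber.hom_ext
      simp
  · rintro ⟨hfib, hgrp⟩
    refine ⟨fun {x V} f => ?_, fun {y x} φ => ?_⟩
    · obtain ⟨b, φ, hφ⟩ := Functor.IsPreFibered.exists_isCartesian' (p := p) f
      exact ⟨b, φ, inferInstance⟩
    · obtain ⟨b, χ, hχ⟩ := Functor.IsPreFibered.exists_isCartesian' (p := p) (p.map φ)
      have hχs : p.IsStronglyCartesian (p.map φ) χ := inferInstance
      let ψ : y ⟶ b := Functor.IsCartesian.map p (p.map φ) χ φ
      have hψ : ψ ≫ χ = φ := Functor.IsCartesian.fac p (p.map φ) χ φ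
      have hψl : p.IsHomLift (𝟙 (p.obj y)) ψ := inferInstance
      have hb : p.obj b = p.obj y := IsHomLift.domain_eq p (p.map φ) χ
      have hiso : IsIso ψ := by
        have := (hgrp (p.obj y)).all_isIso
          (Functor.Fiber.homMk p (p.obj y) ψ :
            Functor.Fiber.mk (rfl : p.obj y = p.obj y) ⟶ Functor.Fiber.mk hb)
        have h5 := Functor.map_isIso Functor.Fiber.fiberInclusion
          (Functor.Fiber.homMk p (p.obj y) ψ :
            Functor.Fiber.mk (rfl : p.obj y = p.obj y) ⟶ Functor.Fiber.mk hb)
        simpa using h5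
      have h6 : p.IsStronglyCartesian (𝟙 (p.obj y)) ψ := inferInstance
      have h7 : p.IsStronglyCartesian (𝟙 (p.obj y) ≫ p.map φ) (ψ ≫ χ) := inferInstance
      rw [Category.id_comp, hψ] at h7
      exact h7

/-- Given `p : S ⥤ C`, saying that p is fibred in groupoids is equivalent to saying that p is a fibred
functor whose fibre category over every object of C is a groupoid. -/
theorem result {C : Type u} [Category.{v} C] {S : Type u₂} [Category.{v₂} S] (p : S ⥤ C) :
    FibCat.IsFibGrpd p ↔ (p.IsFibered ∧ ∀ U : C, IsGroupoid (p.Fiber U)) := by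
  exact aux p

end Groth.Agent.S6393
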