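import Groth.Statements.S6658
-- import your own Groth.Agent.* helpers here
import Groth.Agent.Lib.Helper23.EtRecoll
import Groth.Agent.Lib.Helper23.LocCohShift
import Groth.Agent.Lib.Helper23.UnitSplitEpi
import Groth.Agent.S0648
import Groth.Agent.S0652

set_option autoImplicit false
universe u
open CategoryTheory CategoryTheory.Limits AlgebraicGeometry Opposite
open EtDual

namespace Groth.Agent.S6658

open Groth.Agent.Lib.Helper23 in
/-- the counit `j_! j⁻¹ M → M` is a monomorphism for an open immersion -/
lemma mono_counit {X U : Scheme.{u}} (j : U ⟶ X) [IsOpenImmersion j] (M : EtCoh.Ab X) :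
    Mono ((EtShriek.extZeroAdj j).counit.app M) := by
  obtain ⟨Z, i, hi, hZU⟩ := Groth.Agent.S0652.exists_closed_compl j
  have hJC := EtRecoll.isZero_of_restr_pull i j hZU
  have hz1 : IsZero ((EtCoh.pull i).obj ((EtShriek.extZero j).obj
      ((EtShriek.restrAlong j).obj M))) := EtRecoll.isZero_pull_extZero i j hZU _
  haveI := EtRecoll.isIso_restr_counit j M
  apply JointExact.mono_of (EtShriek.restrAlong j) (EtCoh.pull i) hJC
  · infer_instance
  · exact ⟨fun _ _ _ => hz1.eq_of_tgt _ _⟩

open Groth.Agent.Lib.Helper23 in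
/-- the unit `I → j_* j⁻¹ I` is an epimorphism for injective `I` and an open immersion `j` -/
lemma epi_unit_of_injective {X U : Scheme.{u}} (j : U ⟶ X) [IsOpenImmersion j] (I : EtCoh.Ab X)
    [Injective I] : Epi ((EtCoh.pullPushAdj j).unit.app I) := by
  haveI := Groth.Agent.S0651.isIso_counit_restrPush j
  haveI : Epi ((EtRestr.restrPushAdj j).unit.app I) :=
    UnitSplitEpi.epi_unit (EtShriek.extZeroAdj j) (EtRestr.restrPushAdj j)
      (fun M => mono_counit j M) (fun F => EtRecoll.isIso_restr_counit j F) I
  have h := Adjunction.unit_leftAdjointUniq_hom_app (EtCoh.pullPushAdj j)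
    (EtRestr.restrPushAdj j) I
  have h2 : (EtCoh.pullPushAdj j).unit.app I = (EtRestr.restrPushAdj j).unit.app I ≫
      (EtCoh.push j).map ((EtRestr.pullIsoRestr j).inv.app I) := by
    rw [← h, Category.assoc, ← Functor.map_comp]
    change _ = _ ≫ (EtCoh.push j).map ((EtRestr.pullIsoRestr j).hom.app I ≫
      (EtRestr.pullIsoRestr j).inv.app I)
    rw [Iso.hom_inv_id_app, CategoryTheory.Functor.map_id, Category.comp_id]
  rw [h2]
  exact epi_comp _ _

open Groth.Agent.Lib.Helper23 in
lemma injective_pull {X U : Scheme.{u}} (j : U ⟶ X) [IsOpenImmersion j] (I : EtCoh.Ab X)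
    (hI : Injective I) : Injective ((EtCoh.pull j).obj I) := by
  haveI : PreservesFiniteLimits (EtShriek.extZero j) := Groth.Agent.S0648.result j
  haveI : Injective ((EtShriek.restrAlong j).obj I) :=
    (EtShriek.extZeroAdj j).map_injective I hI
  exact Injective.of_iso ((EtRestr.pullIsoRestr j).app I).symm inferInstance

/-- the inclusion of sections with support -/
noncomputable def suppι {X U : Scheme.{u}} (j : U ⟶ X) : EtDual.secSupp j ⟶ 𝟭 (EtCoh.Ab X) where
  app F := kernel.ι (EtDual.unitApp j F)
  naturality F G f := by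
    simp

/-- The exact sequence and the isomorphisms: let j : U → X be an open immersion of schemes with closed
complement Z and F an abelian sheaf on the small etale site of X. Write H^q_Z(F) for the q-th local
cohomology sheaf of F with support in Z, kept as a sheaf on X (the q-th right derived functor of G ↦
ker(G → j_* j⁻¹ G)). Then the cokernel of the unit F → j_* j⁻¹ F is isomorphic to H^1_Z(F), and for
every p ≥ 1 the higher direct image R^p j_* (j⁻¹ F) is isomorphic to H^{p+1}_Z(F). (The published
statement also gives the distinguished triangle behind these isomorphisms and identifies them with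
its connecting maps; this row asserts only that isomorphisms exist.) -/
theorem result {X U : Scheme.{u}} (j : U ⟶ X) [IsOpenImmersion j]
    (F : EtCoh.Ab X) :
    Nonempty (cokernel (EtDual.unitApp j F) ≅ (EtDual.locCoh j 1).obj F) ∧
      ∀ p : ℕ, 1 ≤ p →
        Nonempty ((EtCoh.Rpush j p).obj ((EtCoh.pull j).obj F) ≅ (EtDual.locCoh j (p + 1)).obj F) := by
  haveI : (EtCoh.pull j).Additive := (EtCoh.pullPushAdj j).left_adjoint_additive
  haveI : PreservesFiniteLimits (EtCoh.pull j) := Groth.Agent.S0101.result j
  haveI : PreservesFiniteColimits (EtCoh.pull j) :=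
    ⟨fun _ _ _ => (EtCoh.pullPushAdj j).leftAdjoint_preservesColimits.preservesColimitsOfShape⟩
  have w : ∀ G : EtCoh.Ab X, (suppι j).app G ≫ (EtCoh.pullPushAdj j).unit.app G = 0 :=
    fun G => kernel.condition _
  have hΓ : ∀ G : EtCoh.Ab X, IsLimit (KernelFork.ofι ((suppι j).app G) (w G)) :=
    fun G => kernelIsKernel _
  have hη : ∀ I : EtCoh.Ab X, Injective I → Epi ((EtCoh.pullPushAdj j).unit.app I) :=
    fun I hI => epi_unit_of_injective j I
  constructor
  · exact Groth.Agent.Lib.Helper23.LocCohShift.nonempty_coker_iso_rightDerived_one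
      (T := EtCoh.pull j ⋙ EtCoh.push j) (EtCoh.pullPushAdj j).unit (EtDual.secSupp j) (suppι j) w hΓ hη F
  · intro p hp
    obtain ⟨n, rfl⟩ : ∃ n, p = n + 1 := ⟨p - 1, by omega⟩
    exact Groth.Agent.Lib.Helper23.LocCohShift.nonempty_rightDerived_iso (EtCoh.pullPushAdj j)
      (injective_pull j) (EtDual.secSupp j) (suppι j) w hΓ hη n F

end Groth.Agent.S6658
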