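import Groth.Statements.S3047
-- import your own Groth.Agent.* helpers here
import Groth.Agent.S0100
import Groth.Agent.Lib.Helper23.PointStalk
import Groth.Agent.Lib.Helper23.PointIso
import Mathlib.CategoryTheory.Limits.ConcreteCategory.Basic
import Mathlib.CategoryTheory.Sites.LocallyBijective

set_option autoImplicit false
open CategoryTheory CategoryTheory.Limits AlgebraicGeometry Opposite
universe u
open EtDesc

namespace Groth.Agent.S3047

open CategoryTheory AlgebraicGeometry Opposite Limits GrothendieckTopology

instance hsc (X : Scheme.{u}) : X.smallEtaleTopology.HasSheafCompose (forget (Type (u+1))) :=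
  ⟨fun _ hP => hP⟩

/-- the chosen geometric point above a point -/
noncomputable def gp (X' : Scheme.{u}) (x' : X') :
    Spec (CommRingCat.of (SeparableClosure (X'.residueField x'))) ⟶ X' :=
  Spec.map (CommRingCat.ofHom (algebraMap (X'.residueField x') _)) ≫ X'.fromSpecResidueField x'

lemma gp_apply (X' : Scheme.{u}) (x' : X') (z) : gp X' x' z = x' := by
  change (X'.fromSpecResidueField x') _ = x'
  exact Scheme.fromSpecResidueField_apply x' _

lemma conservative {X' X : Scheme.{u}} (f : X' ⟶ X) [Surjective f] :
    (ObjectProperty.ofObj (fun x' : X' ↦ Scheme.pointSmallEtale (gp X' x' ≫ f))).IsConservativeFamilyOfPoints := by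
  apply Scheme.isConservative_pointSmallEtale
  ext x
  simp only [Set.mem_iUnion, Set.mem_range, Set.mem_univ, iff_true]
  obtain ⟨x', rfl⟩ := f.surjective x
  refine ⟨x', default, ?_⟩
  change f (gp X' x' _) = f x'
  rw [gp_apply]

set_option backward.isDefEq.respectTransparency.types false in
set_option backward.isDefEq.respectTransparency false in
/-- the comparison of fibre functors -/
noncomputable def θ {X' X : Scheme.{u}} (f : X' ⟶ X) (x' : X') :
    (Scheme.pointSmallEtale (gp X' x' ≫ f)).sheafFiber (A := Type (u+1)) ≅
      EtDesc.pullSh f ⋙ (Scheme.pointSmallEtale (gp X' x')).sheafFiber := by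
  let ξ := gp X' x'
  let Φ := Scheme.pointSmallEtale ξ
  haveI : InitiallySmall.{u} (EtCoh.bc f ⋙ Φ.fiber).Elements :=
    Groth.Agent.Lib.Helper23.PointIso.initiallySmall_elements_of_iso (Groth.Agent.S0100.fiberIso f ξ)
  have hF := EtCoh.coverPreserving_bc f
  let e1 := Φ.sheafFiberComapIso (EtCoh.bc f) hF (Type (u+1))
  let e2 : (Φ.comap (EtCoh.bc f) hF).sheafFiber (A := Type (u+1)) ≅
      (Scheme.pointSmallEtale (ξ ≫ f)).sheafFiber :=
    Groth.Agent.Lib.Helper23.PointIso.sheafFiberIsoOfFiberIso (Groth.Agent.S0100.fiberIso f ξ)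
  exact e2.symm ≪≫ e1



set_option backward.isDefEq.respectTransparency.types false in
set_option backward.isDefEq.respectTransparency false in
lemma fiber_map_eq {X' X : Scheme.{u}} (f : X' ⟶ X) (x' : X') {F G : EtDesc.Sh X} (a b : F ⟶ G)
    (hab : (EtDesc.pullSh f).map a = (EtDesc.pullSh f).map b) :
    ((Scheme.pointSmallEtale (gp X' x' ≫ f)).sheafFiber (A := Type (u+1))).map a =
      ((Scheme.pointSmallEtale (gp X' x' ≫ f)).sheafFiber (A := Type (u+1))).map b := by
  have ha := (θ f x').hom.naturality a
  have hb := (θ f x').hom.naturality b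
  have h1 : (EtDesc.pullSh f ⋙ (Scheme.pointSmallEtale (gp X' x')).sheafFiber (A := Type (u+1))).map a =
      (EtDesc.pullSh f ⋙ (Scheme.pointSmallEtale (gp X' x')).sheafFiber (A := Type (u+1))).map b := by
    simp only [Functor.comp_map, hab]
  rw [h1, ← hb] at ha
  exact (cancel_mono _).1 ha

set_option backward.isDefEq.respectTransparency.types false in
set_option backward.isDefEq.respectTransparency false in
lemma fiber_map_bijective {X' X : Scheme.{u}} (f : X' ⟶ X) (x' : X') {F G : EtDesc.Sh X} (a : F ⟶ G)
    [IsIso ((EtDesc.pullSh f).map a)] :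
    Function.Bijective
      (((Scheme.pointSmallEtale (gp X' x' ≫ f)).sheafFiber (A := Type (u+1))).map a) := by
  have h1 : IsIso ((EtDesc.pullSh f ⋙
      (Scheme.pointSmallEtale (gp X' x')).sheafFiber (A := Type (u+1))).map a) := by
    rw [Functor.comp_map]
    infer_instance
  have h2 : IsIso (((Scheme.pointSmallEtale (gp X' x' ≫ f)).sheafFiber (A := Type (u+1))).map a) :=
    (NatIso.isIso_map_iff (θ f x') a).2 h1
  exact (isIso_iff_bijective _).1 h2

/-- For a surjective morphism of schemes f : X' -> X, the inverse image functor f^* on sheaves of sets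
for the small etale sites is faithful and reflects isomorphisms. -/
theorem result {X' X : Scheme.{u}} (f : X' ⟶ X) [Surjective f] :
    (EtDesc.pullSh f).Faithful ∧ (EtDesc.pullSh f).ReflectsIsomorphisms := by
  have hP := conservative f
  constructor
  · constructor
    intro F G a b hab
    apply Sheaf.hom_ext
    ext U s
    let R : Sieve U.unop :=
      { arrows := fun V k => G.obj.map k.op (a.hom.app U s) = G.obj.map k.op (b.hom.app U s)
        downward_closed := by
          intro V V' k hk c
          rw [op_comp, Functor.map_comp]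
          simp only [types_comp_apply]
          rw [hk] }
    have hR : R ∈ X.smallEtaleTopology U.unop := by
      apply Groth.Agent.Lib.Helper23.PointStalk.sieve_mem_of_forall hP
      rintro ⟨Ψ, ⟨x'⟩⟩ x
      have h1 := fiber_map_eq f x' a b hab
      have h2 : (Scheme.pointSmallEtale (gp X' x' ≫ f)).toPresheafFiber U.unop x G.obj (a.hom.app U s) =
          (Scheme.pointSmallEtale (gp X' x' ≫ f)).toPresheafFiber U.unop x G.obj (b.hom.app U s) := by
        rw [← Point.toPresheafFiber_naturality_apply, ← Point.toPresheafFiber_naturality_apply]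
        have h1' : (Scheme.pointSmallEtale (gp X' x' ≫ f)).presheafFiber.map a.hom =
            (Scheme.pointSmallEtale (gp X' x' ≫ f)).presheafFiber.map b.hom := h1
        rw [h1']
      obtain ⟨Y, g, y, hy, hg⟩ := (Point.toPresheafFiber_eq_iff' _ _ x _ _).1 h2
      exact ⟨Y, g, hg, y, hy⟩
    have hsep := ((isSheaf_iff_isSheaf_of_type _ _).1 G.2).isSeparated _ hR
    apply hsep.ext
    intro V k hk
    exact hk
  · constructor
    intro F G a ha
    refine (Sheaf.isLocallyBijective_iff_isIso (A := Type (u+1)) (FA := TypeCat.Fun) a).1 ?_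
    constructor
    · have : Presheaf.IsLocallyInjective X.smallEtaleTopology a.hom :=
        Groth.Agent.Lib.Helper23.PointStalk.isLocallyInjective_of_fibers hP a.hom (by
          rintro ⟨Ψ, ⟨x'⟩⟩
          exact (fiber_map_bijective f x' a).1)
      exact this
    · have : Presheaf.IsLocallySurjective X.smallEtaleTopology a.hom :=
        Groth.Agent.Lib.Helper23.PointStalk.isLocallySurjective_of_fibers hP a.hom (by
          rintro ⟨Ψ, ⟨x'⟩⟩
          exact (fiber_map_bijective f x' a).2)
      exact this

end Groth.Agent.S3047
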