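import Groth.Statements.S0106
-- import your own Groth.Agent.* helpers here
import Groth.Agent.Lib.Helper23.FinEtPush2
import Groth.Agent.Lib.Helper23.FlcSum

set_option autoImplicit false
open CategoryTheory CategoryTheory.Limits AlgebraicGeometry Opposite
universe u
open EtBase

namespace Groth.Agent.S0106

/-- The pushforward of a finite locally constant abelian sheaf along a finite étale morphism is again
finite locally constant. -/
theorem result {X Y : Scheme.{u}} (f : X ⟶ Y) [IsFinite f] [AlgebraicGeometry.Etale f] [EtCoh.BCCont f]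
    (F : EtCoh.Ab X) (h : EtCoh.IsFiniteLocallyConstant F) :
    EtCoh.IsFiniteLocallyConstant ((EtCoh.push f).obj F) := by
  open Groth.Agent.Lib.Helper23 in
  rw [FlcLoc.flc_iff_locTriv]
  intro y
  obtain ⟨W, w, hw, n, ⟨σ⟩⟩ := FinEtSplit.exists_etale_split f y
  obtain ⟨e⟩ := FinEtPush.pull_push_iso f W.hom F
  have hF' : EtCoh.IsFiniteLocallyConstant ((EtCoh.pull (pullback.snd W.hom f)).obj F) :=
    Flc.flc_pull _ F h
  obtain ⟨e2⟩ := FinEtPush.nonempty_push_iso_of_split σ
    ((EtCoh.pull (pullback.snd W.hom f)).obj F)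
  have h3 := FlcSum.flc_biproduct n _ (fun i => Flc.flc_pull (σ.s i).left _ hF')
  have h4 : EtCoh.IsFiniteLocallyConstant ((EtCoh.pull W.hom).obj ((EtCoh.push f).obj F)) :=
    Flc.flc_of_iso (e ≪≫ e2).symm h3
  obtain ⟨V', v', hv', hT⟩ := (FlcLoc.flc_iff_locTriv _).1 h4 w
  obtain ⟨U', u', hu', hU'⟩ := FlcLoc.exists_of_trans W V' v'
  exact ⟨U', u', by rw [hu', hv', hw], hU' _ hT⟩

end Groth.Agent.S0106
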