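import Groth.Statements.S12784
-- import your own Groth.Agent.* helpers here
import Groth.Agent.Lib.Helper27.FpKit


set_option autoImplicit false
open CategoryTheory CategoryTheory.Limits
universe v u
open FibCat

namespace Groth.Agent.S12784

/-- Consider a 2-commutative square of functors over `C` with vertical arrows `f' : 𝒳' ⟶ 𝒴'`, `f : 𝒳 ⟶
𝒴` and horizontal arrows equivalences over `C`. Then `f` is a representable 1-morphism if and only
if `f'` is. (The published statement is for categories fibred in groupoids over schemes over a base;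
this row is stated for categories over any base category.) -/
theorem result {C : Type u} [Category.{v} C] {𝒳 𝒴 𝒳' 𝒴' : BasedCategory.{v, max u v} C}
    (f : 𝒳 ⥤ᵇ 𝒴) (f' : 𝒳' ⥤ᵇ 𝒴') (a : 𝒳' ⥤ᵇ 𝒳) (b : 𝒴' ⥤ᵇ 𝒴)
    (ha : FibCat.IsEquivOver a) (hb : FibCat.IsEquivOver b) (e : BasedFunctor.comp f' b ≅ BasedFunctor.comp a f) :
    FibCat.IsRepresentable1 f ↔ FibCat.IsRepresentable1 f' := by
  constructor
  · intro hf U G'
    have h1 := hf U (BasedFunctor.comp G' b)
    let D : Groth.Agent.Lib.Helper27.FpKit.MapData (BasedFunctor.comp G' b) f G' f'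
        (BasedFunctor.id _) a b :=
      { e₁ := fun _ => Iso.refl _
        n₁ := fun α => (Category.comp_id _).trans (Category.id_comp _).symm
        l₁ := fun _ => Groth.Agent.Lib.Helper27.FpKit.Vert.id _
        e₂ := fun x' => ((BasedNatTrans.forgetful _ _).mapIso e).app x'
        n₂ := fun β => e.hom.toNatTrans.naturality β
        l₂ := fun x' => Groth.Agent.Lib.Helper27.FpKit.Vert.app e.hom x' }
    exact Groth.Agent.Lib.Helper27.FpKit.isRepresentable_of_equiv _
      (Groth.Agent.Lib.Helper27.FpKit.isEquivOver_fpMap D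
        (Groth.Agent.Lib.Helper27.FpKit.isEquivOver_id _) ha hb) h1
  · intro hf' U G
    obtain ⟨b', hb', -, ⟨ε⟩⟩ := Groth.Agent.Lib.Helper27.FpKit.exists_inverse b hb
    have h1 := hf' U (BasedFunctor.comp G b')
    let D : Groth.Agent.Lib.Helper27.FpKit.MapData G f (BasedFunctor.comp G b') f'
        (BasedFunctor.id _) a b :=
      { e₁ := fun s => ((BasedNatTrans.forgetful _ _).mapIso ε).app (G.toFunctor.obj s)
        n₁ := fun α => ε.hom.toNatTrans.naturality (G.toFunctor.map α)
        l₁ := fun s => Groth.Agent.Lib.Helper27.FpKit.Vert.app ε.hom _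
        e₂ := fun x' => ((BasedNatTrans.forgetful _ _).mapIso e).app x'
        n₂ := fun β => e.hom.toNatTrans.naturality β
        l₂ := fun x' => Groth.Agent.Lib.Helper27.FpKit.Vert.app e.hom x' }
    exact Groth.Agent.Lib.Helper27.FpKit.isRepresentable_of_equiv' _
      (Groth.Agent.Lib.Helper27.FpKit.isEquivOver_fpMap D
        (Groth.Agent.Lib.Helper27.FpKit.isEquivOver_id _) ha hb) h1

end Groth.Agent.S12784
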