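import Groth.Statements.S12785
-- import your own Groth.Agent.* helpers here
import Groth.Agent.Lib.Helper27.FpKit


set_option autoImplicit false
open CategoryTheory CategoryTheory.Limits
universe v u
open FibCat

namespace Groth.Agent.S12785

/-- The composite of two representable 1-morphisms `f : 𝒳 ⟶ 𝒴`, `g : 𝒴 ⟶ 𝒵` of categories over `C` is a
representable 1-morphism. (The published statement is for categories fibred in groupoids over
schemes over a base; this row is stated for categories over any base category.) -/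
theorem result {C : Type u} [Category.{v} C] {𝒳 𝒴 𝒵 : BasedCategory.{v, max u v} C}
    (f : 𝒳 ⥤ᵇ 𝒴) (g : 𝒴 ⥤ᵇ 𝒵) (hf : FibCat.IsRepresentable1 f) (hg : FibCat.IsRepresentable1 g) :
    FibCat.IsRepresentable1 (BasedFunctor.comp f g) := by
  intro U G
  obtain ⟨V, E, hE⟩ := hg U G
  obtain ⟨E', hE', -, -⟩ := Groth.Agent.Lib.Helper27.FpKit.exists_inverse E hE
  have h1 := hf V (BasedFunctor.comp E' (FibCat.fpSnd G g))
  let D : Groth.Agent.Lib.Helper27.FpKit.MapData (FibCat.fpSnd G g) f
      (BasedFunctor.comp E' (FibCat.fpSnd G g)) f E' (BasedFunctor.id 𝒳) (BasedFunctor.id 𝒴) :=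
    { e₁ := fun _ => Iso.refl _
      n₁ := fun α => (Category.comp_id _).trans (Category.id_comp _).symm
      l₁ := fun _ => Groth.Agent.Lib.Helper27.FpKit.Vert.id _
      e₂ := fun _ => Iso.refl _
      n₂ := fun β => (Category.comp_id _).trans (Category.id_comp _).symm
      l₂ := fun _ => Groth.Agent.Lib.Helper27.FpKit.Vert.id _ }
  have h2 := Groth.Agent.Lib.Helper27.FpKit.isEquivOver_fpMap D hE'
    (Groth.Agent.Lib.Helper27.FpKit.isEquivOver_id _)
    (Groth.Agent.Lib.Helper27.FpKit.isEquivOver_id _)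
  have h3 := Groth.Agent.Lib.Helper27.FpKit.isRepresentable_of_equiv' _ h2 h1
  exact Groth.Agent.Lib.Helper27.FpKit.isRepresentable_of_equiv' _
    (Groth.Agent.Lib.Helper27.FpKit.isEquivOver_pasteR f g G) h3

end Groth.Agent.S12785
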