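import Groth.Statements.S10537
import Groth.Agent.Lib.Helper3.FpqcQAffSquare

set_option autoImplicit false
universe u
open CategoryTheory CategoryTheory.Limits AlgebraicGeometry
open AlgSp

namespace Groth.Agent.S10537

/-- The property of morphisms of algebraic spaces over S given by f is quasi-affine (every base change
to an affine scheme is a quasi-affine scheme) is fpqc local on the base: for an fpqc covering of an
algebraic space Y by algebraic spaces Y_i, a morphism f : X ⟶ Y of algebraic spaces and cartesian
squares X_i = Y_i ×_Y X, f has the property if and only if every X_i ⟶ Y_i has it. -/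
theorem result (S : Scheme.{u}) :
    AlgSp.IsLocalOnBase (AlgSp.IsFpqcCover (S := S)) AlgSp.IsQuasiAffineMor := by
  intro ι Y Yi g hY hYi hcov X f hX Xi p q hXi sq
  constructor
  · intro hf i Z hZ z
    obtain ⟨W, i', fst, big, hW⟩ := hf hZ (z ≫ g i)
    have hw : fst ≫ f = ((yon S).map i' ≫ z) ≫ g i := by rw [Category.assoc]; exact big.w
    have hu1 : (sq i).lift fst ((yon S).map i' ≫ z) hw ≫ q i = fst := (sq i).lift_fst _ _ _
    have hu2 : (sq i).lift fst ((yon S).map i' ≫ z) hw ≫ p i = (yon S).map i' ≫ z :=
      (sq i).lift_snd _ _ _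
    have big' : IsPullback ((sq i).lift fst ((yon S).map i' ≫ z) hw ≫ q i) ((yon S).map i') f
        (z ≫ g i) := by rw [hu1]; exact big
    exact ⟨W, i', _, IsPullback.of_right big' hu2 (sq i), hW⟩
  · intro hp Z hZ z
    exact Groth.Agent.Lib.Helper3.FpqcQAff.exists_quasiAffine_pullback Yi g hY hcov.2 f hX Xi p q
      sq hp hZ z

end Groth.Agent.S10537
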