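import Groth.Statements.S10538
import Groth.Agent.Lib.Helper3.FpqcQAffSquare2
import Groth.Agent.Lib.Helper3.ImmFpqcDesc

set_option autoImplicit false
universe u
open CategoryTheory CategoryTheory.Limits AlgebraicGeometry
open AlgSp

namespace Groth.Agent.S10538

/-- The property of morphisms of algebraic spaces over S given by f is a quasi-compact immersion
(representable, every base change to a scheme an immersion of schemes that is quasi-compact) is fpqc
local on the base: for an fpqc covering of an algebraic space Y by algebraic spaces Y_i, a morphism
f : X ⟶ Y of algebraic spaces and cartesian squares X_i = Y_i ×_Y X, f has the property if and only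
if every X_i ⟶ Y_i has it. -/
theorem result (S : Scheme.{u}) :
    AlgSp.IsLocalOnBase (AlgSp.IsFpqcCover (S := S)) (AlgSp.RepWith (@IsImmersion ⊓ @QuasiCompact)) := by
  refine Groth.Agent.Lib.Helper3.FpqcQAff.isLocalOnBase_fpqc_repWith_qa (S := S)
    (@IsImmersion ⊓ @QuasiCompact) ?_
  intro A B k hk hB
  have h1 : IsImmersion k := hk.1
  have h2 : QuasiCompact k := hk.2
  have : CompactSpace A := QuasiCompact.compactSpace_of_compactSpace k
  exact Scheme.IsQuasiAffine.of_isImmersion k

end Groth.Agent.S10538
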