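import Groth.Statements.S15349
import Groth.Agent.Lib.Helper13.MonoLift

set_option autoImplicit false
universe u
open CategoryTheory CategoryTheory.Limits AlgebraicGeometry
open Mor

namespace Groth.Agent.S15349

section
open IsLocalRing Groth.Agent.Lib.Helper13.MonoLift PrimeSpectrum

/-- the dense-lifting hypothesis -/
def DenseLift {X Y : Scheme.{u}} (f : Y ⟶ X) : Prop :=
  ∀ (A : Type u) [CommRing A] [IsDomain A] (s : Spec (CommRingCat.of A) ⟶ X)
    (D : Set ↥(Spec (CommRingCat.of A))),
    Dense D →
    (∀ p ∈ D, ∃ l : Spec ((Spec (CommRingCat.of A)).residueField p) ⟶ Y,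
        l ≫ f = (Spec (CommRingCat.of A)).fromSpecResidueField p ≫ s) →
      ∃ U : (Spec (CommRingCat.of A)).Opens, (U : Set ↥(Spec (CommRingCat.of A))).Nonempty ∧
        ∃ l : (U : Scheme.{u}) ⟶ Y, l ≫ f = U.ι ≫ s

/-- the inductive step at a prime ideal -/
theorem exists_compact_piece (B : Type u) [CommRing B] {Y : Scheme.{u}}
    (f : Y ⟶ Spec (CommRingCat.of B)) [Mono f] (hc : DenseLift f) (I : Ideal B) [I.IsPrime] :
    ∃ a : B, a ∉ I ∧ ∃ K : Set Y, IsCompact K ∧
      f.base ⁻¹' (zeroLocus (I : Set B)) ⊆
        f.base ⁻¹' (zeroLocus ((I ⊔ Ideal.span {a} : Ideal B) : Set B)) ∪ K ∧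
      K ⊆ f.base ⁻¹' (zeroLocus (I : Set B)) := by
  classical
  let s : Spec (CommRingCat.of (B ⧸ I)) ⟶ Spec (CommRingCat.of B) :=
    Spec.map (CommRingCat.ofHom (Ideal.Quotient.mk I))
  -- points as prime ideals
  let fb : Y → PrimeSpectrum B := fun y => f.base y
  let sb : PrimeSpectrum (B ⧸ I) → PrimeSpectrum B := fun u => s.base u
  have hsb : ∀ u, sb u = PrimeSpectrum.comap (Ideal.Quotient.mk I) u := fun u => rfl
  have hmem : ∀ (y : Y) (J : Ideal B),
      y ∈ f.base ⁻¹' (zeroLocus (J : Set B)) ↔ J ≤ (fb y).asIdeal := fun y J => Iff.rfl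
  have hrange0 : Set.range (PrimeSpectrum.comap (Ideal.Quotient.mk I)) = zeroLocus (I : Set B) := by
    have h1 := range_comap_of_surjective (B ⧸ I) (Ideal.Quotient.mk I)
      Ideal.Quotient.mk_surjective
    rwa [Ideal.mk_ker] at h1
  have hrange : ∀ x : PrimeSpectrum B, I ≤ x.asIdeal → ∃ u : PrimeSpectrum (B ⧸ I), sb u = x := by
    intro x hx
    have : x ∈ zeroLocus (I : Set B) := hx
    rw [← hrange0] at this
    exact this
  have hs_mem : ∀ u : PrimeSpectrum (B ⧸ I), I ≤ (sb u).asIdeal := by
    intro u
    have : sb u ∈ zeroLocus (I : Set B) := by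
      rw [← hrange0]
      exact ⟨u, rfl⟩
    exact this
  have hs_a : ∀ (a : B) (u : PrimeSpectrum (B ⧸ I)),
      a ∈ (sb u).asIdeal ↔ Ideal.Quotient.mk I a ∈ u.asIdeal := fun a u => Iff.rfl
  have hsup : ∀ (a : B) (x : PrimeSpectrum B), I ≤ x.asIdeal → a ∈ x.asIdeal →
      (I ⊔ Ideal.span {a} : Ideal B) ≤ x.asIdeal := by
    intro a x h1 h2
    rw [sup_le_iff, Ideal.span_le]
    refine ⟨h1, ?_⟩
    intro b hb
    rw [Set.mem_singleton_iff.1 hb]
    exact h2
  let D : Set ↥(Spec (CommRingCat.of (B ⧸ I))) := s.base ⁻¹' (Set.range f.base)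
  -- a basic open neighbourhood gives an element outside `I`
  have hbasic : ∀ (u : PrimeSpectrum (B ⧸ I)) (O : Set (PrimeSpectrum (B ⧸ I))), IsOpen O → u ∈ O →
      ∃ a : B, a ∉ I ∧ u ∈ (basicOpen (Ideal.Quotient.mk I a) : Set (PrimeSpectrum (B ⧸ I))) ∧
        (basicOpen (Ideal.Quotient.mk I a) : Set (PrimeSpectrum (B ⧸ I))) ⊆ O := by
    intro u O hO hu
    obtain ⟨_, ⟨abar, rfl⟩, hu1, hsub⟩ :=
      PrimeSpectrum.isTopologicalBasis_basic_opens.exists_subset_of_mem_open hu hO
    obtain ⟨a, rfl⟩ := Ideal.Quotient.mk_surjective abar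
    refine ⟨a, ?_, hu1, hsub⟩
    intro haI
    have h0 : Ideal.Quotient.mk I a = 0 := Ideal.Quotient.eq_zero_iff_mem.2 haI
    have : Ideal.Quotient.mk I a ∉ u.asIdeal := (PrimeSpectrum.mem_basicOpen _ _).1 hu1
    rw [h0] at this
    exact this (Ideal.zero_mem _)
  by_cases hD : Dense D
  · -- the dense case
    have hlifts : ∀ p ∈ D, ∃ l : Spec ((Spec (CommRingCat.of (B ⧸ I))).residueField p) ⟶ Y,
        l ≫ f = (Spec (CommRingCat.of (B ⧸ I))).fromSpecResidueField p ≫ s := by
      rintro p ⟨y, hy⟩
      refine exists_lift_of_mono_of_field f y _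
        ((Spec (CommRingCat.of (B ⧸ I))).fromSpecResidueField p ≫ s)
        ⟨closedPoint _, ?_⟩
      have h1 : ((Spec (CommRingCat.of (B ⧸ I))).fromSpecResidueField p).base
          (closedPoint ((Spec (CommRingCat.of (B ⧸ I))).residueField p)) = p :=
        Scheme.fromSpecResidueField_apply _ _
      exact (congrArg s.base h1).trans hy.symm
    obtain ⟨U', ⟨u, hu⟩, l, hl⟩ := hc (B ⧸ I) s D hD hlifts
    obtain ⟨a, haI, hua, hsub⟩ := hbasic u (U' : Set ↥(Spec (CommRingCat.of (B ⧸ I))))
      U'.isOpen hu
    have hl_apply : ∀ v : U', fb (l.base v) = sb (U'.ι.base v) := by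
      intro v
      have := congrArg (fun k : (U' : Scheme.{u}) ⟶ Spec (CommRingCat.of B) => k.base v) hl
      exact this
    refine ⟨a, haI, l.base '' (U'.ι.base ⁻¹'
      (basicOpen (Ideal.Quotient.mk I a) : Set (PrimeSpectrum (B ⧸ I)))), ?_, ?_, ?_⟩
    · apply IsCompact.image _ l.continuous
      apply U'.ι.isOpenEmbedding.isInducing.isCompact_preimage'
        (PrimeSpectrum.isCompact_basicOpen _)
      intro v hv
      exact ⟨⟨v, hsub hv⟩, rfl⟩
    · intro y hy
      by_cases hay : a ∈ (fb y).asIdeal
      · left
        exact (hmem y _).2 (hsup a _ ((hmem y I).1 hy) hay)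
      · right
        obtain ⟨v, hv⟩ := hrange (fb y) ((hmem y I).1 hy)
        have hvb : v ∈ (basicOpen (Ideal.Quotient.mk I a) : Set (PrimeSpectrum (B ⧸ I))) := by
          rw [SetLike.mem_coe, PrimeSpectrum.mem_basicOpen, ← hs_a, hv]
          exact hay
        refine ⟨⟨v, hsub hvb⟩, hvb, ?_⟩
        apply f.injective
        exact (hl_apply ⟨v, hsub hvb⟩).trans hv
    · rintro _ ⟨v, -, rfl⟩
      rw [hmem]
      rw [hl_apply]
      exact hs_mem _
  · -- the non-dense case
    have hne : ∃ u, u ∉ closure D := by
      by_contra hall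
      apply hD
      intro u
      by_contra hu
      exact hall ⟨u, hu⟩
    obtain ⟨u, hu⟩ := hne
    obtain ⟨a, haI, hua, hsub⟩ := hbasic u (closure D)ᶜ isClosed_closure.isOpen_compl hu
    refine ⟨a, haI, ∅, isCompact_empty, ?_, Set.empty_subset _⟩
    intro y hy
    left
    by_contra hcon
    have hay : a ∉ (fb y).asIdeal := by
      intro hay
      exact hcon ((hmem y _).2 (hsup a _ ((hmem y I).1 hy) hay))
    obtain ⟨v, hv⟩ := hrange (fb y) ((hmem y I).1 hy)
    have hvb : v ∈ (basicOpen (Ideal.Quotient.mk I a) : Set (PrimeSpectrum (B ⧸ I))) := by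
      rw [SetLike.mem_coe, PrimeSpectrum.mem_basicOpen, ← hs_a, hv]
      exact hay
    exact hsub hvb (subset_closure ⟨y, hv.symm⟩)

/-- a monomorphism to a Noetherian affine scheme with the dense lifting property has
quasi-compact source -/
theorem compactSpace_of_denseLift (B : Type u) [CommRing B] [IsNoetherianRing B] {Y : Scheme.{u}}
    (f : Y ⟶ Spec (CommRingCat.of B)) [Mono f] (hc : DenseLift f) : CompactSpace Y := by
  have key : ∀ I : Ideal B, IsCompact (f.base ⁻¹' (zeroLocus (I : Set B))) := by
    intro I
    induction I using WellFoundedGT.induction with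
    | ind I IH =>
      by_cases hI : I = ⊤
      · have h0 : zeroLocus (I : Set B) = ∅ := PrimeSpectrum.zeroLocus_empty_iff_eq_top.2 hI
        have : f.base ⁻¹' (zeroLocus (I : Set B)) = ∅ := by
          rw [Set.eq_empty_iff_forall_notMem]
          intro z hz
          have h1 : (show PrimeSpectrum B from f.base z) ∈ zeroLocus (I : Set B) := hz
          rw [h0] at h1
          exact h1
        rw [this]
        exact isCompact_empty
      by_cases hp : I.IsPrime
      · obtain ⟨a, haI, K, hK, h1, h2⟩ := exists_compact_piece B f hc I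
        have hlt : I < I ⊔ Ideal.span {a} := by
          refine lt_of_le_of_ne le_sup_left ?_
          intro heq
          apply haI
          rw [heq]
          exact Ideal.mem_sup_right (Ideal.subset_span rfl)
        have hcomp := (IH _ hlt).union hK
        have heq : f.base ⁻¹' (zeroLocus (I : Set B)) =
            f.base ⁻¹' (zeroLocus ((I ⊔ Ideal.span {a} : Ideal B) : Set B)) ∪ K := by
          apply subset_antisymm h1
          apply Set.union_subset _ h2
          apply Set.preimage_mono
          exact PrimeSpectrum.zeroLocus_anti_mono_ideal le_sup_left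
        rw [heq]
        exact hcomp
      · -- `I` is not prime: split
        rw [Ideal.isPrime_iff] at hp
        have hp' : ¬ ∀ {x y : B}, x * y ∈ I → x ∈ I ∨ y ∈ I := fun h => hp ⟨hI, h⟩
        have : ∃ x y : B, x * y ∈ I ∧ x ∉ I ∧ y ∉ I := by
          by_contra hcon
          apply hp'
          intro x y hxy
          by_contra hor
          apply hcon
          exact ⟨x, y, hxy, fun hx => hor (Or.inl hx), fun hy => hor (Or.inr hy)⟩
        obtain ⟨x, y, hxy, hx, hy⟩ := this
        have hltx : I < I ⊔ Ideal.span {x} := by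
          refine lt_of_le_of_ne le_sup_left ?_
          intro heq
          apply hx
          rw [heq]
          exact Ideal.mem_sup_right (Ideal.subset_span rfl)
        have hlty : I < I ⊔ Ideal.span {y} := by
          refine lt_of_le_of_ne le_sup_left ?_
          intro heq
          apply hy
          rw [heq]
          exact Ideal.mem_sup_right (Ideal.subset_span rfl)
        have hcomp := (IH _ hltx).union (IH _ hlty)
        have heq : f.base ⁻¹' (zeroLocus (I : Set B)) =
            f.base ⁻¹' (zeroLocus ((I ⊔ Ideal.span {x} : Ideal B) : Set B)) ∪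
            f.base ⁻¹' (zeroLocus ((I ⊔ Ideal.span {y} : Ideal B) : Set B)) := by
          apply subset_antisymm
          · intro z hz
            have hzI : I ≤ (show PrimeSpectrum B from f.base z).asIdeal := hz
            have hmem : x * y ∈ (show PrimeSpectrum B from f.base z).asIdeal := hzI hxy
            rcases (show PrimeSpectrum B from f.base z).isPrime.mem_or_mem hmem with h | h
            · left
              change (I ⊔ Ideal.span {x} : Ideal B) ≤ _
              rw [sup_le_iff, Ideal.span_le]
              refine ⟨hzI, ?_⟩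
              intro b hb
              rw [Set.mem_singleton_iff.1 hb]
              exact h
            · right
              change (I ⊔ Ideal.span {y} : Ideal B) ≤ _
              rw [sup_le_iff, Ideal.span_le]
              refine ⟨hzI, ?_⟩
              intro b hb
              rw [Set.mem_singleton_iff.1 hb]
              exact h
          · apply Set.union_subset
            · apply Set.preimage_mono
              exact PrimeSpectrum.zeroLocus_anti_mono_ideal le_sup_left
            · apply Set.preimage_mono
              exact PrimeSpectrum.zeroLocus_anti_mono_ideal le_sup_left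
        rw [heq]
        exact hcomp
  have h := key ⊥
  have huniv : f.base ⁻¹' (zeroLocus ((⊥ : Ideal B) : Set B)) = Set.univ := by
    rw [Set.eq_univ_iff_forall]
    intro z
    change (show PrimeSpectrum B from f.base z) ∈ zeroLocus ((⊥ : Ideal B) : Set B)
    rw [PrimeSpectrum.zeroLocus_bot]
    trivial
  rw [huniv] at h
  exact isCompact_univ_iff.1 h

end

/-- Let X be a locally Noetherian scheme and f : Y ⟶ X a monomorphism locally of finite presentation
such that, for every integral domain A and every morphism s : Spec A ⟶ X for which the points of a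
dense subset of Spec A lift to Y (the residue field of each such point maps to Y over s), some
nonempty open subscheme of Spec A maps to Y over s. Then f is quasi-compact. (The published remark
is for a representable morphism of algebraic stacks; this row is the case of schemes.) -/
theorem result {X Y : Scheme.{u}} [IsLocallyNoetherian X]
    (f : Y ⟶ X) [LocallyOfFinitePresentation f] [Mono f]
    (hc : ∀ (A : Type u) [CommRing A] [IsDomain A] (s : Spec (CommRingCat.of A) ⟶ X) (D : Set ↥(Spec (CommRingCat.of A))),
        Dense D →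
        (∀ p ∈ D, ∃ l : Spec ((Spec (CommRingCat.of A)).residueField p) ⟶ Y,
            l ≫ f = (Spec (CommRingCat.of A)).fromSpecResidueField p ≫ s) →
          ∃ U : (Spec (CommRingCat.of A)).Opens, (U : Set ↥(Spec (CommRingCat.of A))).Nonempty ∧
            ∃ l : (U : Scheme.{u}) ⟶ Y, l ≫ f = U.ι ≫ s) :
    QuasiCompact f := by
  rw [IsZariskiLocalAtTarget.iff_of_openCover (P := @QuasiCompact) X.affineOpenCover.openCover]
  intro i
  change QuasiCompact (pullback.snd f (X.affineOpenCover.f i))
  haveI : IsLocallyNoetherian (Spec (X.affineOpenCover.X i)) :=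
    isLocallyNoetherian_of_isOpenImmersion (X.affineOpenCover.f i)
  haveI hN : IsNoetherianRing (X.affineOpenCover.X i) := isLocallyNoetherian_Spec.mp inferInstance
  have hDL : DenseLift (pullback.snd f (X.affineOpenCover.f i)) := by
    intro A _ _ s D hD hl
    obtain ⟨U', hne, l, hl'⟩ := hc A (s ≫ X.affineOpenCover.f i) D hD (fun p hp => by
      obtain ⟨lp, hlp⟩ := hl p hp
      refine ⟨lp ≫ pullback.fst f (X.affineOpenCover.f i), ?_⟩
      rw [Category.assoc, pullback.condition, ← Category.assoc, hlp, Category.assoc])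
    refine ⟨U', hne, pullback.lift l (U'.ι ≫ s) (by rw [hl', Category.assoc]), ?_⟩
    rw [pullback.lift_snd]
  haveI := compactSpace_of_denseLift (X.affineOpenCover.X i) (pullback.snd f (X.affineOpenCover.f i))
    hDL
  rw [HasAffineProperty.iff_of_isAffine (P := @QuasiCompact)]
  infer_instance

end Groth.Agent.S15349
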