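import Groth.Statements.S12801
import Mathlib

set_option autoImplicit false
open CategoryTheory
universe v₂ u₂ v u
open Stk

namespace Groth.Agent.S12801

theorem pullback_le {C : Type u} [Category.{v} C] {𝒳 : Type u₂} [Category.{v₂} 𝒳] (p : 𝒳 ⥤ C)
    (hp : FibCat.IsFibGrpd p) {x y : 𝒳} (S : Sieve x) (f : y ⟶ x) :
    (S.functorPushforward p).pullback (p.map f) ≤ (S.pullback f).functorPushforward p := by
  intro V g hg
  obtain ⟨z, s, t, hs, hst⟩ := hg
  obtain ⟨w, r, hr⟩ := hp.exists_lift (x := y) g
  obtain ⟨z', τ, hτ⟩ := hp.exists_lift (x := z) t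
  have hw : p.obj w = V := IsHomLift.domain_eq p g r
  have hz' : p.obj z' = V := IsHomLift.domain_eq p t τ
  have hr' : p.map r = eqToHom hw ≫ g := by
    rw [IsHomLift.fac' p g r]; simp
  have hτ' : p.map τ = eqToHom hz' ≫ t := by
    rw [IsHomLift.fac' p t τ]; simp
  have := hp.isStronglyCartesian (τ ≫ s)
  have hf' : p.map (r ≫ f) = eqToHom (hw.trans hz'.symm) ≫ p.map (τ ≫ s) := by
    rw [p.map_comp, p.map_comp, hr', hτ', Category.assoc, hst]
    simp
  obtain ⟨χ, ⟨-, hχ⟩, -⟩ := Functor.IsStronglyCartesian.universal_property p (p.map (τ ≫ s)) (τ ≫ s)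
    (eqToHom (hw.trans hz'.symm)) (p.map (r ≫ f)) hf' (r ≫ f)
  refine ⟨w, r, eqToHom hw.symm, ?_, ?_⟩
  · change S (r ≫ f)
    rw [← hχ, ← Category.assoc]
    exact S.downward_closed hs _
  · rw [hr']; simp

theorem le_pullback {C : Type u} [Category.{v} C] {𝒳 : Type u₂} [Category.{v₂} 𝒳] (p : 𝒳 ⥤ C)
    {x y : 𝒳} (R : Sieve x) (s : y ⟶ x) :
    (R.pullback s).functorPushforward p ≤ (R.functorPushforward p).pullback (p.map s) := by
  rintro V u ⟨w, r, t', hr, rfl⟩
  refine ⟨w, r ≫ s, t', hr, ?_⟩
  simp

/-- the topology of sieves whose image covers -/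
def imageTop {C : Type u} [Category.{v} C] {𝒳 : Type u₂} [Category.{v₂} 𝒳] (p : 𝒳 ⥤ C)
    (hp : FibCat.IsFibGrpd p) (J : GrothendieckTopology C) : GrothendieckTopology 𝒳 where
  sieves x := {S | S.functorPushforward p ∈ J (p.obj x)}
  top_mem' x := by
    change (⊤ : Sieve x).functorPushforward p ∈ J (p.obj x)
    rw [Sieve.functorPushforward_top]
    exact J.top_mem _
  pullback_stable' x y S f hS := by
    change (S.pullback f).functorPushforward p ∈ J (p.obj y)
    exact J.superset_covering (pullback_le p hp S f) (J.pullback_stable (p.map f) hS)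
  transitive' x S hS R hR := by
    change R.functorPushforward p ∈ J (p.obj x)
    refine J.transitive hS _ ?_
    rintro V g ⟨z, s, t, hs, rfl⟩
    have h1 : (R.pullback s).functorPushforward p ∈ J (p.obj z) := hR hs
    have h2 := J.pullback_stable t (J.superset_covering (le_pullback p R s) h1)
    rwa [Sieve.pullback_comp]

/-- Let `p : 𝒳 ⥤ C` make `𝒳` fibred in groupoids over `C` and let `J` be a Grothendieck topology on `C`.
A sieve `S` on an object `x` of `𝒳` belongs to the topology on `𝒳` generated by the sieves whose
image under `p` generates a covering sieve if and only if the image of `S` under `p` generates a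
covering sieve of `p x`: the sieves whose image covers already satisfy the axioms of a topology (the
topology on `𝒳` inherited from `C`). (The published statement is for a fibred category, with
coverings the families of strongly cartesian morphisms `{x_i ⟶ x}` such that `{p x_i ⟶ p x}` is a
covering; this row is the case of a category fibred in groupoids, where every morphism is strongly
cartesian, in sieve form.) -/
theorem result {C : Type u} [Category.{v} C] {𝒳 : Type u₂} [Category.{v₂} 𝒳] (p : 𝒳 ⥤ C)
    (hp : FibCat.IsFibGrpd p) (J : GrothendieckTopology C) {x : 𝒳} (S : Sieve x) :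
    S ∈ p.restrictedTopology J x ↔ S.functorPushforward p ∈ J (p.obj x) := by
  refine ⟨fun h => ?_, Functor.mem_restrictedTopology_of_functorPushforward_mem⟩
  have hle : p.restrictedTopology J ≤ imageTop p hp J := by
    unfold Functor.restrictedTopology
    rw [Precoverage.toGrothendieck_le_iff_le_toPrecoverage]
    intro y R hR
    rw [GrothendieckTopology.mem_toPrecoverage_iff]
    rw [Precoverage.mem_comap_iff, GrothendieckTopology.mem_toPrecoverage_iff,
      Sieve.generate_map_eq_functorPushforward] at hR
    exact hR
  exact hle _ h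

end Groth.Agent.S12801
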