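import Groth.Statements.S2333
import Groth.Agent.Lib.Helper28.AmpleLocal

set_option autoImplicit false
universe u
open CategoryTheory CategoryTheory.Limits AlgebraicGeometry
open EGA2

namespace Groth.Agent.S2333

/-- Let f : X → Y and g : Y → Z be morphisms of schemes with f quasi-compact, and L an O_X-module which
is ample relative to the composite g ∘ f. Then L is ample relative to f. (No separatedness
hypothesis on g is imposed.) -/
theorem result {X Y Z : Scheme.{u}} (f : X ⟶ Y) (g : Y ⟶ Z) [QuasiCompact f]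
    (L : X.Modules) (hL : RelAmple.IsRelAmple (f ≫ g) L) : RelAmple.IsRelAmple f L := by
  refine Groth.Agent.Lib.Helper28.AmpleLocal.isRelAmple_of_forall_exists f L fun y => ?_
  obtain ⟨_, ⟨W', hW', rfl⟩, hyW', -⟩ :=
    Z.isBasis_affineOpens.exists_subset_of_mem_open (Set.mem_univ (g y)) isOpen_univ
  refine ⟨g ⁻¹ᵁ W', hyW', fun V hV hVW => ?_⟩
  have hA := hL.2 ⟨W', hW'⟩
  haveI : CompactSpace ((f ⁻¹ᵁ V : X.Opens) : Scheme.{u}) :=
    isCompact_iff_compactSpace.mp (QuasiCompact.isCompact_preimage (f := f) _ V.isOpen hV.isCompact)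
  refine Groth.Agent.Lib.Helper28.AmpleLocal.isAmple_restrict_of_range_subset (f ⁻¹ᵁ V).ι
    ((f ≫ g) ⁻¹ᵁ W').ι ?_ L hA
  rw [Scheme.Opens.range_ι, Scheme.Opens.range_ι]
  intro x hx
  exact hVW hx

end Groth.Agent.S2333
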