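import Groth.Statements.S4396
-- import your own Groth.Agent.* helpers here

set_option autoImplicit false
universe u
open AlgebraicGeometry
open EGA2

namespace Groth.Agent.S4396

open HomogeneousLocalization DirectSum

variable {R A : Type u} [CommRing R] [CommRing A] [Algebra R A] (𝒜 : ℕ → Submodule R A) [GradedAlgebra 𝒜]
    {B : Type u} [CommRing B] [Algebra R B] (ℬ : ℕ → Submodule R B) [GradedAlgebra ℬ]
    (d : ℕ) (φ : B →ₐ[R] A) (hφ : Function.Injective φ)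
    (hdeg : ∀ n : ℕ, Submodule.map φ.toLinearMap (ℬ n) = 𝒜 (n * d)) (f' : B) (hf' : f' ∈ ℬ 1)

include hdeg in
theorem map_mem {n : ℕ} {x : B} (hx : x ∈ ℬ n) : φ x ∈ 𝒜 (n • d) := by
  rw [smul_eq_mul, ← hdeg n]
  exact Submodule.mem_map_of_mem hx

include hdeg hf' in
theorem hf : φ f' ∈ 𝒜 d := by
  have := map_mem 𝒜 ℬ d φ hdeg hf'
  rwa [one_smul] at this

/-- the maps on the graded pieces -/
noncomputable def piece (n : ℕ) : ℬ n →+ Away 𝒜 (φ f') where
  toFun x := Away.mk 𝒜 (hf 𝒜 ℬ d φ hdeg f' hf') n (φ x.1) (map_mem 𝒜 ℬ d φ hdeg x.2)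
  map_zero' := by
    apply HomogeneousLocalization.val_injective
    simp [Away.val_mk, Localization.mk_zero]
  map_add' x y := by
    apply HomogeneousLocalization.val_injective
    simp [Away.val_mk, Localization.add_mk_self]

theorem piece_val (n : ℕ) (x : ℬ n) :
    (piece 𝒜 ℬ d φ hdeg f' hf' n x).val =
      Localization.mk (φ x.1) ⟨φ f' ^ n, pow_mem (Submonoid.mem_powers (φ f')) n⟩ :=
  Away.val_mk 𝒜 n (hf 𝒜 ℬ d φ hdeg f' hf') _ _

theorem piece_one : piece 𝒜 ℬ d φ hdeg f' hf' 0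
    (GradedMonoid.GOne.one (A := fun i => ℬ i)) = 1 := by
  apply HomogeneousLocalization.val_injective
  rw [piece_val, val_one]
  change Localization.mk (φ (1 : B)) _ = 1
  simp

theorem piece_mul {i j : ℕ} (x : ℬ i) (y : ℬ j) :
    piece 𝒜 ℬ d φ hdeg f' hf' (i + j) (GradedMonoid.GMul.mul (A := fun i => ℬ i) x y) =
      piece 𝒜 ℬ d φ hdeg f' hf' i x * piece 𝒜 ℬ d φ hdeg f' hf' j y := by
  apply HomogeneousLocalization.val_injective
  rw [val_mul, piece_val, piece_val, piece_val, Localization.mk_mul]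
  change Localization.mk (φ (x.1 * y.1)) _ = _
  rw [map_mul]
  congr 1
  exact Subtype.ext (pow_add _ _ _)

/-- the dehomogenisation `B → A_(f)` -/
noncomputable def Ψ : B →+* Away 𝒜 (φ f') :=
  (DirectSum.toSemiring (piece 𝒜 ℬ d φ hdeg f' hf') (piece_one 𝒜 ℬ d φ hdeg f' hf')
    (piece_mul 𝒜 ℬ d φ hdeg f' hf')).comp (DirectSum.decomposeRingEquiv ℬ).toRingHom

theorem Ψ_of_mem {n : ℕ} {x : B} (hx : x ∈ ℬ n) :
    (Ψ 𝒜 ℬ d φ hdeg f' hf' x).val =
      Localization.mk (φ x) ⟨φ f' ^ n, pow_mem (Submonoid.mem_powers (φ f')) n⟩ := by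
  have : Ψ 𝒜 ℬ d φ hdeg f' hf' x = piece 𝒜 ℬ d φ hdeg f' hf' n ⟨x, hx⟩ := by
    change DirectSum.toSemiring (piece 𝒜 ℬ d φ hdeg f' hf') (piece_one 𝒜 ℬ d φ hdeg f' hf')
      (piece_mul 𝒜 ℬ d φ hdeg f' hf') (DirectSum.decompose ℬ x) = _
    rw [DirectSum.decompose_of_mem ℬ hx, DirectSum.toSemiring_of]
  rw [this, piece_val]

theorem Ψ_f' : Ψ 𝒜 ℬ d φ hdeg f' hf' f' = 1 := by
  apply HomogeneousLocalization.val_injective
  rw [Ψ_of_mem 𝒜 ℬ d φ hdeg f' hf' hf', val_one]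
  convert Localization.mk_self (⟨φ f' ^ 1, pow_mem (Submonoid.mem_powers (φ f')) 1⟩ :
    Submonoid.powers (φ f')) using 2
  simp

include hdeg in
theorem Ψ_surjective : Function.Surjective (Ψ 𝒜 ℬ d φ hdeg f' hf') := by
  intro z
  obtain ⟨n, a, ha, rfl⟩ := Away.mk_surjective 𝒜 (hf 𝒜 ℬ d φ hdeg f' hf') z
  rw [smul_eq_mul, ← hdeg n] at ha
  obtain ⟨x, hx, rfl⟩ := ha
  refine ⟨x, ?_⟩
  apply HomogeneousLocalization.val_injective
  rw [Ψ_of_mem 𝒜 ℬ d φ hdeg f' hf' hx, Away.val_mk]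
  rfl

include hφ in
theorem quot_eq_zero {x : B} (hx : Ψ 𝒜 ℬ d φ hdeg f' hf' x = 0) :
    Ideal.Quotient.mk (Ideal.span {f' - 1}) x = 0 := by
  classical
  set q := Ideal.Quotient.mk (Ideal.span {f' - 1}) with hqdef
  have hq : q f' = 1 := by
    have : q (f' - 1) = 0 := Ideal.Quotient.eq_zero_iff_mem.2 (Ideal.subset_span rfl)
    rwa [map_sub, map_one, sub_eq_zero] at this
  set s := (DirectSum.decompose ℬ x).support with hs
  set N := s.sup id with hN
  set y := ∑ n ∈ s, (DirectSum.decompose ℬ x n : B) * f' ^ (N - n) with hy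
  have hyN : y ∈ ℬ N := by
    refine Submodule.sum_mem _ fun n hn => ?_
    have hle : n ≤ N := Finset.le_sup (f := id) hn
    have := SetLike.mul_mem_graded (SetLike.coe_mem (DirectSum.decompose ℬ x n))
      (SetLike.pow_mem_graded (N - n) hf')
    rwa [smul_eq_mul, mul_one, Nat.add_sub_cancel' hle] at this
  have hqy : q y = q x := by
    rw [hy, map_sum]
    simp only [map_mul, map_pow, hq, one_pow, mul_one]
    rw [← map_sum, DirectSum.sum_support_decompose]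
  have hΨy : Ψ 𝒜 ℬ d φ hdeg f' hf' y = 0 := by
    rw [hy, map_sum]
    simp only [map_mul, map_pow, Ψ_f', one_pow, mul_one]
    rw [← map_sum, DirectSum.sum_support_decompose, hx]
  have h1 := Ψ_of_mem 𝒜 ℬ d φ hdeg f' hf' hyN
  rw [hΨy, val_zero, eq_comm, Localization.mk_eq_mk', IsLocalization.mk'_eq_zero_iff] at h1
  obtain ⟨⟨_, k, rfl⟩, hk⟩ := h1
  have h2 : f' ^ k * y = 0 := by
    apply hφ
    rw [map_mul, map_pow, map_zero]
    exact hk
  rw [← hqy]
  have : q (f' ^ k * y) = q y := by rw [map_mul, map_pow, hq, one_pow, one_mul]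
  rw [← this, h2, map_zero]

include hφ in
theorem ker_eq : RingHom.ker (Ψ 𝒜 ℬ d φ hdeg f' hf') = Ideal.span {f' - 1} := by
  apply le_antisymm
  · intro x hx
    exact Ideal.Quotient.eq_zero_iff_mem.1 (quot_eq_zero 𝒜 ℬ d φ hφ hdeg f' hf' hx)
  · rw [Ideal.span_le, Set.singleton_subset_iff]
    change Ψ 𝒜 ℬ d φ hdeg f' hf' (f' - 1) = 0
    rw [map_sub, Ψ_f', map_one, sub_self]

include hφ hdeg hf' in
theorem main :
    ∃ e : HomogeneousLocalization.Away 𝒜 (φ f') ≃+* B ⧸ Ideal.span {f' - 1},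
      ∀ (n : ℕ) (x : B), x ∈ ℬ n →
        (e.symm (Ideal.Quotient.mk (Ideal.span {f' - 1}) x)).val =
          Localization.mk (φ x) ⟨φ f' ^ n, pow_mem (Submonoid.mem_powers (φ f')) n⟩ := by
  let e₁ := RingHom.quotientKerEquivOfSurjective (Ψ_surjective 𝒜 ℬ d φ hdeg f' hf')
  let e₂ := Ideal.quotEquivOfEq (ker_eq 𝒜 ℬ d φ hφ hdeg f' hf')
  refine ⟨e₁.symm.trans e₂, fun n x hx => ?_⟩
  have : (e₁.symm.trans e₂).symm (Ideal.Quotient.mk (Ideal.span {f' - 1}) x) =
      Ψ 𝒜 ℬ d φ hdeg f' hf' x := by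
    rw [RingEquiv.symm_trans_apply]
    have h1 : e₂.symm (Ideal.Quotient.mk (Ideal.span {f' - 1}) x) =
        Ideal.Quotient.mk (RingHom.ker (Ψ 𝒜 ℬ d φ hdeg f' hf')) x := rfl
    rw [h1, RingEquiv.symm_symm]
    rfl
  rw [this, Ψ_of_mem 𝒜 ℬ d φ hdeg f' hf' hx]


/-- Let S be a ring graded in nonnegative degrees, d > 0, and S^{(d)} the graded ring whose degree-n
part is S_{nd} (given here as any graded ring S' with an injective algebra homomorphism φ : S' → S
carrying S'_n onto S_{nd} for every n); let f' ∈ S'_1, with image f = φ(f') ∈ S_d. Then there is a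
ring isomorphism between the degree-zero homogeneous localization S_(f) and the quotient S'/(f' -
1)S', whose inverse sends the class of an element x of S'_n to the fraction φ(x)/f^n. (The module
part of the published statement is not stated here.) -/
theorem result {R A : Type u} [CommRing R] [CommRing A] [Algebra R A] (𝒜 : ℕ → Submodule R A) [GradedAlgebra 𝒜]
    {B : Type u} [CommRing B] [Algebra R B] (ℬ : ℕ → Submodule R B) [GradedAlgebra ℬ]
    (d : ℕ) (hd : 0 < d) (φ : B →ₐ[R] A) (hφ : Function.Injective φ)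
    (hdeg : ∀ n : ℕ, Submodule.map φ.toLinearMap (ℬ n) = 𝒜 (n * d)) (f' : B) (hf' : f' ∈ ℬ 1) :
    ∃ e : HomogeneousLocalization.Away 𝒜 (φ f') ≃+* B ⧸ Ideal.span {f' - 1},
      ∀ (n : ℕ) (x : B), x ∈ ℬ n →
        (e.symm (Ideal.Quotient.mk (Ideal.span {f' - 1}) x)).val =
          Localization.mk (φ x) ⟨φ f' ^ n, pow_mem (Submonoid.mem_powers (φ f')) n⟩ := by
  exact main 𝒜 ℬ d φ hφ hdeg f' hf'

end Groth.Agent.S4396
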