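import Groth.Statements.S3595
import Groth.Agent.Lib.Helper28.RelProjGlue

set_option autoImplicit false
universe u
open CategoryTheory CategoryTheory.Limits AlgebraicGeometry
open EGA2

namespace Groth.Agent.S3595

open HomogeneousLocalization TopologicalSpace Opposite
open Groth.Agent.Lib.Helper28.RelProjGlue (hom_ext_of_local)

variable {R A : Type u} [CommRing R] [CommRing A] [Algebra R A] (𝒜 : ℕ → Submodule R A)
    [GradedAlgebra 𝒜]
    {B : Type u} [CommRing B] [Algebra R B] (ℬ : ℕ → Submodule R B) [GradedAlgebra ℬ]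
    (φ : 𝒜 →+*ᵍ ℬ)

/-- index of the charts -/
structure Idx where
  d : ℕ
  f : A
  hd : 0 < d
  hf : f ∈ 𝒜 d

variable {𝒜 ℬ}

theorem chart_ι {d : ℕ} {f : A} (hf : f ∈ 𝒜 d) (hd : 0 < d) :
    PCone.chart φ hf hd ≫ (PCone.dom φ).ι = Proj.awayι ℬ (φ f) (φ.2 hf) hd :=
  IsOpenImmersion.lift_fac _ _ _

instance chart_isOpenImmersion {d : ℕ} {f : A} (hf : f ∈ 𝒜 d) (hd : 0 < d) :
    IsOpenImmersion (PCone.chart φ hf hd) := by
  have : IsOpenImmersion (PCone.chart φ hf hd ≫ (PCone.dom φ).ι) := by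
    rw [chart_ι]; infer_instance
  exact IsOpenImmersion.of_comp _ (PCone.dom φ).ι

/-- the cover of `G(φ)` by the charts -/
noncomputable def cov : (PCone.dom φ : Scheme.{u}).OpenCover where
  I₀ := Idx 𝒜
  X t := Spec (CommRingCat.of (Away ℬ (φ t.f)))
  f t := PCone.chart φ t.hf t.hd
  mem₀ := by
    rw [Scheme.presieve₀_mem_precoverage_iff]
    refine ⟨fun x => ?_, inferInstance⟩
    have hx : x.1 ∈ PCone.dom φ := x.2
    obtain ⟨⟨f, d, hd, hf⟩, hxf⟩ := Opens.mem_iSup.1 hx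
    refine ⟨⟨d, f, hd, hf⟩, ?_⟩
    rw [← Proj.opensRange_awayι ℬ (φ f) (φ.2 hf) hd] at hxf
    obtain ⟨y, hy⟩ := hxf
    refine ⟨y, ?_⟩
    apply (PCone.dom φ).ι.isOpenEmbedding.injective
    rw [← Scheme.Hom.comp_apply, chart_ι]
    exact hy

/-- the pieces -/
noncomputable def piece (t : Idx 𝒜) : Spec (CommRingCat.of (Away ℬ (φ t.f))) ⟶ Proj 𝒜 :=
  Spec.map (CommRingCat.ofHom (Away.map φ t.f)) ≫ Proj.awayι 𝒜 t.f t.hf t.hd

theorem ring_identity {d e : ℕ} {f g x : A} (hf : f ∈ 𝒜 d) (hg : g ∈ 𝒜 e) (hx : x = f * g) :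
    (Away.map φ x).comp (awayMap 𝒜 hg hx) =
      (awayMap ℬ (φ.2 hg) (show φ x = φ f * φ g by rw [hx, map_mul])).comp (Away.map φ f) := by
  ext z
  obtain ⟨n, a, ha, rfl⟩ := Away.mk_surjective 𝒜 hf z
  simp only [RingHom.comp_apply]
  rw [awayMap_mk, Away.map_mk, Away.map_mk, awayMap_mk]
  simp only [Away.val_mk, map_mul, map_pow]
  rfl

theorem piece_restrict (t : Idx 𝒜) {e : ℕ} {g : A} (hg : g ∈ 𝒜 e) {x : A} (hx : x = t.f * g)
    {d' : ℕ} (hd' : 0 < d') (hx' : x ∈ 𝒜 d') :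
    Spec.map (CommRingCat.ofHom (awayMap ℬ (φ.2 hg) (show φ x = φ t.f * φ g by rw [hx, map_mul])))
      ≫ piece φ t = piece φ ⟨d', x, hd', hx'⟩ := by
  unfold piece
  rw [← Spec.map_comp_assoc, ← CommRingCat.ofHom_comp, ← ring_identity φ t.hf hg hx,
    CommRingCat.ofHom_comp, Spec.map_comp_assoc, Proj.SpecMap_awayMap_awayι]
  rfl

set_option backward.isDefEq.respectTransparency false in
theorem piece_compat (t s : Idx 𝒜) :
    pullback.fst (PCone.chart φ t.hf t.hd) (PCone.chart φ s.hf s.hd) ≫ piece φ t =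
      pullback.snd (PCone.chart φ t.hf t.hd) (PCone.chart φ s.hf s.hd) ≫ piece φ s := by
  refine hom_ext_of_local _ _ fun x => ?_
  set k := pullback.fst (PCone.chart φ t.hf t.hd) (PCone.chart φ s.hf s.hd) ≫
    PCone.chart φ t.hf t.hd ≫ (PCone.dom φ).ι with hk
  have hk' : k = pullback.snd (PCone.chart φ t.hf t.hd) (PCone.chart φ s.hf s.hd) ≫
      PCone.chart φ s.hf s.hd ≫ (PCone.dom φ).ι := by
    rw [hk, ← Category.assoc, pullback.condition, Category.assoc]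
  have hmem : t.f * s.f ∈ 𝒜 (t.d + s.d) := SetLike.mul_mem_graded t.hf s.hf
  have hpos : 0 < t.d + s.d := Nat.add_pos_left t.hd _
  have e1 : φ (t.f * s.f) = φ t.f * φ s.f := map_mul φ _ _
  have e2 : φ (t.f * s.f) = φ s.f * φ t.f := by rw [map_mul, mul_comm]
  have hcond : Spec.map (CommRingCat.ofHom (awayMap ℬ (φ.2 s.hf) e1)) ≫ PCone.chart φ t.hf t.hd =
      Spec.map (CommRingCat.ofHom (awayMap ℬ (φ.2 t.hf) e2)) ≫ PCone.chart φ s.hf s.hd := by
    rw [← cancel_mono (PCone.dom φ).ι, Category.assoc, Category.assoc, chart_ι, chart_ι,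
      Proj.SpecMap_awayMap_awayι, Proj.SpecMap_awayMap_awayι]
    rfl
  let j : Spec (CommRingCat.of (Away ℬ (φ (t.f * s.f)))) ⟶
      pullback (PCone.chart φ t.hf t.hd) (PCone.chart φ s.hf s.hd) :=
    pullback.lift _ _ hcond
  have hj1 : j ≫ pullback.fst _ _ = Spec.map (CommRingCat.ofHom (awayMap ℬ (φ.2 s.hf) e1)) :=
    pullback.lift_fst _ _ _
  have hj2 : j ≫ pullback.snd _ _ = Spec.map (CommRingCat.ofHom (awayMap ℬ (φ.2 t.hf) e2)) :=
    pullback.lift_snd _ _ _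
  have hjk : j ≫ k = Proj.awayι ℬ (φ (t.f * s.f)) (φ.2 hmem) hpos := by
    rw [hk, reassoc_of% hj1, chart_ι, Proj.SpecMap_awayMap_awayι]
  have hko : IsOpenImmersion k := by rw [hk]; infer_instance
  have hjo : IsOpenImmersion j := by
    have : IsOpenImmersion (j ≫ k) := by rw [hjk]; infer_instance
    exact IsOpenImmersion.of_comp j k
  refine ⟨_, j, hjo, ?_, ?_⟩
  · have h1 : k x ∈ Proj.basicOpen ℬ (φ t.f) := by
      rw [← Proj.opensRange_awayι ℬ (φ t.f) (φ.2 t.hf) t.hd]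
      refine ⟨(pullback.fst (PCone.chart φ t.hf t.hd) (PCone.chart φ s.hf s.hd)) x, ?_⟩
      rw [← chart_ι, hk]
      rfl
    have h2 : k x ∈ Proj.basicOpen ℬ (φ s.f) := by
      rw [← Proj.opensRange_awayι ℬ (φ s.f) (φ.2 s.hf) s.hd]
      refine ⟨(pullback.snd (PCone.chart φ t.hf t.hd) (PCone.chart φ s.hf s.hd)) x, ?_⟩
      rw [← chart_ι, hk']
      rfl
    have h3 : k x ∈ Proj.basicOpen ℬ (φ (t.f * s.f)) := by
      rw [e1, Proj.basicOpen_mul]
      exact ⟨h1, h2⟩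
    have hm' : φ (t.f * s.f) ∈ ℬ (t.d + s.d) := φ.2 hmem
    rw [← Proj.opensRange_awayι ℬ _ hm' hpos] at h3
    obtain ⟨y, hy⟩ := h3
    refine ⟨y, ?_⟩
    apply k.isOpenEmbedding.injective
    rw [← Scheme.Hom.comp_apply, hjk]
    exact hy
  · rw [reassoc_of% hj1, reassoc_of% hj2,
      piece_restrict φ t s.hf rfl hpos hmem,
      piece_restrict φ s t.hf (mul_comm _ _) hpos hmem]


variable (𝒜 ℬ) in
set_option backward.isDefEq.respectTransparency false in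
theorem main :
    ∃! p : (PCone.dom φ : Scheme.{u}) ⟶ Proj 𝒜,
      ∀ (d : ℕ) (f : A) (hd : 0 < d) (hf : f ∈ 𝒜 d),
        PCone.chart φ hf hd ≫ p =
          Spec.map (CommRingCat.ofHom (HomogeneousLocalization.Away.map φ f)) ≫ Proj.awayι 𝒜 f hf hd := by
  refine ⟨(cov φ).glueMorphisms (piece φ) (piece_compat φ), ?_, ?_⟩
  · intro d f hd hf
    exact (cov φ).ι_glueMorphisms (piece φ) (piece_compat φ) ⟨d, f, hd, hf⟩
  · intro p' hp'
    refine (cov φ).hom_ext _ _ fun (t : Idx 𝒜) => ?_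
    change PCone.chart φ t.hf t.hd ≫ p' = PCone.chart φ t.hf t.hd ≫ _
    rw [hp' t.d t.f t.hd t.hf]
    exact ((cov φ).ι_glueMorphisms (piece φ) (piece_compat φ) t).symm


/-- Let φ : S′ → S be a homomorphism of graded rings and G(φ) ⊆ Proj S the open union of the basic opens
D_+(φ(f′)) for f′ ∈ S′ homogeneous of positive degree. There is exactly one morphism p : G(φ) → Proj
S′ whose restriction to each chart Spec S_(φ(f′)) of G(φ) is Spec of the induced map S′_(f′) →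
S_(φ(f′)) followed by Spec S′_(f′) ≅ D_+(f′) ⊆ Proj S′. -/
theorem result {R A : Type u} [CommRing R] [CommRing A] [Algebra R A] (𝒜 : ℕ → Submodule R A) [GradedAlgebra 𝒜]
    {B : Type u} [CommRing B] [Algebra R B] (ℬ : ℕ → Submodule R B) [GradedAlgebra ℬ] (φ : 𝒜 →+*ᵍ ℬ) :
    ∃! p : (PCone.dom φ : Scheme.{u}) ⟶ Proj 𝒜,
      ∀ (d : ℕ) (f : A) (hd : 0 < d) (hf : f ∈ 𝒜 d),
        PCone.chart φ hf hd ≫ p =
          Spec.map (CommRingCat.ofHom (HomogeneousLocalization.Away.map φ f)) ≫ Proj.awayι 𝒜 f hf hd := by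
  exact main 𝒜 ℬ φ

end Groth.Agent.S3595
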