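import Groth.Statements.S3596
import Groth.Agent.S3595
import Groth.Agent.Lib.Helper28.ProjChart

set_option autoImplicit false
universe u
open CategoryTheory CategoryTheory.Limits AlgebraicGeometry
open EGA2

namespace Groth.Agent.S3596

open HomogeneousLocalization TopologicalSpace Opposite
open Groth.Agent.S3595 (Idx chart_ι cov)
open Groth.Agent.Lib.Helper28.ProjChart

variable {R A : Type u} [CommRing R] [CommRing A] [Algebra R A] {𝒜 : ℕ → Submodule R A}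
    [GradedAlgebra 𝒜]
    {B : Type u} [CommRing B] [Algebra R B] {ℬ : ℕ → Submodule R B} [GradedAlgebra ℬ]
    (φ : 𝒜 →+*ᵍ ℬ)

theorem exists_chart (x : (PCone.dom φ : Scheme.{u})) :
    ∃ t : Idx 𝒜, x ∈ Set.range (PCone.chart φ t.hf t.hd) := by
  obtain ⟨t, y, hy⟩ := (cov φ).exists_eq x
  exact ⟨t, y, hy⟩

theorem map_elem {e d : ℕ} {g f : A} (hg : g ∈ 𝒜 e) (hf : f ∈ 𝒜 d) :
    Away.map φ g (Away.isLocalizationElem hg hf) =
      Away.isLocalizationElem (𝒜 := ℬ) (f := φ g) (g := φ f) (φ.2 hg) (φ.2 hf) := by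
  unfold Away.isLocalizationElem
  rw [Away.map_mk]
  apply HomogeneousLocalization.val_injective
  simp only [Away.val_mk, map_pow]

variable (p : (PCone.dom φ : Scheme.{u}) ⟶ Proj 𝒜) (hp : ∀ (d : ℕ) (f : A) (hd : 0 < d) (hf : f ∈ 𝒜 d),
        PCone.chart φ hf hd ≫ p =
          Spec.map (CommRingCat.ofHom (HomogeneousLocalization.Away.map φ f)) ≫ Proj.awayι 𝒜 f hf hd)

include hp in
set_option backward.isDefEq.respectTransparency false in
theorem preimage_basicOpen {d : ℕ} {f : A} (hf : f ∈ 𝒜 d) :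
    p ⁻¹ᵁ Proj.basicOpen 𝒜 f = (PCone.dom φ).ι ⁻¹ᵁ Proj.basicOpen ℬ (φ f) := by
  ext x
  obtain ⟨t, y, rfl⟩ := exists_chart φ x
  have h1 : p (PCone.chart φ t.hf t.hd y) = Proj.awayι 𝒜 t.f t.hf t.hd
      (Spec.map (CommRingCat.ofHom (Away.map φ t.f)) y) := by
    rw [← Scheme.Hom.comp_apply, hp t.d t.f t.hd t.hf]
    rfl
  have h2 : (PCone.dom φ).ι (PCone.chart φ t.hf t.hd y) =
      Proj.awayι ℬ (φ t.f) (φ.2 t.hf) t.hd y := by
    rw [← Scheme.Hom.comp_apply, chart_ι]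
  change p (PCone.chart φ t.hf t.hd y) ∈ Proj.basicOpen 𝒜 f ↔
    (PCone.dom φ).ι (PCone.chart φ t.hf t.hd y) ∈ Proj.basicOpen ℬ (φ f)
  have hA := awayι_mem_basicOpen_iff 𝒜 t.hf hf t.hd
    (Spec.map (CommRingCat.ofHom (Away.map φ t.f)) y)
  have hB := awayι_mem_basicOpen_iff ℬ (g := φ t.f) (f := φ f) (φ.2 t.hf) (φ.2 hf) t.hd y
  rw [h1, h2]
  refine hA.trans (Iff.trans ?_ hB.symm)
  rw [← map_elem φ t.hf hf]
  rfl

theorem preimage_eq_opensRange {d : ℕ} {f : A} (hd : 0 < d) (hf : f ∈ 𝒜 d) :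
    (PCone.dom φ).ι ⁻¹ᵁ Proj.basicOpen ℬ (φ f) = (PCone.chart φ hf hd).opensRange := by
  ext x
  change (PCone.dom φ).ι x ∈ Proj.basicOpen ℬ (φ f) ↔ x ∈ Set.range (PCone.chart φ hf hd)
  rw [← Proj.opensRange_awayι ℬ (φ f) (φ.2 hf) hd]
  change (PCone.dom φ).ι x ∈ Set.range (Proj.awayι ℬ (φ f) (φ.2 hf) hd) ↔ _
  rw [← chart_ι φ hf hd]
  constructor
  · rintro ⟨y, hy⟩
    refine ⟨y, ?_⟩
    apply (PCone.dom φ).ι.isOpenEmbedding.injective
    rw [← Scheme.Hom.comp_apply]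
    exact hy
  · rintro ⟨y, rfl⟩
    exact ⟨y, rfl⟩

include hp in
set_option backward.isDefEq.respectTransparency false in
theorem isAffineHom : IsAffineHom p := by
  refine isAffineHom_of_forall_exists_isAffineOpen p fun x => ?_
  obtain ⟨s, y, hy⟩ := (Proj.affineOpenCover 𝒜).openCover.exists_eq x
  refine ⟨Proj.basicOpen 𝒜 s.2.1, ?_, Proj.isAffineOpen_basicOpen 𝒜 s.2.1 s.2.2 s.1.2, ?_⟩
  · rw [← Proj.opensRange_awayι 𝒜 s.2.1 s.2.2 s.1.2]
    exact ⟨y, hy⟩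
  · rw [preimage_basicOpen φ p hp s.2.2, preimage_eq_opensRange φ s.1.2 s.2.2]
    exact isAffineOpen_opensRange _


/-- For a homomorphism of graded rings φ : S' → S, the induced morphism p : G(φ) → Proj S'
(characterised on the charts as in the previous result) is affine. -/
theorem result {R A : Type u} [CommRing R] [CommRing A] [Algebra R A] (𝒜 : ℕ → Submodule R A) [GradedAlgebra 𝒜]
    {B : Type u} [CommRing B] [Algebra R B] (ℬ : ℕ → Submodule R B) [GradedAlgebra ℬ] (φ : 𝒜 →+*ᵍ ℬ)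
    (p : (PCone.dom φ : Scheme.{u}) ⟶ Proj 𝒜) (hp : ∀ (d : ℕ) (f : A) (hd : 0 < d) (hf : f ∈ 𝒜 d),
        PCone.chart φ hf hd ≫ p =
          Spec.map (CommRingCat.ofHom (HomogeneousLocalization.Away.map φ f)) ≫ Proj.awayι 𝒜 f hf hd) :
    IsAffineHom p := by
  exact isAffineHom φ p hp

end Groth.Agent.S3596
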