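import Groth.Statements.S3598
import Groth.Agent.S3596
import Groth.Agent.Lib.Helper28.ConeAlg
import Groth.Agent.Lib.Helper28.Fibre
import Groth.Agent.Lib.Helper28.Glue
import Groth.Agent.Lib.Helper28.ProjMapG

set_option autoImplicit false
universe u
open CategoryTheory CategoryTheory.Limits AlgebraicGeometry
open EGA2

namespace Groth.Agent.S3598

open HomogeneousLocalization TopologicalSpace Opposite Polynomial

/-- base change of a polynomial algebra, transported along an isomorphism -/
theorem isPushout_poly {C κ D : Type u} [CommRing C] [CommRing κ] [CommRing D] (γ : C →+* κ)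
    (ψ : C →+* D) (Θ : C[X] ≃+* D) (hΘ : ∀ c, Θ (Polynomial.C c) = ψ c) :
    IsPushout (CommRingCat.ofHom ψ) (CommRingCat.ofHom γ)
      (CommRingCat.ofHom ((Polynomial.mapRingHom γ).comp Θ.symm.toRingHom))
      (CommRingCat.ofHom (Polynomial.C : κ →+* κ[X])) := by
  let _ := γ.toAlgebra
  let _ : Algebra C[X] κ[X] := Polynomial.algebra C κ
  have base := CommRingCat.isPushout_of_isPushout C C[X] κ κ[X]
  refine base.of_iso (Iso.refl _) Θ.toCommRingCatIso (Iso.refl _) (Iso.refl _) ?_ ?_ ?_ ?_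
  · ext c
    simp [hΘ]
  · ext c
    simp
    rfl
  · ext c
    · simp [Polynomial.algebraMap_def]
      rfl
    · simp [Polynomial.algebraMap_def]
  · ext c
    simp

variable {R A : Type u} [CommRing R] [CommRing A] [Algebra R A] {𝒜 : ℕ → Submodule R A}
    [GradedAlgebra 𝒜]

theorem exists_deg_one (hgen : (HomogeneousIdeal.irrelevant 𝒜).toIdeal = Ideal.span (𝒜 1 : Set A))
    (x : Proj 𝒜) : ∃ f ∈ 𝒜 1, x ∈ Proj.basicOpen 𝒜 f := by
  by_contra hcon
  push Not at hcon
  apply x.not_irrelevant_le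
  change (HomogeneousIdeal.irrelevant 𝒜).toIdeal ≤ x.asHomogeneousIdeal.toIdeal
  rw [hgen, Ideal.span_le]
  intro f hf
  by_contra hfx
  exact hcon f hf hfx

variable {B : Type u} [CommRing B] [Algebra R B] {ℬ : ℕ → Submodule R B} [GradedAlgebra ℬ]
    (φ : 𝒜 →+*ᵍ ℬ)
    (p : (PCone.dom φ : Scheme.{u}) ⟶ Proj 𝒜) (hp : ∀ (d : ℕ) (f : A) (hd : 0 < d) (hf : f ∈ 𝒜 d),
        PCone.chart φ hf hd ≫ p =
          Spec.map (CommRingCat.ofHom (HomogeneousLocalization.Away.map φ f)) ≫ Proj.awayι 𝒜 f hf hd)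

include hp in
set_option backward.isDefEq.respectTransparency false in
theorem isPullback_chart {d : ℕ} (hd : 0 < d) {f : A} (hf : f ∈ 𝒜 d) :
    IsPullback (Spec.map (CommRingCat.ofHom (Away.map φ f))) (PCone.chart φ hf hd)
      (Proj.awayι 𝒜 f hf hd) p := by
  refine IsOpenImmersion.isPullback _ _ _ _ (hp d f hd hf) ?_
  rw [Proj.opensRange_awayι, Groth.Agent.S3596.preimage_basicOpen φ p hp hf,
    Groth.Agent.S3596.preimage_eq_opensRange φ hd hf]

theorem finiteType_C (S : Type u) [CommRing S] : (Polynomial.C : S →+* S[X]).FiniteType := by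
  have e : (Polynomial.C : S →+* S[X]) = algebraMap S S[X] :=
    RingHom.ext fun r => Polynomial.C_eq_algebraMap r
  rw [e, RingHom.finiteType_algebraMap]
  infer_instance

section
variable [Algebra A B] (hφ : ∀ a : A, φ a = algebraMap A B a)
    (z : B) (hhat : Function.Bijective (Polynomial.aeval (R := A) z))
    (hgen : (HomogeneousIdeal.irrelevant 𝒜).toIdeal = Ideal.span (𝒜 1 : Set A))

include hφ hhat in
theorem finiteType_awayMap {f : A} (hf : f ∈ 𝒜 1) : (Away.map φ f).FiniteType := by
  obtain ⟨Θ, hΘ⟩ := Groth.Agent.Lib.Helper28.ConeAlg.exists_poly 𝒜 ℬ φ hφ z hhat hf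
  have : Away.map φ f = Θ.toRingHom.comp Polynomial.C := RingHom.ext fun c => (hΘ c).symm
  rw [this]
  exact (RingHom.FiniteType.of_surjective _ Θ.surjective).comp (finiteType_C _)

include hp hφ hhat hgen in
set_option backward.isDefEq.respectTransparency false in
theorem locallyOfFiniteType : LocallyOfFiniteType p := by
  have hc : ∀ x : Proj 𝒜, ∃ t : {f : A // f ∈ 𝒜 1},
      x ∈ Set.range (Proj.awayι 𝒜 t.1 t.2 one_pos) := by
    intro x
    obtain ⟨f, hf, hxf⟩ := exists_deg_one hgen x
    refine ⟨⟨f, hf⟩, ?_⟩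
    rw [← Proj.opensRange_awayι 𝒜 f hf one_pos] at hxf
    exact hxf
  let 𝒰 := Groth.Agent.Lib.Helper28.Glue.cov
    (fun t : {f : A // f ∈ 𝒜 1} => Spec (CommRingCat.of (Away 𝒜 t.1)))
    (fun t => Proj.awayι 𝒜 t.1 t.2 one_pos) hc
  refine Groth.Agent.Lib.Helper28.ProjMapG.of_isPullback_openCover @LocallyOfFiniteType p 𝒰
    (fun t => Spec (CommRingCat.of (Away ℬ (φ t.1)))) (fun t => PCone.chart φ t.2 one_pos)
    (fun t => Spec.map (CommRingCat.ofHom (Away.map φ t.1)))
    (fun t => isPullback_chart φ p hp one_pos t.2) (fun t => ?_)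
  rw [HasRingHomProperty.Spec_iff (P := @LocallyOfFiniteType)]
  exact finiteType_awayMap φ hφ z hhat t.2

omit [Algebra A B] in
include hp in
theorem quasiCompact : QuasiCompact p := by
  have := Groth.Agent.S3596.isAffineHom φ p hp
  infer_instance

include hp hφ hhat hgen in
set_option backward.isDefEq.respectTransparency false in
theorem fibre (x : Proj 𝒜) :
      ∃ e : pullback p ((Proj 𝒜).fromSpecResidueField x) ≅
          Spec (CommRingCat.of (Polynomial ((Proj 𝒜).residueField x))),
        e.hom ≫ Spec.map (CommRingCat.ofHom (algebraMap ((Proj 𝒜).residueField x)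
          (Polynomial ((Proj 𝒜).residueField x)))) = pullback.snd p ((Proj 𝒜).fromSpecResidueField x) := by
  obtain ⟨f, hf, hxf⟩ := exists_deg_one hgen x
  obtain ⟨Θ, hΘ⟩ := Groth.Agent.Lib.Helper28.ConeAlg.exists_poly 𝒜 ℬ φ hφ z hhat hf
  have hx : x ∈ Set.range (Proj.awayι 𝒜 f hf one_pos) := by
    rw [← Proj.opensRange_awayι 𝒜 f hf one_pos] at hxf
    exact hxf
  obtain ⟨γ, -, hγ⟩ := Groth.Agent.Lib.Helper28.Fibre.exists_fibre_iso p x
    (Proj.awayι 𝒜 f hf one_pos) hx (CommRingCat.ofHom (Away.map φ f))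
    (PCone.chart φ hf one_pos) (isPullback_chart φ p hp one_pos hf).flip
  have hpo := isPushout_poly γ.hom (Away.map φ f) Θ hΘ
  obtain ⟨e, he⟩ := hγ _ _ _ hpo
  exact ⟨e, he⟩

end


/-- Let S be a graded algebra over a ring (an affine base) whose irrelevant ideal is generated by its
degree-one elements, and let Ŝ = S[z] be the graded S-algebra obtained by adjoining a variable z of
degree 1 (given as a graded S-algebra together with z of degree 1 such that S[T] → Ŝ, T ↦ z, is
bijective). Let Ê be the pointed projective cone, covered by the charts Spec Ŝ_(f) for f ∈ S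
homogeneous of positive degree, and p : Ê → X = Proj S the canonical retraction, i.e. the morphism
which on each chart Spec Ŝ_(f) is induced by S_(f) → Ŝ_(f). Then p is of finite type (locally of
finite type and quasi-compact) and its fibre at every point x of X is isomorphic over k(x) to the
affine line Spec k(x)[T]. -/
theorem result {R A : Type u} [CommRing R] [CommRing A] [Algebra R A] (𝒜 : ℕ → Submodule R A) [GradedAlgebra 𝒜]
    {B : Type u} [CommRing B] [Algebra R B] (ℬ : ℕ → Submodule R B) [GradedAlgebra ℬ]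
    [Algebra A B] [IsScalarTower R A B] (φ : 𝒜 →+*ᵍ ℬ) (hφ : ∀ a : A, φ a = algebraMap A B a)
    (z : B) (hz : z ∈ ℬ 1) (hhat : Function.Bijective (Polynomial.aeval (R := A) z))
    (hgen : (HomogeneousIdeal.irrelevant 𝒜).toIdeal = Ideal.span (𝒜 1 : Set A))
    (p : (PCone.dom φ : Scheme.{u}) ⟶ Proj 𝒜) (hp : ∀ (d : ℕ) (f : A) (hd : 0 < d) (hf : f ∈ 𝒜 d),
        PCone.chart φ hf hd ≫ p =
          Spec.map (CommRingCat.ofHom (HomogeneousLocalization.Away.map φ f)) ≫ Proj.awayι 𝒜 f hf hd) (x : Proj 𝒜) :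
    LocallyOfFiniteType p ∧ QuasiCompact p ∧
      ∃ e : pullback p ((Proj 𝒜).fromSpecResidueField x) ≅
          Spec (CommRingCat.of (Polynomial ((Proj 𝒜).residueField x))),
        e.hom ≫ Spec.map (CommRingCat.ofHom (algebraMap ((Proj 𝒜).residueField x)
          (Polynomial ((Proj 𝒜).residueField x)))) = pullback.snd p ((Proj 𝒜).fromSpecResidueField x) := by
  exact ⟨locallyOfFiniteType φ p hp hφ z hhat hgen, quasiCompact φ p hp,
    fibre φ p hp hφ z hhat hgen x⟩

end Groth.Agent.S3598
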