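import Groth.Statements.S3574
import Groth.Agent.Lib.Helper28.Glue

set_option autoImplicit false
universe u
open CategoryTheory CategoryTheory.Limits AlgebraicGeometry
open EGA2

namespace Groth.Agent.S3574

open HomogeneousLocalization TopologicalSpace Opposite

variable {R A : Type u} [CommRing R] [CommRing A] [Algebra R A] (𝒜 : ℕ → Submodule R A)
    [GradedAlgebra 𝒜]

/-- index of the charts -/
structure Idx where
  d : ℕ
  f : A
  hd : 0 < d
  hf : f ∈ 𝒜 d

variable {𝒜}

theorem chart_ι {d : ℕ} {f : A} (hf : f ∈ 𝒜 d) (hd : 0 < d) :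
    Cone.chart hf hd ≫ (Cone.pointed 𝒜).ι =
      Spec.map (CommRingCat.ofHom (algebraMap A (Localization.Away f))) :=
  IsOpenImmersion.lift_fac _ _ _

instance specMap_isOpenImmersion (f : A) :
    IsOpenImmersion (Spec.map (CommRingCat.ofHom (algebraMap A (Localization.Away f)))) :=
  IsOpenImmersion.of_isLocalization f

instance chart_isOpenImmersion {d : ℕ} {f : A} (hf : f ∈ 𝒜 d) (hd : 0 < d) :
    IsOpenImmersion (Cone.chart hf hd) := by
  have : IsOpenImmersion (Cone.chart hf hd ≫ (Cone.pointed 𝒜).ι) := by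
    rw [chart_ι]; infer_instance
  exact IsOpenImmersion.of_comp _ (Cone.pointed 𝒜).ι

theorem range_specMap (f : A) :
    Set.range (Spec.map (CommRingCat.ofHom (algebraMap A (Localization.Away f)))) =
      (PrimeSpectrum.basicOpen f : Set (PrimeSpectrum A)) :=
  PrimeSpectrum.localization_away_comap_range (Localization.Away f) f

/-- every point of the pointed cone lies in a chart -/
theorem exists_chart (x : (Cone.pointed 𝒜 : Scheme.{u})) :
    ∃ t : Idx 𝒜, x ∈ Set.range (Cone.chart t.hf t.hd) := by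
  classical
  have hx : ¬ ((HomogeneousIdeal.irrelevant 𝒜).toIdeal : Set A) ⊆
      ((x.1 : PrimeSpectrum A).asIdeal : Set A) := x.2
  rw [Set.not_subset] at hx
  obtain ⟨a, ha, hax⟩ := hx
  have ha0 : GradedRing.proj 𝒜 0 a = 0 := by
    rwa [SetLike.mem_coe, HomogeneousIdeal.mem_iff, HomogeneousIdeal.mem_irrelevant_iff] at ha
  have : ∃ i, (DirectSum.decompose 𝒜 a i : A) ∉ x.1.asIdeal := by
    by_contra hcon
    push Not at hcon
    apply hax
    rw [← DirectSum.sum_support_decompose 𝒜 a]
    exact Ideal.sum_mem _ fun i _ => hcon i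
  obtain ⟨i, hi⟩ := this
  have hi0 : 0 < i := by
    rcases Nat.eq_zero_or_pos i with rfl | h
    · exfalso
      apply hi
      rw [GradedRing.proj_apply] at ha0
      rw [ha0]
      exact zero_mem _
    · exact h
  refine ⟨⟨i, DirectSum.decompose 𝒜 a i, hi0, SetLike.coe_mem _⟩, ?_⟩
  have : x.1 ∈ Set.range (Spec.map (CommRingCat.ofHom (algebraMap A
      (Localization.Away (DirectSum.decompose 𝒜 a i : A))))) := by
    rw [range_specMap]
    exact hi
  obtain ⟨y, hy⟩ := this
  refine ⟨y, ?_⟩
  apply (Cone.pointed 𝒜).ι.isOpenEmbedding.injective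
  rw [← Scheme.Hom.comp_apply, chart_ι]
  exact hy

/-- the pieces -/
noncomputable def piece (t : Idx 𝒜) : Spec (CommRingCat.of (Localization.Away t.f)) ⟶ Proj 𝒜 :=
  Spec.map (CommRingCat.ofHom (algebraMap (Away 𝒜 t.f) (Localization.Away t.f))) ≫
    Proj.awayι 𝒜 t.f t.hf t.hd

/-- the transition map `A_f → A_x`, `x = f * g` -/
noncomputable def trans {f g x : A} (hx : x = f * g) : Localization.Away f →+* Localization.Away x :=
  Localization.awayLift (algebraMap A (Localization.Away x)) f
    (isUnit_of_dvd_unit (map_dvd _ ⟨_, hx⟩) (IsLocalization.Away.algebraMap_isUnit x))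

theorem trans_comp {f g x : A} (hx : x = f * g) :
    (trans hx).comp (algebraMap A (Localization.Away f)) = algebraMap A (Localization.Away x) :=
  IsLocalization.Away.lift_comp f
    (isUnit_of_dvd_unit (map_dvd _ ⟨_, hx⟩) (IsLocalization.Away.algebraMap_isUnit x))

theorem trans_comp_val {e : ℕ} {f g x : A} (hg : g ∈ 𝒜 e) (hx : x = f * g) :
    (trans hx).comp (algebraMap (Away 𝒜 f) (Localization.Away f)) =
      (algebraMap (Away 𝒜 x) (Localization.Away x)).comp (awayMap 𝒜 hg hx) := by
  ext a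
  exact (val_awayMap 𝒜 hg hx a).symm

set_option backward.isDefEq.respectTransparency false in
theorem piece_restrict (t : Idx 𝒜) {e : ℕ} {g : A} (hg : g ∈ 𝒜 e) {x : A} (hx : x = t.f * g)
    {d' : ℕ} (hd' : 0 < d') (hx' : x ∈ 𝒜 d') :
    Spec.map (CommRingCat.ofHom (trans hx)) ≫ piece t = piece ⟨d', x, hd', hx'⟩ := by
  unfold piece
  rw [← Spec.map_comp_assoc, ← CommRingCat.ofHom_comp, trans_comp_val hg hx,
    CommRingCat.ofHom_comp, Spec.map_comp_assoc, Proj.SpecMap_awayMap_awayι]
  rfl

set_option backward.isDefEq.respectTransparency false in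
theorem main :
    ∃! π : (Cone.pointed 𝒜 : Scheme.{u}) ⟶ Proj 𝒜,
      ∀ (d : ℕ) (f : A) (hd : 0 < d) (hf : f ∈ 𝒜 d),
        Cone.chart hf hd ≫ π =
          Spec.map (CommRingCat.ofHom (algebraMap (HomogeneousLocalization.Away 𝒜 f) (Localization.Away f))) ≫
            Proj.awayι 𝒜 f hf hd := by
  have key := Groth.Agent.Lib.Helper28.Glue.existsUnique_glue
    (fun t : Idx 𝒜 => Spec (CommRingCat.of (Localization.Away t.f)))
    (fun t => Cone.chart t.hf t.hd) exists_chart piece ?_
  · obtain ⟨π, hπ, huniq⟩ := key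
    refine ⟨π, fun d f hd hf => hπ ⟨d, f, hd, hf⟩, fun π' hπ' => huniq π' fun t => ?_⟩
    exact hπ' t.d t.f t.hd t.hf
  · intro t s
    have hmem : t.f * s.f ∈ 𝒜 (t.d + s.d) := SetLike.mul_mem_graded t.hf s.hf
    have hpos : 0 < t.d + s.d := Nat.add_pos_left t.hd _
    have e1 : t.f * s.f = t.f * s.f := rfl
    have e2 : t.f * s.f = s.f * t.f := mul_comm _ _
    have h1 : Spec.map (CommRingCat.ofHom (trans e1)) ≫ Cone.chart t.hf t.hd ≫ (Cone.pointed 𝒜).ι =
        Spec.map (CommRingCat.ofHom (algebraMap A (Localization.Away (t.f * s.f)))) := by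
      rw [chart_ι, ← Spec.map_comp, ← CommRingCat.ofHom_comp, trans_comp]
    have h2 : Spec.map (CommRingCat.ofHom (trans e2)) ≫ Cone.chart s.hf s.hd ≫ (Cone.pointed 𝒜).ι =
        Spec.map (CommRingCat.ofHom (algebraMap A (Localization.Away (t.f * s.f)))) := by
      rw [chart_ι, ← Spec.map_comp, ← CommRingCat.ofHom_comp, trans_comp]
    refine ⟨Spec (CommRingCat.of (Localization.Away (t.f * s.f))),
      Spec.map (CommRingCat.ofHom (trans e1)), Spec.map (CommRingCat.ofHom (trans e2)), ?_, ?_, ?_, ?_⟩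
    · rw [← cancel_mono (Cone.pointed 𝒜).ι, Category.assoc, Category.assoc, h1, h2]
    · have : IsOpenImmersion ((Spec.map (CommRingCat.ofHom (trans e1)) ≫ Cone.chart t.hf t.hd) ≫
          (Cone.pointed 𝒜).ι) := by
        rw [Category.assoc, h1]; infer_instance
      exact IsOpenImmersion.of_comp _ (Cone.pointed 𝒜).ι
    · rintro x ⟨⟨y₁, hy₁⟩, ⟨y₂, hy₂⟩⟩
      have hx1 : x.1 ∈ (PrimeSpectrum.basicOpen t.f : Set (PrimeSpectrum A)) := by
        rw [← range_specMap, ← chart_ι t.hf t.hd, ← hy₁]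
        exact ⟨y₁, rfl⟩
      have hx2 : x.1 ∈ (PrimeSpectrum.basicOpen s.f : Set (PrimeSpectrum A)) := by
        rw [← range_specMap, ← chart_ι s.hf s.hd, ← hy₂]
        exact ⟨y₂, rfl⟩
      have hx3 : x.1 ∈ (PrimeSpectrum.basicOpen (t.f * s.f) : Set (PrimeSpectrum A)) := by
        rw [PrimeSpectrum.basicOpen_mul]
        exact ⟨hx1, hx2⟩
      rw [← range_specMap, ← h1] at hx3
      obtain ⟨y, hy⟩ := hx3
      refine ⟨y, ?_⟩
      apply (Cone.pointed 𝒜).ι.isOpenEmbedding.injective
      rw [← Scheme.Hom.comp_apply, Category.assoc]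
      exact hy
    · rw [piece_restrict t s.hf e1 hpos hmem, piece_restrict s t.hf e2 hpos hmem]


/-- Let S be an ℕ-graded algebra over a ring, C = Spec S its affine cone, E = C − V(S_+) the pointed
affine cone and X = Proj S. Then there is exactly one morphism π : E → X (the canonical retraction)
whose restriction to each chart Spec S_f of E, for f homogeneous of positive degree, is the
composite Spec S_f → Spec S_(f) ≅ D_+(f) ⊆ X induced by the inclusion S_(f) → S_f. The published
statement is not limited to an affine base. -/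
theorem result {R A : Type u} [CommRing R] [CommRing A] [Algebra R A] (𝒜 : ℕ → Submodule R A) [GradedAlgebra 𝒜] :
    ∃! π : (Cone.pointed 𝒜 : Scheme.{u}) ⟶ Proj 𝒜,
      ∀ (d : ℕ) (f : A) (hd : 0 < d) (hf : f ∈ 𝒜 d),
        Cone.chart hf hd ≫ π =
          Spec.map (CommRingCat.ofHom (algebraMap (HomogeneousLocalization.Away 𝒜 f) (Localization.Away f))) ≫
            Proj.awayι 𝒜 f hf hd := by
  exact main

end Groth.Agent.S3574
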