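import Groth.Statements.S3575
import Groth.Agent.S3574
import Groth.Agent.Lib.Helper28.ProjChart

set_option autoImplicit false
universe u
open CategoryTheory CategoryTheory.Limits AlgebraicGeometry
open EGA2

namespace Groth.Agent.S3575

open HomogeneousLocalization TopologicalSpace Opposite
open Groth.Agent.S3574 (Idx chart_ι exists_chart range_specMap)
open Groth.Agent.Lib.Helper28.ProjChart

variable {R A : Type u} [CommRing R] [CommRing A] [Algebra R A] {𝒜 : ℕ → Submodule R A}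
    [GradedAlgebra 𝒜]

/-- `f^e/g^d ∈ y ↔ f/1 ∈ y` in `A_g` -/
theorem mk_mem_iff {g f : A} (e d : ℕ) (he : 0 < e) (y : Ideal (Localization.Away g))
    [y.IsPrime] (hm : g ^ d ∈ Submonoid.powers g) :
    Localization.mk (f ^ e) ⟨g ^ d, hm⟩ ∈ y ↔ algebraMap A (Localization.Away g) f ∈ y := by
  have h1 : Localization.mk (f ^ e) ⟨g ^ d, hm⟩ * algebraMap A (Localization.Away g) (g ^ d) =
      algebraMap A (Localization.Away g) f ^ e := by
    rw [← map_pow, ← Localization.mk_one_eq_algebraMap, ← Localization.mk_one_eq_algebraMap,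
      Localization.mk_mul, Localization.mk_eq_mk_iff, Localization.r_iff_exists]
    exact ⟨1, by simp; ring⟩
  have hu : IsUnit (algebraMap A (Localization.Away g) (g ^ d)) := by
    rw [map_pow]
    exact (IsLocalization.Away.algebraMap_isUnit g).pow d
  rw [← Ideal.IsPrime.pow_mem_iff_mem (I := y) inferInstance (r := algebraMap A _ f) e he, ← h1]
  constructor
  · intro h
    exact Ideal.mul_mem_right _ _ h
  · intro h
    obtain ⟨v, hv⟩ := hu.exists_right_inv
    have := Ideal.mul_mem_right v _ h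
    rwa [mul_assoc, hv, mul_one] at this

section
variable (π : (Cone.pointed 𝒜 : Scheme.{u}) ⟶ Proj 𝒜)
    (hπ : ∀ (d : ℕ) (f : A) (hd : 0 < d) (hf : f ∈ 𝒜 d),
        Cone.chart hf hd ≫ π =
          Spec.map (CommRingCat.ofHom (algebraMap (HomogeneousLocalization.Away 𝒜 f) (Localization.Away f))) ≫
            Proj.awayι 𝒜 f hf hd)

include hπ in
set_option backward.isDefEq.respectTransparency false in
theorem preimage_basicOpen {d : ℕ} {f : A} (hd : 0 < d) (hf : f ∈ 𝒜 d) :
    π ⁻¹ᵁ Proj.basicOpen 𝒜 f = (Cone.pointed 𝒜).ι ⁻¹ᵁ Cone.coneOpen f := by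
  ext x
  obtain ⟨t, y, rfl⟩ := exists_chart x
  have h1 : π (Cone.chart t.hf t.hd y) = Proj.awayι 𝒜 t.f t.hf t.hd
      (Spec.map (CommRingCat.ofHom (algebraMap (Away 𝒜 t.f) (Localization.Away t.f))) y) := by
    rw [← Scheme.Hom.comp_apply, hπ t.d t.f t.hd t.hf]
    rfl
  have h2 : (Cone.pointed 𝒜).ι (Cone.chart t.hf t.hd y) =
      Spec.map (CommRingCat.ofHom (algebraMap A (Localization.Away t.f))) y := by
    rw [← Scheme.Hom.comp_apply, chart_ι]
  change π (Cone.chart t.hf t.hd y) ∈ Proj.basicOpen 𝒜 f ↔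
    (Cone.pointed 𝒜).ι (Cone.chart t.hf t.hd y) ∈ Cone.coneOpen f
  rw [h1, h2, awayι_mem_basicOpen_iff 𝒜 t.hf hf t.hd]
  change ¬ (algebraMap (Away 𝒜 t.f) (Localization.Away t.f) (Away.isLocalizationElem t.hf hf) ∈
      (y : PrimeSpectrum (Localization.Away t.f)).asIdeal) ↔
    ¬ (algebraMap A (Localization.Away t.f) f ∈ (y : PrimeSpectrum (Localization.Away t.f)).asIdeal)
  rw [not_iff_not]
  have : algebraMap (Away 𝒜 t.f) (Localization.Away t.f) (Away.isLocalizationElem t.hf hf) =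
      Localization.mk (f ^ t.d) (⟨t.f ^ d, d, rfl⟩ : Submonoid.powers t.f) :=
    Away.val_mk 𝒜 d t.hf _ _
  rw [this]
  exact mk_mem_iff t.d d t.hd _ _

include hπ in
/-- homogeneous elements of positive degree: `g ∈ π p ↔ g ∈ p` -/
theorem mem_iff_pos (p : (Cone.pointed 𝒜 : Scheme.{u})) {d : ℕ} {g : A} (hd : 0 < d) (hg : g ∈ 𝒜 d) :
    g ∈ (π p).asHomogeneousIdeal ↔
      g ∈ (((Cone.pointed 𝒜).ι p : PrimeSpectrum A).asIdeal) := by
  have h := preimage_basicOpen π hπ hd hg
  have h' : p ∈ π ⁻¹ᵁ Proj.basicOpen 𝒜 g ↔ p ∈ (Cone.pointed 𝒜).ι ⁻¹ᵁ Cone.coneOpen g := by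
    rw [h]
  rw [← not_iff_not]
  exact h'

include hπ in
/-- homogeneous elements: `g ∈ π p ↔ g ∈ p` -/
theorem mem_iff_homog (p : (Cone.pointed 𝒜 : Scheme.{u})) {d : ℕ} {g : A} (hg : g ∈ 𝒜 d) :
    g ∈ (π p).asHomogeneousIdeal ↔
      g ∈ (((Cone.pointed 𝒜).ι p : PrimeSpectrum A).asIdeal) := by
  rcases Nat.eq_zero_or_pos d with rfl | hd
  · -- choose `h` homogeneous of positive degree outside `π p`
    obtain ⟨s, y, hy⟩ := (Proj.affineOpenCover 𝒜).openCover.exists_eq (π p)
    have hh : π p ∈ Proj.basicOpen 𝒜 s.2.1 := by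
      rw [← Proj.opensRange_awayι 𝒜 s.2.1 s.2.2 s.1.2]
      exact ⟨y, hy⟩
    have hh1 : s.2.1 ∉ (π p).asHomogeneousIdeal := hh
    have hh2 : s.2.1 ∉ (((Cone.pointed 𝒜).ι p : PrimeSpectrum A).asIdeal) := by
      rw [← mem_iff_pos π hπ p s.1.2 s.2.2]; exact hh1
    have hgh : g * s.2.1 ∈ 𝒜 (0 + s.1.1) := SetLike.mul_mem_graded hg s.2.2
    have hpos : 0 < 0 + s.1.1 := by have := s.1.2; omega
    have key := mem_iff_pos π hπ p hpos hgh
    have hP1 : ((π p).asHomogeneousIdeal.toIdeal).IsPrime := (π p).isPrime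
    have hP2 : (((Cone.pointed 𝒜).ι p : PrimeSpectrum A).asIdeal).IsPrime :=
      ((Cone.pointed 𝒜).ι p : PrimeSpectrum A).isPrime
    constructor
    · intro h
      have : g * s.2.1 ∈ (π p).asHomogeneousIdeal := Ideal.mul_mem_right _ _ h
      exact (hP2.mem_or_mem (key.1 this)).resolve_right hh2
    · intro h
      have : g * s.2.1 ∈ (((Cone.pointed 𝒜).ι p : PrimeSpectrum A).asIdeal) :=
        Ideal.mul_mem_right _ _ h
      exact (hP1.mem_or_mem (key.2 this)).resolve_right hh1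
  · exact mem_iff_pos π hπ p hd hg

include hπ in
theorem pointwise (p : (Cone.pointed 𝒜 : Scheme.{u})) :
    (π p).asHomogeneousIdeal =
      (((Cone.pointed 𝒜).ι p : PrimeSpectrum A).asIdeal).homogeneousCore 𝒜 := by
  refine HomogeneousIdeal.ext' fun i x hx => ?_
  rw [mem_iff_homog π hπ p hx]
  constructor
  · intro h
    exact Ideal.mem_homogeneousCore_of_homogeneous_of_mem ⟨i, hx⟩ h
  · intro h
    exact Ideal.toIdeal_homogeneousCore_le 𝒜 _ h

include hπ in
theorem surjective : Function.Surjective π := by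
  intro q
  let p₀ : PrimeSpectrum A := ⟨q.asHomogeneousIdeal.toIdeal, q.isPrime⟩
  have hp₀ : (p₀ : Spec (CommRingCat.of A)) ∈ Cone.pointed 𝒜 := by
    intro hmem
    exact q.not_irrelevant_le hmem
  let p : (Cone.pointed 𝒜 : Scheme.{u}) := ⟨p₀, hp₀⟩
  refine ⟨p, ?_⟩
  apply ProjectiveSpectrum.ext
  rw [pointwise π hπ p]
  exact HomogeneousIdeal.toIdeal_homogeneousCore_eq_self q.asHomogeneousIdeal

theorem preimage_coneOpen_eq {d : ℕ} {f : A} (hd : 0 < d) (hf : f ∈ 𝒜 d) :
    (Cone.pointed 𝒜).ι ⁻¹ᵁ Cone.coneOpen f = (Cone.chart hf hd).opensRange := by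
  ext x
  change (Cone.pointed 𝒜).ι x ∈ (PrimeSpectrum.basicOpen f : Set (PrimeSpectrum A)) ↔
    x ∈ Set.range (Cone.chart hf hd)
  rw [← range_specMap, ← chart_ι hf hd]
  constructor
  · rintro ⟨y, hy⟩
    refine ⟨y, ?_⟩
    apply (Cone.pointed 𝒜).ι.isOpenEmbedding.injective
    rw [← Scheme.Hom.comp_apply]
    exact hy
  · rintro ⟨y, rfl⟩
    exact ⟨y, rfl⟩

include hπ in
set_option backward.isDefEq.respectTransparency false in
theorem isAffineHom : IsAffineHom π := by
  refine isAffineHom_of_forall_exists_isAffineOpen π fun x => ?_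
  obtain ⟨s, y, hy⟩ := (Proj.affineOpenCover 𝒜).openCover.exists_eq x
  refine ⟨Proj.basicOpen 𝒜 s.2.1, ?_, Proj.isAffineOpen_basicOpen 𝒜 s.2.1 s.2.2 s.1.2, ?_⟩
  · rw [← Proj.opensRange_awayι 𝒜 s.2.1 s.2.2 s.1.2]
    exact ⟨y, hy⟩
  · rw [preimage_basicOpen π hπ s.1.2 s.2.2, preimage_coneOpen_eq s.1.2 s.2.2]
    exact isAffineOpen_opensRange _

end


/-- Let S be a commutative ℕ-graded R-algebra, E the pointed affine cone (the open complement of the
vertex V(S_+) in Spec S) and X = Proj S, and let π : E → X be the canonical retraction,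
characterised (hypothesis hπ) by its agreement on each chart Spec S_f → E, f homogeneous of positive
degree, with Spec of S_(f) → S_f followed by the standard open immersion Spec S_(f) → X. Then π is
an affine and surjective morphism; the inverse image under π of D_+(f) is the open D(f) ∩ E = D(f)
of E for every homogeneous f of positive degree; and π sends a point of E, a prime p of S not
containing S_+, to the homogeneous prime whose homogeneous elements are those of p. -/
theorem result {R A : Type u} [CommRing R] [CommRing A] [Algebra R A] (𝒜 : ℕ → Submodule R A) [GradedAlgebra 𝒜]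
    (π : (Cone.pointed 𝒜 : Scheme.{u}) ⟶ Proj 𝒜)
    (hπ : ∀ (d : ℕ) (f : A) (hd : 0 < d) (hf : f ∈ 𝒜 d),
        Cone.chart hf hd ≫ π =
          Spec.map (CommRingCat.ofHom (algebraMap (HomogeneousLocalization.Away 𝒜 f) (Localization.Away f))) ≫
            Proj.awayι 𝒜 f hf hd) :
    IsAffineHom π ∧ Surjective π ∧
      (∀ (d : ℕ) (f : A), 0 < d → f ∈ 𝒜 d →
        π ⁻¹ᵁ Proj.basicOpen 𝒜 f = (Cone.pointed 𝒜).ι ⁻¹ᵁ Cone.coneOpen f) ∧
      ∀ p : (Cone.pointed 𝒜 : Scheme.{u}),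
        (π.base p).asHomogeneousIdeal = (((Cone.pointed 𝒜).ι.base p).asIdeal).homogeneousCore 𝒜 := by
  exact ⟨isAffineHom π hπ, ⟨surjective π hπ⟩,
    fun d f hd hf => preimage_basicOpen π hπ hd hf, fun p => pointwise π hπ p⟩

end Groth.Agent.S3575
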