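import Groth.Statements.S3576
import Groth.Agent.S3575
import Groth.Agent.S3598
import Groth.Agent.Lib.Helper28.ConeAlgL
import Groth.Agent.Lib.Helper28.Fibre
import Groth.Agent.Lib.Helper28.Glue
import Groth.Agent.Lib.Helper28.ProjMapG

set_option autoImplicit false
universe u
open CategoryTheory CategoryTheory.Limits AlgebraicGeometry
open EGA2

namespace Groth.Agent.S3576

open HomogeneousLocalization TopologicalSpace Opposite LaurentPolynomial

open scoped AlgebraMonoidAlgebra in
/-- base change of a Laurent polynomial algebra, transported along an isomorphism -/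
theorem isPushout_laurent {C₀ κ D : Type u} [CommRing C₀] [CommRing κ] [CommRing D] (γ : C₀ →+* κ)
    (ψ : C₀ →+* D) (Λ : C₀[T;T⁻¹] ≃+* D) (hΛ : ∀ c, Λ (LaurentPolynomial.C c) = ψ c) :
    ∃ δ : D →+* κ[T;T⁻¹], IsPushout (CommRingCat.ofHom ψ) (CommRingCat.ofHom γ)
      (CommRingCat.ofHom δ) (CommRingCat.ofHom (algebraMap κ κ[T;T⁻¹])) := by
  let _ := γ.toAlgebra
  have base := CommRingCat.isPushout_of_isPushout C₀ C₀[T;T⁻¹] κ κ[T;T⁻¹]
  refine ⟨(algebraMap C₀[T;T⁻¹] κ[T;T⁻¹]).comp Λ.symm.toRingHom, ?_⟩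
  refine base.of_iso (Iso.refl _) Λ.toCommRingCatIso (Iso.refl _) (Iso.refl _) ?_ ?_ ?_ ?_
  · refine CommRingCat.hom_ext (RingHom.ext fun c => ?_)
    change Λ (algebraMap C₀ C₀[T;T⁻¹] c) = ψ c
    rw [← LaurentPolynomial.C_eq_algebraMap, hΛ]
  · rfl
  · refine CommRingCat.hom_ext (RingHom.ext fun x => ?_)
    change algebraMap C₀[T;T⁻¹] κ[T;T⁻¹] x = algebraMap C₀[T;T⁻¹] κ[T;T⁻¹] (Λ.symm (Λ x))
    rw [Λ.symm_apply_apply]
  · rfl

theorem finiteType_C (S : Type u) [CommRing S] :
    (LaurentPolynomial.C : S →+* S[T;T⁻¹]).FiniteType := by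
  have e : (LaurentPolynomial.C : S →+* S[T;T⁻¹]) = algebraMap S S[T;T⁻¹] :=
    RingHom.ext fun r => LaurentPolynomial.C_eq_algebraMap r
  rw [e, RingHom.finiteType_algebraMap]
  infer_instance

variable {R A : Type u} [CommRing R] [CommRing A] [Algebra R A] {𝒜 : ℕ → Submodule R A}
    [GradedAlgebra 𝒜]

theorem finiteType_val {f : A} (hf : f ∈ 𝒜 1) :
    (algebraMap (Away 𝒜 f) (Localization.Away f)).FiniteType := by
  obtain ⟨Λ, hΛ⟩ := Groth.Agent.Lib.Helper28.ConeAlgL.exists_laurent 𝒜 hf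
  have : algebraMap (Away 𝒜 f) (Localization.Away f) = Λ.toRingHom.comp LaurentPolynomial.C :=
    RingHom.ext fun c => (hΛ c).symm
  rw [this]
  exact (RingHom.FiniteType.of_surjective _ Λ.surjective).comp (finiteType_C _)

variable (π : (Cone.pointed 𝒜 : Scheme.{u}) ⟶ Proj 𝒜)
    (hπ : ∀ (d : ℕ) (f : A) (hd : 0 < d) (hf : f ∈ 𝒜 d),
        Cone.chart hf hd ≫ π =
          Spec.map (CommRingCat.ofHom (algebraMap (HomogeneousLocalization.Away 𝒜 f) (Localization.Away f))) ≫
            Proj.awayι 𝒜 f hf hd)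

include hπ in
set_option backward.isDefEq.respectTransparency false in
theorem isPullback_chart {d : ℕ} (hd : 0 < d) {f : A} (hf : f ∈ 𝒜 d) :
    IsPullback (Spec.map (CommRingCat.ofHom (algebraMap (Away 𝒜 f) (Localization.Away f))))
      (Cone.chart hf hd) (Proj.awayι 𝒜 f hf hd) π := by
  refine IsOpenImmersion.isPullback _ _ _ _ (hπ d f hd hf) ?_
  rw [Proj.opensRange_awayι, Groth.Agent.S3575.preimage_basicOpen π hπ hd hf,
    Groth.Agent.S3575.preimage_coneOpen_eq hd hf]

include hπ in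
set_option backward.isDefEq.respectTransparency false in
theorem locallyOfFiniteType
    (hgen : (HomogeneousIdeal.irrelevant 𝒜).toIdeal = Ideal.span (𝒜 1 : Set A)) :
    LocallyOfFiniteType π := by
  have hc : ∀ x : Proj 𝒜, ∃ t : {f : A // f ∈ 𝒜 1},
      x ∈ Set.range (Proj.awayι 𝒜 t.1 t.2 one_pos) := by
    intro x
    obtain ⟨f, hf, hxf⟩ := Groth.Agent.S3598.exists_deg_one hgen x
    refine ⟨⟨f, hf⟩, ?_⟩
    rw [← Proj.opensRange_awayι 𝒜 f hf one_pos] at hxf
    exact hxf
  let 𝒰 := Groth.Agent.Lib.Helper28.Glue.cov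
    (fun t : {f : A // f ∈ 𝒜 1} => Spec (CommRingCat.of (Away 𝒜 t.1)))
    (fun t => Proj.awayι 𝒜 t.1 t.2 one_pos) hc
  refine Groth.Agent.Lib.Helper28.ProjMapG.of_isPullback_openCover @LocallyOfFiniteType π 𝒰
    (fun t => Spec (CommRingCat.of (Localization.Away t.1))) (fun t => Cone.chart t.2 one_pos)
    (fun t => Spec.map (CommRingCat.ofHom (algebraMap (Away 𝒜 t.1) (Localization.Away t.1))))
    (fun t => isPullback_chart π hπ one_pos t.2) (fun t => ?_)
  rw [HasRingHomProperty.Spec_iff (P := @LocallyOfFiniteType)]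
  exact finiteType_val t.2

include hπ in
theorem quasiCompact : QuasiCompact π := by
  have := Groth.Agent.S3575.isAffineHom π hπ
  infer_instance

include hπ in
set_option backward.isDefEq.respectTransparency false in
theorem fibre (hgen : (HomogeneousIdeal.irrelevant 𝒜).toIdeal = Ideal.span (𝒜 1 : Set A))
    (x : Proj 𝒜) :
      ∃ e : pullback π ((Proj 𝒜).fromSpecResidueField x) ≅
          Spec (CommRingCat.of (LaurentPolynomial ((Proj 𝒜).residueField x))),
        e.hom ≫ Spec.map (CommRingCat.ofHom (algebraMap ((Proj 𝒜).residueField x)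
          (LaurentPolynomial ((Proj 𝒜).residueField x)))) = pullback.snd π ((Proj 𝒜).fromSpecResidueField x) := by
  obtain ⟨f, hf, hxf⟩ := Groth.Agent.S3598.exists_deg_one hgen x
  obtain ⟨Λ, hΛ⟩ := Groth.Agent.Lib.Helper28.ConeAlgL.exists_laurent 𝒜 hf
  have hx : x ∈ Set.range (Proj.awayι 𝒜 f hf one_pos) := by
    rw [← Proj.opensRange_awayι 𝒜 f hf one_pos] at hxf
    exact hxf
  obtain ⟨γ, -, hγ⟩ := Groth.Agent.Lib.Helper28.Fibre.exists_fibre_iso π x
    (Proj.awayι 𝒜 f hf one_pos) hx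
    (CommRingCat.ofHom (algebraMap (Away 𝒜 f) (Localization.Away f)))
    (Cone.chart hf one_pos) (isPullback_chart π hπ one_pos hf).flip
  obtain ⟨δ, hpo⟩ := isPushout_laurent γ.hom (algebraMap (Away 𝒜 f) (Localization.Away f)) Λ hΛ
  obtain ⟨e, he⟩ := hγ _ _ _ hpo
  exact ⟨e, he⟩


/-- Over an affine base Spec R: let S be a graded R-algebra whose irrelevant ideal is generated by its
degree-one elements, E the pointed affine cone of S and π : E → X = Proj S the canonical retraction
(the morphism restricting on each chart D(f), f homogeneous of positive degree, to Spec S_f → Spec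
S_(f) → Proj S). Then π is of finite type, and for every point x of X the fibre of π at x is
isomorphic over the residue field κ(x) to Spec κ(x)[T, T⁻¹]. -/
theorem result {R A : Type u} [CommRing R] [CommRing A] [Algebra R A] (𝒜 : ℕ → Submodule R A) [GradedAlgebra 𝒜]
    (hgen : (HomogeneousIdeal.irrelevant 𝒜).toIdeal = Ideal.span (𝒜 1 : Set A))
    (π : (Cone.pointed 𝒜 : Scheme.{u}) ⟶ Proj 𝒜)
    (hπ : ∀ (d : ℕ) (f : A) (hd : 0 < d) (hf : f ∈ 𝒜 d),
        Cone.chart hf hd ≫ π =
          Spec.map (CommRingCat.ofHom (algebraMap (HomogeneousLocalization.Away 𝒜 f) (Localization.Away f))) ≫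
            Proj.awayι 𝒜 f hf hd)
    (x : Proj 𝒜) :
    LocallyOfFiniteType π ∧ QuasiCompact π ∧
      ∃ e : pullback π ((Proj 𝒜).fromSpecResidueField x) ≅
          Spec (CommRingCat.of (LaurentPolynomial ((Proj 𝒜).residueField x))),
        e.hom ≫ Spec.map (CommRingCat.ofHom (algebraMap ((Proj 𝒜).residueField x)
          (LaurentPolynomial ((Proj 𝒜).residueField x)))) = pullback.snd π ((Proj 𝒜).fromSpecResidueField x) := by
  exact ⟨locallyOfFiniteType π hπ hgen, quasiCompact π hπ, fibre π hπ hgen x⟩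

end Groth.Agent.S3576
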