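import Groth.Statements.S4389
-- import your own Groth.Agent.* helpers here

set_option autoImplicit false
universe u
open EGA2

namespace Groth.Agent.S4389

theorem eq_span_of_adjoin_eq_top {R A : Type u} [CommRing R] [CommRing A] [Algebra R A]
    (𝒜 : ℕ → Submodule R A) [GradedAlgebra 𝒜]
    (E : Set A) (hE : ∀ e ∈ E, ∃ d : ℕ, 0 < d ∧ e ∈ 𝒜 d)
    (h : Algebra.adjoin (𝒜 0) E = ⊤) :
    (HomogeneousIdeal.irrelevant 𝒜).toIdeal = Ideal.span E := by
  have hle : Ideal.span E ≤ (HomogeneousIdeal.irrelevant 𝒜).toIdeal := by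
    rw [Ideal.span_le]
    intro e he
    obtain ⟨d, hd, hed⟩ := hE e he
    exact HomogeneousIdeal.mem_irrelevant_of_mem 𝒜 hd hed
  refine le_antisymm ?_ hle
  have key : ∀ x ∈ Algebra.adjoin (𝒜 0) E, ∃ a : 𝒜 0, x - (a : A) ∈ Ideal.span E := by
    intro x hx
    induction hx using Algebra.adjoin_induction with
    | mem x hx => exact ⟨0, by simpa using Ideal.subset_span hx⟩
    | algebraMap r => exact ⟨r, by simp⟩
    | add x y _ _ hx hy =>
      obtain ⟨a, ha⟩ := hx
      obtain ⟨b, hb⟩ := hy
      refine ⟨a + b, ?_⟩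
      have := Ideal.add_mem _ ha hb
      convert this using 1
      push_cast
      ring
    | mul x y _ _ hx hy =>
      obtain ⟨a, ha⟩ := hx
      obtain ⟨b, hb⟩ := hy
      refine ⟨a * b, ?_⟩
      have h1 : x * y - (a : A) * (b : A) = (x - a) * y + a * (y - b) := by ring
      have h2 : (x - a) * y + a * (y - b) ∈ Ideal.span E :=
        Ideal.add_mem _ (Ideal.mul_mem_right _ _ ha) (Ideal.mul_mem_left _ _ hb)
      rw [← h1] at h2
      convert h2 using 2
      exact SetLike.GradeZero.coe_mul a b
  intro x hx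
  obtain ⟨a, ha⟩ := key x (h ▸ Algebra.mem_top)
  have h0 : (a : A) = 0 := by
    have h1 : x - a ∈ (HomogeneousIdeal.irrelevant 𝒜).toIdeal := hle ha
    have h2 : (a : A) ∈ (HomogeneousIdeal.irrelevant 𝒜).toIdeal := by
      simpa using Ideal.sub_mem _ hx h1
    change (a : A) ∈ HomogeneousIdeal.irrelevant 𝒜 at h2
    rw [HomogeneousIdeal.mem_irrelevant_iff, GradedRing.proj_apply,
      DirectSum.decompose_of_mem_same _ a.2] at h2
    exact h2
  simpa [h0] using ha

theorem adjoin_eq_top_of_eq_span {R A : Type u} [CommRing R] [CommRing A] [Algebra R A]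
    (𝒜 : ℕ → Submodule R A) [GradedAlgebra 𝒜]
    (E : Set A) (hE : ∀ e ∈ E, ∃ d : ℕ, 0 < d ∧ e ∈ 𝒜 d)
    (h : (HomogeneousIdeal.irrelevant 𝒜).toIdeal = Ideal.span E) :
    Algebra.adjoin (𝒜 0) E = ⊤ := by
  have claim : ∀ n, ∀ x ∈ 𝒜 n, x ∈ Algebra.adjoin (𝒜 0) E := by
    intro n
    induction n using Nat.strong_induction_on with
    | _ n ih =>
      intro x hx
      rcases Nat.eq_zero_or_pos n with rfl | hn
      · exact (Algebra.adjoin (𝒜 0) E).algebraMap_mem ⟨x, hx⟩
      · have hxI : x ∈ Ideal.span E := h ▸ HomogeneousIdeal.mem_irrelevant_of_mem 𝒜 hn hx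
        have : ∀ y ∈ Ideal.span E, ∀ c : A,
            (DirectSum.decompose 𝒜 (c * y) n : A) ∈ Algebra.adjoin (𝒜 0) E := by
          intro y hy
          induction hy using Submodule.span_induction with
          | mem e he =>
            intro c
            obtain ⟨d, hd, hed⟩ := hE e he
            rw [DirectSum.coe_decompose_mul_of_right_mem 𝒜 n hed]
            split_ifs with hdn
            · exact (Algebra.adjoin (𝒜 0) E).mul_mem
                (ih (n - d) (by omega) _ (SetLike.coe_mem _)) (Algebra.subset_adjoin he)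
            · exact (Algebra.adjoin (𝒜 0) E).zero_mem
          | zero => intro c; simp
          | add y z _ _ hy hz =>
            intro c
            rw [mul_add, DirectSum.decompose_add]
            simpa using (Algebra.adjoin (𝒜 0) E).add_mem (hy c) (hz c)
          | smul a y _ hy =>
            intro c
            rw [smul_eq_mul, ← mul_assoc]
            exact hy (c * a)
        have := this x hxI 1
        rwa [one_mul, DirectSum.decompose_of_mem_same _ hx] at this
  rw [eq_top_iff]
  intro x _
  classical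
  rw [← DirectSum.sum_support_decompose 𝒜 x]
  exact (Algebra.adjoin (𝒜 0) E).sum_mem (fun i _ => claim i _ (SetLike.coe_mem _))

/-- Let S be a ring graded in nonnegative degrees, S_0 its degree-zero subring, S_+ its irrelevant
ideal, and E a set of homogeneous elements of positive degree. Then E generates S_+ as an ideal of S
if and only if E generates S as an S_0-algebra. -/
theorem result {R A : Type u} [CommRing R] [CommRing A] [Algebra R A] (𝒜 : ℕ → Submodule R A) [GradedAlgebra 𝒜]
    (E : Set A) (hE : ∀ e ∈ E, ∃ d : ℕ, 0 < d ∧ e ∈ 𝒜 d) :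
    (HomogeneousIdeal.irrelevant 𝒜).toIdeal = Ideal.span E ↔ Algebra.adjoin (𝒜 0) E = ⊤ := by
  exact ⟨adjoin_eq_top_of_eq_span 𝒜 E hE, eq_span_of_adjoin_eq_top 𝒜 E hE⟩

end Groth.Agent.S4389
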