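import Groth.Statements.S4390
import Groth.Agent.S4389
import Mathlib.RingTheory.GradedAlgebra.FiniteType

set_option autoImplicit false
universe u
open EGA2

namespace Groth.Agent.S4390

/-- Let S be a ring graded in nonnegative degrees. Then the irrelevant ideal S_+ is a finitely generated
ideal if and only if S is an S_0-algebra of finite type. -/
theorem result {R A : Type u} [CommRing R] [CommRing A] [Algebra R A] (𝒜 : ℕ → Submodule R A) [GradedAlgebra 𝒜] :
    (HomogeneousIdeal.irrelevant 𝒜).toIdeal.FG ↔ Algebra.FiniteType (𝒜 0) A := by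
  classical
  constructor
  · rintro ⟨F, hF⟩
    let E : Finset A := F.biUnion fun f =>
      (DirectSum.decompose 𝒜 f).support.image fun i => (DirectSum.decompose 𝒜 f i : A)
    have hFI : ∀ f ∈ F, f ∈ HomogeneousIdeal.irrelevant 𝒜 := by
      intro f hf
      change f ∈ (HomogeneousIdeal.irrelevant 𝒜).toIdeal
      rw [← hF]
      exact Ideal.subset_span hf
    have hE : ∀ e ∈ (E : Set A), ∃ d : ℕ, 0 < d ∧ e ∈ 𝒜 d := by
      intro e he
      simp only [E, Finset.coe_biUnion, Finset.coe_image, Set.mem_iUnion, Set.mem_image,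
        Finset.mem_coe, DFinsupp.mem_support_toFun] at he
      obtain ⟨f, hf, i, hi, rfl⟩ := he
      refine ⟨i, Nat.pos_of_ne_zero ?_, SetLike.coe_mem _⟩
      rintro rfl
      apply hi
      have := hFI f hf
      rw [HomogeneousIdeal.mem_irrelevant_iff, GradedRing.proj_apply] at this
      exact Subtype.ext this
    have hspan : (HomogeneousIdeal.irrelevant 𝒜).toIdeal = Ideal.span (E : Set A) := by
      apply le_antisymm
      · rw [← hF, Ideal.span_le]
        intro f hf
        rw [← DirectSum.sum_support_decompose 𝒜 f]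
        refine Ideal.sum_mem _ fun i hi => Ideal.subset_span ?_
        simp only [E, Finset.coe_biUnion, Finset.coe_image, Set.mem_iUnion, Set.mem_image,
          Finset.mem_coe]
        exact ⟨f, hf, i, hi, rfl⟩
      · rw [Ideal.span_le]
        intro e he
        obtain ⟨d, hd, hed⟩ := hE e he
        exact HomogeneousIdeal.mem_irrelevant_of_mem 𝒜 hd hed
    exact ⟨⟨E, Groth.Agent.S4389.adjoin_eq_top_of_eq_span 𝒜 E hE hspan⟩⟩
  · intro hft
    obtain ⟨s, hs, hs'⟩ := GradedAlgebra.exists_finset_adjoin_eq_top_and_homogeneous_ne_zero 𝒜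
    refine ⟨s, (Groth.Agent.S4389.eq_span_of_adjoin_eq_top 𝒜 s ?_ hs).symm⟩
    intro e he
    obtain ⟨n, hn, hen⟩ := hs' e he
    exact ⟨n, Nat.pos_of_ne_zero hn, hen⟩

end Groth.Agent.S4390
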