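import Groth.Statements.S12486
import Groth.Agent.Lib.Helper28.FTApprox7
import Groth.Agent.Lib.Helper28.InvQC

set_option autoImplicit false
universe u
open CategoryTheory CategoryTheory.Limits AlgebraicGeometry TopologicalSpace Opposite
open scoped HomogeneousIdeal
open EGA2

namespace Groth.Agent.S12486

/-- Let Y be a scheme which is either quasi-compact and separated or has Noetherian underlying space, q
: X → Y a morphism of finite type and L an invertible O_X-module which is very ample relative to q.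
Then the quasi-coherent module of the definition can be taken of finite type: there are a
quasi-coherent O_Y-module E of finite type, its graded symmetric algebra 𝒯 with projective bundle p
: P(E) = Proj(𝒯) → Y (given with its charts over affine opens) and fundamental sheaf O(1) (given
with its chart identifications), and an immersion i : X → P(E) with i ≫ p = q and L isomorphic to
i^*O(1). (The published statement phrases this condition through the morphism to P(E) attached to an
epimorphism q^*E → L, and adds a variant in which E is a submodule of q_*L; those forms are not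
stated here.) -/
theorem result {X Y : Scheme.{u}}
    (hY : (CompactSpace Y ∧ Y.IsSeparated) ∨ TopologicalSpace.NoetherianSpace Y) (q : X ⟶ Y) [QuasiCompact q]
    [LocallyOfFiniteType q] (L : X.Modules) (hL : PicF.IsInvertible L) (h : RelProj.IsRelVeryAmple q L) :
    ∃ (E : Y.Modules) (𝒯 : RelProj.QCGrAlg Y) (j : E ⟶ 𝒯.toModule) (P : Scheme.{u}) (p : P ⟶ Y)
      (chart : ∀ (U : Y.Opens) (hU : IsAffineOpen U), ((p ⁻¹ᵁ U : P.Opens) : Scheme.{u}) ≅ Proj (𝒯.deg U hU))
      (O1 : P.Modules)
      (lam : ∀ (U : Y.Opens) (hU : IsAffineOpen U),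
        O1 ⟶ (Scheme.Modules.pushforward (RelProj.emb p chart U hU)).obj (GrTwist.twist (𝒯.deg U hU) 1))
      (i : X ⟶ P),
      Coh.IsQCoh E ∧ CohB1.IsFT E ∧ RelProj.IsGrSymAlg E 𝒯 j ∧ RelProj.IsRelProj 𝒯 p chart ∧
        RelProj.IsRelTwist 𝒯 p chart 1 O1 lam ∧ IsImmersion i ∧ i ≫ p = q ∧
        Nonempty (L ≅ (Scheme.Modules.pullback i).obj O1) := by
  classical
  have hLq : L.IsQuasicoherent := Groth.Agent.Lib.Helper28.InvQC.isQuasicoherent_of_isInvertible L hL
  obtain ⟨hc, hqs⟩ := Groth.Agent.Lib.Helper28.FTApprox.qcqs_of_base hY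
  have hQCL := Groth.Agent.Lib.Helper28.SymAlg.isQC_symPre_of_isQuasicoherent L
  have hjL := Groth.Agent.Lib.Helper28.SymAlg.isGrSymAlg L hQCL
  have hPL := Groth.Agent.Lib.Helper28.RelProjExists.isRelProj (Groth.Agent.Lib.Helper28.SymAlg.grSymAlg L hQCL)
  obtain ⟨E, hEq, hft, ι, hinj, 𝒯, jE, hE, u, hu, hs, H⟩ :=
    Groth.Agent.Lib.Helper28.FTApprox.exists_ft_sub_pushforward q hjL _ _ hPL hL h
  have hP := Groth.Agent.Lib.Helper28.RelProjExists.isRelProj 𝒯
  obtain ⟨r, hr, -⟩ := Groth.Agent.Lib.Helper28.ProjQRel.existsUnique_glueW u _ _ hP _ _ hPL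
  have hrOn := Groth.Agent.Lib.Helper28.ProjQRel.isProjQMapOn_of_glue u _ _ _ _ r hr
  obtain ⟨htop, himm⟩ := H _ _ _ hP r hrOn
  have hO := Groth.Agent.Lib.Helper28.RelTwistEx.isRelTwist hP 1
  obtain ⟨i, hi, hip, hiso⟩ :=
    Groth.Agent.Lib.Helper28.FTApprox.exists_immersion_of_surjCond hjL hE u _ _ hP _ _ hPL r hrOn hO hL hs himm
  exact ⟨E, 𝒯, jE, _, _, _, _, _, i, hEq, hft, hE, hP, hO, hi, hip, hiso⟩

end Groth.Agent.S12486
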