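import Groth.Statements.S12142
-- import your own Groth.Agent.* helpers here
import Groth.Agent.Lib.Helper28.Glue
import Mathlib

set_option autoImplicit false
universe u
open CategoryTheory CategoryTheory.Limits AlgebraicGeometry TopologicalSpace Opposite
open scoped HomogeneousIdeal
noncomputable section
open EGA2

namespace Groth.Agent.S12142

section helpers

open Groth.Agent.Lib.Helper28

variable {S S' : Scheme.{u}} (g : S' ⟶ S)

/-- the index type of the cover -/
structure Idx where
  U : S.Opens
  hU : IsAffineOpen U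
  U' : S'.Opens
  hU' : IsAffineOpen U'
  hle : U' ≤ g ⁻¹ᵁ U

theorem cover (y : S') : ∃ t : Idx g, y ∈ Set.range (t.U'.ι) := by
  obtain ⟨U, hU, hxU, -⟩ := Opens.isBasis_iff_nbhd.1 S.isBasis_affineOpens
    (show g y ∈ (⊤ : S.Opens) from trivial)
  obtain ⟨U', hU', hxU', hle⟩ := Opens.isBasis_iff_nbhd.1 S'.isBasis_affineOpens
    (show y ∈ g ⁻¹ᵁ U from hxU)
  refine ⟨⟨U, hU, U', hU', hle⟩, ?_⟩
  rw [Scheme.Opens.range_ι]
  exact hxU'

variable (A : RelSpec.QCAlg S)

/-- the structure map of a chart to the affine open -/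
def α (U : S.Opens) (hU : IsAffineOpen U) : Spec (A.presheaf.obj (op U)) ⟶ (U : Scheme.{u}) :=
  Spec.map (A.str.app (op U)) ≫ hU.isoSpec.inv

set_option backward.isDefEq.respectTransparency false in
theorem α_ι (U : S.Opens) (hU : IsAffineOpen U) : α A U hU ≫ U.ι = A.ι U hU ≫ A.π := by
  rw [A.ι_π, α, Category.assoc, IsAffineOpen.isoSpec_inv_ι]

set_option backward.isDefEq.respectTransparency false in
theorem isPullback_chart (U : S.Opens) (hU : IsAffineOpen U) :
    IsPullback (α A U hU) (A.ι U hU) U.ι A.π := by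
  refine IsOpenImmersion.isPullback _ _ _ _ (α_ι A U hU).symm ?_
  rw [Scheme.Opens.opensRange_ι, A.π_preimage U hU]


variable (B : RelSpec.QCAlg S') (u : RelSpec.QHom g A B) (hu : RelSpec.IsQBaseChange u)

set_option backward.isDefEq.respectTransparency false in
theorem resLE_eq (t : Idx g) :
    Spec.map (g.appLE t.U t.U' t.hle) ≫ t.hU.isoSpec.inv =
      t.hU'.isoSpec.inv ≫ g.resLE t.U t.U' t.hle := by
  rw [← cancel_mono t.U.ι, Category.assoc, Category.assoc, IsAffineOpen.isoSpec_inv_ι,
    Scheme.Hom.resLE_comp_ι, IsAffineOpen.SpecMap_appLE_fromSpec g t.hU t.hU' t.hle,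
    ← IsAffineOpen.isoSpec_inv_ι, Category.assoc]

include hu in
set_option backward.isDefEq.respectTransparency false in
theorem isPullback_affine (t : Idx g) :
    IsPullback (Spec.map (u.appLE t.U t.U' t.hle)) (α B t.U' t.hU') (α A t.U t.hU)
      (g.resLE t.U t.U' t.hle) := by
  have h1 := isPullback_SpecMap_of_isPushout _ _ _ _ (hu t.U t.hU t.U' t.hU' t.hle)
  refine (h1.of_iso (Iso.refl _) t.hU'.isoSpec.symm (Iso.refl _) t.hU.isoSpec.symm ?_ ?_ ?_ ?_).flip
  · simp only [Iso.refl_hom, Category.id_comp, Iso.symm_hom]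
    rfl
  · simp only [Iso.refl_hom, Category.id_comp, Category.comp_id]
  · simp only [Iso.symm_hom]
    exact resLE_eq g t
  · simp only [Iso.refl_hom, Category.id_comp, Iso.symm_hom]
    rfl

set_option backward.isDefEq.respectTransparency false in
theorem main (h : B.spec ⟶ A.spec) (hh : RelSpec.IsSpecQMap u h) (hu : RelSpec.IsQBaseChange u) :
    IsPullback h B.π A.π g := by
  refine (Scheme.isPullback_of_openCover B.π h g A.π
    (Glue.cov (fun t : Idx g => (t.U' : Scheme.{u})) (fun t => t.U'.ι) (cover g)) fun (t : Idx g) => ?_).flip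
  -- the pasted square
  have hpaste := ((isPullback_affine g A B u hu t).paste_horiz (isPullback_chart A t.U t.hU).flip)
  rw [← hh t.U t.hU t.U' t.hU' t.hle, Scheme.Hom.resLE_comp_ι] at hpaste
  have hB := (isPullback_chart B t.U' t.hU').flip
  refine hpaste.flip.of_iso hB.isoPullback (Iso.refl _) (Iso.refl _) (Iso.refl _) ?_ ?_ ?_ ?_
  · simp only [Iso.refl_hom, Category.comp_id]
    exact hB.isoPullback_hom_snd.symm
  · simp only [Iso.refl_hom, Category.comp_id]
    have h1 := hB.isoPullback_hom_fst
    exact Eq.trans (congrArg (· ≫ h) h1.symm) (Category.assoc _ _ _)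
  · simp only [Iso.refl_hom, Category.comp_id, Category.id_comp]
    rfl
  · simp only [Iso.refl_hom, Category.comp_id, Category.id_comp]


end helpers


/-- Let g : S' → S be a morphism of schemes, A a quasi-coherent O_S-algebra and B = g^*A, presented as a
quasi-coherent O_{S'}-algebra with a g-morphism u : A → g_*B whose squares of rings over affine
opens U' ⊆ g⁻¹(U) are pushouts; let h = Spec(u) : Spec(B) → Spec(A) be the induced morphism of
relative spectra (chartwise Spec of A(U) → B(U')). Then h and the structure morphisms form a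
cartesian square: Spec(g^*A) is the fibre product Spec(A) ×_S S'. -/
theorem result {S S' : Scheme.{u}} (g : S' ⟶ S)
    (A : RelSpec.QCAlg S) (B : RelSpec.QCAlg S') (u : RelSpec.QHom g A B) (hu : RelSpec.IsQBaseChange u)
    (h : B.spec ⟶ A.spec) (hh : RelSpec.IsSpecQMap u h) :
    IsPullback h B.π A.π g := by
  exact main g A B u h hh hu

end Groth.Agent.S12142
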