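import Groth.Statements.S4387
import Groth.Agent.Lib.Helper28.AmplePow
import Groth.Agent.Lib.Helper28.RestrictGen

set_option autoImplicit false
universe u
open CategoryTheory CategoryTheory.Limits AlgebraicGeometry
open EGA2

open Groth.Agent.Lib.Helper28

namespace Groth.Agent.S4387

/-- Let f : X → Y be a quasi-compact morphism, L an invertible O_X-module and n > 0 an integer. Then L
is ample relative to f if and only if L^{⊗n} is ample relative to f. -/
theorem result {X Y : Scheme.{u}} (f : X ⟶ Y) [QuasiCompact f] (L : X.Modules)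
    (hL : PicF.IsInvertible L) (n : ℕ) (hn : 0 < n) :
    RelAmple.IsRelAmple f L ↔ RelAmple.IsRelAmple f (CohB1.tensorPow L n) := by
  have key : ∀ V : Y.affineOpens, CohB1.IsAmple (L.restrict (f ⁻¹ᵁ V.1).ι) ↔
      CohB1.IsAmple ((CohB1.tensorPow L n).restrict (f ⁻¹ᵁ V.1).ι) := by
    intro V
    have hLU := AmpleIso.isInvertible_restrict (f ⁻¹ᵁ V.1).ι L hL
    obtain ⟨e⟩ := GenLocus.exists_restrict_tensorPow_iso L (f ⁻¹ᵁ V.1) hLU n
    rw [GenLocus.isAmple_tensorPow_iff hLU n hn]
    exact ⟨AmpleIso.isAmple_of_iso e.symm, AmpleIso.isAmple_of_iso e⟩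
  unfold RelAmple.IsRelAmple
  exact and_congr_right fun _ => forall_congr' key

end Groth.Agent.S4387
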