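import Groth.Statements.S15293
-- import your own Groth.Agent.* helpers here

set_option autoImplicit false
universe u
open DeRham

namespace Groth.Agent.S15293

open exteriorPower in
/-- The `A`-alternating map `(ω₁, …, ω_p) ↦ g(ω₁) ∧ … ∧ g(ω_p)` into `⋀[B]^p Ω[B⁄S]`. -/
noncomputable def altMap (R S A B : Type u) [CommRing R] [CommRing S] [CommRing A] [CommRing B]
    [Algebra R S] [Algebra R A] [Algebra R B] [Algebra A B] [Algebra S B]
    [IsScalarTower R A B] [IsScalarTower R S B] (p : ℕ) :
    Ω[A⁄R] [⋀^Fin p]→ₗ[A] ↥(⋀[B]^p (Ω[B⁄S])) where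
  toMultilinearMap := (MultilinearMap.restrictScalars A (ιMulti B p).toMultilinearMap).compLinearMap
    (fun _ => KaehlerDifferential.map R S A B)
  map_eq_zero_of_eq' := fun v i j h hij => by
    apply (ιMulti B p).map_eq_zero_of_eq _ _ hij
    simp only [h]

open exteriorPower in
/-- For a commutative square of ring maps R → A → B, R → S → B (B an algebra over R, A and S
compatibly), there is a family of additive maps ψ_p from the p-forms of A over R to the p-forms of B
over S, p ≥ 0, which is the map of de Rham complexes induced by the square: ψ_p sends b₀ db₁ ∧ … ∧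
db_p to g(b₀) d(g b₁) ∧ … ∧ d(g b_p), where g : A → B is the structure map. In degree 0 this is g
and in degree 1 the induced map on Kähler differentials. -/
theorem result (R S A B : Type u) [CommRing R] [CommRing S] [CommRing A] [CommRing B]
    [Algebra R S] [Algebra R A] [Algebra R B] [Algebra A B] [Algebra S B]
    [IsScalarTower R A B] [IsScalarTower R S B] :
    ∃ ψ : ∀ p : ℕ, ↥(⋀[A]^p (Ω[A⁄R])) →+ ↥(⋀[B]^p (Ω[B⁄S])),
      DeRham.IsCxMap (KaehlerDifferential.D R A) (KaehlerDifferential.D S B) (algebraMap A B) ψ := by
  refine ⟨fun p => (exteriorPower.alternatingMapLinearEquiv (altMap R S A B p)).toAddMonoidHom, ?_⟩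
  intro p b₀ b
  unfold DeRham.gen
  rw [LinearMap.toAddMonoidHom_coe, map_smul, exteriorPower.alternatingMapLinearEquiv_apply_ιMulti,
    ← algebraMap_smul B b₀]
  congr 1
  change exteriorPower.ιMulti B p (fun i => KaehlerDifferential.map R S A B
    (KaehlerDifferential.D R A (b i))) = _
  simp only [KaehlerDifferential.map_D]

end Groth.Agent.S15293
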