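import Groth.Statements.S15536
import Mathlib
import Groth.Agent.Lib.Helper25.DeRhamTotal
import Groth.Agent.S15293
import Groth.Agent.S15294
-- import your own Groth.Agent.* helpers here

set_option autoImplicit false
set_option linter.unusedSectionVars false
set_option linter.style.haveILetI false
set_option linter.unusedVariables false
universe u
open DeRham

namespace Groth.Agent.S15536

open exteriorPower Polynomial Groth.Agent.Lib.Helper25.DeRhamTotal

section
variable {R A : Type u} [CommRing R] [CommRing A] [Algebra R A]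

/-- `t ∂_t` as an `R`-derivation of `A[X]` -/
noncomputable def eulerDer : Derivation R A[X] A[X] :=
  (X : A[X]) • ((Polynomial.derivative' (R := A)).restrictScalars R)

lemma eulerDer_apply (g : A[X]) : eulerDer (R := R) g = X * derivative g := rfl

/-- the dual vector `dg ↦ t g'` -/
noncomputable def θ : Module.Dual A[X] (Ω[A[X]⁄R]) :=
  (eulerDer (R := R) (A := A)).liftKaehlerDifferential

lemma θ_D (g : A[X]) : θ (KaehlerDifferential.D R A[X] g) = X * derivative g := by
  unfold θ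
  rw [Derivation.liftKaehlerDifferential_comp_D, eulerDer_apply]

lemma θ_D_C (a : A) : θ (KaehlerDifferential.D R A[X] (C a)) = 0 := by
  rw [θ_D, derivative_C, mul_zero]

lemma θ_D_X : θ (KaehlerDifferential.D R A[X] X) = (X : A[X]) := by
  rw [θ_D, derivative_X, mul_one]

lemma θ_D_monomial (n : ℕ) (a : A) :
    θ (KaehlerDifferential.D R A[X] (monomial n a)) = n • monomial n a := by
  rw [θ_D, derivative_monomial]
  rcases n with _ | n
  · simp
  · rw [Nat.add_sub_cancel, X_mul_monomial]   -- X * monomial n r = monomial (n+1) r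
    rw [← map_nsmul]
    congr 1
    rw [nsmul_eq_mul, mul_comm]

/-- the base element attached to a tag -/
noncomputable def bτ (t : Option A) : A[X] := t.elim X C

/-- number of `dt` factors -/
def cnt : (p : ℕ) → (Fin p → Option A) → ℕ
  | 0, _ => 0
  | p + 1, τ => (τ 0).elim 1 (fun _ => 0) + cnt p (fun i => τ i.succ)

lemma cnt_zero_imp (p : ℕ) (τ : Fin p → Option A) (h : cnt p τ = 0) :
    ∃ a' : Fin p → A, ∀ i, τ i = some (a' i) := by
  induction p with
  | zero => exact ⟨Fin.elim0, fun i => i.elim0⟩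
  | succ p ih =>
    simp only [cnt] at h
    have h1 : (τ 0).elim 1 (fun _ => 0) = 0 := by omega
    have h2 : cnt p (fun i => τ i.succ) = 0 := by omega
    obtain ⟨a', ha'⟩ := ih _ h2
    cases h0 : τ 0 with
    | none => rw [h0] at h1; simp at h1
    | some a₀ =>
      refine ⟨Fin.cons a₀ a', fun i => ?_⟩
      refine Fin.cases ?_ (fun j => ?_) i
      · simpa using h0
      · simpa using ha' j

end

section Main
variable {R A : Type u} [CommRing R] [CommRing A] [Algebra R A]
variable (d' : ∀ p : ℕ, ↥(⋀[A[X]]^p (Ω[A[X]⁄R])) →ₗ[R] ↥(⋀[A[X]]^(p + 1) (Ω[A[X]⁄R])))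
    (hd' : DeRham.IsDiff (KaehlerDifferential.D R A[X]) d')

local notation "δ'" => KaehlerDifferential.D R A[X]
local notation "hsp" => KaehlerDifferential.span_range_derivation R A[X]
local notation "Λ" => ExteriorAlgebra A[X] (Ω[A[X]⁄R])

lemma gw_succ' (p : ℕ) (b : Fin (p + 1) → A[X]) :
    gw δ' (p + 1) b = ExteriorAlgebra.ι A[X] (δ' (b 0)) * gw δ' p (fun i => b i.succ) := by
  unfold gw
  rw [ιMulti_succ]

include hd' in
lemma L_gwτ (p : ℕ) (τ : Fin p → Option A) :
    L d' θ (gw δ' p (fun i => bτ (τ i))) = cnt p τ • gw δ' p (fun i => bτ (τ i)) := by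
  induction p with
  | zero =>
    rw [gw_zero, L_one d' δ' hsp hd']
    simp [cnt]
  | succ p ih =>
    rw [gw_succ', L_ι_δ_mul d' δ' hsp hd', ih]
    simp only [cnt]
    cases h0 : τ 0 with
    | none =>
      simp only [bτ, Option.elim_none]
      rw [θ_D_X, mul_smul_comm, add_smul, one_smul]
    | some a₀ =>
      simp only [bτ, Option.elim_some]
      rw [θ_D_C, map_zero, map_zero, zero_mul, zero_add, zero_add, mul_smul_comm]

include hd' in
lemma L_genτ (n : ℕ) (a : A) (p : ℕ) (τ : Fin p → Option A) :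
    L d' θ (monomial n a • gw δ' p (fun i => bτ (τ i))) =
      (n + cnt p τ) • (monomial n a • gw δ' p (fun i => bτ (τ i))) := by
  rw [L_smul d' δ' hsp hd', L_gwτ d' hd', θ_D_monomial, add_smul, smul_comm (monomial n a) (cnt p τ),
    smul_assoc]

/-- `{dX} ∪ {d(C a)}` spans `Ω[A[X]⁄R]`. -/
lemma span_vτ : Submodule.span A[X] (Set.range (fun t : Option A => δ' (bτ t))) = ⊤ := by
  rw [eq_top_iff, ← KaehlerDifferential.span_range_derivation R A[X], Submodule.span_le]
  rintro _ ⟨g, rfl⟩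
  induction g using Polynomial.induction_on' with
  | add f g hf hg =>
    rw [map_add]
    exact Submodule.add_mem _ hf hg
  | monomial n a =>
    rw [← C_mul_X_pow_eq_monomial, Derivation.leibniz, Derivation.leibniz_pow]
    refine Submodule.add_mem _ (Submodule.smul_mem _ _ ?_) (Submodule.smul_mem _ _ ?_)
    · refine nsmul_mem (Submodule.smul_mem _ _ ?_) _
      exact Submodule.subset_span ⟨none, rfl⟩
    · exact Submodule.subset_span ⟨some a, rfl⟩

/-- Additive induction on `⋀^p Ω[A[X]⁄R]` with monomial-weighted generators. -/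
theorem eig_induction {p : ℕ} {P : ↥(⋀[A[X]]^p (Ω[A[X]⁄R])) → Prop}
    (hgen : ∀ (n : ℕ) (a : A) (τ : Fin p → Option A),
      P (monomial n a • (⟨gw δ' p (fun i => bτ (τ i)), gw_mem _ _ _⟩ :
        ↥(⋀[A[X]]^p (Ω[A[X]⁄R])))))
    (h0 : P 0) (hadd : ∀ x y, P x → P y → P (x + y)) : ∀ x, P x := by
  intro x
  have hx : x ∈ Submodule.span A[X] (ιMulti A[X] p '' {a : Fin p → Ω[A[X]⁄R] |
      Set.range a ⊆ Set.range (fun t : Option A => δ' (bτ t))}) := by
    rw [ιMulti_span_of_span A[X] p _ (span_vτ (R := R) (A := A))]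
    trivial
  have key : ∀ b : A[X], P (b • x) := by
    induction hx using Submodule.span_induction with
    | mem y hy =>
      obtain ⟨a', ha', rfl⟩ := hy
      have : ∀ i, ∃ t : Option A, δ' (bτ t) = a' i := fun i => ha' ⟨i, rfl⟩
      choose τ hτ using this
      intro b
      have e1 : ιMulti A[X] p a' = ⟨gw δ' p (fun i => bτ (τ i)), gw_mem _ _ _⟩ := by
        apply Subtype.ext
        rw [exteriorPower.ιMulti_apply_coe]
        unfold gw
        congr 1
        funext i
        exact (hτ i).symm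
      rw [e1]
      induction b using Polynomial.induction_on' with
      | add f g hf hg =>
        rw [add_smul]
        exact hadd _ _ hf hg
      | monomial n a => exact hgen n a τ
    | zero =>
      intro a
      rw [smul_zero]
      exact h0
    | add y z _ _ hy hz =>
      intro a
      rw [smul_add]
      exact hadd _ _ (hy a) (hz a)
    | smul c y _ hy =>
      intro a
      rw [smul_smul]
      exact hy (a * c)
  have := key 1
  rwa [one_smul] at this

variable [Algebra ℚ R]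

/-- `1/n` in `R` -/
noncomputable def u (n : ℕ) : R := algebraMap ℚ R (1 / (n : ℚ))

lemma u_mul (n : ℕ) (hn : n ≠ 0) : (n : R) * u n = 1 := by
  unfold u
  rw [← map_natCast (algebraMap ℚ R) n, ← map_mul]
  have : (n : ℚ) * (1 / (n : ℚ)) = 1 := by
    field_simp
  rw [this, map_one]

/-- iterated projection `Π (1 - L/n)` -/
noncomputable def F : ℕ → Λ → Λ
  | 0, x => x
  | N + 1, x => F N x - u (R := R) (N + 1) • L d' θ (F N x)

lemma F_zero' (N : ℕ) : F d' N (0 : Λ) = 0 := by
  induction N with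
  | zero => rfl
  | succ N ih => simp only [F, ih, L_zero, smul_zero, sub_zero]

lemma F_add (N : ℕ) (x y : Λ) : F d' N (x + y) = F d' N x + F d' N y := by
  induction N with
  | zero => rfl
  | succ N ih =>
    simp only [F, ih, L_add, smul_add]
    abel

lemma F_mem (N : ℕ) (i : ℕ) (x : Λ) (hx : x ∈ ⋀[A[X]]^i (Ω[A[X]⁄R])) :
    F d' N x ∈ ⋀[A[X]]^i (Ω[A[X]⁄R]) := by
  induction N with
  | zero => exact hx
  | succ N ih =>
    simp only [F]
    refine Submodule.sub_mem _ ih ?_
    have := L_mem d' θ i _ ih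
    exact Submodule.smul_of_tower_mem _ _ this

lemma F_eig0 (N : ℕ) (g : Λ) (hg : L d' θ g = 0) : F d' N g = g := by
  induction N with
  | zero => rfl
  | succ N ih => simp only [F, ih, hg, smul_zero, sub_zero]

lemma F_smul_form (m : ℕ) (g : Λ) (hg : L d' θ g = m • g) (N : ℕ) :
    ∃ r : R, F d' N g = r • g := by
  induction N with
  | zero => exact ⟨1, (one_smul _ _).symm⟩
  | succ N ih =>
    obtain ⟨r, hr⟩ := ih
    refine ⟨r - u (N + 1) * r * m, ?_⟩
    simp only [F]
    rw [hr, L_smulR, hg, sub_smul, mul_smul, mul_smul, Nat.cast_smul_eq_nsmul]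

lemma F_eig_pos (m : ℕ) (hm : 1 ≤ m) (g : Λ) (hg : L d' θ g = m • g) (N : ℕ) (hN : m ≤ N) :
    F d' N g = 0 := by
  induction N, hN using Nat.le_induction with
  | base =>
    obtain ⟨k, rfl⟩ : ∃ k, m = k + 1 := ⟨m - 1, by omega⟩
    obtain ⟨r, hr⟩ := F_smul_form d' (k + 1) g hg k
    simp only [F]
    rw [hr, L_smulR, hg, smul_comm (u (R := R) (k + 1)) r, ← Nat.cast_smul_eq_nsmul R (k + 1) g,
      smul_smul (u (R := R) (k + 1)), mul_comm, u_mul _ (Nat.succ_ne_zero k), one_smul, sub_self]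
  | succ N hN ih =>
    simp only [F, ih, L_zero, smul_zero, sub_zero]

include hd' in
lemma F_closed (N : ℕ) (x : Λ) (hx : Dt d' x = 0) : Dt d' (F d' N x) = 0 := by
  induction N with
  | zero => exact hx
  | succ N ih =>
    simp only [F]
    rw [map_sub, ih, Dt_smulR, D_L d' δ' hsp hd', ih, L_zero, smul_zero, sub_zero]

include hd' in
lemma F_homotopy (N : ℕ) (i : ℕ) (x : Λ) (hxi : x ∈ ⋀[A[X]]^i (Ω[A[X]⁄R])) (hx : Dt d' x = 0) :
    ∃ q : Λ, q ∈ ⋀[A[X]]^i (Ω[A[X]⁄R]) ∧ x - F d' N x = Dt d' (c θ q) := by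
  induction N with
  | zero => exact ⟨0, Submodule.zero_mem _, by simp [F]⟩
  | succ N ih =>
    obtain ⟨q, hq, hq'⟩ := ih
    refine ⟨q + u (R := R) (N + 1) • F d' N x,
      Submodule.add_mem _ hq (Submodule.smul_of_tower_mem _ _ (F_mem d' N i x hxi)), ?_⟩
    simp only [F]
    rw [map_add, map_add, ← hq', c_smulR, Dt_smulR]
    have h1 : L d' θ (F d' N x) = Dt d' (c θ (F d' N x)) := by
      simp only [L]
      rw [F_closed d' hd' N x hx, map_zero, add_zero]
    rw [h1]
    abel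

end Main

section Final
variable {R A : Type u} [CommRing R] [CommRing A] [Algebra R A] [Algebra ℚ R]
variable (d' : ∀ p : ℕ, ↥(⋀[A[X]]^p (Ω[A[X]⁄R])) →ₗ[R] ↥(⋀[A[X]]^(p + 1) (Ω[A[X]⁄R])))
    (hd' : DeRham.IsDiff (KaehlerDifferential.D R A[X]) d')
    (ψ : ∀ p : ℕ, ↥(⋀[A]^p (Ω[A⁄R])) →+ ↥(⋀[A[X]]^p (Ω[A[X]⁄R])))
    (hψ : DeRham.IsCxMap (KaehlerDifferential.D R A) (KaehlerDifferential.D R A[X])
      (algebraMap A A[X]) ψ)

local notation "δ'" => KaehlerDifferential.D R A[X]
local notation "hsp" => KaehlerDifferential.span_range_derivation R A[X]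
local notation "Λ" => ExteriorAlgebra A[X] (Ω[A[X]⁄R])

include hψ in
lemma ψ_gen_coe (p : ℕ) (a₀ : A) (a : Fin p → A) :
    ((ψ p (gen (KaehlerDifferential.D R A) p a₀ a) : ↥(⋀[A[X]]^p (Ω[A[X]⁄R]))) : Λ) =
      C a₀ • gw δ' p (fun i => C (a i)) := by
  rw [hψ]
  rfl

include hd' hψ in
lemma claimA (i : ℕ) (y : ↥(⋀[A[X]]^i (Ω[A[X]⁄R]))) :
    ∃ N₀ : ℕ, ∀ N, N₀ ≤ N → ∃ x₀ : ↥(⋀[A]^i (Ω[A⁄R])),
      ((ψ i x₀ : ↥(⋀[A[X]]^i (Ω[A[X]⁄R]))) : Λ) = F d' N (y : Λ) := by
  induction y using eig_induction (R := R) (A := A) with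
  | hgen n a τ =>
    have hL := L_genτ d' hd' n a i τ
    have hcoe : ((monomial n a • (⟨gw δ' i (fun j => bτ (τ j)), gw_mem _ _ _⟩ :
        ↥(⋀[A[X]]^i (Ω[A[X]⁄R]))) : ↥(⋀[A[X]]^i (Ω[A[X]⁄R]))) : Λ) =
        monomial n a • gw δ' i (fun j => bτ (τ j)) := rfl
    rw [hcoe]
    by_cases hm : n + cnt i τ = 0
    · have hn : n = 0 := by omega
      have hc : cnt i τ = 0 := by omega
      obtain ⟨a', ha'⟩ := cnt_zero_imp i τ hc
      refine ⟨0, fun N _ => ⟨gen (KaehlerDifferential.D R A) i a a', ?_⟩⟩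
      rw [hm, zero_smul] at hL
      rw [F_eig0 d' N _ hL, ψ_gen_coe ψ hψ, hn, monomial_zero_left]
      congr 2
      funext j
      rw [ha' j]
      rfl
    · refine ⟨n + cnt i τ, fun N hN => ⟨0, ?_⟩⟩
      rw [F_eig_pos d' (n + cnt i τ) (by omega) _ hL N hN, map_zero]
      rfl
  | h0 =>
    refine ⟨0, fun N _ => ⟨0, ?_⟩⟩
    rw [map_zero, Submodule.coe_zero, F_zero']
  | hadd x y hx hy =>
    obtain ⟨N₁, h₁⟩ := hx
    obtain ⟨N₂, h₂⟩ := hy
    refine ⟨max N₁ N₂, fun N hN => ?_⟩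
    obtain ⟨x₁, hx₁⟩ := h₁ N (le_trans (le_max_left _ _) hN)
    obtain ⟨x₂, hx₂⟩ := h₂ N (le_trans (le_max_right _ _) hN)
    refine ⟨x₁ + x₂, ?_⟩
    rw [map_add, Submodule.coe_add, Submodule.coe_add, F_add, hx₁, hx₂]

end Final

open exteriorPower Polynomial in
/-- For a commutative ℚ-algebra R, an R-algebra A, de Rham differentials d on ⋀^• Ω_{A/R} and d' on ⋀^•
Ω_{A[t]/R}, and the map of de Rham complexes ψ induced by the inclusion A → A[t] (pinned by its
values on the elements b₀ db₁ ∧ … ∧ db_p and commuting with d, d'), the map ψ is a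
quasi-isomorphism: in every degree i, each d'-closed form on A[t] is the sum of ψ_i of a d-closed
form on A and a d'-exact form, and a d-closed form on A whose image under ψ_i is d'-exact is d-exact
(in degree 0, exact means zero). -/
theorem result (R A : Type u) [CommRing R]
    [CommRing A] [Algebra R A] [Algebra ℚ R]
    (d : ∀ p : ℕ, ↥(⋀[A]^p (Ω[A⁄R])) →ₗ[R] ↥(⋀[A]^(p + 1) (Ω[A⁄R])))
    (hd : DeRham.IsDiff (KaehlerDifferential.D R A) d)
    (d' : ∀ p : ℕ, ↥(⋀[A[X]]^p (Ω[A[X]⁄R])) →ₗ[R] ↥(⋀[A[X]]^(p + 1) (Ω[A[X]⁄R])))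
    (hd' : DeRham.IsDiff (KaehlerDifferential.D R A[X]) d')
    (ψ : ∀ p : ℕ, ↥(⋀[A]^p (Ω[A⁄R])) →+ ↥(⋀[A[X]]^p (Ω[A[X]⁄R])))
    (hψ : DeRham.IsCxMap (KaehlerDifferential.D R A) (KaehlerDifferential.D R A[X]) (algebraMap A A[X]) ψ)
    (hcomm : ∀ (p : ℕ) (x : ↥(⋀[A]^p (Ω[A⁄R]))), ψ (p + 1) (d p x) = d' p (ψ p x)) (i : ℕ) :
    (∀ y ∈ DeRham.cocycles d' i, ∃ x ∈ DeRham.cocycles d i, y - ψ i x ∈ DeRham.coboundaries d' i) ∧
      (∀ x ∈ DeRham.cocycles d i, ψ i x ∈ DeRham.coboundaries d' i → x ∈ DeRham.coboundaries d i) := by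
  -- the retraction induced by evaluation at `0`
  letI algBA : Algebra A[X] A := (Polynomial.evalRingHom (0 : A)).toAlgebra
  have halg : ∀ f : A[X], algebraMap A[X] A f = f.eval 0 := fun f => rfl
  haveI : IsScalarTower R A[X] A := IsScalarTower.of_algebraMap_eq (fun r => by
    rw [halg, Polynomial.algebraMap_apply, Polynomial.eval_C])
  obtain ⟨φ, hφ⟩ := Groth.Agent.S15293.result R R A[X] A
  have hφd := Groth.Agent.S15294.result R R A[X] A d' hd' d hd φ hφ
  have hφψ : ∀ (p : ℕ) (x : ↥(⋀[A]^p (Ω[A⁄R]))), φ p (ψ p x) = x := by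
    intro p x
    induction x using deg_induction (KaehlerDifferential.D R A)
      (KaehlerDifferential.span_range_derivation R A) with
    | hgen a₀ a =>
      rw [hψ, hφ]
      congr 1
      · rw [halg, Polynomial.algebraMap_apply, Polynomial.eval_C]
        rfl
      · funext j
        rw [halg, Polynomial.algebraMap_apply, Polynomial.eval_C]
        rfl
    | h0 => rw [map_zero, map_zero]
    | hadd x y hx hy => rw [map_add, map_add, hx, hy]
  constructor
  · intro y hy
    have hy' : d' i y = 0 := hy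
    have hDy : Dt d' (y : ExteriorAlgebra A[X] (Ω[A[X]⁄R])) = 0 := by
      rw [Dt_coe, hy']
      rfl
    obtain ⟨N, hN⟩ := claimA d' hd' ψ hψ i y
    obtain ⟨x₀, hx₀⟩ := hN N le_rfl
    have hcl := F_closed d' hd' N _ hDy
    rw [← hx₀, Dt_coe] at hcl
    have h1 : d' i (ψ i x₀) = 0 := Subtype.ext hcl
    rw [← hcomm] at h1
    have h2 : d i x₀ = 0 := by
      rw [← hφψ (i + 1) (d i x₀), h1, map_zero]
    refine ⟨x₀, h2, ?_⟩
    obtain ⟨q, hq, hq'⟩ := F_homotopy d' hd' N i _ y.2 hDy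
    rw [← hx₀] at hq'
    cases i with
    | zero =>
      rw [c_deg_zero θ q hq, map_zero] at hq'
      have : y - ψ 0 x₀ = 0 := Subtype.ext hq'
      rw [this]
      exact Submodule.zero_mem _
    | succ p =>
      change _ ∈ LinearMap.range (d' p)
      refine ⟨⟨c θ q, c_mem θ p q hq⟩, ?_⟩
      apply Subtype.ext
      rw [← Dt_coe]
      exact hq'.symm
  · intro x hx hψx
    cases i with
    | zero =>
      have h0 : ψ 0 x = 0 := hψx
      have : x = 0 := by rw [← hφψ 0 x, h0, map_zero]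
      rw [this]
      exact Submodule.zero_mem _
    | succ p =>
      obtain ⟨z, hz⟩ := hψx
      change _ ∈ LinearMap.range (d p)
      refine ⟨φ p z, ?_⟩
      rw [← hφd, hz, hφψ]

end Groth.Agent.S15536
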