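import Groth.Statements.S15733
import Groth.Agent.Lib.Helper29.HJFrac3

set_option autoImplicit false
open W4c2invhilbsl2

namespace Groth.Agent.S15733

/-- Let 0 < p < q be coprime integers and m ≥ 1 such that q − p does not divide m; put g = gcd(m, q−p),
b = (q−p)/g, α = ⌊mp/(q−p)⌋, β = the remainder of mp modulo q−p and t = (q−p−β)/g, so that 1 ≤ t <
b, and let b/t = c₁ − 1/(c₂ − 1/(⋯ − 1/c_r)) be the negative-regular (Hirzebruch–Jung) continued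
fraction expansion with every cᵢ ≥ 2; set P₀ = 0, P₁ = 1, Q₀ = −1, Q₁ = 0, Pᵢ = cᵢ₋₁Pᵢ₋₁ − Pᵢ₋₂, Qᵢ
= cᵢ₋₁Qᵢ₋₁ − Qᵢ₋₂ for 2 ≤ i ≤ r+1, and eᵢ = (α+1+m)Pᵢ − Qᵢ, lᵢ = (α+1)Pᵢ − Qᵢ, nᵢ = q·lᵢ − p·eᵢ,
which are non-negative integers for 0 ≤ i ≤ r+1. Then for every 1 < i ≤ r and every integer x with 0
< x < Pᵢ, the remainder of pmx + nᵢ on division by q − p equals nᵢ plus the remainder of pmx on
division by q − p (in particular nᵢ + (pmx mod (q−p)) < q − p). -/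
theorem result (p q m : ℕ) (hp : 0 < p) (hpq : p < q) (hcop : Nat.Coprime p q) (hm : 0 < m) (hnt : ¬ (q - p ∣ m)) (c : List ℤ) (hc : W4c2invhilbsl2.IsHJDigits p q m c) (i : ℕ) (hi : 1 < i) (hir : i ≤ c.length)
    (x : ℤ) (hx0 : 0 < x) (hx : x < W4c2invhilbsl2.hjP c i) :
    Int.emod ((p : ℤ) * m * x + W4c2invhilbsl2.nN p q m c i) ((q : ℤ) - p) = W4c2invhilbsl2.nN p q m c i + Int.emod ((p : ℤ) * m * x) ((q : ℤ) - p) := by
  open Groth.Agent.Lib.Helper29.HJ in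
  obtain ⟨hPl, hQl⟩ := PQ_of_isHJDigits p q m hpq hcop hm c hc
  have hgpos : (0 : ℤ) < (W4c2invhilbsl2.gcdK p q m : ℤ) := by exact_mod_cast g_pos p q m hm
  obtain ⟨k, rfl⟩ : ∃ k, i = k + 1 := ⟨i - 1, by omega⟩
  have hb := bounds c hc.1 _ _ hPl hQl k (by omega) hir x hx0 hx
  have hs0 : (W4c2invhilbsl2.tT p q m : ℤ) * W4c2invhilbsl2.hjP c k -
      (W4c2invhilbsl2.bB p q m : ℤ) * W4c2invhilbsl2.hjQ c k = (suf c k).1 := by
    rw [← hPl, ← hQl]; exact s_eq_suf c k (by omega)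
  have hs1 : (W4c2invhilbsl2.tT p q m : ℤ) * W4c2invhilbsl2.hjP c (k + 1) -
      (W4c2invhilbsl2.bB p q m : ℤ) * W4c2invhilbsl2.hjQ c (k + 1) = (suf c (k + 1)).1 := by
    rw [← hPl, ← hQl]; exact s_eq_suf c (k + 1) hir
  have hlt : (suf c (k + 1)).1 < (suf c k).1 := suf_strict c hc.1 k (by omega)
  have hge : 1 ≤ (suf c (k + 1)).1 := suf_ge_one c hc.1 (k + 1) hir
  have hbpos : (0 : ℤ) < (W4c2invhilbsl2.bB p q m : ℤ) := by exact_mod_cast b_pos p q m hpq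
  have hgb := gb_eq p q m hpq
  obtain ⟨K, hK⟩ := pm_eq p q m hpq
  rw [nN_eq p q m hpq c (k + 1), hs1]
  rw [hs0] at hb
  set g : ℤ := (W4c2invhilbsl2.gcdK p q m : ℤ) with hg
  set b : ℤ := (W4c2invhilbsl2.bB p q m : ℤ) with hbdef
  set t : ℤ := (W4c2invhilbsl2.tT p q m : ℤ) with htdef
  set ρ := (t * x) % b with hρ
  set y := (t * x) / b with hy
  have hdiv : t * x = b * y + ρ := (Int.mul_ediv_add_emod (t * x) b).symm
  have hρb : ρ < b := Int.emod_lt_of_pos _ hbpos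
  set s := (suf c (k + 1)).1 with hsdef
  have e1 : (p : ℤ) * m * x = g * (b - ρ) + ((q : ℤ) - p) * (K * x - y - 1) := by
    linear_combination x * hK - g * hdiv - (y + 1) * hgb
  have e2 : (p : ℤ) * m * x + g * s = g * (b - ρ + s) + ((q : ℤ) - p) * (K * x - y - 1) := by
    rw [e1]; ring
  show ((p : ℤ) * m * x + g * s) % ((q : ℤ) - p) = g * s + ((p : ℤ) * m * x) % ((q : ℤ) - p)
  rw [e2, e1, Int.add_mul_emod_self_left, Int.add_mul_emod_self_left, ← hgb,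
    Int.emod_eq_of_lt (by nlinarith) (by nlinarith), Int.emod_eq_of_lt (by nlinarith) (by nlinarith)]
  ring

end Groth.Agent.S15733
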