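import Groth.Statements.S10851
import Groth.Agent.Lib.Helper29.MeroDiv2

set_option autoImplicit false
universe u
open Mero

namespace Groth.Agent.S10851



/-- a local ring with a non-unit nonzerodivisor has dimension at least one -/
theorem one_le_ringKrullDim_of_nonunit_nzd {A : Type u} [CommRing A] [IsLocalRing A] (t : A)
    (ht : t ∈ nonZeroDivisors A) (hu : ¬ IsUnit t) : (1 : WithBot ℕ∞) ≤ ringKrullDim A := by
  by_contra h
  have h0 : ringKrullDim A ≤ 0 := by
    rw [not_le] at h
    rcases hd : ringKrullDim A with _ | d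
    · exact bot_le
    · rw [hd] at h
      have h1 : d < 1 := by
        have h' : ((d : ℕ∞) : WithBot ℕ∞) < ((1 : ℕ∞) : WithBot ℕ∞) := h
        exact WithBot.coe_lt_coe.1 h'
      have h2 : d = 0 := Order.lt_one_iff.1 h1
      rw [h2]
      rfl
  haveI : Ring.KrullDimLE 0 A := Ring.krullDimLE_iff.2 h0
  have hn : IsNilpotent t := Ring.KrullDimLE.isNilpotent_iff_mem_nonunits.2 hu
  obtain ⟨n, hn⟩ := hn
  have h3 : t ^ n ∈ nonZeroDivisors A := pow_mem ht n
  rw [hn] at h3
  exact zero_notMem_nonZeroDivisors h3

open AlgebraicGeometry in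
/-- Let X be a locally Noetherian scheme and D a divisor on X (a global section of K_X^×/O_X^×). Then
the support of D has codimension at least 1 in X: for every point z at which the germ of D is
non-trivial, the local ring O_{X,z} has Krull dimension at least 1. -/
theorem result {X : Scheme.{u}} [IsLocallyNoetherian X]
    (D : Mero.Divisor X) (z : X) (hz : z ∈ Mero.supp D) :
    (1 : WithBot ℕ∞) ≤ ringKrullDim (X.presheaf.stalk z) := by
  obtain ⟨t, ht, hu⟩ := Groth.Agent.Lib.Helper29.MeroDiv.exists_nonunit_of_ne_one D z hz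
  exact one_le_ringKrullDim_of_nonunit_nzd t ht hu



end Groth.Agent.S10851
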