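import Groth.Statements.S8863
import Groth.Agent.Lib.Helper29.BlowUpUP2

set_option autoImplicit false
universe u
open CategoryTheory CategoryTheory.Limits AlgebraicGeometry TopologicalSpace
open SDiv

namespace Groth.Agent.S8863

open Groth.Agent.Lib.Helper29.EffCart Groth.Agent.Lib.Helper29.FlatExt

/-- If `h` kills the annihilator of `a`, then `a` becomes a nonzerodivisor after inverting `h`. -/
lemma map_mem_nonZeroDivisors_of_mul_ann_eq_zero {B C : Type*} [CommRing B] [CommRing C]
    [Algebra B C] (a h : B) [IsLocalization.Away h C]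
    (hh : ∀ k : B, k * a = 0 → h * k = 0) : algebraMap B C a ∈ nonZeroDivisors C := by
  rw [mem_nonZeroDivisors_iff_right]
  intro z hz
  obtain ⟨⟨b, ⟨_, n, rfl⟩⟩, hb⟩ := IsLocalization.surj (Submonoid.powers h) z
  simp only at hb
  have hunit : IsUnit (algebraMap B C h) :=
    IsLocalization.map_units C (⟨h, Submonoid.mem_powers h⟩ : Submonoid.powers h)
  have h1 : algebraMap B C (b * a) = 0 := by
    rw [map_mul, ← hb, mul_right_comm, hz, zero_mul]
  obtain ⟨⟨_, m, rfl⟩, hm⟩ := (IsLocalization.map_eq_zero_iff (Submonoid.powers h) C _).1 h1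
  simp only at hm
  have h2 : h * (h ^ m * b) = 0 := hh _ (by rw [mul_assoc]; exact hm)
  have h3 : algebraMap B C b = 0 := by
    have : algebraMap B C (h * (h ^ m * b)) = 0 := by rw [h2, map_zero]
    rw [← mul_assoc, map_mul] at this
    have hu2 : IsUnit (algebraMap B C (h * h ^ m)) := by
      rw [map_mul, map_pow]
      exact hunit.mul (hunit.pow m)
    exact (hu2.mul_right_eq_zero).1 this
  rw [h3] at hb
  have hu3 : IsUnit (algebraMap B C (h ^ n)) := by
    rw [map_pow]
    exact hunit.pow n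
  exact (hu3.mul_left_eq_zero).1 hb

/-- Let X be a locally Noetherian scheme and x a point of X. Then the monoid S_x of germs at x of
regular sections of O_X (sections whose germ at every point of their open of definition is a
nonzerodivisor) is the whole monoid of nonzerodivisors of O_{X,x}; consequently K_{X,x} is the total
ring of fractions of O_{X,x}. -/
theorem result (X : Scheme.{u}) [IsLocallyNoetherian X] (x : ↥X) :
    Mero.regStalk X x = nonZeroDivisors ↑(X.presheaf.stalk x) := by
  apply le_antisymm (Mero.regStalk_le_nonZeroDivisors x)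
  intro g hg
  obtain ⟨U₁, hxU₁, f₁, rfl⟩ := TopCat.Presheaf.exists_germ_eq X.presheaf g
  obtain ⟨_, ⟨W, hW, rfl⟩, hxW, hWU₁⟩ := X.isBasis_affineOpens.exists_subset_of_mem_open
    hxU₁ U₁.2
  have hWU₁' : W ≤ U₁ := hWU₁
  haveI : IsNoetherianRing Γ(X, W) := IsLocallyNoetherian.component_noetherian ⟨W, hW⟩
  set a := (X.presheaf.map (homOfLE hWU₁').op).hom f₁ with hadef
  have hga : X.presheaf.germ W x hxW a = X.presheaf.germ U₁ x hxU₁ f₁ :=
    X.presheaf.germ_res_apply (homOfLE hWU₁') x hxW f₁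
  have ha : X.presheaf.germ W x hxW a ∈ nonZeroDivisors (X.presheaf.stalk x) := hga ▸ hg
  set K : Ideal Γ(X, W) := LinearMap.ker (LinearMap.toSpanSingleton Γ(X, W) Γ(X, W) a) with hK
  have hmemK : ∀ r : Γ(X, W), r ∈ K ↔ r * a = 0 := by
    intro r
    rw [hK, LinearMap.mem_ker, LinearMap.toSpanSingleton_apply, smul_eq_mul]
  have hloc : ∀ k ∈ K, ∃ h : Γ(X, W), IsUnit (X.presheaf.germ W x hxW h) ∧ h * k = 0 := by
    intro k hk
    have h0 : X.presheaf.germ W x hxW k = 0 := by
      apply (mem_nonZeroDivisors_iff_right.1 ha)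
      rw [← map_mul, (hmemK k).1 hk, map_zero]
    exact stalk_affine_eq_zero hW x hxW k h0
  obtain ⟨T, hT⟩ : K.FG := IsNoetherian.noetherian K
  have hfin : ∀ T' : Finset Γ(X, W), (↑T' : Set Γ(X, W)) ⊆ K →
      ∃ h : Γ(X, W), IsUnit (X.presheaf.germ W x hxW h) ∧ ∀ k ∈ T', h * k = 0 := by
    classical
    intro T'
    induction T' using Finset.induction_on with
    | empty => intro _; exact ⟨1, by rw [map_one]; exact isUnit_one, by simp⟩
    | insert k₀ T'' hk₀ ih =>
      intro hsub
      obtain ⟨h₁, hu₁, hh₁⟩ := ih (fun k hk => hsub (Finset.mem_insert_of_mem hk))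
      obtain ⟨h₂, hu₂, hh₂⟩ := hloc k₀ (hsub (Finset.mem_insert_self _ _))
      refine ⟨h₁ * h₂, by rw [map_mul]; exact hu₁.mul hu₂, ?_⟩
      intro k hk
      rcases Finset.mem_insert.1 hk with rfl | hk
      · rw [mul_assoc, hh₂, mul_zero]
      · rw [mul_right_comm, hh₁ k hk, zero_mul]
  obtain ⟨h, hu, hh⟩ := hfin T (by rw [← hT]; exact Ideal.subset_span)
  have hhK : ∀ k : Γ(X, W), k * a = 0 → h * k = 0 := by
    intro k hk
    have hkK : k ∈ Ideal.span (T : Set Γ(X, W)) := by rw [hT]; exact (hmemK k).2 hk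
    refine Submodule.span_induction (p := fun k _ => h * k = 0) ?_ ?_ ?_ ?_ hkK
    · intro k hk; exact hh k hk
    · exact mul_zero h
    · intro y z _ _ hy hz; rw [mul_add, hy, hz, add_zero]
    · intro r y _ hy; rw [smul_eq_mul, mul_left_comm, hy, mul_zero]
  haveI := hW.isLocalization_basicOpen h
  have hnzd : algebraMap Γ(X, W) Γ(X, X.basicOpen h) a ∈ nonZeroDivisors Γ(X, X.basicOpen h) :=
    map_mem_nonZeroDivisors_of_mul_ann_eq_zero a h hhK
  have hxh : x ∈ X.basicOpen h := (Scheme.mem_basicOpen _ _ _ hxW).2 hu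
  have haff : IsAffineOpen (X.basicOpen h) := hW.basicOpen h
  refine ⟨X.basicOpen h, hxh, algebraMap Γ(X, W) Γ(X, X.basicOpen h) a, ?_, ?_⟩
  · intro y
    exact germ_mem_nonZeroDivisors haff y.1 y.2 _ hnzd
  · rw [← hga]
    exact X.presheaf.germ_res_apply (homOfLE (X.basicOpen_le h)) x hxh a

end Groth.Agent.S8863
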