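import Groth.Statements.S12513
-- import your own Groth.Agent.* helpers here

set_option autoImplicit false
universe u
open Mero

namespace Groth.Agent.S12513

open AlgebraicGeometry in
/-- For a scheme X and an affine open U of X, the sections of O_X over U with nonzerodivisor germ at
every point of U are exactly the nonzerodivisors of the ring O_X(U). No Noetherian hypothesis is
needed. -/
theorem result (X : Scheme.{u}) (U : X.Opens)
    (hU : IsAffineOpen U) : Mero.regSub X U = nonZeroDivisors Γ(X, U) := by
  ext f
  constructor
  · intro hf
    rw [mem_nonZeroDivisors_iff]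
    have key : ∀ g : Γ(X, U), g * f = 0 → g = 0 := by
      intro g hg
      apply TopCat.Presheaf.section_ext X.sheaf U g 0
      intro x hx
      have h1 := hf ⟨x, hx⟩
      rw [mem_nonZeroDivisors_iff] at h1
      have h2 : X.presheaf.germ U x hx g * X.presheaf.germ U x hx f = 0 := by
        rw [← map_mul, hg, map_zero]
      have h3 := h1.2 _ h2
      change X.presheaf.germ U x hx g = X.presheaf.germ U x hx 0
      rw [h3, map_zero]
    refine ⟨fun g hg => key g (by rw [mul_comm]; exact hg), key⟩
  · intro hf x
    have := hU.isLocalization_stalk x
    exact IsLocalization.map_nonZeroDivisors_le (hU.primeIdealOf x).asIdeal.primeCompl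
      (X.presheaf.stalk x) (Submonoid.mem_map_of_mem _ hf)

end Groth.Agent.S12513
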