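import Groth.Statements.S5085
import Groth.Agent.Lib.Helper29.MeroDiv2

set_option autoImplicit false
universe u
open CategoryTheory CategoryTheory.Limits AlgebraicGeometry TopologicalSpace
open Mero

namespace Groth.Agent.S5085




/-- Let X be a scheme, U an open subset and V an open subset of U which is schematically dense in U (for
every open W ⊆ U, restriction of functions from W to W ∩ V is injective). Then restriction of
sections of the sheaf of meromorphic functions K_X from U to V is injective: the canonical map from
meromorphic functions to pseudo-functions is injective. -/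
theorem result (X : Scheme.{u}) (U V : X.Opens) (hVU : V ≤ U)
    (hV : ∀ W : X.Opens, W ≤ U →
      Function.Injective ⇑(X.presheaf.map (homOfLE (inf_le_left : W ⊓ V ≤ W)).op)) :
    Function.Injective ⇑((Mero.kmod X).presheaf.map (homOfLE hVU).op) := by
  rw [← AddMonoidHom.coe_coe, injective_iff_map_eq_zero]
  intro s hs
  have hs' : ∀ (y : X) (hy : y ∈ V), s.1 ⟨y, hVU hy⟩ = 0 := by
    intro y hy
    have := congrArg (fun t : Γ(Mero.kmod X, V) => t.1 ⟨y, hy⟩) hs
    exact this
  refine Subtype.ext (funext fun y => ?_)
  obtain ⟨W, hyW, i, a, b, hab⟩ := s.2 y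
  have ha : a = 0 := by
    apply hV W i.le
    rw [map_zero]
    apply TopCat.Presheaf.section_ext X.sheaf
    intro z hz
    change X.presheaf.germ (W ⊓ V) z hz (X.presheaf.map (homOfLE inf_le_left).op a) =
      X.presheaf.germ (W ⊓ V) z hz 0
    rw [TopCat.Presheaf.germ_res_apply, map_zero]
    have h1 := hab ⟨z, hz.1⟩
    dsimp only at h1
    have h2 : s.1 (i ⟨z, hz.1⟩) = 0 := hs' z hz.2
    rw [h2, eq_comm, ← map_zero (algebraMap (X.presheaf.stalk z) (KStalk X z)), eq_comm,
      Groth.Agent.Lib.Helper29.MeroDiv.algebraMap_eq_mk_iff, zero_mul] at h1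
    exact h1.symm
  have h3 := hab ⟨y.1, hyW⟩
  dsimp only at h3
  change s.1 y = _ at h3
  rw [h3, ha, map_zero, LocalizedModule.zero_mk]
  rfl



end Groth.Agent.S5085
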