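import Groth.Statements.S5086
import Groth.Agent.Lib.Helper29.MeroPseudo

set_option autoImplicit false
universe u
open CategoryTheory CategoryTheory.Limits AlgebraicGeometry TopologicalSpace
open Mero

namespace Groth.Agent.S5086




/-- Let X be a scheme which is either locally Noetherian, or reduced with locally finite set of
irreducible components (every point has an open neighbourhood meeting only finitely many irreducible
components). Let U be an open subset, V an open subset of U schematically dense in U (restriction of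
functions from every open W ⊆ U to W ∩ V is injective) and g a function on V. Then there is a
section of the sheaf of meromorphic functions K_X over U whose restriction to V is g/1; with part
(i), meromorphic functions over U are exactly the pseudo-functions on U. -/
theorem result (X : Scheme.{u})
    (hX : IsLocallyNoetherian X ∨ (IsReduced X ∧ ∀ x : ↥X, ∃ W : X.Opens, x ∈ W ∧
      {Z : Set ↥X | Z ∈ irreducibleComponents ↥X ∧ (Z ∩ (W : Set ↥X)).Nonempty}.Finite))
    (U V : X.Opens) (hVU : V ≤ U)
    (hV : ∀ W : X.Opens, W ≤ U →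
      Function.Injective ⇑(X.presheaf.map (homOfLE (inf_le_left : W ⊓ V ≤ W)).op))
    (g : Γ(X, V)) :
    ∃ s : Γ(Mero.kmod X, U), (Mero.kmod X).presheaf.map (homOfLE hVU).op s = Mero.toK X V g := by
  refine Groth.Agent.Lib.Helper29.MeroDiv.exists_kmod_section U V hVU hV (fun y => ?_) g
  rcases hX with hN | ⟨hR, hfin⟩
  · obtain ⟨_, ⟨W, hW, rfl⟩, hyW, hWU⟩ := X.isBasis_affineOpens.exists_subset_of_mem_open y.2 U.2
    have hWU' : W ≤ U := hWU
    obtain ⟨t, ht, htV⟩ :=
      Groth.Agent.Lib.Helper29.MeroDiv.exists_regular_basicOpen_le_of_noetherian hW V (hV W hWU')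
    exact ⟨W, hW, hyW, hWU', t, ht, htV⟩
  · obtain ⟨W', hyW', hfinW'⟩ := hfin y.1
    obtain ⟨_, ⟨W, hW, rfl⟩, hyW, hWsub⟩ := X.isBasis_affineOpens.exists_subset_of_mem_open
      (show y.1 ∈ ((U ⊓ W' : X.Opens) : Set X) from ⟨y.2, hyW'⟩) (U ⊓ W').2
    have hWU' : W ≤ U := fun z hz => (hWsub hz).1
    have hWW' : W ≤ W' := fun z hz => (hWsub hz).2
    have hmin := Groth.Agent.Lib.Helper29.MeroDiv.finite_minimalPrimes_of_finite_components hW
      (Groth.Agent.Lib.Helper29.MeroDiv.finite_components_of_locallyFinite hWW' hfinW')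
    obtain ⟨t, ht, htV⟩ :=
      Groth.Agent.Lib.Helper29.MeroDiv.exists_regular_basicOpen_le_of_reduced hW hmin V (hV W hWU')
    exact ⟨W, hW, hyW, hWU', t, ht, htV⟩



end Groth.Agent.S5086
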