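import Groth.Statements.S8869
-- import your own Groth.Agent.* helpers here
import Mathlib

set_option autoImplicit false
universe u
open CategoryTheory CategoryTheory.Limits AlgebraicGeometry TopologicalSpace
open SDiv

namespace Groth.Agent.S8869

open Opposite

/-- algebra: in a reduced local ring, some element has annihilator with radical `m` iff `m` is the only prime. -/
theorem alg (R : Type u) [CommRing R] [IsLocalRing R] [IsReduced R] :
    (∃ t : R, Ideal.radical (LinearMap.ker (LinearMap.toSpanSingleton R R t)) =
      IsLocalRing.maximalIdeal R) ↔ ∀ p : Ideal R, p.IsPrime → p = IsLocalRing.maximalIdeal R := by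
  constructor
  · rintro ⟨t, ht⟩
    have hker : ∀ r : R, r ∈ LinearMap.ker (LinearMap.toSpanSingleton R R t) ↔ r * t = 0 := by
      intro r
      rw [LinearMap.mem_ker, LinearMap.toSpanSingleton_apply, smul_eq_mul]
    have ht0 : t ≠ 0 := by
      rintro rfl
      have : LinearMap.ker (LinearMap.toSpanSingleton R R (0 : R)) = ⊤ := by
        ext r; simp [hker]
      rw [this, Ideal.radical_top] at ht
      exact (IsLocalRing.maximalIdeal.isMaximal R).ne_top ht.symm
    -- some prime does not contain t
    have hex : ∃ q : Ideal R, q.IsPrime ∧ t ∉ q := by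
      by_contra hno
      push Not at hno
      have : t ∈ nilradical R := by
        rw [nilradical_eq_sInf, Ideal.mem_sInf]
        intro q hq
        exact hno q hq
      rw [nilradical_eq_zero R] at this
      exact ht0 this
    obtain ⟨q, hq, htq⟩ := hex
    have hann : LinearMap.ker (LinearMap.toSpanSingleton R R t) ≤ q := by
      intro r hr
      rw [hker] at hr
      have : r * t ∈ q := hr ▸ q.zero_mem
      exact (hq.mem_or_mem this).resolve_right htq
    have hmq : IsLocalRing.maximalIdeal R ≤ q := by
      rw [← ht]
      exact (hq.radical_le_iff).2 hann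
    have hqm : q = IsLocalRing.maximalIdeal R :=
      le_antisymm (IsLocalRing.le_maximalIdeal hq.ne_top) hmq
    -- so t is a unit
    have htu : IsUnit t := by
      by_contra hnu
      exact htq (hqm ▸ (IsLocalRing.mem_maximalIdeal t).2 hnu)
    have hbot : LinearMap.ker (LinearMap.toSpanSingleton R R t) = ⊥ := by
      ext r
      rw [hker, Ideal.mem_bot]
      exact ⟨fun h => (htu.mul_left_eq_zero).1 h, fun h => by rw [h, zero_mul]⟩
    have hm0 : IsLocalRing.maximalIdeal R = ⊥ := by
      rw [← ht, hbot]
      exact nilradical_eq_zero R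
    intro p hp
    rw [hm0]
    exact le_bot_iff.1 (hm0 ▸ IsLocalRing.le_maximalIdeal hp.ne_top)
  · intro h
    have hm0 : IsLocalRing.maximalIdeal R = ⊥ := by
      have : nilradical R = IsLocalRing.maximalIdeal R := by
        rw [nilradical_eq_sInf]
        apply le_antisymm
        · exact sInf_le (IsLocalRing.maximalIdeal.isMaximal R).isPrime
        · apply le_sInf
          intro p hp
          exact (h p hp).ge
      rw [← this]
      exact nilradical_eq_zero R
    refine ⟨1, ?_⟩
    have hbot : LinearMap.ker (LinearMap.toSpanSingleton R R (1 : R)) = ⊥ := by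
      ext r
      rw [LinearMap.mem_ker, LinearMap.toSpanSingleton_apply, smul_eq_mul, mul_one, Ideal.mem_bot]
    rw [hbot, hm0]
    exact nilradical_eq_zero R

theorem gen (X : Scheme.{u}) (x : X) :
    (∀ p : Ideal (X.presheaf.stalk x), p.IsPrime → p = IsLocalRing.maximalIdeal (X.presheaf.stalk x)) ↔
      ∀ y : X, y ⤳ x → y = x := by
  constructor
  · intro h y hy
    have : y ∈ Set.range (X.fromSpecStalk x) := by
      rw [Scheme.range_fromSpecStalk]; exact hy
    obtain ⟨p, rfl⟩ := this
    have hp : p = IsLocalRing.closedPoint (X.presheaf.stalk x) := by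
      apply PrimeSpectrum.ext
      exact h p.asIdeal p.isPrime
    rw [hp, Scheme.fromSpecStalk_closedPoint]
  · intro h p hp
    let P : PrimeSpectrum (X.presheaf.stalk x) := ⟨p, hp⟩
    have hy : (X.fromSpecStalk x) P ⤳ x := by
      have : (X.fromSpecStalk x) P ∈ Set.range (X.fromSpecStalk x) := ⟨P, rfl⟩
      rw [Scheme.range_fromSpecStalk] at this
      exact this
    have h1 := h _ hy
    have h2 : (X.fromSpecStalk x) P = (X.fromSpecStalk x) (IsLocalRing.closedPoint _) := by
      rw [h1, Scheme.fromSpecStalk_closedPoint]
    have h3 := (X.fromSpecStalk x).isEmbedding.injective h2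
    exact congrArg PrimeSpectrum.asIdeal h3


section

variable (X : Scheme.{u}) (x : X)

noncomputable abbrev F := Coh.structureModule X

/-- the germ of a section of `O_X`, viewed in the stalk of the structure module -/
noncomputable def gF (U : X.Opens) (hx : x ∈ U) (s : Γ(X, U)) : (F X).presheaf.stalk x :=
  (F X).presheaf.germ U x hx (show (F X).presheaf.obj (op U) from s)

theorem germ_smul_gF (U : X.Opens) (hx : x ∈ U) (r s : Γ(X, U)) :
    X.presheaf.germ U x hx r • gF X x U hx s = gF X x U hx (r * s) :=
  (PresheafOfModules.germ_smul (R := X.presheaf) (F X).val x U hx r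
    (show (F X).presheaf.obj (op U) from s)).symm

theorem gF_eq_zero (U : X.Opens) (hx : x ∈ U) (s : Γ(X, U)) (h : gF X x U hx s = 0) :
    X.presheaf.germ U x hx s = 0 := by
  have h0 : gF X x U hx s = gF X x U hx 0 := by
    rw [h]
    unfold gF
    exact (map_zero _).symm
  obtain ⟨W, hxW, iU, iV, hres⟩ := TopCat.Presheaf.germ_eq (F X).presheaf x hx hx _ _ h0
  have hres' : X.presheaf.map iU.op s = X.presheaf.map iV.op 0 := hres
  rw [← TopCat.Presheaf.germ_res_apply X.presheaf iU x hxW s, hres', map_zero, map_zero]

theorem exists_gF (μ : (F X).presheaf.stalk x) : ∃ (U : X.Opens) (hx : x ∈ U) (s : Γ(X, U)),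
    gF X x U hx s = μ := by
  obtain ⟨U, hx, s, hs⟩ := TopCat.Presheaf.exists_germ_eq (F X).presheaf μ
  exact ⟨U, hx, s, hs⟩

theorem gF_res {U V : X.Opens} (i : U ⟶ V) (hx : x ∈ U) (s : Γ(X, V)) :
    gF X x U hx (X.presheaf.map i.op s) = gF X x V (i.le hx) s :=
  TopCat.Presheaf.germ_res_apply (F X).presheaf i x hx (show (F X).presheaf.obj (op V) from s)

/-- the generator: germ of `1` -/
noncomputable def one : (F X).presheaf.stalk x := gF X x ⊤ trivial 1

theorem smul_one (U : X.Opens) (hx : x ∈ U) (s : Γ(X, U)) :
    X.presheaf.germ U x hx s • one X x = gF X x U hx s := by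
  have h1 : one X x = gF X x U hx 1 := by
    unfold one
    rw [← gF_res X x (homOfLE le_top : U ⟶ ⊤) hx 1, map_one]
  rw [h1, germ_smul_gF, mul_one]

theorem bij : Function.Bijective
    (LinearMap.toSpanSingleton (X.presheaf.stalk x) ((F X).presheaf.stalk x) (one X x)) := by
  constructor
  · rw [← LinearMap.ker_eq_bot, LinearMap.ker_eq_bot']
    intro r hr
    obtain ⟨U, hx, s, rfl⟩ := TopCat.Presheaf.exists_germ_eq X.presheaf r
    rw [LinearMap.toSpanSingleton_apply, smul_one] at hr
    exact gF_eq_zero X x U hx s hr
  · intro μ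
    obtain ⟨U, hx, s, rfl⟩ := exists_gF X x μ
    exact ⟨X.presheaf.germ U x hx s, by rw [LinearMap.toSpanSingleton_apply, smul_one]⟩

/-- the stalk of the structure module is the stalk of the structure sheaf -/
noncomputable def e : X.presheaf.stalk x ≃ₗ[X.presheaf.stalk x] (F X).presheaf.stalk x :=
  LinearEquiv.ofBijective _ (bij X x)

theorem weakAss_iff : Curv2.IsWeakAssPoint (F X) x ↔
    ∃ t : X.presheaf.stalk x, Ideal.radical (LinearMap.ker
      (LinearMap.toSpanSingleton (X.presheaf.stalk x) (X.presheaf.stalk x) t))
      = IsLocalRing.maximalIdeal (X.presheaf.stalk x) := by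
  have key : ∀ t : X.presheaf.stalk x,
      LinearMap.ker (LinearMap.toSpanSingleton (X.presheaf.stalk x) ((F X).presheaf.stalk x)
        (e X x t)) =
      LinearMap.ker (LinearMap.toSpanSingleton (X.presheaf.stalk x) (X.presheaf.stalk x) t) := by
    intro t
    ext r
    rw [LinearMap.mem_ker, LinearMap.mem_ker, LinearMap.toSpanSingleton_apply,
      LinearMap.toSpanSingleton_apply, ← map_smul, LinearEquiv.map_eq_zero_iff]
  constructor
  · rintro ⟨μ, hμ⟩
    refine ⟨(e X x).symm μ, ?_⟩
    rw [← key, LinearEquiv.apply_symm_apply]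
    exact hμ
  · rintro ⟨t, ht⟩
    refine ⟨e X x t, ?_⟩
    rw [key]
    exact ht

end

/-- Assume X is a reduced scheme and x is a point of X. Then x is weakly associated to the structure
sheaf O_X exactly when every generization of x equals x itself; equivalently, x is a generic point
of some irreducible component of X. -/
theorem result (X : Scheme.{u}) [IsReduced X] (x : ↥X) :
    Curv2.IsWeakAssPoint (Coh.structureModule X) x ↔ ∀ y : ↥X, y ⤳ x → y = x := by
  have : IsReduced (X.presheaf.stalk x) := inferInstance
  exact (weakAss_iff X x).trans ((alg (X.presheaf.stalk x)).trans (gen X x))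

end Groth.Agent.S8869
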