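import Groth.Statements.S8861
import Groth.Agent.S8869
import Groth.Agent.Lib.Helper29.BlowUpUP2

set_option autoImplicit false
universe u
open CategoryTheory CategoryTheory.Limits AlgebraicGeometry TopologicalSpace
open SDiv

namespace Groth.Agent.S8861

open Groth.Agent.Lib.Helper29.EffCart Groth.Agent.Lib.Helper29.FlatExt

/-- If `s ≠ 0` is a section over an affine open `W` and `q` is a prime minimal over the annihilator
of `s`, then the point of `W` corresponding to `q` is weakly associated to `O_X`. -/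
lemma isWeakAssPoint_of_minimalPrimes_ann {X : Scheme.{u}} (W : X.affineOpens) (s : Γ(X, W.1))
    (q : PrimeSpectrum Γ(X, W.1))
    (hq : q.asIdeal ∈ Ideal.minimalPrimes
      (LinearMap.ker (LinearMap.toSpanSingleton Γ(X, W.1) Γ(X, W.1) s) : Ideal Γ(X, W.1))) :
    Curv2.IsWeakAssPoint (Coh.structureModule X) (W.2.fromSpec q) := by
  rw [Groth.Agent.S8869.weakAss_iff]
  set J : Ideal Γ(X, W.1) := LinearMap.ker (LinearMap.toSpanSingleton Γ(X, W.1) Γ(X, W.1) s) with hJ
  have hmemJ : ∀ r : Γ(X, W.1), r ∈ J ↔ r * s = 0 := by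
    intro r
    rw [hJ, LinearMap.mem_ker, LinearMap.toSpanSingleton_apply, smul_eq_mul]
  set x := W.2.fromSpec q with hx
  have hxW : x ∈ W.1 := fromSpec_mem W q
  letI := X.presheaf.algebra_section_stalk ⟨x, hxW⟩
  haveI := W.2.isLocalization_stalk ⟨x, hxW⟩
  have hp : W.2.primeIdealOf ⟨x, hxW⟩ = q :=
    fromSpec_injective W (W.2.fromSpec_primeIdealOf ⟨x, hxW⟩)
  have hq' : (W.2.primeIdealOf ⟨x, hxW⟩).asIdeal ∈ J.minimalPrimes := by rw [hp]; exact hq
  have hrad := IsLocalization.AtPrime.radical_map_of_mem_minimalPrimes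
    (A := X.presheaf.stalk x) (W.2.primeIdealOf ⟨x, hxW⟩).asIdeal J hq'
  rw [IsLocalization.AtPrime.map_eq_maximalIdeal (W.2.primeIdealOf ⟨x, hxW⟩).asIdeal
    (X.presheaf.stalk x)] at hrad
  refine ⟨X.presheaf.germ W.1 x hxW s, ?_⟩
  set t := X.presheaf.germ W.1 x hxW s with ht
  have hne : t ≠ 0 := by
    intro h0
    obtain ⟨g, hg, hgs⟩ := stalk_affine_eq_zero W.2 x hxW s h0
    have hgJ : g ∈ J := (hmemJ g).2 hgs
    have hgq : g ∈ q.asIdeal := hq.1.2 hgJ
    have hmem : x ∈ X.basicOpen g := (Scheme.mem_basicOpen _ _ _ hxW).2 hg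
    exact (fromSpec_mem_basicOpen_iff W q g).1 hmem hgq
  apply le_antisymm
  · have hprop : LinearMap.ker (LinearMap.toSpanSingleton (X.presheaf.stalk x)
        (X.presheaf.stalk x) t) ≠ ⊤ := by
      intro htop
      have h1 : (1 : X.presheaf.stalk x) ∈ LinearMap.ker (LinearMap.toSpanSingleton
        (X.presheaf.stalk x) (X.presheaf.stalk x) t) := htop ▸ Submodule.mem_top
      rw [LinearMap.mem_ker, LinearMap.toSpanSingleton_apply, one_smul] at h1
      exact hne h1
    exact ((IsLocalRing.maximalIdeal.isMaximal _).isPrime.radical_le_iff).2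
      (IsLocalRing.le_maximalIdeal hprop)
  · rw [← hrad]
    apply Ideal.radical_mono
    rw [Ideal.map_le_iff_le_comap]
    intro r hr
    rw [Ideal.mem_comap, LinearMap.mem_ker, LinearMap.toSpanSingleton_apply, smul_eq_mul]
    have : algebraMap Γ(X, W.1) (X.presheaf.stalk x) r = X.presheaf.germ W.1 x hxW r := rfl
    rw [this, ht, ← map_mul, (hmemJ r).1 hr, map_zero]

/-- Let f : X ⟶ Y be a morphism of schemes and 𝓘 the ideal sheaf of an effective Cartier divisor D ⊆ Y.
If f x ∉ D for every weakly associated point x of X (weakly associated point of the structure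
sheaf), then the inverse image ideal sheaf of 𝓘 on X is the ideal of an effective Cartier divisor,
i.e. the pullback of D by f is defined. -/
theorem result {X Y : Scheme.{u}} (f : X ⟶ Y) (𝓘 : Y.IdealSheafData)
    (hD : BlowUp.IsEffCartierIdeal 𝓘)
    (h : ∀ x : ↥X, Curv2.IsWeakAssPoint (Coh.structureModule X) x → f x ∉ 𝓘.support) :
    BlowUp.IsEffCartierIdeal (𝓘.comap f) := by
  intro x
  obtain ⟨U, hU, d, hd, hI⟩ := hD (f x)
  obtain ⟨_, ⟨W, hW, rfl⟩, hxW, hle⟩ := X.isBasis_affineOpens.exists_subset_of_mem_open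
    (show x ∈ f ⁻¹ᵁ U.1 from hU) (f ⁻¹ᵁ U.1).2
  refine ⟨⟨W, hW⟩, hxW, (f.appLE U.1 W hle).hom d, ?_, ?_⟩
  · rw [mem_nonZeroDivisors_iff_right]
    intro s hs
    by_contra hs0
    set J : Ideal Γ(X, W) := LinearMap.ker (LinearMap.toSpanSingleton Γ(X, W) Γ(X, W) s) with hJ
    have hmemJ : ∀ r : Γ(X, W), r ∈ J ↔ r * s = 0 := by
      intro r
      rw [hJ, LinearMap.mem_ker, LinearMap.toSpanSingleton_apply, smul_eq_mul]
    have hJtop : J ≠ ⊤ := by
      intro htop
      have h1 : (1 : Γ(X, W)) ∈ J := htop ▸ Submodule.mem_top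
      rw [hmemJ, one_mul] at h1
      exact hs0 h1
    obtain ⟨M, hM, hJM⟩ := Ideal.exists_le_maximal J hJtop
    haveI := hM.isPrime
    obtain ⟨q, hq, -⟩ := Ideal.exists_minimalPrimes_le hJM
    let Q : PrimeSpectrum Γ(X, W) := ⟨q, hq.1.1⟩
    have hwa := isWeakAssPoint_of_minimalPrimes_ann ⟨W, hW⟩ s Q hq
    have hns := h _ hwa
    apply hns
    have hQW : hW.fromSpec Q ∈ W := fromSpec_mem ⟨W, hW⟩ Q
    have hfU : f (hW.fromSpec Q) ∈ U.1 := hle hQW
    rw [Scheme.IdealSheafData.mem_support_iff_of_mem hfU, hI, Scheme.zeroLocus_span,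
      Scheme.zeroLocus_singleton]
    intro hmem
    have hdq : (f.appLE U.1 W hle).hom d ∈ q := hq.1.2 ((hmemJ _).2 (by rw [mul_comm]; exact hs))
    have h2 : hW.fromSpec Q ∈ X.basicOpen ((f.appLE U.1 W hle).hom d) := by
      have h3 := Scheme.basicOpen_appLE f W U.1 hle d
      have h4 : hW.fromSpec Q ∈ W ⊓ f ⁻¹ᵁ Y.basicOpen d := ⟨hQW, hmem⟩
      rw [← h3] at h4
      exact h4
    exact (fromSpec_mem_basicOpen_iff ⟨W, hW⟩ Q _).1 h2 hdq
  · rw [ideal_comap_eq_map 𝓘 f U ⟨W, hW⟩ hle, hI, Ideal.map_span, Set.image_singleton]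

end Groth.Agent.S8861
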