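import Groth.Statements.S8901
import Groth.Agent.S8861

set_option autoImplicit false
universe u
open CategoryTheory CategoryTheory.Limits AlgebraicGeometry TopologicalSpace
open SDiv

namespace Groth.Agent.S8901

open Groth.Agent.Lib.Helper29.EffCart Groth.Agent.Lib.Helper29.FlatExt

/-- In a local ring whose only prime is the maximal ideal, nonzerodivisors are units. -/
lemma isUnit_of_mem_nonZeroDivisors_of_forall_prime {R : Type*} [CommRing R] [IsLocalRing R]
    (hR : ∀ p : Ideal R, p.IsPrime → p = IsLocalRing.maximalIdeal R) (r : R)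
    (hr : r ∈ nonZeroDivisors R) : IsUnit r := by
  by_contra hnu
  have hm : r ∈ IsLocalRing.maximalIdeal R := (IsLocalRing.mem_maximalIdeal _).2 hnu
  have hnil : r ∈ nilradical R := by
    rw [nilradical_eq_sInf, Ideal.mem_sInf]
    intro p hp
    rw [hR p hp]
    exact hm
  obtain ⟨n, hn⟩ := hnil
  have h0 := pow_mem hr n
  rw [hn] at h0
  have h1 : (1 : R) = 0 := (mem_nonZeroDivisors_iff_right.1 h0) 1 (mul_zero 1)
  exact one_ne_zero h1

/-- Let f : X ⟶ Y be a morphism of schemes under which each weakly associated point of X (of O_X) goes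
to a point of Y with no proper generization (the generic point of some irreducible component of Y).
Then pullbacks of meromorphic functions are defined for f: for every open U ⊆ Y and every regular
section s of O_Y over U, the pulled-back section of O_X over f⁻¹U is regular. -/
theorem result {X Y : Scheme.{u}} (f : X ⟶ Y)
    (h : ∀ x : ↥X, Curv2.IsWeakAssPoint (Coh.structureModule X) x → ∀ y : ↥Y, y ⤳ f x → y = f x)
    (U : Y.Opens) (s : Γ(Y, U)) (hs : s ∈ Mero.regSub Y U) : f.app U s ∈ Mero.regSub X (f ⁻¹ᵁ U) := by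
  intro x₀
  obtain ⟨_, ⟨U₀, hU₀, rfl⟩, hyU₀, hU₀U⟩ := Y.isBasis_affineOpens.exists_subset_of_mem_open
    (show f x₀.1 ∈ U from x₀.2) U.2
  obtain ⟨_, ⟨W, hW, rfl⟩, hxW, hle⟩ := X.isBasis_affineOpens.exists_subset_of_mem_open
    (show x₀.1 ∈ f ⁻¹ᵁ U₀ from hyU₀) (f ⁻¹ᵁ U₀).2
  have hle' : W ≤ f ⁻¹ᵁ U₀ := hle
  set s₀ := (Y.presheaf.map (homOfLE hU₀U).op).hom s with hs₀def
  have hnzd : (f.appLE U₀ W hle').hom s₀ ∈ nonZeroDivisors Γ(X, W) := by
    rw [mem_nonZeroDivisors_iff_right]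
    intro t ht
    by_contra ht0
    set J : Ideal Γ(X, W) := LinearMap.ker (LinearMap.toSpanSingleton Γ(X, W) Γ(X, W) t) with hJ
    have hmemJ : ∀ r : Γ(X, W), r ∈ J ↔ r * t = 0 := by
      intro r
      rw [hJ, LinearMap.mem_ker, LinearMap.toSpanSingleton_apply, smul_eq_mul]
    have hJtop : J ≠ ⊤ := by
      intro htop
      have h1 : (1 : Γ(X, W)) ∈ J := htop ▸ Submodule.mem_top
      rw [hmemJ, one_mul] at h1
      exact ht0 h1
    obtain ⟨M, hM, hJM⟩ := Ideal.exists_le_maximal J hJtop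
    haveI := hM.isPrime
    obtain ⟨q, hq, -⟩ := Ideal.exists_minimalPrimes_le hJM
    let Q : PrimeSpectrum Γ(X, W) := ⟨q, hq.1.1⟩
    have hwa := Groth.Agent.S8861.isWeakAssPoint_of_minimalPrimes_ann ⟨W, hW⟩ t Q hq
    have hgen := h _ hwa
    have hQW : hW.fromSpec Q ∈ W := fromSpec_mem ⟨W, hW⟩ Q
    have hηU₀ : f (hW.fromSpec Q) ∈ U₀ := hle' hQW
    have hηU : f (hW.fromSpec Q) ∈ U := hU₀U hηU₀
    have hnz := hs ⟨f (hW.fromSpec Q), hηU⟩
    have hprimes := (Groth.Agent.S8869.gen Y (f (hW.fromSpec Q))).2 hgen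
    have hunit : IsUnit (Y.presheaf.germ U (f (hW.fromSpec Q)) hηU s) :=
      isUnit_of_mem_nonZeroDivisors_of_forall_prime hprimes _ hnz
    have hres : Y.presheaf.germ U₀ (f (hW.fromSpec Q)) hηU₀ s₀ =
        Y.presheaf.germ U (f (hW.fromSpec Q)) hηU s :=
      Y.presheaf.germ_res_apply (homOfLE hU₀U) _ hηU₀ s
    have hη : f (hW.fromSpec Q) ∈ Y.basicOpen s₀ :=
      (Scheme.mem_basicOpen _ _ _ hηU₀).2 (hres ▸ hunit)
    have hdq : (f.appLE U₀ W hle').hom s₀ ∈ q :=
      hq.1.2 ((hmemJ _).2 (by rw [mul_comm]; exact ht))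
    have h2 : hW.fromSpec Q ∈ X.basicOpen ((f.appLE U₀ W hle').hom s₀) := by
      have h3 := Scheme.basicOpen_appLE f W U₀ hle' s₀
      have h4 : hW.fromSpec Q ∈ W ⊓ f ⁻¹ᵁ Y.basicOpen s₀ := ⟨hQW, hη⟩
      rw [← h3] at h4
      exact h4
    exact (fromSpec_mem_basicOpen_iff ⟨W, hW⟩ Q _).1 h2 hdq
  have hg := germ_mem_nonZeroDivisors hW x₀.1 hxW _ hnzd
  have hle2 : W ≤ f ⁻¹ᵁ U := hle'.trans (fun z hz => hU₀U hz)
  have e1 : (f.appLE U₀ W hle').hom s₀ = (f.appLE U W hle2).hom s := by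
    have := congrArg CommRingCat.Hom.hom (f.map_appLE hle' (homOfLE hU₀U).op)
    exact DFunLike.congr_fun this s
  have e2 : (f.appLE U W hle2).hom s =
      (X.presheaf.map (homOfLE hle2).op).hom ((f.app U).hom s) := rfl
  have e3 : X.presheaf.germ W x₀.1 hxW ((f.appLE U₀ W hle').hom s₀) =
      X.presheaf.germ (f ⁻¹ᵁ U) x₀.1 x₀.2 ((f.app U).hom s) := by
    rw [e1, e2]
    exact X.presheaf.germ_res_apply (homOfLE hle2) x₀.1 hxW _
  rw [e3] at hg
  exact hg

end Groth.Agent.S8901
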