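import Groth.Statements.S7346
import Groth.Agent.Lib.Helper29.NumTypeNeg

set_option autoImplicit false
open Finset
open Models Models.NumericalType

namespace Groth.Agent.S7346

open Groth.Agent.Lib.Helper29.NumType


/-- Classification of proper subgraphs of type D4 (one vertex joined to three others): let T be a
numerical type on n > 4 indices and i_1, …, i_4 distinct (-2)-indices with a_{12}, a_{13}, a_{14}
nonzero. Then for some integer w all w_{i_j} equal w, these intersection numbers equal w, all other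
a_{i_j i_k} (j ≠ k) vanish, and 2 m_1 ≥ m_2 + m_3 + m_4, 2 m_2 ≥ m_1, 2 m_3 ≥ m_1, 2 m_4 ≥ m_1. -/
theorem result {n : ℕ} (T : Models.NumericalType n) (hn : 4 < n)
    (v : Fin 4 ↪ Fin n) (hv : ∀ j, T.IsMinusTwo (v j)) (h01 : T.a (v 0) (v 1) ≠ 0) (h02 : T.a (v 0) (v 2) ≠ 0) (h03 : T.a (v 0) (v 3) ≠ 0) :
    ∃ w : ℤ, (∀ j : Fin 4, T.w (v j) = w) ∧
      T.a (v 0) (v 1) = w ∧
      T.a (v 0) (v 2) = w ∧
      T.a (v 0) (v 3) = w ∧
      T.a (v 1) (v 2) = 0 ∧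
      T.a (v 1) (v 3) = 0 ∧
      T.a (v 2) (v 3) = 0 ∧
      T.m (v 1) + T.m (v 2) + T.m (v 3) ≤ 2 * T.m (v 0) ∧
      T.m (v 0) ≤ 2 * T.m (v 1) ∧
      T.m (v 0) ≤ 2 * T.m (v 2) ∧
      T.m (v 0) ≤ 2 * T.m (v 3) := by
  have p01 := a_pos_emb T v (show (0 : Fin 4) ≠ 1 by decide) h01
  have p02 := a_pos_emb T v (show (0 : Fin 4) ≠ 2 by decide) h02
  have p03 := a_pos_emb T v (show (0 : Fin 4) ≠ 3 by decide) h03
  obtain ⟨p1, q1, hp1, hq1, e1, f1⟩ := exists_quot T _ _ p01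
  obtain ⟨p2, q2, hp2, hq2, e2, f2⟩ := exists_quot T _ _ p02
  obtain ⟨p3, q3, hp3, hq3, e3, f3⟩ := exists_quot T _ _ p03
  have hneg := neg4 T hn v 2 q1 q2 q3 (Or.inl (by norm_num))
  have d0 := (hv 0).2
  have d1 := (hv 1).2
  have d2 := (hv 2).2
  have d3 := (hv 3).2
  have n12 := a_nonneg_emb T v (show (1 : Fin 4) ≠ 2 by decide)
  have n13 := a_nonneg_emb T v (show (1 : Fin 4) ≠ 3 by decide)
  have n23 := a_nonneg_emb T v (show (2 : Fin 4) ≠ 3 by decide)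
  have hw0 := T.w_pos (v 0)
  rw [d0, d1, d2, d3] at hneg
  have c12 : 0 ≤ T.a (v 1) (v 2) * q1 * q2 := by positivity
  have c13 : 0 ≤ T.a (v 1) (v 3) * q1 * q3 := by positivity
  have c23 : 0 ≤ T.a (v 2) (v 3) * q2 * q3 := by positivity
  have g1 : T.w (v 1) * q1 * q1 = T.a (v 0) (v 1) * q1 := by rw [f1]; ring
  have g2 : T.w (v 2) * q2 * q2 = T.a (v 0) (v 2) * q2 := by rw [f2]; ring
  have g3 : T.w (v 3) * q3 * q3 = T.a (v 0) (v 3) * q3 := by rw [f3]; ring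
  have k1 : T.a (v 0) (v 1) * q1 = (p1 * q1) * T.w (v 0) := by rw [e1]; ring
  have k2 : T.a (v 0) (v 2) * q2 = (p2 * q2) * T.w (v 0) := by rw [e2]; ring
  have k3 : T.a (v 0) (v 3) * q3 = (p3 * q3) * T.w (v 0) := by rw [e3]; ring
  have hsum : (p1 * q1 + p2 * q2 + p3 * q3) * T.w (v 0) < 4 * T.w (v 0) := by linarith
  have hsum' : p1 * q1 + p2 * q2 + p3 * q3 < 4 := lt_of_mul_lt_mul_right hsum hw0.le
  have P1 := pq_ge_one hp1 hq1
  have P2 := pq_ge_one hp2 hq2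
  have P3 := pq_ge_one hp3 hq3
  obtain ⟨rfl, rfl⟩ := pq_one hp1 hq1 (by omega)
  obtain ⟨rfl, rfl⟩ := pq_one hp2 hq2 (by omega)
  obtain ⟨rfl, rfl⟩ := pq_one hp3 hq3 (by omega)
  simp only [one_mul, mul_one] at *
  -- now all weights are equal
  have w1 : T.w (v 1) = T.w (v 0) := by rw [← f1, e1]
  have w2 : T.w (v 2) = T.w (v 0) := by rw [← f2, e2]
  have w3 : T.w (v 3) = T.w (v 0) := by rw [← f3, e3]
  have hlt : T.a (v 1) (v 2) + T.a (v 1) (v 3) + T.a (v 2) (v 3) < T.w (v 0) := by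
    rw [w1, w2, w3] at hneg
    linarith
  have z12 : T.a (v 1) (v 2) = 0 :=
    eq_zero_of_dvd_of_lt (w1 ▸ T.w_dvd (v 1) (v 2)) n12 (by linarith)
  have z13 : T.a (v 1) (v 3) = 0 :=
    eq_zero_of_dvd_of_lt (w1 ▸ T.w_dvd (v 1) (v 3)) n13 (by linarith)
  have z23 : T.a (v 2) (v 3) = 0 :=
    eq_zero_of_dvd_of_lt (w2 ▸ T.w_dvd (v 2) (v 3)) n23 (by linarith)
  have r0 := row_le T v 0
  have r1 := row_le T v 1
  have r2 := row_le T v 2
  have r3 := row_le T v 3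
  simp only [Fin.sum_univ_four] at r0 r1 r2 r3
  rw [a_symm T (v 1) (v 0)] at r1
  rw [a_symm T (v 2) (v 0), a_symm T (v 2) (v 1)] at r2
  rw [a_symm T (v 3) (v 0), a_symm T (v 3) (v 1), a_symm T (v 3) (v 2)] at r3
  rw [d0, e1, e2, e3] at r0
  rw [d1, e1, z12, z13, w1] at r1
  rw [d2, e2, z12, z23, w2] at r2
  rw [d3, e3, z13, z23, w3] at r3
  refine ⟨T.w (v 0), ?_, e1, e2, e3, z12, z13, z23, ?_, ?_, ?_, ?_⟩
  · intro j
    fin_cases j
    · rfl
    · exact w1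
    · exact w2
    · exact w3
  · have : T.w (v 0) * (T.m (v 1) + T.m (v 2) + T.m (v 3)) ≤ T.w (v 0) * (2 * T.m (v 0)) := by linarith
    exact le_of_mul_le_mul_left this hw0
  · have : T.w (v 0) * T.m (v 0) ≤ T.w (v 0) * (2 * T.m (v 1)) := by linarith
    exact le_of_mul_le_mul_left this hw0
  · have : T.w (v 0) * T.m (v 0) ≤ T.w (v 0) * (2 * T.m (v 2)) := by linarith
    exact le_of_mul_le_mul_left this hw0
  · have : T.w (v 0) * T.m (v 0) ≤ T.w (v 0) * (2 * T.m (v 3)) := by linarith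
    exact le_of_mul_le_mul_left this hw0

end Groth.Agent.S7346
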