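import Groth.Statements.S9373
import Groth.Agent.Lib.Helper17.ModStalk
import Mathlib
set_option backward.isDefEq.respectTransparency.types false

set_option autoImplicit false
universe u
open QCohSub

namespace Groth.Agent.S9373
open AlgebraicGeometry CategoryTheory
open Groth.Agent.Lib.Helper17.ModStalk

theorem mem_support_iff (X : Scheme.{u}) (F : X.Modules) [F.IsQuasicoherent]
    {U : X.Opens} (hU : IsAffineOpen U) (x : X) (hx : x ∈ U) :
    hU.primeIdealOf ⟨x, hx⟩ ∈ Module.support Γ(X, U) Γ(F, U) ↔ x ∈ CohB1.support F := by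
  letI := moduleStalkSections F U x hx
  haveI := isLocalizedModule_germLinear F hU x hx
  rw [Module.mem_support_iff]
  change _ ↔ ¬ Subsingleton (F.presheaf.stalk x)
  rw [not_subsingleton_iff_nontrivial]
  let e := IsLocalizedModule.iso (hU.primeIdealOf ⟨x, hx⟩).asIdeal.primeCompl (germLinear F U x hx)
  exact e.toEquiv.nontrivial_congr


open AlgebraicGeometry CategoryTheory in
/-- The support of a quasi-coherent O_X-module is closed under specialization. -/
theorem result (X : Scheme.{u}) (F : X.Modules) (hF : Coh.IsQCoh F) :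
    StableUnderSpecialization (CohB1.support F) := by
  haveI : F.IsQuasicoherent := hF
  intro x y hxy hx
  obtain ⟨_, ⟨U, hU, rfl⟩, hyU, -⟩ :=
    X.isBasis_affineOpens.exists_subset_of_mem_open (Set.mem_univ y) isOpen_univ
  have hxU : x ∈ U := hxy.mem_open U.2 hyU
  rw [← mem_support_iff X F hU y hyU]
  rw [← mem_support_iff X F hU x hxU] at hx
  refine Module.mem_support_mono ?_ hx
  rw [PrimeSpectrum.le_iff_specializes]
  have h1 : (⟨x, hxU⟩ : U) ⤳ ⟨y, hyU⟩ := (subtype_specializes_iff _ _).2 hxy
  exact h1.map hU.isoSpec.hom.continuous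

end Groth.Agent.S9373
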