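import Groth.Statements.S5954
import Groth.Agent.Lib.Helper29.PPChart2
import Groth.Agent.Lib.Helper29.PPBCAlg
import Groth.Agent.Lib.Helper29.GrSection
import Groth.Agent.Lib.Helper28.ModIsoCover
import Groth.Agent.Lib.Helper28.QCohPush

set_option autoImplicit false
universe u
open CategoryTheory CategoryTheory.Limits AlgebraicGeometry TopologicalSpace Opposite
open Nrm16

namespace Groth.Agent.S5954



open Groth.Agent.Lib.Helper29.PPChart Groth.Agent.Lib.Helper29.PPSq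
  Groth.Agent.Lib.Helper29.PPChart2 Groth.Agent.Lib.Helper29.PPBCAlg
  Groth.Agent.Lib.Helper29.OmegaCan Groth.Agent.Lib.Helper29.OmegaLoc TensorProduct
  Groth.Agent.Lib.Helper28.QCohLoc Groth.Agent.Lib.Helper17.PullbackBC
  Groth.Agent.Lib.Helper28.PullbackInv Groth.Agent.Lib.Helper29.GrSection
  Groth.Agent.Lib.Helper29.ConormalAlg

section QC

variable {X S : Scheme.{u}} (f : X ⟶ S) (n : ℕ)

instance isAffineHom_pr1 : IsAffineHom (PrinPart.pr1 f n) := by
  apply isAffineHom_of_forall_exists_isAffineOpen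
  intro x
  obtain ⟨_, ⟨V, hV, rfl⟩, hfV, -⟩ :=
    S.isBasis_affineOpens.exists_subset_of_mem_open (Set.mem_univ (f x)) isOpen_univ
  have h1 : x ∈ f ⁻¹ᵁ V := hfV
  obtain ⟨_, ⟨U, hU, rfl⟩, hxU, hle⟩ :=
    X.isBasis_affineOpens.exists_subset_of_mem_open h1 (f ⁻¹ᵁ V).isOpen
  exact ⟨U, hxU, hU, isAffineOpen_preimage_pr1 f n hU hV hle⟩

instance isQuasicoherent_PMod (F : X.Modules) [F.IsQuasicoherent] :
    (PrinPart.PMod f n F).IsQuasicoherent := by
  haveI : IsSeparated (PrinPart.pr1 f n) := IsSeparated.of_isAffineHom _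
  unfold PrinPart.PMod
  exact isQuasicoherent_pushforward (PrinPart.pr1 f n) _

end QC

section Pi

variable {X S : Scheme.{u}} (f : X ⟶ S) (n : ℕ)
  {U : X.Opens} (hU : IsAffineOpen U) {V : S.Opens} (hV : IsAffineOpen V) (e : U ≤ f ⁻¹ᵁ V)

/-- `B ⊗_A B → Γ(Pⁿ, U)`, `b ⊗ b' ↦ b • dⁿ b'`. -/
noncomputable def πP : letI := alg f e
    Γ(X, U) ⊗[Γ(S, V)] Γ(X, U) →+ Γ(PrinPart.P f n, U) :=
  letI := alg f e
  (AddEquiv.ofBijective (Φ f n U) (Φ_bijective f n U)).symm.toAddMonoidHom.comp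
    (ρ f n hU hV e).toAddMonoidHom

theorem Φ_πP : letI := alg f e
    ∀ t : Γ(X, U) ⊗[Γ(S, V)] Γ(X, U), Φ f n U (πP f n hU hV e t) = ρ f n hU hV e t := by
  letI := alg f e
  intro t
  exact (AddEquiv.ofBijective (Φ f n U) (Φ_bijective f n U)).apply_symm_apply _

theorem πP_surjective : letI := alg f e
    Function.Surjective (πP f n hU hV e) := by
  letI := alg f e
  intro y
  obtain ⟨t, ht⟩ := ρ_surjective f n hU hV e (Φ f n U y)
  exact ⟨t, (Φ_bijective f n U).1 ((Φ_πP f n hU hV e t).trans ht)⟩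

theorem πP_eq_zero_iff : letI := alg f e
    ∀ t : Γ(X, U) ⊗[Γ(S, V)] Γ(X, U), πP f n hU hV e t = 0 ↔
      t ∈ KaehlerDifferential.ideal Γ(S, V) Γ(X, U) ^ (n + 1) := by
  letI := alg f e
  intro t
  rw [← ker_ρ f n hU hV e, RingHom.mem_ker, ← Φ_πP]
  constructor
  · intro h
    rw [h, map_zero]
  · intro h
    exact (Φ_bijective f n U).1 (h.trans (map_zero _).symm)

theorem πP_smul : letI := alg f e
    ∀ (b : Γ(X, U)) (t : Γ(X, U) ⊗[Γ(S, V)] Γ(X, U)),
      πP f n hU hV e ((b ⊗ₜ[Γ(S, V)] 1) * t) = b • πP f n hU hV e t := by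
  letI := alg f e
  intro b t
  apply (Φ_bijective f n U).1
  rw [Φ_πP, Φ_smul, Φ_πP, map_mul, ρ_inl]

theorem πP_tmul : letI := alg f e
    ∀ b b' : Γ(X, U), πP f n hU hV e (b ⊗ₜ[Γ(S, V)] b') = b • PrinPart.dn f n U b' := by
  letI := alg f e
  intro b b'
  apply (Φ_bijective f n U).1
  rw [Φ_πP, Φ_smul, Φ_dn]
  have h1 : b ⊗ₜ[Γ(S, V)] b' = (b ⊗ₜ[Γ(S, V)] 1) * (1 ⊗ₜ[Γ(S, V)] b') := by
    rw [Algebra.TensorProduct.tmul_mul_tmul, mul_one, one_mul]
  rw [h1, map_mul, ρ_inl, ρ_inr]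

end Pi

/-- Let f : X ⟶ S and g : S' ⟶ S be morphisms and X' a fibre product of X and S' over S with projections
u : X' ⟶ X and f' : X' ⟶ S'. For every n let φ : u^* P^n_{X/S} ⟶ P^n_{X'/S'} be the canonical
O_{X'}-linear map of sheaves of principal parts of order n, the one sending the pullback of d^n b to
d^n (u♯ b) for every local function b on X. Then φ is an isomorphism. (The published statement also
asserts that the canonical map u^*Ω_{X/S} ⟶ Ω_{X'/S'} of sheaves of differentials compatible with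
the universal derivations is bijective; this row states only the assertion on sheaves of principal
parts.) -/
theorem result {X S X' S' : Scheme.{u}} (f : X ⟶ S) (g : S' ⟶ S)
    (u : X' ⟶ X) (f' : X' ⟶ S') (hsq : IsPullback u f' f g) (n : ℕ)
    (φ : (Scheme.Modules.pullback u).obj (PrinPart.P f n) ⟶ PrinPart.P f' n)
    (hφ : PrinPart.IsPMap f f' u n φ) :
    IsIso φ := by
  let ι := { p : X.Opens × S.Opens × S'.Opens // IsAffineOpen p.1 ∧ IsAffineOpen p.2.1 ∧
    IsAffineOpen p.2.2 ∧ p.1 ≤ f ⁻¹ᵁ p.2.1 ∧ p.2.2 ≤ g ⁻¹ᵁ p.2.1 }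
  let W : ι → X'.Opens := fun p => u ⁻¹ᵁ p.1.1 ⊓ f' ⁻¹ᵁ p.1.2.2
  have hW : ∀ i, IsAffineOpen (W i) := fun i =>
    isAffineOpen_chart hsq i.2.2.1 i.2.1 i.2.2.2.2.1 i.2.2.2.1 i.2.2.2.2.2
  haveI : (PrinPart.P f n).IsQuasicoherent := isQuasicoherent_PMod f n _
  haveI : (PrinPart.P f' n).IsQuasicoherent := isQuasicoherent_PMod f' n _
  refine isIso_of_affine_cover φ W hW ?_ (fun i => isLocOn_of_isQuasicoherent _ (hW i))
    (fun i => isLocOn_of_isQuasicoherent _ (hW i)) ?_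
  · intro x'
    obtain ⟨_, ⟨V, hV, rfl⟩, hfV, -⟩ :=
      S.isBasis_affineOpens.exists_subset_of_mem_open (Set.mem_univ (f (u x'))) isOpen_univ
    have h1 : u x' ∈ f ⁻¹ᵁ V := hfV
    obtain ⟨_, ⟨U, hU, rfl⟩, hxU, hle⟩ :=
      X.isBasis_affineOpens.exists_subset_of_mem_open h1 (f ⁻¹ᵁ V).isOpen
    have h2 : f' x' ∈ g ⁻¹ᵁ V := by
      change g (f' x') ∈ V
      have h3 : g (f' x') = f (u x') := by
        rw [← Scheme.Hom.comp_apply, ← Scheme.Hom.comp_apply, hsq.w]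
      rw [h3]
      exact hfV
    obtain ⟨_, ⟨V', hV', rfl⟩, hxV', hle'⟩ :=
      S'.isBasis_affineOpens.exists_subset_of_mem_open h2 (g ⁻¹ᵁ V).isOpen
    exact ⟨⟨(U, V, V'), hU, hV, hV', hle, hle'⟩, ⟨hxU, hxV'⟩⟩
  · rintro ⟨⟨U, V, V'⟩, hU, hV, hV', e, eV'⟩
    change Function.Bijective (φ.app (u ⁻¹ᵁ U ⊓ f' ⁻¹ᵁ V'))
    have hW' : IsAffineOpen (u ⁻¹ᵁ U ⊓ f' ⁻¹ᵁ V') := isAffineOpen_chart hsq hV hU e hV' eV'
    have hpo := isPushout_chart hsq hV hU e hV' eV'
    letI := alg f e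
    letI := alg f' (inf_le_right : u ⁻¹ᵁ U ⊓ f' ⁻¹ᵁ V' ≤ f' ⁻¹ᵁ V')
    have hBC1 := isBC_pullback u hU hW' inf_le_left (PrinPart.P f n)
    -- the map `θ`
    let W' : X'.Opens := u ⁻¹ᵁ U ⊓ f' ⁻¹ᵁ V'
    let c : Γ(PrinPart.P f n, U) → Γ((Scheme.Modules.pullback u).obj (PrinPart.P f n), W') :=
      fun m => res ((Scheme.Modules.pullback u).obj (PrinPart.P f n)) inf_le_left
        (pbs u (PrinPart.P f n) U m)
    let θ : Γ(PrinPart.P f n, U) → Γ(PrinPart.P f' n, W') := fun m => φ.app W' (c m)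
    have hc_add : ∀ m m', c (m + m') = c m + c m' := by
      intro m m'
      change res _ _ (pbs u _ U (m + m')) = res _ _ (pbs u _ U m) + res _ _ (pbs u _ U m')
      rw [pbs_add]
      exact map_add _ _ _
    have hθ_add : ∀ m m', θ (m + m') = θ m + θ m' := by
      intro m m'
      change φ.app W' (c (m + m')) = φ.app W' (c m) + φ.app W' (c m')
      rw [hc_add]
      exact map_add _ _ _
    have hθ_zero : θ 0 = 0 := by
      have h := hθ_add 0 0
      rw [add_zero] at h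
      exact (add_eq_left.mp h.symm)
    have hθ_dn : ∀ b b' : Γ(X, U), θ (b • PrinPart.dn f n U b') =
        (u.appLE U W' inf_le_left b) • PrinPart.dn f' n W' (u.appLE U W' inf_le_left b') := by
      intro b b'
      change φ.app W' (res _ _ (pbs u _ U (b • PrinPart.dn f n U b'))) = _
      rw [pbs_smul, res_smul, Scheme.Modules.Hom.app_smul, app_res]
      have h1 : pbs u (PrinPart.P f n) U (PrinPart.dn f n U b') =
          OmegaSh.pullSect u (PrinPart.P f n) U (PrinPart.dn f n U b') := rfl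
      rw [h1, hφ U b']
      have h2 : res (PrinPart.P f' n) (inf_le_left : W' ≤ u ⁻¹ᵁ U)
          (PrinPart.dn f' n (u ⁻¹ᵁ U) (u.app U b')) =
          PrinPart.dn f' n W' (u.appLE U W' inf_le_left b') :=
        (dn_map f' n (inf_le_left : W' ≤ u ⁻¹ᵁ U) (u.app U b')).symm
      rw [h2]
      rfl
    let γ : Γ(S, V) →+* Γ(S', V') := (g.appLE V V' eV').hom
    let υ : Γ(X, U) →+* Γ(X', W') := (u.appLE U W' inf_le_left).hom
    have hpo' : IsPushout (CommRingCat.ofHom (algebraMap Γ(S, V) Γ(X, U))) (CommRingCat.ofHom γ)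
        (CommRingCat.ofHom υ) (CommRingCat.ofHom (algebraMap Γ(S', V') Γ(X', W'))) := hpo
    have hθ : ∀ t : Γ(X, U) ⊗[Γ(S, V)] Γ(X, U), θ (πP f n hU hV e t) =
        πP f' n hW' hV' inf_le_right (τ γ υ hpo' t) := by
      intro t
      induction t using TensorProduct.induction_on with
      | zero => rw [map_zero, map_zero, map_zero, hθ_zero]
      | add x y hx hy => rw [map_add, hθ_add, hx, hy, map_add, map_add]
      | tmul b b' =>
        rw [πP_tmul, hθ_dn, τ_tmul, πP_tmul]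
    have hBC2 : IsBC υ θ :=
      isBC_θ γ υ hpo' (n + 1) (πP f n hU hV e) (πP_surjective f n hU hV e)
        (πP_eq_zero_iff f n hU hV e) (πP_smul f n hU hV e)
        (πP f' n hW' hV' inf_le_right) (πP_surjective f' n hW' hV' inf_le_right)
        (πP_eq_zero_iff f' n hW' hV' inf_le_right) (πP_smul f' n hW' hV' inf_le_right) θ hθ
    exact bijective_of_isBC_of_isBC υ c θ hBC1 hBC2 (φ.app W').hom
      (fun s t => Scheme.Modules.Hom.app_smul φ s t) (fun _ => rfl)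



end Groth.Agent.S5954
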