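import Groth.Statements.S10290
import Groth.Agent.Lib.Helper3.ValCrit

set_option autoImplicit false
universe u
open CategoryTheory CategoryTheory.Limits AlgebraicGeometry
open AlgSp

namespace Groth.Agent.S10290

/-- A separated morphism of algebraic spaces satisfies the uniqueness part of the valuative criterion. -/
theorem result {S : Scheme.{u}} {X Y : AlgSp.Space S} (f : X ⟶ Y)
    (hf : AlgSp.IsSeparatedMor f.hom) : AlgSp.UniqVC f.hom := by
  intro sq l l' h1 h2 h1' h2'
  have hw : l ≫ f.hom = l' ≫ f.hom := by rw [h2, h2']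
  let m : (AlgSp.yon S).obj sq.ptA ⟶ pullback f.hom f.hom := pullback.lift l l' hw
  have sqW := hf.rep.isPullback m
  have hci : IsClosedImmersion (hf.rep.snd m).left := hf.property_snd m
  have hm : (AlgSp.yon S).map sq.j ≫ m = sq.top ≫ pullback.diagonal f.hom := by
    apply pullback.hom_ext
    · simp only [m, Category.assoc, pullback.lift_fst, pullback.diagonal_fst, Category.comp_id, h1]
    · simp only [m, Category.assoc, pullback.lift_snd, pullback.diagonal_snd, Category.comp_id, h1']
  obtain ⟨s₀, hs₀⟩ := (AlgSp.yon S).map_surjective (sqW.lift sq.top ((AlgSp.yon S).map sq.j) hm.symm)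
  have hs : s₀ ≫ hf.rep.snd m = sq.j := by
    apply (AlgSp.yon S).map_injective
    rw [Functor.map_comp, hs₀, sqW.lift_snd]
  have hs' : s₀.left ≫ (hf.rep.snd m).left =
      Spec.map (CommRingCat.ofHom (algebraMap sq.A sq.K)) := by
    rw [← Over.comp_left, hs]; rfl
  have hiso : IsIso (hf.rep.snd m).left :=
    Groth.Agent.Lib.Helper3.isIso_of_closedImmersion_of_fractionRing (A := sq.A) (K := sq.K) _ s₀.left hs'
  have hiso' : IsIso (hf.rep.snd m) := by
    have : IsIso ((Over.forget S).map (hf.rep.snd m)) := hiso
    exact isIso_of_reflects_iso _ (Over.forget S)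
  have hm' : m = (AlgSp.yon S).map (inv (hf.rep.snd m)) ≫ hf.rep.fst m ≫ pullback.diagonal f.hom := by
    rw [sqW.w, ← Category.assoc, ← Functor.map_comp, IsIso.inv_hom_id,
      CategoryTheory.Functor.map_id, Category.id_comp]
  have e1 : l = m ≫ pullback.fst f.hom f.hom := (pullback.lift_fst _ _ _).symm
  have e2 : l' = m ≫ pullback.snd f.hom f.hom := (pullback.lift_snd _ _ _).symm
  rw [e1, e2, hm']
  simp only [Category.assoc, pullback.diagonal_fst, pullback.diagonal_snd]

end Groth.Agent.S10290
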