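import Groth.Statements.S9919
import Groth.Agent.Lib.Helper3.AlgSpQC5

set_option autoImplicit false
universe u
open CategoryTheory CategoryTheory.Limits AlgebraicGeometry
open AlgSp

namespace Groth.Agent.S9919

/-- For morphisms f : X -> Y and g : Y -> Z of algebraic spaces, quasi-compactness of the composite
together with quasi-separatedness of g forces f to be quasi-compact. -/
theorem result {S : Scheme.{u}} {X Y Z : AlgSp.Space S} (f : X ⟶ Y)
    (g : Y ⟶ Z) (hgf : AlgSp.IsQuasiCompactMor (f ≫ g).hom) (hg : AlgSp.IsQuasiSeparatedMor g.hom) :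
    AlgSp.IsQuasiCompactMor f.hom := by
  have sqP := IsPullback.of_hasPullback (f.hom ≫ g.hom) g.hom
  have hP : AlgSp.IsAlgSpace (pullback (f.hom ≫ g.hom) g.hom) :=
    Groth.Agent.Lib.Helper3.isAlgSpace_of_isPullback' Z.property X.property Y.property sqP
  have hsnd : AlgSp.IsQuasiCompactMor (pullback.snd (f.hom ≫ g.hom) g.hom) :=
    Groth.Agent.Lib.Helper3.isQuasiCompactMor_of_isPullback sqP hgf
  have sqΓ := pullback_lift_diagonal_isPullback f.hom g.hom
  have hΓ : AlgSp.RepWith @QuasiCompact (pullback.lift (𝟙 X.obj) f.hom (by simp) :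
      X.obj ⟶ pullback (f.hom ≫ g.hom) g.hom) :=
    MorphismProperty.of_isPullback sqΓ hg
  have hΓ' := Groth.Agent.S9936.isQuasiCompactMor_of_repWith @QuasiCompact
    (fun k hk hB => by
      have : QuasiCompact k := hk
      exact QuasiCompact.compactSpace_of_compactSpace k) _ hΓ
  have := Groth.Agent.Lib.Helper3.isQuasiCompactMor_comp hP Y.property.diag hΓ' hsnd
  rwa [pullback.lift_snd] at this

end Groth.Agent.S9919
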