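import Groth.Statements.S10338
import Groth.Agent.Lib.Helper3.AlgSpGenLift
import Groth.Agent.Lib.Helper3.AlgSpNoSpec
import Groth.Agent.Lib.Helper3.AlgSpHasAtMor

set_option autoImplicit false
universe u
open CategoryTheory CategoryTheory.Limits AlgebraicGeometry Topology TopologicalSpace
open AlgSp

namespace Groth.Agent.S10338

/-- For a decent algebraic space X over a scheme S the topological space |X| is Kolmogorov (T0). -/
theorem result {S : Scheme.{u}} (X : AlgSp.Space S) (hX : AlgSp.IsDecent X.obj) :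
    T0Space (AlgSp.Points X.obj) := by
  rw [t0Space_iff_inseparable]
  intro x x' hxx'
  obtain ⟨h1, h2⟩ := inseparable_iff_specializes_and.1 hxx'
  obtain ⟨U, a, hae, has⟩ := X.property.atlas
  obtain ⟨u, hu⟩ := Groth.Agent.Lib.Helper3.exists_ofPt_eq a has x
  obtain ⟨p', hp', -, hq'⟩ := hX x'
  obtain ⟨p, hp, -, hq⟩ := hX x
  obtain ⟨u', hu', hu'x⟩ :=
    Groth.Agent.Lib.Helper3.exists_specializes_lift_of_qc_point x p' (hp' ▸ h2) hq' a hae u hu
  obtain ⟨u'', hu'', hu''x⟩ :=
    Groth.Agent.Lib.Helper3.exists_specializes_lift_of_qc_point x' p (hp ▸ h1) hq a hae u'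
      (hu'x.trans hp')
  have hfin : ∀ (V : Over S) (b : (AlgSp.yon S).obj V ⟶ X.obj), IsAffine V.left →
      AlgSp.RepWith @Etale b → (AlgSp.Points.ofPt b ⁻¹' {x}).Finite := by
    intro V b hV hb
    rw [← hp]
    have : CompactSpace ↥V.left := inferInstance
    exact Groth.Agent.Lib.Helper3.finite_fibre_of_qc_point p hq b hb
  have e1 : u = u'' := Groth.Agent.Lib.Helper3.eq_of_specializes_of_finite_fibres x hfin a hae
    u u'' hu (hu''x.trans hp) (hu''.trans hu')
  have e2 : u = u' := ((e1 ▸ hu'').antisymm hu').eq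
  rw [← hu, e2, hu'x, hp']

end Groth.Agent.S10338
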