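import Groth.Statements.S10233
import Groth.Agent.Lib.Helper3.QuotRelSub
import Groth.Agent.S9932

set_option autoImplicit false
universe u
open CategoryTheory CategoryTheory.Limits AlgebraicGeometry Topology TopologicalSpace
open AlgSp

namespace Groth.Agent.S10233

/-- Let X be an algebraic space over a scheme S with a presentation (U, R, s, t, p), and let i' : Z' ⟶ U
be an immersion of schemes that is R-invariant, meaning that one locally closed subscheme R' of R is
at the same time the inverse image of Z' under s and under t. Then Z' descends to a locally closed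
subspace of X: there is a morphism of algebraic spaces i : Z ⟶ X representable by immersions
together with a map h_{Z'} ⟶ Z making h_{Z'} the fibre product Z ×_X h_U; moreover i is a closed
(resp. open) immersion when i' is. -/
theorem result {S : Scheme.{u}} (X : AlgSp.Space S) {R U : Over S} (s t : R ⟶ U)
    (p : (AlgSp.yon S).obj U ⟶ X.obj) (hp : AlgSp.IsPresentation s t p)
    {Z' R' : Scheme.{u}} (i' : Z' ⟶ U.left) [IsImmersion i'] (k : R' ⟶ R.left) (s' t' : R' ⟶ Z')
    (hs : IsPullback k s' s.left i') (ht : IsPullback k t' t.left i') :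
    ∃ (Z : AlgSp.Space S) (i : Z ⟶ X) (q : (AlgSp.yon S).obj (Over.mk (i' ≫ U.hom)) ⟶ Z.obj),
      AlgSp.RepWith @IsImmersion i.hom ∧
      IsPullback q ((AlgSp.yon S).map (Over.homMk i' rfl : Over.mk (i' ≫ U.hom) ⟶ U)) i.hom p ∧
      (IsClosedImmersion i' → AlgSp.RepWith @IsClosedImmersion i.hom) ∧
      (IsOpenImmersion i' → AlgSp.RepWith @IsOpenImmersion i.hom) := by
  let Zo : Over S := Over.mk (i' ≫ U.hom)
  let iO : Zo ⟶ U := Over.homMk i' rfl
  let Ro : Over S := Over.mk (k ≫ R.hom)
  let kO : Ro ⟶ R := Over.homMk k rfl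
  have hs'w : s' ≫ Zo.hom = Ro.hom := by
    change s' ≫ i' ≫ U.hom = k ≫ R.hom
    rw [← Category.assoc, ← hs.w, Category.assoc, Over.w s]
  have ht'w : t' ≫ Zo.hom = Ro.hom := by
    change t' ≫ i' ≫ U.hom = k ≫ R.hom
    rw [← Category.assoc, ← ht.w, Category.assoc, Over.w t]
  let s'O : Ro ⟶ Zo := Over.homMk s' hs'w
  let t'O : Ro ⟶ Zo := Over.homMk t' ht'w
  have hsO : IsPullback kO s'O s iO :=
    IsPullback.of_map (Over.forget S) (by ext; exact hs.w) hs
  have htO : IsPullback kO t'O t iO :=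
    IsPullback.of_map (Over.forget S) (by ext; exact ht.w) ht
  have hmono : Mono iO := by
    have h1 : Mono i' := inferInstance
    have h2 : Mono ((Over.forget S).map iO) := h1
    exact (Over.forget S).mono_of_mono_map h2
  have hE := Groth.Agent.Lib.Helper3.QuotRel.isEtaleEqvRel_restrict s t iO kO s'O t'O
    hp.eqvRel hsO htO
  obtain ⟨hpres, hZ⟩ := Groth.Agent.Lib.Helper3.QuotRel.isPresentation_and_isAlgSpace s'O t'O hE
  let Z : AlgSp.Space S := ⟨QuotSh.quot Scheme.fppfPrecoverage s'O t'O, hZ⟩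
  have hcoeqX : (AlgSp.yon S).map s'O ≫ (AlgSp.yon S).map iO ≫ p =
      (AlgSp.yon S).map t'O ≫ (AlgSp.yon S).map iO ≫ p := by
    rw [← Category.assoc, ← Category.assoc, ← CategoryTheory.Functor.map_comp,
      ← CategoryTheory.Functor.map_comp, ← hsO.w, ← htO.w, CategoryTheory.Functor.map_comp,
      CategoryTheory.Functor.map_comp, Category.assoc, Category.assoc, hp.isPullback.w]
  obtain ⟨φ, hφ⟩ := Groth.Agent.Lib.Helper3.QuotRel.exists_desc_quotMap s'O t'O
    ((AlgSp.yon S).map iO ≫ p) hcoeqX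
  let i : Z ⟶ X := ObjectProperty.homMk φ
  have hπ : Sheaf.IsLocallySurjective (Groth.Agent.Lib.Helper3.QuotRel.quotMap s'O t'O) :=
    (Sheaf.isLocallySurjective_iff_epi _).2 inferInstance
  have sq : IsPullback (Groth.Agent.Lib.Helper3.QuotRel.quotMap s'O t'O) ((AlgSp.yon S).map iO)
      i.hom p :=
    Groth.Agent.Lib.Helper3.QuotRel.isPullback_of_invariant s t iO kO s'O t'O hsO htO p
      hp.isPullback _ hπ (Groth.Agent.Lib.Helper3.QuotRel.quotMap_coeq s'O t'O) φ hφ
  refine ⟨Z, i, Groth.Agent.Lib.Helper3.QuotRel.quotMap s'O t'O, ?_, sq, ?_, ?_⟩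
  · exact Groth.Agent.S9932.result @IsImmersion (Or.inr (Or.inr rfl)) i U p hp.etale
      hp.surjective _ _ sq ((AlgSp.repWith_yon_map_iff _ iO).2 ‹IsImmersion i'›)
  · intro hcl
    exact Groth.Agent.S9932.result @IsClosedImmersion (Or.inl rfl) i U p hp.etale
      hp.surjective _ _ sq ((AlgSp.repWith_yon_map_iff _ iO).2 hcl)
  · intro hop
    exact Groth.Agent.S9932.result @IsOpenImmersion (Or.inr (Or.inl rfl)) i U p hp.etale
      hp.surjective _ _ sq ((AlgSp.repWith_yon_map_iff _ iO).2 hop)

end Groth.Agent.S10233
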