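import Groth.Statements.S10192
import Groth.Agent.S10233
import Groth.Agent.Lib.Helper3.RedInd
import Groth.Agent.Lib.Helper3.AlgSpOpenSubsp2
import Groth.Agent.Lib.Helper3.AlgSpPoints2
import Groth.Agent.Lib.Helper3.AlgSpHasAtMor
import Groth.Agent.Lib.Helper3.AlgSpLocSrc2
set_option backward.isDefEq.respectTransparency.types false
set_option maxHeartbeats 4000000
set_option synthInstance.maxHeartbeats 400000

set_option autoImplicit false
universe u
open CategoryTheory CategoryTheory.Limits AlgebraicGeometry Topology TopologicalSpace
open AlgSp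

namespace Groth.Agent.S10192

/-- For an algebraic space X over a scheme S and a closed subset T of |X| there is a reduced closed
subspace Z of X with |Z| = T, that is, an algebraic space Z with a morphism Z ⟶ X representable by
closed immersions whose image in |X| is T and such that Z is reduced. (Only existence is asserted;
uniqueness is not part of this row.) -/
theorem result {S : Scheme.{u}} (X : AlgSp.Space S) (T : Set (AlgSp.Points X.obj))
    (hT : IsClosed T) :
    ∃ (Z : AlgSp.Space S) (i : Z ⟶ X), AlgSp.IsRedInduced T i.hom := by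
  open Groth.Agent.Lib.Helper3 Groth.Agent.Lib.Helper3.RedInd in
  obtain ⟨U, p, hpe, hps⟩ := X.property.atlas
  obtain ⟨R, s, fst, sq⟩ := hpe.1 p
  obtain ⟨t, rfl⟩ := (yon S).map_surjective fst
  have hE : IsEtaleEqvRel s t := isEtaleEqvRel_of_isPullback s t p hpe sq
  have hp : IsPresentation s t p := ⟨hE, hpe, hps, sq⟩
  have hT' : IsClosed (Points.ofPt p ⁻¹' T) := hT.preimage (Points.continuous_ofPt p)
  obtain ⟨C, hC⟩ : ∃ C : Closeds U.left, (C : Set U.left) = Points.ofPt p ⁻¹' T := ⟨⟨_, hT'⟩, rfl⟩
  obtain ⟨I, hI⟩ : ∃ I : U.left.IdealSheafData, I = Scheme.IdealSheafData.vanishingIdeal C := ⟨_, rfl⟩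
  have hred : IsReduced I.subscheme := by
    rw [hI]; exact Groth.Agent.S4372.isReduced_vanishingIdeal_subscheme C
  have hrange : Set.range I.subschemeι = Points.ofPt p ⁻¹' T := by
    rw [I.range_subschemeι, hI, Scheme.IdealSheafData.coe_support_vanishingIdeal, hC]
  have hst : ∀ r : R.left, Points.ofPt p (s.left r) = Points.ofPt p (t.left r) := by
    intro r
    rw [← Points.ofPt_yon_map_comp, ← Points.ofPt_yon_map_comp, sq.w]
  have hs1 : Etale s.left := hE.etale_left
  have ht1 : Etale t.left := hE.etale_right
  have hes : Etale (pullback.snd s.left I.subschemeι) := MorphismProperty.pullback_snd _ _ hs1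
  have het : Etale (pullback.snd t.left I.subschemeι) := MorphismProperty.pullback_snd _ _ ht1
  have hrs : IsReduced (pullback s.left I.subschemeι) := isReduced_of_etale (pullback.snd s.left I.subschemeι)
  have hrt : IsReduced (pullback t.left I.subschemeι) := isReduced_of_etale (pullback.snd t.left I.subschemeι)
  have hrg : Set.range (pullback.fst s.left I.subschemeι) = Set.range (pullback.fst t.left I.subschemeι) := by
    rw [Scheme.Pullback.range_fst, Scheme.Pullback.range_fst, hrange]
    ext r
    simp only [Set.mem_preimage]
    rw [hst]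
  obtain ⟨e, he⟩ := exists_iso_of_range_eq (pullback.fst s.left I.subschemeι)
    (pullback.fst t.left I.subschemeι) hrg
  have sqs : IsPullback (pullback.fst s.left I.subschemeι) (pullback.snd s.left I.subschemeι)
      s.left I.subschemeι := IsPullback.of_hasPullback _ _
  have sqt : IsPullback (pullback.fst s.left I.subschemeι) (e.hom ≫ pullback.snd t.left I.subschemeι)
      t.left I.subschemeι :=
    IsPullback.of_iso (IsPullback.of_hasPullback t.left I.subschemeι) e.symm (Iso.refl _) (Iso.refl _)
      (Iso.refl _) (by simp [← he]) (by simp) (by simp) (by simp)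
  obtain ⟨Z, i, q, -, sqZ, hcl, -⟩ := Groth.Agent.S10233.result X s t p hp I.subschemeι
    (pullback.fst s.left I.subschemeι) _ _ sqs sqt
  refine ⟨Z, i, hcl inferInstance, ?_, ?_⟩
  · have h1 := Points.ofPt_preimage_image sqZ Set.univ
    simp only [Set.image_univ, Set.preimage_univ] at h1
    change _ = Set.range I.subschemeι at h1
    rw [hrange] at h1
    ext x
    obtain ⟨u, rfl⟩ := exists_ofPt_eq p hps x
    have := congrArg (fun A => u ∈ A) h1
    simpa using this
  · exact ⟨_, q, MorphismProperty.of_isPullback sqZ.flip hpe, MorphismProperty.of_isPullback sqZ.flip hps, hred⟩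

end Groth.Agent.S10192
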