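import Groth.Statements.S10193
import Groth.Agent.Lib.Helper3.AlgSpIsoDescent

set_option autoImplicit false
universe u
open CategoryTheory CategoryTheory.Limits AlgebraicGeometry Topology TopologicalSpace
open AlgSp

namespace Groth.Agent.S10193

/-- Let X, Y be algebraic spaces over a scheme S, i : Z ⟶ X a closed subspace (a morphism representable
by closed immersions) and assume Y is reduced. Then a morphism f : Y ⟶ X factors through Z if and
only if |f|(|Y|) is contained in |Z|. -/
theorem result {S : Scheme.{u}} {X Y Z : AlgSp.Space S}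
    (i : Z ⟶ X) (hi : AlgSp.RepWith @IsClosedImmersion i.hom) (hY : AlgSp.IsReducedSp Y.obj) (f : Y ⟶ X) :
    (∃ g : Y ⟶ Z, g ≫ i = f) ↔
      Set.range (AlgSp.Points.map f.hom) ⊆ Set.range (AlgSp.Points.map i.hom) := by
  constructor
  · rintro ⟨g, rfl⟩ _ ⟨y, rfl⟩
    exact ⟨Points.map g.hom y, (Points.map_comp g.hom i.hom y).symm⟩
  · intro hsub
    have sqP := IsPullback.of_hasPullback i.hom f.hom
    have hj : RepWith @IsClosedImmersion (pullback.snd i.hom f.hom) :=
      MorphismProperty.of_isPullback sqP hi
    obtain ⟨U, a, hae, has, hUred⟩ := hY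
    have hUr : IsReduced U.left := hUred
    have sqa := hj.1.isPullback a
    have hcl : IsClosedImmersion (hj.1.snd a).left := hj.2 a _ _ sqa
    have hsurj : Surjective (hj.1.snd a).left := by
      refine ⟨fun u => ?_⟩
      obtain ⟨z, hz⟩ := hsub ⟨Points.ofPt a u, rfl⟩
      obtain ⟨p, -, hp⟩ := Groth.Agent.Lib.Helper3.Points.exists_of_isPullback sqP z
        (Points.ofPt a u) hz
      obtain ⟨q, -, hq⟩ := Groth.Agent.Lib.Helper3.Points.exists_of_isPullback sqa p
        (Points.ofScheme U u) (by rw [hp, Points.ofPt_eq_map_ofScheme])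
      obtain ⟨w, rfl⟩ := (Points.schemeHomeo _).surjective q
      refine ⟨w, ?_⟩
      apply (Points.schemeHomeo U).injective
      rw [← Points.map_yon_map_apply]
      exact hq
    have hiso1 : IsIso (hj.1.snd a).left := isIso_of_isClosedImmersion_of_surjective _
    have hiso2 : IsIso (hj.1.snd a) := by
      have : IsIso ((Over.forget S).map (hj.1.snd a)) := hiso1
      exact isIso_of_reflects_iso (hj.1.snd a) (Over.forget S)
    have hiso : IsIso (pullback.snd i.hom f.hom) :=
      Groth.Agent.Lib.Helper3.isIso_of_isIso_atlas_baseChange _ hj.1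
        (fun T g => by
          have : IsClosedImmersion (hj.1.snd g).left := hj.2 g _ _ (hj.1.isPullback g)
          infer_instance) a hae has hiso2
    refine ⟨ObjectProperty.homMk (inv (pullback.snd i.hom f.hom) ≫ pullback.fst i.hom f.hom), ?_⟩
    ext1
    change (inv (pullback.snd i.hom f.hom) ≫ pullback.fst i.hom f.hom) ≫ i.hom = f.hom
    rw [Category.assoc, sqP.w, IsIso.inv_hom_id_assoc]

end Groth.Agent.S10193
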