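import Groth.Statements.S9889
import Groth.Agent.Lib.Helper15.CofanSch
import Mathlib.AlgebraicGeometry.Morphisms.Etale
import Mathlib.AlgebraicGeometry.Morphisms.Flat
-- import your own Groth.Agent.* helpers here

set_option autoImplicit false
universe u
open CategoryTheory CategoryTheory.Limits AlgebraicGeometry
open AlgSp

namespace Groth.Agent.S9889

section H
namespace W1
open Groth.Agent.Lib.Helper15

variable {S : Scheme.{u}} {U : Over S} {G : Type u}

/-- the underlying cofan in schemes -/
noncomputable def cL (c : Cofan (fun _ : G => U)) : Cofan (fun _ : G => U.left) :=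
  Cofan.mk c.pt.left (fun g => (c.inj g).left)

noncomputable def hcL {c : Cofan (fun _ : G => U)} (hc : IsColimit c) : IsColimit (cL c) :=
  Cofan.isColimitMapCoconeEquiv (Over.forget S) _ c (isColimitOfPreserves (Over.forget S) hc)

/-- A map to `U` fixed by a fixed-point-free automorphism has empty source. -/
theorem isEmpty_of_fixed (φ : U.left ⟶ U.left)
    (hfree : ∀ x : U.left, U.left.fromSpecResidueField x ≫ φ ≠ U.left.fromSpecResidueField x)
    {W : Scheme.{u}} (a : W ⟶ U.left) (ha : a ≫ φ = a) : IsEmpty W := by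
  refine ⟨fun w => ?_⟩
  apply hfree (a w)
  have h1 := Scheme.Hom.SpecMap_residueFieldMap_fromSpecResidueField a w
  haveI : Flat (Spec.map (a.residueFieldMap w)) := by
    rw [HasRingHomProperty.Spec_iff (P := @Flat)]
    letI := (a.residueFieldMap w).hom.toAlgebra
    exact (inferInstance : Module.Flat (U.left.residueField (a w)) (W.residueField w))
  haveI : Surjective (Spec.map (a.residueFieldMap w)) := by
    haveI : Subsingleton (Spec (U.left.residueField (a w))) :=
      inferInstanceAs (Subsingleton (PrimeSpectrum (U.left.residueField (a w))))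
    haveI : Nonempty (Spec (W.residueField w)) :=
      inferInstanceAs (Nonempty (PrimeSpectrum (W.residueField w)))
    exact ⟨fun y => ⟨Classical.arbitrary _, Subsingleton.elim _ _⟩⟩
  haveI := Flat.epi_of_flat_of_surjective (Spec.map (a.residueFieldMap w))
  rw [← cancel_epi (Spec.map (a.residueFieldMap w))]
  rw [← Category.assoc, h1, Category.assoc, ha]

variable [Group G] (ρ : G →* Aut U)

theorem rho_mul_hom (g h : G) : (ρ (g * h)).hom = (ρ h).hom ≫ (ρ g).hom := by
  rw [map_mul]; rfl

theorem rho_one_hom : (ρ 1).hom = 𝟙 U := by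
  rw [map_one]; rfl

set_option backward.isDefEq.respectTransparency.types false in
theorem main (hfree : ∀ (g : G) (x : U.left), g ≠ 1 →
      U.left.fromSpecResidueField x ≫ (ρ g).hom.left ≠ U.left.fromSpecResidueField x)
    (c : Cofan (fun _ : G => U)) (hc : IsColimit c) (s t : c.pt ⟶ U)
    (hs : ∀ g, c.inj g ≫ s = 𝟙 U) (ht : ∀ g, c.inj g ≫ t = (ρ g).hom) :
    AlgSp.IsEtaleEqvRel s t := by
  have hsL : ∀ g, (c.inj g).left ≫ s.left = 𝟙 U.left := fun g => by
    rw [← Over.comp_left, hs]; rfl
  have htL : ∀ g, (c.inj g).left ≫ t.left = (ρ g).hom.left := fun g => by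
    rw [← Over.comp_left, ht]
  have hmulL : ∀ g h, (ρ (g * h)).hom.left = (ρ h).hom.left ≫ (ρ g).hom.left := fun g h => by
    rw [rho_mul_hom, Over.comp_left]
  refine ⟨⟨?_, ?_⟩, ?_, ?_⟩
  · -- injectivity
    intro T r r' h1 h2
    apply Over.OverMorphism.ext
    obtain ⟨W, ⟨hW⟩, hWp⟩ := CofanSch.exists_decomp (hcL hc) r.left r'.left
    refine Cofan.IsColimit.hom_ext hW _ _ fun p => ?_
    obtain ⟨a₁, a₂, e₁0, e₂0⟩ := hWp p
    have e₁ : (W p).ι ≫ r.left = a₁ ≫ (c.inj p.1).left := e₁0
    have e₂ : (W p).ι ≫ r'.left = a₂ ≫ (c.inj p.2).left := e₂0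
    change (W p).ι ≫ r.left = (W p).ι ≫ r'.left
    have h1L : r.left ≫ t.left = r'.left ≫ t.left := by
      rw [← Over.comp_left, ← Over.comp_left, h1]
    have h2L : r.left ≫ s.left = r'.left ≫ s.left := by
      rw [← Over.comp_left, ← Over.comp_left, h2]
    have ea : a₁ = a₂ := by
      have := congrArg (fun m => (W p).ι ≫ m) h2L
      simp only [← Category.assoc] at this
      rw [e₁, e₂] at this
      simpa [hsL] using this
    have eb : a₁ ≫ (ρ p.1).hom.left = a₂ ≫ (ρ p.2).hom.left := by
      have := congrArg (fun m => (W p).ι ≫ m) h1L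
      simp only [← Category.assoc] at this
      rw [e₁, e₂] at this
      simpa [htL] using this
    by_cases hp : p.1 = p.2
    · rw [e₁, e₂, ea, hp]
    · haveI : IsEmpty (W p : Scheme.{u}) := by
        refine isEmpty_of_fixed (ρ (p.2⁻¹ * p.1)).hom.left (fun x => hfree _ x ?_) a₁ ?_
        · intro h
          apply hp
          have := congrArg (fun z => p.2 * z) h
          simpa using this
        · rw [hmulL, ← Category.assoc, eb, ← ea, Category.assoc, ← hmulL, inv_mul_cancel,
            rho_one_hom]
          exact Category.comp_id _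
      exact (isInitialOfIsEmpty (X := (W p : Scheme.{u}))).hom_ext _ _
  · -- equivalence
    intro T
    refine ⟨fun a => ?_, ?_, ?_⟩
    · refine ⟨a ≫ c.inj 1, ?_, ?_⟩
      · rw [Category.assoc, ht, rho_one_hom, Category.comp_id]
      · rw [Category.assoc, hs, Category.comp_id]
    · rintro a b ⟨r, h1, h2⟩
      let inv : c.pt ⟶ c.pt := Cofan.IsColimit.desc hc (fun g => (ρ g).hom ≫ c.inj g⁻¹)
      have hinv : ∀ g, c.inj g ≫ inv = (ρ g).hom ≫ c.inj g⁻¹ := fun g =>
        Cofan.IsColimit.fac hc _ g
      have i1 : inv ≫ t = s := by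
        refine Cofan.IsColimit.hom_ext hc _ _ fun g => ?_
        rw [← Category.assoc, hinv, Category.assoc, ht, ← rho_mul_hom, hs, inv_mul_cancel,
          rho_one_hom]
      have i2 : inv ≫ s = t := by
        refine Cofan.IsColimit.hom_ext hc _ _ fun g => ?_
        rw [← Category.assoc, hinv, Category.assoc, hs, Category.comp_id, ht]
      exact ⟨r ≫ inv, by rw [Category.assoc, i1, h2], by rw [Category.assoc, i2, h1]⟩
    · rintro a b d ⟨r₁, h1, h2⟩ ⟨r₂, h3, h4⟩
      obtain ⟨W, ⟨hW⟩, hWp⟩ := CofanSch.exists_decomp (hcL hc) r₁.left r₂.left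
      choose a₁ a₂ e₁ e₂ using hWp
      have e₁' : ∀ p, (W p).ι ≫ r₁.left = a₁ p ≫ (c.inj p.1).left := e₁
      have e₂' : ∀ p, (W p).ι ≫ r₂.left = a₂ p ≫ (c.inj p.2).left := e₂
      let r₃L : T.left ⟶ c.pt.left :=
        Cofan.IsColimit.desc hW (fun p => a₂ p ≫ (c.inj (p.1 * p.2)).left)
      have hr₃ : ∀ p, (W p).ι ≫ r₃L = a₂ p ≫ (c.inj (p.1 * p.2)).left := fun p =>
        Cofan.IsColimit.fac hW _ p
      have ha₂ : ∀ p, (W p).ι ≫ d.left = a₂ p := fun p => by
        rw [← h4, Over.comp_left, ← Category.assoc, e₂', Category.assoc, hsL, Category.comp_id]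
      have ha₁ : ∀ p, a₁ p = a₂ p ≫ (ρ p.2).hom.left := fun p => by
        have : (W p).ι ≫ b.left = a₁ p := by
          rw [← h2, Over.comp_left, ← Category.assoc, e₁', Category.assoc, hsL, Category.comp_id]
        rw [← this, ← h3, Over.comp_left, ← Category.assoc, e₂', Category.assoc, htL]
      have w : r₃L ≫ c.pt.hom = T.hom := by
        refine Cofan.IsColimit.hom_ext hW _ _ fun p => ?_
        change (W p).ι ≫ r₃L ≫ c.pt.hom = (W p).ι ≫ T.hom
        rw [← Category.assoc, hr₃, Category.assoc, Over.w, ← Over.w r₂, ← Category.assoc, e₂',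
          Category.assoc, Over.w]
      refine ⟨Over.homMk r₃L w, ?_, ?_⟩
      · apply Over.OverMorphism.ext
        rw [Over.comp_left]
        refine Cofan.IsColimit.hom_ext hW _ _ fun p => ?_
        change (W p).ι ≫ r₃L ≫ t.left = (W p).ι ≫ a.left
        rw [← Category.assoc, hr₃, Category.assoc, htL, ← h1, Over.comp_left, ← Category.assoc,
          e₁', Category.assoc, htL, ha₁, Category.assoc, hmulL]
      · apply Over.OverMorphism.ext
        rw [Over.comp_left]
        refine Cofan.IsColimit.hom_ext hW _ _ fun p => ?_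
        change (W p).ι ≫ r₃L ≫ s.left = (W p).ι ≫ d.left
        rw [← Category.assoc, hr₃, Category.assoc, hsL, Category.comp_id, ha₂]
  · refine (CofanSch.iff_of_isColimit (hcL hc) @Etale (X := U.left) s.left).mpr ?_
    intro g
    change Etale ((c.inj g).left ≫ s.left)
    rw [hsL]; infer_instance
  · refine (CofanSch.iff_of_isColimit (hcL hc) @Etale (X := U.left) t.left).mpr ?_
    intro g
    change Etale ((c.inj g).left ≫ t.left)
    rw [htL]; infer_instance

end W1
end H


/-- Let `U` be a scheme over `S` and `G` a group acting on `U` by automorphisms over `S`, freely: no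
non-identity element of `G` fixes a point `x` of `U` while inducing the identity on its residue
field (equivalently, composing `Spec κ(x) ⟶ U` with the automorphism changes it). Let `R = ∐_{g ∈ G}
U` (coproduct in schemes over `S`) with `s` the identity and `t` the action of `g` on the `g`-th
copy. Then `s, t : R ⟶ U` is an etale equivalence relation on `U` over `S` (so that `U/R` is an
algebraic space). -/
theorem result (S : Scheme.{u}) (U : Over S) (G : Type u) [Group G] (ρ : G →* Aut U)
    (hfree : ∀ (g : G) (x : U.left), g ≠ 1 →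
      U.left.fromSpecResidueField x ≫ (ρ g).hom.left ≠ U.left.fromSpecResidueField x)
    (c : Cofan (fun _ : G => U)) (hc : IsColimit c) (s t : c.pt ⟶ U)
    (hs : ∀ g, c.inj g ≫ s = 𝟙 U) (ht : ∀ g, c.inj g ≫ t = (ρ g).hom) :
    AlgSp.IsEtaleEqvRel s t := by
  exact W1.main ρ hfree c hc s t hs ht

end Groth.Agent.S9889
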