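import Groth.Statements.S10296
import Groth.Agent.Lib.Helper3.AlgSpRepLocal2
-- import your own Groth.Agent.* helpers here

set_option autoImplicit false
universe u
open CategoryTheory CategoryTheory.Limits AlgebraicGeometry
open AlgSp

namespace Groth.Agent.S10296

section H
namespace W1

open Groth.Agent.Lib.Helper3

variable {S : Scheme.{u}}

theorem isIntegralMor_comp {A B C : Sp S} (a : A ⟶ B) (b : B ⟶ C) (ha : IsIntegralMor a)
    (hb : IsIntegralMor b) : IsIntegralMor (a ≫ b) := by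
  rw [isIntegralMor_iff_repWith] at ha hb ⊢
  exact (RepWith @IsIntegralHom).comp_mem _ _ ha hb

/-- cancellation: if `h ≫ π` and `π` are integral then so is `h`. -/
theorem isIntegralMor_of_comp {X' Z X : Sp S} (h : X' ⟶ Z) (π : Z ⟶ X) (hπ : IsIntegralMor π)
    (hν : IsIntegralMor (h ≫ π)) : IsIntegralMor h := by
  intro T hT t
  obtain ⟨T', i', fst', sq', hT', hi'⟩ := hπ hT (t ≫ π)
  obtain ⟨V, j, fstV, sqV, hV, hj⟩ := hν hT (t ≫ π)
  have hm : (fstV ≫ h) ≫ π = (yon S).map j ≫ (t ≫ π) := by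
    rw [Category.assoc]; exact sqV.w
  obtain ⟨m, hm1, hm2⟩ : ∃ m : V ⟶ T', (yon S).map m ≫ fst' = fstV ≫ h ∧ m ≫ i' = j := by
    obtain ⟨m', hm'⟩ := (yon S).map_surjective (sq'.lift _ _ hm)
    refine ⟨m', by rw [hm']; exact sq'.lift_fst _ _ _, (yon S).map_injective ?_⟩
    rw [Functor.map_comp, hm']; exact sq'.lift_snd _ _ _
  have hs : t ≫ π = (yon S).map (𝟙 T) ≫ (t ≫ π) := by
    rw [CategoryTheory.Functor.map_id, Category.id_comp]
  obtain ⟨s, hs1, hs2⟩ : ∃ s : T ⟶ T', (yon S).map s ≫ fst' = t ∧ s ≫ i' = 𝟙 T := by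
    obtain ⟨s', hs'⟩ := (yon S).map_surjective (sq'.lift _ _ hs)
    refine ⟨s', by rw [hs']; exact sq'.lift_fst _ _ _, (yon S).map_injective ?_⟩
    rw [Functor.map_comp, hs']; exact sq'.lift_snd _ _ _
  have sqTop : IsPullback fstV ((yon S).map m) h fst' := by
    refine IsPullback.of_bot ?_ hm1.symm sq'
    rw [← Functor.map_comp, hm2]
    exact sqV
  have sqW0 : IsPullback (pullback.fst m s) (pullback.snd m s) m s := IsPullback.of_hasPullback m s
  have sqW := sqW0.map (yon S)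
  have sq := sqW.paste_horiz sqTop
  rw [hs1] at sq
  haveI : IsIntegralHom i'.left := hi'
  haveI : IsIntegralHom j.left := hj
  haveI : IsIntegralHom (m.left ≫ i'.left) := by
    rw [← Over.comp_left, hm2]; infer_instance
  haveI : IsIntegralHom m.left := IsIntegralHom.of_comp m.left i'.left
  have sqS := sqW0.map (Over.forget S)
  haveI : IsIntegralHom (pullback.snd m s).left :=
    MorphismProperty.of_isPullback (P := @IsIntegralHom) sqS ‹_›
  haveI : IsAffine T.left := hT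
  exact ⟨pullback m s, pullback.snd m s, (yon S).map (pullback.fst m s) ≫ fstV, sq,
    isAffine_of_isAffineHom (pullback.snd m s).left, inferInstance⟩

theorem main {Y X X' Z : AlgSp.Space S} (f : Y ⟶ X)
    (ν : X' ⟶ X) (f' : Y ⟶ X')
    (hn : AlgSp.IsRelNormalization f.hom ν.hom f'.hom) (π : Z ⟶ X) (hπ : AlgSp.IsIntegralMor π.hom) (g : Y ⟶ Z)
    (hg : g ≫ π = f) (h : X' ⟶ Z) (h1 : f' ≫ h = g) (h2 : h ≫ π = ν) :
    AlgSp.IsRelNormalization g.hom h.hom f'.hom := by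
  obtain ⟨hfac, hνint, huniv⟩ := hn
  have hg' : g.hom ≫ π.hom = f.hom := congrArg (fun k => k.hom) hg
  have h1' : f'.hom ≫ h.hom = g.hom := congrArg (fun k => k.hom) h1
  have h2' : h.hom ≫ π.hom = ν.hom := congrArg (fun k => k.hom) h2
  refine ⟨h1', isIntegralMor_of_comp h.hom π.hom hπ (by rw [h2']; exact hνint), ?_⟩
  intro Z' hZ' π' g' hπ' hg''
  obtain ⟨k, ⟨hk1, hk2⟩, hkuniq⟩ := huniv hZ' (π' ≫ π.hom) g' (isIntegralMor_comp _ _ hπ' hπ)
    (by rw [← Category.assoc, hg'', hg'])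
  obtain ⟨l, -, hluniq⟩ := huniv Z.property π.hom g.hom hπ hg'
  have e1 : k ≫ π' = l := hluniq _ ⟨by rw [← Category.assoc, hk1, hg''], by
    rw [Category.assoc, hk2]⟩
  have e2 : h.hom = l := hluniq _ ⟨h1', h2'⟩
  refine ⟨k, ⟨hk1, e1.trans e2.symm⟩, ?_⟩
  rintro k' ⟨hk'1, hk'2⟩
  exact hkuniq _ ⟨hk'1, by rw [← Category.assoc, hk'2, h2']⟩

end W1
end H


/-- The induced morphism from the normalization of X in Y to any integral Z -> X through which Y -> X
factors is the normalization of Z in Y. -/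
theorem result {S : Scheme.{u}} {Y X X' Z : AlgSp.Space S} (f : Y ⟶ X)
    (hqc : AlgSp.IsQuasiCompactMor f.hom) (hqs : AlgSp.IsQuasiSeparatedMor f.hom) (ν : X' ⟶ X) (f' : Y ⟶ X')
    (hn : AlgSp.IsRelNormalization f.hom ν.hom f'.hom) (π : Z ⟶ X) (hπ : AlgSp.IsIntegralMor π.hom) (g : Y ⟶ Z)
    (hg : g ≫ π = f) (h : X' ⟶ Z) (h1 : f' ≫ h = g) (h2 : h ≫ π = ν) :
    AlgSp.IsRelNormalization g.hom h.hom f'.hom := by
  exact W1.main f ν f' hn π hπ g hg h h1 h2

end Groth.Agent.S10296
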