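import Groth.Statements.S17977
import Mathlib.RingTheory.QuasiFinite.Basic
import Mathlib.RingTheory.Unramified.LocalStructure
import Mathlib.RingTheory.EssentialFiniteness
import Mathlib.RingTheory.Etale.Basic

set_option autoImplicit false
universe u
open EGA4loc

namespace Groth.Agent.S17977

/-- consequences of being essentially etale used below. -/
theorem props (A : Type u) [CommRing A] [IsLocalRing A]
    (B : Type u) [CommRing B] [IsLocalRing B] [Algebra A B] (hB : EGA4loc.IsEssentiallyEtale A B) :
    Algebra.EssFiniteType A B ∧ Algebra.FormallyUnramified A B ∧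
      (IsLocalRing.maximalIdeal B).comap (algebraMap A B) = IsLocalRing.maximalIdeal A := by
  obtain ⟨C, _, _, q, _, hEt, hq, ⟨e⟩⟩ := hB
  have h1 : Algebra.EssFiniteType A (Localization.AtPrime q) :=
    Algebra.EssFiniteType.comp A C (Localization.AtPrime q)
  have h2 : Algebra.FormallyUnramified A (Localization.AtPrime q) :=
    have : Algebra.FormallyUnramified C (Localization.AtPrime q) :=
      Algebra.FormallyUnramified.of_isLocalization q.primeCompl
    Algebra.FormallyUnramified.comp A C (Localization.AtPrime q)
  refine ⟨(Algebra.EssFiniteType.iff_of_algEquiv e).mpr h1,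
    Algebra.FormallyUnramified.of_equiv e.symm, ?_⟩
  have hloc : IsLocalHom (e : B →+* Localization.AtPrime q) := inferInstance
  have h3 : (IsLocalRing.maximalIdeal (Localization.AtPrime q)).comap (e : B →+* Localization.AtPrime q) =
      IsLocalRing.maximalIdeal B := IsLocalRing.maximalIdeal_comap _
  rw [← h3, Ideal.comap_comap]
  have h4 : ((e : B →+* Localization.AtPrime q)).comp (algebraMap A B) =
      (algebraMap C (Localization.AtPrime q)).comp (algebraMap A C) := by
    ext a
    simp [← IsScalarTower.algebraMap_apply]
  rw [h4, ← Ideal.comap_comap]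
  have h5 : (IsLocalRing.maximalIdeal (Localization.AtPrime q)).comap
      (algebraMap C (Localization.AtPrime q)) = q := Localization.AtPrime.under_maximalIdeal
  rw [h5, hq]

/-- Let A be a local ring, B a local ring which is a local-etale A-algebra, and C a local ring with a
local structure map A → C. Then every A-algebra homomorphism B → C is local. (The source states this
for local ind-etale B, i.e. filtered colimits of local-etale algebras along local maps, and reduces
at once to the local-etale case stated here.) -/
theorem result (A : Type u) [CommRing A] [IsLocalRing A]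
    (B : Type u) [CommRing B] [IsLocalRing B] [Algebra A B] (hB : EGA4loc.IsEssentiallyEtale A B)
    (C : Type u) [CommRing C] [IsLocalRing C] [Algebra A C] [IsLocalHom (algebraMap A C)]
    (φ : B →ₐ[A] C) : IsLocalHom φ.toRingHom := by
  obtain ⟨hEss, hUnr, hm⟩ := props A B hB
  have hQF : Algebra.QuasiFinite A B := inferInstance
  let n : Ideal B := (IsLocalRing.maximalIdeal C).comap φ.toRingHom
  have hn : n.IsPrime := Ideal.comap_isPrime _ _
  have hle : n ≤ IsLocalRing.maximalIdeal B := IsLocalRing.le_maximalIdeal hn.ne_top
  have hunder : n.under A = (IsLocalRing.maximalIdeal B).under A := by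
    change n.comap (algebraMap A B) = (IsLocalRing.maximalIdeal B).comap (algebraMap A B)
    rw [hm, Ideal.comap_comap]
    have : φ.toRingHom.comp (algebraMap A B) = algebraMap A C := φ.comp_algebraMap
    rw [this, IsLocalRing.maximalIdeal_comap]
  have heq : n = IsLocalRing.maximalIdeal B :=
    Algebra.QuasiFinite.eq_of_le_of_under_eq (R := A) n (IsLocalRing.maximalIdeal B) hle hunder
  constructor
  intro b hb
  by_contra hnu
  have : b ∈ IsLocalRing.maximalIdeal B := (IsLocalRing.mem_maximalIdeal b).mpr hnu
  rw [← heq] at this
  exact (IsLocalRing.mem_maximalIdeal _).mp this hb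

end Groth.Agent.S17977
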