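import Groth.Statements.S9753
import Mathlib
import Groth.Agent.Lib.Helper22.BrCountGeoMain
-- import your own Groth.Agent.* helpers here

set_option autoImplicit false
universe u
open Brnch

namespace Groth.Agent.S9753

open AlgebraicGeometry CategoryTheory Limits in
/-- Let X be a scheme and x ∈ X. Over all étale neighbourhoods (U, u) of (X, x) (g : U ⟶ X étale with g
u = x), take the count (in ℕ∞) of irreducible components of U containing u; the supremum of these
counts is the geometric branch number of X at x. -/
theorem result (X : Scheme.{u}) (x : X) :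
    Brnch.numGeomBranchesAt X x = ⨆ (U : Scheme.{u}) (g : U ⟶ X) (u : U) (_ : Etale g ∧ g u = x),
      {Z : Set ↑U | Z ∈ irreducibleComponents ↑U ∧ u ∈ Z}.encard := by
  apply le_antisymm
  · rw [← ENat.forall_natCast_le_iff_le]
    intro N hN
    obtain ⟨U, g, u, hnb, hcard⟩ :=
      Groth.Agent.Lib.Helper22.BrCountGeoMain.exists_nbhd_of_le_geo X x N hN
    exact hcard.trans (le_iSup_of_le U (le_iSup_of_le g (le_iSup_of_le u
      (le_iSup_of_le hnb le_rfl))))
  · refine iSup_le fun U => iSup_le fun g => iSup_le fun u => iSup_le fun hnb => ?_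
    obtain ⟨het, rfl⟩ := hnb
    haveI := het
    exact Groth.Agent.Lib.Helper22.BrCountGeoLe.encard_le_of_nbhd g u

end Groth.Agent.S9753
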