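import Groth.Statements.S1936
import Groth.Agent.Lib.Helper21.CMGrpd

set_option autoImplicit false
universe u
open CategoryTheory CategoryTheory.Limits AlgebraicGeometry
open Grpd

namespace Groth.Agent.S1936

/-- Let (U, R, s, t, c) be a groupoid scheme over S with s, t flat and locally of finite presentation.
There is an open U' ⊆ U such that t⁻¹(U') is exactly the set of points of R at which s is
Cohen–Macaulay, s⁻¹(U') is exactly the set of points at which t is Cohen–Macaulay, and both t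
restricted to s⁻¹(U') and s restricted to t⁻¹(U') are surjective onto U. (Part (5), that the
restriction of R to U' is a groupoid with Cohen–Macaulay s', t', then follows and is not restated.)
Cohen–Macaulay at a point: flat there with Cohen–Macaulay fibre local ring (Grpd.IsCMAt). (A
groupoid scheme carries U, R, s, t, c, e, i over S with the groupoid axioms on T-points; 'finite
locally free' is finite, flat and locally of finite presentation; C ⊂ Γ(U) is the ring of functions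
a with s♯(a) = t♯(a) and M = Spec C.) -/
theorem result (S : Scheme.{u}) (G : Grpd.GroupoidScheme S) [Flat G.s] [LocallyOfFinitePresentation G.s] [Flat G.t] [LocallyOfFinitePresentation G.t] : ∃ U' : G.U.Opens, (G.t ⁻¹ᵁ U' : Set G.R) = {r | Grpd.IsCMAt G.s r} ∧ (G.s ⁻¹ᵁ U' : Set G.R) = {r | Grpd.IsCMAt G.t r} ∧ ⇑G.t '' (G.s ⁻¹ᵁ U' : Set G.R) = Set.univ ∧ ⇑G.s '' (G.t ⁻¹ᵁ U' : Set G.R) = Set.univ := by
  have hopen : IsOpen {r : G.R | MoreMor.IsCMAt G.s r} := Groth.Agent.S4961.result G.s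
  have hUopen : IsOpen (G.t '' {r : G.R | MoreMor.IsCMAt G.s r}) := G.t.isOpenMap _ hopen
  let U' : G.U.Opens := ⟨_, hUopen⟩
  have H1 : (G.t ⁻¹ᵁ U' : Set G.R) = {r | Grpd.IsCMAt G.s r} := by
    ext r
    constructor
    · rintro ⟨r₀, hr₀, h⟩
      exact (Groth.Agent.Lib.Helper21.CMGrpd.grpd_isCMAt_iff _ _).2
        ((Groth.Agent.Lib.Helper21.CMGrpd.cm_s_iff_of_t_eq G r₀ r h).1 hr₀)
    · intro hr
      exact ⟨r, (Groth.Agent.Lib.Helper21.CMGrpd.grpd_isCMAt_iff _ _).1 hr, rfl⟩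
  have H2 : (G.s ⁻¹ᵁ U' : Set G.R) = {r | Grpd.IsCMAt G.t r} := by
    ext r
    constructor
    · rintro ⟨r₀, hr₀, h⟩
      have h' : G.t r₀ = G.t (G.i r) := by
        rw [h, ← Scheme.Hom.comp_apply, G.i_t]
      exact (Groth.Agent.Lib.Helper21.CMGrpd.grpd_isCMAt_iff _ _).2
        ((Groth.Agent.Lib.Helper21.CMGrpd.cm_t_iff_cm_s_i G r).2
          ((Groth.Agent.Lib.Helper21.CMGrpd.cm_s_iff_of_t_eq G r₀ _ h').1 hr₀))
    · intro hr
      refine ⟨G.i r, (Groth.Agent.Lib.Helper21.CMGrpd.cm_t_iff_cm_s_i G r).1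
        ((Groth.Agent.Lib.Helper21.CMGrpd.grpd_isCMAt_iff _ _).1 hr), ?_⟩
      rw [← Scheme.Hom.comp_apply, G.i_t]
  refine ⟨U', H1, H2, ?_, ?_⟩
  · rw [H2]
    refine Set.eq_univ_of_forall fun u => ?_
    obtain ⟨r, hr, hru⟩ := Groth.Agent.Lib.Helper21.CMGrpd.exists_cm_point_over G.t u
      ⟨G.e u, by rw [← Scheme.Hom.comp_apply, G.e_t]; rfl⟩
    exact ⟨r, (Groth.Agent.Lib.Helper21.CMGrpd.grpd_isCMAt_iff _ _).2 hr, hru⟩
  · rw [H1]
    refine Set.eq_univ_of_forall fun u => ?_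
    obtain ⟨r, hr, hru⟩ := Groth.Agent.Lib.Helper21.CMGrpd.exists_cm_point_over G.s u
      ⟨G.e u, by rw [← Scheme.Hom.comp_apply, G.e_s]; rfl⟩
    exact ⟨r, (Groth.Agent.Lib.Helper21.CMGrpd.grpd_isCMAt_iff _ _).2 hr, hru⟩

end Groth.Agent.S1936
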