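import Groth.Statements.S10286
-- import your own Groth.Agent.* helpers here

set_option autoImplicit false
universe u
open CategoryTheory CategoryTheory.Limits AlgebraicGeometry
open AlgSp

namespace Groth.Agent.S10286

/-- Push a valuative square of the base change `f'` to one of `f`. -/
noncomputable def pushSq {S : Scheme.{u}} {F G F' G' : AlgSp.Sp S} (f : F ⟶ G) (g : G' ⟶ G)
    (fst : F' ⟶ F) (f' : F' ⟶ G') (w : fst ≫ f = f' ≫ g) (sq' : AlgSp.ValSq f') : AlgSp.ValSq f where
  A := sq'.A
  K := sq'.K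
  str := sq'.str
  top := sq'.top ≫ fst
  bot := sq'.bot ≫ g
  comm := by rw [Category.assoc, w, ← Category.assoc, sq'.comm, Category.assoc]

/-- The existence and uniqueness parts of the valuative criterion are stable under base change. -/
theorem result {S : Scheme.{u}} {X Y Z X' : AlgSp.Space S} (f : X ⟶ Y) (g : Z ⟶ Y)
    (fst : X' ⟶ X) (f' : X' ⟶ Z) (sq : IsPullback fst.hom f'.hom f.hom g.hom) :
    (AlgSp.ExistVC f.hom → AlgSp.ExistVC f'.hom) ∧ (AlgSp.UniqVC f.hom → AlgSp.UniqVC f'.hom) := by
  constructor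
  · intro hE sq'
    obtain ⟨e, l, hl1, hl2⟩ := hE (pushSq f.hom g.hom fst.hom f'.hom sq.w sq')
    let e' : sq'.DomExt :=
      { A' := e.A', K' := e.K', φ := e.φ, ψ := e.ψ, comm := e.comm, isLocalHom := e.isLocalHom }
    refine ⟨e', ?_⟩
    have hl2' : l ≫ f.hom = ((AlgSp.yon S).map (Over.homMk (Spec.map (CommRingCat.ofHom e'.φ)) rfl :
        e'.ptA' ⟶ sq'.ptA) ≫ sq'.bot) ≫ g.hom := by
      rw [Category.assoc]; exact hl2
    refine ⟨sq.lift l _ hl2', ?_, ?_⟩
    · apply sq.hom_ext
      · rw [Category.assoc, sq.lift_fst, Category.assoc]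
        exact hl1
      · rw [Category.assoc, sq.lift_snd, Category.assoc, sq'.comm, ← Category.assoc, ← Category.assoc,
          ← Functor.map_comp, ← Functor.map_comp]
        congr 2
        ext
        change Spec.map _ ≫ Spec.map _ = Spec.map _ ≫ Spec.map _
        rw [← Spec.map_comp, ← Spec.map_comp, ← CommRingCat.ofHom_comp, ← CommRingCat.ofHom_comp]
        exact congrArg (fun r => Spec.map (CommRingCat.ofHom r)) e.comm
    · rw [sq.lift_snd]
  · intro hU sq' l l' h1 h2 h1' h2'
    have := hU (pushSq f.hom g.hom fst.hom f'.hom sq.w sq') (l ≫ fst.hom) (l' ≫ fst.hom)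
      (by rw [← Category.assoc]; exact congrArg (fun t => t ≫ fst.hom) h1)
      (by rw [Category.assoc, sq.w, ← Category.assoc]; exact congrArg (fun t => t ≫ g.hom) h2)
      (by rw [← Category.assoc]; exact congrArg (fun t => t ≫ fst.hom) h1')
      (by rw [Category.assoc, sq.w, ← Category.assoc]; exact congrArg (fun t => t ≫ g.hom) h2')
    apply sq.hom_ext this
    exact h2.trans h2'.symm

end Groth.Agent.S10286
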