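import Groth.Statements.S9969
import Groth.Agent.Lib.Helper3.SchImChart
import Groth.Agent.Lib.Helper3.AlgSpUC3

set_option autoImplicit false
universe u
open CategoryTheory CategoryTheory.Limits AlgebraicGeometry
open AlgSp

namespace Groth.Agent.S9969

/-- For a quasi-compact open subspace, scheme theoretic density is equivalent to the scheme theoretic
closure being everything. -/
theorem result {S : Scheme.{u}} {U X : AlgSp.Space S} (j : U ⟶ X)
    (hj : AlgSp.RepWith @IsOpenImmersion j.hom) (hq : AlgSp.IsQuasiCompactMor j.hom) :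
    AlgSp.IsSchDense j.hom ↔ AlgSp.IsSchImage j.hom (𝟙 X.obj) := by
  open Groth.Agent.Lib.Helper3.SchIm in
  constructor
  · rintro ⟨-, V, φ, W, fst, hφe, hφs, sqW, hW⟩
    refine ⟨MorphismProperty.id_mem _ _, ⟨j.hom, Category.comp_id _⟩, ?_⟩
    intro Z' i' hZ' hi' hfac
    obtain ⟨f'', hf''⟩ := hfac
    obtain ⟨C, c, fstC, sqC⟩ := hi'.1 φ
    have hc : IsClosedImmersion c.left := hi'.property φ fstC c sqC
    have hmono' : Mono i' := mono_of_closedImmersion _ hi'
    have hw' : (fst ≫ f'') ≫ i' = (AlgSp.yon S).map (Over.homMk W.ι rfl :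
        Over.mk (W.ι ≫ V.hom) ⟶ V) ≫ φ := by
      rw [Category.assoc, hf'']; exact sqW.w
    obtain ⟨w₁, hw₁⟩ := (AlgSp.yon S).map_surjective (sqC.lift _ _ hw')
    have hw₁c : w₁ ≫ c = (Over.homMk W.ι rfl : Over.mk (W.ι ≫ V.hom) ⟶ V) := by
      apply (AlgSp.yon S).map_injective
      rw [Functor.map_comp, hw₁]
      exact sqC.lift_snd _ _ hw'
    have hker : c.left.ker = ⊥ := by
      rw [eq_bot_iff, ← ker_ι_eq_bot_of_isSchematicallyDense W hW]
      have h2 : w₁.left ≫ c.left = W.ι := by
        have := congrArg (fun φ => φ.left) hw₁c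
        simpa using this
      rw [← h2]
      exact Scheme.Hom.le_ker_comp _ _
    have hiso : IsIso c.left := IsClosedImmersion.isIso_iff_ker_eq_bot.2 hker
    have hisoc : IsIso c := by
      have : IsIso ((Over.forget S).map c) := hiso
      exact isIso_of_reflects_iso c (Over.forget S)
    have hφepi : Epi φ := epi_of_etale_surjective _ hφe hφs
    obtain ⟨k, -, hk⟩ := exists_lift_of_epi_mono φ i' ((AlgSp.yon S).map (inv c) ≫ fstC)
      (𝟙 X.obj) (by
        rw [Category.assoc, sqC.w, ← Category.assoc, ← Functor.map_comp, IsIso.inv_hom_id,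
          CategoryTheory.Functor.map_id, Category.id_comp, Category.comp_id])
    exact ⟨k, hk⟩
  · intro hS
    obtain ⟨R, V, s, t, p, hp⟩ := exists_presentation X
    obtain ⟨Wo, w, fst, sqw⟩ := hj.1 p
    have hwo : IsOpenImmersion w.left := hj.property p fst w sqw
    have hwq : QuasiCompact w.left :=
      (Groth.Agent.Lib.Helper3.repWith_quasiCompact_of_isQuasiCompactMor j.hom hj.1 hq).property
        p fst w sqw
    obtain ⟨Z, i, q, hZ, sqZ⟩ := isSchImage_of_chart_quasiCompact j s t p hp fst w sqw
    obtain ⟨e, he⟩ := isSchImage_unique Z.property X.property hZ hS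
    have hiiso : IsIso i.hom := by
      rw [← he, Category.comp_id]; infer_instance
    have h1 : IsIso ((AlgSp.yon S).map (Over.homMk w.left.ker.subschemeι rfl :
        Over.mk (w.left.ker.subschemeι ≫ V.hom) ⟶ V)) := sqZ.isIso_snd_of_isIso
    have h2 : IsIso (Over.homMk w.left.ker.subschemeι rfl :
        Over.mk (w.left.ker.subschemeι ≫ V.hom) ⟶ V) := isIso_of_fully_faithful (AlgSp.yon S) _
    have h3 : IsIso w.left.ker.subschemeι :=
      inferInstanceAs (IsIso ((Over.forget S).map (Over.homMk w.left.ker.subschemeι rfl :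
        Over.mk (w.left.ker.subschemeι ≫ V.hom) ⟶ V)))
    have hker : w.left.ker = ⊥ := (Scheme.isIso_subschemeι_iff_eq_bot _).1 h3
    obtain ⟨ε, hε⟩ := exists_iso_opens_of_isOpenImmersion w
    have hεl : ε.hom.left ≫ w.left = w.left.opensRange.ι := by
      have := congrArg (fun φ => φ.left) hε
      simpa using this
    have hεiso : IsIso ε.hom.left := inferInstanceAs (IsIso ((Over.forget S).map ε.hom))
    have hkerW : w.left.opensRange.ι.ker = ⊥ := by
      rw [← hεl, Scheme.Hom.ker_comp_of_isIso, hker]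
    have hqcW : QuasiCompact w.left.opensRange.ι := by
      rw [← hεl]; infer_instance
    refine ⟨hj, V, p, w.left.opensRange, (AlgSp.yon S).map ε.hom ≫ fst, hp.etale, hp.surjective, ?_,
      isSchematicallyDense_of_ker_ι_eq_bot _ hkerW⟩
    refine IsPullback.of_iso sqw ((AlgSp.yon S).mapIso ε).symm (Iso.refl _) (Iso.refl _)
      (Iso.refl _) ?_ ?_ ?_ ?_
    · simp
    · simp only [Iso.refl_hom, Category.comp_id, Iso.symm_hom, Functor.mapIso_inv]
      rw [← hε, Functor.map_comp, ← Category.assoc, ← Functor.map_comp, Iso.inv_hom_id,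
        CategoryTheory.Functor.map_id, Category.id_comp]
    · simp
    · simp

end Groth.Agent.S9969
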