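import Groth.Statements.S9973
import Groth.Agent.Lib.Helper3.SchImFBC
import Groth.Agent.Lib.Helper3.AlgSpQC3
import Groth.Agent.S9969

set_option autoImplicit false
universe u
open CategoryTheory CategoryTheory.Limits AlgebraicGeometry
open AlgSp

namespace Groth.Agent.S9973

/-- The inverse image of a quasi-compact scheme theoretically dense open under a flat morphism of
algebraic spaces is scheme theoretically dense. -/
theorem result {S : Scheme.{u}} {X Y V V' : AlgSp.Space S} (f : X ⟶ Y)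
    (hf : AlgSp.LocP @Flat f.hom) (j : V ⟶ Y) (hj : AlgSp.IsSchDense j.hom) (hjq : AlgSp.IsQuasiCompactMor j.hom)
    (fst : V' ⟶ V) (jX : V' ⟶ X) (sq : IsPullback fst.hom jX.hom j.hom f.hom) : AlgSp.IsSchDense jX.hom := by
  open Groth.Agent.Lib.Helper3 Groth.Agent.Lib.Helper3.SchIm in
  have hS : AlgSp.IsSchImage j.hom (𝟙 Y.obj) := (Groth.Agent.S9969.result j hj.1 hjq).1 hj
  have sqZ : IsPullback f.hom (𝟙 X : X ⟶ X).hom (𝟙 Y : Y ⟶ Y).hom f.hom :=
    IsPullback.of_vert_isIso ⟨by simp⟩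
  have h1 : AlgSp.IsSchImage jX.hom (𝟙 X.obj) :=
    isSchImage_of_flat_base_change f hf j hj.1.1 hjq (𝟙 Y) hS fst jX sq f (𝟙 X) sqZ
  have hjX : AlgSp.RepWith @IsOpenImmersion jX.hom := MorphismProperty.of_isPullback sq hj.1
  have hjXq : AlgSp.IsQuasiCompactMor jX.hom := isQuasiCompactMor_of_isPullback sq hjq
  exact (Groth.Agent.S9969.result jX hjX hjXq).2 h1

end Groth.Agent.S9973
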