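import Groth.Statements.S9966
import Groth.Agent.S10192
import Groth.Agent.S10193
import Groth.Agent.Lib.Helper3.AlgSpPoints2
import Groth.Agent.Lib.Helper3.SchImSub

set_option autoImplicit false
universe u
open CategoryTheory CategoryTheory.Limits AlgebraicGeometry
open AlgSp

namespace Groth.Agent.S9966

/-- The scheme theoretic image of a morphism from a reduced algebraic space is the reduced induced
structure on the closure of its image. -/
theorem result {S : Scheme.{u}} {X Y Z : AlgSp.Space S} (f : X ⟶ Y) (i : Z ⟶ Y)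
    (hX : AlgSp.IsReducedSp X.obj) (hZ : AlgSp.IsSchImage f.hom i.hom) :
    AlgSp.IsRedInduced (closure (Set.range (AlgSp.Points.map f.hom))) i.hom := by
  obtain ⟨hcl, ⟨f', hf'⟩, hmin⟩ := hZ
  have hmono : Mono i.hom := Groth.Agent.Lib.Helper3.SchIm.mono_of_closedImmersion _ hcl
  obtain ⟨ZT, iT, hclT, hrT, hredT⟩ :=
    Groth.Agent.S10192.result Y (closure (Set.range (AlgSp.Points.map f.hom))) isClosed_closure
  have hmonoT : Mono iT.hom := Groth.Agent.Lib.Helper3.SchIm.mono_of_closedImmersion _ hclT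
  -- `f` factors through the reduced induced subspace
  obtain ⟨g, hg⟩ := (Groth.Agent.S10193.result iT hclT hX f).2 (by
    rw [hrT]; exact subset_closure)
  obtain ⟨k, hk⟩ := hmin iT.hom ZT.property hclT ⟨g.hom, congrArg (fun φ => φ.hom) hg⟩
  -- the reduced induced subspace factors through `Z`
  have hclosed : IsClosed (Set.range (AlgSp.Points.map i.hom)) := by
    have huc : AlgSp.RepWith @UniversallyClosed i.hom :=
      MorphismProperty.relative_monotone (fun A B φ hφ => by
        have : IsClosedImmersion ((Over.forget S).map φ) := hφ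
        change UniversallyClosed ((Over.forget S).map φ)
        infer_instance) _ hcl
    rw [← Set.image_univ]
    exact Groth.Agent.Lib.Helper3.isClosedMap_map_of_repWith huc _ isClosed_univ
  have hsub : Set.range (AlgSp.Points.map f.hom) ⊆ Set.range (AlgSp.Points.map i.hom) := by
    rintro _ ⟨x, rfl⟩
    refine ⟨AlgSp.Points.map f' x, ?_⟩
    rw [← AlgSp.Points.map_comp, hf']
  obtain ⟨k', hk'⟩ := (Groth.Agent.S10193.result i hcl hredT iT).2 (by
    rw [hrT]; exact hclosed.closure_subset_iff.2 hsub)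
  have hk'' : k'.hom ≫ i.hom = iT.hom := congrArg (fun φ => φ.hom) hk'
  have h1 : k ≫ k'.hom = 𝟙 Z.obj := by
    rw [← cancel_mono i.hom, Category.assoc, hk'', hk, Category.id_comp]
  have h2 : k'.hom ≫ k = 𝟙 ZT.obj := by
    rw [← cancel_mono iT.hom, Category.assoc, hk, hk'', Category.id_comp]
  refine ⟨hcl, ?_, ?_⟩
  · rw [← hrT]
    apply Set.Subset.antisymm
    · rintro _ ⟨x, rfl⟩
      refine ⟨AlgSp.Points.map k x, ?_⟩
      rw [← AlgSp.Points.map_comp, hk]
    · rintro _ ⟨x, rfl⟩
      refine ⟨AlgSp.Points.map k'.hom x, ?_⟩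
      rw [← AlgSp.Points.map_comp, hk'']
  · obtain ⟨V, c, hce, hcs, hV⟩ := hredT
    have hiso : IsIso k'.hom := ⟨k, h2, h1⟩
    refine ⟨V, c ≫ k'.hom, ?_, ?_, hV⟩
    · exact ((AlgSp.RepWith @Etale).cancel_right_of_respectsIso c k'.hom).2 hce
    · exact ((AlgSp.RepWith @Surjective).cancel_right_of_respectsIso c k'.hom).2 hcs

end Groth.Agent.S9966
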