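import Groth.Statements.S10213
import Groth.Agent.Lib.Helper3.AlgSpChartPts
import Groth.Agent.Lib.Helper3.AlgSpOpenSubsp2
import Mathlib.AlgebraicGeometry.Morphisms.Etale

set_option autoImplicit false
universe u
open CategoryTheory CategoryTheory.Limits AlgebraicGeometry Topology TopologicalSpace
open AlgSp

namespace Groth.Agent.S10213

/-- For an algebraic space X over a scheme S there is a surjective etale map h_U ⟶ X where U is a
disjoint union of affine schemes, each of which maps into an affine open of S. -/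
theorem result {S : Scheme.{u}} (X : AlgSp.Space S) :
    ∃ (ι : Type u) (V : ι → Scheme.{u}) (_ : ∀ i, IsAffine (V i)) (q : (∐ V) ⟶ S)
      (p : (AlgSp.yon S).obj (Over.mk q) ⟶ X.obj),
      AlgSp.RepWith @Etale p ∧ AlgSp.RepWith @Surjective p ∧
        ∀ i, ∃ W : S.Opens, IsAffineOpen W ∧ ∀ v : ↥(V i), (Sigma.ι V i ≫ q) v ∈ W := by
  obtain ⟨U, a, hae, has⟩ := X.property.atlas
  have key : ∀ u : ↥U.left, ∃ (V₀ : U.left.Opens) (W : S.Opens), IsAffineOpen V₀ ∧ u ∈ V₀ ∧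
      IsAffineOpen W ∧ ∀ v ∈ V₀, U.hom v ∈ W := by
    intro u
    obtain ⟨W, hW, huW, -⟩ := exists_isAffineOpen_mem_and_subset (x := U.hom u) (U := ⊤) trivial
    obtain ⟨V₀, hV₀, huV₀, hsub⟩ := exists_isAffineOpen_mem_and_subset (x := u)
      (U := U.hom ⁻¹ᵁ W) huW
    exact ⟨V₀, W, hV₀, huV₀, hW, fun v hv => hsub hv⟩
  choose V₀ W hV₀ huV₀ hW hVW using key
  let V : ↥U.left → Scheme.{u} := fun u => (V₀ u).toScheme
  let c : (∐ V) ⟶ U.left := Sigma.desc (fun u => (V₀ u).ι)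
  have hc1 : Etale c := IsZariskiLocalAtSource.sigmaDesc (fun u => inferInstance)
  have hc2 : Surjective c := ⟨fun u => ⟨Sigma.ι V u ⟨u, huV₀ u⟩, by
    rw [← Scheme.Hom.comp_apply, Sigma.ι_desc]; rfl⟩⟩
  let cO : Over.mk (c ≫ U.hom) ⟶ U := Over.homMk c rfl
  refine ⟨↥U.left, V, fun u => hV₀ u, c ≫ U.hom, (yon S).map cO ≫ a,
    (RepWith @Etale).comp_mem _ _ ((repWith_yon_map_iff _ _).2 hc1) hae,
    (RepWith @Surjective).comp_mem _ _ ((repWith_yon_map_iff _ _).2 hc2) has, fun u => ?_⟩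
  refine ⟨W u, hW u, fun v => ?_⟩
  have : Sigma.ι V u ≫ c ≫ U.hom = (V₀ u).ι ≫ U.hom := by
    rw [← Category.assoc, Sigma.ι_desc]
  rw [this, Scheme.Hom.comp_apply]
  exact hVW u _ v.2

end Groth.Agent.S10213
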