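import Groth.Statements.S13152
import Groth.Agent.S2358
import Groth.Agent.Lib.Helper9.Tors1
import Groth.Agent.Lib.Helper3.FpqcDescMain

set_option autoImplicit false
universe u
open CategoryTheory AlgebraicGeometry
open NonAbH1

namespace Groth.Agent.S13152

/-- Let X be a normal integral scheme (integral, with every local ring an integrally closed domain), G
an X-group scheme which is finite and flat over X, and Y an X-scheme with an action of G making it a
G-torsor for the fppf topology. If Y acquires a section over the spectrum of the local ring of X at
its generic point (the function field of X), then Y has a section over X; in other words the map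
from isomorphism classes of fppf G-torsors over X to those over the function field has trivial
kernel. (The published statement assumes moreover that all schemes are Noetherian and that G is
commutative, and is phrased as injectivity of H¹(X, G) → H¹(K(X), G); these extra assumptions are
not needed for the trivial-kernel assertion stated here.) -/
theorem result {X : Scheme.{u}} [IsIntegral X]
    (hX : Pi1.IsNormalScheme X) (G : Over X) [GrpObj G] [IsFinite G.hom] [Flat G.hom]
    (Y : Over X) (a : AlgGrp.Action G Y) (hY : NonAbH1.IsTorsorFor Scheme.fppfPrecoverage a)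
    (hgen : NonAbH1.HasSectionOver Y (X.fromSpecStalk (genericPoint X))) :
    NonAbH1.HasSectionOver Y (𝟙 X) := by
  have hT : NonAbH1.IsTorsorFor Scheme.fpqcPrecoverage a := by
    obtain ⟨h1, Rr, hR, h2⟩ := hY
    exact ⟨h1, Rr, Scheme.fppfPrecoverage_le_fpqcPrecoverage _ hR, h2⟩
  have hfin : IsFinite Y.hom :=
    Groth.Agent.Lib.Helper9.Tors.prop_hom_of_isTorsorFor_fpqc (P := @IsFinite) a hT
      inferInstance
  obtain ⟨φ, hφ⟩ := hgen
  have hφ' : φ ≫ Y.hom = X.fromSpecStalk (genericPoint X) ≫ 𝟙 X := by
    rw [hφ, Category.comp_id]
  obtain ⟨U, hηU, g, -, hg⟩ := spread_out_of_isGermInjective' (𝟙 X) Y.hom φ hφ'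
  rw [Category.comp_id] at hg
  have hUd : Dense (U : Set X) := U.2.dense ⟨_, hηU⟩
  obtain ⟨s', hs', -⟩ := Groth.Agent.S2358.result hX Y.hom U hUd g hg
  exact ⟨s', hs'⟩

end Groth.Agent.S13152
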