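import Groth.Statements.S10482
import Groth.Agent.Lib.Helper3.AlgSpIntegralDim
import Groth.Agent.Lib.Helper3.AlgSpLocP5
import Mathlib.AlgebraicGeometry.Artinian
import Mathlib.AlgebraicGeometry.Morphisms.QuasiFinite
-- import your own Groth.Agent.* helpers here

set_option autoImplicit false
universe u
open CategoryTheory CategoryTheory.Limits AlgebraicGeometry Topology TopologicalSpace
open AlgSp

namespace Groth.Agent.S10482

section H
set_option backward.isDefEq.respectTransparency.types false
namespace W1
open Groth.Agent.Lib.Helper3

/-- a scheme locally of finite type over a field is locally quasi-finite over it iff it has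
dimension at most zero -/
theorem scheme_level {k : Type u} [Field k] {U : Scheme.{u}} (f : U ⟶ Spec (CommRingCat.of k))
    [LocallyOfFiniteType f] : LocallyQuasiFinite f ↔ topologicalKrullDim U ≤ 0 := by
  constructor
  · intro h
    have h1 : _root_.IsDiscrete (f ⁻¹' {IsLocalRing.closedPoint k}) := f.isDiscrete_preimage_singleton _
    have h2 : f ⁻¹' {IsLocalRing.closedPoint k} = Set.univ := by
      ext x
      simp only [Set.mem_preimage, Set.mem_univ, iff_true]
      exact Subsingleton.elim (α := PrimeSpectrum k) _ _
    rw [h2] at h1
    haveI : DiscreteTopology U := by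
      haveI := h1.to_subtype
      exact (Homeomorph.Set.univ U).discreteTopology
    exact topologicalKrullDim_zero_of_discreteTopology U
  · intro h
    haveI : IsLocallyNoetherian U := LocallyOfFiniteType.isLocallyNoetherian f
    haveI : IsLocallyArtinian U := IsLocallyArtinian.of_topologicalKrullDim_le_zero h
    refine (IsZariskiLocalAtSource.iff_of_openCover (P := @LocallyQuasiFinite) U.affineCover).mpr
      fun i => ?_
    haveI : IsLocallyArtinian (U.affineCover.X i) := inferInstance
    haveI : IsArtinianRing Γ(U.affineCover.X i, ⊤) := inferInstance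
    haveI : Finite (U.affineCover.X i) := by
      have e := (U.affineCover.X i).isoSpec.hom.homeomorph
      haveI : Finite (Spec Γ(U.affineCover.X i, ⊤)) :=
        inferInstanceAs (Finite (PrimeSpectrum Γ(U.affineCover.X i, ⊤)))
      exact Finite.of_equiv _ e.symm.toEquiv
    exact LocallyQuasiFinite.of_finite_preimage_singleton _ (fun x => Set.toFinite _)

theorem main (k : Type u) [Field k] (X : AlgSp.Space (Spec (CommRingCat.of k))) (p : X.obj ⟶ (AlgSp.yon (Spec (CommRingCat.of k))).obj (Over.mk (𝟙 _))) :
    AlgSp.LocP (@LocallyQuasiFinite ⊓ @LocallyOfFiniteType : MorphismProperty Scheme.{u}) p ↔ AlgSp.LocP @LocallyOfFiniteType p ∧ AlgSp.dim X.obj ≤ 0 := by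
  constructor
  · intro h
    refine ⟨locP_mono inf_le_right h, ?_⟩
    unfold AlgSp.dim
    refine iSup_le fun U => iSup_le fun a => iSup_le fun ha => ?_
    obtain ⟨t, ht⟩ := (yon _).map_surjective (a ≫ p)
    have h1 := h a (𝟙 _) t ha (repWith_id _ _) (by rw [ht, Category.comp_id])
    have e : t.left = U.hom := by
      have := Over.w t
      simpa using this
    rw [e] at h1
    haveI : LocallyOfFiniteType U.hom := h1.2
    exact (scheme_level U.hom).1 h1.1
  · rintro ⟨hft, hdim⟩ U V a b h ha hb w
    have hh : LocallyOfFiniteType h.left := hft a b h ha hb w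
    refine ⟨?_, hh⟩
    obtain ⟨t, ht⟩ := (yon _).map_surjective (a ≫ p)
    have h1 : LocallyOfFiniteType t.left :=
      hft a (𝟙 _) t ha (repWith_id _ _) (by rw [ht, Category.comp_id])
    have e : t.left = U.hom := by
      have := Over.w t
      simpa using this
    rw [e] at h1
    haveI := h1
    have hU : topologicalKrullDim ↥U.left ≤ 0 := (le_dim_of_chart a ha).trans hdim
    have h2 : LocallyQuasiFinite U.hom := (scheme_level U.hom).2 hU
    have e2 : h.left ≫ V.hom = U.hom := Over.w h
    rw [← e2] at h2
    exact LocallyQuasiFinite.of_comp h.left V.hom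

end W1
end H


/-- (1) ⇔ (2): let k be a field and X an algebraic space over k. Then X is locally quasi-finite over k
if and only if X is locally of finite type over k of dimension at most 0. (The published statement
says dimension 0; dimension at most 0 is used so that the empty space, whose dimension is the bottom
element, is covered by both sides.) -/
theorem result (k : Type u) [Field k] (X : AlgSp.Space (Spec (CommRingCat.of k))) (p : X.obj ⟶ (AlgSp.yon (Spec (CommRingCat.of k))).obj (Over.mk (𝟙 _))) :
    AlgSp.LocP (@LocallyQuasiFinite ⊓ @LocallyOfFiniteType : MorphismProperty Scheme.{u}) p ↔ AlgSp.LocP @LocallyOfFiniteType p ∧ AlgSp.dim X.obj ≤ 0 := by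
  exact W1.main k X p

end Groth.Agent.S10482
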