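import Groth.Statements.S6800
import Mathlib.AlgebraicTopology.SimplexCategory.Basic
import Mathlib.Data.Finite.Sigma

set_option autoImplicit false
open CategoryTheory CategoryTheory.Limits
universe v u
open CategoryTheory CategoryTheory.SimplicialObject CategoryTheory.SimplicialObject.Truncated

namespace Groth.Agent.S6800

open Opposite in
theorem finite_structuredArrow (m : ℕ) (Y : SimplexCategoryᵒᵖ) :
    Finite (StructuredArrow Y (SimplexCategory.Truncated.inclusion m).op) := by
  let g : (Σ k : Fin (m + 1), (SimplexCategory.mk k ⟶ Y.unop)) →
      StructuredArrow Y (SimplexCategory.Truncated.inclusion m).op :=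
    fun p => StructuredArrow.mk
      (Y := op (⟨SimplexCategory.mk p.1, by simp; omega⟩ : SimplexCategory.Truncated m)) p.2.op
  apply Finite.of_surjective g
  intro A
  refine ⟨⟨⟨A.right.unop.obj.len, Nat.lt_succ_of_le A.right.unop.property⟩, A.hom.unop⟩, ?_⟩
  rfl

theorem finite_structuredArrow_hom (m : ℕ) (Y : SimplexCategoryᵒᵖ)
    (A B : StructuredArrow Y (SimplexCategory.Truncated.inclusion m).op) : Finite (A ⟶ B) := by
  apply Finite.of_injective (fun φ : A ⟶ B => φ.right.unop.hom)
  intro φ ψ h
  apply StructuredArrow.hom_ext
  apply Quiver.Hom.unop_inj
  exact ObjectProperty.hom_ext _ h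

/-- In a category with finite limits every truncated simplicial object has a pointwise right Kan
extension along the inclusion of the truncated simplex category, i.e. the coskeleton functors exist
and are given by the limit formula. -/
theorem result {C : Type u} [Category.{v} C] [HasFiniteLimits C] (m : ℕ) (U : (SimplexCategory.Truncated m)ᵒᵖ ⥤ C) : (SimplexCategory.Truncated.inclusion m).op.HasPointwiseRightKanExtension U := by
  intro Y
  have := finite_structuredArrow m Y
  have : Fintype (StructuredArrow Y (SimplexCategory.Truncated.inclusion m).op) :=
    Fintype.ofFinite _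
  have : FinCategory (StructuredArrow Y (SimplexCategory.Truncated.inclusion m).op) :=
    { fintypeHom := fun A B => by
        have := finite_structuredArrow_hom m Y A B
        exact Fintype.ofFinite _ }
  infer_instance

end Groth.Agent.S6800
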