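import Groth.Statements.S6811
import Groth.Agent.S6800

set_option autoImplicit false
open CategoryTheory CategoryTheory.Limits
universe v u
open CategoryTheory CategoryTheory.SimplicialObject

namespace Groth.Agent.S6811

/-- In a category with finite limits, an `n`-coskeletal simplicial object is `m`-coskeletal for every `m
≥ n`. -/
theorem result {C : Type u} [Category.{v} C] [HasFiniteLimits C] (U : SimplicialObject C) {n m : ℕ} (h : n ≤ m) [U.IsCoskeletal n] : U.IsCoskeletal m := by
  have hR : ∀ F : (SimplexCategory.Truncated m)ᵒᵖ ⥤ C,
      (SimplexCategory.Truncated.inclusion m).op.HasPointwiseRightKanExtension F :=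
    fun F => Groth.Agent.S6800.result m F
  rw [SimplicialObject.isCoskeletal_iff_isIso]
  set η := (SimplicialObject.coskAdj m).unit.app U with hη
  -- the restriction of `η` to level `m` is an isomorphism
  have htri := (SimplicialObject.coskAdj (C := C) m).left_triangle_components U
  have hm : IsIso ((SimplicialObject.truncation m).map η) := by
    have hc : IsIso ((SimplicialObject.coskAdj (C := C) m).counit.app
        ((SimplicialObject.truncation m).obj U)) := inferInstance
    have hcomp : IsIso ((SimplicialObject.truncation m).map η ≫
        (SimplicialObject.coskAdj (C := C) m).counit.app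
          ((SimplicialObject.truncation m).obj U)) := by
      rw [hη, htri]; exact IsIso.id _
    exact IsIso.of_isIso_comp_right _ ((SimplicialObject.coskAdj (C := C) m).counit.app
          ((SimplicialObject.truncation m).obj U))
  -- hence so is the restriction to level `n`
  have hn : IsIso (Functor.whiskerLeft (SimplexCategory.Truncated.inclusion n).op η) := by
    rw [NatTrans.isIso_iff_isIso_app]
    intro k
    exact (inferInstance : IsIso (((SimplicialObject.truncation m).map η).app
      (Opposite.op ⟨k.unop.obj, le_trans k.unop.property h⟩)))
  let E := fun Y : SimplicialObject C =>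
    Functor.homEquivOfIsRightKanExtension U
      (𝟙 ((SimplexCategory.Truncated.inclusion n).op ⋙ U)) Y
  let γ := (E _).symm (inv (Functor.whiskerLeft (SimplexCategory.Truncated.inclusion n).op η))
  have hE : ∀ (Y : SimplicialObject C) (β : Y ⟶ U), E Y β =
      Functor.whiskerLeft (SimplexCategory.Truncated.inclusion n).op β ≫ 𝟙 _ := fun _ _ => rfl
  have hγ : Functor.whiskerLeft (SimplexCategory.Truncated.inclusion n).op γ =
      inv (Functor.whiskerLeft (SimplexCategory.Truncated.inclusion n).op η) := by
    have := (E _).apply_symm_apply
      (inv (Functor.whiskerLeft (SimplexCategory.Truncated.inclusion n).op η))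
    rw [hE, Category.comp_id] at this
    exact this
  have h1 : η ≫ γ = 𝟙 _ := by
    apply (E _).injective
    rw [hE, hE, Functor.whiskerLeft_comp, hγ, IsIso.hom_inv_id]
    rfl
  have h2 : γ ≫ η = 𝟙 _ := by
    apply ((SimplicialObject.coskAdj (C := C) m).homEquiv _ _).symm.injective
    simp only [Adjunction.homEquiv_counit]
    congr 1
    have h3 : (SimplicialObject.truncation m).map η ≫ (SimplicialObject.truncation m).map γ =
        𝟙 _ := by
      rw [← Functor.map_comp, h1, CategoryTheory.Functor.map_id]
    have h4 : (SimplicialObject.truncation m).map γ =
        inv ((SimplicialObject.truncation m).map η) := by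
      rw [← cancel_epi ((SimplicialObject.truncation m).map η), h3, IsIso.hom_inv_id]
    rw [Functor.map_comp, h4, IsIso.inv_hom_id, CategoryTheory.Functor.map_id]
  exact ⟨γ, h1, h2⟩

end Groth.Agent.S6811
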