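import Groth.Statements.S17647
import Groth.Agent.Lib.Helper6.DevDel
import Groth.Agent.Lib.Helper28.QCohPush
import Groth.Agent.Lib.Helper28.RelTildeMap

set_option autoImplicit false
universe u
open CategoryTheory CategoryTheory.Limits AlgebraicGeometry
open QCohCat

namespace Groth.Agent.S17647

open Groth.Agent.Lib.Helper17.CohKer Groth.Agent.Lib.Helper17.StalkExact Groth.Agent.Lib.Helper28.QCohLoc
  Groth.Agent.Lib.Helper6.DevFin Groth.Agent.Lib.Helper6.DevGen Groth.Agent.Lib.Helper6.DevSub in
/-- the restriction of a morphism to an open subscheme is an isomorphism iff its kernel and cokernel are supported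
off that open -/
theorem isIso_restrict_iff_support {X : Scheme.{u}} (U : X.Opens) {A B : X.Modules} (f : A ⟶ B) :
    IsIso ((Scheme.Modules.restrictFunctor U.ι).map f) ↔
      CohB1.support (kernel f) ⊆ (↑U : Set X)ᶜ ∧ CohB1.support (cokernel f) ⊆ (↑U : Set X)ᶜ := by
  constructor
  · intro h
    rw [Groth.Agent.Lib.Helper28.GenLocus.isIso_restrict_iff] at h
    constructor
    · intro x hx hxU
      apply hx
      have key : ∀ k : (kernel f).presheaf.stalk x, k = 0 := by
        intro k
        obtain ⟨W, hxW, κ, rfl⟩ := TopCat.Presheaf.exists_germ_eq (kernel f).presheaf k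
        have hx' : x ∈ W ⊓ U := ⟨hxW, hxU⟩
        rw [← germ_res' (kernel f) x (inf_le_left : W ⊓ U ≤ W) hx']
        have h0 : res (kernel f) (inf_le_left : W ⊓ U ≤ W) κ = 0 := by
          apply app_injective_of_mono (kernel.ι f) (W ⊓ U)
          apply (h (W ⊓ U) inf_le_right).1
          rw [map_zero, map_zero]
          exact congrArg (fun φ : kernel f ⟶ B => φ.app (W ⊓ U) _) (kernel.condition f)
        rw [h0]
        exact map_zero _
      exact ⟨fun a b => by rw [key a, key b]⟩
    · intro x hx hxU
      apply hx
      have key : ∀ c : (cokernel f).presheaf.stalk x, c = 0 := by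
        intro c
        obtain ⟨b, rfl⟩ := stalkHom_surjective_of_epi (cokernel.π f) x c
        obtain ⟨W, hxW, β, rfl⟩ := TopCat.Presheaf.exists_germ_eq B.presheaf b
        have hx' : x ∈ W ⊓ U := ⟨hxW, hxU⟩
        rw [← germ_res' B x (inf_le_left : W ⊓ U ≤ W) hx']
        obtain ⟨α, hα⟩ := (h (W ⊓ U) inf_le_right).2 (res B (inf_le_left : W ⊓ U ≤ W) β)
        rw [← hα, stalkHom_germ]
        have h0 : (cokernel.π f).app (W ⊓ U) (f.app (W ⊓ U) α) = 0 :=
          congrArg (fun φ : A ⟶ cokernel f => φ.app (W ⊓ U) α) (cokernel.condition f)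
        rw [h0]
        exact map_zero _
      exact ⟨fun a b => by rw [key a, key b]⟩
  · rintro ⟨hk, hc⟩
    have hle : ∀ V : (↑U : Scheme.{u}).Opens, ∀ x ∈ U.ι ''ᵁ V, x ∈ U := by
      rintro V x ⟨y, -, rfl⟩
      exact y.2
    haveI hmono : Mono ((Scheme.Modules.restrictFunctor U.ι).map f) := by
      apply mono_of_injective
      intro V
      change Function.Injective (f.app (U.ι ''ᵁ V))
      rw [injective_iff_map_eq_zero]
      intro s hs
      obtain ⟨k, rfl⟩ := exists_kernel_app_eq f (U.ι ''ᵁ V) s hs
      rw [section_eq_zero_of_notMem_support (kernel f) (U.ι ''ᵁ V)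
        (fun x hx hxs => hk hxs (hle V x hx)) k, map_zero]
    haveI hepi : Epi ((Scheme.Modules.restrictFunctor U.ι).map f) := by
      have hz : IsZero ((Scheme.Modules.restrictFunctor U.ι).obj (cokernel f)) := by
        rw [IsZero.iff_id_eq_zero]
        ext V s
        change s = 0
        exact section_eq_zero_of_notMem_support (cokernel f) (U.ι ''ᵁ V)
          (fun x hx hxs => hc hxs (hle V x hx)) s
      have hz' : IsZero (cokernel ((Scheme.Modules.restrictFunctor U.ι).map f)) :=
        hz.of_iso (PreservesCokernel.iso (Scheme.Modules.restrictFunctor U.ι) f).symm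
      exact Preadditive.epi_of_isZero_cokernel _ hz'
    exact isIso_of_mono_of_epi _

/-- Let X be a scheme and U ⊆ X an open subset whose inclusion U ⟶ X is quasi-compact, Z = X ∖ U. Then
the restriction functor QCoh(X) ⥤ QCoh(U) between the categories of quasi-coherent modules is a
localization functor for the class of morphisms of quasi-coherent O_X-modules whose kernel and
cokernel (computed in O_X-modules) have support contained in Z: the category QCoh(U) is the quotient
of QCoh(X) by the localizing subcategory of quasi-coherent modules supported in Z, the direct image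
along U ⟶ X being the fully faithful right adjoint. No hypothesis is made on X beyond the
quasi-compactness of U ⟶ X. -/
theorem result (X : Scheme.{u})
    (U : X.Opens) [QuasiCompact U.ι] :
    (ObjectProperty.lift (QCohCat.isQCoh (↑U : Scheme.{u}))
        (ObjectProperty.ι (QCohCat.isQCoh X) ⋙ Scheme.Modules.restrictFunctor U.ι)
        (fun M => @Scheme.Modules.isQuasicoherent_restrictFunctor (↑U : Scheme.{u}) X U.ι
          inferInstance M.obj M.property)).IsLocalization
      (fun (A B : QCohCat.QCoh X) (f : A ⟶ B) =>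
        CohB1.support (kernel f.hom) ⊆ (↑U : Set X)ᶜ ∧
          CohB1.support (cokernel f.hom) ⊆ (↑U : Set X)ᶜ) := by
  let R : QCohCat.QCoh (↑U : Scheme.{u}) ⥤ QCohCat.QCoh X :=
    ObjectProperty.lift (QCohCat.isQCoh X)
      (ObjectProperty.ι (QCohCat.isQCoh (↑U : Scheme.{u})) ⋙ Scheme.Modules.pushforward U.ι)
      (fun N => by
        haveI : N.obj.IsQuasicoherent := N.property
        exact Groth.Agent.Lib.Helper28.QCohLoc.isQuasicoherent_pushforward U.ι N.obj)
  let adj : (ObjectProperty.lift (QCohCat.isQCoh (↑U : Scheme.{u}))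
        (ObjectProperty.ι (QCohCat.isQCoh X) ⋙ Scheme.Modules.restrictFunctor U.ι)
        (fun M => @Scheme.Modules.isQuasicoherent_restrictFunctor (↑U : Scheme.{u}) X U.ι
          inferInstance M.obj M.property)) ⊣ R :=
    (Scheme.Modules.restrictAdjunction U.ι).restrictFullyFaithful
      (ObjectProperty.fullyFaithfulι _) (ObjectProperty.fullyFaithfulι _) (Iso.refl _) (Iso.refl _)
  have hW : (fun (A B : QCohCat.QCoh X) (f : A ⟶ B) =>
        CohB1.support (kernel f.hom) ⊆ (↑U : Set X)ᶜ ∧
          CohB1.support (cokernel f.hom) ⊆ (↑U : Set X)ᶜ) =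
      (MorphismProperty.isomorphisms _).inverseImage (ObjectProperty.lift (QCohCat.isQCoh (↑U : Scheme.{u}))
        (ObjectProperty.ι (QCohCat.isQCoh X) ⋙ Scheme.Modules.restrictFunctor U.ι)
        (fun M => @Scheme.Modules.isQuasicoherent_restrictFunctor (↑U : Scheme.{u}) X U.ι
          inferInstance M.obj M.property)) := by
    ext A B f
    rw [MorphismProperty.inverseImage_iff, MorphismProperty.isomorphisms.iff,
      ← isIso_iff_of_reflects_iso _ (ObjectProperty.ι (QCohCat.isQCoh (↑U : Scheme.{u})))]
    exact (isIso_restrict_iff_support U f.hom).symm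
  rw [hW]
  exact adj.isLocalization

end Groth.Agent.S17647
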