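import Groth.Statements.S4372
import Groth.Agent.S4367

set_option autoImplicit false
universe u
open RedSep

namespace Groth.Agent.S4372

open AlgebraicGeometry in
open CategoryTheory in
theorem isReduced_vanishingIdeal_subscheme {X : Scheme.{u}} (C : TopologicalSpace.Closeds X) :
    IsReduced (Scheme.IdealSheafData.vanishingIdeal C).subscheme := by
  have : ∀ U, IsReduced ((Scheme.IdealSheafData.vanishingIdeal C).subschemeCover.openCover.X U) := by
    intro (U : X.affineOpens)
    change IsReduced (Spec (.of (Γ(X, U.1) ⧸ (Scheme.IdealSheafData.vanishingIdeal C).ideal U)))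
    have : _root_.IsReduced (Γ(X, U.1) ⧸ (Scheme.IdealSheafData.vanishingIdeal C).ideal U) := by
      rw [← Ideal.isRadical_iff_quotient_reduced]
      simp only [Scheme.IdealSheafData.vanishingIdeal_ideal]
      exact PrimeSpectrum.isRadical_vanishingIdeal _
    infer_instance
  exact IsReduced.of_openCover _ (Scheme.IdealSheafData.vanishingIdeal C).subschemeCover.openCover

open AlgebraicGeometry in
open CategoryTheory in
/-- Let h : Z -> X be an immersion with Z reduced (a reduced subscheme of X), and let W be the reduced
closed subscheme of X whose underlying space is the closure of h(Z). Then Z is an open subscheme of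
W: h factors as an open immersion Z -> W followed by the closed immersion W -> X. Stated as the
existence of such a factorization through a reduced scheme W closed-immersed onto the closure of the
image. -/
theorem result
    {Z X : Scheme.{u}} (h : Z ⟶ X) [IsImmersion h] [IsReduced Z] :
    ∃ (W : Scheme.{u}) (j : Z ⟶ W) (i : W ⟶ X), IsOpenImmersion j ∧ IsClosedImmersion i ∧
      IsReduced W ∧ Set.range i = closure (Set.range h) ∧ j ≫ i = h := by
  let C : TopologicalSpace.Closeds X := ⟨closure (Set.range h), isClosed_closure⟩
  let I := Scheme.IdealSheafData.vanishingIdeal C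
  have hW : IsReduced I.subscheme := isReduced_vanishingIdeal_subscheme C
  have hrange : Set.range I.subschemeι = closure (Set.range h) := by
    rw [Scheme.IdealSheafData.range_subschemeι]
    simp [I, C]
  obtain ⟨j, hj⟩ := Groth.Agent.S4367.result h I.subschemeι (by
    rw [hrange]; exact subset_closure)
  refine ⟨I.subscheme, j, I.subschemeι, ?_, inferInstance, hW, hrange, hj⟩
  let k : Z ⟶ Limits.pullback I.subschemeι h.coborderRange.ι :=
    Limits.pullback.lift j h.liftCoborder (by rw [hj, Scheme.Hom.liftCoborder_ι])
  have hk1 : k ≫ Limits.pullback.fst _ _ = j := Limits.pullback.lift_fst _ _ _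
  have hk2 : k ≫ Limits.pullback.snd _ _ = h.liftCoborder := Limits.pullback.lift_snd _ _ _
  have hP : IsReduced (Limits.pullback I.subschemeι h.coborderRange.ι) :=
    isReduced_of_isOpenImmersion (Limits.pullback.fst I.subschemeι h.coborderRange.ι)
  have hk : IsClosedImmersion (k ≫ Limits.pullback.snd I.subschemeι h.coborderRange.ι) := by
    rw [hk2]; infer_instance
  have : IsClosedImmersion k :=
    IsClosedImmersion.of_comp_isClosedImmersion k (Limits.pullback.snd I.subschemeι h.coborderRange.ι)
  have : Surjective k := ⟨by
    intro p
    have hp : h.coborderRange.ι ((Limits.pullback.snd I.subschemeι h.coborderRange.ι) p) ∈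
        closure (Set.range h) ∩ coborder (Set.range h) := by
      constructor
      · rw [← hrange]
        refine ⟨(Limits.pullback.fst I.subschemeι h.coborderRange.ι) p, ?_⟩
        rw [← Scheme.Hom.comp_apply, ← Scheme.Hom.comp_apply, Limits.pullback.condition]
      · exact ((Limits.pullback.snd I.subschemeι h.coborderRange.ι) p).2
    rw [closure_inter_coborder] at hp
    obtain ⟨z, hz⟩ := hp
    refine ⟨z, (Limits.pullback.snd I.subschemeι h.coborderRange.ι).isClosedEmbedding.injective ?_⟩
    apply h.coborderRange.ι.isOpenEmbedding.injective
    rw [← hz, ← Scheme.Hom.comp_apply, ← Scheme.Hom.comp_apply, reassoc_of% hk2,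
      Scheme.Hom.liftCoborder_ι]⟩
  have : IsIso k := isIso_of_isClosedImmersion_of_surjective k
  rw [← hk1]
  infer_instance

end Groth.Agent.S4372
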