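import Groth.Statements.S6810
import Mathlib.AlgebraicTopology.SimplexCategory.Basic
import Mathlib.Data.Finite.Sigma

set_option autoImplicit false
open CategoryTheory CategoryTheory.Limits
universe v u
open CategoryTheory CategoryTheory.SimplicialObject CategoryTheory.SimplicialObject.Truncated

namespace Groth.Agent.S6810

open Opposite in
theorem finite_costructuredArrow (m : ℕ) (Y : SimplexCategoryᵒᵖ) :
    Finite (CostructuredArrow (SimplexCategory.Truncated.inclusion m).op Y) := by
  let g : (Σ k : Fin (m + 1), (Y.unop ⟶ SimplexCategory.mk k)) →
      CostructuredArrow (SimplexCategory.Truncated.inclusion m).op Y :=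
    fun p => CostructuredArrow.mk
      (Y := op (⟨SimplexCategory.mk p.1, by simp; omega⟩ : SimplexCategory.Truncated m)) p.2.op
  apply Finite.of_surjective g
  intro A
  refine ⟨⟨⟨A.left.unop.obj.len, Nat.lt_succ_of_le A.left.unop.property⟩, A.hom.unop⟩, ?_⟩
  rfl

theorem finite_costructuredArrow_hom (m : ℕ) (Y : SimplexCategoryᵒᵖ)
    (A B : CostructuredArrow (SimplexCategory.Truncated.inclusion m).op Y) : Finite (A ⟶ B) := by
  apply Finite.of_injective (fun φ : A ⟶ B => φ.left.unop.hom)
  intro φ ψ h
  apply CostructuredArrow.hom_ext
  apply Quiver.Hom.unop_inj
  exact ObjectProperty.hom_ext _ h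

/-- In a category with finite colimits every truncated simplicial object has a pointwise left Kan
extension along the inclusion of the truncated simplex category, i.e. the left adjoints `i_{m!}` of
truncation exist and are given by the colimit formula. -/
theorem result {C : Type u} [Category.{v} C] [HasFiniteColimits C] (m : ℕ) (U : (SimplexCategory.Truncated m)ᵒᵖ ⥤ C) : (SimplexCategory.Truncated.inclusion m).op.HasPointwiseLeftKanExtension U := by
  intro Y
  have := finite_costructuredArrow m Y
  have : Fintype (CostructuredArrow (SimplexCategory.Truncated.inclusion m).op Y) :=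
    Fintype.ofFinite _
  have : FinCategory (CostructuredArrow (SimplexCategory.Truncated.inclusion m).op Y) :=
    { fintypeHom := fun A B => by
        have := finite_costructuredArrow_hom m Y A B
        exact Fintype.ofFinite _ }
  infer_instance

end Groth.Agent.S6810
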