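import Groth.Statements.S19568
import Groth.Agent.Lib.Helper12.PairColim

set_option autoImplicit false
universe u
open Hensel

namespace Groth.Agent.S19568

/-- Let A be a ring, I an ideal of A and B an A-algebra which is a henselization of the pair (A, I).
Consider étale A-algebras A' for which the induced map A/I → A'/IA' is bijective. Then: (a) every
such A' admits exactly one A-algebra map to B; (b) every element of B is the image of an element of
some such A' under an A-algebra map A' → B; (c) if an A-algebra map A' → B from such an algebra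
sends an element s to 0, then there are another such algebra A'' and an A-algebra map A' → A''
sending s to 0. (All algebras are taken in the universe of A. Together with the filteredness of the
category of these algebras, (a), (b) and (c) express that B, with the maps of (a), is their
colimit.) -/
theorem result (A : Type u) [CommRing A] (I : Ideal A)
    (B : Type u) [CommRing B] [Algebra A B] (hB : Hens2.IsPairHenselization A I B) :
    (∀ (A' : Type u) [CommRing A'] [Algebra A A'] [Algebra.Etale A A'],
        Function.Bijective (Ideal.quotientMap (I.map (algebraMap A A')) (algebraMap A A') Ideal.le_comap_map) →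
          Nonempty (Unique (A' →ₐ[A] B))) ∧
    (∀ x : B, ∃ (A' : Type u) (_ : CommRing A') (_ : Algebra A A') (_ : Algebra.Etale A A'),
        Function.Bijective (Ideal.quotientMap (I.map (algebraMap A A')) (algebraMap A A') Ideal.le_comap_map) ∧
          ∃ (φ : A' →ₐ[A] B) (s : A'), φ s = x) ∧
    (∀ (A' : Type u) [CommRing A'] [Algebra A A'] [Algebra.Etale A A'],
        Function.Bijective (Ideal.quotientMap (I.map (algebraMap A A')) (algebraMap A A') Ideal.le_comap_map) →
          ∀ (φ : A' →ₐ[A] B) (s : A'), φ s = 0 →
            ∃ (A'' : Type u) (_ : CommRing A'') (_ : Algebra A A'') (_ : Algebra.Etale A A''),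
              Function.Bijective (Ideal.quotientMap (I.map (algebraMap A A'')) (algebraMap A A'') Ideal.le_comap_map) ∧
                ∃ ψ : A' →ₐ[A] A'', ψ s = 0) := by
  classical
  haveI hHB : HenselianRing B (I.map (algebraMap A B)) := hB.1
  obtain ⟨e⟩ := Groth.Agent.Lib.Helper12.PairUnique.nonempty_algEquiv
    (Groth.Agent.Lib.Helper12.PairNbhd.Lim.isPairHenselization A I) hB
  refine ⟨?_, ?_, ?_⟩
  · intro A' _ _ _ hbij
    exact Groth.Agent.Lib.Helper12.PairNbhd.nonempty_unique_algHom hbij
  · intro x
    obtain ⟨A', _, _, _, hbij, φ, s, hs⟩ :=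
      Groth.Agent.Lib.Helper12.PairNbhd.Lim.exists_etale_of (e.symm x)
    refine ⟨A', inferInstance, inferInstance, inferInstance, hbij,
      (e : _ →ₐ[A] B).comp φ, s, ?_⟩
    show e (φ s) = x
    rw [hs, e.apply_symm_apply]
  · intro A' _ _ _ hbij φ s hs
    haveI : Module.Flat A B := Groth.Agent.Lib.Helper12.PairUnique.flat_of_isPairHenselization hB
    have h1 := Groth.Agent.Lib.Helper12.PairNbhd.one_mem_map_annihilator φ s hs
    obtain ⟨σ', hσ'⟩ := Groth.Agent.Lib.Helper12.PairNbhd.exists_point_of_bijective hbij
    -- the point of `B`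
    haveI : HenselianRing (A ⧸ I) ⊥ := Groth.Agent.Lib.Helper12.henselianRing_bot
    have hle : I.map (algebraMap A (A ⧸ I)) ≤ ⊥ := by
      rw [Ideal.map_le_iff_le_comap]
      intro a ha
      rw [Ideal.mem_comap, Ideal.mem_bot, Ideal.Quotient.algebraMap_eq,
        Ideal.Quotient.eq_zero_iff_mem]
      exact ha
    obtain ⟨ρ, -⟩ := Groth.Agent.Lib.Helper12.PairUnique.exists_algHom hB (⊥ : Ideal (A ⧸ I)) hle
    have hρφ : ∀ x, ρ (φ x) = σ' x := by
      intro x
      have := Groth.Agent.Lib.Helper12.PairNbhd.sub_mem_of_bijective hbij (ρ.comp φ) σ' x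
      rw [← sub_eq_zero]
      exact (Ideal.mem_bot.mp (hle this))
    have h2 : (1 : A ⧸ I) ∈ (Ideal.span {s}).annihilator.map (σ' : A' →+* A ⧸ I) := by
      have := Ideal.mem_map_of_mem (ρ : B →+* A ⧸ I) h1
      rw [Ideal.map_map] at this
      have hcomp : (ρ : B →+* A ⧸ I).comp (φ : A' →+* B) = (σ' : A' →+* A ⧸ I) := by
        ext x
        exact hρφ x
      rw [hcomp] at this
      simpa using this
    have hσsurj : Function.Surjective (σ' : A' →+* A ⧸ I) := by
      intro q
      obtain ⟨a, rfl⟩ := Ideal.Quotient.mk_surjective q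
      exact ⟨algebraMap A A' a, σ'.commutes a⟩
    obtain ⟨t, ht, ht1⟩ := (Ideal.mem_map_iff_of_surjective _ hσsurj).mp h2
    have hts : t * s = 0 := by
      rw [Submodule.mem_annihilator_span_singleton] at ht
      exact ht
    have htu : IsUnit (σ' t) := by
      have : σ' t = 1 := ht1
      rw [this]
      exact isUnit_one
    refine ⟨Localization.Away t, inferInstance, inferInstance, inferInstance, ?_,
      IsScalarTower.toAlgHom A A' (Localization.Away t), ?_⟩
    · apply Groth.Agent.Lib.Helper12.PairNbhd.away_quotient_bijective σ' t htu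
      intro x hx
      exact ⟨0, by rw [pow_zero, mul_one]; exact (hσ' x).mp hx⟩
    · show algebraMap A' (Localization.Away t) s = 0
      rw [IsLocalization.map_eq_zero_iff (Submonoid.powers t)]
      exact ⟨⟨t, Submonoid.mem_powers t⟩, hts⟩

end Groth.Agent.S19568
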