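import Groth.Statements.S9148
import Groth.Agent.Lib.Helper25.RelGCIApprox

set_option autoImplicit false
universe u
open Synt

namespace Groth.Agent.S9148

/-- A relative global complete intersection over a ring R descends to a relative global complete
intersection over a finite type ℤ-subalgebra of R containing the coefficients. -/
theorem result (R : Type u) [CommRing R] (n c : ℕ)
    (F : Fin c → MvPolynomial (Fin n) R) (h : Synt.IsRelGCI R n c F) :
    ∃ (R₀ : Subalgebra ℤ R) (F₀ : Fin c → MvPolynomial (Fin n) R₀), Algebra.FiniteType ℤ R₀ ∧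
      (∀ i, MvPolynomial.map (algebraMap R₀ R) (F₀ i) = F i) ∧ Synt.IsRelGCI R₀ n c F₀ := by
  obtain ⟨R₀, hfg, F₀, hF⟩ := Groth.Agent.Lib.Helper25.RelGCIApprox.exists_coeff_model R n c F
  obtain rfl : F = fun i => MvPolynomial.map (algebraMap R₀ R) (F₀ i) := funext hF
  obtain ⟨s, hs⟩ := Groth.Agent.Lib.Helper25.RelGCIApprox.main R n c R₀ hfg F₀ h
  haveI : Algebra.FiniteType ℤ R₀ := (Subalgebra.fg_iff_finiteType R₀).mp hfg
  haveI : Algebra.FiniteType R₀ (Algebra.adjoin R₀ (s : Set R)) :=
    Algebra.FiniteType.adjoin_of_finite s.finite_toSet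
  have h1 : Algebra.FiniteType ℤ (Algebra.adjoin R₀ (s : Set R)) :=
    Algebra.FiniteType.trans (S := R₀) inferInstance inferInstance
  have hmap : ∀ i, MvPolynomial.map (algebraMap (Algebra.adjoin R₀ (s : Set R)) R)
      (MvPolynomial.map (algebraMap R₀ (Algebra.adjoin R₀ (s : Set R))) (F₀ i)) =
      MvPolynomial.map (algebraMap R₀ R) (F₀ i) := by
    intro i
    rw [MvPolynomial.map_map]
    rfl
  exact ⟨(Algebra.adjoin R₀ (s : Set R)).restrictScalars ℤ,
    fun i => MvPolynomial.map (algebraMap R₀ (Algebra.adjoin R₀ (s : Set R))) (F₀ i), h1, hmap, hs⟩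

end Groth.Agent.S9148
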