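import Groth.Statements.S0611
import Mathlib

set_option autoImplicit false
universe u
open RRAlg

namespace Groth.Agent.S0611

section helpers
open RingTheory.Sequence IsLocalRing

lemma exists_unit_coeff {A : Type u} [CommRing A] [IsLocalRing A] :
    ∀ (as : List A) (x : A), x ∈ Ideal.ofList as → x ∉ maximalIdeal A • Ideal.ofList as →
      ∃ (a : A) (as' : List A) (c y : A), as.Perm (a :: as') ∧ IsUnit c ∧ y ∈ Ideal.ofList as' ∧
        x = c * a + y := by
  intro as
  induction as with
  | nil =>
    intro x hx hnx
    exfalso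
    rw [Ideal.ofList_nil, Ideal.mem_bot] at hx
    subst hx
    exact hnx (Ideal.zero_mem _)
  | cons a as ih =>
    intro x hx hnx
    rw [Ideal.ofList_cons, Submodule.mem_sup] at hx
    obtain ⟨u, hu, y, hy, rfl⟩ := hx
    rw [Ideal.mem_span_singleton'] at hu
    obtain ⟨c, rfl⟩ := hu
    by_cases hc : IsUnit c
    · exact ⟨a, as, c, y, List.Perm.refl _, hc, hy, rfl⟩
    · have hcm : c ∈ maximalIdeal A := (mem_maximalIdeal c).mpr hc
      have ha : a ∈ Ideal.ofList (a :: as) := by
        rw [Ideal.ofList_cons]
        exact Ideal.mem_sup_left (Ideal.mem_span_singleton_self a)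
      have h1 : c * a ∈ maximalIdeal A • Ideal.ofList (a :: as) := by
        rw [smul_eq_mul]
        exact Ideal.mul_mem_mul hcm ha
      have hle : Ideal.ofList as ≤ Ideal.ofList (a :: as) := by
        rw [Ideal.ofList_cons]
        exact le_sup_right
      have hy' : y ∉ maximalIdeal A • Ideal.ofList as := fun h => by
        apply hnx
        refine add_mem h1 ?_
        rw [smul_eq_mul] at h ⊢
        exact Ideal.mul_mono_right hle h
      obtain ⟨a', as'', c', y', hp, hc', hy'', rfl⟩ := ih y hy hy'
      refine ⟨a', a :: as'', c', c * a + y', ?_, hc', ?_, by ring⟩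
      · exact (List.Perm.cons a hp).trans (List.Perm.swap a' a as'')
      · rw [Ideal.ofList_cons]
        exact add_mem (Ideal.mem_sup_left (Ideal.mem_span_singleton'.2 ⟨c, rfl⟩))
          (Ideal.mem_sup_right hy'')

lemma ofList_le_maximalIdeal {A : Type u} [CommRing A] [IsLocalRing A] {rs : List A}
    (h : IsRegular A rs) : Ideal.ofList rs ≤ maximalIdeal A := by
  apply IsLocalRing.le_maximalIdeal
  intro htop
  apply h.top_ne_smul
  rw [htop, Submodule.top_smul]

lemma mem_maximalIdeal_of_mem {A : Type u} [CommRing A] [IsLocalRing A] {rs : List A}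
    (h : IsRegular A rs) (r : A) (hr : r ∈ rs) : r ∈ maximalIdeal A :=
  ofList_le_maximalIdeal h (Ideal.subset_span hr)

lemma isRegular_cons_of_unit {A : Type u} [CommRing A] [IsLocalRing A] [IsNoetherianRing A]
    {a x c y : A} {as : List A}
    (h : IsRegular A (a :: as)) (hc : IsUnit c) (hy : y ∈ Ideal.ofList as) (hx : x = c * a + y) :
    IsRegular A (x :: as) := by
  have h1 : IsRegular A (as ++ [a]) :=
    IsLocalRing.isRegular_of_perm h (List.perm_append_singleton a as).symm
  have hw := h1.toIsWeaklyRegular
  rw [isWeaklyRegular_append_iff, isWeaklyRegular_singleton_iff] at hw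
  obtain ⟨hw1, hw2⟩ := hw
  have hw3 : IsSMulRegular (A ⧸ (Ideal.ofList as • ⊤ : Submodule A A)) x := by
    have hfun : (fun n : A ⧸ (Ideal.ofList as • ⊤ : Submodule A A) => x • n) =
        (fun n => c • n) ∘ (fun n => a • n) := by
      funext n
      obtain ⟨t, rfl⟩ := Submodule.Quotient.mk_surjective _ n
      simp only [Function.comp_apply]
      rw [← Submodule.Quotient.mk_smul, ← Submodule.Quotient.mk_smul,
        ← Submodule.Quotient.mk_smul, ← sub_eq_zero, ← Submodule.Quotient.mk_sub,
        Submodule.Quotient.mk_eq_zero]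
      have : x • t - c • a • t = y • t := by
        subst hx
        simp only [smul_eq_mul]
        ring
      rw [this]
      exact Submodule.smul_mem_smul hy Submodule.mem_top
    unfold IsSMulRegular
    rw [hfun]
    exact (hc.isSMulRegular _).comp hw2
  have hmem : ∀ r ∈ as ++ [x], r ∈ maximalIdeal A := by
    intro r hr
    rw [List.mem_append, List.mem_singleton] at hr
    rcases hr with hr | rfl
    · exact mem_maximalIdeal_of_mem h r (List.mem_cons_of_mem _ hr)
    · subst hx
      refine add_mem (Ideal.mul_mem_left _ _ (mem_maximalIdeal_of_mem h a List.mem_cons_self)) ?_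
      have hle : Ideal.ofList as ≤ Ideal.ofList (a :: as) := by
        rw [Ideal.ofList_cons]
        exact le_sup_right
      exact ofList_le_maximalIdeal h (hle hy)
  have h2 : IsRegular A (as ++ [x]) := by
    apply IsRegular.of_isWeaklyRegular_of_mem_maximalIdeal A hmem
    rw [isWeaklyRegular_append_iff, isWeaklyRegular_singleton_iff]
    exact ⟨hw1, hw3⟩
  exact IsLocalRing.isRegular_of_perm h2 (List.perm_append_singleton x as)

lemma ofList_cons_of_unit {A : Type u} [CommRing A]
    {a x c y : A} {as : List A}
    (hc : IsUnit c) (hy : y ∈ Ideal.ofList as) (hx : x = c * a + y) :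
    Ideal.ofList (x :: as) = Ideal.ofList (a :: as) := by
  rw [Ideal.ofList_cons, Ideal.ofList_cons]
  apply le_antisymm
  · refine sup_le ?_ le_sup_right
    rw [Ideal.span_singleton_le_iff_mem]
    subst hx
    exact add_mem (Ideal.mem_sup_left (Ideal.mem_span_singleton'.2 ⟨c, rfl⟩))
      (Ideal.mem_sup_right hy)
  · refine sup_le ?_ le_sup_right
    rw [Ideal.span_singleton_le_iff_mem]
    obtain ⟨d, hd⟩ := hc.exists_left_inv
    have : a = d * x + (- d * y) := by
      subst hx
      linear_combination (-a) * hd
    rw [this]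
    exact add_mem (Ideal.mem_sup_left (Ideal.mem_span_singleton'.2 ⟨d, rfl⟩))
      (Ideal.mem_sup_right (Ideal.mul_mem_left _ _ hy))

/-- the additive equivalence between the two presentations of `A/(x)` -/
noncomputable def quotEquiv {A : Type u} [CommRing A] (x : A) :
    QuotSMulTop x A ≃ₗ[A] (A ⧸ Ideal.span {x}) :=
  Submodule.quotEquivOfEq _ _ (by
    rw [← Submodule.ideal_span_singleton_smul, smul_eq_mul, Ideal.mul_top])

lemma isRegular_cons_iff_quot {A : Type u} [CommRing A] (x : A) (rs : List A) :
    IsRegular A (x :: rs) ↔ IsSMulRegular A x ∧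
      IsRegular (A ⧸ Ideal.span {x}) (rs.map (Ideal.Quotient.mk (Ideal.span {x}))) := by
  rw [isRegular_cons_iff]
  refine and_congr Iff.rfl ?_
  refine (quotEquiv x).toAddEquiv.isRegular_congr ?_
  refine List.forall₂_map_right_iff.mpr <| List.forall₂_same.mpr fun r _ t => ?_
  change quotEquiv x (r • t) = _
  rw [map_smul]
  generalize quotEquiv x t = z
  obtain ⟨w, rfl⟩ := Ideal.Quotient.mk_surjective z
  rw [smul_eq_mul, ← map_mul]
  rfl

lemma ofList_perm {A : Type u} [CommRing A] {rs rs' : List A} (h : rs.Perm rs') :
    Ideal.ofList rs = Ideal.ofList rs' :=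
  congrArg Ideal.span (Set.ext fun _ => h.mem_iff)

lemma map_mk_ofList_cons {A : Type u} [CommRing A] (x : A) (rs : List A) :
    Ideal.map (Ideal.Quotient.mk (Ideal.span {x})) (Ideal.ofList rs) =
      Ideal.map (Ideal.Quotient.mk (Ideal.span {x})) (Ideal.ofList (x :: rs)) := by
  rw [Ideal.ofList_cons, Ideal.map_sup, Ideal.map_quotient_self, bot_sup_eq]

theorem main (n : ℕ) : ∀ (A : Type u) [CommRing A] [IsLocalRing A] [IsNoetherianRing A]
    (as bs : List A), as.length = n → bs.length ≤ n → IsRegular A as →
    Ideal.ofList as = Ideal.ofList bs → bs.length = n ∧ IsRegular A bs := by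
  induction n with
  | zero =>
    intro A _ _ _ as bs has hbs hreg hI
    have h1 : bs = [] := List.eq_nil_of_length_eq_zero (Nat.le_zero.mp hbs)
    have h2 : as = [] := List.eq_nil_of_length_eq_zero has
    subst h1 h2
    exact ⟨rfl, hreg⟩
  | succ n ih =>
    intro A _ _ _ as bs has hbs hreg hI
    classical
    obtain ⟨a0, as0, rfl⟩ : ∃ a0 as0, as = a0 :: as0 := List.exists_cons_of_length_eq_add_one has
    have hne : Ideal.ofList (a0 :: as0) ≠ ⊥ := by
      intro hbot
      have ha0 : a0 = 0 := by
        have : a0 ∈ Ideal.ofList (a0 :: as0) := Ideal.subset_span List.mem_cons_self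
        rwa [hbot, Ideal.mem_bot] at this
      have hr : IsSMulRegular A a0 := ((isRegular_cons_iff A a0 as0).mp hreg).1
      subst ha0
      have := hr (show (0:A) • (1:A) = (0:A) • (0:A) by simp)
      exact one_ne_zero this
    have hex : ∃ x ∈ bs, x ∉ maximalIdeal A • Ideal.ofList (a0 :: as0) := by
      by_contra hcon
      push Not at hcon
      apply hne
      apply Submodule.eq_bot_of_le_smul_of_le_jacobson_bot (maximalIdeal A) _
        (IsNoetherian.noetherian _) ?_ (IsLocalRing.maximalIdeal_le_jacobson _)
      conv_lhs => rw [hI]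
      exact Ideal.span_le.mpr hcon
    obtain ⟨x, hxbs, hxn⟩ := hex
    have hxI : x ∈ Ideal.ofList (a0 :: as0) := hI ▸ Ideal.subset_span hxbs
    obtain ⟨a, as', c, y, hp, hc, hy, hx⟩ := exists_unit_coeff _ x hxI hxn
    have hreg1 : IsRegular A (a :: as') := IsLocalRing.isRegular_of_perm hreg hp
    have hreg2 : IsRegular A (x :: as') := isRegular_cons_of_unit hreg1 hc hy hx
    have hI2 : Ideal.ofList (x :: as') = Ideal.ofList (a0 :: as0) :=
      (ofList_cons_of_unit hc hy hx).trans (ofList_perm hp).symm
    have hpb : bs.Perm (x :: bs.erase x) := List.perm_cons_erase hxbs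
    have hI3 : Ideal.ofList (x :: bs.erase x) = Ideal.ofList bs := (ofList_perm hpb).symm
    rw [isRegular_cons_iff_quot] at hreg2
    obtain ⟨hxreg, hq⟩ := hreg2
    have hxm : x ∈ maximalIdeal A := ofList_le_maximalIdeal hreg hxI
    have : Nontrivial (A ⧸ Ideal.span {x}) := by
      apply Ideal.Quotient.nontrivial_iff.mpr
      intro h
      have : (1 : A) ∈ Ideal.span {x} := h ▸ Submodule.mem_top
      exact (Ideal.ne_top_iff_one _).mp (IsLocalRing.maximalIdeal.isMaximal A).ne_top
        ((Ideal.span_singleton_le_iff_mem _).mpr hxm this)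
    have : IsLocalRing (A ⧸ Ideal.span {x}) :=
      .of_surjective' _ Ideal.Quotient.mk_surjective
    have hlenp := hp.length_eq
    have hlenb := hpb.length_eq
    simp only [List.length_cons] at hlenp hlenb has
    have hlen1 : (as'.map (Ideal.Quotient.mk (Ideal.span {x}))).length = n := by
      rw [List.length_map]; omega
    have hlen2 : ((bs.erase x).map (Ideal.Quotient.mk (Ideal.span {x}))).length ≤ n := by
      rw [List.length_map]; omega
    have hIq : Ideal.ofList (as'.map (Ideal.Quotient.mk (Ideal.span {x}))) =
        Ideal.ofList ((bs.erase x).map (Ideal.Quotient.mk (Ideal.span {x}))) := by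
      rw [← Ideal.map_ofList, ← Ideal.map_ofList, map_mk_ofList_cons x as',
        map_mk_ofList_cons x (bs.erase x), hI2, hI3, hI]
    obtain ⟨hl, hr⟩ := ih (A ⧸ Ideal.span {x}) _ _ hlen1 hlen2 hq hIq
    rw [List.length_map] at hl
    constructor
    · omega
    · apply IsLocalRing.isRegular_of_perm _ hpb.symm
      rw [isRegular_cons_iff_quot]
      exact ⟨hxreg, hr⟩

lemma ofList_ofFn {A : Type u} [CommRing A] {n : ℕ} (a : Fin n → A) :
    Ideal.ofList (List.ofFn a) = Ideal.span (Set.range a) := by
  unfold Ideal.ofList
  congr 1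
  ext r
  simp [List.mem_ofFn]

end helpers


/-- In a Noetherian local ring, any minimal generating set of an ideal generated by a regular sequence
is again a regular sequence: if a₁, …, aₙ is a regular sequence and b₁, …, bₙ are n elements
generating the same ideal, then b₁, …, bₙ is a regular sequence. (A regular sequence of length n
generating an ideal I is a minimal generating set of I, so "minimal" amounts to "of length n".) -/
theorem result {A : Type u} [CommRing A] [IsLocalRing A] [IsNoetherianRing A]
    {n : ℕ} (a b : Fin n → A) (ha : RingTheory.Sequence.IsRegular A (List.ofFn a))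
    (hab : Ideal.span (Set.range a) = Ideal.span (Set.range b)) :
    RingTheory.Sequence.IsRegular A (List.ofFn b) := by
  refine (main n A (List.ofFn a) (List.ofFn b) (by simp) (by simp) ha ?_).2
  rw [ofList_ofFn, ofList_ofFn, hab]

end Groth.Agent.S0611
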