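import Groth.Statements.S2189
import Groth.Agent.S0611
import Groth.Agent.Lib.helper10.VascD
import Groth.Agent.Lib.helper10.VascE
import Groth.Agent.Lib.Helper16.FLI1

set_option autoImplicit false
universe u
open CategoryTheory
open LCI

namespace Groth.Agent.S2189

open IsLocalRing RingTheory.Sequence

/-- **Vasconcelos, local form**: in a Noetherian local ring, a proper ideal of finite projective
dimension with projective conormal module is generated by a regular sequence. -/
theorem local_main {S : Type u} [CommRing S] [IsNoetherianRing S] [IsLocalRing S] (J : Ideal S)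
    (hJ : J ≠ ⊤) (n : ℕ) (hpd : HasProjectiveDimensionLT (ModuleCat.of S J) n)
    [Module.Projective (S ⧸ J) J.Cotangent] :
    ∃ (r : ℕ) (x : Fin r → S), (∀ i, x i ∈ J) ∧ IsRegular S (List.ofFn x) ∧
      J = Ideal.span (Set.range x) := by
  classical
  haveI : Nontrivial (S ⧸ J) := Ideal.Quotient.nontrivial_iff.mpr hJ
  haveI : IsLocalRing (S ⧸ J) :=
    IsLocalRing.of_surjective' (Ideal.Quotient.mk J) Ideal.Quotient.mk_surjective
  haveI : Module.Finite S J := Module.Finite.iff_fg.mpr (IsNoetherian.noetherian J)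
  haveI : Module.Finite S J.Cotangent :=
    Module.Finite.of_surjective J.toCotangent (Ideal.toCotangent_surjective J)
  haveI : Module.Finite (S ⧸ J) J.Cotangent := Module.Finite.of_restrictScalars_finite S _ _
  haveI : Module.Flat (S ⧸ J) J.Cotangent := Module.Flat.of_projective
  haveI : Module.Free (S ⧸ J) J.Cotangent := Module.free_of_flat_of_isLocalRing
  let b := Module.finBasis (S ⧸ J) J.Cotangent
  obtain ⟨r, hr⟩ : ∃ r, r = Module.finrank (S ⧸ J) J.Cotangent := ⟨_, rfl⟩
  have hlift : ∀ i, ∃ y : J, J.toCotangent y = b i := fun i => Ideal.toCotangent_surjective J _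
  choose y hy using hlift
  let lam : Fin (Module.finrank (S ⧸ J) J.Cotangent) → (J →ₗ[S] S ⧸ J) := fun i =>
    ((b.coord i).restrictScalars S) ∘ₗ J.toCotangent
  have hlam : ∀ i j, lam i ⟨(y j).1, (y j).2⟩ = if i = j then 1 else 0 := by
    intro i j
    change b.coord i (J.toCotangent (y j)) = _
    rw [hy j, Module.Basis.coord_apply, Module.Basis.repr_self, Finsupp.single_apply]
    simp only [eq_comm]
  obtain ⟨x, hx, hreg, hspan⟩ := Groth.Agent.Lib.helper10.VascD.exists_regular _ S J hJ n hpd
    (fun i => (y i).1) (fun i => (y i).2) lam hlam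
  refine ⟨_, x, hx, hreg, ?_⟩
  -- the `y i` generate `J` modulo `J ^ 2`
  have hJy : J ≤ Ideal.span (Set.range fun i => (y i).1) ⊔ J ^ 2 := by
    intro z hz
    have h1 := b.sum_repr (J.toCotangent ⟨z, hz⟩)
    have hc : ∀ i, ∃ a : S, Ideal.Quotient.mk J a = b.repr (J.toCotangent ⟨z, hz⟩) i :=
      fun i => Ideal.Quotient.mk_surjective _
    choose a ha using hc
    let w : J := ∑ i, a i • y i
    have hw : J.toCotangent w = J.toCotangent ⟨z, hz⟩ := by
      rw [← h1, map_sum]
      refine Finset.sum_congr rfl fun i _ => ?_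
      rw [map_smul, hy i, ← ha i, ← Ideal.Quotient.algebraMap_eq, algebraMap_smul]
    have h2 : J.toCotangent (⟨z, hz⟩ - w) = 0 := by rw [map_sub, hw, sub_self]
    rw [Ideal.toCotangent_eq_zero] at h2
    have h3 : z = (w : S) + ((⟨z, hz⟩ - w : J) : S) := by
      rw [AddSubgroupClass.coe_sub]; ring
    rw [h3]
    refine Ideal.add_mem _ (Ideal.mem_sup_left ?_) (Ideal.mem_sup_right h2)
    have h4 : (w : S) = ∑ i, a i * (y i).1 := by
      simp [w]
    rw [h4]
    exact Ideal.sum_mem _ fun i _ => Ideal.mul_mem_left _ _ (Ideal.subset_span ⟨i, rfl⟩)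
  have hxJ : Ideal.span (Set.range x) ≤ J := by
    rw [Ideal.span_le]
    rintro _ ⟨i, rfl⟩
    exact hx i
  apply le_antisymm _ hxJ
  have h5 : J ≤ Ideal.span (Set.range x) ⊔ J • J := by
    rw [smul_eq_mul, ← sq, hspan]
    exact hJy
  exact Submodule.le_of_le_smul_of_le_jacobson_bot (IsNoetherian.noetherian J)
    (by rw [IsLocalRing.jacobson_eq_maximalIdeal ⊥ bot_ne_top]; exact le_maximalIdeal hJ) h5

theorem ofList_ofFn {S : Type u} [CommRing S] {r : ℕ} (x : Fin r → S) :
    Ideal.ofList (List.ofFn x) = Ideal.span (Set.range x) := by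
  unfold Ideal.ofList
  congr 1
  ext z
  simp [List.mem_ofFn]

/-- Let R be a Noetherian ring and I an ideal which has finite projective dimension as an R-module and
whose conormal module I/I^2 is finite locally free (projective) over R/I. Then I is a regular ideal:
for every prime p containing I there is g outside p such that the extension of I to R_g is generated
by a regular sequence of R_g. -/
theorem result {R : Type u} [CommRing R]
    [IsNoetherianRing R] (I : Ideal R) (n : ℕ)
    (hpd : HasProjectiveDimensionLT (ModuleCat.of R I) n)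
    [Module.Projective (R ⧸ I) I.Cotangent] (p : Ideal R) [p.IsPrime] (hIp : I ≤ p) :
    ∃ g : R, g ∉ p ∧ ∃ rs : List (Localization.Away g),
      RingTheory.Sequence.IsRegular (Localization.Away g) rs ∧
        Ideal.ofList rs = I.map (algebraMap R (Localization.Away g)) := by
  classical
  haveI : Module.Finite R I := Module.Finite.iff_fg.mpr (IsNoetherian.noetherian I)
  -- the local ring at `p`
  have hJle : I.map (algebraMap R (Localization.AtPrime p)) ≤
      maximalIdeal (Localization.AtPrime p) := by
    rw [← Localization.AtPrime.map_eq_maximalIdeal]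
    exact Ideal.map_mono hIp
  have hJ : I.map (algebraMap R (Localization.AtPrime p)) ≠ ⊤ := fun h =>
    (IsLocalRing.maximalIdeal.isMaximal _).ne_top (top_le_iff.mp (h ▸ hJle))
  have hpdJ : HasProjectiveDimensionLT (ModuleCat.of (Localization.AtPrime p)
      (I.map (algebraMap R (Localization.AtPrime p)))) (n + 1) := by
    have hpd1 : HasProjectiveDimensionLT (ModuleCat.of R I) (n + 1) :=
      hasProjectiveDimensionLT_of_ge _ n (n + 1) (Nat.le_succ n)
    have h1 : HasProjectiveDimensionLT (ModuleCat.of (Localization.AtPrime p)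
        (LocalizedModule p.primeCompl I)) (n + 1) :=
      Groth.Agent.Lib.helper11.LocalizedPD.hasProjectiveDimensionLE_localizedModule
        p.primeCompl I n hpd1
    let e₀ : LocalizedModule p.primeCompl I ≃ₗ[R] I.map (algebraMap R (Localization.AtPrime p)) :=
      IsLocalizedModule.iso p.primeCompl (Algebra.idealMap (Localization.AtPrime p) I)
    let e₁ : LocalizedModule p.primeCompl I ≃ₗ[Localization.AtPrime p]
        I.map (algebraMap R (Localization.AtPrime p)) :=
      e₀.extendScalarsOfIsLocalization p.primeCompl (Localization.AtPrime p)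
    exact hasProjectiveDimensionLT_of_iso e₁.toModuleIso _
  haveI := Groth.Agent.Lib.helper10.VascE.projective_cotangent p.primeCompl
    (Localization.AtPrime p) I
  obtain ⟨r, x, hx, hreg, hgen⟩ := local_main _ hJ (n + 1) hpdJ
  -- clear denominators
  have hden : ∀ i, ∃ (a : R) (s : R), a ∈ I ∧ s ∉ p ∧
      x i * algebraMap R (Localization.AtPrime p) s = algebraMap R (Localization.AtPrime p) a := by
    intro i
    obtain ⟨⟨a, s⟩, h⟩ := (IsLocalization.mem_map_algebraMap_iff p.primeCompl _).1 (hx i)
    exact ⟨a.1, s.1, a.2, s.2, h⟩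
  choose a s haI hsp hxa using hden
  have hunit : ∀ i, IsUnit (algebraMap R (Localization.AtPrime p) (s i)) := fun i =>
    IsLocalization.map_units _ (⟨s i, hsp i⟩ : p.primeCompl)
  have hspan : Ideal.span (Set.range x) =
      Ideal.span (Set.range fun i => algebraMap R (Localization.AtPrime p) (a i)) := by
    apply le_antisymm
    · rw [Ideal.span_le]
      rintro _ ⟨i, rfl⟩
      obtain ⟨u, hu⟩ := hunit i
      have h1 : x i = algebraMap R (Localization.AtPrime p) (a i) * (↑u⁻¹ : Localization.AtPrime p) := by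
        rw [← hxa i, ← hu, mul_assoc, Units.mul_inv, mul_one]
      rw [h1]
      exact Ideal.mul_mem_right _ _ (Ideal.subset_span ⟨i, rfl⟩)
    · rw [Ideal.span_le]
      rintro _ ⟨i, rfl⟩
      change algebraMap R (Localization.AtPrime p) (a i) ∈ Ideal.span (Set.range x)
      rw [← hxa i]
      exact Ideal.mul_mem_right _ _ (Ideal.subset_span ⟨i, rfl⟩)
  obtain ⟨-, hreg'⟩ := Groth.Agent.S0611.main r (Localization.AtPrime p) (List.ofFn x)
    (List.ofFn fun i => algebraMap R (Localization.AtPrime p) (a i)) (List.length_ofFn)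
    (le_of_eq List.length_ofFn) hreg (by rw [ofList_ofFn, ofList_ofFn, hspan])
  -- the global list
  let al : List R := List.ofFn a
  have hal : al.map (algebraMap R (Localization.AtPrime p)) =
      List.ofFn fun i => algebraMap R (Localization.AtPrime p) (a i) := by
    rw [List.map_ofFn]; rfl
  have halI : ∀ z ∈ al, z ∈ I := by
    intro z hz
    obtain ⟨i, rfl⟩ := (List.mem_ofFn' a z).mp hz
    exact haI i
  rw [← hal] at hreg'
  have hgen' : I.map (algebraMap R (Localization.AtPrime p)) ≤
      Ideal.ofList (al.map (algebraMap R (Localization.AtPrime p))) := by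
    rw [hal, ofList_ofFn, ← hspan, ← hgen]
  have hw : IsWeaklyRegular (LocalizedModule p.primeCompl R)
      (al.map (algebraMap R (Localization.AtPrime p))) :=
    (Groth.Agent.Lib.Helper16.FLI.isWeaklyRegular_localization_ring p.primeCompl al).2
      hreg'.toIsWeaklyRegular
  obtain ⟨g₂, hg₂, hdvd⟩ :=
    Groth.Agent.Lib.Helper16.FLI.exists_isWeaklyRegular_away_dvd al R p hw
  obtain ⟨g₁, hg₁, hmul⟩ := Groth.Agent.Lib.Helper5.Lci.exists_mul_mem_of_atPrime I
    (IsNoetherian.noetherian I) al p hgen'
  have hg12 : g₁ * g₂ ∉ p := fun h => (Ideal.IsPrime.mem_or_mem inferInstance h).elim hg₁ hg₂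
  have hu1 : IsUnit (algebraMap R (Localization.Away (g₁ * g₂)) g₁) := by
    have h1 : IsUnit (algebraMap R (Localization.Away (g₁ * g₂)) (g₁ * g₂)) :=
      IsLocalization.Away.algebraMap_isUnit _
    rw [map_mul] at h1
    exact isUnit_of_mul_isUnit_left h1
  have hspan' : I.map (algebraMap R (Localization.Away (g₁ * g₂))) =
      Ideal.ofList (al.map (algebraMap R (Localization.Away (g₁ * g₂)))) :=
    Groth.Agent.Lib.Helper5.Lci.map_eq_ofList_of_mul_mem I al halI g₁ hmul _ hu1
  refine ⟨g₁ * g₂, hg12, al.map (algebraMap R (Localization.Away (g₁ * g₂))), ⟨?_, ?_⟩, hspan'.symm⟩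
  · exact (Groth.Agent.Lib.Helper16.FLI.isWeaklyRegular_localization_ring
      (Submonoid.powers (g₁ * g₂)) al).1 (hdvd (g₁ * g₂) (dvd_mul_left g₂ g₁))
  · rw [smul_eq_mul, Ideal.mul_top, ← hspan']
    refine Ne.symm ?_
    rw [IsLocalization.map_algebraMap_ne_top_iff_disjoint (Submonoid.powers (g₁ * g₂))]
    rw [Set.disjoint_left]
    rintro z ⟨k, rfl⟩ hz
    exact hg12 (Ideal.IsPrime.mem_of_pow_mem inferInstance k (hIp hz))

end Groth.Agent.S2189
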