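import Groth.Statements.S2456
import Groth.Agent.Lib.Helper5.CohenRingLift

set_option autoImplicit false
universe u
open EGA41

namespace Groth.Agent.S2456

open IsLocalRing in
/-- Let W be a Cohen ring (a field of characteristic zero, or a complete discrete valuation ring with
maximal ideal generated by the residue characteristic), C a complete Noetherian local ring and J ≠ C
an ideal of C. Then every local homomorphism u : W → C/J is induced by a local homomorphism v : W →
C. -/
theorem result {W C : Type u} [CommRing W] [IsLocalRing W] (hW : EGA41.IsCohenRingEGA W)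
    [CommRing C] [IsLocalRing C] [IsNoetherianRing C] [IsAdicComplete (maximalIdeal C) C]
    (J : Ideal C) (hJ : J ≠ ⊤) [IsLocalRing (C ⧸ J)] (u : W →+* C ⧸ J) [IsLocalHom u] :
    ∃ v : W →+* C, IsLocalHom v ∧ (Ideal.Quotient.mk J).comp v = u := by
  open Groth.Agent.Lib.Helper5 in
  rcases hW with ⟨hfield, hchar⟩ | hcohen
  · have hfs := CohenRingSmoothU.isFSA_int_of_field W hfield
    exact CohenRingLift.exists_local_lift ⊥ ⊥ hfs (by rw [Ideal.map_bot]; exact bot_le) bot_le J hJ u
  · obtain ⟨p, hp, hmax, hfs⟩ := CohenRingSmoothU.isFSA_int_of_isCohenRing W hcohen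
    refine CohenRingLift.exists_local_lift (Ideal.span {(p : ℤ)}) (maximalIdeal W) hfs ?_ le_rfl J hJ u
    rw [Ideal.map_span, Set.image_singleton, hmax]
    simp

end Groth.Agent.S2456
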