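import Groth.Statements.S0560
import Mathlib.RingTheory.KrullDimension.NonZeroDivisors
-- import your own Groth.Agent.* helpers here

set_option autoImplicit false
universe u
open CAlg

namespace Groth.Agent.S0560

/-- Regularity of a Noetherian local ring can be checked after dividing out one nonzerodivisor lying in
the maximal ideal: if that quotient is a regular local ring, so is the original ring. -/
theorem result (R : Type u) [CommRing R] [IsLocalRing R]
    [IsNoetherianRing R] (x : R) (hx : x ∈ IsLocalRing.maximalIdeal R) (hreg : x ∈ nonZeroDivisors R)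
    [IsRegularLocalRing (R ⧸ Ideal.span ({x} : Set R))] : IsRegularLocalRing R := by
  classical
  apply IsRegularLocalRing.of_spanFinrank_maximalIdeal_le
  have hdim : ringKrullDim (R ⧸ Ideal.span ({x} : Set R)) + 1 ≤ ringKrullDim R :=
    ringKrullDim_quotient_succ_le_of_nonZeroDivisor hreg
  have hS : (((IsLocalRing.maximalIdeal (R ⧸ Ideal.span ({x} : Set R))).spanFinrank : ℕ) :
      WithBot ℕ∞) = ringKrullDim (R ⧸ Ideal.span ({x} : Set R)) :=
    IsRegularLocalRing.spanFinrank_maximalIdeal
  have key : (IsLocalRing.maximalIdeal R).spanFinrank ≤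
      (IsLocalRing.maximalIdeal (R ⧸ Ideal.span ({x} : Set R))).spanFinrank + 1 := by
    obtain ⟨s, hs, hs'⟩ := Submodule.FG.exists_span_finset_card_eq_spanFinrank
      (p := IsLocalRing.maximalIdeal (R ⧸ Ideal.span ({x} : Set R)))
      (IsNoetherian.noetherian _)
    let g := Function.surjInv (Ideal.Quotient.mk_surjective (I := Ideal.span ({x} : Set R)))
    have hg : ∀ y, Ideal.Quotient.mk (Ideal.span ({x} : Set R)) (g y) = y :=
      Function.surjInv_eq _
    let t : Finset R := insert x (s.image g)
    have ht : Ideal.span (t : Set R) = IsLocalRing.maximalIdeal R := by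
      apply le_antisymm
      · rw [Ideal.span_le]
        intro r hr
        simp only [t, Finset.coe_insert, Finset.coe_image, Set.mem_insert_iff, Set.mem_image,
          Finset.mem_coe] at hr
        rcases hr with rfl | ⟨y, hy, rfl⟩
        · exact hx
        · have hy' : y ∈ IsLocalRing.maximalIdeal (R ⧸ Ideal.span ({x} : Set R)) := by
            rw [← hs']; exact Ideal.subset_span hy
          show g y ∈ IsLocalRing.maximalIdeal R
          rw [IsLocalRing.mem_maximalIdeal, mem_nonunits_iff] at hy' ⊢
          intro hu
          apply hy'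
          rw [← hg y]
          exact hu.map _
      · intro r hr
        have hr' : Ideal.Quotient.mk (Ideal.span ({x} : Set R)) r ∈
            IsLocalRing.maximalIdeal (R ⧸ Ideal.span ({x} : Set R)) := by
          rw [IsLocalRing.mem_maximalIdeal, mem_nonunits_iff] at hr ⊢
          intro hu
          apply hr
          obtain ⟨u, hu'⟩ := hu
          obtain ⟨v, hv⟩ := Ideal.Quotient.mk_surjective (u⁻¹ : (R ⧸ Ideal.span ({x} : Set R))ˣ).1
          have h1 : Ideal.Quotient.mk (Ideal.span ({x} : Set R)) (r * v - 1) = 0 := by
            rw [map_sub, map_mul, hv, ← hu', map_one]; simp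
          rw [Ideal.Quotient.eq_zero_iff_mem] at h1
          have h2 : r * v - 1 ∈ IsLocalRing.maximalIdeal R :=
            ((Ideal.span_singleton_le_iff_mem _).mpr hx) h1
          by_contra hru
          have h3 : r * v ∈ IsLocalRing.maximalIdeal R :=
            Ideal.mul_mem_right _ _ ((IsLocalRing.mem_maximalIdeal _).mpr hru)
          have h4 : (1 : R) ∈ IsLocalRing.maximalIdeal R := by
            have := Ideal.sub_mem _ h3 h2
            simpa using this
          exact (IsLocalRing.maximalIdeal.isMaximal R).ne_top ((Ideal.eq_top_iff_one _).mpr h4)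
        rw [← hs'] at hr'
        have himg : (s : Set (R ⧸ Ideal.span ({x} : Set R))) =
            (Ideal.Quotient.mk (Ideal.span ({x} : Set R))) '' (g '' (s : Set _)) := by
          rw [Set.image_image]; simp [hg]
        rw [himg] at hr'
        change _ ∈ Ideal.span _ at hr'
        rw [← Ideal.map_span] at hr'
        obtain ⟨r', hr'mem, hr'eq⟩ :=
          (Ideal.mem_map_iff_of_surjective _ Ideal.Quotient.mk_surjective).mp hr'
        have hsub : r - r' ∈ Ideal.span ({x} : Set R) := by
          rw [← Ideal.Quotient.eq_zero_iff_mem, map_sub, hr'eq, sub_self]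
        have h1 : r' ∈ Ideal.span (t : Set R) := by
          refine Ideal.span_mono ?_ hr'mem
          simp [t]
        have h2 : r - r' ∈ Ideal.span (t : Set R) := by
          refine Ideal.span_mono ?_ hsub
          simp [t]
        have := Ideal.add_mem _ h2 h1
        simpa using this
    calc (IsLocalRing.maximalIdeal R).spanFinrank
        = (Ideal.span (t : Set R)).spanFinrank := by rw [ht]
      _ ≤ t.card := by
          have := Submodule.spanFinrank_span_le_ncard_of_finite (R := R) (s := (t : Set R))
            t.finite_toSet
          simpa using this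
      _ ≤ (s.image g).card + 1 := Finset.card_insert_le _ _
      _ ≤ s.card + 1 := by gcongr; exact Finset.card_image_le
      _ = _ := by rw [hs]
  calc (((IsLocalRing.maximalIdeal R).spanFinrank : ℕ) : WithBot ℕ∞)
      ≤ (((IsLocalRing.maximalIdeal (R ⧸ Ideal.span ({x} : Set R))).spanFinrank + 1 : ℕ) :
        WithBot ℕ∞) := by exact_mod_cast key
    _ = ringKrullDim (R ⧸ Ideal.span ({x} : Set R)) + 1 := by rw [← hS]; norm_cast
    _ ≤ ringKrullDim R := hdim

end Groth.Agent.S0560
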