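import Groth.Statements.S15522
import Groth.Agent.Lib.Helper6.FibreLinkD
import Groth.Agent.Lib.helper11.DRankProj
import Mathlib
set_option backward.isDefEq.respectTransparency.types false

set_option autoImplicit false
universe u
attribute [local instance] HasDerivedCategory.standard
open Coherent

namespace Groth.Agent.S15522

open AlgebraicGeometry CategoryTheory in
/-- Let A be a reduced Noetherian ring, X a proper scheme over Spec A with structure morphism f, F a
coherent O_X-module flat over Spec A, and p a natural number such that the function y ↦ dim_{κ(y)}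
H^p(X_y, F_y) is locally constant on Spec A. For each q write T^q for the functor M ↦ H^q(X, f^*(M~)
⊗ F) from A-modules to abelian groups. Then T^p takes surjections to surjections, and so does
T^(p-1) when p ≥ 1; equivalently, every base-change map H^q(X, F) ⊗_A M → H^q(X, F ⊗_A M) is
bijective for q = p and q = p - 1. (The published statement also asserts that R^p f_*F is locally
free of finite rank; this row states the two exchange properties only, over an affine base.) -/
theorem result (A : Type u) [CommRing A]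
    [IsNoetherianRing A] [IsReduced A] (X : Scheme.{u}) [X.Over (Spec (CommRingCat.of A))]
    [IsProper (X ↘ Spec (CommRingCat.of A))] (F : X.Modules) (hF : Coh.IsCoh F)
    (hfl : FlatMod.IsFlatOver (X ↘ Spec (CommRingCat.of A)) F) (p : ℕ)
    (hconst : IsLocallyConstant (CohIII.fiberRank (X ↘ Spec (CommRingCat.of A)) F p)) :
    (CohIII.tensorAFunctor A F ⋙ CohIII.HAb X p).PreservesEpimorphisms ∧
      ∀ q : ℕ, q + 1 = p → (CohIII.tensorAFunctor A F ⋙ CohIII.HAb X q).PreservesEpimorphisms := by
  obtain ⟨L, t, hL1, hL2, hL3, hbc⟩ :=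
    Groth.Agent.Lib.Helper6.FibreLink.exists_grothendieck_complex_fibre A X F hF hfl
  haveI : F.IsQuasicoherent := hF.1
  let G := forget₂ (ModuleCat.{u} A) AddCommGrpCat.{u}
  have hfin : ∀ i, Module.Finite A (L.X i) := fun i => (hL1 i).1
  have hproj : ∀ i, Module.Projective A (L.X i) := fun i => haveI := (hL1 i).2; inferInstance
  have hflat : ∀ i, Module.Flat A (L.X i) := fun i => haveI := (hL1 i).2; inferInstance
  have htr : ∀ q : ℕ, (CohIII.TFun L (q : ℤ)).PreservesEpimorphisms →
      (CohIII.tensorAFunctor A F ⋙ CohIII.HAb X q).PreservesEpimorphisms := by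
    intro q h
    obtain ⟨α⟩ := hL3 q
    rw [Functor.PreservesEpimorphisms.iso_iff α]
    infer_instance
  have hloc : ∀ x : PrimeSpectrum A, ∃ U : Set (PrimeSpectrum A), IsOpen U ∧ x ∈ U ∧
      ∀ y ∈ U, CohIII.dRank L (p : ℤ) y = CohIII.dRank L (p : ℤ) x := by
    intro x
    refine ⟨{y | CohIII.fiberRank (X ↘ Spec (CommRingCat.of A)) F p y =
      CohIII.fiberRank (X ↘ Spec (CommRingCat.of A)) F p x}, hconst.isOpen_fiber _, rfl, fun y hy => ?_⟩
    rw [Groth.Agent.Lib.Helper6.FibreLink.dRank_eq_fiberRank F L hbc p y,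
      Groth.Agent.Lib.Helper6.FibreLink.dRank_eq_fiberRank F L hbc p x]
    exact hy
  refine ⟨htr p ?_, fun q hq => htr q ?_⟩
  · obtain ⟨-, hcok⟩ := Groth.Agent.Lib.helper11.DRankProj.cokers_projective_of_dRank_const L hfin hproj
      (p : ℤ) ((p : ℤ) - 1) ((p : ℤ) + 1) (CochainComplex.prev ℤ _) (CochainComplex.next ℤ _) hloc
    exact (Groth.Agent.Lib.helper11.DRankExact.preservesEpi_iff_flat_coker L hflat (p : ℤ) ((p : ℤ) + 1)
      rfl).mpr inferInstance
  · have hqp : (q : ℤ) + 1 = (p : ℤ) := by exact_mod_cast hq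
    obtain ⟨hcok, -⟩ := Groth.Agent.Lib.helper11.DRankProj.cokers_projective_of_dRank_const L hfin hproj
      (p : ℤ) (q : ℤ) ((p : ℤ) + 1) (by rw [CochainComplex.prev]; omega) (CochainComplex.next ℤ _) hloc
    exact (Groth.Agent.Lib.helper11.DRankExact.preservesEpi_iff_flat_coker L hflat (q : ℤ) (p : ℤ)
      hqp).mpr inferInstance

end Groth.Agent.S15522
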