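import Groth.Statements.S5683
import Groth.Agent.Lib.Helper28.PullbackInv
import Groth.Agent.Lib.Helper28.TensorIso
import Mathlib
set_option backward.isDefEq.respectTransparency.types false

set_option autoImplicit false
universe u
open CategoryTheory CategoryTheory.Limits AlgebraicGeometry
open FGA

namespace Groth.Agent.S5683
open Opposite TopologicalSpace
open Groth.Agent.Lib.Helper28 Groth.Agent.Lib.Helper28.QCohLoc Groth.Agent.Lib.Helper28.PullbackInv
  Groth.Agent.Lib.Helper28.GenLocus Groth.Agent.Lib.Helper28.TensorIso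

/-- the unit `L ⟶ f_* f^* L` is an isomorphism for invertible `L` when `O_S = f_* O_X` -/
theorem isIso_unit_of_invertible {X S : Scheme.{u}} (f : X ⟶ S)
    (hf : ∀ U : S.Opens, Function.Bijective (f.app U)) (L : S.Modules) (hL : PicF.IsInvertible L) :
    IsIso ((Scheme.Modules.pullbackPushforwardAdjunction f).unit.app L) := by
  apply isIso_of_bijective_on_basis _ (fun V => ∃ (U : S.Opens) (γ : Γ(L, U)), IsGen L U γ ∧ V ≤ U)
  · intro U₀ x hx
    obtain ⟨U, γ, hxU, hγ⟩ := exists_isGen L hL x
    exact ⟨U ⊓ U₀, ⟨U, γ, hγ, inf_le_left⟩, ⟨hxU, hx⟩, inf_le_right⟩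
  · rintro V ⟨U, γ, hγ, hVU⟩
    have h1 := hγ V hVU
    have h2 := (isGen_pbs (f := f) hγ) (f ⁻¹ᵁ V) (f.preimage_mono hVU)
    have key : ∀ c : Γ(S, V), pbs f L V (c • res L hVU γ : Γ(L, V)) =
        ((f.app V c) • res _ (f.preimage_mono hVU) (pbs f L U γ) :
          Γ((Scheme.Modules.pullback f).obj L, f ⁻¹ᵁ V)) := by
      intro c
      rw [pbs_smul, pbs_res]
    have h3 : Function.Bijective (fun y : Γ(L, V) => pbs f L V y) := by
      have h4 : (fun y : Γ(L, V) => pbs f L V y) ∘ (fun c : Γ(S, V) => (c • res L hVU γ : Γ(L, V))) =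
          (fun c : Γ(X, f ⁻¹ᵁ V) => (c • res _ (f.preimage_mono hVU) (pbs f L U γ) :
            Γ((Scheme.Modules.pullback f).obj L, f ⁻¹ᵁ V))) ∘ (fun c : Γ(S, V) => f.app V c) := by
        funext c
        exact key c
      have h5 : Function.Bijective ((fun y : Γ(L, V) => pbs f L V y) ∘
          (fun c : Γ(S, V) => (c • res L hVU γ : Γ(L, V)))) := by
        rw [h4]
        exact h2.comp (hf V)
      exact (Function.Bijective.of_comp_iff _ h1).1 h5
    exact h3


/-- Let f : X ⟶ S be a morphism of schemes such that for every open U of S the induced map from sections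
of the structure sheaf of S over U to sections of the structure sheaf of X over the inverse image of
U is bijective. If L is an invertible module on S whose pullback to X is isomorphic to the structure
sheaf of X, then L is isomorphic to the structure sheaf of S: pullback of invertible modules along f
is injective on isomorphism classes. This is exactness at Pic(S). -/
theorem result {X S : Scheme.{u}} (f : X ⟶ S)
    (hf : ∀ U : S.Opens, Function.Bijective (f.app U)) (L : S.Modules) (hL : PicF.IsInvertible L)
    (htriv : Nonempty ((Scheme.Modules.pullback f).obj L ≅ Coh.structureModule X)) :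
    Nonempty (L ≅ Coh.structureModule S) := by
  obtain ⟨e⟩ := htriv
  haveI := isIso_unit_of_invertible f hf L hL
  haveI h2 : IsIso (ClSub.unitToPush f) :=
    isIso_of_bijective_on_basis _ (fun _ => True) (fun U x hx => ⟨U, trivial, hx, le_rfl⟩)
      (fun W _ => hf W)
  exact ⟨asIso ((Scheme.Modules.pullbackPushforwardAdjunction f).unit.app L) ≪≫
    (Scheme.Modules.pushforward f).mapIso e ≪≫ (asIso (ClSub.unitToPush f)).symm⟩

end Groth.Agent.S5683
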