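import Groth.Statements.S2199
import Groth.Agent.Lib.Helper7.KosLocal

set_option autoImplicit false
universe u
open LCI

namespace Groth.Agent.S2199

/-- For a Noetherian local ring (A, m) and proper ideals I inside J such that A/J has finite
Tor-dimension as a module over A/I (canonical algebra structure), the map I/mI -> J/mJ is injective:
an element of I lying in mJ already lies in mI. -/
theorem result {A : Type u} [CommRing A] [IsNoetherianRing A] [IsLocalRing A]
    (I J : Ideal A) (hIJ : I ≤ J) (hJ : J ≠ ⊤) [Algebra (A ⧸ I) (A ⧸ J)]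
    [IsScalarTower A (A ⧸ I) (A ⧸ J)] (hfd : DRing.HasFiniteTorDim (A ⧸ I) (A ⧸ J))
    (x : A) (hx : x ∈ I) (hxm : x ∈ IsLocalRing.maximalIdeal A * J) :
    x ∈ IsLocalRing.maximalIdeal A * I := by
  classical
  by_contra hxn
  have hJm : J ≤ IsLocalRing.maximalIdeal A := IsLocalRing.le_maximalIdeal hJ
  have hxmax : x ∈ IsLocalRing.maximalIdeal A := hJm (hIJ hx)
  -- Step 1: an ideal `I'` maximal among those between `m I` and `I` avoiding `x`
  obtain ⟨I', ⟨h1, h2, h3⟩, hmax⟩ := set_has_maximal_iff_noetherian.2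
    (inferInstance : IsNoetherian A A)
    {K : Ideal A | IsLocalRing.maximalIdeal A * I ≤ K ∧ K ≤ I ∧ x ∉ K}
    ⟨IsLocalRing.maximalIdeal A * I, le_rfl, Ideal.mul_le_right, hxn⟩
  -- Step 2: `I = I' + (x)`
  have hI : ∀ y ∈ I, ∃ i' ∈ I', ∃ c : A, y = i' + c * x := by
    intro y hy
    by_cases hyI' : y ∈ I'
    · exact ⟨y, hyI', 0, by ring⟩
    · have hlt : I' < I' ⊔ Ideal.span {y} := by
        refine lt_of_le_of_ne le_sup_left (fun heq => hyI' ?_)
        rw [heq]
        exact Ideal.mem_sup_right (Ideal.mem_span_singleton_self y)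
      have hK : ¬ (I' ⊔ Ideal.span {y} ∈
          {K : Ideal A | IsLocalRing.maximalIdeal A * I ≤ K ∧ K ≤ I ∧ x ∉ K}) :=
        fun hK => hmax _ hK hlt
      have hxK : x ∈ I' ⊔ Ideal.span {y} := by
        by_contra hxK
        exact hK ⟨h1.trans le_sup_left,
          sup_le h2 ((Ideal.span_singleton_le_iff_mem _).2 hy), hxK⟩
      obtain ⟨i', hi', z, hz, hxz⟩ := Submodule.mem_sup.1 hxK
      obtain ⟨c, rfl⟩ := Ideal.mem_span_singleton'.1 hz
      have hc : IsUnit c := by
        by_contra hc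
        have hcm : c ∈ IsLocalRing.maximalIdeal A := (IsLocalRing.mem_maximalIdeal c).2 hc
        apply h3
        rw [← hxz]
        exact I'.add_mem hi' (h1 (Ideal.mul_mem_mul hcm hy))
      obtain ⟨cu, rfl⟩ := hc
      refine ⟨-(↑cu⁻¹ * i'), I'.neg_mem (Ideal.mul_mem_left I' _ hi'), ↑cu⁻¹, ?_⟩
      rw [← hxz, mul_add, ← mul_assoc, Units.inv_mul, one_mul]
      ring
  -- Step 3: the square-zero extension `A/I' → A/I`
  letI : Algebra (A ⧸ I') (A ⧸ I) := (Ideal.Quotient.factor h2).toAlgebra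
  have halg : ∀ a : A, algebraMap (A ⧸ I') (A ⧸ I) (Ideal.Quotient.mk I' a) =
      Ideal.Quotient.mk I a := fun a => Ideal.Quotient.factor_mk h2 a
  have hπ : Function.Surjective (algebraMap (A ⧸ I') (A ⧸ I)) :=
    Ideal.Quotient.factor_surjective h2
  have hker : RingHom.ker (algebraMap (A ⧸ I') (A ⧸ I)) =
      Ideal.span {Ideal.Quotient.mk I' x} := by
    apply le_antisymm
    · intro z hz
      obtain ⟨a, rfl⟩ := Ideal.Quotient.mk_surjective z
      rw [RingHom.mem_ker, halg, Ideal.Quotient.eq_zero_iff_mem] at hz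
      obtain ⟨i', hi', c, rfl⟩ := hI a hz
      rw [Ideal.mem_span_singleton']
      refine ⟨Ideal.Quotient.mk I' c, ?_⟩
      rw [map_add, map_mul, Ideal.Quotient.eq_zero_iff_mem.2 hi', zero_add]
    · rw [Ideal.span_singleton_le_iff_mem, RingHom.mem_ker, halg]
      exact Ideal.Quotient.eq_zero_iff_mem.2 hx
  have hff : Ideal.Quotient.mk I' x * Ideal.Quotient.mk I' x = 0 := by
    rw [← map_mul]
    exact Ideal.Quotient.eq_zero_iff_mem.2 (h1 (Ideal.mul_mem_mul hxmax hx))
  -- Step 4: `x = ∑ c_j y_j` with `c_j ∈ m`, `y_j ∈ J`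
  obtain ⟨s, y, hy⟩ := Submodule.fg_iff_exists_fin_generating_family.1
    (IsNoetherian.noetherian J)
  have hxm' : x ∈ IsLocalRing.maximalIdeal A • Submodule.span A (Set.range y) := by
    rw [hy]; exact hxm
  obtain ⟨a, ha, hax⟩ := (Submodule.mem_ideal_smul_span_iff_exists_sum _ y x).1 hxm'
  rw [Finsupp.sum_fintype a (fun i c => c • y i) (fun i => zero_smul _ _)] at hax
  have hyJ : ∀ j, y j ∈ J := fun j => by
    rw [← hy]; exact Submodule.subset_span ⟨j, rfl⟩
  -- Step 5: the module `A/J` over `A/I'`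
  letI : Module (A ⧸ I') (A ⧸ J) := Module.compHom _ (algebraMap (A ⧸ I') (A ⧸ I))
  haveI : IsScalarTower (A ⧸ I') (A ⧸ I) (A ⧸ J) :=
    IsScalarTower.of_algebraMap_smul fun _ _ => rfl
  let q : (A ⧸ I') →ₗ[A ⧸ I'] (A ⧸ J) :=
    ((Algebra.linearMap (A ⧸ I) (A ⧸ J)).restrictScalars (A ⧸ I')) ∘ₗ
      (Algebra.linearMap (A ⧸ I') (A ⧸ I))
  have hq : ∀ b : A, q (Ideal.Quotient.mk I' b) = Ideal.Quotient.mk J b := by
    intro b
    change algebraMap (A ⧸ I) (A ⧸ J) (algebraMap (A ⧸ I') (A ⧸ I) (Ideal.Quotient.mk I' b)) = _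
    rw [halg]
    exact (IsScalarTower.algebraMap_apply A (A ⧸ I) (A ⧸ J) b).symm
  obtain ⟨d, hd⟩ := hfd
  have hone := Groth.Agent.Lib.Helper7.KosLocal.one_mem_of_subsingleton_Tor hπ hker hff q
    (fun j => Ideal.Quotient.mk I' (a j)) (fun j => Ideal.Quotient.mk I' (y j))
    (fun j => by
      rw [Groth.Agent.Lib.Helper7.SqZero.mem_annF, ← map_mul]
      exact Ideal.Quotient.eq_zero_iff_mem.2 (h1 (Ideal.mul_mem_mul (ha j) hx)))
    (fun j => by rw [hq]; exact Ideal.Quotient.eq_zero_iff_mem.2 (hyJ j))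
    (by
      rw [← hax, map_sum]
      exact Finset.sum_congr rfl (fun j _ => by rw [smul_eq_mul, map_mul]))
    d (fun N _ _ => hd N (2 * d + 2) (by omega))
  -- Step 7: `1 ∉ m (A/J)`
  have hq1 : q 1 = 1 := by
    have := hq 1
    rw [map_one (Ideal.Quotient.mk I'), map_one (Ideal.Quotient.mk J)] at this
    exact this
  rw [hq1] at hone
  have hsub : ∀ t ∈ ((Groth.Agent.Lib.Helper7.SqZero.annF (Ideal.Quotient.mk I' x)).map
      (algebraMap (A ⧸ I') (A ⧸ I))) • (⊤ : Submodule (A ⧸ I) (A ⧸ J)),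
      t ∈ (IsLocalRing.maximalIdeal A).map (Ideal.Quotient.mk J) := by
    intro t ht
    induction ht using Submodule.smul_induction_on' with
    | smul r hr t _ =>
      obtain ⟨r₀, hr₀, rfl⟩ := (Ideal.mem_map_iff_of_surjective _ hπ).1 hr
      obtain ⟨b, rfl⟩ := Ideal.Quotient.mk_surjective r₀
      have hb : b ∈ IsLocalRing.maximalIdeal A := by
        rw [IsLocalRing.mem_maximalIdeal]
        intro hbu
        apply h3
        have h5 := Groth.Agent.Lib.Helper7.SqZero.mem_annF.1 hr₀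
        have h6 : IsUnit (Ideal.Quotient.mk I' b) := hbu.map _
        have h7 : Ideal.Quotient.mk I' x = 0 := (h6.mul_right_eq_zero).1 h5
        exact Ideal.Quotient.eq_zero_iff_mem.1 h7
      have hbJ : algebraMap (A ⧸ I) (A ⧸ J) (Ideal.Quotient.mk I b) = Ideal.Quotient.mk J b :=
        (IsScalarTower.algebraMap_apply A (A ⧸ I) (A ⧸ J) b).symm
      rw [Algebra.smul_def, halg, hbJ]
      exact Ideal.mul_mem_right _ _ (Ideal.mem_map_of_mem _ hb)
    | add t _ t' _ ht ht' => exact Ideal.add_mem _ ht ht'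
  have h8 := hsub 1 hone
  have h9 : (IsLocalRing.maximalIdeal A).map (Ideal.Quotient.mk J) = ⊤ :=
    (Ideal.eq_top_iff_one _).2 h8
  have h10 := congrArg (Ideal.comap (Ideal.Quotient.mk J)) h9
  rw [Ideal.comap_map_of_surjective _ Ideal.Quotient.mk_surjective, Ideal.comap_top,
    ← RingHom.ker_eq_comap_bot, Ideal.mk_ker, sup_eq_left.2 hJm] at h10
  exact (IsLocalRing.maximalIdeal.isMaximal A).ne_top h10

end Groth.Agent.S2199
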