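import Groth.Statements.S2200
import Groth.Agent.S2199
import Groth.Agent.Lib.Helper7.MinGen
import Groth.Agent.Lib.Helper5.KosPermD
import Groth.Agent.Lib.Helper5.KosRegA
import Groth.Agent.Lib.Helper2.KosTor2

set_option autoImplicit false
universe u
open LCI

namespace Groth.Agent.S2200

/-- Let (A, m) be a Noetherian local ring and I, J proper ideals with I inside J. If J is cut out by a
regular sequence and A/J has finite Tor-dimension as an A/I-module (canonical algebra structure),
then I is cut out by a regular sequence of A and the image of J in A/I by one of A/I. -/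
theorem result {A : Type u} [CommRing A] [IsNoetherianRing A] [IsLocalRing A]
    (I J : Ideal A) (hIJ : I ≤ J) (hJ : J ≠ ⊤) [Algebra (A ⧸ I) (A ⧸ J)]
    [IsScalarTower A (A ⧸ I) (A ⧸ J)] (hfd : DRing.HasFiniteTorDim (A ⧸ I) (A ⧸ J))
    (hJreg : ∃ rs : List A, Ideal.ofList rs = J ∧ RingTheory.Sequence.IsRegular A rs) :
    (∃ rs : List A, Ideal.ofList rs = I ∧ RingTheory.Sequence.IsRegular A rs) ∧
      ∃ rs' : List (A ⧸ I), Ideal.ofList rs' = J.map (Ideal.Quotient.mk I) ∧
        RingTheory.Sequence.IsRegular (A ⧸ I) rs' := by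
  classical
  obtain ⟨rs, hrsJ, hrs⟩ := hJreg
  have hJm : J ≤ IsLocalRing.maximalIdeal A := IsLocalRing.le_maximalIdeal hJ
  have hI : I ≠ ⊤ := fun h => hJ (top_le_iff.1 (h ▸ hIJ))
  obtain ⟨xs, ys, hxs, hxy, hysJ, hlen⟩ := Groth.Agent.Lib.Helper7.MinGen.exists_lists I J hIJ
    (fun x hx hxm => Groth.Agent.S2199.result I J hIJ hJ hfd x hx hxm)
  -- `rs` is Koszul-regular
  have hrsK : LCI.IsKoszulRegularSeq A rs := by
    intro n hn
    rcases lt_or_gt_of_ne hn with h1 | h1
    · exact (Groth.Agent.Lib.Helper2.KosTor2.exactAt_koszul rs hrs.toIsWeaklyRegular n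
        h1).isZero_homology
    · have hz : (Koszul.koszul A rs).ExactAt n :=
        CategoryTheory.ShortComplex.exact_of_isZero_X₂ _
          (Groth.Agent.Lib.Helper2.KosTor2.isZero_koszul_X rs n h1)
      exact hz.isZero_homology
  -- minimality of the length of `xs ++ ys`
  have hmin : ∀ h : List A, Ideal.ofList h = J → (xs ++ ys).length ≤ h.length := by
    intro h hh
    rw [hlen, ← hh]
    unfold Ideal.ofList
    have hfin : {r | r ∈ h}.Finite := List.finite_toSet h
    refine (Submodule.spanFinrank_span_le_ncard_of_finite hfin).trans ?_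
    have : {r | r ∈ h} = (h.toFinset : Set A) := by ext; simp
    rw [this, Set.ncard_coe_finset]
    exact List.toFinset_card_le h
  have hne : Ideal.ofList rs ≠ ⊤ := hrsJ ▸ hJ
  have hlen_eq : (xs ++ ys).length = rs.length :=
    le_antisymm (hmin rs hrsJ)
      (Groth.Agent.Lib.Helper5.KosPerm.length_le_of_isKoszulRegularSeq rs (xs ++ ys) hrsK hne
        (hxy.trans hrsJ.symm))
  have hfK : LCI.IsKoszulRegularSeq A (xs ++ ys) :=
    Groth.Agent.Lib.Helper5.KosPerm.isKoszulRegularSeq_of_length_eq rs (xs ++ ys) hrsK hlen_eq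
      (hxy.trans hrsJ.symm)
  have hfmem : ∀ x ∈ xs ++ ys, x ∈ IsLocalRing.maximalIdeal A := fun x hx =>
    hJm (hxy ▸ Ideal.subset_span hx)
  have hfreg : RingTheory.Sequence.IsRegular A (xs ++ ys) :=
    Groth.Agent.Lib.Helper5.KosReg.isRegular_of_koszulRegular _ hfmem hfK
  obtain ⟨hw1, hw2⟩ :=
    (RingTheory.Sequence.isWeaklyRegular_append_iff A xs ys).1 hfreg.toIsWeaklyRegular
  refine ⟨⟨xs, hxs, hw1, ?_⟩, ys.map (Ideal.Quotient.mk I), ?_, ?_, ?_⟩
  · rw [hxs, smul_eq_mul, Ideal.mul_top]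
    exact fun h => hI h.symm
  · rw [← Ideal.map_ofList]
    have h1 : J = I ⊔ Ideal.ofList ys := by rw [← hxy, Ideal.ofList_append, hxs]
    rw [h1, Ideal.map_sup, Ideal.map_quotient_self, bot_sup_eq]
  · -- weak regularity over `A ⧸ I`
    have heq : (Ideal.ofList xs • ⊤ : Submodule A A) = I := by
      rw [hxs, smul_eq_mul, Ideal.mul_top]
    let e : (A ⧸ (Ideal.ofList xs • ⊤ : Submodule A A)) ≃ₗ[A] (A ⧸ I) :=
      Submodule.quotEquivOfEq _ _ heq
    have h3 : RingTheory.Sequence.IsWeaklyRegular (A ⧸ I) ys :=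
      (e.isWeaklyRegular_congr ys).1 hw2
    exact (RingTheory.Sequence.isWeaklyRegular_map_algebraMap_iff (A ⧸ I) (A ⧸ I) ys).2 h3
  · -- properness
    rw [← Ideal.map_ofList, smul_eq_mul, Ideal.mul_top]
    intro htop
    have h4 : (Ideal.ofList ys).map (Ideal.Quotient.mk I) = ⊤ := htop.symm
    have h5 := congrArg (Ideal.comap (Ideal.Quotient.mk I)) h4
    rw [Ideal.comap_map_of_surjective _ Ideal.Quotient.mk_surjective, Ideal.comap_top,
      ← RingHom.ker_eq_comap_bot, Ideal.mk_ker] at h5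
    apply hJ
    rw [← hxy, Ideal.ofList_append, hxs, sup_comm]
    exact h5

end Groth.Agent.S2200
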