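import Groth.Statements.S3829
import Groth.Agent.Lib.Helper5.SmQuotF

set_option autoImplicit false
universe u
open CategoryTheory CategoryTheory.Limits AlgebraicGeometry TopologicalSpace
open Unram17

namespace Groth.Agent.S3829

/-- c) implies a) (case of a closed immersion): let f : X → S and h : Y → S be locally of finite
presentation, j : Y → X a closed immersion over S and y a point of Y. If h is smooth on a
neighbourhood of y and, on some affine open neighbourhood of j(y) in X, the ideal of j is generated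
by a regular sequence (j is a regular immersion near y), then f is smooth on an open neighbourhood
of j(y). -/
theorem result {X Y S : Scheme.{u}} (f : X ⟶ S) (h : Y ⟶ S)
    [LocallyOfFinitePresentation f] [LocallyOfFinitePresentation h] (j : Y ⟶ X) [IsClosedImmersion j]
    (hj : j ≫ f = h) (y : ↥Y) (hy : ∃ V : Y.Opens, y ∈ V ∧ Smooth (V.ι ≫ h))
    (hreg : ∃ (U : X.Opens) (hU : IsAffineOpen U), j y ∈ U ∧
      ∃ rs : List Γ(X, U), RingTheory.Sequence.IsRegular Γ(X, U) rs ∧ j.ker.ideal ⟨U, hU⟩ = Ideal.ofList rs) :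
    ∃ U : X.Opens, j y ∈ U ∧ Smooth (U.ι ≫ f) := by
  subst hj
  obtain ⟨V, hyV, hVsm⟩ := hy
  obtain ⟨U, hU, hyU, rs, hrs, hker⟩ := hreg
  have hysm : y ∈ (j ≫ f).smoothLocus := by
    have h1 : (V.ι ≫ j ≫ f).smoothLocus = ⊤ := Scheme.Hom.smoothLocus_eq_top _
    rw [← Scheme.Hom.preimage_smoothLocus_eq] at h1
    have h2 : (⟨y, hyV⟩ : V) ∈ V.ι ⁻¹ᵁ (j ≫ f).smoothLocus := by
      rw [h1]; trivial
    exact h2
  obtain ⟨_, ⟨U₀, hU₀, rfl⟩, hyU₀, -⟩ :=
    S.isBasis_affineOpens.exists_subset_of_mem_open (Set.mem_univ (f (j y))) isOpen_univ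
  obtain ⟨r, hrle, hyr⟩ := hU.exists_basicOpen_le (V := U ⊓ f ⁻¹ᵁ U₀) ⟨j y, ⟨hyU, hyU₀⟩⟩ hyU
  have hU' : IsAffineOpen (X.basicOpen r) := hU.basicOpen r
  have hle : X.basicOpen r ≤ U := hrle.trans inf_le_left
  have hle₀ : X.basicOpen r ≤ f ⁻¹ᵁ U₀ := hrle.trans inf_le_right
  have hflat := Groth.Agent.Lib.Helper5.RegImmA.flat_res hU hU' hle
  have hker' : RingHom.ker (j.app (X.basicOpen r)).hom =
      Ideal.ofList (rs.map (X.presheaf.map (homOfLE hle).op).hom) := by
    rw [← Groth.Agent.Lib.Helper5.RegImmA.ker_map_res j hU hU' hle, ← Ideal.map_ofList,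
      ← hker, Scheme.Hom.ker_apply]
  have hrs' : RingTheory.Sequence.IsWeaklyRegular Γ(X, X.basicOpen r)
      (rs.map (X.presheaf.map (homOfLE hle).op).hom) := by
    let _ : Algebra Γ(X, U) Γ(X, X.basicOpen r) := (X.presheaf.map (homOfLE hle).op).hom.toAlgebra
    have : Module.Flat Γ(X, U) Γ(X, X.basicOpen r) := hflat
    exact hrs.toIsWeaklyRegular.of_flat
  have hmem := Groth.Agent.Lib.Helper5.SmQuot.mem_smoothLocus_of_regular f j y hysm U₀ hU₀
    (X.basicOpen r) hU' hle₀ hyr _ hrs' hker'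
  refine ⟨f.smoothLocus, hmem, ?_⟩
  rw [← Scheme.Hom.smoothLocus_eq_top_iff, ← Scheme.Hom.preimage_smoothLocus_eq]
  exact Scheme.Opens.ι_preimage_self _

end Groth.Agent.S3829
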