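import Groth.Statements.S2215
import Mathlib
-- import your own Groth.Agent.* helpers here

set_option autoImplicit false
universe u v
open Disc

namespace Groth.Agent.S2215

open TensorProduct


section
variable {A : Type u} {B : Type v} [CommRing A] [CommRing B] [Algebra A B]

/-- the pairing -/
noncomputable def P (ξ : B ⊗[A] B) (l : Disc.Omega A B) : B :=
  TensorProduct.lift ((LinearMap.lsmul A B).comp l.toLinearMap) ξ

lemma P_tmul (b c : B) (l : Disc.Omega A B) : P (b ⊗ₜ[A] c) l = l.toLinearMap b • c := by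
  simp [P]

lemma P_add (ξ η : B ⊗[A] B) (l : Disc.Omega A B) : P (ξ + η) l = P ξ l + P η l := by
  simp [P]

lemma P_zero (l : Disc.Omega A B) : P (0 : B ⊗[A] B) l = 0 := by
  simp [P]

lemma P_sum {ι : Type*} (s : Finset ι) (f : ι → B ⊗[A] B) (l : Disc.Omega A B) :
    P (∑ i ∈ s, f i) l = ∑ i ∈ s, P (f i) l := by
  simp [P]

lemma P_add_right (ξ : B ⊗[A] B) (l l' : Disc.Omega A B) : P ξ (l + l') = P ξ l + P ξ l' := by
  induction ξ using TensorProduct.induction_on with
  | zero => simp [P_zero]
  | tmul x y => simp [P_tmul, add_smul]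
  | add x y hx hy => rw [P_add, P_add, P_add, hx, hy]; abel

lemma P_mul_right (ξ : B ⊗[A] B) (b : B) (l : Disc.Omega A B) :
    P (ξ * (1 ⊗ₜ[A] b)) l = b * P ξ l := by
  induction ξ using TensorProduct.induction_on with
  | zero => simp [P_zero]
  | tmul x y =>
    rw [Algebra.TensorProduct.tmul_mul_tmul, P_tmul, P_tmul, mul_one, mul_comm y b,
      mul_smul_comm]
  | add x y hx hy => rw [add_mul, P_add, P_add, hx, hy, mul_add]

lemma P_mul_left (ξ : B ⊗[A] B) (b : B) (l : Disc.Omega A B) :
    P (ξ * (b ⊗ₜ[A] 1)) l = P ξ (b • l) := by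
  induction ξ using TensorProduct.induction_on with
  | zero => simp [P_zero]
  | tmul x y =>
    rw [Algebra.TensorProduct.tmul_mul_tmul, P_tmul, P_tmul, mul_one,
      Disc.Omega.smul_toLinearMap_apply, mul_comm]
  | add x y hx hy => rw [add_mul, P_add, P_add, hx, hy]

lemma eq_sum_basis {ι : Type*} [Fintype ι] (β : Module.Basis ι A B) (ξ : B ⊗[A] B) :
    ξ = ∑ k, β k ⊗ₜ[A] P ξ ⟨β.coord k⟩ := by
  induction ξ using TensorProduct.induction_on with
  | zero => simp [P_zero]
  | tmul x y =>
    simp only [P_tmul]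
    have : ∀ k, β k ⊗ₜ[A] ((β.coord k) x • y) = ((β.repr x k) • β k) ⊗ₜ[A] y := by
      intro k
      rw [TensorProduct.smul_tmul]; rfl
    simp only [this]
    rw [← TensorProduct.sum_tmul, β.sum_repr]
  | add x y hx hy =>
    simp only [P_add, TensorProduct.tmul_add, Finset.sum_add_distrib]
    rw [← hx, ← hy]

lemma P_injective {ι : Type*} [Fintype ι] (β : Module.Basis ι A B) (ξ η : B ⊗[A] B)
    (h : ∀ l : Disc.Omega A B, P ξ l = P η l) : ξ = η := by
  rw [eq_sum_basis β ξ, eq_sum_basis β η]
  exact Finset.sum_congr rfl fun k _ => by rw [h]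

/-- `toLinearMap` as an additive hom. -/
def toLinAdd : Disc.Omega A B →+ (B →ₗ[A] A) where
  toFun := Disc.Omega.toLinearMap
  map_zero' := rfl
  map_add' _ _ := rfl

lemma sum_toLinearMap {ι : Type*} (s : Finset ι) (g : ι → Disc.Omega A B) :
    (∑ k ∈ s, g k).toLinearMap = ∑ k ∈ s, (g k).toLinearMap :=
  map_sum toLinAdd g s

lemma mem_ann_iff (ξ : B ⊗[A] B) :
    ξ ∈ Submodule.annihilator (RingHom.ker (Algebra.TensorProduct.lmul' (S := B) A)) ↔
      ∀ s : B, ξ * ((1 : B) ⊗ₜ[A] s) = ξ * (s ⊗ₜ[A] (1 : B)) := by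
  have hI : RingHom.ker (Algebra.TensorProduct.lmul' (S := B) A) =
      Ideal.span (Set.range fun s : B => (1 : B) ⊗ₜ[A] s - s ⊗ₜ[A] (1 : B)) :=
    (KaehlerDifferential.span_range_eq_ideal A B).symm
  rw [hI, Ideal.span, Submodule.mem_annihilator_span]
  constructor
  · intro h s
    have := h ⟨_, s, rfl⟩
    rw [smul_eq_mul, mul_sub, sub_eq_zero] at this
    exact this
  · rintro h ⟨_, s, rfl⟩
    show ξ * ((1 : B) ⊗ₜ[A] s - s ⊗ₜ[A] (1 : B)) = 0
    rw [mul_sub, sub_eq_zero]
    exact h s

variable [Module.Finite A B] [Module.Free A B]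

lemma trace_eq_sum {ι : Type*} [Fintype ι] [DecidableEq ι] (β : Module.Basis ι A B) :
    Disc.Omega.trace A B = ∑ k, β k • (⟨β.coord k⟩ : Disc.Omega A B) := by
  apply Disc.Omega.toLinearMap_injective
  ext x
  rw [sum_toLinearMap, LinearMap.sum_apply]
  simp only [Disc.Omega.smul_toLinearMap_apply]
  show Algebra.trace A B x = _
  rw [Algebra.trace_eq_matrix_trace β, Matrix.trace]
  refine Finset.sum_congr rfl fun k _ => ?_
  rw [Matrix.diag_apply, Algebra.leftMulMatrix_eq_repr_mul, mul_comm]
  rfl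

lemma apply_trace {ι : Type*} [Fintype ι] [DecidableEq ι] (β : Module.Basis ι A B)
    (Φ : Disc.Omega A B →ₗ[B] B) (ξ : B ⊗[A] B) (h : ∀ l, Φ l = P ξ l) :
    Φ (Disc.Omega.trace A B) = Algebra.TensorProduct.lmul' (S := B) A ξ := by
  conv_rhs => rw [eq_sum_basis β ξ]
  rw [trace_eq_sum β, map_sum, map_sum]
  refine Finset.sum_congr rfl fun k _ => ?_
  rw [map_smul, Algebra.TensorProduct.lmul'_apply_tmul, smul_eq_mul, h]

end


/-- Special case: B finite free over A (the source allows flat quasi-finite maps of Noetherian rings).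
Let omega = Hom_A(B, A) with its B-module structure through the argument and tau in omega the trace.
Then an element of B lies in the Noether different of B over A exactly when it is of the form
phi(tau) for some B-linear map phi : omega -> B. -/
theorem result {A : Type u} {B : Type v} [CommRing A]
    [CommRing B] [Algebra A B] [IsNoetherianRing A] [Module.Finite A B] [Module.Free A B] :
    (Disc.noetherDifferent A B : Set B) =
      Set.range (fun φ : Disc.Omega A B →ₗ[B] B => φ (Disc.Omega.trace A B)) := by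
  classical
  let β := Module.Free.chooseBasis A B
  have hsurj : Function.Surjective (Algebra.TensorProduct.lmul' (S := B) A) := fun b =>
    ⟨b ⊗ₜ[A] 1, by simp⟩
  ext y
  rw [SetLike.mem_coe, Disc.noetherDifferent, Ideal.mem_map_iff_of_surjective _ hsurj, Set.mem_range]
  constructor
  · rintro ⟨ξ, hξ, rfl⟩
    rw [mem_ann_iff] at hξ
    let Φ : Disc.Omega A B →ₗ[B] B :=
      { toFun := fun l => P ξ l
        map_add' := fun l l' => P_add_right ξ l l'
        map_smul' := fun b l => by
          rw [RingHom.id_apply, ← P_mul_left, ← hξ b, P_mul_right, smul_eq_mul] }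
    exact ⟨Φ, apply_trace β Φ ξ fun l => rfl⟩
  · rintro ⟨Φ, rfl⟩
    let ξ : B ⊗[A] B := ∑ k, β k ⊗ₜ[A] Φ ⟨β.coord k⟩
    have hξ : ∀ l : Disc.Omega A B, Φ l = P ξ l := by
      intro l
      have hl : l = ∑ k, (algebraMap A B (l.toLinearMap (β k))) •
          (⟨β.coord k⟩ : Disc.Omega A B) := by
        apply Disc.Omega.toLinearMap_injective
        apply β.ext
        intro j
        rw [sum_toLinearMap, LinearMap.sum_apply]
        simp only [Disc.Omega.smul_toLinearMap_apply]
        rw [Finset.sum_eq_single j]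
        · rw [← Algebra.smul_def, map_smul]; simp
        · intro k _ hkj
          rw [← Algebra.smul_def, map_smul]; simp [hkj]
        · intro h; exact absurd (Finset.mem_univ j) h
      conv_lhs => rw [hl]
      rw [map_sum, P_sum]
      refine Finset.sum_congr rfl fun k _ => ?_
      rw [map_smul, P_tmul, smul_eq_mul, Algebra.smul_def]
    refine ⟨ξ, ?_, (apply_trace β Φ ξ hξ).symm⟩
    rw [mem_ann_iff]
    intro s
    apply P_injective β _ _
    intro l
    rw [P_mul_right, P_mul_left, ← hξ, ← hξ, map_smul, smul_eq_mul]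


end Groth.Agent.S2215
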