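import Groth.Statements.S9350
import Groth.Agent.Lib.Helper17.ModStalk
import Groth.Agent.Lib.Helper17.FlatTensor
import Mathlib
set_option backward.isDefEq.respectTransparency.types false

set_option autoImplicit false
universe u
open FlatMod

namespace Groth.Agent.S9350
open Groth.Agent.Lib.Helper17.ModStalk Groth.Agent.Lib.Helper17.FlatTensor TensorProduct


open AlgebraicGeometry CategoryTheory in
/-- Let h : X → Y be a morphism of S-schemes, q : Y → S, G a quasi-coherent O_Y-module and x ∈ X with h
flat at x. Flatness of G over S at h x is equivalent to flatness of h^*G over S at x. -/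
theorem result {X Y S : Scheme.{u}} (h : X ⟶ Y) (q : Y ⟶ S)
    (G : Y.Modules) (hG : Coh.IsQCoh G) (x : X) (hflat : (h.stalkMap x).hom.Flat) :
    FlatMod.IsFlatOverAt q G (h.base x) ↔ FlatMod.IsFlatOverAt (h ≫ q) ((Scheme.Modules.pullback h).obj G) x := by
  haveI : G.IsQuasicoherent := hG
  obtain ⟨e⟩ := nonempty_linearEquiv_stalk_pullback h G x
  letI algBA : Algebra (Y.presheaf.stalk (h x)) (X.presheaf.stalk x) := (h.stalkMap x).hom.toAlgebra
  letI algCB : Algebra (S.presheaf.stalk (q (h x))) (Y.presheaf.stalk (h x)) :=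
    (q.stalkMap (h x)).hom.toAlgebra
  letI algCA : Algebra (S.presheaf.stalk (q (h x))) (X.presheaf.stalk x) :=
    ((h ≫ q).stalkMap x).hom.toAlgebra
  haveI : IsScalarTower (S.presheaf.stalk (q (h x))) (Y.presheaf.stalk (h x)) (X.presheaf.stalk x) := by
    refine IsScalarTower.of_algebraMap_eq (fun c => ?_)
    change ((h ≫ q).stalkMap x).hom c = (h.stalkMap x).hom ((q.stalkMap (h x)).hom c)
    rw [Scheme.Hom.stalkMap_comp]
    rfl
  haveI : Module.Flat (Y.presheaf.stalk (h x)) (X.presheaf.stalk x) := hflat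
  haveI : IsLocalHom (algebraMap (Y.presheaf.stalk (h x)) (X.presheaf.stalk x)) :=
    inferInstanceAs (IsLocalHom (h.stalkMap x).hom)
  haveI : Module.FaithfullyFlat (Y.presheaf.stalk (h x)) (X.presheaf.stalk x) :=
    Module.FaithfullyFlat.of_flat_of_isLocalHom
  letI mC : Module (S.presheaf.stalk (q (h x))) (G.presheaf.stalk (h x)) := FlatMod.moduleStalkOver q G (h x)
  haveI : IsScalarTower (S.presheaf.stalk (q (h x))) (Y.presheaf.stalk (h x)) (G.presheaf.stalk (h x)) :=
    IsScalarTower.of_compHom _ _ _
  have key := flat_iff_flat_tensor (C := S.presheaf.stalk (q (h x))) (B := Y.presheaf.stalk (h x))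
    (A := X.presheaf.stalk x) (G.presheaf.stalk (h x))
  unfold FlatMod.IsFlatOverAt
  refine key.trans ?_
  letI mC' : Module (S.presheaf.stalk (q (h x))) (((Scheme.Modules.pullback h).obj G).presheaf.stalk x) :=
    FlatMod.moduleStalkOver (h ≫ q) ((Scheme.Modules.pullback h).obj G) x
  -- transport flatness along e
  let eC : ((Scheme.Modules.pullback h).obj G).presheaf.stalk x ≃ₗ[S.presheaf.stalk (q (h x))]
      (X.presheaf.stalk x) ⊗[Y.presheaf.stalk (h x)] (G.presheaf.stalk (h x)) :=
    { e.toAddEquiv with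
      map_smul' := fun c m => by
        change e (((h ≫ q).stalkMap x).hom c • m) = c • e m
        rw [e.map_smul]
        rw [← algebraMap_smul (X.presheaf.stalk x) c (e m)]
        rfl }
  change Module.Flat (S.presheaf.stalk (q (h x)))
      ((X.presheaf.stalk x) ⊗[Y.presheaf.stalk (h x)] (G.presheaf.stalk (h x))) ↔
    Module.Flat (S.presheaf.stalk (q (h x))) (((Scheme.Modules.pullback h).obj G).presheaf.stalk x)
  exact ⟨fun hf => Module.Flat.of_linearEquiv eC, fun hf => Module.Flat.of_linearEquiv eC.symm⟩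

end Groth.Agent.S9350
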