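import Groth.Statements.S1914
import Groth.Agent.Lib.Helper2.KosTor2
import Groth.Agent.Lib.Helper2.KosChi3

set_option autoImplicit false
universe u
open CategoryTheory
attribute [local instance] HasDerivedCategory.standard
open IntMult

namespace Groth.Agent.S1914

open Groth.Agent.Lib.Helper2.KosChi2 Groth.Agent.Lib.Helper2.KosChi3 Groth.Agent.Lib.Helper2.KosLen
  Groth.Agent.Lib.Helper2.KosTor2

theorem sop_of_supportDim {A : Type u} [CommRing A] [IsNoetherianRing A] [IsLocalRing A]
    (I : Ideal A) (M : Type u) [AddCommGroup M] [Module A M] [Module.Finite A M]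
    (h0 : Module.supportDim A (M ⧸ (I • (⊤ : Submodule A M))) ≤ 0) : Sop I M := by
  intro q hq hIq
  have hq' : q ∈ Module.support A (M ⧸ (I • ⊤ : Submodule A M)) := by
    rw [Module.support_quotient]
    exact ⟨hq, hIq⟩
  by_contra hne
  have hle : q ≤ IsLocalRing.closedPoint A := IsLocalRing.le_maximalIdeal q.2.ne_top
  have hne' : q ≠ IsLocalRing.closedPoint A := by
    intro h
    apply hne
    rw [h]
    rfl
  have hlt : q < IsLocalRing.closedPoint A := lt_of_le_of_ne hle hne'
  have hm : IsLocalRing.closedPoint A ∈ Module.support A (M ⧸ (I • ⊤ : Submodule A M)) :=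
    Module.mem_support_mono hle hq'
  have hpos : 0 < Module.supportDim A (M ⧸ (I • (⊤ : Submodule A M))) := by
    unfold Module.supportDim
    rw [Order.krullDim_pos_iff]
    exact ⟨⟨q, hq'⟩, ⟨IsLocalRing.closedPoint A, hm⟩, hlt⟩
  exact absurd h0 (not_le.2 hpos)

theorem chi_eq {A : Type u} [CommRing A] (l : List A)
    (hreg : RingTheory.Sequence.IsWeaklyRegular A l) (M : Type u) [AddCommGroup M] [Module A M] :
    IntMult.chi A (A ⧸ Ideal.span {a | a ∈ l}) M =
      ∑ᶠ i : ℤ, ((i.negOnePow : ℤˣ) : ℤ) * ((Module.length A ((DRing.tensorCx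
        (Koszul.koszul A l) (ModuleCat.of A M)).homology i)).toNat : ℤ) := by
  set F : ℤ → ℤ := fun i => ((i.negOnePow : ℤˣ) : ℤ) * ((Module.length A ((DRing.tensorCx
        (Koszul.koszul A l) (ModuleCat.of A M)).homology i)).toNat : ℤ) with hF
  have hinj : Function.Injective (fun n : ℕ => -(n : ℤ)) := by
    intro a b hab
    simp only [neg_inj, Nat.cast_inj] at hab
    exact hab
  have hsupp : ∀ x ∈ Function.support F, x ∈ Set.range (fun n : ℕ => -(n : ℤ)) ↔ x ∈ Set.univ := by
    intro x hx
    simp only [Set.mem_univ, iff_true]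
    by_contra hcon
    apply hx
    have hpos : 0 < x := by
      by_contra hle
      apply hcon
      exact ⟨(-x).toNat, by simp only []; omega⟩
    have := hK_eq_zero_of_pos l M x hpos
    rw [hK_eq] at this
    simp only [hF, this]
    simp
  have h1 : ∑ᶠ i : ℤ, F i = ∑ᶠ n : ℕ, F (-(n : ℤ)) := by
    rw [← finsum_mem_range hinj, finsum_mem_inter_support_eq' F _ Set.univ hsupp, finsum_mem_univ]
  rw [h1]
  unfold IntMult.chi
  apply finsum_congr
  intro n
  obtain ⟨e⟩ := tor_koszul l hreg M n
  simp only [hF]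
  rw [e.length_eq]
  congr 1
  rw [Int.negOnePow_neg, Int.negOnePow_def, zpow_natCast]
  simp


/-- Let A be a Noetherian local ring, I = (g₁, …, g_c) an ideal generated by a regular sequence and M a
finite A-module with Supp(M/IM) of dimension ≤ 0. Then c! · length_A(M/I^t M)/t^c tends, as t → ∞,
to Σ_i (−1)^i length_A Tor_i^A(A/I, M); that is, e_I(M, c) equals this alternating sum. -/
theorem result (A : Type u) [CommRing A] [IsNoetherianRing A] [IsLocalRing A] (c : ℕ) (g : Fin c → A) (hreg : RingTheory.Sequence.IsRegular A (List.ofFn g)) (M : Type u) [AddCommGroup M] [Module A M] [Module.Finite A M] (h0 : Module.supportDim A (M ⧸ (Ideal.span (Set.range g) • (⊤ : Submodule A M))) ≤ 0) : Filter.Tendsto (fun t : ℕ => (c.factorial : ℝ) * ((Module.length A (M ⧸ (Ideal.span (Set.range g) ^ t • (⊤ : Submodule A M)))).toNat : ℝ) / (t : ℝ) ^ c) Filter.atTop (nhds (IntMult.chi A (A ⧸ Ideal.span (Set.range g)) M : ℝ)) := by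
  have hsop : Sop (Ideal.span (Set.range g)) M := sop_of_supportDim _ M h0
  have h := (serre_fn c g M hsop).2
  have hc := chi_eq (List.ofFn g) hreg.toIsWeaklyRegular M
  rw [setOf_mem_ofFn] at hc
  rw [hc]
  exact h

end Groth.Agent.S1914
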