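import Groth.Statements.S6541
import Groth.Agent.Lib.Helper8.P1Core
import Groth.Agent.Lib.Helper8.GGCoh
import Groth.Agent.Lib.Helper8.CurveRR

set_option autoImplicit false
universe u
open CategoryTheory CategoryTheory.Limits AlgebraicGeometry
open Curves

namespace Groth.Agent.S6541

/-- Let X be a proper curve over the field k (proper, integral, of dimension one). If the first
cohomology of O_X vanishes and some invertible O_X-module has degree 1, then X is isomorphic to
P^1_k over k. -/
theorem result (k : Type u) [Field k] (X : Scheme.{u}) [X.Over (Spec (CommRingCat.of k))]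
    [IsIntegral X] [IsProper (X ↘ (Spec (CommRingCat.of k)))] (hdim : topologicalKrullDim X = 1)
    (h1 : Subsingleton (Coh.HH X (Coh.structureModule X) 1))
    (L : X.Modules) (hL : PicF.IsInvertible L) (hdeg : Curv2.deg k X L 1 = 1) :
    ∃ e : X ≅ CohB1.ProjSpace 1 k, e.hom ≫ CohB1.ProjSpace.toSpec 1 k = X ↘ (Spec (CommRingCat.of k)) := by
  haveI : IsNoetherian X := Groth.Agent.Lib.Helper8.CurveRR.isNoetherian k X
  have hvan : ∀ (M : X.Modules) (p : ℕ), 2 ≤ p → Subsingleton (Coh.HH X M p) := fun M p hp => by
    obtain ⟨n, rfl⟩ := Nat.exists_eq_add_of_le hp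
    rw [add_comm]
    exact Groth.Agent.Lib.Helper8.GGCoh.subsingleton_HH_add_two hdim.le M n
  have eO := Groth.Agent.Lib.Helper8.EulerK.euler_eq_sum k X (Coh.structureModule X) 2 (hvan _)
  have eL := Groth.Agent.Lib.Helper8.EulerK.euler_eq_sum k X L 2 (hvan _)
  simp only [Finset.sum_range_succ, Finset.sum_range_zero, pow_zero, pow_one, one_mul, zero_add] at eO eL
  have h1' : Module.finrank k (Coh.HH X (Coh.structureModule X) 1) = 0 :=
    Module.finrank_zero_of_subsingleton
  have hdeg' := hdeg
  unfold Curv2.deg at hdeg'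
  apply Groth.Agent.Lib.Helper8.P1Core.exists_iso_P1_of_lt k X hdim hL hdeg
  rw [eO, eL, h1'] at hdeg'
  push_cast at hdeg'
  omega

end Groth.Agent.S6541
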