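import Groth.Statements.S7048
import Groth.Agent.Lib.Helper16.DComp3
import Groth.Agent.Lib.Helper16.DComp4
-- import your own Groth.Agent.* helpers here

set_option autoImplicit false
universe u
attribute [local instance] HasDerivedCategory.standard
open DRing

namespace Groth.Agent.S7048

open Groth.Agent.Lib.Helper16.DComp


/-- For a commutative ring A, an ideal I and an A-module M which is I-adically complete, the object M[0]
of D(A) is derived complete with respect to I. -/
theorem result {A : Type u} [CommRing A] (I : Ideal A)
    (M : Type u) [AddCommGroup M] [Module A M] [IsAdicComplete I M] :
    DRing.IsDerivedComplete I (Dual.inD A M) := by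
  rw [isDerivedComplete_inD_iff]
  intro f hf
  exact DCf.of_isAdicComplete I hf

end Groth.Agent.S7048
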