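import Groth.Statements.S12450
-- import your own Groth.Agent.* helpers here

set_option autoImplicit false
universe u
open CategoryTheory CategoryTheory.Limits
open ModSite

namespace Groth.Agent.S12450

/-- For a small ringed site (C, O) the forgetful functor Mod(O) → Ab(C) commutes with colimits, i.e.
preserves all small colimits. (Existence of limits and colimits in Mod(O) and commutation of the
forgetful functor with limits hold by construction; exactness of filtered colimits is a separate
statement.) -/
theorem result {C : Type u} [SmallCategory C] {J : GrothendieckTopology C}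
    (O : Sheaf J CommRingCat.{u}) :
    PreservesColimitsOfSize.{u, u} (SheafOfModules.toSheaf.{u} (ModSite.ringSh O) : ModSite.Mod O ⥤ Sheaf J AddCommGrpCat.{u}) := by
  refine ⟨fun {K} _ => ⟨fun {F} => ?_⟩⟩
  let R := ModSite.ringSh O
  let L : PresheafOfModules.{u} R.obj ⥤ SheafOfModules.{u} R :=
    PresheafOfModules.sheafification.{u} (𝟙 R.obj)
  let e : F ≅ (F ⋙ SheafOfModules.forget R) ⋙ L :=
    Functor.isoWhiskerLeft F
      (asIso (PresheafOfModules.sheafificationAdjunction (𝟙 R.obj)).counit).symm
  have hLG : PreservesColimitsOfSize.{u, u} (L ⋙ SheafOfModules.toSheaf.{u} R) :=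
    inferInstanceAs (PreservesColimitsOfSize.{u, u}
      (PresheafOfModules.toPresheaf R.obj ⋙ presheafToSheaf J AddCommGrpCat.{u}))
  have : PreservesColimit ((F ⋙ SheafOfModules.forget R) ⋙ L) (SheafOfModules.toSheaf.{u} R) := by
    have hc := colimit.isColimit (F ⋙ SheafOfModules.forget R)
    apply preservesColimit_of_preserves_colimit_cocone (isColimitOfPreserves L hc)
    exact isColimitOfPreserves (L ⋙ SheafOfModules.toSheaf.{u} R) hc
  exact preservesColimit_of_iso_diagram _ e.symm

end Groth.Agent.S12450
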