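import Groth.Statements.S0315
-- import your own Groth.Agent.* helpers here
import Groth.Agent.Lib.Helper26.MatlisArtinian
import Mathlib.RingTheory.HopkinsLevitzki
import Mathlib.RingTheory.Nakayama
import Mathlib.RingTheory.Finiteness.Ideal

set_option autoImplicit false
universe u v
open Matlis

namespace Groth.Agent.S0315

/-- Over a Noetherian local ring a module has the descending chain condition exactly when it is killed
elementwise by powers of the maximal ideal and its socle is finite-dimensional over the residue
field. -/
theorem result (R : Type u) [CommRing R] [IsLocalRing R] [IsNoetherianRing R] (M : Type u) [AddCommGroup M] [Module R M] : IsArtinian R M ↔ (LocCoh.IsPowerTorsion (IsLocalRing.maximalIdeal R) M ∧ Module.Finite (R ⧸ IsLocalRing.maximalIdeal R) ↥(LocCoh.torsionBy (IsLocalRing.maximalIdeal R) M)) := by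
  classical
  letI : Field (R ⧸ IsLocalRing.maximalIdeal R) := Ideal.Quotient.field _
  have hiff : Module.Finite (R ⧸ IsLocalRing.maximalIdeal R)
        ↥(LocCoh.torsionBy (IsLocalRing.maximalIdeal R) M) ↔
      IsArtinian (R ⧸ IsLocalRing.maximalIdeal R)
        ↥(LocCoh.torsionBy (IsLocalRing.maximalIdeal R) M) :=
    (IsArtinianRing.tfae (R := R ⧸ IsLocalRing.maximalIdeal R)
      (M := ↥(LocCoh.torsionBy (IsLocalRing.maximalIdeal R) M))).out 0 2
  constructor
  · intro hA
    refine ⟨?_, ?_⟩
    · intro x
      let chain : ℕ →o (Submodule R M)ᵒᵈ :=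
        ⟨fun n => OrderDual.toDual ((IsLocalRing.maximalIdeal R ^ n) • Submodule.span R {x}),
          fun i j hij => OrderDual.toDual_le_toDual.2
            (Submodule.smul_mono_left (Ideal.pow_le_pow_right hij))⟩
      obtain ⟨n, hn⟩ := monotone_stabilizes_iff_artinian.2 hA chain
      have h1 : (IsLocalRing.maximalIdeal R ^ n) • Submodule.span R {x} =
          (IsLocalRing.maximalIdeal R ^ (n + 1)) • Submodule.span R {x} := hn (n + 1) (Nat.le_succ n)
      have hfg : ((IsLocalRing.maximalIdeal R ^ n) • Submodule.span R {x}).FG :=
        Submodule.FG.smul (IsNoetherian.noetherian _) (Submodule.fg_span_singleton x)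
      have hbot : (IsLocalRing.maximalIdeal R ^ n) • Submodule.span R {x} = ⊥ := by
        apply Submodule.eq_bot_of_le_smul_of_le_jacobson_bot (IsLocalRing.maximalIdeal R) _ hfg
        · conv_lhs => rw [h1]
          rw [pow_succ', mul_smul]
        · exact (IsLocalRing.jacobson_eq_maximalIdeal ⊥ bot_ne_top).ge
      refine ⟨n, fun a ha => ?_⟩
      have : a • x ∈ (IsLocalRing.maximalIdeal R ^ n) • Submodule.span R {x} :=
        Submodule.smul_mem_smul ha (Submodule.mem_span_singleton_self x)
      rw [hbot] at this
      exact (Submodule.mem_bot R).1 this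
    · rw [hiff]
      exact isArtinian_of_tower R (inferInstance :
        IsArtinian R ↥(LocCoh.torsionBy (IsLocalRing.maximalIdeal R) M))
  · rintro ⟨htors, hfin⟩
    rw [hiff] at hfin
    haveI : IsArtinian R ↥(Submodule.torsionBySet R M (IsLocalRing.maximalIdeal R : Set R)) :=
      isArtinian_of_surjective_algebraMap (R := R ⧸ IsLocalRing.maximalIdeal R) (S := R)
        Ideal.Quotient.mk_surjective
    exact Groth.Agent.Lib.Helper26.Melkersson.isArtinian_of_isPowerTorsion
      (IsLocalRing.maximalIdeal R) (IsNoetherian.noetherian _) htors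

end Groth.Agent.S0315
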