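import Groth.Statements.S0316
-- import your own Groth.Agent.* helpers here
import Groth.Agent.Lib.Helper26.MatlisComplete
import Mathlib.LinearAlgebra.StdBasis
import Mathlib.RingTheory.Finiteness.Cardinality

set_option autoImplicit false
universe u v
open Matlis

namespace Groth.Agent.S0316

/-- Over a complete Noetherian local ring with E an injective hull of the residue field, the E-dual of a
finite module is Artinian and the evaluation map into the double E-dual is bijective. -/
theorem result (R : Type u) [CommRing R] [IsLocalRing R] [IsNoetherianRing R] [IsAdicComplete (IsLocalRing.maximalIdeal R) R] (E : Type u) [AddCommGroup E] [Module R E] (f : IsLocalRing.ResidueField R →ₗ[R] E) (hf : InjHull.IsInjectiveHull f) (M : Type u) [AddCommGroup M] [Module R M] [Module.Finite R M] : IsArtinian R (M →ₗ[R] E) ∧ Function.Bijective (LinearMap.applyₗ : M →ₗ[R] (M →ₗ[R] E) →ₗ[R] E) := by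
  classical
  haveI := hf.isInjective
  haveI : IsArtinian R E :=
    Groth.Agent.Lib.Helper26.Matlis.isArtinian_of_isEssentialInj hf.toIsEssentialInj
  obtain ⟨n, π, hπ⟩ := Module.Finite.exists_fin' R M
  let e : (Fin n → E) ≃ₗ[R] ((Fin n → R) →ₗ[R] E) := (Pi.basisFun R (Fin n)).constr R
  have hinj : Function.Injective (LinearMap.lcomp R E π) :=
    LinearMap.lcomp_injective_of_surjective π hπ
  refine ⟨?_, Groth.Agent.Lib.Helper26.Matlis.applyₗ_injective hf M, ?_⟩
  · let ψ : (M →ₗ[R] E) →ₗ[R] (Fin n → E) := e.symm.toLinearMap ∘ₗ LinearMap.lcomp R E π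
    have hψ : Function.Injective ψ := e.symm.injective.comp hinj
    exact isArtinian_of_injective ψ hψ
  · intro Φ
    -- extend `Φ` to the dual of the free module
    obtain ⟨Φ', hΦ'⟩ := Module.Injective.extension_property R E _ _ (LinearMap.lcomp R E π) hinj Φ
    -- each coordinate is a homothety
    have hcoord : ∀ i : Fin n, ∃ r : R, ∀ x : E,
        Φ' (e (Pi.single i x)) = r • x := by
      intro i
      let θ : E →ₗ[R] E := Φ' ∘ₗ e.toLinearMap ∘ₗ LinearMap.single R (fun _ : Fin n => E) i
      obtain ⟨r, hr⟩ := Groth.Agent.Lib.Helper26.Matlis.exists_eq_smul_of_isAdicComplete hf θ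
      exact ⟨r, fun x => hr x⟩
    choose r hr using hcoord
    refine ⟨π r, ?_⟩
    ext φ
    rw [LinearMap.applyₗ_apply_apply]
    have h1 : Φ φ = Φ' (LinearMap.lcomp R E π φ) := by rw [← hΦ']; rfl
    rw [h1]
    -- write `φ ∘ π` in coordinates
    obtain ⟨y, hy⟩ := e.surjective (LinearMap.lcomp R E π φ)
    rw [← hy]
    have hy' : y = ∑ i, Pi.single i (y i) := (Finset.univ_sum_single y).symm
    have h2 : Φ' (e y) = ∑ i, r i • y i := by
      conv_lhs => rw [hy', map_sum, map_sum]
      exact Finset.sum_congr rfl (fun i _ => hr i (y i))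
    rw [h2]
    have h3 : φ (π r) = (e y) r := by rw [hy]; rfl
    rw [h3]
    show (e y) r = _
    rw [Module.Basis.constr_apply_fintype]
    simp [Pi.basisFun_equivFun]

end Groth.Agent.S0316
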