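import Groth.Statements.S0310
-- import your own Groth.Agent.* helpers here
import Mathlib.LinearAlgebra.Dimension.Free
import Mathlib.LinearAlgebra.FreeModule.Finite.Basic

set_option autoImplicit false
universe u v
open Matlis

namespace Groth.Agent.S0310

/-- Over a local ring, a module killed elementwise by powers of the maximal ideal and whose socle has
finite dimension n over the residue field embeds into the n-fold sum of an injective hull of the
residue field. -/
theorem result (R : Type u) [CommRing R] [IsLocalRing R] (E : Type u) [AddCommGroup E] [Module R E] (f : IsLocalRing.ResidueField R →ₗ[R] E) (hf : InjHull.IsInjectiveHull f) (M : Type u) [AddCommGroup M] [Module R M] (hM : LocCoh.IsPowerTorsion (IsLocalRing.maximalIdeal R) M) (n : ℕ) [Module.Finite (R ⧸ IsLocalRing.maximalIdeal R) ↥(LocCoh.torsionBy (IsLocalRing.maximalIdeal R) M)] (hn : Module.finrank (R ⧸ IsLocalRing.maximalIdeal R) ↥(LocCoh.torsionBy (IsLocalRing.maximalIdeal R) M) = n) : ∃ g : M →ₗ[R] (Fin n → E), Function.Injective g := by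
  classical
  haveI := hf.isInjective
  set V := LocCoh.torsionBy (IsLocalRing.maximalIdeal R) M with hV
  -- a basis of the socle over the residue field
  letI : Field (R ⧸ IsLocalRing.maximalIdeal R) := Ideal.Quotient.field _
  haveI : Module.Free (R ⧸ IsLocalRing.maximalIdeal R) V := Module.Free.of_divisionRing _ _
  let b : Module.Basis (Fin n) (R ⧸ IsLocalRing.maximalIdeal R) V :=
    Module.finBasisOfFinrankEq (R ⧸ IsLocalRing.maximalIdeal R) V hn
  let e : V →ₗ[R] (Fin n → (R ⧸ IsLocalRing.maximalIdeal R)) :=
    (b.equivFun.restrictScalars R).toLinearMap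
  have he : Function.Injective e := (b.equivFun.restrictScalars R).injective
  let f' : (R ⧸ IsLocalRing.maximalIdeal R) →ₗ[R] E := f
  let j : V →ₗ[R] (Fin n → E) := (f'.compLeft (Fin n)) ∘ₗ e
  have hj : Function.Injective j := by
    intro x y hxy
    apply he
    funext i
    have := congrFun hxy i
    exact hf.injective this
  obtain ⟨g, hg⟩ := Module.Injective.extension_property R (Fin n → E) _ _ V.subtype
    (Submodule.subtype_injective _) j
  refine ⟨g, ?_⟩
  rw [← LinearMap.ker_eq_bot, LinearMap.ker_eq_bot']
  intro x hx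
  by_contra hx0
  have hex := hM x
  have hn0 : Nat.find hex ≠ 0 := by
    intro h0
    have := Nat.find_spec hex
    rw [h0, pow_zero] at this
    exact hx0 (by simpa using this 1 (by simp))
  obtain ⟨k, hk⟩ := Nat.exists_eq_succ_of_ne_zero hn0
  have hmin : ¬ ∀ a ∈ IsLocalRing.maximalIdeal R ^ k, a • x = 0 :=
    Nat.find_min hex (by rw [hk]; exact Nat.lt_succ_self k)
  push Not at hmin
  obtain ⟨a, hak, hax⟩ := hmin
  have hsoc : a • x ∈ V := by
    rw [hV, Submodule.mem_torsionBySet_iff]
    rintro ⟨c, hc⟩
    show c • (a • x) = 0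
    rw [smul_smul]
    apply Nat.find_spec hex
    rw [hk, pow_succ']
    exact Ideal.mul_mem_mul hc hak
  have h1 : j ⟨a • x, hsoc⟩ = 0 := by
    rw [← hg]
    show g (a • x) = 0
    rw [map_smul, hx, smul_zero]
  have h2 : (⟨a • x, hsoc⟩ : V) = 0 := hj (by rw [h1, map_zero])
  exact hax (congrArg Subtype.val h2)

end Groth.Agent.S0310
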