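import Groth.Statements.S0317
-- import your own Groth.Agent.* helpers here
import Groth.Agent.Lib.Helper26.MatlisComplete
import Groth.Agent.S0315
import Groth.Agent.S0310

set_option autoImplicit false
universe u v
open Matlis

namespace Groth.Agent.S0317

/-- over a complete Noetherian local ring, linear forms `E^n → E` are given by vectors of scalars -/
lemma exists_eq_sum_smul {R : Type u} [CommRing R] [IsLocalRing R] [IsNoetherianRing R]
    [IsAdicComplete (IsLocalRing.maximalIdeal R) R] {E : Type u} [AddCommGroup E] [Module R E]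
    {f : IsLocalRing.ResidueField R →ₗ[R] E} (hf : InjHull.IsInjectiveHull f) {n : ℕ}
    (χ : (Fin n → E) →ₗ[R] E) : ∃ s : Fin n → R, ∀ y : Fin n → E, χ y = ∑ i, s i • y i := by
  classical
  have hcoord : ∀ i : Fin n, ∃ r : R, ∀ x : E, χ (Pi.single i x) = r • x := by
    intro i
    let θ : E →ₗ[R] E := χ ∘ₗ LinearMap.single R (fun _ : Fin n => E) i
    obtain ⟨r, hr⟩ := Groth.Agent.Lib.Helper26.Matlis.exists_eq_smul_of_isAdicComplete hf θ
    exact ⟨r, fun x => hr x⟩
  choose s hs using hcoord
  refine ⟨s, fun y => ?_⟩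
  have hy' : y = ∑ i, Pi.single i (y i) := (Finset.univ_sum_single y).symm
  conv_lhs => rw [hy', map_sum]
  exact Finset.sum_congr rfl (fun i _ => hs i (y i))

/-- Over a complete Noetherian local ring with E an injective hull of the residue field, the E-dual of
an Artinian module is a finite module and the evaluation map into the double E-dual is bijective. -/
theorem result (R : Type u) [CommRing R] [IsLocalRing R] [IsNoetherianRing R] [IsAdicComplete (IsLocalRing.maximalIdeal R) R] (E : Type u) [AddCommGroup E] [Module R E] (f : IsLocalRing.ResidueField R →ₗ[R] E) (hf : InjHull.IsInjectiveHull f) (M : Type u) [AddCommGroup M] [Module R M] [IsArtinian R M] : Module.Finite R (M →ₗ[R] E) ∧ Function.Bijective (LinearMap.applyₗ : M →ₗ[R] (M →ₗ[R] E) →ₗ[R] E) := by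
  classical
  haveI := hf.isInjective
  obtain ⟨htors, hfin⟩ := (Groth.Agent.S0315.result R M).1 inferInstance
  obtain ⟨n, ι, hι⟩ : ∃ n : ℕ, ∃ ι : M →ₗ[R] (Fin n → E), Function.Injective ι :=
    ⟨_, Groth.Agent.S0310.result R E f hf M htors _ rfl⟩
  -- the map `R^n → M^∨`
  let ρ : (Fin n → R) →ₗ[R] (M →ₗ[R] E) :=
    { toFun := fun r => ∑ i, r i • ((LinearMap.proj i : (Fin n → E) →ₗ[R] E) ∘ₗ ι)
      map_add' := fun r r' => by
        simp only [Pi.add_apply, add_smul, Finset.sum_add_distrib]
      map_smul' := fun c r => by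
        simp only [Pi.smul_apply, smul_eq_mul, mul_smul, RingHom.id_apply, Finset.smul_sum] }
  have hρ : ∀ (r : Fin n → R) (m : M), ρ r m = ∑ i, r i • (ι m) i := by
    intro r m
    show (∑ i, r i • ((LinearMap.proj i : (Fin n → E) →ₗ[R] E) ∘ₗ ι)) m = _
    rw [LinearMap.sum_apply]
    rfl
  have hρsurj : Function.Surjective ρ := by
    intro φ
    obtain ⟨φ', hφ'⟩ := Module.Injective.extension_property R E _ _ ι hι φ
    obtain ⟨s, hs⟩ := exists_eq_sum_smul hf φ'
    refine ⟨s, ?_⟩
    ext m
    rw [hρ, ← hφ', LinearMap.comp_apply, hs]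
  refine ⟨Module.Finite.of_surjective ρ hρsurj,
    Groth.Agent.Lib.Helper26.Matlis.applyₗ_injective hf M, ?_⟩
  intro Φ
  let x : Fin n → E := fun i => Φ (ρ (Pi.single i 1))
  have hΦρ : ∀ r : Fin n → R, Φ (ρ r) = ∑ i, r i • x i := by
    intro r
    have hr : r = ∑ i, r i • (Pi.single i (1 : R) : Fin n → R) := by
      conv_lhs => rw [← Finset.univ_sum_single r]
      refine Finset.sum_congr rfl (fun i _ => ?_)
      rw [← Pi.single_smul, smul_eq_mul, mul_one]
    conv_lhs => rw [hr, map_sum, map_sum]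
    refine Finset.sum_congr rfl (fun i _ => ?_)
    rw [map_smul, map_smul]
  have hx : x ∈ LinearMap.range ι := by
    by_contra hx
    have hne : (LinearMap.range ι).mkQ x ≠ 0 := by
      rwa [Ne, Submodule.mkQ_apply, Submodule.Quotient.mk_eq_zero]
    obtain ⟨χ, hχ⟩ := Groth.Agent.Lib.Helper26.Matlis.exists_linearMap_apply_ne_zero hf hne
    obtain ⟨s, hs⟩ := exists_eq_sum_smul hf (χ ∘ₗ (LinearMap.range ι).mkQ)
    have hρs : ρ s = 0 := by
      ext m
      rw [hρ, ← hs, LinearMap.comp_apply, Submodule.mkQ_apply,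
        (Submodule.Quotient.mk_eq_zero _).2 (LinearMap.mem_range_self ι m), map_zero, LinearMap.zero_apply]
    apply hχ
    have := hs x
    rw [LinearMap.comp_apply] at this
    rw [this, ← hΦρ, hρs, map_zero]
  obtain ⟨m0, hm0⟩ := hx
  refine ⟨m0, ?_⟩
  ext φ
  obtain ⟨r, rfl⟩ := hρsurj φ
  rw [LinearMap.applyₗ_apply_apply, hΦρ, hρ, hm0]

end Groth.Agent.S0317
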