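import Groth.Statements.S14100
import Mathlib.Algebra.Homology.DerivedCategory.FullyFaithful
import Mathlib.CategoryTheory.Triangulated.TStructure.TruncLEGT

set_option autoImplicit false
universe w v u
open DCoh

namespace Groth.Agent.S14100

section
open CategoryTheory Limits Pretriangulated DerivedCategory

variable {C : Type u} [Category.{v} C] [Abelian C] [HasDerivedCategory.{w} C]

theorem eq_zero_of_homology_map_eq_zero {Y Z : DerivedCategory C} (m : ℤ)
    [Y.IsGE m] [Y.IsLE m] [Z.IsGE m] [Z.IsLE m] (φ : Y ⟶ Z)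
    (h : (homologyFunctor C m).map φ = 0) : φ = 0 := by
  obtain ⟨A, ⟨eY⟩⟩ := exists_iso_singleFunctor_obj_of_isGE_of_isLE Y m
  obtain ⟨B, ⟨eZ⟩⟩ := exists_iso_singleFunctor_obj_of_isGE_of_isLE Z m
  obtain ⟨ψ, hψ⟩ := (singleFunctor C m).map_surjective (eY.inv ≫ φ ≫ eZ.hom)
  have h1 : (homologyFunctor C m).map ((singleFunctor C m).map ψ) = 0 := by
    rw [hψ]; simp [h]
  have h2 : ψ = 0 := by
    have := NatIso.naturality_1 (singleFunctorCompHomologyFunctorIso C m) ψ
    dsimp at this
    rw [← this, h1]; simp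
  have h3 : eY.inv ≫ φ ≫ eZ.hom = 0 := by rw [← hψ, h2, Functor.map_zero]
  have := congrArg (fun x => eY.hom ≫ x ≫ eZ.inv) h3
  simpa using this

theorem mono_homology_truncLEι (X : DerivedCategory C) (b q : ℤ) :
    Mono ((homologyFunctor C q).map ((TStructure.t.truncLEι b).app X)) := by
  have hT := TStructure.t.triangleLEGT_distinguished b X
  refine (HomologySequence.mono_homologyMap_mor₁_iff _ hT (q - 1) q (by omega)).mpr ?_
  by_cases hq : q ≤ b + 1
  · apply IsZero.eq_of_src
    exact isZero_of_isGE ((TStructure.t.truncGT b).obj X) (b + 1) (q - 1) (by omega)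
  · apply IsZero.eq_of_tgt
    exact isZero_of_isLE ((TStructure.t.truncLE b).obj X) b q (by omega)

theorem epi_homology_truncGTπ (X : DerivedCategory C) (b : ℤ) :
    Epi ((homologyFunctor C (b + 1)).map ((TStructure.t.truncGTπ b).app X)) := by
  have hT := TStructure.t.triangleLEGT_distinguished b X
  refine (HomologySequence.epi_homologyMap_mor₂_iff _ hT (b + 1) (b + 2) (by omega)).mpr ?_
  apply IsZero.eq_of_tgt
  exact isZero_of_isLE ((TStructure.t.truncLE b).obj X) b (b + 2) (by omega)

theorem homology_truncLE_map_eq_zero {X Y : DerivedCategory C} (φ : X ⟶ Y) (b q : ℤ)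
    (h : (homologyFunctor C q).map φ = 0) :
    (homologyFunctor C q).map ((TStructure.t.truncLE b).map φ) = 0 := by
  have hmono := mono_homology_truncLEι Y b q
  rw [← cancel_mono ((homologyFunctor C q).map ((TStructure.t.truncLEι b).app Y)),
    ← Functor.map_comp, zero_comp]
  have hnat := (TStructure.t.truncLEι b).naturality φ
  rw [hnat, Functor.map_comp]
  dsimp
  rw [h, comp_zero]

theorem truncGT_map_eq_zero {X Y : DerivedCategory C} (φ : X ⟶ Y) (b : ℤ)
    [X.IsLE (b + 1)] [Y.IsLE (b + 1)] (h : (homologyFunctor C (b + 1)).map φ = 0) :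
    (TStructure.t.truncGT b).map φ = 0 := by
  have : ((TStructure.t.truncGT b).obj X).IsGE (b + 1) :=
    (inferInstance : TStructure.t.IsGE ((TStructure.t.truncGT b).obj X) (b + 1))
  have : ((TStructure.t.truncGT b).obj Y).IsGE (b + 1) :=
    (inferInstance : TStructure.t.IsGE ((TStructure.t.truncGT b).obj Y) (b + 1))
  have : ((TStructure.t.truncGT b).obj X).IsLE (b + 1) :=
    (inferInstance : TStructure.t.IsLE ((TStructure.t.truncGT b).obj X) (b + 1))
  have : ((TStructure.t.truncGT b).obj Y).IsLE (b + 1) :=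
    (inferInstance : TStructure.t.IsLE ((TStructure.t.truncGT b).obj Y) (b + 1))
  apply eq_zero_of_homology_map_eq_zero (b + 1)
  have hepi := epi_homology_truncGTπ X b
  rw [← cancel_epi ((homologyFunctor C (b + 1)).map ((TStructure.t.truncGTπ b).app X)),
    ← Functor.map_comp, comp_zero]
  have hnat := (TStructure.t.truncGTπ b).naturality φ
  rw [← hnat, Functor.map_comp]
  dsimp
  rw [h, zero_comp]

theorem exists_lift_truncLE {X Y : DerivedCategory C} (φ : X ⟶ Y) (b : ℤ)
    (h : (TStructure.t.truncGT b).map φ = 0) :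
    ∃ g : X ⟶ (TStructure.t.truncLE b).obj Y, φ = g ≫ (TStructure.t.truncLEι b).app Y := by
  refine Triangle.coyoneda_exact₂ _ (TStructure.t.triangleLEGT_distinguished b Y) φ ?_
  have hnat := (TStructure.t.truncGTπ b).naturality φ
  dsimp at hnat
  change φ ≫ (TStructure.t.truncGTπ b).app Y = 0
  rw [hnat, h, comp_zero]

theorem main (n : ℕ) : ∀ (a : ℤ) (K : ℕ ⥤ DerivedCategory C)
    (_ : ∀ i : ℕ, i ≤ n + 1 → (K.obj i).IsGE a)
    (_ : ∀ i : ℕ, i ≤ n + 1 → (K.obj i).IsLE (a + n))
    (_ : ∀ i : ℕ, i ≤ n → ∀ q : ℤ,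
      (homologyFunctor C q).map (K.map (homOfLE (Nat.le_succ i))) = 0),
    K.map (homOfLE (Nat.zero_le (n + 1))) = 0 := by
  induction n with
  | zero =>
    intro a K hGE hLE hzero
    have := hGE 0 (by omega)
    have := hGE 1 (by omega)
    have h0 := hLE 0 (by omega)
    have h1 := hLE 1 (by omega)
    simp only [Nat.cast_zero, add_zero] at h0 h1
    exact eq_zero_of_homology_map_eq_zero a _ (hzero 0 le_rfl a)
  | succ n ih =>
    intro a K hGE hLE hzero
    have hb : a + ((n + 1 : ℕ) : ℤ) = (a + n) + 1 := by omega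
    let S : ℕ ⥤ ℕ := Monotone.functor (f := Nat.succ) (fun _ _ h => Nat.succ_le_succ h)
    have key : (TStructure.t.truncLE (a + n)).map
        (K.map (homOfLE (show 1 ≤ n + 1 + 1 by omega))) = 0 := by
      refine ih a (S ⋙ K ⋙ TStructure.t.truncLE (a + n)) ?_ ?_ ?_
      · intro i hi
        have := hGE (i + 1) (by omega)
        exact (inferInstance :
          TStructure.t.IsGE ((TStructure.t.truncLE (a + n)).obj (K.obj (i + 1))) a)
      · intro i hi
        exact (inferInstance :
          TStructure.t.IsLE ((TStructure.t.truncLE (a + n)).obj (K.obj (i + 1))) (a + n))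
      · intro i hi q
        exact homology_truncLE_map_eq_zero _ (a + n) q (hzero (i + 1) (by omega) q)
    have hsplit : K.map (homOfLE (Nat.zero_le (n + 1 + 1))) =
        K.map (homOfLE (Nat.zero_le 1)) ≫ K.map (homOfLE (show 1 ≤ n + 1 + 1 by omega)) := by
      rw [← K.map_comp]; congr 1
    have hGT : (TStructure.t.truncGT (a + n)).map (K.map (homOfLE (Nat.zero_le 1))) = 0 := by
      have h0 := hLE 0 (by omega)
      have h1 := hLE 1 (by omega)
      rw [hb] at h0 h1
      exact truncGT_map_eq_zero _ (a + n) (hzero 0 (by omega) (a + n + 1))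
    obtain ⟨g, hg⟩ := exists_lift_truncLE _ _ hGT
    have hnat := (TStructure.t.truncLEι (a + n)).naturality
      (K.map (homOfLE (show 1 ≤ n + 1 + 1 by omega)))
    dsimp at hnat
    rw [hsplit, hg, Category.assoc, ← hnat, key, zero_comp, comp_zero]

end


open CategoryTheory in
/-- Let C be an abelian category, a an integer and n a natural number, and let K_0 → K_1 → ⋯ → K_{n+1}
be composable morphisms in the derived category of C such that each K_i has cohomology concentrated
in degrees a, …, a+n and each map K_i → K_{i+1} induces zero on every cohomology object. Then the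
composite K_0 → K_{n+1} is zero. (The chain is given as a functor from the ordered set of natural
numbers; only its values on 0, …, n+1 matter.) -/
theorem result
    (C : Type u) [Category.{v} C] [Abelian C] [HasDerivedCategory.{w} C]
    (a : ℤ) (n : ℕ) (K : ℕ ⥤ DerivedCategory C)
    (hGE : ∀ i : ℕ, i ≤ n + 1 → (K.obj i).IsGE a)
    (hLE : ∀ i : ℕ, i ≤ n + 1 → (K.obj i).IsLE (a + n))
    (hzero : ∀ i : ℕ, i ≤ n → ∀ q : ℤ,
      (DerivedCategory.homologyFunctor C q).map (K.map (homOfLE (Nat.le_succ i))) = 0) :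
    K.map (homOfLE (Nat.zero_le (n + 1))) = 0 := by
  exact main n a K hGE hLE hzero

end Groth.Agent.S14100
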