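import Groth.Statements.S3709
import Groth.Agent.Lib.Helper28.EtDescent

set_option autoImplicit false
universe u
open SGA1

open CategoryTheory CategoryTheory.Limits AlgebraicGeometry MorphismProperty Groth.Agent.Lib.Helper28

namespace Groth.Agent.S3709

open AlgebraicGeometry CategoryTheory CategoryTheory.Limits in
/-- A universally submersive morphism is a descent morphism for etale schemes (exactness of Hom_S(X, Y)
-> Hom_S'(X', Y') => Hom_S''(X'', Y'')): let g : S' -> S be universally submersive, X and Y schemes
over S with Y etale over S, X' and Y' their base changes along g, and f' : X' -> Y' an S'-morphism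
whose two pullbacks to S'' = S' x_S S' coincide (equivalently: the two composites X'' -> X' -> Y' ->
Y along the two projections agree). Then there is exactly one S-morphism u : X -> Y whose base
change is f'. -/
theorem result {S S' X Y : Scheme.{u}} (g : S' ⟶ S) (hg : SGA1.UnivSubmersive g)
    (p : X ⟶ S) (q : Y ⟶ S) [Etale q]
    (f' : pullback p g ⟶ pullback q g) (hf' : f' ≫ pullback.snd q g = pullback.snd p g)
    (hcoc : pullback.map p (pullback.fst g g ≫ g) p g (𝟙 X) (pullback.fst g g) (𝟙 S)
        ((Category.comp_id _).trans (Category.id_comp _).symm) (Category.comp_id _) ≫ f' ≫ pullback.fst q g =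
      pullback.map p (pullback.fst g g ≫ g) p g (𝟙 X) (pullback.snd g g) (𝟙 S)
        ((Category.comp_id _).trans (Category.id_comp _).symm) ((Category.comp_id _).trans pullback.condition) ≫
        f' ≫ pullback.fst q g) :
    ∃! u : X ⟶ Y, u ≫ q = p ∧ f' ≫ pullback.fst q g = pullback.fst p g ≫ u := by
  classical
  have hπ : SGA1.UnivSubmersive (pullback.fst p g) :=
    MorphismProperty.pullback_fst (P := SGA1.UnivSubmersive.{u}) p g hg
  haveI : Surjective (pullback.fst p g) :=
    ⟨(SubmDescent.isQuotientMap_of_univSubmersive hπ).surjective⟩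
  have hc0 : pullback.fst p g ≫ p = (f' ≫ pullback.fst q g) ≫ q := by
    rw [Category.assoc, pullback.condition (f := q), ← Category.assoc, hf', pullback.condition]
  let φ : pullback p g ⟶ pullback p q := pullback.lift (pullback.fst p g) (f' ≫ pullback.fst q g) hc0
  have hφ : φ ≫ pullback.fst p q = pullback.fst p g := pullback.lift_fst _ _ _
  have hφ2 : φ ≫ pullback.snd p q = f' ≫ pullback.fst q g := pullback.lift_snd _ _ _
  -- the comparison map to the frozen cocycle
  have hc1 : (pullback.fst (pullback.fst p g) (pullback.fst p g) ≫ pullback.snd p g) ≫ g =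
      (pullback.snd (pullback.fst p g) (pullback.fst p g) ≫ pullback.snd p g) ≫ g := by
    rw [Category.assoc, Category.assoc, ← pullback.condition (f := p), ← Category.assoc,
      pullback.condition, Category.assoc]
  have hc2 : (pullback.fst (pullback.fst p g) (pullback.fst p g) ≫ pullback.fst p g) ≫ p =
      pullback.lift _ _ hc1 ≫ pullback.fst g g ≫ g := by
    rw [pullback.lift_fst_assoc, Category.assoc, Category.assoc, pullback.condition]
  let θ : pullback (pullback.fst p g) (pullback.fst p g) ⟶ pullback p (pullback.fst g g ≫ g) :=
    pullback.lift _ _ hc2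
  have hθ1 : θ ≫ pullback.map p (pullback.fst g g ≫ g) p g (𝟙 X) (pullback.fst g g) (𝟙 S)
        ((Category.comp_id _).trans (Category.id_comp _).symm) (Category.comp_id _) =
      pullback.fst (pullback.fst p g) (pullback.fst p g) := by
    apply pullback.hom_ext
    · simp only [θ, Category.assoc, pullback.lift_fst, pullback.lift_fst_assoc, Category.comp_id]
    · simp only [θ, Category.assoc, pullback.lift_snd, pullback.lift_snd_assoc, pullback.lift_fst]
  have hθ2 : θ ≫ pullback.map p (pullback.fst g g ≫ g) p g (𝟙 X) (pullback.snd g g) (𝟙 S)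
        ((Category.comp_id _).trans (Category.id_comp _).symm)
        ((Category.comp_id _).trans pullback.condition) =
      pullback.snd (pullback.fst p g) (pullback.fst p g) := by
    apply pullback.hom_ext
    · simp only [θ, Category.assoc, pullback.lift_fst, pullback.lift_fst_assoc, Category.comp_id]
      exact pullback.condition
    · simp only [θ, Category.assoc, pullback.lift_snd, pullback.lift_snd_assoc]
  have hcocφ : pullback.fst (pullback.fst p g) (pullback.fst p g) ≫ φ =
      pullback.snd (pullback.fst p g) (pullback.fst p g) ≫ φ := by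
    apply pullback.hom_ext
    · rw [Category.assoc, Category.assoc, hφ]; exact pullback.condition
    · rw [Category.assoc, Category.assoc, hφ2, ← hθ1, ← hθ2, Category.assoc, Category.assoc, hcoc]
  obtain ⟨σ, hσ1, hσ2⟩ := EtDescent.exists_section (pullback.fst p g) (pullback.fst p q) φ hφ hcocφ hπ
  refine ⟨σ ≫ pullback.snd p q, ⟨?_, ?_⟩, ?_⟩
  · rw [Category.assoc, ← pullback.condition, ← Category.assoc, hσ1, Category.id_comp]
  · rw [← Category.assoc, hσ2, hφ2]
  · rintro u ⟨hu1, hu2⟩
    refine EtDescent.eq_of_surjective_comp_eq q (pullback.fst p g) _ _ ?_ ?_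
    · rw [hu1, Category.assoc, ← pullback.condition, ← Category.assoc, hσ1, Category.id_comp]
    · rw [← hu2, ← Category.assoc, hσ2, hφ2]

end Groth.Agent.S3709
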