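import Groth.Statements.S17540
import Groth.Agent.Lib.Helper9.Decaying2
import Mathlib.LinearAlgebra.Finsupp.LinearCombination

set_option autoImplicit false
universe u v w
open W4c5adicflatcompl
open CAlg

namespace Groth.Agent.S17540

/-- Let A be I-adically complete, M an I-adically complete A-module and m : Z → M a family. The images
of the m z generate M/IM (the span of the family together with IM is all of M) if and only if the
family I-adically generates M: every x in M is the I-adically convergent sum of g z • m z for some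
I-adically decaying function g : Z → A. -/
theorem result {A : Type u} [CommRing A] (I : Ideal A) [IsAdicComplete I A]
    (M : Type v) [AddCommGroup M] [Module A M] [IsAdicComplete I M] (Z : Type w) (m : Z → M) :
    Submodule.span A (Set.range m) ⊔ I • ⊤ = ⊤ ↔
      ∀ x : M, ∃ g : Z → A, g ∈ decaying I Z A ∧
        ∀ n : ℕ, ∃ S : Finset Z,
          (∀ z, z ∉ S → g z • m z ∈ (I ^ n • ⊤ : Submodule A M)) ∧
          x - (∑ z ∈ S, g z • m z) ∈ (I ^ n • ⊤ : Submodule A M) := by
  classical
  have htop : ∀ k : ℕ, (I ^ k • ⊤ : Submodule A A) = I ^ k := fun k => by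
    rw [smul_eq_mul, Ideal.mul_top]
  constructor
  · -- topological Nakayama
    intro hspan x
    -- one approximation step
    have step : ∀ (k : ℕ) (y : M), y ∈ (I ^ k • ⊤ : Submodule A M) →
        ∃ a : Z →₀ A, (∀ z, a z ∈ I ^ k) ∧
          y - Finsupp.linearCombination A m a ∈ (I ^ (k + 1) • ⊤ : Submodule A M) := by
      intro k y hy
      rw [← hspan, Submodule.smul_sup, ← mul_smul, ← pow_succ] at hy
      obtain ⟨y1, hy1, y2, hy2, rfl⟩ := Submodule.mem_sup.mp hy
      obtain ⟨a, ha, hsum⟩ := (Submodule.mem_ideal_smul_span_iff_exists_sum (I ^ k) m y1).mp hy1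
      refine ⟨a, ha, ?_⟩
      rw [Finsupp.linearCombination_apply, hsum, add_sub_cancel_left]
      exact hy2
    choose a ha1 ha2 using step
    -- the sequence of remainders
    let seq : ∀ k : ℕ, {y : M // y ∈ (I ^ k • ⊤ : Submodule A M)} := fun k =>
      Nat.rec (motive := fun k => {y : M // y ∈ (I ^ k • ⊤ : Submodule A M)})
        ⟨x, by simp⟩
        (fun k y => ⟨y.1 - Finsupp.linearCombination A m (a k y.1 y.2), ha2 k y.1 y.2⟩) k
    let c : ℕ → (Z →₀ A) := fun k => a k (seq k).1 (seq k).2
    have hseq_succ : ∀ k, (seq (k + 1)).1 =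
        (seq k).1 - Finsupp.linearCombination A m (c k) := fun k => rfl
    have hseq_zero : (seq 0).1 = x := rfl
    have hc : ∀ k z, c k z ∈ I ^ k := fun k z => ha1 k _ _ z
    let b : ℕ → (Z →₀ A) := fun n => ∑ k ∈ Finset.range n, c k
    have hb : ∀ n, x - Finsupp.linearCombination A m (b n) = (seq n).1 := by
      intro n
      induction n with
      | zero => simp [b, hseq_zero]
      | succ n ih =>
        rw [hseq_succ, ← ih]
        simp only [b, Finset.sum_range_succ, map_add]
        abel
    have hcauchy : ∀ z {n n' : ℕ}, n ≤ n' → b n z ≡ b n' z [SMOD (I ^ n • ⊤ : Submodule A A)] := by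
      intro z n n' hnn'
      rw [SModEq.sub_mem, htop]
      have : b n z - b n' z = -∑ k ∈ Finset.Ico n n', c k z := by
        simp only [b, Finsupp.coe_finsetSum, Finset.sum_apply]
        rw [← Finset.sum_range_add_sum_Ico _ hnn']
        abel
      rw [this]
      refine Ideal.neg_mem_iff _ |>.mpr (Ideal.sum_mem _ fun k hk => ?_)
      exact Ideal.pow_le_pow_right (Finset.mem_Ico.mp hk).1 (hc k z)
    have hlim : ∀ z, ∃ L : A, ∀ n, b n z ≡ L [SMOD (I ^ n • ⊤ : Submodule A A)] := fun z =>
      IsPrecomplete.prec (IsAdicComplete.toIsPrecomplete (I := I) (M := A)) (hcauchy z)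
    choose g hg using hlim
    have hg' : ∀ z n, g z - b n z ∈ I ^ n := by
      intro z n
      have := (hg z n).symm
      rwa [SModEq.sub_mem, htop] at this
    have hgout : ∀ n z, z ∉ (b n).support → g z ∈ I ^ n := by
      intro n z hz
      have h0 : b n z = 0 := Finsupp.notMem_support_iff.mp hz
      have := hg' z n
      rwa [h0, sub_zero] at this
    refine ⟨g, ?_, fun n => ⟨(b n).support, fun z hz => ?_, ?_⟩⟩
    · intro n
      refine (b n).support.finite_toSet.subset ?_
      intro z hz
      by_contra hzs
      apply hz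
      rw [htop]
      exact hgout n z hzs
    · exact Submodule.smul_mem_smul (hgout n z hz) Submodule.mem_top
    · have heq : x - ∑ z ∈ (b n).support, g z • m z =
          (seq n).1 - ∑ z ∈ (b n).support, (g z - b n z) • m z := by
        rw [← hb n, Finsupp.linearCombination_apply, Finsupp.sum]
        simp only [sub_smul, Finset.sum_sub_distrib]
        abel
      rw [heq]
      refine Submodule.sub_mem _ (seq n).2 (Submodule.sum_mem _ fun z _ => ?_)
      exact Submodule.smul_mem_smul (hg' z n) Submodule.mem_top
  · intro h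
    rw [eq_top_iff]
    intro x _
    obtain ⟨g, -, hg⟩ := h x
    obtain ⟨S, -, hS⟩ := hg 1
    rw [pow_one] at hS
    have : x = ∑ z ∈ S, g z • m z + (x - ∑ z ∈ S, g z • m z) := by abel
    rw [this]
    refine Submodule.add_mem_sup (Submodule.sum_mem _ fun z _ => ?_) hS
    exact Submodule.smul_mem _ _ (Submodule.subset_span (Set.mem_range_self z))

end Groth.Agent.S17540
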