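import Groth.Statements.S13802
import Groth.Agent.Lib.Helper9.EtaPt2
import Mathlib.RingTheory.Ideal.MinimalPrime.Basic

set_option autoImplicit false
universe u
open EtaPt

namespace Groth.Agent.S13802

open Groth.Agent.Lib.Helper9.EtaPt

/-- For a commutative ring A with finitely many minimal prime ideals, the canonical map q_A from A to
the pointwise ring M_η(A) is integral. Here η is a natural transformation from the identity of the
category of fields to an endofunctor F with F(η_K) bijective and η_K purely inseparable for every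
field K, N_η(A) is the product of the F(k(p)) over the primes p of A with diagonal map t_A, and
M_η(A) ⊆ N_η(A) is the subring of elements sent into the range of t_R by every ring map from A to a
valuation ring R at whose fraction field η is bijective; q_A : A → M_η(A) is the corestriction of
t_A. -/
theorem result (η : EtaPt.FieldEndo.{u}) (A : Type u) [CommRing A]
    (hA : (minimalPrimes A).Finite) : (η.q A).IsIntegral := by
  classical
  rintro ⟨x, hx⟩
  have key : ∀ I : Ideal A, ∃ P : Polynomial A, P.Monic ∧ (I ∈ minimalPrimes A →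
      ∀ p : PrimeSpectrum A, I ≤ p.asIdeal → Polynomial.eval₂ (iotaAt η p) (x p) P = 0) := by
    intro I
    by_cases hI : I ∈ minimalPrimes A
    · have hIp : I.IsPrime := hI.1.1
      obtain ⟨P, hPm, hP⟩ := exists_monic_eval₂_iotaAt η ⟨I, hIp⟩ x hx
      exact ⟨P, hPm, fun _ p hle => eval₂_iotaAt_eq_zero_of_le η ⟨I, hIp⟩ p hle x hx P hP⟩
    · exact ⟨1, Polynomial.monic_one, fun h => absurd h hI⟩
  choose Pf hPm hPf using key
  refine ⟨∏ I ∈ hA.toFinset, Pf I, Polynomial.monic_prod_of_monic _ _ (fun I _ => hPm I), ?_⟩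
  apply Subtype.ext
  have h1 := Polynomial.hom_eval₂ (∏ I ∈ hA.toFinset, Pf I) (η.q A) (η.M A).subtype ⟨x, hx⟩
  change (η.M A).subtype _ = 0
  rw [h1]
  funext p
  have h2 := Polynomial.hom_eval₂ (∏ I ∈ hA.toFinset, Pf I) ((η.M A).subtype.comp (η.q A))
    (Pi.evalRingHom (fun p : PrimeSpectrum A => η.obj p.asIdeal.ResidueField) p) x
  change Pi.evalRingHom (fun p : PrimeSpectrum A => η.obj p.asIdeal.ResidueField) p _ = 0
  refine Eq.trans h2 ?_
  have hc : (Pi.evalRingHom (fun p : PrimeSpectrum A => η.obj p.asIdeal.ResidueField) p).comp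
      ((η.M A).subtype.comp (η.q A)) = iotaAt η p := rfl
  rw [hc]
  change Polynomial.eval₂ (iotaAt η p) (x p) _ = 0
  rw [Polynomial.eval₂_finsetProd]
  obtain ⟨I, hI, hIle⟩ := Ideal.exists_minimalPrimes_le (J := p.asIdeal) bot_le
  exact Finset.prod_eq_zero (hA.mem_toFinset.mpr hI) (hPf I hI p hIle)

end Groth.Agent.S13802
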