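import Groth.Statements.S13808
import Groth.Agent.Lib.Helper9.EtaPt

set_option autoImplicit false
universe u
open EtaPt

namespace Groth.Agent.S13808

open Groth.Agent.Lib.Helper9.EtaPt in
theorem eq_zero_of_generic (η : EtaPt.FieldEndo.{u}) (A : Type u) [CommRing A] [IsDomain A]
    (hA : η.InV A) (x : η.N A) (hx : x ∈ η.M A) (h0 : x ⟨⊥, Ideal.isPrime_bot⟩ = 0) : x = 0 := by
  funext p
  obtain ⟨V, g, hg1, hg2⟩ := exists_valuationSubring_dominating A p.asIdeal
  have hV : η.InV V := inV_of_isFractionRing η V (FractionRing A) hA
  obtain ⟨v, hv⟩ := hx V hV g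
  have hbot : (⊥ : Ideal A) = Ideal.comap g (⊥ : Ideal V) := by
    ext a
    rw [Ideal.mem_comap, Ideal.mem_bot, Ideal.mem_bot]
    constructor
    · rintro rfl
      exact map_zero g
    · intro h
      apply IsFractionRing.injective A (FractionRing A)
      rw [← hg1, h, map_zero]
      rfl
  have h1 := congrFun hv ⟨⊥, Ideal.isPrime_bot⟩
  rw [t_apply, Nmap_apply η g x ⟨⊥, Ideal.isPrime_bot⟩ ⟨⊥, Ideal.isPrime_bot⟩ hbot, h0,
    map_zero] at h1
  have h1' := eta_injective η _ (h1.trans (map_zero _).symm)
  rw [Ideal.algebraMap_residueField_eq_zero] at h1'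
  have hv0 : v = 0 := h1'
  subst hv0
  have h2 := congrFun hv ⟨IsLocalRing.maximalIdeal V, inferInstance⟩
  rw [t_apply, map_zero, map_zero, Nmap_apply η g x _ p hg2.symm] at h2
  exact map_injective η _ (h2.symm.trans (map_zero _).symm)

/-- For an integral domain A such that η is bijective at the fraction field of A, the projection of
N_η(A) onto its factor F(k((0))) at the generic point is injective on M_η(A). Here η is a natural
transformation from the identity of the category of fields to an endofunctor F with F(η_K) bijective
and η_K purely inseparable for every field K, N_η(A) is the product of the F(k(p)) over the primes p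
of A with diagonal map t_A, and M_η(A) ⊆ N_η(A) is the subring of elements sent into the range of
t_R by every ring map from A to a valuation ring R at whose fraction field η is bijective; q_A : A →
M_η(A) is the corestriction of t_A. -/
theorem result (η : EtaPt.FieldEndo.{u}) (A : Type u) [CommRing A] [IsDomain A] (hA : η.InV A) :
    Set.InjOn (fun x : η.N A => x ⟨⊥, Ideal.isPrime_bot⟩) (η.M A) := by
  intro x hx x' hx' h
  have := eq_zero_of_generic η A hA (x - x') (Subring.sub_mem _ hx hx') (by
    change x ⟨⊥, Ideal.isPrime_bot⟩ - x' ⟨⊥, Ideal.isPrime_bot⟩ = 0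
    exact sub_eq_zero.mpr h)
  exact sub_eq_zero.mp this

end Groth.Agent.S13808
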