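import Groth.Statements.S13809
import Groth.Agent.Lib.Helper9.EtaPt
import Groth.Agent.S13808

set_option autoImplicit false
universe u
open EtaPt

namespace Groth.Agent.S13809

open Groth.Agent.Lib.Helper9.EtaPt

/-- For an integrally closed domain A such that η is bijective at the fraction field of A, the map q_A :
A → M_η(A) is bijective. Here η is a natural transformation from the identity of the category of
fields to an endofunctor F with F(η_K) bijective and η_K purely inseparable for every field K,
N_η(A) is the product of the F(k(p)) over the primes p of A with diagonal map t_A, and M_η(A) ⊆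
N_η(A) is the subring of elements sent into the range of t_R by every ring map from A to a valuation
ring R at whose fraction field η is bijective; q_A : A → M_η(A) is the corestriction of t_A. -/
theorem result (η : EtaPt.FieldEndo.{u}) (A : Type u) [CommRing A] [IsDomain A] [IsIntegrallyClosed A]
    (hA : η.InV A) : Function.Bijective (η.q A) := by
  let gen : PrimeSpectrum A := ⟨⊥, Ideal.isPrime_bot⟩
  have hK : Function.Bijective (η.eta gen.asIdeal.ResidueField) := bijective_eta_of_inV η A _ hA
  constructor
  · intro a a' h
    have h1 : η.t A a = η.t A a' := congrArg Subtype.val h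
    have h2 := congrFun h1 gen
    rw [t_apply, t_apply] at h2
    exact IsFractionRing.injective A gen.asIdeal.ResidueField (eta_injective η _ h2)
  · rintro ⟨x, hx⟩
    obtain ⟨y, hy⟩ := hK.2 (x gen)
    have hyA : y ∈ (algebraMap A gen.asIdeal.ResidueField).range := by
      by_contra hy'
      have := isIntegrallyClosedIn_range A gen.asIdeal.ResidueField
      obtain ⟨V, hle, hyV⟩ := Subring.exists_le_valuationSubring_of_isIntegrallyClosedIn hy'
      apply hyV
      let g : A →+* V := (algebraMap A gen.asIdeal.ResidueField).codRestrict V.toSubring
        (fun a => hle ⟨a, rfl⟩)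
      have hV : η.InV V := inV_of_isFractionRing η V gen.asIdeal.ResidueField hK
      obtain ⟨v, hv⟩ := hx V hV g
      have hbot : (⊥ : Ideal A) = Ideal.comap g (⊥ : Ideal V) := by
        ext a
        rw [Ideal.mem_comap, Ideal.mem_bot, Ideal.mem_bot]
        constructor
        · rintro rfl
          exact map_zero g
        · intro h
          apply IsFractionRing.injective A gen.asIdeal.ResidueField
          rw [map_zero]
          exact congrArg Subtype.val h
      have h1 := congrFun hv ⟨⊥, Ideal.isPrime_bot⟩
      rw [t_apply, Nmap_apply η g x ⟨⊥, Ideal.isPrime_bot⟩ gen hbot, ← hy, map_eta] at h1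
      have h2 := eta_injective η _ h1
      obtain ⟨a, b, hb, hab⟩ := IsFractionRing.div_surjective (A := A) y
      have hb0 : algebraMap A gen.asIdeal.ResidueField b ≠ 0 := by
        intro h0
        have : b = 0 := IsFractionRing.injective A gen.asIdeal.ResidueField (by rw [h0, map_zero])
        exact nonZeroDivisors.ne_zero hb this
      have hab' : y * algebraMap A gen.asIdeal.ResidueField b =
          algebraMap A gen.asIdeal.ResidueField a := by
        rw [← hab, div_mul_cancel₀ _ hb0]
      have h3 := congrArg (Ideal.ResidueField.map gen.asIdeal (⊥ : Ideal V) g hbot) hab'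
      rw [map_mul, Ideal.ResidueField.map_algebraMap, Ideal.ResidueField.map_algebraMap, ← h2,
        ← map_mul] at h3
      have h4 := IsFractionRing.injective V (⊥ : Ideal V).ResidueField h3
      have h5 : (v : gen.asIdeal.ResidueField) * algebraMap A gen.asIdeal.ResidueField b =
          algebraMap A gen.asIdeal.ResidueField a := congrArg Subtype.val h4
      have h6 : (v : gen.asIdeal.ResidueField) = y := mul_right_cancel₀ hb0 (h5.trans hab'.symm)
      rw [← h6]
      exact v.2
    obtain ⟨a, ha⟩ := hyA
    refine ⟨a, Subtype.ext ?_⟩
    apply Groth.Agent.S13808.result η A hA (η.t_mem_M A a) hx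
    change η.t A a gen = x gen
    rw [t_apply, ha, hy]

end Groth.Agent.S13809
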