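import Groth.Statements.S13824
import Groth.Agent.Lib.Helper9.EtaPt
import Mathlib.RingTheory.SurjectiveOnStalks
import Mathlib.RingTheory.Spectrum.Prime.Topology

set_option autoImplicit false
universe u
open EtaPt

namespace Groth.Agent.S13824

open Groth.Agent.Lib.Helper9.EtaPt

/-- For a commutative ring A and f ∈ A, N_η(A)[1/t_A(f)] → N_η(A_f) is bijective: every element of
N_η(A_f) times a power of the image of f comes from N_η(A), and an element of N_η(A) dies in
N_η(A_f) only if a power of t_A(f) kills it. Here η is a natural transformation from the identity of
the category of fields to an endofunctor F with F(η_K) bijective and η_K purely inseparable for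
every field K, N_η(A) is the product of the F(k(p)) over the primes p of A with diagonal map t_A,
and M_η(A) ⊆ N_η(A) is the subring of elements sent into the range of t_R by every ring map from A
to a valuation ring R at whose fraction field η is bijective; q_A : A → M_η(A) is the corestriction
of t_A. -/
theorem result (η : EtaPt.FieldEndo.{u}) (A : Type u) [CommRing A] (f : A) :
    (∀ y : η.N (Localization.Away f), ∃ (x : η.N A) (n : ℕ),
        y * η.t (Localization.Away f) (algebraMap A (Localization.Away f) f) ^ n =
          η.Nmap (algebraMap A (Localization.Away f)) x) ∧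
      ∀ x : η.N A, η.Nmap (algebraMap A (Localization.Away f)) x = 0 → ∃ n : ℕ, η.t A f ^ n * x = 0 := by
  classical
  constructor
  · intro y
    have key : ∀ p : PrimeSpectrum A, ∃ z : η.obj p.asIdeal.ResidueField,
        ∀ (q : PrimeSpectrum (Localization.Away f))
          (hq : p.asIdeal = Ideal.comap (algebraMap A (Localization.Away f)) q.asIdeal),
          η.map (Ideal.ResidueField.map p.asIdeal q.asIdeal _ hq) z = y q := by
      intro p
      by_cases hex : ∃ q₀ : PrimeSpectrum (Localization.Away f),
          p.asIdeal = Ideal.comap (algebraMap A (Localization.Away f)) q₀.asIdeal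
      · obtain ⟨q₀, h₀⟩ := hex
        have hbij := bijective_map_of_bijective η _
          ((RingHom.surjectiveOnStalks_of_isLocalization (Submonoid.powers f)
            (Localization.Away f)).residueFieldMap_bijective p.asIdeal q₀.asIdeal h₀)
        obtain ⟨z, hz⟩ := hbij.2 (y q₀)
        refine ⟨z, fun q hq => ?_⟩
        have : q = q₀ := by
          apply PrimeSpectrum.localization_comap_injective (Localization.Away f)
            (Submonoid.powers f)
          exact PrimeSpectrum.ext (hq.symm.trans h₀)
        subst this
        exact hz
      · exact ⟨0, fun q hq => absurd ⟨q, hq⟩ hex⟩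
    choose x hx using key
    refine ⟨x, 0, ?_⟩
    rw [pow_zero, mul_one]
    funext q
    rw [Nmap_apply η _ x q (PrimeSpectrum.comap (algebraMap A (Localization.Away f)) q) rfl]
    exact (hx _ q rfl).symm
  · intro x hx
    refine ⟨1, ?_⟩
    rw [pow_one]
    funext p
    change η.t A f p * x p = 0
    by_cases hfp : f ∈ p.asIdeal
    · rw [t_apply, (Ideal.algebraMap_residueField_eq_zero).mpr hfp, map_zero, zero_mul]
    · have hp : p ∈ Set.range (PrimeSpectrum.comap (algebraMap A (Localization.Away f))) := by
        rw [PrimeSpectrum.localization_away_comap_range (Localization.Away f) f]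
        exact hfp
      obtain ⟨q, rfl⟩ := hp
      have h1 := congrFun hx q
      rw [Nmap_apply η _ x q (PrimeSpectrum.comap (algebraMap A (Localization.Away f)) q) rfl] at h1
      have h2 : x (PrimeSpectrum.comap (algebraMap A (Localization.Away f)) q) = 0 :=
        map_injective η _ (h1.trans (map_zero _).symm)
      rw [h2, mul_zero]

end Groth.Agent.S13824
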