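import Groth.Statements.S13825
import Groth.Agent.Lib.Helper9.EtaPt2
import Groth.Agent.S13802
import Groth.Agent.S13824
import Mathlib.RingTheory.Ideal.MinimalPrime.Localization
import Mathlib.RingTheory.Localization.Integral

set_option autoImplicit false
universe u
open EtaPt

namespace Groth.Agent.S13825

open Groth.Agent.Lib.Helper9.EtaPt

theorem finite_minimalPrimes_away (A : Type u) [CommRing A] (hA : (minimalPrimes A).Finite) (f : A) :
    (minimalPrimes (Localization.Away f)).Finite := by
  have h := IsLocalization.minimalPrimes_map (Submonoid.powers f) (Localization.Away f)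
    (⊥ : Ideal A)
  rw [Ideal.map_bot] at h
  change minimalPrimes (Localization.Away f) = _ at h
  rw [h]
  apply Set.Finite.preimage _ hA
  intro I _ J _ hIJ
  rw [← IsLocalization.map_under (Submonoid.powers f) (Localization.Away f) I,
    ← IsLocalization.map_under (Submonoid.powers f) _ J]
  exact congrArg _ hIJ

theorem mem_M_of_away (η : EtaPt.FieldEndo.{u}) (A : Type u) [CommRing A] (f : A) (x₂ : η.N A)
    (hy₃ : η.Nmap (algebraMap A (Localization.Away f)) x₂ ∈ η.M (Localization.Away f))
    (P' : Polynomial A) (hP'm : P'.Monic)
    (hP' : Polynomial.eval₂ ((η.t (Localization.Away f)).comp (algebraMap A (Localization.Away f)))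
      (η.Nmap (algebraMap A (Localization.Away f)) x₂) P' = 0) :
    η.t A f * x₂ ∈ η.M A := by
  intro R _ _ _ hR g
  by_cases hgf : g f = 0
  · refine ⟨0, ?_⟩
    rw [map_mul, η.Nmap_t_apply, hgf, map_zero, zero_mul]
  · haveI := isDomain_away R (g f) hgf
    haveI : ValuationRing (Localization.Away (g f)) :=
      { toPreValuationRing := preValuationRing_away R (g f) }
    have hInV := inV_away η R hR (g f) hgf
    let g' : Localization.Away f →+* Localization.Away (g f) := Localization.awayMap g f
    have hsq : g'.comp (algebraMap A (Localization.Away f)) =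
        (algebraMap R (Localization.Away (g f))).comp g := IsLocalization.map_comp _
    obtain ⟨v', hv'⟩ := hy₃ (Localization.Away (g f)) hInV g'
    -- v' is integral over R
    have hint : Polynomial.eval₂ ((algebraMap R (Localization.Away (g f))).comp g) v' P' = 0 := by
      apply t_injective_of_isDomain η (Localization.Away (g f))
      rw [map_zero, Polynomial.hom_eval₂, hv']
      have h1 := congrArg (η.Nmap g') hP'
      rw [map_zero, Polynomial.hom_eval₂] at h1
      have hc : (η.Nmap g').comp ((η.t (Localization.Away f)).comp
          (algebraMap A (Localization.Away f))) =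
          (η.t (Localization.Away (g f))).comp ((algebraMap R (Localization.Away (g f))).comp g) := by
        rw [← hsq]
        ext a : 1
        simp only [RingHom.comp_apply]
        rw [η.Nmap_t_apply]
      rw [hc] at h1
      exact h1
    obtain ⟨r₁, hr₁⟩ := exists_of_isIntegral_away R (g f) hgf v' (P'.map g) (hP'm.map g)
      (by rw [Polynomial.eval₂_map]; exact hint)
    refine ⟨g f * r₁, ?_⟩
    symm
    apply eq_t_of_away η (g f) r₁
    · intro 𝔮 h𝔮
      rw [map_mul, η.Nmap_t_apply]
      change η.t R (g f) 𝔮 * _ = 0
      rw [t_apply, (Ideal.algebraMap_residueField_eq_zero).mpr h𝔮, map_zero, zero_mul]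
    · rw [← Nmap_comp, ← hsq, Nmap_comp, map_mul, map_mul, η.Nmap_t_apply, η.Nmap_t_apply,
        ← hv', map_mul, map_mul, hr₁]
      congr 2
      exact congrArg (fun φ => φ f) (congrArg DFunLike.coe hsq)

theorem partA (η : EtaPt.FieldEndo.{u}) (A : Type u) [CommRing A] (hA : (minimalPrimes A).Finite)
    (f : A) (y : η.N (Localization.Away f)) (hy : y ∈ η.M (Localization.Away f)) :
    ∃ x ∈ η.M A, ∃ n : ℕ,
        y * η.t (Localization.Away f) (algebraMap A (Localization.Away f) f) ^ n =
          η.Nmap (algebraMap A (Localization.Away f)) x := by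
  obtain ⟨x₀, n₀, hx₀⟩ := (Groth.Agent.S13824.result η A f).1 y
  have hAf := finite_minimalPrimes_away A hA f
  obtain ⟨P, hPm, hP⟩ := Groth.Agent.S13802.result η (Localization.Away f) hAf ⟨y, hy⟩
  have hP1 : Polynomial.eval₂ (η.t (Localization.Away f)) y P = 0 := by
    have := congrArg (η.M (Localization.Away f)).subtype hP
    rw [Polynomial.hom_eval₂, map_zero] at this
    exact this
  letI : Algebra (Localization.Away f) (η.N (Localization.Away f)) :=
    (η.t (Localization.Away f)).toAlgebra
  letI : Algebra A (η.N (Localization.Away f)) :=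
    ((η.t (Localization.Away f)).comp (algebraMap A (Localization.Away f))).toAlgebra
  haveI : IsScalarTower A (Localization.Away f) (η.N (Localization.Away f)) :=
    IsScalarTower.of_algebraMap_eq (fun _ => rfl)
  have hyint : IsIntegral (Localization.Away f) y := ⟨P, hPm, hP1⟩
  obtain ⟨⟨m, k, rfl⟩, hm⟩ := IsIntegral.exists_multiple_integral_of_isLocalization
    (M := Submonoid.powers f) (Rₘ := Localization.Away f) y hyint
  have e : (⟨(fun x => f ^ x) k, ⟨k, rfl⟩⟩ : Submonoid.powers f) • y =
      η.t (Localization.Away f) (algebraMap A (Localization.Away f) f) ^ k * y := by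
    rw [Submonoid.smul_def, Algebra.smul_def]
    change η.t (Localization.Away f) (algebraMap A (Localization.Away f) (f ^ k)) * y = _
    rw [map_pow, map_pow]
  rw [e] at hm
  have hint2 : IsIntegral A (η.Nmap (algebraMap A (Localization.Away f)) (η.t A f ^ k * x₀)) := by
    rw [map_mul, map_pow, η.Nmap_t_apply, ← hx₀, ← mul_assoc]
    refine hm.mul ?_
    have : η.t (Localization.Away f) (algebraMap A (Localization.Away f) f) ^ n₀ =
        algebraMap A (η.N (Localization.Away f)) (f ^ n₀) := by
      rw [map_pow]
      rfl
    rw [this]
    exact isIntegral_algebraMap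
  obtain ⟨P', hP'm, hP'⟩ := hint2
  have hmem : η.Nmap (algebraMap A (Localization.Away f)) (η.t A f ^ k * x₀) ∈
      η.M (Localization.Away f) := by
    rw [map_mul, map_pow, η.Nmap_t_apply, ← hx₀]
    exact Subring.mul_mem _ (Subring.pow_mem _ (η.t_mem_M _ _) _)
      (Subring.mul_mem _ hy (Subring.pow_mem _ (η.t_mem_M _ _) _))
  refine ⟨η.t A f * (η.t A f ^ k * x₀), mem_M_of_away η A f _ hmem P' hP'm hP', k + n₀ + 1, ?_⟩
  rw [map_mul, map_mul, map_pow, η.Nmap_t_apply, ← hx₀]
  ring

/-- For a commutative ring A with finitely many minimal prime ideals and f ∈ A, M_η(A)[1/f] → M_η(A_f)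
is bijective: every element of M_η(A_f) times a power of the image of f is the image of an element
of M_η(A), and an element of M_η(A) with zero image in N_η(A_f) is killed by a power of t_A(f). Here
η is a natural transformation from the identity of the category of fields to an endofunctor F with
F(η_K) bijective and η_K purely inseparable for every field K, N_η(A) is the product of the F(k(p))
over the primes p of A with diagonal map t_A, and M_η(A) ⊆ N_η(A) is the subring of elements sent
into the range of t_R by every ring map from A to a valuation ring R at whose fraction field η is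
bijective; q_A : A → M_η(A) is the corestriction of t_A. -/
theorem result (η : EtaPt.FieldEndo.{u}) (A : Type u) [CommRing A] (hA : (minimalPrimes A).Finite) (f : A) :
    (∀ y ∈ η.M (Localization.Away f), ∃ x ∈ η.M A, ∃ n : ℕ,
        y * η.t (Localization.Away f) (algebraMap A (Localization.Away f) f) ^ n =
          η.Nmap (algebraMap A (Localization.Away f)) x) ∧
      ∀ x ∈ η.M A, η.Nmap (algebraMap A (Localization.Away f)) x = 0 → ∃ n : ℕ, η.t A f ^ n * x = 0 := by
  constructor
  · intro y hy
    exact partA η A hA f y hy
  · intro x _ hx0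
    exact (Groth.Agent.S13824.result η A f).2 x hx0

end Groth.Agent.S13825
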