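import Groth.Statements.S12073
import Groth.Agent.Lib.Helper13.LimModelCover
import Groth.Agent.Lib.Helper13.LimDescendEtale
import Groth.Agent.Lib.Helper13.LimDescendFinite

set_option autoImplicit false
universe u
open CategoryTheory CategoryTheory.Limits AlgebraicGeometry
open Pi1

namespace Groth.Agent.S12073

/-- Let X = lim X_i be the limit of a cofiltered system of quasi-compact quasi-separated schemes with
affine transition morphisms, given by a limit cone. Then: (1) every finite étale cover of X is
isomorphic, over X, to the base change of a finite étale cover of some X_i; (2) if two morphisms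
between finite étale covers of some X_i have the same base change to X, then they have the same base
change to some X_j with j → i. (Fullness — every morphism over X between base changes comes from
some stage — is part of the published statement and is not stated here; nor is the consequence on
fundamental groups.) -/
theorem result {I : Type u} [SmallCategory I] [IsCofiltered I]
    (D : I ⥤ Scheme.{u}) (c : Limits.Cone D) (hc : Limits.IsLimit c)
    [∀ (i j : I) (f : i ⟶ j), IsAffineHom (D.map f)] [∀ i, CompactSpace (D.obj i)]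
    [∀ i, QuasiSeparatedSpace (D.obj i)] :
    (∀ V : FEt.Cat c.pt, ∃ (i : I) (Vi : FEt.Cat (D.obj i)), Nonempty ((FEt.restrict (c.π.app i)).obj Vi ≅ V)) ∧
    (∀ (i : I) (Vi Wi : FEt.Cat (D.obj i)) (φ ψ : Vi ⟶ Wi),
      (FEt.restrict (c.π.app i)).map φ = (FEt.restrict (c.π.app i)).map ψ →
      ∃ (j : I) (a : j ⟶ i), (FEt.restrict (D.map a)).map φ = (FEt.restrict (D.map a)).map ψ) := by
  haveI : ∀ {i j : I} (f : i ⟶ j), IsAffineHom (D.map f) := fun f => inferInstance
  constructor
  · intro V
    have hV : FEt.prop V.hom := V.prop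
    haveI : IsFinite V.hom := hV.1
    haveI : Etale V.hom := hV.2
    obtain ⟨k, M, hM⟩ := Lib.Helper13.LimModel.exists_modelAt_prop D c hc FEt.prop
      (fun j₀ X₀ _ _ a _ h => by
        obtain ⟨j, ψ, h1, h2⟩ := Lib.Helper13.LimDescend.stage_common D @IsFinite @Etale j₀ a
          (Lib.Helper13.LimDescend.core_isFinite D c hc j₀ a h.1)
          (Lib.Helper13.LimDescend.core_etale D c hc j₀ a h.2)
        exact ⟨j, ψ, h1, h2⟩) V.hom hV
    exact ⟨k, MorphismProperty.Over.mk ⊤ M.h₀ hM,
      ⟨MorphismProperty.Over.isoMk M.pb.isoPullback.symm M.pb.isoPullback_inv_snd⟩⟩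
  · intro i Vi Wi φ ψ h
    have hVi : FEt.prop Vi.hom := Vi.prop
    have hWi : FEt.prop Wi.hom := Wi.prop
    let vi : Vi.left ⟶ D.obj i := Vi.hom
    let wi : Wi.left ⟶ D.obj i := Wi.hom
    haveI : IsFinite vi := hVi.1
    haveI : Etale wi := hWi.2
    have hφ : φ.left ≫ wi = vi := MorphismProperty.Over.w φ
    have hψ : ψ.left ≫ wi = vi := MorphismProperty.Over.w ψ
    haveI : CompactSpace Vi.left := QuasiCompact.compactSpace_of_compactSpace vi
    haveI : ∀ (j k : Over i) (φ : j ⟶ k),
        IsAffineHom ((Lib.Helper22.bcDiag D i vi).map φ) := fun _ _ φ => inferInstance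
    -- equality of the base changes to the limit
    have h0 : pullback.fst vi (c.π.app i) ≫ φ.left = pullback.fst vi (c.π.app i) ≫ ψ.left := by
      have h1 := congrArg (fun ξ => ξ.left) h
      simp only [FEt.restrict, MorphismProperty.Over.pullback_map_left] at h1
      have h2 := congrArg (fun ξ => ξ ≫ pullback.fst Wi.hom (c.π.app i)) h1
      simpa only [pullback.lift_fst] using h2
    let t : Lib.Helper22.bcDiag D i vi ⟶ (Functor.const (Over i)).obj (D.obj i) :=
      { app := fun j => pullback.snd (D.map j.hom) vi ≫ vi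
        naturality := fun j k f => by
          change (Lib.Helper22.bcDiag D i vi).map f ≫ pullback.snd (D.map k.hom) vi ≫ vi =
            (pullback.snd (D.map j.hom) vi ≫ vi) ≫ 𝟙 _
          rw [Category.comp_id, ← Category.assoc, Lib.Helper22.bcDiag_map_snd]
          rfl }
    let top : Over i := Over.mk (𝟙 i)
    let σ : pullback (D.map top.hom) vi ⟶ Vi.left := pullback.snd (D.map top.hom) vi
    let a : (Lib.Helper22.bcDiag D i vi).obj top ⟶ Wi.left := σ ≫ φ.left
    let b : (Lib.Helper22.bcDiag D i vi).obj top ⟶ Wi.left := σ ≫ ψ.left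
    have ha : t.app top = a ≫ wi := by
      change σ ≫ vi = (σ ≫ φ.left) ≫ wi
      rw [Category.assoc, hφ]
    have hb : t.app top = b ≫ wi := by
      change σ ≫ vi = (σ ≫ ψ.left) ≫ wi
      rw [Category.assoc, hψ]
    let πt : pullback (c.π.app i) vi ⟶ pullback (D.map top.hom) vi :=
      (Lib.Helper22.bcCone D c i vi).π.app top
    have hπt : πt ≫ σ = pullback.snd (c.π.app i) vi := Lib.Helper22.bcCone_π_snd D c i vi top
    have hsym : pullback.snd (c.π.app i) vi =
        (pullbackSymmetry _ _).hom ≫ pullback.fst vi (c.π.app i) := by simp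
    have hab : πt ≫ (σ ≫ φ.left) = πt ≫ (σ ≫ ψ.left) := by
      rw [← Category.assoc, ← Category.assoc, hπt, hsym, Category.assoc, Category.assoc, h0]
    obtain ⟨k, hik, hk⟩ := Scheme.exists_hom_comp_eq_comp_of_locallyOfFiniteType
      (Lib.Helper22.bcDiag D i vi) t wi (Lib.Helper22.bcCone D c i vi)
      (Lib.Helper22.bcIsLimit D hc i vi) a b ha hb hab
    let μ : pullback (D.map k.hom) vi ⟶ pullback (D.map top.hom) vi :=
      (Lib.Helper22.bcDiag D i vi).map hik
    have hμ : μ ≫ σ = pullback.snd (D.map k.hom) vi := Lib.Helper22.bcDiag_map_snd D i vi hik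
    have hk0 : μ ≫ (σ ≫ φ.left) = μ ≫ (σ ≫ ψ.left) := hk
    have hk' : pullback.snd (D.map k.hom) vi ≫ φ.left =
        pullback.snd (D.map k.hom) vi ≫ ψ.left := by
      rw [← hμ, Category.assoc, Category.assoc]
      exact hk0
    have hk'' : pullback.fst vi (D.map k.hom) ≫ φ.left =
        pullback.fst vi (D.map k.hom) ≫ ψ.left := by
      have : pullback.fst vi (D.map k.hom) =
          (pullbackSymmetry _ _).hom ≫ pullback.snd (D.map k.hom) vi := by simp
      rw [this, Category.assoc, Category.assoc, hk']
    refine ⟨k.left, k.hom, ?_⟩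
    apply MorphismProperty.Over.Hom.ext
    simp only [FEt.restrict, MorphismProperty.Over.pullback_map_left]
    apply pullback.hom_ext
    · simp only [pullback.lift_fst]
      exact hk''
    · simp only [pullback.lift_snd]

end Groth.Agent.S12073
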