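import Groth.Statements.S15941
import Mathlib

set_option autoImplicit false
universe u
open HTop

namespace Groth.Agent.S15941

/-- An integrally closed integral domain is a seminormal ring, that is, whenever x^3 = y^2 there is
exactly one element a with x = a^2 and y = a^3. (The published statement is for a normal Noetherian
scheme and reduces at once to this affine integral case; the Noetherian hypothesis plays no role.) -/
theorem result (A : Type u) [CommRing A] [IsDomain A]
    [IsIntegrallyClosed A] : HTop.IsSeminormalRing A := by
  intro x y hxy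
  by_cases hx : x = 0
  · subst hx
    have hy : y = 0 := by
      have : y ^ 2 = 0 := by rw [← hxy]; simp
      exact pow_eq_zero_iff (by norm_num) |>.mp this
    subst hy
    refine ⟨0, ⟨by simp, by simp⟩, fun b hb => ?_⟩
    exact pow_eq_zero_iff (by norm_num) |>.mp hb.1.symm
  · let K := FractionRing A
    have hinj : Function.Injective (algebraMap A K) := IsFractionRing.injective A K
    have hxK : algebraMap A K x ≠ 0 := fun h => hx (hinj (by rw [h, map_zero]))
    set q : K := algebraMap A K y / algebraMap A K x with hq
    have hq2 : q ^ 2 = algebraMap A K x := by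
      rw [hq, div_pow, ← map_pow, ← hxy, map_pow, div_eq_iff (pow_ne_zero 2 hxK)]
      ring
    have hint : IsIntegral A q := by
      refine ⟨Polynomial.X ^ 2 - Polynomial.C x, Polynomial.monic_X_pow_sub_C x (by norm_num), ?_⟩
      simp [hq2]
    obtain ⟨a, ha⟩ := IsIntegrallyClosed.algebraMap_eq_of_integral hint
    have ha2 : a ^ 2 = x := by
      apply hinj
      rw [map_pow, ha, hq2]
    have ha3 : a ^ 3 = y := by
      apply hinj
      rw [map_pow, ha, pow_succ, hq2, hq, mul_div_cancel₀ _ hxK]
    refine ⟨a, ⟨ha2.symm, ha3.symm⟩, fun b hb => ?_⟩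
    have hb0 : b ≠ 0 := by
      rintro rfl
      exact hx (by rw [hb.1]; simp)
    have h1 : b ^ 2 * a = b ^ 2 * b := by
      calc b ^ 2 * a = a ^ 2 * a := by rw [ha2, ← hb.1]
        _ = a ^ 3 := by ring
        _ = b ^ 3 := by rw [ha3, hb.2]
        _ = b ^ 2 * b := by ring
    exact (mul_left_cancel₀ (pow_ne_zero 2 hb0) h1).symm

end Groth.Agent.S15941
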