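import Groth.Statements.S1400
-- import your own Groth.Agent.* helpers here
import Groth.Agent.Lib.Helper26.IndQuasiAffine
import Mathlib.AlgebraicGeometry.PullbackCarrier

set_option autoImplicit false
universe u
open FlatMor

namespace Groth.Agent.S1400

open AlgebraicGeometry CategoryTheory Limits in
/-- The base change of an ind-quasi-affine morphism is ind-quasi-affine. -/
theorem result {X S X' S' : Scheme.{u}} (f : X ⟶ S) (f' : X' ⟶ S') (g' : X' ⟶ X) (g : S' ⟶ S)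
    (hc : IsPullback g' f' f g) (hf : MoreMor.IsIndQuasiAffineHom f) : MoreMor.IsIndQuasiAffineHom f' := by
  open Groth.Agent.Lib.Helper26.IndQA Groth.Agent.Lib.Helper26.QuasiAffine in
  rw [isIndQuasiAffineHom_iff] at hf ⊢
  intro A j _ _ V' hV' hj
  have : IsAffine V' := hV'
  have hr : Set.range (j ≫ f') ⊆ Set.range V'.ι := by
    rintro _ ⟨a, rfl⟩
    rw [Scheme.Opens.range_ι]
    exact hj ⟨a, rfl⟩
  have hfac : ∀ y : A, V'.ι (IsOpenImmersion.lift V'.ι (j ≫ f') hr y) = f' (j y) := fun y ↦ by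
    rw [← Scheme.Hom.comp_apply, IsOpenImmersion.lift_fac, Scheme.Hom.comp_apply]
  refine isQuasiAffine_of_locally (IsOpenImmersion.lift V'.ι (j ≫ f') hr) fun x ↦ ?_
  obtain ⟨W, hW, hxW, -⟩ := exists_isAffineOpen_mem_and_subset (x := g (f' (j x))) (U := ⊤) trivial
  obtain ⟨N₀, hN₀, hxN₀, hN₀le⟩ := exists_isAffineOpen_mem_and_subset (x := f' (j x))
    (U := V' ⊓ g ⁻¹ᵁ W) ⟨hj ⟨x, rfl⟩, hxW⟩
  refine ⟨V'.ι ⁻¹ᵁ N₀, ?_, fun A' hA' hle ↦ ?_⟩
  · show V'.ι _ ∈ N₀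
    rw [hfac]
    exact hxN₀
  · have : CompactSpace A'.toScheme := isCompact_iff_compactSpace.mp hA'
    have : IsAffine N₀ := hN₀
    have : IsAffine W := hW
    have hpt : ∀ a : A'.toScheme, f' (j (A'.ι a)) ∈ N₀ := fun a ↦ by
      have h1 : V'.ι (IsOpenImmersion.lift V'.ι (j ≫ f') hr (A'.ι a)) ∈ N₀ :=
        hle (show A'.ι a ∈ A' from a.2)
      rwa [hfac] at h1
    obtain ⟨X₀, hX₀c, hKX₀, hX₀W⟩ := exists_isCompact_opens_between
      (isCompact_range (A'.ι ≫ j ≫ g').continuous) (f ⁻¹ᵁ W) (by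
        rintro _ ⟨a, rfl⟩
        show f (g' (j (A'.ι a))) ∈ W
        have h2 : f (g' (j (A'.ι a))) = g (f' (j (A'.ι a))) := by
          rw [← Scheme.Hom.comp_apply, ← Scheme.Hom.comp_apply, hc.w]
          rfl
        rw [h2]
        exact (hN₀le (hpt a)).2)
    have : CompactSpace X₀.toScheme := isCompact_iff_compactSpace.mp hX₀c
    have hX₀q : X₀.toScheme.IsQuasiAffine := hf X₀.toScheme X₀.ι W hW (by
      rw [Scheme.Opens.range_ι]; exact hX₀W)
    have hr1 : Set.range (X₀.ι ≫ f) ⊆ Set.range W.ι := by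
      rintro _ ⟨a, rfl⟩
      rw [Scheme.Opens.range_ι]
      exact hX₀W a.2
    have hr2 : Set.range (N₀.ι ≫ g) ⊆ Set.range W.ι := by
      rintro _ ⟨a, rfl⟩
      rw [Scheme.Opens.range_ι]
      exact (hN₀le a.2).2
    have e₁ : IsOpenImmersion.lift W.ι (X₀.ι ≫ f) hr1 ≫ W.ι = X₀.ι ≫ f :=
      IsOpenImmersion.lift_fac _ _ _
    have e₂ : IsOpenImmersion.lift W.ι (N₀.ι ≫ g) hr2 ≫ W.ι = N₀.ι ≫ g :=
      IsOpenImmersion.lift_fac _ _ _
    have : IsAffineHom (pullback.fst (IsOpenImmersion.lift W.ι (X₀.ι ≫ f) hr1)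
        (IsOpenImmersion.lift W.ι (N₀.ι ≫ g) hr2)) :=
      MorphismProperty.pullback_fst _ _ inferInstance
    have : (pullback (IsOpenImmersion.lift W.ι (X₀.ι ≫ f) hr1)
        (IsOpenImmersion.lift W.ι (N₀.ι ≫ g) hr2)).IsQuasiAffine :=
      Scheme.IsQuasiAffine.of_isAffineHom (pullback.fst _ _)
    refine isQuasiAffine_of_range_subset (A'.ι ≫ j ≫ hc.isoPullback.hom)
      (pullback.map _ _ f g X₀.ι N₀.ι W.ι e₁ e₂) ?_
    rw [Scheme.Pullback.range_map]
    rintro _ ⟨a, rfl⟩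
    constructor
    · show pullback.fst f g _ ∈ Set.range X₀.ι
      rw [Scheme.Opens.range_ι]
      have h3 : pullback.fst f g ((A'.ι ≫ j ≫ hc.isoPullback.hom) a) = (A'.ι ≫ j ≫ g') a := by
        rw [← Scheme.Hom.comp_apply]
        simp
      rw [h3]
      exact hKX₀ ⟨a, rfl⟩
    · show pullback.snd f g _ ∈ Set.range N₀.ι
      rw [Scheme.Opens.range_ι]
      have h3 : pullback.snd f g ((A'.ι ≫ j ≫ hc.isoPullback.hom) a) = (A'.ι ≫ j ≫ f') a := by
        rw [← Scheme.Hom.comp_apply]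
        simp
      rw [h3]
      exact hpt a

end Groth.Agent.S1400
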