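import Groth.Statements.S7126
import Mathlib
-- import your own Groth.Agent.* helpers here

set_option autoImplicit false
universe u
open EtAlg

namespace Groth.Agent.S7126

section
open TensorProduct

variable (A B : Type u) [CommRing A] [CommRing B] [Algebra A B]
  (N : Type u) [AddCommGroup N] [Module B N] [Module A N] [IsScalarTower A B N]

/-- The right action of `B` on `B ⊗[A] N`. -/
noncomputable def gmap : B →ₐ[A] Module.End A (B ⊗[A] N) :=
  (Module.End.lTensorAlgHom A N B).comp (Algebra.lsmul A A N)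

theorem gmap_tmul (b' c : B) (n : N) : gmap A B N b' (c ⊗ₜ[A] n) = c ⊗ₜ[A] (b' • n) := rfl

/-- The action of `B ⊗[A] B` on `B ⊗[A] N`. -/
noncomputable def rho : B ⊗[A] B →ₐ[A] Module.End A (B ⊗[A] N) :=
  Algebra.TensorProduct.lift (Algebra.lsmul A A (B ⊗[A] N)) (gmap A B N)
    (fun b b' => by
      change _ * _ = _ * _
      apply TensorProduct.ext'
      intro c n
      rw [Module.End.mul_apply, Module.End.mul_apply, gmap_tmul]
      change b • (c ⊗ₜ[A] (b' • n)) = gmap A B N b' (b • (c ⊗ₜ[A] n))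
      rw [TensorProduct.smul_tmul', TensorProduct.smul_tmul', gmap_tmul])

theorem rho_tmul (b b' c : B) (n : N) :
    rho A B N (b ⊗ₜ[A] b') (c ⊗ₜ[A] n) = (b * c) ⊗ₜ[A] (b' • n) := by
  rw [rho, Algebra.TensorProduct.lift_tmul, Module.End.mul_apply, gmap_tmul]
  change b • (c ⊗ₜ[A] (b' • n)) = _
  rw [TensorProduct.smul_tmul', smul_eq_mul]

theorem rho_left (b : B) (p : B ⊗[A] N) : rho A B N (b ⊗ₜ[A] 1) p = b • p := by
  induction p using TensorProduct.induction_on with
  | zero => simp
  | tmul c n => rw [rho_tmul, one_smul, TensorProduct.smul_tmul', smul_eq_mul]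
  | add x y hx hy => rw [map_add, hx, hy, smul_add]

theorem rho_mul (t t' : B ⊗[A] B) (p : B ⊗[A] N) :
    rho A B N (t * t') p = rho A B N t (rho A B N t' p) := by
  rw [map_mul]; rfl

/-- The multiplication map `B ⊗[A] N → N`. -/
noncomputable def nu : B ⊗[A] N →ₗ[B] N :=
  LinearMap.liftBaseChange B (LinearMap.id : N →ₗ[A] N)

theorem nu_tmul (b : B) (n : N) : nu A B N (b ⊗ₜ[A] n) = b • n := rfl

theorem nu_rho (t : B ⊗[A] B) (p : B ⊗[A] N) :
    nu A B N (rho A B N t p) = (Algebra.TensorProduct.lmul' A (S := B) t) • nu A B N p := by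
  induction t using TensorProduct.induction_on with
  | zero => simp
  | tmul b b' =>
    induction p using TensorProduct.induction_on with
    | zero => simp
    | tmul c n =>
      rw [rho_tmul, nu_tmul, nu_tmul, Algebra.TensorProduct.lmul'_apply_tmul, smul_smul, smul_smul]
      congr 1
      ring
    | add x y hx hy => rw [map_add, map_add, hx, hy, map_add, smul_add]
  | add x y hx hy =>
    rw [map_add, LinearMap.add_apply, map_add, hx, hy, map_add, add_smul]

theorem exists_s (h : (Algebra.TensorProduct.lmul' A (S := B)).Flat) (x : B ⊗[A] B)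
    (hx : Algebra.TensorProduct.lmul' A (S := B) x = 0) :
    ∃ s : B ⊗[A] B, Algebra.TensorProduct.lmul' A (S := B) s = 1 ∧ x * s = 0 := by
  letI : Algebra (B ⊗[A] B) B := (Algebra.TensorProduct.lmul' A (S := B)).toRingHom.toAlgebra
  haveI : Module.Flat (B ⊗[A] B) B := h
  have hsm : ∀ (t : B ⊗[A] B) (b : B), t • b = Algebra.TensorProduct.lmul' A (S := B) t * b :=
    fun t b => rfl
  obtain ⟨k', a, y, hxy, hfa⟩ := (Module.Flat.iff_forall_isTrivialRelation
    (R := B ⊗[A] B) (M := B)).mp this (l := 1) (f := fun _ => x) (x := fun _ => 1) (by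
      rw [Fin.sum_univ_one]
      change Algebra.TensorProduct.lmul' A (S := B) x * 1 = 0
      rw [hx, zero_mul])
  have hxy0 : (1 : B) = ∑ j, a 0 j • y j := hxy 0
  refine ⟨∑ j, a 0 j * (y j ⊗ₜ[A] 1), ?_, ?_⟩
  · rw [map_sum]
    refine Eq.trans ?_ hxy0.symm
    refine Finset.sum_congr rfl fun j _ => ?_
    rw [map_mul, Algebra.TensorProduct.lmul'_apply_tmul, mul_one, hsm]
  · rw [Finset.mul_sum]
    refine Finset.sum_eq_zero fun j _ => ?_
    have := hfa j
    rw [Fin.sum_univ_one] at this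
    rw [← mul_assoc, this, zero_mul]

theorem exists_s_family (h : (Algebra.TensorProduct.lmul' A (S := B)).Flat) {l : ℕ}
    (x : Fin l → B ⊗[A] B)
    (hx : ∀ i, Algebra.TensorProduct.lmul' A (S := B) (x i) = 0) :
    ∃ s : B ⊗[A] B, Algebra.TensorProduct.lmul' A (S := B) s = 1 ∧ ∀ i, x i * s = 0 := by
  choose s hs1 hs2 using fun i => exists_s A B h (x i) (hx i)
  refine ⟨∏ i, s i, ?_, ?_⟩
  · rw [map_prod]
    exact Finset.prod_eq_one fun i _ => hs1 i
  · intro i
    rw [← Finset.mul_prod_erase Finset.univ s (Finset.mem_univ i), ← mul_assoc, hs2 i, zero_mul]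

end

/-- Suppose the multiplication map B ⊗_A B → B of an A-algebra B is flat. Then a B-module that is flat
over A is also flat over B. -/
theorem result (A B : Type u) [CommRing A] [CommRing B] [Algebra A B]
    (h : (Algebra.TensorProduct.lmul' A (S := B)).Flat) (N : Type u) [AddCommGroup N] [Module B N] [Module A N]
    [IsScalarTower A B N] [Module.Flat A N] : Module.Flat B N := by
  rw [Module.Flat.iff_forall_isTrivialRelation]
  intro l f x hrel
  -- the elements x_i = f_i ⊗ 1 - 1 ⊗ f_i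
  obtain ⟨s, hs1, hs2⟩ := exists_s_family A B h
    (fun i => (f i) ⊗ₜ[A] (1 : B) - (1 : B) ⊗ₜ[A] (f i))
    (fun i => by
      rw [map_sub, Algebra.TensorProduct.lmul'_apply_tmul, Algebra.TensorProduct.lmul'_apply_tmul,
        mul_one, one_mul, sub_self])
  have hs3 : ∀ i, ((f i) ⊗ₜ[A] (1 : B)) * s = ((1 : B) ⊗ₜ[A] (f i)) * s := by
    intro i
    have := hs2 i
    rw [sub_mul, sub_eq_zero] at this
    exact this
  -- relation in B ⊗ N
  have hrel' : ∑ i, f i • (rho A B N s ((1 : B) ⊗ₜ[A] x i)) = 0 := by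
    have h1 : ∀ i, f i • (rho A B N s ((1 : B) ⊗ₜ[A] x i)) =
        rho A B N s ((1 : B) ⊗ₜ[A] (f i • x i)) := by
      intro i
      rw [← rho_left, ← rho_mul, hs3 i, mul_comm, rho_mul, rho_tmul, one_mul]
    rw [Finset.sum_congr rfl fun i _ => h1 i, ← map_sum, ← TensorProduct.tmul_sum, hrel,
      TensorProduct.tmul_zero, map_zero]
  obtain ⟨k', a, y, hxy, hfa⟩ := Module.Flat.isTrivialRelation_of_sum_smul_eq_zero hrel'
  refine ⟨k', a, fun j => nu A B N (y j), ?_, hfa⟩
  intro i
  have h2 := congrArg (nu A B N) (hxy i)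
  rw [nu_rho, hs1, one_smul, nu_tmul, one_smul, map_sum] at h2
  rw [h2]
  refine Finset.sum_congr rfl fun j _ => ?_
  rw [map_smul]

end Groth.Agent.S7126
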