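import Groth.Statements.S7129
import Mathlib.RingTheory.Flat.Tensor
import Mathlib.Tactic.LinearCombination
import Mathlib.Tactic.Ring
-- import your own Groth.Agent.* helpers here

set_option autoImplicit false
universe u
open EtAlg

namespace Groth.Agent.S7129

open Classical in
theorem exists_idem {ι : Type u} {K : ι → Type u} [∀ i, Field (K i)] (S : Finset (∀ i, K i)) :
    ∃ e : ∀ i, K i, e * e = e ∧ Ideal.span (S : Set (∀ i, K i)) = Ideal.span {e} := by
  induction S using Finset.induction_on with
  | empty => exact ⟨0, by simp, by simp⟩
  | insert a S ha ih =>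
    obtain ⟨e, he, hS⟩ := ih
    let a' : ∀ i, K i := fun i => if a i = 0 then 0 else 1
    let ainv : ∀ i, K i := fun i => (a i)⁻¹
    have h1 : a = a * a' := by
      funext i; by_cases h : a i = 0 <;> simp [a', h]
    have h2 : a' = a * ainv := by
      funext i; by_cases h : a i = 0 <;> simp [a', ainv, h]
    have h3 : a' * a' = a' := by
      funext i; by_cases h : a i = 0 <;> simp [a', h]
    refine ⟨a' + e - a' * e, ?_, ?_⟩
    · linear_combination (1 - 2 * e + e * e) * h3 + (1 - a') * he
    · rw [Finset.coe_insert, Ideal.span_insert, hS]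
      apply le_antisymm
      · rw [sup_le_iff, Ideal.span_singleton_le_span_singleton,
          Ideal.span_singleton_le_span_singleton]
        constructor
        · refine ⟨a, ?_⟩
          have : (a' + e - a' * e) * a' = a' := by linear_combination (1 - e) * h3
          calc a = a * a' := h1
            _ = a * ((a' + e - a' * e) * a') := by rw [this]
            _ = (a' + e - a' * e) * (a * a') := by ring
            _ = (a' + e - a' * e) * a := by rw [← h1]
        · refine ⟨e, ?_⟩
          linear_combination (a' - 1) * he
      · rw [Ideal.span_singleton_le_iff_mem]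
        have : a' + e - a' * e = ainv * a + (1 - a') * e := by rw [h2]; ring
        rw [this]
        exact Ideal.add_mem _
          (Ideal.mem_sup_left (Ideal.mul_mem_left _ _ (Ideal.mem_span_singleton_self a)))
          (Ideal.mem_sup_right (Ideal.mul_mem_left _ _ (Ideal.mem_span_singleton_self e)))

/-- Every module over a product of fields ∏ K_i is flat over it (the product is an absolutely flat
ring). -/
theorem result (ι : Type u) (K : ι → Type u) [∀ i, Field (K i)] (M : Type u)
    [AddCommGroup M] [Module (∀ i, K i) M] : Module.Flat (∀ i, K i) M := by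
  rw [Module.Flat.iff_rTensor_injective]
  intro I hI
  obtain ⟨S, hS⟩ := hI
  obtain ⟨e, he, hS'⟩ := exists_idem S
  have hI : I = Ideal.span {e} := hS ▸ hS'
  subst hI
  let ρ : (∀ i, K i) →ₗ[∀ i, K i] (Ideal.span {e} : Ideal (∀ i, K i)) :=
    LinearMap.codRestrict _ (LinearMap.toSpanSingleton _ _ e) (fun r => by
      rw [LinearMap.toSpanSingleton_apply, smul_eq_mul]
      exact Ideal.mul_mem_left _ _ (Ideal.mem_span_singleton_self e))
  have hρ : ρ ∘ₗ (Ideal.span {e} : Ideal (∀ i, K i)).subtype = LinearMap.id := by
    ext ⟨x, hx⟩
    obtain ⟨c, rfl⟩ := Ideal.mem_span_singleton'.mp hx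
    simp only [LinearMap.comp_apply, Submodule.subtype_apply, LinearMap.id_apply, ρ,
      LinearMap.codRestrict_apply, LinearMap.toSpanSingleton_apply, smul_eq_mul]
    rw [mul_assoc, he]
  have : Function.LeftInverse (ρ.rTensor M) ((Ideal.span {e} : Ideal (∀ i, K i)).subtype.rTensor M) := by
    intro x
    rw [← LinearMap.comp_apply, ← LinearMap.rTensor_comp, hρ, LinearMap.rTensor_id,
      LinearMap.id_apply]
  exact this.injective

end Groth.Agent.S7129
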