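import Groth.Statements.S7130
import Mathlib
-- import your own Groth.Agent.* helpers here

set_option autoImplicit false
universe u
open EtAlg

namespace Groth.Agent.S7130

theorem vnr_of_flat (A : Type u) [CommRing A]
    (h : ∀ (M : Type u) [AddCommGroup M] [Module A M], Module.Flat A M) (a : A) :
    ∃ c : A, a = a ^ 2 * c := by
  haveI := h (A ⧸ Ideal.span {a})
  have hrel : ∑ _i : Fin 1, a • (Ideal.Quotient.mk (Ideal.span {a}) 1) = 0 := by
    rw [Fin.sum_univ_one, Algebra.smul_def, Ideal.Quotient.algebraMap_eq, map_one, mul_one]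
    exact Ideal.Quotient.eq_zero_iff_mem.mpr (Ideal.mem_span_singleton_self a)
  obtain ⟨k', b, y, hxy, hfa⟩ := Module.Flat.isTrivialRelation_of_sum_smul_eq_zero hrel
  have hxy0 : Ideal.Quotient.mk (Ideal.span {a}) 1 = ∑ j, b 0 j • y j := hxy 0
  choose z hz using fun j => Ideal.Quotient.mk_surjective (y j)
  have h1 : Ideal.Quotient.mk (Ideal.span {a}) 1 =
      Ideal.Quotient.mk (Ideal.span {a}) (∑ j, b 0 j * z j) := by
    rw [hxy0, map_sum]
    refine Finset.sum_congr rfl fun j _ => ?_
    rw [map_mul, hz j]
    rfl
  rw [Ideal.Quotient.eq, Ideal.mem_span_singleton'] at h1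
  obtain ⟨c, hc⟩ := h1
  refine ⟨c, ?_⟩
  have h2 : a * ∑ j, b 0 j * z j = 0 := by
    rw [Finset.mul_sum]
    refine Finset.sum_eq_zero fun j _ => ?_
    have := hfa j
    rw [Fin.sum_univ_one] at this
    rw [← mul_assoc, this, zero_mul]
  have h3 : a * (1 - ∑ j, b 0 j * z j) = a := by rw [mul_sub, mul_one, h2, sub_zero]
  calc a = a * (1 - ∑ j, b 0 j * z j) := h3.symm
    _ = a * (c * a) := by rw [hc]
    _ = a ^ 2 * c := by ring

/-- (2) ⇔ (3) ⇔ (4): for a ring A the following are equivalent: every A-module is flat; A is reduced of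
Krull dimension zero, in the sense that every prime ideal of A is maximal; the local ring A_p is a
field for every prime p. (The further equivalent condition 'A has weak dimension at most zero'
coincides with the first condition by definition and is not listed separately.) -/
theorem result (A : Type u) [CommRing A] :
    List.TFAE [∀ (M : Type u) [AddCommGroup M] [Module A M], Module.Flat A M,
      IsReduced A ∧ ∀ p : Ideal A, p.IsPrime → p.IsMaximal,
      ∀ (p : Ideal A) [p.IsPrime], IsField (Localization.AtPrime p)] := by
  tfae_have 1 → 2 := by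
    intro h
    have hv := vnr_of_flat A h
    refine ⟨(isReduced_iff_pow_one_lt 2 (by norm_num)).mpr ?_, ?_⟩
    · intro x hx
      obtain ⟨c, hc⟩ := hv x
      rw [hc, hx, zero_mul]
    · intro p hp
      rw [Ideal.isMaximal_iff]
      refine ⟨fun h1 => hp.ne_top ((Ideal.eq_top_iff_one _).mpr h1), ?_⟩
      intro J x hpJ hxp hxJ
      obtain ⟨c, hc⟩ := hv x
      have h1 : x * (1 - x * c) = 0 := by
        have : x * (1 - x * c) = x - x ^ 2 * c := by ring
        rw [this, ← hc, sub_self]
      have h2 : 1 - x * c ∈ p := by
        have : x * (1 - x * c) ∈ p := by rw [h1]; exact p.zero_mem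
        exact (hp.mem_or_mem this).resolve_left hxp
      have : (1 : A) = (1 - x * c) + x * c := by ring
      rw [this]
      exact J.add_mem (hpJ h2) (J.mul_mem_right _ hxJ)
  tfae_have 2 → 3 := by
    rintro ⟨hred, hmax⟩ p hp
    rw [IsLocalRing.isField_iff_maximalIdeal_eq, eq_bot_iff]
    have hnil : nilradical (Localization.AtPrime p) = ⊥ := nilradical_eq_bot_iff.mpr inferInstance
    rw [← hnil, nilradical_eq_sInf]
    refine le_sInf ?_
    intro P hP
    have hPprime : P.IsPrime := hP
    have hq : (P.comap (algebraMap A (Localization.AtPrime p))).IsPrime := Ideal.comap_isPrime _ _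
    have hqmax := hmax _ hq
    have hqp : P.comap (algebraMap A (Localization.AtPrime p)) ≤ p := by
      intro x hx
      by_contra hxp
      have hu : IsUnit (algebraMap A (Localization.AtPrime p) x) :=
        IsLocalization.map_units (Localization.AtPrime p) (⟨x, hxp⟩ : p.primeCompl)
      exact hPprime.ne_top (Ideal.eq_top_of_isUnit_mem _ hx hu)
    have hqeq : P.comap (algebraMap A (Localization.AtPrime p)) = p :=
      hqmax.eq_of_le hp.ne_top hqp
    have h2 := IsLocalization.map_under p.primeCompl (Localization.AtPrime p) P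
    rw [← h2]
    change _ ≤ Ideal.map _ (Ideal.comap _ _)
    rw [hqeq, IsLocalization.AtPrime.map_eq_maximalIdeal]
  tfae_have 3 → 1 := by
    intro h M _ _
    refine Module.flat_of_localized_maximal M ?_
    intro P hP
    have hf := h P
    letI := hf.toField
    haveI : Module.Flat (Localization.AtPrime P) (LocalizedModule P.primeCompl M) :=
      inferInstance
    exact Module.Flat.trans A (Localization.AtPrime P) _
  tfae_finish

end Groth.Agent.S7130
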