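import Groth.Statements.S7128
import Mathlib
import Groth.Agent.S7126
import Groth.Agent.S7129
import Groth.Agent.S7130
-- import your own Groth.Agent.* helpers here

set_option autoImplicit false
universe u
open EtAlg

namespace Groth.Agent.S7128

/-- A weakly étale algebra over a reduced ring is itself reduced. -/
theorem result (A B : Type u) [CommRing A] [CommRing B] [Algebra A B] [IsReduced A]
    [Algebra.WeaklyEtale A B] : IsReduced B := by
  -- the product of all residue fields
  have hinj : Function.Injective
      (algebraMap A (∀ p : PrimeSpectrum A, p.asIdeal.ResidueField)) := by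
    rw [injective_iff_map_eq_zero]
    intro a ha
    have h1 : a ∈ nilradical A := by
      rw [nilradical_eq_sInf, Submodule.mem_sInf]
      intro p' hp
      obtain ⟨p, rfl⟩ : ∃ p : Ideal A, p = p' := ⟨p', rfl⟩
      haveI hp' : p.IsPrime := hp
      have h2 := congrFun ha ⟨p, hp⟩
      rw [Pi.algebraMap_apply] at h2
      exact (Ideal.algebraMap_residueField_eq_zero (I := p)).mp h2
    rw [nilradical_eq_zero] at h1
    exact h1
  -- every module over A' ⊗ B is flat
  have habs : ∀ (M : Type u) [AddCommGroup M]
      [Module (TensorProduct A (∀ p : PrimeSpectrum A, p.asIdeal.ResidueField) B) M],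
      Module.Flat (TensorProduct A (∀ p : PrimeSpectrum A, p.asIdeal.ResidueField) B) M := by
    intro M _ _
    letI : Module (∀ p : PrimeSpectrum A, p.asIdeal.ResidueField) M :=
      Module.compHom M (algebraMap (∀ p : PrimeSpectrum A, p.asIdeal.ResidueField)
        (TensorProduct A (∀ p : PrimeSpectrum A, p.asIdeal.ResidueField) B))
    haveI : IsScalarTower (∀ p : PrimeSpectrum A, p.asIdeal.ResidueField)
        (TensorProduct A (∀ p : PrimeSpectrum A, p.asIdeal.ResidueField) B) M :=
      ⟨fun a t m => by
        have h1 : a • t = algebraMap _ _ a * t := Algebra.smul_def a t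
        rw [h1, mul_smul]
        rfl⟩
    haveI : Module.Flat (∀ p : PrimeSpectrum A, p.asIdeal.ResidueField) M :=
      Groth.Agent.S7129.result (PrimeSpectrum A) (fun p => p.asIdeal.ResidueField) M
    exact Groth.Agent.S7126.result (∀ p : PrimeSpectrum A, p.asIdeal.ResidueField)
      (TensorProduct A (∀ p : PrimeSpectrum A, p.asIdeal.ResidueField) B)
      (Algebra.WeaklyEtale.flat_lmul' _ _) M
  have h01 := (Groth.Agent.S7130.result
      (TensorProduct A (∀ p : PrimeSpectrum A, p.asIdeal.ResidueField) B)).out 0 1
  have hred : IsReduced (TensorProduct A (∀ p : PrimeSpectrum A, p.asIdeal.ResidueField) B) :=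
    (h01.mp habs).1
  exact isReduced_of_injective
    (Algebra.TensorProduct.includeRight :
      B →ₐ[A] TensorProduct A (∀ p : PrimeSpectrum A, p.asIdeal.ResidueField) B)
    (Algebra.TensorProduct.includeRight_injective hinj)

end Groth.Agent.S7128
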