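import Groth.Statements.S14080
import Mathlib
import Groth.Agent.Lib.Helper20.InvFun

set_option autoImplicit false
universe u
open ArSing

namespace Groth.Agent.S14080

section aux

open PowerSeries

-- universe u declared in template

theorem algHom_ext_X {k : Type u} [Field k]
    (ψ₁ ψ₂ : MvPowerSeries Unit k →ₐ[k] MvPowerSeries Unit k)
    (h0 : MvPowerSeries.constantCoeff (ψ₁ (MvPowerSeries.X ())) = 0)
    (h : ψ₁ (MvPowerSeries.X ()) = ψ₂ (MvPowerSeries.X ())) : ∀ f, ψ₁ f = ψ₂ f := by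
  intro f
  rw [Groth.Agent.Lib.Helper20.IFT.algHom_eq_subst ψ₁ (fun i => h0),
    Groth.Agent.Lib.Helper20.IFT.algHom_eq_subst ψ₂ (fun i => h ▸ h0)]
  congr 1
  funext i
  exact h

theorem main (k : Type u) [Field k] (h2 : (2 : k) ≠ 0)
    (σ : PowerSeries k ≃ₐ[k] PowerSeries k) (hσ : ∀ f, σ (σ f) = f) :
    (PowerSeries.coeff 1 (σ PowerSeries.X)) ^ 2 = 1 ∧
    ∃ φ : PowerSeries k ≃ₐ[k] PowerSeries k,
      φ PowerSeries.X = PowerSeries.C (2⁻¹ : k) *
        (PowerSeries.X + PowerSeries.C (PowerSeries.coeff 1 (σ PowerSeries.X)) * σ PowerSeries.X) ∧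
      ∀ f, φ.symm (σ (φ f)) = PowerSeries.rescale (PowerSeries.coeff 1 (σ PowerSeries.X)) f := by
  set a : PowerSeries k := σ X with ha
  have ha0 : constantCoeff a = 0 := by
    by_contra hne
    have hu : IsUnit a := PowerSeries.isUnit_iff_constantCoeff.mpr (IsUnit.mk0 _ hne)
    have h1 : IsUnit (σ.symm a) := hu.map σ.symm
    rw [ha, AlgEquiv.symm_apply_apply] at h1
    have h3 := PowerSeries.isUnit_iff_constantCoeff.mp h1
    simp at h3
  set ξ : k := coeff 1 a with hξdef
  obtain ⟨b, hb⟩ := PowerSeries.X_dvd_iff.mpr ha0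
  have hbξ : constantCoeff b = ξ := by
    rw [hξdef, hb, show (1 : ℕ) = 0 + 1 from rfl, PowerSeries.coeff_succ_X_mul,
      PowerSeries.coeff_zero_eq_constantCoeff_apply]
  obtain ⟨g, hg⟩ : (X : PowerSeries k) ∣ b - C ξ := by
    rw [PowerSeries.X_dvd_iff, map_sub, hbξ, PowerSeries.constantCoeff_C, sub_self]
  have hag : a = C ξ * X + X ^ 2 * g := by
    have hb' : b = C ξ + X * g := by rw [← hg]; ring
    rw [hb, hb']; ring
  have hσC : ∀ c : k, σ (C c) = C c := fun c => σ.commutes c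
  have hξ2 : ξ ^ 2 = 1 := by
    have h1 : σ a = X := hσ X
    have h3 : σ a = C ξ * a + a ^ 2 * σ g := by
      conv_lhs => rw [hag]
      rw [map_add, map_mul, map_mul, map_pow, hσC, ← ha]
    have h4 := congrArg (coeff 1) h3
    rw [h1, map_add, PowerSeries.coeff_C_mul, ← hξdef, PowerSeries.coeff_one_X] at h4
    have h5 : coeff 1 (a ^ 2 * σ g) = 0 := by
      rw [hb, mul_pow, mul_assoc, PowerSeries.coeff_X_pow_mul']
      simp
    rw [h5, add_zero] at h4
    rw [sq]; exact h4.symm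
  refine ⟨hξ2, ?_⟩
  set u : PowerSeries k := C (2⁻¹ : k) * (X + C ξ * a) with hu
  have hu0 : constantCoeff u = 0 := by
    rw [hu, map_mul, map_add, map_mul, ha0, PowerSeries.constantCoeff_X, mul_zero, add_zero, mul_zero]
  have hu1 : coeff 1 u = 1 := by
    rw [hu, PowerSeries.coeff_C_mul, map_add, PowerSeries.coeff_C_mul, PowerSeries.coeff_one_X, ← hξdef,
      ← sq, hξ2]
    field_simp
    norm_num
  have hsub : HasSubst u := HasSubst.of_constantCoeff_zero' hu0
  let φ₀ : MvPowerSeries Unit k →ₐ[k] MvPowerSeries Unit k := PowerSeries.substAlgHom hsub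
  have hφ₀X : φ₀ (MvPowerSeries.X ()) = u := by
    show PowerSeries.substAlgHom hsub (X : PowerSeries k) = u
    rw [PowerSeries.coe_substAlgHom, PowerSeries.subst_X hsub]
  have hbij : Function.Bijective φ₀ := by
    apply Groth.Agent.Lib.Helper20.IFT.algHom_bijective φ₀
    · intro i
      rw [show MvPowerSeries.X i = MvPowerSeries.X () from rfl, hφ₀X]
      exact hu0
    · rw [Matrix.det_unique]
      show IsUnit (MvPowerSeries.coeff (Finsupp.single () 1) (φ₀ (MvPowerSeries.X ())))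
      rw [hφ₀X]
      show IsUnit (coeff 1 u)
      rw [hu1]; exact isUnit_one
  let φ : PowerSeries k ≃ₐ[k] PowerSeries k := AlgEquiv.ofBijective φ₀ hbij
  have hφX : φ X = u := hφ₀X
  refine ⟨φ, hφX, ?_⟩
  intro f
  rw [AlgEquiv.symm_apply_eq]
  have hσa : σ a = X := hσ X
  have hσu : σ u = C (2⁻¹ : k) * (a + C ξ * X) := by
    rw [hu, map_mul, map_add, map_mul, hσC, hσC, hσa]
  have key := algHom_ext_X ((σ : PowerSeries k →ₐ[k] PowerSeries k).comp φ₀)
    (φ₀.comp (PowerSeries.rescaleAlgHom ξ)) ?_ ?_ f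
  · simp only [AlgHom.comp_apply] at key
    have hr : (PowerSeries.rescaleAlgHom ξ) f = rescale ξ f :=
      RingHom.congr_fun (PowerSeries.coe_rescaleAlgHom ξ) f
    rw [hr] at key
    exact key
  · show MvPowerSeries.constantCoeff (σ (φ₀ (MvPowerSeries.X ()))) = 0
    rw [hφ₀X, hσu]
    show constantCoeff _ = 0
    rw [map_mul, map_add, map_mul, ha0, PowerSeries.constantCoeff_X]
    simp
  · show σ (φ₀ (MvPowerSeries.X ())) = φ₀ (PowerSeries.rescaleAlgHom ξ (X : PowerSeries k))
    have hr : (PowerSeries.rescaleAlgHom ξ) (X : PowerSeries k) = rescale ξ X :=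
      RingHom.congr_fun (PowerSeries.coe_rescaleAlgHom ξ) X
    have hC : φ₀ (C ξ) = C ξ := φ₀.commutes ξ
    have h7 : φ₀ (C ξ * (X : PowerSeries k)) = C ξ * u := by
      rw [map_mul, hC]
      congr 1
    rw [hr, PowerSeries.rescale_X, h7, hφ₀X, hσu, hu]
    have hCC : (C ξ : PowerSeries k) * C ξ = 1 := by rw [← map_mul, ← sq, hξ2, map_one]
    calc C (2⁻¹ : k) * (a + C ξ * X) = C (2⁻¹ : k) * (C ξ * X + (C ξ * C ξ) * a) := by rw [hCC]; ring
      _ = C ξ * (C 2⁻¹ * (X + C ξ * a)) := by ring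

end aux

/-- Let k be a field in which 2 is invertible and σ an involutive k-algebra automorphism of the power
series ring k[[t]], with ξ the coefficient of t in σ(t). Then ξ^2 = 1, the k-algebra endomorphism φ
with φ(t) = (t + ξ σ(t))/2 is an automorphism, and φ⁻¹ σ φ is the automorphism t ↦ ξ t. (The
published statement is over an algebraically closed field of characteristic prime to 2; only the
invertibility of 2 is used, so any field with 2 ≠ 0 is allowed here.) -/
theorem result (k : Type u) [Field k] (h2 : (2 : k) ≠ 0)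
    (σ : PowerSeries k ≃ₐ[k] PowerSeries k) (hσ : ∀ f, σ (σ f) = f) :
    (PowerSeries.coeff 1 (σ PowerSeries.X)) ^ 2 = 1 ∧
    ∃ φ : PowerSeries k ≃ₐ[k] PowerSeries k,
      φ PowerSeries.X = PowerSeries.C (2⁻¹ : k) *
        (PowerSeries.X + PowerSeries.C (PowerSeries.coeff 1 (σ PowerSeries.X)) * σ PowerSeries.X) ∧
      ∀ f, φ.symm (σ (φ f)) = PowerSeries.rescale (PowerSeries.coeff 1 (σ PowerSeries.X)) f := by
  exact main k h2 σ hσ

end Groth.Agent.S14080
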