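import Groth.Statements.S2069
import Mathlib

set_option autoImplicit false
universe u
open CAlg

namespace Groth.Agent.S2069

open TensorProduct

section helpers

variable {R S N : Type u} [CommRing R] [CommRing S] [Algebra R S]
  [AddCommGroup N] [Module S N] [Module R N] [IsScalarTower R S N]

/-- `S`-linear version of `lTensor N` -/
noncomputable abbrev lT {M M' : Type*} [AddCommGroup M] [Module R M] [AddCommGroup M'] [Module R M']
    (f : M →ₗ[R] M') : N ⊗[R] M →ₗ[S] N ⊗[R] M' :=
  TensorProduct.AlgebraTensorModule.lTensor S N f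

lemma lT_injective [Module.Flat R N] {M M' : Type*} [AddCommGroup M] [Module R M]
    [AddCommGroup M'] [Module R M'] (f : M →ₗ[R] M') (hf : Function.Injective f) :
    Function.Injective (lT (S := S) (N := N) f) :=
  Module.Flat.lTensor_preserves_injective_linearMap (M := N) f hf

lemma ass_subset_of_injective [Module.Flat R N] {M M' : Type*} [AddCommGroup M] [Module R M]
    [AddCommGroup M'] [Module R M'] (f : M →ₗ[R] M') (hf : Function.Injective f) :
    associatedPrimes S (N ⊗[R] M) ⊆ associatedPrimes S (N ⊗[R] M') :=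
  associatedPrimes.subset_of_injective (f := lT (S := S) (N := N) f) (lT_injective f hf)

lemma ass_subset_union [Module.Flat R N] {M' M M'' : Type*} [AddCommGroup M] [Module R M]
    [AddCommGroup M'] [Module R M'] [AddCommGroup M''] [Module R M'']
    (f : M' →ₗ[R] M) (g : M →ₗ[R] M'') (hf : Function.Injective f) (hfg : Function.Exact f g) :
    associatedPrimes S (N ⊗[R] M) ⊆
      associatedPrimes S (N ⊗[R] M') ∪ associatedPrimes S (N ⊗[R] M'') :=
  associatedPrimes.subset_union_of_exact (f := lT (S := S) (N := N) f)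
    (g := lT (S := S) (N := N) g) (lT_injective f hf) (Module.Flat.lTensor_exact N hfg)

/-- the `R`-action on `N ⊗ M` through `S` -/
lemma algebraMap_smul_tensor {M : Type*} [AddCommGroup M] [Module R M] (a : R) (z : N ⊗[R] M) :
    algebraMap R S a • z = a • z := by
  induction z with
  | zero => simp
  | add x y hx hy => rw [smul_add, smul_add, hx, hy]
  | tmul n m => rw [TensorProduct.smul_tmul', TensorProduct.smul_tmul', algebraMap_smul]

lemma lsmul_lTensor {M : Type*} [AddCommGroup M] [Module R M] (a : R) (z : N ⊗[R] M) :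
    (LinearMap.lsmul R M a).lTensor N z = a • z := by
  induction z with
  | zero => simp
  | add x y hx hy => rw [map_add, smul_add, hx, hy]
  | tmul n m =>
    rw [LinearMap.lTensor_tmul, LinearMap.lsmul_apply, TensorProduct.tmul_smul]

/-- elements of `p` kill `N ⊗ R/p` -/
lemma smul_quot_eq_zero (p : Ideal R) (a : R) (ha : a ∈ p) (z : N ⊗[R] (R ⧸ p)) :
    a • z = 0 := by
  induction z with
  | zero => simp
  | add x y hx hy => rw [smul_add, hx, hy, add_zero]
  | tmul n m =>
    rw [← TensorProduct.tmul_smul]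
    obtain ⟨r, rfl⟩ := Ideal.Quotient.mk_surjective m
    have : a • (Ideal.Quotient.mk p r) = 0 := by
      rw [Algebra.smul_def, Ideal.Quotient.algebraMap_eq,
        Ideal.Quotient.eq_zero_iff_mem.mpr ha, zero_mul]
    rw [this, TensorProduct.tmul_zero]

/-- an associated prime of `N ⊗ R/p` lies over `p` -/
lemma comap_eq_of_mem_ass [Module.Flat R N] (p : Ideal R) [hp : p.IsPrime] (P : Ideal S)
    (hP : P ∈ associatedPrimes S (N ⊗[R] (R ⧸ p))) : P.comap (algebraMap R S) = p := by
  obtain ⟨hPprime, ζ, hζ⟩ := hP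
  apply le_antisymm
  · intro a ha
    by_contra hap
    rw [Ideal.mem_comap, hζ] at ha
    obtain ⟨k, hk⟩ := ha
    rw [Submodule.mem_colon_singleton, Submodule.mem_bot, ← map_pow, algebraMap_smul_tensor] at hk
    have hak : a ^ k ∉ p := fun h => hap (hp.mem_of_pow_mem k h)
    have hμ : Function.Injective (LinearMap.lsmul R (R ⧸ p) (a ^ k)) := by
      intro x y hxy
      have h1 : (a ^ k) • (x - y) = 0 := by
        rw [smul_sub]
        exact sub_eq_zero.mpr hxy
      rw [Algebra.smul_def, Ideal.Quotient.algebraMap_eq] at h1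
      rcases mul_eq_zero.mp h1 with h | h
      · exact absurd (Ideal.Quotient.eq_zero_iff_mem.mp h) hak
      · exact sub_eq_zero.mp h
    have hinj : Function.Injective ((LinearMap.lsmul R (R ⧸ p) (a ^ k)).lTensor N) :=
      Module.Flat.lTensor_preserves_injective_linearMap (M := N) _ hμ
    have hζ0 : ζ = 0 := by
      apply hinj
      rw [map_zero, lsmul_lTensor, hk]
    apply hPprime.ne_top
    rw [hζ, hζ0, Ideal.radical_eq_top, Ideal.eq_top_iff_one, Submodule.mem_colon_singleton]
    simp
  · intro a ha
    rw [Ideal.mem_comap, hζ]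
    apply Ideal.le_radical
    rw [Submodule.mem_colon_singleton, Submodule.mem_bot, algebraMap_smul_tensor]
    exact smul_quot_eq_zero p a ha ζ

/-- `n ↦ n ⊗ 1`, as an `S`-linear map -/
noncomputable def toTensorQuot (p : Ideal R) : N →ₗ[S] N ⊗[R] (R ⧸ p) where
  toFun n := n ⊗ₜ[R] (1 : R ⧸ p)
  map_add' a b := TensorProduct.add_tmul a b 1
  map_smul' s n := rfl

lemma toTensorQuot_surjective (p : Ideal R) :
    Function.Surjective (toTensorQuot (S := S) (N := N) p) := by
  intro z
  induction z with
  | zero => exact ⟨0, map_zero _⟩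
  | add x y hx hy =>
    obtain ⟨a, rfl⟩ := hx
    obtain ⟨b, rfl⟩ := hy
    exact ⟨a + b, map_add _ _ _⟩
  | tmul n m =>
    obtain ⟨r, rfl⟩ := Ideal.Quotient.mk_surjective m
    refine ⟨r • n, ?_⟩
    show (r • n) ⊗ₜ[R] (1 : R ⧸ p) = n ⊗ₜ[R] (Ideal.Quotient.mk p r)
    rw [TensorProduct.smul_tmul]
    congr 1
    rw [Algebra.smul_def, mul_one, Ideal.Quotient.algebraMap_eq]

lemma ker_toTensorQuot (p : Ideal R) :
    LinearMap.ker (toTensorQuot (S := S) (N := N) p) =
      p.map (algebraMap R S) • (⊤ : Submodule S N) := by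
  apply le_antisymm
  · intro n hn
    have h0 : n ⊗ₜ[R] (1 : R ⧸ p) = 0 := hn
    have h1 : (Submodule.Quotient.mk n : N ⧸ (p • (⊤ : Submodule R N))) = 0 := by
      have := congrArg (TensorProduct.tensorQuotEquivQuotSMul N p) h0
      rw [map_zero, ← map_one (Ideal.Quotient.mk p),
        TensorProduct.tensorQuotEquivQuotSMul_tmul_mk, one_smul] at this
      exact this
    rw [Submodule.Quotient.mk_eq_zero] at h1
    have hle : p • (⊤ : Submodule R N) ≤
        (p.map (algebraMap R S) • (⊤ : Submodule S N)).restrictScalars R := by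
      rw [Submodule.smul_le]
      intro a ha x _
      rw [Submodule.restrictScalars_mem, ← algebraMap_smul S a x]
      exact Submodule.smul_mem_smul (Ideal.mem_map_of_mem _ ha) Submodule.mem_top
    exact hle h1
  · rw [Submodule.smul_le]
    intro r hr n _
    rw [LinearMap.mem_ker, map_smul]
    have hle : p.map (algebraMap R S) ≤
        (⊥ : Submodule S (N ⊗[R] (R ⧸ p))).colon {toTensorQuot (S := S) (N := N) p n} := by
      rw [Ideal.map_le_iff_le_comap]
      intro a ha
      rw [Ideal.mem_comap, Submodule.mem_colon_singleton, Submodule.mem_bot,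
        algebraMap_smul_tensor]
      exact smul_quot_eq_zero p a ha _
    have := hle hr
    rwa [Submodule.mem_colon_singleton, Submodule.mem_bot] at this

/-- `N / pN ≃ N ⊗ R/p`, `S`-linearly -/
noncomputable def quotEquivTensorQuot (p : Ideal R) :
    (N ⧸ p.map (algebraMap R S) • (⊤ : Submodule S N)) ≃ₗ[S] N ⊗[R] (R ⧸ p) :=
  (Submodule.quotEquivOfEq _ _ (ker_toTensorQuot (S := S) (N := N) p).symm).trans
    ((toTensorQuot (S := S) (N := N) p).quotKerEquivOfSurjective (toTensorQuot_surjective p))

lemma ass_quot_eq (p : Ideal R) :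
    associatedPrimes S (N ⧸ p.map (algebraMap R S) • (⊤ : Submodule S N)) =
      associatedPrimes S (N ⊗[R] (R ⧸ p)) :=
  LinearEquiv.AssociatedPrimes.eq (quotEquivTensorQuot (S := S) (N := N) p)

/-- dévissage: every associated prime `P` of `N ⊗ W` (`W` finite) is associated to
`N ⊗ R/(P ∩ R)` -/
lemma ass_tensor_finite [IsNoetherianRing R] [Module.Flat R N] (W : Type u) [AddCommGroup W]
    [Module R W] [hfin : Module.Finite R W] :
    ∀ P ∈ associatedPrimes S (N ⊗[R] W),
      P ∈ associatedPrimes S (N ⊗[R] (R ⧸ P.comap (algebraMap R S))) := by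
  induction hfin using IsNoetherianRing.induction_on_isQuotientEquivQuotientPrime R with
  | subsingleton W =>
    intro P hP
    rw [associatedPrimes.eq_empty_of_subsingleton] at hP
    exact absurd hP (Set.notMem_empty P)
  | quotient W p e =>
    intro P hP
    haveI := p.2
    have hP' : P ∈ associatedPrimes S (N ⊗[R] (R ⧸ p.1)) :=
      ass_subset_of_injective (S := S) (N := N) e.toLinearMap e.injective hP
    have hc := comap_eq_of_mem_ass p.1 P hP'
    rw [hc]
    exact hP'
  | exact W₁ W₂ W₃ f g hf _ hfg h₁ h₃ =>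
    intro P hP
    rcases ass_subset_union (S := S) (N := N) f g hf hfg hP with h | h
    · exact h₁ P h
    · exact h₃ P h

/-- reduction to a finitely generated submodule -/
lemma exists_fg_submodule [Module.Flat R N] {M : Type u} [AddCommGroup M] [Module R M]
    (P : Ideal S) (hP : P ∈ associatedPrimes S (N ⊗[R] M)) :
    ∃ M' : Submodule R M, M'.FG ∧ P ∈ associatedPrimes S (N ⊗[R] M') := by
  obtain ⟨hPprime, ξ, hξ⟩ := hP
  obtain ⟨M', hfin, hsub⟩ :=
    TensorProduct.exists_finite_submodule_right_of_setFinite ({ξ} : Set (N ⊗[R] M))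
      (Set.finite_singleton ξ)
  obtain ⟨ξ', hξ'⟩ := hsub (Set.mem_singleton ξ)
  have hξ'' : lT (S := S) (N := N) M'.subtype ξ' = ξ := hξ'
  have hinj := lT_injective (S := S) (N := N) M'.subtype M'.injective_subtype
  refine ⟨M', Module.Finite.iff_fg.mp hfin, hPprime, ξ', ?_⟩
  rw [hξ]
  congr 1
  ext b
  rw [Submodule.mem_colon_singleton, Submodule.mem_colon_singleton, Submodule.mem_bot,
    Submodule.mem_bot, ← hξ'', ← map_smul]
  exact ⟨fun h => hinj (by rw [h, map_zero]), fun h => by rw [h, map_zero]⟩

lemma exists_smul_eq_zero_of_fg (p : Ideal R) [hp : p.IsPrime] {M : Type*} [AddCommGroup M]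
    [Module R M] (t : Finset M) (h : ∀ w ∈ t, ∃ s : R, s ∉ p ∧ s • w = 0) :
    ∃ s : R, s ∉ p ∧ ∀ w ∈ Submodule.span R (t : Set M), s • w = 0 := by
  classical
  induction t using Finset.induction_on with
  | empty =>
    refine ⟨1, fun h1 => hp.ne_top ((Ideal.eq_top_iff_one _).mpr h1), fun w hw => ?_⟩
    simp only [Finset.coe_empty, Submodule.span_empty, Submodule.mem_bot] at hw
    rw [hw, smul_zero]
  | insert a t hat ih =>
    obtain ⟨s₁, hs₁, h₁⟩ := h a (Finset.mem_insert_self a t)
    obtain ⟨s₂, hs₂, h₂⟩ := ih (fun w hw => h w (Finset.mem_insert_of_mem hw))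
    refine ⟨s₁ * s₂, fun hmem => (hp.mem_or_mem hmem).elim hs₁ hs₂, fun w hw => ?_⟩
    rw [Finset.coe_insert, Submodule.mem_span_insert] at hw
    obtain ⟨c, v, hv, rfl⟩ := hw
    have e1 : (s₁ * s₂) • c • a = (s₂ * c) • (s₁ • a) := by
      rw [smul_smul, smul_smul]
      ring_nf
    rw [smul_add, e1, h₁, smul_zero, zero_add, mul_smul, h₂ v hv, smul_zero]

/-- the contraction of an associated prime of `N ⊗ M` is associated to `M` -/
lemma comap_mem_ass [IsNoetherianRing R] [Module.Flat R N] {M : Type u} [AddCommGroup M]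
    [Module R M] [Module.Finite R M] (P : Ideal S) (hP : P ∈ associatedPrimes S (N ⊗[R] M)) :
    P.comap (algebraMap R S) ∈ associatedPrimes R M := by
  classical
  obtain ⟨hPprime, ξ, hξ⟩ := hP
  set p := P.comap (algebraMap R S) with hp_def
  haveI hp : p.IsPrime := Ideal.comap_isPrime _ _
  -- Step 1: a power of `p` kills `ξ`
  have hrad : p ≤ ((⊥ : Submodule R (N ⊗[R] M)).colon {ξ}).radical := by
    intro a ha
    have ha' : algebraMap R S a ∈ P := ha
    rw [hξ] at ha'
    obtain ⟨k, hk⟩ := ha'
    refine ⟨k, ?_⟩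
    rw [Submodule.mem_colon_singleton, Submodule.mem_bot] at hk ⊢
    rw [← map_pow, algebraMap_smul_tensor] at hk
    exact hk
  obtain ⟨n, hn⟩ := Ideal.exists_pow_le_of_le_radical_of_fg hrad (IsNoetherian.noetherian p)
  have hkill : ∀ c ∈ p ^ n, c • ξ = 0 := by
    intro c hc
    have := hn hc
    rwa [Submodule.mem_colon_singleton, Submodule.mem_bot] at this
  -- Step 2: `ξ` comes from `N ⊗ M[p^n]`
  obtain ⟨t, ht⟩ := (IsNoetherian.noetherian (p ^ n) : (p ^ n).FG)
  let φ : M →ₗ[R] (t → M) := LinearMap.pi (fun c : t => LinearMap.lsmul R M (c : R))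
  let K := LinearMap.ker φ
  have hK : ∀ m ∈ K, ∀ c ∈ p ^ n, c • m = 0 := by
    intro m hm c hc
    rw [← ht] at hc
    induction hc using Submodule.span_induction with
    | mem x hx =>
      have := congrFun (LinearMap.mem_ker.mp hm) ⟨x, hx⟩
      exact this
    | zero => simp
    | add x y _ _ hx hy => rw [add_smul, hx, hy, add_zero]
    | smul r x _ hx => rw [smul_eq_mul, mul_smul, hx, smul_zero]
  have hφξ : φ.lTensor N ξ = 0 := by
    apply (TensorProduct.piRight R S N (fun _ : t => M)).injective
    rw [map_zero]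
    funext c
    have key : ∀ z : N ⊗[R] M,
        (TensorProduct.piRight R S N (fun _ : t => M)) (φ.lTensor N z) c = (c : R) • z := by
      intro z
      induction z with
      | zero => simp
      | add x y hx hy => rw [map_add, map_add, Pi.add_apply, hx, hy, smul_add]
      | tmul a m =>
        rw [LinearMap.lTensor_tmul, TensorProduct.piRight_apply, TensorProduct.piRightHom_tmul]
        show a ⊗ₜ[R] ((c : R) • m) = _
        rw [TensorProduct.tmul_smul]
    rw [key]
    exact hkill c (ht ▸ Submodule.subset_span c.2)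
  have hex : Function.Exact (K.subtype.lTensor N) (φ.lTensor N) :=
    Module.Flat.lTensor_exact N (LinearMap.exact_subtype_ker_map φ)
  obtain ⟨ξ₁, hξ₁⟩ := (hex ξ).mp hφξ
  -- Step 3: `K` is finitely generated; find an element not killed by `R ∖ p`
  haveI : IsNoetherian R M := isNoetherian_of_isNoetherianRing_of_finite R M
  obtain ⟨t', ht'⟩ := (IsNoetherian.noetherian K : K.FG)
  have hex2 : ∃ w ∈ t', ∀ s : R, s ∉ p → s • w ≠ 0 := by
    by_contra hcon
    push_neg at hcon
    obtain ⟨s, hs, hsK⟩ := exists_smul_eq_zero_of_fg p t' hcon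
    rw [ht'] at hsK
    have h1 : s • ξ₁ = 0 := by
      have : ∀ z : N ⊗[R] K, s • z = 0 := by
        intro z
        induction z with
        | zero => simp
        | add x y hx hy => rw [smul_add, hx, hy, add_zero]
        | tmul a m =>
          rw [← TensorProduct.tmul_smul]
          have : s • m = 0 := Subtype.ext (by simpa using hsK m m.2)
          rw [this, TensorProduct.tmul_zero]
      exact this ξ₁
    have h2 : s • ξ = 0 := by rw [← hξ₁, ← map_smul, h1, map_zero]
    apply hs
    show algebraMap R S s ∈ P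
    rw [hξ]
    apply Ideal.le_radical
    rw [Submodule.mem_colon_singleton, Submodule.mem_bot, algebraMap_smul_tensor]
    exact h2
  obtain ⟨w, hwt, hw⟩ := hex2
  have hwK : w ∈ K := ht' ▸ Submodule.subset_span hwt
  refine ⟨hp, w, ?_⟩
  apply le_antisymm
  · intro a ha
    refine ⟨n, ?_⟩
    rw [Submodule.mem_colon_singleton, Submodule.mem_bot]
    exact hK w hwK _ (Ideal.pow_mem_pow ha n)
  · rintro a ⟨k, hk⟩
    rw [Submodule.mem_colon_singleton, Submodule.mem_bot] at hk
    by_contra hap
    exact hw (a ^ k) (fun h => hap (hp.mem_of_pow_mem k h)) hk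

end helpers

end Groth.Agent.S2069

namespace Groth.Agent.S2069

open TensorProduct in
/-- Let `R → S` be a ring map, `M` an `R`-module and `N` an `S`-module flat over `R`. Then a prime of
`S` is associated to `N ⊗_R M` if and only if it is associated to `N/𝔭N` for some prime `𝔭` of `R`
associated to `M`. -/
theorem result {R S M N : Type u} [CommRing R] [IsNoetherianRing R] [CommRing S]
    [Algebra R S] [AddCommGroup M] [Module R M] [AddCommGroup N] [Module S N] [Module R N]
    [IsScalarTower R S N] [Module.Flat R N] :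
    associatedPrimes S (N ⊗[R] M) =
      ⋃ p ∈ associatedPrimes R M, associatedPrimes S (N ⧸ p.map (algebraMap R S) • (⊤ : Submodule S N)) := by
  ext P
  simp only [Set.mem_iUnion]
  constructor
  · intro hP
    obtain ⟨M', hfg, hP'⟩ := exists_fg_submodule P hP
    haveI : Module.Finite R M' := Module.Finite.iff_fg.mpr hfg
    refine ⟨P.comap (algebraMap R S), ?_, ?_⟩
    · exact associatedPrimes.subset_of_injective M'.injective_subtype (comap_mem_ass P hP')
    · rw [ass_quot_eq]
      exact ass_tensor_finite M' P hP'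
  · rintro ⟨p, hp, hP⟩
    rw [ass_quot_eq] at hP
    obtain ⟨hpp, f, hf⟩ := (isAssociatedPrime_iff_exists_injective_linearMap p M).mp hp
    exact ass_subset_of_injective f hf hP

end Groth.Agent.S2069
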