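import Groth.Statements.S2211
import Mathlib.NumberTheory.Padics.PadicVal.Basic
import Mathlib.Combinatorics.Enumerative.Bell
-- import your own Groth.Agent.* helpers here

set_option autoImplicit false
universe u
open DPow

namespace Groth.Agent.S2211

theorem not_dvd_uniformBell (p : ℕ) (hp : p.Prime) (m : ℕ) : ¬ p ∣ Nat.uniformBell m p := by
  have : Fact p.Prime := ⟨hp⟩
  have h := Nat.uniformBell_mul_eq m hp.ne_zero
  have hne : Nat.uniformBell m p ≠ 0 := by
    intro h0
    rw [h0] at h
    simp at h
    exact (Nat.factorial_ne_zero _ h.symm)
  have h1 : padicValNat p (p.factorial) = 1 := by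
    have := padicValNat_factorial_mul (p := p) 1
    simpa using this
  have h2 := congrArg (padicValNat p) h
  rw [padicValNat.mul (mul_ne_zero hne (pow_ne_zero _ (Nat.factorial_ne_zero _)))
    (Nat.factorial_ne_zero _), padicValNat.mul hne (pow_ne_zero _ (Nat.factorial_ne_zero _)),
    padicValNat.pow, h1, mul_comm m p, padicValNat_factorial_mul] at h2
  have h3 : padicValNat p (Nat.uniformBell m p) = 0 := by omega
  rcases padicValNat.eq_zero_iff.mp h3 with h | h | h
  · exact absurd h hp.one_lt.ne'
  · exact absurd h hne
  · exact h

/-- First part: let p be a prime and A a ring in which every integer prime to p is invertible, I an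
ideal of A. Two divided power structures on I coincide exactly when their p-th divided power maps
agree on I. -/
theorem result {A : Type u} [CommRing A] (p : ℕ) (hp : p.Prime)
    (hA : ∀ n : ℕ, ¬ p ∣ n → IsUnit (n : A)) {I : Ideal A} (γ γ' : DividedPowers I) :
    γ = γ' ↔ ∀ x ∈ I, γ.dpow p x = γ'.dpow p x := by
  constructor
  · rintro rfl x _
    rfl
  · intro h
    have key : ∀ n : ℕ, ∀ x ∈ I, γ.dpow n x = γ'.dpow n x := by
      intro n
      induction n using Nat.strong_induction_on with
      | _ n ih =>
        intro x hx
        rcases Nat.eq_zero_or_pos n with rfl | hn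
        · rw [γ.dpow_zero hx, γ'.dpow_zero hx]
        by_cases hpn : p ∣ n
        · obtain ⟨m, rfl⟩ := hpn
          have hm : 0 < m := Nat.pos_of_mul_pos_left hn |> fun h => by
            rcases Nat.eq_zero_or_pos m with rfl | h'
            · simp at hn
            · exact h'
          have hlt : m < p * m := by
            have := hp.two_le
            nlinarith
          have e1 := γ.dpow_comp (m := m) hp.ne_zero hx
          have e2 := γ'.dpow_comp (m := m) hp.ne_zero hx
          have hu := hA _ (not_dvd_uniformBell p hp m)
          rw [h x hx, ih m hlt _ (γ'.dpow_mem hp.ne_zero hx), e2] at e1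
          rw [mul_comm p m]
          exact (hu.mul_right_inj.mp e1).symm
        · have hu := hA _ hpn
          have e1 := γ.mul_dpow (m := 1) (n := n - 1) hx
          have e2 := γ'.mul_dpow (m := 1) (n := n - 1) hx
          have hn1 : 1 + (n - 1) = n := by omega
          rw [hn1, γ.dpow_one hx, Nat.choose_one_right] at e1
          rw [hn1, γ'.dpow_one hx, Nat.choose_one_right] at e2
          rw [ih (n - 1) (by omega) x hx, e2] at e1
          exact (hu.mul_right_inj.mp e1).symm
    ext n x
    by_cases hx : x ∈ I
    · exact key n x hx
    · rw [γ.dpow_null hx, γ'.dpow_null hx]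

end Groth.Agent.S2211
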