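import Groth.Statements.S3818
import Groth.Agent.S2809
import Mathlib.Algebra.Order.Antidiag.Pi

set_option autoImplicit false
universe u
open scoped TensorProduct
open scoped BigOperators
open PP16

namespace Groth.Agent.S3818

set_option linter.unusedSectionVars false

open Groth.Agent.S2809

section Helpers

variable {A B : Type u} [CommRing A] [CommRing B] [Algebra A B]
variable {ι : Type} [Fintype ι] [DecidableEq ι] (z : ι → B)

/-- the monomial `z^r` -/
noncomputable abbrev monI (r : ι → ℕ) : B := ∏ i, z i ^ r i

lemma monI_zero : monI z 0 = 1 := by simp [monI]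

lemma monI_single (i : ι) : monI z (Pi.single i 1) = z i := by
  rw [monI, Finset.prod_eq_single i]
  · simp
  · intro j _ hj
    simp [Pi.single_eq_of_ne hj]
  · intro h; exact absurd (Finset.mem_univ i) h

lemma monI_add (r s : ι → ℕ) : monI z (r + s) = monI z r * monI z s := by
  simp only [monI, Pi.add_apply, pow_add, Finset.prod_mul_distrib]

lemma comm_eq_zero_of_DO_zero {D : B →ₗ[A] B} (hD : DO 0 D) (b : B) : comm D b = 0 := by
  ext m
  rw [comm_apply, (DO_zero_iff D).mp hD b m, sub_self, LinearMap.zero_apply]

/-- an operator of order `≤ 1` commuting with all `z i` is `B`-linear -/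
lemma DO_zero_of_DO_one
    (hz : Submodule.span B (Set.range fun i => KaehlerDifferential.D A B (z i)) = ⊤)
    {D : B →ₗ[A] B} (hD : DO 1 D) (hzi : ∀ i, comm D (z i) = 0) : DO 0 D := by
  have hleib : ∀ b c : B, D (b * c) = b * D c + c * D b - b * c * D 1 := by
    intro b c
    have h := (DO_zero_iff _).mp (hD b) c 1
    rw [comm_apply, comm_apply, mul_one, mul_one] at h
    linear_combination h
  let δl : B →ₗ[A] B := D - LinearMap.mulRight A (D 1)
  have hδl : ∀ b, δl b = D b - b * D 1 := fun b => rfl
  let δ : Derivation A B B := Derivation.mk' δl (by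
    intro a b
    rw [hδl, hδl, hδl, hleib a b, smul_eq_mul, smul_eq_mul]; ring)
  have hL : δ.liftKaehlerDifferential = 0 := by
    apply LinearMap.ext_on_range hz
    intro i
    rw [Derivation.liftKaehlerDifferential_comp_D, LinearMap.zero_apply]
    change D (z i) - z i * D 1 = 0
    have := LinearMap.congr_fun (hzi i) 1
    rw [comm_apply, mul_one, LinearMap.zero_apply] at this
    exact this
  have hδ : ∀ b, D b = b * D 1 := by
    intro b
    have := Derivation.liftKaehlerDifferential_comp_D δ b
    rw [hL, LinearMap.zero_apply] at this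
    have h2 : δ b = D b - b * D 1 := rfl
    rw [h2] at this
    exact sub_eq_zero.mp this.symm
  refine (DO_zero_iff D).mpr fun b m => ?_
  rw [hδ (b * m), hδ m, mul_assoc]

theorem key'
    (hz : Submodule.span B (Set.range fun i => KaehlerDifferential.D A B (z i)) = ⊤)
    (N : ℕ) (D : B →ₗ[A] B) (hD : DO N D) (hmon : ∀ r : ι → ℕ, D (monI z r) = 0) : D = 0 := by
  induction N generalizing D with
  | zero =>
    ext b
    have h1 := (DO_zero_iff D).mp hD b 1
    have h2 := hmon 0
    rw [monI_zero] at h2
    rw [mul_one, h2, mul_zero] at h1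
    simpa using h1
  | succ N ih =>
    have hzi : ∀ i, comm D (z i) = 0 := by
      intro i
      apply ih _ (hD (z i))
      intro r
      rw [comm_apply, hmon r, mul_zero, sub_zero, ← monI_single z i, ← monI_add, hmon]
    have hcomm_z : ∀ i m, D (z i * m) = z i * D m := by
      intro i m
      have := LinearMap.congr_fun (hzi i) m
      rw [comm_apply, LinearMap.zero_apply, sub_eq_zero] at this
      exact this
    let S : Submonoid B :=
      { carrier := {s | ∀ m, D (s * m) = s * D m}
        one_mem' := by intro m; simp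
        mul_mem' := by
          intro s t hs ht m
          rw [mul_assoc, hs, ht, mul_assoc] }
    have hmonS : ∀ r : ι → ℕ, monI z r ∈ S := by
      intro r
      apply Submonoid.prod_mem
      intro i _
      exact Submonoid.pow_mem S (show z i ∈ S from hcomm_z i) _
    have hder : ∀ b m, D (b * m) = b * D m + D b * m := by
      intro b m
      have hE : comm D b - mulOp (D b) = 0 := by
        apply ih _ (DO_sub (hD b) (DO_mulOp N (D b)))
        intro r
        rw [LinearMap.sub_apply, comm_apply, mulOp_apply, hmon r, mul_zero, sub_zero,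
          mul_comm b, hmonS r b, mul_comm, sub_self]
      have := LinearMap.congr_fun hE m
      rw [LinearMap.sub_apply, comm_apply, mulOp_apply, LinearMap.zero_apply, sub_eq_zero] at this
      rw [← this]; ring
    let δ : Derivation A B B := Derivation.mk' D (by
      intro a b
      rw [hder a b, smul_eq_mul, smul_eq_mul]; ring)
    have hL : δ.liftKaehlerDifferential = 0 := by
      apply LinearMap.ext_on_range hz
      intro i
      rw [Derivation.liftKaehlerDifferential_comp_D, LinearMap.zero_apply]
      change D (z i) = 0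
      rw [← monI_single z i, hmon]
    ext x
    have := Derivation.liftKaehlerDifferential_comp_D δ x
    rw [hL, LinearMap.zero_apply] at this
    rw [LinearMap.zero_apply]
    exact this.symm

end Helpers

section IC

variable {A B : Type u} [CommRing A] [CommRing B] [Algebra A B]
variable {ι : Type} [Fintype ι] [DecidableEq ι] (z : ι → B)

lemma comm_comm (D : B →ₗ[A] B) (b c : B) : comm (comm D b) c = comm (comm D c) b := by
  ext m
  simp only [comm_apply]
  rw [mul_left_comm c b m]
  ring

lemma comm_smul (c : B) (D : B →ₗ[A] B) (b : B) : comm (c • D) b = c • comm D b := by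
  ext m
  simp only [comm_apply, LinearMap.smul_apply, smul_eq_mul]
  ring

instance rc : RightCommutative (fun (E : B →ₗ[A] B) (i : ι) => comm E (z i)) :=
  ⟨fun E i j => comm_comm E (z i) (z j)⟩

/-- iterated commutator with the `z i`, `i` running through a multiset -/
noncomputable def ic (D : B →ₗ[A] B) (s : Multiset ι) : B →ₗ[A] B :=
  s.foldl (fun E i => comm E (z i)) D

@[simp] lemma ic_zero (D : B →ₗ[A] B) : ic z D 0 = D := Multiset.foldl_zero _ _

lemma ic_cons (D : B →ₗ[A] B) (i : ι) (s : Multiset ι) :
    ic z D (i ::ₘ s) = ic z (comm D (z i)) s := Multiset.foldl_cons _ _ _ _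

lemma comm_ic (D : B →ₗ[A] B) (s : Multiset ι) (b : B) :
    comm (ic z D s) b = ic z (comm D b) s := by
  induction s using Multiset.induction_on generalizing D with
  | empty => simp
  | cons i s ih => rw [ic_cons, ic_cons, ih, comm_comm]

lemma ic_cons' (D : B →ₗ[A] B) (i : ι) (s : Multiset ι) :
    ic z D (i ::ₘ s) = comm (ic z D s) (z i) := by
  rw [ic_cons, comm_ic]

lemma ic_zero_op (s : Multiset ι) : ic z (0 : B →ₗ[A] B) s = 0 := by
  induction s using Multiset.induction_on with
  | empty => simp
  | cons i s ih => rw [ic_cons, comm_zero, ih]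

lemma ic_add (D E : B →ₗ[A] B) (s : Multiset ι) : ic z (D + E) s = ic z D s + ic z E s := by
  induction s using Multiset.induction_on generalizing D E with
  | empty => simp
  | cons i s ih => rw [ic_cons, ic_cons, ic_cons, comm_add, ih]

lemma ic_sub (D E : B →ₗ[A] B) (s : Multiset ι) : ic z (D - E) s = ic z D s - ic z E s := by
  induction s using Multiset.induction_on generalizing D E with
  | empty => simp
  | cons i s ih => rw [ic_cons, ic_cons, ic_cons, comm_sub, ih]

lemma ic_smul (c : B) (D : B →ₗ[A] B) (s : Multiset ι) : ic z (c • D) s = c • ic z D s := by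
  induction s using Multiset.induction_on generalizing D with
  | empty => simp
  | cons i s ih => rw [ic_cons, ic_cons, comm_smul, ih]

lemma ic_sum {κ : Type*} (t : Finset κ) (F : κ → (B →ₗ[A] B)) (s : Multiset ι) :
    ic z (∑ x ∈ t, F x) s = ∑ x ∈ t, ic z (F x) s := by
  classical
  induction t using Finset.induction_on with
  | empty => simp [ic_zero_op]
  | insert a t ha ih => rw [Finset.sum_insert ha, Finset.sum_insert ha, ic_add, ih]

lemma DO_ic {k : ℕ} {D : B →ₗ[A] B} (s : Multiset ι) (hD : DO (k + Multiset.card s) D) :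
    DO k (ic z D s) := by
  induction s using Multiset.induction_on generalizing D with
  | empty => simpa using hD
  | cons i s ih =>
    rw [ic_cons]
    apply ih
    rw [Multiset.card_cons, ← add_assoc] at hD
    exact hD (z i)

/-- order reduction -/
theorem DO_pred_of_ic
    (hz : Submodule.span B (Set.range fun i => KaehlerDifferential.D A B (z i)) = ⊤)
    (k : ℕ) {D : B →ₗ[A] B} (hD : DO (k + 1) D)
    (hic : ∀ s : Multiset ι, Multiset.card s = k + 1 → ic z D s = 0) : DO k D := by
  induction k generalizing D with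
  | zero =>
    apply DO_zero_of_DO_one z hz hD
    intro i
    have := hic {i} (by simp)
    rwa [← Multiset.cons_zero, ic_cons, ic_zero] at this
  | succ k ih =>
    intro b
    apply ih (hD b)
    intro s hs
    rw [← comm_ic]
    apply comm_eq_zero_of_DO_zero
    apply DO_zero_of_DO_one z hz
    · apply DO_ic
      rw [hs, add_comm]
      exact hD
    · intro i
      rw [← ic_cons']
      apply hic
      rw [Multiset.card_cons, hs]

end IC

section DP

variable {A B : Type u} [CommRing A] [CommRing B] [Algebra A B]
variable {ι : Type} [Fintype ι] [DecidableEq ι] (z : ι → B)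

/-- the part of the value of `D_p` on `z^q` away from the index `i` -/
noncomputable def rest (i : ι) (p q : ι → ℕ) : B :=
  ((∏ j ∈ Finset.univ.erase i, (q j).choose (p j) : ℕ) : B) *
    ∏ j ∈ Finset.univ.erase i, z j ^ (q j - p j)

lemma rest_congr (i : ι) {p q p' q' : ι → ℕ} (hp : ∀ j, j ≠ i → p j = p' j)
    (hq : ∀ j, j ≠ i → q j = q' j) : rest z i p q = rest z i p' q' := by
  unfold rest
  have h1 : ∏ j ∈ Finset.univ.erase i, (q j).choose (p j) =
      ∏ j ∈ Finset.univ.erase i, (q' j).choose (p' j) := by
    refine Finset.prod_congr rfl fun j hj => ?_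
    rw [hp j (Finset.ne_of_mem_erase hj), hq j (Finset.ne_of_mem_erase hj)]
  have h2 : ∏ j ∈ Finset.univ.erase i, z j ^ (q j - p j) =
      ∏ j ∈ Finset.univ.erase i, z j ^ (q' j - p' j) := by
    refine Finset.prod_congr rfl fun j hj => ?_
    rw [hp j (Finset.ne_of_mem_erase hj), hq j (Finset.ne_of_mem_erase hj)]
  rw [h1, h2]

lemma value_split (i : ι) (p q : ι → ℕ) :
    ((∏ j, (q j).choose (p j) : ℕ) : B) * ∏ j, z j ^ (q j - p j) =
      ((q i).choose (p i) : B) * z i ^ (q i - p i) * rest z i p q := by
  unfold rest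
  rw [← Finset.mul_prod_erase Finset.univ (fun j => (q j).choose (p j)) (Finset.mem_univ i),
    ← Finset.mul_prod_erase Finset.univ (fun j => z j ^ (q j - p j)) (Finset.mem_univ i)]
  push_cast
  ring

lemma pascal_z (x : B) (a b : ℕ) :
    ((a + 1).choose (b + 1) : B) * x ^ (a + 1 - (b + 1)) =
      (a.choose b : B) * x ^ (a - b) + x * ((a.choose (b + 1) : B) * x ^ (a - (b + 1))) := by
  rw [Nat.choose_succ_succ, Nat.add_sub_add_right]
  by_cases h : b + 1 ≤ a
  · have : a - b = (a - (b + 1)) + 1 := by omega
    rw [this, pow_succ]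
    push_cast
    ring
  · have hlt : a < b + 1 := by omega
    rw [Nat.choose_eq_zero_of_lt hlt]
    simp

variable (Dp : (ι → ℕ) → (B →ₗ[A] B))

lemma z_mul_monI (i : ι) (r : ι → ℕ) : z i * monI z r = monI z (r + Pi.single i 1) := by
  rw [monI_add, monI_single, mul_comm]

lemma comm_Dp_succ
    (hz : Submodule.span B (Set.range fun i => KaehlerDifferential.D A B (z i)) = ⊤)
    (hD : ∀ p, ∃ k : ℕ, DO k (Dp p))
    (hDz : ∀ p q : ι → ℕ, Dp p (∏ i, z i ^ q i) =
        ((∏ i, Nat.choose (q i) (p i) : ℕ) : B) * ∏ i, z i ^ (q i - p i))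
    (p : ι → ℕ) (i : ι) : comm (Dp (p + Pi.single i 1)) (z i) = Dp p := by
  obtain ⟨k1, hk1⟩ := hD (p + Pi.single i 1)
  obtain ⟨k2, hk2⟩ := hD p
  have h1 : DO (max k1 k2) (comm (Dp (p + Pi.single i 1)) (z i)) :=
    DO_le (le_max_left k1 k2) ((DO_mono hk1) (z i))
  have h2 : DO (max k1 k2) (Dp p) := DO_le (le_max_right k1 k2) hk2
  have h0 : comm (Dp (p + Pi.single i 1)) (z i) - Dp p = 0 := by
    apply key' z hz _ _ (DO_sub h1 h2)
    intro r
    rw [LinearMap.sub_apply, comm_apply, z_mul_monI, hDz, hDz, hDz, value_split z i, value_split z i,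
      value_split z i p r]
    have e1 : rest z i (p + Pi.single i 1) (r + Pi.single i 1) = rest z i p r :=
      rest_congr z i (fun j hj => by simp [Pi.single_eq_of_ne hj])
        (fun j hj => by simp [Pi.single_eq_of_ne hj])
    have e2 : rest z i (p + Pi.single i 1) r = rest z i p r :=
      rest_congr z i (fun j hj => by simp [Pi.single_eq_of_ne hj]) (fun j hj => rfl)
    rw [e1, e2]
    simp only [Pi.add_apply, Pi.single_eq_same]
    rw [pascal_z]
    ring
  exact sub_eq_zero.mp h0

lemma comm_Dp_zero
    (hz : Submodule.span B (Set.range fun i => KaehlerDifferential.D A B (z i)) = ⊤)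
    (hD : ∀ p, ∃ k : ℕ, DO k (Dp p))
    (hDz : ∀ p q : ι → ℕ, Dp p (∏ i, z i ^ q i) =
        ((∏ i, Nat.choose (q i) (p i) : ℕ) : B) * ∏ i, z i ^ (q i - p i))
    (p : ι → ℕ) (i : ι) (hpi : p i = 0) : comm (Dp p) (z i) = 0 := by
  obtain ⟨k1, hk1⟩ := hD p
  apply key' z hz k1 _ ((DO_mono hk1) (z i))
  intro r
  rw [comm_apply, z_mul_monI, hDz, hDz, value_split z i, value_split z i p r]
  have e1 : rest z i p (r + Pi.single i 1) = rest z i p r :=
    rest_congr z i (fun j hj => rfl) (fun j hj => by simp [Pi.single_eq_of_ne hj])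
  rw [e1, hpi]
  simp only [Pi.add_apply, Pi.single_eq_same, Nat.choose_zero_right, Nat.sub_zero, pow_succ]
  ring

end DP

section Main

variable {A B : Type u} [CommRing A] [CommRing B] [Algebra A B]
variable {ι : Type} [Fintype ι] [DecidableEq ι] (z : ι → B)
variable (Dp : (ι → ℕ) → (B →ₗ[A] B))

lemma DO_id : DO 0 (LinearMap.id : B →ₗ[A] B) := by
  intro b m; simp

lemma DO_sum' {κ : Type*} (s : Finset κ) (n : ℕ) (F : κ → (B →ₗ[A] B)) (h : ∀ i ∈ s, DO n (F i)) :
    DO n (∑ i ∈ s, F i) := by
  classical
  induction s using Finset.induction_on with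
  | empty => simpa using DO_zero n
  | insert a s ha ih =>
    rw [Finset.sum_insert ha]
    exact DO_add (h a (Finset.mem_insert_self a s)) (ih fun i hi => h i (Finset.mem_insert_of_mem hi))

lemma exists_pred (p : ι → ℕ) (i : ι) (h : p i ≠ 0) : ∃ p' : ι → ℕ, p = p' + (Pi.single i 1 : ι → ℕ) := by
  refine ⟨Function.update p i (p i - 1), ?_⟩
  funext j
  by_cases hj : j = i
  · subst hj
    simp
    omega
  · simp [hj]

lemma sum_add_single (p : ι → ℕ) (i : ι) : ∑ j, (p + (Pi.single i 1 : ι → ℕ)) j = ∑ j, p j + 1 := by
  simp [Finset.sum_add_distrib]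

/-- the multiset attached to a multi-index -/
noncomputable def msOf (p : ι → ℕ) : Multiset ι := ∑ i, p i • ({i} : Multiset ι)

lemma count_msOf (p : ι → ℕ) (i : ι) : (msOf p).count i = p i := by
  unfold msOf
  rw [Multiset.count_sum']
  simp [Multiset.count_nsmul, Multiset.count_singleton]

lemma msOf_count (s : Multiset ι) : msOf (fun i => s.count i) = s := by
  ext a
  rw [count_msOf]

lemma sum_count (s : Multiset ι) : ∑ i, s.count i = Multiset.card s :=
  Multiset.sum_count_eq_card (fun a _ => Finset.mem_univ a)

lemma card_msOf (p : ι → ℕ) : Multiset.card (msOf p) = ∑ i, p i := by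
  rw [← sum_count]
  simp only [count_msOf]

variable (hz : Submodule.span B (Set.range fun i => KaehlerDifferential.D A B (z i)) = ⊤)
    (hD : ∀ p, ∃ k : ℕ, DO k (Dp p))
    (hDz : ∀ p q : ι → ℕ, Dp p (∏ i, z i ^ q i) =
        ((∏ i, Nat.choose (q i) (p i) : ℕ) : B) * ∏ i, z i ^ (q i - p i))

include hz hD hDz

lemma Dp_zero_eq_id : Dp 0 = LinearMap.id := by
  obtain ⟨k, hk⟩ := hD 0
  have : Dp 0 - LinearMap.id = 0 := by
    apply key' z hz k _ (DO_sub hk (DO_le (Nat.zero_le k) DO_id))
    intro r
    rw [LinearMap.sub_apply, hDz]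
    simp
  exact sub_eq_zero.mp this

lemma ic_Dp_of_lt (s : Multiset ι) (p : ι → ℕ) (h : ∑ i, p i < Multiset.card s) :
    ic z (Dp p) s = 0 := by
  induction s using Multiset.induction_on generalizing p with
  | empty => simp at h
  | cons i s ih =>
    rw [ic_cons]
    by_cases hpi : p i = 0
    · rw [comm_Dp_zero z Dp hz hD hDz p i hpi, ic_zero_op]
    · obtain ⟨p', rfl⟩ := exists_pred p i hpi
      rw [comm_Dp_succ z Dp hz hD hDz]
      apply ih
      rw [sum_add_single, Multiset.card_cons] at h
      omega

lemma ic_Dp_of_eq (s : Multiset ι) (p : ι → ℕ) (h : ∑ i, p i = Multiset.card s) :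
    ic z (Dp p) s = if p = (fun i => s.count i) then LinearMap.id else 0 := by
  induction s using Multiset.induction_on generalizing p with
  | empty =>
    have hp : p = 0 := by
      funext i
      have h' : ∑ i, p i = 0 := by simpa using h
      exact Finset.sum_eq_zero_iff.mp h' i (Finset.mem_univ i)
    subst hp
    rw [ic_zero, Dp_zero_eq_id z Dp hz hD hDz, if_pos]
    funext i
    simp
  | cons i s ih =>
    rw [ic_cons]
    by_cases hpi : p i = 0
    · rw [comm_Dp_zero z Dp hz hD hDz p i hpi, ic_zero_op, if_neg]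
      intro hp
      have := congrFun hp i
      simp only [Multiset.count_cons_self] at this
      omega
    · obtain ⟨p', rfl⟩ := exists_pred p i hpi
      rw [comm_Dp_succ z Dp hz hD hDz, ih p' (by
        rw [sum_add_single, Multiset.card_cons] at h
        omega)]
      refine if_congr ?_ rfl rfl
      constructor
      · rintro rfl
        funext j
        simp [Multiset.count_cons, Pi.single_apply]
      · intro h'
        funext j
        have := congrFun h' j
        simp only [Pi.add_apply, Multiset.count_cons, Pi.single_apply] at this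
        exact Nat.add_right_cancel this

lemma DO_Dp (p : ι → ℕ) : DO (∑ i, p i) (Dp p) := by
  obtain ⟨k, hk⟩ := hD p
  have hdesc : ∀ j, DO (∑ i, p i + j) (Dp p) → DO (∑ i, p i) (Dp p) := by
    intro j
    induction j with
    | zero => exact id
    | succ j ih =>
      intro h
      apply ih
      apply DO_pred_of_ic z hz (∑ i, p i + j) h
      intro s hs
      apply ic_Dp_of_lt z Dp hz hD hDz
      omega
  exact hdesc k (DO_le (Nat.le_add_left _ _) hk)

lemma exists_repr (m : ℕ) : ∀ D : B →ₗ[A] B, DO m D →
    ∃ a : (ι → ℕ) →₀ B, (∀ p ∈ a.support, ∑ i, p i ≤ m) ∧ D = a.sum fun p c => c • Dp p := by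
  induction m with
  | zero =>
    intro D hD0
    refine ⟨Finsupp.single 0 (D 1), ?_, ?_⟩
    · intro p hp
      have := Finsupp.support_single_subset hp
      rw [Finset.mem_singleton] at this
      subst this
      simp
    · rw [Finsupp.sum_single_index (by simp), Dp_zero_eq_id z Dp hz hD hDz]
      ext b
      have := (DO_zero_iff D).mp hD0 b 1
      rw [mul_one] at this
      simp [this, mul_comm]
  | succ m ih =>
    intro D hDm
    let T := Finset.piAntidiag (Finset.univ : Finset ι) (m + 1)
    have hT : ∀ p, p ∈ T ↔ ∑ i, p i = m + 1 := by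
      intro p
      simp [T]
    let c : (ι → ℕ) → B := fun p => ic z D (msOf p) 1
    let D' := D - ∑ p ∈ T, c p • Dp p
    have hD' : DO (m + 1) D' :=
      DO_sub hDm (DO_sum' _ _ _ fun p hp =>
        DO_smul _ (DO_le (le_of_eq ((hT p).mp hp)) (DO_Dp z Dp hz hD hDz p)))
    have hic : ∀ s : Multiset ι, Multiset.card s = m + 1 → ic z D' s = 0 := by
      intro s hs
      have hcs : (fun i => s.count i) ∈ T := by
        rw [hT, sum_count, hs]
      have h1 : ∀ p ∈ T, ic z (c p • Dp p) s =
          if p = (fun i => s.count i) then c p • LinearMap.id else 0 := by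
        intro p hp
        rw [ic_smul, ic_Dp_of_eq z Dp hz hD hDz s p (by rw [(hT p).mp hp, hs])]
        split_ifs <;> simp
      rw [ic_sub, ic_sum, Finset.sum_congr rfl h1, Finset.sum_ite_eq' T, if_pos hcs]
      have h0 : DO 0 (ic z D s) := by
        apply DO_ic
        rw [zero_add, hs]
        exact hDm
      ext b
      have := (DO_zero_iff _).mp h0 b 1
      rw [mul_one] at this
      simp only [LinearMap.sub_apply, LinearMap.smul_apply, LinearMap.id_apply, smul_eq_mul,
        LinearMap.zero_apply, c, msOf_count]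
      rw [this]
      ring
    have hDm' : DO m D' := DO_pred_of_ic z hz m hD' hic
    obtain ⟨a', ha's, ha'⟩ := ih D' hDm'
    let a'' : (ι → ℕ) →₀ B := Finsupp.onFinset T (fun p => if p ∈ T then c p else 0) (by
      intro p hp
      by_contra h
      simp [h] at hp)
    refine ⟨a' + a'', ?_, ?_⟩
    · intro p hp
      rcases Finset.mem_union.mp (Finsupp.support_add hp) with h | h
      · exact (ha's p h).trans (Nat.le_succ m)
      · exact le_of_eq ((hT p).mp (Finsupp.support_onFinset_subset h))
    · rw [Finsupp.sum_add_index' (fun p => by simp) (fun p b₁ b₂ => by rw [add_smul]), ← ha',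
        Finsupp.onFinset_sum _ (fun p => by simp)]
      have : ∑ p ∈ T, (if p ∈ T then c p else 0) • Dp p = ∑ p ∈ T, c p • Dp p :=
        Finset.sum_congr rfl fun p hp => by rw [if_pos hp]
      rw [this]
      simp [D']

lemma repr_unique (m : ℕ) (d : {p : ι → ℕ // ∑ i, p i ≤ m} →₀ B)
    (hd : (d.sum fun p c => c • Dp p.1) = 0) : d = 0 := by
  have key2 : ∀ n, ∀ q : {p : ι → ℕ // ∑ i, p i ≤ m}, ∑ i, q.1 i = n → d q = 0 := by
    intro n
    induction n using Nat.strong_induction_on with
    | _ n ih =>
      intro q hq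
      have h1 := LinearMap.congr_fun hd (monI z q.1)
      rw [Finsupp.sum, LinearMap.sum_apply, LinearMap.zero_apply] at h1
      rw [Finset.sum_eq_single q] at h1
      · rw [LinearMap.smul_apply, hDz] at h1
        simpa using h1
      · intro p _ hpq
        rw [LinearMap.smul_apply, hDz]
        by_cases hle : ∀ i, p.1 i ≤ q.1 i
        · have hne : p.1 ≠ q.1 := fun h => hpq (Subtype.ext h)
          have hex : ∃ i, p.1 i < q.1 i := by
            by_contra hcon
            push Not at hcon
            exact hne (funext fun i => le_antisymm (hle i) (hcon i))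
          have hlt : ∑ i, p.1 i < ∑ i, q.1 i :=
            Finset.sum_lt_sum (fun i _ => hle i) (by
              obtain ⟨i, hi⟩ := hex
              exact ⟨i, Finset.mem_univ i, hi⟩)
          rw [ih (∑ i, p.1 i) (by omega) p rfl, zero_smul]
        · push Not at hle
          obtain ⟨i, hi⟩ := hle
          have : ∏ j, (q.1 j).choose (p.1 j) = 0 :=
            Finset.prod_eq_zero (Finset.mem_univ i) (Nat.choose_eq_zero_of_lt hi)
          rw [this]
          simp
      · intro hq'
        rw [Finsupp.notMem_support_iff.mp hq', zero_smul, LinearMap.zero_apply]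
  ext q
  exact key2 _ q rfl

end Main


/-- Last assertion (affine form, finite family): let B be an A-algebra, z_1, …, z_r elements of B whose
differentials generate the module of differentials, and (D_p) a family of differential operators B →
B (each of some finite order) with D_p(z^q) = (∏ binom(q_i, p_i)) z^(q-p). Then D_p has order at
most |p|, and every differential operator B → B of order at most m relative to A can be written in
exactly one way as a B-linear combination ∑_{|p| ≤ m} a_p D_p. -/
theorem result (A B : Type u) [CommRing A] [CommRing B] [Algebra A B]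
    (ι : Type) [Fintype ι] [DecidableEq ι] (z : ι → B)
    (hz : Submodule.span B (Set.range fun i => KaehlerDifferential.D A B (z i)) = ⊤)
    (Dp : (ι → ℕ) → (B →ₗ[A] B)) (hD : ∀ p, ∃ k : ℕ, Diff16.IsDiffOpLE A B B B k (Dp p))
    (hDz : ∀ p q : ι → ℕ, Dp p (∏ i, z i ^ q i) =
        ((∏ i, Nat.choose (q i) (p i) : ℕ) : B) * ∏ i, z i ^ (q i - p i)) :
    (∀ p, Diff16.IsDiffOpLE A B B B (∑ i, p i) (Dp p)) ∧
      ∀ (m : ℕ) (D : B →ₗ[A] B), Diff16.IsDiffOpLE A B B B m D →
        ∃! a : {p : ι → ℕ // ∑ i, p i ≤ m} →₀ B, D = a.sum fun p c => c • Dp p.1 := by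
  refine ⟨DO_Dp z Dp hz hD hDz, ?_⟩
  intro m D hDm
  obtain ⟨a, has, ha⟩ := exists_repr z Dp hz hD hDz m D hDm
  have hsub : D = (a.subtypeDomain (fun p => ∑ i, p i ≤ m)).sum fun p c => c • Dp p.1 := by
    rw [ha]
    exact (Finsupp.sum_subtypeDomain_index (h := fun p c => c • Dp p) has).symm
  refine ⟨a.subtypeDomain (fun p => ∑ i, p i ≤ m), hsub, ?_⟩
  intro a' ha'
  have h0 : a' - a.subtypeDomain (fun p => ∑ i, p i ≤ m) = 0 := by
    apply repr_unique z Dp hz hD hDz m
    rw [Finsupp.sum_sub_index (fun p b₁ b₂ => by ext x; simp [sub_mul]), ← ha', ← hsub, sub_self]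
  exact sub_eq_zero.mp h0

end Groth.Agent.S3818
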