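import Groth.Statements.S1733
import Mathlib

set_option autoImplicit false
universe u
open LocCoh

namespace Groth.Agent.S1733

/-- Let f_1, …, f_r and g be elements of a ring (r ≥ 1). If the family f_1, …, f_{r-1}, f_r g is
independent (every linear relation has coefficients in the ideal the family generates), then f_1, …,
f_r is independent. -/
theorem result (A : Type u) [CommRing A] (r : ℕ) (f : Fin (r + 1) → A) (g : A) (h : Dual2.Independent (Function.update f (Fin.last r) (f (Fin.last r) * g))) : Dual2.Independent f := by
  classical
  set f' := Function.update f (Fin.last r) (f (Fin.last r) * g) with hf'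
  have hf'c : ∀ i : Fin r, f' i.castSucc = f i.castSucc := fun i => by
    rw [hf', Function.update_of_ne (Fin.castSucc_lt_last i).ne]
  have hf'l : f' (Fin.last r) = f (Fin.last r) * g := by rw [hf', Function.update_self]
  have hle : Ideal.span (Set.range f') ≤ Ideal.span (Set.range f) := by
    rw [Ideal.span_le]
    rintro _ ⟨j, rfl⟩
    induction j using Fin.lastCases with
    | last => rw [hf'l]; exact Ideal.mul_mem_right _ _ (Ideal.subset_span ⟨_, rfl⟩)
    | cast i => rw [hf'c]; exact Ideal.subset_span ⟨_, rfl⟩
  intro a ha
  rw [Fin.sum_univ_castSucc] at ha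
  -- Step 1: a last ∈ span f'
  have h1 : a (Fin.last r) ∈ Ideal.span (Set.range f') := by
    have := h (Function.update (fun j => a j * g) (Fin.last r) (a (Fin.last r))) (by
      rw [Fin.sum_univ_castSucc]
      simp only [Function.update_self, Function.update_of_ne (Fin.castSucc_lt_last _).ne, hf'c, hf'l]
      have : ∑ i : Fin r, a i.castSucc * g * f i.castSucc = g * ∑ i : Fin r, a i.castSucc * f i.castSucc := by
        rw [Finset.mul_sum]; exact Finset.sum_congr rfl (fun i _ => by ring)
      rw [this]
      linear_combination g * ha) (Fin.last r)
    rwa [Function.update_self] at this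
  obtain ⟨c, hc⟩ := (Ideal.mem_span_range_iff_exists_fun).1 h1
  rw [Fin.sum_univ_castSucc] at hc
  simp only [hf'c, hf'l] at hc
  -- Step 3
  have h3 := h (Function.update (fun j => a j + c j * f (Fin.last r)) (Fin.last r)
      (c (Fin.last r) * f (Fin.last r))) (by
      rw [Fin.sum_univ_castSucc]
      simp only [Function.update_self, Function.update_of_ne (Fin.castSucc_lt_last _).ne, hf'c, hf'l]
      have : ∑ i : Fin r, (a i.castSucc + c i.castSucc * f (Fin.last r)) * f i.castSucc
          = ∑ i : Fin r, a i.castSucc * f i.castSucc
            + f (Fin.last r) * ∑ i : Fin r, c i.castSucc * f i.castSucc := by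
        rw [Finset.mul_sum, ← Finset.sum_add_distrib]
        exact Finset.sum_congr rfl (fun i _ => by ring)
      rw [this]
      linear_combination ha + f (Fin.last r) * hc)
  intro j
  induction j using Fin.lastCases with
  | last => exact hle h1
  | cast i =>
    have := hle (h3 i.castSucc)
    rw [Function.update_of_ne (Fin.castSucc_lt_last i).ne] at this
    have h4 : c i.castSucc * f (Fin.last r) ∈ Ideal.span (Set.range f) :=
      Ideal.mul_mem_left _ _ (Ideal.subset_span ⟨_, rfl⟩)
    have := Ideal.sub_mem _ this h4
    simpa using this

end Groth.Agent.S1733
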