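import Groth.Statements.S2173
import Mathlib

set_option autoImplicit false
open Finset
open Models Models.NumericalType

namespace Groth.Agent.S2173

theorem even_diag {n : ℕ} (m : Fin n → ℤ) (a : Matrix (Fin n) (Fin n) ℤ) (hs : a.IsSymm)
    (h0 : a.mulVec m = 0) : (2 : ℤ) ∣ ∑ i, m i * a i i := by
  have hcast := (ZMod.intCast_zmod_eq_zero_iff_dvd (∑ i, m i * a i i) 2).mp
  apply hcast
  push_cast
  set M : Fin n → ZMod 2 := fun i => (m i : ZMod 2) with hM
  set A : Fin n → Fin n → ZMod 2 := fun i j => (a i j : ZMod 2) with hA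
  have hrow : ∀ i, ∑ j, A i j * M j = 0 := by
    intro i
    have := congrFun h0 i
    simp only [Matrix.mulVec, dotProduct, Pi.zero_apply] at this
    have h2 := congrArg (Int.cast : ℤ → ZMod 2) this
    push_cast at h2
    exact h2
  have hsymm : ∀ i j, A i j = A j i := by
    intro i j
    simp only [hA]
    rw [← hs.apply i j]
  have htot : ∑ p ∈ (Finset.univ : Finset (Fin n)) ×ˢ (Finset.univ : Finset (Fin n)),
      M p.1 * A p.1 p.2 * M p.2 = 0 := by
    rw [Finset.sum_product]
    refine Finset.sum_eq_zero fun i _ => ?_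
    have : ∑ j, M i * A i j * M j = M i * ∑ j, A i j * M j := by
      rw [Finset.mul_sum]; exact Finset.sum_congr rfl fun j _ => by ring
    rw [this, hrow, mul_zero]
  rw [← Finset.diag_union_offDiag, Finset.sum_union (Finset.disjoint_diag_offDiag _)] at htot
  have hoff : ∑ p ∈ (Finset.univ : Finset (Fin n)).offDiag, M p.1 * A p.1 p.2 * M p.2 = 0 := by
    refine Finset.sum_involution (fun p _ => (p.2, p.1)) ?_ ?_ ?_ ?_
    · intro p _
      simp only
      rw [hsymm p.2 p.1]
      have : ∀ z : ZMod 2, z + z = 0 := by decide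
      have e : M p.2 * A p.1 p.2 * M p.1 = M p.1 * A p.1 p.2 * M p.2 := by ring
      rw [e]; exact this _
    · intro p hp _ heq
      rw [Finset.mem_offDiag] at hp
      exact hp.2.2 (congrArg Prod.fst heq).symm
    · intro p hp
      rw [Finset.mem_offDiag] at hp ⊢
      exact ⟨hp.2.1, hp.1, hp.2.2.symm⟩
    · intro p _; rfl
  rw [hoff, add_zero, Finset.sum_diag] at htot
  have hsq : ∀ z : ZMod 2, z * z = z := by decide
  rw [← htot]
  refine Finset.sum_congr rfl fun i _ => ?_
  have : M i * A i i * M i = (M i * M i) * A i i := by ring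
  rw [this, hsq]

/-- For a numerical type the sum over i of m i * a i i is even; equivalently the rational number 1 + sum
m_i (w_i (g_i - 1) - a_ii / 2) defining the genus is an integer. -/
theorem result {n : ℕ} (T : Models.NumericalType n) : (2 : ℤ) ∣ ∑ i, T.m i * T.a i i := by
  exact even_diag T.m T.a T.symm T.mulVec_m

end Groth.Agent.S2173
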