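import Groth.Statements.S7316
import Mathlib.Tactic.Linarith
import Mathlib.Tactic.NormNum
import Mathlib.Algebra.Order.BigOperators.Group.Finset

set_option autoImplicit false
open Finset
open Models Models.NumericalType

namespace Groth.Agent.S7316

/-- for `n > 1`, every diagonal entry is negative, of the form `- k * w i` with `k ≥ 1`. -/
theorem diag_neg {n : ℕ} (T : Models.NumericalType n) (hn : 1 < n) (i : Fin n) :
    ∃ k : ℤ, 1 ≤ k ∧ T.a i i = -(k * T.w i) := by
  -- some off-diagonal entry in row i is positive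
  obtain ⟨i', hi', j, hj, hij⟩ := T.connected {i} (Finset.singleton_nonempty i) (by
    intro h
    have := congrArg Finset.card h
    rw [Finset.card_singleton, Finset.card_univ, Fintype.card_fin] at this
    omega)
  rw [Finset.mem_singleton] at hi' hj
  subst hi'
  have hji : j ≠ i' := hj
  have hpos : 0 < T.a i' j := lt_of_le_of_ne (T.offDiag_nonneg i' j (Ne.symm hji)) (Ne.symm hij)
  have hrow : ∑ l, T.a i' l * T.m l = 0 := by
    have := congrFun T.mulVec_m i'
    simpa [Matrix.mulVec, dotProduct] using this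
  have hsplit : ∑ l, T.a i' l * T.m l =
      T.a i' i' * T.m i' + ∑ l ∈ Finset.univ.erase i', T.a i' l * T.m l :=
    (Finset.add_sum_erase _ _ (Finset.mem_univ i')).symm
  have hrest : 0 < ∑ l ∈ Finset.univ.erase i', T.a i' l * T.m l := by
    apply Finset.sum_pos'
    · intro l hl
      exact mul_nonneg (T.offDiag_nonneg i' l (Finset.ne_of_mem_erase hl).symm) (T.m_pos l).le
    · exact ⟨j, Finset.mem_erase.mpr ⟨hji, Finset.mem_univ j⟩, mul_pos hpos (T.m_pos j)⟩
  have hneg : T.a i' i' * T.m i' < 0 := by linarith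
  have hneg' : T.a i' i' < 0 := by
    by_contra h
    push_neg at h
    have := mul_nonneg h (T.m_pos i').le
    linarith
  obtain ⟨c, hc⟩ := T.w_dvd i' i'
  refine ⟨-c, ?_, by rw [hc]; ring⟩
  have hw := T.w_pos i'
  by_contra h
  push_neg at h
  have hc0 : 0 ≤ c := by omega
  have := mul_nonneg hw.le hc0
  rw [← hc] at this
  linarith

/-- Let T be a numerical type on n > 1 indices and i an index whose contribution m_i (w_i (g_i - 1) -
a_ii / 2) to the genus is negative (stated as m_i (2 w_i (g_i - 1) - a_ii) < 0). Then g_i = 0 and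
a_ii = -w_i, i.e. i is a (-1)-index. -/
theorem result {n : ℕ} (T : Models.NumericalType n) (hn : 1 < n) (i : Fin n)
    (h : T.m i * (2 * T.w i * (T.g i - 1) - T.a i i) < 0) : T.IsMinusOne i := by
  obtain ⟨k, hk, hak⟩ := diag_neg T hn i
  have hm := T.m_pos i
  have hw := T.w_pos i
  have hg := T.g_nonneg i
  have h1 : 2 * T.w i * (T.g i - 1) - T.a i i < 0 := by
    by_contra hcon
    push_neg at hcon
    have := mul_nonneg hm.le hcon
    linarith
  rw [hak] at h1
  -- 2 w (g - 1) + k w < 0 with k ≥ 1, w > 0
  have hg0 : T.g i = 0 := by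
    by_contra hne
    have hg1 : 1 ≤ T.g i := by omega
    have : 0 ≤ 2 * T.w i * (T.g i - 1) := by
      apply mul_nonneg (by linarith) (by linarith)
    have : 0 < k * T.w i := mul_pos (by linarith) hw
    linarith
  refine ⟨hg0, ?_⟩
  rw [hg0] at h1
  have hk1 : k = 1 := by
    by_contra hne
    have hk2 : 2 ≤ k := by omega
    have : 2 * T.w i ≤ k * T.w i := mul_le_mul_of_nonneg_right hk2 hw.le
    linarith
  rw [hak, hk1, one_mul]

end Groth.Agent.S7316
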