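import Groth.Statements.S2174
-- import your own Groth.Agent.* helpers here
import Mathlib.Tactic.Linarith

set_option autoImplicit false
open Finset
open Models Models.NumericalType

namespace Groth.Agent.S2174

/-- If a numerical type has n > 1 indices then every diagonal entry a i i of its matrix is negative. -/
theorem result {n : ℕ} (T : Models.NumericalType n) (hn : 1 < n) (i : Fin n) : T.a i i < 0 := by
  have hrow : ∑ j, T.a i j * T.m j = 0 := by
    have := congrFun T.mulVec_m i
    simpa [Matrix.mulVec, dotProduct] using this
  rw [← Finset.add_sum_erase univ _ (mem_univ i)] at hrow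
  obtain ⟨i', hi', j, hj, hne⟩ := T.connected {i} (singleton_nonempty i) (by
    intro h
    have : (univ : Finset (Fin n)).card = 1 := by rw [← h]; simp
    simp at this; omega)
  rw [mem_singleton] at hi'; subst hi'
  have hji : j ≠ i' := by simpa using hj
  have hpos : 0 < T.a i' j := lt_of_le_of_ne (T.offDiag_nonneg i' j (Ne.symm hji)) (Ne.symm hne)
  have hsum : 0 < ∑ j ∈ univ.erase i', T.a i' j * T.m j := by
    apply Finset.sum_pos'
    · intro k hk
      exact mul_nonneg (T.offDiag_nonneg _ _ (ne_of_mem_erase hk).symm) (T.m_pos k).le
    · exact ⟨j, mem_erase.mpr ⟨hji, mem_univ _⟩, mul_pos hpos (T.m_pos j)⟩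
  by_contra h
  push Not at h
  have := mul_nonneg h (T.m_pos i').le
  linarith

end Groth.Agent.S2174
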