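import Groth.Statements.S2176
import Groth.Agent.S2174
import Mathlib.Tactic.Linarith
import Mathlib.Tactic.Ring

set_option autoImplicit false
open Finset
open Models Models.NumericalType

namespace Groth.Agent.S2176

/-- A minimal numerical type (no (-1)-index) with n > 1 indices has genus at least 1. -/
theorem result {n : ℕ} (T : Models.NumericalType n) (hmin : T.IsMinimal) (hn : 1 < n) : 1 ≤ T.genus := by
  have hk : ∀ i, T.m i * T.a i i ≤ 2 * (T.m i * T.w i * (T.g i - 1)) := by
    intro i
    have hneg : T.a i i < 0 := Groth.Agent.S2174.result T hn i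
    obtain ⟨c, hc⟩ := T.w_dvd i i
    have hw := T.w_pos i
    have hm := T.m_pos i
    have hg := T.g_nonneg i
    have hcneg : c < 0 := by
      by_contra h
      push Not at h
      have := mul_nonneg hw.le h
      rw [← hc] at this
      linarith
    have key : T.a i i ≤ 2 * (T.w i * (T.g i - 1)) := by
      rcases eq_or_lt_of_le hg with h0 | h1
      · have hc1 : c ≠ -1 := by
          intro h
          apply hmin i
          refine ⟨h0.symm, ?_⟩
          rw [hc, h]; ring
        have hc2 : c ≤ -2 := by omega
        rw [hc, ← h0]
        nlinarith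
      · have h1' : 1 ≤ T.g i := h1
        have : 0 ≤ T.w i * (T.g i - 1) := mul_nonneg hw.le (by linarith)
        linarith
    calc T.m i * T.a i i ≤ T.m i * (2 * (T.w i * (T.g i - 1))) :=
          mul_le_mul_of_nonneg_left key hm.le
      _ = 2 * (T.m i * T.w i * (T.g i - 1)) := by ring
  have hsum : ∑ i, T.m i * T.a i i ≤ (∑ i, T.m i * T.w i * (T.g i - 1)) * 2 := by
    rw [Finset.sum_mul]
    apply Finset.sum_le_sum
    intro i _
    have := hk i
    linarith
  have := Int.ediv_le_of_le_mul (by norm_num : (0 : ℤ) < 2) hsum
  unfold Models.NumericalType.genus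
  linarith

end Groth.Agent.S2176
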