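import Groth.Statements.S13362
import Mathlib

set_option autoImplicit false
universe u
open ProCompl

namespace Groth.Agent.S13362

/-- An abelian group of finite exponent having a nonzero element contained in every nonzero subgroup is
finite. -/
theorem result {A : Type u} [AddCommGroup A]
    (hA : AddMonoid.exponent A ≠ 0) (a : A) (ha : a ≠ 0) (h : ∀ B : AddSubgroup A, B ≠ ⊥ → a ∈ B) :
    Finite A := by
  classical
  set N := AddMonoid.exponent A with hNdef
  have hN : ∀ x : A, N • x = 0 := fun x => AddMonoid.exponent_nsmul_eq_zero x
  have hNpos : 0 < N := Nat.pos_of_ne_zero hA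
  have hfin : IsOfFinAddOrder a := isOfFinAddOrder_iff_nsmul_eq_zero.mpr ⟨N, hNpos, hN a⟩
  have hza : (AddSubgroup.zmultiples a : Set A).Finite := by
    rw [← hfin.multiples_eq_zmultiples]
    exact hfin.finite_multiples
  -- prime torsion
  have hTq : ∀ q : ℕ, q.Prime → {x : A | q • x = 0}.Finite := by
    intro q hq
    apply hza.subset
    intro x hx
    have hx' : q • x = 0 := hx
    by_cases hx0 : x = 0
    · rw [hx0]; exact zero_mem _
    · have hmem := h (AddSubgroup.zmultiples x) (by
        intro h0; apply hx0
        have : x ∈ AddSubgroup.zmultiples x := AddSubgroup.mem_zmultiples x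
        rw [h0, AddSubgroup.mem_bot] at this; exact this)
      obtain ⟨k, hk⟩ := AddSubgroup.mem_zmultiples_iff.mp hmem
      have hqint : Prime (q : ℤ) := Nat.prime_iff_prime_int.mp hq
      have hndvd : ¬ (q : ℤ) ∣ k := by
        rintro ⟨k', rfl⟩
        apply ha
        rw [← hk, mul_comm, mul_smul, natCast_zsmul, hx', smul_zero]
      have hcop : IsCoprime (q : ℤ) k := hqint.irreducible.coprime_iff_not_dvd.mpr hndvd
      obtain ⟨u, v, huv⟩ := hcop
      refine AddSubgroup.mem_zmultiples_iff.mpr ⟨v, ?_⟩
      have : (u * (q : ℤ) + v * k) • x = x := by rw [huv, one_smul]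
      rw [add_smul, mul_smul, mul_smul, natCast_zsmul, hx', smul_zero, zero_add, hk] at this
      exact this
  have hT : ∀ n : ℕ, 0 < n → {x : A | n • x = 0}.Finite := by
    intro n
    induction n using Nat.strong_induction_on with
    | _ n ih =>
      intro hn
      by_cases h1 : n = 1
      · subst h1
        have : {x : A | 1 • x = 0} = {0} := by
          ext x; simp
        rw [this]; exact Set.finite_singleton _
      · have hq : n.minFac.Prime := Nat.minFac_prime h1
        have hdvd : n.minFac ∣ n := Nat.minFac_dvd n
        set q := n.minFac with hqdef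
        have hn' : n / q < n := Nat.div_lt_self hn hq.one_lt
        have hn'pos : 0 < n / q := Nat.div_pos (Nat.le_of_dvd hn hdvd) hq.pos
        have heq : {x : A | n • x = 0} = (fun x : A => q • x) ⁻¹' {y : A | (n / q) • y = 0} := by
          ext x
          simp only [Set.mem_setOf_eq, Set.mem_preimage]
          rw [← mul_smul, Nat.div_mul_cancel hdvd]
        rw [heq]
        apply Set.Finite.preimage' (ih _ hn' hn'pos)
        intro b _
        by_cases hb : ∃ x₀ : A, q • x₀ = b
        · obtain ⟨x₀, rfl⟩ := hb
          apply ((hTq q hq).image (fun t => x₀ + t)).subset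
          intro x hx
          have hx' : q • x = q • x₀ := hx
          refine ⟨x - x₀, ?_, by abel⟩
          show q • (x - x₀) = 0
          rw [smul_sub, hx', sub_self]
        · have : (fun x : A => q • x) ⁻¹' {b} = ∅ := by
            ext x
            simp only [Set.mem_preimage, Set.mem_singleton_iff, Set.mem_empty_iff_false, iff_false]
            exact fun hx => hb ⟨x, hx⟩
          rw [this]; exact Set.finite_empty
  have huniv : (Set.univ : Set A) = {x : A | N • x = 0} := by
    ext x; simp [hN x]
  have := hT N hNpos
  rw [← huniv] at this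
  exact Set.finite_univ_iff.mp this

end Groth.Agent.S13362
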