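import Groth.Statements.S13363
import Groth.Agent.S13362

set_option autoImplicit false
universe u
open ProCompl

namespace Groth.Agent.S13363

/-- Let A be a topological abelian group such that the subgroup n·A is open for each n > 0, and a ∈ A.
Then A has an open subgroup of finite index not containing a if and only if a does not lie in the
subgroup of divisible elements ∩_n nA. -/
theorem result {A : Type u} [AddCommGroup A]
    [TopologicalSpace A] [IsTopologicalAddGroup A]
    (hn : ∀ n : ℕ, 0 < n → IsOpen (Set.range (fun x : A => n • x))) (a : A) :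
    (∃ B : AddSubgroup A, IsOpen (B : Set A) ∧ B.FiniteIndex ∧ a ∉ B) ↔
      ¬ (∀ n : ℕ, 0 < n → ∃ b : A, n • b = a) := by
  classical
  constructor
  · rintro ⟨B, -, hBfin, haB⟩ hdiv
    have hpos : 0 < B.index := Nat.pos_of_ne_zero hBfin.index_ne_zero
    obtain ⟨b, hb⟩ := hdiv B.index hpos
    apply haB
    rw [← hb]
    have : (B.index • (QuotientAddGroup.mk b : A ⧸ B)) = 0 := by
      rw [AddSubgroup.index]
      exact card_nsmul_eq_zero'
    rw [← QuotientAddGroup.mk_nsmul, QuotientAddGroup.eq_zero_iff] at this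
    exact this
  · intro hnd
    push Not at hnd
    obtain ⟨n, hnpos, hna⟩ := hnd
    -- the subgroup nA
    let nA : AddSubgroup A := (nsmulAddMonoidHom n : A →+ A).range
    have hnAset : (nA : Set A) = Set.range (fun x : A => n • x) := by
      ext x; simp [nA]
    have hnAopen : IsOpen (nA : Set A) := by rw [hnAset]; exact hn n hnpos
    have hanA : a ∉ nA := by
      rintro ⟨b, hb⟩
      exact hna b hb
    let S : Set (AddSubgroup A) := {C | nA ≤ C ∧ a ∉ C}
    obtain ⟨B, hnAB, hBmax⟩ := zorn_le_nonempty₀ S (by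
      intro c hcS hc y hy
      refine ⟨sSup c, ⟨?_, ?_⟩, fun z hz => le_sSup hz⟩
      · exact (hcS hy).1.trans (le_sSup hy)
      · intro hmem
        rw [AddSubgroup.mem_sSup_of_directedOn ⟨y, hy⟩ hc.directedOn] at hmem
        obtain ⟨s, hs, has⟩ := hmem
        exact (hcS hs).2 has) nA ⟨le_rfl, hanA⟩
    have hBS : B ∈ S := hBmax.prop
    have haB : a ∉ B := hBS.2
    have hBopen : IsOpen (B : Set A) := by
      apply AddSubgroup.isOpen_of_mem_nhds B (g := 0)
      exact Filter.mem_of_superset (hnAopen.mem_nhds (zero_mem nA)) hnAB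
    refine ⟨B, hBopen, ?_, haB⟩
    -- A/B is finite by S13362
    have hexp : AddMonoid.exponent (A ⧸ B) ≠ 0 := by
      intro h0
      have hdvd : AddMonoid.exponent (A ⧸ B) ∣ n := by
        apply AddMonoid.exponent_dvd_of_forall_nsmul_eq_zero
        intro x
        obtain ⟨y, rfl⟩ := QuotientAddGroup.mk_surjective x
        rw [← QuotientAddGroup.mk_nsmul, QuotientAddGroup.eq_zero_iff]
        exact hnAB ⟨y, rfl⟩
      rw [h0, zero_dvd_iff] at hdvd
      omega
    have hane : (QuotientAddGroup.mk a : A ⧸ B) ≠ 0 := by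
      rw [Ne, QuotientAddGroup.eq_zero_iff]; exact haB
    have hess : ∀ D : AddSubgroup (A ⧸ B), D ≠ ⊥ → (QuotientAddGroup.mk a : A ⧸ B) ∈ D := by
      intro D hD
      by_contra haD
      set C := D.comap (QuotientAddGroup.mk' B) with hC
      have hBC : B ≤ C := by
        intro x hx
        rw [hC, AddSubgroup.mem_comap, QuotientAddGroup.mk'_apply,
          (QuotientAddGroup.eq_zero_iff x).mpr hx]
        exact zero_mem D
      have hCS : C ∈ S := ⟨hnAB.trans hBC, fun h => haD h⟩
      have hCB : C ≤ B := hBmax.le_of_ge hCS hBC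
      apply hD
      rw [AddSubgroup.eq_bot_iff_forall]
      intro x hx
      obtain ⟨y, rfl⟩ := QuotientAddGroup.mk_surjective x
      rw [QuotientAddGroup.eq_zero_iff]
      exact hCB hx
    haveI : Finite (A ⧸ B) := Groth.Agent.S13362.result hexp _ hane hess
    exact AddSubgroup.finiteIndex_of_finite_quotient

end Groth.Agent.S13363
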