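import Groth.Statements.S2228
import Mathlib
-- import your own Groth.Agent.* helpers here

set_option autoImplicit false
universe u
open TensorProduct
open Disc

namespace Groth.Agent.S2228


section
variable {A B : Type u} [CommRing A] [CommRing B] [Algebra A B]

/-- the pairing -/
noncomputable def P (ξ : B ⊗[A] B) (l : Disc.Omega A B) : B :=
  TensorProduct.lift ((LinearMap.lsmul A B).comp l.toLinearMap) ξ

lemma P_tmul (b c : B) (l : Disc.Omega A B) : P (b ⊗ₜ[A] c) l = l.toLinearMap b • c := by
  simp [P]

lemma P_add (ξ η : B ⊗[A] B) (l : Disc.Omega A B) : P (ξ + η) l = P ξ l + P η l := by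
  simp [P]

lemma P_zero (l : Disc.Omega A B) : P (0 : B ⊗[A] B) l = 0 := by
  simp [P]

lemma P_sum {ι : Type*} (s : Finset ι) (f : ι → B ⊗[A] B) (l : Disc.Omega A B) :
    P (∑ i ∈ s, f i) l = ∑ i ∈ s, P (f i) l := by
  simp [P]

lemma P_mul_right (ξ : B ⊗[A] B) (b : B) (l : Disc.Omega A B) :
    P (ξ * (1 ⊗ₜ[A] b)) l = b * P ξ l := by
  induction ξ using TensorProduct.induction_on with
  | zero => simp [P_zero]
  | tmul x y =>
    rw [Algebra.TensorProduct.tmul_mul_tmul, P_tmul, P_tmul, mul_one, mul_comm y b,
      mul_smul_comm]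
  | add x y hx hy => rw [add_mul, P_add, P_add, hx, hy, mul_add]

lemma P_mul_left (ξ : B ⊗[A] B) (b : B) (l : Disc.Omega A B) :
    P (ξ * (b ⊗ₜ[A] 1)) l = P ξ (b • l) := by
  induction ξ using TensorProduct.induction_on with
  | zero => simp [P_zero]
  | tmul x y =>
    rw [Algebra.TensorProduct.tmul_mul_tmul, P_tmul, P_tmul, mul_one,
      Disc.Omega.smul_toLinearMap_apply, mul_comm]
  | add x y hx hy => rw [add_mul, P_add, P_add, hx, hy]

lemma eq_sum_basis {ι : Type*} [Fintype ι] (β : Module.Basis ι A B) (ξ : B ⊗[A] B) : ξ = ∑ k, β k ⊗ₜ[A] P ξ ⟨β.coord k⟩ := by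
  induction ξ using TensorProduct.induction_on with
  | zero => simp [P_zero]
  | tmul x y =>
    simp only [P_tmul]
    have : ∀ k, β k ⊗ₜ[A] ((β.coord k) x • y) = ((β.repr x k) • β k) ⊗ₜ[A] y := by
      intro k
      rw [TensorProduct.smul_tmul]; rfl
    simp only [this]
    rw [← TensorProduct.sum_tmul, β.sum_repr]
  | add x y hx hy =>
    simp only [P_add, TensorProduct.tmul_add, Finset.sum_add_distrib]
    rw [← hx, ← hy]

lemma P_injective {ι : Type*} [Fintype ι] (β : Module.Basis ι A B) (ξ η : B ⊗[A] B) (h : ∀ l : Disc.Omega A B, P ξ l = P η l) : ξ = η := by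
  rw [eq_sum_basis β ξ, eq_sum_basis β η]
  exact Finset.sum_congr rfl fun k _ => by rw [h]

end


/-- Special case: B finite free over the Noetherian ring A (the source allows flat quasi-finite maps).
Let J be the annihilator of the kernel of the multiplication map B tensor_A B -> B and omega =
Hom_A(B, A) with its B-module structure through the argument. Pairing xi = sum of b_i tensor c_i in
J with lambda in omega to the sum of lambda(b_i) c_i identifies J with the B-linear maps omega -> B:
every B-linear Phi : omega -> B arises from exactly one xi in J in this way. -/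
theorem result {A B : Type u} [CommRing A] [CommRing B] [Algebra A B]
    [IsNoetherianRing A] [Module.Finite A B] [Module.Free A B] (Φ : Disc.Omega A B →ₗ[B] B) :
    ∃! ξ : B ⊗[A] B,
      ξ ∈ Submodule.annihilator (RingHom.ker (Algebra.TensorProduct.lmul' (S := B) A)) ∧
        ∀ l : Disc.Omega A B,
          Φ l = TensorProduct.lift ((LinearMap.lsmul A B).comp l.toLinearMap) ξ := by
  classical
  let β := Module.Free.chooseBasis A B
  let ξ : B ⊗[A] B := ∑ k, β k ⊗ₜ[A] Φ ⟨β.coord k⟩
  have hξ : ∀ l : Disc.Omega A B, Φ l = P ξ l := by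
    intro l
    have hl : l = ∑ k, (algebraMap A B (l.toLinearMap (β k))) • (⟨β.coord k⟩ : Disc.Omega A B) := by
      apply Disc.Omega.toLinearMap_injective
      apply β.ext
      intro j
      have hsum : ∀ (s : Finset (Module.Free.ChooseBasisIndex A B)) (g : Module.Free.ChooseBasisIndex A B → Disc.Omega A B),
          (∑ k ∈ s, g k).toLinearMap = ∑ k ∈ s, (g k).toLinearMap := by
        intro s g
        induction s using Finset.induction_on with
        | empty => simp
        | insert a s ha ih => rw [Finset.sum_insert ha, Finset.sum_insert ha, Disc.Omega.add_toLinearMap, ih]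
      rw [hsum, LinearMap.sum_apply]
      simp only [Disc.Omega.smul_toLinearMap_apply]
      rw [Finset.sum_eq_single j]
      · rw [← Algebra.smul_def, map_smul]; simp
      · intro k _ hkj
        rw [← Algebra.smul_def, map_smul]; simp [Finsupp.single_apply, hkj]
      · intro h; exact absurd (Finset.mem_univ j) h
    conv_lhs => rw [hl]
    rw [map_sum, P_sum]
    refine Finset.sum_congr rfl fun k _ => ?_
    rw [map_smul, P_tmul, smul_eq_mul, Algebra.smul_def]
  refine ⟨ξ, ⟨?_, hξ⟩, ?_⟩
  · have hI : RingHom.ker (Algebra.TensorProduct.lmul' (S := B) A) =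
        Ideal.span (Set.range fun s : B => (1 : B) ⊗ₜ[A] s - s ⊗ₜ[A] (1 : B)) :=
      (KaehlerDifferential.span_range_eq_ideal A B).symm
    rw [hI, Ideal.span, Submodule.mem_annihilator_span]
    rintro ⟨_, s, rfl⟩
    show ξ * ((1 : B) ⊗ₜ[A] s - s ⊗ₜ[A] (1 : B)) = 0
    rw [mul_sub, sub_eq_zero]
    apply P_injective β _ _
    intro l
    rw [P_mul_right, P_mul_left, ← hξ, ← hξ, map_smul, smul_eq_mul]
  · rintro η ⟨-, hη⟩
    apply P_injective β _ _
    intro l
    rw [← hξ l]
    exact (hη l).symm


end Groth.Agent.S2228
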