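import Groth.Statements.S1937
import Groth.Agent.Lib.Helper29.GrpSchDiag

set_option autoImplicit false
universe u v
open CategoryTheory MonoidalCategory CartesianMonoidalCategory MonObj GrpObj AlgebraicGeometry
open GrpSch

namespace Groth.Agent.S1937




/-- Let G be a group scheme over S with structure morphism f and unit section e : S → G. Then Ω_{G/S} ≅
f^* C_{S/G}, the pullback of the conormal sheaf of the immersion e; and when S is the spectrum of a
field, Ω_{G/S} is a free O_G-module (a coproduct of copies of O_G). Stated for G → S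
quasi-separated, where the shared prelude's Ω (conormal sheaf of the diagonal through Mathlib's
kernel ideal sheaf) and conormal sheaf of e are the usual ones. -/
theorem result (S : Scheme.{u}) (G : Over S) [GrpObj G] [QuasiSeparated G.hom] : Nonempty (Omega.sheaf G.hom ≅ (Scheme.Modules.pullback G.hom).obj (Omega.conormal η[G].left)) ∧ ∀ (K : Type u) [Field K], Nonempty (S ≅ Spec (CommRingCat.of K)) → ∃ I : Type u, Nonempty (Omega.sheaf G.hom ≅ ∐ fun _ : I => Coh.structureModule G.left) := by
  have hef : η[G].left ≫ G.hom = 𝟙 S := Groth.Agent.Lib.Helper29.GrpSchDiag.unit_hom G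
  have H := Groth.Agent.Lib.Helper29.GrpSchDiag.isPullback_diagonal G
  have H2 := Groth.Agent.Lib.Helper29.GrpSchDiag.isPullback_fst_φ G
  have hid1 : IsImmersion (𝟙 S) := inferInstance
  have hid2 : QuasiCompact (𝟙 S) := inferInstance
  haveI : IsImmersion (η[G].left ≫ G.hom) := by rw [hef]; exact hid1
  haveI : IsImmersion η[G].left := IsImmersion.of_comp η[G].left G.hom
  haveI : QuasiCompact (η[G].left ≫ G.hom) := by rw [hef]; exact hid2
  haveI : QuasiCompact η[G].left := QuasiCompact.of_comp η[G].left G.hom
  haveI : QuasiCompact (Limits.pullback.diagonal G.hom) := QuasiSeparated.quasiCompact_diagonal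
  have hiso := Groth.Agent.Lib.Helper29.GrpSchDiag.isIso_conormalMap_of_section hef H H2
    (Limits.pullback.diagonal_fst G.hom)
  have e₁ : Omega.sheaf G.hom ≅ (Scheme.Modules.pullback G.hom).obj (Omega.conormal η[G].left) :=
    (@asIso _ _ _ _ _ hiso).symm
  refine ⟨⟨e₁⟩, ?_⟩
  intro K _ ⟨j⟩
  haveI : (Omega.conormal η[G].left).IsQuasicoherent :=
    Groth.Agent.Lib.Helper29.ConormalBC.isQuasicoherent_conormal _
  obtain ⟨I, ⟨e₂⟩⟩ := Groth.Agent.Lib.Helper29.GrpSchDiag.exists_iso_free_pullback G.hom
    (Omega.conormal η[G].left) K j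
  exact ⟨I, ⟨e₁ ≪≫ e₂⟩⟩



end Groth.Agent.S1937
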