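import Groth.Statements.S2079
import Mathlib
import Groth.Agent.Lib.Helper13.NaProper

set_option autoImplicit false
universe u
open CategoryTheory AlgebraicGeometry
open Lim

namespace Groth.Agent.S2079

section helpers

open CategoryTheory CategoryTheory.Limits AlgebraicGeometry TopologicalSpace Opposite Topology


open Groth.Agent.Lib.Helper13.NaOver Groth.Agent.Lib.Helper13.NaClosed
  Groth.Agent.Lib.Helper13.NaLft Groth.Agent.Lib.Helper13.NaProper

theorem main {X S : Scheme.{u}} (f : X ⟶ S) [IsProper f] [CompactSpace S]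
    [QuasiSeparatedSpace S] :
    ∃ (I : Type u) (_ : SmallCategory I) (_ : IsCofiltered I) (D : I ⥤ Over S) (c : Limits.Cone D)
      (_ : Limits.IsLimit c) (e : c.pt ≅ Over.mk f),
      (∀ (i j : I) (a : i ⟶ j), IsClosedImmersion (D.map a).left) ∧
      (∀ i, IsClosedImmersion (c.π.app i).left ∧ IsProper (D.obj i).hom ∧
        LocallyOfFinitePresentation (D.obj i).hom) := by
  obtain ⟨Y, g, j, hg1, hg2, hg3, hj, hjg⟩ := Groth.Agent.S7395.result f
  have hYc : CompactSpace Y := QuasiCompact.compactSpace_of_compactSpace g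
  have hYq : QuasiSeparatedSpace Y := quasiSeparatedSpace_of_quasiSeparated g
  obtain ⟨I₀, _, _, _, G₀, s₀, π₀, ⟨hπ₀⟩, k1, k2, k3, k4⟩ := exists_closed_approx j
  have hP : IsProper (j ≫ g) := by rw [hjg]; infer_instance
  obtain ⟨i₀, hi₀⟩ := exists_proper_stage g j G₀ s₀ π₀ hπ₀ k1 (fun a => (k2 a).1) k3
  obtain ⟨I, _, _, _, α, hα, ⟨hlim⟩⟩ := exists_restrict G₀ (Cone.mk X π₀) hπ₀ i₀
  let G : Iᵒᵖ ⥤ Scheme.{u} := α.monotone.functor.op ⋙ G₀
  let s : G ⟶ (Functor.const Iᵒᵖ).obj S :=
    { app := fun a => s₀.app (α.monotone.functor.op.obj a) ≫ g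
      naturality := fun a b θ => by
        have := s₀.naturality (α.monotone.functor.op.map θ)
        simp only [Functor.const_obj_obj, Functor.const_obj_map, Category.comp_id] at this
        simp only [Functor.const_obj_obj, Functor.const_obj_map, Category.comp_id]
        change G₀.map (α.monotone.functor.op.map θ) ≫ _ ≫ g = _
        rw [← Category.assoc, this] }
  let π : (Functor.const Iᵒᵖ).obj X ⟶ G := ((Cone.mk X π₀).whisker α.monotone.functor.op).π
  have hπ : IsLimit (Cone.mk X π) := hlim
  have h1 : ∀ a, π.app a ≫ s.app a = f := fun a => by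
    change pr π₀ (α.monotone.functor.op.obj a) ≫ s₀.app (α.monotone.functor.op.obj a) ≫ g = f
    rw [← Category.assoc, k1, hjg]
  haveI : IsConnected Iᵒᵖ := IsCofiltered.isConnected _
  refine ⟨Iᵒᵖ, inferInstance, inferInstance, overDiag G s, overCone G s π f h1,
    overIsLimit G s π f h1 hπ, Iso.refl _, fun a b θ => ?_, fun a => ⟨?_, ?_, ?_⟩⟩
  · exact k3 _ _ (α.monotone.functor.op.map θ)
  · exact k4 (α.monotone.functor.op.obj a)
  · exact hi₀ _ (hα a.unop)
  · have := (k2 (α.monotone.functor.op.obj a)).2
    change LocallyOfFinitePresentation (s₀.app (α.monotone.functor.op.obj a) ≫ g)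
    infer_instance



end helpers

/-- Let `f : X → S` be proper with `S` quasi-compact and quasi-separated. Then `X` is the limit of a
cofiltered diagram of `S`-schemes which are proper and of finite presentation over `S`, with all
transition morphisms and all projections `X → X_i` closed immersions. -/
theorem result {X S : Scheme.{u}} (f : X ⟶ S) [IsProper f] [CompactSpace S]
    [QuasiSeparatedSpace S] :
    ∃ (I : Type u) (_ : SmallCategory I) (_ : IsCofiltered I) (D : I ⥤ Over S) (c : Limits.Cone D)
      (_ : Limits.IsLimit c) (e : c.pt ≅ Over.mk f),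
      (∀ (i j : I) (a : i ⟶ j), IsClosedImmersion (D.map a).left) ∧
      (∀ i, IsClosedImmersion (c.π.app i).left ∧ IsProper (D.obj i).hom ∧
        LocallyOfFinitePresentation (D.obj i).hom) := by
  exact main f

end Groth.Agent.S2079
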