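import Groth.Statements.S1539
import Groth.Agent.Lib.Helper18.GeomIrrGen
import Groth.Agent.Lib.Helper18.GeomIrrAlg
open Groth.Agent.Lib.Helper18

set_option autoImplicit false
universe u
open CategoryTheory CategoryTheory.Limits AlgebraicGeometry
open Variety

namespace Groth.Agent.S1539

/-- If X_{k'} is irreducible for every finite separable field extension k' of k, then X is geometrically
irreducible over k. -/
theorem result (k : Type u) [Field k] (X : Scheme.{u}) [X.Over (Spec (CommRingCat.of k))]
    (h : ∀ (k' : Type u) [Field k'] [Algebra k k'] [FiniteDimensional k k'] [Algebra.IsSeparable k k'],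
      IrreducibleSpace (Curv2.bc k X k')) :
    GeometricallyIrreducible (X ↘ (Spec (CommRingCat.of k))) := by
  set f := X ↘ (Spec (CommRingCat.of k)) with hf
  haveI hbc : IrreducibleSpace ↥(pullback f (Spec.map (CommRingCat.ofHom
      (algebraMap k k)))) := h k
  haveI : Nonempty X := ⟨(pullback.fst f (Spec.map (CommRingCat.ofHom
      (algebraMap k k)))) (Nonempty.some inferInstance)⟩
  haveI : IrreducibleSpace X := by
    rw [irreducibleSpace_def]
    show IsIrreducible (Set.univ : Set X)
    rw [← Set.range_eq_univ.mpr (GeomIrrGen.surjective_fst f (Spec.map (CommRingCat.ofHom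
      (algebraMap k k)))), ← Set.image_univ]
    exact (IrreducibleSpace.isIrreducible_univ _).image _
      (pullback.fst f _).continuous.continuousOn
  letI : Algebra k (X.residueField (genericPoint X)) :=
    (GeomIrrGen.resMap f (genericPoint X)).toAlgebra
  have hsep : ∀ α : X.residueField (genericPoint X), IsSeparable k α →
      α ∈ Set.range (algebraMap k (X.residueField (genericPoint X))) := by
    intro α hα
    haveI : FiniteDimensional k (IntermediateField.adjoin k {α}) :=
      IntermediateField.adjoin.finiteDimensional hα.isIntegral
    haveI : Algebra.IsSeparable k (IntermediateField.adjoin k {α}) :=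
      (IntermediateField.isSeparable_adjoin_simple_iff_isSeparable k _).mpr hα
    haveI : IrreducibleSpace ↥(pullback f (Spec.map (CommRingCat.ofHom
        (algebraMap k (IntermediateField.adjoin k {α}))))) := h (IntermediateField.adjoin k {α})
    have hT := GeomIrrGen.irreducibleSpace_tensor_of_bc f (IntermediateField.adjoin k {α})
    let ψ : AdjoinRoot (minpoly k α) →ₐ[k] IntermediateField.adjoin k {α} :=
      (IntermediateField.adjoinRootEquivAdjoin k hα.isIntegral).toAlgHom
    exact GeomIrrAlg.mem_range_of_irreducible_tensor α hα ψ hT
  refine GeomIrrGen.geometricallyIrreducible_of_generic f ?_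
  exact Groth.Agent.Lib.Helper22.SchGeomConn.geometricallyIrreducible_specMap_of_sepClosedIn
    (k := k) (F := X.residueField (genericPoint X)) hsep

end Groth.Agent.S1539
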