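import Groth.Statements.S9764
-- import your own Groth.Agent.* helpers here

set_option autoImplicit false
universe u
open FlatMor

namespace Groth.Agent.S9764

open AlgebraicGeometry CategoryTheory Limits in
/-- Descent of `geometrically P` along a surjective base change, for properties `P` of schemes
that descend along surjective morphisms. -/
theorem geometrically_descend {P : ObjectProperty Scheme.{u}}
    (hP : ∀ {W Z : Scheme.{u}} (p : W ⟶ Z), Surjective p → P W → P Z)
    {X S X' S' : Scheme.{u}} (f : X ⟶ S) (q : S' ⟶ S) (f' : X' ⟶ S') (g' : X' ⟶ X)
    (h : IsPullback g' f' f q) [Surjective q] (hf' : geometrically P f') :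
    geometrically P f := by
  intro L _ y Z fst snd hZ
  have : Nonempty ↥(pullback y q) := by
    obtain ⟨t, -⟩ := (pullback.fst y q).surjective (Nonempty.some inferInstance)
    exact ⟨t⟩
  obtain ⟨t⟩ := this
  let T := pullback y q
  let ω := T.fromSpecResidueField t
  let a := ω ≫ pullback.fst y q
  let b := ω ≫ pullback.snd y q
  have hab : a ≫ y = b ≫ q := by simp [a, b, pullback.condition]
  have hW : IsPullback (pullback.fst snd a) (pullback.snd snd a) snd a :=
    IsPullback.of_hasPullback _ _
  have h1 := hW.paste_horiz hZ
  rw [hab] at h1
  have h2 := IsPullback.of_right' h1 h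
  have hPW := hf' b _ _ h2
  have : Surjective a := inferInstance
  exact hP (pullback.fst snd a) inferInstance hPW

open AlgebraicGeometry CategoryTheory Limits in
theorem irr_descend {W Z : Scheme.{u}} (p : W ⟶ Z) (_hp : Surjective p)
    (_hW : IrreducibleSpace W) : IrreducibleSpace Z :=
  Function.Surjective.irreducibleSpace p.continuous p.surjective

open AlgebraicGeometry CategoryTheory Limits in
/-- For morphisms of schemes f : X ⟶ Y and g : Y' ⟶ Y, let f' : X' ⟶ Y' be obtained from f by pulling
back along g (a cartesian square with g' : X' ⟶ X). A point y' of Y' has geometrically irreducible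
fibre under f' exactly when g y' has geometrically irreducible fibre under f. -/
theorem result {X Y X' Y' : Scheme.{u}} (f : X ⟶ Y) (g : Y' ⟶ Y) (f' : X' ⟶ Y') (g' : X' ⟶ X)
    (hc : IsPullback g' f' f g) :
    {y' : ↑Y' | GeometricallyIrreducible (f'.fiberToSpecResidueField y')} =
      g ⁻¹' {y : ↑Y | GeometricallyIrreducible (f.fiberToSpecResidueField y)} := by
  ext y'
  simp only [Set.mem_ofPred_eq, Set.mem_preimage]
  have hpb := isPullback_fiberToSpecResidueField_of_isPullback hc y'
  constructor
  · intro h
    rw [GeometricallyIrreducible.eq_geometrically] at h ⊢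
    exact geometrically_descend
      (fun p hp hW => irr_descend p hp hW) _ _ _ _ hpb h
  · intro h
    exact MorphismProperty.of_isPullback hpb h

end Groth.Agent.S9764
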