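import Groth.Statements.S4935
-- import your own Groth.Agent.* helpers here
import Mathlib.RingTheory.IntegralClosure.GoingDown
import Mathlib.RingTheory.Ideal.GoingUp
import Mathlib.RingTheory.IntegralClosure.IntegrallyClosed
import Mathlib.RingTheory.Localization.FractionRing
import Mathlib.RingTheory.DedekindDomain.IntegralClosure

set_option autoImplicit false
universe u
open EGA43

namespace Groth.Agent.S4935


lemma core {A₁ A' B C : Type u} [CommRing A₁] [CommRing A'] [CommRing B] [CommRing C]
    [IsDomain A'] [IsLocalRing A'] [IsIntegrallyClosed A'] [IsDomain C]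
    [Algebra A₁ A'] [Algebra A' C] [Algebra A₁ B] [Algebra B C] [Algebra A₁ C]
    [IsScalarTower A₁ A' C] [IsScalarTower A₁ B C]
    [FaithfulSMul A' C] [FaithfulSMul A₁ A'] [Algebra.IsIntegral A' C] [Algebra.IsIntegral A₁ A']
    [Algebra.IsIntegral B C]
    (hBC : Function.Injective (algebraMap B C))
    (n : Ideal B) [n.IsPrime] (hn : (n.comap (algebraMap A₁ B)).IsMaximal)
    (p₁ : Ideal A₁) [p₁.IsPrime] :
    ∃ q : Ideal B, q.IsPrime ∧ q ≤ n ∧ q.comap (algebraMap A₁ B) = p₁ := by
  obtain ⟨n', -, hn'prime, hn'⟩ := Ideal.exists_ideal_over_prime_of_isIntegral n (⊥ : Ideal C) (by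
    rw [← RingHom.ker_eq_comap_bot, (RingHom.injective_iff_ker_eq_bot _).1 hBC]; exact bot_le)
  have hmax : (n'.comap (algebraMap A' C)).IsMaximal := by
    apply Ideal.isMaximal_of_isIntegral_of_isMaximal_comap (R := A₁)
    rw [Ideal.comap_comap, ← IsScalarTower.algebraMap_eq, IsScalarTower.algebraMap_eq A₁ B C,
      ← Ideal.comap_comap, hn']
    exact hn
  obtain ⟨p', -, hp'prime, hp'⟩ := Ideal.exists_ideal_over_prime_of_isIntegral p₁ (⊥ : Ideal A') (by
    rw [← RingHom.ker_eq_comap_bot,
      (RingHom.injective_iff_ker_eq_bot _).1 (FaithfulSMul.algebraMap_injective A₁ A')]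
    exact bot_le)
  have hle : p' ≤ n'.comap (algebraMap A' C) := by
    rw [IsLocalRing.eq_maximalIdeal hmax]
    exact IsLocalRing.le_maximalIdeal hp'prime.ne_top
  haveI : n'.LiesOver (n'.comap (algebraMap A' C)) := ⟨rfl⟩
  obtain ⟨q', hq'le, hq'prime, hq'lo⟩ :=
    Ideal.exists_ideal_le_liesOver_of_le (p := p') (q := n'.comap (algebraMap A' C)) n' hle
  refine ⟨q'.comap (algebraMap B C), inferInstance, ?_, ?_⟩
  · rw [← hn']; exact Ideal.comap_mono hq'le
  · rw [Ideal.comap_comap, ← IsScalarTower.algebraMap_eq, IsScalarTower.algebraMap_eq A₁ A' C,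
      ← Ideal.comap_comap, ← hp']
    congr 1
    exact hq'lo.over.symm

/-- Let A be a unibranch local domain, B a domain containing A and integral over A, and 𝔫 a prime ideal
of B lying over the maximal ideal of A. Then Spec B_𝔫 → Spec A is surjective: for every prime ideal
𝔭 of A there is a prime ideal 𝔮 ⊆ 𝔫 of B with 𝔮 ∩ A = 𝔭. -/
theorem result {A B : Type u} [CommRing A] [IsDomain A]
    [IsLocalRing A] (hA : CAlg2.IsUnibranch A) [CommRing B] [IsDomain B] [Algebra A B]
    (hinj : Function.Injective (algebraMap A B)) [Algebra.IsIntegral A B] (n : Ideal B) [n.IsPrime]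
    (hn : n.comap (algebraMap A B) = IsLocalRing.maximalIdeal A) (p : Ideal A) [p.IsPrime] :
    ∃ q : Ideal B, q.IsPrime ∧ q ≤ n ∧ q.comap (algebraMap A B) = p := by
  classical
  obtain ⟨hdom, hloc⟩ := hA
  haveI : IsDomain (CAlg2.red A) := hdom
  haveI : IsLocalRing (CAlg2.normRed A) := hloc
  have hnil : nilradical A = ⊥ := nilradical_eq_zero A
  have hιinj : Function.Injective (Ideal.Quotient.mk (nilradical A)) := by
    rw [injective_iff_map_eq_zero]
    intro a ha
    rw [Ideal.Quotient.eq_zero_iff_mem, hnil] at ha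
    exact ha
  let e : A ≃+* CAlg2.red A := RingEquiv.ofBijective _ ⟨hιinj, Ideal.Quotient.mk_surjective⟩
  letI algA₁B : Algebra (CAlg2.red A) B :=
    ((algebraMap A B).comp (e.symm : CAlg2.red A →+* A)).toAlgebra
  have hA₁B : ∀ a : A, algebraMap (CAlg2.red A) B (e a) = algebraMap A B a := by
    intro a
    change algebraMap A B (e.symm (e a)) = _
    rw [e.symm_apply_apply]
  have hinjA₁B : Function.Injective (algebraMap (CAlg2.red A) B) := hinj.comp e.symm.injective
  haveI : IsScalarTower (CAlg2.red A) B (FractionRing B) := inferInstance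
  have hinjA₁L : Function.Injective (algebraMap (CAlg2.red A) (FractionRing B)) := by
    rw [IsScalarTower.algebraMap_eq (CAlg2.red A) B (FractionRing B)]
    exact (IsFractionRing.injective B (FractionRing B)).comp hinjA₁B
  letI algK₁L : Algebra (FractionRing (CAlg2.red A)) (FractionRing B) :=
    (IsFractionRing.lift hinjA₁L).toAlgebra
  haveI : IsScalarTower (CAlg2.red A) (FractionRing (CAlg2.red A)) (FractionRing B) :=
    IsScalarTower.of_algebraMap_eq (fun x => (IsFractionRing.lift_algebraMap hinjA₁L x).symm)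
  haveI hintA₁B : Algebra.IsIntegral (CAlg2.red A) B := by
    refine ⟨fun b => ?_⟩
    obtain ⟨P, hP, hPb⟩ := Algebra.IsIntegral.isIntegral (R := A) b
    refine ⟨P.map (e : A →+* CAlg2.red A), hP.map _, ?_⟩
    rw [Polynomial.eval₂_map]
    have : (algebraMap (CAlg2.red A) B).comp (e : A →+* CAlg2.red A) = algebraMap A B := by
      ext a; exact hA₁B a
    rw [this]; exact hPb
  let C : Subalgebra (CAlg2.red A) (FractionRing B) :=
    integralClosure (CAlg2.red A) (FractionRing B)
  let jB : B →ₐ[CAlg2.red A] C :=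
    (IsScalarTower.toAlgHom (CAlg2.red A) B (FractionRing B)).codRestrict C (fun b =>
      (Algebra.IsIntegral.isIntegral (R := CAlg2.red A) b).map
        (IsScalarTower.toAlgHom (CAlg2.red A) B (FractionRing B)))
  let jA' : CAlg2.normRed A →ₐ[CAlg2.red A] C :=
    (IsScalarTower.toAlgHom (CAlg2.red A) (CAlg2.normRed A) (FractionRing B)).codRestrict C
      (fun a' => by
        have h1 : IsIntegral (CAlg2.red A) (a' : FractionRing (CAlg2.red A)) := a'.2
        exact h1.map (IsScalarTower.toAlgHom (CAlg2.red A) (FractionRing (CAlg2.red A))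
          (FractionRing B)))
  letI algBC : Algebra B C := jB.toRingHom.toAlgebra
  letI algA'C : Algebra (CAlg2.normRed A) C := jA'.toRingHom.toAlgebra
  haveI : IsScalarTower (CAlg2.red A) B C :=
    IsScalarTower.of_algebraMap_eq (fun x => (jB.commutes x).symm)
  haveI : IsScalarTower (CAlg2.red A) (CAlg2.normRed A) C :=
    IsScalarTower.of_algebraMap_eq (fun x => (jA'.commutes x).symm)
  have hBC : Function.Injective (algebraMap B C) := by
    intro x y hxy
    apply IsFractionRing.injective B (FractionRing B)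
    exact congrArg Subtype.val hxy
  haveI : FaithfulSMul (CAlg2.normRed A) C := by
    rw [faithfulSMul_iff_algebraMap_injective]
    intro x y hxy
    have h1 : algebraMap (FractionRing (CAlg2.red A)) (FractionRing B) (x : FractionRing (CAlg2.red A)) =
        algebraMap (FractionRing (CAlg2.red A)) (FractionRing B) (y : FractionRing (CAlg2.red A)) :=
      congrArg Subtype.val hxy
    exact Subtype.ext ((algebraMap (FractionRing (CAlg2.red A)) (FractionRing B)).injective h1)
  haveI : Algebra.IsIntegral (CAlg2.normRed A) C :=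
    ⟨fun x => (Algebra.IsIntegral.isIntegral (R := CAlg2.red A) x).tower_top⟩
  haveI : Algebra.IsIntegral B C :=
    ⟨fun x => (Algebra.IsIntegral.isIntegral (R := CAlg2.red A) x).tower_top⟩
  haveI : IsIntegrallyClosed (CAlg2.normRed A) :=
    integralClosure.isIntegrallyClosedOfFiniteExtension (R := CAlg2.red A)
      (FractionRing (CAlg2.red A)) (L := FractionRing (CAlg2.red A))
  have hnmax : (n.comap (algebraMap (CAlg2.red A) B)).IsMaximal := by
    have : n.comap (algebraMap (CAlg2.red A) B) =
        (n.comap (algebraMap A B)).comap (e.symm : CAlg2.red A →+* A) := by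
      rw [Ideal.comap_comap]; rfl
    rw [this, hn]
    exact Ideal.comap_isMaximal_of_surjective _ e.symm.surjective
  obtain ⟨q, hqprime, hqn, hq⟩ := core (A₁ := CAlg2.red A) (A' := CAlg2.normRed A) (B := B) (C := C)
    hBC n hnmax (p.comap (e.symm : CAlg2.red A →+* A))
  refine ⟨q, hqprime, hqn, ?_⟩
  ext a
  rw [Ideal.mem_comap, ← hA₁B a, ← Ideal.mem_comap, hq, Ideal.mem_comap]
  change e.symm (e a) ∈ p ↔ _
  rw [e.symm_apply_apply]

end Groth.Agent.S4935
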