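import Groth.Statements.S3415
import Groth.Agent.Lib.lead.SteinLscA
import Groth.Agent.S7838
import Groth.Agent.S3411

set_option autoImplicit false
open CategoryTheory AlgebraicGeometry
universe u
open EGA43

namespace Groth.Agent.S3415

/-- Let Y be locally Noetherian, f : X ⟶ Y proper and n(z) the geometric number of connected components
of the fibre over z. If y is a point such that f is universally open at every point of the fibre
over y, then n is lower semicontinuous at y. -/
theorem result {X Y : Scheme.{u}} [IsLocallyNoetherian Y] (f : X ⟶ Y)
    [IsProper f] (y : Y) (h : ∀ x : X, f.base x = y → EGA43.IsUnivOpenAt f x) :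
    ∃ V ∈ nhds y, ∀ z ∈ V, MoreMor.nGeomConnComp f y ≤ MoreMor.nGeomConnComp f z := by
  have hfin : IsFinite f.fromNormalization :=
    Groth.Agent.Lib.Helper21.ProperGamma.isFinite_fromNormalization f
  have : Surjective f.toNormalization :=
    Groth.Agent.Lib.Helper21.SteinUH.surjective_toNormalization f
  have hg : ∀ s' : f.normalization, f.fromNormalization.base s' = y →
      EGA43.IsUnivOpenAt f.fromNormalization s' := by
    intro s' hs'
    refine Groth.Agent.Lib.lead.SteinLsc.isUnivOpenAt_of_comp f.toNormalization
      f.fromNormalization s' (fun x hx => ?_)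
    rw [Scheme.Hom.toNormalization_fromNormalization]
    refine h x ?_
    have : (f.toNormalization ≫ f.fromNormalization).base x = y := by
      rw [Scheme.Hom.comp_base, TopCat.comp_app, hx, hs']
    rwa [Scheme.Hom.toNormalization_fromNormalization] at this
  obtain ⟨V, hV, hVle⟩ := Groth.Agent.S3411.result f.fromNormalization y hg
  refine ⟨V, hV, fun z hz => ?_⟩
  rw [(Groth.Agent.S7838.result f y).2, (Groth.Agent.S7838.result f z).2]
  exact hVle z hz

end Groth.Agent.S3415
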