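import Groth.Statements.S16323
import Mathlib
import Groth.Agent.Lib.Helper21.MatResLoc
import Groth.Agent.Lib.Helper21.PolyDepth
import Groth.Agent.Lib.helper11.ABFormula

set_option autoImplicit false
universe u
open GrSyz

namespace Groth.Agent.S16323

open CategoryTheory IsLocalRing
open Groth.Agent.Lib.Helper21 Groth.Agent.Lib.Helper21.MatRes Groth.Agent.Lib.Helper21.MatResLoc
  Groth.Agent.Lib.Helper21.PolyDepth


/-- Let k be an algebraically closed field of characteristic zero, S = k[x_0, …, x_n] graded by degree,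
𝔪 = (x_0, …, x_n), M a finitely generated ℤ-graded S-module and F a minimal graded free resolution
of M (finite-rank free modules with homogeneous bases, every matrix entry of every differential in
𝔪) of length exactly ℓ: F_ℓ ≠ 0 and F_i = 0 for i > ℓ, so that ℓ is the projective dimension of M.
Then ℓ + depth(𝔪, M) = n + 1, where depth(𝔪, M) is the 𝔪-depth of M (supremum in ℕ∞ of the lengths
of M-regular sequences with terms in 𝔪). (The published statement is pd M = depth(𝔪, S) − depth(𝔪,
M) for a graded ring S with maximal ideal 𝔪 and a finitely generated module of finite projective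
dimension; stated here, as the text then specialises it, for the polynomial ring, where depth(𝔪, S)
= n + 1 and the projective dimension is the length of a minimal graded free resolution.) -/
theorem result (k : Type u) [Field k] [IsAlgClosed k] [CharZero k] (n : ℕ)
    (M : Type u) [AddCommGroup M] [Module k M] [Module (MvPolynomial (Fin (n + 1)) k) M]
    [IsScalarTower k (MvPolynomial (Fin (n + 1)) k) M] [Module.Finite (MvPolynomial (Fin (n + 1)) k) M]
    (ℳ : ℤ → Submodule k M) [DirectSum.Decomposition ℳ] [SetLike.GradedSMul (GrSyz.stdGr k (Fin (n + 1))) ℳ]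
    (F : GrSyz.FreeRes (GrSyz.stdGr k (Fin (n + 1))) ℳ) (hF : F.IsMinimal (GrSyz.irrel (GrSyz.stdGr k (Fin (n + 1)))).toIdeal)
    (ℓ : ℕ) (hℓ : F.HasLengthLE ℓ) (hℓ' : F.rk ℓ ≠ 0) :
    (ℓ : ℕ∞) + LocCoh.idealDepth (GrSyz.irrel (GrSyz.stdGr k (Fin (n + 1)))).toIdeal M = ((n + 1 : ℕ) : ℕ∞) := by
  set 𝔪 := (GrSyz.irrel (GrSyz.stdGr k (Fin (n + 1)))).toIdeal with h𝔪
  haveI : 𝔪.IsMaximal := Groth.Agent.Lib.Helper21.GrSyzIrrel.irrel_isMaximal k (Fin (n + 1))
  let G : MatRes (MvPolynomial (Fin (n + 1)) k) M :=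
    ⟨F.rk, F.d, F.augLin, F.aug_surjective, F.exact_zero, F.exact_succ⟩
  let Gp := localize 𝔪.primeCompl G
  have hmem : ∀ i a b, Gp.d i a b ∈ maximalIdeal (Localization.AtPrime 𝔪) := by
    intro i a b
    exact (IsLocalization.AtPrime.to_map_mem_maximal_iff _ 𝔪 _).2 (hF i a b)
  have h1 : HasProjectiveDimensionLT
      (ModuleCat.of (Localization.AtPrime 𝔪) (LocalizedModule 𝔪.primeCompl M)) (ℓ + 1) :=
    hasProjectiveDimensionLT_of_rk Gp ℓ (fun i hi => hℓ i hi)
  have h2 : ¬ HasProjectiveDimensionLT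
      (ModuleCat.of (Localization.AtPrime 𝔪) (LocalizedModule 𝔪.primeCompl M)) ℓ :=
    not_hasProjectiveDimensionLT Gp (maximalIdeal (Localization.AtPrime 𝔪)) hmem ℓ hℓ'
  haveI : Nontrivial (LocalizedModule 𝔪.primeCompl M) := by
    by_contra hnt
    rw [not_nontrivial_iff_subsingleton] at hnt
    have hz : Limits.IsZero
        (ModuleCat.of (Localization.AtPrime 𝔪) (LocalizedModule 𝔪.primeCompl M)) :=
      ModuleCat.isZero_of_subsingleton _
    have := hz.hasProjectiveDimensionLT_zero
    exact h2 (hasProjectiveDimensionLT_of_ge _ 0 ℓ (Nat.zero_le _))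
  have hAB := Groth.Agent.Lib.helper11.ABFormula.depth_eq_add_depth
    (R := Localization.AtPrime 𝔪) (LocalizedModule 𝔪.primeCompl M) ℓ h1 h2
  rw [depth_localization_irrel k (n + 1)] at hAB
  rw [idealDepth_eq_depth_of_isMaximal 𝔪, ← hAB]

end Groth.Agent.S16323
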