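import Groth.Statements.S15429
import Mathlib
import Groth.Agent.S15428

set_option autoImplicit false
universe u
open GrSyz

namespace Groth.Agent.S15429

section helpers
open Polynomial

/-- The polynomial `d ↦ C(d - a + r, r)`. -/
noncomputable def Q (r : ℕ) (a : ℤ) : Polynomial ℚ :=
  C (1 / (r.factorial : ℚ)) * (descPochhammer ℚ r).comp (X + C ((r : ℚ) - a))

lemma Q_eval (r : ℕ) (a d : ℤ) (h : a - r ≤ d) :
    (Q r a).eval (d : ℚ) =
      (((if a ≤ d then ((Nat.choose (r + (d - a).toNat) r : ℕ) : ℤ) else 0 : ℤ)) : ℚ) := by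
  obtain ⟨n, hn⟩ := Int.eq_ofNat_of_zero_le (show 0 ≤ d + r - a by omega)
  have hq : (d : ℚ) + ((r : ℚ) - a) = (n : ℚ) := by
    have : ((d + r - a : ℤ) : ℚ) = ((n : ℤ) : ℚ) := by rw [hn]
    push_cast at this
    linarith
  have hfact : (r.factorial : ℚ) ≠ 0 := by exact_mod_cast r.factorial_ne_zero
  simp only [Q, eval_mul, eval_C, eval_comp, eval_add, eval_X]
  rw [hq, descPochhammer_eval_eq_descFactorial, Nat.descFactorial_eq_factorial_mul_choose]
  push_cast
  rw [one_div, ← mul_assoc, inv_mul_cancel₀ hfact, one_mul]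
  by_cases hd : a ≤ d
  · rw [if_pos hd]
    have : n = r + (d - a).toNat := by omega
    rw [this]
  · rw [if_neg hd]
    have : n < r := by omega
    rw [Nat.choose_eq_zero_of_lt this]
    simp

end helpers


/-- Let k be a field, S = k[x_0, …, x_r] graded by degree and M a ℤ-graded S-module with a finite graded
free resolution 0 → F_m → … → F_0 → M → 0 by free modules of finite rank with homogeneous bases, the
basis vectors of F_i having degrees a_{i,b}. Then there is a polynomial P with rational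
coefficients, the Hilbert polynomial of M, with dim_k M_d = P(d) for every integer d such that d ≥
a_{i,b} − r for all i and b. -/
theorem result (k : Type u) [Field k] (r : ℕ)
    (M : Type u) [AddCommGroup M] [Module k M] [Module (MvPolynomial (Fin (r + 1)) k) M]
    [IsScalarTower k (MvPolynomial (Fin (r + 1)) k) M] [Module.Finite (MvPolynomial (Fin (r + 1)) k) M]
    (ℳ : ℤ → Submodule k M) [DirectSum.Decomposition ℳ] [SetLike.GradedSMul (GrSyz.stdGr k (Fin (r + 1))) ℳ]
    (F : GrSyz.FreeRes (GrSyz.stdGr k (Fin (r + 1))) ℳ) (m : ℕ) (hF : F.HasLengthLE m) :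
    ∃ P : Polynomial ℚ, ∀ d : ℤ, (∀ (i : ℕ) (b : Fin (F.rk i)), F.deg i b - (r : ℤ) ≤ d) →
      ((Module.finrank k ↥(ℳ d) : ℤ) : ℚ) = P.eval (d : ℚ) := by
  refine ⟨∑ i ∈ Finset.range (m + 1), (-1 : Polynomial ℚ) ^ i * ∑ b : Fin (F.rk i), Q r (F.deg i b), ?_⟩
  intro d hd
  rw [Groth.Agent.S15428.result k r M ℳ F m hF d]
  rw [Polynomial.eval_finsetSum]
  push_cast
  refine Finset.sum_congr rfl fun i _ => ?_
  rw [Polynomial.eval_mul, Polynomial.eval_pow, Polynomial.eval_neg, Polynomial.eval_one,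
    Polynomial.eval_finsetSum]
  congr 1
  refine Finset.sum_congr rfl fun b _ => ?_
  rw [Q_eval r _ d (hd i b)]
  push_cast
  rfl

end Groth.Agent.S15429
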