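import Groth.Statements.S4492
import Mathlib.Algebra.Homology.ShortComplex.ModuleCat
import Mathlib.CategoryTheory.Limits.Preserves.Shapes.Zero
-- import your own Groth.Agent.* helpers here

set_option autoImplicit false
universe u
open FlatCx

namespace Groth.Agent.S4492

section lin
variable {R : Type*} [Ring R] {X₁ X₂ X₃ : Type*} [AddCommGroup X₁] [AddCommGroup X₂]
  [AddCommGroup X₃] [Module R X₁] [Module R X₂] [Module R X₃]
  (f : X₁ →ₗ[R] X₂) (g : X₂ →ₗ[R] X₃) (H : Function.Exact f g)

include H in
theorem length_decomp :
    Module.length R X₂ = Module.length R (LinearMap.range f) + Module.length R (LinearMap.range g) := by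
  have h1 := Module.length_eq_add_of_exact (LinearMap.ker g).subtype g.rangeRestrict
    (Submodule.subtype_injective _) g.surjective_rangeRestrict (by
      intro x
      constructor
      · intro hx
        have : g x = 0 := by
          have := congrArg Subtype.val hx
          simpa using this
        exact ⟨⟨x, this⟩, rfl⟩
      · rintro ⟨y, rfl⟩
        apply Subtype.ext
        simp)
  rw [h1, LinearMap.exact_iff.mp H]

theorem length_X₁ :
    Module.length R X₁ = Module.length R (LinearMap.ker f) + Module.length R (LinearMap.range f) :=
  Module.length_eq_add_of_exact (LinearMap.ker f).subtype f.rangeRestrict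
    (Submodule.subtype_injective _) f.surjective_rangeRestrict (by
      intro x
      constructor
      · intro hx
        have : f x = 0 := by
          have := congrArg Subtype.val hx
          simpa using this
        exact ⟨⟨x, this⟩, rfl⟩
      · rintro ⟨y, rfl⟩
        apply Subtype.ext
        simp)

theorem length_X₃ :
    Module.length R X₃ = Module.length R (LinearMap.range g) +
      Module.length R (X₃ ⧸ LinearMap.range g) :=
  Module.length_eq_add_of_exact (LinearMap.range g).subtype (LinearMap.range g).mkQ
    (Submodule.subtype_injective _) (Submodule.mkQ_surjective _)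
    (LinearMap.exact_subtype_mkQ _)

include H in
theorem length_le : Module.length R X₂ ≤ Module.length R X₁ + Module.length R X₃ := by
  rw [length_decomp f g H, length_X₁ f, length_X₃ g]
  calc Module.length R (LinearMap.range f) + Module.length R (LinearMap.range g)
      ≤ (Module.length R (LinearMap.ker f) + Module.length R (LinearMap.range f)) +
          Module.length R (LinearMap.range g) := by gcongr; exact le_add_self
    _ ≤ _ := by gcongr; exact le_self_add

include H in
theorem length_eq_iff (h₁ : Module.length R X₁ ≠ ⊤) (h₃ : Module.length R X₃ ≠ ⊤) :
    Module.length R X₂ = Module.length R X₁ + Module.length R X₃ ↔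
      Function.Injective f ∧ Function.Surjective g := by
  have e1 := length_X₁ f
  have e3 := length_X₃ g
  rw [length_decomp f g H]
  have hk : Module.length R (LinearMap.ker f) ≠ ⊤ := by
    intro h; rw [h, top_add] at e1; exact h₁ e1
  have hr₁ : Module.length R (LinearMap.range f) ≠ ⊤ := by
    intro h; rw [h, add_top] at e1; exact h₁ e1
  have hr₂ : Module.length R (LinearMap.range g) ≠ ⊤ := by
    intro h; rw [h, top_add] at e3; exact h₃ e3
  have hc : Module.length R (X₃ ⧸ LinearMap.range g) ≠ ⊤ := by
    intro h; rw [h, add_top] at e3; exact h₃ e3
  have hinj : Function.Injective f ↔ Module.length R (LinearMap.ker f) = 0 := by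
    rw [Module.length_eq_zero_iff, Submodule.subsingleton_iff_eq_bot, LinearMap.ker_eq_bot]
  have hsurj : Function.Surjective g ↔ Module.length R (X₃ ⧸ LinearMap.range g) = 0 := by
    rw [Module.length_eq_zero_iff, Submodule.Quotient.subsingleton_iff, LinearMap.range_eq_top]
  rw [hinj, hsurj, e1, e3]
  generalize Module.length R (LinearMap.ker f) = k at *
  generalize Module.length R (LinearMap.range f) = r₁ at *
  generalize Module.length R (LinearMap.range g) = r₂ at *
  generalize Module.length R (X₃ ⧸ LinearMap.range g) = c at *
  lift k to ℕ using hk
  lift r₁ to ℕ using hr₁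
  lift r₂ to ℕ using hr₂
  lift c to ℕ using hc
  norm_cast
  omega

end lin

open CategoryTheory CategoryTheory.Limits in
/-- (The published statement is for arbitrary abelian categories; this row is for functors between
module categories.) Let F be an additive functor from A-modules to B-modules which is half exact
(every short exact sequence 0 → E' → E → E'' → 0 goes to a sequence F(E') → F(E) → F(E'') exact at
the middle) and such that F(S) has finite length for every simple A-module S. Then F(E) has finite
length for every A-module E of finite length; and for every short exact sequence 0 → E' → E → E'' →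
0 of A-modules with E of finite length one has length F(E) ≤ length F(E') + length F(E''), with
equality if and only if 0 → F(E') → F(E) → F(E'') → 0 is (short) exact. Lengths are Mathlib's,
valued in ℕ∞. -/
theorem result {A B : Type u} [Ring A] [Ring B]
    (F : ModuleCat.{u} A ⥤ ModuleCat.{u} B) [F.Additive]
    (hF : ∀ S : ShortComplex (ModuleCat.{u} A), S.ShortExact → (S.map F).Exact)
    (hS : ∀ M : ModuleCat.{u} A, IsSimpleModule A M → Module.length B (F.obj M) ≠ ⊤) :
    (∀ E : ModuleCat.{u} A, Module.length A E ≠ ⊤ → Module.length B (F.obj E) ≠ ⊤) ∧
      ∀ S : ShortComplex (ModuleCat.{u} A), S.ShortExact → Module.length A S.X₂ ≠ ⊤ →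
        Module.length B (F.obj S.X₂) ≤ Module.length B (F.obj S.X₁) + Module.length B (F.obj S.X₃) ∧
          (Module.length B (F.obj S.X₂) = Module.length B (F.obj S.X₁) + Module.length B (F.obj S.X₃) ↔
            (S.map F).ShortExact) := by
  have part1 : ∀ E : ModuleCat.{u} A, Module.length A E ≠ ⊤ → Module.length B (F.obj E) ≠ ⊤ := by
    intro E hE
    rw [Module.length_ne_top_iff] at hE
    suffices h : ∀ (M : Type u) [AddCommGroup M] [Module A M], IsFiniteLength A M →
        Module.length B (F.obj (ModuleCat.of A M)) ≠ ⊤ from h E hE
    intro M _ _ hM
    induction hM with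
    | of_subsingleton =>
      rename_i M _ _ _
      have hz : IsZero (ModuleCat.of A M) := ModuleCat.isZero_of_subsingleton _
      have hz' : IsZero (F.obj (ModuleCat.of A M)) := F.map_isZero hz
      have := ModuleCat.subsingleton_of_isZero hz'
      rw [Module.length_eq_zero]
      exact ENat.zero_ne_top
    | of_simple_quotient hN ih =>
      rename_i M _ _ N _
      let S : ShortComplex (ModuleCat.{u} A) :=
        ShortComplex.moduleCatMk N.subtype N.mkQ (by ext; simp)
      have hSe : S.ShortExact := ModuleCat.shortComplex_shortExact S
        (LinearMap.exact_subtype_mkQ N) (Submodule.subtype_injective N) (Submodule.mkQ_surjective N)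
      have hex : (S.map F).Exact := hF S hSe
      have hex' := (ShortComplex.ShortExact.moduleCat_exact_iff_function_exact _).mp hex
      have hle := length_le (S.map F).f.hom (S.map F).g.hom hex'
      have h3 : Module.length B (F.obj (ModuleCat.of A (M ⧸ N))) ≠ ⊤ := hS _ ‹_›
      intro htop
      have : Module.length B (F.obj (ModuleCat.of A N)) + Module.length B (F.obj (ModuleCat.of A (M ⧸ N))) = ⊤ := by
        apply top_unique
        calc (⊤ : ℕ∞) = Module.length B (F.obj (ModuleCat.of A M)) := htop.symm
          _ ≤ _ := hle
      rcases WithTop.add_eq_top.mp this with h | h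
      · exact ih h
      · exact h3 h
  refine ⟨part1, ?_⟩
  intro S hSe hS2
  have hX₁ : Module.length A S.X₁ ≠ ⊤ := by
    intro h
    have := Module.length_le_of_injective S.f.hom hSe.moduleCat_injective_f
    rw [h] at this
    exact hS2 (top_unique this)
  have hX₃ : Module.length A S.X₃ ≠ ⊤ := by
    intro h
    have := Module.length_le_of_surjective S.g.hom hSe.moduleCat_surjective_g
    rw [h] at this
    exact hS2 (top_unique this)
  have hex : (S.map F).Exact := hF S hSe
  have hex' := (ShortComplex.ShortExact.moduleCat_exact_iff_function_exact _).mp hex
  refine ⟨length_le (S.map F).f.hom (S.map F).g.hom hex', ?_⟩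
  refine (length_eq_iff (S.map F).f.hom (S.map F).g.hom hex' (part1 _ hX₁) (part1 _ hX₃)).trans ?_
  constructor
  · rintro ⟨hi, hs⟩
    exact ModuleCat.shortComplex_shortExact _ hex' hi hs
  · intro h
    exact ⟨h.moduleCat_injective_f, h.moduleCat_surjective_g⟩

end Groth.Agent.S4492
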