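import Groth.Statements.S1562
import Groth.Agent.Lib.Helper5.StalkFT
import Groth.Agent.Lib.Helper5.ProjSpreadF

set_option autoImplicit false
universe u
open CategoryTheory CategoryTheory.Limits AlgebraicGeometry
open Variety

namespace Groth.Agent.S1562

/-- Let X be locally of finite type over a field k and x a point of X. Then X is geometrically regular
at x (regular local rings at all points over x after every finitely generated field extension) if
and only if x lies in the smooth locus of X → Spec k. -/
theorem result (k : Type u) [Field k] (X : Scheme.{u}) [X.Over (Spec (CommRingCat.of k))] [LocallyOfFinitePresentation (X ↘ (Spec (CommRingCat.of k)))] (x : X) :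
    Curv2.IsGeomRegularAt k X x ↔ x ∈ (X ↘ (Spec (CommRingCat.of k))).smoothLocus := by
  let _ : Algebra k (X.presheaf.stalk x) := Curv2.stalkAlgebra k X x
  obtain ⟨C, _, _, hfin, q, _, ⟨eX⟩, hiff⟩ :=
    Groth.Agent.Lib.Helper5.StalkFT.exists_model k X x
  have hcrit := Groth.Agent.Lib.Helper5.ProjSpread.formallySmooth_iff_geomRegular_of_finiteType
    (k := k) q
  have hNC : IsNoetherianRing C := Algebra.FiniteType.isNoetherianRing k C
  have hNq : IsNoetherianRing (Localization.AtPrime q) :=
    IsLocalization.isNoetherianRing q.primeCompl _ hNC
  have hNs : IsNoetherianRing (X.presheaf.stalk x) :=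
    isNoetherianRing_of_ringEquiv _ eX.toRingEquiv
  rw [hiff, hcrit]
  constructor
  · intro h
    refine Groth.Agent.Lib.Helper5.ProjSpread.geomRegular_of_algEquiv eX.symm ?_
    intro k' _ _ hfink
    have hfg : (⊤ : IntermediateField k k').FG := IntermediateField.fg_top k k'
    have hN : IsNoetherianRing (TensorProduct k (X.presheaf.stalk x) k') :=
      IsNoetherianRing.of_finite (X.presheaf.stalk x) _
    have hint : Algebra.IsIntegral k k' := inferInstance
    have hreg := Groth.Agent.Lib.Helper5.StalkBC.regular_tensor_of_regular_points k X k' x
      (fun x' hx' => h k' hfg x' hx')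
    exact IsRegularRing.of_ringEquiv
      (Algebra.TensorProduct.comm k (X.presheaf.stalk x) k').toRingEquiv
  · intro h k' _ _ hfg x' hx'
    have hsm : Algebra.FormallySmooth k (Localization.AtPrime q) := hcrit.mpr h
    have hess : Algebra.EssFiniteType k (Localization.AtPrime q) :=
      Algebra.EssFiniteType.comp k C (Localization.AtPrime q)
    have hN : IsNoetherianRing (TensorProduct k k' (Localization.AtPrime q)) :=
      Algebra.EssFiniteType.isNoetherianRing k' _
    have hreg : IsRegularRing (TensorProduct k k' (Localization.AtPrime q)) :=
      Groth.Agent.Lib.Helper5.ProjSpread.isRegularRing_baseChange_of_formallySmooth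
    have hreg2 : IsRegularRing (TensorProduct k (X.presheaf.stalk x) k') :=
      IsRegularRing.of_ringEquiv
        ((Algebra.TensorProduct.congr (AlgEquiv.refl (R := k) (A₁ := k')) eX).trans
          (Algebra.TensorProduct.comm k k' (X.presheaf.stalk x))).toRingEquiv
    exact Groth.Agent.Lib.Helper5.StalkBC.regular_point_of_regular_tensor k X k' x hreg2 x' hx'

end Groth.Agent.S1562
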