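import Groth.Statements.S7606
import Groth.Agent.Lib.Helper5.StalkBCE
import Groth.Agent.Lib.Helper5.GeomRegFG3

set_option autoImplicit false
universe u
open CategoryTheory CategoryTheory.Limits AlgebraicGeometry
attribute [local instance] Curv2.stalkAlgebra
open Variety

namespace Groth.Agent.S7606

/-- Let X be a locally Noetherian scheme over a field k and x a point of X. These conditions are
equivalent: (1) the scheme X is geometrically regular at x; (2) whenever k'/k is finite and purely
inseparable, the local ring O_{X_{k'}, x'} is regular at each point x' of X_{k'} lying over x; (3)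
the local ring O_{X, x} is geometrically regular over k (k' ⊗_k O_{X, x} is a regular ring for every
finite extension k' of k). Stated as (1) ↔ (2) together with (2) ↔ (3). -/
theorem result (k : Type u) [Field k] (X : Scheme.{u}) [X.Over (Spec (CommRingCat.of k))] [IsLocallyNoetherian X] (x : ↥X) :
    (Curv2.IsGeomRegularAt k X x ↔
      ∀ (k' : Type u) [Field k'] [Algebra k k'] [FiniteDimensional k k'] [IsPurelyInseparable k k'] (x' : ↥(Curv2.bc k X k')),
        Curv2.bcFst k X k' x' = x → IsRegularLocalRing ↥((Curv2.bc k X k').presheaf.stalk x')) ∧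
    ((∀ (k' : Type u) [Field k'] [Algebra k k'] [FiniteDimensional k k'] [IsPurelyInseparable k k'] (x' : ↥(Curv2.bc k X k')),
        Curv2.bcFst k X k' x' = x → IsRegularLocalRing ↥((Curv2.bc k X k').presheaf.stalk x')) ↔
      CAlg.IsGeometricallyRegular k ↥(X.presheaf.stalk x)) := by
  have hA : IsNoetherianRing (X.presheaf.stalk x) := inferInstance
  have key32 : CAlg.IsGeometricallyRegular k (X.presheaf.stalk x) →
      ∀ (k' : Type u) [Field k'] [Algebra k k'] [Algebra.EssFiniteType k k']
        (x' : ↥(Curv2.bc k X k')),
        Curv2.bcFst k X k' x' = x → IsRegularLocalRing ↥((Curv2.bc k X k').presheaf.stalk x') := by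
    intro h3 k' _ _ _ x' hx'
    have h1 : IsRegularRing (TensorProduct k k' (X.presheaf.stalk x)) :=
      Groth.Agent.Lib.Helper5.GeomRegFG.regular_tensor_of_fg k k' (X.presheaf.stalk x)
        (fun k'' _ _ hf _ => h3 k'' hf)
    have h2 : IsRegularRing (TensorProduct k (X.presheaf.stalk x) k') :=
      IsRegularRing.of_ringEquiv
        (Algebra.TensorProduct.comm k k' (X.presheaf.stalk x)).toRingEquiv
    exact Groth.Agent.Lib.Helper5.StalkBC.regular_point_of_regular_tensor k X k' x h2 x' hx'
  have key23 : (∀ (k' : Type u) [Field k'] [Algebra k k'] [FiniteDimensional k k']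
      [IsPurelyInseparable k k'] (x' : ↥(Curv2.bc k X k')),
      Curv2.bcFst k X k' x' = x → IsRegularLocalRing ↥((Curv2.bc k X k').presheaf.stalk x')) →
      CAlg.IsGeometricallyRegular k (X.presheaf.stalk x) := by
    intro h2 k' _ _ hfin
    have : Algebra.EssFiniteType k k' := inferInstance
    apply Groth.Agent.Lib.Helper5.GeomRegFG.regular_tensor_of_fg k k' (X.presheaf.stalk x)
    intro k'' _ _ hf hpi
    have hN : IsNoetherianRing (TensorProduct k (X.presheaf.stalk x) k'') :=
      IsNoetherianRing.of_finite (X.presheaf.stalk x) _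
    have h4 : IsRegularRing (TensorProduct k (X.presheaf.stalk x) k'') :=
      Groth.Agent.Lib.Helper5.StalkBC.regular_tensor_of_regular_points k X k'' x
        (fun x' hx' => h2 k'' x' hx')
    exact IsRegularRing.of_ringEquiv
      (Algebra.TensorProduct.comm k (X.presheaf.stalk x) k'').toRingEquiv
  refine ⟨⟨?_, ?_⟩, ⟨key23, ?_⟩⟩
  · intro h1 k' _ _ hfin _ x' hx'
    refine h1 k' ?_ x' hx'
    exact IntermediateField.fg_top_iff.mpr inferInstance
  · intro h2 k' _ _ hfg x' hx'
    have : Algebra.EssFiniteType k k' := IntermediateField.fg_top_iff.mp hfg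
    exact key32 (key23 h2) k' x' hx'
  · intro h3 k' _ _ hfin _ x' hx'
    exact key32 h3 k' x' hx'

end Groth.Agent.S7606
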