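import Groth.Statements.S9722
import Mathlib
set_option backward.isDefEq.respectTransparency.types false

set_option autoImplicit false
universe u
open CategoryTheory AlgebraicGeometry
open Mor

namespace Groth.Agent.S9722
open CategoryTheory CategoryTheory.Limits AlgebraicGeometry TopologicalSpace

theorem etale_appLE_of_nhd {X S : Scheme.{u}} (f : X ⟶ S) (W : X.Opens) [Etale (W.ι ≫ f)]
    (V : S.Opens) (hV : IsAffineOpen V) (U₀ : X.Opens) (hU₀ : IsAffineOpen U₀) (hU₀W : U₀ ≤ W)
    (e₀ : U₀ ≤ f ⁻¹ᵁ V) : (f.appLE V U₀ e₀).hom.Etale := by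
  have h1 : Etale (U₀.ι ≫ f) := by
    rw [← X.homOfLE_ι hU₀W, Category.assoc]; infer_instance
  have h2 : Etale (f.resLE V U₀ e₀) := by
    have : f.resLE V U₀ e₀ ≫ V.ι = U₀.ι ≫ f := Scheme.Hom.resLE_comp_ι f e₀
    exact MorphismProperty.of_postcomp (W := @Etale) (W' := @IsOpenImmersion) _ V.ι
      inferInstance (by rw [this]; exact h1)
  haveI : IsAffine U₀.toScheme := hU₀
  haveI : IsAffine V.toScheme := hV
  rw [HasRingHomProperty.iff_of_isAffine (P := @Etale)] at h2
  exact (RingHom.Etale.respectsIso.arrow_mk_iso_iff (arrowResLEAppIso f V U₀ e₀)).mp h2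


/-- Let f : X ⟶ S be a morphism, x a point of X and V an affine open neighbourhood of f(x) in S. Then f
is étale on some open neighbourhood of x if and only if there is an affine open neighbourhood U of x
with f(U) ⊆ V such that Γ(X, U) is a standard étale algebra over Γ(S, V) through the induced ring
map. -/
theorem result {X S : Scheme.{u}} (f : X ⟶ S) (x : X)
    (V : S.Opens) (hV : IsAffineOpen V) (hxV : f x ∈ V) :
    (∃ W : X.Opens, x ∈ W ∧ Etale (W.ι ≫ f)) ↔
      ∃ (U : X.Opens) (_ : IsAffineOpen U) (_ : x ∈ U) (e : U ≤ f ⁻¹ᵁ V),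
        letI := (f.appLE V U e).hom.toAlgebra
        Algebra.IsStandardEtale Γ(S, V) Γ(X, U) := by
  constructor
  · rintro ⟨W, hxW, hW⟩
    obtain ⟨_, ⟨U₀, hU₀ : IsAffineOpen U₀, rfl⟩, hxU₀, hU₀le⟩ := X.isBasis_affineOpens.exists_subset_of_mem_open
      (show x ∈ (W ⊓ f ⁻¹ᵁ V : X.Opens) from ⟨hxW, hxV⟩) (W ⊓ f ⁻¹ᵁ V).2
    have hU₀W : U₀ ≤ W := fun z hz => (hU₀le hz).1
    have e₀ : U₀ ≤ f ⁻¹ᵁ V := fun z hz => (hU₀le hz).2
    have het := etale_appLE_of_nhd f W V hV U₀ hU₀ hU₀W e₀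
    algebraize [(f.appLE V U₀ e₀).hom]
    obtain ⟨g, hgq, hg⟩ := Algebra.IsEtaleAt.exists_isStandardEtale (R := Γ(S, V))
      (hU₀.primeIdealOf ⟨x, hxU₀⟩).asIdeal
    have hloc := hU₀.isLocalization_basicOpen g
    refine ⟨X.basicOpen g, hU₀.basicOpen g, ?_, (X.basicOpen_le g).trans e₀, ?_⟩
    · rw [← PrimeSpectrum.mem_basicOpen, IsAffineOpen.primeIdealOf,
        ← hU₀.fromSpec_preimage_basicOpen] at hgq
      change hU₀.fromSpec (hU₀.isoSpec.hom ⟨x, hxU₀⟩) ∈ X.basicOpen g at hgq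
      rwa [← Scheme.Hom.comp_apply, IsAffineOpen.isoSpec_hom, IsAffineOpen.toSpecΓ_fromSpec] at hgq
    · letI := (f.appLE V (X.basicOpen g) ((X.basicOpen_le g).trans e₀)).hom.toAlgebra
      haveI : IsScalarTower Γ(S, V) Γ(X, U₀) Γ(X, X.basicOpen g) := by
        refine IsScalarTower.of_algebraMap_eq' ?_
        simp only [RingHom.algebraMap_toAlgebra]
        rw [← CommRingCat.hom_comp, Scheme.Hom.appLE_map]
      exact Algebra.IsStandardEtale.of_equiv
        ((IsLocalization.algEquiv (.powers g) (Localization.Away g)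
          Γ(X, X.basicOpen g)).restrictScalars Γ(S, V))
  · rintro ⟨U, hU, hxU, e, hstd⟩
    refine ⟨U, hxU, ?_⟩
    letI := (f.appLE V U e).hom.toAlgebra
    have het : (f.appLE V U e).hom.Etale := by
      have : (algebraMap Γ(S, V) Γ(X, U)).Etale := RingHom.etale_algebraMap.mpr inferInstance
      rwa [RingHom.algebraMap_toAlgebra] at this
    have : IsAffine U.toScheme := hU
    have : IsAffine V.toScheme := hV
    have h2 : Etale (f.resLE V U e) := by
      rw [HasRingHomProperty.iff_of_isAffine (P := @Etale)]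
      exact (RingHom.Etale.respectsIso.arrow_mk_iso_iff (arrowResLEAppIso f V U e)).mpr het
    rw [← Scheme.Hom.resLE_comp_ι f e]
    infer_instance

end Groth.Agent.S9722
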