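import Groth.Statements.S5048
import Mathlib.AlgebraicGeometry.Properties
import Mathlib.AlgebraicGeometry.Morphisms.UniversallyOpen
-- import your own Groth.Agent.* helpers here

set_option autoImplicit false
open CategoryTheory AlgebraicGeometry
universe u
open Unram

namespace Groth.Agent.S5048

lemma closure_mem_irreducibleComponents_iff {T : Type*} [TopologicalSpace T] [T0Space T]
    [QuasiSober T] (z : T) :
    closure ({z} : Set T) ∈ irreducibleComponents T ↔ ∀ w : T, w ⤳ z → w = z := by
  constructor
  · intro h w hw
    have h1 : closure {z} ⊆ closure {w} := specializes_iff_closure_subset.mp hw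
    have h2 : closure {w} ⊆ closure {z} := h.2 isIrreducible_singleton.closure h1
    exact ((specializes_iff_closure_subset.mpr h2).antisymm hw).eq.symm
  · intro key
    refine ⟨isIrreducible_singleton.closure, fun s hs hsub => ?_⟩
    obtain ⟨w, hw⟩ := QuasiSober.sober hs.closure isClosed_closure
    have hwz : w ⤳ z := by
      rw [specializes_iff_mem_closure, hw.def]
      exact subset_closure (hsub (subset_closure rfl))
    rw [key w hwz] at hw
    exact hw.def ▸ subset_closure

/-- Let Y be an irreducible scheme with generic point η and f : X ⟶ Y flat, locally of finite type and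
locally quasi-finite. Then a point x of X maps to η if and only if its closure is an irreducible
component of X; thus the irreducible components of X are in canonical bijection with the fibre over
η. -/
theorem result {X Y : Scheme.{u}} [IrreducibleSpace ↥Y] (f : X ⟶ Y)
    [Flat f] [LocallyOfFiniteType f] [LocallyQuasiFinite f] (x : X) :
    f.base x = genericPoint Y ↔ closure ({x} : Set ↥X) ∈ irreducibleComponents ↥X := by
  rw [closure_mem_irreducibleComponents_iff]
  constructor
  · intro hx w hw
    have h1 : f w ⤳ f x := hw.map f.continuous
    have h2 : f w = genericPoint Y := by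
      rw [hx] at h1
      exact (h1.antisymm (genericPoint_specializes (f w))).eq
    have hd : _root_.IsDiscrete (f ⁻¹' {genericPoint Y}) := f.isDiscrete_preimage_singleton _
    have hdt : DiscreteTopology ↥(f ⁻¹' {genericPoint Y}) := isDiscrete_iff_discreteTopology.mp hd
    let w' : ↥(f ⁻¹' {genericPoint Y}) := ⟨w, h2⟩
    let x' : ↥(f ⁻¹' {genericPoint Y}) := ⟨x, hx⟩
    have h3 : w' ⤳ x' := Topology.IsInducing.subtypeVal.specializes_iff.mp hw
    have h4 : w' = x' := (specializes_iff_eq.mp h3)
    exact congrArg Subtype.val h4
  · intro key
    obtain ⟨x', hx', hfx'⟩ := (Flat.generalizingMap f) (genericPoint_specializes (f x))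
    rw [key x' hx'] at hfx'
    exact hfx'

end Groth.Agent.S5048
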