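import Groth.Statements.S3581
import Groth.Agent.Lib.Helper28.ProjSpaceSection

set_option autoImplicit false
universe u
open CategoryTheory CategoryTheory.Limits AlgebraicGeometry
open EGA2

namespace Groth.Agent.S3581

open Groth.Agent.Lib.Helper28 in
open Groth.Agent.Lib.Helper28.ProjClosed (fr fr_of_mem) in
open Groth.Agent.Lib.Helper28.Segre2 in
set_option backward.isDefEq.respectTransparency false in
theorem aux (A : Type u) [CommRing A] : IsIso (CohB1.ProjSpace.toSpec 0 A) := by
  let 𝒜 := CohB1.polyGrading 0 A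
  have hsub : Subsingleton (Fin (0 + 1)) := by
    rw [show (0 + 1 : ℕ) = 1 from rfl]; infer_instance
  have hX : (MvPolynomial.X 0 : MvPolynomial (Fin (0 + 1)) A) ∈ 𝒜 1 :=
    MvPolynomial.isHomogeneous_X A 0
  let F : MvPolynomial (Fin (0 + 1)) A →ₐ[A] A := MvPolynomial.aeval fun _ => (1 : A)
  have hu : IsUnit (F.toRingHom (MvPolynomial.X 0)) := by
    change IsUnit (MvPolynomial.aeval (fun _ => (1 : A)) (MvPolynomial.X 0))
    rw [MvPolynomial.aeval_X]; exact isUnit_one
  -- the chart `D₊(X 0)` is everything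
  have hxs : ∀ i : Fin (0 + 1), (MvPolynomial.X i : MvPolynomial (Fin (0 + 1)) A) ∈ 𝒜 1 :=
    fun i => MvPolynomial.isHomogeneous_X A i
  have hgen : Algebra.adjoin A (Set.range fun i : Fin (0 + 1) =>
      (MvPolynomial.X i : MvPolynomial (Fin (0 + 1)) A)) = ⊤ := MvPolynomial.adjoin_range_X
  have htop : Proj.basicOpen 𝒜 (MvPolynomial.X 0) = ⊤ := by
    rw [eq_top_iff]
    rintro p -
    obtain ⟨i, hi⟩ := Segre5.cover_of_adjoin 𝒜 (fun i : Fin (0 + 1) => MvPolynomial.X i) hxs hgen p
    have : i = 0 := Subsingleton.elim _ _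
    rwa [this] at hi
  have hι : IsIso (Proj.awayι 𝒜 (MvPolynomial.X 0) hX one_pos) := by
    apply isIso_of_isOpenImmersion_of_opensRange_eq_top
    rw [Proj.opensRange_awayι, htop]
  -- the ring of the chart is `A`
  have h1 : (Segre1.awayLift 𝒜 F.toRingHom hu).comp
      (algebraMap A (HomogeneousLocalization.Away 𝒜 (MvPolynomial.X 0))) = RingHom.id A := by
    ext r
    change Segre1.awayLift 𝒜 F.toRingHom hu
      (algebraMap A (HomogeneousLocalization.Away 𝒜 (MvPolynomial.X 0)) r) = r
    rw [← Segre5.fr_algebraMap 𝒜 hX r, fr_of_mem 𝒜 hX (SetLike.algebraMap_mem_graded 𝒜 r)]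
    have h2 := Segre1.awayLift_mk 𝒜 F.toRingHom hu hX 0 (algebraMap A _ r)
      (by rw [zero_smul]; exact SetLike.algebraMap_mem_graded 𝒜 r)
    rw [pow_zero, mul_one] at h2
    exact h2.trans (F.commutes r)
  have hsurj : Function.Surjective
      (algebraMap A (HomogeneousLocalization.Away 𝒜 (MvPolynomial.X 0))) := by
    have h3 := Segre5.adjoin_fr_eq_top 𝒜 hX (fun i : Fin (0 + 1) => MvPolynomial.X i) hxs hgen
    have h4 : (Set.range fun k : Fin (0 + 1) => fr 𝒜 hX 1 (MvPolynomial.X k)) = {1} := by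
      ext q
      constructor
      · rintro ⟨k, rfl⟩
        have : k = 0 := Subsingleton.elim _ _
        rw [this]
        exact Segre3.fr_self 𝒜 hX
      · rintro rfl
        exact ⟨0, Segre3.fr_self 𝒜 hX⟩
    rw [h4, Algebra.adjoin_singleton_one] at h3
    intro q
    have : q ∈ (⊥ : Subalgebra A (HomogeneousLocalization.Away 𝒜 (MvPolynomial.X 0))) := by
      rw [h3]; trivial
    exact Algebra.mem_bot.mp this
  have hbij : Function.Bijective (Segre1.awayLift 𝒜 F.toRingHom hu) := by
    constructor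
    · intro a b hab
      obtain ⟨r, rfl⟩ := hsurj a
      obtain ⟨r', rfl⟩ := hsurj b
      have e1 : ∀ x, Segre1.awayLift 𝒜 F.toRingHom hu
          (algebraMap A (HomogeneousLocalization.Away 𝒜 (MvPolynomial.X 0)) x) = x :=
        fun x => congrFun (congrArg DFunLike.coe h1) x
      rw [e1, e1] at hab
      rw [hab]
    · intro r
      exact ⟨algebraMap A _ r, congrFun (congrArg DFunLike.coe h1) r⟩
  have hθ : IsIso (Spec.map (CommRingCat.ofHom (Segre1.awayLift 𝒜 F.toRingHom hu))) := by
    have : IsIso (CommRingCat.ofHom (Segre1.awayLift 𝒜 F.toRingHom hu)) :=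
      (ConcreteCategory.isIso_iff_bijective _).mpr hbij
    infer_instance
  have hs : IsIso (Segre1.chartMap 𝒜 F.toRingHom hX one_pos hu) := by
    unfold Segre1.chartMap; infer_instance
  have hcomp : Segre1.chartMap 𝒜 F.toRingHom hX one_pos hu ≫ CohB1.ProjSpace.toSpec 0 A = 𝟙 _ := by
    change _ ≫ str 𝒜 = _
    unfold Segre1.chartMap
    rw [Category.assoc, awayι_str, ← Spec.map_comp, ← CommRingCat.ofHom_comp, h1]
    exact Spec.map_id _
  have : IsIso (Segre1.chartMap 𝒜 F.toRingHom hX one_pos hu ≫ CohB1.ProjSpace.toSpec 0 A) := by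
    rw [hcomp]; infer_instance
  exact IsIso.of_isIso_comp_left (Segre1.chartMap 𝒜 F.toRingHom hX one_pos hu) _

/-- Over an affine base Spec A, Proj of the graded polynomial algebra A[T] (T of degree one) is
identified with Spec A by its structure morphism: the structure morphism from projective 0-space
over A to Spec A is an isomorphism. -/
theorem result (A : Type u) [CommRing A] :
    IsIso (CohB1.ProjSpace.toSpec 0 A) := by
  exact aux A

end Groth.Agent.S3581
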