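import Groth.Statements.S9438
import Groth.Agent.Lib.helper11.RegularDescent

set_option autoImplicit false
universe u
open CAlg

namespace Groth.Agent.S9438

/-- The condition (R_k) descends along faithfully flat ring maps: if S is faithfully flat over R,
Noetherian and (R_k), then R is Noetherian and (R_k). -/
theorem result (k : ℕ) (R : Type u) [CommRing R] (S : Type u) [CommRing S]
    [Algebra R S] [Module.FaithfullyFlat R S] [IsNoetherianRing S] (hS : LocCoh.HasRk k S) :
    IsNoetherianRing R ∧ LocCoh.HasRk k R := by
  have hR : IsNoetherianRing R := by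
    have e : TensorProduct R S R ≃ₗ[S] S := TensorProduct.AlgebraTensorModule.rid R S S
    have : IsNoetherian S (TensorProduct R S R) := isNoetherian_of_linearEquiv e.symm
    exact Submodule.IsNoetherian.of_isNoetherian_tensorProduct_of_faithfullyFlat (A := S) this
  refine ⟨hR, ?_⟩
  intro p hp hpk
  obtain ⟨⟨q', hq'⟩, hq'p⟩ := PrimeSpectrum.comap_surjective_of_faithfullyFlat (B := S) ⟨p, hp⟩
  have hq'p' : q'.comap (algebraMap R S) = p := congrArg PrimeSpectrum.asIdeal hq'p
  have hle : p.map (algebraMap R S) ≤ q' := by
    rw [Ideal.map_le_iff_le_comap, hq'p']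
  obtain ⟨q, hqmin, hqle⟩ := Ideal.exists_minimalPrimes_le hle
  haveI : q.IsPrime := hqmin.1.1
  haveI hq_over : q.LiesOver p := by
    constructor
    apply le_antisymm
    · rw [Ideal.under_def, ← Ideal.map_le_iff_le_comap]; exact hqmin.1.2
    · rw [Ideal.under_def, ← hq'p']
      exact Ideal.comap_mono hqle
  have hht : q.height ≤ k := by
    have h1 := Ideal.height_le_height_add_of_liesOver p q
    have h2 : (q.map (Ideal.Quotient.mk (p.map (algebraMap R S)))).height = 0 := by
      rw [Ideal.minimalPrimes_eq_comap] at hqmin
      obtain ⟨Q, hQ, rfl⟩ := hqmin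
      rw [Ideal.map_comap_of_surjective _ Ideal.Quotient.mk_surjective]
      haveI := hQ.1.1
      exact Ideal.height_eq_zero_iff.mpr hQ
    rw [h2, add_zero] at h1
    exact h1.trans hpk
  haveI := hS q hht
  letI := Localization.AtPrime.algebraOfLiesOver p q
  haveI : IsLocalHom (algebraMap (Localization.AtPrime p) (Localization.AtPrime q)) := by
    rw [RingHom.algebraMap_toAlgebra]
    exact Localization.isLocalHom_localRingHom p q (algebraMap R S) Ideal.LiesOver.over
  exact Groth.Agent.Lib.helper11.RegularDescent.isRegularLocalRing_of_flat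
    (Localization.AtPrime p) (Localization.AtPrime q)

end Groth.Agent.S9438
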