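import Groth.Statements.S9142
import Groth.Agent.Lib.Helper5.GCIReg
import Groth.Agent.S10918
import Groth.Agent.S6880
import Groth.Agent.Lib.Helper7.FibreCM

set_option autoImplicit false
universe u
open Synt

namespace Groth.Agent.S9142

open Groth.Agent.Lib.Helper21.DepthKit in
/-- a global complete intersection presentation has Cohen–Macaulay local rings. -/
theorem isCM_localization_quot (k : Type u) [Field k] (n c : ℕ) (hcn : c ≤ n)
    (r : Fin c → MvPolynomial (Fin n) k)
    (hdim : ringKrullDim (MvPolynomial (Fin n) k ⧸ Ideal.ofList (List.ofFn r)) =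
      ((n - c : ℕ) : WithBot ℕ∞))
    (P : Ideal (MvPolynomial (Fin n) k ⧸ Ideal.ofList (List.ofFn r))) [P.IsPrime] :
    LocCoh.IsCohenMacaulayLocalRing (Localization.AtPrime P) := by
  have hht : ((List.ofFn r).length : ℕ∞) ≤ (Ideal.ofList (List.ofFn r)).height := by
    rw [List.length_ofFn, Ideal.height_eq_inf_minimalPrimes]
    refine le_iInf₂ fun Q hQ => ?_
    have hQp : Q.IsPrime := hQ.1.1
    have hle : Ideal.ofList (List.ofFn r) ≤ Q := hQ.1.2
    have h1 : ringKrullDim (MvPolynomial (Fin n) k ⧸ Q) ≤ ((n - c : ℕ) : WithBot ℕ∞) := by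
      rw [← hdim]
      exact ringKrullDim_le_of_surjective (Ideal.Quotient.factor hle)
        (Ideal.Quotient.factor_surjective hle)
    have h5 := Groth.Agent.Lib.Helper7.AffDim.mvPolynomial_height_add k n Q
    obtain ⟨a, b, ha, hb, hab⟩ := Groth.Agent.Lib.Helper5.GCIReg.nat_of_add_eq h5
    rw [hb] at h1
    have h2 : b ≤ n - c := by exact_mod_cast h1
    rw [ha]
    have : c ≤ a := by omega
    exact_mod_cast this
  have hreg : ∀ (p : Ideal (MvPolynomial (Fin n) k)) (_ : p.IsPrime),
      IsRegularLocalRing (Localization.AtPrime p) := fun p _ => inferInstance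
  obtain ⟨hcm, -⟩ := Groth.Agent.S10918.quot_ofList_facts hreg (List.ofFn r) hht P
  have hnoe : IsNoetherianRing (Localization.AtPrime P) :=
    IsLocalization.isNoetherianRing P.primeCompl _ inferInstance
  refine { supportDim_eq_depth := ?_ }
  exact isCM_congr (Groth.Agent.S6880.locSelfEquiv P) hcm

/-- A local complete intersection over a field is a Cohen–Macaulay ring. -/
theorem result (k S : Type u) [Field k] [CommRing S] [Algebra k S]
    (h : Synt.IsLCIOver k S) : LocCoh.IsCohenMacaulayRing S := by
  have hft : Algebra.FiniteType k S := h.1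
  have hnoe : IsNoetherianRing S := Algebra.FiniteType.isNoetherianRing k S
  refine { isCohenMacaulayLocalRing_localization := fun p hp => ?_ }
  obtain ⟨g, hg, hgci⟩ := h.2 ⟨p, hp⟩
  change g ∉ p at hg
  rcases hgci with hsub | ⟨n, c, hcn, φ, r, hφ, hker, hdim⟩
  · exfalso
    have h0 : (0 : S) ∈ Submonoid.powers g :=
      (IsLocalization.subsingleton_iff (S := Localization.Away g) (M := Submonoid.powers g)).1 hsub
    obtain ⟨j, hj⟩ := h0
    have hj' : g ^ j = 0 := hj
    exact hg (hp.mem_of_pow_mem j (hj' ▸ zero_mem _))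
  · have hdisj : Disjoint (Submonoid.powers g : Set S) (p : Set S) := by
      rw [Set.disjoint_left]
      rintro _ ⟨j, rfl⟩ hj
      exact hg (hp.mem_of_pow_mem j hj)
    have hp'prime : (p.map (algebraMap S (Localization.Away g))).IsPrime :=
      IsLocalization.isPrime_of_isPrime_disjoint (Submonoid.powers g) _ _ hp hdisj
    have hp'comap : (p.map (algebraMap S (Localization.Away g))).comap
        (algebraMap S (Localization.Away g)) = p :=
      IsLocalization.comap_map_of_isPrime_disjoint (Submonoid.powers g) _ hp hdisj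
    obtain ⟨p', hp'⟩ : ∃ p' : Ideal (Localization.Away g),
        p' = p.map (algebraMap S (Localization.Away g)) := ⟨_, rfl⟩
    rw [← hp'] at hp'prime hp'comap
    clear hp' hdisj
    subst hp'comap
    have hof : Ideal.ofList (List.ofFn r) = RingHom.ker φ.toRingHom := by
      rw [hker, Ideal.ofList]
      congr 1
      ext x
      simp [List.mem_ofFn]
    let e2 : (MvPolynomial (Fin n) k ⧸ Ideal.ofList (List.ofFn r)) ≃+* Localization.Away g :=
      (Ideal.quotEquivOfEq hof).trans (RingHom.quotientKerEquivOfSurjective hφ)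
    have hdim' : ringKrullDim (MvPolynomial (Fin n) k ⧸ Ideal.ofList (List.ofFn r)) =
        ((n - c : ℕ) : WithBot ℕ∞) := by
      rw [← hdim]; exact ringKrullDim_eq_of_ringEquiv e2
    have hcm := isCM_localization_quot k n c hcn r hdim' (p'.comap e2)
    have hcm2 : LocCoh.IsCohenMacaulayLocalRing (Localization.AtPrime p') :=
      Groth.Agent.Lib.Helper7.FibreCM.isCM_of_ringEquiv (A := Localization.AtPrime (p'.comap e2))
        (A' := Localization.AtPrime p')
        (IsLocalization.ringEquivOfRingEquiv (Localization.AtPrime (p'.comap e2))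
          (Localization.AtPrime p') e2 (e2.map_primeCompl_comap_eq p'))
    exact Groth.Agent.Lib.Helper7.FibreCM.isCM_of_ringEquiv (A := Localization.AtPrime p')
      (IsLocalization.localizationLocalizationAtPrimeIsoLocalization
        (Submonoid.powers g) p').symm.toRingEquiv

end Groth.Agent.S9142
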