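import Groth.Statements.S5467
import Mathlib
import Groth.Agent.Lib.Helper4.RootD

set_option autoImplicit false
open RootD

namespace Groth.Agent.S5467

/-- For an indivisible positive non-simple root α there is a simple root β with (β^v, α) > 0 such that
s_β(α) is positive; its order relative to Δ is then smaller than that of α by (β^v, α). -/
theorem result {ι M N : Type*} [AddCommGroup M] [AddCommGroup N]
    (P : RootPairing ι ℤ M N) [Finite ι] (Δ : Set ι) (hΔ : RootD.IsSimpleSys P Δ)
    (k : ι) (hk : k ∈ RootD.posOf P Δ) (hkΔ : k ∉ Δ) (hind : RootD.IsIndiv P k) :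
    ∃ i ∈ Δ, 0 < P.pairing k i ∧ P.reflectionPerm i k ∈ RootD.posOf P Δ := by
  open Groth.Agent.Lib.Helper4.RD in
  classical
  have hpos := (mem_posOf_iff hΔ k).mp hk
  have hsum : (2 : ℤ) = (coef hΔ k).sum (fun l z => z * P.pairing l k) := by
    have h := congrArg (P.coroot' k) (lc_coef hΔ k)
    rw [lc, Finsupp.linearCombination_apply, map_finsuppSum] at h
    have h2 : P.coroot' k (P.root k) = 2 := P.root_coroot_two k
    rw [h2] at h
    rw [← h]
    refine Finset.sum_congr rfl fun l _ => ?_
    show (P.coroot' k) ((coef hΔ k l) • P.root l) = coef hΔ k l * P.pairing l k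
    rw [map_smul, smul_eq_mul]
    rfl
  -- find l with positive coefficient and positive pairing
  obtain ⟨l, hl1, hl2⟩ : ∃ l : Δ, 0 < coef hΔ k l ∧ 0 < P.pairing l k := by
    by_contra hcon
    push Not at hcon
    have : (coef hΔ k).sum (fun l z => z * P.pairing l k) ≤ 0 := by
      refine Finset.sum_nonpos fun l _ => ?_
      show coef hΔ k l * P.pairing l k ≤ 0
      rcases (hpos l).eq_or_lt with h0 | h0
      · rw [← h0, zero_mul]
      · exact mul_nonpos_of_nonneg_of_nonpos (hpos l) (hcon l h0)
    omega
  have hp : ∀ a b : ι, P.pairingIn ℤ a b = P.pairing a b := fun a b => by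
    have := P.algebraMap_pairingIn ℤ a b
    simpa using this
  have hkl : 0 < P.pairing k l := by
    have := (P.zero_lt_pairingIn_iff' ℤ (i := l) (j := k)).mp (by rw [hp]; exact hl2)
    rwa [hp] at this
  refine ⟨l, l.2, hkl, ?_⟩
  by_cases hex : ∃ l' : Δ, l' ≠ l ∧ coef hΔ k l' ≠ 0
  · obtain ⟨l', hl', hl'0⟩ := hex
    apply mem_posOf_of_pos hΔ _ l'
    have := coef_reflectionPerm hΔ l k
    rw [this, Finsupp.sub_apply, Finsupp.single_apply, if_neg (Ne.symm hl'), sub_zero]
    exact lt_of_le_of_ne (hpos l') (Ne.symm hl'0)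
  · exfalso
    push Not at hex
    have hck : coef hΔ k = Finsupp.single l (coef hΔ k l) := by
      ext l'
      by_cases hl' : l' = l
      · subst hl'; simp
      · rw [hex l' hl', Finsupp.single_apply, if_neg (Ne.symm hl')]
    have hroot : P.root k = (coef hΔ k l) • P.root l := by
      rw [← lc_coef hΔ k, hck, lc_single]; simp
    have h2 : (2 : ℤ) = coef hΔ k l * P.pairing l k := by
      rw [hsum, hck, Finsupp.sum_single_index (by simp)]
      simp
    have hc12 : coef hΔ k l = 1 ∨ coef hΔ k l = 2 := by
      have hdvd : coef hΔ k l ∣ 2 := ⟨_, h2⟩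
      have hle : coef hΔ k l ≤ 2 := Int.le_of_dvd (by norm_num) hdvd
      omega
    rcases hc12 with h1 | h1
    · rw [h1, one_smul] at hroot
      have := P.root.injective hroot
      exact hkΔ (this ▸ l.2)
    · rw [h1] at hroot
      exact hind l hroot.symm

end Groth.Agent.S5467
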