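import Groth.Statements.S5503
import Mathlib

set_option autoImplicit false
open RootPairing
open scoped Pointwise
open RootD

namespace Groth.Agent.S5503

/-- For an automorphism u of a root datum and a root α, u s_α u⁻¹ = s_{u(α)}; hence W(R) is a normal
subgroup of Aut(R). -/
theorem result {ι M N : Type*} [AddCommGroup M] [AddCommGroup N]
    (P : RootPairing ι ℤ M N) [Finite ι] (u : P.Aut) (i : ι) :
    u * Equiv.reflection P i * u⁻¹ = Equiv.reflection P (u • i) := by
  apply Equiv.weightHom_injective P
  rw [map_mul, map_mul, map_inv]
  ext x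
  obtain ⟨y, rfl⟩ := (Equiv.weightHom P u).surjective x
  rw [LinearEquiv.mul_apply, LinearEquiv.mul_apply]
  have h1 : ((Equiv.weightHom P) u)⁻¹ (((Equiv.weightHom P) u) y) = y :=
    ((Equiv.weightHom P) u).symm_apply_apply y
  rw [h1]
  show u.weightMap (P.reflection i y) = P.reflection (u.indexEquiv i) (u.weightMap y)
  rw [P.reflection_apply, P.reflection_apply, map_sub, map_smul]
  have h2 : u.weightMap (P.root i) = P.root (u.indexEquiv i) :=
    Hom.root_weightMap_apply P P i u.toHom
  have h3 : P.coroot' (u.indexEquiv i) (u.weightMap y) = P.coroot' i y := by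
    have := Hom.weight_coweight_transpose_apply P P (P.coroot (u.indexEquiv i)) u.toHom
    have h4 := Hom.coroot_coweightMap_apply P P (u.indexEquiv i) u.toHom
    rw [h4, Equiv.symm_apply_apply] at this
    have := LinearMap.congr_fun this y
    exact this
  rw [h2, h3]

end Groth.Agent.S5503
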