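import Groth.Statements.S5505
import Mathlib

set_option autoImplicit false
open RootD

namespace Groth.Agent.S5505

/-- A subset of roots which, together with its complement, is closed and symmetric contains with any
root every root not orthogonal to it; so it is a union of irreducible components. -/
theorem result {ι M N : Type*} [AddCommGroup M] [AddCommGroup N]
    (P : RootPairing ι ℤ M N) [Finite ι] (R' : Set ι) (hc : RootD.IsClosedSub P R')
    (hs : RootD.IsSymmSub P R') (hc' : RootD.IsClosedSub P R'ᶜ) (hs' : RootD.IsSymmSub P R'ᶜ)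
    (i j : ι) (hi : i ∈ R') (hij : ¬ P.IsOrthogonal i j) : j ∈ R' := by
  by_contra hj
  have hneg : ∀ l : ι, P.root (P.reflectionPerm l l) = -P.root l := fun l => by
    rw [P.root_reflectionPerm, P.reflection_apply_self]
  have hnegi : P.reflectionPerm i i ∈ R' := hs hi
  have hnegj : P.reflectionPerm j j ∈ R'ᶜ := hs' hj
  have hij_ne : i ≠ j := fun e => hj (e ▸ hi)
  have hn : P.root i ≠ -P.root j := by
    intro e
    have : P.root j = P.root (P.reflectionPerm i i) := by rw [hneg, e, neg_neg]
    exact hj (P.root.injective this ▸ hnegi)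
  have h_add : P.root i + P.root j ∉ Set.range P.root := by
    rintro ⟨k, hk⟩
    by_cases hkR : k ∈ R'
    · apply hj
      refine hc hkR hnegi ?_
      rw [hneg, hk]; abel
    · have : i ∈ R'ᶜ := by
        refine hc' hkR hnegj ?_
        rw [hneg, hk]; abel
      exact this hi
  have h_sub : P.root i - P.root j ∉ Set.range P.root := by
    rintro ⟨k, hk⟩
    by_cases hkR : k ∈ R'
    · have h1 : P.reflectionPerm j j ∈ R' := by
        refine hc hkR hnegi ?_
        rw [hneg, hneg, hk]; abel
      exact hnegj h1
    · have : i ∈ R'ᶜ := by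
        refine hc' hkR hj ?_
        rw [hk]; abel
      exact this hi
  have h0 : P.pairing i j = 0 :=
    P.pairing_eq_zero_of_add_notMem_of_sub_notMem hij_ne hn h_add h_sub
  exact hij ⟨h0, P.pairing_eq_zero_iff'.mp h0⟩

end Groth.Agent.S5505
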