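import Groth.Statements.S5506
import Mathlib

set_option autoImplicit false
open RootD

namespace Groth.Agent.S5506

/-- The class of a root under 'joined by a chain of pairwise non-orthogonal roots' is closed and
symmetric, and so is its complement; these classes are the irreducible components. -/
theorem result {ι M N : Type*} [AddCommGroup M] [AddCommGroup N]
    (P : RootPairing ι ℤ M N) [Finite ι] (i : ι) :
    RootD.IsClosedSub P {j : ι | Relation.ReflTransGen (fun a b : ι => ¬ P.IsOrthogonal a b) i j} ∧
      RootD.IsSymmSub P {j : ι | Relation.ReflTransGen (fun a b : ι => ¬ P.IsOrthogonal a b) i j} ∧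
      RootD.IsClosedSub P {j : ι | Relation.ReflTransGen (fun a b : ι => ¬ P.IsOrthogonal a b) i j}ᶜ ∧
      RootD.IsSymmSub P {j : ι | Relation.ReflTransGen (fun a b : ι => ¬ P.IsOrthogonal a b) i j}ᶜ := by
  set r : ι → ι → Prop := fun a b : ι => ¬ P.IsOrthogonal a b with hr
  set C : Set ι := {j : ι | Relation.ReflTransGen r i j} with hC
  have hneg : ∀ l : ι, P.root (P.reflectionPerm l l) = -P.root l := fun l => by
    rw [P.root_reflectionPerm, P.reflection_apply_self]
  have hinv : ∀ l : ι, P.reflectionPerm (P.reflectionPerm l l) (P.reflectionPerm l l) = l := by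
    intro l
    apply P.root.injective
    rw [hneg, hneg, neg_neg]
  -- step: non-orthogonality of a root and its opposite
  have hstep_neg : ∀ l : ι, r l (P.reflectionPerm l l) := by
    intro l h
    have h1 : P.pairing (P.reflectionPerm l l) l = 0 := h.2
    have h2 : P.pairing (P.reflectionPerm l l) l = -2 := by
      rw [← P.root_coroot_eq_pairing, hneg, map_neg, LinearMap.neg_apply, P.root_coroot_eq_pairing,
        P.pairing_same]
    rw [h2] at h1
    norm_num at h1
  -- if root k = root a + root b then k is non-orthogonal to a or b
  have hsum : ∀ a b k : ι, P.root k = P.root a + P.root b → r k a ∨ r k b := by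
    intro a b k hk
    by_contra hcon
    push Not at hcon
    have ha : P.pairing a k = 0 := (not_not.mp hcon.1).2
    have hb : P.pairing b k = 0 := (not_not.mp hcon.2).2
    have h2 : P.pairing k k = P.pairing a k + P.pairing b k := by
      rw [← P.root_coroot_eq_pairing, hk, map_add, LinearMap.add_apply, P.root_coroot_eq_pairing,
        P.root_coroot_eq_pairing]
    rw [P.pairing_same, ha, hb] at h2
    norm_num at h2
  have hsymmC : ∀ j, j ∈ C → P.reflectionPerm j j ∈ C := fun j hj =>
    Relation.ReflTransGen.tail hj (hstep_neg j)
  refine ⟨?_, ?_, ?_, ?_⟩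
  · intro a b k ha _ hk
    rcases hsum a b k hk with h | h
    · refine Relation.ReflTransGen.tail ha ?_
      exact fun ho => h ((P.isOrthogonal_symm _ _).mp ho)
    · rename_i hb
      refine Relation.ReflTransGen.tail hb ?_
      exact fun ho => h ((P.isOrthogonal_symm _ _).mp ho)
  · exact fun j hj => hsymmC j hj
  · intro a b k ha hb hk hkC
    rcases hsum a b k hk with h | h
    · exact ha (Relation.ReflTransGen.tail hkC h)
    · exact hb (Relation.ReflTransGen.tail hkC h)
  · intro j hj hnj
    apply hj
    have := hsymmC _ hnj
    rwa [hinv] at this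

end Groth.Agent.S5506
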