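import Groth.Statements.S1681
import Groth.Agent.Lib.Helper29.BlowUpUP2

set_option autoImplicit false
universe u
open CategoryTheory CategoryTheory.Limits AlgebraicGeometry TopologicalSpace
open SDiv

namespace Groth.Agent.S1681

open Groth.Agent.Lib.Helper29.EffCart

/-- A point of the support of an effective Cartier ideal has a proper generisation. -/
lemma exists_generization_ne_of_mem_support {X : Scheme.{u}} (𝓔 : X.IdealSheafData)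
    (h𝓔 : BlowUp.IsEffCartierIdeal 𝓔) (x : X) (hx : x ∈ 𝓔.support) :
    ∃ y : X, y ⤳ x ∧ y ≠ x := by
  obtain ⟨W, hxW, e, he, hE⟩ := h𝓔 x
  obtain ⟨q, rfl⟩ := exists_fromSpec_eq W hxW
  have heq : e ∈ q.asIdeal := by
    have := (fromSpec_mem_support_iff 𝓔 W q).1 hx
    rw [hE, Ideal.span_singleton_le_iff_mem] at this
    exact this
  obtain ⟨p, hp, hpq⟩ := Ideal.exists_minimalPrimes_le (bot_le : (⊥ : Ideal Γ(X, W.1)) ≤ q.asIdeal)
  have hpp : p.IsPrime := hp.1.1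
  have hep : e ∉ p := fun h => notMem_nonZeroDivisors_of_mem_mem_minimalPrimes h hp he
  refine ⟨W.2.fromSpec ⟨p, hpp⟩, (fromSpec_specializes_iff W ⟨p, hpp⟩ q).2 hpq, ?_⟩
  intro heq'
  have : (⟨p, hpp⟩ : PrimeSpectrum Γ(X, W.1)) = q := fromSpec_injective W heq'
  rw [← this] at heq
  exact hep heq

/-- Let b : X' ⟶ X be a blowing-up of X along the quasi-coherent ideal sheaf 𝓘. Then b restricts to a
bijection from the maximal points of X' (points with no proper generization) onto the maximal points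
of X not lying in the support of 𝓘. -/
theorem result {X X' : Scheme.{u}} (𝓘 : X.IdealSheafData) (b : X' ⟶ X) (hb : BlowUp.IsBlowUp b 𝓘) :
    Set.BijOn (fun x' => b x') {x' : ↥X' | ∀ y : ↥X', y ⤳ x' → y = x'}
      {x : ↥X | (∀ y : ↥X, y ⤳ x → y = x) ∧ x ∉ 𝓘.support} := by
  have hiso := IsBlowUp.isIso_morphismRestrict hb
  set U₀ : X.Opens := 𝓘.support.compl with hU₀
  have hbij : Function.Bijective (b ∣_ U₀) := (b ∣_ U₀).homeomorph.bijective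
  have hφ : ∀ z, U₀.ι ((b ∣_ U₀) z) = b ((b ⁻¹ᵁ U₀).ι z) := by
    intro z
    rw [← Scheme.Hom.comp_apply, morphismRestrict_ι, Scheme.Hom.comp_apply]
  -- maximal points of X' lie over U₀
  have hmaxV : ∀ x' : X', (∀ y : X', y ⤳ x' → y = x') → x' ∈ b ⁻¹ᵁ U₀ := by
    intro x' hx'
    by_contra hn
    have hsupp : x' ∈ (𝓘.comap b).support := by
      rw [Scheme.IdealSheafData.support_comap]
      by_contra h
      exact hn h
    obtain ⟨y, hy, hne⟩ := exists_generization_ne_of_mem_support _ hb.1 x' hsupp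
    exact hne (hx' y hy)
  -- injectivity of b on b⁻¹U₀
  have hinj : ∀ z₁ z₂ : X', z₁ ∈ b ⁻¹ᵁ U₀ → z₂ ∈ b ⁻¹ᵁ U₀ → b z₁ = b z₂ → z₁ = z₂ := by
    intro z₁ z₂ h₁ h₂ h
    have : (b ∣_ U₀) ⟨z₁, h₁⟩ = (b ∣_ U₀) ⟨z₂, h₂⟩ :=
      U₀.ι.isOpenEmbedding.injective ((hφ ⟨z₁, h₁⟩).trans (h.trans (hφ ⟨z₂, h₂⟩).symm))
    exact congrArg (b ⁻¹ᵁ U₀).ι (hbij.1 this)
  refine ⟨?_, ?_, ?_⟩
  · intro x' hx'
    have hx'V := hmaxV x' hx'
    refine ⟨?_, fun h => hx'V h⟩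
    intro y hy
    have hyU : y ∈ U₀ := hy.mem_open U₀.2 hx'V
    obtain ⟨y', hy'⟩ := hbij.2 ⟨y, hyU⟩
    have hy'b : b ((b ⁻¹ᵁ U₀).ι y') = y := by rw [← hφ, hy']; rfl
    have hsp : (b ⁻¹ᵁ U₀).ι y' ⤳ x' := by
      have e1 : U₀.ι ((b ∣_ U₀) y') = y := (hφ y').trans hy'b
      have e2 : U₀.ι ((b ∣_ U₀) ⟨x', hx'V⟩) = b x' := hφ ⟨x', hx'V⟩
      have h1 : (b ∣_ U₀) y' ⤳ (b ∣_ U₀) ⟨x', hx'V⟩ :=
        (U₀.ι.isOpenEmbedding.isInducing.specializes_iff).1 (by rw [e1, e2]; exact hy)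
      have h2 : y' ⤳ (⟨x', hx'V⟩ : ↥(b ⁻¹ᵁ U₀ : X'.Opens).toScheme) :=
        ((b ∣_ U₀).homeomorph.isInducing.specializes_iff).1 h1
      exact h2.map (b ⁻¹ᵁ U₀).ι.continuous
    have := hx' _ hsp
    change y = b x'
    rw [← hy'b, this]
  · intro x₁ hx₁ x₂ hx₂ h
    exact hinj x₁ x₂ (hmaxV x₁ hx₁) (hmaxV x₂ hx₂) h
  · rintro x ⟨hxmax, hxU⟩
    have hxU' : x ∈ U₀ := hxU
    obtain ⟨x', hx'⟩ := hbij.2 ⟨x, hxU'⟩
    have hbx' : b ((b ⁻¹ᵁ U₀).ι x') = x := by rw [← hφ, hx']; rfl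
    refine ⟨(b ⁻¹ᵁ U₀).ι x', ?_, hbx'⟩
    intro y hy
    have hyV : y ∈ b ⁻¹ᵁ U₀ := hy.mem_open (b ⁻¹ᵁ U₀).2 x'.2
    have h1 : b y ⤳ b ((b ⁻¹ᵁ U₀).ι x') := hy.map b.continuous
    rw [hbx'] at h1
    have h2 : b y = x := hxmax _ h1
    exact hinj y _ hyV x'.2 (by rw [h2, hbx'])

end Groth.Agent.S1681
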