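import Groth.Statements.S1653
import Groth.Agent.Lib.Helper18.Chev.Main
import Groth.Agent.Lib.Helper18.GenFinite
import Groth.Agent.Lib.Helper7.VarietyDim
import Groth.Agent.Lib.lead.VarGenDim

set_option autoImplicit false
universe u
open CategoryTheory CategoryTheory.Limits AlgebraicGeometry
open Variety

namespace Groth.Agent.S1653

/-- Let f : X → Y be a k-morphism of schemes locally of finite type over a field k, with X irreducible
of dimension a, and let the closure of the image of f have dimension b. Then the local fibre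
dimension of f at every point of X is at least a - b, and the set of points where it equals a - b is
open and dense. -/
theorem result (k : Type u) [Field k] (X Y : Scheme.{u}) [X.Over (Spec (CommRingCat.of k))] [Y.Over (Spec (CommRingCat.of k))]
    [LocallyOfFiniteType (X ↘ (Spec (CommRingCat.of k)))] [LocallyOfFiniteType (Y ↘ (Spec (CommRingCat.of k)))] [IrreducibleSpace X]
    (f : X ⟶ Y) (hf : f ≫ (Y ↘ (Spec (CommRingCat.of k))) = X ↘ (Spec (CommRingCat.of k))) (a b : ℕ) (ha : topologicalKrullDim X = a)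
    (hb : topologicalKrullDim (closure (Set.range f.base)) = b) :
    (∀ x : X, ((a - b : ℕ) : WithBot ℕ∞) ≤ FlatMor.fibreDimAt f x) ∧
      IsOpen {x : X | FlatMor.fibreDimAt f x = (a - b : ℕ)} ∧ Dense {x : X | FlatMor.fibreDimAt f x = (a - b : ℕ)} := by
  haveI : LocallyOfFiniteType (f ≫ (Y ↘ Spec (CommRingCat.of k))) := by rw [hf]; infer_instance
  haveI : LocallyOfFiniteType f := locallyOfFiniteType_of_comp f (Y ↘ Spec (CommRingCat.of k))
  set ξ : X := genericPoint ↥X with hξdef
  obtain ⟨nX, hX1, hX2⟩ := Groth.Agent.Lib.Helper7.VarDim.exists_nat_dim_closure_eq k X ξ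
  obtain ⟨nY, hY1, hY2⟩ := Groth.Agent.Lib.Helper7.VarDim.exists_nat_dim_closure_eq k Y (f ξ)
  have hcl : closure ({ξ} : Set X) = Set.univ := (genericPoint_spec ↥X).def
  have hnX : nX = a := by
    rw [Groth.Agent.Lib.lead.VarGenDim.dim_of_closure_eq_univ ξ hcl, ha] at hX2
    exact_mod_cast hX2.symm
  have hrange : closure (Set.range f.base) = closure ({f ξ} : Set Y) := by
    apply subset_antisymm
    · apply closure_minimal _ isClosed_closure
      rintro _ ⟨x, rfl⟩
      have h1 : ξ ⤳ x := (genericPoint_spec ↥X).specializes trivial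
      exact (specializes_iff_mem_closure.1 (h1.map f.continuous))
    · exact closure_mono (Set.singleton_subset_iff.2 ⟨ξ, rfl⟩)
  have hnY : nY = b := by
    rw [hrange, hY2] at hb
    exact_mod_cast hb
  have htr : nY + Groth.Agent.Lib.Helper24.FibreDim.tr f ξ = nX := by
    letI a1 : Algebra k (Y.residueField (f ξ)) := Curv2.resAlgebra k Y (f ξ)
    letI a2 : Algebra (Y.residueField (f ξ)) (X.residueField ξ) :=
      (f.residueFieldMap ξ).hom.toAlgebra
    letI a3 : Algebra k (X.residueField ξ) := Curv2.resAlgebra k X ξ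
    haveI : IsScalarTower k (Y.residueField (f ξ)) (X.residueField ξ) :=
      IsScalarTower.of_algebraMap_eq fun c =>
        (Groth.Agent.Lib.Helper18.GenFinite.residueFieldMap_resMap k f hf ξ c).symm
    have h3 := _root_.trdeg_add_eq k (Y.residueField (f ξ)) (A := X.residueField ξ)
    have h4 := Groth.Agent.Lib.Helper24.FibreDim.tr_spec f ξ
    have h5 : ((nY : ℕ) : Cardinal.{u}) + (Groth.Agent.Lib.Helper24.FibreDim.tr f ξ : ℕ) = nX := by
      rw [← hY1, ← h4, ← hX1]
      exact h3
    exact_mod_cast h5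
  have hG : Groth.Agent.Lib.lead.FibreOrder.G f ξ = 0 := by
    rw [Groth.Agent.Lib.Helper24.FibreDim.G_eq_zero_iff]
    intro z' _ hsp
    have h1 : ξ ⤳ z' := (genericPoint_spec ↥X).specializes trivial
    exact (hsp.antisymm h1).eq
  have hξ : FlatMor.fibreDimAt f ξ = ((a - b : ℕ) : WithBot ℕ∞) := by
    rw [Groth.Agent.Lib.Helper24.FibreDim.fibreDimAt_eq_tr_add_G, hG, add_zero]
    have : Groth.Agent.Lib.Helper24.FibreDim.tr f ξ = a - b := by omega
    rw [this]
    rfl
  have key : ∀ x : X, ((a - b : ℕ) : WithBot ℕ∞) ≤ FlatMor.fibreDimAt f x := by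
    intro x
    obtain ⟨d, hd⟩ := Groth.Agent.Lib.Helper18.Chev.exists_nat_fibreDimAt f x
    have hopen := Groth.Agent.Lib.Helper18.Chev.isOpen_fibreDimAt_le f d
    have hmem : ξ ∈ {x : X | FlatMor.fibreDimAt f x ≤ d} := by
      rw [(genericPoint_spec ↥X).mem_open_set_iff hopen]
      exact ⟨x, trivial, le_of_eq hd⟩
    have h1 : FlatMor.fibreDimAt f ξ ≤ d := hmem
    rw [hd, ← hξ]
    exact h1
  have hset : {x : X | FlatMor.fibreDimAt f x = ((a - b : ℕ) : WithBot ℕ∞)} =
      {x : X | FlatMor.fibreDimAt f x ≤ ((a - b : ℕ) : WithBot ℕ∞)} := by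
    ext x
    exact ⟨fun h => le_of_eq h, fun h => le_antisymm h (key x)⟩
  have hopen := Groth.Agent.Lib.Helper18.Chev.isOpen_fibreDimAt_le f (a - b)
  refine ⟨key, ?_, ?_⟩
  · rw [hset]; exact hopen
  · rw [hset]
    exact hopen.dense ⟨ξ, le_of_eq hξ⟩

end Groth.Agent.S1653
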