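import Groth.Statements.S1628
import Groth.Agent.Lib.Helper5.RegSmoothScheme2

set_option autoImplicit false
universe u
open CategoryTheory CategoryTheory.Limits AlgebraicGeometry
open Variety

namespace Groth.Agent.S1628

/-- If X is smooth over a field k then X is geometrically reduced over k and geometrically regular at
every point. -/
theorem result (k : Type u) [Field k] (X : Scheme.{u}) [X.Over (Spec (CommRingCat.of k))] [Smooth (X ↘ (Spec (CommRingCat.of k)))] :
    GeometricallyReduced (X ↘ (Spec (CommRingCat.of k))) ∧ ∀ x : X, Curv2.IsGeomRegularAt k X x := by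
  constructor
  · refine ⟨fun K _ y Z fst snd h => ?_⟩
    have : Smooth snd := MorphismProperty.of_isPullback h inferInstance
    exact Lib.Helper5.RegSmooth.isReduced_of_smooth K Z snd
  · intro x k' _ _ _ x' _
    exact Lib.Helper5.RegSmooth.regular_stalk_of_smooth k' _ (Curv2.bcSnd k X k') x' 

end Groth.Agent.S1628
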