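import Groth.Statements.S2953
import Groth.Agent.S2952

set_option autoImplicit false
open RootPairing
open scoped Pointwise
universe u
open RootD

namespace Groth.Agent.S2953

section helpers

variable {ι R M N : Type*} [CommRing R] [AddCommGroup M] [Module R M]
    [AddCommGroup N] [Module R N] (P : RootPairing ι R M N)

/-- product of reflections along a list of indices -/
noncomputable def pr (L : List ι) : P.Aut := (L.map (Equiv.reflection P)).prod

theorem pr_nil : pr P [] = 1 := rfl

theorem pr_cons (i : ι) (L : List ι) : pr P (i :: L) = Equiv.reflection P i * pr P L := by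
  simp [pr]

theorem pr_append (L1 L2 : List ι) : pr P (L1 ++ L2) = pr P L1 * pr P L2 := by
  simp [pr]

theorem refl_mul_self (i : ι) : Equiv.reflection P i * Equiv.reflection P i = 1 := by
  have h := Equiv.reflection_inv P i
  calc Equiv.reflection P i * Equiv.reflection P i
      = (Equiv.reflection P i)⁻¹ * Equiv.reflection P i := by rw [h]
    _ = 1 := inv_mul_cancel (Equiv.reflection P i)

theorem refl_smul (i j : ι) : Equiv.reflection P j • i = P.reflectionPerm j i := rfl

theorem pr_inv (L : List ι) : (pr P L)⁻¹ = pr P L.reverse := by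
  induction L with
  | nil => simp [pr]
  | cons i L ih =>
    rw [pr_cons, mul_inv_rev, ih, List.reverse_cons, pr_append, pr_cons, pr_nil, mul_one,
      Equiv.reflection_inv]

theorem conj_pr (L : List ι) (r : ι) :
    Equiv.reflection P (pr P L • r) = pr P L * Equiv.reflection P r * (pr P L)⁻¹ := by
  induction L with
  | nil => simp [pr]
  | cons j L ih =>
    rw [pr_cons, mul_smul, refl_smul, Groth.Agent.S2952.refl_conj, ih, mul_inv_rev,
      Equiv.reflection_inv]
    simp only [mul_assoc]

end helpers

section main

variable {ι R M N : Type*} [CommRing R] [CharZero R] [IsDomain R] [AddCommGroup M] [Module R M]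
    [AddCommGroup N] [Module R N] (P : RootPairing ι R M N) [Finite ι] [P.IsCrystallographic]
    [P.IsReduced] (b : P.Base)

theorem exists_split (L : List ι) (hL : ∀ i ∈ L, i ∈ b.support) (β : ι) (hβ : b.IsPos β)
    (hneg : ¬ b.IsPos (pr P L • β)) :
    ∃ L1 i L2, L = L1 ++ i :: L2 ∧ pr P L2 • β = i := by
  induction L with
  | nil => exact (hneg (by simpa [pr] using hβ)).elim
  | cons j L ih =>
    have hL' : ∀ i ∈ L, i ∈ b.support := fun i hi => hL i (List.mem_cons_of_mem _ hi)
    have hj : j ∈ b.support := hL j List.mem_cons_self
    by_cases h : b.IsPos (pr P L • β)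
    · by_cases hij : pr P L • β = j
      · exact ⟨[], j, L, rfl, hij⟩
      · exfalso
        apply hneg
        rw [pr_cons, mul_smul, refl_smul]
        exact h.reflectionPerm hj hij
    · obtain ⟨L1, i, L2, h1, h2⟩ := ih hL' h
      exact ⟨j :: L1, i, L2, by rw [h1]; rfl, h2⟩

theorem main_aux (n : ℕ) : ∀ (L : List ι), L.length = n → (∀ i ∈ L, i ∈ b.support) →
    (∀ i, b.IsPos i → b.IsPos (pr P L • i)) → pr P L = 1 := by
  induction n using Nat.strong_induction_on with
  | _ n IH =>
    intro L hlen hL hpos
    rcases List.eq_nil_or_concat L with rfl | ⟨L', r, rfl⟩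
    · rfl
    · simp only [List.concat_eq_append] at hlen hL hpos ⊢
      have hr : r ∈ b.support := hL r (by simp)
      have hL' : ∀ i ∈ L', i ∈ b.support := fun i hi => hL i (by simp [hi])
      have hrpos : b.IsPos r := RootPairing.Base.isPos_of_mem_support hr
      have hw : pr P (L' ++ [r]) = pr P L' * Equiv.reflection P r := by
        rw [pr_append, pr_cons, pr_nil, mul_one]
      -- the image of r is the negative of `pr P L' • r`
      have h1 : pr P (L' ++ [r]) • r =
          P.reflectionPerm (pr P L' • r) (pr P L' • r) := by
        rw [← refl_smul, conj_pr, mul_smul, mul_smul, inv_smul_smul, hw, mul_smul]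
      have h2 : ¬ b.IsPos (pr P L' • r) := by
        have h3 := hpos r hrpos
        rw [h1] at h3
        exact (RootPairing.Base.IsPos.neg_iff_not b _).mp h3
      obtain ⟨L1, i, L2, hsplit, hi⟩ := exists_split P b L' hL' r hrpos h2
      have hconj : Equiv.reflection P i = pr P L2 * Equiv.reflection P r * (pr P L2)⁻¹ := by
        rw [← hi, conj_pr]
      have hw2 : pr P (L' ++ [r]) = pr P (L1 ++ L2) := by
        rw [hw, hsplit, pr_append, pr_cons, pr_append, hconj]
        have := refl_mul_self P r
        calc pr P L1 * (pr P L2 * Equiv.reflection P r * (pr P L2)⁻¹ * pr P L2) *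
              Equiv.reflection P r
            = pr P L1 * (pr P L2 * (Equiv.reflection P r * Equiv.reflection P r)) := by
              simp only [mul_assoc, inv_mul_cancel_left]
          _ = pr P L1 * pr P L2 := by rw [this, mul_one]
      rw [hw2]
      have hlen2 : (L1 ++ L2).length < n := by
        rw [← hlen, hsplit]
        simp only [List.length_append, List.length_cons]
        omega
      refine IH _ hlen2 (L1 ++ L2) rfl ?_ ?_
      · intro k hk
        apply hL'
        rw [hsplit]
        rcases List.mem_append.mp hk with hk | hk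
        · exact List.mem_append_left _ hk
        · exact List.mem_append_right _ (List.mem_cons_of_mem _ hk)
      · rw [← hw2]
        exact hpos

theorem exists_list (g : P.Aut) (hg : g ∈ P.weylGroup) :
    ∃ L : List ι, (∀ i ∈ L, i ∈ b.support) ∧ pr P L = g := by
  rw [← (Groth.Agent.S2952.result P b).1] at hg
  induction hg using Subgroup.closure_induction with
  | mem x hx =>
    obtain ⟨i, hi, rfl⟩ := hx
    exact ⟨[i], by simpa using hi, by simp [pr]⟩
  | one => exact ⟨[], by simp, rfl⟩
  | mul x y _ _ hx hy =>
    obtain ⟨L1, h1, rfl⟩ := hx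
    obtain ⟨L2, h2, rfl⟩ := hy
    refine ⟨L1 ++ L2, ?_, pr_append P L1 L2⟩
    intro i hi
    rcases List.mem_append.mp hi with hi | hi
    · exact h1 i hi
    · exact h2 i hi
  | inv x _ hx =>
    obtain ⟨L, h, rfl⟩ := hx
    exact ⟨L.reverse, fun i hi => h i (List.mem_reverse.mp hi), (pr_inv P L).symm⟩

end main

/-- For a finite crystallographic reduced root pairing with a base b: an element of the Weyl group which
maps positive roots (relative to b) to positive roots is the identity. -/
theorem result {ι R M N : Type*} [CommRing R] [CharZero R] [IsDomain R] [AddCommGroup M] [Module R M]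
    [AddCommGroup N] [Module R N] (P : RootPairing ι R M N) [Finite ι] [P.IsCrystallographic] [P.IsReduced]
    (b : P.Base) (g : P.Aut) (hg : g ∈ P.weylGroup) (hpos : ∀ i, b.IsPos i → b.IsPos (g • i)) : g = 1 := by
  obtain ⟨L, hL, rfl⟩ := exists_list P b g hg
  exact main_aux P b L.length L rfl hL hpos

end Groth.Agent.S2953
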