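import Groth.Statements.S5492
import Mathlib.LinearAlgebra.RootSystem.Finite.Lemmas
-- import your own Groth.Agent.* helpers here

set_option autoImplicit false
open RootD

namespace Groth.Agent.S5492

lemma natSpan_repr {ι M N : Type*} [AddCommGroup M] [AddCommGroup N]
    (P : RootPairing ι ℤ M N) (Δ : Set ι) (x : M) (hx : x ∈ RootD.natSpan P Δ) :
    ∃ l : Δ →₀ ℤ, (∀ d, 0 ≤ l d) ∧ Finsupp.linearCombination ℤ (fun d : Δ => P.root d) l = x := by
  unfold RootD.natSpan at hx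
  induction hx using AddSubmonoid.closure_induction with
  | mem x hx =>
    obtain ⟨d, hd, rfl⟩ := hx
    refine ⟨Finsupp.single ⟨d, hd⟩ 1, fun e => ?_, by simp⟩
    classical
    rw [Finsupp.single_apply]
    split_ifs <;> simp
  | zero => exact ⟨0, fun _ => le_rfl, by simp⟩
  | add x y _ _ hx hy =>
    obtain ⟨l₁, h₁, rfl⟩ := hx
    obtain ⟨l₂, h₂, rfl⟩ := hy
    exact ⟨l₁ + l₂, fun d => add_nonneg (h₁ d) (h₂ d), by simp⟩

lemma not_sub_mem {ι M N : Type*} [AddCommGroup M] [AddCommGroup N]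
    (P : RootPairing ι ℤ M N) (Δ : Set ι) (hΔ : RootD.IsSimpleSys P Δ) (i j : ι)
    (hi : i ∈ Δ) (hj : j ∈ Δ) (hij : i ≠ j) : P.root j - P.root i ∉ RootD.natSpan P Δ := by
  intro hmem
  obtain ⟨l, hl, hl2⟩ := natSpan_repr P Δ _ hmem
  have hinj := linearIndependent_iff_injective_finsuppLinearCombination.mp hΔ.linInd
  have h2 : Finsupp.linearCombination ℤ (fun d : Δ => P.root d)
      (Finsupp.single ⟨j, hj⟩ 1 - Finsupp.single ⟨i, hi⟩ 1) = P.root j - P.root i := by
    simp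
  have h3 : l = Finsupp.single ⟨j, hj⟩ 1 - Finsupp.single ⟨i, hi⟩ 1 := hinj (hl2.trans h2.symm)
  have h4 := hl ⟨i, hi⟩
  rw [h3] at h4
  have hne : (⟨j, hj⟩ : Δ) ≠ ⟨i, hi⟩ := fun h => hij (Subtype.ext_iff.mp h).symm
  simp [Finsupp.single_apply, hne] at h4


/-- Off-diagonal entries of the Cartan matrix of a system of simple roots are non-positive: (α^v, β) ≤ 0
for distinct simple roots α, β. -/
theorem result {ι M N : Type*} [AddCommGroup M] [AddCommGroup N]
    (P : RootPairing ι ℤ M N) [Finite ι] (Δ : Set ι) (hΔ : RootD.IsSimpleSys P Δ) (i j : ι)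
    (hi : i ∈ Δ) (hj : j ∈ Δ) (hij : i ≠ j) : P.pairing j i ≤ 0 := by
  by_contra hpos
  push Not at hpos
  have hpI : P.pairingIn ℤ j i = P.pairing j i := by simpa using P.algebraMap_pairingIn ℤ j i
  have hmem : P.root j - P.root i ∈ Set.range P.root :=
    P.root_sub_root_mem_of_pairingIn_pos (hpI ▸ hpos) hij.symm
  obtain ⟨k, hk⟩ := hmem
  rcases hΔ.mem_or_neg_mem k with h | h
  · rw [hk] at h
    exact not_sub_mem P Δ hΔ i j hi hj hij h
  · rw [hk, neg_sub] at h
    exact not_sub_mem P Δ hΔ j i hj hi hij.symm h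

end Groth.Agent.S5492
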