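import Groth.Statements.S0008
import Groth.Agent.Lib.Helper17.CechAffine
import Mathlib
set_option backward.isDefEq.respectTransparency.types false

set_option autoImplicit false
universe u
open Coherent

namespace Groth.Agent.S0008
open CategoryTheory CategoryTheory.Limits Opposite TopologicalSpace AlgebraicGeometry
open Groth.Agent.Lib.Helper17.CechAffine

open AlgebraicGeometry in

open AlgebraicGeometry in
/-- For a ring A, an A-module M and elements f_1, …, f_n generating the unit ideal, the Čech cohomology
of the associated module on Spec A with respect to the covering by the basic opens D(f_i) vanishes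
in every positive degree. -/
theorem result (A : Type u) [CommRing A] (M : ModuleCat.{u} A)
    (n : ℕ) (f : ULift.{u} (Fin n) → A) (hf : Ideal.span (Set.range f) = ⊤) (p : ℕ) (hp : 0 < p) :
    CategoryTheory.Limits.IsZero (CohB1.cechH (fun i => PrimeSpectrum.basicOpen (f i)) (tilde (R := CommRingCat.of A) M) p) := by
  obtain ⟨p, rfl⟩ : ∃ q, p = q + 1 := ⟨p - 1, by omega⟩
  let R : CommRingCat.{u} := CommRingCat.of A
  let r : ULift.{u} (Fin n) → Γ(Spec R, ⊤) := fun i => (Scheme.ΓSpecIso R).inv (f i)
  have hr : (fun i => PrimeSpectrum.basicOpen (f i) : ULift.{u} (Fin n) → (Spec R).Opens) =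
      fun i => (Spec R).basicOpen (r i) := by
    funext i
    exact (basicOpen_eq_of_affine (R := R) (f i)).symm
  have hcov : Ideal.span (Set.range r) = ⊤ := by
    have h1 : Set.range r = (Scheme.ΓSpecIso R).inv.hom '' Set.range f := by
      rw [← Set.range_comp]
      rfl
    rw [h1, ← Ideal.map_span, hf, Ideal.map_top]
  have h := isZero_cechH (tilde (R := R) M) r (isAffineOpen_top (Spec R)) hcov p
  unfold CohB1.cechH CohB1.cechHTop
  rw [hr]
  exact h

end Groth.Agent.S0008
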