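import Groth.Statements.S0011
import Groth.Agent.Lib.Helper17.MV3
import Groth.Agent.Lib.Helper17.AffineSurj
import Groth.Agent.Lib.Helper17.CohKer
import Groth.Agent.Lib.Helper28.QCohPush
import Groth.Agent.Lib.Helper28.QCohGlobal
import Mathlib
set_option backward.isDefEq.respectTransparency.types false

set_option autoImplicit false
universe u
open Coherent

namespace Groth.Agent.S0011
open CategoryTheory CategoryTheory.Limits Opposite Abelian TopologicalSpace AlgebraicGeometry

variable {X : Scheme.{u}}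

/-- `Ext` into the middle of a short exact sequence vanishes if it does for both ends. -/
theorem subsingleton_ext_of_shortExact {C : Type*} [Category C] [Abelian C] [HasExt C]
    {S : ShortComplex C} (hS : S.ShortExact) (Z : C) (n : ℕ)
    (h1 : Subsingleton (Ext Z S.X₁ n)) (h3 : Subsingleton (Ext Z S.X₃ n)) :
    Subsingleton (Ext Z S.X₂ n) := by
  refine ⟨fun x y => ?_⟩
  have key : ∀ z : Ext Z S.X₂ n, z = 0 := by
    intro z
    obtain ⟨w, hw⟩ := Ext.covariant_sequence_exact₂ Z hS z (h3.elim _ _)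
    rw [← hw, h1.elim w 0, Ext.zero_comp]
  rw [key x, key y]

/-- acyclicity of a binary biproduct. -/
theorem subsingleton_H_biprod (M N : X.Modules) (p : ℕ)
    (h1 : Subsingleton (Coh.HH X M p)) (h2 : Subsingleton (Coh.HH X N p)) :
    Subsingleton (Coh.HH X (M ⊞ N) p) := by
  let S : ShortComplex X.Modules := ShortComplex.mk (biprod.inl : M ⟶ M ⊞ N) biprod.snd (by simp)
  have spl : S.Splitting := ShortComplex.Splitting.ofHasBinaryBiproduct M N
  haveI hadd : (SheafOfModules.toSheaf.{u} X.ringCatSheaf).Additive := inferInstance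
  have hS := (@ShortComplex.Splitting.map _ _ _ _ _ _ S spl (SheafOfModules.toSheaf.{u} X.ringCatSheaf) hadd).shortExact
  exact subsingleton_ext_of_shortExact hS _ p h1 h2

theorem isAffineHom_ι (hd : ∀ V W : X.Opens, IsAffineOpen V → IsAffineOpen W → IsAffineOpen (V ⊓ W))
    {a : X.Opens} (ha : IsAffineOpen a) : IsAffineHom a.ι := by
  refine ⟨fun U hU => ?_⟩
  rw [← a.ι.isAffineOpen_iff_of_isOpenImmersion, Scheme.Hom.image_preimage_eq_opensRange_inf,
    Scheme.Opens.opensRange_ι]
  exact hd _ _ ha hU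

/-- `j_* (M|_a)` for an affine open `a`, when `j` is an affine morphism: quasi-coherent and acyclic. -/
theorem pushRestrict_props (hd : ∀ V W : X.Opens, IsAffineOpen V → IsAffineOpen W → IsAffineOpen (V ⊓ W))
    (M : X.Modules) [M.IsQuasicoherent] {a : X.Opens} (ha : IsAffineOpen a) :
    ((Scheme.Modules.pushforward a.ι).obj (M.restrict a.ι)).IsQuasicoherent ∧
      ∀ p : ℕ, Subsingleton (Coh.HH X ((Scheme.Modules.pushforward a.ι).obj (M.restrict a.ι)) (p + 1)) := by
  haveI := isAffineHom_ι hd ha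
  haveI : IsAffine (a : Scheme) := ha
  haveI : (M.restrict a.ι).IsQuasicoherent := inferInstance
  refine ⟨Groth.Agent.Lib.Helper28.QCohLoc.isQuasicoherent_pushforward a.ι (M.restrict a.ι), fun p => ?_⟩
  obtain ⟨e⟩ := Groth.Agent.Lib.Helper17.RelAffine.nonempty_H_addEquiv_pushforward a.ι (M.restrict a.ι) (p + 1)
  haveI := Groth.Agent.Lib.Helper17.AffineVanish.subsingleton_H_of_isAffine (M.restrict a.ι) p
  exact e.symm.toEquiv.subsingleton

open Groth.Agent.Lib.Helper28.QCohLoc in
/-- the unit `M ⟶ j_* j^* M` for the open immersion of `a`; a section killed by it vanishes on `a`. -/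
theorem unit_app_eq_zero (M : X.Modules) (a : X.Opens) (V : X.Opens) (x : Γ(M, V))
    (h : (((Scheme.Modules.restrictAdjunction a.ι).unit.app M).app V) x = 0) :
    res M (inf_le_right : a ⊓ V ≤ V) x = 0 := by
  have e : a.ι ''ᵁ a.ι ⁻¹ᵁ V = a ⊓ V := by
    rw [Scheme.Hom.image_preimage_eq_opensRange_inf, Scheme.Opens.opensRange_ι]
  have h' : res M ((Scheme.Hom.image_preimage_eq_opensRange_inf a.ι V).trans_le inf_le_right) x = 0 := h
  have := congrArg (res M (e.ge : a ⊓ V ≤ a.ι ''ᵁ a.ι ⁻¹ᵁ V)) h'
  rw [res_res, res_zero] at this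
  exact this

theorem subsingleton_ext_of_isZero {C : Type*} [Category C] [Abelian C] [HasExt C]
    (Z Y : C) (hY : IsZero Y) (n : ℕ) : Subsingleton (Ext Z Y n) := by
  refine ⟨fun x y => ?_⟩
  have key : ∀ z : Ext Z Y n, z = 0 := by
    intro z
    have h1 : z.comp (Ext.mk₀ (𝟙 Y)) (add_zero n) = z := Ext.comp_mk₀_id z
    rw [hY.eq_of_src (𝟙 Y) 0, Ext.mk₀_zero, Ext.comp_zero] at h1
    exact h1.symm
  rw [key x, key y]

open Groth.Agent.Lib.Helper28.QCohLoc Groth.Agent.Lib.Helper17.CohKer Groth.Agent.Lib.Helper17.AffineSurj in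
theorem exists_aux (hd : ∀ V W : X.Opens, IsAffineOpen V → IsAffineOpen W → IsAffineOpen (V ⊓ W))
    (M : X.Modules) [M.IsQuasicoherent] (s : Finset X.affineOpens) :
    ∃ (M' : X.Modules) (i : M ⟶ M'), M'.IsQuasicoherent ∧ (∀ p : ℕ, Subsingleton (Coh.HH X M' (p + 1))) ∧
      ∀ (V : X.Opens) (x : Γ(M, V)), i.app V x = 0 →
        ∀ a ∈ s, res M (inf_le_right : (a : X.Opens) ⊓ V ≤ V) x = 0 := by
  classical
  induction s using Finset.induction_on with
  | empty =>
    refine ⟨kernel (𝟙 M), 0, isQuasicoherent_kernel (𝟙 M), fun p => ?_,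
      fun V x _ a ha => absurd ha (Finset.notMem_empty a)⟩
    have hz : IsZero (kernel (𝟙 M)) := isZero_kernel_of_mono _
    haveI hadd : (SheafOfModules.toSheaf.{u} X.ringCatSheaf).Additive := inferInstance
    have hz' : IsZero ((SheafOfModules.toSheaf.{u} X.ringCatSheaf).obj (kernel (𝟙 M))) :=
      (SheafOfModules.toSheaf.{u} X.ringCatSheaf).map_isZero hz
    exact subsingleton_ext_of_isZero _ _ hz' _
  | insert a s has ih =>
    obtain ⟨M', i, hq, hac, hinj⟩ := ih
    obtain ⟨hq2, hac2⟩ := pushRestrict_props hd M a.2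
    refine ⟨M' ⊞ (Scheme.Modules.pushforward a.1.ι).obj (M.restrict a.1.ι),
      biprod.lift i ((Scheme.Modules.restrictAdjunction a.1.ι).unit.app M), ?_,
      fun p => subsingleton_H_biprod _ _ (p + 1) (hac p) (hac2 p), ?_⟩
    · let S : ShortComplex X.Modules := ShortComplex.mk
        (biprod.inl : M' ⟶ M' ⊞ (Scheme.Modules.pushforward a.1.ι).obj (M.restrict a.1.ι)) biprod.snd (by simp)
      have spl : S.Splitting := ShortComplex.Splitting.ofHasBinaryBiproduct _ _
      haveI : S.X₁.IsQuasicoherent := hq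
      haveI : S.X₃.IsQuasicoherent := hq2
      exact isQuasicoherent_of_extension S spl.shortExact
    · intro V x hx b hb
      rcases Finset.mem_insert.1 hb with rfl | hb
      · apply unit_app_eq_zero
        have : (biprod.lift i ((Scheme.Modules.restrictAdjunction b.1.ι).unit.app M) ≫ biprod.snd).app V x = 0 := by
          rw [Scheme.Modules.Hom.comp_app, ConcreteCategory.comp_apply]
          exact (congrArg _ hx).trans (map_zero _)
        rwa [biprod.lift_snd] at this
      · apply hinj V x _ b hb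
        have : (biprod.lift i ((Scheme.Modules.restrictAdjunction a.1.ι).unit.app M) ≫ biprod.fst).app V x = 0 := by
          rw [Scheme.Modules.Hom.comp_app, ConcreteCategory.comp_apply]
          exact (congrArg _ hx).trans (map_zero _)
        rwa [biprod.lift_fst] at this

open Groth.Agent.Lib.Helper28.QCohLoc in

open AlgebraicGeometry CategoryTheory in
/-- On a quasi-compact scheme in which affine opens have affine intersections, every quasi-coherent
module admits a monomorphism into a quasi-coherent module whose cohomology vanishes in all positive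
degrees. (Part (2), universality of the delta-functor, is not stated.) -/
theorem result (X : Scheme.{u}) [CompactSpace X]
    (hd : ∀ V W : X.Opens, IsAffineOpen V → IsAffineOpen W → IsAffineOpen (V ⊓ W))
    (M : X.Modules) [Coh.IsQCoh M] :
    ∃ (M' : X.Modules) (i : M ⟶ M'), Mono i ∧ Coh.IsQCoh M' ∧
      ∀ p : ℕ, 0 < p → Subsingleton (Coh.HH X M' p) := by
  haveI : M.IsQuasicoherent := ‹Coh.IsQCoh M›
  obtain ⟨s, hs, e⟩ := (isCompact_iff_finite_and_eq_biUnion_affineOpens (U := (⊤ : X.Opens))).1
    isCompact_univ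
  obtain ⟨M', i, hq, hac, hinj⟩ := exists_aux hd M hs.toFinset
  refine ⟨M', i, ?_, hq, fun p hp => ?_⟩
  · apply mono_of_injective
    intro V
    rw [injective_iff_map_eq_zero]
    intro x hx
    have h1 := hinj V x hx
    refine eq_of_locally_eq M (fun a : hs.toFinset => (a.1 : X.Opens) ⊓ V) V (fun a => inf_le_right) ?_ x 0
      (fun a => ?_)
    · intro y hy
      have hy' : y ∈ (⊤ : X.Opens) := trivial
      rw [e] at hy'
      obtain ⟨b, hyb⟩ := Opens.mem_iSup.1 hy'
      obtain ⟨hbs, hyb⟩ := Opens.mem_iSup.1 hyb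
      exact Opens.mem_iSup.2 ⟨⟨b, hs.mem_toFinset.2 hbs⟩, hyb, hy⟩
    · rw [res_zero]
      exact h1 a.1 a.2
  · obtain ⟨p, rfl⟩ : ∃ q, p = q + 1 := ⟨p - 1, by omega⟩
    exact hac p

end Groth.Agent.S0011
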