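import Groth.Statements.S0014
import Groth.Agent.Lib.Helper17.FTLimit
import Mathlib
set_option backward.isDefEq.respectTransparency.types false

set_option autoImplicit false
universe u
open Coherent

namespace Groth.Agent.S0014
open AlgebraicGeometry CategoryTheory CategoryTheory.Limits
open Groth.Agent.Lib.Helper17.Serre Groth.Agent.Lib.Helper17.FTLimit


open AlgebraicGeometry CategoryTheory in
/-- If X is quasi-compact and quasi-separated and H^1 vanishes for every quasi-coherent submodule of
finite type of the structure sheaf, then X is affine. -/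
theorem result (X : Scheme.{u}) [CompactSpace X]
    [QuasiSeparatedSpace X]
    (h : ∀ (I : X.Modules) (i : I ⟶ Coh.structureModule X), Mono i →
      Coh.IsQCoh I → CohB1.IsFT I → Subsingleton (Coh.HH X I 1)) : IsAffine X := by
  apply isAffine_of_surjHyp
  intro S i hS hi h1 _ _
  haveI := h1
  haveI := hi
  haveI : Mono S.f := hS.mono_f
  apply surjective_app_top_of_ft S hS
  intro K j hj hKq hKft
  haveI := hj
  let T : ShortComplex X.Modules :=
    ShortComplex.mk (j ≫ S.f) (cokernel.π (j ≫ S.f)) (cokernel.condition _)
  have hT : T.ShortExact :=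
    { exact := ShortComplex.exact_of_g_is_cokernel _ (cokernelIsCokernel (j ≫ S.f))
      mono_f := inferInstanceAs (Mono (j ≫ S.f))
      epi_g := inferInstanceAs (Epi (cokernel.π (j ≫ S.f))) }
  exact surjective_app_top_of_H1 T hT (h K (j ≫ i) inferInstance hKq hKft)

end Groth.Agent.S0014
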