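import Groth.Statements.S0018
import Groth.Agent.Lib.Helper28.FinTypeConv
import Groth.Agent.Lib.Helper28.FinType
import Mathlib
set_option backward.isDefEq.respectTransparency.types false

set_option autoImplicit false
universe u
open Coherent

namespace Groth.Agent.S0018
open CategoryTheory CategoryTheory.Limits AlgebraicGeometry Opposite TopologicalSpace
open Groth.Agent.Lib.Helper28.QCohLoc Groth.Agent.Lib.Helper28.FinType

section
variable {C : Type u} [Category.{u} C] {J : GrothendieckTopology C} {R : Sheaf J RingCat.{u}}
  [HasSheafify J AddCommGrpCat.{u}] [J.WEqualsLocallyBijective AddCommGrpCat.{u}]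
variable {C' : Type u} [Category.{u} C'] {J' : GrothendieckTopology C'} {S : Sheaf J' RingCat.{u}}
  [HasSheafify J' AddCommGrpCat.{u}] [J'.WEqualsLocallyBijective AddCommGrpCat.{u}]
variable {M : SheafOfModules.{u} R} (P : SheafOfModules.Presentation M)
  (F : SheafOfModules.{u} R ⥤ SheafOfModules.{u} S) [PreservesColimitsOfSize.{u, u} F]
  (η : SheafOfModules.unit S ≅ F.obj (SheafOfModules.unit R))

instance map_isFinite [P.IsFinite] : (P.map F η).IsFinite where
  isFiniteType_generators := ⟨by
    rw [SheafOfModules.Presentation.map_generators_I]
    exact SheafOfModules.GeneratingSections.IsFiniteType.finite⟩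
  isFiniteType_relations := ⟨by
    rw [SheafOfModules.Presentation.map_relations_I]
    exact SheafOfModules.GeneratingSections.IsFiniteType.finite⟩
end

/-- a finite presentation of a quasi-coherent module with finitely generated global sections over a Noetherian ring -/
theorem exists_finite_presentation_spec {R : CommRingCat.{u}} [IsNoetherianRing R] (N : (Spec R).Modules)
    [N.IsQuasicoherent] (hfin : Module.Finite R (moduleSpecΓFunctor.obj N)) :
    ∃ P : N.Presentation, P.IsFinite := by
  haveI hN : IsIso N.fromTildeΓ := inferInstance
  let G : ModuleCat.{u} R := (modulesSpecToSheaf.obj N).presheaf.obj (.op ⊤)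
  have hfinG : Module.Finite R G := hfin
  obtain ⟨s, hs⟩ := hfinG.fg_top
  let s' : Set G := ↑s
  haveI : Finite ↥s' := s.finite_toSet
  let K := LinearMap.ker (Finsupp.linearCombination R ((↑) : s' → G))
  haveI : IsNoetherian R (s' →₀ R) := isNoetherian_of_isNoetherianRing_of_finite R _
  obtain ⟨t, ht⟩ := (IsNoetherian.noetherian K : K.FG)
  let P0 : (tilde G).Presentation := presentationTilde.{u} G s' hs ↑t ht
  haveI : P0.IsFinite :=
    { isFiniteType_generators := ⟨(inferInstance : Finite ↥s')⟩
      isFiniteType_relations := ⟨(t.finite_toSet : Finite ↥(↑t : Set (s' →₀ R)))⟩ }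
  letI hN' : @IsIso (SheafOfModules.{u} (Spec R).ringCatSheaf) _ _ _ N.fromTildeΓ := hN
  exact ⟨@SheafOfModules.Presentation.ofIsIso.{u, u, u} _ _ _ _ _ _ _ _ N.fromTildeΓ hN' P0, inferInstance⟩

open AlgebraicGeometry in

open AlgebraicGeometry in
/-- On a locally Noetherian scheme an O_X-module is quasi-coherent of finite type if and only if it is
of finite presentation. (Either condition is what 'coherent' means there.) -/
theorem result (X : Scheme.{u}) [IsLocallyNoetherian X] (M : X.Modules) :
    Coh.IsCoh M ↔ CohB1.IsFP M := by
  constructor
  · rintro ⟨hq, hft⟩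
    haveI : M.IsQuasicoherent := hq
    haveI : SheafOfModules.IsFiniteType.{u} (R := X.ringCatSheaf) M := hft
    have h1 : ∀ U : X.affineOpens, ∃ P : (M.restrict U.2.fromSpec).Presentation, P.IsFinite := fun U => by
      haveI : IsNoetherianRing Γ(X, U.1) := IsLocallyNoetherian.component_noetherian U
      exact exists_finite_presentation_spec (R := Γ(X, U.1)) _
        (finite_fromSpec_of_finite M U.2 (finite_of_isAffineOpen M U.2))
    choose P hP using h1
    let q : SheafOfModules.QuasicoherentData.{u, u, u, u} M :=
      { I := X.affineOpens
        X := fun U => U.1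
        coversTop := by rw [Opens.coversTop_iff]; exact iSup_affineOpens_eq_top X
        presentation := fun U => presentationOver M U.1 (presentationOfFromSpec M U.2 (P U)) }
    have hfinP : ∀ U : X.affineOpens, (presentationOver M U.1 (presentationOfFromSpec M U.2 (P U))).IsFinite := by
      intro U
      haveI := hP U
      unfold presentationOver presentationOfFromSpec Scheme.Modules.presentationRestrict
      infer_instance
    haveI : q.IsFinitePresentation := { isFinite_presentation := fun U => hfinP U }
    change SheafOfModules.IsFinitePresentation (R := X.ringCatSheaf) M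
    exact { exists_quasicoherentData := ⟨q, inferInstance⟩ }
  · intro h
    haveI : SheafOfModules.IsFinitePresentation (R := X.ringCatSheaf) M := h
    exact ⟨inferInstance, inferInstance⟩

end Groth.Agent.S0018
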