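import Groth.Statements.S0023
import Groth.Agent.Lib.Helper2.ProjCoh5
import Groth.Agent.Lib.Helper28.TwistCov

set_option autoImplicit false
universe u
open Coherent

namespace Groth.Agent.S0023

open AlgebraicGeometry in
/-- Special case of the twist d = 0 in positive degree: H^q(P^n_R, O) = 0 for all q > 0 and any ring R.
(The full statement computes all H^q(P^n_R, O(d)); only the untwisted part is stated here.) -/
theorem result (n : ℕ) (R : Type u) [CommRing R]
    (q : ℕ) (hq : 0 < q) :
    Subsingleton (Coh.HH (CohB1.ProjSpace n R) (Coh.structureModule (CohB1.ProjSpace n R)) q) := by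
  classical
  have hcov : ∀ x : Proj (CohB1.polyGrading n R), ∃ f : MvPolynomial (Fin (n + 1)) R,
      f ∈ CohB1.polyGrading n R 1 ∧ x ∈ Proj.basicOpen (CohB1.polyGrading n R) f := by
    intro x
    have hx : x ∈ (⊤ : (Proj (CohB1.polyGrading n R)).Opens) := trivial
    rw [← Groth.Agent.Lib.Helper2.ProjCoh5.iSup_cov n R, TopologicalSpace.Opens.mem_iSup] at hx
    obtain ⟨i, hi⟩ := hx
    exact ⟨_, Groth.Agent.Lib.Helper2.ProjCoh5.X_mem n R i.down, hi⟩
  obtain ⟨φ⟩ := Groth.Agent.Lib.Helper28.TwistCov.nonempty_twist_zero_iso (CohB1.polyGrading n R) hcov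
  have h0 : Subsingleton (Coh.HH (Proj (CohB1.polyGrading n R))
      (Twist.twist (CohB1.polyGrading n R) ((0 : ℕ) : ℤ)) q) :=
    Groth.Agent.Lib.Helper2.ProjCoh5.subsingleton_HH n R ((0 : ℕ) : ℤ) q (fun h => by omega)
      (fun h => by
        have := h.2
        push_cast at this
        omega)
  let ψ : Coh.toAb (Twist.twist (CohB1.polyGrading n R) ((0 : ℕ) : ℤ)) ≅
      Coh.toAb (Coh.structureModule (Proj (CohB1.polyGrading n R))) :=
    (SheafOfModules.toSheaf (Proj (CohB1.polyGrading n R)).ringCatSheaf).mapIso φ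
  refine ⟨fun x y => ?_⟩
  have key : ∀ z : Coh.HH (CohB1.ProjSpace n R) (Coh.structureModule (CohB1.ProjSpace n R)) q,
      z = CategoryTheory.Sheaf.H.map ψ.hom q (CategoryTheory.Sheaf.H.map ψ.inv q z) := by
    intro z
    rw [← CategoryTheory.Sheaf.H.map_comp_apply, ψ.inv_hom_id, CategoryTheory.Sheaf.H.map_id_apply]
  rw [key x, key y]
  congr 1
  exact Subsingleton.elim _ _

end Groth.Agent.S0023
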