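import Groth.Statements.S0026
import Groth.Agent.Lib.Helper6.DevFilt

set_option autoImplicit false
universe u
open Coherent

namespace Groth.Agent.S0026

open AlgebraicGeometry CategoryTheory CategoryTheory.Limits in
/-- On a Noetherian scheme X, every coherent module M admits a finite chain 0 = F_0 → F_1 → … → F_m ≅ M
of monomorphisms between coherent modules such that each quotient F_{j+1}/F_j is isomorphic to the
direct image of a nonzero quasi-coherent ideal sheaf of some integral closed subscheme Z_j → X.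
(Filtration written as a chain of monomorphisms up to isomorphism.) -/
theorem result (X : Scheme.{u}) [IsNoetherian X]
    (M : X.Modules) (hM : Coh.IsCoh M) :
    ∃ (m : ℕ) (F : ℕ → X.Modules) (φ : (j : ℕ) → (F j ⟶ F (j + 1))),
      IsZero (F 0) ∧ Nonempty (F m ≅ M) ∧ (∀ j ≤ m, Coh.IsCoh (F j)) ∧ ∀ j < m, Mono (φ j) ∧
        ∃ (Z : Scheme.{u}) (i : Z ⟶ X), IsClosedImmersion i ∧ IsIntegral Z ∧
          ∃ (I : Z.Modules) (ι : I ⟶ Coh.structureModule Z), Mono ι ∧ Coh.IsQCoh I ∧ ¬ IsZero I ∧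
            Nonempty (cokernel (φ j) ≅ (Coh.push i).obj I) := by
  classical
  open Groth.Agent.Lib.Helper6.DevCore Groth.Agent.Lib.Helper6.DevStep Groth.Agent.Lib.Helper6.DevRed
    Groth.Agent.Lib.Helper6.DevExt Groth.Agent.Lib.Helper6.DevFilt ZeroObject in
  have hP : ∀ M N : X.Modules, Nonempty (M ≅ N) → HasFilt M → HasFilt N := fun M N ⟨e⟩ h => h.of_iso e
  have hext : ∀ S : ShortComplex X.Modules, S.ShortExact → Coh.IsCoh S.X₁ → Coh.IsCoh S.X₂ →
      Coh.IsCoh S.X₃ → HasFilt S.X₁ → HasFilt S.X₃ → HasFilt S.X₂ :=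
    fun S hS _ h2 _ k1 k3 => HasFilt.ext k3 S.f S.g S.zero hS k1 h2
  have hideal : ∀ (Z : TopologicalSpace.Closeds X), IsIrreducible (Z : Set X) →
      ∀ (N : X.Modules) (j : N ⟶ ClSub.quotMod (Scheme.IdealSheafData.vanishingIdeal Z)),
        Mono j → Coh.IsCoh N → HasFilt N := by
    intro Z hirr N j hj hN
    haveI hint := isIntegral_subscheme_vanishingIdeal Z hirr
    haveI : N.IsQuasicoherent := hN.1
    obtain ⟨J, ι, hι, hJ, ⟨e⟩⟩ := exists_ideal_iso (Scheme.IdealSheafData.vanishingIdeal Z) j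
    by_cases hJ0 : IsZero J
    · refine HasFilt.zero N (IsZero.of_iso ?_ e)
      exact (Coh.push (Scheme.IdealSheafData.vanishingIdeal Z).subschemeι).map_isZero hJ0
    · refine HasFilt.step (0 : X.Modules) N 0 inferInstance hN (HasFilt.zero 0 (isZero_zero _)) ?_
      exact ⟨_, (Scheme.IdealSheafData.vanishingIdeal Z).subschemeι, inferInstance, hint, J, ι, hι, hJ, hJ0,
        ⟨cokernelZeroIsoTarget ≪≫ e⟩⟩
  let K' : ObjectProperty X.Modules := HasFilt
  haveI : K'.IsClosedUnderIsomorphisms := ⟨fun {A B} e hA => hP A B ⟨e⟩ hA⟩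
  have hfilt : HasFilt M := by
    refine devissage_core K' hext (fun N hN => HasFilt.zero N hN) Set.univ ?_ isClosed_univ M hM
      (Set.subset_univ _)
    intro Z hZ hirr _ y hy IH Q hQ hQZ hyQ
    exact step_ext HasFilt hP hext ⟨Z, hZ⟩ hirr y hy (hideal ⟨Z, hZ⟩ hirr) IH Q hQ hQZ hyQ
  exact hfilt.exists_chain

end Groth.Agent.S0026
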