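import Groth.Statements.S0027
import Groth.Agent.Lib.Helper6.DevExt

set_option autoImplicit false
universe u
open Coherent

namespace Groth.Agent.S0027

open AlgebraicGeometry CategoryTheory CategoryTheory.Limits in
/-- Let X be a nonempty Noetherian scheme and P an isomorphism-invariant property of O_X-modules such
that (1) in a short exact sequence of coherent modules, P for the two outer terms implies P for the
middle term, and (2) P holds for the direct image of every quasi-coherent ideal sheaf of every
integral closed subscheme of X. Then P holds for every coherent O_X-module. (Nonemptiness of X is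
needed for the zero module; the published statement leaves it implicit.) -/
theorem result (X : Scheme.{u}) [IsNoetherian X] [Nonempty X]
    (P : X.Modules → Prop) (hP : ∀ M N : X.Modules, Nonempty (M ≅ N) → P M → P N)
    (h₁ : ∀ S : ShortComplex X.Modules, S.ShortExact → Coh.IsCoh S.X₁ → Coh.IsCoh S.X₂ →
      Coh.IsCoh S.X₃ → P S.X₁ → P S.X₃ → P S.X₂)
    (h₂ : ∀ (Z : Scheme.{u}) (i : Z ⟶ X), IsClosedImmersion i → IsIntegral Z →
      ∀ (I : Z.Modules) (ι : I ⟶ Coh.structureModule Z), Mono ι → Coh.IsQCoh I →
        P ((Coh.push i).obj I))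
    (M : X.Modules) (hM : Coh.IsCoh M) : P M := by
  classical
  open Groth.Agent.Lib.Helper6.DevCore Groth.Agent.Lib.Helper6.DevStep Groth.Agent.Lib.Helper6.DevRed
    Groth.Agent.Lib.Helper6.DevExt in
  -- the ideals of the reduced induced subscheme of an irreducible closed set
  have hideal : ∀ (Z : TopologicalSpace.Closeds X), IsIrreducible (Z : Set X) →
      ∀ (N : X.Modules) (j : N ⟶ ClSub.quotMod (Scheme.IdealSheafData.vanishingIdeal Z)),
        Mono j → Coh.IsCoh N → P N := by
    intro Z hirr N j hj hN
    haveI hint := isIntegral_subscheme_vanishingIdeal Z hirr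
    haveI : N.IsQuasicoherent := hN.1
    obtain ⟨J, ι, hι, hJ, ⟨e⟩⟩ := exists_ideal_iso (Scheme.IdealSheafData.vanishingIdeal Z) j
    exact hP _ N ⟨e.symm⟩ (h₂ _ (Scheme.IdealSheafData.vanishingIdeal Z).subschemeι inferInstance hint J ι hι hJ)
  -- zero modules
  have hzero : ∀ N : X.Modules, IsZero N → P N := by
    intro N hN
    obtain ⟨x⟩ := ‹Nonempty X›
    let Zc : TopologicalSpace.Closeds X := ⟨closure {x}, isClosed_closure⟩
    have hN' : Coh.IsCoh N := isCoh_of_isZero hN
    exact hideal Zc isIrreducible_singleton.closure N 0 ⟨fun g h _ => hN.eq_of_tgt g h⟩ hN'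
  let K' : ObjectProperty X.Modules := P
  haveI : K'.IsClosedUnderIsomorphisms := ⟨fun {A B} e hA => hP A B ⟨e⟩ hA⟩
  refine devissage_core K' h₁ hzero Set.univ ?_ isClosed_univ M hM (Set.subset_univ _)
  intro Z hZ hirr _ y hy IH Q hQ hQZ hyQ
  exact step_ext P hP h₁ ⟨Z, hZ⟩ hirr y hy (hideal ⟨Z, hZ⟩ hirr) IH Q hQ hQZ hyQ

end Groth.Agent.S0027
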