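import Groth.Statements.S0029
import Groth.Agent.Lib.Helper2.RpushQC6
import Groth.Agent.Lib.Helper2.PushEdge4
import Groth.Agent.Lib.Helper17.FTExt2
import Groth.Agent.Lib.Helper17.Serre3
import Groth.Agent.Lib.Helper17.AffineSurj
import Groth.Agent.Lib.Helper28.QCohPush
import Groth.Agent.S11319

set_option autoImplicit false
universe u
open Coherent

namespace Groth.Agent.S0029

open AlgebraicGeometry CategoryTheory Limits Opposite TopologicalSpace in
theorem surjHyp_preimage {X Y : Scheme.{u}} (f : X ⟶ Y) [QuasiCompact f]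
    [QuasiSeparatedSpace X]
    (h : ∀ (I : X.Modules) (i : I ⟶ Coh.structureModule X), Mono i → Coh.IsQCoh I →
      Limits.IsZero ((Coh.RpushAb f 1).obj (Coh.toAb I))) (V : Y.Opens) (hV : IsAffineOpen V) :
    Groth.Agent.Lib.Helper17.Serre.SurjHyp (f ⁻¹ᵁ V : Scheme.{u}) := by
  intro S i hS hi h1 h2 h3
  haveI := h1
  haveI := hi
  have hUc : IsCompact ((f ⁻¹ᵁ V : X.Opens) : Set X) := f.isCompact_preimage hV.isCompact
  haveI : QuasiCompact (f ⁻¹ᵁ V).ι :=
    Groth.Agent.Lib.Helper17.FTExt.quasiCompact_ι_of_isCompact _ hUc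
  let i' : S.X₁ ⟶ (Coh.structureModule X).restrict (f ⁻¹ᵁ V).ι :=
    i ≫ (Scheme.Modules.restrictUnitIso (f ⁻¹ᵁ V).ι).inv
  haveI : Mono i' := mono_comp _ _
  obtain ⟨H, ι, hι, hHq, hH⟩ :=
    Groth.Agent.Lib.Helper17.FTExt.exists_saturation (f ⁻¹ᵁ V) (Coh.structureModule X) S.X₁ i'
  haveI := hι
  haveI := hHq
  haveI hmono' : Mono ((Scheme.Modules.restrictFunctor (f ⁻¹ᵁ V).ι).map ι) := by
    refine Groth.Agent.Lib.Helper28.QCohLoc.mono_of_injective _ fun T' => ?_
    intro a b hab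
    exact Groth.Agent.Lib.Helper29.QCohStalk.injective_app_of_mono ι hι ((f ⁻¹ᵁ V).ι ''ᵁ T') hab
  obtain ⟨e, he⟩ := Groth.Agent.Lib.Helper17.FTExt.exists_iso_of_range_eq
    ((Scheme.Modules.restrictFunctor (f ⁻¹ᵁ V).ι).map ι) i' (fun T' r => hH T' r)
  have hz := h H ι hι hHq
  obtain ⟨e1⟩ := Groth.Agent.S11319.result f H 1
  have hz1 : IsZero ((Coh.Rpush f 1).obj H) :=
    Groth.Agent.Lib.Helper2.RpushQC4.isZero_of_isZero_toAb _ (IsZero.of_iso hz e1)
  obtain ⟨e2⟩ := Groth.Agent.Lib.Helper2.RpushQC6.nonempty_restrict_Rpush_iso f V H 1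
  have hz2 : IsZero ((Coh.Rpush (f ∣_ V) 1).obj (H.restrict (f ⁻¹ᵁ V).ι)) :=
    IsZero.of_iso ((Scheme.Modules.restrictFunctor V.ι).map_isZero hz1) e2.symm
  have hz3 : IsZero ((Coh.Rpush (f ∣_ V) 1).obj S.X₁) :=
    IsZero.of_iso hz2 ((Coh.Rpush (f ∣_ V) 1).mapIso e.symm)
  have hSE := Groth.Agent.Lib.Helper2.PushEdge4.shortExact_map_of_isZero
    (Scheme.Modules.pushforward (f ∣_ V)) hS hz3
  haveI : QuasiSeparatedSpace (f ⁻¹ᵁ V : Scheme.{u}) :=
    quasiSeparatedSpace_of_quasiSeparated (f ⁻¹ᵁ V).ι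
  haveI : IsAffine (V : Scheme.{u}) := hV
  haveI : QuasiSeparated (f ∣_ V) := inferInstance
  haveI : ((S.map (Scheme.Modules.pushforward (f ∣_ V))).X₁).IsQuasicoherent :=
    Groth.Agent.Lib.Helper28.QCohLoc.isQuasicoherent_pushforward (f ∣_ V) S.X₁
  exact Groth.Agent.Lib.Helper17.AffineSurj.surjective_app_of_shortExact
    (S.map (Scheme.Modules.pushforward (f ∣_ V))) hSE (U := ⊤) (isAffineOpen_top _)

open AlgebraicGeometry CategoryTheory in
/-- Let f : X → Y be a quasi-compact morphism between quasi-separated schemes. Suppose R^1 f_* I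
vanishes for each quasi-coherent submodule I of O_X; then f is affine. -/
theorem result {X Y : Scheme.{u}} (f : X ⟶ Y) [QuasiCompact f]
    [QuasiSeparatedSpace X] [QuasiSeparatedSpace Y]
    (h : ∀ (I : X.Modules) (i : I ⟶ Coh.structureModule X), Mono i → Coh.IsQCoh I →
      Limits.IsZero ((Coh.RpushAb f 1).obj (Coh.toAb I))) : IsAffineHom f := by
  classical
  haveI : HasInjectiveResolutions X.Modules := inferInstance
  refine ⟨fun V hV => ?_⟩
  haveI : CompactSpace (f ⁻¹ᵁ V : Scheme.{u}) :=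
    isCompact_iff_compactSpace.1 (f.isCompact_preimage hV.isCompact)
  exact Groth.Agent.Lib.Helper17.Serre.isAffine_of_surjHyp (surjHyp_preimage f h V hV)

end Groth.Agent.S0029
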