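import Groth.Statements.S0035
import Groth.Agent.S0034
import Groth.Agent.Lib.Helper17.FlatBCH4
import Mathlib
set_option backward.isDefEq.respectTransparency.types false

set_option autoImplicit false
universe u
open Coherent

namespace Groth.Agent.S0035
open AlgebraicGeometry CategoryTheory TensorProduct Opposite TopologicalSpace CategoryTheory.Limits Abelian
open Groth.Agent.Lib.Helper17.ExtTensor Groth.Agent.Lib.Helper17.FlatBCH1 Groth.Agent.Lib.Helper17.FlatBCH2
  Groth.Agent.Lib.Helper17.FlatBCH3 Groth.Agent.Lib.Helper17.FlatBCH4 Groth.Agent.Lib.Helper17.HCompare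


open AlgebraicGeometry CategoryTheory TensorProduct in
/-- Let B be a finite projective (= finite locally free) A-algebra, X any scheme over Spec A, X' = X ×_A
Spec B with projection g', and F quasi-coherent on X. Then H^i(X, F) ⊗_A B ≅ H^i(X', g'^* F). No
quasi-compactness or separation hypothesis on X is needed. -/
theorem result (A B : Type u) [CommRing A] [CommRing B] [Algebra A B]
    [Module.Finite A B] [Module.Projective A B] (X X' : Scheme.{u})
    [X.Over (Spec (CommRingCat.of A))] [X'.Over (Spec (CommRingCat.of B))] (g' : X' ⟶ X)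
    (h : IsPullback g' (X' ↘ Spec (CommRingCat.of B)) (X ↘ Spec (CommRingCat.of A))
      (Spec.map (CommRingCat.ofHom (algebraMap A B))))
    (M : X.Modules) [Coh.IsQCoh M] (i : ℕ) :
    Nonempty (TensorProduct A B (Coh.HH X M i) ≃ₗ[B] Coh.HH X' ((Scheme.Modules.pullback g').obj M) i) := by
  haveI : IsAffineHom g' := MorphismProperty.of_isPullback (P := @IsAffineHom) h.flip inferInstance
  haveI : M.IsQuasicoherent := ‹Coh.IsQCoh M›
  obtain ⟨Φ, hΦ, hΦs⟩ := exists_comparison_of_finite_projective g'
    (Coh.toGlobal (X ↘ Spec (CommRingCat.of A)))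
    (Coh.toGlobal (X' ↘ Spec (CommRingCat.of B))) M (Groth.Agent.S0034.hι A B X X' g' h)
    (Groth.Agent.S0034.hpo A B X X' g' h) i
  let e₁ : Coh.HH X M i ≃ₗ[A]
      E (actF (Coh.toGlobal (X ↘ Spec (CommRingCat.of A))) M) (ZZ (Opens.grothendieckTopology X)) i :=
    { toFun := fun x => x
      invFun := fun x => x
      left_inv := fun _ => rfl
      right_inv := fun _ => rfl
      map_add' := fun _ _ => rfl
      map_smul' := fun _ _ => rfl }
  let c := TensorProduct.AlgebraTensorModule.congr (LinearEquiv.refl B B) e₁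
  let Ψ : B ⊗[A] Coh.HH X M i →ₗ[B] Coh.HH X' ((Scheme.Modules.pullback g').obj M) i :=
    { toFun := fun t => Φ (c t)
      map_add' := fun s t => by rw [map_add, map_add]
      map_smul' := fun b t => by
        rw [map_smul, hΦs]
        rfl }
  exact ⟨LinearEquiv.ofBijective Ψ (hΦ.comp c.bijective)⟩

end Groth.Agent.S0035
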