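import Groth.Statements.S0048
import Groth.Agent.Lib.Helper17.FinTypeConv
import Groth.Agent.Lib.Helper28.QCohPush
import Mathlib
set_option backward.isDefEq.respectTransparency.types false

set_option autoImplicit false
universe u
open Coherent

namespace Groth.Agent.S0048
open CategoryTheory CategoryTheory.Limits AlgebraicGeometry Opposite TopologicalSpace
open Groth.Agent.Lib.Helper28.QCohLoc Groth.Agent.Lib.Helper17.FinTypeConv Groth.Agent.Lib.Helper28.FinType

/-- local version of `isLocOn_pushforward`: only needs the preimage of `V` to be qcqs -/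
theorem isLocOn_pushforward_of_preimage {X Y : Scheme.{u}} (f : X ⟶ Y) (F : X.Modules) [F.IsQuasicoherent]
    {V : Y.Opens} (hc : IsCompact ((f ⁻¹ᵁ V : X.Opens) : Set X))
    (hqs : IsQuasiSeparated ((f ⁻¹ᵁ V : X.Opens) : Set X)) :
    IsLocOn ((Scheme.Modules.pushforward f).obj F) V := by
  refine ⟨fun r y => ?_, fun r x hx => ?_⟩
  · have e : f ⁻¹ᵁ (Y.basicOpen r) = X.basicOpen (f.app V r) := Scheme.preimage_basicOpen f r
    have hW : f ⁻¹ᵁ (Y.basicOpen r) ≤ f ⁻¹ᵁ V := f.preimage_mono (Y.basicOpen_le r)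
    have key : ∀ (W : X.Opens) (e : W = X.basicOpen (f.app V r)) (hW : W ≤ f ⁻¹ᵁ V) (y : Γ(F, W)),
        ∃ (n : ℕ) (x : Γ(F, f ⁻¹ᵁ V)), ((resO hW (f.app V r)) ^ n • y : Γ(F, W)) = res F hW x := by
      intro W e hW y
      subst e
      obtain ⟨n, x, hx⟩ := exists_pow_smul_eq_res_of_qcqs F hc hqs (f.app V r) y
      exact ⟨n, x, hx.symm⟩
    obtain ⟨n, x, hx⟩ := key _ e hW y
    refine ⟨n, x, ?_⟩
    have h1 : f.app (Y.basicOpen r) ((resO (Y.basicOpen_le r) r) ^ n) = (resO hW (f.app V r)) ^ n := by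
      rw [map_pow, app_resO]
    change ((f.app (Y.basicOpen r) ((resO (Y.basicOpen_le r) r) ^ n)) • (show Γ(F, f ⁻¹ᵁ (Y.basicOpen r)) from y) :
      Γ(F, f ⁻¹ᵁ (Y.basicOpen r))) = res F hW x
    rw [h1]
    exact hx
  · have e : f ⁻¹ᵁ (Y.basicOpen r) = X.basicOpen (f.app V r) := Scheme.preimage_basicOpen f r
    have hW : f ⁻¹ᵁ (Y.basicOpen r) ≤ f ⁻¹ᵁ V := f.preimage_mono (Y.basicOpen_le r)
    have key : ∀ (W : X.Opens) (e : W = X.basicOpen (f.app V r)) (hW : W ≤ f ⁻¹ᵁ V) (x : Γ(F, f ⁻¹ᵁ V)),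
        res F hW x = 0 → ∃ (n : ℕ), ((f.app V r) ^ n • x : Γ(F, f ⁻¹ᵁ V)) = 0 := by
      intro W e hW x hx
      subst e
      exact exists_pow_smul_eq_zero_of_isCompact F hc (f.app V r) x hx
    obtain ⟨n, hn⟩ := key _ e hW x hx
    refine ⟨n, ?_⟩
    change ((f.app V (r ^ n)) • (show Γ(F, f ⁻¹ᵁ V) from x) : Γ(F, f ⁻¹ᵁ V)) = 0
    rw [map_pow]
    exact hn

/-- sections over an open missing the support vanish -/
theorem sections_eq_zero {X : Scheme.{u}} (F : X.Modules) (W : X.Opens)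
    (hW : ∀ x ∈ W, x ∉ CohB1.support F) (s : Γ(F, W)) : s = 0 := by
  refine TopCat.Presheaf.section_ext ((SheafOfModules.toSheaf.{u} X.ringCatSheaf).obj F) W _ _ (fun x hx => ?_)
  have : Subsingleton (F.presheaf.stalk x) := by
    have := hW x hx
    unfold CohB1.support at this
    simpa using this
  change F.presheaf.germ W x hx s = F.presheaf.germ W x hx 0
  exact Subsingleton.elim _ _

theorem isLocOn_of_sections_zero {X : Scheme.{u}} (M : X.Modules) (V : X.Opens)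
    (h : ∀ W : X.Opens, W ≤ V → ∀ s : Γ(M, W), s = 0) : IsLocOn M V := by
  refine ⟨fun r y => ⟨0, 0, ?_⟩, fun r x hx => ⟨0, ?_⟩⟩
  · rw [h _ (X.basicOpen_le r) y, smul_zero]
    exact (h _ (X.basicOpen_le r) _).symm
  · exact h _ le_rfl _

open AlgebraicGeometry in

open AlgebraicGeometry in
/-- Let U ⊆ X be open and T ⊆ U a subset closed in X. If F is a coherent (quasi-coherent of finite type,
i.e. `Coh.IsCoh`) module on U with support contained in T, then its direct image along U ↪ X is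
again coherent in the same sense. (The published statement is for coherent modules in the usual
sense; here both hypothesis and conclusion use the notion `Coh.IsCoh`.) -/
theorem result (X : Scheme.{u}) (U : X.Opens) (T : Set X)
    (hT : IsClosed T) (hTU : T ⊆ (U : Set X)) (F : (↑U : Scheme.{u}).Modules) (hF : Coh.IsCoh F)
    (hs : ∀ x : ↥U, x ∈ CohB1.support F → (x : X) ∈ T) : Coh.IsCoh ((Coh.push U.ι).obj F) := by
  obtain ⟨hq, hft⟩ := hF
  haveI : F.IsQuasicoherent := hq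
  haveI : SheafOfModules.IsFiniteType.{u} (R := (↑U : Scheme.{u}).ringCatSheaf) F := hft
  set M := (Scheme.Modules.pushforward U.ι).obj F with hM
  -- the cover: affine opens contained in U or in the complement of T
  let ι := {V : X.affineOpens // V.1 ≤ U ∨ (V.1 : Set X) ⊆ Tᶜ}
  let C : ι → X.Opens := fun V => V.1.1
  have hcov : IsOpenCover C := by
    rw [IsOpenCover, eq_top_iff]
    intro x _
    by_cases hx : x ∈ T
    · obtain ⟨_, ⟨V, hV, rfl⟩, hxV, hVU⟩ := X.isBasis_affineOpens.exists_subset_of_mem_open (hTU hx) U.2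
      exact Opens.mem_iSup.mpr ⟨⟨⟨V, hV⟩, Or.inl hVU⟩, hxV⟩
    · obtain ⟨_, ⟨V, hV, rfl⟩, hxV, hVU⟩ := X.isBasis_affineOpens.exists_subset_of_mem_open (show x ∈ Tᶜ from hx) hT.isOpen_compl
      exact Opens.mem_iSup.mpr ⟨⟨⟨V, hV⟩, Or.inr hVU⟩, hxV⟩
  have hCaff : ∀ i, IsAffineOpen (C i) := fun i => i.1.2
  -- sections vanish over opens missing T
  have hzero : ∀ W : X.Opens, (W : Set X) ⊆ Tᶜ → ∀ s : Γ(M, W), s = 0 := by
    intro W hW s
    have : ∀ s : Γ(F, U.ι ⁻¹ᵁ W), s = 0 := by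
      intro s
      refine sections_eq_zero F _ (fun x hx hxs => ?_) s
      exact hW hx (hs x hxs)
    exact this s
  have hWaff : ∀ i : ι, i.1.1 ≤ U → IsAffineOpen (U.ι ⁻¹ᵁ i.1.1) := fun i hi =>
    i.1.2.preimage_of_isOpenImmersion U.ι (by rw [Scheme.Opens.opensRange_ι]; exact hi)
  haveI hqM : M.IsQuasicoherent := by
    refine isQuasicoherent_of_isLocOn M C hcov hCaff (fun i => ?_)
    rcases i.2 with hi | hi
    · exact isLocOn_pushforward_of_preimage U.ι F (hWaff i hi).isCompact (hWaff i hi).isQuasiSeparated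
    · exact isLocOn_of_sections_zero M _ (fun W hW s => hzero W (fun x hx => hi (hW hx)) s)
  refine ⟨hqM, ?_⟩
  refine isFiniteType_of_finite_sections M C hcov hCaff (fun i => ?_)
  rcases i.2 with hi | hi
  · have hW := hWaff i hi
    have h1 : Module.Finite Γ((↑U : Scheme.{u}), U.ι ⁻¹ᵁ i.1.1) Γ(F, U.ι ⁻¹ᵁ i.1.1) := finite_of_isAffineOpen F hW
    haveI : IsIso (U.ι.app i.1.1) := Scheme.Hom.isIso_app U.ι i.1.1 (by rw [Scheme.Opens.opensRange_ι]; exact hi)
    have hsurj : Function.Surjective (U.ι.app i.1.1).hom :=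
      ((ConcreteCategory.isIso_iff_bijective (U.ι.app i.1.1)).mp inferInstance).2
    letI : Algebra Γ(X, i.1.1) Γ((↑U : Scheme.{u}), U.ι ⁻¹ᵁ i.1.1) := (U.ι.app i.1.1).hom.toAlgebra
    haveI : Module.Finite Γ(X, i.1.1) Γ((↑U : Scheme.{u}), U.ι ⁻¹ᵁ i.1.1) :=
      Module.Finite.of_surjective (Algebra.linearMap _ _) hsurj
    letI : Module Γ(X, i.1.1) Γ(F, U.ι ⁻¹ᵁ i.1.1) := Module.compHom _ (U.ι.app i.1.1).hom
    haveI : IsScalarTower Γ(X, i.1.1) Γ((↑U : Scheme.{u}), U.ι ⁻¹ᵁ i.1.1) Γ(F, U.ι ⁻¹ᵁ i.1.1) := by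
      refine ⟨fun a b m => ?_⟩
      change ((U.ι.app i.1.1).hom a * b) • m = (U.ι.app i.1.1).hom a • (b • m)
      rw [mul_smul]
    have h3 : Module.Finite Γ(X, i.1.1) Γ(F, U.ι ⁻¹ᵁ i.1.1) :=
      Module.Finite.trans Γ((↑U : Scheme.{u}), U.ι ⁻¹ᵁ i.1.1) _
    let φ : Γ(F, U.ι ⁻¹ᵁ i.1.1) →ₗ[Γ(X, i.1.1)] Γ(M, i.1.1) :=
      { toFun := fun m => m
        map_add' := fun _ _ => rfl
        map_smul' := fun a m => rfl }
    exact Module.Finite.of_surjective φ (fun m => ⟨m, rfl⟩)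
  · haveI : Subsingleton Γ(M, C i) := ⟨fun a b => by rw [hzero _ hi a, hzero _ hi b]⟩
    infer_instance

end Groth.Agent.S0048
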