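import Groth.Statements.S0049
import Groth.Agent.Lib.Helper17.CohKer
import Groth.Agent.Lib.Helper17.StalkExact
import Groth.Agent.Lib.Helper28.QCohPush
import Groth.Agent.S0048
import Mathlib
set_option backward.isDefEq.respectTransparency.types false

set_option autoImplicit false
universe u
open Coherent

namespace Groth.Agent.S0049
open CategoryTheory CategoryTheory.Limits AlgebraicGeometry Opposite TopologicalSpace
open Groth.Agent.Lib.Helper17.CohKer Groth.Agent.Lib.Helper17.StalkExact Groth.Agent.Lib.Helper28.QCohLoc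

variable {X : Scheme.{u}}

theorem map_eq_zero_of_eq (M : X.Modules) (A B : X.Opens) (h : A ≤ B) (e : A = B) (y : Γ(M, B))
    (hy : M.presheaf.map (homOfLE h).op y = 0) : y = 0 := by
  subst e
  have : (homOfLE h).op = 𝟙 (op A) := rfl
  rw [this, M.presheaf.map_id] at hy
  exact hy

/-- every element of a stalk is the germ of a section over a small open -/
theorem subsingleton_stalk_of_sections (K : X.Modules) (x : X) (V : X.Opens) (hxV : x ∈ V)
    (h : ∀ (W : X.Opens) (_ : W ≤ V) (k : Γ(K, W)), k = 0) : Subsingleton ↑(K.presheaf.stalk x) := by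
  have hz : ∀ c : ↑(K.presheaf.stalk x), c = 0 := by
    intro c
    obtain ⟨W, hxW, k, rfl⟩ := TopCat.Presheaf.exists_germ_eq K.presheaf c
    have hx2 : x ∈ W ⊓ V := ⟨hxW, hxV⟩
    have h1 : K.presheaf.germ W x hxW k =
        K.presheaf.germ (W ⊓ V) x hx2 (K.presheaf.map (homOfLE inf_le_left).op k) :=
      (TopCat.Presheaf.germ_res_apply K.presheaf (homOfLE inf_le_left) x hx2 k).symm
    rw [h1, h (W ⊓ V) inf_le_right (K.presheaf.map (homOfLE inf_le_left).op k), map_zero]
  exact ⟨fun a b => by rw [hz a, hz b]⟩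

open AlgebraicGeometry CategoryTheory in

open AlgebraicGeometry CategoryTheory in
/-- On a Noetherian scheme, if the support of a coherent module F is the union of closed sets Z and Z',
there is a short exact sequence 0 → G' → F → G → 0 of coherent modules with G' supported in Z' and G
supported in Z. -/
theorem result (X : Scheme.{u}) [IsNoetherian X] (M : X.Modules) (hM : Coh.IsCoh M)
    (Z Z' : Set X) (hZ : IsClosed Z) (hZ' : IsClosed Z') (h : CohB1.support M = Z ∪ Z') :
    ∃ S : ShortComplex X.Modules, S.ShortExact ∧ Nonempty (S.X₂ ≅ M) ∧ Coh.IsCoh S.X₁ ∧ Coh.IsCoh S.X₃ ∧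
      CohB1.support S.X₁ ⊆ Z' ∧ CohB1.support S.X₃ ⊆ Z := by
  obtain ⟨hq, hft⟩ := hM
  haveI : M.IsQuasicoherent := hq
  haveI : SheafOfModules.IsFiniteType.{u} (R := X.ringCatSheaf) M := hft
  let V : X.Opens := ⟨Z'ᶜ, hZ'.isOpen_compl⟩
  let P : X.Modules := (Scheme.Modules.pushforward V.ι).obj ((Scheme.Modules.restrictFunctor V.ι).obj M)
  let η : M ⟶ P := (Scheme.Modules.restrictAdjunction V.ι).unit.app M
  haveI hP : P.IsQuasicoherent := isQuasicoherent_pushforward V.ι _
  have hη : ∀ (W : X.Opens) (s : Γ(M, W)),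
      η.app W s = M.presheaf.map (homOfLE (V.ι.image_preimage_le W)).op s := fun W s => rfl
  have himg : ∀ W : X.Opens, V.ι ''ᵁ (V.ι ⁻¹ᵁ W) = V ⊓ W := fun W => by
    rw [Scheme.Hom.image_preimage_eq_opensRange_inf, Scheme.Opens.opensRange_ι]
  have hKq : (kernel η).IsQuasicoherent := isQuasicoherent_kernel η
  have hKt : SheafOfModules.IsFiniteType.{u} (R := X.ringCatSheaf) (kernel η) := isFiniteType_kernel η
  have hmono : Mono (kernel.ι η) := equalizer.ι_mono
  have hQq : (cokernel (kernel.ι η)).IsQuasicoherent :=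
    @isQuasicoherent_cokernel _ _ _ hKq _ (kernel.ι η)
  have hQt : SheafOfModules.IsFiniteType.{u} (R := X.ringCatSheaf) (cokernel (kernel.ι η)) :=
    isFiniteType_cokernel (kernel.ι η)
  have hepi : Epi (cokernel.π (kernel.ι η)) := coequalizer.π_epi
  let S : ShortComplex X.Modules :=
    ShortComplex.mk (kernel.ι η) (cokernel.π (kernel.ι η)) (cokernel.condition (kernel.ι η))
  have hS : S.Exact := ShortComplex.exact_of_g_is_cokernel _ (cokernelIsCokernel (kernel.ι η))
  have hSE : S.ShortExact := ShortComplex.ShortExact.mk' hS hmono hepi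
  refine ⟨S, hSE, ⟨Iso.refl _⟩, ⟨hKq, hKt⟩, ⟨hQq, hQt⟩, ?_, ?_⟩
  · -- support of the kernel
    intro x hx
    by_contra hxZ'
    apply hx
    have hxV : x ∈ V := hxZ'
    refine subsingleton_stalk_of_sections (kernel η) x V hxV (fun W hW k => ?_)
    apply kernel_ι_app_injective η W
    rw [map_zero]
    have h0 := app_kernel_ι_app η W k
    rw [hη] at h0
    refine map_eq_zero_of_eq M _ _ _ ?_ _ h0
    rw [himg, inf_eq_right.mpr hW]
  · -- support of the quotient
    intro x hx
    by_contra hxZ
    apply hx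
    let Vz : X.Opens := ⟨Zᶜ, hZ.isOpen_compl⟩
    have hxVz : x ∈ Vz := hxZ
    have hsurj : Function.Surjective (stalkHom (cokernel.π (kernel.ι η)) x) :=
      @stalkHom_surjective_of_epi _ _ _ (cokernel.π (kernel.ι η)) hepi x
    have hz : ∀ c : ↑((cokernel (kernel.ι η)).presheaf.stalk x), c = 0 := by
      intro c
      obtain ⟨m, rfl⟩ := hsurj c
      obtain ⟨W, hxW, s, rfl⟩ := TopCat.Presheaf.exists_germ_eq M.presheaf m
      have hx2 : x ∈ W ⊓ Vz := ⟨hxW, hxVz⟩
      have h1 : M.presheaf.germ W x hxW s =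
          M.presheaf.germ (W ⊓ Vz) x hx2 (M.presheaf.map (homOfLE inf_le_left).op s) :=
        (TopCat.Presheaf.germ_res_apply M.presheaf (homOfLE inf_le_left) x hx2 s).symm
      rw [h1]
      set s' := M.presheaf.map (homOfLE inf_le_left).op s with hs'
      have h2 : η.app (W ⊓ Vz) s' = 0 := by
        have : ∀ t : Γ(M, V.ι ''ᵁ (V.ι ⁻¹ᵁ (W ⊓ Vz))), t = 0 := fun t =>
          Groth.Agent.S0048.sections_eq_zero M _ (fun y hy hys => by
            rw [himg] at hy
            rw [h] at hys
            rcases hys with hys | hys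
            · exact hy.2.2 hys
            · exact hy.1 hys) t
        exact this _
      obtain ⟨k, hk⟩ := exists_kernel_app_eq η _ s' h2
      rw [stalkHom_germ, ← hk]
      have h3 : (cokernel.π (kernel.ι η)).app (W ⊓ Vz) ((kernel.ι η).app (W ⊓ Vz) k) = 0 := by
        have := congrArg (fun ψ : (kernel η ⟶ cokernel (kernel.ι η)) => ψ.app (W ⊓ Vz) k)
          (cokernel.condition (kernel.ι η))
        exact this
      rw [h3, map_zero]
    exact ⟨fun a b => by rw [hz a, hz b]⟩

end Groth.Agent.S0049
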