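import Groth.Statements.S0057
import Groth.Agent.Lib.Helper17.Rees7
import Mathlib
set_option backward.isDefEq.respectTransparency.types false

set_option autoImplicit false
universe u
open Coherent

namespace Groth.Agent.S0057

open AlgebraicGeometry CategoryTheory in
/-- Let A be Noetherian, I an ideal, X proper over Spec A and F coherent on X. For each p there is c ≥ 0
such that for all n ≥ c the kernel of H^p(X, F) → H^p(X, F/I^(n+1)F) is contained in I^(n-c) H^p(X,
F). (An index shift by one relative to the published statement is absorbed in c.) -/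
theorem result (A : Type u) [CommRing A] [IsNoetherianRing A]
    (I : Ideal A) (X : Scheme.{u}) [X.Over (Spec (CommRingCat.of A))]
    [IsProper (X ↘ Spec (CommRingCat.of A))] (M : X.Modules) (hM : Coh.IsCoh M) (p : ℕ) :
    ∃ c : ℕ, ∀ n : ℕ, c ≤ n →
      ((Formal.toHHmodPow I M p n).ker : Set (Coh.HH X M p)) ⊆
        ((I ^ (n - c) • (⊤ : Submodule A (Coh.HH X M p)) : Submodule A (Coh.HH X M p)) : Set (Coh.HH X M p)) := by
  open Groth.Agent.Lib.Helper17.Rees5 Groth.Agent.Lib.Helper17.Rees6 Groth.Agent.Lib.Helper17.Rees7 in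
  obtain ⟨d, hd⟩ := rees_stable A I X M p hM (fun _ => ⊤) (fun _ _ _ _ _ => trivial)
  refine ⟨d, fun n hn x hx => ?_⟩
  have hx' : Hmap (Formal.modPowπ I (n + 1) M) p x = 0 := hx
  obtain ⟨w, hw⟩ := exists_of_modPowπ_eq_zero I (n + 1) M p x hx'
  have e1 : I ^ (n + 1) = I ^ (n + 1 - d) * I ^ d := by
    rw [← pow_add, Nat.sub_add_cancel (by omega)]
  have h1 := hd d le_rfl (n + 1 - d) (castH A X M p e1 w) trivial
  have key := (AddSubgroup.closure_le
    ((I ^ (n + 1 - d) • (⊤ : Submodule A (Coh.HH X M p))).toAddSubgroup.comap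
      (Hmap (CohIII.idealMulι (I ^ (n + 1 - d) * I ^ d) M) p))).2 (by
    rintro _ ⟨a, v, _, rfl⟩
    have e2 : Hmap (CohIII.idealMulι _ M) p (CohIII.HmulMap _ _ M a p v) =
        (a : A) • Hmap (CohIII.idealMulι (I ^ d) M) p v := by
      change Hmap _ p (Hmap (CohIII.mulMap _ _ M a) p v) = _
      rw [← Hmap_comp, Hmap_congr (mulMap_ι _ _ M a), Hmap_comp, Hmap_smulMod]
    change Hmap (CohIII.idealMulι _ M) p (CohIII.HmulMap _ _ M a p v) ∈
      (I ^ (n + 1 - d) • (⊤ : Submodule A (Coh.HH X M p)))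
    rw [e2]
    exact Submodule.smul_mem_smul a.2 trivial) h1
  have h2 : Hmap (CohIII.idealMulι (I ^ (n + 1 - d) * I ^ d) M) p (castH A X M p e1 w) ∈
      (I ^ (n + 1 - d) • (⊤ : Submodule A (Coh.HH X M p))) := key
  rw [Hmap_ι_castH, hw] at h2
  exact Submodule.smul_mono_left (Ideal.pow_le_pow_right (by omega)) h2

end Groth.Agent.S0057
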