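import Groth.Statements.S0837
import Groth.Agent.Lib.Helper17.Rees7
import Mathlib
set_option backward.isDefEq.respectTransparency.types false

set_option autoImplicit false
universe u
open Coherent

namespace Groth.Agent.S0837

open CategoryTheory CategoryTheory.Limits AlgebraicGeometry in
/-- Let A be a Noetherian ring, I an ideal, X proper over Spec A and F a coherent O_X-module. For every
p there is c ≥ 0 such that for all n ≥ c the kernel of H^p(X, I^nF) → H^p(X, F) equals the kernel of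
H^p(X, I^nF) → H^p(X, I^(n−c)F). (Here I^nF ⊆ F is the kernel of F → F/I^nF.) -/
theorem result (A : Type u) [CommRing A] [IsNoetherianRing A]
    (I : Ideal A) (X : Scheme.{u}) [X.Over (Spec (CommRingCat.of A))] [IsProper (X ↘ Spec (CommRingCat.of A))]
    (F : X.Modules) (hF : Coh.IsCoh F) (p : ℕ) :
    ∃ c : ℕ, ∀ (n : ℕ) (h : c ≤ n),
      (Sheaf.H.map ((SheafOfModules.toSheaf _).map (Formal2.idealPowModι I n F)) p).ker =
        (Sheaf.H.map ((SheafOfModules.toSheaf _).map (Formal2.idealPowIncl I (Nat.sub_le n c) F)) p).ker := by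
  open Groth.Agent.Lib.Helper17.Rees5 Groth.Agent.Lib.Helper17.Rees6 Groth.Agent.Lib.Helper17.Rees7
    Groth.Agent.Lib.Helper23.FQuot in
  obtain ⟨d, hd⟩ := rees_stable A I X F p hF (fun n => (Hmap (CohIII.idealMulι (I ^ n) F) p).ker) (by
    intro r n a x hx
    rw [AddMonoidHom.mem_ker] at hx ⊢
    rw [Hmap_ι_castH, Hmap_ι_HmulMap, hx, smul_zero])
  refine ⟨d, fun n h => ?_⟩
  ext x
  rw [AddMonoidHom.mem_ker, AddMonoidHom.mem_ker]
  constructor
  · intro hx
    have hx1 : Hmap (Formal2.idealPowModι I n F) p x = 0 := hx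
    have e1 : I ^ n = I ^ (n - d) * I ^ d := by rw [← pow_add, Nat.sub_add_cancel h]
    have hx' : Hmap (CohIII.idealMulι (I ^ n) F) p (Hmap (ePow I n F).hom p x) = 0 := by
      rw [← Hmap_comp, Hmap_congr (ePow_hom_ι I n F)]
      exact hx1
    have h1 := hd d le_rfl (n - d) (castH A X F p e1 (Hmap (ePow I n F).hom p x)) (by
      rw [AddMonoidHom.mem_ker, Hmap_ι_castH, Hmap_ι_castH]
      exact hx')
    have hle : I ^ (n - d) * I ^ d ≤ I ^ (n - d) := Ideal.mul_le_left
    have h2 := map_mem_of_mem_closure (Hmap (inclJ hle F) p) _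
      (⊥ : Submodule A (Coh.HH X (CohIII.idealMul (I ^ (n - d)) F) p)) (by
      rintro _ ⟨a, v, hv, rfl⟩
      rw [AddMonoidHom.mem_ker] at hv
      rw [Submodule.mem_bot]
      change Hmap _ p (Hmap (CohIII.mulMap _ _ F a) p v) = 0
      rw [← Hmap_comp, Hmap_congr (mulMap_inclJ' (I ^ (n - d)) (I ^ d) F a hle), Hmap_comp, hv, map_zero]) _ h1
    rw [Submodule.mem_bot, Hmap_inclJ_castH] at h2
    apply (Hmap_bijective_of_isIso (ePow I (n - d) F).hom p).1
    rw [map_zero]
    refine Eq.trans ?_ h2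
    change Hmap (ePow I (n - d) F).hom p (Hmap (Formal2.idealPowIncl I (Nat.sub_le n d) F) p x) = _
    rw [← Hmap_comp, ← Hmap_comp]
    exact Hmap_congr (idealPowIncl_ePow I (Nat.sub_le n d) F) p x
  · intro hx
    have hx1 : Hmap (Formal2.idealPowIncl I (Nat.sub_le n d) F) p x = 0 := hx
    change Hmap (Formal2.idealPowModι I n F) p x = 0
    rw [← Hmap_congr (idealPowIncl_ι I (Nat.sub_le n d) F), Hmap_comp, hx1, map_zero]

end Groth.Agent.S0837
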