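import Groth.Statements.S0058
import Groth.Agent.Lib.Helper17.Rees7
import Groth.Agent.S0837
import Mathlib
set_option backward.isDefEq.respectTransparency.types false

set_option autoImplicit false
universe u
open Coherent

namespace Groth.Agent.S0058

open AlgebraicGeometry CategoryTheory Opposite in
/-- Part (3) (which implies the Mittag-Leffler condition (2)). Same setting as part (1): there is c such
that for all n and all k ≥ n + c, the image of H^p(X, F/I^(k+1)F) → H^p(X, F/I^(n+1)F) equals the
image of H^p(X, F) → H^p(X, F/I^(n+1)F). -/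
theorem result (A : Type u) [CommRing A] [IsNoetherianRing A]
    (I : Ideal A) (X : Scheme.{u}) [X.Over (Spec (CommRingCat.of A))]
    [IsProper (X ↘ Spec (CommRingCat.of A))] (M : X.Modules) (hM : Coh.IsCoh M) (p : ℕ) :
    ∃ c : ℕ, ∀ (n k : ℕ) (h : n ≤ k), n + c ≤ k →
      Set.range (Sheaf.H.map ((SheafOfModules.toSheaf X.ringCatSheaf).map
        ((Formal.completion I M).map (homOfLE h).op)) p) = Set.range (Formal.toHHmodPow I M p n) := by
  open Groth.Agent.Lib.Helper17.Rees5 Groth.Agent.Lib.Helper17.Rees6 Groth.Agent.Lib.Helper17.Rees7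
    Groth.Agent.Lib.Helper2.HLes Groth.Agent.Lib.Helper2.HLesLin Groth.Agent.Lib.Helper4.HLesFin1 in
  obtain ⟨c, hc⟩ := Groth.Agent.S0837.result A I X M hM (p + 1)
  refine ⟨c, fun n k h hnk => ?_⟩
  apply Set.Subset.antisymm
  · rintro _ ⟨y, rfl⟩
    have hnk1 : n + 1 ≤ k + 1 := by omega
    let φ : Spow I (k + 1) M ⟶ Spow I (n + 1) M :=
      { τ₁ := Formal2.idealPowIncl I hnk1 M
        τ₂ := 𝟙 M
        τ₃ := (Formal.completion I M).map (homOfLE h).op
        comm₁₂ := (idealPowIncl_ι I hnk1 M).trans (Category.comp_id _).symm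
        comm₂₃ := (Category.id_comp _).trans (modPowπ_completion_map I M h).symm }
    have hnat := δ_naturality (shortExact_Spow I (k + 1) M) (shortExact_Spow I (n + 1) M) φ p y
    have h1 := map_f_δ (Spow I (k + 1) M) (shortExact_Spow I (k + 1) M) p y
    have h2 : Hmap (Formal2.idealPowIncl I (Nat.sub_le (k + 1) c) M) (p + 1)
        (δ (shortExact_Sab (Spow I (k + 1) M) (shortExact_Spow I (k + 1) M)) p y) = 0 := by
      have h3 := hc (k + 1) (by omega)
      have h4 : δ (shortExact_Sab (Spow I (k + 1) M) (shortExact_Spow I (k + 1) M)) p y ∈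
          (Sheaf.H.map ((SheafOfModules.toSheaf _).map (Formal2.idealPowModι I (k + 1) M)) (p + 1)).ker := h1
      rw [h3] at h4
      exact h4
    have hle : n + 1 ≤ k + 1 - c := by omega
    have e : Formal2.idealPowIncl I hnk1 M =
        Formal2.idealPowIncl I (Nat.sub_le (k + 1) c) M ≫ Formal2.idealPowIncl I hle M := by
      rw [← cancel_mono (Formal2.idealPowModι I (n + 1) M), Category.assoc, idealPowIncl_ι,
        idealPowIncl_ι, idealPowIncl_ι]
    have h5 : Hmap (Formal2.idealPowIncl I hnk1 M) (p + 1)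
        (δ (shortExact_Sab (Spow I (k + 1) M) (shortExact_Spow I (k + 1) M)) p y) = 0 := by
      rw [Hmap_congr e, Hmap_comp, h2, map_zero]
    obtain ⟨x, hx⟩ := exact₃ (shortExact_Sab (Spow I (n + 1) M) (shortExact_Spow I (n + 1) M)) p _
      (hnat.trans h5)
    exact ⟨x, hx⟩
  · rintro _ ⟨x, rfl⟩
    refine ⟨Formal.toHHmodPow I M p k x, ?_⟩
    exact (Hmap_comp (Formal.modPowπ I (k + 1) M) ((Formal.completion I M).map (homOfLE h).op)
      p x).symm.trans (Hmap_congr (modPowπ_completion_map I M h) p x)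

end Groth.Agent.S0058
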