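import Groth.Statements.S0061
import Groth.Agent.Lib.Helper17.ExE
import Groth.Agent.Lib.Helper28.VeryAmpleConv
import Groth.Agent.Lib.Helper4.AmpleComp

set_option autoImplicit false
universe u
open Coherent

namespace Groth.Agent.S0061

open AlgebraicGeometry CategoryTheory in
/-- Grothendieck's existence Theorem in the projective case, essential-surjectivity half. Let A be a
Noetherian ring complete for an ideal I and X a closed subscheme of P^n_A, compatibly with the
structure maps to Spec A. Then every coherent formal module on X with respect to I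
(`Formal.IsCohFormal`) is isomorphic to the completion system (M/I^nM)_n of some coherent O_X-module
M. (Full faithfulness of completion is stated separately.) -/
theorem result (A : Type u) [CommRing A] [IsNoetherianRing A]
    (I : Ideal A) [IsAdicComplete I A] (n : ℕ) (X : Scheme.{u}) [X.Over (Spec (CommRingCat.of A))]
    (i : X ⟶ CohB1.ProjSpace n A) [IsClosedImmersion i]
    (hi : i ≫ CohB1.ProjSpace.toSpec n A = X ↘ Spec (CommRingCat.of A))
    (G : ℕᵒᵖ ⥤ X.Modules) (hG : Formal.IsCohFormal I G) :
    ∃ M : X.Modules, Coh.IsCoh M ∧ Nonempty (Formal.completion I M ≅ G) := by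
  haveI hprop : IsProper (CohB1.ProjSpace.toSpec n A) :=
    Groth.Agent.Lib.Helper28.ProjSpaceBasic.isProper_toSpec n A
  haveI : IsProper (X ↘ Spec (CommRingCat.of A)) := by
    rw [← hi]
    infer_instance
  have hcpt0 : CompactSpace (CohB1.ProjSpace n A) :=
    QuasiCompact.compactSpace_of_compactSpace (CohB1.ProjSpace.toSpec n A)
  haveI hcpt : CompactSpace (Proj (CohB1.polyGrading n A)) := hcpt0
  have hO1 : CohB1.IsAmple (Twist.twist (CohB1.polyGrading n A) ((1 : ℕ) : ℤ)) :=
    Groth.Agent.Lib.Helper28.TwistGenD.isAmple_twist_of_cover _ 1 one_pos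
      (Groth.Agent.Lib.Helper28.VeryAmpleImm.projSpace_cover n _)
  have hL := Groth.Agent.Lib.Helper4.AmpleComp.isAmple_pullback_of_isClosedImmersion
    (X := CohB1.ProjSpace n A) i hO1
  exact Groth.Agent.Lib.Helper17.ExE.existence_of_ample A I X _ hL G hG

end Groth.Agent.S0061
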