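import Groth.Statements.S0063
import Mathlib.AlgebraicGeometry.Morphisms.FormallyUnramified
import Mathlib.AlgebraicGeometry.Morphisms.IsIso
-- import your own Groth.Agent.* helpers here

set_option autoImplicit false
open CategoryTheory CategoryTheory.Limits AlgebraicGeometry Opposite
universe u
open EtBase

namespace Groth.Agent.S0063

/-- Rigidity of maps into an unramified separated scheme — two maps from a connected scheme over the
base that agree at one point, including on residue fields, coincide. -/
theorem result {X S Y : Scheme.{u}} (π : X ⟶ S)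
    [FormallyUnramified π] [LocallyOfFiniteType π] [IsSeparated π]
    (h : Y ⟶ S) [ConnectedSpace Y] (f g : Y ⟶ X) (hf : f ≫ π = h) (hg : g ≫ π = h)
    (y : Y) (hy : Y.fromSpecResidueField y ≫ f = Y.fromSpecResidueField y ≫ g) : f = g := by
  subst hf
  let d := pullback.diagonal π
  let fg : Y ⟶ pullback π π := pullback.lift f g hg.symm
  let ι := pullback.fst fg d
  have hfg1 : fg ≫ pullback.fst π π = f := pullback.lift_fst _ _ _
  have hfg2 : fg ≫ pullback.snd π π = g := pullback.lift_snd _ _ _
  have hd1 : d ≫ pullback.fst π π = 𝟙 X := pullback.diagonal_fst π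
  have hd2 : d ≫ pullback.snd π π = 𝟙 X := pullback.diagonal_snd π
  have hι : ι ≫ f = ι ≫ g := by
    have h1 : ι ≫ fg = pullback.snd fg d ≫ d := pullback.condition
    have h2 : ι ≫ f = pullback.snd fg d := by
      have := congrArg (· ≫ pullback.fst π π) h1
      simp only [Category.assoc, hfg1, hd1, Category.comp_id] at this
      exact this
    have h3 : ι ≫ g = pullback.snd fg d := by
      have := congrArg (· ≫ pullback.snd π π) h1
      simp only [Category.assoc, hfg2, hd2, Category.comp_id] at this
      exact this
    rw [h2, h3]
  have : IsOpenImmersion ι := inferInstance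
  have : IsClosedImmersion ι := inferInstance
  -- the point y lies in the range
  have hyr : y ∈ Set.range ι := by
    let a : Spec (Y.residueField y) ⟶ X := Y.fromSpecResidueField y ≫ f
    have ha : Y.fromSpecResidueField y ≫ fg = a ≫ d := by
      apply pullback.hom_ext
      · simp only [Category.assoc, hfg1, hd1, Category.comp_id, a]
      · simp only [Category.assoc, hfg2, hd2, Category.comp_id, a, hy]
    let l : Spec (Y.residueField y) ⟶ pullback fg d := pullback.lift _ _ ha
    have hl : l ≫ ι = Y.fromSpecResidueField y := pullback.lift_fst _ _ ha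
    have hne : Nonempty (Spec (Y.residueField y)) := inferInstance
    obtain ⟨s⟩ := hne
    refine ⟨l s, ?_⟩
    rw [← Scheme.Hom.comp_apply, hl, Scheme.fromSpecResidueField_apply]
  have hclopen : IsClopen (Set.range ι) :=
    ⟨ι.isClosedEmbedding.isClosed_range, ι.isOpenEmbedding.isOpen_range⟩
  have huniv : Set.range ι = Set.univ := hclopen.eq_univ ⟨y, hyr⟩
  have : Surjective ι := ⟨Set.range_eq_univ.mp huniv⟩
  have : IsIso ι := (isIso_iff_isOpenImmersion_and_surjective ι).mpr ⟨inferInstance, inferInstance⟩
  exact (cancel_epi ι).mp hι

end Groth.Agent.S0063
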