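import Groth.Statements.S0064
import Mathlib
-- import your own Groth.Agent.* helpers here

set_option autoImplicit false
open CategoryTheory CategoryTheory.Limits AlgebraicGeometry Opposite
universe u
open EtBase

namespace Groth.Agent.S0064

theorem finite_clopen {α : Type*} [TopologicalSpace α] [TopologicalSpace.NoetherianSpace α] :
    Set.Finite {Z : Set α | IsClopen Z} := by
  have hfin := TopologicalSpace.NoetherianSpace.finite_irreducibleComponents (α := α)
  refine Set.Finite.subset (Set.Finite.image (fun T => Set.sUnion T) (Set.Finite.finite_subsets hfin)) ?_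
  intro Z hZ
  refine ⟨{C ∈ irreducibleComponents α | C ⊆ Z}, fun C hC => hC.1, ?_⟩
  apply Set.Subset.antisymm
  · exact Set.sUnion_subset fun C hC => hC.2
  · intro x hx
    refine Set.mem_sUnion.2 ⟨irreducibleComponent x, ⟨irreducibleComponent_mem_irreducibleComponents x, ?_⟩,
      mem_irreducibleComponent⟩
    have hpre : IsPreconnected (irreducibleComponent x) :=
      (isIrreducible_irreducibleComponent).isPreirreducible.isPreconnected
    exact hpre.subset_isClopen hZ ⟨x, mem_irreducibleComponent, hx⟩

set_option backward.isDefEq.respectTransparency.types false in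
instance : MorphismProperty.HasOfPostcompProperty
    @IsOpenImmersion (@LocallyOfFiniteType ⊓ @FormallyUnramified) := by
  rw [MorphismProperty.hasOfPostcompProperty_iff_le_diagonal]
  intro X Y f ⟨hft, hfu⟩
  exact inferInstanceAs <| IsOpenImmersion (pullback.diagonal f)

/-- Let S be a Noetherian scheme, X → S a quasi-compact, separated, unramified morphism (formally
unramified and locally of finite type), and Y a Noetherian scheme with a morphism Y → S. Then there
are only finitely many S-morphisms Y → X. The published statement does not assume X → S separated;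
it is stated here in the separated case. -/
theorem result {X S Y : Scheme.{u}} [IsNoetherian S] [IsNoetherian Y]
    (π : X ⟶ S) [FormallyUnramified π] [LocallyOfFiniteType π] [QuasiCompact π] [IsSeparated π]
    (h : Y ⟶ S) : Set.Finite {f : Y ⟶ X | f ≫ π = h} := by
  let P := pullback π h
  let p : P ⟶ Y := pullback.snd π h
  have hp1 : FormallyUnramified p :=
    MorphismProperty.IsStableUnderBaseChange.of_isPullback (P := @FormallyUnramified)
      (IsPullback.of_hasPullback π h) inferInstance
  have hp2 : LocallyOfFiniteType p := inferInstance
  have hp3 : QuasiCompact p := inferInstance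
  have hp4 : IsSeparated p := inferInstance
  have : IsLocallyNoetherian P := LocallyOfFiniteType.isLocallyNoetherian p
  have : CompactSpace P := QuasiCompact.compactSpace_of_compactSpace p
  have : IsNoetherian P := {}
  have hN : TopologicalSpace.NoetherianSpace P := inferInstance
  -- sections
  let s : {f : Y ⟶ X | f ≫ π = h} → (Y ⟶ P) := fun f =>
    pullback.lift f.1 (𝟙 Y) (by rw [f.2, Category.id_comp])
  have hs1 : ∀ f, s f ≫ p = 𝟙 Y := fun f => pullback.lift_snd _ _ _
  have hs2 : ∀ f, s f ≫ pullback.fst π h = f.1 := fun f => pullback.lift_fst _ _ _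
  have hopen : ∀ f, IsOpenImmersion (s f) := fun f => by
    have : IsOpenImmersion (s f ≫ p) := by rw [hs1]; infer_instance
    exact MorphismProperty.of_postcomp (W := @IsOpenImmersion)
      (W' := @LocallyOfFiniteType ⊓ @FormallyUnramified) (s f) p ⟨hp2, hp1⟩ this
  have hclosed : ∀ f, IsClosedImmersion (s f) := fun f => by
    have : IsClosedImmersion (s f ≫ p) := by rw [hs1]; infer_instance
    exact MorphismProperty.of_postcomp (W := @IsClosedImmersion)
      (W' := @IsSeparated) (s f) p hp4 this
  have hfin := finite_clopen (α := P)
  rw [← Set.finite_coe_iff] at hfin ⊢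
  let Φ : {f : Y ⟶ X | f ≫ π = h} → {Z : Set P | IsClopen Z} := fun f =>
    ⟨Set.range (s f), ⟨(Scheme.Hom.isClosedEmbedding (s f)).isClosed_range, (hopen f).base_open.isOpen_range⟩⟩
  refine Finite.of_injective Φ ?_
  intro f g hfg
  have hr : Set.range (s f) = Set.range (s g) := congrArg Subtype.val hfg
  have := hopen f
  have := hopen g
  have hl : IsOpenImmersion.lift (s g) (s f) hr.le ≫ s g = s f := IsOpenImmersion.lift_fac _ _ _
  have h1 : IsOpenImmersion.lift (s g) (s f) hr.le = 𝟙 Y := by
    have := congrArg (· ≫ p) hl
    simp only [Category.assoc, hs1, Category.comp_id] at this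
    exact this
  rw [h1, Category.id_comp] at hl
  apply Subtype.ext
  rw [← hs2 f, ← hs2 g, hl]

end Groth.Agent.S0064
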