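import Groth.Statements.S0067
-- import your own Groth.Agent.* helpers here
import Groth.Agent.Lib.Helper23.EtClosedDense

set_option autoImplicit false
open CategoryTheory CategoryTheory.Limits AlgebraicGeometry Opposite
universe u
open EtBase

namespace Groth.Agent.S0067

open CategoryTheory AlgebraicGeometry Opposite Limits GrothendieckTopology
open Groth.Agent.Lib.Helper23.EtClosedDense

/-- restriction to the induced topology is an equivalence -/
noncomputable abbrev E {Z X : Scheme.{u}} (i : Z ⟶ X) [IsClosedImmersion i] :
    Sheaf Z.smallEtaleTopology AddCommGrpCat.{u+1} ⥤ Sheaf (Jind i) AddCommGrpCat.{u+1} :=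
  (EtCoh.bc i).sheafPushforwardContinuous AddCommGrpCat.{u+1} (Jind i) Z.smallEtaleTopology

instance {Z X : Scheme.{u}} (i : Z ⟶ X) [IsClosedImmersion i] : (E i).IsEquivalence :=
  inferInstance


/-- Part (2), first half — pushforward of abelian étale sheaves along a closed immersion is fully
faithful. -/
theorem result {Z X : Scheme.{u}} (i : Z ⟶ X) [IsClosedImmersion i] [EtCoh.BCCont i] :
    (EtCoh.push i).Full ∧ (EtCoh.push i).Faithful := by
  constructor
  · constructor
    intro F F' φ
    let φ' : (E i).obj F ⟶ (E i).obj F' := ⟨φ.hom⟩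
    obtain ⟨a, ha⟩ := (E i).map_surjective φ'
    refine ⟨a, ?_⟩
    apply Sheaf.hom_ext
    exact congrArg (fun ψ => ψ.hom) ha
  · constructor
    intro F F' a b hab
    apply (E i).map_injective
    apply Sheaf.hom_ext
    exact congrArg (fun ψ => ψ.hom) hab

end Groth.Agent.S0067
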