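import Groth.Statements.S0068
-- import your own Groth.Agent.* helpers here
import Groth.Agent.S0067
import Groth.Agent.Lib.Helper23.EtClosedEss

set_option autoImplicit false
open CategoryTheory CategoryTheory.Limits AlgebraicGeometry Opposite
universe u
open EtBase

namespace Groth.Agent.S0068

open CategoryTheory AlgebraicGeometry Opposite Limits GrothendieckTopology
open Groth.Agent.Lib.Helper23.EtClosedDense Groth.Agent.Lib.Helper23.EtGlue

set_option backward.isDefEq.respectTransparency.types false in
set_option backward.isDefEq.respectTransparency false in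
lemma isEmpty_bc_iff {Z X : Scheme.{u}} (i : Z ⟶ X) (U : X.Etale) :
    IsEmpty ((EtCoh.bc i).obj U).left ↔ Disjoint (Set.range U.hom.base) (Set.range i.base) := by
  constructor
  · intro h
    rw [Set.disjoint_left]
    rintro x ⟨a, rfl⟩ ⟨z, hz⟩
    obtain ⟨q, -, -⟩ := Scheme.Pullback.exists_preimage_pullback (f := U.hom) (g := i) a z hz.symm
    exact h.false q
  · intro h
    refine ⟨fun q => ?_⟩
    have hc := congrArg (fun φ : pullback U.hom i ⟶ X => φ q) (pullback.condition (f := U.hom) (g := i))
    simp only [Scheme.Hom.comp_apply] at hc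
    exact Set.disjoint_left.1 h ⟨_, rfl⟩ ⟨_, hc.symm⟩

lemma isZero_of_isEmpty {Z : Scheme.{u}} (G : EtCoh.Ab Z) (T : Z.Etale) [IsEmpty T.left] :
    IsZero (G.obj.obj (op T)) := by
  let G' : EtDesc.Sh Z := (sheafCompose _ (forget AddCommGrpCat.{u+1})).obj G
  have : Subsingleton (G.obj.obj (op T)) := subsingleton_of_isEmpty G' T
  exact AddCommGrpCat.isZero_of_subsingleton _


/-- Part (2), second half — an abelian étale sheaf is a pushforward from a closed subscheme exactly when
its sections vanish over every étale scheme mapping into the open complement. -/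
theorem result {Z X : Scheme.{u}} (i : Z ⟶ X) [IsClosedImmersion i] [EtCoh.BCCont i]
    (F : EtCoh.Ab X) :
    (EtCoh.push i).essImage F ↔
      ∀ U : X.Etale, Disjoint (Set.range U.hom.base) (Set.range i.base) → IsZero (F.obj.obj (op U)) := by
  constructor
  · rintro ⟨G, ⟨e⟩⟩ U hU
    haveI : IsEmpty ((EtCoh.bc i).obj U).left := (isEmpty_bc_iff i U).2 hU
    have h0 : IsZero (((EtCoh.push i).obj G).obj.obj (op U)) :=
      isZero_of_isEmpty G ((EtCoh.bc i).obj U)
    exact h0.of_iso (((sheafToPresheaf _ _).mapIso e).app (op U)).symm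
  · intro h
    let F' : EtDesc.Sh X := (sheafCompose _ (forget AddCommGrpCat.{u+1})).obj F
    have hP : Presieve.IsSheaf X.smallEtaleTopology (F.obj ⋙ forget AddCommGrpCat.{u+1}) :=
      (isSheaf_iff_isSheaf_of_type _ _).1 F'.2
    have hJ : Presieve.IsSheaf (Jind i) (F.obj ⋙ forget AddCommGrpCat.{u+1}) := by
      apply isSheaf_Jind_of_unique i _ hP
      intro T hT
      have hz := h T ((isEmpty_bc_iff i T).1 hT)
      have hs : Subsingleton (F.obj.obj (op T)) := AddCommGrpCat.subsingleton_of_isZero hz
      exact ⟨{ default := (0 : F.obj.obj (op T)), uniq := fun a => hs.elim _ _ }⟩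
    have hJ' : Presheaf.IsSheaf (Jind i) F.obj :=
      Presheaf.isSheaf_of_isSheaf_comp (Jind i) F.obj (forget AddCommGrpCat.{u+1})
        ((isSheaf_iff_isSheaf_of_type _ _).2 hJ)
    let FJ : Sheaf (Jind i) AddCommGrpCat.{u+1} := ⟨F.obj, hJ'⟩
    let G := (Groth.Agent.S0067.E i).inv.obj FJ
    let e1 : (Groth.Agent.S0067.E i).obj G ≅ FJ :=
      (Groth.Agent.S0067.E i).asEquivalence.counitIso.app FJ
    let e2 : ((EtCoh.push i).obj G).obj ≅ F.obj := (sheafToPresheaf _ _).mapIso e1
    exact ⟨G, ⟨(fullyFaithfulSheafToPresheaf _ _).preimageIso e2⟩⟩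

end Groth.Agent.S0068
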