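import Groth.Statements.S0069
-- import your own Groth.Agent.* helpers here
import Groth.Agent.Lib.Helper23.PointStalk

set_option autoImplicit false
open CategoryTheory CategoryTheory.Limits AlgebraicGeometry Opposite
universe u
open EtBase

namespace Groth.Agent.S0069

open CategoryTheory AlgebraicGeometry Opposite Limits GrothendieckTopology

instance i1 : PreservesFilteredColimitsOfSize.{u,u} (forget AddCommGrpCat.{u+1}) :=
  preservesFilteredColimitsOfSize_shrink.{u, u+1, u, u+1} _

lemma bot_mem_of_isEmpty {Z : Scheme.{u}} (T : Z.Etale) [IsEmpty T.left] :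
    ⊥ ∈ Z.smallEtaleTopology T := by
  have h : Sieve.ofArrows (fun e : PEmpty.{1} => (PEmpty.elim e : Z.Etale))
      (fun e => (PEmpty.elim e)) ∈ Z.smallEtaleTopology T := by
    rw [Scheme.ofArrows_mem_smallEtaleTopology_iff]
    ext t
    exact (IsEmpty.false t).elim
  refine Z.smallEtaleTopology.superset_covering ?_ h
  rintro Y f ⟨_, _, _, ⟨e⟩, _⟩
  exact e.elim

lemma subsingleton_sections_of_isEmpty {Z : Scheme.{u}} (G : EtCoh.Ab Z) (T : Z.Etale)
    [IsEmpty T.left] : Subsingleton (G.obj.obj (op T)) := by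
  have hterm := Sheaf.isTerminalOfBotCover G T (bot_mem_of_isEmpty T)
  exact AddCommGrpCat.subsingleton_of_isZero (IsZero.of_iso (isZero_zero _)
    (hterm.uniqueUpToIso (isZero_zero AddCommGrpCat.{u+1}).isTerminal))


set_option backward.isDefEq.respectTransparency.types false in
set_option backward.isDefEq.respectTransparency false in
theorem main {Z X : Scheme.{u}} (i : Z ⟶ X) [IsClosedImmersion i] [EtCoh.BCCont i]
    (G : EtCoh.Ab Z) {Ω : Type u} [Field Ω] [IsSepClosed Ω] (ξ : Spec (CommRingCat.of Ω) ⟶ X)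
    (hξ : Disjoint (Set.range ξ.base) (Set.range i.base)) :
    IsZero ((EtCoh.stalk ξ).obj ((EtCoh.push i).obj G)) := by
  let Φ := Scheme.pointSmallEtale ξ
  let P : X.Etaleᵒᵖ ⥤ AddCommGrpCat.{u+1} := ((EtCoh.push i).obj G).obj
  change IsZero (Φ.presheafFiber.obj P)
  suffices h : ∀ p : ↑(Φ.presheafFiber.obj P), p = 0 by
    have : Subsingleton ↑(Φ.presheafFiber.obj P) := ⟨fun a b => (h a).trans (h b).symm⟩
    exact AddCommGrpCat.isZero_of_subsingleton _
  intro p
  obtain ⟨U, u, z, rfl⟩ := Φ.toPresheafFiber_jointly_surjective p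
  let W : X.Opens := ⟨(Set.range i.base)ᶜ, i.isClosedEmbedding.isClosed_range.isOpen_compl⟩
  let V : U.left.Opens := U.hom ⁻¹ᵁ W
  let U' : X.Etale := Scheme.Etale.mk (V.ι ≫ U.hom)
  let g : U' ⟶ U := MorphismProperty.Over.homMk V.ι rfl trivial
  have hu : Set.range u.left.base ⊆ Set.range V.ι.base := by
    rintro _ ⟨a, rfl⟩
    have h1 : u.left ≫ U.hom = ξ := Over.w u
    have h2 : U.hom (u.left a) = ξ a := by
      exact congrArg (fun φ : Spec (CommRingCat.of Ω) ⟶ X => φ a) h1
    have h4 : u.left a ∈ (V : Set U.left) := by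
      change U.hom (u.left a) ∈ (Set.range i)ᶜ
      rw [h2]
      exact Set.disjoint_left.1 hξ ⟨a, rfl⟩
    rw [Scheme.Opens.range_ι]
    exact h4
  let l : Spec (CommRingCat.of Ω) ⟶ V.toScheme := IsOpenImmersion.lift V.ι u.left hu
  have hl : l ≫ V.ι = u.left := IsOpenImmersion.lift_fac _ _ _
  let u' : Φ.fiber.obj U' := Over.homMk l (by
    change l ≫ V.ι ≫ U.hom = ξ
    rw [← Category.assoc, hl]
    exact Over.w u)
  have hu' : Φ.fiber.map g u' = u := by
    apply Over.OverMorphism.ext
    exact hl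
  rw [← hu', ← Point.toPresheafFiber_w_apply]
  have hempty : IsEmpty ((EtCoh.bc i).obj U').left := by
    constructor
    intro t
    let a : U'.left := (pullback.fst U'.hom i : ((EtCoh.bc i).obj U').left ⟶ U'.left) t
    let b : Z := (pullback.snd U'.hom i : ((EtCoh.bc i).obj U').left ⟶ Z) t
    have hab : U'.hom a = i b := by
      have := congrArg (fun φ : ((EtCoh.bc i).obj U').left ⟶ X => φ t)
        (pullback.condition (f := U'.hom) (g := i))
      exact this
    have ha : U'.hom a ∈ (Set.range i)ᶜ := by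
      change U.hom (V.ι a) ∈ (Set.range i)ᶜ
      exact a.2
    exact ha ⟨b, hab.symm⟩
  have hsub : Subsingleton (G.obj.obj (op ((EtCoh.bc i).obj U'))) :=
    subsingleton_sections_of_isEmpty G _
  have hz : P.map g.op z = 0 := @Subsingleton.elim _ hsub _ _
  rw [hz, map_zero]




/-- Abelian case, first half — the pushforward along a closed immersion has zero stalk at geometric
points outside the closed subscheme. -/
theorem result {Z X : Scheme.{u}} (i : Z ⟶ X) [IsClosedImmersion i] [EtCoh.BCCont i]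
    (G : EtCoh.Ab Z) {Ω : Type u} [Field Ω] [IsSepClosed Ω] (ξ : Spec (CommRingCat.of Ω) ⟶ X)
    (hξ : Disjoint (Set.range ξ.base) (Set.range i.base)) :
    IsZero ((EtCoh.stalk ξ).obj ((EtCoh.push i).obj G)) := by
  exact main i G ξ hξ

end Groth.Agent.S0069
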