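import Groth.Statements.S0072
-- import your own Groth.Agent.* helpers here
import Groth.Agent.Lib.Helper23.FinPushStalk
import Mathlib.CategoryTheory.Limits.ConcreteCategory.Basic

set_option autoImplicit false
open CategoryTheory CategoryTheory.Limits AlgebraicGeometry Opposite
universe u
open EtBase

namespace Groth.Agent.S0072

open Groth.Agent.Lib.Helper23 Groth.Agent.Lib.Helper23.FinPushStalk Groth.Agent.Lib.Helper23.FinPushGeom

instance i1 : PreservesFilteredColimitsOfSize.{u,u} (forget AddCommGrpCat.{u+1}) :=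
  preservesFilteredColimitsOfSize_shrink.{u, u+1, u, u+1} _


/-- Let f : X → Y be a finite morphism of schemes, F an abelian sheaf on X_ét, and η : Spec Ω → Y a
geometric point with Ω algebraically closed. Then the stalk (f_*F)_η is isomorphic to the direct sum
of the stalks F_ξ over the geometric points ξ : Spec Ω → X lying over η (those with f ∘ ξ = η). Only
the existence of an isomorphism is asserted; the published statement gives a canonical
identification. -/
theorem result {X Y : Scheme.{u}} (f : X ⟶ Y) [IsFinite f] [EtCoh.BCCont f]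
    (F : EtCoh.Ab X) {Ω : Type u} [Field Ω] [IsAlgClosed Ω] (η : Spec (CommRingCat.of Ω) ⟶ Y) :
    Nonempty ((EtCoh.stalk η).obj ((EtCoh.push f).obj F) ≅
      ∐ fun ξ : {ξ : Spec (CommRingCat.of Ω) ⟶ X // ξ ≫ f = η} => (EtCoh.stalk ξ.1).obj F) := by
    classical
  haveI : Finite (Lifts f η) := finite_lifts f η
  have hF : Presheaf.IsSheaf X.smallEtaleTopology (F.obj ⋙ forget AddCommGrpCat.{u+1}) :=
    (Presheaf.isSheaf_iff_isSheaf_forget _ _ (forget AddCommGrpCat.{u+1})).1 F.cond
  let Θ : (EtCoh.stalk η).obj ((EtCoh.push f).obj F) ⟶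
      ∏ᶜ fun ξ : Lifts f η => (EtCoh.stalk ξ.1).obj F :=
    Pi.lift (fun ξ => θcomp f η F.obj ξ)
  have hΘ : ∀ ξ z, (Pi.π (fun ξ : Lifts f η => (EtCoh.stalk ξ.1).obj F) ξ) (Θ z) =
      θcomp f η F.obj ξ z := by
    intro ξ z
    rw [← ConcreteCategory.comp_apply, Pi.lift_π]
    rfl
  haveI : IsIso Θ := by
    rw [ConcreteCategory.isIso_iff_bijective]
    constructor
    · intro z z' h
      apply θ_injective f η F.obj hF
      intro ξ
      rw [← hΘ, ← hΘ, h]
    · intro p
      obtain ⟨z, hz⟩ := θ_surjective f η F.obj hF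
        (fun ξ => (Pi.π (fun ξ : Lifts f η => (EtCoh.stalk ξ.1).obj F) ξ) p)
      refine ⟨z, ?_⟩
      apply Concrete.limit_ext
      rintro ⟨ξ⟩
      exact (hΘ ξ z).trans (hz ξ)
  let g : Lifts f η → AddCommGrpCat.{u+1} := fun ξ => (EtCoh.stalk ξ.1).obj F
  exact ⟨asIso Θ ≪≫ (biproduct.isoProduct g).symm ≪≫ biproduct.isoCoproduct g⟩

end Groth.Agent.S0072
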