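import Groth.Statements.S0074
-- import your own Groth.Agent.* helpers here
import Groth.Agent.Lib.Helper23.HensSection

set_option autoImplicit false
open CategoryTheory CategoryTheory.Limits AlgebraicGeometry Opposite
universe u
open EtBase

namespace Groth.Agent.S0074

instance i1 : CategoryTheory.Limits.PreservesFilteredColimitsOfSize.{u,u} (CategoryTheory.forget AddCommGrpCat.{u+1}) :=
  CategoryTheory.Limits.preservesFilteredColimitsOfSize_shrink.{u, u+1, u, u+1} _

/-- On the spectrum of a strictly henselian local ring, global sections of an abelian étale sheaf map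
bijectively onto the stalk at the geometric closed point. -/
theorem result (R : Type u) [CommRing R] [HenselianLocalRing R]
    [IsSepClosed (IsLocalRing.ResidueField R)] (F : EtCoh.Ab (Spec (CommRingCat.of R))) :
    Function.Bijective ((Scheme.pointSmallEtale
      (Spec.map (CommRingCat.ofHom (IsLocalRing.residue R)))).toPresheafFiber
        (EtCoh.top (Spec (CommRingCat.of R)))
        (Over.homMk (Spec.map (CommRingCat.ofHom (IsLocalRing.residue R))) (Category.comp_id _)) F.obj) := by
  open Groth.Agent.Lib.Helper23.HensSection CategoryTheory.GrothendieckTopology in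
  let Φ := Scheme.pointSmallEtale (xi R)
  constructor
  · intro z₁ z₂ h
    obtain ⟨Y, g, y, hy, hz⟩ := (Point.toPresheafFiber_eq_iff' Φ _ _ z₁ z₂).1 h
    obtain ⟨σ, hσ⟩ := exists_section_site R Y y
    have hσg : σ ≫ g = 𝟙 _ := top_hom_ext _ _
    have h1 := congrArg (F.obj.map σ.op) hz
    have h2 : ∀ z, F.obj.map σ.op (F.obj.map g.op z) = z := by
      intro z
      rw [← ConcreteCategory.comp_apply, ← Functor.map_comp, ← op_comp, hσg]
      simp
    rw [h2, h2] at h1
    exact h1
  · intro p
    obtain ⟨Y, y, z, rfl⟩ := Point.toPresheafFiber_jointly_surjective Φ p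
    obtain ⟨σ, hσ⟩ := exists_section_site R Y y
    refine ⟨F.obj.map σ.op z, ?_⟩
    rw [← hσ]
    exact Point.toPresheafFiber_w_apply Φ σ (x0 R) F.obj z

end Groth.Agent.S0074
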