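import Groth.Statements.S0076
import Groth.Agent.Lib.Helper9.UH2

set_option autoImplicit false
open CategoryTheory CategoryTheory.Limits AlgebraicGeometry Opposite
universe u
open EtBase

namespace Groth.Agent.S0076

/-- For X étale over S and any S-scheme Y, base change along an integral, universally injective,
surjective S' → S gives a bijection between S-morphisms Y → X and S'-morphisms of the base changes. -/
theorem result {S S' : Scheme.{u}} (g : S' ⟶ S) [IsIntegralHom g] [UniversallyInjective g]
    [Surjective g] (X Y : Over S) [AlgebraicGeometry.Etale X.hom] :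
    Function.Bijective (fun φ : Y ⟶ X => (Over.pullback g).map φ) := by
  let adj := Over.mapPullbackAdj g
  let Y₀ := (Over.pullback g).obj Y
  let ε : (Over.map g).obj Y₀ ⟶ Y := adj.counit.app Y
  have key : ∀ φ : Y ⟶ X, (adj.homEquiv Y₀ X).symm ((Over.pullback g).map φ) = ε ≫ φ := fun φ => by
    rw [Adjunction.homEquiv_counit]; exact adj.counit.naturality φ
  suffices hb : Function.Bijective (fun φ : Y ⟶ X => ε ≫ φ) by
    have e : (fun φ : Y ⟶ X => (Over.pullback g).map φ) =
        (adj.homEquiv Y₀ X) ∘ (fun φ => ε ≫ φ) := by
      funext φ; rw [Function.comp_apply, ← key φ, Equiv.apply_symm_apply]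
    rw [e]; exact (adj.homEquiv Y₀ X).bijective.comp hb
  have hε : ε.left = pullback.fst Y.hom g := by
    simp [ε, adj]
  have h1 : IsIntegralHom ε.left := by
    rw [hε]; exact MorphismProperty.pullback_fst (P := @IsIntegralHom) Y.hom g inferInstance
  have h2 : Surjective ε.left := by
    rw [hε]; exact MorphismProperty.pullback_fst (P := @Surjective) Y.hom g inferInstance
  have h3 : UniversallyInjective ε.left := by
    rw [hε]; exact MorphismProperty.pullback_fst (P := @UniversallyInjective) Y.hom g inferInstance
  constructor
  · intro φ ψ h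
    have h' : ε.left ≫ φ.left = ε.left ≫ ψ.left := by
      have := congrArg CommaMorphism.left h
      simpa using this
    exact Over.OverMorphism.ext
      (Groth.Agent.S0117.W.inj X.hom ε.left φ.left ψ.left (by rw [Over.w φ, Over.w ψ]) h')
  · intro θ
    obtain ⟨φ', e1, e2⟩ := Groth.Agent.Lib.Helper9.UH.exists_desc X.hom Y.hom ε.left θ.left
      (by rw [Over.w θ, Over.w ε])
    exact ⟨Over.homMk φ' e1, by ext; simpa using e2⟩

end Groth.Agent.S0076
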