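import Groth.Statements.S0077
import Mathlib
import Groth.Agent.Lib.Helper22.SigmaLin5
-- import your own Groth.Agent.* helpers here

set_option autoImplicit false
universe u
open EtBase

namespace Groth.Agent.S0077

/-- First half — on a finite-dimensional vector space over an algebraically closed field of
characteristic p, any additive p-semilinear map F has F − id surjective. -/
theorem result {k V : Type u} [Field k] [IsAlgClosed k] (p : ℕ) [Fact p.Prime] [CharP k p]
    [AddCommGroup V] [Module k V] [FiniteDimensional k V] (F : V →+ V)
    (hF : ∀ (c : k) (v : V), F (c • v) = c ^ p • F v) :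
    Function.Surjective fun v => F v - v := by
  let T : V →ₛₗ[frobenius k p] V :=
    { toFun := F
      map_add' := map_add F
      map_smul' := fun c v => by
        show F (c • v) = frobenius k p c • F v
        rw [hF, frobenius_def] }
  have hgood : Groth.Agent.Lib.Helper22.SigmaLin.Good.{u, u} (frobenius k p) :=
    Groth.Agent.Lib.Helper22.SigmaLin.good_of_pow p (Fact.out : p.Prime).two_le _
      (Or.inl (fun x => frobenius_def p x))
  intro c
  obtain ⟨m, hm⟩ := (hgood V T).1 (-c)
  have hm' : m - F m = -c := hm
  exact ⟨m, by show F m - m = c; rw [← neg_sub, hm', neg_neg]⟩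

end Groth.Agent.S0077
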