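import Groth.Statements.S0090
import Groth.Agent.S0254
import Mathlib
set_option backward.isDefEq.respectTransparency.types false

set_option autoImplicit false
open CategoryTheory CategoryTheory.Limits AlgebraicGeometry Opposite
universe u
open EtBase

namespace Groth.Agent.S0090
open Polynomial

theorem isSepClosed_of_ringEquiv {k k' : Type*} [Field k] [Field k'] (e : k ≃+* k')
    [IsSepClosed k] : IsSepClosed k' := by
  apply IsSepClosed.of_exists_root
  intro p hmp hp hsep
  have hpe : degree (p.map e.symm.toRingHom) ≠ 0 := by
    rw [degree_map]
    exact ne_of_gt (degree_pos_of_irreducible hp)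
  have hsep' : (p.map e.symm.toRingHom).Separable := hsep.map
  rcases IsSepClosed.exists_root (k := k) (p.map e.symm.toRingHom) hpe hsep' with ⟨x, hx⟩
  use e x
  apply e.symm.injective
  rw [map_zero, ← hx]
  clear hx hpe hp hmp hsep hsep'
  induction p using Polynomial.induction_on <;> simp_all


/-- Part (2) — every local ring of an integral normal scheme with separably closed function field is
strictly henselian. -/
theorem result (X : Scheme.{u}) [IsIntegral X] (hN : ∀ x : X, IsIntegrallyClosed (X.presheaf.stalk x))
    [IsSepClosed X.functionField] (x : X) : EtCoh.IsStrictlyHenselianLocalRing (X.presheaf.stalk x) := by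
  haveI := hN x
  haveI : IsSepClosed (FractionRing (X.presheaf.stalk x)) :=
    isSepClosed_of_ringEquiv
      (FractionRing.algEquiv (X.presheaf.stalk x) X.functionField).symm.toRingEquiv
  obtain ⟨h1, h2⟩ := Groth.Agent.S0254.result (X.presheaf.stalk x)
  exact ⟨h1, h2⟩

end Groth.Agent.S0090
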