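import Groth.Statements.S0097
import Groth.Agent.Lib.Helper17.FiniteUnram
import Mathlib

set_option autoImplicit false
open CategoryTheory CategoryTheory.Limits AlgebraicGeometry Opposite
universe u
open EtBase

namespace Groth.Agent.S0097

/-- "Surjective on residue fields", phrased for arbitrary ring homs. -/
def ResSurj {R S : Type u} [CommRing R] [CommRing S] (φ : R →+* S) : Prop :=
  ∀ b : S, ∃ a : R, ¬ IsUnit (φ a - b)

theorem resSurj_respectsIso : RingHom.RespectsIso @ResSurj := by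
  constructor
  · intro R S T _ _ _ f e hf b
    obtain ⟨a, ha⟩ := hf (e.symm b)
    refine ⟨a, fun hu => ha ?_⟩
    have : e.symm (e (f a) - b) = f a - e.symm b := by simp
    rw [← this]
    exact hu.map e.symm
  · intro R S T _ _ _ f e hf b
    obtain ⟨a, ha⟩ := hf b
    exact ⟨e.symm a, by simpa using ha⟩

theorem resSurj_of_residueFieldMap_surjective {X S : Scheme.{u}} (f : X ⟶ S) (x : X)
    (hκ : Function.Surjective (f.residueFieldMap x)) : ResSurj (f.stalkMap x).hom := by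
  intro b
  obtain ⟨α', hα'⟩ := hκ (IsLocalRing.residue _ b)
  obtain ⟨α, rfl⟩ := IsLocalRing.residue_surjective α'
  refine ⟨α, ?_⟩
  have h1 : IsLocalRing.residue _ ((f.stalkMap x).hom α) = IsLocalRing.residue _ b := hα'
  rw [← sub_eq_zero, ← map_sub, IsLocalRing.residue_eq_zero_iff] at h1
  exact (IsLocalRing.mem_maximalIdeal _).mp h1

set_option backward.defeqAttrib.useBackward true in
set_option backward.isDefEq.respectTransparency false in
/-- Affine-local algebraic core of S0097. -/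
theorem exists_mul_mem_range_appLE {X S : Scheme.{u}} (f : X ⟶ S) [IsFinite f]
    [FormallyUnramified f] (x : X) (hx : f.base ⁻¹' {f x} = {x})
    (hκ : Function.Surjective (f.residueFieldMap x)) (W : S.Opens) (hW : IsAffineOpen W)
    (hsW : f x ∈ W) :
    ∃ r : Γ(S, W), f x ∈ S.basicOpen r ∧
      ∀ b : Γ(X, f ⁻¹ᵁ W), ∃ a : Γ(S, W), (f.appLE W (f ⁻¹ᵁ W) le_rfl).hom a =
        (f.appLE W (f ⁻¹ᵁ W) le_rfl).hom r * b := by
  have hW' : IsAffineOpen (f ⁻¹ᵁ W) := hW.preimage f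
  have hxW' : x ∈ f ⁻¹ᵁ W := hsW
  have hfin : (f.appLE W (f ⁻¹ᵁ W) le_rfl).hom.Finite := by
    rw [← Scheme.Hom.app_eq_appLE]
    exact f.finite_app W hW
  have hfu := f.formallyUnramified_appLE hW hW' le_rfl
  algebraize [(f.appLE W (f ⁻¹ᵁ W) le_rfl).hom]
  have hlies : (hW'.primeIdealOf ⟨x, hxW'⟩).asIdeal.LiesOver
      (hW.primeIdealOf ⟨f x, hsW⟩).asIdeal :=
    ⟨congr($(IsAffineOpen.comap_primeIdealOf_appLE W hW (f ⁻¹ᵁ W) hW' le_rfl hxW').1).symm⟩
  -- unique prime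
  have hq : (hW.primeIdealOf ⟨f x, hsW⟩).asIdeal.primesOver Γ(X, f ⁻¹ᵁ W) =
      {(hW'.primeIdealOf ⟨x, hxW'⟩).asIdeal} := by
    ext Q
    simp only [Set.mem_singleton_iff]
    constructor
    · rintro ⟨hQp, hQo⟩
      set y : X := hW'.fromSpec ⟨Q, hQp⟩ with hy
      have hyW' : y ∈ f ⁻¹ᵁ W := by
        have : y ∈ Set.range hW'.fromSpec := ⟨_, rfl⟩
        rwa [hW'.range_fromSpec] at this
      have h1 : hW'.primeIdealOf ⟨y, hyW'⟩ = ⟨Q, hQp⟩ :=
        hW'.fromSpec.isOpenEmbedding.injective (hW'.fromSpec_primeIdealOf ⟨y, hyW'⟩)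
      have h2 := IsAffineOpen.comap_primeIdealOf_appLE (f := f) W hW (f ⁻¹ᵁ W) hW' le_rfl hyW'
      rw [h1] at h2
      have h3 : hW.primeIdealOf ⟨f y, hyW'⟩ = hW.primeIdealOf ⟨f x, hsW⟩ := by
        rw [← h2]
        exact PrimeSpectrum.ext hQo.over.symm
      have h4 : f y = f x := by
        have := congrArg hW.fromSpec h3
        rwa [hW.fromSpec_primeIdealOf, hW.fromSpec_primeIdealOf] at this
      have h5 : y = x := by
        have : y ∈ f.base ⁻¹' {f x} := h4
        rwa [hx] at this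
      have h6 : hW'.primeIdealOf ⟨x, hxW'⟩ = ⟨Q, hQp⟩ := by
        rw [← h1]
        congr 1
        exact Subtype.ext h5.symm
      exact congr($(h6).1).symm
    · rintro rfl
      exact ⟨inferInstance, hlies⟩
  let := Localization.AtPrime.algebraOfLiesOver (hW.primeIdealOf ⟨f x, hsW⟩).asIdeal
    (hW'.primeIdealOf ⟨x, hxW'⟩).asIdeal
  -- residue field surjectivity
  have hres : ResSurj (Localization.localRingHom (hW.primeIdealOf ⟨f x, hsW⟩).asIdeal
      (hW'.primeIdealOf ⟨x, hxW'⟩).asIdeal (f.appLE W (f ⁻¹ᵁ W) le_rfl).hom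
      congr($(IsAffineOpen.comap_primeIdealOf_appLE W hW (f ⁻¹ᵁ W) hW' le_rfl hxW').1).symm) :=
    (resSurj_respectsIso.arrow_mk_iso_iff
      (IsAffineOpen.arrowStalkMapIso f W hW (f ⁻¹ᵁ W) hW' le_rfl hxW')).mp
      (resSurj_of_residueFieldMap_surjective f x hκ)
  have H : Function.Surjective (algebraMap (hW.primeIdealOf ⟨f x, hsW⟩).asIdeal.ResidueField
      (hW'.primeIdealOf ⟨x, hxW'⟩).asIdeal.ResidueField) := by
    intro y
    obtain ⟨c, rfl⟩ := IsLocalRing.residue_surjective y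
    obtain ⟨a, ha⟩ := hres c
    refine ⟨IsLocalRing.residue _ a, ?_⟩
    rw [IsLocalRing.ResidueField.algebraMap_residue, ← sub_eq_zero, ← map_sub,
      IsLocalRing.residue_eq_zero_iff, IsLocalRing.mem_maximalIdeal]
    exact ha
  haveI : Algebra.IsUnramifiedAt Γ(S, W) (hW'.primeIdealOf ⟨x, hxW'⟩).asIdeal := inferInstance
  obtain ⟨r, hrp, hr⟩ := Groth.Agent.Lib.Helper17.FiniteUnram.exists_mul_mem_range hq H
  refine ⟨r, ?_, hr⟩
  rwa [← PrimeSpectrum.mem_basicOpen, IsAffineOpen.primeIdealOf,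
    ← hW.fromSpec_preimage_basicOpen, Scheme.Hom.mem_preimage, ← Scheme.Hom.comp_apply,
    IsAffineOpen.isoSpec_hom, IsAffineOpen.toSpecΓ_fromSpec] at hrp

/-- From `r • B ⊆ image` to a closed immersion over `D(r)`. -/
theorem isClosedImmersion_restrict_basicOpen {X S : Scheme.{u}} (f : X ⟶ S) [IsAffineHom f]
    (W : S.Opens) (hW : IsAffineOpen W) (r : Γ(S, W))
    (hr : ∀ b : Γ(X, f ⁻¹ᵁ W), ∃ a : Γ(S, W), (f.appLE W (f ⁻¹ᵁ W) le_rfl).hom a =
        (f.appLE W (f ⁻¹ᵁ W) le_rfl).hom r * b) :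
    IsClosedImmersion (f ∣_ S.basicOpen r) := by
  have hW' : IsAffineOpen (f ⁻¹ᵁ W) := hW.preimage f
  have hU : IsAffineOpen (S.basicOpen r) := hW.basicOpen r
  have hU' : IsAffineOpen (f ⁻¹ᵁ S.basicOpen r) := hU.preimage f
  rw [← Scheme.Hom.resLE_eq_morphismRestrict]
  haveI : IsAffine (S.basicOpen r).toScheme := hU
  haveI : IsAffine (f ⁻¹ᵁ S.basicOpen r).toScheme := hU'
  rw [HasAffineProperty.iff_of_isAffine (P := @IsClosedImmersion)]
  refine ⟨inferInstance, ?_⟩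
  refine (RingHom.surjective_respectsIso.arrow_mk_iso_iff
    (arrowResLEAppIso f _ _ le_rfl)).mpr ?_
  have hle : f ⁻¹ᵁ S.basicOpen r ≤ f ⁻¹ᵁ W := fun _ h => S.basicOpen_le r h
  have e : f ⁻¹ᵁ S.basicOpen r = X.basicOpen ((f.appLE W (f ⁻¹ᵁ W) le_rfl).hom r) := by
    rw [Scheme.preimage_basicOpen, Scheme.Hom.app_eq_appLE]
  have hB' := hW'.isLocalization_of_eq_basicOpen ((f.appLE W (f ⁻¹ᵁ W) le_rfl).hom r)
    (homOfLE hle) e
  refine Groth.Agent.Lib.Helper17.FiniteUnram.surjective_of_mul_mem_range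
    (φ := (f.appLE W (f ⁻¹ᵁ W) le_rfl).hom)
    (ρ := (S.presheaf.map (homOfLE (S.basicOpen_le r)).op).hom)
    (β := (X.presheaf.map (homOfLE hle).op).hom)
    (ψ := (f.appLE (S.basicOpen r) (f ⁻¹ᵁ S.basicOpen r) le_rfl).hom) ?_ r ?_ hB' hr
  · rw [← CommRingCat.hom_comp, ← CommRingCat.hom_comp, Scheme.Hom.map_appLE,
      Scheme.Hom.appLE_map]
  · have := hW.isLocalization_basicOpen r
    exact IsLocalization.Away.algebraMap_isUnit r


/-- A finite unramified morphism whose fibre over a point s is a single point with the same residue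
field is a closed immersion over an open neighbourhood of s. -/
theorem result {X S : Scheme.{u}} (f : X ⟶ S) [IsFinite f] [FormallyUnramified f] (s : S) (x : X)
    (hx : f.base ⁻¹' {s} = {x}) (hκ : Function.Surjective (f.residueFieldMap x)) :
    ∃ U : S.Opens, s ∈ U ∧ IsClosedImmersion (f ∣_ U) := by
  have hfx : f x = s := by
    have : x ∈ f.base ⁻¹' {s} := hx ▸ rfl
    exact this
  subst hfx
  obtain ⟨_, ⟨W, hW, rfl⟩, hsW, -⟩ :=
    S.isBasis_affineOpens.exists_subset_of_mem_open (Set.mem_univ (f x)) isOpen_univ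
  obtain ⟨r, hsr, hr⟩ := exists_mul_mem_range_appLE f x hx hκ W hW hsW
  exact ⟨S.basicOpen r, hsr, isClosedImmersion_restrict_basicOpen f W hW r hr⟩

end Groth.Agent.S0097
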