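import Groth.Statements.S0098
import Groth.Agent.S0097
import Mathlib

set_option autoImplicit false
open CategoryTheory CategoryTheory.Limits AlgebraicGeometry Opposite
universe u
open EtBase

namespace Groth.Agent.S0098


/-- A finite étale morphism whose fibre over a point s is a single point with the same residue field is
an isomorphism over an open neighbourhood of s. -/
theorem result {X S : Scheme.{u}} (f : X ⟶ S) [IsFinite f] [AlgebraicGeometry.Etale f] (s : S) (x : X)
    (hx : f.base ⁻¹' {s} = {x}) (hκ : Function.Surjective (f.residueFieldMap x)) :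
    ∃ U : S.Opens, s ∈ U ∧ IsIso (f ∣_ U) := by
  obtain ⟨U, hsU, hU⟩ := Groth.Agent.S0097.result f s x hx hκ
  haveI : Etale (f ∣_ U) := inferInstance
  haveI : IsOpenImmersion (f ∣_ U) := IsOpenImmersion.of_flat_of_mono _
  have hfx : f x = s := by
    have : x ∈ f.base ⁻¹' {s} := hx ▸ rfl
    exact this
  have hxU : x ∈ f ⁻¹ᵁ U := by
    show f x ∈ U
    rw [hfx]
    exact hsU
  refine ⟨U.ι ''ᵁ (f ∣_ U).opensRange, ?_, ?_⟩
  · refine ⟨(f ∣_ U) ⟨x, hxU⟩, ⟨_, rfl⟩, ?_⟩
    show ((f ∣_ U) ⟨x, hxU⟩).1 = s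
    rw [morphismRestrict_base_coe]
    exact hfx
  · have h1 : IsIso (f ∣_ U ∣_ (f ∣_ U).opensRange) := by
      rw [isIso_iff_isOpenImmersion_and_surjective]
      refine ⟨inferInstance, ⟨fun y => ?_⟩⟩
      obtain ⟨y, z, rfl⟩ := y
      refine ⟨⟨z, ⟨z, rfl⟩⟩, Subtype.ext ?_⟩
      rw [morphismRestrict_base_coe]
    exact ((MorphismProperty.isomorphisms Scheme).arrow_mk_iso_iff
      (morphismRestrictRestrict f U (f ∣_ U).opensRange)).mp h1

end Groth.Agent.S0098
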