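import Groth.Statements.S0102
import Mathlib.AlgebraicGeometry.Morphisms.UniversallyOpen
-- import your own Groth.Agent.* helpers here

set_option autoImplicit false
open CategoryTheory CategoryTheory.Limits AlgebraicGeometry Opposite
universe u
open EtBase

namespace Groth.Agent.S0102

/-- local vanishing implies vanishing (separatedness on the small etale site) -/
lemma eq_zero_of_locally {S : Scheme.{u}} (F : EtCoh.Ab S) (V : S.Etale) (τ : EtCoh.sect F V)
    (h : ∀ x : V.left, ∃ (Y : S.Etale) (g : Y ⟶ V) (y : Y.left),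
      F.obj.map g.op τ = 0 ∧ g.left.base y = x) : τ = 0 := by
  let R : Sieve V :=
    { arrows := fun Y g => F.obj.map g.op τ = 0
      downward_closed := by
        intro Y Z g hg k
        show F.obj.map (k ≫ g).op τ = 0
        rw [op_comp, F.obj.map_comp, ConcreteCategory.comp_apply, hg, map_zero] }
  have hR : R ∈ S.smallEtaleTopology V := by
    have eS : S.smallEtaleTopology =
        (S.smallPretopology (P := EtCoh.etaleMP) (Q := EtCoh.etaleMP)).toGrothendieck :=
      Scheme.smallGrothendieckTopology_eq_toGrothendieck_smallPretopology S le_rfl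
    rw [eS]
    refine (Scheme.mem_toGrothendieck_smallPretopology V R).2 fun x => ?_
    obtain ⟨Y, g, y, hg, hy⟩ := h x
    exact ⟨Y, g, y, hg, inferInstance, hy⟩
  refine Sheaf.isSeparated F V R hR τ 0 fun Y g hg => ?_
  rw [map_zero]
  exact hg


/-- A section of an abelian étale sheaf over an étale scheme U vanishes on pullback to an étale V → U
exactly when V maps into a certain largest open subset of U. -/
theorem result {S : Scheme.{u}} (F : EtCoh.Ab S) (U : S.Etale) (σ : EtCoh.sect F U) :
    ∃ W : U.left.Opens, ∀ (V : S.Etale) (φ : V ⟶ U),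
      F.obj.map φ.op σ = 0 ↔ Set.range φ.left.base ⊆ (W : Set U.left) := by
  classical
  let W0 : Set U.left := {x | ∃ (V : S.Etale) (φ : V ⟶ U),
    F.obj.map φ.op σ = 0 ∧ x ∈ Set.range φ.left.base}
  have hW0 : IsOpen W0 := by
    rw [isOpen_iff_forall_mem_open]
    rintro x ⟨V, φ, hφ, hx⟩
    exact ⟨Set.range φ.left.base, fun y hy => ⟨V, φ, hφ, hy⟩,
      (φ.left.isOpenMap).isOpen_range, hx⟩
  refine ⟨⟨W0, hW0⟩, fun V φ => ⟨fun h x hx => ⟨V, φ, h, hx⟩, fun h => ?_⟩⟩
  apply eq_zero_of_locally F V
  intro v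
  obtain ⟨V', φ', hφ', u', hu'⟩ := h ⟨v, rfl⟩
  -- the fibre product of V and V' over U
  obtain ⟨z, hz1, hz2⟩ := Scheme.Pullback.exists_preimage_pullback
    (f := φ.left) (g := φ'.left) v u' hu'.symm
  have e1 : φ.left ≫ U.hom = V.hom := Over.w φ.hom
  have e2 : φ'.left ≫ U.hom = V'.hom := Over.w φ'.hom
  let Z : S.Etale := Scheme.Etale.mk (pullback.fst φ.left φ'.left ≫ V.hom)
  let g : Z ⟶ V := MorphismProperty.Over.homMk (pullback.fst φ.left φ'.left) rfl trivial
  let g' : Z ⟶ V' := MorphismProperty.Over.homMk (pullback.snd φ.left φ'.left)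
    (by
      show pullback.snd φ.left φ'.left ≫ V'.hom = pullback.fst φ.left φ'.left ≫ V.hom
      rw [← e1, ← e2, ← Category.assoc, ← Category.assoc, pullback.condition]) trivial
  have hcomm : g ≫ φ = g' ≫ φ' := by
    apply MorphismProperty.Over.Hom.ext
    exact pullback.condition
  refine ⟨Z, g, z, ?_, hz1⟩
  rw [← ConcreteCategory.comp_apply, ← F.obj.map_comp, ← op_comp, hcomm, op_comp, F.obj.map_comp,
    ConcreteCategory.comp_apply, hφ', map_zero]

end Groth.Agent.S0102
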