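import Groth.Statements.S0116
import Mathlib
set_option backward.isDefEq.respectTransparency.types false

set_option autoImplicit false
open CategoryTheory CategoryTheory.Limits AlgebraicGeometry Opposite
universe u
open EtBase

namespace Groth.Agent.S0116

lemma isNoetherianRing_of_faithfullyFlat {A B : Type*} [CommRing A] [CommRing B] [Algebra A B]
    [Module.FaithfullyFlat A B] [IsNoetherianRing B] : IsNoetherianRing A := by
  have hB : WellFoundedGT (Ideal B) := (isNoetherian_iff' (R := B) (M := B)).mp inferInstance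
  have hmono : StrictMono (Ideal.map (algebraMap A B)) :=
    Monotone.strictMono_of_injective (fun _ _ h => Ideal.map_mono h)
      Ideal.map_injective_of_faithfullyFlat
  exact (isNoetherian_iff' (R := A) (M := A)).mpr hmono.wellFoundedGT

lemma flat_pi {A : Type*} [CommRing A] {ι : Type*} [Finite ι] (M : ι → Type*)
    [∀ i, AddCommGroup (M i)] [∀ i, Module A (M i)] [∀ i, Module.Flat A (M i)] :
    Module.Flat A (∀ i, M i) := by
  classical
  have := Fintype.ofFinite ι
  exact Module.Flat.of_linearEquiv (DirectSum.linearEquivFunOnFintype A ι M).symm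


/-- If f : X → Y is surjective, flat and locally of finite presentation and X is locally Noetherian,
then Y is locally Noetherian. (This is the descent half of the statement that, for such f, X is
locally Noetherian if and only if Y is; the ascent half is the fact that a scheme locally of finite
type over a locally Noetherian scheme is locally Noetherian, and is not stated here.) -/
theorem result {X Y : Scheme.{u}} (f : X ⟶ Y) [Surjective f] [Flat f] [LocallyOfFinitePresentation f]
    [IsLocallyNoetherian X] : IsLocallyNoetherian Y := by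
  constructor
  intro U
  have hU : IsAffineOpen U.1 := U.2
  -- for each point y of U choose x over it and an affine nhd of x inside f ⁻¹ U
  have key : ∀ y : U.1, ∃ V : X.Opens, IsAffineOpen V ∧ V ≤ f ⁻¹ᵁ U.1 ∧ y.1 ∈ f '' (V : Set X) := by
    intro y
    obtain ⟨x, hx⟩ := f.surjective y.1
    have hxU : x ∈ f ⁻¹ᵁ U.1 := by
      show f x ∈ U.1
      rw [hx]; exact y.2
    obtain ⟨_, ⟨V, hV, rfl⟩, hxV, hVU⟩ :=
      (X.isBasis_affineOpens).exists_subset_of_mem_open hxU (f ⁻¹ᵁ U.1).2
    exact ⟨V, hV, hVU, x, hxV, hx⟩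
  choose V hV hVU hyV using key
  have hopen : ∀ y : U.1, IsOpen (f '' (V y : Set X)) := fun y => f.isOpenMap _ (V y).2
  have hcov : (U.1 : Set Y) ⊆ ⋃ y : U.1, f '' (V y : Set X) := by
    intro y hy
    exact Set.mem_iUnion.mpr ⟨⟨y, hy⟩, hyV ⟨y, hy⟩⟩
  obtain ⟨t, ht⟩ := hU.isCompact.elim_finite_subcover _ hopen hcov
  -- the product ring
  let B : t → Type u := fun i => Γ(X, V i.1)
  let φ : ∀ i : t, Γ(Y, U.1) →+* B i := fun i => (f.appLE U.1 (V i.1) (hVU i.1)).hom
  letI : ∀ i : t, Algebra Γ(Y, U.1) (B i) := fun i => (φ i).toAlgebra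
  have hflat : ∀ i : t, Module.Flat Γ(Y, U.1) (B i) := by
    intro i
    have h := HasRingHomProperty.appLE (P := @Flat) f inferInstance U ⟨V i.1, hV i.1⟩ (hVU i.1)
    exact (RingHom.flat_algebraMap_iff).mp h
  have : Module.Flat Γ(Y, U.1) (∀ i : t, B i) := flat_pi B
  have : Module.FaithfullyFlat Γ(Y, U.1) (∀ i : t, B i) := by
    apply Module.FaithfullyFlat.of_comap_surjective
    intro p
    -- the point of U corresponding to p
    let y : U.1 := hU.isoSpec.inv p
    have hy : hU.primeIdealOf y = p := by
      simp [IsAffineOpen.primeIdealOf, y]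
    obtain ⟨i, hi, x, hxV, hx⟩ := Set.mem_iUnion₂.mp (ht y.2)
    have hcomap := IsAffineOpen.comap_primeIdealOf_appLE U.1 hU (V i) (hV i) (hVU i) hxV
    let q : PrimeSpectrum (B ⟨i, hi⟩) := (hV i).primeIdealOf ⟨x, hxV⟩
    refine ⟨PrimeSpectrum.comap (Pi.evalRingHom B ⟨i, hi⟩) q, ?_⟩
    rw [← hy]
    have hyx : hU.primeIdealOf ⟨f x, hVU i hxV⟩ = hU.primeIdealOf y := by
      congr 1
      exact Subtype.ext hx
    rw [← hyx, ← hcomap]
    rfl
  have : IsNoetherianRing (∀ i : t, B i) := by
    have : ∀ i : t, IsNoetherianRing (B i) := fun i =>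
      IsLocallyNoetherian.component_noetherian ⟨V i.1, hV i.1⟩
    infer_instance
  exact isNoetherianRing_of_faithfullyFlat (A := Γ(Y, U.1)) (B := ∀ i : t, B i)

end Groth.Agent.S0116
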