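import Groth.Statements.S0119
import Mathlib.RingTheory.Unramified.LocalRing
import Mathlib.RingTheory.Unramified.Field
import Mathlib.RingTheory.Ideal.MinimalPrime.Noetherian
import Mathlib.LinearAlgebra.TensorProduct.Pi
import Mathlib.RingTheory.Flat.Basic
import Mathlib.AlgebraicGeometry.Morphisms.Etale
import Mathlib.AlgebraicGeometry.Noetherian
-- import your own Groth.Agent.* helpers here

set_option autoImplicit false
open CategoryTheory CategoryTheory.Limits AlgebraicGeometry Opposite
universe u
open EtBase

namespace Groth.Agent.S0119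

open TensorProduct in
lemma isReduced_of_flat_unramified {A B : Type u} [CommRing A] [CommRing B] [Algebra A B]
    [IsNoetherianRing A] [IsReduced A] [Module.Flat A B] [Algebra.EssFiniteType A B]
    [Algebra.FormallyUnramified A B] : IsReduced B := by
  classical
  have hfin := minimalPrimes.finite_of_isNoetherianRing A
  let ι := {p : Ideal A // p ∈ minimalPrimes A}
  have : Fintype ι := hfin.fintype
  have hprime : ∀ p : ι, p.1.IsPrime := fun p => p.2.1.1
  let K : ι → Type u := fun p => FractionRing (A ⧸ p.1)
  let φ : A →ₐ[A] (∀ p, K p) := Algebra.ofId A _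
  have hφ : Function.Injective φ := by
    rw [injective_iff_map_eq_zero]
    intro a ha
    have hmem : a ∈ sInf (minimalPrimes A) := by
      rw [Ideal.mem_sInf]
      intro p hp
      have h1 := congr_fun ha ⟨p, hp⟩
      have : p.IsPrime := hp.1.1
      have h2 : algebraMap (A ⧸ p) (FractionRing (A ⧸ p)) (Ideal.Quotient.mk p a) = 0 := h1
      rw [map_eq_zero_iff _ (IsFractionRing.injective _ _)] at h2
      exact Ideal.Quotient.eq_zero_iff_mem.mp h2
    rw [minimalPrimes, Ideal.sInf_minimalPrimes] at hmem
    have : a ∈ nilradical A := hmem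
    rwa [nilradical_eq_zero, Ideal.zero_eq_bot, Ideal.mem_bot] at this
  let ψ : B →+* ∀ p, (K p) ⊗[A] B :=
    RingHom.pi fun p => (Algebra.TensorProduct.includeRight (R := A) (A := K p) (B := B)).toRingHom
  have hψ : Function.Injective ψ := by
    have : ⇑ψ = (piLeft A B K) ∘ (LinearMap.rTensor B φ.toLinearMap) ∘
        (TensorProduct.lid A B).symm := by
      ext b p
      simp [ψ, φ]
    rw [this]
    refine (LinearEquiv.injective _).comp (Function.Injective.comp ?_ (LinearEquiv.injective _))
    exact Module.Flat.rTensor_preserves_injective_linearMap _ hφ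
  have : ∀ p, IsReduced (K p ⊗[A] B) := fun p =>
    Algebra.FormallyUnramified.isReduced_of_field (K p) _
  exact isReduced_of_injective ψ hψ

/-- Let f : X → Y be an étale morphism of schemes with Y locally Noetherian, and let x ∈ X. Then the
local ring O_{X,x} is reduced if and only if the local ring O_{Y,f(x)} is reduced. -/
theorem result {X Y : Scheme.{u}} (f : X ⟶ Y) [AlgebraicGeometry.Etale f]
    [IsLocallyNoetherian Y] (x : X) :
    _root_.IsReduced (X.presheaf.stalk x) ↔ _root_.IsReduced (Y.presheaf.stalk (f.base x)) := by
  algebraize [(f.stalkMap x).hom]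
  have : IsLocalHom (algebraMap (Y.presheaf.stalk (f x)) (X.presheaf.stalk x)) :=
    inferInstanceAs <| IsLocalHom (f.stalkMap x).hom
  have : Algebra.EssFiniteType (Y.presheaf.stalk (f x)) (X.presheaf.stalk x) := by
    rw [← RingHom.essFiniteType_algebraMap, RingHom.algebraMap_toAlgebra]
    exact LocallyOfFiniteType.stalkMap f x
  have : Algebra.FormallyUnramified (Y.presheaf.stalk (f x)) (X.presheaf.stalk x) := by
    rw [← RingHom.formallyUnramified_algebraMap, RingHom.algebraMap_toAlgebra]
    exact FormallyUnramified.stalkMap f x
  have : Module.Flat (Y.presheaf.stalk (f x)) (X.presheaf.stalk x) := by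
    rw [← RingHom.flat_algebraMap_iff, RingHom.algebraMap_toAlgebra]
    exact Flat.stalkMap f x
  constructor
  · intro h
    have : Module.FaithfullyFlat (Y.presheaf.stalk (f x)) (X.presheaf.stalk x) :=
      Module.FaithfullyFlat.of_flat_of_isLocalHom
    exact isReduced_of_injective (algebraMap (Y.presheaf.stalk (f x)) (X.presheaf.stalk x))
      (FaithfulSMul.algebraMap_injective _ _)
  · intro h
    exact isReduced_of_flat_unramified (A := Y.presheaf.stalk (f x))

end Groth.Agent.S0119
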