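import Groth.Statements.S0138
-- import your own Groth.Agent.* helpers here
import Groth.Agent.Lib.Helper23.ShriekPres

set_option autoImplicit false
universe u
open CategoryTheory CategoryTheory.Limits AlgebraicGeometry Opposite
open EtPBC

namespace Groth.Agent.S0138

open Groth.Agent.Lib.Helper23 Groth.Agent.Lib.Helper23.ShriekPres Groth.Agent.Lib.Helper23.ShriekRep

/-- For Lambda = Z/n: on a quasi-compact quasi-separated X, a constructible abelian sheaf killed by n >
0 (that is, a constructible sheaf of Z/n-modules) is isomorphic to the cokernel of a map between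
finite direct sums of sheaves j_{U!} Z/n with U affine and etale over X. (The source also proves the
converse; we state the presentation direction.) -/
theorem result (X : Scheme.{u}) [CompactSpace X] [QuasiSeparatedSpace X]
    (n : ℕ) (hn : 0 < n) (F : EtCoh.Ab X) (hF : EtPBC.IsConstructible F) (hFn : EtCoh.KilledBy n F) :
    ∃ (a b : ℕ) (V : Fin a → X.Etale) (U : Fin b → X.Etale) (_ : ∀ j, IsAffine (V j).left)
      (_ : ∀ i, IsAffine (U i).left)
      (φ : (⨁ fun j => EtPBC.extZeroConst (V j) (ZMod n)) ⟶ ⨁ fun i => EtPBC.extZeroConst (U i) (ZMod n)),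
      Nonempty (F ≅ cokernel φ) := by
  obtain ⟨⟨a, U, n₁, hn₁, aff₁⟩, ψ, hψ⟩ := exists_epi (N := {n}) F hF
    (fun Ω _ _ ξ γ => ⟨n, rfl, hn, nsmul_germ_of_killedBy F n hFn ξ γ⟩)
  obtain rfl : n₁ = fun _ => n := funext (fun i => (hn₁ i).1)
  let 𝒜 : Fam X {n} := ⟨a, U, fun _ => n, hn₁, aff₁⟩
  have hK : EtPBC.IsConstructible (kernel ψ) :=
    (Strata.constructible_kernel_cokernel ψ 𝒜.constructible hF).1
  have hA : n • 𝟙 𝒜.sum = 0 := 𝒜.nsmul_id_sum n (fun _ => rfl)
  have hKn : n • 𝟙 (kernel ψ) = 0 := nsmul_id_of_mono (kernel.ι ψ) n hA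
  obtain ⟨⟨b, V, n₂, hn₂, aff₂⟩, ψ', hψ'⟩ := exists_epi (N := {n}) (kernel ψ) hK
    (fun Ω _ _ ξ γ => ⟨n, rfl, hn, nsmul_germ_eq_zero _ n hKn ξ γ⟩)
  obtain rfl : n₂ = fun _ => n := funext (fun i => (hn₂ i).1)
  exact ⟨b, a, V, U, aff₂, aff₁, ψ' ≫ kernel.ι ψ, ⟨cokerIso ψ ψ'⟩⟩

end Groth.Agent.S0138
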