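import Groth.Statements.S0139
-- import your own Groth.Agent.* helpers here
import Groth.Agent.Lib.Helper23.ConstrCompact

set_option autoImplicit false
universe u
open CategoryTheory CategoryTheory.Limits AlgebraicGeometry Opposite
open EtPBC

namespace Groth.Agent.S0139

/-- Abelian case: for X quasi-compact and quasi-separated and F a constructible abelian sheaf, Hom(F, -)
commutes with filtered colimits of abelian sheaves on X_et (F is a compact object); stated for
filtered index categories in the universe of X. -/
theorem result (X : Scheme.{u}) [CompactSpace X] [QuasiSeparatedSpace X]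
    (F : EtCoh.Ab X) (hF : EtPBC.IsConstructible F) (J : Type u) [SmallCategory J] [IsFiltered J] :
    PreservesColimitsOfShape J (coyoneda.obj (op F)) := by
  constructor
  intro D
  apply preservesColimit_of_preserves_colimit_cocone (colimit.isColimit D)
  apply Types.FilteredColimit.isColimitOf'
  · intro φ
    obtain ⟨j, ψ, hψ⟩ :=
      Groth.Agent.Lib.Helper23.ConstrCompact.surj_constructible D F hF φ
    exact ⟨j, ψ, hψ.symm⟩
  · intro j ψ ψ' h
    obtain ⟨k, f, hk⟩ :=
      Groth.Agent.Lib.Helper23.ConstrCompact.inj_constructible D F hF ψ ψ' h
    exact ⟨k, f, hk⟩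

end Groth.Agent.S0139
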