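import Groth.Statements.S0145
-- import your own Groth.Agent.* helpers here
import Groth.Agent.Lib.Helper23.ColimConstr2
import Groth.Agent.Lib.Helper23.ConstrSub
import Groth.Agent.S8540

set_option autoImplicit false
universe u
open CategoryTheory CategoryTheory.Limits AlgebraicGeometry Opposite
open EtPBC

namespace Groth.Agent.S0145

open Groth.Agent.Lib.Helper23 Groth.Agent.Lib.Helper23.ColimConstr2

/-- the property: constructible with support in a closed subset of `E` -/
def PP {X : Scheme.{u}} (E : Set X) (G : EtCoh.Ab X) : Prop :=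
  EtPBC.IsConstructible G ∧ ∃ Z : Set X, IsClosed Z ∧ Z ⊆ E ∧ EtPBC.supp G ⊆ Z

lemma good_PP {X : Scheme.{u}} (E : Set X) : ColimConstr.Good (PP E) where
  constr _ h := h.1
  iso e h := by
    obtain ⟨h1, Z, hZ, hη, hs⟩ := h
    exact ⟨Strata.constructible_of_iso e h1, Z, hZ, hη, (supp_subset_of_iso e).trans hs⟩
  zero G h := ⟨ConstrSum.constructible_of_isZero h, ∅, isClosed_empty, Set.empty_subset _, by
    rw [supp_of_isZero h]⟩
  biprod h h' := by
    obtain ⟨h1, Z, hZ, hη, hs⟩ := h
    obtain ⟨h1', Z', hZ', hη', hs'⟩ := h'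
    exact ⟨ConstrSum.constructible_biprod h1 h1', Z ∪ Z', hZ.union hZ', Set.union_subset hη hη',
      (supp_biprod_subset _ _).trans (Set.union_subset_union hs hs')⟩
  coker f h h' := by
    obtain ⟨h1', Z', hZ', hη', hs'⟩ := h'
    exact ⟨(Strata.constructible_kernel_cokernel f h h1').2, Z', hZ', hη',
      (supp_cokernel_subset f).trans hs'⟩

/-- (1): X Noetherian, E a subset of X stable under specialization, F a torsion abelian sheaf on X_et
supported inside E. Then F is a filtered colimit of constructible abelian sheaves each supported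
inside some closed subset contained in E. -/
theorem result (X : Scheme.{u}) [IsNoetherian X]
    (E : Set X) (hE : StableUnderSpecialization E)
    (F : EtCoh.Ab X) (hF : EtCoh.IsTorsion F) (hsupp : EtPBC.supp F ⊆ E) :
    ∃ (J : Type (u + 1)) (_ : SmallCategory J) (_ : IsFiltered J) (D : J ⥤ EtCoh.Ab X)
      (c : Cocone D) (_ : IsColimit c), Nonempty (c.pt ≅ F) ∧
      ∀ j, EtPBC.IsConstructible (D.obj j) ∧
        ∃ Z : Set X, IsClosed Z ∧ Z ⊆ E ∧ EtPBC.supp (D.obj j) ⊆ Z := by
  have hmain := ColimConstr.main F (PP E) (good_PP E) (by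
    intro Ω _ _ ξ γ
    obtain ⟨n, hn, hnγ⟩ := Groth.Agent.S8540.torsion_germ F hF ξ γ
    obtain ⟨W, hW, φ, z, hz⟩ := ShriekPres.exists_gen ξ F γ n hnγ
    have hG : EtPBC.IsConstructible (Limits.image φ) :=
      ConstrSub.constructible_of_epi (factorThruImage φ)
        (ShriekPres.constructible_sh2_Zn W hW n hn)
    have hsub : EtPBC.supp (Limits.image φ) ⊆ E :=
      (supp_subset_of_mono (Limits.image.ι φ)).trans hsupp
    have hc : Topology.IsConstructible (EtPBC.supp (Limits.image φ)) := isConstructible_supp _ hG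
    refine ⟨Limits.image φ, ⟨hG, closure (EtPBC.supp (Limits.image φ)), isClosed_closure,
      ConstrClosure.closure_subset_of_stableUnderSpecialization hc hE hsub, subset_closure⟩,
      Limits.image.ι φ, (EtCoh.stalk ξ).map (factorThruImage φ) z, ?_⟩
    have e : (EtCoh.stalk ξ).map (factorThruImage φ) ≫ (EtCoh.stalk ξ).map (Limits.image.ι φ) =
        (EtCoh.stalk ξ).map φ := by
      rw [← Functor.map_comp, Limits.image.fac]
    exact (congrArg (fun m => (ConcreteCategory.hom m) z) e).trans hz)
  obtain ⟨J, i1, i2, D, c, hc, hD, he⟩ := hmain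
  exact ⟨J, i1, i2, D, c, hc, he, fun j => hD j⟩

end Groth.Agent.S0145
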