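import Groth.Statements.S0161
-- import your own Groth.Agent.* helpers here
import Groth.Agent.Lib.Helper23.FinBC0

set_option autoImplicit false
universe u
open CategoryTheory CategoryTheory.Limits AlgebraicGeometry Opposite
open EtPBC

namespace Groth.Agent.S0161

/-- For a finite morphism f : X -> Y, cohomology commutes with base change: for every cartesian square
and torsion abelian F on X_et and every q, g^* R^q f_* F ≅ R^q f'_* g'^* F (abstract-isomorphism
form). -/
theorem result {X Y : Scheme.{u}} (f : X ⟶ Y) [IsFinite f] [EtCoh.BCCont f] :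
    EtPBC.CohCommutesWithBC f := by
  intro X' Y' f' g' g _ _ _ h F _ q
  have hf' : IsFinite f' := MorphismProperty.of_isPullback h (inferInstance : IsFinite f)
  cases q with
  | zero =>
    have e1 : EtCoh.Rpush f 0 ≅ EtCoh.push f := (EtCoh.push f).rightDerivedZeroIsoSelf
    have e2 : EtCoh.Rpush f' 0 ≅ EtCoh.push f' := (EtCoh.push f').rightDerivedZeroIsoSelf
    have := Groth.Agent.Lib.Helper23.FinBC0.isIso_baseChange0 f g f' g' h F
    exact ⟨(EtCoh.pull g).mapIso (e1.app F) ≪≫ asIso (EtCoh.baseChange0 f g f' g' h.w F) ≪≫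
      (e2.app _).symm⟩
  | succ n =>
    have z1 : IsZero ((EtCoh.Rpush f (n + 1)).obj F) :=
      Groth.Agent.Lib.Helper23.FinPushExact.isZero_rightDerived_of_exact (EtCoh.push f) n F
    have z2 : IsZero ((EtCoh.Rpush f' (n + 1)).obj ((EtCoh.pull g').obj F)) :=
      Groth.Agent.Lib.Helper23.FinPushExact.isZero_rightDerived_of_exact (EtCoh.push f') n _
    have z3 : IsZero ((EtCoh.pull g).obj ((EtCoh.Rpush f (n + 1)).obj F)) :=
      (EtCoh.pull g).map_isZero z1
    exact ⟨z3.iso z2⟩

end Groth.Agent.S0161
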