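import Groth.Statements.S0168
import Groth.Agent.Lib.Helper27.SpecTop9
import Groth.Agent.Lib.helper11.SteinConn1
import Groth.Agent.Lib.lead.HensClopenC

set_option autoImplicit false
universe u
open CategoryTheory CategoryTheory.Limits AlgebraicGeometry Opposite
open EtPBC

namespace Groth.Agent.S0168

/-- For a proper scheme over a henselian pair, the closed part meets the closure of every point
in a connected set. -/
theorem isConnected_inter_closure (A : Type u) [CommRing A] (I : Ideal A) [HenselianRing A I]
    (X : Scheme.{u}) (f : X ⟶ Spec (CommRingCat.of A)) [IsProper f] (x : X) :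
    _root_.IsConnected ((f ⁻¹' PrimeSpectrum.zeroLocus (I : Set A)) ∩ closure {x}) := by
  let T : TopologicalSpace.Closeds X := ⟨closure {x}, isClosed_closure⟩
  let J := Scheme.IdealSheafData.vanishingIdeal T
  let j : J.subscheme ⟶ X := J.subschemeι
  have hr : Set.range j = closure {x} := by
    rw [Scheme.IdealSheafData.range_subschemeι, Scheme.IdealSheafData.coe_support_vanishingIdeal]
    rfl
  have hirr : IsIrreducible (Set.range j) := by
    rw [hr]
    exact isIrreducible_singleton.closure
  haveI : ConnectedSpace J.subscheme := by
    have h1 : _root_.IsConnected (Set.range j) := hirr.isConnected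
    have hne : Nonempty J.subscheme := by
      obtain ⟨_, z, -⟩ := h1.nonempty
      exact ⟨z⟩
    have hpre : PreconnectedSpace J.subscheme := by
      refine ⟨?_⟩
      rw [← j.isEmbedding.isInducing.isPreconnected_image, Set.image_univ]
      exact h1.isPreconnected
    exact { toPreconnectedSpace := hpre, toNonempty := hne }
  haveI : IsProper (j ≫ f) := inferInstance
  have h := Groth.Agent.Lib.helper11.SteinConn.isConnected_preimage_zeroLocus A I (j ≫ f)
  have himg : j '' ((j ≫ f) ⁻¹' PrimeSpectrum.zeroLocus (I : Set A)) =
      (f ⁻¹' PrimeSpectrum.zeroLocus (I : Set A)) ∩ closure {x} := by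
    ext y
    constructor
    · rintro ⟨z, hz, rfl⟩
      refine ⟨?_, ?_⟩
      · simpa using hz
      · rw [← hr]
        exact ⟨z, rfl⟩
    · rintro ⟨hy1, hy2⟩
      rw [← hr] at hy2
      obtain ⟨z, rfl⟩ := hy2
      exact ⟨z, by simpa using hy1, rfl⟩
  rw [← himg]
  exact h.image _ j.continuous.continuousOn

/-- (A, I) a henselian pair, f : X -> Spec A proper, Z ⊆ X the closed subset X x_{Spec A} Spec (A/I)
(the image of the first projection). For any sheaf of sets F on the underlying topological space of
X, restriction Gamma(X, F) -> Gamma(Z, F|_Z) is bijective; written as the global-sections component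
of the unit F -> i_* i^* F for the inclusion i : Z -> X of topological spaces. -/
theorem result (A : Type u) [CommRing A] (I : Ideal A) [HenselianRing A I]
    (X : Scheme.{u}) (f : X ⟶ Spec (CommRingCat.of A)) [IsProper f]
    (F : TopCat.Sheaf (Type u) X.carrier) :
    Function.Bijective
      (((TopCat.Sheaf.pullbackPushforwardAdjunction (Type u)
        (TopCat.ofHom ⟨(Subtype.val :
          (Set.range (pullback.fst f (Spec.map (CommRingCat.ofHom (Ideal.Quotient.mk I))))) → X),
          continuous_subtype_val⟩)).unit.app F).hom.app (op ⊤)) := by
  have hrange : Set.range (pullback.fst f (Spec.map (CommRingCat.ofHom (Ideal.Quotient.mk I)))) =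
      f ⁻¹' PrimeSpectrum.zeroLocus (I : Set A) := by
    rw [Scheme.Pullback.range_fst f _, Groth.Agent.Lib.lead.HensClopen.range_SpecMap_quotient]
  haveI : CompactSpace X := QuasiCompact.compactSpace_of_compactSpace f
  haveI : QuasiSeparatedSpace X := by
    haveI : QuasiSeparated f := inferInstance
    exact (quasiSeparatedSpace_iff_quasiSeparated X).mpr
      (by
        have : QuasiSeparated (f ≫ terminal.from _) := inferInstance
        exact (by
          have e : f ≫ terminal.from _ = terminal.from X := Subsingleton.elim _ _
          rwa [e] at this))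
  haveI : SpectralSpace X.carrier :=
    { toT0Space := inferInstanceAs (T0Space X)
      toCompactSpace := inferInstanceAs (CompactSpace X)
      toQuasiSober := inferInstanceAs (QuasiSober X)
      toQuasiSeparatedSpace := inferInstanceAs (QuasiSeparatedSpace X)
      toPrespectralSpace := inferInstanceAs (PrespectralSpace X) }
  refine Groth.Agent.Lib.Helper27.SpecTop.sections_bijective X.carrier _ ?_ ?_ F
  · rw [hrange]
    exact (PrimeSpectrum.isClosed_zeroLocus _).preimage f.continuous
  · intro x
    rw [hrange]
    exact isConnected_inter_closure A I X f x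

end Groth.Agent.S0168
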