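import Groth.Statements.S0169
-- import your own Groth.Agent.* helpers here
import Groth.Agent.S0084
import Groth.Agent.Lib.Helper23.ShriekGeom2
import Groth.Agent.Lib.Helper23.SplitFinite
import Groth.Agent.Lib.Helper23.ConstrPartition

set_option autoImplicit false
universe u
open CategoryTheory CategoryTheory.Limits AlgebraicGeometry Opposite
open EtPBC

namespace Groth.Agent.S0169

open Groth.Agent.Lib.Helper23

variable {U X : Scheme.{u}} (j : U ⟶ X)

/-- finiteness of the base change is inherited by schemes over the base -/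
lemma finite_comp {T T' : Scheme.{u}} (g : T ⟶ X) (i : T' ⟶ T)
    (h : IsFinite (pullback.snd j g)) : IsFinite (pullback.snd j (i ≫ g)) := by
  let l : pullback j (i ≫ g) ⟶ pullback j g :=
    pullback.lift (pullback.fst j (i ≫ g)) (pullback.snd j (i ≫ g) ≫ i)
      (by rw [pullback.condition, Category.assoc])
  have hbig : IsPullback (pullback.fst j (i ≫ g)) (pullback.snd j (i ≫ g)) j (i ≫ g) :=
    IsPullback.of_hasPullback j (i ≫ g)
  have hright : IsPullback (pullback.fst j g) (pullback.snd j g) j g :=
    IsPullback.of_hasPullback j g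
  have hl1 : l ≫ pullback.fst j g = pullback.fst j (i ≫ g) := pullback.lift_fst _ _ _
  have hl2 : l ≫ pullback.snd j g = pullback.snd j (i ≫ g) ≫ i := pullback.lift_snd _ _ _
  have hbig' : IsPullback (l ≫ pullback.fst j g) (pullback.snd j (i ≫ g)) j (i ≫ g) := by
    rw [hl1]; exact hbig
  have hleft : IsPullback l (pullback.snd j (i ≫ g)) (pullback.snd j g) i :=
    IsPullback.of_right hbig' hl2 hright
  exact MorphismProperty.of_isPullback hleft h

variable [CompactSpace U] [QuasiSeparatedSpace U] [CompactSpace X] [QuasiSeparatedSpace X] [Etale j]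

set_option backward.isDefEq.respectTransparency.types false in
set_option backward.isDefEq.respectTransparency false in
/-- around every point there is a constructible locally closed subscheme over which `j` becomes
finite -/
lemma exists_finite_nbhd (x : X) :
    ∃ (Y : Scheme.{u}) (gY : Y ⟶ X), IsImmersion gY ∧ Topology.IsConstructible (Set.range gY) ∧
      x ∈ Set.range gY ∧ IsFinite (pullback.snd j gY) := by
  haveI : QuasiCompact j := inferInstance
  haveI : QuasiSeparated j := inferInstance
  obtain ⟨Y, gY, hgY, hc, hx, T, r, hr1, hr2, hr3, n, ⟨σ⟩⟩ := ShriekGeom2.exists_split_qc j x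
  refine ⟨Y, gY, hgY, hc, hx, ?_⟩
  haveI := hr1
  haveI := hr2
  haveI := hr3
  have hfin : IsFinite (pullback.fst (r ≫ gY) j) := SplitFinite.isFinite_of_split σ
  have hfin' : IsFinite (pullback.snd j (r ≫ gY)) := by
    have e : pullback.snd j (r ≫ gY) = (pullbackSymmetry j (r ≫ gY)).hom ≫ pullback.fst (r ≫ gY) j :=
      (pullbackSymmetry_hom_comp_fst j (r ≫ gY)).symm
    rw [e]
    infer_instance
  -- the base change square along `r`
  let l : pullback j (r ≫ gY) ⟶ pullback j gY :=
    pullback.lift (pullback.fst j (r ≫ gY)) (pullback.snd j (r ≫ gY) ≫ r)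
      (by rw [pullback.condition, Category.assoc])
  have hl1 : l ≫ pullback.fst j gY = pullback.fst j (r ≫ gY) := pullback.lift_fst _ _ _
  have hl2 : l ≫ pullback.snd j gY = pullback.snd j (r ≫ gY) ≫ r := pullback.lift_snd _ _ _
  have hbig' : IsPullback (l ≫ pullback.fst j gY) (pullback.snd j (r ≫ gY)) j (r ≫ gY) := by
    rw [hl1]; exact IsPullback.of_hasPullback j (r ≫ gY)
  have hleft : IsPullback l (pullback.snd j (r ≫ gY)) (pullback.snd j gY) r :=
    IsPullback.of_right hbig' hl2 (IsPullback.of_hasPullback j gY)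
  have hdesc := Groth.Agent.S0084.result.{u}
  have hfpqc : (@Surjective ⊓ @Flat ⊓ @QuasiCompact : MorphismProperty Scheme.{u}) r :=
    ⟨⟨inferInstance, inferInstance⟩, inferInstance⟩
  exact MorphismProperty.DescendsAlong.of_isPullback (P := @IsFinite) hleft.flip hfpqc hfin'

/-- For j : U -> X an etale morphism of quasi-compact quasi-separated schemes there are finitely many
immersions T_i -> X with pairwise disjoint constructible images covering X such that U x_X T_i ->
T_i is finite (etale) for each i. -/
theorem result {U X : Scheme.{u}} [CompactSpace U] [QuasiSeparatedSpace U]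
    [CompactSpace X] [QuasiSeparatedSpace X] (j : U ⟶ X) [Etale j] :
    ∃ (n : ℕ) (T : Fin n → Scheme.{u}) (g : ∀ i, T i ⟶ X),
      (∀ i, IsImmersion (g i)) ∧ (∀ i, Topology.IsConstructible (Set.range (g i))) ∧
      Pairwise (fun i i' => Disjoint (Set.range (g i)) (Set.range (g i'))) ∧
      (⋃ i, Set.range (g i)) = Set.univ ∧ ∀ i, IsFinite (pullback.snd j (g i)) := by
  obtain ⟨n, T, g, h1, h2, h3, h4, h5⟩ := ConstrPartition.exists_partition
    (fun {T} (g : T ⟶ X) => IsFinite (pullback.snd j g))
    (fun g i _ h => finite_comp j g i h)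
    (fun x => by
      obtain ⟨Y, gY, a1, a2, a3, a4⟩ := exists_finite_nbhd j x
      exact ⟨Y, gY, a1, a2, a3, a4⟩)
  exact ⟨n, T, g, h1, h2, h3, h4, h5⟩

end Groth.Agent.S0169
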