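import Groth.Statements.S0173
-- import your own Groth.Agent.* helpers here
import Groth.Agent.Lib.Helper23.ColimConstr2
import Groth.Agent.Lib.Helper23.FlcConn
import Groth.Agent.S8540
import Groth.Agent.S0134

set_option autoImplicit false
universe u
open CategoryTheory CategoryTheory.Limits AlgebraicGeometry Opposite
open EtPBC

namespace Groth.Agent.S0173

open Groth.Agent.Lib.Helper23 Groth.Agent.Lib.Helper23.ColimConstr2

/-- the property: constructible with support in a closed set missing the generic point -/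
def PP (X : Scheme.{u}) [IrreducibleSpace X] (G : EtCoh.Ab X) : Prop :=
  EtPBC.IsConstructible G ∧ ∃ Z : Set X, IsClosed Z ∧ genericPoint X ∉ Z ∧ EtPBC.supp G ⊆ Z

lemma good_PP (X : Scheme.{u}) [IrreducibleSpace X] : ColimConstr.Good (PP X) where
  constr _ h := h.1
  iso e h := by
    obtain ⟨h1, Z, hZ, hη, hs⟩ := h
    exact ⟨Strata.constructible_of_iso e h1, Z, hZ, hη, (supp_subset_of_iso e).trans hs⟩
  zero G h := ⟨ConstrSum.constructible_of_isZero h, ∅, isClosed_empty, Set.notMem_empty _, by
    rw [supp_of_isZero h]⟩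
  biprod h h' := by
    obtain ⟨h1, Z, hZ, hη, hs⟩ := h
    obtain ⟨h1', Z', hZ', hη', hs'⟩ := h'
    refine ⟨ConstrSum.constructible_biprod h1 h1', Z ∪ Z', hZ.union hZ', ?_, ?_⟩
    · rintro (h | h)
      · exact hη h
      · exact hη' h
    · exact (supp_biprod_subset _ _).trans (Set.union_subset_union hs hs')
  coker f h h' := by
    obtain ⟨h1', Z', hZ', hη', hs'⟩ := h'
    exact ⟨(Strata.constructible_kernel_cokernel f h h1').2, Z', hZ', hη',
      (supp_cokernel_subset f).trans hs'⟩

/-- (1), for X irreducible: X quasi-compact, quasi-separated and irreducible with generic point η, F a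
torsion abelian sheaf on X_et whose stalk over η vanishes. Then F is a filtered colimit of
constructible abelian sheaves each supported in a closed subset not containing η. (The source allows
η to be the generic point of any irreducible component.) -/
theorem result (X : Scheme.{u}) [CompactSpace X] [QuasiSeparatedSpace X]
    [IrreducibleSpace X] (F : EtCoh.Ab X) (hF : EtCoh.IsTorsion F) (hη : genericPoint X ∉ EtPBC.supp F) :
    ∃ (J : Type (u + 1)) (_ : SmallCategory J) (_ : IsFiltered J) (D : J ⥤ EtCoh.Ab X)
      (c : Cocone D) (_ : IsColimit c), Nonempty (c.pt ≅ F) ∧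
      ∀ j, EtPBC.IsConstructible (D.obj j) ∧
        ∃ Z : Set X, IsClosed Z ∧ genericPoint X ∉ Z ∧ EtPBC.supp (D.obj j) ⊆ Z := by
  let η := genericPoint X
  let Ωη := AlgebraicClosure (X.residueField η)
  let ηb : Spec (CommRingCat.of Ωη) ⟶ X := FlcConn.geomPt η
  have hηb : ηb default = η := FlcConn.geomPt_default η
  have hFη : IsZero ((EtCoh.stalk ηb).obj F) :=
    isZero_stalk_of_notMem_supp F ηb (by rw [hηb]; exact hη)
  have hmain := ColimConstr.main F (PP X) (good_PP X) (by
    intro Ω _ _ ξ γ
    obtain ⟨n, hn, hnγ⟩ := Groth.Agent.S8540.torsion_germ F hF ξ γ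
    obtain ⟨W, hW, φ, z, hz⟩ := ShriekPres.exists_gen ξ F γ n hnγ
    obtain ⟨G', hG', π, hπ, a', h1, h2⟩ := exists_kill_stalk ηb
      (Groth.Agent.S0134.good_constructible X) (ShriekPres.constructible_sh2_Zn W hW n hn) φ hFη
    have hηG : η ∉ EtPBC.supp G' := by
      have := notMem_supp G' hG' ηb h2
      rwa [hηb] at this
    have hc : Topology.IsConstructible (EtPBC.supp G') := isConstructible_supp G' hG'
    refine ⟨G', ⟨hG', closure (EtPBC.supp G'), isClosed_closure,
      ConstrClosure.genericPoint_notMem_closure hc hηG, subset_closure⟩, a',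
      (EtCoh.stalk ξ).map π z, ?_⟩
    have e : (EtCoh.stalk ξ).map π ≫ (EtCoh.stalk ξ).map a' = (EtCoh.stalk ξ).map φ := by
      rw [← Functor.map_comp, h1]
    exact (congrArg (fun m => (ConcreteCategory.hom m) z) e).trans hz)
  obtain ⟨J, i1, i2, D, c, hc, hD, he⟩ := hmain
  exact ⟨J, i1, i2, D, c, hc, he, fun j => hD j⟩

end Groth.Agent.S0173
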