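import Groth.Statements.S0175
-- import your own Groth.Agent.* helpers here
import Groth.Agent.Lib.Helper23.EtRecoll
import Groth.Agent.Lib.Helper23.SuppInjective

set_option autoImplicit false
universe u
open CategoryTheory CategoryTheory.Limits AlgebraicGeometry Opposite
open EtPBC

namespace Groth.Agent.S0175

/-- Let i : Z → X be a closed immersion of schemes with open complement j : U → X, and I an injective
abelian sheaf on X_ét. Then the subsheaf H_Z(I) of sections supported on Z (the kernel of I → j_*
j^* I), viewed on Z_ét via i^*, is an injective abelian sheaf on Z_ét. -/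
theorem result {Z X U : Scheme.{u}} (i : Z ⟶ X) [IsClosedImmersion i]
    (j : U ⟶ X) [IsOpenImmersion j] (hZU : Set.range j = (Set.range i)ᶜ)
    [EtCoh.BCCont i] [EtCoh.BCCont j] (I : EtCoh.Ab X) [Injective I] :
    Injective ((EtCoh.pull i).obj (kernel ((EtCoh.pullPushAdj j).unit.app I))) := by
  have hZU' : Set.range j.base = (Set.range i.base)ᶜ := hZU
  obtain ⟨hfull, hfaith⟩ := Groth.Agent.S0067.result i
  have hz : ∀ G : EtCoh.Ab Z, IsZero ((EtCoh.pull j).obj ((EtCoh.push i).obj G)) := fun G =>
    (Groth.Agent.Lib.Helper23.EtRecoll.isZero_restr_push i j hZU' G).of_iso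
      ((Groth.Agent.Lib.Helper23.EtRestr.pullIsoRestr j).app _)
  haveI : PreservesFiniteLimits (EtCoh.pull j) := Groth.Agent.S0101.result j
  have hK0 : IsZero ((EtCoh.pull j).obj (kernel ((EtCoh.pullPushAdj j).unit.app I))) := by
    haveI : IsIso ((EtCoh.pull j).map ((EtCoh.pullPushAdj j).unit.app I)) := by
      have h := (EtCoh.pullPushAdj j).left_triangle_components I
      haveI : IsIso ((EtCoh.pullPushAdj j).counit.app ((EtCoh.pull j).obj I)) :=
        (Groth.Agent.S0651.result j _).1
      haveI : IsIso ((EtCoh.pull j).map ((EtCoh.pullPushAdj j).unit.app I) ≫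
          (EtCoh.pullPushAdj j).counit.app ((EtCoh.pull j).obj I)) := by
        rw [h]; exact IsIso.id _
      exact IsIso.of_isIso_comp_right _ ((EtCoh.pullPushAdj j).counit.app ((EtCoh.pull j).obj I))
    have h0 : (EtCoh.pull j).map (kernel.ι ((EtCoh.pullPushAdj j).unit.app I)) = 0 := by
      rw [← cancel_mono ((EtCoh.pull j).map ((EtCoh.pullPushAdj j).unit.app I)),
        ← Functor.map_comp, kernel.condition, Functor.map_zero, zero_comp]
    exact IsZero.of_mono_eq_zero _ h0
  have hK : IsIso ((EtCoh.pullPushAdj i).unit.app (kernel ((EtCoh.pullPushAdj j).unit.app I))) := by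
    apply Groth.Agent.Lib.Helper23.JointExact.isIso_of (EtShriek.restrAlong j) (EtCoh.pull i)
      (Groth.Agent.Lib.Helper23.EtRecoll.isZero_of_restr_pull i j hZU')
    · have h1 : IsZero ((EtShriek.restrAlong j).obj
          (kernel ((EtCoh.pullPushAdj j).unit.app I))) :=
        hK0.of_iso ((Groth.Agent.Lib.Helper23.EtRestr.pullIsoRestr j).app _).symm
      have h2 := Groth.Agent.Lib.Helper23.EtRecoll.isZero_restr_push i j hZU'
        ((EtCoh.pull i).obj (kernel ((EtCoh.pullPushAdj j).unit.app I)))
      exact ⟨⟨0, h1.eq_of_src _ _, h2.eq_of_src _ _⟩⟩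
    · exact Groth.Agent.Lib.Helper23.EtRecoll.isIso_pull_unit i _
  exact Groth.Agent.Lib.Helper23.SuppInjective.injective_pull_kernel (EtCoh.pullPushAdj i)
    (EtCoh.pullPushAdj j) hz I hK

end Groth.Agent.S0175
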