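import Groth.Statements.S0181
-- import your own Groth.Agent.* helpers here
import Groth.Agent.S0139

set_option autoImplicit false
universe u
open CategoryTheory CategoryTheory.Limits AlgebraicGeometry Opposite
open EtPBC

namespace Groth.Agent.S0181

/-- (2): on a quasi-compact quasi-separated X, if F = colim F_j is a filtered colimit of constructible
abelian sheaves and F is itself constructible, then the ind-object (F_j) is essentially constant
with value F: there are i and s : F -> F_i splitting F_i -> F such that for every j the transition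
F_j -> F_k, for some k beyond i and j, equals F_j -> F -> F_i -> F_k. -/
theorem result (X : Scheme.{u}) [CompactSpace X] [QuasiSeparatedSpace X]
    {J : Type u} [SmallCategory J] [IsFiltered J] (D : J ⥤ EtCoh.Ab X)
    (c : Cocone D) (hc : IsColimit c)
    (hD : ∀ j, EtPBC.IsConstructible (D.obj j)) (hF : EtPBC.IsConstructible c.pt) :
    ∃ (i : J) (s : c.pt ⟶ D.obj i), s ≫ c.ι.app i = 𝟙 c.pt ∧
      ∀ j : J, ∃ (k : J) (a : i ⟶ k) (b : j ⟶ k), D.map b = c.ι.app j ≫ s ≫ D.map a := by
  haveI := Groth.Agent.S0139.result X c.pt hF J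
  have hcol₁ : IsColimit ((coyoneda.obj (op c.pt)).mapCocone c) :=
    isColimitOfPreserves (coyoneda.obj (op c.pt)) hc
  obtain ⟨i, s, hs⟩ := Types.jointly_surjective_of_isColimit hcol₁ (𝟙 c.pt)
  have hs' : s ≫ c.ι.app i = 𝟙 c.pt := hs
  refine ⟨i, s, hs', fun j => ?_⟩
  haveI := Groth.Agent.S0139.result X (D.obj j) (hD j) J
  have hcol₂ : IsColimit ((coyoneda.obj (op (D.obj j))).mapCocone c) :=
    isColimitOfPreserves (coyoneda.obj (op (D.obj j))) hc
  have heq : ((coyoneda.obj (op (D.obj j))).mapCocone c).ι.app i (c.ι.app j ≫ s) =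
      ((coyoneda.obj (op (D.obj j))).mapCocone c).ι.app j (𝟙 (D.obj j)) := by
    change (c.ι.app j ≫ s) ≫ c.ι.app i = 𝟙 (D.obj j) ≫ c.ι.app j
    rw [Category.assoc, hs']
    exact (Category.comp_id (c.ι.app j)).trans (Category.id_comp (c.ι.app j)).symm
  obtain ⟨k, a, b, hk⟩ := (Types.FilteredColimit.isColimit_eq_iff _ hcol₂).1 heq
  have hk' : (c.ι.app j ≫ s) ≫ D.map a = 𝟙 (D.obj j) ≫ D.map b := hk
  refine ⟨k, a, b, ?_⟩
  rw [Category.id_comp, Category.assoc] at hk'
  exact hk'.symm

end Groth.Agent.S0181
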