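import Groth.Statements.S0189
import Groth.Agent.Lib.Helper7.CSACentralizer

set_option autoImplicit false
universe u v w
open scoped TensorProduct
open Curves

namespace Groth.Agent.S0189

/-- Double centralizer: a simple subalgebra of a finite central simple algebra is the centralizer of its
centralizer. -/
theorem result (k : Type u) [Field k] (A : Type v) [Ring A] [Algebra k A]
    [Algebra.IsCentral k A] [IsSimpleRing A] [FiniteDimensional k A]
    (B : Subalgebra k A) [IsSimpleRing B] :
    Subalgebra.centralizer k (Subalgebra.centralizer k (B : Set A) : Set A) = B := by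
  obtain ⟨hCs, hdim⟩ := Groth.Agent.Lib.Helper7.CSA.centralizer_simple_and_finrank k A B
  haveI := hCs
  obtain ⟨-, hdim'⟩ := Groth.Agent.Lib.Helper7.CSA.centralizer_simple_and_finrank k A
    (Subalgebra.centralizer k (B : Set A))
  have hle : B ≤ Subalgebra.centralizer k (Subalgebra.centralizer k (B : Set A) : Set A) := by
    intro b hb
    rw [Subalgebra.mem_centralizer_iff]
    intro c hc
    exact ((Subalgebra.mem_centralizer_iff k).1 hc b hb).symm
  have hCpos : 0 < Module.finrank k (Subalgebra.centralizer k (B : Set A)) := Module.finrank_pos
  have hfin : Module.finrank k B = Module.finrank k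
      (Subalgebra.centralizer k (Subalgebra.centralizer k (B : Set A) : Set A)) := by
    have h1 : Module.finrank k (Subalgebra.centralizer k (B : Set A)) * Module.finrank k B =
        Module.finrank k (Subalgebra.centralizer k (B : Set A)) * Module.finrank k
          (Subalgebra.centralizer k (Subalgebra.centralizer k (B : Set A) : Set A)) := by
      rw [← hdim', hdim, mul_comm]
    exact Nat.eq_of_mul_eq_mul_left hCpos h1
  have hle' : Subalgebra.toSubmodule B ≤ Subalgebra.toSubmodule
      (Subalgebra.centralizer k (Subalgebra.centralizer k (B : Set A) : Set A)) := hle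
  have heq := Submodule.eq_of_le_of_finrank_eq hle' hfin
  exact (Subalgebra.toSubmodule_injective heq).symm

end Groth.Agent.S0189
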