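import Groth.Statements.S0191
import Groth.Agent.Lib.Helper7.CSACore

set_option autoImplicit false
universe u v w
open scoped TensorProduct
open Curves

namespace Groth.Agent.S0191

/-- If K is a skew field with center k, every two-sided ideal of A ⊗ K is generated by the elements a ⊗
1 it contains. -/
theorem result (k : Type u) [Field k] (A : Type v) [Ring A] [Algebra k A]
    (K : Type w) [DivisionRing K] [Algebra k K] [Algebra.IsCentral k K]
    (I : TwoSidedIdeal (A ⊗[k] K)) :
    I = TwoSidedIdeal.span ((fun a : A => a ⊗ₜ[k] (1 : K)) '' {a : A | a ⊗ₜ[k] (1 : K) ∈ I}) := by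
  apply le_antisymm
  · intro x hx
    have h := Groth.Agent.Lib.Helper7.CSA.mem_closure_of_mem_twoSidedIdeal I x hx
    refine AddSubgroup.closure_induction
      (p := fun z _ => z ∈ TwoSidedIdeal.span
        ((fun a : A => a ⊗ₜ[k] (1 : K)) '' {a : A | a ⊗ₜ[k] (1 : K) ∈ I})) ?_ ?_ ?_ ?_ h
    · rintro z ⟨a, c, ha, rfl⟩
      have h1 : a ⊗ₜ[k] c = (a ⊗ₜ[k] (1 : K)) * ((1 : A) ⊗ₜ[k] c) := by
        rw [Algebra.TensorProduct.tmul_mul_tmul, mul_one, one_mul]
      rw [h1]
      exact TwoSidedIdeal.mul_mem_right _ _ _ (TwoSidedIdeal.subset_span ⟨a, ha, rfl⟩)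
    · exact TwoSidedIdeal.zero_mem _
    · intro a b _ _ ha hb; exact TwoSidedIdeal.add_mem _ ha hb
    · intro a _ ha; exact TwoSidedIdeal.neg_mem _ ha
  · rw [TwoSidedIdeal.span_le]
    rintro _ ⟨a, ha, rfl⟩
    exact ha

end Groth.Agent.S0191
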