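import Groth.Statements.S0195
import Groth.Agent.Lib.Helper7.CSASplitting
import Groth.Agent.Lib.Helper7.CSABrauer
import Mathlib.Algebra.Central.Matrix

set_option autoImplicit false
universe u v w
open scoped TensorProduct
open Curves

namespace Groth.Agent.S0195

open Groth.Agent.Lib.Helper7.CSA

section aux

variable (k : Type u) [Field k]

/-- restriction of scalars on endomorphism algebras -/
def endRestrict (K : Type*) [Field K] [Algebra k K] (V : Type*) [AddCommGroup V] [Module K V]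
    [Module k V] [IsScalarTower k K V] : Module.End K V →ₐ[k] Module.End k V where
  toFun f := f.restrictScalars k
  map_one' := rfl
  map_mul' _ _ := rfl
  map_zero' := rfl
  map_add' _ _ := rfl
  commutes' c := by
    ext v
    simp [Module.algebraMap_end_apply]

variable (A : Type u) [Ring A] [Algebra k A] (k' : Type u) [Field k'] [Algebra k k']

/-- the transposed representation of the opposite algebra -/
noncomputable def rho' (r : ℕ) (e : k' ⊗[k] A ≃ₐ[k'] Matrix (Fin r) (Fin r) k') :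
    Aᵐᵒᵖ →ₐ[k] Module.End k (Fin r → k') :=
  (endRestrict k k' (Fin r → k')).comp
    (((Matrix.toLinAlgEquiv' (R := k') (n := Fin r)).toAlgHom.restrictScalars k).comp
      (((Matrix.transposeAlgEquiv (Fin r) k k').symm.toAlgHom).comp
        (AlgHom.op ((e.restrictScalars k).toAlgHom.comp Algebra.TensorProduct.includeRight))))

/-- the module -/
abbrev MM (r : ℕ) (e : k' ⊗[k] A ≃ₐ[k'] Matrix (Fin r) (Fin r) k') : Type u :=
  Rep (rho' k A k' r e)

variable {k A k'} in
noncomputable instance (r : ℕ) (e : k' ⊗[k] A ≃ₐ[k'] Matrix (Fin r) (Fin r) k') :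
    Module k' (MM k A k' r e) := inferInstanceAs (Module k' (Fin r → k'))

variable {k A k'} in
instance (r : ℕ) (e : k' ⊗[k] A ≃ₐ[k'] Matrix (Fin r) (Fin r) k') :
    IsScalarTower k k' (MM k A k' r e) := inferInstanceAs (IsScalarTower k k' (Fin r → k'))

variable {k A k'} in
lemma smul_MM (r : ℕ) (e : k' ⊗[k] A ≃ₐ[k'] Matrix (Fin r) (Fin r) k') (a : Aᵐᵒᵖ)
    (v : MM k A k' r e) :
    (a • v).out = (rho' k A k' r e a) v.out := rfl

variable {k A k'} in
instance (r : ℕ) (e : k' ⊗[k] A ≃ₐ[k'] Matrix (Fin r) (Fin r) k') :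
    SMulCommClass Aᵐᵒᵖ k' (MM k A k' r e) := ⟨fun a c v => by
  apply Rep.out_injective
  change ((Matrix.toLinAlgEquiv' (R := k') (n := Fin r)) _) (c • v.out) =
    c • ((Matrix.toLinAlgEquiv' (R := k') (n := Fin r)) _) v.out
  rw [map_smul]⟩

variable [Algebra.IsCentral k A] [IsSimpleRing A]
  [FiniteDimensional k A] [FiniteDimensional k k']

/-- the forward direction, unbundled -/
theorem forward (r : ℕ) (hr : r ≠ 0) (e : k' ⊗[k] A ≃ₐ[k'] Matrix (Fin r) (Fin r) k') :
    ∃ (X : Type u) (_ : Ring X) (_ : Algebra k X) (_ : Algebra.IsCentral k X)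
      (_ : IsSimpleRing X) (_ : FiniteDimensional k X) (_ : k' →ₐ[k] X) (n m : ℕ),
      n ≠ 0 ∧ m ≠ 0 ∧ Nonempty (Matrix (Fin n) (Fin n) A ≃ₐ[k] Matrix (Fin m) (Fin m) X) ∧
      Module.finrank k X = Module.finrank k k' ^ 2 := by
  classical
  haveI : Nontrivial (MM k A k' r e) := by
    haveI : Nonempty (Fin r) := ⟨⟨0, Nat.pos_of_ne_zero hr⟩⟩
    exact inferInstanceAs (Nontrivial (Fin r → k'))
  let ι : k' →ₐ[k] Module.End Aᵐᵒᵖ (MM k A k' r e) :=
    { toFun := fun c =>
        { toFun := fun v => c • v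
          map_add' := smul_add c
          map_smul' := fun a v => (smul_comm a c v).symm }
      map_one' := by ext v; exact one_smul _ _
      map_mul' := fun c c' => by ext v; exact mul_smul _ _ _
      map_zero' := by ext v; exact zero_smul _ _
      map_add' := fun c c' => by ext v; exact add_smul _ _ _
      commutes' := fun c => by
        ext v
        change algebraMap k k' c • v = c • v
        rw [algebraMap_smul] }
  obtain ⟨hsimple, hfr⟩ := end_simple_and_finrank k Aᵐᵒᵖ (MM k A k' r e)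
  obtain ⟨n, m, hn, hm, ⟨Ψ⟩⟩ := end_brauer k Aᵐᵒᵖ (MM k A k' r e)
  let Ψ' : Matrix (Fin m) (Fin m) (Module.End Aᵐᵒᵖ (MM k A k' r e)) ≃ₐ[k]
      Matrix (Fin n) (Fin n) A :=
    Ψ.trans ((AlgEquiv.opOp k A).symm.mapMatrix (m := Fin n))
  -- dimensions
  have hd : 0 < Module.finrank k k' := Module.finrank_pos
  have h1 : Module.finrank k' (k' ⊗[k] A) = Module.finrank k A := Module.finrank_baseChange
  have h2 : Module.finrank k' (k' ⊗[k] A) = r * r := by
    rw [e.toLinearEquiv.finrank_eq, Module.finrank_matrix]; simp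
  have h3 : Module.finrank k Aᵐᵒᵖ = r * r := by
    rw [← (MulOpposite.opLinearEquiv k).finrank_eq, ← h1, h2]
  have h4 : Module.finrank k (MM k A k' r e) = r * Module.finrank k k' := by
    change Module.finrank k (Fin r → k') = _
    rw [Module.finrank_pi_fintype]; simp
  have hX : Module.finrank k (Module.End Aᵐᵒᵖ (MM k A k' r e)) = Module.finrank k k' ^ 2 := by
    rw [h3, h4] at hfr
    have hr2 : 0 < r * r := Nat.mul_pos (Nat.pos_of_ne_zero hr) (Nat.pos_of_ne_zero hr)
    apply Nat.eq_of_mul_eq_mul_left hr2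
    rw [← hfr]; ring
  have hXpos : 0 < Module.finrank k (Module.End Aᵐᵒᵖ (MM k A k' r e)) := by
    rw [hX]; positivity
  haveI : FiniteDimensional k (Module.End Aᵐᵒᵖ (MM k A k' r e)) :=
    Module.finite_of_finrank_pos hXpos
  haveI : Nonempty (Fin m) := ⟨⟨0, Nat.pos_of_ne_zero hm⟩⟩
  haveI : Algebra.IsCentral k (Module.End Aᵐᵒᵖ (MM k A k' r e)) := isCentral_of_matrix Ψ'.symm
  exact ⟨Module.End Aᵐᵒᵖ (MM k A k' r e), inferInstance, inferInstance, inferInstance, hsimple,
    inferInstance, ι, n, m, hn, hm, ⟨Ψ'.symm⟩, hX⟩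

end aux

/-- A finite extension k' of k splits a finite central simple algebra A exactly when some algebra
similar to A contains k' with dim equal to [k':k]^2. Uses Mathlib's bundled CSA and Brauer
equivalence. -/
theorem result (k : Type u) [Field k] (A : CSA.{u, u} k)
    (k' : Type u) [Field k'] [Algebra k k'] [FiniteDimensional k k'] :
    Curves.Splits k A k' ↔ ∃ (B : CSA.{u, u} k) (_ : k' →ₐ[k] B), IsBrauerEquivalent A B ∧
      Module.finrank k B = Module.finrank k k' ^ 2 := by
  constructor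
  · rintro ⟨r, hr, ⟨e⟩⟩
    obtain ⟨X, _, _, hc, hs, hf, ι, n, m, hn, hm, hΨ, hX⟩ := forward k A k' r hr e
    exact ⟨{ toAlgCat := AlgCat.of k X, isCentral := hc, isSimple := hs, fin_dim := hf }, ι,
      ⟨n, m, hn, hm, hΨ⟩, hX⟩
  · rintro ⟨B, ι, ⟨n, m, hn, hm, ⟨e⟩⟩, hdim⟩
    haveI : NeZero n := ⟨hn⟩
    haveI : Nonempty (Fin n) := ⟨⟨0, Nat.pos_of_ne_zero hn⟩⟩
    haveI : Nonempty (Fin m) := ⟨⟨0, Nat.pos_of_ne_zero hm⟩⟩
    have h1 := splits_matrix_of_subfield k (Matrix (Fin n) (Fin n) A) k' ι hdim (Fin m) e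
    exact splits_of_splits_matrix k A k' (Fin n) h1

end Groth.Agent.S0195
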