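import Groth.Statements.S0197
import Groth.Agent.Lib.Helper7.CSACore
import Mathlib.LinearAlgebra.Matrix.ToLin
import Mathlib.LinearAlgebra.Dimension.Constructions
import Mathlib.LinearAlgebra.Dimension.Free
import Mathlib.FieldTheory.Tower

set_option autoImplicit false
universe u v w
open scoped TensorProduct
open Curves

namespace Groth.Agent.S0197

/-- If a finite central skew field D has dimension d^2, the degree of any finite splitting field of D is
divisible by d. -/
theorem result (k : Type u) [Field k]
    (D : Type u) [DivisionRing D] [Algebra k D] [Algebra.IsCentral k D] [FiniteDimensional k D]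
    (d : ℕ) (hd : Module.finrank k D = d ^ 2)
    (k' : Type u) [Field k'] [Algebra k k'] [FiniteDimensional k k'] (hs : Curves.Splits k D k') :
    d ∣ Module.finrank k k' := by
  classical
  obtain ⟨n, hn, ⟨e⟩⟩ := hs
  -- n = d
  have h1 : Module.finrank k' (k' ⊗[k] D) = Module.finrank k D := Module.finrank_baseChange
  have h2 : Module.finrank k' (k' ⊗[k] D) = n * n := by
    rw [e.toLinearEquiv.finrank_eq, Module.finrank_matrix]; simp
  have hnd : n = d := by
    have : n ^ 2 = d ^ 2 := by rw [← hd, ← h1, h2, pow_two]
    exact Nat.pow_left_injective (by norm_num : 2 ≠ 0) this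
  subst hnd
  -- the representation of D on k'^n
  let ρ : D →ₐ[k] Matrix (Fin n) (Fin n) k' :=
    (e.restrictScalars k).toAlgHom.comp Algebra.TensorProduct.includeRight
  let φ : D →+* Module.End k' (Fin n → k') :=
    (Matrix.toLinAlgEquiv' (R := k') (n := Fin n)).toRingEquiv.toRingHom.comp ρ.toRingHom
  letI : Module D (Fin n → k') := Module.compHom (Fin n → k') φ
  have hsmul : ∀ (x : D) (v : Fin n → k'), x • v = (ρ x).mulVec v := by
    intro x v
    change φ x v = _
    simp [φ]
  haveI : IsScalarTower k D (Fin n → k') := ⟨fun c x v => by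
    rw [hsmul, hsmul, map_smul, Matrix.smul_mulVec]⟩
  have h3 := Module.finrank_mul_finrank k D (Fin n → k')
  have h4 : Module.finrank k (Fin n → k') = n * Module.finrank k k' := by
    rw [Module.finrank_pi_fintype]; simp
  rw [h4, hd, pow_two, mul_assoc] at h3
  have h5 : n * Module.finrank D (Fin n → k') = Module.finrank k k' :=
    Nat.eq_of_mul_eq_mul_left (Nat.pos_of_ne_zero hn) h3
  exact ⟨_, h5.symm⟩

end Groth.Agent.S0197
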