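import Groth.Statements.S0218
import Mathlib

set_option autoImplicit false
universe u
open Curves

namespace Groth.Agent.S0218

open Polynomial

section core

variable {k : Type u} [Field k] {A : Type u} [CommRing A] [Algebra k A]

/-- the key structural statement: a nontrivial algebra generated by any non-scalar element,
containing a non-scalar `b` with `b * b = lam • b`, is `k × k` or the dual numbers. -/
theorem structure_of_basis [Nontrivial A] (b : A) (lam : k) (hb : b ∉ (⊥ : Subalgebra k A))
    (hbb : b * b = lam • b) (hgen : Algebra.adjoin k {b} = ⊤) :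
    Nonempty (A ≃ₐ[k] (k × k)) ∨ Nonempty (A ≃ₐ[k] DualNumber k) := by
  -- every element is `α + β b`
  let S : Subalgebra k A :=
    { carrier := {x | ∃ α β : k, x = algebraMap k A α + β • b}
      mul_mem' := by
        rintro _ _ ⟨α, β, rfl⟩ ⟨α', β', rfl⟩
        refine ⟨α * α', α * β' + β * α' + β * β' * lam, ?_⟩
        simp only [Algebra.smul_def, map_add, map_mul] at hbb ⊢
        linear_combination (algebraMap k A β * algebraMap k A β') * hbb
      add_mem' := by
        rintro _ _ ⟨α, β, rfl⟩ ⟨α', β', rfl⟩
        refine ⟨α + α', β + β', ?_⟩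
        rw [map_add, add_smul]; abel
      algebraMap_mem' := fun r => ⟨r, 0, by simp⟩ }
  have hbS : b ∈ S := ⟨0, 1, by simp⟩
  have hS : S = ⊤ := by
    rw [eq_top_iff, ← hgen]
    exact Algebra.adjoin_le (Set.singleton_subset_iff.2 hbS)
  have hspan : ∀ x : A, ∃ α β : k, x = algebraMap k A α + β • b := by
    intro x
    have : x ∈ S := by rw [hS]; exact Algebra.mem_top
    exact this
  have hinj0 : Function.Injective (algebraMap k A) := (algebraMap k A).injective
  have hindep : ∀ α β : k, algebraMap k A α + β • b = 0 → α = 0 ∧ β = 0 := by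
    intro α β h0
    have hβ : β = 0 := by
      by_contra hβ
      apply hb
      rw [Algebra.mem_bot]
      refine ⟨-(β⁻¹ * α), ?_⟩
      have : β • b = -algebraMap k A α := eq_neg_of_add_eq_zero_right h0
      have hb' : b = β⁻¹ • (β • b) := by rw [smul_smul, inv_mul_cancel₀ hβ, one_smul]
      rw [hb', this, map_neg, map_mul, Algebra.smul_def, mul_neg]
    refine ⟨?_, hβ⟩
    rw [hβ, zero_smul, add_zero] at h0
    exact hinj0 (by rw [h0, map_zero])
  by_cases hlam : lam = 0
  · -- dual numbers
    right
    have hb2 : b * b = 0 := by rw [hbb, hlam, zero_smul]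
    let φ : DualNumber k →ₐ[k] A :=
      DualNumber.lift ⟨(Algebra.ofId k A, b), hb2, fun _ => Commute.all _ _⟩
    have hφ : ∀ x : DualNumber k, φ x = algebraMap k A x.fst + x.snd • b := by
      intro x
      change Algebra.ofId k A x.fst + Algebra.ofId k A x.snd * b = _
      rw [Algebra.ofId_apply, Algebra.ofId_apply, Algebra.smul_def]
    have hbij : Function.Bijective φ := by
      constructor
      · rw [injective_iff_map_eq_zero]
        intro x hx
        rw [hφ] at hx
        obtain ⟨h1, h2⟩ := hindep _ _ hx
        exact TrivSqZeroExt.ext h1 h2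
      · intro x
        obtain ⟨α, β, rfl⟩ := hspan x
        refine ⟨TrivSqZeroExt.inl α + TrivSqZeroExt.inr β, ?_⟩
        rw [hφ]
        simp
    exact ⟨(AlgEquiv.ofBijective φ hbij).symm⟩
  · left
    set e : A := lam⁻¹ • b with he
    have hee : e * e = e := by
      rw [he, smul_mul_smul_comm, hbb, smul_smul]
      congr 1
      field_simp
    have he1 : (1 - e) * (1 - e) = 1 - e := by
      have : (1 - e) * (1 - e) = 1 - e - e + e * e := by ring
      rw [this, hee]; ring
    have he0 : (1 - e) * e = 0 := by
      have : (1 - e) * e = e - e * e := by ring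
      rw [this, hee, sub_self]
    let f : k × k →ₗ[k] A :=
      (LinearMap.fst k k k).smulRight (1 - e) + (LinearMap.snd k k k).smulRight e
    have hf : ∀ x : k × k, f x = x.1 • (1 - e) + x.2 • e := fun x => rfl
    let φ : k × k →ₐ[k] A := AlgHom.ofLinearMap f
      (by rw [hf]; simp)
      (by
        intro x y
        rw [hf, hf, hf]
        have : (x.1 • (1 - e) + x.2 • e) * (y.1 • (1 - e) + y.2 • e) =
            (x.1 * y.1) • ((1 - e) * (1 - e)) + (x.1 * y.2 + x.2 * y.1) • ((1 - e) * e)
              + (x.2 * y.2) • (e * e) := by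
          simp only [add_mul, mul_add, smul_mul_smul_comm, add_smul]
          rw [mul_comm e (1 - e)]
          rw [mul_comm x.2 y.1]
          abel
        rw [this, he1, he0, hee, smul_zero, add_zero]
        rfl)
    have hφ : ∀ x : k × k, φ x = x.1 • (1 - e) + x.2 • e := fun x => rfl
    have hbe : b = lam • e := by rw [he, smul_smul, mul_inv_cancel₀ hlam, one_smul]
    have hbij : Function.Bijective φ := by
      constructor
      · rw [injective_iff_map_eq_zero]
        intro x hx
        rw [hφ] at hx
        have : algebraMap k A x.1 + ((x.2 - x.1) * lam⁻¹) • b = 0 := by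
          simp only [he, Algebra.smul_def, map_sub, map_mul] at hx ⊢
          linear_combination hx
        obtain ⟨h1, h2⟩ := hindep _ _ this
        have h3 : x.2 - x.1 = 0 := by
          rcases mul_eq_zero.1 h2 with h | h
          · exact h
          · exact absurd (inv_eq_zero.1 h) hlam
        ext
        · exact h1
        · rw [sub_eq_zero] at h3; rw [h3]; exact h1
      · intro x
        obtain ⟨α, β, rfl⟩ := hspan x
        refine ⟨(α, α + β * lam), ?_⟩
        rw [hφ, hbe]
        simp only [Algebra.algebraMap_eq_smul_one, smul_sub, add_smul, mul_smul]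
        abel
    exact ⟨(AlgEquiv.ofBijective φ hbij).symm⟩

end core


/-- Over an algebraically closed field k, a commutative k-algebra with exactly two k-subalgebras is
isomorphic to k × k or to the dual numbers over k. -/
theorem result (k : Type u) [Field k] [IsAlgClosed k] (A : Type u) [CommRing A] [Algebra k A]
    (h : Nat.card (Subalgebra k A) = 2) :
    Nonempty (A ≃ₐ[k] (k × k)) ∨ Nonempty (A ≃ₐ[k] DualNumber k) := by
  classical
  have hne : (⊥ : Subalgebra k A) ≠ ⊤ := by
    intro heq
    have hsub : Subsingleton (Subalgebra k A) := ⟨fun S T => by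
      have hS : S = ⊥ := le_antisymm (heq ▸ le_top) bot_le
      have hT : T = ⊥ := le_antisymm (heq ▸ le_top) bot_le
      rw [hS, hT]⟩
    have := Nat.card_of_subsingleton (⊥ : Subalgebra k A)
    omega
  have hall : ∀ S : Subalgebra k A, S ≠ ⊥ → S = ⊤ := by
    intro S hS
    obtain ⟨y, hy, huniq⟩ := (Nat.card_eq_two_iff' (⊥ : Subalgebra k A)).1 h
    rw [huniq S hS, huniq ⊤ (Ne.symm hne)]
  haveI : Nontrivial A := by
    by_contra hnt
    rw [not_nontrivial_iff_subsingleton] at hnt
    apply hne
    ext x
    simp only [Algebra.mem_top, iff_true]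
    rw [Subsingleton.elim x 0]
    exact Subalgebra.zero_mem _
  have hgen : ∀ b : A, b ∉ (⊥ : Subalgebra k A) → Algebra.adjoin k {b} = ⊤ := by
    intro b hb
    apply hall
    intro hbot
    apply hb
    rw [← hbot]
    exact Algebra.subset_adjoin (Set.mem_singleton b)
  obtain ⟨a, ha⟩ : ∃ a : A, a ∉ (⊥ : Subalgebra k A) := by
    by_contra hcon
    push_neg at hcon
    exact hne (le_antisymm bot_le (fun x _ => hcon x))
  -- a is integral
  have hint : IsIntegral k a := by
    by_cases ha2 : a ^ 2 ∈ (⊥ : Subalgebra k A)
    · rw [Algebra.mem_bot] at ha2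
      obtain ⟨c, hc⟩ := ha2
      refine ⟨X ^ 2 - C c, monic_X_pow_sub_C c (by norm_num), ?_⟩
      rw [← aeval_def]
      simp [hc]
    · have htop := hgen _ ha2
      have hmem : a ∈ Algebra.adjoin k {a ^ 2} := by rw [htop]; exact Algebra.mem_top
      rw [Algebra.adjoin_singleton_eq_range_aeval] at hmem
      obtain ⟨p, hp⟩ := hmem
      have hp' : aeval (a ^ 2) p = a := hp
      have hq : aeval a (expand k 2 p - X) = 0 := by
        rw [map_sub, expand_aeval, aeval_X, hp', sub_self]
      have hq0 : expand k 2 p - X ≠ 0 := by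
        intro h0
        have := congrArg (fun q => q.coeff 1) h0
        simp only [coeff_sub, coeff_X_one, coeff_zero] at this
        rw [coeff_expand (by norm_num)] at this
        norm_num at this
      exact (IsAlgebraic.isIntegral ⟨_, hq0, hq⟩)
  -- a root of the minimal polynomial
  obtain ⟨c, hc⟩ := IsAlgClosed.exists_root (minpoly k a) (minpoly.degree_pos hint).ne'
  set g := minpoly k a /ₘ (X - C c) with hg
  have hfg : (X - C c) * g = minpoly k a := mul_divByMonic_eq_iff_isRoot.2 hc
  set b := aeval a g with hb
  have hab : (a - algebraMap k A c) * b = 0 := by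
    have := minpoly.aeval k a
    rw [← hfg, map_mul, map_sub, aeval_X, aeval_C] at this
    exact this
  have hg0 : g ≠ 0 := by
    intro h0
    rw [h0, mul_zero] at hfg
    exact minpoly.ne_zero hint hfg.symm
  have hb0 : b ≠ 0 := by
    intro h0
    have hle := minpoly.degree_le_of_ne_zero k a hg0 h0
    rw [← hfg, degree_mul, degree_X_sub_C] at hle
    have hdeg : g.degree = (g.natDegree : WithBot ℕ) := degree_eq_natDegree hg0
    rw [hdeg] at hle
    have h1 : (1 : WithBot ℕ) + (g.natDegree : WithBot ℕ) ≤ (g.natDegree : WithBot ℕ) := hle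
    have h2 : 1 + g.natDegree ≤ g.natDegree := by exact_mod_cast h1
    omega
  have hbbot : b ∉ (⊥ : Subalgebra k A) := by
    intro hmem
    rw [Algebra.mem_bot] at hmem
    obtain ⟨μ, hμ⟩ := hmem
    have hμ0 : μ ≠ 0 := by
      intro h0; rw [h0, map_zero] at hμ; exact hb0 hμ.symm
    apply ha
    rw [Algebra.mem_bot]
    refine ⟨c, ?_⟩
    rw [← hμ] at hab
    have : (a - algebraMap k A c) * (algebraMap k A μ * algebraMap k A μ⁻¹) = 0 := by
      rw [← mul_assoc, hab, zero_mul]
    rw [← map_mul, mul_inv_cancel₀ hμ0, map_one, mul_one, sub_eq_zero] at this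
    exact this.symm
  have hbb : b * b = (g.eval c) • b := by
    have hdecomp := modByMonic_add_div g (X - C c)
    rw [modByMonic_X_sub_C_eq_C_eval] at hdecomp
    have hb' : b = algebraMap k A (g.eval c) +
        (a - algebraMap k A c) * aeval a (g /ₘ (X - C c)) := by
      rw [hb]
      conv_lhs => rw [← hdecomp]
      rw [map_add, map_mul, map_sub, aeval_X, aeval_C, aeval_C]
    calc b * b = (algebraMap k A (g.eval c) +
          (a - algebraMap k A c) * aeval a (g /ₘ (X - C c))) * b := by rw [← hb']
      _ = algebraMap k A (g.eval c) * b +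
          ((a - algebraMap k A c) * b) * aeval a (g /ₘ (X - C c)) := by ring
      _ = (g.eval c) • b := by rw [hab, zero_mul, add_zero, Algebra.smul_def]
  exact structure_of_basis b (g.eval c) hbbot hbb (hgen b hbbot)

end Groth.Agent.S0218
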