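import Groth.Statements.S0219
import Groth.Agent.Lib.Helper13.FiniteFibres

set_option autoImplicit false
universe u
open CategoryTheory CategoryTheory.Limits AlgebraicGeometry TopologicalSpace
open Curves

namespace Groth.Agent.S0219

/-- A morphism over a field from a proper scheme of dimension at most one to a separated scheme, which
does not contract any one-dimensional irreducible component to a point, is finite. -/
theorem result (k : Type u) [Field k] (X Y : Scheme.{u}) (p : X ⟶ Spec (CommRingCat.of k)) (q : Y ⟶ Spec (CommRingCat.of k))
    [IsProper p] [IsSeparated q] (f : X ⟶ Y) (hf : f ≫ q = p) (hdim : topologicalKrullDim X ≤ 1)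
    (h : ∀ Z ∈ irreducibleComponents (X : Type u), topologicalKrullDim Z = 1 → (f.base '' Z).Nontrivial) :
    IsFinite f := by
  haveI : IsProper (f ≫ q) := by rw [hf]; infer_instance
  haveI : IsProper f := IsProper.of_comp f q
  haveI : IsLocallyNoetherian X := LocallyOfFiniteType.isLocallyNoetherian p
  haveI : CompactSpace X := QuasiCompact.compactSpace_of_compactSpace p
  haveI : IsNoetherian X := { }
  refine Groth.Agent.Lib.Helper13.FiniteFibres.isFinite_of_isProper f hdim ?_
  intro Z hZ hsub
  by_contra hns
  rw [Set.not_subsingleton_iff] at hns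
  have h1 : 1 ≤ topologicalKrullDim Z :=
    Groth.Agent.Lib.Helper13.FiniteFibres.one_le_topologicalKrullDim_of_nontrivial Z hZ.1 hns
  have h2 : topologicalKrullDim Z ≤ 1 := (topologicalKrullDim_subspace_le X Z).trans hdim
  exact (Set.not_subsingleton_iff.mpr (h Z hZ (le_antisymm h2 h1))) hsub

end Groth.Agent.S0219
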