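import Groth.Statements.S0235
import Groth.Agent.S19022

set_option autoImplicit false
universe u
open CategoryTheory CategoryTheory.Limits AlgebraicGeometry
open Curves

namespace Groth.Agent.S0235

open Groth.Agent.Lib.Helper28.QCohLoc Groth.Agent.Lib.Helper29.QCohStalk Groth.Agent.Lib.Helper29.FreeIso

theorem not_specializes_of_isDiscrete {X : Type*} [TopologicalSpace X] {S : Set X} (hS : _root_.IsDiscrete S)
    {z w : X} (hz : z ∈ S) (hw : w ∈ S) (hzw : z ≠ w) : ¬ (w ⤳ z) := by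
  intro h
  haveI : DiscreteTopology S := hS.to_subtype
  have hopen : IsOpen ({⟨z, hz⟩} : Set S) := isOpen_discrete _
  obtain ⟨O, hO, hOS⟩ := isOpen_induced_iff.1 hopen
  have hzO : z ∈ O := by
    have : (⟨z, hz⟩ : S) ∈ Subtype.val ⁻¹' O := by rw [hOS]; rfl
    exact this
  have hwO : w ∈ O := h.mem_open hO hzO
  have : (⟨w, hw⟩ : S) ∈ ({⟨z, hz⟩} : Set S) := by rw [← hOS]; exact hwO
  exact hzw (congrArg Subtype.val (Set.mem_singleton_iff.1 this)).symm

/-- For a finite morphism π : X → Y and an invertible module L on X, every point y of Y has an open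
neighbourhood V such that L is trivial on the preimage of V. -/
theorem result {X Y : Scheme.{u}} (π : X ⟶ Y) [IsFinite π]
    (L : X.Modules) (hL : PicF.IsInvertible L) (y : Y) :
    ∃ V : Y.Opens, y ∈ V ∧ Nonempty (L.restrict (π ⁻¹ᵁ V).ι ≅ Coh.structureModule (↑(π ⁻¹ᵁ V))) := by
  classical
  obtain ⟨V₀, hV₀, hyV₀, -⟩ := (TopologicalSpace.Opens.isBasis_iff_nbhd.1 Y.isBasis_affineOpens) (show y ∈ (⊤ : Y.Opens) from trivial)
  have hU₀ : IsAffineOpen (π ⁻¹ᵁ V₀) := hV₀.preimage π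
  have hfin : (π ⁻¹' {y}).Finite := IsFinite.finite_preimage_singleton π y
  have hdisc : _root_.IsDiscrete (π ⁻¹' {y}) := π.isDiscrete_preimage_singleton y
  let T : Finset X := hfin.toFinset
  have hT : ∀ x, x ∈ T ↔ π x = y := fun x => by
    rw [Set.Finite.mem_toFinset]; rfl
  have hTV : ∀ z ∈ T, z ∈ π ⁻¹ᵁ V₀ := by
    intro z hz
    show π z ∈ V₀
    rw [(hT z).1 hz]; exact hyV₀
  have hinc : ∀ z ∈ T, ∀ w ∈ T, z ≠ w → ¬ (w ⤳ z) := by
    intro z hz w hw hzw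
    exact not_specializes_of_isDiscrete hdisc ((hT z).1 hz) ((hT w).1 hw) hzw
  have hL1 : FlatMod.IsFinLocFreeOfRank 1 L := by
    intro y
    obtain ⟨U, hyU, ⟨e⟩⟩ := hL y
    exact ⟨U, hyU, ⟨e ≪≫ (coproductUniqueIso (fun _ : Fin 1 => Coh.structureModule (↑U : Scheme.{u}))).symm⟩⟩
  obtain ⟨σ, f, hf⟩ := exists_isBasisOn_nhds_of_finset L hL1 hU₀ T hTV hinc
  obtain ⟨g, hgT, hgle⟩ := Groth.Agent.S19022.exists_basicOpen_le_iSup hU₀ T hTV hinc f (fun z hz => (hf z hz).1)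
  have hbasis := isBasisOn_iSup L (fun z : {z // z ∈ T} => X.basicOpen (f z.1))
    (fun z => X.basicOpen_le (f z.1)) σ (fun z => (hf z.1 z.2).2)
  have hB := hbasis.mono hgle
  -- the open neighbourhood of y
  have hclosed : IsClosed (π '' ((X.basicOpen g : Set X)ᶜ)) :=
    π.isClosedMap _ (X.basicOpen g).2.isClosed_compl
  let V : Y.Opens := ⟨(π '' ((X.basicOpen g : Set X)ᶜ))ᶜ, hclosed.isOpen_compl⟩
  have hyV : y ∈ V := by
    rintro ⟨x, hx, hxy⟩
    exact hx (hgT x ((hT x).2 hxy))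
  have hle : π ⁻¹ᵁ V ≤ X.basicOpen g := by
    intro x hx
    by_contra hxg
    exact hx ⟨x, hxg, rfl⟩
  obtain ⟨e⟩ := (hB.mono hle).nonempty_iso
  exact ⟨V, hyV, ⟨e ≪≫ coproductUniqueIso (fun _ : Fin 1 => Coh.structureModule (↑(π ⁻¹ᵁ V) : Scheme.{u}))⟩⟩



end Groth.Agent.S0235
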