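import Groth.Statements.S0237
import Groth.Agent.Lib.Helper13.FEtFaithful

set_option autoImplicit false
universe u
open Pi1

namespace Groth.Agent.S0237

open AlgebraicGeometry CategoryTheory in
/-- If a morphism of schemes has dense image, pulling back finite etale covers along it is faithful. -/
theorem result {X Y : Scheme.{u}} (f : X ⟶ Y)
    (h : DenseRange f.base) : (FEt.restrict f).Faithful := by
  constructor
  intro Z Z' φ ψ hφψ
  have h1 : Limits.pullback.fst Z.hom f ≫ φ.left = Limits.pullback.fst Z.hom f ≫ ψ.left := by
    have := congrArg (fun k => k.left ≫ Limits.pullback.fst Z'.hom f) hφψ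
    simp only [FEt.restrict, MorphismProperty.Over.pullback_map_left] at this
    exact (Limits.pullback.lift_fst _ _ _).symm.trans (this.trans (Limits.pullback.lift_fst _ _ _))
  haveI : IsFinite Z'.hom := Z'.prop.1
  haveI : Etale Z'.hom := Z'.prop.2
  haveI : Etale Z.hom := Z.prop.2
  have hdense : DenseRange (Limits.pullback.fst Z.hom f).base := by
    rw [DenseRange, Scheme.Pullback.range_fst]
    exact Dense.preimage h Z.hom.isOpenMap
  have h2 : φ.left = ψ.left :=
    Groth.Agent.Lib.Helper13.FEtFaithful.ext_of_denseRange_of_isOpenImmersion_diagonal Z'.hom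
      (by rw [Over.w φ.hom, Over.w ψ.hom]) (Limits.pullback.fst Z.hom f) hdense h1
  ext
  exact h2

end Groth.Agent.S0237
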