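import Groth.Statements.S0238
import Groth.Agent.Lib.Helper15.EtThickFin
-- import your own Groth.Agent.* helpers here

set_option autoImplicit false
universe u
open Pi1

namespace Groth.Agent.S0238

section H
namespace W1
open Groth.Agent.Lib.Helper15 CategoryTheory CategoryTheory.Limits AlgebraicGeometry Opposite
set_option backward.isDefEq.respectTransparency.types false

variable {S S₀ : Scheme.{u}} (i : S₀ ⟶ S) [IsClosedImmersion i] [Surjective i]
  (P : MorphismProperty Scheme.{u}) [P.IsStableUnderBaseChange] (hP : P ≤ @Etale)

include hP in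
theorem faithful_pullback : (MorphismProperty.Over.pullback P ⊤ i).Faithful := by
  constructor
  intro X Y φ ψ h
  have hY : Etale Y.hom := hP _ Y.prop
  have h1 := congrArg (fun θ => θ.left ≫ pullback.fst Y.hom i) h
  simp only [MorphismProperty.Over.pullback, MorphismProperty.Over.homMk_hom,
    Over.homMk_left, pullback.lift_fst] at h1
  apply MorphismProperty.Over.Hom.ext
  exact Groth.Agent.S0117.W.inj Y.hom (pullback.fst X.hom i) φ.left ψ.left
    (by rw [MorphismProperty.Over.w, MorphismProperty.Over.w]) h1

include hP in
theorem full_pullback : (MorphismProperty.Over.pullback P ⊤ i).Full := by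
  constructor
  intro X Y θ
  have hY : Etale Y.hom := hP _ Y.prop
  let a : pullback X.hom i ⟶ pullback Y.hom i := θ.left
  have hθ : a ≫ pullback.snd Y.hom i = pullback.snd X.hom i := MorphismProperty.Over.w θ
  have hcomm : (a ≫ pullback.fst Y.hom i) ≫ Y.hom = pullback.fst X.hom i ≫ X.hom := by
    rw [Category.assoc, pullback.condition, ← Category.assoc, hθ, ← pullback.condition]
  obtain ⟨φ, hφ1, hφ2⟩ := Groth.Agent.S0117.W.surj Y.hom X.hom (pullback.fst X.hom i)
    (a ≫ pullback.fst Y.hom i) hcomm
  refine ⟨MorphismProperty.Over.homMk φ hφ1, ?_⟩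
  apply MorphismProperty.Over.Hom.ext
  apply pullback.hom_ext
  · simp only [MorphismProperty.Over.pullback, MorphismProperty.Over.homMk_hom,
      Over.homMk_left, pullback.lift_fst]
    exact hφ2
  · simp only [MorphismProperty.Over.pullback, MorphismProperty.Over.homMk_hom,
      Over.homMk_left, pullback.lift_snd]
    exact hθ.symm

theorem essSurj_restrict : (FEt.restrict i).EssSurj := by
  constructor
  intro U₀
  have h1 : IsFinite U₀.hom := U₀.prop.1
  have h2 : Etale U₀.hom := U₀.prop.2
  obtain ⟨U, j, g, hg, sq⟩ := EtThickGlue.exists_lift i U₀.hom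
  have hfin : IsFinite g := EtThickFin.isFinite_of_isLift i ⟨hg, sq⟩
  refine ⟨MorphismProperty.Over.mk ⊤ g ⟨hfin, hg⟩, ⟨?_⟩⟩
  exact MorphismProperty.Over.isoMk sq.isoPullback.symm sq.isoPullback_inv_snd

theorem main : (FEt.restrict i).IsEquivalence := by
  have h1 : (FEt.restrict i).Faithful := faithful_pullback i _ (fun _ _ _ h => h.2)
  have h2 : (FEt.restrict i).Full := full_pullback i _ (fun _ _ _ h => h.2)
  have h3 := essSurj_restrict i
  exact { }

end W1
end H


open AlgebraicGeometry CategoryTheory CategoryTheory.Limits in
/-- For a thickening, i.e. a closed immersion which is surjective on points, pulling back finite etale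
covers is an equivalence of categories. -/
theorem result {X X' : Scheme.{u}} (i : X ⟶ X') [IsClosedImmersion i] [Surjective i] :
    (FEt.restrict i).IsEquivalence := by
  exact W1.main i

end Groth.Agent.S0238
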