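import Groth.Statements.S0243
import Groth.Agent.Lib.Helper9.FEtFaithful

set_option autoImplicit false
universe u
open Pi1

namespace Groth.Agent.S0243

open AlgebraicGeometry CategoryTheory CategoryTheory.Limits in
/-- If a closed subscheme meets every connected component of the ambient scheme, restricting finite
etale covers to it is a faithful functor. -/
theorem result {X Y : Scheme.{u}} (i : Y ⟶ X) [IsClosedImmersion i]
    (h : ∀ x : X, (connectedComponent x ∩ Set.range i.base).Nonempty) :
    (FEt.restrict i).Faithful := by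
  apply Groth.Agent.Lib.Helper9.FEtFaithful.faithful_restrict_of
  intro A E hE hsub
  have hA : IsFinite A.hom ∧ Etale A.hom := A.prop
  haveI := hA.1
  haveI := hA.2
  by_contra hne
  have hD : (Eᶜ).Nonempty := by
    rw [Set.nonempty_compl]; exact hne
  have hC : IsClopen (A.hom.base '' Eᶜ) :=
    ⟨A.hom.isClosedMap _ hE.compl.isClosed, A.hom.isOpenMap _ hE.compl.isOpen⟩
  obtain ⟨x, hx⟩ := hD.image A.hom.base
  obtain ⟨y, hy1, hy2⟩ := h x
  have hy3 : y ∈ A.hom.base '' Eᶜ := hC.connectedComponent_subset hx hy1
  obtain ⟨d, hd, rfl⟩ := hy3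
  exact hd (hsub hy2)

end Groth.Agent.S0243
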