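import Groth.Statements.S0244
import Groth.Agent.Lib.Helper13.FEtNormal
import Groth.Agent.Lib.Helper9.FEtFaithful

set_option autoImplicit false
universe u
open Pi1

namespace Groth.Agent.S0244

open AlgebraicGeometry CategoryTheory CategoryTheory.Limits in
/-- Let X be a normal integral scheme and U ⊆ X a nonempty open subscheme. Then the restriction functor
from finite étale covers of X to finite étale covers of U is full and faithful. -/
theorem result {X : Scheme.{u}} [IsIntegral X] (hX : Pi1.IsNormalScheme X) (U : X.Opens)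
    (hU : (U : Set X).Nonempty) : (FEt.restrict U.ι).Full ∧ (FEt.restrict U.ι).Faithful := by
  have hUd : Dense (U : Set X) := U.isOpen.dense hU
  have hXic : ∀ x : X, IsIntegrallyClosed (X.presheaf.stalk x) := fun x => (hX x).2
  constructor
  · refine ⟨fun {A B} χ => ?_⟩
    have hA : IsFinite A.hom ∧ Etale A.hom := A.prop
    have hB : IsFinite B.hom ∧ Etale B.hom := B.prop
    haveI := hA.1
    haveI := hA.2
    haveI := hB.1
    haveI := hB.2
    let W : A.left.Opens := A.hom ⁻¹ᵁ U
    have hWd : Dense (W : Set A.left) := hUd.preimage A.hom.isOpenMap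
    let e := pullbackRestrictIsoRestrict A.hom U
    obtain ⟨χl, hχl⟩ : ∃ χl : pullback A.hom U.ι ⟶ pullback B.hom U.ι, χl = χ.left := ⟨χ.left, rfl⟩
    have hχw : χl ≫ pullback.snd B.hom U.ι = pullback.snd A.hom U.ι := by
      rw [hχl]
      exact MorphismProperty.Over.w χ
    let χ' : (W : Scheme.{u}) ⟶ B.left := e.inv ≫ χl ≫ pullback.fst B.hom U.ι
    have hχ' : χ' ≫ B.hom = W.ι ≫ A.hom := by
      change (e.inv ≫ χl ≫ pullback.fst B.hom U.ι) ≫ B.hom = W.ι ≫ A.hom
      rw [Category.assoc, Category.assoc, pullback.condition, ← Category.assoc χl, hχw,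
        ← pullback.condition, ← Category.assoc, pullbackRestrictIsoRestrict_inv_fst]
    obtain ⟨φ, hφ, hWφ⟩ := Groth.Agent.Lib.Helper13.FEtNormal.exists_hom_extension hXic A.hom B.hom
      W hWd χ' hχ'
    refine ⟨MorphismProperty.Over.homMk φ hφ trivial, ?_⟩
    apply MorphismProperty.Over.Hom.ext
    rw [← hχl]
    simp only [FEt.restrict, MorphismProperty.Over.pullback_map_left]
    apply pullback.hom_ext
    · rw [pullback.lift_fst]
      change pullback.fst A.hom U.ι ≫ φ = _
      rw [← pullbackRestrictIsoRestrict_hom_ι, Category.assoc, hWφ]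
      change e.hom ≫ e.inv ≫ χl ≫ pullback.fst B.hom U.ι = _
      rw [Iso.hom_inv_id_assoc]
    · rw [pullback.lift_snd, hχw]
  · apply Groth.Agent.Lib.Helper9.FEtFaithful.faithful_restrict_of
    intro A E hE hsub
    have hA : IsFinite A.hom ∧ Etale A.hom := A.prop
    haveI := hA.1
    haveI := hA.2
    have hd : Dense (A.hom ⁻¹' (Set.range U.ι)) := by
      rw [Scheme.Opens.range_ι]
      exact hUd.preimage A.hom.isOpenMap
    have := (hd.mono hsub).closure_eq
    rwa [hE.isClosed.closure_eq] at this

end Groth.Agent.S0244
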