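import Groth.Statements.S0245
import Groth.Agent.Lib.Helper13.FEtGeneric

set_option autoImplicit false
universe u
open Pi1

namespace Groth.Agent.S0245

open AlgebraicGeometry CategoryTheory CategoryTheory.Limits in
/-- For a normal integral scheme X, restricting finite étale covers of X along the canonical morphism
from the spectrum of the local ring at the generic point (the spectrum of the function field) is a
full and faithful functor. -/
theorem result {X : Scheme.{u}} [IsIntegral X] (hX : Pi1.IsNormalScheme X) :
    (FEt.restrict (X.fromSpecStalk (genericPoint X))).Full ∧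
    (FEt.restrict (X.fromSpecStalk (genericPoint X))).Faithful := by
  have hXic : ∀ x : X, IsIntegrallyClosed (X.presheaf.stalk x) := fun x => (hX x).2
  have hrange : ∀ t : Spec (X.presheaf.stalk (genericPoint X)),
      X.fromSpecStalk (genericPoint X) t = genericPoint X := by
    intro t
    have h1 : X.fromSpecStalk (genericPoint X) t ∈ Set.range (X.fromSpecStalk (genericPoint X)) :=
      ⟨t, rfl⟩
    rw [Scheme.range_fromSpecStalk] at h1
    exact (h1.antisymm (genericPoint_specializes _)).eq
  constructor
  · refine ⟨fun {A B} χ => ?_⟩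
    have hA : IsFinite A.hom ∧ Etale A.hom := A.prop
    have hB : IsFinite B.hom ∧ Etale B.hom := B.prop
    haveI := hA.1
    haveI := hA.2
    haveI := hB.1
    haveI := hB.2
    obtain ⟨χl, hχl⟩ : ∃ χl : pullback A.hom (X.fromSpecStalk (genericPoint X)) ⟶
        pullback B.hom (X.fromSpecStalk (genericPoint X)), χl = χ.left := ⟨χ.left, rfl⟩
    have hχw : χl ≫ pullback.snd B.hom (X.fromSpecStalk (genericPoint X)) =
        pullback.snd A.hom (X.fromSpecStalk (genericPoint X)) := by
      rw [hχl]
      exact MorphismProperty.Over.w χ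
    obtain ⟨φ, hφ, hgφ⟩ := Groth.Agent.Lib.Helper13.FEtGeneric.exists_hom_of_generic hXic A.hom
      B.hom (X.fromSpecStalk (genericPoint X)) hrange (fun ξ hξ => by
        have h : A.hom ξ ⤳ genericPoint X := hξ ▸ specializes_rfl
        refine ⟨Spec.map (A.hom.stalkMap ξ) ≫ Spec.map (X.presheaf.stalkSpecializes h), ?_⟩
        rw [Category.assoc, Scheme.SpecMap_stalkSpecializes_fromSpecStalk,
          Scheme.SpecMap_stalkMap_fromSpecStalk]) χl hχw
    refine ⟨MorphismProperty.Over.homMk φ hφ trivial, ?_⟩
    apply MorphismProperty.Over.Hom.ext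
    rw [← hχl]
    simp only [FEt.restrict, MorphismProperty.Over.pullback_map_left]
    apply pullback.hom_ext
    · rw [pullback.lift_fst]
      exact hgφ
    · rw [pullback.lift_snd, hχw]
  · apply Groth.Agent.Lib.Helper9.FEtFaithful.faithful_restrict_of
    intro A E hE hsub
    have hA : IsFinite A.hom ∧ Etale A.hom := A.prop
    haveI := hA.1
    haveI := hA.2
    haveI : Flat A.hom := inferInstance
    have hgen : GeneralizingMap A.hom := Flat.generalizingMap A.hom
    rw [Set.eq_univ_iff_forall]
    intro y
    have hsp : genericPoint X ⤳ (A.hom y : X) := genericPoint_specializes (α := X) _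
    obtain ⟨ξ, hξy, hξ⟩ := hgen hsp
    have hξE : ξ ∈ E := by
      apply hsub
      change A.hom ξ ∈ Set.range (X.fromSpecStalk (genericPoint X))
      rw [hξ]
      exact ⟨IsLocalRing.closedPoint _, hrange _⟩
    have h1 : y ∈ closure ({ξ} : Set A.left) := specializes_iff_mem_closure.mp hξy
    exact (hE.isClosed.closure_subset_iff.mpr (Set.singleton_subset_iff.mpr hξE)) h1

end Groth.Agent.S0245
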