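import Groth.Statements.S0249
import Mathlib.RingTheory.Ideal.KrullsHeightTheorem

set_option autoImplicit false
universe u
open Pi1

namespace Groth.Agent.S0249

theorem key {A : Type u} [CommRing A] [IsNoetherianRing A] (P P' P'' : Ideal A) [P.IsPrime]
    [P'.IsPrime] [P''.IsPrime] (h1 : P'' < P') (h2 : P' < P) (f : A) (hf : f ∈ P) :
    ∃ Q : Ideal A, Q.IsPrime ∧ f ∈ Q ∧ P'' < Q ∧ Q < P := by
  by_cases hf'' : f ∈ P''
  · exact ⟨P', inferInstance, h1.le hf'', h1, h2⟩
  · have hle : Ideal.span (insert f (P'' : Set A)) ≤ P := by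
      rw [Ideal.span_le, Set.insert_subset_iff]
      exact ⟨hf, (h1.trans h2).le⟩
    obtain ⟨Q, hQmin, hQP⟩ := Ideal.exists_minimalPrimes_le hle
    have hQprime : Q.IsPrime := hQmin.1.1
    have hfQ : f ∈ Q := hQmin.1.2 (Ideal.subset_span (Set.mem_insert _ _))
    have hP''Q : P'' ≤ Q := fun x hx =>
      hQmin.1.2 (Ideal.subset_span (Set.mem_insert_of_mem _ hx))
    refine ⟨Q, hQprime, hfQ, lt_of_le_of_ne hP''Q ?_, lt_of_le_of_ne hQP ?_⟩
    · rintro rfl
      exact hf'' hfQ
    · rintro rfl
      have := Ideal.mem_minimalPrimes_span_of_mem_minimalPrimes_span_insert h2 f (P'' : Set A)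
        hQmin (P'' : Set A) h1.le
        (fun x hx => Ideal.le_radical (Ideal.subset_span (Set.mem_insert_of_mem _ hx)))
      rw [Ideal.span_eq] at this
      exact absurd (this.2 ⟨inferInstance, le_rfl⟩ h1.le) (not_le_of_gt h1)

open AlgebraicGeometry CategoryTheory CategoryTheory.Limits in
/-- Let A be a Noetherian local ring of dimension at least 1 and f an element of its maximal ideal. Then
some prime ideal of height exactly 1 contains f. -/
theorem result (A : Type u) [CommRing A] [IsNoetherianRing A] [IsLocalRing A]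
    (h : (1 : WithBot ℕ∞) ≤ ringKrullDim A) (f : A) (hf : f ∈ IsLocalRing.maximalIdeal A) :
    ∃ p : Ideal A, p.IsPrime ∧ f ∈ p ∧ p.height = 1 := by
  have main : ∀ n : ℕ, ∀ P : Ideal A, P.IsPrime → f ∈ P → P.height = ((n + 1 : ℕ) : ℕ∞) →
      ∃ p : Ideal A, p.IsPrime ∧ f ∈ p ∧ p.height = 1 := by
    intro n
    induction n using Nat.strong_induction_on with
    | _ n ih =>
      intro P hP hfP hht
      rcases Nat.eq_zero_or_pos n with rfl | hn
      · exact ⟨P, hP, hfP, by simpa using hht⟩
      · have hPS : Order.height (⟨P, hP⟩ : PrimeSpectrum A) = ((n + 1 : ℕ) : ℕ∞) := by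
          rw [← PrimeSpectrum.height_eq_orderHeight]; exact hht
        have hfin : Order.height (⟨P, hP⟩ : PrimeSpectrum A) < ⊤ := by
          rw [hPS]; exact ENat.coe_lt_top _
        have h1 : ((1 : ℕ) : ℕ∞) < Order.height (⟨P, hP⟩ : PrimeSpectrum A) := by
          rw [hPS]; exact_mod_cast (by omega : 1 < n + 1)
        obtain ⟨P', hP'lt, hP'ht⟩ := (Order.coe_lt_height_iff hfin).mp h1
        have hfin' : Order.height P' < ⊤ := by rw [hP'ht]; exact ENat.coe_lt_top _
        have h0 : ((0 : ℕ) : ℕ∞) < Order.height P' := by rw [hP'ht]; norm_num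
        obtain ⟨P'', hP''lt, _⟩ := (Order.coe_lt_height_iff hfin').mp h0
        have hlt' : P'.asIdeal < P := hP'lt
        have hlt'' : P''.asIdeal < P'.asIdeal := hP''lt
        obtain ⟨Q, hQ, hfQ, hlt1, hlt2⟩ := key P P'.asIdeal P''.asIdeal hlt'' hlt' f hfP
        have hQlt : Q.height < P.height := Ideal.height_strict_mono_of_isPrime_of_isPrime hlt2
        have hQpos : P''.asIdeal.height < Q.height :=
          Ideal.height_strict_mono_of_isPrime_of_isPrime hlt1
        obtain ⟨k, hk⟩ : ∃ k : ℕ, Q.height = k := ENat.ne_top_iff_exists.mp (ne_top_of_lt hQlt) |>.imp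
          fun _ h => h.symm
        rw [hk, hht] at hQlt
        rw [hk] at hQpos
        have hk1 : k < n + 1 := by exact_mod_cast hQlt
        have hk0 : 0 < k := by
          rcases Nat.eq_zero_or_pos k with rfl | h
          · simp at hQpos
          · exact h
        obtain ⟨k', rfl⟩ : ∃ k', k = k' + 1 := ⟨k - 1, by omega⟩
        exact ih k' (by omega) Q hQ hfQ hk
  have hm : (IsLocalRing.maximalIdeal A).height ≠ ⊤ := Ideal.height_ne_top Ideal.IsPrime.ne_top'
  obtain ⟨k, hk⟩ := ENat.ne_top_iff_exists.mp hm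
  have hk1 : 1 ≤ k := by
    have := IsLocalRing.maximalIdeal_height_eq_ringKrullDim (R := A)
    rw [← this, ← hk] at h
    exact_mod_cast h
  obtain ⟨k', rfl⟩ : ∃ k', k = k' + 1 := ⟨k - 1, by omega⟩
  exact main k' _ inferInstance hf hk.symm

end Groth.Agent.S0249
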