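import Groth.Statements.S7566
-- import your own Groth.Agent.* helpers here

set_option autoImplicit false
universe u
open PtTop

namespace Groth.Agent.S7566

/-- Let X be a quasi-compact topological space whose quasi-compact opens form a basis, any two of them
meeting in a quasi-compact set. Then for every x ∈ X the connected component of x equals the
intersection of every clopen subset of X that contains x. -/
theorem result {X : Type u} [TopologicalSpace X]
    [CompactSpace X] [PrespectralSpace X] [QuasiSeparatedSpace X] (x : X) :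
    connectedComponent x = ⋂₀ {Z : Set X | IsClopen Z ∧ x ∈ Z} := by
  classical
  apply Set.Subset.antisymm
  · intro y hy Z hZ
    exact hZ.1.connectedComponent_subset hZ.2 hy
  · set S := ⋂₀ {Z : Set X | IsClopen Z ∧ x ∈ Z} with hS
    have hxS : x ∈ S := fun Z hZ => hZ.2
    have hSclosed : IsClosed S := isClosed_sInter fun Z hZ => hZ.1.isClosed
    refine IsPreconnected.subset_connectedComponent ?_ hxS
    rw [isPreconnected_iff_subset_of_fully_disjoint_closed hSclosed]
    intro u v hu hv hSuv huv
    have hBc : IsCompact (u ∩ S) := (hu.inter hSclosed).isCompact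
    have hCc : IsCompact (v ∩ S) := (hv.inter hSclosed).isCompact
    obtain ⟨U, hUc, hUo, hBU, hUv⟩ :=
      PrespectralSpace.exists_isCompact_and_isOpen_between hBc hv.isOpen_compl
        (fun y hy hyv => Set.disjoint_left.1 huv hy.1 hyv)
    obtain ⟨V, hVc, hVo, hCV, hVu⟩ :=
      PrespectralSpace.exists_isCompact_and_isOpen_between hCc hu.isOpen_compl
        (fun y hy hyu => Set.disjoint_left.1 huv hyu hy.1)
    let K : Set X := (U ∩ V) ∪ (U ∪ V)ᶜ
    have hKc : IsCompact K :=
      (QuasiSeparatedSpace.inter_isCompact U V hUo hUc hVo hVc).union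
        (hUo.union hVo).isClosed_compl.isCompact
    let t : {Z : Set X | IsClopen Z ∧ x ∈ Z} → Set X := fun Z => Z.1
    have hSt : S = ⋂ i, t i := Set.sInter_eq_iInter
    have hKS : K ∩ ⋂ i, t i = ∅ := by
      rw [← hSt]
      apply Set.eq_empty_of_forall_notMem
      rintro y ⟨hyK, hyS⟩
      rcases hyK with ⟨hyU, hyV⟩ | hyUV
      · rcases hSuv hyS with hyu | hyv
        · exact hVu hyV hyu
        · exact hUv hyU hyv
      · apply hyUV
        rcases hSuv hyS with hyu | hyv
        · exact Or.inl (hBU ⟨hyu, hyS⟩)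
        · exact Or.inr (hCV ⟨hyv, hyS⟩)
    obtain ⟨F, hF⟩ := hKc.elim_finite_subfamily_closed t (fun i => i.2.1.isClosed) hKS
    set Z : Set X := ⋂ i ∈ F, t i with hZ
    have hZclopen : IsClopen Z := isClopen_biInter_finset fun i _ => i.2.1
    have hxZ : x ∈ Z := Set.mem_iInter₂.2 fun i _ => i.2.2
    have hZUV : ∀ y ∈ Z, y ∈ U → y ∈ V → False := by
      intro y hy hyU hyV
      have : y ∈ K ∩ Z := ⟨Or.inl ⟨hyU, hyV⟩, hy⟩
      rw [hF] at this
      exact this
    have hZsub : ∀ y ∈ Z, y ∈ U ∨ y ∈ V := by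
      intro y hy
      by_contra hc
      have : y ∈ K ∩ Z := ⟨Or.inr hc, hy⟩
      rw [hF] at this
      exact this
    have hZU : IsClopen (Z ∩ U) := by
      refine ⟨?_, hZclopen.isOpen.inter hUo⟩
      have : Z ∩ U = Z ∩ Vᶜ := by
        ext y
        constructor
        · rintro ⟨hy, hyU⟩
          exact ⟨hy, fun hyV => hZUV y hy hyU hyV⟩
        · rintro ⟨hy, hyV⟩
          exact ⟨hy, (hZsub y hy).resolve_right hyV⟩
      rw [this]
      exact hZclopen.isClosed.inter hVo.isClosed_compl
    have hZV : IsClopen (Z ∩ V) := by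
      refine ⟨?_, hZclopen.isOpen.inter hVo⟩
      have : Z ∩ V = Z ∩ Uᶜ := by
        ext y
        constructor
        · rintro ⟨hy, hyV⟩
          exact ⟨hy, fun hyU => hZUV y hy hyU hyV⟩
        · rintro ⟨hy, hyU⟩
          exact ⟨hy, (hZsub y hy).resolve_left hyU⟩
      rw [this]
      exact hZclopen.isClosed.inter hUo.isClosed_compl
    rcases hZsub x hxZ with hxU | hxV
    · left
      have hSZU : S ⊆ Z ∩ U := Set.sInter_subset_of_mem ⟨hZU, hxZ, hxU⟩
      intro y hyS
      rcases hSuv hyS with hyu | hyv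
      · exact hyu
      · exact (hZUV y (hSZU hyS).1 (hSZU hyS).2 (hCV ⟨hyv, hyS⟩)).elim
    · right
      have hSZV : S ⊆ Z ∩ V := Set.sInter_subset_of_mem ⟨hZV, hxZ, hxV⟩
      intro y hyS
      rcases hSuv hyS with hyu | hyv
      · exact (hZUV y (hSZV hyS).1 (hBU ⟨hyu, hyS⟩) (hSZV hyS).2).elim
      · exact hyv

end Groth.Agent.S7566
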