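import Groth.Statements.S7584
-- import your own Groth.Agent.* helpers here

set_option autoImplicit false
universe u
open PtTop

namespace Groth.Agent.S7584

/-- Let X be a quasi-compact topological space in which each connected component equals the intersection
of all clopen sets that contain it. Then π₀(X), the set of connected components with the quotient
topology, is Hausdorff. The published statement concludes that π₀(X) is profinite; this row records
the Hausdorff property, quasi-compactness and total disconnectedness of the quotient being
automatic. -/
theorem result (X : Type u) [TopologicalSpace X] [CompactSpace X]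
    (h : ∀ x : X, connectedComponent x = ⋂₀ {Z : Set X | IsClopen Z ∧ x ∈ Z}) :
    T2Space (ConnectedComponents X) := by
  rw [t2Space_iff]
  intro a b hab
  obtain ⟨x, rfl⟩ := ConnectedComponents.surjective_coe a
  obtain ⟨y, rfl⟩ := ConnectedComponents.surjective_coe b
  have hy : y ∉ connectedComponent x := by
    intro hy
    exact hab (ConnectedComponents.coe_eq_coe'.2 hy).symm
  rw [h x, Set.mem_sInter] at hy
  push Not at hy
  obtain ⟨Z, ⟨hZ, hxZ⟩, hyZ⟩ := hy
  have hc : Continuous Z.boolIndicator := (continuous_boolIndicator_iff_isClopen Z).2 hZ
  refine ⟨hc.connectedComponentsLift ⁻¹' {true}, hc.connectedComponentsLift ⁻¹' {false},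
    (isOpen_discrete _).preimage hc.connectedComponentsLift_continuous,
    (isOpen_discrete _).preimage hc.connectedComponentsLift_continuous, ?_, ?_, ?_⟩
  · simp only [Set.mem_preimage, Set.mem_singleton_iff, hc.connectedComponentsLift_apply_coe]
    exact (Set.mem_iff_boolIndicator Z x).1 hxZ
  · simp only [Set.mem_preimage, Set.mem_singleton_iff, hc.connectedComponentsLift_apply_coe]
    exact (Set.notMem_iff_boolIndicator Z y).1 hyZ
  · rw [Set.disjoint_left]
    intro c h1 h2
    simp only [Set.mem_preimage, Set.mem_singleton_iff] at h1 h2
    rw [h1] at h2
    exact Bool.noConfusion h2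

end Groth.Agent.S7584
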