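import Groth.Statements.S0252
import Groth.Agent.S7566
import Groth.Agent.S7584
import Mathlib

set_option autoImplicit false
universe u
open Pi1

namespace Groth.Agent.S0252

open AlgebraicGeometry CategoryTheory CategoryTheory.Limits

/-- A clopen subset of a scheme, as a finite étale cover. -/
noncomputable def ofClopen {Y : Scheme.{u}} (W : Y.Opens) (hW : IsClosed (W : Set Y)) :
    FEt.Cat Y :=
  haveI : IsClosedImmersion W.ι :=
    IsClosedImmersion.of_isPreimmersion W.ι (by rw [Scheme.Opens.range_ι]; exact hW)
  MorphismProperty.Over.mk ⊤ W.ι ⟨inferInstance, inferInstance⟩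

theorem range_hom_isClopen {Y : Scheme.{u}} (V : FEt.Cat Y) : IsClopen (Set.range V.hom.base) := by
  have hV : FEt.prop V.hom := V.prop
  haveI : IsFinite V.hom := hV.1
  haveI : Etale V.hom := hV.2
  exact ⟨V.hom.isClosedMap.isClosed_range, V.hom.isOpenMap.isOpen_range⟩

/-- Fullness: a clopen with empty preimage is empty. -/
theorem clopen_eq_empty_of_preimage {X Y : Scheme.{u}} (f : X ⟶ Y) [(FEt.restrict f).Full]
    (W : Y.Opens) (hW : IsClosed (W : Set Y)) (hpre : f.base ⁻¹' (W : Set Y) = ∅) :
    (W : Set Y) = ∅ := by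
  let A : FEt.Cat Y := ofClopen W hW
  let B : FEt.Cat Y := ofClopen ⊥ (by simp)
  haveI hE : IsEmpty ((FEt.restrict f).obj A).left := by
    constructor
    intro p
    have h1 : (pullback.snd W.ι f).base p ∈ f.base ⁻¹' (W : Set Y) := by
      change f.base ((pullback.snd W.ι f).base p) ∈ (W : Set Y)
      have : f.base ((pullback.snd W.ι f).base p) = W.ι.base ((pullback.fst W.ι f).base p) := by
        have := congrArg (fun g => g.base p) (pullback.condition (f := W.ι) (g := f))
        simpa using this.symm
      rw [this]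
      exact ((pullback.fst W.ι f).base p).2
    rw [hpre] at h1
    exact h1
  let g : (FEt.restrict f).obj A ⟶ (FEt.restrict f).obj B :=
    MorphismProperty.Over.homMk (isInitialOfIsEmpty.to _) (isInitialOfIsEmpty.hom_ext _ _)
  obtain ⟨g', -⟩ := (FEt.restrict f).map_surjective g
  by_contra hne
  obtain ⟨y, hy⟩ := Set.nonempty_iff_ne_empty.mpr hne
  have hB : IsEmpty B.left := by
    change IsEmpty ((⊥ : Y.Opens) : Scheme.{u})
    constructor
    intro b
    have h0 : (b.1 : Y) ∈ ((⊥ : Y.Opens) : Set Y) := b.2
    rw [TopologicalSpace.Opens.coe_bot] at h0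
    exact h0
  let a : A.left := (⟨y, hy⟩ : (W : Scheme.{u}))
  exact hB.elim (g'.left.base a)


/-- Essential surjectivity: every clopen of `X` is the preimage of a clopen of `Y`. -/
theorem exists_clopen_preimage_eq {X Y : Scheme.{u}} (f : X ⟶ Y) [(FEt.restrict f).EssSurj]
    (Z : X.Opens) (hZ : IsClosed (Z : Set X)) :
    ∃ W : Set Y, IsClopen W ∧ f.base ⁻¹' W = (Z : Set X) := by
  let A : FEt.Cat X := ofClopen Z hZ
  let V : FEt.Cat Y := (FEt.restrict f).objPreimage A
  let e : (FEt.restrict f).obj V ≅ A := (FEt.restrict f).objObjPreimageIso A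
  refine ⟨Set.range V.hom.base, range_hom_isClopen V, ?_⟩
  have h1 : Set.range ((FEt.restrict f).obj V).hom.base = f.base ⁻¹' Set.range V.hom.base :=
    Scheme.Pullback.range_snd V.hom f
  have h2 : Set.range ((FEt.restrict f).obj V).hom.base = Set.range A.hom.base := by
    have hw : e.hom.left ≫ A.hom = ((FEt.restrict f).obj V).hom := MorphismProperty.Over.w e.hom
    rw [← hw]
    have hs : Function.Surjective e.hom.left.base :=
      (ConcreteCategory.bijective_of_isIso e.hom.left.base).2
    simp only [Scheme.Hom.comp_base, TopCat.coe_comp]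
    rw [Set.range_comp, hs.range_eq, Set.image_univ]
  rw [← h1, h2]
  exact Z.range_ι

open AlgebraicGeometry CategoryTheory CategoryTheory.Limits in
/-- Let f be a morphism between quasi-compact quasi-separated schemes such that base change of finite
etale covers along f is an equivalence. Then the induced map on connected components is a
homeomorphism. -/
theorem result {X Y : Scheme.{u}} [CompactSpace X] [QuasiSeparatedSpace X] [CompactSpace Y] [QuasiSeparatedSpace Y]
    (f : X ⟶ Y) (h : (FEt.restrict f).IsEquivalence) :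
    IsHomeomorph f.continuous.connectedComponentsMap := by
  haveI := h
  haveI : (FEt.restrict f).Full := inferInstance
  haveI : (FEt.restrict f).EssSurj := inferInstance
  have key1 : ∀ Z : Set X, IsClopen Z → ∃ W : Set Y, IsClopen W ∧ f.base ⁻¹' W = Z := by
    intro Z hZ
    exact exists_clopen_preimage_eq f ⟨Z, hZ.2⟩ hZ.1
  have key2 : ∀ W : Set Y, IsClopen W → f.base ⁻¹' W = ∅ → W = ∅ := by
    intro W hW hpre
    exact clopen_eq_empty_of_preimage f ⟨W, hW.2⟩ hW.1 hpre
  haveI : T2Space (_root_.ConnectedComponents Y) :=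
    Groth.Agent.S7584.result Y (fun y => Groth.Agent.S7566.result y)
  rw [isHomeomorph_iff_continuous_bijective]
  refine ⟨f.continuous.connectedComponentsMap_continuous, ?_, ?_⟩
  · -- injectivity
    intro a b hab
    obtain ⟨x₁, rfl⟩ := _root_.ConnectedComponents.surjective_coe a
    obtain ⟨x₂, rfl⟩ := _root_.ConnectedComponents.surjective_coe b
    by_contra hne
    have hx₂ : x₂ ∉ connectedComponent x₁ := by
      intro hx
      exact hne (_root_.ConnectedComponents.coe_eq_coe'.2 hx).symm
    rw [Groth.Agent.S7566.result x₁, Set.mem_sInter] at hx₂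
    push Not at hx₂
    obtain ⟨Z, ⟨hZ, hx₁Z⟩, hx₂Z⟩ := hx₂
    obtain ⟨W, hW, hWZ⟩ := key1 Z hZ
    have h1 : f.base x₁ ∈ W := by
      have : x₁ ∈ f.base ⁻¹' W := by rw [hWZ]; exact hx₁Z
      exact this
    have h2 : f.base x₂ ∉ W := by
      intro h
      have : x₂ ∈ f.base ⁻¹' W := h
      rw [hWZ] at this
      exact hx₂Z this
    rw [Continuous.connectedComponentsMap_mk, Continuous.connectedComponentsMap_mk] at hab
    have h3 : f.base x₂ ∈ connectedComponent (f.base x₁) :=
      _root_.ConnectedComponents.coe_eq_coe'.1 hab.symm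
    exact h2 (hW.connectedComponent_subset h1 h3)
  · -- surjectivity
    intro c
    obtain ⟨y, rfl⟩ := _root_.ConnectedComponents.surjective_coe c
    by_contra hno
    push Not at hno
    -- for every `x`, a clopen containing `y` but not `f x`
    have hx : ∀ x : X, ∃ W : Set Y, IsClopen W ∧ y ∈ W ∧ f.base x ∉ W := by
      intro x
      have hfx : f.base x ∉ connectedComponent y := by
        intro hmem
        apply hno (_root_.ConnectedComponents.mk x)
        rw [Continuous.connectedComponentsMap_mk]
        exact _root_.ConnectedComponents.coe_eq_coe'.2 hmem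
      rw [Groth.Agent.S7566.result y, Set.mem_sInter] at hfx
      push Not at hfx
      obtain ⟨W, ⟨hW, hyW⟩, hfxW⟩ := hfx
      exact ⟨W, hW, hyW, hfxW⟩
    choose Wx hWx hyWx hfWx using hx
    obtain ⟨t, ht⟩ := isCompact_univ.elim_finite_subcover (fun x : X => f.base ⁻¹' (Wx x)ᶜ)
      (fun x => ((hWx x).compl.2).preimage f.continuous)
      (fun x _ => Set.mem_iUnion.2 ⟨x, hfWx x⟩)
    let W : Set Y := ⋂ x ∈ t, Wx x
    have hWclopen : IsClopen W := isClopen_biInter_finset (fun x _ => hWx x)
    have hyW : y ∈ W := Set.mem_iInter₂.2 (fun x _ => hyWx x)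
    have hpre : f.base ⁻¹' W = ∅ := by
      ext x
      simp only [Set.mem_preimage, Set.mem_empty_iff_false, iff_false]
      intro hxW
      obtain ⟨x', hx't, hx'⟩ := Set.mem_iUnion₂.1 (ht (Set.mem_univ x))
      exact hx' (Set.mem_iInter₂.1 hxW x' hx't)
    have := key2 W hWclopen hpre
    rw [this] at hyW
    exact hyW

end Groth.Agent.S0252
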