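import Groth.Statements.S0253
import Groth.Agent.Lib.Helper14.SepClosedNormal

set_option autoImplicit false
universe u
open Pi1

namespace Groth.Agent.S0253

open AlgebraicGeometry CategoryTheory CategoryTheory.Limits in
/-- Let A be an integrally closed domain whose fraction field is separably closed. Then the residue
field at any nonzero prime ideal of A is algebraically closed. -/
theorem result (A : Type u) [CommRing A] [IsDomain A] [IsIntegrallyClosed A] [IsSepClosed (FractionRing A)]
    (p : Ideal A) [p.IsPrime] (hp : p ≠ ⊥) : IsAlgClosed p.ResidueField := by
  have hle : p.primeCompl ≤ nonZeroDivisors A := by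
    intro x hx
    rw [mem_nonZeroDivisors_iff_ne_zero]
    rintro rfl
    exact hx p.zero_mem
  haveI : IsDomain (Localization.AtPrime p) :=
    IsLocalization.isDomain_localization hle
  haveI : IsIntegrallyClosed (Localization.AtPrime p) :=
    isIntegrallyClosed_of_isLocalization (Localization.AtPrime p) p.primeCompl hle
  have hne : IsLocalRing.maximalIdeal (Localization.AtPrime p) ≠ ⊥ := by
    obtain ⟨x, hxp, hx0⟩ := Submodule.exists_mem_ne_zero_of_ne_bot hp
    intro hbot
    have hmem : algebraMap A (Localization.AtPrime p) x ∈
        IsLocalRing.maximalIdeal (Localization.AtPrime p) :=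
      (IsLocalization.AtPrime.to_map_mem_maximal_iff (Localization.AtPrime p) p x).mpr hxp
    rw [hbot, Ideal.mem_bot] at hmem
    exact hx0 (IsLocalization.injective (Localization.AtPrime p) hle (by rw [hmem, map_zero]))
  exact Groth.Agent.Lib.Helper14.isAlgClosed_residueField_of_isSepClosed_fractionRing
    (B := Localization.AtPrime p) (FractionRing A) hne

end Groth.Agent.S0253
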