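import Groth.Statements.S0258
import Groth.Agent.Lib.Helper7.ExtendFEt
import Groth.Agent.Lib.Helper7.SpecConn

set_option autoImplicit false
universe u
open Pi1

namespace Groth.Agent.S0258

open AlgebraicGeometry CategoryTheory CategoryTheory.Limits in
/-- For a Noetherian local ring A of depth at least 2, the functor restricting finite étale covers of
Spec A to the punctured spectrum is fully faithful (full and faithful). The published statement
assumes instead that the punctured spectrum of the strict henselization of A is connected; depth at
least 2 is a sufficient condition for this, and the result is stated here under that hypothesis. -/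
theorem result (A : Type u) [CommRing A] [IsNoetherianRing A] [IsLocalRing A] (hA : (2 : ℕ∞) ≤ LocCoh.depth A A) :
    (FEt.restrict (FEt.puncturedSpec A).ι).Full ∧ (FEt.restrict (FEt.puncturedSpec A).ι).Faithful := by
  have h : ∀ x : (Spec (CommRingCat.of A) : Scheme.{u}), x ∉ FEt.puncturedSpec A →
      (2 : ℕ∞) ≤ LocCoh.depth ((Spec (CommRingCat.of A)).presheaf.stalk x)
        ((Spec (CommRingCat.of A)).presheaf.stalk x) := by
    intro x hx
    have hx' : x = IsLocalRing.closedPoint A := by
      by_contra hne
      exact hx hne
    rw [Groth.Agent.Lib.Helper7.SpecConn.depth_stalk_Spec A x]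
    subst hx'
    have e : A ≃+* Localization.AtPrime (IsLocalRing.closedPoint A).asIdeal :=
      (IsLocalization.atUnits A (IsLocalRing.closedPoint A).asIdeal.primeCompl
        (S := Localization.AtPrime (IsLocalRing.closedPoint A).asIdeal)
        (fun a ha => IsLocalRing.notMem_maximalIdeal.mp ha)).toRingEquiv
    rw [← Groth.Agent.Lib.Helper7.Hartogs.depth_eq_of_ringEquiv e]
    exact hA
  exact ⟨Groth.Agent.Lib.Helper7.ExtendFEt.full_restrict _ h,
    Groth.Agent.Lib.Helper7.ExtendFEt.faithful_restrict _ h⟩

end Groth.Agent.S0258
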