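import Groth.Statements.S0263
import Groth.Agent.Lib.Helper7.ExtendFEt2

set_option autoImplicit false
universe u
open Pi1

namespace Groth.Agent.S0263

open AlgebraicGeometry CategoryTheory CategoryTheory.Limits in
/-- Let A be a Noetherian local ring of depth at least 2 and V a finite étale cover of the punctured
spectrum of A which is isomorphic to the restriction of some finite étale cover of Spec A. Then the
ring of global sections Γ(V, O_V) is finite and étale over A, via the ring map A → Γ(V, O_V) induced
by the composite V → Spec A. (Only this implication of the published statement is asserted here; its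
converse is not.) -/
theorem result (A : Type u) [CommRing A] [IsNoetherianRing A] [IsLocalRing A] (hA : (2 : ℕ∞) ≤ LocCoh.depth A A)
    (V : FEt.Cat (FEt.puncturedSpec A : Scheme.{u}))
    (hV : ∃ Y : FEt.Cat (Spec (CommRingCat.of A)),
      Nonempty ((FEt.restrict (FEt.puncturedSpec A).ι).obj Y ≅ V)) :
    ((Scheme.ΓSpecIso (CommRingCat.of A)).inv ≫ (V.hom ≫ (FEt.puncturedSpec A).ι).appTop).hom.Finite ∧
    ((Scheme.ΓSpecIso (CommRingCat.of A)).inv ≫ (V.hom ≫ (FEt.puncturedSpec A).ι).appTop).hom.Etale := by
  obtain ⟨Y, ⟨e⟩⟩ := hV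
  obtain ⟨h1, h2⟩ := Groth.Agent.Lib.Helper7.ExtendFEt.finite_etale_sections
    (FEt.puncturedSpec A) (Groth.Agent.Lib.Helper7.ExtendFEt.depth_punctured A hA) V Y e
  constructor
  · exact (RingHom.finite_respectsIso.cancel_left_isIso
      (Scheme.ΓSpecIso (CommRingCat.of A)).inv _).2 h1
  · exact (RingHom.Etale.respectsIso.cancel_left_isIso
      (Scheme.ΓSpecIso (CommRingCat.of A)).inv _).2 h2

end Groth.Agent.S0263
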