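import Groth.Statements.S0274
import Mathlib

set_option autoImplicit false
universe u
open scoped TensorProduct
open Pi1

namespace Groth.Agent.S0274

open TensorProduct

section P
variable {R S : Type u} [CommRing R] [CommRing S] [Algebra R S]

/-- for a universally injective `R → S`, an element `z` with `z ⊗ 1 = 0` in `Z ⊗ S` is zero -/
lemma eq_zero_of_tmul_one (h : Pi1.UnivInjective R S) {Z : Type u} [AddCommGroup Z] [Module R Z]
    (z : Z) (hz : z ⊗ₜ[R] (1 : S) = 0) : z = 0 := by
  have h1 : LinearMap.lTensor Z (Algebra.linearMap R S) (z ⊗ₜ[R] (1 : R)) = 0 := by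
    rw [LinearMap.lTensor_tmul, Algebra.linearMap_apply, map_one, hz]
  have h2 : z ⊗ₜ[R] (1 : R) = 0 := h Z (by rw [h1, map_zero])
  have h3 := congrArg (TensorProduct.rid R Z) h2
  simpa using h3

variable {M : Type u} [AddCommGroup M] [Module R M]

/-- the ambient module of the linear system -/
abbrev YY (R M : Type u) (C : Type u) (l : ℕ) : Type u := (C → R) × (Fin l → M)

/-- descent of solutions of a linear system with unknown ring coefficients -/
lemma sys (h : Pi1.UnivInjective R S) {l : ℕ} {C : Type u} [Fintype C] [DecidableEq C]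
    (f : Fin l → R) (x : Fin l → M) (μ : C → M) (u : Fin l → C → S)
    (hA : ∀ i, (1 : S) ⊗ₜ[R] x i = ∑ c, u i c ⊗ₜ[R] μ c)
    (hB : ∀ c, ∑ i, algebraMap R S (f i) * u i c = 0) :
    ∃ ρ : Fin l → C → R, (∀ i, x i = ∑ c, ρ i c • μ c) ∧ ∀ c, ∑ i, f i * ρ i c = 0 := by
  let v : Fin l × C → YY R M C l := fun ic => (Pi.single ic.2 (f ic.1), Pi.single ic.1 (μ ic.2))
  let W : Submodule R (YY R M C l) := Submodule.span R (Set.range v)
  let lam : Fin l → M →ₗ[R] (YY R M C l ⧸ W) := fun i =>
    W.mkQ ∘ₗ LinearMap.inr R (C → R) (Fin l → M) ∘ₗ LinearMap.single R (fun _ : Fin l => M) i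
  have lam_apply : ∀ i m, lam i m = W.mkQ ((0, Pi.single i m) : YY R M C l) := fun i m => rfl
  let eps : C → (YY R M C l ⧸ W) := fun c => W.mkQ ((Pi.single c 1, 0) : YY R M C l)
  have hrelZ : ∀ i c, lam i (μ c) = - (f i • eps c) := by
    intro i c
    rw [eq_neg_iff_add_eq_zero]
    have hv : v (i, c) ∈ W := Submodule.subset_span ⟨(i, c), rfl⟩
    have h0 : W.mkQ (v (i, c)) = 0 := (Submodule.Quotient.mk_eq_zero W).2 hv
    rw [← h0, lam_apply]
    show W.mkQ _ + f i • W.mkQ _ = _
    rw [← map_smul, ← map_add]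
    congr 1
    refine Prod.ext ?_ ?_
    · funext c'
      simp [v, Pi.single_apply]
    · funext i'
      simp [v]
  have ht : W.mkQ ((0, x) : YY R M C l) = ∑ i, lam i (x i) := by
    simp_rw [lam_apply]
    rw [← map_sum]
    congr 1
    refine Prod.ext ?_ ?_
    · rw [Prod.fst_sum]
      simp
    · rw [Prod.snd_sum]
      exact (Finset.univ_sum_single x).symm
  have hZ : (W.mkQ ((0, x) : YY R M C l)) ⊗ₜ[R] (1 : S) = 0 := by
    rw [ht, TensorProduct.sum_tmul]
    have h1 : ∀ i, lam i (x i) ⊗ₜ[R] (1 : S) = ∑ c : C, lam i (μ c) ⊗ₜ[R] u i c := by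
      intro i
      have := congrArg ((TensorProduct.comm R S (YY R M C l ⧸ W)).toLinearMap ∘ₗ
        LinearMap.lTensor S (lam i)) (hA i)
      simpa using this
    simp_rw [h1, hrelZ]
    rw [Finset.sum_comm]
    refine Finset.sum_eq_zero fun c _ => ?_
    simp_rw [TensorProduct.neg_tmul, TensorProduct.smul_tmul, Algebra.smul_def]
    rw [Finset.sum_neg_distrib, ← TensorProduct.tmul_sum, hB c, TensorProduct.tmul_zero, neg_zero]
  have hmem : ((0, x) : YY R M C l) ∈ W :=
    (Submodule.Quotient.mk_eq_zero W).1 (eq_zero_of_tmul_one h _ hZ)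
  obtain ⟨ρ, hρ⟩ := (Submodule.mem_span_range_iff_exists_fun R).1 hmem
  refine ⟨fun i c => ρ (i, c), ?_, ?_⟩
  · intro i
    have h2 := congrArg (fun y : YY R M C l => y.2 i) hρ
    simp only [v, Prod.snd_sum, Prod.smul_snd, Finset.sum_apply, Pi.smul_apply,
      Fintype.sum_prod_type, Pi.single_apply] at h2
    rw [← h2]
    simp
  · intro c
    have h2 := congrArg (fun y : YY R M C l => y.1 c) hρ
    simp only [v, Prod.fst_sum, Prod.smul_fst, Finset.sum_apply, Pi.smul_apply,
      Fintype.sum_prod_type, Pi.single_apply] at h2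
    simp only [smul_eq_mul, mul_ite, mul_zero, Finset.sum_ite_eq,
      Finset.mem_univ, if_true, Pi.zero_apply] at h2
    rw [← h2]
    exact Finset.sum_congr rfl fun i _ => mul_comm _ _

end P


/-- Let R -> S be universally injective and M an R-module such that S ⊗_R M is flat over S. Then M is
flat over R. -/
theorem result (R S : Type u) [CommRing R] [CommRing S] [Algebra R S]
    (h : Pi1.UnivInjective R S) (M : Type u) [AddCommGroup M] [Module R M]
    [Module.Flat S (S ⊗[R] M)] : Module.Flat R M := by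
  classical
  refine Module.Flat.of_forall_isTrivialRelation ?_
  intro l f x hfx
  -- the relation in `S ⊗ M`
  have hrel : ∑ i, algebraMap R S (f i) • ((1 : S) ⊗ₜ[R] x i) = 0 := by
    have : ∀ i, algebraMap R S (f i) • ((1 : S) ⊗ₜ[R] x i) = (1 : S) ⊗ₜ[R] (f i • x i) := by
      intro i
      rw [TensorProduct.smul_tmul', smul_eq_mul, mul_one, TensorProduct.tmul_smul,
        TensorProduct.smul_tmul', Algebra.smul_def, mul_one]
    simp_rw [this]
    rw [← TensorProduct.tmul_sum, hfx, TensorProduct.tmul_zero]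
  obtain ⟨k, a, y, hxy, hfa⟩ := Module.Flat.isTrivialRelation_of_sum_smul_eq_zero hrel
  have hxy' : ∀ i, (1 : S) ⊗ₜ[R] x i = ∑ j, a i j • y j := hxy
  have hfa' : ∀ j, ∑ i, algebraMap R S (f i) * a i j = 0 := hfa
  -- expand the `y j`
  choose T hT using fun j => TensorProduct.exists_finset (y j)
  obtain ⟨ρ, hρ1, hρ2⟩ := sys h (C := Σ j : Fin k, {p // p ∈ T j}) f x (fun c => c.2.1.2)
    (fun i c => a i c.1 * c.2.1.1)
    (by
      intro i
      rw [hxy' i, Fintype.sum_sigma]
      refine Finset.sum_congr rfl fun j _ => ?_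
      rw [hT j, Finset.smul_sum, ← Finset.sum_coe_sort]
      refine Finset.sum_congr rfl fun p _ => ?_
      rw [TensorProduct.smul_tmul', smul_eq_mul])
    (by
      intro c
      simp only [← mul_assoc]
      rw [← Finset.sum_mul, hfa' c.1, zero_mul])
  -- reindex
  let e := Fintype.equivFin (Σ j : Fin k, {p // p ∈ T j})
  refine ⟨Fintype.card (Σ j : Fin k, {p // p ∈ T j}), fun i j => ρ i (e.symm j),
    fun j => (e.symm j).2.1.2, ?_, ?_⟩
  · intro i
    rw [hρ1 i]
    exact (Equiv.sum_comp e.symm (fun c => ρ i c • c.2.1.2)).symm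
  · intro j
    exact hρ2 (e.symm j)

end Groth.Agent.S0274
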