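import Groth.Statements.S0275
import Groth.Agent.Lib.Helper23.UnivInj

set_option autoImplicit false
universe u
open scoped TensorProduct
open Pi1

namespace Groth.Agent.S0275

/-- Let R -> S be universally injective and M an R-module such that S ⊗_R M is finitely generated over
S. Then M is finitely generated over R. -/
theorem result (R S : Type u) [CommRing R] [CommRing S] [Algebra R S]
    (h : Pi1.UnivInjective R S) (M : Type u) [AddCommGroup M] [Module R M]
    [Module.Finite S (S ⊗[R] M)] : Module.Finite R M := by
  classical
  obtain ⟨t, ht⟩ := (Module.finite_def (R := S) (M := S ⊗[R] M)).mp inferInstance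
  have htop : Submodule.span S (⇑((TensorProduct.mk R S M) 1) '' (Set.univ : Set M)) = ⊤ := by
    rw [← Submodule.baseChange_span, Submodule.span_univ, Submodule.baseChange_top]
  -- each generator lies in the span of finitely many `1 ⊗ m`
  have hx : ∀ x ∈ t, ∃ F : Finset M, x ∈ Submodule.span S
      (⇑((TensorProduct.mk R S M) 1) '' (F : Set M)) := by
    intro x _
    have hxmem : x ∈ Submodule.span S (⇑((TensorProduct.mk R S M) 1) '' (Set.univ : Set M)) := by
      rw [htop]; trivial
    obtain ⟨T, hT, hxT⟩ := Submodule.mem_span_finite_of_mem_span hxmem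
    choose g hg using fun y : T => hT y.2
    refine ⟨Finset.univ.image g, ?_⟩
    refine Submodule.span_mono ?_ hxT
    intro y hy
    refine ⟨g ⟨y, hy⟩, ?_, (hg ⟨y, hy⟩).2⟩
    simp
  choose F hF using hx
  let G : Finset M := t.attach.biUnion fun x => F x.1 x.2
  have hG : (Submodule.span R (G : Set M)).baseChange S = ⊤ := by
    rw [Submodule.baseChange_span, eq_top_iff, ← ht, Submodule.span_le]
    intro x hx
    refine Submodule.span_mono ?_ (hF x hx)
    refine Set.image_mono ?_
    intro m hm
    simp only [G, Finset.coe_biUnion, Set.mem_iUnion]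
    exact ⟨⟨x, hx⟩, by simp, hm⟩
  have := Groth.Agent.Lib.Helper23.UnivInj.eq_top_of_baseChange_eq_top h _ hG
  exact ⟨⟨G, this⟩⟩

end Groth.Agent.S0275
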