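import Groth.Statements.S0276
import Groth.Agent.Lib.Helper23.UnivInj
import Groth.Agent.S0275

set_option autoImplicit false
universe u
open scoped TensorProduct
open Pi1

namespace Groth.Agent.S0276

/-- Let R -> S be universally injective and M an R-module such that S ⊗_R M is finitely presented over
S. Then M is finitely presented over R. -/
theorem result (R S : Type u) [CommRing R] [CommRing S] [Algebra R S]
    (h : Pi1.UnivInjective R S) (M : Type u) [AddCommGroup M] [Module R M]
    [Module.FinitePresentation S (S ⊗[R] M)] : Module.FinitePresentation R M := by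
  have hfin : Module.Finite R M := Groth.Agent.S0275.result R S h M
  obtain ⟨n, π, hπ⟩ := Module.Finite.exists_fin' R M
  have hsurj : Function.Surjective (π.baseChange S) := by
    rw [LinearMap.baseChange_eq_ltensor]
    exact LinearMap.lTensor_surjective S hπ
  have hker : (LinearMap.ker (π.baseChange S)).FG :=
    Module.FinitePresentation.fg_ker (π.baseChange S) hsurj
  have hK : LinearMap.ker (π.baseChange S) = (LinearMap.ker π).baseChange S := by
    have hex := lTensor_exact S (LinearMap.exact_subtype_ker_map π) hπ
    ext x
    rw [LinearMap.mem_ker]
    have h1 : (π.baseChange S) x = (LinearMap.lTensor S π) x := by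
      rw [LinearMap.baseChange_eq_ltensor]
    rw [h1, hex x]
    constructor
    · rintro ⟨y, rfl⟩
      exact ⟨y, by rw [LinearMap.baseChange_eq_ltensor]⟩
    · rintro ⟨y, rfl⟩
      exact ⟨y, by rw [LinearMap.baseChange_eq_ltensor]⟩
  rw [hK] at hker
  have hKfg : (LinearMap.ker π).FG :=
    Groth.Agent.Lib.Helper23.UnivInj.fg_of_baseChange_fg h _ hker
  exact Module.finitePresentation_of_free_of_surjective π hπ hKfg

end Groth.Agent.S0276
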