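import Groth.Statements.S0277
import Groth.Agent.Lib.Helper23.UnivInj

set_option autoImplicit false
universe u
open scoped TensorProduct
open Pi1

namespace Groth.Agent.S0277

/-- Let R -> S be universally injective and A an R-algebra such that S ⊗_R A is of finite type over S.
Then A is of finite type over R. -/
theorem result (R S : Type u) [CommRing R] [CommRing S] [Algebra R S]
    (h : Pi1.UnivInjective R S) (A : Type u) [CommRing A] [Algebra R A]
    [Algebra.FiniteType S (S ⊗[R] A)] : Algebra.FiniteType R A := by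
  classical
  obtain ⟨t, ht⟩ := (Algebra.FiniteType.out : (⊤ : Subalgebra S (S ⊗[R] A)).FG)
  have htop : Submodule.span S (⇑((TensorProduct.mk R S A) 1) '' (Set.univ : Set A)) = ⊤ := by
    rw [← Submodule.baseChange_span, Submodule.span_univ, Submodule.baseChange_top]
  -- each generator lies in the span of finitely many `1 ⊗ a`
  have hx : ∀ x ∈ t, ∃ F : Finset A, x ∈ Submodule.span S
      (⇑((TensorProduct.mk R S A) 1) '' (F : Set A)) := by
    intro x _
    have hxmem : x ∈ Submodule.span S (⇑((TensorProduct.mk R S A) 1) '' (Set.univ : Set A)) := by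
      rw [htop]; trivial
    obtain ⟨T, hT, hxT⟩ := Submodule.mem_span_finite_of_mem_span hxmem
    choose g hg using fun y : T => hT y.2
    refine ⟨Finset.univ.image g, ?_⟩
    refine Submodule.span_mono ?_ hxT
    intro y hy
    refine ⟨g ⟨y, hy⟩, ?_, (hg ⟨y, hy⟩).2⟩
    simp
  choose F hF using hx
  let G : Finset A := t.attach.biUnion fun x => F x.1 x.2
  refine ⟨⟨G, ?_⟩⟩
  apply Groth.Agent.Lib.Helper23.UnivInj.subalgebra_eq_top_of_map_surjective h
  rw [← AlgHom.range_eq_top, eq_top_iff, ← ht]
  apply Algebra.adjoin_le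
  intro x hx
  -- `x` is in the `S`-span of `1 ⊗ G`, which lies in the range
  have hspan : Submodule.span S (⇑((TensorProduct.mk R S A) 1) '' (G : Set A)) ≤
      Subalgebra.toSubmodule (Algebra.TensorProduct.map (AlgHom.id S S)
        (Algebra.adjoin R (G : Set A)).val).range := by
    rw [Submodule.span_le]
    rintro _ ⟨a, ha, rfl⟩
    exact ⟨(1 : S) ⊗ₜ[R] ⟨a, Algebra.subset_adjoin ha⟩, by simp⟩
  apply hspan
  refine Submodule.span_mono (Set.image_mono ?_) (hF x hx)
  intro m hm
  simp only [G, Finset.coe_biUnion, Set.mem_iUnion]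
  exact ⟨⟨x, hx⟩, by simp, hm⟩

end Groth.Agent.S0277
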