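import Groth.Statements.S0278
import Groth.Agent.Lib.Helper23.UnivInj
import Groth.Agent.S0277
import Mathlib.RingTheory.FinitePresentation
import Mathlib.LinearAlgebra.TensorProduct.RightExactness

set_option autoImplicit false
universe u
open scoped TensorProduct
open Pi1

namespace Groth.Agent.S0278

/-- Let R -> S be universally injective and A an R-algebra such that S ⊗_R A is of finite presentation
over S. Then A is of finite presentation over R. -/
theorem result (R S : Type u) [CommRing R] [CommRing S] [Algebra R S]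
    (h : Pi1.UnivInjective R S) (A : Type u) [CommRing A] [Algebra R A]
    [Algebra.FinitePresentation S (S ⊗[R] A)] : Algebra.FinitePresentation R A := by
  classical
  have hft : Algebra.FiniteType R A := Groth.Agent.S0277.result R S h A
  obtain ⟨n, π, hπ⟩ := Algebra.FiniteType.iff_quotient_mvPolynomial''.mp hft
  -- the base-changed presentation
  let fS : S ⊗[R] MvPolynomial (Fin n) R →ₐ[S] S ⊗[R] A :=
    Algebra.TensorProduct.map (AlgHom.id S S) π
  let fR : S ⊗[R] MvPolynomial (Fin n) R →ₐ[R] S ⊗[R] A :=
    Algebra.TensorProduct.map (AlgHom.id R S) π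
  have hfSR : ∀ x, fS x = fR x := by
    intro x
    induction x using TensorProduct.induction_on with
    | zero => simp
    | tmul s a => simp [fS, fR]
    | add x y hx hy => simp only [map_add, hx, hy]
  have hfRsurj : Function.Surjective fR := by
    intro y
    induction y using TensorProduct.induction_on with
    | zero => exact ⟨0, map_zero _⟩
    | tmul s a =>
      obtain ⟨p, rfl⟩ := hπ a
      exact ⟨s ⊗ₜ[R] p, by simp [fR]⟩
    | add x y hx hy =>
      obtain ⟨x', rfl⟩ := hx
      obtain ⟨y', rfl⟩ := hy
      exact ⟨x' + y', map_add _ _ _⟩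
  have hfSsurj : Function.Surjective fS := fun y => by
    obtain ⟨x, hx⟩ := hfRsurj y
    exact ⟨x, by rw [hfSR, hx]⟩
  have hkerfg : (RingHom.ker fS.toRingHom).FG :=
    Algebra.FinitePresentation.ker_fG_of_surjective fS hfSsurj
  have hkereq : RingHom.ker fS.toRingHom =
      Ideal.map (Algebra.TensorProduct.includeRight :
        MvPolynomial (Fin n) R →ₐ[R] S ⊗[R] MvPolynomial (Fin n) R) (RingHom.ker π) := by
    rw [← Algebra.TensorProduct.lTensor_ker (A := S) π hπ]
    ext x
    simp only [RingHom.mem_ker]
    exact ⟨fun hx => by rw [← hx]; exact (hfSR x).symm, fun hx => by rw [← hx]; exact hfSR x⟩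
  rw [hkereq] at hkerfg
  -- choose finitely many elements of the kernel whose images generate
  set I : Ideal (MvPolynomial (Fin n) R) := RingHom.ker π with hI
  set ι : MvPolynomial (Fin n) R →ₐ[R] S ⊗[R] MvPolynomial (Fin n) R :=
    Algebra.TensorProduct.includeRight with hι
  obtain ⟨t, ht⟩ := hkerfg
  have hmapspan : Ideal.map ι I = Ideal.span (ι '' (I : Set (MvPolynomial (Fin n) R))) := rfl
  have hx : ∀ x ∈ t, ∃ F : Finset (MvPolynomial (Fin n) R),
      (F : Set (MvPolynomial (Fin n) R)) ⊆ (I : Set (MvPolynomial (Fin n) R)) ∧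
      x ∈ Ideal.span (ι '' (F : Set (MvPolynomial (Fin n) R))) := by
    intro x hxt
    have hxmem : x ∈ Ideal.span (ι '' (I : Set (MvPolynomial (Fin n) R))) := by
      rw [← hmapspan, ← ht]; exact Ideal.subset_span hxt
    obtain ⟨T, hT, hxT⟩ := Submodule.mem_span_finite_of_mem_span hxmem
    choose g hg using fun y : T => hT y.2
    refine ⟨Finset.univ.image g, ?_, ?_⟩
    · intro m hm
      simp only [Finset.coe_image, Finset.coe_univ, Set.image_univ, Set.mem_range] at hm
      obtain ⟨y, rfl⟩ := hm
      exact (hg y).1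
    · refine Submodule.span_mono ?_ hxT
      intro y hy
      refine ⟨g ⟨y, hy⟩, ?_, (hg ⟨y, hy⟩).2⟩
      simp
  choose F hFI hF using hx
  let G : Finset (MvPolynomial (Fin n) R) := t.attach.biUnion fun x => F x.1 x.2
  have hGI : (G : Set (MvPolynomial (Fin n) R)) ⊆ (I : Set (MvPolynomial (Fin n) R)) := by
    intro m hm
    simp only [G, Finset.coe_biUnion, Set.mem_iUnion] at hm
    obtain ⟨x, _, hm⟩ := hm
    exact hFI x.1 x.2 hm
  have hGmap : Ideal.map ι I ≤ Ideal.map ι (Ideal.span (G : Set (MvPolynomial (Fin n) R))) := by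
    rw [← ht, Ideal.map_span]
    refine Ideal.span_le.mpr fun x hx => ?_
    refine Ideal.span_mono (Set.image_mono ?_) (hF x hx)
    intro m hm
    simp only [G, Finset.coe_biUnion, Set.mem_iUnion]
    exact ⟨⟨x, hx⟩, by simp, hm⟩
  have hIG : I = Ideal.span (G : Set (MvPolynomial (Fin n) R)) := by
    refine le_antisymm (fun l hl => ?_) (Ideal.span_le.mpr hGI)
    have h1 : ι l ∈ Ideal.map ι (Ideal.span (G : Set (MvPolynomial (Fin n) R))) :=
      hGmap (Ideal.mem_map_of_mem ι hl)
    have h2 : ι l ∈ Submodule.restrictScalars R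
        (Ideal.map ι (Ideal.span (G : Set (MvPolynomial (Fin n) R)))) := h1
    rw [hι, Ideal.map_includeRight_eq] at h2
    have h3 : l ∈ Submodule.restrictScalars R (Ideal.span (G : Set (MvPolynomial (Fin n) R))) := by
      apply Groth.Agent.Lib.Helper23.UnivInj.mem_of_one_tmul_mem_baseChange h
      obtain ⟨y, hy⟩ := h2
      refine ⟨y, ?_⟩
      rw [LinearMap.baseChange_eq_ltensor, hy]
      rfl
    exact h3
  have hIfg : (RingHom.ker π.toRingHom).FG := ⟨G, hIG.symm⟩
  exact Algebra.FinitePresentation.of_surjective hπ hIfg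

end Groth.Agent.S0278
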