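import Groth.Statements.S0279
import Groth.Agent.S0274

set_option autoImplicit false
universe u
open scoped TensorProduct
open Pi1

namespace Groth.Agent.S0279

open TensorProduct

section
variable {R S : Type u} [CommRing R] [CommRing S] [Algebra R S]

lemma eq_zero_of_one_tmul (h : Pi1.UnivInjective R S) {Z : Type u} [AddCommGroup Z] [Module R Z]
    (z : Z) (hz : (1 : S) ⊗ₜ[R] z = 0) : z = 0 := by
  apply Groth.Agent.S0274.eq_zero_of_tmul_one h z
  have := congrArg (TensorProduct.comm R S Z) hz
  simpa using this

/-- surjectivity descends along a universally injective ring map -/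
lemma surjective_of_lTensor (h : Pi1.UnivInjective R S) {N N' : Type u} [AddCommGroup N]
    [Module R N] [AddCommGroup N'] [Module R N'] (f : N →ₗ[R] N')
    (hf : Function.Surjective (LinearMap.lTensor S f)) : Function.Surjective f := by
  intro t
  have h0 : (LinearMap.range f).mkQ t = 0 := by
    apply eq_zero_of_one_tmul h
    obtain ⟨w, hw⟩ := hf ((1 : S) ⊗ₜ t)
    have h1 : LinearMap.lTensor S (LinearMap.range f).mkQ (LinearMap.lTensor S f w) = 0 := by
      rw [← LinearMap.comp_apply, ← LinearMap.lTensor_comp]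
      have : (LinearMap.range f).mkQ ∘ₗ f = 0 := LinearMap.range_mkQ_comp f
      rw [this, LinearMap.lTensor_zero, LinearMap.zero_apply]
    rw [hw, LinearMap.lTensor_tmul] at h1
    exact h1
  exact (Submodule.Quotient.mk_eq_zero _).1 h0

lemma finiteType_descent (h : Pi1.UnivInjective R S) (A : Type u) [CommRing A] [Algebra R A]
    [Algebra.FiniteType S (S ⊗[R] A)] : Algebra.FiniteType R A := by
  obtain ⟨s, hs⟩ := Algebra.FiniteType.out (R := S) (A := S ⊗[R] A)
  have (x : s) := TensorProduct.exists_sum_tmul_eq x.1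
  choose k t m hh using this
  let f : MvPolynomial (Σ x : s, Fin (k x)) R →ₐ[R] A := MvPolynomial.aeval (fun ⟨x, i⟩ ↦ m x i)
  apply Algebra.FiniteType.of_surjective f
  have hf : Function.Surjective (Algebra.TensorProduct.map (.id S S) f) := by
    rw [← AlgHom.range_eq_top, _root_.eq_top_iff, ← hs, Algebra.adjoin_le_iff]
    intro x hx
    let i : s := ⟨x, hx⟩
    use ∑ (j : Fin (k i)), t i j ⊗ₜ MvPolynomial.X ⟨i, j⟩
    simp [f, ← hh, i]
  have hf' : Function.Surjective (LinearMap.lTensor S f.toLinearMap) := hf
  exact surjective_of_lTensor h f.toLinearMap hf'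

attribute [local instance] Algebra.TensorProduct.rightAlgebra in
lemma finitePresentation_descent (h : Pi1.UnivInjective R S) (A : Type u) [CommRing A]
    [Algebra R A] [Algebra.FinitePresentation S (S ⊗[R] A)] : Algebra.FinitePresentation R A := by
  have : Algebra.FiniteType R A := finiteType_descent h A
  rw [Algebra.FiniteType.iff_quotient_mvPolynomial''] at this
  obtain ⟨n, f, hf⟩ := this
  let fT := Algebra.TensorProduct.map (.id S S) f
  have hker : (RingHom.ker f.toRingHom).map
      (algebraMap (MvPolynomial (Fin n) R) (S ⊗[R] MvPolynomial (Fin n) R)) = RingHom.ker fT :=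
    (Algebra.TensorProduct.lTensor_ker f hf).symm
  have hfg : (RingHom.ker fT).FG := by
    apply Algebra.FinitePresentation.ker_fG_of_surjective
    exact Algebra.FiniteType.baseChangeAux_surj S hf
  refine .of_surjective hf ?_
  set I := RingHom.ker f.toRingHom with hI
  set g := algebraMap (MvPolynomial (Fin n) R) (S ⊗[R] MvPolynomial (Fin n) R) with hg
  have hg1 : ∀ p, g p = (1 : S) ⊗ₜ[R] p := fun p => rfl
  rw [← hker] at hfg
  have hfg' : (Submodule.span (S ⊗[R] MvPolynomial (Fin n) R) (g '' (I : Set _))).FG := hfg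
  obtain ⟨T, hTsub, hTspan⟩ := (Submodule.fg_span_iff_fg_span_finset_subset _).1 hfg'
  have hex : ∀ τ : T, ∃ φ ∈ I, g φ = τ.1 := fun τ => hTsub τ.2
  choose φ hφI hφ using hex
  have hle : I ≤ Ideal.span (Set.range φ) := by
    intro z hz
    have hmem : g z ∈ Ideal.span (Set.range fun τ : T => g (φ τ)) := by
      have h1 : g z ∈ Submodule.span (S ⊗[R] MvPolynomial (Fin n) R) (g '' (I : Set _)) :=
        Submodule.subset_span ⟨z, hz, rfl⟩
      rw [hTspan] at h1
      have h2 : (Set.range fun τ : T => g (φ τ)) = (T : Set _) := by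
        ext y
        constructor
        · rintro ⟨τ, rfl⟩
          show g (φ τ) ∈ (T : Set _)
          rw [hφ τ]; exact τ.2
        · intro hy
          exact ⟨⟨y, hy⟩, hφ ⟨y, hy⟩⟩
      rw [h2]
      exact h1
    obtain ⟨c, hc⟩ := Ideal.mem_span_range_iff_exists_fun.1 hmem
    set I' := Ideal.span (Set.range φ) with hI'
    let π : MvPolynomial (Fin n) R →ₗ[R] (MvPolynomial (Fin n) R ⧸ I') :=
      (Ideal.Quotient.mkₐ R I').toLinearMap
    have hΘ : ∀ (c : S ⊗[R] MvPolynomial (Fin n) R) (ψ : MvPolynomial (Fin n) R), ψ ∈ I' →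
        LinearMap.lTensor S π (c * g ψ) = 0 := by
      intro c ψ hψ
      induction c with
      | zero => simp
      | add x y hx hy => rw [add_mul, map_add, hx, hy, add_zero]
      | tmul s p =>
        rw [hg1, Algebra.TensorProduct.tmul_mul_tmul, LinearMap.lTensor_tmul]
        have : π (p * ψ) = 0 :=
          Ideal.Quotient.eq_zero_iff_mem.2 (I'.mul_mem_left p hψ)
        rw [this, TensorProduct.tmul_zero]
    have h3 : LinearMap.lTensor S π (g z) = 0 := by
      rw [← hc, map_sum]
      exact Finset.sum_eq_zero fun τ _ => hΘ (c τ) (φ τ) (Ideal.subset_span ⟨τ, rfl⟩)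
    rw [hg1, LinearMap.lTensor_tmul] at h3
    have h4 : π z = 0 := eq_zero_of_one_tmul h _ h3
    exact Ideal.Quotient.eq_zero_iff_mem.1 h4
  have hge : Ideal.span (Set.range φ) ≤ I := by
    rw [Ideal.span_le]
    rintro _ ⟨τ, rfl⟩
    exact hφI τ
  have : I = Ideal.span (Set.range φ) := le_antisymm hle hge
  rw [this]
  exact Submodule.fg_span (Set.finite_range φ)

lemma formallyUnramified_descent (h : Pi1.UnivInjective R S) (A : Type u) [CommRing A]
    [Algebra R A] [Algebra.FormallyUnramified S (S ⊗[R] A)] : Algebra.FormallyUnramified R A := by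
  constructor
  let _ : Algebra A (S ⊗[R] A) := Algebra.TensorProduct.rightAlgebra
  have : Subsingleton (S ⊗[R] Ω[A⁄R]) :=
    (KaehlerDifferential.tensorKaehlerEquivBase R S A (S ⊗[R] A)).subsingleton
  refine ⟨fun a b => ?_⟩
  have := eq_zero_of_one_tmul h (a - b) (Subsingleton.elim _ _)
  exact sub_eq_zero.1 this

end


/-- Let R → S be a universally injective ring map and A an R-algebra such that S ⊗_R A is étale over S.
Then A is étale over R. -/
theorem result (R S : Type u) [CommRing R] [CommRing S] [Algebra R S]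
    (h : Pi1.UnivInjective R S) (A : Type u) [CommRing A] [Algebra R A]
    [Algebra.Etale S (S ⊗[R] A)] : Algebra.Etale R A := by
  haveI : Module.Flat S (S ⊗[R] A) := inferInstance
  haveI : Module.Flat R A := Groth.Agent.S0274.result R S h A
  haveI := formallyUnramified_descent h A
  haveI := finitePresentation_descent h A
  exact Algebra.Etale.of_formallyUnramified_of_flat

end Groth.Agent.S0279
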