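import Groth.Statements.S0288
import Groth.Agent.Lib.Helper13.Normalization
import Groth.Agent.S1450
import Groth.Agent.S0246

set_option autoImplicit false
universe u
open Pi1

namespace Groth.Agent.S0288

open AlgebraicGeometry CategoryTheory CategoryTheory.Limits in
/-- Let X be a normal integral scheme with function field K, L a finite field extension of K and Y -> X
the normalization of X in Spec L. If Y -> X is unramified (formally unramified and locally of finite
type), then it is etale, and finite. -/
theorem result {X : Scheme.{u}} [IsIntegral X] (hX : Pi1.IsNormalScheme X) (L : Type u) [Field L]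
    [Algebra X.functionField L] [FiniteDimensional X.functionField L]
    [QuasiCompact (Spec.map (CommRingCat.ofHom (algebraMap X.functionField L)) ≫ X.fromSpecStalk (genericPoint X))]
    [QuasiSeparated (Spec.map (CommRingCat.ofHom (algebraMap X.functionField L)) ≫ X.fromSpecStalk (genericPoint X))]
    [FormallyUnramified (Spec.map (CommRingCat.ofHom (algebraMap X.functionField L)) ≫ X.fromSpecStalk (genericPoint X)).fromNormalization]
    [LocallyOfFiniteType (Spec.map (CommRingCat.ofHom (algebraMap X.functionField L)) ≫ X.fromSpecStalk (genericPoint X)).fromNormalization] :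
    Etale (Spec.map (CommRingCat.ofHom (algebraMap X.functionField L)) ≫ X.fromSpecStalk (genericPoint X)).fromNormalization ∧
    IsFinite (Spec.map (CommRingCat.ofHom (algebraMap X.functionField L)) ≫ X.fromSpecStalk (genericPoint X)).fromNormalization := by
  set g := Spec.map (CommRingCat.ofHom (algebraMap X.functionField L)) ≫
    X.fromSpecStalk (genericPoint X) with hg
  have hK : IsField (CommRingCat.of L) := Field.toIsField L
  have hgη : ∀ pt, g pt = genericPoint X := fun pt => by
    rw [hg]
    exact Groth.Agent.Lib.Helper13.Normalization.comp_fromSpecStalk_apply X L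
      (algebraMap X.functionField L) pt
  haveI := Groth.Agent.Lib.Helper13.Normalization.isIntegral_Spec hK
  haveI : IsIntegral g.normalization := inferInstance
  have hY : ∀ y : X, CAlg2.IsGeomUnibranch (X.presheaf.stalk y) := fun y => by
    haveI := (hX y).1
    haveI := (hX y).2
    exact Groth.Agent.S0246.isGeomUnibranch_of_normal
  have hdom : genericPoint X ∈ Set.range g.fromNormalization :=
    ⟨genericPoint g.normalization,
      Groth.Agent.Lib.Helper13.Normalization.fromNormalization_genericPoint hK g hgη⟩
  refine ⟨(Groth.Agent.S1450.result g.fromNormalization hY hdom).1, ?_⟩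
  rw [IsFinite.iff_isIntegralHom_and_locallyOfFiniteType]
  exact ⟨inferInstance, inferInstance⟩

end Groth.Agent.S0288
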