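import Groth.Statements.S0291
import Groth.Agent.Lib.Helper7.HartogsSpec

set_option autoImplicit false
universe u
open Pi1

namespace Groth.Agent.S0291

open AlgebraicGeometry CategoryTheory CategoryTheory.Limits in
/-- Let A be a Noetherian local ring and B a finite A-algebra such that the local rings of Spec B at all
closed points have depth at least 2. Then restriction from global sections of Spec B to sections
over the preimage of the punctured spectrum of A is an isomorphism. -/
theorem result (A B : Type u) [CommRing A] [IsNoetherianRing A] [IsLocalRing A] [CommRing B] [Algebra A B]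
    [Module.Finite A B]
    (h : ∀ (m : Ideal B) (_ : m.IsMaximal), (2 : ℕ∞) ≤ LocCoh.depth (Localization.AtPrime m) (Localization.AtPrime m)) :
    IsIso ((Spec (CommRingCat.of B)).presheaf.map (homOfLE (le_top :
      Spec.map (CommRingCat.ofHom (algebraMap A B)) ⁻¹ᵁ FEt.puncturedSpec A ≤ ⊤)).op) := by
  open Groth.Agent.Lib.Helper7.Hartogs Groth.Agent.Lib.Helper21.DepthKit
    Groth.Agent.Lib.Helper2.R0S1 in
  haveI : IsNoetherianRing B := IsNoetherianRing.of_finite A B
  haveI : Algebra.IsIntegral A B := Algebra.IsIntegral.of_finite A B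
  set J : Ideal B := (IsLocalRing.maximalIdeal A).map (algebraMap A B) with hJ
  have hdepth : (2 : ℕ∞) ≤ LocCoh.idealDepth J B := by
    rw [idealDepth_eq_iInf_depth_localization]
    refine le_iInf₂ fun p hp => ?_
    have hcomap : (IsLocalRing.maximalIdeal A) ≤ p.asIdeal.comap (algebraMap A B) :=
      Ideal.map_le_iff_le_comap.1 hp
    have hcomap' : p.asIdeal.comap (algebraMap A B) = IsLocalRing.maximalIdeal A :=
      ((IsLocalRing.maximalIdeal.isMaximal A).eq_of_le (Ideal.comap_ne_top _ p.2.ne_top)
        hcomap).symm
    have hmax : p.asIdeal.IsMaximal := by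
      apply Ideal.isMaximal_of_isIntegral_of_isMaximal_comap (R := A) p.asIdeal
      rw [hcomap']
      exact IsLocalRing.maximalIdeal.isMaximal A
    rw [depth_congr (locEquiv p.asIdeal)]
    exact h p.asIdeal hmax
  have hU : ∀ x : PrimeSpectrum B,
      x ∈ Spec.map (CommRingCat.ofHom (algebraMap A B)) ⁻¹ᵁ FEt.puncturedSpec A ↔
        ¬ J ≤ x.asIdeal := by
    intro x
    have h1 : x ∈ Spec.map (CommRingCat.ofHom (algebraMap A B)) ⁻¹ᵁ FEt.puncturedSpec A ↔
        PrimeSpectrum.comap (algebraMap A B) x ≠ IsLocalRing.closedPoint A := Iff.rfl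
    rw [h1, hJ, Ideal.map_le_iff_le_comap, not_iff_not]
    constructor
    · intro heq
      have : (PrimeSpectrum.comap (algebraMap A B) x).asIdeal = IsLocalRing.maximalIdeal A := by
        rw [heq]; rfl
      rw [← this]
      exact le_rfl
    · intro hle
      apply PrimeSpectrum.ext
      exact ((IsLocalRing.maximalIdeal.isMaximal A).eq_of_le
        (Ideal.comap_ne_top _ x.2.ne_top) hle).symm
  have hbij := spec_bijective_res B J hdepth _ hU
  exact (ConcreteCategory.isIso_iff_bijective _).2 hbij

end Groth.Agent.S0291
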