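import Groth.Statements.S14462
import Groth.Agent.Lib.Helper7.PurityDiscr
import Groth.Agent.Lib.helper19.GenEtale1

set_option autoImplicit false
universe u
open CategoryTheory AlgebraicGeometry
open Unram

namespace Groth.Agent.S14462

/-- Let f : X → Y be finite and flat with Y locally Noetherian, and let U ⊆ Y be open with every point
of the complement having a local ring of Krull dimension at least 2. If f is étale over U, then f is
étale. -/
theorem result {X Y : Scheme.{u}} [IsLocallyNoetherian Y]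
    (f : X ⟶ Y) [IsFinite f] [Flat f] (U : Y.Opens)
    (hU : ∀ y : Y, y ∉ U → (2 : WithBot ℕ∞) ≤ ringKrullDim (Y.presheaf.stalk y))
    [Etale (f ∣_ U)] : Etale f := by
  classical
  haveI : LocallyOfFiniteType f := inferInstance
  haveI : LocallyOfFinitePresentation f := inferInstance
  -- `f` is étale over `f⁻¹ U`
  haveI hg : Etale ((f ⁻¹ᵁ U).ι ≫ f) := by
    rw [← morphismRestrict_ι]
    infer_instance
  have hsrc : RingHom.StableUnderCompositionWithLocalizationAwaySource RingHom.Etale := by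
    intro R S T _ _ _ _ r _ g hg
    refine RingHom.Etale.stableUnderComposition _ _ ?_ hg
    show (algebraMap R S).Etale
    rw [RingHom.etale_algebraMap]
    exact Algebra.Etale.of_isLocalizationAway r
  rw [HasRingHomProperty.iff_exists_appLE (P := @Etale) hsrc]
  intro x
  obtain ⟨_, ⟨W, hW, rfl⟩, hxW, -⟩ :=
    Y.isBasis_affineOpens.exists_subset_of_mem_open (Set.mem_univ (f x)) isOpen_univ
  have hV : IsAffineOpen (f ⁻¹ᵁ W) := hW.preimage f
  refine ⟨⟨W, hW⟩, ⟨f ⁻¹ᵁ W, hV⟩, hxW, le_rfl, ?_⟩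
  set V : X.Opens := f ⁻¹ᵁ W with hVdef
  have hfin : (f.appLE W V le_rfl).hom.Finite := by
    have h1 := IsFinite.finite_app f W hW
    rwa [← Scheme.Hom.appLE_eq_app] at h1
  have hflat : (f.appLE W V le_rfl).hom.Flat := f.flat_appLE hW hV le_rfl
  letI : Algebra Γ(Y, W) Γ(X, V) := (f.appLE W V le_rfl).hom.toAlgebra
  haveI : Module.Finite Γ(Y, W) Γ(X, V) := hfin
  haveI : Module.Flat Γ(Y, W) Γ(X, V) := hflat
  haveI : IsNoetherianRing Γ(Y, W) := IsLocallyNoetherian.component_noetherian ⟨W, hW⟩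
  have het : Algebra.Etale Γ(Y, W) Γ(X, V) := by
    apply Groth.Agent.Lib.Helper7.PurityDiscr.etale_of_forall_height_le_one_of_flat
    intro q hqprime hq
    -- the point of `X` corresponding to `q`
    let Qp : Spec Γ(X, V) := ⟨q, hqprime⟩
    let x' : V := hV.isoSpec.inv Qp
    have hx'q : hV.primeIdealOf x' = Qp := by
      change hV.isoSpec.hom (hV.isoSpec.inv Qp) = Qp
      rw [← Scheme.Hom.comp_apply, Iso.inv_hom_id]
      rfl
    have hx'V : x'.1 ∈ V := x'.2
    have hx'eq : (⟨x'.1, hx'V⟩ : V) = x' := rfl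
    set q₀ : Ideal Γ(X, V) := (hV.primeIdealOf ⟨x'.1, hx'V⟩).asIdeal with hq₀
    have hq₀q : q₀ = q := by
      rw [hq₀, hx'eq, hx'q]
    have hcomap := IsAffineOpen.comap_primeIdealOf_appLE W hW V hV le_rfl hx'V
    -- `f x' ∈ U`
    have hyU : f x'.1 ∈ U := by
      by_contra hnot
      have h2 := hU _ hnot
      letI := Y.presheaf.algebra_section_stalk ⟨f x'.1, hx'V⟩
      haveI := hW.isLocalization_stalk ⟨f x'.1, hx'V⟩
      rw [IsLocalization.AtPrime.ringKrullDim_eq_height
        (hW.primeIdealOf ⟨f x'.1, hx'V⟩).asIdeal (Y.presheaf.stalk (f x'.1)), ← hcomap] at h2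
      have h2' : ((2 : ℕ∞) : WithBot ℕ∞) ≤ ((q₀.comap (algebraMap Γ(Y, W) Γ(X, V))).height :
          WithBot ℕ∞) := h2
      rw [hq₀q] at h2'
      have h3 : (((q.comap (algebraMap Γ(Y, W) Γ(X, V))).height : ℕ∞) : WithBot ℕ∞) ≤
          ((1 : ℕ∞) : WithBot ℕ∞) := WithBot.coe_le_coe.mpr hq
      have h4 : ((2 : ℕ∞) : WithBot ℕ∞) ≤ ((1 : ℕ∞) : WithBot ℕ∞) := le_trans h2' h3
      exact absurd (WithBot.coe_le_coe.mp h4) (by decide)
    have hx'U : x'.1 ∈ f ⁻¹ᵁ U := hyU
    -- the stalk map at `x'` is formally étale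
    have hu : (f.stalkMap x'.1).hom.FormallyUnramified :=
      Groth.Agent.Lib.Helper19.GenEtale1.formallyUnramified_stalkMap_of_nhd f (f ⁻¹ᵁ U) x'.1 hx'U
    have hs : (f.stalkMap x'.1).hom.FormallySmooth :=
      Groth.Agent.Lib.Helper19.GenEtale1.formallySmooth_stalkMap_of_nhd f (f ⁻¹ᵁ U) x'.1 hx'U
    have hsm : Algebra.FormallySmooth Γ(Y, W) (Localization.AtPrime q₀) :=
      (formallySmooth_stalkMap_iff W hW V hV le_rfl hx'V).mp hs
    let p := (hW.primeIdealOf ⟨f x'.1, hx'V⟩).asIdeal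
    haveI hlies : q₀.LiesOver p :=
      ⟨congr($(IsAffineOpen.comap_primeIdealOf_appLE W hW V hV le_rfl hx'V).1).symm⟩
    have hun : Algebra.FormallyUnramified Γ(Y, W) (Localization.AtPrime q₀) := by
      letI := Localization.AtPrime.algebraOfLiesOver p q₀
      have h1 : Algebra.FormallyUnramified (Localization.AtPrime p) (Localization.AtPrime q₀) := by
        rw [← RingHom.formallyUnramified_algebraMap]
        exact (RingHom.FormallyUnramified.respectsIso.arrow_mk_iso_iff
          (IsAffineOpen.arrowStalkMapIso f W hW V hV le_rfl hx'V)).mp hu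
      exact Algebra.FormallyUnramified.comp Γ(Y, W) (Localization.AtPrime p)
        (Localization.AtPrime q₀)
    have het₀ : Algebra.FormallyEtale Γ(Y, W) (Localization.AtPrime q₀) :=
      Algebra.FormallyEtale.of_formallyUnramified_and_formallySmooth
    have htr : ∀ (I J : Ideal Γ(X, V)) [I.IsPrime] [J.IsPrime], I = J →
        Algebra.FormallyEtale Γ(Y, W) (Localization.AtPrime I) →
        Algebra.FormallyEtale Γ(Y, W) (Localization.AtPrime J) := by
      intro I J _ _ hIJ hI
      subst hIJ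
      exact hI
    exact htr q₀ q hq₀q het₀
  exact RingHom.etale_algebraMap.mpr het

end Groth.Agent.S14462
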