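import Groth.Statements.S11174
-- import your own Groth.Agent.* helpers here
import Groth.Agent.S0299
import Groth.Agent.Lib.Helper26.Matlis
import Groth.Agent.Lib.Helper26.MatlisComplete

set_option autoImplicit false
universe u
open CategoryTheory
open InjHull

namespace Groth.Agent.S11174

/-- Fix a Noetherian local ring A, write m for its maximal ideal and k for its residue field, and let I
be an A-module such that (a) every element of I is killed by some power of m, (b) the A-module
Hom_A(k, I) is isomorphic to k, and (c) there is a decreasing sequence of ideals a_1 ⊇ a_2 ⊇ … of A,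
cofinal with the powers of m in both directions (each a_n contains a power of m and each power of m
contains some a_n), with length_A(A/a_n) = length_A(Hom_A(A/a_n, I)) for every n. Then I is an
injective hull of k: some A-linear map k → I is an essential injection into an injective module. -/
theorem result (A : Type u) [CommRing A] [IsLocalRing A] [IsNoetherianRing A] (I : Type u) [AddCommGroup I] [Module A I] (ha : LocCoh.IsPowerTorsion (IsLocalRing.maximalIdeal A) I) (hb : Nonempty ((IsLocalRing.ResidueField A →ₗ[A] I) ≃ₗ[A] IsLocalRing.ResidueField A)) (a : ℕ → Ideal A) (hanti : Antitone a) (hcof : ∀ n : ℕ, ∃ N : ℕ, IsLocalRing.maximalIdeal A ^ N ≤ a n) (hcof' : ∀ N : ℕ, ∃ n : ℕ, a n ≤ IsLocalRing.maximalIdeal A ^ N) (hlen : ∀ n : ℕ, Module.length A (A ⧸ a n) = Module.length A ((A ⧸ a n) →ₗ[A] I)) : ∃ f : IsLocalRing.ResidueField A →ₗ[A] I, InjHull.IsInjectiveHull f := by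
  classical
  obtain ⟨E, _, _, f, hf⟩ := Groth.Agent.S0299.result A I
  obtain ⟨e⟩ := hb
  set φ₀ : IsLocalRing.ResidueField A →ₗ[A] I := e.symm 1 with hφ₀def
  -- socle elements are in the range of φ₀
  have hsoc : ∀ y : I, (∀ b ∈ IsLocalRing.maximalIdeal A, b • y = 0) → y ∈ LinearMap.range φ₀ := by
    intro y hy
    let ψ' : (A ⧸ IsLocalRing.maximalIdeal A) →ₗ[A] I :=
      Submodule.liftQ (IsLocalRing.maximalIdeal A) (LinearMap.toSpanSingleton A I y) (by
        intro b hb
        rw [LinearMap.mem_ker, LinearMap.toSpanSingleton_apply]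
        exact hy b hb)
    let ψ : IsLocalRing.ResidueField A →ₗ[A] I := ψ'
    have hψ1 : ψ 1 = y := by
      have h1 : ψ' (Submodule.Quotient.mk 1) = y := by
        rw [Submodule.liftQ_apply, LinearMap.toSpanSingleton_apply, one_smul]
      exact h1
    obtain ⟨c, hc⟩ := IsLocalRing.residue_surjective (e ψ)
    have h1 : e (c • φ₀) = e ψ := by
      rw [map_smul, hφ₀def, LinearEquiv.apply_symm_apply, ← hc, Algebra.smul_def, mul_one]
      rfl
    have h2 : c • φ₀ = ψ := e.injective h1
    refine ⟨IsLocalRing.residue A c, ?_⟩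
    rw [← hψ1, ← h2, LinearMap.smul_apply, ← map_smul, Algebra.smul_def, mul_one]
    rfl
  -- every nonzero element has a nonzero multiple in the socle
  have hess : ∀ x : I, x ≠ 0 → ∃ r : A, r • x ≠ 0 ∧ r • x ∈ LinearMap.range φ₀ := by
    intro x hx0
    have hn0 : Nat.find (ha x) ≠ 0 := by
      intro h0
      have := Nat.find_spec (ha x) 1 (by rw [h0, pow_zero, Ideal.one_eq_top]; trivial)
      rw [one_smul] at this
      exact hx0 this
    obtain ⟨k, hk⟩ := Nat.exists_eq_succ_of_ne_zero hn0
    have hmin : ¬ ∀ a ∈ IsLocalRing.maximalIdeal A ^ k, a • x = 0 :=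
      Nat.find_min (ha x) (by omega)
    push_neg at hmin
    obtain ⟨r, hr, hrx⟩ := hmin
    refine ⟨r, hrx, hsoc _ fun b hb => ?_⟩
    rw [smul_smul]
    apply Nat.find_spec (ha x)
    rw [hk, pow_succ']
    exact Ideal.mul_mem_mul hb hr
  have hφ₀ne : φ₀ ≠ 0 := by
    intro h0
    have : (1 : IsLocalRing.ResidueField A) = 0 := by
      have h1 := congrArg e h0
      rw [hφ₀def, LinearEquiv.apply_symm_apply, map_zero] at h1
      exact h1
    exact one_ne_zero this
  have hφ₀inj : Function.Injective φ₀ := by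
    rw [injective_iff_map_eq_zero]
    intro c hc
    by_contra hc0
    apply hφ₀ne
    have h1 : φ₀ 1 = 0 := by
      have : (1 : IsLocalRing.ResidueField A) = c⁻¹ * c := (inv_mul_cancel₀ hc0).symm
      obtain ⟨r, hr⟩ := IsLocalRing.residue_surjective c⁻¹
      have h2 : r • c = c⁻¹ * c := by rw [Algebra.smul_def, ← hr]; rfl
      rw [this, ← h2, map_smul, hc, smul_zero]
    apply LinearMap.ext
    intro d
    obtain ⟨s, rfl⟩ := IsLocalRing.residue_surjective d
    have : IsLocalRing.residue A s = s • (1 : IsLocalRing.ResidueField A) := by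
      rw [Algebra.smul_def, mul_one]; rfl
    rw [this, map_smul, h1, smul_zero, LinearMap.zero_apply]
  have hφ₀ess : InjHull.IsEssentialInj φ₀ := by
    refine ⟨hφ₀inj, fun N hN => ?_⟩
    obtain ⟨x, hx, hx0⟩ := (Submodule.ne_bot_iff _).1 hN
    obtain ⟨r, hr0, hr⟩ := hess x hx0
    exact (Submodule.ne_bot_iff _).2 ⟨r • x, ⟨N.smul_mem r hx, hr⟩, hr0⟩
  -- the composite k → E is an injective hull
  have hh : InjHull.IsInjectiveHull (f ∘ₗ φ₀) := by
    refine ⟨⟨hf.injective.comp hφ₀inj, fun N hN => ?_⟩, hf.isInjective⟩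
    obtain ⟨z, hz, hz0⟩ := (Submodule.ne_bot_iff _).1 (hf.essential N hN)
    obtain ⟨hzN, x, rfl⟩ := hz
    have hx0 : x ≠ 0 := fun h => hz0 (by rw [h, map_zero])
    obtain ⟨r, hr0, y, hy⟩ := hess x hx0
    refine (Submodule.ne_bot_iff _).2 ⟨r • f x, ⟨N.smul_mem r hzN, ⟨y, ?_⟩⟩, ?_⟩
    · rw [LinearMap.comp_apply, hy, map_smul]
    · rw [← map_smul]
      exact fun h => hr0 (hf.injective (by rw [h, map_zero]))
  -- f is surjective
  have hEtors := Groth.Agent.Lib.Helper26.Matlis.isPowerTorsion hh.toIsEssentialInj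
  have hfl : ∀ n, IsFiniteLength A (A ⧸ a n) := by
    intro n
    obtain ⟨N, hN⟩ := hcof n
    have h1 := Groth.Agent.Lib.Helper26.Matlis.isFiniteLength_quotient_pow (R := A) N
    rw [← Module.length_ne_top_iff] at h1 ⊢
    have hle := Module.length_le_of_surjective (Submodule.factor hN)
      (Submodule.factor_surjective hN)
    exact fun h => h1 (top_le_iff.mp (h ▸ hle))
  have hsurj : Function.Surjective f := by
    intro z
    obtain ⟨N, hN⟩ := hEtors z
    obtain ⟨n, hn⟩ := hcof' N
    -- postcomposition with f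
    let Φ : ((A ⧸ a n) →ₗ[A] I) →ₗ[A] ((A ⧸ a n) →ₗ[A] E) := LinearMap.compRight A f
    have hΦinj : Function.Injective Φ := by
      intro g g' hgg'
      refine LinearMap.ext fun x => ?_
      apply hf.injective
      exact LinearMap.congr_fun hgg' x
    have hlenE := Groth.Agent.Lib.Helper26.Matlis.length_linearMap hh (A ⧸ a n) (hfl n)
    have hfin : Module.length A ((A ⧸ a n) →ₗ[A] I) ≠ ⊤ := by
      rw [← hlen n]; exact Module.length_ne_top_iff.2 (hfl n)
    have h2 := Module.length_eq_add_of_exact Φ (LinearMap.range Φ).mkQ hΦinj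
      (Submodule.mkQ_surjective _) (LinearMap.exact_map_mkQ_range Φ)
    rw [hlenE, hlen n] at h2
    have h3 : Module.length A (((A ⧸ a n) →ₗ[A] E) ⧸ LinearMap.range Φ) = 0 := by
      have : Module.length A ((A ⧸ a n) →ₗ[A] I) + 0 = Module.length A ((A ⧸ a n) →ₗ[A] I) +
          Module.length A (((A ⧸ a n) →ₗ[A] E) ⧸ LinearMap.range Φ) := by
        rw [add_zero]; exact h2
      exact (ENat.add_right_injective_of_ne_top hfin this).symm
    rw [Module.length_eq_zero_iff] at h3
    have hΦsurj : LinearMap.range Φ = ⊤ := Submodule.Quotient.subsingleton_iff.1 h3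
    let θ : (A ⧸ a n) →ₗ[A] E :=
      Submodule.liftQ (a n) (LinearMap.toSpanSingleton A E z) (by
        intro b hb
        rw [LinearMap.mem_ker, LinearMap.toSpanSingleton_apply]
        exact hN b (hn hb))
    obtain ⟨g, hg⟩ := LinearMap.range_eq_top.mp hΦsurj θ
    refine ⟨g (Submodule.Quotient.mk 1), ?_⟩
    have := LinearMap.congr_fun hg (Submodule.Quotient.mk 1)
    simp only [Φ, θ] at this
    rw [LinearMap.compRight_apply, LinearMap.comp_apply, Submodule.liftQ_apply,
      LinearMap.toSpanSingleton_apply, one_smul] at this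
    exact this
  -- conclude
  let eq : I ≃ₗ[A] E := LinearEquiv.ofBijective f ⟨hf.injective, hsurj⟩
  have hIinj : Module.Injective A I := by
    have hE := hf.isInjective
    refine ⟨fun X Y _ _ _ _ j hj g => ?_⟩
    obtain ⟨h, hh'⟩ := hE.out j hj (eq.toLinearMap ∘ₗ g)
    refine ⟨eq.symm.toLinearMap ∘ₗ h, fun x => ?_⟩
    rw [LinearMap.comp_apply, hh', LinearMap.comp_apply]
    exact eq.symm_apply_apply _
  exact ⟨φ₀, ⟨hφ₀ess, hIinj⟩⟩

end Groth.Agent.S11174
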