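import Groth.Statements.S0312
-- import your own Groth.Agent.* helpers here
import Groth.Agent.S11174
import Groth.Agent.Lib.Helper26.FlatLocalLength
import Mathlib.Algebra.Module.FinitePresentation

set_option autoImplicit false
universe u v
open Matlis

namespace Groth.Agent.S0312

set_option backward.isDefEq.respectTransparency false in
lemma length_congrLeft {R : Type u} [CommRing R] {M N T : Type u} [AddCommGroup M] [AddCommGroup N]
    [AddCommGroup T] [Module R M] [Module R N] [Module R T] (e : M ≃ₗ[R] N) :
    Module.length R (M →ₗ[R] T) = Module.length R (N →ₗ[R] T) :=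
  (LinearEquiv.congrLeft T R e).length_eq

/-- For a flat local homomorphism A → B of Noetherian local rings with m_A B equal to the maximal ideal
of B, tensoring an injective hull of the residue field of A with B gives an injective hull of the
residue field of B. -/
theorem result (A : Type u) [CommRing A] [IsLocalRing A] [IsNoetherianRing A] (B : Type u) [CommRing B] [IsLocalRing B] [IsNoetherianRing B] [Algebra A B] [IsLocalHom (algebraMap A B)] [Module.Flat A B] (hm : (IsLocalRing.maximalIdeal A).map (algebraMap A B) = IsLocalRing.maximalIdeal B) (E : Type u) [AddCommGroup E] [Module A E] (f : IsLocalRing.ResidueField A →ₗ[A] E) (hf : InjHull.IsInjectiveHull f) : ∃ g : IsLocalRing.ResidueField B →ₗ[B] TensorProduct A B E, InjHull.IsInjectiveHull g := by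
  classical
  have hEtors := Groth.Agent.Lib.Helper26.Matlis.isPowerTorsion hf.toIsEssentialInj
  -- (a) power torsion
  have ha : LocCoh.IsPowerTorsion (IsLocalRing.maximalIdeal B) (TensorProduct A B E) := by
    intro z
    induction z using TensorProduct.induction_on with
    | zero => exact ⟨0, fun a _ => smul_zero a⟩
    | tmul b x =>
      obtain ⟨n, hn⟩ := hEtors x
      refine ⟨n, fun c hc => ?_⟩
      rw [← hm, ← Ideal.map_pow] at hc
      refine Submodule.span_induction (p := fun c _ => c • (b ⊗ₜ[A] x) = 0) ?_ ?_ ?_ ?_ hc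
      · rintro _ ⟨a, ha, rfl⟩
        rw [TensorProduct.smul_tmul', smul_eq_mul, ← Algebra.smul_def,
          TensorProduct.smul_tmul, hn a ha, TensorProduct.tmul_zero]
      · exact zero_smul _ _
      · intro c c' _ _ h h'
        rw [add_smul, h, h', add_zero]
      · intro c' c _ h
        rw [smul_eq_mul, mul_smul, h, smul_zero]
    | add z w hz hw =>
      obtain ⟨n, hn⟩ := hz
      obtain ⟨n', hn'⟩ := hw
      refine ⟨max n n', fun c hc => ?_⟩
      rw [smul_add, hn c (Ideal.pow_le_pow_right (le_max_left _ _) hc),
        hn' c (Ideal.pow_le_pow_right (le_max_right _ _) hc), add_zero]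
  -- core length computations
  have core1 : ∀ J : Ideal A, IsFiniteLength A (A ⧸ J) →
      Module.length B (B ⧸ J.map (algebraMap A B)) = Module.length A (A ⧸ J) := by
    intro J hJ
    rw [(Groth.Agent.Lib.Helper26.FlatLocalLength.quotEquiv (B := B) J).length_eq]
    exact Groth.Agent.Lib.Helper26.FlatLocalLength.length_baseChange hm _ hJ
  have core2 : ∀ J : Ideal A, IsFiniteLength A (A ⧸ J) →
      Module.length B ((B ⧸ J.map (algebraMap A B)) →ₗ[B] TensorProduct A B E)
        = Module.length A (A ⧸ J) := by
    intro J hJ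
    have hlenA := Groth.Agent.Lib.Helper26.Matlis.length_linearMap hf (A ⧸ J) hJ
    have hfl : IsFiniteLength A ((A ⧸ J) →ₗ[A] E) := by
      rw [← Module.length_ne_top_iff, hlenA, Module.length_ne_top_iff]; exact hJ
    have e2 := length_congrLeft (T := TensorProduct A B E)
      (Groth.Agent.Lib.Helper26.FlatLocalLength.quotEquiv (B := B) J)
    have : Module.FinitePresentation A (A ⧸ J) := Module.finitePresentation_of_finite A (A ⧸ J)
    have e3 := (Module.FinitePresentation.isBaseChange_map A (A ⧸ J) E B).equiv
    rw [e2, ← e3.length_eq,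
      Groth.Agent.Lib.Helper26.FlatLocalLength.length_baseChange hm _ hfl, hlenA]
  have hflA : ∀ n, IsFiniteLength A (A ⧸ IsLocalRing.maximalIdeal A ^ n) :=
    fun n => Groth.Agent.Lib.Helper26.Matlis.isFiniteLength_quotient_pow n
  have hJn : ∀ n, (IsLocalRing.maximalIdeal A ^ n).map (algebraMap A B)
      = IsLocalRing.maximalIdeal B ^ n := fun n => by rw [Ideal.map_pow, hm]
  -- (b)
  have hb : Nonempty ((IsLocalRing.ResidueField B →ₗ[B] TensorProduct A B E) ≃ₗ[B]
      IsLocalRing.ResidueField B) := by
    have h1 := core2 (IsLocalRing.maximalIdeal A ^ 1) (hflA 1)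
    have h2 := core1 (IsLocalRing.maximalIdeal A ^ 1) (hflA 1)
    rw [← h2, hJn 1, pow_one] at h1
    let ε' : (B ⧸ IsLocalRing.maximalIdeal B) ≃ₗ[B] (B ⧸ IsLocalRing.maximalIdeal B) :=
      LinearEquiv.refl _ _
    let ε : IsLocalRing.ResidueField B ≃ₗ[B] (B ⧸ IsLocalRing.maximalIdeal B) := ε'
    have e4 := length_congrLeft (T := TensorProduct A B E) ε
    have h3 : Module.length B (IsLocalRing.ResidueField B →ₗ[B] TensorProduct A B E) = 1 := by
      rw [e4, h1]
      have : IsSimpleModule B (B ⧸ IsLocalRing.maximalIdeal B) :=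
        isSimpleModule_iff_quot_maximal.mpr
          ⟨IsLocalRing.maximalIdeal B, inferInstance, ⟨LinearEquiv.refl _ _⟩⟩
      exact Module.length_eq_one B _
    have hs : IsSimpleModule B (IsLocalRing.ResidueField B →ₗ[B] TensorProduct A B E) :=
      Module.length_eq_one_iff.mp h3
    obtain ⟨I', hI', ⟨e⟩⟩ := isSimpleModule_iff_quot_maximal.mp hs
    have hIm : I' = IsLocalRing.maximalIdeal B := IsLocalRing.eq_maximalIdeal hI'
    subst hIm
    exact ⟨e.trans ε.symm⟩
  -- apply the criterion
  refine Groth.Agent.S11174.result B (TensorProduct A B E) ha hb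
    (fun n => (IsLocalRing.maximalIdeal A ^ n).map (algebraMap A B)) ?_ ?_ ?_ ?_
  · intro n n' hnn'
    exact Ideal.map_mono (Ideal.pow_le_pow_right hnn')
  · intro n
    exact ⟨n, (hJn n).ge⟩
  · intro N
    exact ⟨N, (hJn N).le⟩
  · intro n
    rw [core1 _ (hflA n), core2 _ (hflA n)]

end Groth.Agent.S0312
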