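import Groth.Statements.S0313
-- import your own Groth.Agent.* helpers here
import Groth.Agent.Lib.Helper26.MatlisComplete
import Mathlib.RingTheory.AdicCompletion.Algebra

set_option autoImplicit false
universe u v
open Matlis

namespace Groth.Agent.S0313

open IsLocalRing Groth.Agent.Lib.Helper26.Matlis

section

variable {R : Type u} [CommRing R] [IsLocalRing R] [IsNoetherianRing R]
variable {E : Type u} [AddCommGroup E] [Module R E] {f : ResidueField R →ₗ[R] E}

/-- the class mod `m ^ n` of the scalar by which `θ` acts on the `m ^ n`-torsion of `E` -/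
noncomputable def cls (hf : InjHull.IsInjectiveHull f) (n : ℕ) (θ : Module.End R E) :
    R ⧸ maximalIdeal R ^ n :=
  Ideal.Quotient.mk _ (Classical.choose (exists_smul_eq_of_pow_smul_eq_zero hf θ n))

lemma cls_eq_iff (hf : InjHull.IsInjectiveHull f) (n : ℕ) (θ : Module.End R E) (r : R) :
    cls hf n θ = Ideal.Quotient.mk _ r ↔
      ∀ x : E, (∀ a ∈ maximalIdeal R ^ n, a • x = 0) → θ x = r • x := by
  have h0 := Classical.choose_spec (exists_smul_eq_of_pow_smul_eq_zero hf θ n)
  unfold cls
  rw [Ideal.Quotient.eq]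
  constructor
  · intro h x hx
    have := hx _ h
    rw [sub_smul, sub_eq_zero] at this
    rw [h0 x hx, this]
  · intro h
    apply mem_pow_of_forall_smul_eq_zero hf
    intro x hx
    rw [sub_smul, ← h0 x hx, ← h x hx, sub_self]

lemma cls_spec (hf : InjHull.IsInjectiveHull f) (n : ℕ) (θ : Module.End R E) :
    ∃ r : R, cls hf n θ = Ideal.Quotient.mk _ r ∧
      ∀ x : E, (∀ a ∈ maximalIdeal R ^ n, a • x = 0) → θ x = r • x := by
  obtain ⟨r, hr⟩ := Ideal.Quotient.mk_surjective (cls hf n θ)
  exact ⟨r, hr.symm, (cls_eq_iff hf n θ r).1 hr.symm⟩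

/-- `cls` as a ring homomorphism -/
noncomputable def clsHom (hf : InjHull.IsInjectiveHull f) (n : ℕ) :
    Module.End R E →+* R ⧸ maximalIdeal R ^ n where
  toFun := cls hf n
  map_one' := (cls_eq_iff hf n 1 1).2 (fun x _ => by simp)
  map_mul' θ θ' := by
    obtain ⟨r, hr, h1⟩ := cls_spec hf n θ
    obtain ⟨r', hr', h2⟩ := cls_spec hf n θ'
    rw [hr, hr', ← map_mul]
    apply (cls_eq_iff hf n _ _).2
    intro x hx
    rw [Module.End.mul_apply, h2 x hx, map_smul, h1 x hx, smul_smul, mul_comm]
  map_zero' := (cls_eq_iff hf n 0 0).2 (fun x _ => by simp)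
  map_add' θ θ' := by
    obtain ⟨r, hr, h1⟩ := cls_spec hf n θ
    obtain ⟨r', hr', h2⟩ := cls_spec hf n θ'
    rw [hr, hr', ← map_add]
    apply (cls_eq_iff hf n _ _).2
    intro x hx
    rw [LinearMap.add_apply, h1 x hx, h2 x hx, add_smul]

lemma clsHom_compat (hf : InjHull.IsInjectiveHull f) {m n : ℕ} (hle : m ≤ n) :
    (Ideal.Quotient.factorPow (maximalIdeal R) hle).comp (clsHom hf n) = clsHom hf m := by
  ext θ
  obtain ⟨r, hr, h1⟩ := cls_spec hf n θ
  show Ideal.Quotient.factorPow (maximalIdeal R) hle (cls hf n θ) = cls hf m θ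
  rw [hr, Ideal.Quotient.factor_mk]
  symm
  apply (cls_eq_iff hf m θ r).2
  intro x hx
  exact h1 x (fun a ha => hx a (Ideal.pow_le_pow_right hle ha))

/-- the endomorphism attached to a Cauchy sequence -/
noncomputable def endOfCauchy (htors : LocCoh.IsPowerTorsion (maximalIdeal R) E)
    (c : ℕ → R) (hc : ∀ {m n : ℕ}, m ≤ n → c m - c n ∈ maximalIdeal R ^ m) : Module.End R E := by
  classical
  have key : ∀ (x : E) (n : ℕ), (∀ a ∈ maximalIdeal R ^ n, a • x = 0) →
      c (Nat.find (htors x)) • x = c n • x := by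
    intro x n hn
    have hle : Nat.find (htors x) ≤ n := Nat.find_min' (htors x) hn
    have := Nat.find_spec (htors x) _ (hc hle)
    rwa [sub_smul, sub_eq_zero] at this
  have mono : ∀ (x : E) (k n : ℕ), k ≤ n → (∀ a ∈ maximalIdeal R ^ k, a • x = 0) →
      (∀ a ∈ maximalIdeal R ^ n, a • x = 0) :=
    fun x k n hkn h a ha => h a (Ideal.pow_le_pow_right hkn ha)
  exact
  { toFun := fun x => c (Nat.find (htors x)) • x
    map_add' := fun x y => by
      set n := max (max (Nat.find (htors x)) (Nat.find (htors y))) (Nat.find (htors (x + y)))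
      have hx := mono x _ n ((le_max_left _ _).trans (le_max_left _ _)) (Nat.find_spec (htors x))
      have hy := mono y _ n ((le_max_right _ _).trans (le_max_left _ _)) (Nat.find_spec (htors y))
      have hxy := mono (x + y) _ n (le_max_right _ _) (Nat.find_spec (htors (x + y)))
      rw [key x n hx, key y n hy, key (x + y) n hxy, smul_add]
    map_smul' := fun r x => by
      set n := max (Nat.find (htors x)) (Nat.find (htors (r • x)))
      have hx := mono x _ n (le_max_left _ _) (Nat.find_spec (htors x))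
      have hrx := mono (r • x) _ n (le_max_right _ _) (Nat.find_spec (htors (r • x)))
      rw [key x n hx, key (r • x) n hrx, RingHom.id_apply, smul_comm] }

lemma endOfCauchy_apply (htors : LocCoh.IsPowerTorsion (maximalIdeal R) E)
    (c : ℕ → R) (hc : ∀ {m n : ℕ}, m ≤ n → c m - c n ∈ maximalIdeal R ^ m)
    (x : E) (n : ℕ) (hn : ∀ a ∈ maximalIdeal R ^ n, a • x = 0) :
    endOfCauchy htors c hc x = c n • x := by
  classical
  show c (Nat.find (htors x)) • x = c n • x
  have hle : Nat.find (htors x) ≤ n := Nat.find_min' (htors x) hn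
  have := Nat.find_spec (htors x) _ (hc hle)
  rwa [sub_smul, sub_eq_zero] at this

end

/-- Over a Noetherian local ring, the endomorphism ring of an injective hull of the residue field is
isomorphic, as an algebra over the ring, to the completion at the maximal ideal. -/
theorem result (R : Type u) [CommRing R] [IsLocalRing R] [IsNoetherianRing R] (E : Type u) [AddCommGroup E] [Module R E] (f : IsLocalRing.ResidueField R →ₗ[R] E) (hf : InjHull.IsInjectiveHull f) : Nonempty (Module.End R E ≃ₐ[R] AdicCompletion (IsLocalRing.maximalIdeal R) R) := by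
  classical
  have htors := isPowerTorsion hf.toIsEssentialInj
  let Φ₀ : Module.End R E →+* AdicCompletion (maximalIdeal R) R :=
    AdicCompletion.liftRingHom (maximalIdeal R) (clsHom hf) (fun hle => clsHom_compat hf hle)
  have hΦ₀ : ∀ (n : ℕ) (θ : Module.End R E),
      AdicCompletion.evalₐ (maximalIdeal R) n (Φ₀ θ) = cls hf n θ := fun n θ =>
    AdicCompletion.evalₐ_liftRingHom (maximalIdeal R) (clsHom hf)
      (fun hle => clsHom_compat hf hle) n θ
  let Φ : Module.End R E →ₐ[R] AdicCompletion (maximalIdeal R) R :=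
    { Φ₀ with
      commutes' := fun r => by
        apply AdicCompletion.ext_evalₐ
        intro n
        show AdicCompletion.evalₐ (maximalIdeal R) n (Φ₀ (algebraMap R (Module.End R E) r)) = _
        rw [hΦ₀, AlgHom.commutes, Ideal.Quotient.algebraMap_eq]
        apply (cls_eq_iff hf n _ r).2
        intro x _
        rw [Module.algebraMap_end_apply] }
  have hΦ : ∀ (n : ℕ) (θ : Module.End R E),
      AdicCompletion.evalₐ (maximalIdeal R) n (Φ θ) = cls hf n θ := hΦ₀
  refine ⟨AlgEquiv.ofBijective Φ ⟨?_, ?_⟩⟩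
  · intro θ θ' h
    ext x
    obtain ⟨n, hn⟩ := htors x
    obtain ⟨r, hr, h1⟩ := cls_spec hf n θ
    have h2 : cls hf n θ' = Ideal.Quotient.mk _ r := by rw [← hΦ, ← h, hΦ, hr]
    rw [h1 x hn, (cls_eq_iff hf n θ' r).1 h2 x hn]
  · intro a
    obtain ⟨c, rfl⟩ := AdicCompletion.mk_surjective (maximalIdeal R) R a
    have hc : ∀ {m n : ℕ}, m ≤ n → c.val m - c.val n ∈ maximalIdeal R ^ m := by
      intro m n hmn
      have := c.property hmn
      rwa [SModEq.sub_mem, smul_eq_mul, Ideal.mul_top] at this
    refine ⟨endOfCauchy htors c.val hc, ?_⟩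
    apply AdicCompletion.ext_evalₐ
    intro n
    rw [hΦ, AdicCompletion.evalₐ_mk]
    apply (cls_eq_iff hf n _ _).2
    intro x hx
    exact endOfCauchy_apply htors c.val hc x n hx

end Groth.Agent.S0313
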