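import Groth.Statements.S0322
import Mathlib
import Groth.Agent.Lib.Helper21.DepthKit8

set_option autoImplicit false
universe u v
open LocCoh

namespace Groth.Agent.S0322
open Groth.Agent.Lib.Helper21.DepthKit IsLocalRing Module RingTheory.Sequence

/-- key: for a CM module and a maximal regular sequence `rs` in `I`, `dim M/IM = dim M/(rs)M`. -/
theorem key (R : Type u) [CommRing R] [IsLocalRing R] [IsNoetherianRing R] (I : Ideal R) (hI : I ≠ ⊤) (M : Type u) [AddCommGroup M] [Module R M] [Module.Finite R M] (hM : LocCoh.IsCohenMacaulayModule R M) :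
    ∃ rs : List R, IsWeaklyRegular M rs ∧ (∀ r ∈ rs, r ∈ I) ∧
      (rs.length : ℕ∞) = LocCoh.idealDepth I M ∧
      LocCoh.IsCohenMacaulayModule R (M ⧸ (Ideal.ofList rs • ⊤ : Submodule R M)) ∧
      Module.supportDim R M =
        Module.supportDim R (M ⧸ (Ideal.ofList rs • ⊤ : Submodule R M)) + (rs.length : ℕ) ∧
      Module.supportDim R (M ⧸ (I • (⊤ : Submodule R M))) =
        Module.supportDim R (M ⧸ (Ideal.ofList rs • ⊤ : Submodule R M)) ∧
      ∃ q ∈ associatedPrimes R (M ⧸ (Ideal.ofList rs • ⊤ : Submodule R M)), I ≤ q := by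
  have hnt : Nontrivial M := nontrivial_of_isCM hM
  have hIm : I ≤ maximalIdeal R := le_maximalIdeal hI
  have hIM : I • (⊤ : Submodule R M) ≠ ⊤ := by
    intro h
    exact maximalIdeal_smul_top_ne_top (A := R) (M := M)
      (top_le_iff.1 (le_trans h.ge (Submodule.smul_mono_left hIm)))
  obtain ⟨h1, h2⟩ := Groth.Agent.S5151.result R I M hIM
  obtain ⟨rs, -, hreg, hm, hmax⟩ := h1 [] (IsWeaklyRegular.nil _ _) (by simp)
  have hlen := h2 rs hreg hm hmax
  have hmm : ∀ r ∈ rs, r ∈ maximalIdeal R := fun r hr => hIm (hm r hr)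
  have hNCM := isCM_quot_ofList rs M hM hmm hreg
  have hdep := depth_quot_ofList rs M hmm hreg
  have hdim : Module.supportDim R M =
      Module.supportDim R (M ⧸ (Ideal.ofList rs • ⊤ : Submodule R M)) + (rs.length : ℕ) := by
    unfold LocCoh.IsCohenMacaulayModule at hM hNCM
    rw [hM, hNCM, ← hdep]
    push_cast
    rfl
  have hnr : ∀ x ∈ I, ¬ IsSMulRegular (M ⧸ (Ideal.ofList rs • ⊤ : Submodule R M)) x := by
    intro x hx hreg'
    apply hmax x hx
    rw [isWeaklyRegular_append_iff]
    refine ⟨hreg, ?_⟩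
    rw [isWeaklyRegular_cons_iff]
    exact ⟨hreg', IsWeaklyRegular.nil _ _⟩
  obtain ⟨q, hq, hIq⟩ := exists_le_associatedPrime_of_forall_not_isSMulRegular I hnr
  refine ⟨rs, hreg, hm, hlen, hNCM, hdim, ?_, q, hq, hIq⟩
  have hle : (Ideal.ofList rs • ⊤ : Submodule R M) ≤ I • ⊤ :=
    Submodule.smul_mono_left (ofList_le_of_forall_mem I hm)
  apply le_antisymm
  · exact Module.supportDim_le_of_surjective (Submodule.factor hle) (Submodule.factor_surjective hle)
  · rw [← ringKrullDim_quotient_eq_supportDim_of_isCM hNCM hq]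
    have hqs := mem_support_of_mem_associatedPrimes hq
    rw [Module.support_quotient] at hqs
    have hqI : (⟨q, hq.isPrime⟩ : PrimeSpectrum R) ∈
        Module.support R (M ⧸ (I • (⊤ : Submodule R M))) := by
      rw [Module.support_quotient]
      exact ⟨hqs.1, (PrimeSpectrum.mem_zeroLocus _ _).2 hIq⟩
    have hfin := ringKrullDim_quotient_le_supportDim_of_mem_support hqI
    exact hfin


/-- For a finite Cohen–Macaulay module M over a Noetherian local ring and a proper ideal I, the I-depth
of M equals dim Supp(M) minus dim Supp(M/IM); stated additively. -/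
theorem result (R : Type u) [CommRing R] [IsLocalRing R] [IsNoetherianRing R] (I : Ideal R) (hI : I ≠ ⊤) (M : Type u) [AddCommGroup M] [Module R M] [Module.Finite R M] (hM : LocCoh.IsCohenMacaulayModule R M) : Module.supportDim R M = Module.supportDim R (M ⧸ (I • (⊤ : Submodule R M))) + ((LocCoh.idealDepth I M : ℕ∞) : WithBot ℕ∞) := by
  obtain ⟨rs, -, -, hlen, -, hdim, hq, -⟩ := key R I hI M hM
  rw [hdim, hq, ← hlen]
  rfl

end Groth.Agent.S0322
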