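import Groth.Statements.S0324
import Groth.Agent.Lib.helper11.LCVanish

set_option autoImplicit false
universe u v
open LocCoh

namespace Groth.Agent.S0324

/-- Retired milestone (weight 0, no credit; kept so that existing proof files which import this module still build). Let R be a Noetherian ring, I an ideal of R and M a finite R-module. Then the local cohomology
H^i_I(M) vanishes for every i greater than the dimension of the support of M. -/
theorem result (R : Type u) [CommRing R] [IsNoetherianRing R] (I : Ideal R) (M : Type u) [AddCommGroup M] [Module R M] [Module.Finite R M] (i : ℕ) (hi : Module.supportDim R M < i) : Subsingleton (LocCoh.H I i M) := by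
  exact Groth.Agent.Lib.helper11.LCKit.subsingleton_of_supportDim_lt I i M hi

end Groth.Agent.S0324
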