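import Groth.Statements.S0328
import Mathlib
import Groth.Agent.Lib.helper11.LCLocalize
import Groth.Agent.Lib.Helper2.LCBaseRes

set_option autoImplicit false
universe u v
open LocCoh

open IsLocalRing Groth.Agent.Lib.helper11.LCKit Groth.Agent.Lib.Helper2.LCCompare
namespace Groth.Agent.S0328

/-- In a Noetherian local ring, if a prime p and a proper ideal I together have radical the maximal
ideal and dim R/p = d ≥ 1, then local cohomology with support in I does not vanish in all degrees ≥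
d. -/
theorem result (R : Type u) [CommRing R] [IsLocalRing R] [IsNoetherianRing R] (I : Ideal R) (hI : I ≠ ⊤) (p : Ideal R) [p.IsPrime] (hpI : (p ⊔ I).radical = IsLocalRing.maximalIdeal R) (d : ℕ) (hd : ringKrullDim (R ⧸ p) = d) (hd1 : 1 ≤ d) : ¬ LocCoh.CdLE R I (d - 1) := by
  intro hcd
  have hsub : Subsingleton (LocCoh.H I d (R ⧸ p)) := hcd (R ⧸ p) d (by omega)
  haveI : IsLocalRing (R ⧸ p) :=
    IsLocalRing.of_surjective' (Ideal.Quotient.mk p) Ideal.Quotient.mk_surjective
  haveI : IsLocalHom (Ideal.Quotient.mk p) :=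
    IsLocalHom.of_surjective _ Ideal.Quotient.mk_surjective
  haveI hnv : Nontrivial (LocCoh.H (maximalIdeal (R ⧸ p)) d (R ⧸ p)) :=
    nontrivial_of_supportDim_eq d (R ⧸ p) (by rw [Module.supportDim_self_eq_ringKrullDim, hd])
  have hIm : I ≤ maximalIdeal R := IsLocalRing.le_maximalIdeal hI
  have hle : Ideal.map (algebraMap R (R ⧸ p)) I ≤ maximalIdeal (R ⧸ p) :=
    (Ideal.map_mono hIm).trans (IsLocalRing.map_maximalIdeal_le (Ideal.Quotient.mk p))
  have hrad : maximalIdeal (R ⧸ p) ≤ (Ideal.map (algebraMap R (R ⧸ p)) I).radical := by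
    intro x' hx'
    obtain ⟨x, rfl⟩ := Ideal.Quotient.mk_surjective x'
    have hx : x ∈ maximalIdeal R := by
      rw [← IsLocalRing.maximalIdeal_comap (Ideal.Quotient.mk p)]
      exact hx'
    rw [← hpI] at hx
    obtain ⟨k, hk⟩ := hx
    refine ⟨k, ?_⟩
    rw [← map_pow]
    obtain ⟨a, ha, b, hb, hab⟩ := Submodule.mem_sup.1 hk
    rw [← hab, map_add, Ideal.Quotient.eq_zero_iff_mem.2 ha, zero_add]
    exact Ideal.mem_map_of_mem _ hb
  have hbij := HmapOfLE_bijective_of_le_radical (M := ModuleCat.of (R ⧸ p) (R ⧸ p)) hle hrad d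
  haveI hnv2 : Nontrivial (LocCoh.H (Ideal.map (algebraMap R (R ⧸ p)) I) d (R ⧸ p)) :=
    hbij.injective.nontrivial
  obtain ⟨φ, -⟩ := Groth.Agent.Lib.Helper2.LCBaseRes.H_res_equiv' (R' := R ⧸ p) I (R ⧸ p) d
  exact not_subsingleton _ (φ.toEquiv.subsingleton)

end Groth.Agent.S0328
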