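import Groth.Statements.S0329
import Mathlib
import Groth.Agent.Lib.helper11.LCTorsion
import Groth.Agent.Lib.helper11.LCVanish

set_option autoImplicit false
universe u v
open LocCoh

namespace Groth.Agent.S0329

open Groth.Agent.Lib.helper11.LCKit CategoryTheory Abelian

variable {R : Type u} [CommRing R] [IsNoetherianRing R] (I : Ideal R)

lemma finite_H0 (M : Type u) [AddCommGroup M] [Module R M] [Module.Finite R M] :
    Module.Finite R (LocCoh.H I 0 M) :=
  Module.Finite.of_injective (ev I (ModuleCat.of R M)) (ev_injective I _)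

lemma subsingleton_H0 (M : ModuleCat.{u} R) (h : IsTorsFree I M) :
    Subsingleton ((localCohomology I 0).obj M) := by
  refine subsingleton_of_forall_eq 0 (fun x => ?_)
  apply ev_injective I M
  rw [map_zero]
  exact h _ ((mem_range_ev_iff I M _).1 ⟨x, rfl⟩)

section tors

variable {S : ShortComplex (ModuleCat.{u} R)} (hS : S.ShortExact)

include hS in
lemma map_g_surjective (h₁ : IsTors I S.X₁) (i : ℕ) :
    Function.Surjective ((localCohomology I i).map S.g).hom := by
  intro x₃
  have h0 : (δ I i hS).hom x₃ = 0 :=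
    (subsingleton_of_isTors I (i + 1) (by omega) S.X₁ h₁).elim _ _
  exact exact₃ I i hS x₃ h0

include hS in
lemma map_g_injective (h₁ : IsTors I S.X₁) (i : ℕ) (hi : 0 < i) :
    Function.Injective ((localCohomology I i).map S.g).hom := by
  rw [injective_iff_map_eq_zero]
  intro x₂ hx₂
  obtain ⟨x₁, rfl⟩ := exact₂ I i hS x₂ hx₂
  rw [(subsingleton_of_isTors I i hi S.X₁ h₁).elim x₁ 0, map_zero]

include hS in
lemma ann_X₃ (A B : Ideal R) (j : ℕ)
    (hA : ∀ a ∈ A, ∀ x : (localCohomology I j).obj S.X₂, a • x = 0)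
    (hB : ∀ c ∈ B, ∀ x : (localCohomology I (j + 1)).obj S.X₁, c • x = 0) :
    ∀ a ∈ A * B, ∀ y : (localCohomology I j).obj S.X₃, a • y = 0 := by
  intro a ha y
  refine Submodule.mul_induction_on ha ?_ ?_
  · intro b hb c hc
    have h0 : (δ I j hS).hom (c • y) = 0 := by
      rw [map_smul]
      exact hB c hc _
    obtain ⟨z, hz⟩ := exact₃ I j hS (c • y) h0
    rw [mul_smul, ← hz, ← map_smul, hA b hb z, map_zero]
  · intro a b ha hb
    rw [add_smul, ha, hb, add_zero]

end tors

lemma isTorsFree_pow (M : Type u) [AddCommGroup M] [Module R M] (h : IsTorsFree I M) (k : ℕ)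
    (hk : 0 < k) : IsTorsFree (I ^ k) M := by
  intro m ⟨n, hn⟩
  apply h
  refine ⟨k * n, fun a ha => ?_⟩
  rw [pow_mul] at ha
  exact hn a ha


/-- The short complex `0 → Γ_I(M) → M → M/Γ_I(M) → 0`. -/
noncomputable abbrev gamSC (M : Type u) [AddCommGroup M] [Module R M] :
    ShortComplex (ModuleCat.{u} R) :=
  ModuleCat.shortComplexOfCompEqZero (gam I M).subtype (gam I M).mkQ (by
    ext x
    simp)

lemma gamSC_shortExact (M : Type u) [AddCommGroup M] [Module R M] :
    (gamSC I M).ShortExact := by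
  apply ModuleCat.shortComplex_shortExact
  · intro t
    show (gam I M).mkQ t = 0 ↔ t ∈ Set.range (gam I M).subtype
    rw [Submodule.mkQ_apply, Submodule.Quotient.mk_eq_zero]
    simp
  · exact Subtype.val_injective
  · exact Submodule.mkQ_surjective _

theorem finite_of_ann (n : ℕ) : ∀ (M : Type u) [AddCommGroup M] [Module R M] [Module.Finite R M]
    (k : ℕ), (∀ i : ℕ, i ≤ n → ∀ a ∈ I ^ k, ∀ x : LocCoh.H I i M, a • x = 0) →
    ∀ i : ℕ, i ≤ n → Module.Finite R (LocCoh.H I i M) := by
  induction n with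
  | zero =>
    intro M _ _ _ k _ i hi
    obtain rfl : i = 0 := by omega
    exact finite_H0 I M
  | succ n ih =>
    intro M _ _ _ k hk i hi
    rcases Nat.eq_zero_or_pos i with rfl | hpos
    · exact finite_H0 I M
    obtain ⟨j, rfl⟩ : ∃ j, i = j + 1 := ⟨i - 1, by omega⟩
    -- pass to `M' = M/Γ`
    have hS := gamSC_shortExact I M
    have hT : IsTors I (gamSC I M).X₁ := isTors_gam I M
    have hM'tf : IsTorsFree I (M ⧸ gam I M) :=
      isTorsFree_quotient_gam I (IsNoetherian.noetherian I) M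
    have hk' : ∀ i : ℕ, i ≤ n + 1 → ∀ a ∈ I ^ (k + 1), ∀ x : LocCoh.H I i (M ⧸ gam I M),
        a • x = 0 := by
      intro i hi a ha x
      obtain ⟨x₂, rfl⟩ := map_g_surjective I hS hT i x
      rw [← map_smul, hk i hi a (Ideal.pow_le_pow_right (Nat.le_succ k) ha) x₂, map_zero]
    -- a regular element
    obtain ⟨x, hxI, hreg⟩ := exists_regular_of_isTorsFree (I ^ (k + 1)) (M ⧸ gam I M)
      (isTorsFree_pow I _ hM'tf (k + 1) (Nat.succ_pos k))
    have hS' : (ModuleCat.smulShortComplex (ModuleCat.of R (M ⧸ gam I M)) x).ShortExact :=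
      IsSMulRegular.smulShortComplex_shortExact (M := ModuleCat.of R (M ⧸ gam I M)) hreg
    -- `I^(2(k+1))` kills the cohomology of `M'' = M'/xM'`
    have hk'' : ∀ j : ℕ, j ≤ n → ∀ a ∈ I ^ (k + 1 + (k + 1)),
        ∀ y : LocCoh.H I j (QuotSMulTop x (M ⧸ gam I M)), a • y = 0 := by
      intro j hj a ha y
      rw [pow_add] at ha
      exact ann_X₃ I hS' (I ^ (k + 1)) (I ^ (k + 1)) j (hk' j (by omega)) (hk' (j + 1) (by omega))
        a ha y
    have hfin'' := ih (QuotSMulTop x (M ⧸ gam I M)) (k + 1 + (k + 1)) hk'' j (by omega)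
    -- `H^{j+1}(M')` is a quotient of `H^j(M'')`
    have hsurj : Function.Surjective (δ I j hS').hom := by
      intro x₁
      apply exact₁ I j hS' x₁
      have h1 : x • x₁ = 0 := hk' (j + 1) hi x hxI x₁
      have e := smul_eq_map I (j + 1) (M := ModuleCat.of R (M ⧸ gam I M)) x x₁
      exact e.symm.trans h1
    haveI hfin3 : Module.Finite R ((localCohomology I j).obj
        (ModuleCat.smulShortComplex (ModuleCat.of R (M ⧸ gam I M)) x).X₃) := hfin''
    haveI hfin' : Module.Finite R (LocCoh.H I (j + 1) (M ⧸ gam I M)) :=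
      Module.Finite.of_surjective (δ I j hS').hom hsurj
    exact Module.Finite.of_injective ((localCohomology I (j + 1)).map (gamSC I M).g).hom
      (map_g_injective I hS hT (j + 1) (Nat.succ_pos j))


omit [IsNoetherianRing R] in
lemma exists_uniform (P : ℕ → ℕ → Prop) (hmono : ∀ i k l, k ≤ l → P i k → P i l) (n : ℕ)
    (h : ∀ i : ℕ, i ≤ n → ∃ k, P i k) : ∃ k, ∀ i : ℕ, i ≤ n → P i k := by
  induction n with
  | zero =>
    obtain ⟨k, hk⟩ := h 0 le_rfl
    exact ⟨k, fun i hi => by obtain rfl : i = 0 := by omega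
                             exact hk⟩
  | succ n ih =>
    obtain ⟨k₁, hk₁⟩ := ih (fun i hi => h i (by omega))
    obtain ⟨k₂, hk₂⟩ := h (n + 1) le_rfl
    refine ⟨max k₁ k₂, fun i hi => ?_⟩
    rcases Nat.lt_or_ge i (n + 1) with h1 | h1
    · exact hmono i k₁ _ (le_max_left _ _) (hk₁ i (by omega))
    · obtain rfl : i = n + 1 := by omega
      exact hmono _ k₂ _ (le_max_right _ _) hk₂

omit [IsNoetherianRing R] in
lemma exists_pow_ann_of_finite (N : Type u) [AddCommGroup N] [Module R N] [Module.Finite R N]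
    (h : ∀ x : N, ∃ k : ℕ, ∀ a ∈ I ^ k, a • x = 0) :
    ∃ k : ℕ, ∀ a ∈ I ^ k, ∀ x : N, a • x = 0 := by
  classical
  obtain ⟨s, hs⟩ := (Module.finite_def.1 ‹Module.Finite R N›)
  choose kf hkf using h
  refine ⟨s.sup kf, fun a ha x => ?_⟩
  have hx : x ∈ Submodule.span R (s : Set N) := by rw [hs]; trivial
  refine Submodule.span_induction ?_ ?_ ?_ ?_ hx
  · intro g hg
    exact hkf g a (Ideal.pow_le_pow_right (Finset.le_sup hg) ha)
  · rw [smul_zero]
  · intro y z _ _ hy hz
    rw [smul_add, hy, hz, add_zero]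
  · intro r y _ hy
    rw [smul_comm, hy, smul_zero]


/-- Part (1): ⇔(2) with T = V(I) (Faltings): for a finite module M over a Noetherian ring, the local
cohomology modules H^i_I(M) for i ≤ n are all finitely generated exactly when some ideal J with I
contained in the radical of J kills all of them. -/
theorem result (R : Type u) [CommRing R] [IsNoetherianRing R] (I : Ideal R) (M : Type u) [AddCommGroup M] [Module R M] [Module.Finite R M] (n : ℕ) : (∀ i : ℕ, i ≤ n → Module.Finite R (LocCoh.H I i M)) ↔ ∃ J : Ideal R, I ≤ J.radical ∧ ∀ i : ℕ, i ≤ n → ∀ a ∈ J, ∀ x : LocCoh.H I i M, a • x = 0 := by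
  constructor
  · intro hfin
    obtain ⟨k, hk⟩ := exists_uniform
      (fun i k => ∀ a ∈ I ^ k, ∀ x : LocCoh.H I i M, a • x = 0)
      (fun i k l hkl h a ha x => h a (Ideal.pow_le_pow_right hkl ha) x) n
      (fun i hi => by
        haveI := hfin i hi
        exact exists_pow_ann_of_finite I (LocCoh.H I i M)
          (fun x => exists_pow_smul_eq_zero I i (ModuleCat.of R M) x))
    refine ⟨I ^ (k + 1), ?_, fun i hi a ha x =>
      hk i hi a (Ideal.pow_le_pow_right (Nat.le_succ k) ha) x⟩
    rw [Ideal.radical_pow I (Nat.succ_ne_zero k)]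
    exact Ideal.le_radical
  · rintro ⟨J, hIJ, hJ⟩
    obtain ⟨k, hk⟩ := Ideal.exists_pow_le_of_le_radical_of_fg hIJ (IsNoetherian.noetherian I)
    exact finite_of_ann I n M k (fun i hi a ha x => hJ i hi a (hk ha) x)

end Groth.Agent.S0329
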