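import Groth.Statements.S0330
import Mathlib
import Groth.Agent.S0329

set_option autoImplicit false
universe u v
open LocCoh

namespace Groth.Agent.S0330

open Groth.Agent.Lib.helper11.LCKit CategoryTheory Abelian Groth.Agent.S0329

variable {R : Type u} [CommRing R] [IsNoetherianRing R] (I : Ideal R)

/-- The submodule of elements killed by `I`. -/
abbrev tI (N : Type u) [AddCommGroup N] [Module R N] : Submodule R N :=
  Submodule.torsionBySet R N (I : Set R)

omit [IsNoetherianRing R] in
lemma mem_tI {N : Type u} [AddCommGroup N] [Module R N] (y : N) :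
    y ∈ tI I N ↔ ∀ a ∈ I, a • y = 0 := by
  rw [Submodule.mem_torsionBySet_iff]
  exact ⟨fun h a ha => h ⟨a, ha⟩, fun h a => h a.1 a.2⟩

/-- Key algebraic step: `0 → C → B → D` exact with `C` and `B[I]` noetherian implies the
preimage of `D[I]` in `B` is noetherian. -/
lemma isNoetherian_comap_tI {B D : Type u} [AddCommGroup B] [Module R B] [AddCommGroup D]
    [Module R D] (δ : B →ₗ[R] D) [IsNoetherian R (LinearMap.ker δ)] [IsNoetherian R (tI I B)] :
    IsNoetherian R ((tI I D).comap δ) := by
  classical
  obtain ⟨s, hs⟩ := (IsNoetherian.noetherian I : I.FG)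
  -- the map `b ↦ (a • b)_{a ∈ s}` into `(ker δ)^s`
  have hmem : ∀ (a : s) (b : (tI I D).comap δ), (a : R) • (b : B) ∈ LinearMap.ker δ := by
    intro a b
    rw [LinearMap.mem_ker, map_smul]
    exact (mem_tI I _).1 b.2 a (hs ▸ Ideal.subset_span a.2)
  let φ : (tI I D).comap δ →ₗ[R] (s → LinearMap.ker δ) :=
    { toFun := fun b a => ⟨(a : R) • (b : B), hmem a b⟩
      map_add' := fun b b' => by
        funext a
        apply Subtype.ext
        show (a : R) • ((b : B) + (b' : B)) = (a : R) • (b : B) + (a : R) • (b' : B)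
        rw [smul_add]
      map_smul' := fun r b => by
        funext a
        apply Subtype.ext
        show (a : R) • (r • (b : B)) = r • ((a : R) • (b : B))
        rw [smul_comm] }
  have hle : tI I B ≤ (tI I D).comap δ := by
    intro b hb
    rw [Submodule.mem_comap, mem_tI]
    intro a ha
    rw [← map_smul, (mem_tI I b).1 hb a ha, map_zero]
  refine isNoetherian_of_range_eq_ker (Submodule.inclusion hle) φ ?_
  ext b
  constructor
  · rintro ⟨c, rfl⟩
    rw [LinearMap.mem_ker]
    funext a
    apply Subtype.ext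
    show (a : R) • (c : B) = 0
    exact (mem_tI I _).1 c.2 a (hs ▸ Ideal.subset_span a.2)
  · intro hb
    rw [LinearMap.mem_ker] at hb
    have hb' : (b : B) ∈ tI I B := by
      rw [mem_tI]
      intro a ha
      rw [← hs] at ha
      refine Submodule.span_induction ?_ ?_ ?_ ?_ ha
      · intro a' ha'
        have := congrArg Subtype.val (congrFun hb ⟨a', ha'⟩)
        exact this
      · rw [zero_smul]
      · intro x y _ _ hx hy
        rw [add_smul, hx, hy, add_zero]
      · intro r x _ hx
        rw [smul_eq_mul, mul_smul, hx, smul_zero]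
    exact ⟨⟨b, hb'⟩, Subtype.ext rfl⟩


section les

variable {S : ShortComplex (ModuleCat.{u} R)} (hS : S.ShortExact)

omit [IsNoetherianRing R] in
lemma range_map_g_eq_ker_δ (i : ℕ) :
    LinearMap.range ((localCohomology I i).map S.g).hom = LinearMap.ker (δ I i hS).hom := by
  ext y
  constructor
  · rintro ⟨x₂, rfl⟩
    exact δ_map_g I i hS x₂
  · intro hy
    obtain ⟨x₂, hx₂⟩ := exact₃ I i hS y hy
    exact ⟨x₂, hx₂⟩

omit [IsNoetherianRing R] in
include hS in
lemma isNoetherian_X₃ (i : ℕ) [IsNoetherian R ((localCohomology I i).obj S.X₂)]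
    [IsNoetherian R ((localCohomology I (i + 1)).obj S.X₁)] :
    IsNoetherian R ((localCohomology I i).obj S.X₃) :=
  isNoetherian_of_range_eq_ker _ _ (range_map_g_eq_ker_δ I hS i)

end les

/-- The step for the regular sequence `0 → N → N → N/xN → 0`. -/
lemma isNoetherian_tI_succ (N : ModuleCat.{u} R) (x : R) (hx : x ∈ I) (hreg : IsSMulRegular N x)
    (n : ℕ) [IsNoetherian R ((localCohomology I n).obj N)]
    [IsNoetherian R (tI I ((localCohomology I n).obj (ModuleCat.of R (QuotSMulTop x N))))] :
    IsNoetherian R (tI I ((localCohomology I (n + 1)).obj N)) := by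
  have hS : (ModuleCat.smulShortComplex N x).ShortExact := hreg.smulShortComplex_shortExact
  let dl := (δ I n hS).hom
  haveI : IsNoetherian R ((localCohomology I n).obj (ModuleCat.smulShortComplex N x).X₂) :=
    ‹IsNoetherian R ((localCohomology I n).obj N)›
  haveI : IsNoetherian R (LinearMap.ker dl) := by
    rw [← range_map_g_eq_ker_δ I hS n]
    infer_instance
  haveI : IsNoetherian R (tI I ((localCohomology I n).obj (ModuleCat.smulShortComplex N x).X₃)) :=
    ‹IsNoetherian R (tI I ((localCohomology I n).obj (ModuleCat.of R (QuotSMulTop x N))))›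
  haveI hc : IsNoetherian R ((tI I ((localCohomology I (n + 1)).obj N)).comap dl) :=
    isNoetherian_comap_tI I dl
  let ψ : (tI I ((localCohomology I (n + 1)).obj N)).comap dl →ₗ[R]
      tI I ((localCohomology I (n + 1)).obj N) :=
    (dl.domRestrict _).codRestrict _ (fun b => b.2)
  refine isNoetherian_of_surjective ψ (LinearMap.range_eq_top.2 ?_)
  intro y
  have h1 : x • (y : (localCohomology I (n + 1)).obj N) = 0 := (mem_tI I _).1 y.2 x hx
  have e := smul_eq_map I (n + 1) (M := N) x y.1
  obtain ⟨b, hb⟩ := exact₁ I n hS y.1 (e.symm.trans h1)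
  refine ⟨⟨b, ?_⟩, Subtype.ext hb⟩
  rw [Submodule.mem_comap]
  show dl b ∈ _
  rw [show dl b = y.1 from hb]
  exact y.2


theorem isNoetherian_tI_H (n : ℕ) : ∀ (M : Type u) [AddCommGroup M] [Module R M]
    [Module.Finite R M], (∀ i : ℕ, i < n → Module.Finite R (LocCoh.H I i M)) →
    IsNoetherian R (tI I (LocCoh.H I n M)) := by
  induction n with
  | zero =>
    intro M _ _ _ _
    haveI := finite_H0 I M
    haveI : IsNoetherian R (LocCoh.H I 0 M) := isNoetherian_of_isNoetherianRing_of_finite R _
    infer_instance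
  | succ n ih =>
    intro M _ _ _ hfin
    have hS := gamSC_shortExact I M
    have hT : IsTors I (gamSC I M).X₁ := isTors_gam I M
    have hM'tf : IsTorsFree I (M ⧸ gam I M) :=
      isTorsFree_quotient_gam I (IsNoetherian.noetherian I) M
    have hfin' : ∀ i : ℕ, i < n + 1 → IsNoetherian R (LocCoh.H I i (M ⧸ gam I M)) := by
      intro i hi
      haveI := hfin i hi
      haveI : Module.Finite R (LocCoh.H I i (M ⧸ gam I M)) :=
        Module.Finite.of_surjective ((localCohomology I i).map (gamSC I M).g).hom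
          (map_g_surjective I hS hT i)
      exact isNoetherian_of_isNoetherianRing_of_finite R _
    obtain ⟨x, hxI, hreg⟩ := exists_regular_of_isTorsFree I (M ⧸ gam I M) hM'tf
    have hS' : (ModuleCat.smulShortComplex (ModuleCat.of R (M ⧸ gam I M)) x).ShortExact :=
      IsSMulRegular.smulShortComplex_shortExact (M := ModuleCat.of R (M ⧸ gam I M)) hreg
    have hfin'' : ∀ i : ℕ, i < n →
        Module.Finite R (LocCoh.H I i (QuotSMulTop x (M ⧸ gam I M))) := by
      intro i hi
      haveI h2 : IsNoetherian R ((localCohomology I i).obj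
        (ModuleCat.smulShortComplex (ModuleCat.of R (M ⧸ gam I M)) x).X₂) := hfin' i (by omega)
      haveI h1 : IsNoetherian R ((localCohomology I (i + 1)).obj
        (ModuleCat.smulShortComplex (ModuleCat.of R (M ⧸ gam I M)) x).X₁) :=
        hfin' (i + 1) (by omega)
      haveI h3 : IsNoetherian R (LocCoh.H I i (QuotSMulTop x (M ⧸ gam I M))) :=
        isNoetherian_X₃ I hS' i
      exact Module.IsNoetherian.finite R _
    haveI h4 : IsNoetherian R (tI I ((localCohomology I n).obj
        (ModuleCat.of R (QuotSMulTop x (ModuleCat.of R (M ⧸ gam I M)))))) :=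
      ih (QuotSMulTop x (M ⧸ gam I M)) hfin''
    haveI h5 : IsNoetherian R ((localCohomology I n).obj (ModuleCat.of R (M ⧸ gam I M))) :=
      hfin' n (by omega)
    haveI hN' : IsNoetherian R (tI I ((localCohomology I (n + 1)).obj
        (ModuleCat.of R (M ⧸ gam I M)))) :=
      isNoetherian_tI_succ I (ModuleCat.of R (M ⧸ gam I M)) x hxI hreg n
    let g := ((localCohomology I (n + 1)).map (gamSC I M).g).hom
    have hg : Function.Injective g := map_g_injective I hS hT (n + 1) (Nat.succ_pos n)
    let ψ : tI I (LocCoh.H I (n + 1) M) →ₗ[R]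
        tI I ((localCohomology I (n + 1)).obj (ModuleCat.of R (M ⧸ gam I M))) :=
      (g.domRestrict _).codRestrict _ (fun y => by
        rw [mem_tI]
        intro a ha
        show a • g y.1 = 0
        rw [← map_smul, (mem_tI I _).1 y.2 a ha, map_zero])
    refine isNoetherian_of_injective ψ ?_
    intro y z hyz
    apply Subtype.ext
    apply hg
    exact congrArg Subtype.val hyz


/-- `Ass(N) ⊆ Ass(N[I])` for an `I`-power-torsion module `N`. -/
lemma assoc_subset (N : Type u) [AddCommGroup N] [Module R N]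
    (hN : ∀ y : N, ∃ k : ℕ, ∀ a ∈ I ^ k, a • y = 0) :
    associatedPrimes R N ⊆ associatedPrimes R (tI I N) := by
  intro p hp
  obtain ⟨hpp, y, hy⟩ := isAssociatedPrime_iff.1 hp
  have hmem : ∀ a : R, a ∈ p ↔ a • y = 0 := by
    intro a
    rw [hy, Submodule.mem_colon_singleton, Submodule.mem_bot]
  have hIp : I ≤ p := by
    obtain ⟨k, hk⟩ := hN y
    have h1 : I ^ k ≤ p := fun a ha => (hmem a).2 (hk a ha)
    exact hpp.le_of_pow_le h1
  have hyt : y ∈ tI I N := by
    rw [mem_tI]
    intro a ha
    exact (hmem a).1 (hIp ha)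
  rw [AssociatedPrimes.mem_iff, isAssociatedPrime_iff]
  refine ⟨hpp, ⟨y, hyt⟩, ?_⟩
  ext a
  rw [hmem a, Submodule.mem_colon_singleton, Submodule.mem_bot]
  constructor
  · intro h
    exact Subtype.ext h
  · intro h
    exact congrArg Subtype.val h

omit [IsNoetherianRing R] in
lemma exists_pow_ann_loc (p : Ideal R) [p.IsPrime] (N : Type u) [AddCommGroup N] [Module R N]
    (hN : ∀ y : N, ∃ k : ℕ, ∀ a ∈ I ^ k, a • y = 0)
    [Module.Finite (Localization.AtPrime p) (LocalizedModule p.primeCompl N)] :
    ∃ k : ℕ, ∀ a ∈ I ^ k, ∀ z : LocalizedModule p.primeCompl N, a • z = 0 := by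
  classical
  obtain ⟨s, hs⟩ := (Module.finite_def.1
    ‹Module.Finite (Localization.AtPrime p) (LocalizedModule p.primeCompl N)›)
  have h1 : ∀ z : LocalizedModule p.primeCompl N, ∃ k : ℕ, ∀ a ∈ I ^ k, a • z = 0 := by
    intro z
    induction z using LocalizedModule.induction_on with
    | h n t =>
      obtain ⟨k, hk⟩ := hN n
      refine ⟨k, fun a ha => ?_⟩
      rw [LocalizedModule.smul'_mk, hk a ha, LocalizedModule.zero_mk]
  choose kf hkf using h1
  refine ⟨s.sup kf, fun a ha z => ?_⟩
  have hz : z ∈ Submodule.span (Localization.AtPrime p)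
      (s : Set (LocalizedModule p.primeCompl N)) := by rw [hs]; trivial
  refine Submodule.span_induction ?_ ?_ ?_ ?_ hz
  · intro g hg
    exact hkf g a (Ideal.pow_le_pow_right (Finset.le_sup hg) ha)
  · rw [smul_zero]
  · intro y z _ _ hy hz
    rw [smul_add, hy, hz, add_zero]
  · intro r y _ hy
    rw [smul_comm, hy, smul_zero]

theorem exists_pow_ann_of_locally_finite (N : Type u) [AddCommGroup N] [Module R N]
    (hN : ∀ y : N, ∃ k : ℕ, ∀ a ∈ I ^ k, a • y = 0)
    [IsNoetherian R (tI I N)]
    (hloc : ∀ (p : Ideal R) [p.IsPrime],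
      Module.Finite (Localization.AtPrime p) (LocalizedModule p.primeCompl N)) :
    ∃ k : ℕ, ∀ a ∈ I ^ k, ∀ y : N, a • y = 0 := by
  classical
  have hfinAss : (associatedPrimes R N).Finite :=
    (associatedPrimes.finite R (tI I N)).subset (assoc_subset I N hN)
  have h1 : ∀ p : associatedPrimes R N, ∃ k : ℕ, ∀ a ∈ I ^ k,
      ∀ z : LocalizedModule p.1.primeCompl N, a • z = 0 := by
    intro p
    haveI := hloc p.1
    exact exists_pow_ann_loc I p.1 N hN
  choose kf hkf using h1
  haveI : Fintype (associatedPrimes R N) := hfinAss.fintype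
  refine ⟨Finset.univ.sup kf, fun a ha y => ?_⟩
  by_contra hne
  obtain ⟨P, hP, hle⟩ := exists_le_isAssociatedPrime_of_isNoetherianRing R (a • y) hne
  haveI := hP.isPrime
  have h0 : LocalizedModule.mkLinearMap P.primeCompl N (a • y) = 0 := by
    rw [map_smul]
    exact hkf ⟨P, hP⟩ a (Ideal.pow_le_pow_right (Finset.le_sup (Finset.mem_univ _)) ha) _
  obtain ⟨c, hc⟩ := (IsLocalizedModule.eq_zero_iff P.primeCompl
    (LocalizedModule.mkLinearMap P.primeCompl N)).1 h0
  apply c.2
  apply hle
  rw [Submodule.mem_colon_singleton, Submodule.mem_bot]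
  exact hc


theorem finite_of_locally_finite (M : Type u) [AddCommGroup M] [Module R M] [Module.Finite R M]
    (n : ℕ) (hloc : ∀ (p : Ideal R) [p.IsPrime], ∀ i : ℕ, i ≤ n →
      Module.Finite (Localization.AtPrime p) (LocalizedModule p.primeCompl (LocCoh.H I i M))) :
    ∀ m : ℕ, m ≤ n → ∀ i : ℕ, i ≤ m → Module.Finite R (LocCoh.H I i M) := by
  intro m
  induction m with
  | zero =>
    intro _ i hi
    obtain rfl : i = 0 := by omega
    exact finite_H0 I M
  | succ m ih =>
    intro hm i hi
    have hprev := ih (by omega)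
    -- annihilation in degrees `≤ m`
    have h1 : ∀ i : ℕ, i ≤ m → ∃ k : ℕ, ∀ a ∈ I ^ k, ∀ x : LocCoh.H I i M, a • x = 0 := by
      intro i hi
      haveI := hprev i hi
      exact exists_pow_ann_of_finite I (LocCoh.H I i M)
        (fun x => exists_pow_smul_eq_zero I i (ModuleCat.of R M) x)
    -- annihilation in degree `m + 1`
    haveI := isNoetherian_tI_H I (m + 1) M (fun i hi => hprev i (by omega))
    have h2 : ∃ k : ℕ, ∀ a ∈ I ^ k, ∀ x : LocCoh.H I (m + 1) M, a • x = 0 :=
      exists_pow_ann_of_locally_finite I (LocCoh.H I (m + 1) M)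
        (fun x => exists_pow_smul_eq_zero I (m + 1) (ModuleCat.of R M) x)
        (fun p _ => hloc p (m + 1) hm)
    have h3 : ∀ i : ℕ, i ≤ m + 1 → ∃ k : ℕ, ∀ a ∈ I ^ k, ∀ x : LocCoh.H I i M, a • x = 0 := by
      intro i hi
      rcases Nat.lt_or_ge i (m + 1) with h | h
      · exact h1 i (by omega)
      · obtain rfl : i = m + 1 := by omega
        exact h2
    obtain ⟨k, hk⟩ := exists_uniform
      (fun i k => ∀ a ∈ I ^ k, ∀ x : LocCoh.H I i M, a • x = 0)
      (fun i k l hkl h a ha x => h a (Ideal.pow_le_pow_right hkl ha) x) (m + 1) h3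
    exact finite_of_ann I (m + 1) M k hk i hi


/-- For a finite module M over a Noetherian ring, finiteness of the local cohomology modules H^i_I(M)
for i ≤ n can be checked after localizing at each prime. -/
theorem result (R : Type u) [CommRing R] [IsNoetherianRing R] (I : Ideal R) (M : Type u) [AddCommGroup M] [Module R M] [Module.Finite R M] (n : ℕ) : (∀ i : ℕ, i ≤ n → Module.Finite R (LocCoh.H I i M)) ↔ ∀ (p : Ideal R) [p.IsPrime], ∀ i : ℕ, i ≤ n → Module.Finite (Localization.AtPrime p) (LocalizedModule p.primeCompl (LocCoh.H I i M)) := by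
  constructor
  · intro h p _ i hi
    haveI := h i hi
    infer_instance
  · intro hloc
    exact finite_of_locally_finite I M n hloc n le_rfl

end Groth.Agent.S0330
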