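import Groth.Statements.S1743
import Mathlib
import Groth.Agent.Lib.helper11.LCAnn

set_option autoImplicit false
universe u
open LocCoh

namespace Groth.Agent.S1743

open Groth.Agent.Lib.helper11.LCKit CategoryTheory

variable {R : Type u} [CommRing R]

/-- If `M_f` is projective, `M` is a retract of a free module up to a power of `f`. -/
theorem exists_factor_away [IsNoetherianRing R] (M : Type u) [AddCommGroup M] [Module R M]
    [Module.Finite R M] (f : R)
    (hM : Module.Projective (Localization.Away f) (LocalizedModule (Submonoid.powers f) M)) :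
    ∃ (c r : ℕ) (ψ : M →ₗ[R] (Fin r → R)) (φ : (Fin r → R) →ₗ[R] M),
      φ ∘ₗ ψ = (f ^ c) • LinearMap.id := by
  classical
  haveI : Module.FinitePresentation R M := Module.finitePresentation_of_finite R M
  let S := Submonoid.powers f
  let Rf := Localization.Away f
  let Mf := LocalizedModule S M
  haveI : Module.Finite Rf Mf := inferInstance
  obtain ⟨r, β', α', -, -, hβα⟩ := Module.Finite.exists_comp_eq_id_of_projective Rf Mf
  let α : Mf →ₗ[R] (Fin r → Rf) := α'.restrictScalars R
  let β : (Fin r → Rf) →ₗ[R] Mf := β'.restrictScalars R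
  have hβα' : ∀ x, β (α x) = x := fun x => LinearMap.congr_fun hβα x
  let mk : M →ₗ[R] Mf := LocalizedModule.mkLinearMap S M
  let f₁ : (Fin r → R) →ₗ[R] (Fin r → Rf) :=
    LinearMap.pi fun j => Algebra.linearMap R Rf ∘ₗ LinearMap.proj j
  haveI : IsLocalizedModule S f₁ := IsLocalizedModule.pi S _
  obtain ⟨ψ, s₁, h₁⟩ := Module.FinitePresentation.exists_lift_of_isLocalizedModule S f₁
    (α ∘ₗ mk)
  obtain ⟨φ, s₂, h₂⟩ := Module.FinitePresentation.exists_lift_of_isLocalizedModule S mk
    (β ∘ₗ f₁)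
  have h₃ : mk ∘ₗ (φ ∘ₗ ψ) = mk ∘ₗ (((s₁ : R) * (s₂ : R)) • LinearMap.id) := by
    rw [← LinearMap.comp_assoc, h₂]
    ext m
    have e1 : f₁ (ψ m) = s₁ • α (mk m) := LinearMap.congr_fun h₁ m
    simp only [LinearMap.comp_apply, LinearMap.smul_apply,
      LinearMap.id_apply]
    rw [e1]
    change (s₂ : R) • β ((s₁ : R) • α (mk m)) = mk (((s₁ : R) * (s₂ : R)) • m)
    rw [LinearMap.map_smul, hβα', LinearMap.map_smul, mul_smul, smul_comm]
  obtain ⟨s₃, h₄⟩ := Module.Finite.exists_smul_of_comp_eq_of_isLocalizedModule S mk _ _ h₃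
  obtain ⟨c, hc⟩ : ∃ c, f ^ c = (s₃ : R) * ((s₁ : R) * (s₂ : R)) :=
    (S.mul_mem s₃.2 (S.mul_mem s₁.2 s₂.2))
  refine ⟨c, r, ψ, (s₃ : R) • φ, ?_⟩
  rw [LinearMap.smul_comp, hc]
  have : (s₃ : R) • (φ ∘ₗ ψ) = s₃ • (φ ∘ₗ ψ) := rfl
  rw [this, h₄, Submonoid.smul_def, smul_smul]


/-- If `M` is, up to `s`, a retract of `R^r` and `a` kills `H^i_J(R)`, then `s * a` kills
`H^i_J(M)`. -/
theorem smul_eq_zero_of_factor' (J : Ideal R) (i : ℕ) (M : Type u) [AddCommGroup M] [Module R M]
    (s a : R) (r : ℕ) (ψ : M →ₗ[R] (Fin r → R)) (φ : (Fin r → R) →ₗ[R] M)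
    (h : φ ∘ₗ ψ = s • LinearMap.id) (hR : ∀ x : LocCoh.H J i R, a • x = 0)
    (x : LocCoh.H J i M) : (s * a) • x = 0 := by
  classical
  have hzero : ∀ z : LocCoh.H J i (Fin r → R), a • z = 0 := by
    intro z
    have hid : 𝟙 (ModuleCat.of R (Fin r → R)) =
        ∑ j : Fin r, ModuleCat.ofHom (LinearMap.proj (R := R) (φ := fun _ => R) j) ≫
          ModuleCat.ofHom (LinearMap.single R (fun _ => R) j) := by
      refine ModuleCat.hom_ext (LinearMap.ext fun w => ?_)
      simp only [ModuleCat.hom_id, ModuleCat.hom_sum, ModuleCat.hom_comp, ModuleCat.hom_ofHom,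
        LinearMap.id_apply, LinearMap.sum_apply, LinearMap.comp_apply, LinearMap.proj_apply,
        LinearMap.single_apply]
      exact (Finset.univ_sum_single w).symm
    have hz : z = ((localCohomology J i).map (𝟙 (ModuleCat.of R (Fin r → R)))).hom z := by
      rw [CategoryTheory.Functor.map_id]; rfl
    rw [hz, hid, Functor.map_sum, ModuleCat.hom_sum, LinearMap.sum_apply, Finset.smul_sum]
    apply Finset.sum_eq_zero
    intro j _
    rw [Functor.map_comp, ModuleCat.hom_comp, LinearMap.comp_apply, ← map_smul]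
    have : a • ((localCohomology J i).map (ModuleCat.ofHom (LinearMap.proj (R := R)
        (φ := fun _ => R) j))).hom z = 0 := hR _
    rw [this, map_zero]
  rw [mul_comm, mul_smul, smul_eq_map J i s x]
  have e : s • 𝟙 (ModuleCat.of R M) = ModuleCat.ofHom ψ ≫ ModuleCat.ofHom φ := by
    ext m : 2
    have := LinearMap.congr_fun h m
    simpa using this.symm
  rw [e, Functor.map_comp, ModuleCat.hom_comp, LinearMap.comp_apply, ← map_smul,
    hzero (((localCohomology J i).map (ModuleCat.ofHom ψ)).hom x), map_zero]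


/-- Let A be a Noetherian ring, J ⊆ I ideals and i ≥ 0. If H^i_I(A) is annihilated by J^n for some n,
then for every finite A-module M such that M_f is a projective A_f-module for every f in I, the
module H^i_I(M) is annihilated by J^m for some m. (The source allows any ring with finitely
generated ideals and finitely presented M.) -/
theorem result (A : Type u) [CommRing A] [IsNoetherianRing A] (J I : Ideal A) (hJI : J ≤ I) (i n : ℕ) (hA : ∀ a ∈ J ^ n, ∀ x : LocCoh.H I i A, a • x = 0) (M : Type u) [AddCommGroup M] [Module A M] [Module.Finite A M] (hM : ∀ f ∈ I, Module.Projective (Localization.Away f) (LocalizedModule (Submonoid.powers f) M)) : ∃ m : ℕ, ∀ a ∈ J ^ m, ∀ x : LocCoh.H I i M, a • x = 0 := by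
  have hrad : J ≤ (Module.annihilator A (LocCoh.H I i M)).radical := by
    intro f hf
    obtain ⟨c, r, ψ, φ, hφψ⟩ := exists_factor_away M f (hM f (hJI hf))
    refine ⟨c + n, ?_⟩
    rw [Module.mem_annihilator]
    intro x
    rw [pow_add]
    exact smul_eq_zero_of_factor' I i M (f ^ c) (f ^ n) r ψ φ hφψ
      (hA (f ^ n) (Ideal.pow_mem_pow hf n)) x
  obtain ⟨m, hm⟩ := Ideal.exists_pow_le_of_le_radical_of_fg hrad (IsNoetherian.noetherian J)
  exact ⟨m, fun a ha x => Module.mem_annihilator.1 (hm ha) x⟩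

end Groth.Agent.S1743
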