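import Groth.Statements.S0331
import Mathlib
import Groth.Agent.S0329
import Groth.Agent.S1743

set_option autoImplicit false
universe u v
open LocCoh

namespace Groth.Agent.S0331

open Groth.Agent.Lib.helper11.LCKit CategoryTheory


/-- Over a Noetherian ring, if H^i_I(R) is finitely generated for i ≤ n, then so is H^i_I(M) for i ≤ n
for every finite module M that becomes finite projective after inverting any single element of I. -/
theorem result (R : Type u) [CommRing R] [IsNoetherianRing R] (I : Ideal R) (n : ℕ) (hR : ∀ i : ℕ, i ≤ n → Module.Finite R (LocCoh.H I i R)) (M : Type u) [AddCommGroup M] [Module R M] [Module.Finite R M] (hM : ∀ f ∈ I, Module.Projective (Localization.Away f) (LocalizedModule (Submonoid.powers f) M)) (i : ℕ) (hi : i ≤ n) : Module.Finite R (LocCoh.H I i M) := by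
  have h1 : ∀ i : ℕ, i ≤ n → ∃ m : ℕ, ∀ a ∈ I ^ m, ∀ x : LocCoh.H I i M, a • x = 0 := by
    intro i hi
    haveI := hR i hi
    obtain ⟨k, hk⟩ := Groth.Agent.S0329.exists_pow_ann_of_finite I (LocCoh.H I i R)
      (fun x => exists_pow_smul_eq_zero I i (ModuleCat.of R R) x)
    exact Groth.Agent.S1743.result R I I le_rfl i k hk M hM
  obtain ⟨m, hm⟩ := Groth.Agent.S0329.exists_uniform
    (fun i k => ∀ a ∈ I ^ k, ∀ x : LocCoh.H I i M, a • x = 0)
    (fun i k l hkl h a ha x => h a (Ideal.pow_le_pow_right hkl ha) x) n h1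
  exact Groth.Agent.S0329.finite_of_ann I n M m hm i hi

end Groth.Agent.S0331
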