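import Groth.Statements.S0334
import Mathlib
import Groth.Agent.Lib.helper11.LCTorsion
import Groth.Agent.Lib.helper11.LCVanish2

set_option autoImplicit false
universe u v
open LocCoh

namespace Groth.Agent.S0334

open Groth.Agent.Lib.helper11.LCKit CategoryTheory

lemma ringKrullDim_quotient_eq_coheight {R : Type u} [CommRing R] (P : PrimeSpectrum R) :
    ringKrullDim (R ⧸ P.asIdeal) = (Order.coheight P : WithBot ℕ∞) := by
  rw [ringKrullDim_quotient, Order.coheight_eq_krullDim_Ici]
  have : PrimeSpectrum.zeroLocus (P.asIdeal : Set R) = Set.Ici P := by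
    ext Q
    rw [PrimeSpectrum.mem_zeroLocus, Set.mem_Ici, SetLike.coe_subset_coe]
    rfl
  rw [this]

lemma coheight_lt {R : Type u} [CommRing R] (d : ℕ) (hd : ringKrullDim R = d) (f : R)
    (hf : ∀ p ∈ minimalPrimes R, ringKrullDim (R ⧸ p) = d → f ∉ p) (P : PrimeSpectrum R)
    (hfP : f ∈ P.asIdeal) : Order.coheight P < (d : ℕ∞) := by
  have hle : ∀ Q : PrimeSpectrum R, Order.coheight Q ≤ (d : ℕ∞) := by
    intro Q
    have h1 := Order.coheight_le_krullDim Q
    have h2 : Order.krullDim (PrimeSpectrum R) = ((d : ℕ∞) : WithBot ℕ∞) := hd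
    rw [h2] at h1
    exact WithBot.coe_le_coe.1 h1
  refine lt_of_le_of_ne (hle P) ?_
  intro heq
  have hmin : IsMin P := by
    rw [isMin_iff_forall_not_lt]
    intro Q hQ
    have h1 := Order.coheight_add_one_le hQ
    rw [heq] at h1
    have h2 := hle Q
    have h3 : ((d : ℕ∞) + 1) ≤ (d : ℕ∞) := h1.trans h2
    have : (d + 1 : ℕ) ≤ d := by exact_mod_cast h3
    omega
  have hmp : P.asIdeal ∈ minimalPrimes R := PrimeSpectrum.isMin_iff.1 hmin
  have hdim : ringKrullDim (R ⧸ P.asIdeal) = d := by
    rw [ringKrullDim_quotient_eq_coheight, heq]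
    rfl
  exact hf _ hmp hdim hfP

lemma supportDim_lt {R : Type u} [CommRing R] (d : ℕ) (hd : ringKrullDim R = d) (f : R)
    (hf : ∀ p ∈ minimalPrimes R, ringKrullDim (R ⧸ p) = d → f ∉ p)
    (N : Type u) [AddCommGroup N] [Module R N] (hN : ∀ y : N, f • y = 0) :
    Module.supportDim R N < (d : WithBot ℕ∞) := by
  unfold Module.supportDim
  rw [Order.krullDim_lt_coe_iff]
  intro l
  have h1 : (l.length : ℕ∞) ≤ Order.coheight l.head := Order.length_le_coheight_head
  have h2 : Order.coheight l.head ≤ Order.coheight (l.head : PrimeSpectrum R) :=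
    Order.coheight_le_coheight_apply_of_strictMono Subtype.val (fun _ _ h => h) l.head
  have hfP : f ∈ (l.head : PrimeSpectrum R).asIdeal := by
    have hp := l.head.2
    obtain ⟨m, hm⟩ := Module.mem_support_iff_exists_annihilator.1 hp
    apply hm
    rw [Submodule.mem_annihilator_span_singleton]
    exact hN m
  have h3 := coheight_lt d hd f hf (l.head : PrimeSpectrum R) hfP
  have : (l.length : ℕ∞) < (d : ℕ∞) := lt_of_le_of_lt (h1.trans h2) h3
  exact_mod_cast this



/-- Over a Noetherian local ring of dimension d, multiplication by an element lying in no minimal prime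
p with dim R/p = d is surjective on H^d_I(M) for every finite module M and every ideal I. -/
theorem result (R : Type u) [CommRing R] [IsLocalRing R] [IsNoetherianRing R] (I : Ideal R) (d : ℕ) (hd : ringKrullDim R = d) (f : R) (hf : ∀ p ∈ minimalPrimes R, ringKrullDim (R ⧸ p) = d → f ∉ p) (M : Type u) [AddCommGroup M] [Module R M] [Module.Finite R M] : Function.Surjective (fun x : LocCoh.H I d M => f • x) := by
  let φ : M →ₗ[R] M := LinearMap.lsmul R M f
  let S1 : ShortComplex (ModuleCat.{u} R) :=
    ModuleCat.shortComplexOfCompEqZero (LinearMap.ker φ).subtype φ.rangeRestrict (by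
      ext x
      exact x.2)
  have hS1 : S1.ShortExact := by
    apply ModuleCat.shortComplex_shortExact
    · intro t
      show φ.rangeRestrict t = 0 ↔ t ∈ Set.range (LinearMap.ker φ).subtype
      constructor
      · intro h
        exact ⟨⟨t, congrArg Subtype.val h⟩, rfl⟩
      · rintro ⟨k, rfl⟩
        exact Subtype.ext k.2
    · exact Subtype.val_injective
    · exact LinearMap.surjective_rangeRestrict φ
  let S2 : ShortComplex (ModuleCat.{u} R) :=
    ModuleCat.shortComplexOfCompEqZero (LinearMap.range φ).subtype (LinearMap.range φ).mkQ (by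
      ext x
      simp)
  have hS2 : S2.ShortExact := by
    apply ModuleCat.shortComplex_shortExact
    · intro t
      show (LinearMap.range φ).mkQ t = 0 ↔ t ∈ Set.range (LinearMap.range φ).subtype
      rw [Submodule.mkQ_apply, Submodule.Quotient.mk_eq_zero]
      constructor
      · intro h
        exact ⟨⟨t, h⟩, rfl⟩
      · rintro ⟨k, rfl⟩
        exact k.2
    · exact Subtype.val_injective
    · exact Submodule.mkQ_surjective _
  -- vanishing
  have hv1 : Subsingleton ((localCohomology I (d + 1)).obj S1.X₁) := by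
    apply subsingleton_of_supportDim_lt' I (d + 1) (LinearMap.ker φ)
    refine lt_of_le_of_lt ((Module.supportDim_le_ringKrullDim R _).trans hd.le) ?_
    exact_mod_cast Nat.lt_succ_self d
  have hv2 : Subsingleton ((localCohomology I d).obj S2.X₃) := by
    apply subsingleton_of_supportDim_lt' I d (M ⧸ LinearMap.range φ)
    apply supportDim_lt d hd f hf
    intro y
    obtain ⟨m, rfl⟩ := Submodule.Quotient.mk_surjective _ y
    rw [← Submodule.Quotient.mk_smul, Submodule.Quotient.mk_eq_zero]
    exact ⟨m, rfl⟩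
  intro x₂
  obtain ⟨x₁, hx₁⟩ := exact₂ I d hS2 x₂ (hv2.elim _ _)
  obtain ⟨x₂', hx₂'⟩ := exact₃ I d hS1 x₁ (hv1.elim _ _)
  refine ⟨x₂', ?_⟩
  show f • x₂' = x₂
  rw [smul_eq_map, ← hx₁, ← hx₂', ← ModuleCat.comp_apply, ← Functor.map_comp]
  rfl

end Groth.Agent.S0334
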