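import Groth.Statements.S5163
import Mathlib.RingTheory.Regular.LinearMap

set_option autoImplicit false
universe u
open LocCoh

namespace Groth.Agent.S5163

theorem aux (A : Type u) [CommRing A] [IsNoetherianRing A] (P H : Type u) [AddCommGroup P] [Module A P] [Module.Finite A P] [AddCommGroup H] [Module A H] (hsupp : Module.support A H ⊆ Module.support A P) (hhom : Subsingleton (P →ₗ[A] H)) : Subsingleton H := by
  by_contra hH
  rw [not_subsingleton_iff_nontrivial] at hH
  obtain ⟨x, hx⟩ := exists_ne (0 : H)
  let H' : Submodule A H := Submodule.span A {x}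
  have : Module.Finite A H' := Module.Finite.span_singleton A x
  have hsub : Subsingleton (P →ₗ[A] H') := by
    refine ⟨fun f g => ?_⟩
    have h1 := Subsingleton.elim (H'.subtype.comp f) (H'.subtype.comp g)
    ext p
    exact congrArg Subtype.val (Subtype.ext (LinearMap.congr_fun h1 p))
  obtain ⟨r, hr, hreg⟩ := IsSMulRegular.subsingleton_linearMap_iff.1 hsub
  have : Nontrivial H' :=
    ⟨⟨⟨x, Submodule.mem_span_singleton_self x⟩, 0, fun h => hx (congrArg Subtype.val h)⟩⟩
  obtain ⟨p, hp⟩ := associatedPrimes.nonempty A H'
  have := hp.isPrime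
  have hpS : (⟨p, hp.isPrime⟩ : PrimeSpectrum A) ∈ Module.support A H' :=
    Module.mem_support_iff_of_finite.2 (Submodule.annihilator_top (R := A) (M := H') ▸ hp.annihilator_le)
  have hpS' : (⟨p, hp.isPrime⟩ : PrimeSpectrum A) ∈ Module.support A P :=
    hsupp (Module.support_subset_of_injective H'.subtype Subtype.val_injective hpS)
  have h1 : r ∈ p := (Module.mem_support_iff_of_finite.1 hpS') hr
  have h2 : r ∈ ⋃ p ∈ associatedPrimes A H', (p : Set A) := Set.mem_biUnion hp h1
  rw [biUnion_associatedPrimes_eq_compl_regular] at h2
  exact h2 hreg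

/-- For modules over a Noetherian ring. Let P be a finite A-module and H any A-module with Supp H ⊆ Supp
P. If Hom_A(P, H) = 0 then H = 0. (The published lemma is stated over an arbitrary prescheme; its
proof uses that a nonzero module has an associated prime, so the ring is taken Noetherian here.) -/
theorem result (A : Type u) [CommRing A] [IsNoetherianRing A] (P H : Type u) [AddCommGroup P] [Module A P] [Module.Finite A P] [AddCommGroup H] [Module A H] (hsupp : Module.support A H ⊆ Module.support A P) (hhom : Subsingleton (P →ₗ[A] H)) : Subsingleton H := by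
  exact aux A P H hsupp hhom

end Groth.Agent.S5163
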