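import Groth.Statements.S0333
import Mathlib
import Groth.Agent.S0334
import Groth.Agent.S5163

set_option autoImplicit false
universe u v
open LocCoh

namespace Groth.Agent.S0333

open Groth.Agent.Lib.helper11.LCKit CategoryTheory

variable {R : Type u} [CommRing R]

lemma coheight_le (d : ℕ) (hd : ringKrullDim R = d) (Q : PrimeSpectrum R) :
    Order.coheight Q ≤ (d : ℕ∞) := by
  have h1 := Order.coheight_le_krullDim Q
  have h2 : Order.krullDim (PrimeSpectrum R) = ((d : ℕ∞) : WithBot ℕ∞) := hd
  rw [h2] at h1
  exact WithBot.coe_le_coe.1 h1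

lemma coheight_lt_of_lt (d : ℕ) (hd : ringKrullDim R = d) {P Q : PrimeSpectrum R} (h : P < Q) :
    Order.coheight Q < (d : ℕ∞) := by
  have h1 := Order.coheight_add_one_le h
  have h2 := coheight_le d hd P
  have h3 : Order.coheight Q + 1 ≤ (d : ℕ∞) := h1.trans h2
  have hne : Order.coheight Q ≠ ⊤ :=
    ne_top_of_le_ne_top (ENat.coe_ne_top d) ((le_self_add).trans h3)
  have h4 : Order.coheight Q < Order.coheight Q + 1 :=
    (ENat.lt_add_one_iff hne).2 le_rfl
  exact lt_of_lt_of_le h4 h3

lemma supportDim_lt_of_coheight (d : ℕ) (N : Type u) [AddCommGroup N] [Module R N]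
    (h : ∀ P ∈ Module.support R N, Order.coheight P < (d : ℕ∞)) :
    Module.supportDim R N < (d : WithBot ℕ∞) := by
  unfold Module.supportDim
  rw [Order.krullDim_lt_coe_iff]
  intro l
  have h1 : (l.length : ℕ∞) ≤ Order.coheight l.head := Order.length_le_coheight_head
  have h2 : Order.coheight l.head ≤ Order.coheight (l.head : PrimeSpectrum R) :=
    Order.coheight_le_coheight_apply_of_strictMono Subtype.val (fun _ _ h => h) l.head
  have h3 := h _ l.head.2
  have : (l.length : ℕ∞) < (d : ℕ∞) := lt_of_le_of_lt (h1.trans h2) h3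
  exact_mod_cast this


section main

variable [IsNoetherianRing R] (I : Ideal R) (d : ℕ) (hd : ringKrullDim R = d)

include hd in
/-- Right exactness of `H^d_I` when `dim R = d`. -/
lemma map_g_surjective_top {S : ShortComplex (ModuleCat.{u} R)} (hS : S.ShortExact) :
    Function.Surjective ((localCohomology I d).map S.g).hom := by
  intro x₃
  have hv : Subsingleton ((localCohomology I (d + 1)).obj S.X₁) := by
    apply subsingleton_of_supportDim_lt' I (d + 1) S.X₁
    refine lt_of_le_of_lt ((Module.supportDim_le_ringKrullDim R _).trans hd.le) ?_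
    exact_mod_cast Nat.lt_succ_self d
  exact exact₃ I d hS x₃ (hv.elim _ _)

/-- A short exact sequence of modules as a short complex. -/
noncomputable abbrev scOf {N₁ N₂ N₃ : Type u} [AddCommGroup N₁] [Module R N₁] [AddCommGroup N₂]
    [Module R N₂] [AddCommGroup N₃] [Module R N₃] (f : N₁ →ₗ[R] N₂) (g : N₂ →ₗ[R] N₃)
    (hfg : Function.Exact f g) : ShortComplex (ModuleCat.{u} R) :=
  ModuleCat.shortComplexOfCompEqZero f g hfg.linearMap_comp_eq_zero

omit [IsNoetherianRing R] in
lemma scOf_shortExact {N₁ N₂ N₃ : Type u} [AddCommGroup N₁] [Module R N₁] [AddCommGroup N₂]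
    [Module R N₂] [AddCommGroup N₃] [Module R N₃] (f : N₁ →ₗ[R] N₂) (g : N₂ →ₗ[R] N₃)
    (hf : Function.Injective f) (hg : Function.Surjective g) (hfg : Function.Exact f g) :
    (scOf f g hfg).ShortExact :=
  ModuleCat.shortComplex_shortExact _ hfg hf hg

include hd in
theorem H_quotient_prime (M : Type u) [AddCommGroup M] [Module R M] [Module.Finite R M]
    (hsupp : ∀ p ∈ minimalPrimes R, ringKrullDim (R ⧸ p) = d → ∀ hp : p.IsPrime,
      (⟨p, hp⟩ : PrimeSpectrum R) ∈ Module.support R M)
    (hvan : Subsingleton (LocCoh.H I d M)) (p : PrimeSpectrum R) :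
    Subsingleton (LocCoh.H I d (R ⧸ p.asIdeal)) := by
  by_cases hlt : Order.coheight p < (d : ℕ∞)
  · apply subsingleton_of_supportDim_lt' I d (R ⧸ p.asIdeal)
    apply supportDim_lt_of_coheight
    intro P hP
    rw [Module.support_eq_zeroLocus, Ideal.annihilator_quotient, PrimeSpectrum.mem_zeroLocus,
      SetLike.coe_subset_coe] at hP
    have hle : p ≤ P := hP
    exact lt_of_le_of_lt (Order.coheight_anti hle) hlt
  · have heq : Order.coheight p = (d : ℕ∞) :=
      le_antisymm (coheight_le d hd p) (not_lt.1 hlt)
    have hmin : IsMin p := by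
      rw [isMin_iff_forall_not_lt]
      intro Q hQ
      exact hlt (coheight_lt_of_lt d hd hQ)
    have hmp : p.asIdeal ∈ minimalPrimes R := PrimeSpectrum.isMin_iff.1 hmin
    have hdim : ringKrullDim (R ⧸ p.asIdeal) = d := by
      rw [Groth.Agent.S0334.ringKrullDim_quotient_eq_coheight, heq]
      rfl
    have hpM : p ∈ Module.support R M := hsupp p.asIdeal hmp hdim p.2
    -- a nonzero map `M → R/p`
    obtain ⟨ψ, hψ⟩ : ∃ ψ : M →ₗ[R] (R ⧸ p.asIdeal), ψ ≠ 0 := by
      by_contra hall
      push Not at hall
      have hsub : Subsingleton (M →ₗ[R] (R ⧸ p.asIdeal)) :=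
        ⟨fun a b => by rw [hall a, hall b]⟩
      have := Groth.Agent.S5163.result R M (R ⧸ p.asIdeal) (by
        intro Q hQ
        rw [Module.support_eq_zeroLocus, Ideal.annihilator_quotient, PrimeSpectrum.mem_zeroLocus,
          SetLike.coe_subset_coe] at hQ
        have hle : p ≤ Q := hQ
        exact Module.mem_support_mono hle hpM) hsub
      haveI : Nontrivial (R ⧸ p.asIdeal) := Ideal.Quotient.nontrivial_iff.2 p.2.ne_top
      exact not_subsingleton (R ⧸ p.asIdeal) ‹Subsingleton (R ⧸ p.asIdeal)›
    obtain ⟨m, hm⟩ : ∃ m, ψ m ≠ 0 := by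
      by_contra hall
      push Not at hall
      exact hψ (LinearMap.ext hall)
    obtain ⟨c, hc⟩ := Ideal.Quotient.mk_surjective (ψ m)
    have hcp : c ∉ p.asIdeal := by
      intro h
      apply hm
      rw [← hc]
      exact Ideal.Quotient.eq_zero_iff_mem.2 h
    let W : Submodule R (R ⧸ p.asIdeal) := LinearMap.range ψ
    -- `H^d(W) = 0`
    have hS1 := scOf_shortExact (LinearMap.ker ψ).subtype ψ.rangeRestrict Subtype.val_injective
      (LinearMap.surjective_rangeRestrict ψ) (by
        intro t
        constructor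
        · intro h
          exact ⟨⟨t, congrArg Subtype.val h⟩, rfl⟩
        · rintro ⟨k, rfl⟩
          exact Subtype.ext k.2)
    have hW : Subsingleton ((localCohomology I d).obj (ModuleCat.of R W)) := by
      refine ⟨fun a b => ?_⟩
      obtain ⟨a', rfl⟩ := map_g_surjective_top I d hd hS1 a
      obtain ⟨b', rfl⟩ := map_g_surjective_top I d hd hS1 b
      rw [hvan.elim a' b']
    -- `H^d((R/p)/W) = 0`
    have hT : Subsingleton ((localCohomology I d).obj
        (ModuleCat.of R ((R ⧸ p.asIdeal) ⧸ W))) := by
      apply subsingleton_of_supportDim_lt' I d ((R ⧸ p.asIdeal) ⧸ W)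
      apply supportDim_lt_of_coheight
      intro P hP
      have hann := Module.annihilator_le_of_mem_support hP
      have h1 : p.asIdeal ≤ P.asIdeal := by
        intro a ha
        apply hann
        rw [Module.mem_annihilator]
        intro t
        obtain ⟨t', rfl⟩ := Submodule.Quotient.mk_surjective _ t
        obtain ⟨r, rfl⟩ := Ideal.Quotient.mk_surjective t'
        rw [← Submodule.Quotient.mk_smul]
        have : a • (Ideal.Quotient.mk p.asIdeal r) = 0 := by
          rw [Algebra.smul_def, Ideal.Quotient.algebraMap_eq, ← map_mul]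
          exact Ideal.Quotient.eq_zero_iff_mem.2 (Ideal.mul_mem_right _ _ ha)
        rw [this, Submodule.Quotient.mk_zero]
      have h2 : c ∈ P.asIdeal := by
        apply hann
        rw [Module.mem_annihilator]
        intro t
        obtain ⟨t', rfl⟩ := Submodule.Quotient.mk_surjective _ t
        obtain ⟨r, rfl⟩ := Ideal.Quotient.mk_surjective t'
        rw [← Submodule.Quotient.mk_smul, Submodule.Quotient.mk_eq_zero]
        refine ⟨r • m, ?_⟩
        rw [map_smul, ← hc, Algebra.smul_def, Algebra.smul_def, Ideal.Quotient.algebraMap_eq]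
        exact mul_comm _ _
      have hlt' : p < P := by
        refine lt_of_le_of_ne h1 ?_
        rintro rfl
        exact hcp h2
      exact coheight_lt_of_lt d hd hlt'
    have hS2 := scOf_shortExact W.subtype W.mkQ Subtype.val_injective
      (Submodule.mkQ_surjective _) (by
        intro t
        rw [Submodule.mkQ_apply, Submodule.Quotient.mk_eq_zero]
        constructor
        · intro h
          exact ⟨⟨t, h⟩, rfl⟩
        · rintro ⟨k, rfl⟩
          exact k.2)
    refine ⟨fun a b => ?_⟩
    obtain ⟨a', rfl⟩ := exact₂ I d hS2 a (hT.elim _ _)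
    obtain ⟨b', rfl⟩ := exact₂ I d hS2 b (hT.elim _ _)
    rw [hW.elim a' b']

include hd in
theorem H_top_finite (M : Type u) [AddCommGroup M] [Module R M] [Module.Finite R M]
    (hsupp : ∀ p ∈ minimalPrimes R, ringKrullDim (R ⧸ p) = d → ∀ hp : p.IsPrime,
      (⟨p, hp⟩ : PrimeSpectrum R) ∈ Module.support R M)
    (hvan : Subsingleton (LocCoh.H I d M))
    (N : Type u) [AddCommGroup N] [Module R N] [hN : Module.Finite R N] :
    Subsingleton (LocCoh.H I d N) := by
  induction hN using IsNoetherianRing.induction_on_isQuotientEquivQuotientPrime R with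
  | subsingleton N =>
    refine ⟨fun a b => ?_⟩
    have h0 : 𝟙 (ModuleCat.of R N) = 0 := by
      ext x
      exact Subsingleton.elim _ _
    have key : ∀ x : LocCoh.H I d N, x = 0 := by
      intro x
      have h1 : x = ((localCohomology I d).map (𝟙 (ModuleCat.of R N))).hom x := by
        rw [CategoryTheory.Functor.map_id]; rfl
      rw [h1, h0, Functor.map_zero]
      rfl
    rw [key a, key b]
  | quotient N p e =>
    haveI := H_quotient_prime I d hd M hsupp hvan p
    refine ⟨fun a b => ?_⟩
    have key : ∀ x : LocCoh.H I d N, x = 0 := by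
      intro x
      have h1 : x = ((localCohomology I d).map (ModuleCat.ofHom e.symm.toLinearMap)).hom
          (((localCohomology I d).map (ModuleCat.ofHom e.toLinearMap)).hom x) := by
        rw [← ModuleCat.comp_apply, ← Functor.map_comp]
        have : ModuleCat.ofHom e.toLinearMap ≫ ModuleCat.ofHom e.symm.toLinearMap =
            𝟙 (ModuleCat.of R N) := by
          ext x
          simp
        rw [this, CategoryTheory.Functor.map_id]
        rfl
      rw [h1, Subsingleton.elim (((localCohomology I d).map
        (ModuleCat.ofHom e.toLinearMap)).hom x) 0, map_zero]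
    rw [key a, key b]
  | exact N₁ N₂ N₃ f g hf hg hfg h₁ h₃ =>
    have hS := scOf_shortExact f g hf hg hfg
    refine ⟨fun a b => ?_⟩
    obtain ⟨a', rfl⟩ := exact₂ I d hS a (h₃.elim _ _)
    obtain ⟨b', rfl⟩ := exact₂ I d hS b (h₃.elim _ _)
    rw [h₁.elim a' b']

end main


/-- Over a Noetherian ring of dimension d, if H^d_I(M) = 0 for one finite module M whose support
contains every minimal prime p with dim R/p = d, then H^i_I vanishes in degrees ≥ d on all modules. -/
theorem result (R : Type u) [CommRing R] [IsNoetherianRing R] (I : Ideal R) (d : ℕ) (hd : ringKrullDim R = d) (M : Type u) [AddCommGroup M] [Module R M] [Module.Finite R M] (hsupp : ∀ p ∈ minimalPrimes R, ringKrullDim (R ⧸ p) = d → ∀ hp : p.IsPrime, (⟨p, hp⟩ : PrimeSpectrum R) ∈ Module.support R M) (hvan : Subsingleton (LocCoh.H I d M)) (N : Type u) [AddCommGroup N] [Module R N] (i : ℕ) (hi : d ≤ i) : Subsingleton (LocCoh.H I i N) := by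
  rcases Nat.lt_or_ge d i with hlt | hge
  · apply subsingleton_of_supportDim_lt' I i N
    refine lt_of_le_of_lt ((Module.supportDim_le_ringKrullDim R _).trans hd.le) ?_
    exact_mod_cast hlt
  · obtain rfl : i = d := le_antisymm hge hi
    refine subsingleton_of_forall_eq 0 (fun z => ?_)
    obtain ⟨N', hN', z', rfl⟩ := exists_fg_rep I i (ModuleCat.of R N) z
    haveI : Module.Finite R N' := Module.Finite.iff_fg.2 hN'
    haveI := H_top_finite I i hd M hsupp hvan N'
    rw [Subsingleton.elim z' 0]
    exact map_zero _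

end Groth.Agent.S0333
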