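import Groth.Statements.S16368
import Mathlib
-- import your own Groth.Agent.* helpers here

set_option autoImplicit false
set_option linter.unusedSectionVars false
set_option linter.style.haveILetI false
universe u v
open TensorProduct
open FrobAlg

namespace Groth.Agent.S16368

open FrobAlg IsLocalRing

section minimal

variable (R : Type u) [CommRing R] [IsLocalRing R]
  (M : Type v) [AddCommGroup M] [Module R M] [Module.Finite R M]

/-- A minimal surjection from a finite free module: the kernel has coordinates in the maximal ideal. -/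
theorem exists_minimal_surjection :
    ∃ (n : ℕ) (π : (Fin n → R) →ₗ[R] M),
      Function.Surjective π ∧ ∀ k ∈ LinearMap.ker π, ∀ i, k i ∈ maximalIdeal R := by
  classical
  let κ := ResidueField R
  let n := Module.finrank κ (κ ⊗[R] M)
  let B : Module.Basis (Fin n) κ (κ ⊗[R] M) := Module.finBasis κ (κ ⊗[R] M)
  have hsurj : Function.Surjective (TensorProduct.mk R κ M 1) :=
    TensorProduct.mk_surjective R M κ Ideal.Quotient.mk_surjective
  choose b hb using fun i => hsurj (B i)
  have hspan : Submodule.span R (Set.range b) = ⊤ :=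
    span_eq_top_of_tmul_eq_basis b B hb
  refine ⟨n, Fintype.linearCombination R b, ?_, ?_⟩
  · rw [← LinearMap.range_eq_top, Fintype.range_linearCombination, hspan]
  · intro k hk i
    rw [LinearMap.mem_ker, Fintype.linearCombination_apply] at hk
    have h1 := congrArg (TensorProduct.mk R κ M 1) hk
    rw [map_sum, map_zero] at h1
    have h2 : ∑ j, (residue R (k j)) • B j = 0 := by
      rw [← h1]
      refine Finset.sum_congr rfl (fun j _ => ?_)
      rw [map_smul, hb j]
      rfl
    have h3 := Fintype.linearIndependent_iff.mp B.linearIndependent _ h2 i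
    exact (residue_eq_zero_iff _).mp h3

end minimal

section core

variable (p : ℕ) [Fact p.Prime] (R : Type u) [CommRing R] [CharP R p]
  (M : Type v) [AddCommGroup M] [Module R M]

/-- The `i`-th coordinate functional on `Twist ⊗ Rⁿ`. -/
noncomputable def coordT (n : ℕ) (i : Fin n) : Twist p R ⊗[R] (Fin n → R) →ₗ[R] Twist p R :=
  (TensorProduct.rid R (Twist p R)).toLinearMap ∘ₗ
    LinearMap.lTensor (Twist p R) (LinearMap.proj i : (Fin n → R) →ₗ[R] R)

theorem coordT_tmul (n : ℕ) (i : Fin n) (t : Twist p R) (x : Fin n → R) :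
    coordT p R n i (t ⊗ₜ x) = x i • t := by
  simp [coordT]

theorem smul_twist (a : R) (t : Twist p R) : a • t = toTwist p R (a ^ p) * t := by
  rw [Algebra.smul_def, algebraMap_twist]

/-- The Frobenius pull-back of the generators. -/
noncomputable def EE (n : ℕ) (π : (Fin n → R) →ₗ[R] M) (y : Fin n → R) : Twist p R ⊗[R] M :=
  ∑ i, (toTwist p R (y i)) ⊗ₜ[R] π (Pi.single i 1)

theorem EE_add (n : ℕ) (π : (Fin n → R) →ₗ[R] M) (y y' : Fin n → R) :
    EE p R M n π (y + y') = EE p R M n π y + EE p R M n π y' := by
  unfold EE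
  rw [← Finset.sum_add_distrib]
  refine Finset.sum_congr rfl (fun i _ => ?_)
  rw [Pi.add_apply, map_add, TensorProduct.add_tmul]

theorem EE_smul (n : ℕ) (π : (Fin n → R) →ₗ[R] M) (a : R) (y : Fin n → R) :
    EE p R M n π (a • y) = (toTwist p R a) • EE p R M n π y := by
  unfold EE
  rw [Finset.smul_sum]
  refine Finset.sum_congr rfl (fun i _ => ?_)
  rw [Pi.smul_apply, smul_eq_mul, map_mul, TensorProduct.smul_tmul', smul_eq_mul]

theorem EE_surjective (n : ℕ) (π : (Fin n → R) →ₗ[R] M) (hπ : Function.Surjective π)
    (z : Twist p R ⊗[R] M) : ∃ y, EE p R M n π y = z := by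
  induction z using TensorProduct.induction_on with
  | zero =>
    refine ⟨0, ?_⟩
    unfold EE
    simp
  | tmul t m =>
    obtain ⟨x, rfl⟩ := hπ m
    refine ⟨fun i => x i ^ p * (toTwist p R).symm t, ?_⟩
    unfold EE
    rw [LinearMap.pi_apply_eq_sum_univ π x, TensorProduct.tmul_sum]
    refine Finset.sum_congr rfl (fun i _ => ?_)
    rw [TensorProduct.tmul_smul, TensorProduct.smul_tmul', smul_twist, map_mul,
      RingEquiv.apply_symm_apply]
    congr 2
    funext j
    simp [Pi.single_apply, eq_comm]
  | add z z' hz hz' =>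
    obtain ⟨y, rfl⟩ := hz
    obtain ⟨y', rfl⟩ := hz'
    exact ⟨y + y', EE_add p R M n π y y'⟩

/-- Key lemma: relations among the Frobenius pull-backs of generators have coefficients in the
Frobenius power of the coordinate ideal of the relations. -/
theorem coeff_mem_of_EE_eq_zero (n : ℕ) (π : (Fin n → R) →ₗ[R] M) (hπ : Function.Surjective π)
    (y : Fin n → R) (hy : EE p R M n π y = 0) (i : Fin n) :
    y i ∈ Ideal.span {a : R | ∃ k ∈ LinearMap.ker π, ∃ j, a = k j ^ p} := by
  classical
  set J := Ideal.span {a : R | ∃ k ∈ LinearMap.ker π, ∃ j, a = k j ^ p} with hJ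
  let z : Twist p R ⊗[R] (Fin n → R) := ∑ j, (toTwist p R (y j)) ⊗ₜ[R] (Pi.single j (1 : R))
  have hz : LinearMap.lTensor (Twist p R) π z = 0 := by
    rw [map_sum, ← hy]
    unfold EE
    refine Finset.sum_congr rfl (fun j _ => ?_)
    rw [LinearMap.lTensor_tmul]
  have hex : Function.Exact (LinearMap.lTensor (Twist p R) (LinearMap.ker π).subtype)
      (LinearMap.lTensor (Twist p R) π) :=
    lTensor_exact (Twist p R) (LinearMap.exact_subtype_ker_map π) hπ
  obtain ⟨w, hw⟩ := (hex z).mp hz
  have hQ : ∀ w : Twist p R ⊗[R] (LinearMap.ker π),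
      (toTwist p R).symm (coordT p R n i
        (LinearMap.lTensor (Twist p R) (LinearMap.ker π).subtype w)) ∈ J := by
    intro w
    induction w using TensorProduct.induction_on with
    | zero => simp
    | tmul t k =>
      rw [LinearMap.lTensor_tmul, coordT_tmul, smul_twist, map_mul, RingEquiv.symm_apply_apply]
      exact J.mul_mem_right _ (Ideal.subset_span ⟨k.1, k.2, i, rfl⟩)
    | add a b ha hb =>
      rw [map_add, map_add, map_add]
      exact J.add_mem ha hb
  have h1 := hQ w
  rw [hw] at h1
  have h2 : coordT p R n i z = toTwist p R (y i) := by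
    simp only [z, map_sum, coordT_tmul]
    rw [Finset.sum_eq_single i]
    · rw [Pi.single_eq_same, one_smul]
    · intro j _ hji
      rw [Pi.single_eq_of_ne hji.symm, zero_smul]
    · intro h; exact absurd (Finset.mem_univ i) h
  rwa [h2, RingEquiv.symm_apply_apply] at h1

end core

/-- Let R be a local ring of prime characteristic p and M a finitely presented R-module. Write R' for R
regarded as an R-algebra through its Frobenius a ↦ a^p, so that R' ⊗_R M is the pull-back of M along
the absolute Frobenius of Spec R, an R'-module. If this pull-back is isomorphic to M — there is a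
bijective map e : R' ⊗_R M → M, additive and semilinear for the identification R' = R — then M is
free. -/
theorem result
    (p : ℕ) [Fact p.Prime] (R : Type u) [CommRing R] [IsLocalRing R] [CharP R p]
    (M : Type v) [AddCommGroup M] [Module R M] [Module.FinitePresentation R M]
    (e : (FrobAlg.Twist p R ⊗[R] M) →ₛₗ[((FrobAlg.toTwist p R).symm : FrobAlg.Twist p R →+* R)] M)
    (he : Function.Bijective e) :
    Module.Free R M := by
  classical
  obtain ⟨n, π, hπ, hK⟩ := exists_minimal_surjection R M
  have hpp : p.Prime := Fact.out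
  -- the second surjection
  let π' : (Fin n → R) →ₗ[R] M :=
    { toFun := fun y => e (EE p R M n π y)
      map_add' := fun y y' => by rw [EE_add, map_add]
      map_smul' := fun a y => by
        rw [EE_smul, LinearMap.map_smulₛₗ, RingHom.id_apply]
        congr 1 }
  have hπ'_apply : ∀ y, π' y = e (EE p R M n π y) := fun y => rfl
  have hπ' : Function.Surjective π' := by
    intro m
    obtain ⟨z, rfl⟩ := he.2 m
    obtain ⟨y, rfl⟩ := EE_surjective p R M n π hπ z
    exact ⟨y, rfl⟩
  obtain ⟨θ, hθ⟩ := Module.projective_lifting_property π π' hπ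
  obtain ⟨θ', hθ'⟩ := Module.projective_lifting_property π' π hπ'
  -- `θ ∘ θ'` is congruent to the identity modulo the maximal ideal
  have hν : ∀ x, π (θ (θ' x)) = π x := by
    intro x
    have h1 := LinearMap.congr_fun hθ (θ' x)
    have h2 := LinearMap.congr_fun hθ' x
    rw [LinearMap.comp_apply] at h1 h2
    rw [h1, h2]
  have hdet : IsUnit (LinearMap.det (θ ∘ₗ θ')) := by
    rw [← LinearMap.det_toMatrix', ← residue_ne_zero_iff_isUnit, RingHom.map_det]
    have : (RingHom.mapMatrix (residue R)) (LinearMap.toMatrix' (θ ∘ₗ θ')) = 1 := by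
      ext i j
      rw [RingHom.mapMatrix_apply, Matrix.map_apply, LinearMap.toMatrix'_apply,
        LinearMap.comp_apply, Matrix.one_apply]
      have hmem : θ (θ' (Pi.single j 1)) - Pi.single j 1 ∈ LinearMap.ker π := by
        rw [LinearMap.mem_ker, map_sub, hν, sub_self]
      have h3 := hK _ hmem i
      rw [Pi.sub_apply, ← residue_eq_zero_iff, map_sub, sub_eq_zero] at h3
      rw [h3, Pi.single_apply]
      split_ifs <;> simp
    rw [this, Matrix.det_one]
    exact one_ne_zero
  have hsurj : Function.Surjective (θ ∘ₗ θ') := by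
    have := (LinearMap.isUnit_iff_isUnit_det (θ ∘ₗ θ')).mpr hdet
    exact ((Module.End.isUnit_iff _).mp this).2
  -- coordinate ideal of the relations
  let I : Ideal R := ⨆ j : Fin n, Submodule.map (LinearMap.proj j : (Fin n → R) →ₗ[R] R)
    (LinearMap.ker π)
  have hImem : ∀ k ∈ LinearMap.ker π, ∀ j, k j ∈ I := fun k hk j =>
    Submodule.mem_iSup_of_mem j (Submodule.mem_map_of_mem hk)
  have hIfg : I.FG := by
    refine Submodule.fg_iSup _ (fun j => ?_)
    exact (Module.FinitePresentation.fg_ker π hπ).map _
  let J : Ideal R := Ideal.span {a : R | ∃ k ∈ LinearMap.ker π, ∃ j, a = k j ^ p}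
  have hJ : J ≤ maximalIdeal R • I := by
    refine Ideal.span_le.mpr ?_
    rintro a ⟨k, hk, j, rfl⟩
    have : k j ^ p = k j ^ (p - 1) * k j := by
      rw [← pow_succ, Nat.sub_add_cancel hpp.one_le]
    rw [this, ← smul_eq_mul]
    refine Submodule.smul_mem_smul ?_ (hImem k hk j)
    exact Ideal.pow_mem_of_mem _ (hK k hk j) _ (Nat.sub_pos_of_lt hpp.one_lt)
  have hI : I ≤ maximalIdeal R • I := by
    refine iSup_le (fun j => ?_)
    rw [Submodule.map_le_iff_le_comap]
    intro k hk
    rw [Submodule.mem_comap, LinearMap.proj_apply]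
    obtain ⟨x, hx⟩ := hsurj k
    rw [LinearMap.comp_apply] at hx
    set y := θ' x with hy
    have hy0 : π' y = 0 := by
      have h1 := LinearMap.congr_fun hθ y
      rw [LinearMap.comp_apply, hx] at h1
      rw [← h1]
      exact hk
    have hEE : EE p R M n π y = 0 := by
      apply he.1
      rw [← hπ'_apply, hy0, map_zero]
    have hyJ : ∀ i, y i ∈ J := coeff_mem_of_EE_eq_zero p R M n π hπ y hEE
    rw [← hx, LinearMap.pi_apply_eq_sum_univ θ y, Finset.sum_apply]
    refine Submodule.sum_mem _ (fun i _ => ?_)
    rw [Pi.smul_apply, smul_eq_mul]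
    exact Ideal.mul_mem_right _ _ (hJ (hyJ i))
  have hI0 : I = ⊥ := by
    refine Submodule.eq_bot_of_le_smul_of_le_jacobson_bot (maximalIdeal R) I hIfg hI ?_
    rw [jacobson_eq_maximalIdeal ⊥ bot_ne_top]
  have hinj : Function.Injective π := by
    rw [← LinearMap.ker_eq_bot, Submodule.eq_bot_iff]
    intro k hk
    funext j
    have := hImem k hk j
    rw [hI0] at this
    exact this
  exact Module.Free.of_equiv (LinearEquiv.ofBijective π ⟨hinj, hπ⟩)

end Groth.Agent.S16368
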