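import Groth.Statements.S0337
import Mathlib
import Groth.Agent.S16368
-- import your own Groth.Agent.* helpers here

set_option autoImplicit false
set_option linter.unusedSectionVars false
set_option linter.style.haveILetI false
set_option backward.isDefEq.respectTransparency false
universe u v
open CategoryTheory
open LocCoh

namespace Groth.Agent.S0337

open TensorProduct
open FrobAlg CategoryTheory ChangeOfRings

/-- Over a Noetherian local ring of prime characteristic p, a finite module isomorphic to its own base
change along Frobenius is free. -/
theorem result (p : ℕ) [Fact p.Prime] (R : Type u) [CommRing R] [IsLocalRing R] [IsNoetherianRing R] [CharP R p] (M : Type u) [AddCommGroup M] [Module R M] [Module.Finite R M] (h : Nonempty ((ModuleCat.extendScalars (frobenius R p)).obj (ModuleCat.of R M) ≅ ModuleCat.of R M)) : Module.Free R M := by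
  obtain ⟨h⟩ := h
  let S' := ((ModuleCat.restrictScalars (frobenius R p)).obj (ModuleCat.of R R))
  let ident : Twist p R ≃ₗ[R] S' :=
    { toFun := fun t => ((toTwist p R).symm t : R)
      invFun := fun s => toTwist p R (s : R)
      map_add' := fun x y => map_add _ x y
      map_smul' := fun a x => by
        have : ((toTwist p R).symm (a • x) : R) =
            ((frobenius R p a : R) * ((toTwist p R).symm x : R) : R) := by
          rw [Algebra.smul_def, algebraMap_twist, map_mul, RingEquiv.symm_apply_apply,
            frobenius_def]
        exact this
      left_inv := fun x => RingEquiv.apply_symm_apply _ x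
      right_inv := fun x => (toTwist p R).symm_apply_apply (show R from x) }
  let g : Twist p R ⊗[R] M ≃ₗ[R] (S' ⊗[R] M) := TensorProduct.congr ident (LinearEquiv.refl R M)
  let FM := ((ModuleCat.extendScalars (frobenius R p)).obj (ModuleCat.of R M))
  let g' : Twist p R ⊗[R] M → FM := fun z => g z
  have g'_add : ∀ z z', g' (z + z') = g' z + g' z' := fun z z' => map_add g z z'
  have g'_zero : g' 0 = 0 := map_zero g
  have g'_tmul : ∀ (t : Twist p R) (m : M),
      g' (t ⊗ₜ m) = ((toTwist p R).symm t) ⊗ₜ[R, frobenius R p] m := fun t m => rfl
  have hg : ∀ (t : Twist p R) (z : Twist p R ⊗[R] M),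
      g' (t • z) = ((toTwist p R).symm t) • g' z := by
    intro t z
    induction z using TensorProduct.induction_on with
    | zero => rw [smul_zero, g'_zero, smul_zero]
    | tmul t' m =>
      rw [TensorProduct.smul_tmul', smul_eq_mul, g'_tmul, g'_tmul, map_mul]
      exact (ModuleCat.ExtendScalars.smul_tmul (frobenius R p) (M := ModuleCat.of R M)
        ((toTwist p R).symm t) ((toTwist p R).symm t') m).symm
    | add a b ha hb =>
      rw [smul_add, g'_add, g'_add, ha, hb, smul_add]
  let e : (Twist p R ⊗[R] M) →ₛₗ[((toTwist p R).symm : Twist p R →+* R)] M :=
    { toFun := fun z => h.hom.hom (g' z)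
      map_add' := fun x y => by rw [g'_add, map_add]
      map_smul' := fun t z => by
        rw [hg, map_smul]
        rfl }
  have he : Function.Bijective e := by
    have h1 : Function.Bijective h.hom.hom := (h.toLinearEquiv).bijective
    exact h1.comp g.bijective
  haveI : Module.FinitePresentation R M := Module.finitePresentation_of_finite R M
  exact Groth.Agent.S16368.result p R M e he

end Groth.Agent.S0337
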