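import Groth.Statements.S0349
import Groth.Agent.Lib.Helper4.GrpdCompact
import Groth.Agent.Lib.Helper4.GrpToGrpd

set_option autoImplicit false
universe u v
open CategoryTheory MonoidalCategory CartesianMonoidalCategory MonObj GrpObj AlgebraicGeometry
open GrpSch

namespace Groth.Agent.S0349

/-- An irreducible group scheme over a field is quasi-compact. -/
theorem result (K : Type u) [Field K] (G : Over (Spec (CommRingCat.of K))) [GrpObj G] [IrreducibleSpace G.left] : CompactSpace G.left := by
  have : IrreducibleSpace (Groth.Agent.Lib.Helper4.GrpToGrpd.ofGrp G).R := ‹IrreducibleSpace G.left›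
  exact Groth.Agent.Lib.Helper4.GrpdCompact.main (Groth.Agent.Lib.Helper4.GrpToGrpd.ofGrp G) K (Iso.refl _)

end Groth.Agent.S0349
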