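import Groth.Statements.S0356
import Groth.Agent.Lib.Helper2.FullCech15
import Groth.Agent.Lib.Helper2.FullCech14
import Groth.Agent.Lib.Helper2.LCCech4

set_option autoImplicit false
universe u v
open CategoryTheory AlgebraicGeometry
open LocCoh

namespace Groth.Agent.S0356

/-- Let R be a Noetherian ring, I an ideal, M an R-module and U = Spec R ∖ V(I) the punctured open. For
every p ≥ 1, the cohomology group H^p(U, M̃|_U) of the restriction to U of the quasi-coherent sheaf
associated with M is isomorphic to the local cohomology H^(p+1)_I(M). (The published statement also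
gives a four-term exact sequence in low degrees, which is not stated here; here R is Noetherian.) -/
theorem result (R : Type u) [CommRing R] [IsNoetherianRing R] (I : Ideal R) (M : Type u) [AddCommGroup M] [Module R M] (p : ℕ) (hp : 1 ≤ p) : Nonempty (Coh.HH (↑(LocCoh.puncturedOpen R I)) ((AlgebraicGeometry.tilde (R := CommRingCat.of R) (ModuleCat.of R M)).restrict (LocCoh.puncturedOpen R I).ι) p ≃+ LocCoh.H I (p + 1) M) := by
  classical
  obtain ⟨s, hs⟩ := (IsNoetherian.noetherian I : I.FG)
  have hI : Ideal.span {a | a ∈ s.toList} = I := by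
    rw [← hs]
    congr 1
    ext a
    simp
  obtain ⟨q, rfl⟩ : ∃ q, p = q + 1 := ⟨p - 1, by omega⟩
  have hU : LocCoh.puncturedOpen R I = ⨆ i : ULift.{u} (Fin s.toList.length),
      (Groth.Agent.Lib.Helper2.CechGeoA3.XA R).basicOpen
        (Groth.Agent.Lib.Helper2.CechGeoA3.phiA R (s.toList.get i.down)) := by
    rw [← hI, Groth.Agent.Lib.Helper2.FullCech14.puncturedOpen_eq]
    exact (Groth.Agent.Lib.Helper2.FullCech14.iSup_cov s.toList).symm
  have haff : ∀ i : ULift.{u} (Fin s.toList.length), IsAffineOpen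
      ((Groth.Agent.Lib.Helper2.CechGeoA3.XA R).basicOpen
        (Groth.Agent.Lib.Helper2.CechGeoA3.phiA R (s.toList.get i.down))) :=
    fun i => (isAffineOpen_top (Groth.Agent.Lib.Helper2.CechGeoA3.XA R)).basicOpen _
  obtain ⟨e1⟩ := Groth.Agent.Lib.Helper2.FullCech15.cech_equiv_HHon
    (Groth.Agent.Lib.Helper2.CechGeoA3.XA R)
    (fun i : ULift.{u} (Fin s.toList.length) =>
      Groth.Agent.Lib.Helper2.CechGeoA3.phiA R (s.toList.get i.down)) haff
    (Groth.Agent.Lib.Helper2.FullCech4.Ft R (ModuleCat.of R M)) (q + 1)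
    (LocCoh.puncturedOpen R I) hU
  have e2 : (Groth.Agent.Lib.Helper2.FullCech5.KA s.toList (ModuleCat.of R M)).homology (q + 2) ≅
      (Groth.Agent.Lib.Helper2.FullCech5.KN s.toList (ModuleCat.of R M)).homology (q + 1) :=
    Groth.Agent.Lib.Helper2.FullCech3.augmentHomologyIso _ _ q
  obtain ⟨e3⟩ := Groth.Agent.Lib.Helper2.FullCech9.main s.toList (q + 2) (ModuleCat.of R M)
  obtain ⟨e4⟩ := Groth.Agent.Lib.Helper2.LCCech4.extCechH_equiv s.toList (ModuleCat.of R M)
    ((q + 2 : ℕ))
  rw [hI] at e4
  exact ⟨((e1.symm.trans e2.symm.addCommGroupIsoToAddEquiv).trans e3).trans e4.toAddEquiv⟩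

end Groth.Agent.S0356
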