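import Groth.Statements.S0358
import Mathlib
import Groth.Agent.Lib.Helper21.DepthKit12
import Groth.Agent.Lib.Helper21.CatKit
import Groth.Agent.Lib.Helper21.DepthKit6
import Groth.Agent.Lib.Helper21.FlatKit7
import Groth.Agent.S2659

set_option autoImplicit false
universe u v
open LocCoh

namespace Groth.Agent.S0358

open IsLocalRing Module Pointwise RingTheory.Sequence
open Groth.Agent.Lib.Helper21.DepthKit Groth.Agent.Lib.Helper21.CatKit

section
variable {F : Type u} [CommRing F] [IsLocalRing F] [IsNoetherianRing F]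

/-- CM local ring: `dim F = dim F/p + depth F_p`. -/
theorem dim_eq_quot_add_depth (hF : LocCoh.IsCohenMacaulayModule F F) (p : Ideal F) [hp : p.IsPrime] :
    ringKrullDim F = ringKrullDim (F ⧸ p) +
      ((LocCoh.depth (Localization.AtPrime p) (LocalizedModule p.primeCompl F) : ℕ∞) : WithBot ℕ∞) := by
  have hsupp : (⟨p, hp⟩ : PrimeSpectrum F) ∈ Module.support F F :=
    Module.mem_support_iff.2 (Groth.Agent.S2659.nontrivial_locSelf p)
  obtain ⟨hcm, hdim⟩ := isCM_localizedModule_and_dim hF ⟨p, hp⟩ hsupp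
  simp only at hcm hdim
  unfold LocCoh.IsCohenMacaulayModule at hcm
  have heq : (p • ⊤ : Submodule F F) = p := by simp
  rw [supportDim_self_eq_ringKrullDim, supportDim_eq_of_equiv (Submodule.quotEquivOfEq _ _ heq),
    Module.supportDim_quotient_eq_ringKrullDim, hcm] at hdim
  exact hdim

/-- CM local ring: `grade J = dim F - dim F/J`. -/
theorem dim_quot_add_idealDepth (hF : LocCoh.IsCohenMacaulayModule F F) (J : Ideal F) (hJ : J ≠ ⊤) :
    ringKrullDim (F ⧸ J) + ((LocCoh.idealDepth J F : ℕ∞) : WithBot ℕ∞) = ringKrullDim F := by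
  have hJM : J • (⊤ : Submodule F F) ≠ ⊤ := by simpa using hJ
  obtain ⟨n, hn'⟩ := exists_nat_supportDim (A := F) (M := F)
  have hn : ringKrullDim F = n := by rw [← supportDim_self_eq_ringKrullDim, hn']
  obtain ⟨g, hg⟩ := exists_nat_idealDepth J hJM
  -- key: for every prime `a ⊇ J`: `coheight a + g ≤ n`
  have hkey : ∀ a : PrimeSpectrum F, J ≤ a.asIdeal → Order.coheight a + (g : ℕ∞) ≤ n := by
    intro a ha
    haveI := a.2
    have h2 := dim_eq_quot_add_depth hF a.asIdeal
    rw [hn, ringKrullDim_quotient_eq_coheight] at h2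
    have h3 : (g : ℕ∞) ≤ LocCoh.depth (Localization.AtPrime a.asIdeal)
        (LocalizedModule a.asIdeal.primeCompl F) :=
      hg ▸ idealDepth_le_depth_localization J a.asIdeal ha
    have h4 : ((n : ℕ∞) : WithBot ℕ∞) = ((Order.coheight a + LocCoh.depth (Localization.AtPrime a.asIdeal)
        (LocalizedModule a.asIdeal.primeCompl F) : ℕ∞) : WithBot ℕ∞) := by
      rw [WithBot.coe_add]; exact h2
    have h5 := WithBot.coe_injective h4
    rw [h5]
    exact add_le_add_right h3 _
  obtain ⟨q, hq, hJq, hdq⟩ := exists_prime_depth_localization_eq J hJM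
  have hgn : g ≤ n := by
    have := hkey ⟨q, hq⟩ hJq
    have h1 : (g : ℕ∞) ≤ n := le_trans le_add_self this
    exact_mod_cast h1
  -- upper bound
  have hub : ringKrullDim (F ⧸ J) ≤ ((n - g : ℕ) : WithBot ℕ∞) := by
    rw [ringKrullDim_quotient, Order.krullDim_eq_iSup_coheight]
    refine iSup_le fun a => ?_
    have h1 : Order.coheight a ≤ Order.coheight a.1 :=
      Order.coheight_le_coheight_apply_of_strictMono Subtype.val (fun _ _ h => h) a
    have h2 := hkey a.1 ((PrimeSpectrum.mem_zeroLocus _ _).1 a.2)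
    have h3 : Order.coheight a ≤ ((n - g : ℕ) : ℕ∞) := by
      have h6 : (g : ℕ∞) + Order.coheight a.1 ≤ (n : ℕ∞) := by rwa [add_comm]
      have h7 := ENat.le_sub_of_add_le_left (ENat.coe_ne_top g) h6
      exact h1.trans (by simpa using h7)
    calc (Order.coheight a : WithBot ℕ∞) ≤ (((n - g : ℕ) : ℕ∞) : WithBot ℕ∞) :=
          WithBot.coe_le_coe.2 h3
      _ = _ := rfl
  -- lower bound
  have h4 := dim_eq_quot_add_depth hF q
  rw [hdq, hg, hn] at h4
  have h5 : ringKrullDim (F ⧸ q) ≤ ringKrullDim (F ⧸ J) :=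
    ringKrullDim_le_of_surjective (Ideal.Quotient.factor hJq) (Ideal.Quotient.factor_surjective hJq)
  rw [hg, hn]
  generalize ringKrullDim (F ⧸ J) = D at hub h5 ⊢
  generalize ringKrullDim (F ⧸ q) = E at h4 h5
  induction D using WithBot.recBotCoe with
  | bot =>
    simp only [le_bot_iff] at h5
    rw [h5] at h4
    simp at h4
  | coe d =>
    have hd : d ≤ ((n - g : ℕ) : ℕ∞) := WithBot.coe_le_coe.1 hub
    lift d to ℕ using ne_top_of_le_ne_top (ENat.coe_ne_top _) hd
    induction E using WithBot.recBotCoe with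
    | bot => simp at h4
    | coe e =>
      have he : e ≤ (d : ℕ∞) := WithBot.coe_le_coe.1 h5
      lift e to ℕ using ne_top_of_le_ne_top (ENat.coe_ne_top _) he
      have h4' : n = e + g := by exact_mod_cast h4
      have hd' : d ≤ n - g := by exact_mod_cast hd
      have he' : e ≤ d := by exact_mod_cast he
      have : d + g = n := by omega
      exact_mod_cast this

end


/-- For a flat local homomorphism R → S of Noetherian local rings whose closed fibre S/m_R S is
Cohen–Macaulay, and a proper ideal I of S, the I-depth of S is at least dim(S/m_R S) − dim(S/(m_R S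
+ I)); stated additively. -/
theorem result (R : Type u) [CommRing R] [IsLocalRing R] [IsNoetherianRing R] (S : Type u) [CommRing S] [IsLocalRing S] [IsNoetherianRing S] [Algebra R S] [IsLocalHom (algebraMap R S)] [Module.Flat R S] (hCM : LocCoh.IsCohenMacaulayLocalRing (S ⧸ (IsLocalRing.maximalIdeal R).map (algebraMap R S))) (I : Ideal S) (hI : I ≠ ⊤) : ringKrullDim (S ⧸ (IsLocalRing.maximalIdeal R).map (algebraMap R S)) ≤ ringKrullDim (S ⧸ ((IsLocalRing.maximalIdeal R).map (algebraMap R S) ⊔ I)) + ((LocCoh.idealDepth I S : ℕ∞) : WithBot ℕ∞) := by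
  set 𝔞 : Ideal S := (maximalIdeal R).map (algebraMap R S) with h𝔞
  haveI hFloc : IsLocalRing (S ⧸ 𝔞) := hCM.toIsLocalRing
  have hF : LocCoh.IsCohenMacaulayModule (S ⧸ 𝔞) (S ⧸ 𝔞) := hCM.supportDim_eq_depth
  have h𝔞m : 𝔞 ≤ maximalIdeal S := ((IsLocalRing.local_hom_TFAE (algebraMap R S)).out 0 2).1 ‹_›
  have hIm : I ≤ maximalIdeal S := le_maximalIdeal hI
  have hsurj : Function.Surjective (algebraMap S (S ⧸ 𝔞)) := Ideal.Quotient.mk_surjective
  have hJ : I.map (algebraMap S (S ⧸ 𝔞)) ≠ ⊤ := by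
    intro h
    have h1 := congrArg (Ideal.comap (algebraMap S (S ⧸ 𝔞))) h
    rw [Ideal.comap_map_of_surjective' _ hsurj, Ideal.comap_top, Ideal.Quotient.algebraMap_eq,
      Ideal.mk_ker] at h1
    exact (maximalIdeal.isMaximal S).ne_top (top_le_iff.1 (h1 ▸ sup_le hIm h𝔞m))
  have key := dim_quot_add_idealDepth hF _ hJ
  rw [← key]
  have hdim : ringKrullDim ((S ⧸ 𝔞) ⧸ I.map (algebraMap S (S ⧸ 𝔞))) = ringKrullDim (S ⧸ (𝔞 ⊔ I)) :=
    ringKrullDim_eq_of_ringEquiv (DoubleQuot.quotQuotEquivQuotSup 𝔞 I)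
  rw [hdim]
  gcongr
  -- depth comparison
  rw [← idealDepth_map_of_surjective (S ⧸ 𝔞) hsurj I]
  have hIM : I • (⊤ : Submodule S (S ⧸ 𝔞)) ≠ ⊤ := by
    intro h
    apply hJ
    have h2 := (smul_top_eq_top_iff_map (S := S ⧸ 𝔞) (S ⧸ 𝔞) I).1 h
    simpa using h2
  obtain ⟨g, hg⟩ := exists_nat_idealDepth I hIM
  obtain ⟨rs, hlen, hmem, hreg⟩ := (natCast_le_idealDepth_iff I hIM g).1 (le_of_eq hg.symm)
  have heq : (𝔞 • ⊤ : Submodule S S) = 𝔞 := by simp
  have hreg' : IsWeaklyRegular (S ⧸ (𝔞 • ⊤ : Submodule S S)) rs :=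
    ((Submodule.quotEquivOfEq _ _ heq).isWeaklyRegular_congr rs).2 hreg
  have hIB : (maximalIdeal R).map (algebraMap R S) ≤ Ideal.jacobson ⊥ := by
    rw [IsLocalRing.jacobson_eq_maximalIdeal ⊥ bot_ne_top]
    exact h𝔞m
  obtain ⟨hregS, -⟩ := Groth.Agent.Lib.Helper21.FlatKit.isWeaklyRegular_of_reduction_noeth
    (maximalIdeal R) hIB rs S hreg'
  rw [hg, ← hlen]
  exact WithBot.coe_le_coe.2 (length_le_idealDepth _ rs hregS hmem)

end Groth.Agent.S0358
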