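import Groth.Statements.S0359
import Groth.Agent.Lib.Helper2.FinDim3
import Groth.Agent.Lib.Helper2.DepthQuot
import Groth.Agent.Lib.Helper21.DepthKit8
import Groth.Agent.Lib.Helper21.DepthKit11

set_option autoImplicit false
universe u v
open LocCoh Groth.Agent.Lib.Helper2.FinDim Groth.Agent.Lib.Helper2.DepthQuot Groth.Agent.Lib.Helper21.DepthKit

namespace Groth.Agent.S0359

theorem semicont (R : Type u) [CommRing R] [IsNoetherianRing R] (p : Ideal R) [hp : p.IsPrime] :
    ∀ (e : ℕ) (M : Type u) [AddCommGroup M] [Module R M] [Module.Finite R M],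
      LocCoh.depth (Localization.AtPrime p) (LocalizedModule p.primeCompl M) = e →
      ∃ f : R, f ∉ p ∧ (∀ (q : Ideal R) [q.IsPrime], p ≤ q → f ∉ q →
        (e : ℕ∞) ≤ LocCoh.depth (Localization.AtPrime q) (LocalizedModule q.primeCompl M)) ∧
        {q : PrimeSpectrum R | p ≤ q.asIdeal ∧ f ∉ q.asIdeal ∧
          LocCoh.depth (Localization.AtPrime q.asIdeal)
            (LocalizedModule q.asIdeal.primeCompl M) = e}.Finite := by
  intro e
  induction e with
  | zero =>
    intro M _ _ _ _
    refine ⟨1, (Ideal.ne_top_iff_one p).1 hp.ne_top, fun q _ _ _ => ?_, ?_⟩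
    · rw [Nat.cast_zero]
      exact zero_le
    · have hfin : {q : PrimeSpectrum R | q.asIdeal ∈ associatedPrimes R M}.Finite :=
        Set.Finite.preimage (fun x _ y _ h => PrimeSpectrum.ext h) (associatedPrimes.finite R M)
      refine hfin.subset ?_
      rintro q ⟨-, -, hd⟩
      haveI := q.isPrime
      rw [Nat.cast_zero] at hd
      exact (depth_localization_eq_zero_iff q.asIdeal).1 hd
  | succ e ih =>
    intro M _ _ _ he
    have hkill : ∃ t₀ : R, t₀ ∉ p ∧ ∀ z ∈ satTors (⊤ : Ideal R) p M, t₀ • z = 0 := by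
      obtain ⟨t₀, ht₀, k, hk⟩ := satTors_uniform (⊤ : Ideal R) p M
      refine ⟨t₀, ht₀, fun z hz => ?_⟩
      have h1 := hk 1 (by rw [Ideal.top_pow]; exact Submodule.mem_top) z hz
      rwa [mul_one] at h1
    obtain ⟨t₀, ht₀, hkill⟩ := hkill
    have hdepth' : ∀ (q : Ideal R) [q.IsPrime], t₀ ∉ q →
        LocCoh.depth (Localization.AtPrime q)
          (LocalizedModule q.primeCompl (M ⧸ satTors (⊤ : Ideal R) p M)) =
        LocCoh.depth (Localization.AtPrime q) (LocalizedModule q.primeCompl M) :=
      fun q _ hq => depth_quot_eq_of_kills q (satTors (⊤ : Ideal R) p M) t₀ hq hkill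
    have hpnot : p ∉ associatedPrimes R (M ⧸ satTors (⊤ : Ideal R) p M) := by
      intro h
      have h0 := (depth_localization_eq_zero_iff (M := M ⧸ satTors (⊤ : Ideal R) p M) p).2 h
      rw [hdepth' p ht₀, he] at h0
      exact absurd h0 (by simp)
    obtain ⟨x, hxp, hxreg⟩ : ∃ x ∈ p, IsSMulRegular (M ⧸ satTors (⊤ : Ideal R) p M) x := by
      by_contra hcon
      push Not at hcon
      have hsub : (p : Set R) ⊆
          ⋃ P ∈ associatedPrimes R (M ⧸ satTors (⊤ : Ideal R) p M), (P : Set R) := by
        intro x hx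
        rw [biUnion_associatedPrimes_eq_compl_regular]
        exact hcon x hx
      have hfin := associatedPrimes.finite R (M ⧸ satTors (⊤ : Ideal R) p M)
      have hsub' : (p : Set R) ⊆ ⋃ P ∈ (↑hfin.toFinset : Set (Ideal R)), ((id P : Ideal R) : Set R) := by
        rw [Set.Finite.coe_toFinset]
        exact hsub
      obtain ⟨P, hP, hpP⟩ := (Ideal.subset_union_prime (s := hfin.toFinset) (f := id) ⊥ ⊥
        (fun i hi _ _ => ((Set.Finite.mem_toFinset hfin).1 hi).isPrime)).1 hsub'
      have hP' : P ∈ associatedPrimes R (M ⧸ satTors (⊤ : Ideal R) p M) :=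
        (Set.Finite.mem_toFinset hfin).1 hP
      have hPp : P ≤ p := (ass_quot_satTors ⊤ p M P hP').1
      have : P = p := le_antisymm hPp hpP
      exact hpnot (this ▸ hP')
    have hwreg : RingTheory.Sequence.IsWeaklyRegular (M ⧸ satTors (⊤ : Ideal R) p M) [x] :=
      (RingTheory.Sequence.isWeaklyRegular_singleton_iff _ x).2 hxreg
    have hntp : Nontrivial (LocalizedModule p.primeCompl (M ⧸ satTors (⊤ : Ideal R) p M)) := by
      by_contra hns
      rw [not_nontrivial_iff_subsingleton] at hns
      have h1 := hdepth' p ht₀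
      rw [depth_of_subsingleton, he] at h1
      exact ENat.top_ne_natCast _ h1
    have hq_eq : ∀ (q : Ideal R) [q.IsPrime], p ≤ q → t₀ ∉ q →
        LocCoh.depth (Localization.AtPrime q) (LocalizedModule q.primeCompl
          ((M ⧸ satTors (⊤ : Ideal R) p M) ⧸ (Ideal.ofList [x] •
            (⊤ : Submodule R (M ⧸ satTors (⊤ : Ideal R) p M))))) + 1 =
        LocCoh.depth (Localization.AtPrime q) (LocalizedModule q.primeCompl M) := by
      intro q hq hpq ht
      haveI : Nontrivial (LocalizedModule q.primeCompl (M ⧸ satTors (⊤ : Ideal R) p M)) := by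
        have h1 : (⟨p, hp⟩ : PrimeSpectrum R) ∈
            Module.support R (M ⧸ satTors (⊤ : Ideal R) p M) := Module.mem_support_iff.mpr hntp
        have h2 := Module.mem_support_mono (show (⟨p, hp⟩ : PrimeSpectrum R) ≤ ⟨q, hq⟩ from hpq) h1
        exact Module.mem_support_iff.mp h2
      have h3 := depth_localization_quot_ofList (M := M ⧸ satTors (⊤ : Ideal R) p M) q [x]
        (fun r hr => by rw [List.mem_singleton] at hr; rw [hr]; exact hpq hxp) hwreg
      rw [List.length_singleton, Nat.cast_one] at h3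
      rw [h3, hdepth' q ht]
    have he'' : LocCoh.depth (Localization.AtPrime p) (LocalizedModule p.primeCompl
          ((M ⧸ satTors (⊤ : Ideal R) p M) ⧸ (Ideal.ofList [x] •
            (⊤ : Submodule R (M ⧸ satTors (⊤ : Ideal R) p M))))) = e := by
      have h1 := hq_eq p le_rfl ht₀
      rw [he, Nat.cast_succ] at h1
      exact ENat.add_left_injective_of_ne_top ENat.one_ne_top h1
    obtain ⟨f₁, hf₁, hge, hfinset⟩ := ih _ he''
    refine ⟨t₀ * f₁, fun h => (hp.mem_or_mem h).elim ht₀ hf₁, ?_, ?_⟩
    · intro q _ hpq hfq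
      have ht : t₀ ∉ q := fun h => hfq (Ideal.mul_mem_right _ _ h)
      have hf : f₁ ∉ q := fun h => hfq (Ideal.mul_mem_left _ _ h)
      rw [← hq_eq q hpq ht, Nat.cast_succ]
      exact add_le_add (hge q hpq hf) le_rfl
    · refine hfinset.subset ?_
      rintro q ⟨hpq, hfq, hd⟩
      haveI := q.isPrime
      have ht : t₀ ∉ q.asIdeal := fun h => hfq (Ideal.mul_mem_right _ _ h)
      have hf : f₁ ∉ q.asIdeal := fun h => hfq (Ideal.mul_mem_left _ _ h)
      refine ⟨hpq, hf, ?_⟩
      have h1 := hq_eq q.asIdeal hpq ht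
      rw [hd, Nat.cast_succ] at h1
      exact ENat.add_left_injective_of_ne_top ENat.one_ne_top h1


/-- For a finite module M over a Noetherian ring and a prime p with depth(M_p) = e finite, there is a
basic open neighbourhood of p in V(p) on which the depth of the localizations of M is at least e,
and it exceeds e at all but finitely many of those primes. -/
theorem result (R : Type u) [CommRing R] [IsNoetherianRing R] (M : Type u) [AddCommGroup M] [Module R M] [Module.Finite R M] (p : Ideal R) [p.IsPrime] (e : ℕ) (he : LocCoh.depth (Localization.AtPrime p) (LocalizedModule p.primeCompl M) = e) : ∃ f : R, f ∉ p ∧ (∀ (q : Ideal R) [q.IsPrime], p ≤ q → f ∉ q → (e : ℕ∞) ≤ LocCoh.depth (Localization.AtPrime q) (LocalizedModule q.primeCompl M)) ∧ {q : PrimeSpectrum R | p ≤ q.asIdeal ∧ f ∉ q.asIdeal ∧ LocCoh.depth (Localization.AtPrime q.asIdeal) (LocalizedModule q.asIdeal.primeCompl M) = e}.Finite := by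
  exact semicont R p e M he

end Groth.Agent.S0359
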