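import Groth.Statements.S0363
import Groth.Agent.Lib.helper11.TorDual
import Groth.Agent.Lib.helper11.GorHull

set_option autoImplicit false
universe u v
open CategoryTheory
open Goren

namespace Groth.Agent.S0363

/-- Over a Gorenstein local ring of dimension d with E an injective hull of the residue field κ,
Tor_i(E, κ) vanishes for i ≠ d and Tor_d(E, κ) is isomorphic to κ. -/
theorem result (A : Type u) [CommRing A] [LocCoh.IsGorensteinLocalRing A] (d : ℕ) (hd : ringKrullDim A = d) (E : Type u) [AddCommGroup E] [Module A E] (f : IsLocalRing.ResidueField A →ₗ[A] E) (hf : InjHull.IsInjectiveHull f) : (∀ i : ℕ, i ≠ d → Limits.IsZero (((Tor (ModuleCat.{u} A) i).obj (ModuleCat.of A E)).obj (ModuleCat.of A (IsLocalRing.ResidueField A)))) ∧ Nonempty ((((Tor (ModuleCat.{u} A) d).obj (ModuleCat.of A E)).obj (ModuleCat.of A (IsLocalRing.ResidueField A))) ≅ ModuleCat.of A (IsLocalRing.ResidueField A)) := by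
  have hG := LocCoh.IsGorensteinLocalRing.exists_hasInjectiveDimensionLT (A := A)
  haveI : Module.Injective A E := hf.isInjective
  haveI hsimp : IsSimpleModule A (A ⧸ IsLocalRing.maximalIdeal A) :=
    isSimpleModule_iff_quot_maximal.mpr
      ⟨IsLocalRing.maximalIdeal A, inferInstance, ⟨LinearEquiv.refl _ _⟩⟩
  have hk1 : Module.length A (ModuleCat.of A (IsLocalRing.ResidueField A)) = 1 :=
    Module.length_eq_one A (A ⧸ IsLocalRing.maximalIdeal A)
  have hkfin : Module.length A (ModuleCat.of A (IsLocalRing.ResidueField A)) ≠ ⊤ := by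
    rw [hk1]; exact ENat.one_ne_top
  haveI : Module.Finite A (ModuleCat.of A (IsLocalRing.ResidueField A)) :=
    inferInstanceAs (Module.Finite A (A ⧸ IsLocalRing.maximalIdeal A))
  constructor
  · intro i hi
    obtain ⟨e⟩ := Groth.Agent.Lib.helper11.TorDual.nonempty_equiv E i
      (ModuleCat.of A (IsLocalRing.ResidueField A))
    haveI := Groth.Agent.Lib.helper11.GorHull.gor_vanishing hG d hd
      (ModuleCat.of A (IsLocalRing.ResidueField A)) hkfin i hi
    haveI : Subsingleton (Abelian.Ext (ModuleCat.of A (IsLocalRing.ResidueField A))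
        (ModuleCat.of A A) i →ₗ[A] E) :=
      ⟨fun a b => LinearMap.ext fun x => by rw [Subsingleton.elim x 0, map_zero, map_zero]⟩
    haveI := e.toEquiv.subsingleton
    exact ModuleCat.isZero_of_subsingleton _
  · obtain ⟨e⟩ := Groth.Agent.Lib.helper11.TorDual.nonempty_equiv E d
      (ModuleCat.of A (IsLocalRing.ResidueField A))
    have h1 := Groth.Agent.Lib.helper11.GorHull.gor_type_one hG d hd
    haveI : IsSimpleModule A (Abelian.Ext (ModuleCat.of A (IsLocalRing.ResidueField A))
        (ModuleCat.of A A) d) := Module.length_eq_one_iff.mp h1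
    haveI := Groth.Agent.Lib.Helper26.Matlis.isSimpleModule_linearMap hf
      (Abelian.Ext (ModuleCat.of A (IsLocalRing.ResidueField A)) (ModuleCat.of A A) d)
    obtain ⟨I, hI, ⟨eI⟩⟩ := isSimpleModule_iff_quot_maximal.mp
      (inferInstance : IsSimpleModule A (Abelian.Ext (ModuleCat.of A (IsLocalRing.ResidueField A))
        (ModuleCat.of A A) d →ₗ[A] E))
    have hIm : I = IsLocalRing.maximalIdeal A := IsLocalRing.eq_maximalIdeal hI
    subst hIm
    exact ⟨(e.trans eI).toModuleIso⟩

end Groth.Agent.S0363
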