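import Groth.Statements.S0396
import Groth.Agent.Lib.Helper2.FibreCrit
import Mathlib.RingTheory.Localization.AtPrime.Basic
import Mathlib.RingTheory.Localization.Finiteness
import Mathlib.RingTheory.Localization.BaseChange
import Mathlib.RingTheory.Flat.Localization
import Mathlib.RingTheory.Localization.Submodule
-- import your own Groth.Agent.* helpers here

set_option autoImplicit false
universe u
open FlatMor

namespace Groth.Agent.S0396

section Helpers

open TensorProduct

variable {R S M : Type u} [CommRing R] [CommRing S] [Algebra R S]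
    [AddCommGroup M] [Module R M] [Module S M] [IsScalarTower R S M]
    (p : Submonoid S)

local notation "L" => Localization p

/-- the base change description of the localized module, as an `R`-linear equivalence -/
noncomputable def eR : (L ⊗[S] M) ≃ₗ[R] LocalizedModule p M :=
  ((IsLocalizedModule.isBaseChange p L (LocalizedModule.mkLinearMap p M)).equiv).restrictScalars R

variable {X' X : Type u} [AddCommGroup X'] [Module R X'] [AddCommGroup X] [Module R X]

lemma assoc_nat (j : X' →ₗ[R] X) (z : (L ⊗[S] M) ⊗[R] X') :
    AlgebraTensorModule.assoc R S L L M X (j.lTensor (L ⊗[S] M) z) =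
      (AlgebraTensorModule.lTensor S M j).lTensor L (AlgebraTensorModule.assoc R S L L M X' z) := by
  induction z with
  | zero => simp
  | add a b ha hb => rw [map_add, map_add, ha, hb, map_add, map_add]
  | tmul w x' =>
    induction w with
    | zero => simp
    | add a b ha hb =>
      rw [add_tmul, map_add, map_add, ha, hb, map_add, map_add]
    | tmul l m =>
      rw [LinearMap.lTensor_tmul, AlgebraTensorModule.assoc_tmul, AlgebraTensorModule.assoc_tmul,
        LinearMap.lTensor_tmul, AlgebraTensorModule.lTensor_tmul]

lemma lTensor_baseChange_injective (j : X' →ₗ[R] X) (hj : Function.Injective (j.lTensor M)) :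
    Function.Injective (j.lTensor (L ⊗[S] M)) := by
  have hjM : Function.Injective (AlgebraTensorModule.lTensor S M j) := hj
  have hL : Function.Injective ((AlgebraTensorModule.lTensor S M j).lTensor L) :=
    Module.Flat.lTensor_preserves_injective_linearMap _ hjM
  intro a b hab
  apply (AlgebraTensorModule.assoc R S L L M X').injective
  apply hL
  rw [← assoc_nat, ← assoc_nat, hab]

lemma lTensor_localized_injective (j : X' →ₗ[R] X) (hj : Function.Injective (j.lTensor M)) :
    Function.Injective (j.lTensor (LocalizedModule p M)) := by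
  have h1 := lTensor_baseChange_injective p j hj
  let e := eR (R := R) (M := M) p
  have hnat : (j.lTensor (LocalizedModule p M)) ∘ₗ (e.toLinearMap.rTensor X') =
      (e.toLinearMap.rTensor X) ∘ₗ (j.lTensor (L ⊗[S] M)) := by
    rw [LinearMap.lTensor_comp_rTensor, LinearMap.rTensor_comp_lTensor]
  intro a b hab
  obtain ⟨a', rfl⟩ := (LinearEquiv.rTensor X' e).surjective a
  obtain ⟨b', rfl⟩ := (LinearEquiv.rTensor X' e).surjective b
  have ha := LinearMap.congr_fun hnat a'
  have hb := LinearMap.congr_fun hnat b'
  simp only [LinearMap.comp_apply] at ha hb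
  have hab' : (e.toLinearMap.rTensor X) (j.lTensor (L ⊗[S] M) a') =
      (e.toLinearMap.rTensor X) (j.lTensor (L ⊗[S] M) b') := by
    rw [← ha, ← hb]
    exact hab
  have := h1 ((LinearEquiv.rTensor X e).injective hab')
  rw [this]

/-- an `R`-submodule of `R ⧸ 𝔞` as an ideal -/
lemma injective_submodule_of_ideal (𝔞 : Ideal R)
    (H : ∀ 𝔮 : Ideal (R ⧸ 𝔞), Function.Injective ((𝔮.subtype.restrictScalars R).lTensor M))
    (Q' : Submodule R (R ⧸ 𝔞)) : Function.Injective (Q'.subtype.lTensor M) := by
  let 𝔮 : Ideal (R ⧸ 𝔞) :=
    { carrier := Q'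
      add_mem' := fun ha hb => Q'.add_mem ha hb
      zero_mem' := Q'.zero_mem
      smul_mem' := by
        intro c x hx
        obtain ⟨r, rfl⟩ := Ideal.Quotient.mk_surjective c
        have : (Ideal.Quotient.mk 𝔞 r) • x = r • x := by
          rw [smul_eq_mul, Algebra.smul_def]; rfl
        rw [this]
        exact Q'.smul_mem r hx }
  let ε : Q' →ₗ[R] 𝔮 :=
    { toFun := fun x => ⟨x.1, x.2⟩
      map_add' := fun _ _ => rfl
      map_smul' := fun _ _ => rfl }
  have hε : Function.Injective ε := fun a b hab => Subtype.ext (congrArg (fun z : 𝔮 => (z : R ⧸ 𝔞)) hab)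
  have hεs : Function.Surjective ε := fun y => ⟨⟨y.1, y.2⟩, rfl⟩
  let εe : Q' ≃ₗ[R] 𝔮 := LinearEquiv.ofBijective ε ⟨hε, hεs⟩
  have hcomp : Q'.subtype = (𝔮.subtype.restrictScalars R) ∘ₗ εe.toLinearMap := by
    ext x; rfl
  rw [hcomp, LinearMap.lTensor_comp, LinearMap.coe_comp]
  exact (H 𝔮).comp (LinearEquiv.lTensor M εe).injective

end Helpers

open TensorProduct in
/-- For a map of Noetherian rings R → S, an ideal I of R and a finite S-module M such that M/IⁿM is flat
over R/Iⁿ for every n ≥ 1, the localization of M at any prime of S containing IS is flat over R. -/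
theorem result {R S M : Type u} [CommRing R] [CommRing S] [IsNoetherianRing R] [IsNoetherianRing S] [Algebra R S]
    [AddCommGroup M] [Module R M] [Module S M] [IsScalarTower R S M] [Module.Finite S M] (I : Ideal R)
    (h : ∀ n : ℕ, 0 < n → Module.Flat (R ⧸ I ^ n) ((R ⧸ I ^ n) ⊗[R] M))
    (q : Ideal S) [q.IsPrime] (hq : I.map (algebraMap R S) ≤ q) :
    Module.Flat R (LocalizedModule q.primeCompl M) := by
  have hF_M : ∀ n : ℕ, 0 < n → ∀ Q' : Submodule R (R ⧸ I ^ n),
      Function.Injective (Q'.subtype.lTensor M) := by
    intro n hn Q'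
    have := h n hn
    exact injective_submodule_of_ideal (I ^ n) (fun 𝔮 =>
      Groth.Agent.Lib.Helper2.LocalCrit.lTensor_injective_of_flat_baseChange (A := R ⧸ I ^ n)
        𝔮.subtype 𝔮.injective_subtype) Q'
  have hJ : I.map (algebraMap R (Localization.AtPrime q)) ≤ Ideal.jacobson ⊥ := by
    rw [IsScalarTower.algebraMap_eq R S (Localization.AtPrime q), ← Ideal.map_map]
    refine (Ideal.map_mono hq).trans ?_
    rw [Localization.AtPrime.map_eq_maximalIdeal]
    exact IsLocalRing.maximalIdeal_le_jacobson _
  have hN : IsNoetherianRing (Localization.AtPrime q) :=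
    IsLocalization.isNoetherianRing q.primeCompl _ inferInstance
  exact Groth.Agent.Lib.Helper2.LocalCrit.flat_of_forall_quotient_pow
    (S := Localization.AtPrime q) (M := LocalizedModule q.primeCompl M) I hJ
    (fun n hn Q' => lTensor_localized_injective q.primeCompl Q'.subtype (hF_M n hn Q'))

end Groth.Agent.S0396
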