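import Groth.Statements.S0397
import Groth.Agent.Lib.Helper2.NilpFree

set_option autoImplicit false
universe u
open FlatMor

namespace Groth.Agent.S0397

/-- Over a local ring whose maximal ideal is nilpotent, every flat module (not necessarily finitely
generated) is free. -/
theorem result {R M : Type u} [CommRing R] [IsLocalRing R] (hR : IsNilpotent (IsLocalRing.maximalIdeal R))
    [AddCommGroup M] [Module R M] [Module.Flat R M] : Module.Free R M := by
  classical
  obtain ⟨n, hn⟩ := hR
  rw [Ideal.zero_eq_bot] at hn
  obtain ⟨ι, u, hu, hcov⟩ := Lib.Helper2.NilpFree.exists_cover (IsLocalRing.maximalIdeal R) (M := M)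
  have hinj : Function.Injective u := by
    have h1 : Function.Injective (u.lTensor R) :=
      Lib.Helper2.FlatCrit.lTensor_injective_of_pow_smul_eq_bot (IsLocalRing.maximalIdeal R) u hu
        n R (by rw [hn, Submodule.bot_smul])
    intro a b hab
    apply (TensorProduct.lid R (ι →₀ R)).symm.injective
    apply h1
    simp only [TensorProduct.lid_symm_apply, LinearMap.lTensor_tmul, hab]
  have hsurj : Function.Surjective u := by
    rw [← LinearMap.range_eq_top]
    exact Lib.Helper2.NilpFree.eq_top_of_sup_smul_eq_top (IsLocalRing.maximalIdeal R) hn _ hcov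
  exact Module.Free.of_equiv (LinearEquiv.ofBijective u ⟨hinj, hsurj⟩)

end Groth.Agent.S0397
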