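import Groth.Statements.S0398
import Groth.Agent.Lib.Helper2.NilpFree
import Mathlib.RingTheory.Flat.Localization
import Mathlib.RingTheory.Artinian.Ring
import Mathlib.RingTheory.Localization.BaseChange

set_option autoImplicit false
universe u
open FlatMor

namespace Groth.Agent.S0398

open TensorProduct in
/-- For an injective ring map R → S with R Artinian and an R-module M, if S ⊗ M is flat over S then M is
flat over R. -/
theorem result {R S M : Type u} [CommRing R] [CommRing S] [IsArtinianRing R] [Algebra R S] (hinj : Function.Injective (algebraMap R S))
    [AddCommGroup M] [Module R M] [Module.Flat S (S ⊗[R] M)] : Module.Flat R M := by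
  refine Module.flat_of_isLocalized_maximal R M (fun P _ => Localization.AtPrime P ⊗[R] M)
    (fun P _ => TensorProduct.mk R (Localization.AtPrime P) M 1) ?_
  intro P hP
  have hinj' : Function.Injective (algebraMap (Localization.AtPrime P)
      (Localization (Algebra.algebraMapSubmonoid S P.primeCompl))) :=
    localizationAlgebra_injective _ _ hinj
  have hnil : IsNilpotent (IsLocalRing.maximalIdeal (Localization.AtPrime P)) := by
    have := IsArtinianRing.isNilpotent_jacobson_bot (R := Localization.AtPrime P)
    rwa [IsLocalRing.jacobson_eq_maximalIdeal ⊥ bot_ne_top] at this
  have hflat : Module.Flat (Localization (Algebra.algebraMapSubmonoid S P.primeCompl))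
      (TensorProduct (Localization.AtPrime P)
        (Localization (Algebra.algebraMapSubmonoid S P.primeCompl))
        (TensorProduct R (Localization.AtPrime P) M)) := by
    let e1 := TensorProduct.AlgebraTensorModule.cancelBaseChange R (Localization.AtPrime P)
      (Localization (Algebra.algebraMapSubmonoid S P.primeCompl))
      (Localization (Algebra.algebraMapSubmonoid S P.primeCompl)) M
    let e2 := TensorProduct.AlgebraTensorModule.cancelBaseChange R S
      (Localization (Algebra.algebraMapSubmonoid S P.primeCompl))
      (Localization (Algebra.algebraMapSubmonoid S P.primeCompl)) M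
    exact Module.Flat.of_linearEquiv (e1.trans e2.symm)
  have hfree : Module.Free (Localization.AtPrime P) (TensorProduct R (Localization.AtPrime P) M) :=
    Lib.Helper2.NilpFree.free_of_flat_baseChange hnil hinj'
  have h1 : Module.Flat (Localization.AtPrime P) (TensorProduct R (Localization.AtPrime P) M) :=
    inferInstance
  have h2 : Module.Flat R (Localization.AtPrime P) := IsLocalization.flat _ P.primeCompl
  exact Module.Flat.trans R (Localization.AtPrime P) _

end Groth.Agent.S0398
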