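import Groth.Statements.S0401
import Mathlib.RingTheory.Ideal.Height

set_option autoImplicit false
universe u
open FlatMor

namespace Groth.Agent.S0401

/-- For a finite type ring map R → S quasi-finite at a prime q lying over p, the dimension of S_q is at
most the dimension of R_p. -/
theorem result {R S : Type u} [CommRing R] [CommRing S] [Algebra R S] [Algebra.FiniteType R S] (q : Ideal S) [q.IsPrime] [Algebra.QuasiFiniteAt R q] :
    ringKrullDim (Localization.AtPrime q) ≤ ringKrullDim (Localization.AtPrime (q.under R)) := by
  rw [IsLocalization.AtPrime.ringKrullDim_eq_height q,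
    IsLocalization.AtPrime.ringKrullDim_eq_height (q.under R), WithBot.coe_le_coe]
  let Q : PrimeSpectrum S := ⟨q, inferInstance⟩
  let P : PrimeSpectrum R := ⟨q.under R, inferInstance⟩
  change Q.asIdeal.height ≤ P.asIdeal.height
  rw [PrimeSpectrum.height_eq_orderHeight, PrimeSpectrum.height_eq_orderHeight]
  apply Order.height_le
  intro p hp
  have hle : ∀ i, p i ≤ Q := fun i => hp ▸ p.monotone (Fin.le_last i)
  have hstep : ∀ i : Fin p.length,
      PrimeSpectrum.comap (algebraMap R S) (p i.castSucc) <
        PrimeSpectrum.comap (algebraMap R S) (p i.succ) := by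
    intro i
    have h : p i.castSucc < p i.succ := p.step i
    refine lt_of_le_of_ne ?_ ?_
    · have hle' : (p i.castSucc).asIdeal ≤ (p i.succ).asIdeal := h.le
      exact Ideal.comap_mono hle' 
    · intro heq
      have : Algebra.QuasiFiniteAt R (p i.succ).asIdeal :=
        Algebra.QuasiFiniteAt.of_le (Q := q) (hle i.succ)
      have h1 : (p i.castSucc).asIdeal.under R = (p i.succ).asIdeal.under R :=
        congrArg PrimeSpectrum.asIdeal heq
      have h2 := Algebra.QuasiFiniteAt.eq_of_le_of_under_eq (R := R) h.le h1
      exact h.ne (PrimeSpectrum.ext h2)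
  let p' : LTSeries (PrimeSpectrum R) :=
    { length := p.length
      toFun := fun i => PrimeSpectrum.comap (algebraMap R S) (p i)
      step := hstep }
  have hlast : p'.last = P := by
    change PrimeSpectrum.comap (algebraMap R S) (p.last) = P
    rw [hp]
    rfl
  calc (p.length : ℕ∞) = p'.length := rfl
    _ ≤ Order.height p'.last := Order.length_le_height_last
    _ = Order.height P := by rw [hlast]

end Groth.Agent.S0401
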