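import Groth.Statements.S0411
import Mathlib
-- import your own Groth.Agent.* helpers here

set_option autoImplicit false
universe u
open FlatMor

namespace Groth.Agent.S0411

section helpers
open AlgebraicGeometry CategoryTheory Limits

/-- finite sets in quasi-affine schemes lie in an affine open -/
lemma quasiAffine_finset (U : Scheme.{u}) [U.IsQuasiAffine] (T : Finset U) :
    ∃ V : U.Opens, IsAffineOpen V ∧ ∀ x ∈ T, x ∈ V := by
  classical
  rcases T.eq_empty_or_nonempty with rfl | ⟨x0, hx0⟩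
  · exact ⟨⊥, isAffineOpen_bot U, by simp⟩
  have hopen : IsOpen (Set.range U.toSpecΓ : Set (PrimeSpectrum Γ(U, ⊤))) :=
    U.toSpecΓ.isOpenEmbedding.isOpen_range
  obtain ⟨I, hI⟩ := (PrimeSpectrum.isClosed_iff_zeroLocus_ideal _).mp hopen.isClosed_compl
  have hT : ∀ x ∈ T, ¬ (I ≤ (U.toSpecΓ x : PrimeSpectrum Γ(U, ⊤)).asIdeal) := by
    intro x hx hsub
    have : (U.toSpecΓ x : PrimeSpectrum Γ(U, ⊤)) ∈ PrimeSpectrum.zeroLocus (I : Set Γ(U, ⊤)) := hsub
    rw [← hI] at this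
    exact this ⟨x, rfl⟩
  have havoid : ¬ ((I : Set Γ(U, ⊤)) ⊆ ⋃ x ∈ (T : Set U),
      ((U.toSpecΓ x : PrimeSpectrum Γ(U, ⊤)).asIdeal : Set Γ(U, ⊤))) := by
    intro hsub
    obtain ⟨x, hx, hle⟩ := (Ideal.subset_union_prime (s := T)
      (f := fun x => (U.toSpecΓ x : PrimeSpectrum Γ(U, ⊤)).asIdeal) x0 x0
      (fun x _ _ _ => (U.toSpecΓ x : PrimeSpectrum Γ(U, ⊤)).isPrime)).mp hsub
    exact hT x hx hle
  obtain ⟨r, hrI, hr⟩ := Set.not_subset.mp havoid
  have hsubset : (PrimeSpectrum.basicOpen r : Set (PrimeSpectrum Γ(U, ⊤))) ⊆ Set.range U.toSpecΓ := by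
    intro p hp
    by_contra hnot
    have : p ∈ PrimeSpectrum.zeroLocus (I : Set Γ(U, ⊤)) := by rw [← hI]; exact hnot
    exact hp (this hrI)
  refine ⟨U.basicOpen r, ?_, ?_⟩
  · rw [← Scheme.toSpecΓ_preimage_basicOpen, ← Scheme.Hom.isAffineOpen_iff_of_isOpenImmersion U.toSpecΓ]
    have himg : U.toSpecΓ ''ᵁ (U.toSpecΓ ⁻¹ᵁ PrimeSpectrum.basicOpen r) =
        PrimeSpectrum.basicOpen r :=
      TopologicalSpace.Opens.ext (Set.image_preimage_eq_of_subset hsubset)
    rw [himg]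
    exact IsAffineOpen.Spec_basicOpen r
  · intro x hx
    rw [← Scheme.toSpecΓ_preimage_basicOpen]
    change (U.toSpecΓ x : PrimeSpectrum Γ(U, ⊤)) ∈ PrimeSpectrum.basicOpen r
    intro hmem
    apply hr
    simp only [Set.mem_iUnion]
    exact ⟨x, hx, hmem⟩

end helpers

open AlgebraicGeometry CategoryTheory Limits in
/-- For a separated, locally quasi-finite morphism (locally of finite type with discrete fibres) to an
affine scheme, every finite set of points of the source lies in an affine open. -/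
theorem result {X Y : Scheme.{u}} (f : X ⟶ Y) [IsAffine Y] [IsSeparated f] [LocallyQuasiFinite f] [LocallyOfFiniteType f] (T : Finset ↑X) :
    ∃ U : X.Opens, IsAffineOpen U ∧ ∀ x ∈ T, x ∈ U := by
  classical
  have hex : ∀ x : X, ∃ W : X.Opens, IsAffineOpen W ∧ x ∈ W := fun x => by
    obtain ⟨W, hW, hx, -⟩ := exists_isAffineOpen_mem_and_subset (X := X) (x := x) (U := ⊤) trivial
    exact ⟨W, hW, hx⟩
  choose W hWaff hxW using hex
  obtain ⟨U, hUdef⟩ : ∃ U : X.Opens, U = ⨆ x ∈ T, W x := ⟨_, rfl⟩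
  have hxU : ∀ x ∈ T, x ∈ U := by
    intro x hx
    rw [hUdef]
    simp only [TopologicalSpace.Opens.mem_iSup]
    exact ⟨x, hx, hxW x⟩
  have hUc : IsCompact (U : Set X) := by
    rw [hUdef]
    simp only [TopologicalSpace.Opens.coe_iSup]
    exact T.finite_toSet.isCompact_biUnion fun x _ => (hWaff x).isCompact
  haveI : CompactSpace U := isCompact_iff_compactSpace.mp hUc
  haveI : QuasiCompact (U.ι ≫ f) := HasAffineProperty.iff_of_isAffine.mpr ‹CompactSpace U›
  haveI : IsOpenImmersion (U.ι ≫ f).toNormalization := inferInstance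
  haveI : IsAffine (U.ι ≫ f).normalization := isAffine_of_isAffineHom (U.ι ≫ f).fromNormalization
  haveI : Scheme.IsQuasiAffine U := Scheme.IsQuasiAffine.of_isImmersion (U.ι ≫ f).toNormalization
  have emb : ∀ x ∈ T, ∃ y : (U : Scheme), U.ι y = x := fun x hx => ⟨⟨x, hxU x hx⟩, rfl⟩
  choose y hy using emb
  have hT' := quasiAffine_finset (U : Scheme)
    (T.attach.image (fun x : {x // x ∈ T} => y x.1 x.2))
  obtain ⟨V, hV, hTV⟩ := hT'
  refine ⟨U.ι ''ᵁ V, hV.image_of_isOpenImmersion U.ι, fun x hx => ?_⟩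
  refine ⟨y x hx, hTV _ ?_, hy x hx⟩
  rw [Finset.mem_image]
  exact ⟨⟨x, hx⟩, Finset.mem_attach _ _, rfl⟩

end Groth.Agent.S0411
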