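import Groth.Statements.S14049
import Mathlib
import Groth.Agent.Lib.Helper13.ThickAffineC

set_option autoImplicit false
universe u
open CategoryTheory AlgebraicGeometry
open LocStr

namespace Groth.Agent.S14049

theorem surjective_of_nilpotent_sq {B A C : Type*} [CommRing B] [CommRing A] [CommRing C]
    (φ : B →+* A) (π : A →+* C) (K : Ideal A) (hK : IsNilpotent K)
    (hker : RingHom.ker π ≤ K ^ 2) (hsurj : Function.Surjective (π.comp φ)) :
    Function.Surjective φ := by
  have P0 : ∀ a : A, ∃ s ∈ φ.range, a - s ∈ K ^ 2 := by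
    intro a
    obtain ⟨b, hb⟩ := hsurj (π a)
    refine ⟨φ b, ⟨b, rfl⟩, hker ?_⟩
    rw [RingHom.mem_ker, map_sub, ← hb]
    simp
  have P1 : ∀ a ∈ K, ∃ s ∈ φ.range, s ∈ K ∧ a - s ∈ K ^ 2 := by
    intro a ha
    obtain ⟨s, hs, has⟩ := P0 a
    refine ⟨s, hs, ?_, has⟩
    have : s = a - (a - s) := by ring
    rw [this]
    exact K.sub_mem ha (Ideal.pow_le_self (by norm_num) has)
  have P : ∀ n : ℕ, ∀ a ∈ K ^ (n + 1),
      ∃ s ∈ φ.range, s ∈ K ^ (n + 1) ∧ a - s ∈ K ^ (n + 2) := by
    intro n
    induction n with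
    | zero =>
      intro a ha
      rw [zero_add, pow_one] at ha
      obtain ⟨s, hs, hsK, h2⟩ := P1 a ha
      exact ⟨s, hs, by simpa using hsK, h2⟩
    | succ n ih =>
      intro a ha
      rw [pow_succ'] at ha
      refine Submodule.mul_induction_on ha ?_ ?_
      · intro x hx y hy
        obtain ⟨s, hs, hsK, hxs⟩ := P1 x hx
        obtain ⟨t, ht, htK, hyt⟩ := ih y hy
        refine ⟨s * t, φ.range.mul_mem hs ht, ?_, ?_⟩
        · rw [pow_succ']
          exact Ideal.mul_mem_mul hsK htK
        · have e : x * y - s * t = x * (y - t) + (x - s) * t := by ring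
          rw [e]
          refine Ideal.add_mem _ ?_ ?_
          · have : K ^ (n + 1 + 2) = K * K ^ (n + 2) := by rw [← pow_succ']
            rw [this]
            exact Ideal.mul_mem_mul hx hyt
          · have : K ^ (n + 1 + 2) = K ^ 2 * K ^ (n + 1) := by rw [← pow_add]; congr 1; omega
            rw [this]
            exact Ideal.mul_mem_mul hxs htK
      · intro a b ⟨s, hs, hsK, has⟩ ⟨t, ht, htK, hbt⟩
        refine ⟨s + t, φ.range.add_mem hs ht, Ideal.add_mem _ hsK htK, ?_⟩
        have e : a + b - (s + t) = (a - s) + (b - t) := by ring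
        rw [e]
        exact Ideal.add_mem _ has hbt
  have Q : ∀ n : ℕ, ∀ a : A, ∃ s ∈ φ.range, a - s ∈ K ^ (n + 2) := by
    intro n
    induction n with
    | zero => exact P0
    | succ n ih =>
      intro a
      obtain ⟨s, hs, has⟩ := ih a
      obtain ⟨t, ht, -, h2⟩ := P (n + 1) (a - s) has
      refine ⟨s + t, φ.range.add_mem hs ht, ?_⟩
      have e : a - (s + t) = a - s - t := by ring
      rw [e]
      exact h2
  obtain ⟨N, hN⟩ := hK
  intro a
  obtain ⟨s, ⟨b, rfl⟩, has⟩ := Q N a
  refine ⟨b, ?_⟩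
  have : a - φ b ∈ K ^ N := Ideal.pow_le_pow_right (by omega) has
  rw [hN] at this
  exact (sub_eq_zero.mp this).symm


/-- For schemes. Let f : X → Y be a morphism of schemes and let I be a quasi-coherent sheaf of ideals on
X which is nilpotent (some power of I is zero). Let X₁ ⊆ X be the closed subscheme defined by I².
Then f is a closed immersion as soon as the composite X₁ → X → Y is one. (The published statement is
the same assertion for a morphism of algebraic stacks; it is stated here for schemes.) -/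
theorem result (X Y : Scheme.{u}) (f : X ⟶ Y)
    (I : X.IdealSheafData) (hI : IsNilpotent I)
    (h : IsClosedImmersion ((I ^ 2).subschemeι ≫ f)) :
    IsClosedImmersion f := by
  obtain ⟨N, hN⟩ := hI
  have hsurjι : Function.Surjective (I ^ 2).subschemeι := by
    rw [← Set.range_eq_univ, Scheme.IdealSheafData.range_subschemeι,
      Scheme.IdealSheafData.support_pow I 2 (by norm_num)]
    have h1 : (I ^ (N + 1)).support = I.support := Scheme.IdealSheafData.support_pow_succ I N
    rw [← h1, pow_succ, hN, zero_mul]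
    rfl
  have haff : ∀ U : Y.Opens, IsAffineOpen U → IsAffineOpen (f ⁻¹ᵁ U) := by
    intro U hU
    have h1 : IsAffineOpen (((I ^ 2).subschemeι ≫ f) ⁻¹ᵁ U) := hU.preimage _
    haveI : IsAffine ((I ^ 2).subschemeι ⁻¹ᵁ (f ⁻¹ᵁ U)).toScheme := h1
    refine Groth.Agent.Lib.Helper13.ThickAffine.isAffine_of_isAffine
      ((I ^ 2).subschemeι ∣_ (f ⁻¹ᵁ U)) ?_
    rintro ⟨x, hx⟩
    obtain ⟨y, rfl⟩ := hsurjι x
    exact ⟨⟨y, hx⟩, Subtype.ext (morphismRestrict_base_coe _ _ _)⟩
  rw [isClosedImmersion_iff_isAffineHom]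
  refine ⟨⟨haff⟩, fun U hU => ?_⟩
  have hcomp : Function.Surjective (((I ^ 2).subschemeι ≫ f).app U) :=
    Scheme.Hom.app_surjective _ U hU
  let V : X.affineOpens := ⟨f ⁻¹ᵁ U, haff U hU⟩
  refine surjective_of_nilpotent_sq (f.app U).hom ((I ^ 2).subschemeι.app V.1).hom (I.ideal V)
    ⟨N, ?_⟩ ?_ ?_
  · have := congrArg (fun J : X.IdealSheafData => J.ideal V) hN
    simpa using this
  · rw [Scheme.IdealSheafData.ker_subschemeι_app]
    simp
  · rw [Scheme.Hom.comp_app] at hcomp
    exact hcomp

end Groth.Agent.S14049
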