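import Groth.Statements.S0417
import Mathlib
import Groth.Agent.S14049
import Groth.Agent.Lib.Helper13.ThickAffineC

set_option autoImplicit false
universe u
open FlatMor

namespace Groth.Agent.S0417

open CategoryTheory AlgebraicGeometry Limits

theorem exists_fg_le {A B : Type*} [CommRing A] [CommRing B] (φ : A →+* B) (I : Ideal A)
    (x : B) (hx : x ∈ I.map φ) : ∃ I₀ : Ideal A, I₀.FG ∧ I₀ ≤ I ∧ x ∈ I₀.map φ := by
  refine Submodule.span_induction ?_ ?_ ?_ ?_ hx
  · rintro _ ⟨i, hi, rfl⟩
    refine ⟨Ideal.span {i}, ⟨{i}, by simp⟩, ?_, ?_⟩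
    · rw [Ideal.span_le]; simpa using hi
    · exact Ideal.mem_map_of_mem φ (Ideal.subset_span rfl)
  · exact ⟨⊥, Submodule.fg_bot, bot_le, Submodule.zero_mem _⟩
  · rintro x y _ _ ⟨I₁, h1, h1', h1''⟩ ⟨I₂, h2, h2', h2''⟩
    refine ⟨I₁ ⊔ I₂, Submodule.FG.sup h1 h2, sup_le h1' h2', ?_⟩
    exact Ideal.add_mem _ (Ideal.map_mono le_sup_left h1'') (Ideal.map_mono le_sup_right h2'')
  · rintro c x _ ⟨I₁, h1, h1', h1''⟩
    exact ⟨I₁, h1, h1', Ideal.mul_mem_left _ c h1''⟩

theorem ring_aux {A B A' C : Type u} [CommRing A] [CommRing B] [CommRing A'] [CommRing C]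
    (φ : A →+* B) (ι : A →+* A') (α : B →+* C) (β : A' →+* C)
    (hpo : IsPushout (CommRingCat.ofHom φ) (CommRingCat.ofHom ι) (CommRingCat.ofHom α)
      (CommRingCat.ofHom β))
    (hι : Function.Surjective ι) (hnil : RingHom.ker ι ≤ nilradical A)
    (hft : φ.FiniteType) (hβ : Function.Surjective β) : Function.Surjective φ := by
  classical
  set I := RingHom.ker ι with hI
  -- Step 1
  have hkerα : RingHom.ker α ≤ I.map φ := by
    let mk := Ideal.Quotient.mk (I.map φ)
    have hle : RingHom.ker ι ≤ RingHom.ker (mk.comp φ) := by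
      intro a ha
      rw [RingHom.mem_ker, RingHom.comp_apply, Ideal.Quotient.eq_zero_iff_mem]
      exact Ideal.mem_map_of_mem φ ha
    let ψ : A' →+* B ⧸ I.map φ := RingHom.liftOfSurjective ι hι ⟨mk.comp φ, hle⟩
    have hψ : ψ.comp ι = mk.comp φ := RingHom.liftOfSurjective_comp ι hι ⟨mk.comp φ, hle⟩
    have hcomm : CommRingCat.ofHom φ ≫ CommRingCat.ofHom mk =
        CommRingCat.ofHom ι ≫ CommRingCat.ofHom ψ := by
      rw [← CommRingCat.ofHom_comp, ← CommRingCat.ofHom_comp, hψ]
    have hd := hpo.inl_desc (CommRingCat.ofHom mk) (CommRingCat.ofHom ψ) hcomm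
    intro b hb
    have h2 := congrArg (fun g => g.hom b) hd
    simp only [CommRingCat.hom_comp, CommRingCat.hom_ofHom, RingHom.comp_apply] at h2
    rw [RingHom.mem_ker] at hb
    rw [hb, map_zero] at h2
    exact Ideal.Quotient.eq_zero_iff_mem.mp h2.symm
  have hsq : ∀ b, α (φ b) = β (ι b) := by
    intro a
    have := congrArg (fun g => g.hom a) hpo.w
    simpa using this
  have step1 : ∀ b : B, ∃ a : A, b - φ a ∈ I.map φ := by
    intro b
    obtain ⟨a', ha'⟩ := hβ (α b)
    obtain ⟨a, rfl⟩ := hι a'
    refine ⟨a, hkerα ?_⟩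
    rw [RingHom.mem_ker, map_sub, hsq, ha', sub_self]
  -- Step 2
  letI := φ.toAlgebra
  obtain ⟨s, hs⟩ := (hft : Algebra.FiniteType A B).out
  have step2 : ∀ t : Finset B, ∃ I₀ : Ideal A, I₀.FG ∧ I₀ ≤ I ∧
      ∀ b ∈ t, ∃ a : A, b - φ a ∈ I₀.map φ := by
    intro t
    induction t using Finset.induction_on with
    | empty => exact ⟨⊥, Submodule.fg_bot, bot_le, by simp⟩
    | insert b t _ ih =>
      obtain ⟨I₁, h1, h1', h1''⟩ := ih
      obtain ⟨a, ha⟩ := step1 b
      obtain ⟨I₂, h2, h2', h2''⟩ := exists_fg_le φ I _ ha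
      refine ⟨I₁ ⊔ I₂, Submodule.FG.sup h1 h2, sup_le h1' h2', ?_⟩
      intro c hc
      rw [Finset.mem_insert] at hc
      rcases hc with rfl | hc
      · exact ⟨a, Ideal.map_mono le_sup_right h2''⟩
      · obtain ⟨a', ha'⟩ := h1'' c hc
        exact ⟨a', Ideal.map_mono le_sup_left ha'⟩
  obtain ⟨I₀, hfg, hle, hI₀⟩ := step2 s
  set K := I₀.map φ with hK
  -- Step 3
  let T : Subalgebra A B :=
    { carrier := {b | ∃ a : A, b - φ a ∈ K}
      mul_mem' := by
        rintro b b' ⟨a, ha⟩ ⟨a', ha'⟩
        refine ⟨a * a', ?_⟩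
        have : b * b' - φ (a * a') = b * (b' - φ a') + (b - φ a) * φ a' := by
          rw [map_mul]; ring
        rw [this]
        exact Ideal.add_mem _ (Ideal.mul_mem_left _ _ ha') (Ideal.mul_mem_right _ _ ha)
      add_mem' := by
        rintro b b' ⟨a, ha⟩ ⟨a', ha'⟩
        refine ⟨a + a', ?_⟩
        have : b + b' - φ (a + a') = (b - φ a) + (b' - φ a') := by
          rw [map_add]; ring
        rw [this]
        exact Ideal.add_mem _ ha ha'
      algebraMap_mem' := fun a => ⟨a, by
        change φ a - φ a ∈ K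
        rw [sub_self]; exact Submodule.zero_mem _⟩ }
  have hT : T = ⊤ := by
    rw [eq_top_iff, ← hs]
    exact Algebra.adjoin_le fun b hb => hI₀ b hb
  have step3 : ∀ b : B, ∃ a : A, b - φ a ∈ K := by
    intro b
    have : b ∈ T := hT ▸ Algebra.mem_top
    exact this
  -- Step 4
  have hKnil : IsNilpotent K := by
    have h0 : IsNilpotent I₀ := (Ideal.FG.isNilpotent_iff_le_nilradical hfg).mpr (hle.trans hnil)
    obtain ⟨n, hn⟩ := h0
    refine ⟨n, ?_⟩
    rw [hK, ← Ideal.map_pow, hn]
    exact Ideal.map_bot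
  -- Step 5
  have step5 : ∀ x ∈ K, ∃ a : A, x - φ a ∈ K ^ 2 := by
    intro x hx
    refine Submodule.span_induction ?_ ?_ ?_ ?_ hx
    · rintro _ ⟨i, hi, rfl⟩
      exact ⟨i, by rw [sub_self]; exact Submodule.zero_mem _⟩
    · exact ⟨0, by simp⟩
    · rintro x y _ _ ⟨a, ha⟩ ⟨a', ha'⟩
      refine ⟨a + a', ?_⟩
      have : x + y - φ (a + a') = (x - φ a) + (y - φ a') := by
        rw [map_add]; ring
      rw [this]
      exact Ideal.add_mem _ ha ha'
    · rintro c x hxK ⟨a, ha⟩
      obtain ⟨ac, hac⟩ := step3 c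
      refine ⟨ac * a, ?_⟩
      have hxK' : x ∈ K := hxK
      have : c • x - φ (ac * a) = (c - φ ac) * x + φ ac * (x - φ a) := by
        rw [map_mul, smul_eq_mul]; ring
      rw [this, pow_two]
      refine Ideal.add_mem _ (Ideal.mul_mem_mul hac hxK') ?_
      rw [← pow_two]
      exact Ideal.mul_mem_left _ _ ha
  refine Groth.Agent.S14049.surjective_of_nilpotent_sq φ (Ideal.Quotient.mk (K ^ 2)) K hKnil
    (by rw [Ideal.mk_ker]) ?_
  intro y
  obtain ⟨b, rfl⟩ := Ideal.Quotient.mk_surjective y
  obtain ⟨a, ha⟩ := step3 b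
  obtain ⟨a', ha'⟩ := step5 _ ha
  refine ⟨a + a', ?_⟩
  rw [RingHom.comp_apply, Ideal.Quotient.eq]
  have : φ (a + a') - b = -((b - φ a) - φ a') := by rw [map_add]; ring
  rw [this]
  exact Ideal.neg_mem_iff _ |>.mpr ha'

open CategoryTheory AlgebraicGeometry Limits in
theorem affine_case {X S S' : Scheme.{u}} [IsAffine S] (f : X ⟶ S) (i : S' ⟶ S)
    [IsClosedImmersion i] (hi : Function.Surjective i) [LocallyOfFiniteType f] [QuasiCompact f]
    [IsClosedImmersion (pullback.snd f i)] : IsClosedImmersion f := by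
  haveI : IsAffine S' := (IsClosedImmersion.isAffine_surjective_of_isAffine i).1
  have hι : Function.Surjective i.appTop :=
    (IsClosedImmersion.isAffine_surjective_of_isAffine i).2
  haveI : IsAffine (pullback f i) :=
    (IsClosedImmersion.isAffine_surjective_of_isAffine (pullback.snd f i)).1
  have hβ : Function.Surjective (pullback.snd f i).appTop :=
    (IsClosedImmersion.isAffine_surjective_of_isAffine (pullback.snd f i)).2
  haveI : Surjective i := ⟨hi⟩
  haveI : IsAffine X :=
    Groth.Agent.Lib.Helper13.ThickAffine.isAffine_of_isAffine (pullback.fst f i)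
      (pullback.fst f i).surjective
  have hpo := isPushout_appTop_of_isPullback (IsPullback.of_hasPullback f i)
  refine IsClosedImmersion.of_surjective_of_isAffine f ?_
  have hft : f.appTop.hom.FiniteType :=
    (HasRingHomProperty.iff_of_isAffine (P := @LocallyOfFiniteType)).mp inferInstance
  have hnil : RingHom.ker i.appTop.hom ≤ nilradical Γ(S, ⊤) := by
    intro a ha
    rw [RingHom.mem_ker] at ha
    rw [mem_nilradical]
    rw [Scheme.isNilpotent_iff_basicOpen_eq_bot_of_isCompact (U := ⊤) isCompact_univ]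
    rw [eq_bot_iff]
    intro x hx
    obtain ⟨y, rfl⟩ := hi x
    have h1 : y ∈ i ⁻¹ᵁ (S.basicOpen a) := hx
    rw [Scheme.preimage_basicOpen] at h1
    have h2 : i.app ⊤ a = 0 := ha
    rw [h2, Scheme.basicOpen_zero] at h1
    exact h1
  exact ring_aux f.appTop.hom i.appTop.hom (pullback.fst f i).appTop.hom
    (pullback.snd f i).appTop.hom (by simpa using hpo) hι hnil hft hβ

open AlgebraicGeometry CategoryTheory Limits in
/-- Let i : S' → S be a closed immersion that is bijective on points and f : X → S a morphism of finite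
type (locally of finite type and quasi-compact) whose base change X ×_S S' → S' is a closed
immersion. Then f is a closed immersion. The published statement alternatively allows S' → S of
finite presentation in place of the finite-type hypothesis on f; only the first alternative is
stated. -/
theorem result {X S S' : Scheme.{u}} (f : X ⟶ S) (i : S' ⟶ S) [IsClosedImmersion i] (hi : Function.Bijective i)
    [LocallyOfFiniteType f] [QuasiCompact f] [IsClosedImmersion (pullback.snd f i)] : IsClosedImmersion f := by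
  refine (IsZariskiLocalAtTarget.iff_of_openCover (P := @IsClosedImmersion)
    S.affineCover).mpr fun j => ?_
  let g := S.affineCover.f j
  change IsClosedImmersion (pullback.snd f g)
  haveI : Surjective i := ⟨hi.2⟩
  have hsurj : Function.Surjective (pullback.snd i g) := (pullback.snd i g).surjective
  -- the pullback square exhibiting `pullback.snd (pullback.snd f g) (pullback.snd i g)`
  -- as a base change of `pullback.snd f i`
  have h1 : IsPullback (pullback.snd (pullback.snd f g) (pullback.snd i g))
      (pullback.fst (pullback.snd f g) (pullback.snd i g)) (pullback.snd i g)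
      (pullback.snd f g) := (IsPullback.of_hasPullback _ _).flip
  have h2 : IsPullback (pullback.snd f g) (pullback.fst f g) g f :=
    (IsPullback.of_hasPullback f g).flip
  have hbig := h1.paste_vert h2
  have h3 : IsPullback (pullback.snd f i) (pullback.fst f i) i f :=
    (IsPullback.of_hasPullback f i).flip
  have hcomm : (pullback.fst (pullback.snd f g) (pullback.snd i g) ≫ pullback.fst f g) ≫ f =
      (pullback.snd (pullback.snd f g) (pullback.snd i g) ≫ pullback.fst i g) ≫ i := by
    rw [Category.assoc, pullback.condition, ← Category.assoc, pullback.condition, Category.assoc,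
      Category.assoc, pullback.condition]
  let u : pullback (pullback.snd f g) (pullback.snd i g) ⟶ pullback f i :=
    pullback.lift (pullback.fst (pullback.snd f g) (pullback.snd i g) ≫ pullback.fst f g)
      (pullback.snd (pullback.snd f g) (pullback.snd i g) ≫ pullback.fst i g) hcomm
  have hbig' : IsPullback (pullback.snd (pullback.snd f g) (pullback.snd i g))
      (u ≫ pullback.fst f i) (pullback.fst i g ≫ i) f := by
    have e1 : u ≫ pullback.fst f i =
        pullback.fst (pullback.snd f g) (pullback.snd i g) ≫ pullback.fst f g :=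
      pullback.lift_fst _ _ _
    have e2 : pullback.fst i g ≫ i = pullback.snd i g ≫ g := pullback.condition
    rw [e1, e2]
    exact hbig
  have htop := IsPullback.of_bot hbig' (pullback.lift_snd _ _ _).symm h3
  haveI : IsClosedImmersion (pullback.snd (pullback.snd f g) (pullback.snd i g)) :=
    MorphismProperty.of_isPullback (P := @IsClosedImmersion) htop.flip inferInstance
  exact affine_case (pullback.snd f g) (pullback.snd i g) hsurj

end Groth.Agent.S0417
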