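import Groth.Statements.S0442
import Groth.Agent.Lib.Helper18.Chev.LocalStruct
import Groth.Agent.Lib.Helper18.Chev.SchemeBound

open AlgebraicGeometry CategoryTheory Limits Groth.Agent.Lib.Helper18.Chev
set_option linter.style.haveILetI false

set_option autoImplicit false
universe u
open FlatMor

namespace Groth.Agent.S0442

open AlgebraicGeometry CategoryTheory Limits in
/-- Local structure of a morphism locally of finite type: let f : X → S be locally of finite type, x a
point of X, and n the local dimension at x of its fibre. Then there are an étale morphism g : X' → X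
with a point x' mapping to x such that the residue field map κ(x) → κ(x') is surjective (trivial
residue field extension), a morphism h : Y → S smooth of relative dimension n, and a finite morphism
π : X' → Y with f ∘ g = h ∘ π, such that x' is the only point of X' mapping to π(x'). The published
statement also makes the residue field of π(x') purely transcendental over that of the image of x in
S; that is not stated here. -/
theorem result {X S : Scheme.{u}} (f : X ⟶ S) [LocallyOfFiniteType f] (x : X) (n : ℕ) (hn : FlatMor.fibreDimAt f x = n) :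
    ∃ (X' Y : Scheme.{u}) (g : X' ⟶ X) (π : X' ⟶ Y) (h : Y ⟶ S) (x' : X'), g ≫ f = π ≫ h ∧ Etale g ∧ g x' = x ∧
      Function.Surjective (g.residueFieldMap x') ∧ IsFinite π ∧ SmoothOfRelativeDimension n h ∧
      ∀ z : ↑X', π z = π x' → z = x' := by
  obtain ⟨V', hV', hxV', -⟩ := TopologicalSpace.Opens.isBasis_iff_nbhd.mp
    S.isBasis_affineOpens (show f x ∈ (⊤ : S.Opens) from trivial)
  let V : S.Opens := V'
  have hV : IsAffineOpen V := hV'
  have hxV : f x ∈ V := hxV'
  obtain ⟨U', hU', hxU', e'⟩ := TopologicalSpace.Opens.isBasis_iff_nbhd.mp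
    X.isBasis_affineOpens (show x ∈ f ⁻¹ᵁ V from hxV)
  let U : X.Opens := U'
  have hU : IsAffineOpen U := hU'
  have hxU : x ∈ U := hxU'
  have e : U ≤ f ⁻¹ᵁ V := e'
  haveI : IsAffine U.toScheme := hU
  haveI : IsAffine V.toScheme := hV
  let g₀ : U.toScheme ⟶ V.toScheme := f.resLE V U e
  have comm₀ : g₀ ≫ V.ι = U.ι ≫ f := f.resLE_comp_ι e
  haveI : LocallyOfFiniteType (g₀ ≫ V.ι) := by rw [comm₀]; infer_instance
  haveI : LocallyOfFiniteType g₀ := locallyOfFiniteType_of_comp g₀ V.ι
  have hd₀ : FlatMor.fibreDimAt g₀ ⟨x, hxU⟩ = n := by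
    rw [← fibreDimAt_eq_of_openImmersion_square g₀ V.ι U.ι f comm₀ ⟨x, hxU⟩]
    exact hn
  obtain ⟨X', Y, g, π, h, x', hcomm, hét, hgx, hres, hfin, hsm, huniq⟩ :=
    local_structure_affine g₀ ⟨x, hxU⟩ n hd₀
  refine ⟨X', Y, g ≫ U.ι, π, h ≫ V.ι, x', ?_, ?_, ?_, ?_, hfin, ?_, huniq⟩
  · rw [Category.assoc, ← comm₀, ← Category.assoc, hcomm, Category.assoc]
  · infer_instance
  · show U.ι (g x') = x
    rw [hgx]
    rfl
  · rw [Scheme.residueFieldMap_comp]
    intro z
    obtain ⟨w, hw⟩ := hres z
    obtain ⟨v, hv⟩ := (ConcreteCategory.bijective_of_isIso (U.ι.residueFieldMap (g x'))).2 w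
    refine ⟨v, ?_⟩
    show (Scheme.Hom.residueFieldMap g x').hom ((Scheme.Hom.residueFieldMap U.ι (g x')).hom v) = z
    have hv' : (Scheme.Hom.residueFieldMap U.ι (g x')).hom v = w := hv
    rw [hv']
    exact hw
  · have h2 : SmoothOfRelativeDimension (n + 0) (h ≫ V.ι) := inferInstance
    simpa using h2

end Groth.Agent.S0442
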