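import Groth.Statements.S0443
import Mathlib.RingTheory.RingHom.Finite
import Mathlib.RingTheory.Ideal.GoingUp
import Mathlib.AlgebraicGeometry.Morphisms.RingHomProperties

set_option autoImplicit false
universe u
open FlatMor

namespace Groth.Agent.S0443

/-- If `q` is the only prime over its contraction along a finite ring map, the induced map on
localizations is finite. -/
theorem localRingHom_finite_of_unique {R S : Type u} [CommRing R] [CommRing S] (f : R →+* S)
    (hf : f.Finite) (q : Ideal S) [q.IsPrime]
    (hq : ∀ q' : Ideal S, q'.IsPrime → q'.comap f = q.comap f → q' = q) :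
    (Localization.localRingHom (q.comap f) q f rfl).Finite := by
  set p := q.comap f with hp
  let M : Submonoid S := p.primeCompl.map f
  let Rp := Localization.AtPrime p
  let Sp := Localization M
  let g : Rp →+* Sp := IsLocalization.map Sp f (Submonoid.le_comap_map p.primeCompl)
  have hg : g.Finite := RingHom.finite_localizationPreserves f p.primeCompl Rp Sp hf
  have hgcomp : g.comp (algebraMap R Rp) = (algebraMap S Sp).comp f :=
    IsLocalization.map_comp _
  have hB : M ≤ q.primeCompl := by
    rintro _ ⟨r, hr, rfl⟩
    exact hr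
  have hA : ∀ s ∈ q.primeCompl, IsUnit (algebraMap S Sp s) := by
    intro s hs
    by_contra hns
    obtain ⟨m, hm, hsm⟩ := exists_max_ideal_of_mem_nonunits (mem_nonunits_iff.mpr hns)
    have hmax : (m.comap g).IsMaximal :=
      Ideal.isMaximal_comap_of_isIntegral_of_isMaximal' g hg.to_isIntegral m
    have hmg : m.comap g = IsLocalRing.maximalIdeal Rp := IsLocalRing.eq_maximalIdeal hmax
    have hq' : (m.comap (algebraMap S Sp)).comap f = p := by
      rw [Ideal.comap_comap, ← hgcomp, ← Ideal.comap_comap, hmg]
      exact Localization.AtPrime.under_maximalIdeal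
    have := hq (m.comap (algebraMap S Sp)) (Ideal.comap_isPrime _ _) hq'
    apply hs
    rw [← this]
    exact hsm
  have hloc : IsLocalization q.primeCompl Sp := IsLocalization.of_le M q.primeCompl hB hA
  let e : Sp ≃ₐ[S] Localization.AtPrime q := IsLocalization.algEquiv q.primeCompl Sp _
  have heq : Localization.localRingHom p q f rfl = (e : Sp →+* Localization.AtPrime q).comp g := by
    apply IsLocalization.ringHom_ext p.primeCompl
    ext r
    simp only [RingHom.comp_apply, Localization.localRingHom_to_map]
    have h1 : g (algebraMap R Rp r) = algebraMap S Sp (f r) := RingHom.congr_fun hgcomp r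
    rw [h1]
    exact (e.commutes (f r)).symm
  rw [heq]
  exact RingHom.Finite.comp (RingHom.Finite.of_surjective _ e.surjective) hg

set_option backward.isDefEq.respectTransparency false in
open AlgebraicGeometry CategoryTheory Limits in
theorem stalkMap_finite_aux {X Y : Scheme.{u}} (π : X ⟶ Y) [IsFinite π] (x : X)
    (hx : ∀ x' : ↑X, π x' = π x → x' = x) :
    (π.stalkMap x).hom.Finite := by
  have hQ := RingHom.finite_respectsIso
  wlog hY : IsAffine Y generalizing X Y
  · obtain ⟨U, hU, hfx, _⟩ := TopologicalSpace.Opens.isBasis_iff_nbhd.mp Y.isBasis_affineOpens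
      (TopologicalSpace.Opens.mem_top (π x))
    let x' : ↥(π ⁻¹ᵁ U) := ⟨x, hfx⟩
    rw [← hQ.arrow_mk_iso_iff (morphismRestrictStalkMap π U x')]
    refine this (π ∣_ U) x' ?_ hU
    intro z hz
    apply Subtype.ext
    apply hx
    have := congrArg Subtype.val hz
    rwa [morphismRestrict_base_coe, morphismRestrict_base_coe] at this
  have hX : IsAffine X := isAffine_of_isAffineHom π
  wlog hXY : ∃ R S, Y = Spec R ∧ X = Spec S generalizing X Y
  · have : ((X.isoSpec.inv ≫ π ≫ Y.isoSpec.hom).stalkMap (X.isoSpec.hom x)).hom.Finite := by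
      refine this _ (X.isoSpec.hom x) ?_ inferInstance inferInstance ⟨Γ(Y, ⊤), Γ(X, ⊤), rfl, rfl⟩
      intro z hz
      simp only [Scheme.Hom.comp_apply] at hz
      have h1 : π (X.isoSpec.inv z) = π x := by
        have := congrArg Y.isoSpec.inv hz
        simpa using this
      have h2 := hx _ h1
      rw [← h2]; simp
    rw [Scheme.Hom.stalkMap_comp, Scheme.Hom.stalkMap_comp, CommRingCat.hom_comp,
      hQ.cancel_right_isIso, CommRingCat.hom_comp, hQ.cancel_left_isIso] at this
    have heq : (X.isoSpec.inv (X.isoSpec.hom x)) = x := by simp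
    rwa [hQ.arrow_mk_iso_iff (π.arrowStalkMapIsoOfEq heq)] at this
  obtain ⟨R, S, rfl, rfl⟩ := hXY
  obtain ⟨φ, rfl⟩ := Spec.map_surjective π
  rw [hQ.arrow_mk_iso_iff (Scheme.arrowStalkMapSpecIso φ _)]
  have hφ : φ.hom.Finite := (IsFinite.SpecMap_iff φ).mp inferInstance
  apply localRingHom_finite_of_unique φ.hom hφ
  intro q' hq' h
  have := hx ⟨q', hq'⟩ (PrimeSpectrum.ext h)
  exact congrArg PrimeSpectrum.asIdeal this


open AlgebraicGeometry CategoryTheory Limits in
/-- For a finite morphism π : X → Y and a point x of X that is the only point of its fibre, the induced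
homomorphism of local rings O_{Y,π(x)} → O_{X,x} is finite. (The published lemma has further parts,
not stated here.) -/
theorem result {X Y : Scheme.{u}} (π : X ⟶ Y) [IsFinite π] (x : X) (hx : ∀ x' : ↑X, π x' = π x → x' = x) :
    (π.stalkMap x).hom.Finite := by
  exact stalkMap_finite_aux π x hx

end Groth.Agent.S0443
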