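import Groth.Statements.S0445
-- import your own Groth.Agent.* helpers here

set_option autoImplicit false
universe u
open FlatMor

namespace Groth.Agent.S0445

open AlgebraicGeometry CategoryTheory Limits in
/-- Two morphisms over S into an S-scheme unramified over S which agree at a point and induce the same
map on residue fields there agree on an open neighbourhood of that point. -/
theorem result {X Y S : Scheme.{u}} (p : Y ⟶ S) [FormallyUnramified p] [LocallyOfFiniteType p] (f g : X ⟶ Y) (hfg : f ≫ p = g ≫ p)
    (x : X) (h1 : f x = g x) (h2 : f.residueFieldMap x = (Y.residueFieldCongr h1).hom ≫ g.residueFieldMap x) :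
    ∃ U : X.Opens, x ∈ U ∧ U.ι ≫ f = U.ι ≫ g := by
  let Δ : Y ⟶ pullback p p := pullback.diagonal p
  let h : X ⟶ pullback p p := pullback.lift f g hfg
  have hfst : h ≫ pullback.fst p p = f := pullback.lift_fst _ _ _
  have hsnd : h ≫ pullback.snd p p = g := pullback.lift_snd _ _ _
  have hΔfst : Δ ≫ pullback.fst p p = 𝟙 Y := pullback.diagonal_fst p
  have hΔsnd : Δ ≫ pullback.snd p p = 𝟙 Y := pullback.diagonal_snd p
  refine ⟨h ⁻¹ᵁ Δ.opensRange, ?_, ?_⟩
  · -- the point `h x` lies on the diagonal
    have key : X.fromSpecResidueField x ≫ h =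
        Spec.map (f.residueFieldMap x) ≫ Y.fromSpecResidueField (f x) ≫ Δ := by
      apply pullback.hom_ext
      · simp only [Category.assoc, hfst, hΔfst, Category.comp_id]
        exact (Scheme.Hom.SpecMap_residueFieldMap_fromSpecResidueField f x).symm
      · simp only [Category.assoc, hsnd, hΔsnd, Category.comp_id]
        rw [h2, Spec.map_comp, Category.assoc, Scheme.residueFieldCongr_fromSpecResidueField]
        exact (Scheme.Hom.SpecMap_residueFieldMap_fromSpecResidueField g x).symm
    have hne : Nonempty (Spec (X.residueField x)) := inferInstance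
    obtain ⟨pt⟩ := hne
    have h3 : h x = Δ ((Spec.map (f.residueFieldMap x) ≫ Y.fromSpecResidueField (f x)) pt) := by
      have := congrArg (fun φ : Spec (X.residueField x) ⟶ pullback p p => φ pt) key
      simp only [Scheme.Hom.comp_apply, Scheme.fromSpecResidueField_apply] at this
      simpa using this
    show h x ∈ Set.range Δ
    exact ⟨_, h3.symm⟩
  · let U : X.Opens := h ⁻¹ᵁ Δ.opensRange
    have hr : Set.range (U.ι ≫ h) ⊆ Set.range Δ := by
      rintro _ ⟨u, rfl⟩
      have : (U.ι u) ∈ U := by simp
      exact this
    let l : (U : Scheme) ⟶ Y := IsOpenImmersion.lift Δ (U.ι ≫ h) hr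
    have hl : l ≫ Δ = U.ι ≫ h := IsOpenImmersion.lift_fac _ _ _
    have e1 : U.ι ≫ f = l := by
      rw [← hfst, ← Category.assoc, ← hl, Category.assoc, hΔfst, Category.comp_id]
    have e2 : U.ι ≫ g = l := by
      rw [← hsnd, ← Category.assoc, ← hl, Category.assoc, hΔsnd, Category.comp_id]
    exact e1.trans e2.symm

end Groth.Agent.S0445
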