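import Groth.Statements.S0448
import Mathlib.RingTheory.LocalRing.Module
import Mathlib.LinearAlgebra.TensorProduct.Vanishing
import Mathlib.LinearAlgebra.TensorProduct.Pi
import Mathlib.LinearAlgebra.TensorProduct.Basis
import Mathlib.RingTheory.Flat.Basic
import Mathlib.Algebra.Module.Projective

set_option autoImplicit false
universe u
open FlatMor

namespace Groth.Agent.S0448

section Helpers

open TensorProduct

variable {R : Type u} [CommRing R] [IsLocalRing R]

/-- free case -/
lemma lTensor_injective_of_free {F N : Type u} [AddCommGroup F] [Module R F]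
    [AddCommGroup N] [Module R N] [Module.Flat R N] {ι : Type*} (b : Module.Basis ι R F)
    (u : F →ₗ[R] N) (h : Function.Injective (u.lTensor (IsLocalRing.ResidueField R)))
    (Q : Type u) [AddCommGroup Q] [Module R Q] : Function.Injective (u.lTensor Q) := by
  classical
  rw [injective_iff_map_eq_zero]
  intro z hz
  obtain ⟨φ, rfl⟩ := (TensorProduct.equivFinsuppOfBasisRight (M := Q) b).symm.surjective z
  rw [TensorProduct.equivFinsuppOfBasisRight_symm_apply] at hz ⊢
  have hsum : (φ.sum fun i m => m ⊗ₜ[R] b i) = ∑ i : φ.support, φ i ⊗ₜ[R] b i := by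
    rw [Finsupp.sum, ← Finset.sum_coe_sort]
  rw [hsum] at hz ⊢
  rw [map_sum] at hz
  simp only [LinearMap.lTensor_tmul] at hz
  have hflat : Function.Injective (LinearMap.rTensor N
      (Submodule.span R (Set.range fun i : φ.support => φ i)).subtype) :=
    Module.Flat.rTensor_preserves_injective_linearMap _ (Submodule.injective_subtype _)
  obtain ⟨k, a, y, hay, ham⟩ :=
    TensorProduct.vanishesTrivially_of_sum_tmul_eq_zero_of_rTensor_injective R hflat hz
  let A : (φ.support → R) →ₗ[R] (Fin k → R) := Fintype.linearCombination R a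
  let Y : (Fin k → R) →ₗ[R] N := Fintype.linearCombination R y
  let ιJ : (φ.support → R) →ₗ[R] F := Fintype.linearCombination R (fun i : φ.support => b i)
  let ρ : F →ₗ[R] (φ.support → R) := LinearMap.pi (fun i : φ.support => b.coord i)
  have hA : ∀ i : φ.support, A (Pi.single i 1) = a i := by
    intro i
    simp [A]
  have hιJ : ∀ i : φ.support, ιJ (Pi.single i 1) = b i := by
    intro i
    simp [ιJ]
  have hρ : ρ ∘ₗ ιJ = LinearMap.id := by
    apply LinearMap.pi_ext'
    intro i
    ext i'
    simp only [LinearMap.comp_apply, LinearMap.single_apply, hιJ, LinearMap.id_apply, ρ,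
      LinearMap.pi_apply, Module.Basis.coord_apply, Module.Basis.repr_self, Pi.single_apply,
      Finsupp.single_apply]
    by_cases hii : i' = i
    · subst hii; simp
    · have : (i : ι) ≠ (i' : ι) := fun hh => hii (Subtype.ext hh.symm)
      simp [hii, this]
  have hYA : Y ∘ₗ A = u ∘ₗ ιJ := by
    apply LinearMap.pi_ext'
    intro i
    ext
    simp only [LinearMap.comp_apply, LinearMap.single_apply, hA, hιJ, Y,
      Fintype.linearCombination_apply]
    exact (hay i).symm
  have hkι : Function.Injective (ιJ.lTensor (IsLocalRing.ResidueField R)) := by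
    have : (ρ.lTensor (IsLocalRing.ResidueField R)) ∘ₗ (ιJ.lTensor (IsLocalRing.ResidueField R)) =
        LinearMap.id := by
      rw [← LinearMap.lTensor_comp, hρ, LinearMap.lTensor_id]
    exact Function.HasLeftInverse.injective ⟨_, LinearMap.congr_fun this⟩
  have hkA : Function.Injective (A.lTensor (IsLocalRing.ResidueField R)) := by
    have h1 : Function.Injective ((Y ∘ₗ A).lTensor (IsLocalRing.ResidueField R)) := by
      rw [hYA, LinearMap.lTensor_comp, LinearMap.coe_comp]
      exact h.comp hkι
    rw [LinearMap.lTensor_comp, LinearMap.coe_comp] at h1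
    exact Function.Injective.of_comp h1
  obtain ⟨C, hC⟩ := (IsLocalRing.split_injective_iff_lTensor_residueField_injective A).mpr hkA
  let w : Q ⊗[R] (φ.support → R) := ∑ i : φ.support, φ i ⊗ₜ[R] (Pi.single i (1 : R))
  have hw : A.lTensor Q w = 0 := by
    apply (TensorProduct.piScalarRight R R Q (Fin k)).injective
    rw [map_zero]
    ext j
    simp only [w, map_sum, LinearMap.lTensor_tmul, hA, TensorProduct.piScalarRight_apply,
      TensorProduct.piScalarRightHom_tmul, Finset.sum_apply, Pi.zero_apply]
    exact ham j
  have hw0 : w = 0 := by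
    have : (C.lTensor Q) (A.lTensor Q w) = w := by
      rw [← LinearMap.comp_apply, ← LinearMap.lTensor_comp, hC, LinearMap.lTensor_id,
        LinearMap.id_apply]
    rw [← this, hw, map_zero]
  have hz' : ∑ i : φ.support, φ i ⊗ₜ[R] b i = ιJ.lTensor Q w := by
    simp only [w, map_sum, LinearMap.lTensor_tmul, hιJ]
  rw [hz', hw0, map_zero]

omit [IsLocalRing R] in
/-- a product of two flat modules is flat -/
lemma flat_prod {N F : Type u} [AddCommGroup N] [Module R N] [Module.Flat R N]
    [AddCommGroup F] [Module R F] [Module.Flat R F] : Module.Flat R (N × F) := by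
  rw [Module.Flat.iff_lTensor_injective]
  intro I _
  rw [injective_iff_map_eq_zero]
  intro x hx
  have hN : Function.Injective (I.subtype.lTensor N) :=
    Module.Flat.lTensor_preserves_injective_linearMap _ I.injective_subtype
  have hF : Function.Injective (I.subtype.lTensor F) :=
    Module.Flat.lTensor_preserves_injective_linearMap _ I.injective_subtype
  have h1 : (LinearMap.fst R N F).rTensor I x = 0 := by
    apply hN
    rw [map_zero, ← LinearMap.comp_apply, LinearMap.lTensor_comp_rTensor,
      ← LinearMap.rTensor_comp_lTensor, LinearMap.comp_apply, hx, map_zero]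
  have h2 : (LinearMap.snd R N F).rTensor I x = 0 := by
    apply hF
    rw [map_zero, ← LinearMap.comp_apply, LinearMap.lTensor_comp_rTensor,
      ← LinearMap.rTensor_comp_lTensor, LinearMap.comp_apply, hx, map_zero]
  have hid : (LinearMap.inl R N F) ∘ₗ (LinearMap.fst R N F) +
      (LinearMap.inr R N F) ∘ₗ (LinearMap.snd R N F) = LinearMap.id := by
    apply LinearMap.ext
    rintro ⟨a, b⟩
    simp
  have h3 : x = (LinearMap.inl R N F).rTensor I ((LinearMap.fst R N F).rTensor I x) +
      (LinearMap.inr R N F).rTensor I ((LinearMap.snd R N F).rTensor I x) := by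
    rw [← LinearMap.comp_apply, ← LinearMap.comp_apply, ← LinearMap.rTensor_comp,
      ← LinearMap.rTensor_comp, ← LinearMap.add_apply, ← LinearMap.rTensor_add, hid,
      LinearMap.rTensor_id, LinearMap.id_apply]
  rw [h3, h1, h2, map_zero, map_zero, add_zero]

/-- reduction of the projective case to the free case, for a retract `M` of a free module `F`. -/
lemma lTensor_injective_of_retract {M F N : Type u} [AddCommGroup M] [Module R M]
    [AddCommGroup F] [Module R F] [Module.Free R F]
    [AddCommGroup N] [Module R N] [Module.Flat R N]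
    (s : M →ₗ[R] F) (π : F →ₗ[R] M) (hs : π ∘ₗ s = LinearMap.id)
    (u : M →ₗ[R] N) (h : Function.Injective (u.lTensor (IsLocalRing.ResidueField R)))
    (Q : Type u) [AddCommGroup Q] [Module R Q] : Function.Injective (u.lTensor Q) := by
  let u2 : F →ₗ[R] N × F := (u ∘ₗ π).prod (LinearMap.id - s ∘ₗ π)
  have hfst : (LinearMap.fst R N F) ∘ₗ u2 = u ∘ₗ π := LinearMap.fst_prod _ _
  have hsnd : (LinearMap.snd R N F) ∘ₗ u2 = LinearMap.id - s ∘ₗ π := LinearMap.snd_prod _ _
  have h2 : Function.Injective (u2.lTensor (IsLocalRing.ResidueField R)) := by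
    rw [injective_iff_map_eq_zero]
    intro z hz
    have h1 : (u.lTensor (IsLocalRing.ResidueField R)) (π.lTensor _ z) = 0 := by
      rw [← LinearMap.comp_apply, ← LinearMap.lTensor_comp, ← hfst, LinearMap.lTensor_comp,
        LinearMap.comp_apply, hz, map_zero]
    have h3 : π.lTensor (IsLocalRing.ResidueField R) z = 0 := h (by rw [h1, map_zero])
    have h4 : (LinearMap.id - s ∘ₗ π).lTensor (IsLocalRing.ResidueField R) z = 0 := by
      rw [← hsnd, LinearMap.lTensor_comp, LinearMap.comp_apply, hz, map_zero]
    rw [LinearMap.lTensor_sub, LinearMap.lTensor_id, LinearMap.sub_apply, LinearMap.id_apply,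
      LinearMap.lTensor_comp, LinearMap.comp_apply, h3, map_zero, sub_zero] at h4
    exact h4
  haveI : Module.Flat R (N × F) := flat_prod
  have key : Function.Injective (u2.lTensor Q) :=
    lTensor_injective_of_free (Module.Free.chooseBasis R F) u2 h2 Q
  have hcomp : u2 ∘ₗ s = LinearMap.inl R N F ∘ₗ u := by
    apply LinearMap.ext
    intro x
    have hx : π (s x) = x := LinearMap.congr_fun hs x
    simp [u2, hx]
  have hs_inj : Function.Injective (s.lTensor Q) := by
    have : (π.lTensor Q) ∘ₗ (s.lTensor Q) = LinearMap.id := by
      rw [← LinearMap.lTensor_comp, hs, LinearMap.lTensor_id]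
    exact Function.HasLeftInverse.injective ⟨_, LinearMap.congr_fun this⟩
  have h5 : Function.Injective ((u2 ∘ₗ s).lTensor Q) := by
    rw [LinearMap.lTensor_comp, LinearMap.coe_comp]
    exact key.comp hs_inj
  rw [hcomp, LinearMap.lTensor_comp, LinearMap.coe_comp] at h5
  exact Function.Injective.of_comp h5

end Helpers

open TensorProduct in
/-- Over a local ring, a linear map from a projective module to a flat module which is injective modulo
the maximal ideal is universally injective (injective after tensoring with any module). -/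
theorem result {R M N : Type u} [CommRing R] [IsLocalRing R] [AddCommGroup M] [Module R M] [Module.Projective R M]
    [AddCommGroup N] [Module R N] [Module.Flat R N] (u : M →ₗ[R] N)
    (h : Function.Injective (LinearMap.lTensor (IsLocalRing.ResidueField R) u)) :
    ∀ (Q : Type u) [AddCommGroup Q] [Module R Q], Function.Injective (LinearMap.rTensor Q u) := by
  intro Q _ _
  rw [← LinearMap.lTensor_inj_iff_rTensor_inj]
  obtain ⟨s, hs⟩ := Module.projective_def'.mp (inferInstance : Module.Projective R M)
  exact lTensor_injective_of_retract s _ hs u h Q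

end Groth.Agent.S0448
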