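import Groth.Statements.S0450
import Groth.Agent.S0404
import Mathlib

set_option autoImplicit false
set_option linter.style.haveILetI false
universe u
open FlatMor

namespace Groth.Agent.S0450

open AlgebraicGeometry CategoryTheory Limits in
/-- A flat proper morphism locally of finite presentation that is finite over a dense open subset of the
target is finite (the source alternatively allows the open to be retrocompact instead of assuming
finite presentation; only this alternative is stated). -/
theorem result {X S : Scheme.{u}} (f : X ⟶ S) [Flat f] [IsProper f] [LocallyOfFinitePresentation f] (U : S.Opens)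
    (hU : Dense (U : Set ↑S)) [IsFinite (f ∣_ U)] : IsFinite f := by
  haveI : QuasiCompact f := inferInstance
  haveI : QuasiSeparated f := inferInstance
  have hopen := Groth.Agent.S0404.result f (0 : WithBot ℕ∞)
  -- fibres over `U` are discrete
  have hUdisc : ∀ s ∈ U, _root_.IsDiscrete (f ⁻¹' {s}) := by
    intro s hs
    have h1 := (f ∣_ U).isDiscrete_preimage_singleton (⟨s, hs⟩ : (↑U : Scheme.{u}))
    have hbase : ∀ x' : (↑(f ⁻¹ᵁ U) : Scheme.{u}), ((f ∣_ U) x').1 = f ((f ⁻¹ᵁ U).ι x') := fun x' =>
      congrArg (fun g => g.base x') (morphismRestrict_ι f U)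
    have h2 : f ⁻¹' {s} = (f ⁻¹ᵁ U).ι '' ((f ∣_ U) ⁻¹' {(⟨s, hs⟩ : (↑U : Scheme.{u}))}) := by
      ext x
      constructor
      · intro hx
        have hx' : f x = s := hx
        have hxU : x ∈ f ⁻¹ᵁ U := by
          change f x ∈ U
          rw [hx']; exact hs
        refine ⟨⟨x, hxU⟩, ?_, rfl⟩
        change (f ∣_ U) ⟨x, hxU⟩ = ⟨s, hs⟩
        apply Subtype.ext
        exact (hbase ⟨x, hxU⟩).trans hx'
      · rintro ⟨x', hx', rfl⟩
        have hx'' : (f ∣_ U) x' = ⟨s, hs⟩ := hx'
        change f ((f ⁻¹ᵁ U).ι x') = s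
        rw [← hbase, hx'']
    rw [h2]
    exact h1.image (f ⁻¹ᵁ U).ι.isEmbedding.isInducing
  have hUdim : ∀ s ∈ U, ¬ (0 < topologicalKrullDim (f.fiber s)) := by
    intro s hs
    haveI : DiscreteTopology (f ⁻¹' {s}) := isDiscrete_iff_discreteTopology.mp (hUdisc s hs)
    haveI : DiscreteTopology (f.fiber s) := (f.fiberHomeo s).symm.discreteTopology
    exact not_lt.2 (topologicalKrullDim_zero_of_discreteTopology _)
  have hW : ∀ s, ¬ (0 < topologicalKrullDim (f.fiber s)) := by
    intro s hs
    obtain ⟨t, ht1, ht2⟩ := hU.inter_open_nonempty _ hopen ⟨s, hs⟩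
    exact hUdim t ht2 ht1
  haveI hlqf : LocallyQuasiFinite f := by
    rw [locallyQuasiFinite_iff_isDiscrete_preimage_singleton]
    intro s
    have hle : topologicalKrullDim (f.fiber s) ≤ 0 := not_lt.1 (hW s)
    haveI : IsLocallyNoetherian (f.fiber s) :=
      LocallyOfFiniteType.isLocallyNoetherian (f.fiberToSpecResidueField s)
    haveI := IsLocallyArtinian.of_topologicalKrullDim_le_zero hle
    haveI : DiscreteTopology (f.fiber s) := inferInstance
    haveI : DiscreteTopology (f ⁻¹' {s}) := (f.fiberHomeo s).discreteTopology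
    exact isDiscrete_iff_discreteTopology.mpr inferInstance
  exact IsFinite.of_isProper_of_locallyQuasiFinite f


end Groth.Agent.S0450
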