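import Groth.Statements.S0471
import Groth.Agent.Lib.Helper6.WeaklyContr
import Groth.Agent.Lib.Helper17.HCompare
import Mathlib.Topology.Sheaves.SheafCondition.UniqueGluing
import Mathlib.Topology.Sheaves.LocallySurjective
import Mathlib.Topology.Separation.Profinite

set_option autoImplicit false
universe u
open CategoryTheory
open CohTop

namespace Groth.Agent.S0471

open TopologicalSpace Opposite

variable {X : TopCat.{u}}

/-- a sheaf of sets has exactly one section over the empty open -/
lemma existsUnique_bot (F : TopCat.Sheaf (Type u) X) (W : Opens X) (hW : W = ⊥) :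
    ∃! _s : F.1.obj (op W), True := by
  subst hW
  obtain ⟨s, -, hs⟩ := F.existsUnique_gluing' (ι := PEmpty.{1}) (fun i => i.elim) ⊥ (fun i => i.elim)
    bot_le (fun i => i.elim) (fun i => i.elim)
  exact ⟨s, trivial, fun s' _ => hs s' (fun i => i.elim)⟩

lemma subsingleton_of_eq_bot (F : TopCat.Sheaf (Type u) X) (W : Opens X) (hW : W = ⊥) :
    Subsingleton (F.1.obj (op W)) := by
  obtain ⟨s, -, hs⟩ := existsUnique_bot F W hW
  exact ⟨fun a b => (hs a trivial).trans (hs b trivial).symm⟩

/-- gluing two sections over disjoint opens -/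
lemma exists_glue (F : TopCat.Sheaf (Type u) X) (W1 W2 : Opens X) (h : W1 ⊓ W2 = ⊥)
    (s1 : F.1.obj (op W1)) (s2 : F.1.obj (op W2)) :
    ∃ s : F.1.obj (op (W1 ⊔ W2)), F.1.map (homOfLE le_sup_left).op s = s1 ∧
      F.1.map (homOfLE le_sup_right).op s = s2 := by
  let U : Bool → Opens X := fun b => cond b W1 W2
  let sf : ∀ b : Bool, F.1.obj (op (U b)) := fun b =>
    match b with
    | true => s1
    | false => s2
  have hcompat : TopCat.Presheaf.IsCompatible F.1 U sf := by
    intro i j
    cases i <;> cases j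
    · rfl
    · have : Subsingleton (F.1.obj (op (U false ⊓ U true))) :=
        subsingleton_of_eq_bot F _ (by rw [inf_comm]; exact h)
      exact Subsingleton.elim _ _
    · have : Subsingleton (F.1.obj (op (U true ⊓ U false))) :=
        subsingleton_of_eq_bot F _ h
      exact Subsingleton.elim _ _
    · rfl
  obtain ⟨s, hs, -⟩ := F.existsUnique_gluing' U (W1 ⊔ W2)
    (fun b => match b with
      | true => homOfLE le_sup_left
      | false => homOfLE le_sup_right)
    (by
      rw [sup_le_iff]
      exact ⟨le_iSup U true, le_iSup U false⟩) sf hcompat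
  exact ⟨s, hs true, hs false⟩

lemma naturality_apply' {F G : Sheaf (Opens.grothendieckTopology X) (Type u)} (φ : F ⟶ G)
    {U V : Opens X} (i : V ⟶ U) (s : F.obj.obj (op U)) :
    φ.hom.app (op V) (F.obj.map i.op s) = G.obj.map i.op (φ.hom.app (op U) s) :=
  ConcreteCategory.congr_hom (φ.hom.naturality i.op) s

lemma map_map' (G : Sheaf (Opens.grothendieckTopology X) (Type u))
    {U V W : Opens X} (i : V ⟶ U) (j : W ⟶ V) (k : W ⟶ U) (s : G.obj.obj (op U)) :
    G.obj.map j.op (G.obj.map i.op s) = G.obj.map k.op s := by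
  have h : k = j ≫ i := Subsingleton.elim _ _
  rw [h, op_comp, CategoryTheory.Functor.map_comp]
  rfl

lemma weaklyContractible_top [CompactSpace X] [T2Space X] [TotallyDisconnectedSpace X] :
    CohSite.IsWeaklyContractible (Opens.grothendieckTopology X) (⊤ : Opens X) := by
  intro F G φ hφ t
  have hls : Sheaf.IsLocallySurjective φ := (Sheaf.isLocallySurjective_iff_epi' (φ := φ)).2 hφ
  let p : Set X → Prop := fun A => ∃ (W : Opens X), IsClopen (W : Set X) ∧ A ⊆ W ∧
     ∃ s : F.obj.obj (op W), φ.hom.app (op W) s = G.obj.map (homOfLE le_top).op t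
  have hp : p Set.univ := by
    refine isCompact_univ.induction_on (p := p) ?_ ?_ ?_ ?_
    · refine ⟨⊥, isClopen_empty, Set.empty_subset _, ?_⟩
      obtain ⟨s, -, -⟩ := existsUnique_bot F ⊥ rfl
      have : Subsingleton (G.obj.obj (op ⊥)) := subsingleton_of_eq_bot G ⊥ rfl
      exact ⟨s, Subsingleton.elim _ _⟩
    · rintro A B hAB ⟨W, hW, hBW, hs⟩
      exact ⟨W, hW, hAB.trans hBW, hs⟩
    · rintro A B ⟨W1, hW1, hA, s1, hs1⟩ ⟨W2, hW2, hB, s2, hs2⟩
      let W1c : Opens X := ⟨(W1 : Set X)ᶜ, hW1.1.isOpen_compl⟩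
      let W2' : Opens X := W2 ⊓ W1c
      have hdisj : W1 ⊓ W2' = ⊥ := by
        ext x
        simp only [W2', W1c, Opens.coe_inf, Opens.coe_mk, Set.mem_inter_iff, Set.mem_compl_iff,
          Opens.coe_bot, Set.mem_empty_iff_false, iff_false]
        tauto
      obtain ⟨s, hs1', hs2'⟩ :=
        exists_glue F W1 W2' hdisj s1 (F.obj.map (homOfLE inf_le_left).op s2)
      have hset : ((W1 ⊔ W2' : Opens X) : Set X) = (W1 : Set X) ∪ (W2 : Set X) := by
        ext x
        simp only [W2', W1c, Opens.coe_sup, Opens.coe_inf, Opens.coe_mk, Set.mem_union,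
          Set.mem_inter_iff, Set.mem_compl_iff]
        tauto
      refine ⟨W1 ⊔ W2', ?_, ?_, s, ?_⟩
      · rw [hset]
        exact hW1.union hW2
      · rw [hset]
        exact Set.union_subset_union hA hB
      · apply TopCat.Sheaf.eq_of_locally_eq₂ G (homOfLE le_sup_left) (homOfLE le_sup_right) le_rfl
        · exact ((naturality_apply' φ (homOfLE le_sup_left) s).symm.trans
            (congrArg (φ.hom.app (op W1)) hs1')).trans (hs1.trans
              (map_map' G (homOfLE le_top) (homOfLE le_sup_left) (homOfLE le_top) t).symm)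
        · exact ((naturality_apply' φ (homOfLE le_sup_right) s).symm.trans
            (congrArg (φ.hom.app (op W2')) hs2')).trans
              (((naturality_apply' φ (homOfLE inf_le_left) s2).trans
                (congrArg (G.obj.map (homOfLE inf_le_left).op) hs2)).trans
                  ((map_map' G (homOfLE le_top) (homOfLE inf_le_left) (homOfLE le_top) t).trans
                    (map_map' G (homOfLE le_top) (homOfLE le_sup_right)
                      (homOfLE le_top) t).symm))
    · intro x _
      obtain ⟨V, i, ⟨s, hs⟩, hxV⟩ := hls.imageSieve_mem t x trivial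
      obtain ⟨W, hW, hxW, hWV⟩ := compact_exists_isClopen_in_isOpen V.isOpen hxV
      let W' : Opens X := ⟨W, hW.2⟩
      have hle : W' ≤ V := hWV
      let j : W' ⟶ V := homOfLE hle
      refine ⟨W, mem_nhdsWithin_of_mem_nhds (hW.2.mem_nhds hxW),
        ⟨W', hW, subset_rfl, F.obj.map j.op s, ?_⟩⟩
      exact ((naturality_apply' φ j s).trans
        (congrArg (G.obj.map j.op) hs)).trans
          (map_map' G i j (homOfLE le_top) t)
  obtain ⟨W, -, hW, s, hs⟩ := hp
  have hWtop : W = ⊤ := by
    ext x
    simp only [Opens.coe_top, Set.mem_univ, iff_true]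
    exact hW (Set.mem_univ x)
  subst hWtop
  refine ⟨s, ?_⟩
  rw [hs]
  have h1 : (homOfLE le_top : (⊤ : Opens X) ⟶ ⊤) = 𝟙 _ := Subsingleton.elim _ _
  rw [h1, op_id, CategoryTheory.Functor.map_id]
  rfl


/-- If X is profinite (compact, Hausdorff, totally disconnected), then H^(p+1)(X, F) = 0 for every
abelian sheaf F. -/
theorem result {X : TopCat.{u}} [CompactSpace X] [T2Space X] [TotallyDisconnectedSpace X]
    (F : CohTop.Ab X) (p : ℕ) : Subsingleton (CohTop.H F (p + 1)) := by
  have h := Groth.Agent.Lib.Helper6.WeaklyContr.subsingleton_HU (Opens.grothendieckTopology X)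
    weaklyContractible_top F p
  exact (Groth.Agent.Lib.Helper17.HCompare.topHEquiv F (p + 1)).toEquiv.subsingleton

end Groth.Agent.S0471
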