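import Groth.Statements.S0480
-- import your own Groth.Agent.* helpers here
import Mathlib

set_option autoImplicit false
universe v u
open CategoryTheory
open CohDer

namespace Groth.Agent.S0480

open CategoryTheory.Limits in
/-- In an abelian category, if the product of a family of K-injective cochain complexes exists (it is
then the termwise product), it is again K-injective. -/
theorem result {A : Type u} [Category.{v} A] [Abelian A] {T : Type v} (I : T → CochainComplex A ℤ)
    [HasProduct I] (h : ∀ t, (I t).IsKInjective) : (∏ᶜ I).IsKInjective := by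
  open CochainComplex HomComplex in
  refine ⟨fun {K} f hK => ?_⟩
  -- componentwise null-homotopies as maps from the cone of the identity
  have key : ∀ t, ∃ g : mappingCone (𝟙 K) ⟶ I t, mappingCone.inr (𝟙 K) ≫ g = f ≫ Pi.π I t := by
    intro t
    have := h t
    let ht : Homotopy (f ≫ Pi.π I t) 0 := IsKInjective.homotopyZero (f ≫ Pi.π I t) hK
    obtain ⟨α, hα⟩ := Cochain.equivHomotopy _ _ ht
    have eq : δ (-1) 0 α = Cochain.ofHom (𝟙 K ≫ (f ≫ Pi.π I t)) := by
      rw [Cochain.ofHom_zero, add_zero] at hα
      rw [Category.id_comp, hα]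
    exact ⟨mappingCone.desc (𝟙 K) α (f ≫ Pi.π I t) eq, mappingCone.inr_desc _ _ _ _⟩
  choose g hg using key
  let G : mappingCone (𝟙 K) ⟶ ∏ᶜ I := Pi.lift g
  have hG : mappingCone.inr (𝟙 K) ≫ G = f := by
    apply Pi.hom_ext
    intro t
    rw [Category.assoc, Pi.lift_π, hg]
  let β : Cochain K (∏ᶜ I) (-1) := (mappingCone.inl (𝟙 K)).comp (Cochain.ofHom G) (add_zero _)
  have hβ : Cochain.ofHom f = δ (-1) 0 β + Cochain.ofHom 0 := by
    rw [Cochain.ofHom_zero, add_zero, δ_comp_ofHom, mappingCone.δ_inl, Category.id_comp,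
      ← Cochain.ofHom_comp, hG]
  exact ⟨(Cochain.equivHomotopy f 0).symm ⟨β, hβ⟩⟩

end Groth.Agent.S0480
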