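import Groth.Statements.S0481
import Groth.Agent.Lib.Helper6.DerivedAdj

set_option autoImplicit false
universe v u
open CategoryTheory
open CohDer

namespace Groth.Agent.S0481

open CategoryTheory.Limits in
/-- Let u : A ⥤ B be right adjoint to an exact additive functor w : B ⥤ A between abelian categories.
Then u applied termwise sends K-injective complexes to K-injective complexes. -/
theorem result {A : Type u} [Category.{v} A] [Abelian A]
    {B : Type u} [Category.{v} B] [Abelian B] (u : A ⥤ B) (w : B ⥤ A) (adj : w ⊣ u)
    [u.Additive] [w.Additive] [PreservesFiniteLimits w] [PreservesFiniteColimits w]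
    (I : CochainComplex A ℤ) (h : I.IsKInjective) :
    CochainComplex.IsKInjective ((u.mapHomologicalComplex (ComplexShape.up ℤ)).obj I) := by
  constructor
  intro K f hK
  let a := Groth.Agent.Lib.Helper6.DerivedAdj.adjCx adj (ComplexShape.up ℤ)
  let g : (w.mapHomologicalComplex (ComplexShape.up ℤ)).obj K ⟶ I := (a.homEquiv K I).symm f
  have hwK : ((w.mapHomologicalComplex (ComplexShape.up ℤ)).obj K).Acyclic := by
    intro i
    have hi : (K.sc i).Exact := hK i
    exact hi.map w
  obtain ⟨hg⟩ := h.nonempty_homotopy_zero g hwK
  have hf : f = a.unit.app K ≫ (u.mapHomologicalComplex (ComplexShape.up ℤ)).map g := by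
    have := a.homEquiv_unit (X := K) (Y := I) (f := g)
    rw [← this]
    exact ((a.homEquiv K I).apply_symm_apply f).symm
  refine ⟨(Homotopy.ofEq hf).trans ((((u.mapHomotopy hg)).compLeft (a.unit.app K)).trans
    (Homotopy.ofEq ?_))⟩
  rw [Functor.map_zero, comp_zero]

end Groth.Agent.S0481
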