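import Groth.Statements.S0488
import Groth.Agent.Lib.Helper6.OpenShriek
import Groth.Agent.Lib.Helper6.KInjAdj

set_option autoImplicit false
universe u
open CohTop

namespace Groth.Agent.S0488

open TopologicalSpace in
/-- For an open U of X, restriction to U sends K-injective complexes of abelian sheaves on X to
K-injective complexes on U. -/
theorem result {X : TopCat.{u}} (U : Opens X) (I : CochainComplex (CohTop.Ab X) ℤ)
    (h : I.IsKInjective) :
    CochainComplex.IsKInjective (((CohTop.restrFunctor U).mapHomologicalComplex (ComplexShape.up ℤ)).obj I) := by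
  open Groth.Agent.Lib.Helper6 in
  classical
  have H : Topology.IsOpenEmbedding (TopCat.Hom.hom (TopCat.ofHom ⟨_, continuous_subtype_val⟩ :
      TopCat.of U ⟶ X)) := U.isOpenEmbedding
  haveI := H.functor_isContinuous
  let M := OpenShriek.openEmb H
  have hA := OpenShriek.sigmaMono H
  let L := MultiAdj.shriek M (Opens.grothendieckTopology (TopCat.of U))
    (Opens.grothendieckTopology X) (A := AddCommGrpCat.{u})
  let adj := MultiAdj.adj M (Opens.grothendieckTopology (TopCat.of U))
    (Opens.grothendieckTopology X) (A := AddCommGrpCat.{u})
  haveI : L.Additive := MultiAdj.shriek_additive M _ _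
  haveI := MultiAdj.pushforward_additive (A := AddCommGrpCat.{u})
    (Opens.grothendieckTopology (TopCat.of U)) (Opens.grothendieckTopology X)
    (G := H.isOpenMap.functor)
  haveI : CategoryTheory.Limits.PreservesFiniteLimits L := MultiAdj.shriek_preservesFiniteLimits M _ _ hA
  haveI : CategoryTheory.Limits.PreservesFiniteColimits L := by
    have := adj.leftAdjoint_preservesColimits
    infer_instance
  haveI : L.PreservesHomology := { }
  exact KInjAdj.isKInjective_map_of_adj adj (fun K hK => KInjAdj.acyclic_map L K hK) I

end Groth.Agent.S0488
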