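import Groth.Statements.S0489
-- import your own Groth.Agent.* helpers here
import Mathlib.Algebra.Homology.HomotopyCategory.KInjective
import Mathlib.Algebra.Homology.HomotopyCategory.HomComplexShift
import Mathlib.Algebra.Homology.HomologicalComplexLimits
import Mathlib.CategoryTheory.Functor.OfSequence

set_option autoImplicit false
universe v u
open CategoryTheory
open CohDer

namespace Groth.Agent.S0489

section Helpers

open CategoryTheory.Limits Opposite CochainComplex HomComplex

variable {A : Type u} [Category.{v} A] [Abelian A]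

/-- in a K-injective target, `(-1)`-cocycles out of an acyclic complex are coboundaries -/
theorem exists_cochain_of_cocycle {K L : CochainComplex A ℤ} [L.IsKInjective] (hK : K.Acyclic)
    (γ : Cochain K L (-1)) (hγ : δ (-1) 0 γ = 0) :
    ∃ g : Cochain K L (-2), δ (-2) (-1) g = γ := by
  let z : Cocycle K L (-1) := Cocycle.mk γ 0 (by simp) hγ
  let φ : K ⟶ L⟦(-1 : ℤ)⟧ := Cocycle.equivHomShift.symm z
  obtain ⟨w, hw⟩ := Cochain.equivHomotopy φ 0 (IsKInjective.homotopyZero φ hK)
  refine ⟨-(w.rightUnshift (-2) (by norm_num)), ?_⟩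
  rw [δ_neg, Cochain.δ_rightUnshift w (-2) _ (-1) 0 (by norm_num)]
  have h1 : δ (-1) 0 w = Cochain.ofHom φ := by
    rw [hw, Cochain.ofHom_zero, add_zero]
  have h2 : Cochain.ofHom φ = γ.rightShift (-1) 0 (zero_add _) := by
    simp only [φ, Cocycle.equivHomShift_symm_apply, Cocycle.cochain_ofHom_homOf_eq_coe]
    rfl
  rw [h1, h2, Cochain.rightUnshift_rightShift]
  simp

/-- lifting a null-homotopy along a termwise split epimorphism of K-injective complexes -/
theorem step {K L L' : CochainComplex A ℤ} [L.IsKInjective] [L'.IsKInjective] (hK : K.Acyclic)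
    (p : L' ⟶ L) (hp : ∀ m, IsSplitEpi (p.f m)) (f' : K ⟶ L') (α : Cochain K L (-1))
    (hα : δ (-1) 0 α = Cochain.ofHom (f' ≫ p)) :
    ∃ α' : Cochain K L' (-1), δ (-1) 0 α' = Cochain.ofHom f' ∧
      α'.comp (Cochain.ofHom p) (add_zero _) = α := by
  obtain ⟨β, hβ⟩ := Cochain.equivHomotopy f' 0 (IsKInjective.homotopyZero f' hK)
  have hβ' : δ (-1) 0 β = Cochain.ofHom f' := by rw [hβ, Cochain.ofHom_zero, add_zero]
  obtain ⟨g, hg⟩ := exists_cochain_of_cocycle hK (β.comp (Cochain.ofHom p) (add_zero _) - α) (by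
    rw [δ_sub, δ_comp_ofHom, hβ', hα, Cochain.ofHom_comp, sub_self])
  let s : ∀ m, L.X m ⟶ L'.X m := fun m => @section_ _ _ _ _ (p.f m) (hp m)
  have hs : ∀ m, s m ≫ p.f m = 𝟙 _ := fun m => @IsSplitEpi.id _ _ _ _ (p.f m) (hp m)
  let g' : Cochain K L' (-2) := Cochain.mk (fun a b hab => g.v a b hab ≫ s b)
  have hg' : g'.comp (Cochain.ofHom p) (add_zero _) = g := by
    ext a b hab
    simp [g', hs]
  refine ⟨β - δ (-2) (-1) g', ?_, ?_⟩
  · rw [δ_sub, δ_δ, sub_zero, hβ']
  · rw [Cochain.sub_comp, ← δ_comp_ofHom, hg', hg]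
    abel

variable [HasLimitsOfShape ℕᵒᵖ A]

/-- the termwise limit cone -/
noncomputable def evalIsLimit (I : ℕᵒᵖ ⥤ CochainComplex A ℤ) (q : ℤ) :
    IsLimit ((HomologicalComplex.eval A (ComplexShape.up ℤ) q).mapCone (limit.cone I)) :=
  isLimitOfPreserves (HomologicalComplex.eval A (ComplexShape.up ℤ) q) (limit.isLimit I)

/-- cochains into the limit are determined by their projections -/
theorem cochain_ext_limit (I : ℕᵒᵖ ⥤ CochainComplex A ℤ) {K : CochainComplex A ℤ} {d : ℤ}
    (β β' : Cochain K (limit I) d)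
    (h : ∀ n : ℕ, β.comp (Cochain.ofHom (limit.π I (op n))) (add_zero _) =
      β'.comp (Cochain.ofHom (limit.π I (op n))) (add_zero _)) : β = β' := by
  ext a b hab
  apply (evalIsLimit I b).hom_ext
  rintro ⟨n⟩
  have := Cochain.congr_v (h n) a b hab
  simp only [Cochain.comp_zero_cochain_v, Cochain.ofHom_v] at this
  exact this

/-- compatible families of cochains assemble to a cochain into the limit -/
theorem exists_lift_cochain (I : ℕᵒᵖ ⥤ CochainComplex A ℤ) {K : CochainComplex A ℤ} {d : ℤ}
    (α : ∀ n : ℕ, Cochain K (I.obj (op n)) d)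
    (hα : ∀ n : ℕ, (α (n + 1)).comp (Cochain.ofHom (I.map (homOfLE (Nat.le_succ n)).op))
      (add_zero _) = α n) :
    ∃ β : Cochain K (limit I) d,
      ∀ n : ℕ, β.comp (Cochain.ofHom (limit.π I (op n))) (add_zero _) = α n := by
  let c : ∀ (a b : ℤ) (_ : a + d = b),
      Cone (I ⋙ HomologicalComplex.eval A (ComplexShape.up ℤ) b) := fun a b hab =>
    { pt := K.X a
      π := NatTrans.ofOpSequence (F := (Functor.const ℕᵒᵖ).obj (K.X a))
        (G := I ⋙ HomologicalComplex.eval A (ComplexShape.up ℤ) b)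
        (fun n => (α n).v a b hab) (fun n => by
          have := Cochain.congr_v (hα n) a b hab
          simp only [Cochain.comp_zero_cochain_v, Cochain.ofHom_v] at this
          simp only [Functor.const_obj_obj, Functor.const_obj_map, Category.id_comp,
            Functor.comp_map, HomologicalComplex.eval_map]
          exact this.symm) }
  refine ⟨Cochain.mk (fun a b hab => (evalIsLimit I b).lift (c a b hab)), fun n => ?_⟩
  ext a b hab
  have := (evalIsLimit I b).fac (c a b hab) (op n)
  simp only [Cochain.comp_zero_cochain_v, Cochain.ofHom_v, Cochain.mk_v]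
  exact this

end Helpers

open CategoryTheory.Limits Opposite in
/-- Let … → I_3 → I_2 → I_1 be an inverse system of K-injective cochain complexes in an abelian category
with sequential limits, such that each transition map is a split epimorphism in each degree. Then
the (termwise) limit complex is K-injective. -/
theorem result {A : Type u} [Category.{v} A] [Abelian A] [HasLimitsOfShape ℕᵒᵖ A]
    (I : ℕᵒᵖ ⥤ CochainComplex A ℤ) (h1 : ∀ n : ℕ, (I.obj (op n)).IsKInjective)
    (h2 : ∀ (n : ℕ) (m : ℤ), IsSplitEpi ((I.map (homOfLE (Nat.le_succ n)).op).f m)) :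
    (limit I).IsKInjective := by
  classical
  refine ⟨fun {K} f hK => ?_⟩
  let S : ℕ → Type _ := fun n =>
    {α : CochainComplex.HomComplex.Cochain K (I.obj (op n)) (-1) //
      CochainComplex.HomComplex.δ (-1) 0 α =
        CochainComplex.HomComplex.Cochain.ofHom (f ≫ limit.π I (op n))}
  have step' : ∀ n (a : S n), ∃ a' : S (n + 1),
      a'.1.comp (CochainComplex.HomComplex.Cochain.ofHom (I.map (homOfLE (Nat.le_succ n)).op))
        (add_zero _) = a.1 := by
    intro n a
    haveI := h1 n
    haveI := h1 (n + 1)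
    obtain ⟨α', h1', h2'⟩ := step hK (I.map (homOfLE (Nat.le_succ n)).op) (h2 n)
      (f ≫ limit.π I (op (n + 1))) a.1 (by rw [a.2, Category.assoc, limit.w])
    exact ⟨⟨α', h1'⟩, h2'⟩
  have a0 : S 0 := by
    haveI := h1 0
    obtain ⟨β, hβ⟩ := CochainComplex.HomComplex.Cochain.equivHomotopy _ 0
      (CochainComplex.IsKInjective.homotopyZero (f ≫ limit.π I (op 0)) hK)
    exact ⟨β, by rw [hβ, CochainComplex.HomComplex.Cochain.ofHom_zero, add_zero]⟩
  let seq : ∀ n, S n := fun n => Nat.rec a0 (fun n a => (step' n a).choose) n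
  have hseq : ∀ n, (seq (n + 1)).1.comp
      (CochainComplex.HomComplex.Cochain.ofHom (I.map (homOfLE (Nat.le_succ n)).op))
        (add_zero _) = (seq n).1 := fun n => (step' n (seq n)).choose_spec
  obtain ⟨β, hβ⟩ := exists_lift_cochain I (fun n => (seq n).1) hseq
  have hδ : CochainComplex.HomComplex.δ (-1) 0 β = CochainComplex.HomComplex.Cochain.ofHom f := by
    apply cochain_ext_limit
    intro n
    rw [← CochainComplex.HomComplex.δ_comp_ofHom, hβ, (seq n).2,
      CochainComplex.HomComplex.Cochain.ofHom_comp]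
  exact ⟨(CochainComplex.HomComplex.Cochain.equivHomotopy f 0).symm
    ⟨β, by rw [hδ, CochainComplex.HomComplex.Cochain.ofHom_zero, add_zero]⟩⟩

end Groth.Agent.S0489
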