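import Groth.Statements.S0490
import Mathlib.CategoryTheory.Triangulated.Orthogonal
-- import your own Groth.Agent.* helpers here

set_option autoImplicit false
universe v u
open CategoryTheory
open CohDer

namespace Groth.Agent.S0490

open CategoryTheory.Pretriangulated in
/-- Let A be a full triangulated subcategory of a pretriangulated category D (an object property
containing zero, stable under shifts and closed under extensions). The inclusion A → D is a left
adjoint (i.e. has a right adjoint) if and only if every object X of D fits in a distinguished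
triangle A → X → B → A[1] with A in the subcategory and B right orthogonal to it. (The source's
further conclusions about saturation are not asserted.) -/
theorem result {D : Type u} [Category.{v} D] [Preadditive D] [Limits.HasZeroObject D] [HasShift D ℤ]
    [∀ n : ℤ, (shiftFunctor D n).Additive] [Pretriangulated D]
    (P : ObjectProperty D) [P.IsTriangulated] :
    P.ι.IsLeftAdjoint ↔ ∀ X : D, ∃ (A B : D) (f : A ⟶ X) (g : X ⟶ B) (h : B ⟶ (shiftFunctor D (1 : ℤ)).obj A),
      Triangle.mk f g h ∈ distinguishedTriangles ∧ P A ∧ P.rightOrthogonal B := by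
  constructor
  · intro hadj
    intro X
    let R := P.ι.rightAdjoint
    let adj : P.ι ⊣ R := Adjunction.ofIsLeftAdjoint P.ι
    let ε : (R.obj X).obj ⟶ X := adj.counit.app X
    obtain ⟨W, w, g, hT⟩ := Pretriangulated.distinguished_cocone_triangle₁ ε
    have hsurj : ∀ (Y : D), P Y → ∀ k : Y ⟶ X, ∃ u : Y ⟶ (R.obj X).obj, u ≫ ε = k := by
      intro Y hY k
      refine ⟨((adj.homEquiv ⟨Y, hY⟩ X) k).hom, ?_⟩
      have := (adj.homEquiv ⟨Y, hY⟩ X).symm_apply_apply k
      rw [Adjunction.homEquiv_counit] at this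
      exact this
    have hinj : ∀ (Y : D), P Y → ∀ u : Y ⟶ (R.obj X).obj, u ≫ ε = 0 → u = 0 := by
      intro Y hY u hu
      have h1 : (adj.homEquiv ⟨Y, hY⟩ X).symm (ObjectProperty.homMk u) =
          (adj.homEquiv ⟨Y, hY⟩ X).symm 0 := by
        rw [Adjunction.homEquiv_counit, Adjunction.homEquiv_counit]
        change u ≫ ε = (0 : (⟨Y, hY⟩ : P.FullSubcategory) ⟶ R.obj X).hom ≫ ε
        rw [hu]
        have : (0 : (⟨Y, hY⟩ : P.FullSubcategory) ⟶ R.obj X).hom = 0 := rfl
        rw [this, Limits.zero_comp]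
      have h2 := (adj.homEquiv ⟨Y, hY⟩ X).symm.injective h1
      have h3 := congrArg (fun w => w.hom) h2
      exact h3
    have hW : P.rightOrthogonal W := by
      intro Y f hY
      have hY1 : P (Y⟦(1 : ℤ)⟧) := P.le_shift 1 _ hY
      have h1 : f ≫ w = 0 := by
        apply hinj _ hY
        rw [Category.assoc]
        have : w ≫ ε = 0 := Pretriangulated.comp_distTriang_mor_zero₁₂ _ hT
        rw [this, Limits.comp_zero]
      have h1' : f⟦(1 : ℤ)⟧' ≫ w⟦(1 : ℤ)⟧' = 0 := by
        rw [← Functor.map_comp, h1, Functor.map_zero]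
      obtain ⟨k, hk⟩ : ∃ k : Y⟦(1 : ℤ)⟧ ⟶ X, f⟦(1 : ℤ)⟧' = k ≫ g :=
        Pretriangulated.Triangle.coyoneda_exact₁ _ hT (f⟦(1 : ℤ)⟧') h1'
      obtain ⟨u, hu⟩ := hsurj _ hY1 k
      have h2 : f⟦(1 : ℤ)⟧' = 0 := by
        rw [hk, ← hu, Category.assoc]
        have : ε ≫ g = 0 := Pretriangulated.comp_distTriang_mor_zero₂₃ _ hT
        rw [this, Limits.comp_zero]
      exact (shiftFunctor D (1 : ℤ)).map_injective (by rw [h2, Functor.map_zero])
    exact ⟨(R.obj X).obj, W⟦(1 : ℤ)⟧, ε, g, -w⟦(1 : ℤ)⟧',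
      Pretriangulated.rot_of_distTriang _ hT, (R.obj X).property,
      P.rightOrthogonal.le_shift 1 _ hW⟩
  · intro h
    choose A B f g c hT hA hB using h
    let G_obj : D → P.FullSubcategory := fun X => ⟨A X, hA X⟩
    have hbij : ∀ (Y : P.FullSubcategory) (X : D),
        Function.Bijective (fun u : Y ⟶ G_obj X => u.hom ≫ f X) := by
      intro Y X
      constructor
      · intro u u' huu'
        dsimp at huu'
        have h1 : (u.hom - u'.hom) ≫ f X = 0 := by
          rw [Preadditive.sub_comp, huu', sub_self]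
        have h1' : (u.hom - u'.hom)⟦(1 : ℤ)⟧' ≫ (f X)⟦(1 : ℤ)⟧' = 0 := by
          rw [← Functor.map_comp, h1, Functor.map_zero]
        obtain ⟨k, hk⟩ : ∃ k : (Y.obj)⟦(1 : ℤ)⟧ ⟶ B X, (u.hom - u'.hom)⟦(1 : ℤ)⟧' = k ≫ c X :=
          Pretriangulated.Triangle.coyoneda_exact₁ _ (hT X) _ h1'
        have hk0 : k = 0 := hB X k (P.le_shift 1 _ Y.property)
        rw [hk0, Limits.zero_comp] at hk
        have h2 : u.hom - u'.hom = 0 :=
          (shiftFunctor D (1 : ℤ)).map_injective (by rw [hk, Functor.map_zero])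
        apply ObjectProperty.hom_ext
        exact sub_eq_zero.mp h2
      · intro k
        have h1 : k ≫ g X = 0 := hB X (k ≫ g X) Y.property
        obtain ⟨u, hu⟩ : ∃ u : Y.obj ⟶ A X, k = u ≫ f X :=
          Pretriangulated.Triangle.coyoneda_exact₂ _ (hT X) k h1
        exact ⟨ObjectProperty.homMk u, hu.symm⟩
    let e' : ∀ (Y : P.FullSubcategory) (X : D), (Y ⟶ G_obj X) ≃ (P.ι.obj Y ⟶ X) :=
      fun Y X => Equiv.ofBijective _ (hbij Y X)
    let e : ∀ (Y : P.FullSubcategory) (X : D), (P.ι.obj Y ⟶ X) ≃ (Y ⟶ G_obj X) :=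
      fun Y X => (e' Y X).symm
    have he : ∀ Y' Y X (k : Y' ⟶ Y) (u : P.ι.obj Y ⟶ X),
        e Y' X (P.ι.map k ≫ u) = k ≫ e Y X u := by
      intro Y' Y X k u
      change (e' Y' X).symm (P.ι.map k ≫ u) = k ≫ (e' Y X).symm u
      rw [Equiv.symm_apply_eq]
      change k.hom ≫ u = (k ≫ (e' Y X).symm u).hom ≫ f X
      rw [ObjectProperty.FullSubcategory.comp_hom, Category.assoc]
      have : ((e' Y X).symm u).hom ≫ f X = u := (e' Y X).apply_symm_apply u
      rw [this]
    exact (Adjunction.adjunctionOfEquivRight e he).isLeftAdjoint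

end Groth.Agent.S0490
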