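import Groth.Statements.S0496
import Groth.Agent.Lib.Helper12.HenselConverse2
import Mathlib.Algebra.Polynomial.FieldDivision

set_option autoImplicit false
universe u
open Hensel

namespace Groth.Agent.S0496

/-- If every factorization of the reduction of a monic polynomial into two coprime factors over the
residue field lifts to a factorization over the local ring, then the local ring is henselian. -/
theorem result (R : Type u) [CommRing R] [IsLocalRing R]
    (h : ∀ f : Polynomial R, f.Monic →
      ∀ g₀ h₀ : Polynomial (IsLocalRing.ResidueField R), IsCoprime g₀ h₀ →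
      Polynomial.map (IsLocalRing.residue R) f = g₀ * h₀ →
      ∃ g h : Polynomial R, f = g * h ∧ Polynomial.map (IsLocalRing.residue R) g = g₀ ∧
        Polynomial.map (IsLocalRing.residue R) h = h₀) :
    HenselianLocalRing R := by
  open IsLocalRing Polynomial in
  refine ⟨fun f hf a₀ h₁ h₂ => ?_⟩
  set f' : (ResidueField R)[X] := f.map (residue R) with hf'
  set a' : ResidueField R := residue R a₀ with ha'
  have hroot : f'.IsRoot a' := by
    rw [IsRoot.def, hf', eval_map, eval₂_at_apply, residue_eq_zero_iff]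
    exact h₁
  have hder : f'.derivative.eval a' ≠ 0 := by
    rw [hf', derivative_map, eval_map, eval₂_at_apply, Ne, residue_eq_zero_iff]
    exact fun hh => hh h₂
  have hcop := isCoprime_of_is_root_of_eval_derivative_ne_zero f' a' hder
  have hfac : f' = (X - C a') * (f' /ₘ (X - C a')) :=
    (mul_divByMonic_eq_iff_isRoot.mpr hroot).symm
  obtain ⟨g, hh, hfgh, hg, hhh⟩ := h f hf _ _ hcop hfac
  have hq0 : (f' /ₘ (X - C a')).eval a' ≠ 0 := by
    have := divByMonic_add_X_sub_C_mul_derivative_divByMonic_eq_derivative f' a'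
    rw [← this] at hder
    simpa using hder
  have hgf : f.eval₂ (Algebra.ofId R (AdjoinRoot g)) (AdjoinRoot.root g) = 0 := by
    show aeval (AdjoinRoot.root g) f = 0
    rw [AdjoinRoot.aeval_eq, AdjoinRoot.mk_eq_zero]
    exact ⟨hh, hfgh⟩
  let p : AdjoinRoot f →ₐ[R] AdjoinRoot g :=
    AdjoinRoot.liftAlgHom f (Algebra.ofId R (AdjoinRoot g)) (AdjoinRoot.root g) hgf
  have hpmk : ∀ q, p (AdjoinRoot.mk f q) = AdjoinRoot.mk g q := by
    intro q
    show aeval (AdjoinRoot.root g) q = _
    rw [AdjoinRoot.aeval_eq]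
  have hp : Function.Surjective p := fun z => by
    obtain ⟨q, rfl⟩ := AdjoinRoot.mk_surjective z
    exact ⟨AdjoinRoot.mk f q, hpmk q⟩
  have hχ0 : g.eval₂ (residue R) a' = 0 := by
    rw [← eval_map, hg]
    simp
  let χ : AdjoinRoot g →+* ResidueField R := AdjoinRoot.lift (residue R) a' hχ0
  refine Groth.Agent.Lib.Helper12.exists_root_of_factor R f hf a₀ (AdjoinRoot g) p hp χ
    ?_ ?_ ?_ (AdjoinRoot.mk f hh) ?_ ?_
  · intro r
    show AdjoinRoot.lift (residue R) a' hχ0 (AdjoinRoot.of g r) = _
    rw [AdjoinRoot.lift_of]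
  · show χ (p (AdjoinRoot.root f)) = a'
    rw [AdjoinRoot.liftAlgHom_root]
    exact AdjoinRoot.lift_root _
  · rw [AdjoinRoot.liftAlgHom_root]
    -- coefficients of g - (X - C a₀) lie in the maximal ideal
    set t : R[X] := g - (X - C a₀) with ht
    have htm : ∀ i, t.coeff i ∈ maximalIdeal R := by
      intro i
      have : (t.map (residue R)) = 0 := by
        rw [ht, Polynomial.map_sub, hg]
        simp [ha']
      rw [← residue_eq_zero_iff, ← coeff_map, this, coeff_zero]
    have hx : aeval (AdjoinRoot.root g) g = 0 := by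
      rw [AdjoinRoot.aeval_eq, AdjoinRoot.mk_self]
    have hgt : g = (X - C a₀) + t := by rw [ht]; ring
    have hx2 : aeval (AdjoinRoot.root g) ((X - C a₀) + t) = 0 := by
      rw [← hgt]
      exact hx
    rw [map_add] at hx2
    have hx' : AdjoinRoot.root g - algebraMap R (AdjoinRoot g) a₀ =
        -aeval (AdjoinRoot.root g) t := by
      have : aeval (AdjoinRoot.root g) (X - C a₀) =
          AdjoinRoot.root g - algebraMap R (AdjoinRoot g) a₀ := by simp
      rw [← this]
      exact eq_neg_of_add_eq_zero_left hx2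
    rw [hx', Ideal.neg_mem_iff, aeval_eq_sum_range]
    refine Ideal.sum_mem _ (fun i _ => ?_)
    rw [Algebra.smul_def]
    exact Ideal.mul_mem_right _ _ (Ideal.mem_map_of_mem _ (htm i))
  · rw [hpmk]
    show AdjoinRoot.lift (residue R) a' hχ0 (AdjoinRoot.mk g hh) ≠ 0
    rw [AdjoinRoot.lift_mk, ← eval_map, hhh]
    exact hq0
  · intro b hb
    obtain ⟨q, rfl⟩ := AdjoinRoot.mk_surjective b
    rw [hpmk, AdjoinRoot.mk_eq_zero] at hb
    obtain ⟨c, rfl⟩ := hb
    rw [← map_mul, AdjoinRoot.mk_eq_zero]
    exact ⟨c, by rw [hfgh]; ring⟩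

end Groth.Agent.S0496
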