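import Groth.Statements.S0498
import Mathlib.Algebra.Polynomial.Taylor

set_option autoImplicit false
universe u
open Hensel

namespace Groth.Agent.S0498

open Polynomial IsLocalRing in
/-- A polynomial with constant coefficient in the maximal ideal and unit linear coefficient has a
root in the maximal ideal (no monicity assumption). -/
theorem exists_root_of_coeff (R : Type u) [CommRing R] [HenselianLocalRing R] (g : R[X])
    (h0 : g.coeff 0 ∈ maximalIdeal R) (h1 : IsUnit (g.coeff 1)) :
    ∃ x ∈ maximalIdeal R, g.eval x = 0 := by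
  classical
  set n := g.natDegree with hn
  set c := g.coeff with hc
  let k : R[X] := X ^ (n + 2) + ∑ i ∈ Finset.range (n + 1), C (c (i + 1) * c 0 ^ i) * X ^ (n + 1 - i)
  have hk : k.Monic := by
    apply monic_X_pow_add
    refine lt_of_le_of_lt (degree_sum_le _ _) ?_
    rw [Finset.sup_lt_iff (by exact WithBot.bot_lt_coe _)]
    intro i hi
    refine lt_of_le_of_lt (degree_C_mul_X_pow_le _ _) ?_
    exact_mod_cast (by omega : n + 1 - i < n + 2)
  have hres0 : residue R (c 0) = 0 := (residue_eq_zero_iff _).mpr h0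
  have hmap : k.map (residue R) = X ^ (n + 1) * (X + C (residue R (c 1))) := by
    simp only [k, Polynomial.map_add, Polynomial.map_pow, map_X, Polynomial.map_sum,
      Polynomial.map_mul, map_C, _root_.map_mul, _root_.map_pow, hres0]
    rw [Finset.sum_eq_single 0]
    · simp; ring
    · intro i _ hi
      simp [zero_pow hi]
    · simp
  have hu : residue R (c 1) ≠ 0 := by
    rw [Ne, residue_eq_zero_iff]
    exact fun h => (mem_maximalIdeal _).mp h h1
  have hR : HenselianLocalRing R := inferInstance
  have H := ((HenselianLocalRing.TFAE R).out 0 2).mp hR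
  obtain ⟨z, hz, hz'⟩ := H (residue R) residue_surjective k hk (-(residue R (c 1))) (by
    rw [eval₂_eq_eval_map, hmap]; simp) (by
    rw [eval₂_eq_eval_map, ← derivative_map, hmap]
    simp [derivative_mul, hu])
  have hzu : IsUnit z := by
    rw [← residue_ne_zero_iff_isUnit, hz']
    exact neg_ne_zero.mpr hu
  obtain ⟨u, rfl⟩ := hzu
  refine ⟨c 0 * ↑u⁻¹, Ideal.mul_mem_right _ _ h0, ?_⟩
  have key : (↑u : R) ^ (n + 2) * g.eval (c 0 * ↑u⁻¹) = c 0 * k.eval ↑u := by
    rw [eval_eq_sum_range' (show g.natDegree < n + 2 by omega), Finset.sum_range_succ',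
      eval_add, eval_pow, eval_X, eval_finsetSum, mul_add, mul_add, Finset.mul_sum,
      Finset.mul_sum, add_comm (c 0 * _)]
    congr 1
    · apply Finset.sum_congr rfl
      intro i hi
      rw [Finset.mem_range] at hi
      have e : n + 2 = (n + 1 - i) + (i + 1) := by omega
      simp only [eval_mul, eval_C, eval_pow, eval_X]
      rw [e, pow_add, mul_pow]
      have : (↑u : R) ^ (i + 1) * (↑u⁻¹ : R) ^ (i + 1) = 1 := by
        rw [← mul_pow, Units.mul_inv, one_pow]
      calc (↑u : R) ^ (n + 1 - i) * ↑u ^ (i + 1) * (g.coeff (i + 1) * (c 0 ^ (i + 1) * ↑u⁻¹ ^ (i + 1)))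
          = ↑u ^ (n + 1 - i) * (g.coeff (i + 1) * c 0 ^ (i + 1)) *
              (↑u ^ (i + 1) * ↑u⁻¹ ^ (i + 1)) := by ring
        _ = c 0 * (c (i + 1) * c 0 ^ i * ↑u ^ (n + 1 - i)) := by rw [this]; ring
    · simp; ring
  have hz0 : k.eval ↑u = 0 := hz
  rw [hz0, mul_zero] at key
  exact (IsUnit.mul_right_eq_zero (u.isUnit.pow _)).mp key

/-- Over a henselian local ring, a simple root in the residue field of the reduction of an arbitrary
polynomial (monic or not) lifts to a root in the ring. -/
theorem result (R : Type u) [CommRing R] [HenselianLocalRing R]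
    (f : Polynomial R) (a₀ : IsLocalRing.ResidueField R)
    (h₁ : Polynomial.eval₂ (IsLocalRing.residue R) a₀ f = 0)
    (h₂ : Polynomial.eval₂ (IsLocalRing.residue R) a₀ (Polynomial.derivative f) ≠ 0) :
    ∃ a : R, Polynomial.IsRoot f a ∧ IsLocalRing.residue R a = a₀ := by
  obtain ⟨a₁, rfl⟩ := IsLocalRing.residue_surjective a₀
  rw [Polynomial.eval₂_at_apply] at h₁ h₂
  obtain ⟨x, hx, hx'⟩ := exists_root_of_coeff R (Polynomial.taylor a₁ f)
    (by rw [Polynomial.taylor_coeff_zero]; exact (IsLocalRing.residue_eq_zero_iff _).mp h₁)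
    (by rw [Polynomial.taylor_coeff_one]
        exact (IsLocalRing.residue_ne_zero_iff_isUnit _).mp h₂)
  rw [Polynomial.taylor_eval] at hx'
  refine ⟨x + a₁, hx', ?_⟩
  rw [map_add, (IsLocalRing.residue_eq_zero_iff _).mpr hx, zero_add]

end Groth.Agent.S0498
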