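import Groth.Statements.S0502
import Mathlib.RingTheory.Etale.StandardEtale
import Mathlib.RingTheory.LocalRing.ResidueField.Ideal
-- import your own Groth.Agent.* helpers here

set_option autoImplicit false
universe u
open Hensel

namespace Groth.Agent.S0502

/-- A local ring `R` is henselian as soon as every étale `R`-algebra having a prime over the maximal
ideal with trivial residue field extension admits an `R`-algebra retraction to `R`. -/
theorem result (R : Type u) [CommRing R] [IsLocalRing R]
    (h : ∀ (S : Type u) [CommRing S] [Algebra R S] [Algebra.Etale R S] (q : Ideal S) [q.IsPrime],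
      q.LiesOver (IsLocalRing.maximalIdeal R) → Function.Surjective (algebraMap R q.ResidueField) →
      Nonempty (S →ₐ[R] R)) :
    HenselianLocalRing R := by
  open Polynomial in
  refine { is_henselian := ?_ }
  intro f hf a₀ h₁ h₂
  set q := f /ₘ (X - C a₀) with hqdef
  have hq : f = (X - C a₀) * q + C (f.eval a₀) := by
    have := Polynomial.modByMonic_add_div f (X - C a₀)
    rw [Polynomial.modByMonic_X_sub_C_eq_C_eval] at this
    rw [add_comm] at this
    exact this.symm
  have hq₀ : q.eval a₀ = f.derivative.eval a₀ := by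
    have := congrArg (fun p => (derivative p).eval a₀) hq
    simp only [derivative_add, derivative_mul, derivative_sub, derivative_X, derivative_C,
      sub_zero, one_mul, eval_add, eval_mul, eval_sub, eval_X, eval_C, sub_self, zero_mul,
      add_zero] at this
    exact this.symm
  let P : StandardEtalePair R := ⟨f, hf, derivative f * q, ⟨q, 0, 1, by ring⟩⟩
  -- the map to the residue field
  have hmap : P.HasMap (IsLocalRing.residue R a₀) := by
    have key : ∀ p : R[X], aeval (IsLocalRing.residue R a₀) p = IsLocalRing.residue R (p.eval a₀) := by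
      intro p
      rw [← IsLocalRing.ResidueField.algebraMap_eq, Polynomial.aeval_algebraMap_apply,
        Polynomial.coe_aeval_eq_eval]
    refine ⟨?_, ?_⟩
    · show aeval (IsLocalRing.residue R a₀) f = 0
      rw [key]
      exact (IsLocalRing.residue_eq_zero_iff _).2 h₁
    · show IsUnit (aeval (IsLocalRing.residue R a₀) (derivative f * q))
      rw [key, eval_mul, hq₀]
      exact (h₂.mul h₂).map _
  let ψ : P.Ring →ₐ[R] IsLocalRing.ResidueField R := P.lift _ hmap
  have hψsurj : Function.Surjective ψ := by
    intro x
    obtain ⟨r, rfl⟩ := IsLocalRing.residue_surjective x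
    exact ⟨algebraMap R P.Ring r, by rw [AlgHom.commutes, IsLocalRing.ResidueField.algebraMap_eq]⟩
  let 𝔮 : Ideal P.Ring := RingHom.ker ψ.toRingHom
  have hmax : 𝔮.IsMaximal := RingHom.ker_isMaximal_of_surjective ψ.toRingHom hψsurj
  have hprime : 𝔮.IsPrime := hmax.isPrime
  have hlies : 𝔮.LiesOver (IsLocalRing.maximalIdeal R) := by
    refine ⟨?_⟩
    ext r
    rw [Ideal.under_def, Ideal.mem_comap, RingHom.mem_ker]
    show _ ↔ ψ (algebraMap R P.Ring r) = 0
    rw [AlgHom.commutes, IsLocalRing.ResidueField.algebraMap_eq, IsLocalRing.residue_eq_zero_iff]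
  have hres : Function.Surjective (algebraMap R 𝔮.ResidueField) := by
    intro x
    obtain ⟨s, rfl⟩ := Ideal.algebraMap_residueField_surjective 𝔮 x
    obtain ⟨r, hr⟩ := IsLocalRing.residue_surjective (ψ s)
    refine ⟨r, ?_⟩
    rw [IsScalarTower.algebraMap_apply R P.Ring 𝔮.ResidueField]
    have hmem : algebraMap R P.Ring r - s ∈ 𝔮 := by
      show ψ.toRingHom _ = 0
      rw [map_sub]
      show ψ (algebraMap R P.Ring r) - ψ s = 0
      rw [AlgHom.commutes, IsLocalRing.ResidueField.algebraMap_eq, hr, sub_self]
    have := (Ideal.algebraMap_residueField_eq_zero (I := 𝔮)).2 hmem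
    rw [map_sub, sub_eq_zero] at this
    exact this
  obtain ⟨ρ⟩ := h P.Ring 𝔮 hlies hres
  have hρ : P.HasMap (ρ P.X) := StandardEtalePair.hasMap_X.map ρ
  obtain ⟨hroot, hunit⟩ := hρ
  set a := ρ P.X with ha
  have hroot' : f.eval a = 0 := by
    have : aeval a f = 0 := hroot
    rwa [Polynomial.coe_aeval_eq_eval] at this
  have hunit' : IsUnit (q.eval a) := by
    have : IsUnit (aeval a (derivative f * q)) := hunit
    rw [Polynomial.coe_aeval_eq_eval, eval_mul] at this
    exact isUnit_of_mul_isUnit_right this
  refine ⟨a, hroot', ?_⟩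
  have h3 := congrArg (fun p => p.eval a) hq
  simp only [eval_add, eval_mul, eval_sub, eval_X, eval_C] at h3
  rw [hroot'] at h3
  have h4 : (a - a₀) * q.eval a ∈ IsLocalRing.maximalIdeal R := by
    have : (a - a₀) * q.eval a = -(f.eval a₀) := by linear_combination -h3
    rw [this]
    exact neg_mem h₁
  rcases (IsLocalRing.maximalIdeal.isMaximal R).isPrime.mem_or_mem h4 with h5 | h5
  · exact h5
  · exact absurd hunit' ((IsLocalRing.mem_maximalIdeal _).1 h5)

end Groth.Agent.S0502
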