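import Groth.Statements.S0503
import Groth.Agent.Lib.Helper12.HenselGlue

set_option autoImplicit false
universe u
open Hensel

namespace Groth.Agent.S0503

/-- A finite-type quasi-finite algebra `S` over a henselian local ring `R` contains an idempotent `e`
such that `S/(1-e)` is finitely generated as an `R`-module and the maximal ideal of `R` generates
the unit ideal of `S/(e)`; in other words `S` is a product of a module-finite algebra and an algebra
whose fibre over the closed point is empty. -/
theorem result (R : Type u) [CommRing R] [HenselianLocalRing R]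
    (S : Type u) [CommRing S] [Algebra R S] [Algebra.FiniteType R S] [Algebra.QuasiFinite R S] :
    ∃ e : S, IsIdempotentElem e ∧ Module.Finite R (S ⧸ Ideal.span ({1 - e} : Set S)) ∧
      Ideal.map (algebraMap R (S ⧸ Ideal.span ({e} : Set S))) (IsLocalRing.maximalIdeal R) = ⊤ := by
  open IsLocalRing in
  obtain ⟨e, he, h1, hfin, -⟩ := Groth.Agent.Lib.Helper12.exists_idem_finite_of_finset R S
    ((maximalIdeal R).primesOver S) (Algebra.QuasiFinite.finite_primesOver _)
    (fun q hq => ⟨hq.1, hq.2, inferInstance⟩)
  refine ⟨e, he, hfin, ?_⟩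
  by_contra hne
  obtain ⟨M, hM, hle⟩ := Ideal.exists_le_maximal _ hne
  let q' : Ideal S := Ideal.comap (Ideal.Quotient.mk (Ideal.span {e})) M
  have hq'p : q'.IsPrime := Ideal.comap_isPrime _ _
  have hq'm : q'.LiesOver (maximalIdeal R) := by
    refine ⟨?_⟩
    symm
    apply IsLocalRing.eq_maximalIdeal
    have hmle : maximalIdeal R ≤ Ideal.comap (algebraMap R S) q' := by
      intro r hr
      rw [Ideal.mem_comap, Ideal.mem_comap]
      exact hle (Ideal.mem_map_of_mem _ hr)
    have hprime : (Ideal.comap (algebraMap R S) q').IsPrime := Ideal.comap_isPrime _ _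
    have := (IsLocalRing.maximalIdeal.isMaximal R).eq_of_le hprime.ne_top hmle
    show (Ideal.comap (algebraMap R S) q').IsMaximal
    rw [← this]
    exact IsLocalRing.maximalIdeal.isMaximal R
  have heq' : e ∈ q' := by
    rw [Ideal.mem_comap, Ideal.Quotient.eq_zero_iff_mem.mpr (Ideal.mem_span_singleton_self e)]
    exact M.zero_mem
  exact h1 q' ⟨hq'p, hq'm⟩ heq'

end Groth.Agent.S0503
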