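import Groth.Statements.S0504
import Groth.Agent.Lib.Helper12.HenselGlue
import Groth.Agent.Lib.Helper12.QuasiFiniteAtAux

set_option autoImplicit false
universe u
open Hensel

namespace Groth.Agent.S0504

/-- A finite-type algebra `S` over a henselian local ring `R` contains an idempotent `e` such that
`S/(1-e)` is finitely generated as an `R`-module and `R → S/(e)` is quasi-finite at no prime lying
over the maximal ideal of `R`. -/
theorem result (R : Type u) [CommRing R] [HenselianLocalRing R]
    (S : Type u) [CommRing S] [Algebra R S] [Algebra.FiniteType R S] :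
    ∃ e : S, IsIdempotentElem e ∧ Module.Finite R (S ⧸ Ideal.span ({1 - e} : Set S)) ∧
      ∀ (q : Ideal (S ⧸ Ideal.span ({e} : Set S))) [q.IsPrime],
        q.LiesOver (IsLocalRing.maximalIdeal R) → ¬ Algebra.QuasiFiniteAt R q := by
  open IsLocalRing in
  obtain ⟨e, he, h1, hfin, -⟩ := Groth.Agent.Lib.Helper12.exists_idem_finite_of_finset R S
    {q : Ideal S | ∃ (_ : q.IsPrime), q.LiesOver (maximalIdeal R) ∧ Algebra.QuasiFiniteAt R q}
    (Groth.Agent.Lib.Helper12.finite_quasiFiniteAt_primesOver R S (maximalIdeal R))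
    (fun q hq => hq)
  refine ⟨e, he, hfin, ?_⟩
  intro q hq hqm hqf
  let q' : Ideal S := Ideal.comap (Ideal.Quotient.mk (Ideal.span {e})) q
  have hq'p : q'.IsPrime := Ideal.comap_isPrime _ _
  have hq'm : q'.LiesOver (maximalIdeal R) := by
    refine ⟨?_⟩
    rw [hqm.over]
    show _ = Ideal.comap (algebraMap R S) (Ideal.comap _ q)
    rw [Ideal.comap_comap]
    rfl
  have hq'f : Algebra.QuasiFiniteAt R q' :=
    Groth.Agent.Lib.Helper12.quasiFiniteAt_of_quotient_idem e he q q' rfl
  have heq' : e ∈ q' := by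
    rw [Ideal.mem_comap, Ideal.Quotient.eq_zero_iff_mem.mpr (Ideal.mem_span_singleton_self e)]
    exact q.zero_mem
  exact h1 q' ⟨hq'p, hq'm, hq'f⟩ heq'

end Groth.Agent.S0504
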