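import Groth.Statements.S0510
import Groth.Agent.Lib.Helper29.HenselUniv

set_option autoImplicit false
universe u
open Hensel

namespace Groth.Agent.S0510

/-- For a local ring `R` with henselization `S` and every `n`, the natural map from `R` modulo the
`n`-th power of its maximal ideal to `S` modulo the extension of that power is a bijection. -/
theorem result (R : Type u) [CommRing R] [IsLocalRing R] (S : Type u) [CommRing S] [IsLocalRing S]
    [Algebra R S] [IsLocalHom (algebraMap R S)] [Hensel.IsHenselization R S] (n : ℕ) :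
    Function.Bijective (Ideal.quotientMap
      (Ideal.map (algebraMap R S) (IsLocalRing.maximalIdeal R ^ n)) (algebraMap R S)
      Ideal.le_comap_map) := by
  rcases Nat.eq_zero_or_pos n with hn | hn
  · subst hn
    have h1 : Subsingleton (R ⧸ IsLocalRing.maximalIdeal R ^ 0) := by
      rw [pow_zero]; exact Ideal.Quotient.subsingleton_iff.2 Ideal.one_eq_top
    have h2 : Subsingleton (S ⧸ Ideal.map (algebraMap R S) (IsLocalRing.maximalIdeal R ^ 0)) := by
      rw [pow_zero, Ideal.one_eq_top, Ideal.map_top]; exact Ideal.Quotient.subsingleton_iff.2 rfl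
    exact ⟨fun a b _ => Subsingleton.elim a b, fun y => ⟨0, Subsingleton.elim _ _⟩⟩
  · have hle : IsLocalRing.maximalIdeal R ^ n ≤ IsLocalRing.maximalIdeal R := Ideal.pow_le_self hn.ne'
    haveI : Nontrivial (R ⧸ IsLocalRing.maximalIdeal R ^ n) :=
      Ideal.Quotient.nontrivial_iff.2 (fun h => by
        have : (1 : R) ∈ IsLocalRing.maximalIdeal R := hle (h ▸ Submodule.mem_top)
        exact (Ideal.ne_top_iff_one _).1 (IsLocalRing.maximalIdeal.isMaximal R).ne_top this)
    haveI : IsLocalRing (R ⧸ IsLocalRing.maximalIdeal R ^ n) :=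
      IsLocalRing.of_surjective' (Ideal.Quotient.mk _) Ideal.Quotient.mk_surjective
    haveI : IsLocalHom (Ideal.Quotient.mk (IsLocalRing.maximalIdeal R ^ n)) :=
      IsLocalHom.of_surjective _ Ideal.Quotient.mk_surjective
    haveI : HenselianLocalRing (R ⧸ IsLocalRing.maximalIdeal R ^ n) := by
      apply Groth.Agent.Lib.Helper29.henselian_of_nil
      intro x hx
      obtain ⟨y, rfl⟩ := Ideal.Quotient.mk_surjective x
      have hy : y ∈ IsLocalRing.maximalIdeal R := by
        rw [IsLocalRing.mem_maximalIdeal, mem_nonunits_iff] at hx ⊢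
        exact fun hu => hx (hu.map _)
      refine ⟨n, ?_⟩
      rw [← map_pow, Ideal.Quotient.eq_zero_iff_mem]
      exact Ideal.pow_mem_pow hy n
    exact Groth.Agent.Lib.Helper29.quot_bijective R S (IsLocalRing.maximalIdeal R ^ n)


end Groth.Agent.S0510
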