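import Groth.Statements.S0512
import Groth.Agent.Lib.Helper12.HenselizationDim

set_option autoImplicit false
universe u
open Hensel

namespace Groth.Agent.S0512

/-- The henselization of a local ring has the same Krull dimension as the ring. -/
theorem result (R : Type u) [CommRing R] [IsLocalRing R] (S : Type u) [CommRing S] [IsLocalRing S]
    [Algebra R S] [IsLocalHom (algebraMap R S)] [Hensel.IsHenselization R S] :
    ringKrullDim S = ringKrullDim R := by
  obtain ⟨e⟩ := Groth.Agent.Lib.Helper12.Henselization.nonempty_algEquiv (A := R) S
  rw [ringKrullDim_eq_of_ringEquiv e.toRingEquiv]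
  exact Groth.Agent.Lib.Helper12.Henselization.ringKrullDim_eq R

end Groth.Agent.S0512
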