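import Groth.Statements.S0516
import Groth.Agent.S0503
import Groth.Agent.Lib.Helper12.HenselFinite
import Groth.Agent.Lib.Helper12.UnramifiedLocal
import Mathlib.RingTheory.Unramified.LocalStructure

set_option autoImplicit false
universe u
open Hensel

namespace Groth.Agent.S0516

/-- An unramified algebra `S` (formally unramified of finite type) over a strictly henselian local ring
`R` is isomorphic over `R` to a product of finitely many quotient rings of `R` and an `R`-algebra in
which the maximal ideal of `R` generates the unit ideal. -/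
theorem result (R : Type u) [CommRing R]
    [HenselianLocalRing R] [IsSepClosed (IsLocalRing.ResidueField R)] (S : Type u) [CommRing S] [Algebra R S]
    [Algebra.Unramified R S] :
    ∃ (ι : Type u) (_ : Fintype ι) (A : ι → Type u) (_ : ∀ i, CommRing (A i))
      (_ : ∀ i, Algebra R (A i)) (B : Type u) (_ : CommRing B) (_ : Algebra R B),
      (∀ i, Function.Surjective (algebraMap R (A i))) ∧
      Ideal.map (algebraMap R B) (IsLocalRing.maximalIdeal R) = ⊤ ∧
      Nonempty (S ≃ₐ[R] ((∀ i, A i) × B)) := by
  obtain ⟨e, he, hfin, hB⟩ := Groth.Agent.S0503.result R S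
  obtain ⟨ι, hι, ε, hε, hloc⟩ :=
    Groth.Agent.Lib.Helper12.exists_completeOrthogonalIdempotents_isLocalRing R
      (S ⧸ Ideal.span ({1 - e} : Set S))
  refine ⟨ι, hι, fun i => (S ⧸ Ideal.span ({1 - e} : Set S)) ⧸ Ideal.span {1 - ε i},
    fun i => inferInstance, fun i => inferInstance, S ⧸ Ideal.span ({e} : Set S), inferInstance,
    inferInstance, ?_, hB, ?_⟩
  · intro i
    have := hloc i
    have h1 : Algebra.FormallyUnramified R (S ⧸ Ideal.span ({1 - e} : Set S)) :=
      Algebra.FormallyUnramified.comp R S _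
    have h2 : Algebra.FormallyUnramified R
        ((S ⧸ Ideal.span ({1 - e} : Set S)) ⧸ Ideal.span {1 - ε i}) :=
      Algebra.FormallyUnramified.comp R (S ⧸ Ideal.span ({1 - e} : Set S)) _
    exact Groth.Agent.Lib.Helper12.surjective_algebraMap_of_unramified_of_isSepClosed
  · let e₁ : S ≃ₐ[R] (S ⧸ Ideal.span ({1 - e} : Set S)) × (S ⧸ Ideal.span ({e} : Set S)) :=
      AlgEquiv.prodQuotientOfIsIdempotentElem R he.one_sub he (by ring)
        (by rw [sub_mul, one_mul, he.eq, sub_self])
    let g : (S ⧸ Ideal.span ({1 - e} : Set S)) →ₐ[R]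
        (∀ i, (S ⧸ Ideal.span ({1 - e} : Set S)) ⧸ Ideal.span {1 - ε i}) :=
      AlgHom.pi (fun i => Ideal.Quotient.mkₐ R (Ideal.span {1 - ε i}))
    have hg : Function.Bijective g := hε.bijective_pi
    let e₂ := AlgEquiv.ofBijective g hg
    exact ⟨e₁.trans (AlgEquiv.prodCongr e₂ AlgEquiv.refl)⟩

end Groth.Agent.S0516
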