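import Groth.Statements.S0519
import Groth.Agent.S0505
import Groth.Agent.Lib.Helper12.HenselFinite
import Groth.Agent.Lib.Helper12.HenselUnique
import Groth.Agent.Lib.Helper12.UnramifiedLocal
import Groth.Agent.Lib.Helper12.ResidueTensor

set_option autoImplicit false
universe u
open Hensel

namespace Groth.Agent.S0519

open IsLocalRing TensorProduct in
/-- Lifting a map of special fibres into one henselian local factor. -/
theorem exists_lift_factor (R : Type u) [CommRing R] [HenselianLocalRing R]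
    (S₁ S₂ A : Type u) [CommRing S₁] [CommRing S₂] [CommRing A] [Algebra R S₁]
    [Algebra.Etale R S₁] [Algebra R S₂] [Algebra R A] [HenselianLocalRing A]
    [IsLocalHom (algebraMap R A)] (π : S₂ →ₐ[R] A)
    (Φ : ResidueField R ⊗[R] S₁ →ₐ[ResidueField R] ResidueField R ⊗[R] S₂) :
    ∃ φj : S₁ →ₐ[R] A, ∀ (a : S₁) (s : S₂),
      Φ ((1 : ResidueField R) ⊗ₜ[R] a) = (1 : ResidueField R) ⊗ₜ[R] s →
        φj a - π s ∈ maximalIdeal A := by
  let ρ : ResidueField R ⊗[R] S₂ →ₐ[R] ResidueField A :=
    Algebra.TensorProduct.lift (IsScalarTower.toAlgHom R (ResidueField R) (ResidueField A))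
      ((IsScalarTower.toAlgHom R A (ResidueField A)).comp π) (fun _ _ => Commute.all _ _)
  have hρ : ∀ s : S₂, ρ ((1 : ResidueField R) ⊗ₜ[R] s) = residue A (π s) := by
    intro s
    simp [ρ]
  let χ : S₁ →ₐ[R] ResidueField A :=
    ρ.comp ((Φ.restrictScalars R).comp Algebra.TensorProduct.includeRight)
  have hχ : ∀ a, χ a = ρ (Φ ((1 : ResidueField R) ⊗ₜ[R] a)) := fun a => rfl
  let q : Ideal S₁ := RingHom.ker χ.toRingHom
  have hq : q.IsPrime := RingHom.ker_isPrime _
  let τ : q.ResidueField →+* ResidueField A :=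
    Ideal.ResidueField.lift q χ.toRingHom le_rfl (by
      intro a ha
      rw [Submonoid.mem_comap, IsUnit.mem_submonoid_iff, isUnit_iff_ne_zero]
      exact ha)
  have hτa : ∀ a, τ (algebraMap S₁ q.ResidueField a) = χ a := fun a =>
    Ideal.ResidueField.lift_algebraMap _ _ _ _ a
  have hτ : τ.comp (algebraMap R q.ResidueField) = (residue A).comp (algebraMap R A) := by
    ext r
    rw [RingHom.comp_apply, IsScalarTower.algebraMap_apply R S₁ q.ResidueField, hτa,
      AlgHom.commutes, RingHom.comp_apply, IsScalarTower.algebraMap_apply R A (ResidueField A),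
      ResidueField.algebraMap_eq]
  obtain ⟨φj, ⟨-, hφj⟩, -⟩ := Groth.Agent.S0501.result R A S₁ q τ hτ
  refine ⟨φj, fun a s has => ?_⟩
  rw [← residue_eq_zero_iff, map_sub, hφj, hτa, hχ, has, hρ, sub_self]

/-- Over a henselian local ring `R` with residue field `κ`, base change to `κ` gives a bijection between
`R`-algebra maps of two finite étale `R`-algebras and `κ`-algebra maps of their base changes. -/
theorem result (R : Type u) [CommRing R]
    [HenselianLocalRing R] (S₁ S₂ : Type u) [CommRing S₁] [CommRing S₂] [Algebra R S₁]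
    [Algebra R S₂] [Module.Finite R S₁] [Algebra.Etale R S₁] [Module.Finite R S₂]
    [Algebra.Etale R S₂] :
    Function.Bijective (fun φ : S₁ →ₐ[R] S₂ =>
      Algebra.TensorProduct.map (AlgHom.id (IsLocalRing.ResidueField R) (IsLocalRing.ResidueField R)) φ) := by
  open IsLocalRing TensorProduct in
  obtain ⟨ι, hι, ε, hε, hloc⟩ :=
    Groth.Agent.Lib.Helper12.exists_completeOrthogonalIdempotents_isLocalRing R S₂
  let π : ∀ j, S₂ →ₐ[R] (S₂ ⧸ Ideal.span {1 - ε j}) := fun j => Ideal.Quotient.mkₐ R _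
  have hπ0 : ∀ s : S₂, (∀ j, π j s = 0) → s = 0 := by
    intro s hs
    apply hε.bijective_pi.1
    ext j
    exact hs j
  have hhens : ∀ j, HenselianLocalRing (S₂ ⧸ Ideal.span {1 - ε j}) := fun j => by
    have := hloc j
    exact Groth.Agent.S0505.result R _
  have hlh : ∀ j, IsLocalHom (algebraMap R (S₂ ⧸ Ideal.span {1 - ε j})) := fun j => by
    have := hloc j
    exact Groth.Agent.Lib.Helper12.isLocalHom_of_finite
  have hmax : ∀ j, (maximalIdeal R).map (algebraMap R (S₂ ⧸ Ideal.span {1 - ε j})) =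
      @maximalIdeal _ _ (hloc j) := fun j => by
    have := hloc j
    have := hlh j
    have : Algebra.FormallyUnramified R (S₂ ⧸ Ideal.span {1 - ε j}) :=
      Algebra.FormallyUnramified.comp R S₂ _
    exact Algebra.FormallyUnramified.map_maximalIdeal
  constructor
  · intro φ ψ h
    have h1 : ∀ a, φ a - ψ a ∈ Ideal.map (algebraMap R S₂) (maximalIdeal R) := by
      intro a
      have h3 := DFunLike.congr_fun h ((1 : ResidueField R) ⊗ₜ[R] a)
      simp only [Algebra.TensorProduct.map_tmul, AlgHom.id_apply] at h3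
      have h2 : (1 : ResidueField R) ⊗ₜ[R] (φ a - ψ a) = 0 := by
        rw [tmul_sub, h3, sub_self]
      rw [Groth.Agent.Lib.Helper12.one_tmul_eq_zero_iff, Ideal.smul_top_eq_map] at h2
      exact h2
    apply AlgHom.ext
    intro a
    rw [← sub_eq_zero]
    apply hπ0
    intro j
    rw [map_sub, sub_eq_zero]
    have hj : (π j).comp φ = (π j).comp ψ := by
      have := hhens j
      apply Groth.Agent.Lib.Helper12.algHom_eq_of_sub_mem_maximalIdeal R
        (S₂ ⧸ Ideal.span {1 - ε j}) S₁
      intro a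
      show π j (φ a) - π j (ψ a) ∈ _
      rw [← map_sub, ← hmax j, IsScalarTower.algebraMap_eq R S₂ (S₂ ⧸ Ideal.span {1 - ε j}),
        ← Ideal.map_map]
      exact Ideal.mem_map_of_mem _ (h1 a)
    exact DFunLike.congr_fun hj a
  · intro Φ
    have key : ∀ j, ∃ φj : S₁ →ₐ[R] (S₂ ⧸ Ideal.span {1 - ε j}), ∀ (a : S₁) (s : S₂),
        Φ ((1 : ResidueField R) ⊗ₜ[R] a) = (1 : ResidueField R) ⊗ₜ[R] s →
          φj a - π j s ∈ @maximalIdeal _ _ (hloc j) := fun j => by
      have := hhens j
      have := hlh j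
      exact exists_lift_factor R S₁ S₂ _ (π j) Φ
    choose φj hφj using key
    let E : S₂ ≃ₐ[R] (∀ j, S₂ ⧸ Ideal.span {1 - ε j}) :=
      AlgEquiv.ofBijective (AlgHom.pi π) hε.bijective_pi
    let φ : S₁ →ₐ[R] S₂ := E.symm.toAlgHom.comp (AlgHom.pi φj)
    have hφ : ∀ a j, π j (φ a) = φj j a := by
      intro a j
      have : E (φ a) = AlgHom.pi φj a := E.apply_symm_apply _
      exact congrFun this j
    refine ⟨φ, ?_⟩
    apply Algebra.TensorProduct.ext
    · ext
    · ext a
      show (1 : ResidueField R) ⊗ₜ[R] φ a = Φ ((1 : ResidueField R) ⊗ₜ[R] a)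
      obtain ⟨s, hs⟩ := Groth.Agent.Lib.Helper12.exists_one_tmul_eq R
        (Φ ((1 : ResidueField R) ⊗ₜ[R] a))
      rw [← hs, ← sub_eq_zero, ← tmul_sub, Groth.Agent.Lib.Helper12.one_tmul_eq_zero_iff,
        Ideal.smul_top_eq_map]
      show φ a - s ∈ Ideal.map (algebraMap R S₂) (maximalIdeal R)
      apply Groth.Agent.Lib.Helper12.mem_map_of_forall_quotient ε hε
      intro j
      rw [hmax j]
      show π j (φ a - s) ∈ _
      rw [map_sub, hφ]
      exact hφj j a s hs.symm

end Groth.Agent.S0519
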