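import Groth.Statements.S0526
import Groth.Agent.Lib.Helper12.IdemLiftConverse

set_option autoImplicit false
universe u
open Hensel

namespace Groth.Agent.S0526

/-- If `A` is Henselian at `I` and `B` is an integral `A`-algebra, then `B` is Henselian at `IB`. -/
theorem result (A : Type u) [CommRing A] (I : Ideal A) [HenselianRing A I] (B : Type u) [CommRing B]
    [Algebra A B] [Algebra.IsIntegral A B] : HenselianRing B (Ideal.map (algebraMap A B) I) := by
  apply Groth.Agent.Lib.Helper12.henselianRing_of_idemLiftFinite
  intro C _ _ hfin
  haveI := hfin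
  letI : Algebra A C := Algebra.compHom C (algebraMap A B)
  haveI : IsScalarTower A B C := IsScalarTower.of_algebraMap_eq (fun _ => rfl)
  haveI : Algebra.IsIntegral B C := inferInstance
  haveI : Algebra.IsIntegral A C := Algebra.IsIntegral.trans B
  have key : Ideal.map (algebraMap B C) (Ideal.map (algebraMap A B) I) =
      Ideal.map (algebraMap A C) I := by
    rw [Ideal.map_map, ← IsScalarTower.algebraMap_eq]
  have transport : ∀ (J J' : Ideal C), J' = J →
      Set.BijOn (Ideal.Quotient.mk J) {e : C | IsIdempotentElem e} {e | IsIdempotentElem e} →
      Set.BijOn (Ideal.Quotient.mk J') {e : C | IsIdempotentElem e} {e | IsIdempotentElem e} := by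
    intro J J' h hb
    subst h
    exact hb
  exact transport _ _ key
    (Groth.Agent.Lib.Helper12.bijOn_idempotents_of_isIntegral HenselianRing.jac
      (Groth.Agent.Lib.Helper12.factorLift_of_henselianRing (I := I)) C)

end Groth.Agent.S0526
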