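import Groth.Statements.S0533
import Groth.Agent.Lib.Helper12.FiniteEtaleHom

set_option autoImplicit false
universe u
open Hensel

namespace Groth.Agent.S0533

/-- If `A` is Henselian at `I`, base change to `A/I` gives a bijection between `A`-algebra maps of two
finite étale `A`-algebras and `A/I`-algebra maps of their reductions. -/
theorem result (A : Type u) [CommRing A] (I : Ideal A) [HenselianRing A I]
    (B₁ B₂ : Type u) [CommRing B₁] [CommRing B₂] [Algebra A B₁] [Algebra A B₂]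
    [Module.Finite A B₁] [Algebra.Etale A B₁] [Module.Finite A B₂] [Algebra.Etale A B₂] :
    Function.Bijective (fun φ : B₁ →ₐ[A] B₂ =>
      Algebra.TensorProduct.map (AlgHom.id (A ⧸ I) (A ⧸ I)) φ) := by
  open TensorProduct in
  have hJ : I.map (algebraMap A B₂) ≤ Ideal.jacobson ⊥ :=
    Groth.Agent.Lib.Helper12.map_le_jacobson_of_isIntegral HenselianRing.jac B₂
  let θ := Algebra.TensorProduct.quotIdealMapEquivQuotTensor B₂ I
  have hθ : ∀ b : B₂, θ (Ideal.Quotient.mk _ b) = (1 : A ⧸ I) ⊗ₜ[A] b :=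
    fun b => Algebra.TensorProduct.quotIdealMapEquivQuotTensor_mk B₂ I b
  constructor
  · intro φ φ' h
    apply Groth.Agent.Lib.Helper12.algHom_eq_of_sub_mem_of_unramified hJ
    intro x
    rw [← Ideal.Quotient.eq]
    apply θ.injective
    rw [hθ, hθ]
    have := AlgHom.congr_fun h ((1 : A ⧸ I) ⊗ₜ[A] x)
    simpa using this
  · intro ψ
    let g : B₁ →ₐ[A] B₂ ⧸ I.map (algebraMap A B₂) :=
      ((θ.symm.toAlgHom.restrictScalars A).comp (ψ.restrictScalars A)).comp
        Algebra.TensorProduct.includeRight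
    obtain ⟨φ, hφ⟩ :=
      Groth.Agent.Lib.Helper12.exists_algHom_lift_of_etale_of_isIntegral A I B₁ B₂ g
    refine ⟨φ, ?_⟩
    have key : ∀ b : B₁, (1 : A ⧸ I) ⊗ₜ[A] φ b = ψ ((1 : A ⧸ I) ⊗ₜ[A] b) := by
      intro b
      rw [← hθ, hφ b]
      show θ (θ.symm (ψ ((1 : A ⧸ I) ⊗ₜ[A] b))) = _
      rw [AlgEquiv.apply_symm_apply]
    apply Algebra.TensorProduct.ext'
    intro a b
    show Algebra.TensorProduct.map (AlgHom.id (A ⧸ I) (A ⧸ I)) φ (a ⊗ₜ[A] b) = ψ (a ⊗ₜ[A] b)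
    rw [Algebra.TensorProduct.map_tmul, AlgHom.id_apply]
    have e1 : a ⊗ₜ[A] φ b = a • ((1 : A ⧸ I) ⊗ₜ[A] φ b) := by
      rw [TensorProduct.smul_tmul', smul_eq_mul, mul_one]
    have e2 : a ⊗ₜ[A] b = a • ((1 : A ⧸ I) ⊗ₜ[A] b) := by
      rw [TensorProduct.smul_tmul', smul_eq_mul, mul_one]
    rw [e1, e2, map_smul, key]

end Groth.Agent.S0533
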