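import Groth.Statements.S0535
import Mathlib.LinearAlgebra.TensorProduct.Quotient
import Mathlib.RingTheory.Nakayama
import Mathlib.RingTheory.FiniteType
import Mathlib.Algebra.Module.Projective
import Mathlib.RingTheory.Finiteness.Basic

set_option autoImplicit false
universe u
open Hensel

namespace Groth.Agent.S0535

open TensorProduct in
theorem mk_surjective {R : Type u} [CommRing R] (I : Ideal R) (P : Type u) [AddCommGroup P]
    [Module R P] : Function.Surjective (TensorProduct.mk R (R ⧸ I) P 1) := by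
  have h := TensorProduct.quotTensorEquivQuotSMul_comp_mk (M := P) I
  have h2 : Function.Surjective ((quotTensorEquivQuotSMul P I).toLinearMap ∘ₗ
      TensorProduct.mk R (R ⧸ I) P 1) := by
    rw [h]; exact Submodule.mkQ_surjective _
  intro t
  obtain ⟨p, hp⟩ := h2 (quotTensorEquivQuotSMul P I t)
  exact ⟨p, (quotTensorEquivQuotSMul P I).injective hp⟩

open TensorProduct in
theorem ker_mk {R : Type u} [CommRing R] (I : Ideal R) (P : Type u) [AddCommGroup P]
    [Module R P] : LinearMap.ker (TensorProduct.mk R (R ⧸ I) P 1) = I • ⊤ := by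
  have h := TensorProduct.quotTensorEquivQuotSMul_comp_mk (M := P) I
  rw [← Submodule.ker_mkQ (I • (⊤ : Submodule R P)), ← h, LinearEquiv.ker_comp]

open TensorProduct in
theorem lift_surj {R : Type u} [CommRing R] (I : Ideal R) (hjac : I ≤ Ideal.jacobson ⊥)
    (P Q : Type u) [AddCommGroup P] [Module R P] [AddCommGroup Q] [Module R Q]
    [Module.Projective R P] [Module.Finite R Q]
    (g : (R ⧸ I) ⊗[R] P →ₗ[R] (R ⧸ I) ⊗[R] Q) (hg : Function.Surjective g) :
    ∃ φ : P →ₗ[R] Q, Function.Surjective φ := by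
  obtain ⟨φ, hφ⟩ := Module.projective_lifting_property (TensorProduct.mk R (R ⧸ I) Q 1)
    (g ∘ₗ TensorProduct.mk R (R ⧸ I) P 1) (mk_surjective I Q)
  refine ⟨φ, ?_⟩
  rw [← LinearMap.range_eq_top]
  apply top_le_iff.mp
  apply Submodule.le_of_le_smul_of_le_jacobson_bot Module.Finite.fg_top hjac
  intro q _
  obtain ⟨t, ht⟩ := hg (TensorProduct.mk R (R ⧸ I) Q 1 q)
  obtain ⟨p, rfl⟩ := mk_surjective I P t
  have h1 : TensorProduct.mk R (R ⧸ I) Q 1 (q - φ p) = 0 := by
    rw [map_sub, ← ht]
    have := LinearMap.congr_fun hφ p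
    simp only [LinearMap.comp_apply] at this
    rw [this, sub_self]
  have h2 : q - φ p ∈ I • (⊤ : Submodule R Q) := by
    rw [← ker_mk]; exact h1
  have h3 : q = φ p + (q - φ p) := by abel
  rw [h3]
  exact Submodule.add_mem_sup (LinearMap.mem_range_self φ p) h2

/-- If `R` is Henselian at `I` and two finitely generated projective `R`-modules become isomorphic after
base change to `R/I`, then they are isomorphic. -/
theorem result (R : Type u) [CommRing R] (I : Ideal R)
    [HenselianRing R I] (P₁ P₂ : Type u) [AddCommGroup P₁] [Module R P₁] [AddCommGroup P₂]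
    [Module R P₂] [Module.Finite R P₁] [Module.Projective R P₁] [Module.Finite R P₂]
    [Module.Projective R P₂]
    (e : TensorProduct R (R ⧸ I) P₁ ≃ₗ[R ⧸ I] TensorProduct R (R ⧸ I) P₂) :
    Nonempty (P₁ ≃ₗ[R] P₂) := by
  have hjac : I ≤ Ideal.jacobson ⊥ := HenselianRing.jac
  obtain ⟨φ, hφ⟩ := lift_surj I hjac P₁ P₂ (e.restrictScalars R).toLinearMap
    (e.restrictScalars R).surjective
  obtain ⟨ψ, hψ⟩ := lift_surj I hjac P₂ P₁ (e.symm.restrictScalars R).toLinearMap
    (e.symm.restrictScalars R).surjective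
  have hinj : Function.Injective (ψ ∘ₗ φ) :=
    OrzechProperty.injective_of_surjective_endomorphism _ (hψ.comp hφ)
  have hφi : Function.Injective φ := by
    intro x y hxy
    apply hinj
    simp [hxy]
  exact ⟨LinearEquiv.ofBijective φ ⟨hφi, hφ⟩⟩

end Groth.Agent.S0535
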