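import Groth.Statements.S0542
import Groth.Agent.Lib.Helper2.ComplNoeth

set_option autoImplicit false
universe u
open CAlg

namespace Groth.Agent.S0542

/-- If `I` is a finitely generated ideal of a ring `R` and `R/I` is Noetherian, then the `I`-adic
completion of `R` is a Noetherian ring. (The source also states completeness of the completion along
the extended ideal, which Mathlib already has; only Noetherianity is stated here.) -/
theorem result (R : Type u) [CommRing R] (I : Ideal R)
    (hI : I.FG) [IsNoetherianRing (R ⧸ I)] : IsNoetherianRing (AdicCompletion I R) := by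
  obtain ⟨r, g₀, hg₀⟩ := Submodule.fg_iff_exists_fin_generating_family.mp hI
  let g : Fin r → AdicCompletion I R := fun i => algebraMap R (AdicCompletion I R) (g₀ i)
  have hJ : Ideal.span (Set.range g) = I.map (algebraMap R (AdicCompletion I R)) := by
    have key : ∀ I' : Ideal R, I' = Ideal.span (Set.range g₀) →
        I'.map (algebraMap R (AdicCompletion I R)) = Ideal.span (Set.range g) := by
      rintro _ rfl
      rw [Ideal.map_span, ← Set.range_comp]
      rfl
    exact (key I hg₀.symm).symm
  haveI : IsAdicComplete (Ideal.span (Set.range g)) (AdicCompletion I R) := by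
    rw [hJ]
    exact AdicCompletion.isAdicComplete_self I hI
  haveI : IsNoetherianRing (AdicCompletion I R ⧸ Ideal.span (Set.range g)) := by
    have hker : RingHom.ker (AdicCompletion.evalOneₐ I).toRingHom = Ideal.span (Set.range g) := by
      rw [hJ]
      exact AdicCompletion.ker_evalOneₐ_eq_map I hI
    let e1 : (AdicCompletion I R ⧸ RingHom.ker (AdicCompletion.evalOneₐ I).toRingHom) ≃+* R ⧸ I :=
      RingHom.quotientKerEquivOfSurjective (AdicCompletion.evalOneₐ_surjective I)
    exact isNoetherianRing_of_ringEquiv _ (e1.symm.trans (Ideal.quotEquivOfEq hker))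
  exact Groth.Agent.Lib.Helper2.ComplNoeth.isNoetherianRing_of_complete g

end Groth.Agent.S0542
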