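import Groth.Statements.S0544
import Mathlib.RingTheory.AdicCompletion.Functoriality
import Mathlib.RingTheory.Finiteness.Basic

set_option autoImplicit false
universe u
open CAlg

namespace Groth.Agent.S0544

theorem mem_smul_top_pi {R : Type u} [CommRing R] (J : Ideal R) {ι : Type} [Finite ι]
    (x : ι → R) : x ∈ J • (⊤ : Submodule R (ι → R)) ↔ ∀ i, x i ∈ J := by
  classical
  have := Fintype.ofFinite ι
  constructor
  · intro hx i
    refine Submodule.smul_induction_on hx ?_ ?_
    · intro r hr y _
      simpa using J.mul_mem_right (y i) hr
    · intro y z hy hz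
      simpa using J.add_mem hy hz
  · intro hx
    rw [pi_eq_sum_univ x]
    refine Submodule.sum_mem _ fun i _ => ?_
    exact Submodule.smul_mem_smul (hx i) Submodule.mem_top

theorem isPrecomplete_pi {R : Type u} [CommRing R] (I : Ideal R) [IsPrecomplete I R]
    {ι : Type} [Finite ι] : IsPrecomplete I (ι → R) := by
  refine ⟨fun f hf => ?_⟩
  have key : ∀ i, ∃ L : R, ∀ n, f n i ≡ L [SMOD (I ^ n • ⊤ : Submodule R R)] := by
    intro i
    apply IsPrecomplete.prec inferInstance
    intro m n hmn
    have := hf hmn
    rw [SModEq.sub_mem, mem_smul_top_pi] at this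
    rw [SModEq.sub_mem]
    simpa using this i
  choose L hL using key
  refine ⟨L, fun n => ?_⟩
  rw [SModEq.sub_mem, mem_smul_top_pi]
  intro i
  have := hL i n
  rw [SModEq.sub_mem] at this
  simpa using this

/-- Let `R` be complete with respect to an ideal `I` and `M` an `R`-module which is `I`-adically
separated and such that `M/IM` is finitely generated. Then `M` is a finitely generated `R`-module. -/
theorem result (R : Type u) [CommRing R]
    (I : Ideal R) [IsAdicComplete I R] (M : Type u) [AddCommGroup M] [Module R M] [IsHausdorff I M]
    (h : Module.Finite R (M ⧸ (I • ⊤ : Submodule R M))) : Module.Finite R M := by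
  obtain ⟨n, s, hs⟩ := Module.Finite.exists_fin (R := R) (M := M ⧸ (I • ⊤ : Submodule R M))
  choose s' hs' using fun i => Submodule.mkQ_surjective _ (s i)
  let f : (Fin n → R) →ₗ[R] M := Fintype.linearCombination R s'
  have hsurj : Function.Surjective ((I • ⊤ : Submodule R M).mkQ ∘ₗ f) := by
    rw [← LinearMap.range_eq_top, LinearMap.range_comp, Fintype.range_linearCombination,
      Submodule.map_span, ← Set.range_comp, ← hs]
    congr 2
    funext i
    exact hs' i
  have := isPrecomplete_pi I (ι := Fin n)
  have hf : Function.Surjective f := surjective_of_mkQ_comp_surjective hsurj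
  exact Module.Finite.of_surjective f hf

end Groth.Agent.S0544
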