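import Groth.Statements.S0545
import Mathlib

set_option autoImplicit false
universe u
open CAlg

namespace Groth.Agent.S0545

/-- For a Noetherian ring `A` with two ideals `I` and `J`, completeness of `A` along `I` together with
completeness of the quotient `A/I` along the image of `J` forces completeness of `A` along `J`. -/
theorem result (A : Type u) [CommRing A] [IsNoetherianRing A]
    (I J : Ideal A) [IsAdicComplete I A]
    [IsAdicComplete (Ideal.map (Ideal.Quotient.mk I) J) (A ⧸ I)] : IsAdicComplete J A := by
  classical
  have hI : I ≤ (⊥ : Ideal A).jacobson := IsAdicComplete.le_jacobson_bot I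
  have hJ' : Ideal.map (Ideal.Quotient.mk I) J ≤ (⊥ : Ideal (A ⧸ I)).jacobson :=
    IsAdicComplete.le_jacobson_bot _
  have hJ : J ≤ (⊥ : Ideal A).jacobson := by
    have h1 : J ≤ Ideal.comap (Ideal.Quotient.mk I) (⊥ : Ideal (A ⧸ I)).jacobson :=
      Ideal.map_le_iff_le_comap.mp hJ'
    rw [Ideal.comap_jacobson_of_surjective Ideal.Quotient.mk_surjective] at h1
    have h2 : Ideal.comap (Ideal.Quotient.mk I) ⊥ = I := by
      rw [← RingHom.ker_eq_comap_bot, Ideal.mk_ker]
    rw [h2] at h1
    exact h1.trans ((Ideal.jacobson_mono hI).trans Ideal.jacobson_idem.le)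
  have hHJ : IsHausdorff J A := IsHausdorff.of_le_jacobson J A hJ
  -- A/I is J-adically complete as an A-module
  have hQ : IsAdicComplete J (A ⧸ I) :=
    (IsAdicComplete.map_algebraMap_iff (R := A) (S := A ⧸ I) (M := A ⧸ I) (I := J)).mp
      (by assumption)
  rw [← AdicCompletion.of_bijective_iff]
  refine ⟨AdicCompletion.of_injective J A, ?_⟩
  -- the completion is I-adically Hausdorff
  have hH : IsHausdorff I (AdicCompletion J A) := by
    refine ⟨fun x hx => ?_⟩
    apply AdicCompletion.ext
    intro n
    have : IsHausdorff I (A ⧸ (J ^ n • ⊤ : Submodule A A)) := IsHausdorff.of_le_jacobson I _ hI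
    have : AdicCompletion.eval J A n x = 0 := by
      apply IsHausdorff.haus (I := I) inferInstance
      intro k
      have hk := hx k
      rw [SModEq.zero] at hk ⊢
      have := Submodule.mem_map_of_mem (f := AdicCompletion.eval J A n) hk
      rw [Submodule.map_smul''] at this
      exact Submodule.smul_mono le_rfl le_top this
    exact this
  apply surjective_of_mkQ_comp_surjective (I := I)
  intro y
  obtain ⟨x, rfl⟩ := Submodule.mkQ_surjective _ y
  -- image of x in completion of A/I
  obtain ⟨abar, habar⟩ := AdicCompletion.of_surjective J (A ⧸ I)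
    (AdicCompletion.map J (Submodule.mkQ I) x)
  obtain ⟨a, rfl⟩ := Submodule.mkQ_surjective _ abar
  refine ⟨a, ?_⟩
  have hex := AdicCompletion.map_exact (I := J) (f := I.subtype) (g := Submodule.mkQ I)
    (Submodule.injective_subtype _) (LinearMap.exact_subtype_mkQ I) (Submodule.mkQ_surjective _)
  have hker : AdicCompletion.map J (Submodule.mkQ I) (x - AdicCompletion.of J A a) = 0 := by
    rw [map_sub, AdicCompletion.map_of, habar, sub_self]
  obtain ⟨z, hz⟩ := (hex _).mp hker
  obtain ⟨t, rfl⟩ := AdicCompletion.ofTensorProduct_surjective_of_finite J I z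
  have key : ∀ t : TensorProduct A (AdicCompletion J A) I,
      AdicCompletion.map J I.subtype (AdicCompletion.ofTensorProduct J I t) ∈
        (I • ⊤ : Submodule A (AdicCompletion J A)) := by
    intro t
    induction t using TensorProduct.induction_on with
    | zero => simp
    | tmul r i =>
      rw [AdicCompletion.ofTensorProduct_tmul, map_smul, AdicCompletion.map_of]
      have : AdicCompletion.of J A (I.subtype i) = (i : A) • (1 : AdicCompletion J A) := by
        apply AdicCompletion.ext
        intro n
        rw [AdicCompletion.val_smul_apply, AdicCompletion.val_one, AdicCompletion.of_apply]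
        rw [Submodule.mkQ_apply, Submodule.subtype_apply]
        change _ = (i : A) • (Submodule.Quotient.mk (1 : A) : A ⧸ (J ^ n • ⊤ : Submodule A A))
        rw [← Submodule.Quotient.mk_smul]
        simp
      rw [this, smul_comm]
      exact Submodule.smul_mem_smul i.2 Submodule.mem_top
    | add x y hx hy =>
      rw [map_add, map_add]
      exact add_mem hx hy
  have := key t
  rw [hz] at this
  simp only [LinearMap.comp_apply, Submodule.mkQ_apply]
  rw [eq_comm, Submodule.Quotient.eq]
  exact this

end Groth.Agent.S0545
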