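import Groth.Statements.S0546
import Mathlib.RingTheory.Finiteness.Ideal
-- import your own Groth.Agent.* helpers here

set_option autoImplicit false
universe u
open CAlg

namespace Groth.Agent.S0546

private lemma exists_sum_of_mem_span_smul {A : Type u} [CommRing A] {M : Type u} [AddCommGroup M]
    [Module A M] (s : Finset A) (N : Submodule A M) (x : M)
    (hx : x ∈ Ideal.span (s : Set A) • N) :
    ∃ w : A → M, (∀ a, w a ∈ N) ∧ x = ∑ a ∈ s, a • w a := by
  induction hx using Submodule.smul_induction_on' with
  | smul r hr m hm =>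
    obtain ⟨c, -, hc⟩ := Submodule.mem_span_finset.mp hr
    refine ⟨fun a => c a • m, fun a => N.smul_mem _ hm, ?_⟩
    rw [← hc, Finset.sum_smul]
    refine Finset.sum_congr rfl fun a _ => ?_
    simp only [smul_eq_mul, mul_smul]
    rw [smul_comm]
  | add x hx y hy ihx ihy =>
    obtain ⟨w, hw, rfl⟩ := ihx
    obtain ⟨w', hw', rfl⟩ := ihy
    refine ⟨fun a => w a + w' a, fun a => N.add_mem (hw a) (hw' a), ?_⟩
    simp [smul_add, Finset.sum_add_distrib]

/-- If `I ≤ J` are ideals with `I` finitely generated and `M` is `J`-adically complete, then `M` is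
`I`-adically complete. -/
theorem result (A : Type u) [CommRing A] (I J : Ideal A) (hIJ : I ≤ J)
    (hI : I.FG) (M : Type u) [AddCommGroup M] [Module A M] [IsAdicComplete J M] :
    IsAdicComplete I M := by
  classical
  have hpow : ∀ n, (I ^ n • ⊤ : Submodule A M) ≤ J ^ n • ⊤ := fun n =>
    Submodule.smul_mono_left (Ideal.pow_right_mono hIJ n)
  have hJanti : ∀ {m n}, m ≤ n → (J ^ n • ⊤ : Submodule A M) ≤ J ^ m • ⊤ := fun {m n} hmn =>
    Submodule.smul_mono_left (Ideal.pow_le_pow_right hmn)
  have hHaus : IsHausdorff I M := ⟨fun x hx => IsHausdorff.haus (I := J) inferInstance x (fun n => by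
      have := hx n; rw [SModEq.zero] at this ⊢; exact hpow n this)⟩
  have hPre : IsPrecomplete I M := ⟨fun f hf => by
    obtain ⟨L, hL⟩ := IsPrecomplete.prec (I := J) (M := M) inferInstance (f := f)
      (fun {m n} hmn => by
        have := hf hmn; rw [SModEq.sub_mem] at this ⊢; exact hpow m this)
    refine ⟨L, fun n => ?_⟩
    obtain ⟨s, hs⟩ := Ideal.FG.pow (n := n) hI
    -- differences
    have hdiff : ∀ c : ℕ, ∃ w : A → M, (∀ a, w a ∈ (I ^ c • ⊤ : Submodule A M)) ∧
        f (n + c + 1) - f (n + c) = ∑ a ∈ s, a • w a := by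
      intro c
      apply exists_sum_of_mem_span_smul
      rw [hs, ← mul_smul, ← pow_add]
      have := hf (Nat.le_succ (n + c))
      rw [SModEq.sub_mem] at this
      have h2 := (I ^ (n + c) • ⊤ : Submodule A M).neg_mem this
      simpa using h2
    choose w hw hwsum using hdiff
    let W : ℕ → A → M := fun c a => ∑ c' ∈ Finset.range c, w c' a
    have hWcauchy : ∀ a, ∀ {m k}, m ≤ k → W m a ≡ W k a [SMOD (J ^ m • ⊤ : Submodule A M)] := by
      intro a m k hmk
      rw [SModEq.sub_mem]
      have : W m a - W k a = - ∑ c' ∈ Finset.Ico m k, w c' a := by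
        simp only [W]
        rw [Finset.sum_Ico_eq_sub _ hmk]; abel
      rw [this]
      apply Submodule.neg_mem
      apply Submodule.sum_mem
      intro c' hc'
      exact hJanti (Finset.mem_Ico.mp hc').1 (hpow c' (hw c' a))
    have hlim : ∀ a, ∃ Wl : M, ∀ c, W c a ≡ Wl [SMOD (J ^ c • ⊤ : Submodule A M)] := fun a =>
      IsPrecomplete.prec (I := J) (M := M) inferInstance (hWcauchy a)
    choose Wl hWl using hlim
    have hfW : ∀ c, f (n + c) - f n = ∑ a ∈ s, a • W c a := by
      intro c
      induction c with
      | zero => simp [W]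
      | succ c ih =>
        have : f (n + (c + 1)) - f n = (f (n + c + 1) - f (n + c)) + (f (n + c) - f n) := by
          rw [← add_assoc]; abel
        rw [this, ih, hwsum c, ← Finset.sum_add_distrib]
        refine Finset.sum_congr rfl fun a _ => ?_
        simp only [W, Finset.sum_range_succ, smul_add]
        abel
    have hzero : L - f n - ∑ a ∈ s, a • Wl a = 0 := by
      apply IsHausdorff.haus (I := J) (M := M) inferInstance
      intro c
      rw [SModEq.zero]
      have h1 : L - f n - ∑ a ∈ s, a • Wl a =
          (L - f (n + c)) + ∑ a ∈ s, a • (W c a - Wl a) := by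
        have := hfW c
        simp only [smul_sub, Finset.sum_sub_distrib]
        rw [← this]; abel
      rw [h1]
      apply Submodule.add_mem
      · have := hL (n + c)
        rw [SModEq.sub_mem] at this
        have h2 := (J ^ (n + c) • ⊤ : Submodule A M).neg_mem this
        rw [neg_sub] at h2
        exact hJanti (Nat.le_add_left c n) h2
      · apply Submodule.sum_mem
        intro a _
        apply Submodule.smul_mem
        have := hWl a c
        rwa [SModEq.sub_mem] at this
    rw [SModEq.sub_mem]
    have : f n - L = - ∑ a ∈ s, a • Wl a := by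
      rw [sub_eq_zero] at hzero
      rw [← hzero]; abel
    rw [this]
    apply Submodule.neg_mem
    apply Submodule.sum_mem
    intro a ha
    apply Submodule.smul_mem_smul _ Submodule.mem_top
    rw [← hs]
    exact Ideal.subset_span ha⟩
  exact { toIsHausdorff := hHaus, toIsPrecomplete := hPre }

end Groth.Agent.S0546
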