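import Groth.Statements.S0550
import Groth.Agent.Lib.Helper2.HomAR
import Mathlib

set_option autoImplicit false
universe u
open CAlg

namespace Groth.Agent.S0550

open Groth.Agent.Lib.Helper2.HomAR

section ringlevel

variable {R : Type u} [CommRing R] (I : Ideal R) {l : ℕ} (f : Fin l → R)

/-- `c ↦ Σ c_i f_i` -/
noncomputable def jmap : (Fin l → R) →ₗ[R] R := Fintype.linearCombination R f

lemma jmap_apply (c : Fin l → R) : jmap f c = ∑ i, c i * f i := by
  rw [jmap, Fintype.linearCombination_apply]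
  rfl

lemma A_R [IsNoetherianRing R] : ∃ c₁ : ℕ, ∀ (n : ℕ) (u : R), u ∈ LinearMap.range (jmap f) →
    u ∈ I ^ (n + c₁) → ∃ z : Fin l → R, (∀ i, z i ∈ I ^ n) ∧ jmap f z = u := by
  obtain ⟨c₁, hc₁⟩ := Ideal.exists_pow_inf_eq_pow_smul I (LinearMap.range (jmap f))
  refine ⟨c₁, fun n u hu hupow => ?_⟩
  have h1 : u ∈ I ^ (n + c₁) • (⊤ : Submodule R R) ⊓ LinearMap.range (jmap f) := by
    refine ⟨?_, hu⟩
    rw [smul_eq_mul, Ideal.mul_top]
    exact hupow
  rw [hc₁ _ (by omega)] at h1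
  have h2 : u ∈ (I ^ n • (⊤ : Submodule R (Fin l → R))).map (jmap f) := by
    rw [Submodule.map_smul'', Submodule.map_top]
    exact Submodule.smul_mono (Ideal.pow_le_pow_right (by omega)) inf_le_right h1
  obtain ⟨z, hz, rfl⟩ := h2
  refine ⟨z, fun i => ?_, rfl⟩
  have := apply_mem_smul_top _ z hz i
  rwa [smul_eq_mul, Ideal.mul_top] at this

lemma B_R [IsNoetherianRing R] {k : ℕ} (Φ : (Fin k → R) →ₗ[R] (Fin l → R))
    (hΦ : LinearMap.range Φ = LinearMap.ker (jmap f)) :
    ∃ c₂ : ℕ, ∀ (n : ℕ) (v : Fin l → R), jmap f v = 0 → (∀ i, v i ∈ I ^ (n + c₂)) →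
      ∃ d : Fin k → R, (∀ t, d t ∈ I ^ n) ∧ Φ d = v := by
  obtain ⟨c₂, hc₂⟩ := Ideal.exists_pow_inf_eq_pow_smul I (LinearMap.ker (jmap f))
  refine ⟨c₂, fun n v hv hvpow => ?_⟩
  have h1 : v ∈ I ^ (n + c₂) • (⊤ : Submodule R (Fin l → R)) ⊓ LinearMap.ker (jmap f) := by
    refine ⟨?_, hv⟩
    apply pi_mem_smul_top
    intro i
    rw [smul_eq_mul, Ideal.mul_top]
    exact hvpow i
  rw [hc₂ _ (by omega)] at h1
  have h2 : v ∈ (I ^ n • (⊤ : Submodule R (Fin k → R))).map Φ := by
    rw [Submodule.map_smul'', Submodule.map_top, hΦ]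
    exact Submodule.smul_mono (Ideal.pow_le_pow_right (by omega)) inf_le_right h1
  obtain ⟨d, hd, rfl⟩ := h2
  refine ⟨d, fun t => ?_, rfl⟩
  have := apply_mem_smul_top _ d hd t
  rwa [smul_eq_mul, Ideal.mul_top] at this

end ringlevel

section freelevel

variable {R : Type u} [CommRing R] (I : Ideal R) {l : ℕ} (f : Fin l → R) {α : Type*}

lemma finsupp_mem_smul_top (J : Ideal R) (w : α →₀ R) (hw : ∀ a, w a ∈ J) :
    w ∈ J • (⊤ : Submodule R (α →₀ R)) := by
  classical
  rw [← Finsupp.sum_single w]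
  refine Submodule.sum_mem _ (fun a _ => ?_)
  have : Finsupp.single a (w a) = (w a) • Finsupp.single a (1 : R) := by
    rw [Finsupp.smul_single, smul_eq_mul, mul_one]
  rw [this]
  exact Submodule.smul_mem_smul (hw a) Submodule.mem_top

lemma finsupp_apply_mem (J : Ideal R) (w : α →₀ R) (hw : w ∈ J • (⊤ : Submodule R (α →₀ R)))
    (a : α) : w a ∈ J := by
  have h2 : Finsupp.lapply (R := R) a w ∈
      (J • (⊤ : Submodule R (α →₀ R))).map (Finsupp.lapply (R := R) a) :=
    Submodule.mem_map_of_mem hw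
  rw [Submodule.map_smul''] at h2
  have h3 : Finsupp.lapply (R := R) a w ∈ J • (⊤ : Submodule R R) :=
    Submodule.smul_mono le_rfl le_top h2
  rwa [smul_eq_mul, Ideal.mul_top] at h3

lemma lift_A (n N : ℕ)
    (hA : ∀ u : R, u ∈ LinearMap.range (jmap f) → u ∈ I ^ N →
      ∃ z : Fin l → R, (∀ i, z i ∈ I ^ n) ∧ jmap f z = u)
    (v : Fin l → (α →₀ R)) (hv : ∀ a, (∑ i, v i a * f i) ∈ I ^ N) :
    ∃ z : Fin l → (α →₀ R), (∀ i a, z i a ∈ I ^ n) ∧
      ∀ a, ∑ i, z i a * f i = ∑ i, v i a * f i := by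
  classical
  let ζ : R → (Fin l → R) := fun u =>
    if h : u ∈ LinearMap.range (jmap f) ∧ u ∈ I ^ N ∧ u ≠ 0 then
      Classical.choose (hA u h.1 h.2.1) else 0
  have hζ0 : ∀ i, ζ 0 i = 0 := by
    intro i
    simp [ζ]
  have hζ : ∀ u, u ∈ LinearMap.range (jmap f) → u ∈ I ^ N →
      (∀ i, ζ u i ∈ I ^ n) ∧ jmap f (ζ u) = u := by
    intro u hu1 hu2
    by_cases hu0 : u = 0
    · subst hu0
      refine ⟨fun i => by rw [hζ0]; exact Ideal.zero_mem _, ?_⟩
      have : ζ 0 = 0 := funext hζ0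
      rw [this, map_zero]
    · have hc : u ∈ LinearMap.range (jmap f) ∧ u ∈ I ^ N ∧ u ≠ 0 := ⟨hu1, hu2, hu0⟩
      have : ζ u = Classical.choose (hA u hc.1 hc.2.1) := by
        simp only [ζ]
        rw [dif_pos hc]
      rw [this]
      exact Classical.choose_spec (hA u hc.1 hc.2.1)
  let uF : α →₀ R := ∑ i, f i • v i
  have huF : ∀ a, uF a = ∑ i, v i a * f i := by
    intro a
    simp only [uF, Finsupp.coe_finsetSum, Finset.sum_apply, Finsupp.smul_apply, smul_eq_mul]
    exact Finset.sum_congr rfl (fun i _ => mul_comm _ _)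
  have huF1 : ∀ a, uF a ∈ LinearMap.range (jmap f) := by
    intro a
    refine ⟨fun i => v i a, ?_⟩
    rw [jmap_apply, huF]
  have huF2 : ∀ a, uF a ∈ I ^ N := fun a => by rw [huF]; exact hv a
  refine ⟨fun i => Finsupp.mapRange (fun u => ζ u i) (hζ0 i) uF, fun i a => ?_, fun a => ?_⟩
  · rw [Finsupp.mapRange_apply]
    exact (hζ _ (huF1 a) (huF2 a)).1 i
  · have := (hζ _ (huF1 a) (huF2 a)).2
    rw [jmap_apply, huF] at this
    rw [← this]
    refine Finset.sum_congr rfl (fun i _ => ?_)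
    rw [Finsupp.mapRange_apply, huF]

lemma lift_B {k : ℕ} (Φ : (Fin k → R) →ₗ[R] (Fin l → R)) (n N : ℕ)
    (hB : ∀ v : Fin l → R, jmap f v = 0 → (∀ i, v i ∈ I ^ N) →
      ∃ d : Fin k → R, (∀ t, d t ∈ I ^ n) ∧ Φ d = v)
    (v : Fin l → (α →₀ R)) (hv0 : ∀ a, ∑ i, v i a * f i = 0) (hvN : ∀ i a, v i a ∈ I ^ N) :
    ∃ w : Fin k → (α →₀ R), (∀ t a, w t a ∈ I ^ n) ∧
      ∀ i a, v i a = Φ (fun t => w t a) i := by
  classical
  let δ : (Fin l → R) → (Fin k → R) := fun u =>
    if h : jmap f u = 0 ∧ (∀ i, u i ∈ I ^ N) ∧ u ≠ 0 then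
      Classical.choose (hB u h.1 h.2.1) else 0
  have hδ0 : δ 0 = 0 := by
    simp [δ]
  have hδ : ∀ u, jmap f u = 0 → (∀ i, u i ∈ I ^ N) → (∀ t, δ u t ∈ I ^ n) ∧ Φ (δ u) = u := by
    intro u hu1 hu2
    by_cases hu0 : u = 0
    · subst hu0
      rw [hδ0]
      exact ⟨fun t => Ideal.zero_mem _, map_zero _⟩
    · have hc : jmap f u = 0 ∧ (∀ i, u i ∈ I ^ N) ∧ u ≠ 0 := ⟨hu1, hu2, hu0⟩
      have : δ u = Classical.choose (hB u hc.1 hc.2.1) := by
        simp only [δ]
        rw [dif_pos hc]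
      rw [this]
      exact Classical.choose_spec (hB u hc.1 hc.2.1)
  let s : Finset α := Finset.univ.biUnion (fun i => (v i).support)
  have hs : ∀ a, a ∉ s → (fun i => v i a) = 0 := by
    intro a ha
    funext i
    by_contra hne
    apply ha
    simp only [s, Finset.mem_biUnion, Finset.mem_univ, true_and]
    exact ⟨i, Finsupp.mem_support_iff.mpr hne⟩
  let w : Fin k → (α →₀ R) := fun t =>
    Finsupp.onFinset s (fun a => δ (fun i => v i a) t) (by
      intro a ha
      by_contra hns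
      apply ha
      rw [hs a hns, hδ0]
      rfl)
  have hw : ∀ t a, w t a = δ (fun i => v i a) t := fun t a => rfl
  have hva : ∀ a, jmap f (fun i => v i a) = 0 := fun a => by rw [jmap_apply]; exact hv0 a
  refine ⟨w, fun t a => ?_, fun i a => ?_⟩
  · rw [hw]
    exact (hδ _ (hva a) (fun i => hvN i a)).1 t
  · have := (hδ _ (hva a) (fun i => hvN i a)).2
    have h2 : (fun t => w t a) = δ (fun i => v i a) := funext (fun t => hw t a)
    rw [h2, this]

end freelevel

end Groth.Agent.S0550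

namespace Groth.Agent.S0550

/-- Over a Noetherian ring `R` with an ideal `I`, the `I`-adic completion of a free module (on any index
set) is a flat `R`-module. -/
theorem result (R : Type u) [CommRing R] [IsNoetherianRing R]
    (I : Ideal R) (α : Type u) : Module.Flat R (AdicCompletion I (α →₀ R)) := by
  classical
  apply Module.Flat.of_forall_isTrivialRelation
  intro l f x hrel
  choose ξ hξ using fun i => AdicCompletion.mk_surjective I (α →₀ R) (x i)
  obtain ⟨k, Φ₀, hΦ₀⟩ := Module.Finite.exists_fin' R (LinearMap.ker (jmap f))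
  let Φ : (Fin k → R) →ₗ[R] (Fin l → R) := (LinearMap.ker (jmap f)).subtype ∘ₗ Φ₀
  have hΦ : LinearMap.range Φ = LinearMap.ker (jmap f) := by
    rw [LinearMap.range_comp, LinearMap.range_eq_top.mpr hΦ₀, Submodule.map_top,
      Submodule.range_subtype]
  obtain ⟨c₁, hA⟩ := A_R I f
  obtain ⟨c₂, hB⟩ := B_R I f Φ hΦ
  -- the relation, levelwise and coordinatewise
  have hrel' : ∀ n a, (∑ i, ξ i n a * f i) ∈ I ^ n := by
    intro n a
    have h1 := congrArg (fun y : AdicCompletion I (α →₀ R) => y.val n) hrel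
    simp only [AdicCompletion.val_sum_apply, AdicCompletion.val_smul_apply,
      AdicCompletion.val_zero_apply] at h1
    have h2 : ∀ i, (x i).val n = (I ^ n • ⊤ : Submodule R (α →₀ R)).mkQ (ξ i n) := by
      intro i
      rw [← hξ i]
      rfl
    simp only [h2, ← map_smul] at h1
    rw [← map_sum, Submodule.mkQ_apply, Submodule.Quotient.mk_eq_zero] at h1
    have h3 := finsupp_apply_mem (I ^ n) _ h1 a
    simp only [Finsupp.coe_finsetSum, Finset.sum_apply, Finsupp.smul_apply, smul_eq_mul] at h3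
    convert h3 using 1
    exact Finset.sum_congr rfl (fun i _ => mul_comm _ _)
  have hcauchy : ∀ i (m n : ℕ), m ≤ n → ∀ a, ξ i n a - ξ i m a ∈ I ^ m := by
    intro i m n hmn a
    have h1 := (ξ i).property hmn
    have h2 : ξ i n - ξ i m ∈ (I ^ m • ⊤ : Submodule R (α →₀ R)) := by
      have := SModEq.sub_mem.mp h1.symm
      exact this
    exact finsupp_apply_mem (I ^ m) _ h2 a
  -- step A
  have hstepA : ∀ n, ∃ z : Fin l → (α →₀ R), (∀ i a, z i a ∈ I ^ n) ∧
      ∀ a, ∑ i, z i a * f i = ∑ i, ξ i (n + c₁) a * f i :=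
    fun n => lift_A I f n (n + c₁) (hA n) (fun i => ξ i (n + c₁)) (hrel' (n + c₁))
  choose z hz1 hz2 using hstepA
  let v' : ℕ → Fin l → (α →₀ R) := fun n i => ξ i (n + c₁) - z n i
  have hv'0 : ∀ n a, ∑ i, v' n i a * f i = 0 := by
    intro n a
    simp only [v', Finsupp.sub_apply, sub_mul, Finset.sum_sub_distrib]
    rw [hz2, sub_self]
  have hv'close : ∀ n i a, v' n i a - ξ i n a ∈ I ^ n := by
    intro n i a
    have h1 := hcauchy i n (n + c₁) (by omega) a
    have h2 := hz1 n i a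
    have : v' n i a - ξ i n a = (ξ i (n + c₁) a - ξ i n a) - z n i a := by
      simp only [v', Finsupp.sub_apply]
      ring
    rw [this]
    exact Ideal.sub_mem _ h1 h2
  let D : ℕ → Fin l → (α →₀ R) := fun n i => v' (n + 1 + c₂) i - v' (n + c₂) i
  have hD0 : ∀ n a, ∑ i, D n i a * f i = 0 := by
    intro n a
    simp only [D, Finsupp.sub_apply, sub_mul, Finset.sum_sub_distrib]
    rw [hv'0, hv'0, sub_self]
  have hDN : ∀ n i a, D n i a ∈ I ^ (n + c₂) := by
    intro n i a
    have h1 : v' (n + 1 + c₂) i a - ξ i (n + 1 + c₂) a ∈ I ^ (n + c₂) :=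
      Ideal.pow_le_pow_right (by omega) (hv'close (n + 1 + c₂) i a)
    have h2 := hcauchy i (n + c₂) (n + 1 + c₂) (by omega) a
    have h3 := hv'close (n + c₂) i a
    have : D n i a = (v' (n + 1 + c₂) i a - ξ i (n + 1 + c₂) a) +
        (ξ i (n + 1 + c₂) a - ξ i (n + c₂) a) - (v' (n + c₂) i a - ξ i (n + c₂) a) := by
      simp only [D, Finsupp.sub_apply]
      ring
    rw [this]
    exact Ideal.sub_mem _ (Ideal.add_mem _ h1 h2) h3
  have hstepB : ∀ n, ∃ e : Fin k → (α →₀ R), (∀ t a, e t a ∈ I ^ n) ∧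
      ∀ i a, D n i a = Φ (fun t => e t a) i :=
    fun n => lift_B I f Φ n (n + c₂) (hB n) (D n) (hD0 n) (hDN n)
  choose e he1 he2 using hstepB
  have hB0 : ∀ v : Fin l → R, jmap f v = 0 → (∀ i, v i ∈ I ^ 0) →
      ∃ d : Fin k → R, (∀ t, d t ∈ I ^ 0) ∧ Φ d = v := by
    intro v hv _
    have : v ∈ LinearMap.range Φ := by rw [hΦ]; exact hv
    obtain ⟨d, hd⟩ := this
    exact ⟨d, fun t => by rw [pow_zero, Ideal.one_eq_top]; exact Submodule.mem_top, hd⟩
  obtain ⟨w0, _, hw0⟩ := lift_B I f Φ 0 0 hB0 (v' c₂) (hv'0 c₂)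
    (fun i a => by rw [pow_zero, Ideal.one_eq_top]; exact Submodule.mem_top)
  let W : Fin k → ℕ → (α →₀ R) := fun t n => w0 t + ∑ m ∈ Finset.range n, e m t
  have hWsucc : ∀ t n, W t (n + 1) = W t n + e n t := by
    intro t n
    simp only [W, Finset.sum_range_succ]
    abel
  have hkey : ∀ n i a, Φ (fun t => W t n a) i = v' (n + c₂) i a := by
    intro n
    induction n with
    | zero =>
      intro i a
      have : (fun t => W t 0 a) = fun t => w0 t a := by
        funext t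
        simp [W]
      rw [this, ← hw0, Nat.zero_add]
    | succ n ih =>
      intro i a
      have h1 : (fun t => W t (n + 1) a) = (fun t => W t n a) + (fun t => e n t a) := by
        funext t
        rw [hWsucc]
        rfl
      rw [h1, map_add, Pi.add_apply, ih, ← he2]
      simp only [D, Finsupp.sub_apply]
      ring
  have hWcauchy : ∀ t n, W t n ≡ W t (n + 1) [SMOD (I ^ n • ⊤ : Submodule R (α →₀ R))] := by
    intro t n
    rw [SModEq.sub_mem, hWsucc]
    have : W t n - (W t n + e n t) = -(e n t) := by abel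
    rw [this]
    exact Submodule.neg_mem _ (finsupp_mem_smul_top _ _ (he1 n t))
  let y : Fin k → AdicCompletion I (α →₀ R) := fun t =>
    AdicCompletion.mk I (α →₀ R) (AdicCompletion.AdicCauchySequence.mk I (α →₀ R) (W t) (hWcauchy t))
  let A : Fin l → Fin k → R := fun i t => Φ (Pi.single t 1) i
  have hΦA : ∀ (d : Fin k → R) i, Φ d i = ∑ t, A i t * d t := by
    intro d i
    have h1 : d = ∑ t, d t • (Pi.single t 1 : Fin k → R) := by
      funext t'
      simp [Finset.sum_apply, Pi.single_apply]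
    conv_lhs => rw [h1]
    rw [map_sum, Finset.sum_apply]
    refine Finset.sum_congr rfl (fun t _ => ?_)
    rw [map_smul, Pi.smul_apply, smul_eq_mul, mul_comm]
  refine ⟨k, A, y, fun i => ?_, fun t => ?_⟩
  · rw [← hξ i]
    apply AdicCompletion.ext
    intro n
    simp only [AdicCompletion.val_sum_apply, AdicCompletion.val_smul_apply]
    have hy : ∀ t, (y t).val n = (I ^ n • ⊤ : Submodule R (α →₀ R)).mkQ (W t n) := fun t => rfl
    have hx : (AdicCompletion.mk I (α →₀ R) (ξ i)).val n =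
        (I ^ n • ⊤ : Submodule R (α →₀ R)).mkQ (ξ i n) := rfl
    simp only [hy, hx, ← map_smul]
    rw [← map_sum, Submodule.mkQ_apply, Submodule.mkQ_apply, Submodule.Quotient.eq]
    apply finsupp_mem_smul_top
    intro a
    have h1 : (ξ i n - ∑ t, A i t • W t n) a = ξ i n a - Φ (fun t => W t n a) i := by
      rw [hΦA]
      simp only [Finsupp.sub_apply, Finsupp.coe_finsetSum, Finset.sum_apply,
        Finsupp.smul_apply, smul_eq_mul]
    rw [h1, hkey]
    have h2 := hv'close (n + c₂) i a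
    have h3 := hcauchy i n (n + c₂) (by omega) a
    have : ξ i n a - v' (n + c₂) i a =
        -((v' (n + c₂) i a - ξ i (n + c₂) a) + (ξ i (n + c₂) a - ξ i n a)) := by ring
    rw [this]
    exact Ideal.neg_mem_iff _ |>.mpr (Ideal.add_mem _ (Ideal.pow_le_pow_right (by omega) h2) h3)
  · have h1 : Φ (Pi.single t 1) ∈ LinearMap.ker (jmap f) := by
      rw [← hΦ]
      exact LinearMap.mem_range_self _ _
    have h2 := LinearMap.mem_ker.mp h1
    rw [jmap_apply] at h2
    rw [← h2]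
    exact Finset.sum_congr rfl (fun i _ => mul_comm _ _)

end Groth.Agent.S0550
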