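import Groth.Statements.S0551
import Groth.Agent.Lib.helper10.ComplFlatApp
import Groth.Agent.S0542

set_option autoImplicit false
universe u
open CAlg
open TensorProduct Function
open Groth.Agent.Lib.Helper17.LocalFlat Groth.Agent.Lib.helper10

namespace Groth.Agent.S0551

/-- Let `R` be a ring, `I` a finitely generated ideal with `R/I` Noetherian, and `M` an `R`-module such
that `M/IM` is flat over `R/I` and the multiplication map `I ⊗ M → M` is injective (the vanishing of
the first Tor of `M` against `R/I`). Then the `I`-adic completion of `M` is flat over the `I`-adic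
completion of `R`. (The published statement also records that the completed ring is Noetherian; that
is stated separately.) -/
theorem result (R : Type u) [CommRing R] (I : Ideal R) (hI : I.FG)
    [IsNoetherianRing (R ⧸ I)] (M : Type u) [AddCommGroup M] [Module R M]
    [Module.Flat (R ⧸ I) (M ⧸ (I • ⊤ : Submodule R M))]
    (hT : Function.Injective (TensorProduct.lift ((LinearMap.lsmul R M).comp (Submodule.subtype I)))) :
    Module.Flat (AdicCompletion I R) (AdicCompletion I M) := by
  haveI : IsNoetherianRing (AdicCompletion I R) := Groth.Agent.S0542.result R I hI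
  haveI : Module.Flat (R ⧸ I) ((R ⧸ I) ⊗[R] M) :=
    Module.Flat.of_linearEquiv (quotLin I (TensorProduct.quotTensorEquivQuotSMul M I))
  have hIM : Injective (I.subtype.rTensor M) := by
    have h : (TensorProduct.lift ((LinearMap.lsmul R M).comp (Submodule.subtype I))) =
        (TensorProduct.lid R M).toLinearMap ∘ₗ (I.subtype.rTensor M) := by
      ext a m
      simp
    rw [h] at hT
    exact Function.Injective.of_comp hT
  -- membership in `J^n N` is vanishing of the `n`-th component
  have hmem : ∀ (P : Type u) [AddCommGroup P] [Module R P] (n : ℕ) (x : AdicCompletion I P),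
      x ∈ ((I.map (algebraMap R (AdicCompletion I R))) ^ n • ⊤ :
        Submodule (AdicCompletion I R) (AdicCompletion I P)) ↔ x.val n = 0 := by
    intro P _ _ n x
    rw [← Ideal.map_pow, ← Submodule.restrictScalars_mem R, Submodule.restrictScalars_map_smul_eq,
      Submodule.restrictScalars_top, AdicCompletion.pow_smul_top_eq_ker_eval hI, LinearMap.mem_ker,
      AdicCompletion.eval_apply]
  haveI hc : IsAdicComplete (I.map (algebraMap R (AdicCompletion I R))) (AdicCompletion I M) :=
    (IsAdicComplete.map_algebraMap_iff _ _).mpr (AdicCompletion.isAdicComplete hI)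
  have hE : ComplFlat.HypE (I.map (algebraMap R (AdicCompletion I R))) (AdicCompletion I M) := by
    refine ComplFlatApp.hypE_of_dense M hIM (AdicCompletion.of I M) ?_ ?_ ?_
    · intro n a
      obtain ⟨a', ha'⟩ := Submodule.mkQ_surjective _ (a.val n)
      refine ⟨a', ?_⟩
      have := (hmem R n (a - algebraMap R (AdicCompletion I R) a')).mpr ?_
      · have h2 : ((I.map (algebraMap R (AdicCompletion I R))) ^ n • ⊤ : Ideal (AdicCompletion I R)) =
            (I.map (algebraMap R (AdicCompletion I R))) ^ n := by
          rw [Ideal.smul_eq_mul, Ideal.mul_top]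
        rw [← h2]
        exact this
      · rw [AdicCompletion.algebraMap_apply, AdicCompletion.val_sub_apply, AdicCompletion.of_apply,
          ← ha']
        exact sub_self _
    · intro n x
      obtain ⟨x', hx'⟩ := Submodule.mkQ_surjective _ (x.val n)
      refine ⟨x', (hmem M n _).mpr ?_⟩
      rw [AdicCompletion.val_sub_apply, AdicCompletion.of_apply, hx', sub_self]
    · intro n m hm
      rw [hmem M n, AdicCompletion.of_apply] at hm
      simpa using hm
  exact ComplFlat.flat_of_complete hE

end Groth.Agent.S0551
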