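import Groth.Statements.S0556
import Groth.Agent.Lib.Helper2.KAorder

set_option autoImplicit false
universe u
open CAlg

namespace Groth.Agent.S0556

/-- Any domain `A` sandwiched between a one-dimensional Noetherian domain `R` and a field `L` of finite
degree over the fraction field of `R` is itself Noetherian. -/
theorem result (R : Type u) [CommRing R]
    [IsDomain R] [IsNoetherianRing R] (hdim : ringKrullDim R = 1) (K L : Type u) [Field K] [Field L]
    [Algebra R K] [IsFractionRing R K] [Algebra K L] [FiniteDimensional K L] [Algebra R L]
    [IsScalarTower R K L] (A : Type u) [CommRing A] [Algebra R A] [Algebra A L]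
    [IsScalarTower R A L] (hA : Function.Injective (algebraMap A L)) :
    IsNoetherianRing A := by
  classical
  haveI : Ring.KrullDimLE 1 R := Ring.krullDimLE_iff.mpr (by rw [hdim]; rfl)
  let S : Set L := Set.range (algebraMap A L)
  let L' : IntermediateField K L := IntermediateField.adjoin K S
  have hSalg : ∀ x ∈ S, IsAlgebraic K x := fun x _ => Algebra.IsAlgebraic.isAlgebraic x
  have hsub : L'.toSubalgebra = Algebra.adjoin K S :=
    IntermediateField.adjoin_toSubalgebra_of_isAlgebraic hSalg
  let φ : A →+* L' := (algebraMap A L).codRestrict L'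
    (fun a => IntermediateField.subset_adjoin K S ⟨a, rfl⟩)
  letI algAL' : Algebra A L' := φ.toAlgebra
  haveI : IsScalarTower R A L' := IsScalarTower.of_algebraMap_eq fun r => Subtype.ext (by
    show algebraMap R L r = algebraMap A L (algebraMap R A r)
    exact IsScalarTower.algebraMap_apply R A L r)
  have hinj : Function.Injective (algebraMap A L') := fun x y h => hA (congrArg Subtype.val h)
  have hcl : ((Submonoid.closure S : Submonoid L) : Set L) = S := by
    have hS : S = ((MonoidHom.mrange ((algebraMap A L : A →+* L) : A →* L) : Submonoid L) :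
        Set L) := by
      rw [MonoidHom.coe_mrange]
      rfl
    rw [hS, Submonoid.closure_eq]
  have hspan : Submodule.span K (Set.range (algebraMap A L')) = ⊤ := by
    rw [eq_top_iff]
    intro z _
    have hz : (z : L) ∈ Submodule.span K S := by
      have h1 : (z : L) ∈ L'.toSubalgebra := z.2
      rw [hsub] at h1
      have h2 : (z : L) ∈ Subalgebra.toSubmodule (Algebra.adjoin K S) := h1
      rw [Algebra.adjoin_eq_span, hcl] at h2
      exact h2
    have himg : S = (L'.val.toLinearMap) '' (Set.range (algebraMap A L')) := by
      ext x
      constructor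
      · rintro ⟨a, rfl⟩
        exact ⟨algebraMap A L' a, ⟨a, rfl⟩, rfl⟩
      · rintro ⟨_, ⟨a, rfl⟩, rfl⟩
        exact ⟨a, rfl⟩
    rw [himg, Submodule.span_image] at hz
    obtain ⟨w, hw, hwz⟩ := hz
    have : w = z := Subtype.ext hwz
    rwa [← this]
  exact (Groth.Agent.Lib.Helper2.KAorder.isNoetherianRing_of_span_eq_top R K L' A hinj hspan).1

end Groth.Agent.S0556
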