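import Groth.Statements.S0557
import Mathlib
import Groth.Agent.Lib.Helper25.LatticeDist
import Groth.Agent.Lib.Helper25.CokerDet
-- import your own Groth.Agent.* helpers here

set_option autoImplicit false
set_option linter.unusedSectionVars false
set_option linter.style.haveILetI false
universe u
open CAlg

namespace Groth.Agent.S0557

open Groth.Agent.Lib.Helper25.LatticeDist Groth.Agent.Lib.Helper25.CokerDet Function

section gen
variable {R : Type u} [CommRing R]

/-- multiplication by `x` -/
noncomputable abbrev mulX (x : R) (N : Type*) [AddCommGroup N] [Module R N] : N →ₗ[R] N :=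
  x • (LinearMap.id : N →ₗ[R] N)

/-- length of `N / xN` -/
noncomputable def cx (x : R) (N : Type*) [AddCommGroup N] [Module R N] : ℕ∞ :=
  Module.length R (N ⧸ LinearMap.range (mulX x N))

lemma span_smul_top_eq_range (N : Type*) [AddCommGroup N] [Module R N] (x : R) :
    (Ideal.span ({x} : Set R) • (⊤ : Submodule R N)) = LinearMap.range (mulX x N) := by
  rw [Submodule.ideal_span_singleton_smul]
  ext y
  simp [Submodule.mem_smul_pointwise_iff_exists]

lemma length_ker_eq_zero {N : Type*} [AddCommGroup N] [Module R N] (T : N →ₗ[R] N)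
    (h : Injective T) : Module.length R (LinearMap.ker T) = 0 := by
  rw [Module.length_eq_zero_iff, LinearMap.ker_eq_bot.2 h]
  infer_instance

/-- additivity of `cx` on short exact sequences of `x`-torsion-free modules -/
lemma cx_add (x : R) {N₁ N₂ N₃ : Type*} [AddCommGroup N₁] [Module R N₁] [AddCommGroup N₂]
    [Module R N₂] [AddCommGroup N₃] [Module R N₃] (f : N₁ →ₗ[R] N₂) (g : N₂ →ₗ[R] N₃)
    (hf : Injective f) (hg : Surjective g) (hfg : Exact f g)
    (h2 : Injective (mulX x N₂)) (h3 : Injective (mulX x N₃)) :
    cx x N₂ = cx x N₁ + cx x N₃ := by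
  have h1 : Injective (mulX x N₁) := by
    intro a b hab
    apply hf
    apply h2
    simpa using congrArg f hab
  have := snake_length f g (mulX x N₁) (mulX x N₂) (mulX x N₃) hf hg hfg
    (by ext; simp) (by ext; simp)
  rw [length_ker_eq_zero _ h1, length_ker_eq_zero _ h2, length_ker_eq_zero _ h3] at this
  simpa [cx] using this

/-- length is bounded by `n` once every finitely generated submodule has length `≤ n` -/
lemma length_le_of_forall_fg {Q : Type*} [AddCommGroup Q] [Module R Q] (n : ℕ∞)
    (h : ∀ Q₀ : Submodule R Q, Q₀.FG → Module.length R Q₀ ≤ n) : Module.length R Q ≤ n := by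
  by_contra hlt
  push Not at hlt
  have hn : n ≠ ⊤ := ne_top_of_lt hlt
  lift n to ℕ using hn
  have h1 : ((n + 1 : ℕ) : ℕ∞) ≤ Module.length R Q := by
    exact_mod_cast Order.add_one_le_of_lt hlt
  have h2 : ((n + 1 : ℕ) : WithBot ℕ∞) ≤ Order.krullDim (Submodule R Q) := by
    rw [← Module.coe_length]
    exact_mod_cast h1
  obtain ⟨l, hl⟩ := Order.le_krullDim_iff.1 h2
  have hy : ∀ i : Fin l.length, ∃ y : Q, y ∈ l i.succ ∧ y ∉ l i.castSucc := fun i =>
    SetLike.exists_of_lt (l.step i)
  choose y hy1 hy2 using hy
  let Q₀ : Submodule R Q := Submodule.span R (Set.range y)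
  have hfg : Q₀.FG := Submodule.fg_span (Set.finite_range y)
  have hyQ : ∀ i, y i ∈ Q₀ := fun i => Submodule.subset_span ⟨i, rfl⟩
  let l' : LTSeries (Submodule R Q₀) :=
    { length := l.length
      toFun := fun i => (l i).comap Q₀.subtype
      step := fun i => by
        refine lt_of_le_of_ne (Submodule.comap_mono (l.step i).le) ?_
        intro heq
        have : (⟨y i, hyQ i⟩ : Q₀) ∈ (l i.succ).comap Q₀.subtype := hy1 i
        rw [← heq] at this
        exact hy2 i this }
  have h3 : ((l'.length : ℕ) : WithBot ℕ∞) ≤ Order.krullDim (Submodule R Q₀) :=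
    Order.LTSeries.length_le_krullDim l'
  rw [← Module.coe_length] at h3
  have h4 : ((n + 1 : ℕ) : ℕ∞) ≤ Module.length R Q₀ := by
    have : l'.length = n + 1 := hl
    rw [this] at h3
    exact_mod_cast h3
  have h5 := h4.trans (h Q₀ hfg)
  have : (n + 1 : ℕ) ≤ n := by exact_mod_cast h5
  omega

end gen

section dimone
variable {R : Type u} [CommRing R] [IsDomain R] [IsNoetherianRing R] [Ring.KrullDimLE 1 R]

/-- `N` embedded in `R`: `ℓ(N/xN) ≤ ℓ(R/xR)` -/
lemma cx_le_of_embed_ring (x : R) (hx : x ≠ 0) {N : Type*} [AddCommGroup N] [Module R N]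
    (j : N →ₗ[R] R) (hj : Injective j) : cx x N ≤ cx x R := by
  by_cases hN : Subsingleton N
  · have : cx x N = 0 := by
      unfold cx
      rw [Module.length_eq_zero_iff]
      infer_instance
    rw [this]; exact bot_le
  · rw [not_subsingleton_iff_nontrivial] at hN
    obtain ⟨n, hn⟩ := exists_ne (0 : N)
    have ha0 : j n ≠ 0 := fun h => hn (hj (by rw [h, map_zero]))
    let I : Submodule R R := LinearMap.range j
    have hfin : Module.length R (R ⧸ I) ≠ ⊤ := by
      apply length_ne_top_of_torsion (j n) (mem_nonZeroDivisors_of_ne_zero ha0)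
      intro y
      obtain ⟨r, rfl⟩ := Submodule.Quotient.mk_surjective _ y
      rw [← Submodule.Quotient.mk_smul, Submodule.Quotient.mk_eq_zero]
      exact ⟨r • n, by simp [mul_comm]⟩
    have hinjR : Injective (mulX x R) := by
      intro b c hbc
      have : x * b = x * c := by simpa using hbc
      exact mul_left_cancel₀ hx this
    have hinjN : Injective (mulX x N) := by
      intro a b hab
      apply hj
      apply hinjR
      simpa using congrArg j hab
    have snake := snake_length j I.mkQ (mulX x N) (mulX x R) (mulX x (R ⧸ I)) hj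
      (Submodule.mkQ_surjective _) (LinearMap.exact_map_mkQ_range j)
      (LinearMap.ext fun y => by simp)
      (LinearMap.ext fun y => by
        change I.mkQ (x • y) = x • I.mkQ y
        rw [map_smul])
    rw [length_ker_eq_zero _ hinjN, length_ker_eq_zero _ hinjR,
      length_ker_eq_length_coker _ hfin] at snake
    have hc3 : Module.length R ((R ⧸ I) ⧸ LinearMap.range (mulX x (R ⧸ I))) ≠ ⊤ :=
      ne_top_of_le_ne_top hfin
        (Module.length_le_of_surjective _ (Submodule.mkQ_surjective _))
    have : cx x R = cx x N := by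
      unfold cx
      rw [zero_add, zero_add, add_comm] at snake
      exact (ENat.add_left_injective_of_ne_top hc3) snake
    rw [this]

variable (K : Type u) [Field K] [Algebra R K] [IsFractionRing R K]

lemma mulX_injective_of_embed (x : R) (hx : x ≠ 0) {V : Type*} [AddCommGroup V] [Module K V]
    [Module R V] [IsScalarTower R K V] {N : Type*} [AddCommGroup N] [Module R N]
    (ι : N →ₗ[R] V) (hι : Injective ι) : Injective (mulX x N) := by
  intro a b hab
  apply hι
  have h1 : x • ι a = x • ι b := by simpa using congrArg ι hab
  rw [← algebraMap_smul K x, ← algebraMap_smul K x] at h1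
  exact smul_right_injective V ((map_ne_zero_iff _ (IsFractionRing.injective R K)).2 hx) h1

lemma cx_le_of_embed_frac_fg (x : R) (hx : x ≠ 0) {N : Type*} [AddCommGroup N] [Module R N]
    [Module.Finite R N] (j : N →ₗ[R] K) (hj : Injective j) : cx x N ≤ cx x R := by
  classical
  obtain ⟨s, hs⟩ := (Module.Finite.fg_top : (⊤ : Submodule R N).FG)
  obtain ⟨d, hd⟩ := IsLocalization.exist_integer_multiples_of_finset (nonZeroDivisors R)
    (s.image j)
  have hd0 : (d : R) ≠ 0 := nonZeroDivisors.coe_ne_zero d
  have hint : ∀ n : N, ((d : R) • j) n ∈ LinearMap.range (Algebra.linearMap R K) := by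
    intro n
    have hn : n ∈ Submodule.span R (s : Set N) := by rw [hs]; trivial
    induction hn using Submodule.span_induction with
    | mem y hy =>
      obtain ⟨r, hr⟩ := hd (j y) (Finset.mem_image_of_mem j hy)
      exact ⟨r, by simpa using hr⟩
    | zero => simp
    | add a b _ _ ha hb => rw [map_add]; exact Submodule.add_mem _ ha hb
    | smul c a _ ha => rw [map_smul]; exact Submodule.smul_mem _ c ha
  let e := LinearEquiv.ofInjective (Algebra.linearMap R K) (IsFractionRing.injective R K)
  let j' : N →ₗ[R] R := e.symm.toLinearMap.comp (((d : R) • j).codRestrict _ hint)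
  have hj' : Injective j' := by
    refine e.symm.injective.comp ?_
    intro a b hab
    have h1 : (d : R) • j a = (d : R) • j b := congrArg Subtype.val hab
    rw [← algebraMap_smul K (d : R), ← algebraMap_smul K (d : R)] at h1
    exact hj (smul_right_injective K
      ((map_ne_zero_iff _ (IsFractionRing.injective R K)).2 hd0) h1)
  exact cx_le_of_embed_ring x hx j' hj'

lemma cx_le_of_embed_frac (x : R) (hx : x ≠ 0) {N : Type*} [AddCommGroup N] [Module R N]
    (j : N →ₗ[R] K) (hj : Injective j) : cx x N ≤ cx x R := by
  classical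
  unfold cx
  apply length_le_of_forall_fg
  intro Q₀ hQ₀
  obtain ⟨t, ht⟩ := hQ₀
  have hsurj : ∀ q : N ⧸ LinearMap.range (mulX x N), ∃ n : N, Submodule.Quotient.mk n = q :=
    Submodule.Quotient.mk_surjective _
  choose lift hlift using hsurj
  let N₀ : Submodule R N := Submodule.span R ((t.image lift : Finset N) : Set N)
  haveI : Module.Finite R N₀ := Module.Finite.span_of_finite R (Finset.finite_toSet _)
  let φ : (N₀ ⧸ LinearMap.range (mulX x N₀)) →ₗ[R] (N ⧸ LinearMap.range (mulX x N)) :=
    Submodule.mapQ _ _ N₀.subtype (by rintro _ ⟨y, rfl⟩; exact ⟨y, by simp⟩)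
  have hle : Q₀ ≤ LinearMap.range φ := by
    rw [← ht, Submodule.span_le]
    intro q hq
    refine ⟨Submodule.Quotient.mk ⟨lift q, Submodule.subset_span
      (Finset.mem_coe.2 (Finset.mem_image_of_mem _ hq))⟩, ?_⟩
    simp [φ, hlift]
  calc Module.length R Q₀ ≤ Module.length R (LinearMap.range φ) :=
        Module.length_le_of_injective (Submodule.inclusion hle) (Submodule.inclusion_injective hle)
    _ ≤ Module.length R (N₀ ⧸ LinearMap.range (mulX x N₀)) :=
        Module.length_le_of_surjective φ.rangeRestrict (LinearMap.surjective_rangeRestrict φ)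
    _ ≤ Module.length R (R ⧸ LinearMap.range (mulX x R)) :=
        cx_le_of_embed_frac_fg K x hx (j.comp N₀.subtype)
          (hj.comp (Submodule.injective_subtype _))

lemma cx_le_of_embed_pi (x : R) (hx : x ≠ 0) : ∀ (r : ℕ) (N : Type u) [AddCommGroup N]
    [Module R N] (ι : N →ₗ[R] (Fin r → K)), Injective ι → cx x N ≤ r * cx x R := by
  intro r
  induction r with
  | zero =>
    intro N _ _ ι hι
    have : Subsingleton N := hι.subsingleton
    have : cx x N = 0 := by
      unfold cx
      rw [Module.length_eq_zero_iff]
      infer_instance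
    rw [this]; exact bot_le
  | succ r ih =>
    intro N _ _ ι hι
    let q : N →ₗ[R] K := (LinearMap.proj (Fin.last r)).comp ι
    have h2 : Injective (mulX x N) := mulX_injective_of_embed K x hx ι hι
    have h3 : Injective (mulX x (LinearMap.range q)) :=
      mulX_injective_of_embed K x hx (LinearMap.range q).subtype (Submodule.injective_subtype _)
    have hadd := cx_add x (LinearMap.ker q).subtype q.rangeRestrict
      (Submodule.injective_subtype _) (LinearMap.surjective_rangeRestrict q)
      (by
        intro n
        constructor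
        · intro hn
          have : q n = 0 := congrArg Subtype.val hn
          exact ⟨⟨n, this⟩, rfl⟩
        · rintro ⟨m, rfl⟩
          exact Subtype.ext m.2) h2 h3
    have ih' := ih (LinearMap.ker q)
      ((LinearMap.funLeft R K Fin.castSucc).comp (ι.comp (LinearMap.ker q).subtype)) (by
        intro a b hab
        apply Subtype.ext
        apply hι
        funext i
        refine Fin.lastCases ?_ (fun i => ?_) i
        · have ha : q a = 0 := a.2
          have hb : q b = 0 := b.2
          exact ha.trans hb.symm
        · exact congrFun hab i)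
    have h3' := cx_le_of_embed_frac K x hx (LinearMap.range q).subtype
      (Submodule.injective_subtype _)
    rw [hadd]
    push_cast
    rw [add_mul, one_mul]
    exact add_le_add ih' h3'

end dimone

/-- Let `R` be a Noetherian local domain of dimension one with fraction field `K`, `M` an `R`-submodule
of `K^r`, and `x` a nonzero element of `R`. Then `R/xR` has finite length and the length of `M/xM`
is at most `r` times the length of `R/xR`. -/
theorem result (R : Type u) [CommRing R] [IsDomain R]
    [IsNoetherianRing R] [IsLocalRing R] (hdim : ringKrullDim R = 1) (K : Type u) [Field K]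
    [Algebra R K] [IsFractionRing R K] (r : ℕ) (M : Submodule R (Fin r → K)) (x : R) (hx : x ≠ 0) :
    Module.length R (R ⧸ Ideal.span ({x} : Set R)) ≠ ⊤ ∧
      Module.length R (M ⧸ (Ideal.span ({x} : Set R) • (⊤ : Submodule R M))) ≤
        r * Module.length R (R ⧸ Ideal.span ({x} : Set R)) := by
  haveI : Ring.KrullDimLE 1 R := by
    rw [Ring.krullDimLE_iff, hdim]; rfl
  have hR : Module.length R (R ⧸ Ideal.span ({x} : Set R)) = cx x R := by
    unfold cx
    refine (Submodule.quotEquivOfEq _ _ ?_).length_eq
    rw [← span_smul_top_eq_range, smul_eq_mul, Ideal.mul_top]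
  have hM : Module.length R (M ⧸ (Ideal.span ({x} : Set R) • (⊤ : Submodule R M))) = cx x M := by
    unfold cx
    exact (Submodule.quotEquivOfEq _ _ (span_smul_top_eq_range M x)).length_eq
  refine ⟨?_, ?_⟩
  · apply length_ne_top_of_torsion x (mem_nonZeroDivisors_of_ne_zero hx)
    intro y
    obtain ⟨r, rfl⟩ := Submodule.Quotient.mk_surjective _ y
    rw [← Submodule.Quotient.mk_smul, Submodule.Quotient.mk_eq_zero]
    exact Ideal.mem_span_singleton.2 ⟨r, by simp [mul_comm]⟩
  · rw [hM, hR]
    exact cx_le_of_embed_pi K x hx r M M.subtype (Submodule.injective_subtype _)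

end Groth.Agent.S0557
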