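import Groth.Statements.S0561
import Groth.Agent.Lib.helper19.RegularLocalQuot

set_option autoImplicit false
universe u
open CAlg

namespace Groth.Agent.S0561

/-- Let `R` be a regular local ring of dimension `d` and `I` an ideal with `R/I` a regular local ring.
Then there are elements `x₁, …, x_d` generating the maximal ideal such that `I` is generated by `x₁,
…, x_c` for some `c ≤ d`. -/
theorem result (R : Type u) [CommRing R]
    [IsRegularLocalRing R] (d : ℕ) (hd : ringKrullDim R = d) (I : Ideal R)
    [IsRegularLocalRing (R ⧸ I)] :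
    ∃ (x : Fin d → R) (c : ℕ) (hc : c ≤ d), Ideal.span (Set.range x) = IsLocalRing.maximalIdeal R ∧
      I = Ideal.span (Set.range (fun i : Fin c => x (Fin.castLE hc i))) := by
  obtain ⟨l₁, l₂, hlen, hspan, hI⟩ :=
    Groth.Agent.Lib.helper19.exists_lists_of_quotient_regular_aux d R I hd
  have hL : (l₁ ++ l₂).length = d := by simpa using hlen
  have hc : l₁.length ≤ d := by omega
  refine ⟨fun i => (l₁ ++ l₂)[i.val]'(by rw [hL]; exact i.isLt), l₁.length, hc, ?_, ?_⟩
  · rw [← hspan]
    unfold Ideal.ofList
    congr 1
    ext r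
    simp only [Set.mem_range, Set.mem_setOf_eq]
    constructor
    · rintro ⟨i, rfl⟩
      exact List.getElem_mem _
    · intro hr
      obtain ⟨n, hn, rfl⟩ := List.getElem_of_mem hr
      exact ⟨⟨n, by rw [← hL]; exact hn⟩, rfl⟩
  · rw [hI]
    unfold Ideal.ofList
    congr 1
    ext r
    simp only [Set.mem_range, Set.mem_setOf_eq]
    constructor
    · intro hr
      obtain ⟨n, hn, rfl⟩ := List.getElem_of_mem hr
      refine ⟨⟨n, hn⟩, ?_⟩
      simp only [Fin.val_castLE]
      exact List.getElem_append_left hn
    · rintro ⟨i, rfl⟩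
      simp only [Fin.val_castLE]
      rw [List.getElem_append_left i.isLt]
      exact List.getElem_mem _

end Groth.Agent.S0561
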