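import Groth.Statements.S0566
import Mathlib
import Groth.Agent.Lib.Helper12.NagFTJ

set_option autoImplicit false
universe u
open CAlg

namespace Groth.Agent.S0566

/-- Any algebra of finite type over a Nagata ring is again a Nagata ring. -/
theorem result (R : Type u) [CommRing R] (hR : CAlg.IsNagata R) (S : Type u)
    [CommRing S] [Algebra R S] [Algebra.FiniteType R S] : CAlg.IsNagata S := by
  exact Groth.Agent.Lib.Helper12.NagFT.isNagata_of_finiteType R hR S

end Groth.Agent.S0566
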