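import Groth.Statements.S0574
import Mathlib.RingTheory.DedekindDomain.IntegralClosure
-- import your own Groth.Agent.* helpers here

set_option autoImplicit false
universe u
open CAlg

namespace Groth.Agent.S0574

/-- For Noetherian domains of characteristic zero the conditions N-1 and N-2 coincide. -/
theorem result (R : Type u) [CommRing R] [IsDomain R] [IsNoetherianRing R]
    [CharZero R] : CAlg.IsN1 R ↔ CAlg.IsN2 R := by
  constructor
  · intro h1 L _ _ _ _ hfin
    haveI : Module.Finite R (integralClosure R (FractionRing R)) := h1
    haveI : IsNoetherian R (integralClosure R (FractionRing R)) :=
      isNoetherian_of_isNoetherianRing_of_finite R _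
    haveI : IsNoetherianRing (integralClosure R (FractionRing R)) :=
      isNoetherianRing_iff.mpr (isNoetherian_of_tower R inferInstance)
    haveI : IsFractionRing (integralClosure R (FractionRing R)) (FractionRing R) :=
      integralClosure.isFractionRing_of_finite_extension (FractionRing R) (FractionRing R)
    haveI : IsIntegrallyClosed (integralClosure R (FractionRing R)) :=
      integralClosure.isIntegrallyClosedOfFiniteExtension (FractionRing R)
    haveI : CharZero (FractionRing R) :=
      charZero_of_injective_algebraMap (IsFractionRing.injective R (FractionRing R))
    haveI : Algebra.IsSeparable (FractionRing R) L := inferInstance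
    haveI : Algebra.IsIntegral R (integralClosure R (FractionRing R)) := inferInstance
    letI alg : Algebra (integralClosure R (FractionRing R)) (integralClosure R L) :=
      (IsIntegralClosure.lift R (integralClosure R L) L :
        integralClosure R (FractionRing R) →ₐ[R] integralClosure R L).toRingHom.toAlgebra
    haveI : IsScalarTower (integralClosure R (FractionRing R)) (integralClosure R L) L :=
      IsScalarTower.of_algebraMap_eq (fun x =>
        (IsIntegralClosure.algebraMap_lift R (integralClosure R L) L x).symm)
    haveI : IsScalarTower R (integralClosure R (FractionRing R)) (integralClosure R L) :=
      IsScalarTower.of_algebraMap_eq (fun x =>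
        ((IsIntegralClosure.lift R (integralClosure R L) L :
          integralClosure R (FractionRing R) →ₐ[R] integralClosure R L).commutes x).symm)
    haveI : IsIntegralClosure (integralClosure R L) (integralClosure R (FractionRing R)) L :=
      IsIntegralClosure.tower_top (R := R)
    haveI : Module.Finite (integralClosure R (FractionRing R)) (integralClosure R L) :=
      IsIntegralClosure.finite (integralClosure R (FractionRing R)) (FractionRing R) L
        (integralClosure R L)
    exact Module.Finite.trans (integralClosure R (FractionRing R)) (integralClosure R L)
  · intro h2
    exact h2 (FractionRing R) inferInstance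

end Groth.Agent.S0574
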