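import Groth.Statements.S0578
import Groth.Agent.Lib.Helper12.CohenExistB

set_option autoImplicit false
universe u
open CAlg

namespace Groth.Agent.S0578

/-- For every prime `p` and every field `k` of characteristic `p` there is a Cohen ring (a complete
discrete valuation ring with uniformizer `p`) whose residue field is isomorphic to `k`. -/
theorem result (p : ℕ) [Fact p.Prime] (k : Type u) [Field k] [CharP k p] :
    ∃ (Λ : Type u) (_ : CommRing Λ) (_ : IsLocalRing Λ), CAlg.IsCohenRing Λ ∧
      Nonempty (IsLocalRing.ResidueField Λ ≃+* k) := by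
  obtain ⟨Λ, i1, hdom, hdvr, hcomp, hm, he⟩ :=
    Groth.Agent.Lib.Helper12.CohenExist.exists_cohenRing p k
  exact ⟨Λ, i1, inferInstance, ⟨hdom, hdvr, hcomp, p, (Fact.out : p.Prime), hm⟩, he⟩

end Groth.Agent.S0578
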