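import Groth.Statements.S0579
import Mathlib.RingTheory.Smooth.Field
import Mathlib.RingTheory.Smooth.AdicCompletion
import Mathlib.RingTheory.AlgebraicIndependent.TranscendenceBasis
import Mathlib.FieldTheory.Perfect
import Mathlib.Algebra.Algebra.Rat
-- import your own Groth.Agent.* helpers here

set_option autoImplicit false
universe u
open CAlg

namespace Groth.Agent.S0579

/-- A local ring which is complete with respect to its maximal ideal and whose residue field has
characteristic zero admits a coefficient field: there is a ring homomorphism from the residue field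
to the ring which is a section of the residue map. -/
theorem result (R : Type u) [CommRing R] [IsLocalRing R]
    [IsAdicComplete (IsLocalRing.maximalIdeal R) R] [CharZero (IsLocalRing.ResidueField R)] :
    ∃ s : IsLocalRing.ResidueField R →+* R, (IsLocalRing.residue R).comp s = RingHom.id _ := by
  classical
  -- every nonzero integer is a unit of `R`
  have hunit : ∀ y : nonZeroDivisors ℤ, IsUnit (Int.castRingHom R (y : ℤ)) := by
    intro y
    have hy : (y : ℤ) ≠ 0 := nonZeroDivisors.ne_zero y.2
    rw [← IsLocalRing.notMem_maximalIdeal, ← IsLocalRing.residue_eq_zero_iff]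
    rw [eq_intCast, map_intCast]
    exact_mod_cast hy
  letI algR : Algebra ℚ R := (IsLocalization.lift (M := nonZeroDivisors ℤ) (S := ℚ) hunit).toAlgebra
  -- the residue field is formally smooth over ℚ
  haveI : Algebra.FormallySmooth ℚ (IsLocalRing.ResidueField R) := by
    obtain ⟨s, hs⟩ := exists_isTranscendenceBasis ℚ (IsLocalRing.ResidueField R)
    haveI : Algebra.IsAlgebraic (IntermediateField.adjoin ℚ (Set.range (Subtype.val : s → IsLocalRing.ResidueField R)))
        (IsLocalRing.ResidueField R) := hs.isAlgebraic_field
    exact Algebra.FormallySmooth.of_algebraicIndependent_of_isSeparable hs.1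
  let e : IsLocalRing.ResidueField R →+* R ⧸ IsLocalRing.maximalIdeal R := RingHom.id _
  let f : IsLocalRing.ResidueField R →ₐ[ℚ] R ⧸ IsLocalRing.maximalIdeal R :=
    { e with commutes' := fun r => e.map_rat_algebraMap r }
  obtain ⟨g, hg⟩ := Algebra.FormallySmooth.exists_mkₐ_comp_eq_of_isAdicComplete
    (I := IsLocalRing.maximalIdeal R) f
  refine ⟨g.toRingHom, ?_⟩
  ext x
  have := congrArg (fun h => h x) hg
  exact this

end Groth.Agent.S0579
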