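import Groth.Statements.S0583
import Groth.Agent.Lib.Helper2.Kaplansky

set_option autoImplicit false
universe u
open scoped Classical
open CAlg

namespace Groth.Agent.S0583

/-- If a module is an internal direct sum of countably generated submodules, then any direct summand of
it is again an internal direct sum of countably generated submodules. -/
theorem result (R : Type u) [CommRing R] (M : Type u)
    [AddCommGroup M] [Module R M] (ι : Type u) (N : ι → Submodule R M) (hN : DirectSum.IsInternal N)
    (hc : ∀ i, CAlg.IsCountablyGenerated R (N i)) (P Q : Submodule R M) (hPQ : IsCompl P Q) :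
    ∃ (κ : Type u) (L : κ → Submodule R P), DirectSum.IsInternal L ∧
      ∀ k, CAlg.IsCountablyGenerated R (L k) := by
  classical
  obtain ⟨hind, htop⟩ := (DirectSum.isInternal_submodule_iff_iSupIndep_and_iSup_eq_top N).mp hN
  have hc' : ∀ i, Groth.Agent.Lib.Helper2.Kaplansky.CG (N i) := fun i =>
    (Groth.Agent.Lib.Helper2.Kaplansky.cg_iff_top (N i)).mpr (hc i)
  obtain ⟨𝒟, h𝒟ind, h𝒟top, h𝒟cg⟩ :=
    Groth.Agent.Lib.Helper2.Kaplansky.main N hind htop hc' P Q hPQ
  refine ⟨↥𝒟, fun k => k.1, ?_, ?_⟩
  · refine DirectSum.isInternal_submodule_of_iSupIndep_of_iSup_eq_top (dec_ι := _)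
      ((sSupIndep_iff 𝒟).mp h𝒟ind) ?_
    rw [← h𝒟top, sSup_eq_iSup']
  · intro k
    exact (Groth.Agent.Lib.Helper2.Kaplansky.cg_iff_top k.1).mp (h𝒟cg k.1 k.2)

end Groth.Agent.S0583
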