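import Groth.Statements.S0584
-- import your own Groth.Agent.* helpers here
import Groth.Agent.Lib.Helper23.Kap6

set_option autoImplicit false
universe u
open scoped Classical
open CAlg

namespace Groth.Agent.S0584

/-- Projectivity of a module is equivalent to the conjunction of three conditions — flatness, the
Mittag-Leffler property, and being an internal direct sum of countably generated submodules. -/
theorem result (R : Type u) [CommRing R] (M : Type u)
    [AddCommGroup M] [Module R M] :
    Module.Projective R M ↔ (Module.Flat R M ∧ CAlg.IsMittagLeffler R M ∧
      ∃ (ι : Type u) (N : ι → Submodule R M), DirectSum.IsInternal N ∧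
        ∀ i, CAlg.IsCountablyGenerated R (N i)) := by
  constructor
  · intro hP
    refine ⟨inferInstance, Groth.Agent.Lib.Helper23.Kap.ML_of_projective M, ?_⟩
    obtain ⟨I, N, hind, htop, hcg⟩ :=
      Groth.Agent.Lib.Helper23.Kap.exists_directSum_cg_of_projective (R := R) (M := M)
    exact ⟨I, N, DirectSum.isInternal_submodule_of_iSupIndep_of_iSup_eq_top hind htop, hcg⟩
  · rintro ⟨hflat, hML, I, N, hint, hcg⟩
    exact Groth.Agent.Lib.Helper23.Kap.projective_of_flat_ML_directSum hML N
      hint.submodule_iSupIndep hint.submodule_iSup_eq_top hcg

end Groth.Agent.S0584
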