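import Groth.Statements.S0587
import Mathlib.LinearAlgebra.Finsupp.LinearCombination
import Mathlib.LinearAlgebra.TensorProduct.Basic

set_option autoImplicit false
universe u
open CAlg
open scoped TensorProduct

namespace Groth.Agent.S0587

/-- A module `M` is finitely generated exactly when for every family of modules `(Qᵢ)` the natural map
from `M ⊗ ∏ Qᵢ` to `∏ (M ⊗ Qᵢ)` is surjective. -/
theorem result (R : Type u) [CommRing R] (M : Type u)
    [AddCommGroup M] [Module R M] :
    Module.Finite R M ↔ ∀ (ι : Type u) (Q : ι → Type u) [∀ i, AddCommGroup (Q i)]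
      [∀ i, Module R (Q i)], Function.Surjective (TensorProduct.piRightHom R R M Q) := by
  classical
  constructor
  · intro hfin ι Q _ _ t
    obtain ⟨s, hs⟩ := hfin.fg_top
    have key : ∀ (N : Type u) [AddCommGroup N] [Module R N] (x : TensorProduct R M N),
        ∃ q : M → N, x = ∑ m ∈ s, m ⊗ₜ[R] q m := by
      intro N _ _ x
      induction x using TensorProduct.induction_on with
      | zero => exact ⟨fun _ => 0, by simp⟩
      | tmul a n =>
        have ha : a ∈ Submodule.span R (s : Set M) := by rw [hs]; trivial
        obtain ⟨f, -, hf⟩ := Submodule.mem_span_finset.1 ha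
        refine ⟨fun m => f m • n, ?_⟩
        rw [← hf, TensorProduct.sum_tmul]
        refine Finset.sum_congr rfl fun m _ => ?_
        rw [TensorProduct.smul_tmul]
      | add x y hx hy =>
        obtain ⟨q1, h1⟩ := hx
        obtain ⟨q2, h2⟩ := hy
        refine ⟨fun m => q1 m + q2 m, ?_⟩
        rw [h1, h2, ← Finset.sum_add_distrib]
        refine Finset.sum_congr rfl fun m _ => ?_
        rw [TensorProduct.tmul_add]
    choose q hq using fun i => key (Q i) (t i)
    refine ⟨∑ m ∈ s, m ⊗ₜ[R] (fun i => q i m), ?_⟩
    rw [map_sum]
    funext i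
    rw [Finset.sum_apply, hq i]
    refine Finset.sum_congr rfl fun m _ => ?_
    rw [TensorProduct.piRightHom_tmul]
  · intro h
    have key : ∀ x : TensorProduct R M (M → R), ∃ s : Finset M, ∀ m : M,
        TensorProduct.rid R M (TensorProduct.piRightHom R R M (fun _ : M => R) x m) ∈
          Submodule.span R (s : Set M) := by
      intro x
      induction x using TensorProduct.induction_on with
      | zero => exact ⟨∅, fun m => by simp⟩
      | tmul a f =>
        refine ⟨{a}, fun m => ?_⟩
        rw [TensorProduct.piRightHom_tmul, TensorProduct.rid_tmul]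
        exact Submodule.smul_mem _ _ (Submodule.subset_span (by simp))
      | add x y hx hy =>
        obtain ⟨s1, h1⟩ := hx
        obtain ⟨s2, h2⟩ := hy
        refine ⟨s1 ∪ s2, fun m => ?_⟩
        rw [map_add, Pi.add_apply, map_add]
        refine Submodule.add_mem _ ?_ ?_
        · exact Submodule.span_mono (by simp) (h1 m)
        · exact Submodule.span_mono (by simp) (h2 m)
    obtain ⟨x, hx⟩ := h M (fun _ => R) (fun m => m ⊗ₜ[R] (1 : R))
    obtain ⟨s, hs⟩ := key x
    refine ⟨⟨s, ?_⟩⟩
    rw [eq_top_iff]
    intro m _
    have := hs m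
    rw [hx, TensorProduct.rid_tmul, one_smul] at this
    exact this

end Groth.Agent.S0587
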