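import Groth.Statements.S0588
import Groth.Agent.S0587
import Mathlib.LinearAlgebra.TensorProduct.RightExactness
import Mathlib.RingTheory.Flat.Basic

set_option autoImplicit false
universe u
open CAlg

namespace Groth.Agent.S0588

open scoped TensorProduct

section helpers

variable (R : Type u) [CommRing R]

/-- naturality of `piRightHom` in the first variable -/
lemma piRightHom_rTensor {N N' : Type u} [AddCommGroup N] [Module R N] [AddCommGroup N']
    [Module R N'] {ι : Type u} (Q : ι → Type u) [∀ i, AddCommGroup (Q i)] [∀ i, Module R (Q i)]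
    (h : N →ₗ[R] N') (x : N ⊗[R] (∀ i, Q i)) (i : ι) :
    TensorProduct.piRightHom R R N' Q (h.rTensor _ x) i =
      h.rTensor (Q i) (TensorProduct.piRightHom R R N Q x i) := by
  induction x using TensorProduct.induction_on with
  | zero => simp
  | tmul a q => simp [TensorProduct.piRightHom_tmul]
  | add x y hx hy => simp only [map_add, Pi.add_apply, hx, hy]

/-- refined converse of S0587 -/
lemma finite_of_surjective (K : Type u) [AddCommGroup K] [Module R K]
    (h : Function.Surjective (TensorProduct.piRightHom R R K (fun _ : K => R))) :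
    Module.Finite R K := by
  classical
  have key : ∀ x : TensorProduct R K (K → R), ∃ s : Finset K, ∀ m : K,
      TensorProduct.rid R K (TensorProduct.piRightHom R R K (fun _ : K => R) x m) ∈
        Submodule.span R (s : Set K) := by
    intro x
    induction x using TensorProduct.induction_on with
    | zero => exact ⟨∅, fun m => by simp⟩
    | tmul a f =>
      refine ⟨{a}, fun m => ?_⟩
      rw [TensorProduct.piRightHom_tmul, TensorProduct.rid_tmul]
      exact Submodule.smul_mem _ _ (Submodule.subset_span (by simp))
    | add x y hx hy =>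
      obtain ⟨s1, h1⟩ := hx
      obtain ⟨s2, h2⟩ := hy
      refine ⟨s1 ∪ s2, fun m => ?_⟩
      rw [map_add, Pi.add_apply, map_add]
      refine Submodule.add_mem _ ?_ ?_
      · exact Submodule.span_mono (by simp) (h1 m)
      · exact Submodule.span_mono (by simp) (h2 m)
  obtain ⟨x, hx⟩ := h (fun m => m ⊗ₜ[R] (1 : R))
  obtain ⟨s, hs⟩ := key x
  refine ⟨⟨s, ?_⟩⟩
  rw [eq_top_iff]
  intro m _
  have := hs m
  rw [hx, TensorProduct.rid_tmul, one_smul] at this
  exact this

/-- `piRightHom` is injective for a finite free module `Fin n → R`. -/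
lemma piRightHom_injective_free (n : ℕ) {ι : Type u} (Q : ι → Type u) [∀ i, AddCommGroup (Q i)]
    [∀ i, Module R (Q i)] :
    Function.Injective (TensorProduct.piRightHom R R (Fin n → R) Q) := by
  classical
  let e : ∀ (N : Type u) [AddCommGroup N] [Module R N], (Fin n → R) ⊗[R] N ≃ₗ[R] (Fin n → N) :=
    fun N _ _ => (TensorProduct.comm R (Fin n → R) N) ≪≫ₗ TensorProduct.piScalarRight R R N (Fin n)
  have he : ∀ (N : Type u) [AddCommGroup N] [Module R N] (f : Fin n → R) (q : N) (j : Fin n),
      e N (f ⊗ₜ q) j = f j • q := by
    intro N _ _ f q j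
    simp [e, TensorProduct.piScalarRight_apply, TensorProduct.piScalarRightHom_tmul]
  have key : ∀ (y : (Fin n → R) ⊗[R] (∀ i, Q i)) (j : Fin n) (i : ι),
      e (∀ i, Q i) y j i = e (Q i) (TensorProduct.piRightHom R R (Fin n → R) Q y i) j := by
    intro y j i
    induction y using TensorProduct.induction_on with
    | zero => simp
    | tmul f q => rw [he, TensorProduct.piRightHom_tmul, he]; rfl
    | add x y hx hy => simp only [map_add, Pi.add_apply, hx, hy]
  rw [← LinearMap.ker_eq_bot, LinearMap.ker_eq_bot']
  intro y hy
  apply (e (∀ i, Q i)).injective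
  rw [map_zero]
  funext j i
  rw [key, hy]
  simp

end helpers

/-- A module `M` is finitely presented exactly when for every family of modules `(Qᵢ)` the natural map
from `M ⊗ ∏ Qᵢ` to `∏ (M ⊗ Qᵢ)` is bijective. -/
theorem result (R : Type u) [CommRing R] (M : Type u)
    [AddCommGroup M] [Module R M] :
    Module.FinitePresentation R M ↔ ∀ (ι : Type u) (Q : ι → Type u) [∀ i, AddCommGroup (Q i)]
      [∀ i, Module R (Q i)], Function.Bijective (TensorProduct.piRightHom R R M Q) := by
  classical
  constructor
  · intro hfp ι Q _ _
    refine ⟨?_, (Groth.Agent.S0587.result R M).1 inferInstance ι Q⟩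
    obtain ⟨n, m, f, g, hf, hgf⟩ := Module.FinitePresentation.exists_fin' R M
    rw [← LinearMap.ker_eq_bot, LinearMap.ker_eq_bot']
    intro x hx
    obtain ⟨y, rfl⟩ := LinearMap.rTensor_surjective (∀ i, Q i) hf x
    have h1 : ∀ i, TensorProduct.piRightHom R R (Fin n → R) Q y i ∈
        LinearMap.range (g.rTensor (Q i)) := by
      intro i
      have hex := rTensor_exact (Q i) hgf hf
      rw [← LinearMap.exact_iff.1 hex, LinearMap.mem_ker, ← piRightHom_rTensor, hx]
      rfl
    choose t ht using h1
    obtain ⟨z, hz⟩ := (Groth.Agent.S0587.result R (Fin m → R)).1 inferInstance ι Q t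
    have h2 : g.rTensor _ z = y := by
      apply piRightHom_injective_free R n Q
      funext i
      rw [piRightHom_rTensor, hz, ht]
    rw [← h2]
    have hex := rTensor_exact (∀ i, Q i) hgf hf
    exact hex.apply_apply_eq_zero z
  · intro h
    have hfin : Module.Finite R M :=
      (Groth.Agent.S0587.result R M).2 (fun ι Q _ _ => (h ι Q).2)
    obtain ⟨n, l, hl⟩ := Module.Finite.exists_fin' R M
    refine Module.finitePresentation_of_surjective l hl ?_
    let K := LinearMap.ker l
    have hKfin : Module.Finite R K := by
      apply finite_of_surjective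
      intro t
      -- push t to F ⊗ R
      obtain ⟨y, hy⟩ := (Groth.Agent.S0587.result R (Fin n → R)).1 inferInstance K (fun _ => R)
        (fun k => K.subtype.rTensor R (t k))
      have hex : Function.Exact K.subtype l := by
        rw [LinearMap.exact_iff]; simp [K]
      have h3 : l.rTensor _ y = 0 := by
        apply (h K (fun _ => R)).1
        rw [map_zero]
        funext k
        rw [piRightHom_rTensor, hy]
        exact (rTensor_exact R hex hl).apply_apply_eq_zero (t k)
      have hex2 := rTensor_exact (K → R) hex hl
      obtain ⟨z, hz⟩ := (hex2 y).1 h3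
      refine ⟨z, ?_⟩
      funext k
      apply Module.Flat.rTensor_preserves_injective_linearMap (M := R) K.subtype
        (Submodule.injective_subtype K)
      have h5 := piRightHom_rTensor R (fun _ : K => R) K.subtype z k
      rw [hz, hy] at h5
      exact h5.symm
    exact Module.Finite.iff_fg.1 hKfin

end Groth.Agent.S0588
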