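import Groth.Statements.S0605
import Groth.Agent.Lib.helper11.ABFormula
import Groth.Agent.Lib.helper11.GorensteinLocal
import Groth.Agent.Lib.helper11.GlDimRegular
import Groth.Agent.S0342

set_option autoImplicit false
universe u
open CAlg

namespace Groth.Agent.S0605

/-- Over a regular local ring, a finitely generated module whose depth equals the dimension of the ring
(a maximal Cohen–Macaulay module) is free. -/
theorem result (R : Type u) [CommRing R]
    [IsRegularLocalRing R] (M : Type u) [AddCommGroup M] [Module R M] [Module.Finite R M]
    (h : ((LocCoh.depth R M : ℕ∞) : WithBot ℕ∞) = ringKrullDim R) : Module.Free R M := by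
  classical
  by_cases hM : Subsingleton M
  · exact Module.Free.of_subsingleton R M
  rw [not_subsingleton_iff_nontrivial] at hM
  have hd : ringKrullDim R = ((IsLocalRing.maximalIdeal R).spanFinrank : ℕ) :=
    (IsRegularLocalRing.spanFinrank_maximalIdeal (R := R)).symm
  have hG := (Groth.Agent.S0342.result R).exists_hasInjectiveDimensionLT
  have hdepth : LocCoh.depth R R = ((IsLocalRing.maximalIdeal R).spanFinrank : ℕ) :=
    (Groth.Agent.Lib.helper11.GorensteinLocal.gorenstein_main hG _ hd).2.2
  have hfin := Groth.Agent.Lib.helper11.GlDimRegular.hasProjectiveDimensionLT_of_isRegularLocalRing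
    _ hd (ModuleCat.of R M)
  have hex : ∃ e, CategoryTheory.HasProjectiveDimensionLT (ModuleCat.of R M) (e + 1) := ⟨_, hfin⟩
  have he1 := Nat.find_spec hex
  have he2 : ¬ CategoryTheory.HasProjectiveDimensionLT (ModuleCat.of R M) (Nat.find hex) := by
    intro hcon
    rcases he : Nat.find hex with _ | e'
    · rw [he] at hcon
      have hz : CategoryTheory.Limits.IsZero (ModuleCat.of R M) :=
        CategoryTheory.isZero_of_hasProjectiveDimensionLT_zero _
      exact not_subsingleton M (ModuleCat.subsingleton_of_isZero hz)
    · rw [he] at hcon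
      exact Nat.find_min hex (m := e') (by omega) hcon
  have hAB := Groth.Agent.Lib.helper11.ABFormula.depth_eq_add_depth M _ he1 he2
  rw [hd] at h
  have h' : LocCoh.depth R M = ((IsLocalRing.maximalIdeal R).spanFinrank : ℕ) := by
    exact_mod_cast h
  rw [hdepth, h'] at hAB
  have he0 : Nat.find hex = 0 := by
    have : ((IsLocalRing.maximalIdeal R).spanFinrank : ℕ∞) =
        ((Nat.find hex + (IsLocalRing.maximalIdeal R).spanFinrank : ℕ) : ℕ∞) := by
      rw [hAB]; push_cast; rfl
    have := ENat.coe_inj.mp this
    omega
  rw [he0, zero_add, ← CategoryTheory.projective_iff_hasProjectiveDimensionLT_one,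
    ← IsProjective.iff_projective] at he1
  haveI : Module.Flat R M := Module.Flat.of_projective
  exact Module.free_of_flat_of_isLocalRing

end Groth.Agent.S0605
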