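import Groth.Statements.S0608
import Mathlib
import Groth.Agent.Lib.Helper21.QuasiReg

set_option autoImplicit false
universe u
open RRAlg

namespace Groth.Agent.S0608

section helpers
open Groth.Agent.Lib.Helper21.QuasiReg MvPolynomial

variable {A : Type u} [CommRing A] {n : ℕ} (a : Fin n → A)

/-- the Rees map -/
noncomputable abbrev φ : MvPolynomial (Fin n) A →ₐ[A] Polynomial A :=
  MvPolynomial.aeval (R := A) (fun i : Fin n => Polynomial.C (a i) * (Polynomial.X : Polynomial A))

lemma φ_monomial (m : Fin n →₀ ℕ) (c : A) :
    φ a (monomial m c) = Polynomial.monomial (∑ i, m i) (c * ∏ i, a i ^ m i) := by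
  rw [φ, aeval_monomial, Finsupp.prod_fintype _ _ (fun i => pow_zero _)]
  simp only [mul_pow, Finset.prod_mul_distrib, Finset.prod_pow_eq_pow_sum]
  rw [← Polynomial.C_mul_X_pow_eq_monomial, Polynomial.algebraMap_eq, map_mul, map_prod]
  simp only [map_pow]
  ring

lemma coeff_φ (F : MvPolynomial (Fin n) A) (d : ℕ) :
    (φ a F).coeff d = eval a (homogeneousComponent d F) := by
  conv_lhs => rw [← F.support_sum_monomial_coeff]
  rw [homogeneousComponent_apply, map_sum, map_sum, Polynomial.finsetSum_coeff,
    Finset.sum_filter]
  refine Finset.sum_congr rfl fun m _ => ?_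
  rw [φ_monomial, Polynomial.coeff_monomial, Finsupp.degree_eq_sum]
  split_ifs with h
  · rw [eval_monomial, Finsupp.prod_fintype _ _ (fun i => pow_zero _)]
  · rfl

end helpers


/-- Let a_1, …, a_n be a weakly regular sequence in a commutative ring A (each a_i is a non-zero-divisor
modulo (a_1, …, a_(i−1)); the a_i are allowed to generate the unit ideal). Then the kernel of the
A-algebra map A[X_1, …, X_n] → A[T] sending X_i to a_i·T, whose image is the Rees algebra of the
ideal (a_1, …, a_n), is the ideal generated by the elements a_i X_j − a_j X_i. (The published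
statement assumes a regular sequence; only weak regularity is assumed here.) -/
theorem result {A : Type u} [CommRing A] {n : ℕ} (a : Fin n → A)
    (ha : RingTheory.Sequence.IsWeaklyRegular A (List.ofFn a)) :
    RingHom.ker (MvPolynomial.aeval (R := A)
      (fun i : Fin n => Polynomial.C (a i) * (Polynomial.X : Polynomial A))) =
      Ideal.span {q : MvPolynomial (Fin n) A | ∃ i j : Fin n,
        q = MvPolynomial.C (a i) * MvPolynomial.X j - MvPolynomial.C (a j) * MvPolynomial.X i} := by
  have hmic := Groth.Agent.Lib.Helper21.QuasiReg.mic_of_isWeaklyRegular a ha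
  apply le_antisymm
  · intro F hF
    rw [RingHom.mem_ker] at hF
    have hF' : φ a F = 0 := hF
    have hcomp : ∀ d, MvPolynomial.homogeneousComponent d F ∈
        Groth.Agent.Lib.Helper21.QuasiReg.L a := by
      intro d
      apply hmic d _ (MvPolynomial.homogeneousComponent_isHomogeneous d F)
      rw [← coeff_φ, hF', Polynomial.coeff_zero]
    rw [← MvPolynomial.sum_homogeneousComponent F]
    exact Ideal.sum_mem _ fun d _ => hcomp d
  · rw [Ideal.span_le]
    rintro _ ⟨i, j, rfl⟩
    rw [SetLike.mem_coe, RingHom.mem_ker]
    simp only [map_sub, map_mul, MvPolynomial.aeval_C, MvPolynomial.aeval_X,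
      Polynomial.algebraMap_eq]
    ring

end Groth.Agent.S0608
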