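import Groth.Statements.S0610
import Groth.Agent.Lib.Helper18.Curve.Adele
import Groth.Agent.Lib.Helper18.Curve.FunctionField
import Groth.Agent.Lib.Helper18.Zeta.WeilJ
open Groth.Agent.Lib.Helper18.Curve Groth.Agent.Lib.Helper18.FF Groth.Agent.Lib.Helper18.Zeta

set_option autoImplicit false
universe u
open AlgebraicGeometry CategoryTheory
open Zeta

namespace Groth.Agent.S0610

/-- Weil conjectures for curves, in elementary form (rationality of the zeta function with numerator of
degree 2g, the functional equation and the Riemann hypothesis, packaged as a point-count formula):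
let k be a finite field with q elements and C a smooth, proper, geometrically irreducible curve over
k of genus g, the genus being pinned down by #H¹(C, O_C) = q^g (equivalent to dim_k H¹(C, O_C) = g).
Then there are complex numbers α_1, …, α_{2g}, each an algebraic integer with |α_i|² = q, and a
permutation σ of the indices with α_{σ(i)} · α_i = q for all i, such that for every finite extension
k' of k the number of k'-points of C equals q^{[k':k]} + 1 − Σ_i α_i^{[k':k]}. -/
theorem result {k : Type u} [Field k] [Finite k] {C : Scheme.{u}}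
    (f : C ⟶ Spec (CommRingCat.of k)) (hC : Curve.IsSmoothProperCurve k C f)
    [GeometricallyIrreducible f] (g : ℕ)
    (hg : Nat.card (Coh.HH C (Coh.structureModule C) 1) = Nat.card k ^ g) :
    ∃ α : Fin (2 * g) → ℂ, (∀ i, IsIntegral ℤ (α i)) ∧ (∀ i, ‖α i‖ ^ 2 = Nat.card k) ∧
      (∃ σ : Equiv.Perm (Fin (2 * g)), ∀ i, α (σ i) * α i = Nat.card k) ∧
      ∀ (k' : Type u) [Field k'] [Algebra k k'] [Finite k'],
        (SgaExt.pointCount f k' : ℂ) =
          (Nat.card k : ℂ) ^ Module.finrank k k' + 1 - ∑ i, α i ^ Module.finrank k k' := by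
  obtain ⟨hproper, hsmooth, hint, hdim⟩ := hC
  haveI := hproper
  haveI := hsmooth
  haveI := hint
  have hK : FunFld.IsFunctionField k (FF f) := isFunctionField f hdim
  have hgen : g = FunFld.genus k (FF f) := by
    have h1 := natCard_H1 f hdim hK
    rw [hg] at h1
    exact Nat.pow_right_injective (Finite.one_lt_card (α := k)) h1
  subst hgen
  obtain ⟨α, hαint, hα, hpair⟩ := exists_reciprocal_roots hK
  have hnorm := norm_eq_sqrt_of_weilBound hK (weilBound hK) α hα Fin.rev hpair
  refine ⟨α, hαint, fun i => ?_, ⟨Fin.revPerm, fun i => ?_⟩, fun k' _ _ _ => ?_⟩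
  · rw [hnorm i, Real.sq_sqrt (Nat.cast_nonneg _)]
  · rw [mul_comm]
    exact hpair i
  · rw [pointCount_eq_NN f hdim hK k',
      NN_eq_of_factorization hK α hα _ (finrank_pos_of_finite (k := k) k')]
    ring

end Groth.Agent.S0610
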