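import Groth.Statements.S0615
import Mathlib
import Groth.Agent.Lib.Helper21.QuasiReg

set_option autoImplicit false
universe u
open RRAlg

namespace Groth.Agent.S0615

section helpers
open MvPolynomial Groth.Agent.Lib.Helper21.QuasiReg

lemma aeval_mul_of_isHomogeneous {σ : Type*} {R S : Type*} [CommRing R] [CommRing S] [Algebra R S]
    (c : S) (w : σ → S) {d : ℕ} {F : MvPolynomial σ R} (hF : F.IsHomogeneous d) :
    aeval (fun i => c * w i) F = c ^ d * aeval w F := by
  conv_lhs => rw [F.as_sum]
  conv_rhs => rw [F.as_sum]
  rw [map_sum, map_sum, Finset.mul_sum]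
  refine Finset.sum_congr rfl fun m hm => ?_
  have hd := hF.degree_eq_sum_deg_support hm
  rw [aeval_monomial, aeval_monomial]
  simp only [Finsupp.prod, mul_pow, Finset.prod_mul_distrib, Finset.prod_pow_eq_pow_sum]
  rw [← hd]
  ring

variable {A : Type u} [CommRing A] {n : ℕ}

/-- dehomogenization -/
noncomputable def θ : MvPolynomial (Fin (n + 1)) A →ₐ[A] MvPolynomial (Fin n) A :=
  aeval (Fin.cases 1 X : Fin (n + 1) → MvPolynomial (Fin n) A)

lemma θ_monomial_cons (k : ℕ) (m : Fin n →₀ ℕ) (c : A) :
    θ (monomial (Finsupp.cons k m) c) = monomial m c := by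
  unfold θ
  rw [aeval_monomial, Finsupp.prod_fintype _ _ (by simp), Fin.prod_univ_succ]
  simp only [Fin.cases_zero, Fin.cases_succ, Finsupp.cons_zero, Finsupp.cons_succ, one_pow, one_mul]
  rw [monomial_eq, Finsupp.prod_fintype _ _ (by simp)]
  rfl

lemma exists_homogeneous_lift (G : MvPolynomial (Fin n) A) :
    ∃ (d : ℕ) (F : MvPolynomial (Fin (n + 1)) A), F.IsHomogeneous d ∧ θ F = G := by
  refine ⟨G.totalDegree,
    ∑ m ∈ G.support, monomial (Finsupp.cons (G.totalDegree - m.degree) m) (coeff m G), ?_, ?_⟩
  · refine IsHomogeneous.sum _ _ _ fun m hm => isHomogeneous_monomial _ ?_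
    have h1 : m.degree ≤ G.totalDegree := by
      have := le_totalDegree hm
      simpa [Finsupp.degree, Finsupp.sum] using this
    rw [Finsupp.degree_eq_sum, Fin.sum_univ_succ]
    simp only [Finsupp.cons_zero, Finsupp.cons_succ]
    rw [← Finsupp.degree_eq_sum]
    omega
  · rw [map_sum]
    conv_rhs => rw [G.as_sum]
    exact Finset.sum_congr rfl fun m _ => θ_monomial_cons _ _ _

lemma θ_L_le (a : Fin (n + 1) → A) :
    Ideal.map (θ (A := A) (n := n)) (L a) ≤
      Ideal.span (Set.range fun i : Fin n => C (a 0) * X i - C (a i.succ)) := by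
  set K := Ideal.span (Set.range fun i : Fin n => C (a 0) * X i - C (a i.succ)) with hK
  have hg : ∀ i : Fin n, C (a 0) * X i - C (a i.succ) ∈ K := fun i =>
    Ideal.subset_span ⟨i, rfl⟩
  rw [L, Ideal.map_span, Ideal.span_le]
  rintro _ ⟨_, ⟨i, j, rfl⟩, rfl⟩
  have hθC : ∀ r : A, θ (C r : MvPolynomial (Fin (n+1)) A) = C r := fun r => by
    unfold θ; rw [aeval_C]; rfl
  have hθX : ∀ i : Fin (n+1), θ (X i : MvPolynomial (Fin (n+1)) A) =
      (Fin.cases 1 X : Fin (n + 1) → MvPolynomial (Fin n) A) i := fun i => by
    unfold θ; rw [aeval_X]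
  show θ _ ∈ K
  rw [map_sub, map_mul, map_mul, hθC, hθC, hθX, hθX]
  induction i using Fin.cases with
  | zero =>
    induction j using Fin.cases with
    | zero => simp
    | succ j => simpa using hg j
  | succ i =>
    induction j using Fin.cases with
    | zero =>
      have := K.neg_mem (hg i)
      simpa [neg_sub] using this
    | succ j =>
      have h1 := K.sub_mem (K.mul_mem_left (X i) (hg j)) (K.mul_mem_left (X j) (hg i))
      simp only [Fin.cases_succ]
      convert h1 using 1
      ring

end helpers


/-- Let A be a commutative ring and a_0, a_1, …, a_n a weakly regular sequence in A (for each i, a_i is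
a non-zero-divisor on A/(a_0, …, a_{i−1}); the sequence is indexed here by Fin (n+1)). Then the
kernel of the A-algebra homomorphism A[T_1, …, T_n] → A[1/a_0] sending T_i to a_i/a_0 is the ideal
generated by the elements a_0 T_i − a_i for 1 ≤ i ≤ n (a presentation of the affine blow-up algebra
A[a_1/a_0, …, a_n/a_0]). -/
theorem result {A : Type u} [CommRing A] {n : ℕ}
    (a : Fin (n + 1) → A) (ha : RingTheory.Sequence.IsWeaklyRegular A (List.ofFn a)) :
    RingHom.ker (MvPolynomial.aeval (R := A) (S₁ := Localization.Away (a 0))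
      (fun i : Fin n => IsLocalization.mk' (Localization.Away (a 0)) (a i.succ)
        (⟨a 0, Submonoid.mem_powers (a 0)⟩ : Submonoid.powers (a 0)))) =
      Ideal.span (Set.range fun i : Fin n =>
        MvPolynomial.C (a 0) * MvPolynomial.X i - MvPolynomial.C (a i.succ)) := by
  classical
  open MvPolynomial Groth.Agent.Lib.Helper21.QuasiReg in
  refine le_antisymm ?_ ?_
  · intro G hG
    rw [RingHom.mem_ker] at hG
    obtain ⟨d, F, hF, rfl⟩ := exists_homogeneous_lift G
    refine θ_L_le a (Ideal.mem_map_of_mem _ ?_)
    refine mic_of_isWeaklyRegular a ha d F hF ?_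
    -- injectivity of A → A[1/a 0]
    have hreg : IsSMulRegular A (a 0) := by
      rw [List.ofFn_succ, RingTheory.Sequence.isWeaklyRegular_cons_iff] at ha
      exact ha.1
    have hle : Submonoid.powers (a 0) ≤ nonZeroDivisors A := by
      rw [Submonoid.powers_le]
      exact ((Commute.isRegular_iff (Commute.all _)).mpr hreg.isLeftRegular).mem_nonZeroDivisors
    have hinj := IsLocalization.injective (Localization.Away (a 0)) hle
    apply hinj
    rw [map_zero]
    set w : Fin (n + 1) → Localization.Away (a 0) :=
      Fin.cases 1 (fun i : Fin n => IsLocalization.mk' (Localization.Away (a 0)) (a i.succ)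
        (⟨a 0, Submonoid.mem_powers (a 0)⟩ : Submonoid.powers (a 0))) with hw
    have h1 : algebraMap A (Localization.Away (a 0)) (eval a F) =
        aeval (fun i => algebraMap A (Localization.Away (a 0)) (a 0) * w i) F := by
      have : (fun i => algebraMap A (Localization.Away (a 0)) (a 0) * w i) =
          fun i => algebraMap A (Localization.Away (a 0)) (a i) := by
        funext i
        induction i using Fin.cases with
        | zero => simp [hw]
        | succ i =>
          simp only [hw, Fin.cases_succ]
          exact IsLocalization.mk'_spec'_mk _ _ _ _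
      rw [this, eval₂_comp]
      rfl
    have h2 : aeval w F = aeval (fun i : Fin n => IsLocalization.mk' (Localization.Away (a 0)) (a i.succ)
        (⟨a 0, Submonoid.mem_powers (a 0)⟩ : Submonoid.powers (a 0))) (θ F) := by
      unfold θ
      rw [← AlgHom.comp_apply, comp_aeval]
      congr 2
      funext i
      induction i using Fin.cases with
      | zero => simp [hw]
      | succ i => simp [hw]
    rw [h1, aeval_mul_of_isHomogeneous _ _ hF, h2, hG, mul_zero]
  · rw [Ideal.span_le]
    rintro _ ⟨i, rfl⟩
    rw [SetLike.mem_coe, RingHom.mem_ker, map_sub, map_mul, aeval_C, aeval_C, aeval_X]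
    rw [IsLocalization.mk'_spec'_mk, sub_self]

end Groth.Agent.S0615
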