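import Groth.Statements.S0619
import Groth.Agent.Lib.Helper18.Curve.Adele
import Groth.Agent.Lib.Helper18.Curve.FunctionField
open Groth.Agent.Lib.Helper18.Curve Groth.Agent.Lib.Helper18.FF Groth.Agent.Lib.Helper18.Zeta

set_option autoImplicit false
universe u
open AlgebraicGeometry CategoryTheory
open Zeta

namespace Groth.Agent.S0619

/-- For a geometrically connected smooth proper curve of genus g over a finite field k with q elements
and a finite extension k' of degree n, |#C(k') − (qⁿ + 1)| ≤ 2g·q^(n/2). -/
theorem result {k : Type u} [Field k] [Finite k] {C : Scheme.{u}}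
    (f : C ⟶ Spec (CommRingCat.of k)) (hC : Curve.IsSmoothProperCurve k C f)
    [GeometricallyIrreducible f] (g : ℕ)
    (hg : Nat.card (Coh.HH C (Coh.structureModule C) 1) = Nat.card k ^ g)
    (k' : Type u) [Field k'] [Algebra k k'] [Finite k'] :
    |(SgaExt.pointCount f k' : ℝ) - ((Nat.card k : ℝ) ^ Module.finrank k k' + 1)| ≤
      2 * g * (Nat.card k : ℝ) ^ ((Module.finrank k k' : ℝ) / 2) := by
  obtain ⟨hproper, hsmooth, hint, hdim⟩ := hC
  haveI := hproper
  haveI := hsmooth
  haveI := hint
  have hK : FunFld.IsFunctionField k (FF f) := isFunctionField f hdim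
  have hgen : g = FunFld.genus k (FF f) := by
    have h1 := natCard_H1 f hdim hK
    rw [hg] at h1
    exact Nat.pow_right_injective (Finite.one_lt_card (α := k)) h1
  have hn : 0 < Module.finrank k k' := finrank_pos_of_finite (k := k) k'
  have h2 := abs_NN_sub_le hK (Module.finrank k k') hn
  rw [pointCount_eq_NN f hdim hK k', hgen]
  have hq0 : (0 : ℝ) ≤ (Nat.card k : ℝ) := Nat.cast_nonneg _
  have h3 : Real.sqrt (Nat.card k : ℝ) ^ Module.finrank k k' =
      (Nat.card k : ℝ) ^ ((Module.finrank k k' : ℝ) / 2) := by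
    rw [Real.sqrt_eq_rpow, ← Real.rpow_natCast, ← Real.rpow_mul hq0]
    congr 1
    ring
  rw [h3, sub_sub] at h2
  exact h2

end Groth.Agent.S0619
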