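import Groth.Statements.S0624
-- import your own Groth.Agent.* helpers here
import Groth.Agent.Lib.Helper23.NormalSplit2

set_option autoImplicit false
open CategoryTheory CategoryTheory.Limits AlgebraicGeometry Opposite
universe u
open EtCore

namespace Groth.Agent.S0624

open Groth.Agent.Lib.Helper23 Groth.Agent.Lib.Helper23.NormalSplit in
set_option backward.isDefEq.respectTransparency.types false in
set_option backward.isDefEq.respectTransparency false in
/-- geometric form of the lifting: an affine etale `X`-scheme containing `V` as a closed subscheme -/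
theorem exists_lift {V Z X : Scheme.{u}} [IsAffine X] (i : Z ⟶ X) [IsClosedImmersion i]
    (φ : V ⟶ Z) [AlgebraicGeometry.Etale φ] [IsAffine V] :
    ∃ (U : Scheme.{u}) (_ : IsAffine U) (h : U ⟶ X) (pr : V ⟶ U),
      AlgebraicGeometry.Etale h ∧ IsClosedImmersion pr ∧ pr ≫ h = φ ≫ i := by
  obtain ⟨hZ, hsurj⟩ := IsClosedImmersion.isAffine_surjective_of_isAffine i
  have het : φ.appTop.hom.Etale := (HasRingHomProperty.iff_of_isAffine (P := @Etale)).1 ‹_›
  letI : Algebra Γ(X, ⊤) Γ(Z, ⊤) := i.appTop.hom.toAlgebra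
  letI : Algebra Γ(Z, ⊤) Γ(V, ⊤) := φ.appTop.hom.toAlgebra
  letI : Algebra Γ(X, ⊤) Γ(V, ⊤) := (φ.appTop.hom.comp i.appTop.hom).toAlgebra
  haveI : IsScalarTower Γ(X, ⊤) Γ(Z, ⊤) Γ(V, ⊤) := IsScalarTower.of_algebraMap_eq (fun _ => rfl)
  haveI : Algebra.Etale Γ(Z, ⊤) Γ(V, ⊤) := het
  obtain ⟨B, _, _, hB, ψ, hψ⟩ := EtaleLiftQuot.exists_etale_lift (A := Γ(X, ⊤)) (A' := Γ(Z, ⊤))
    (B' := Γ(V, ⊤)) hsurj
  let a : Γ(X, ⊤) ⟶ CommRingCat.of B := CommRingCat.ofHom (algebraMap Γ(X, ⊤) B)
  let b : CommRingCat.of B ⟶ Γ(V, ⊤) := CommRingCat.ofHom ψ.toRingHom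
  have hab : a ≫ b = (φ ≫ i).appTop := by
    ext x
    change ψ (algebraMap Γ(X, ⊤) B x) = (φ ≫ i).appTop.hom x
    rw [ψ.commutes]
    change φ.appTop.hom (i.appTop.hom x) = _
    rw [Scheme.Hom.comp_appTop]
    rfl
  have ha : AlgebraicGeometry.Etale (Spec.map a) := by
    rw [HasRingHomProperty.Spec_iff (P := @Etale)]
    exact RingHom.etale_algebraMap.2 hB
  have hb : IsClosedImmersion (Spec.map b) := IsClosedImmersion.spec_of_surjective b hψ
  refine ⟨Spec (CommRingCat.of B), inferInstance, Spec.map a ≫ X.isoSpec.inv,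
    V.isoSpec.hom ≫ Spec.map b, inferInstance, inferInstance, ?_⟩
  rw [Category.assoc, ← Category.assoc (Spec.map b), ← Spec.map_comp, hab,
    Scheme.isoSpec_hom_naturality_assoc, Iso.hom_inv_id, Category.comp_id]

/-- Let X be an affine, integral and normal scheme with separably closed function field, Z -> X a closed
immersion and V -> Z etale with V affine. Then V splits, over Z, as the disjoint union of finitely
many open subschemes of Z. -/
theorem result {V Z X : Scheme.{u}} [IsAffine X] [IsIntegral X]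
    (hN : ∀ x : X, IsIntegrallyClosed (X.presheaf.stalk x)) [IsSepClosed X.functionField]
    (i : Z ⟶ X) [IsClosedImmersion i] (φ : V ⟶ Z) [AlgebraicGeometry.Etale φ] [IsAffine V] :
    ∃ (ι : Type u) (_ : Finite ι) (W : ι → Z.Opens) (e : (∐ fun k => (W k : Scheme.{u})) ≅ V),
      ∀ k, Sigma.ι (fun k => (W k : Scheme.{u})) k ≫ e.hom ≫ φ = (W k).ι := by
  open Groth.Agent.Lib.Helper23 Groth.Agent.Lib.Helper23.NormalSplit in
  obtain ⟨U, hU, h, pr, hh, hpr, hcomm⟩ := exists_lift i φ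
  haveI : IsSeparated h := inferInstance
  obtain ⟨ι, Uo, hoi, hcov, hdisj, hne⟩ := exists_components hN h
  haveI : Finite ι := finite_of_disjoint_cover Uo hcov hdisj hne
  let Vo : ι → V.Opens := fun j => pr ⁻¹ᵁ (Uo j)
  let φj : ∀ j, (Vo j : Scheme.{u}) ⟶ Z := fun j => (Vo j).ι ≫ φ
  have hmono : ∀ j, Mono (φj j) := by
    intro j
    haveI := hoi j
    constructor
    intro T a b hab
    have h1 : (a ≫ (pr ∣_ (Uo j))) ≫ ((Uo j).ι ≫ h) = (b ≫ (pr ∣_ (Uo j))) ≫ ((Uo j).ι ≫ h) := by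
      have e : ∀ c : T ⟶ (Vo j : Scheme.{u}),
          (c ≫ (pr ∣_ (Uo j))) ≫ ((Uo j).ι ≫ h) = (c ≫ φj j) ≫ i := by
        intro c
        simp only [Category.assoc, φj]
        rw [← Category.assoc (pr ∣_ (Uo j)), morphismRestrict_ι, Category.assoc, hcomm]
      rw [e a, e b, hab]
    have h2 := (cancel_mono ((Uo j).ι ≫ h)).1 h1
    have h3 : (a ≫ (Vo j).ι) ≫ pr = (b ≫ (Vo j).ι) ≫ pr := by
      rw [Category.assoc, Category.assoc, ← morphismRestrict_ι, ← Category.assoc,
        ← Category.assoc, h2]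
    have h4 := (cancel_mono pr).1 h3
    exact (cancel_mono (Vo j).ι).1 h4
  haveI : ∀ j, IsOpenImmersion (φj j) := fun j => by
    haveI := hmono j
    exact IsOpenImmersion.of_flat_of_mono (φj j)
  let W : ι → Z.Opens := fun j => (φj j).opensRange
  let f : ∀ j, (W j : Scheme.{u}) ⟶ V := fun j => (φj j).isoOpensRange.inv ≫ (Vo j).ι
  have hf : ∀ j, f j ≫ φ = (W j).ι := fun j => by
    change ((φj j).isoOpensRange.inv ≫ (Vo j).ι) ≫ φ = _
    rw [Category.assoc]
    exact (φj j).isoOpensRange_inv_comp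
  have hrange : ∀ j, (f j).opensRange = Vo j := fun j => by
    change ((φj j).isoOpensRange.inv ≫ (Vo j).ι).opensRange = _
    rw [Scheme.Hom.opensRange_comp_of_isIso, Scheme.Opens.opensRange_ι]
  have hcov' : ⨆ j, (f j).opensRange = ⊤ := by
    rw [eq_top_iff]
    intro v _
    have hx : pr v ∈ (⨆ j, Uo j) := by rw [hcov]; trivial
    rw [TopologicalSpace.Opens.mem_iSup] at hx
    obtain ⟨j, hj⟩ := hx
    rw [TopologicalSpace.Opens.mem_iSup]
    refine ⟨j, ?_⟩
    rw [hrange]
    exact hj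
  have hdisj' : Pairwise (Function.onFun Disjoint (fun j => (f j).opensRange)) := by
    intro j k hjk
    change Disjoint (f j).opensRange (f k).opensRange
    rw [hrange, hrange, disjoint_iff, eq_bot_iff]
    rintro v ⟨hv, hv'⟩
    have hd : Disjoint (Uo j) (Uo k) := hdisj hjk
    rw [disjoint_iff, eq_bot_iff] at hd
    exact hd ⟨hv, hv'⟩
  have hiso : IsIso (Sigma.desc f) := by
    have h1 := nonempty_isColimit_cofanMk_of f hcov' hdisj'
    rwa [Cofan.nonempty_isColimit_iff_isIso_sigmaDesc] at h1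
  refine ⟨ι, inferInstance, W, asIso (Sigma.desc f), fun j => ?_⟩
  rw [asIso_hom, ← Category.assoc, Sigma.ι_desc]
  exact hf j


end Groth.Agent.S0624
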