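import Groth.Statements.S0625
-- import your own Groth.Agent.* helpers here
import Groth.Agent.S0624
import Mathlib.AlgebraicGeometry.Morphisms.Finite

set_option autoImplicit false
open CategoryTheory CategoryTheory.Limits AlgebraicGeometry Opposite
universe u
open EtCore

namespace Groth.Agent.S0625

/-- Let X be an affine integral normal scheme whose function field is separably closed and Z -> X a
closed immersion. Every surjective finite etale morphism V -> Z has a section. -/
theorem result {V Z X : Scheme.{u}} [IsAffine X] [IsIntegral X]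
    (hN : ∀ x : X, IsIntegrallyClosed (X.presheaf.stalk x)) [IsSepClosed X.functionField]
    (i : Z ⟶ X) [IsClosedImmersion i] (φ : V ⟶ Z) [AlgebraicGeometry.Etale φ] [IsFinite φ] [Surjective φ] :
    ∃ s : Z ⟶ V, s ≫ φ = 𝟙 Z := by
  classical
  obtain ⟨hZ, -⟩ := IsClosedImmersion.isAffine_surjective_of_isAffine i
  haveI : IsAffine V := isAffine_of_isAffineHom φ
  obtain ⟨ι, hι, W, e, he⟩ := Groth.Agent.S0624.result hN i φ
  haveI := Fintype.ofFinite ι
  letI : LinearOrder ι := LinearOrder.lift' (Fintype.equivFin ι) (Equiv.injective _)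
  let c : ∀ k, (W k : Scheme.{u}) ⟶ V := fun k => Sigma.ι (fun k => (W k : Scheme.{u})) k ≫ e.hom
  have hc : ∀ k, c k ≫ φ = (W k).ι := fun k => by
    change (Sigma.ι (fun k => (W k : Scheme.{u})) k ≫ e.hom) ≫ φ = _
    rw [Category.assoc]
    exact he k
  -- the images of the pieces cover `V` and are pairwise disjoint
  have hcov : ∀ v : V, ∃ k y, c k y = v := by
    intro v
    obtain ⟨k, y, hy⟩ := (sigmaOpenCover (fun k => (W k : Scheme.{u}))).exists_eq (e.inv v)
    refine ⟨k, y, ?_⟩
    change e.hom (Sigma.ι (fun k => (W k : Scheme.{u})) k y) = v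
    have hy' : Sigma.ι (fun k => (W k : Scheme.{u})) k y = e.inv v := hy
    rw [hy', ← Scheme.Hom.comp_apply, Iso.inv_hom_id]
    rfl
  have hdis : ∀ k k' (y : (W k : Scheme.{u})) (y' : (W k' : Scheme.{u})), c k y = c k' y' →
      k = k' := by
    intro k k' y y' h
    by_contra hne
    have h1 : Sigma.ι (fun k => (W k : Scheme.{u})) k y =
        Sigma.ι (fun k => (W k : Scheme.{u})) k' y' := by
      have h2 : e.hom (Sigma.ι (fun k => (W k : Scheme.{u})) k y) =
          e.hom (Sigma.ι (fun k => (W k : Scheme.{u})) k' y') := h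
      have key : ∀ w, e.inv (e.hom w) = w := fun w => by
        rw [← Scheme.Hom.comp_apply, Iso.hom_inv_id]
        rfl
      rw [← key (Sigma.ι (fun k => (W k : Scheme.{u})) k y), h2, key]
    have hd := disjoint_opensRange_sigmaι (fun k => (W k : Scheme.{u})) k k' hne
    rw [disjoint_iff, eq_bot_iff] at hd
    exact hd ⟨⟨y, rfl⟩, ⟨y', h1.symm⟩⟩
  -- each `W k` is closed
  have hclosed : ∀ k, IsClosed (W k : Set Z) := by
    intro k
    have hR : IsClosed (Set.range (c k)) := by
      have hcompl : (Set.range (c k))ᶜ = ⋃ k' ∈ {k' | k' ≠ k}, Set.range (c k') := by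
        ext v
        simp only [Set.mem_compl_iff, Set.mem_range, Set.mem_iUnion, Set.mem_ofPred_eq,
          exists_prop]
        constructor
        · intro hv
          obtain ⟨k', y, hy⟩ := hcov v
          refine ⟨k', ?_, y, hy⟩
          rintro rfl
          exact hv ⟨y, hy⟩
        · rintro ⟨k', hk', y', hy'⟩ ⟨y, hy⟩
          exact hk' (hdis k' k y' y (hy'.trans hy.symm))
      rw [← isOpen_compl_iff, hcompl]
      exact isOpen_biUnion fun k' _ => (c k').isOpenEmbedding.isOpen_range
    have hWk : (W k : Set Z) = φ '' Set.range (c k) := by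
      ext z
      constructor
      · intro hz
        refine ⟨c k ⟨z, hz⟩, ⟨_, rfl⟩, ?_⟩
        rw [← Scheme.Hom.comp_apply, hc]
        rfl
      · rintro ⟨_, ⟨y, rfl⟩, rfl⟩
        rw [← Scheme.Hom.comp_apply, hc]
        exact y.2
    rw [hWk]
    exact φ.isClosedMap _ hR
  -- the disjoint refinement
  let W' : ι → Z.Opens := fun k =>
    ⟨(W k : Set Z) \ ⋃ k' ∈ {k' | k' < k}, (W k' : Set Z),
      (W k).isOpen.sdiff ((Set.toFinite _).isClosed_biUnion fun k' _ => hclosed k')⟩
  have hle : ∀ k, W' k ≤ W k := fun k z hz => hz.1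
  have hW'cov : ⨆ k, ((W' k).ι).opensRange = ⊤ := by
    rw [eq_top_iff]
    intro z _
    obtain ⟨v, rfl⟩ := ‹Surjective φ›.surj z
    obtain ⟨k, y, hy⟩ := hcov v
    have hne : {k | φ v ∈ W k}.Nonempty := by
      refine ⟨k, ?_⟩
      change φ v ∈ (W k : Set Z)
      rw [← hy, ← Scheme.Hom.comp_apply, hc]
      exact y.2
    let k₀ := WellFounded.min (wellFounded_lt (α := ι)) _ hne
    have hk₀ : φ v ∈ W k₀ := WellFounded.min_mem _ _ hne
    rw [TopologicalSpace.Opens.mem_iSup]
    refine ⟨k₀, ?_⟩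
    rw [Scheme.Opens.opensRange_ι]
    refine ⟨hk₀, ?_⟩
    simp only [Set.mem_iUnion, Set.mem_ofPred_eq, exists_prop, not_exists, not_and]
    intro k' hk' hmem
    exact WellFounded.not_lt_min (wellFounded_lt (α := ι)) {k | φ v ∈ W k} hmem hk'
  have hW'dis : Pairwise (Function.onFun Disjoint (fun k => ((W' k).ι).opensRange)) := by
    intro k k' hkk'
    change Disjoint ((W' k).ι).opensRange ((W' k').ι).opensRange
    rw [Scheme.Opens.opensRange_ι, Scheme.Opens.opensRange_ι, disjoint_iff, eq_bot_iff]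
    rintro z ⟨hz, hz'⟩
    rcases lt_or_gt_of_ne hkk' with h | h
    · apply hz'.2
      simp only [Set.mem_iUnion, Set.mem_ofPred_eq, exists_prop]
      exact ⟨k, h, hz.1⟩
    · apply hz.2
      simp only [Set.mem_iUnion, Set.mem_ofPred_eq, exists_prop]
      exact ⟨k', h, hz'.1⟩
  have hiso : IsIso (Sigma.desc fun k => (W' k).ι) := by
    have h1 := nonempty_isColimit_cofanMk_of (fun k => (W' k).ι) hW'cov hW'dis
    rwa [Cofan.nonempty_isColimit_iff_isIso_sigmaDesc] at h1
  refine ⟨inv (Sigma.desc fun k => (W' k).ι) ≫ Sigma.desc (fun k => Z.homOfLE (hle k) ≫ c k), ?_⟩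
  rw [Category.assoc, IsIso.inv_comp_eq, Category.comp_id]
  apply Sigma.hom_ext
  intro k
  rw [← Category.assoc, Sigma.ι_desc, Sigma.ι_desc, Category.assoc, hc, Scheme.homOfLE_ι]


end Groth.Agent.S0625
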