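import Groth.Statements.S0628
-- import your own Groth.Agent.* helpers here
import Groth.Agent.Lib.Helper23.PointExact2
import Groth.Agent.Lib.Helper23.NormalSplit
import Groth.Agent.S0626

set_option autoImplicit false
open CategoryTheory CategoryTheory.Limits AlgebraicGeometry Opposite
universe u
open EtCore

namespace Groth.Agent.S0628

open Groth.Agent.Lib.Helper23 in
lemma isSepClosed_residueField_spec_field (K : Type u) [Field K] [IsSepClosed K]
    (x : Spec (CommRingCat.of K)) :
    IsSepClosed ((Spec (CommRingCat.of K)).residueField x) := by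
  haveI : x.asIdeal.IsMaximal := by
    have : x.asIdeal = ⊥ := Ideal.eq_bot_of_prime x.asIdeal
    rw [this]
    exact Ideal.bot_isMaximal
  have hbij : Function.Bijective (algebraMap K x.asIdeal.ResidueField) :=
    ⟨(algebraMap K x.asIdeal.ResidueField).injective, Ideal.algebraMap_residueField_surjective _⟩
  haveI : IsSepClosed x.asIdeal.ResidueField :=
    NormalSplit.isSepClosed_of_ringEquiv (RingEquiv.ofBijective _ hbij)
  exact NormalSplit.isSepClosed_of_ringEquiv
    (Scheme.Spec.residueFieldIso (.of K) x).commRingCatIsoToRingEquiv.symm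

/-- Let f : X -> Y be a morphism of schemes with X integral and normal and with separably closed
function field. Then the higher direct images R^q f_* of a constant sheaf vanish for q > 0. -/
theorem result {X Y : Scheme.{u}} (f : X ⟶ Y) [IsIntegral X]
    (hN : ∀ x : X, IsIntegrallyClosed (X.presheaf.stalk x)) [IsSepClosed X.functionField]
    (M : Type) [AddCommGroup M] (q : ℕ) (hq : 1 ≤ q) :
    IsZero ((EtCoh.Rpush f q).obj (EtCoh.const X M)) := by
  obtain ⟨n, rfl⟩ : ∃ n, q = n + 1 := ⟨q - 1, by omega⟩
  haveI := Groth.Agent.S0626.result X hN M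
  let g := X.fromSpecStalk (genericPoint X)
  let N := (EtCoh.pull g).obj (EtCoh.const X M)
  let iso : EtCoh.const X M ≅ (EtCoh.push g).obj N :=
    asIso ((EtCoh.pullPushAdj g).unit.app (EtCoh.const X M))
  refine IsZero.of_iso ?_ ((EtCoh.Rpush f (n + 1)).mapIso iso)
  have key : ∀ x : Spec (CommRingCat.of X.functionField),
      IsSepClosed ((Spec (CommRingCat.of X.functionField)).residueField x) :=
    isSepClosed_residueField_spec_field X.functionField
  have hS : Subsingleton (Spec (X.presheaf.stalk (genericPoint X))) :=
    (inferInstance : Subsingleton (PrimeSpectrum X.functionField))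
  exact Groth.Agent.Lib.Helper23.PointExact.isZero_Rpush_push hS key g f N n


end Groth.Agent.S0628
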