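import Groth.Statements.S5063
import Groth.Agent.S2758
import Mathlib

set_option autoImplicit false
open CategoryTheory CategoryTheory.Limits AlgebraicGeometry
universe u
open Unram

namespace Groth.Agent.S5063

set_option backward.defeqAttrib.useBackward true in
set_option backward.isDefEq.respectTransparency false in
/-- Local structure of unramified morphisms, affine-local form: near `x` the morphism factors as a
closed immersion into the spectrum of an étale algebra. -/
theorem exists_etale_surjection {X Y : Scheme.{u}} (f : X ⟶ Y) [LocallyOfFiniteType f]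
    [FormallyUnramified f] (x : X) :
    ∃ (U : Y.Opens) (_ : IsAffineOpen U) (V : X.Opens) (_ : IsAffineOpen V) (hVU : V ≤ f ⁻¹ᵁ U)
      (_ : x ∈ V) (C : CommRingCat.{u}) (a : Γ(Y, U) ⟶ C) (φ : C ⟶ Γ(X, V)),
      a.hom.Etale ∧ Function.Surjective φ.hom ∧ a ≫ φ = f.appLE U V hVU := by
  obtain ⟨U, hU, V, hV, hVU, hxV⟩ :=
    Groth.Agent.Lib.Helper17.UnibranchScheme.exists_affine_nhds f x
  have hft := f.finiteType_appLE hU hV hVU
  have hfu := f.formallyUnramified_appLE hU hV hVU
  algebraize [(f.appLE U V hVU).hom]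
  haveI : Algebra.IsUnramifiedAt Γ(Y, U) (hV.primeIdealOf ⟨x, hxV⟩).asIdeal := inferInstance
  obtain ⟨r, hrx, P, φ, hφ⟩ :=
    Algebra.IsUnramifiedAt.exists_hasStandardEtaleSurjectionOn (R := Γ(Y, U))
      (hV.primeIdealOf ⟨x, hxV⟩).asIdeal
  have hloc := hV.isLocalization_basicOpen r
  refine ⟨U, hU, X.basicOpen r, hV.basicOpen r, (X.basicOpen_le r).trans hVU, ?_,
    CommRingCat.of P.Ring, CommRingCat.ofHom (algebraMap Γ(Y, U) P.Ring),
    CommRingCat.ofHom ((IsLocalization.algEquiv (.powers r) (Localization.Away r)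
      Γ(X, X.basicOpen r)).toRingEquiv.toRingHom.comp φ.toRingHom), ?_, ?_, ?_⟩
  · rwa [← PrimeSpectrum.mem_basicOpen, IsAffineOpen.primeIdealOf,
      ← hV.fromSpec_preimage_basicOpen, Scheme.Hom.mem_preimage, ← Scheme.Hom.comp_apply,
      IsAffineOpen.isoSpec_hom, IsAffineOpen.toSpecΓ_fromSpec] at hrx
  · rw [CommRingCat.hom_ofHom, RingHom.etale_algebraMap]
    infer_instance
  · rw [CommRingCat.hom_ofHom]
    exact (IsLocalization.algEquiv (.powers r) (Localization.Away r)
      Γ(X, X.basicOpen r)).surjective.comp hφ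
  · ext a
    simp only [CommRingCat.hom_comp, CommRingCat.hom_ofHom, RingHom.comp_apply]
    erw [φ.commutes]
    rw [IsScalarTower.algebraMap_apply Γ(Y, U) Γ(X, V) (Localization.Away r)]
    erw [AlgEquiv.commutes]
    simp only [RingHom.algebraMap_toAlgebra, RingHomCompTriple.comp_apply,
      ← ConcreteCategory.comp_apply, Scheme.Hom.appLE_map]

/-- Unramified morphisms are étale-locally closed immersions (pointwise form). -/
theorem exists_etale_closedImmersion {X Y : Scheme.{u}} (f : X ⟶ Y) [LocallyOfFiniteType f]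
    [FormallyUnramified f] (x : X) :
    ∃ (Z : Scheme.{u}) (g : Z ⟶ Y) (W : (pullback f g).Opens), Etale g ∧
      x ∈ (pullback.fst f g).base '' (W : Set ↥(pullback f g)) ∧
      IsClosedImmersion (W.ι ≫ pullback.snd f g) := by
  obtain ⟨U, hU, V, hV, hVU, hxV, C, a, φ, ha, hφ, haφ⟩ := exists_etale_surjection f x
  let g : Spec C ⟶ Y := Spec.map a ≫ hU.fromSpec
  haveI : Etale (Spec.map a) := by
    rw [HasRingHomProperty.Spec_iff (P := @Etale)]
    exact ha
  haveI : Etale g := inferInstance
  let i : V.toScheme ⟶ Spec C := hV.isoSpec.hom ≫ Spec.map φ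
  haveI : IsClosedImmersion (Spec.map φ) := IsClosedImmersion.spec_of_surjective φ hφ
  haveI : IsClosedImmersion i := inferInstance
  have hcompat : i ≫ g = V.ι ≫ f := by
    simp only [i, g, Category.assoc]
    rw [← Spec.map_comp_assoc, haφ, IsAffineOpen.SpecMap_appLE_fromSpec f hU hV hVU,
      IsAffineOpen.isoSpec_hom_fromSpec_assoc]
  let γ₀ : V.toScheme ⟶ pullback (i ≫ g) g := pullback.lift (𝟙 _) i (by simp)
  haveI : IsOpenImmersion (pullback.diagonal g) := inferInstance
  haveI : IsOpenImmersion γ₀ :=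
    MorphismProperty.of_isPullback (P := @IsOpenImmersion)
      (pullback_lift_diagonal_isPullback i g) inferInstance
  let m : pullback (i ≫ g) g ⟶ pullback f g :=
    pullback.map (i ≫ g) g f g V.ι (𝟙 _) (𝟙 _) (by rw [Category.comp_id, hcompat]) (by simp)
  haveI : IsOpenImmersion m := inferInstance
  let γ : V.toScheme ⟶ pullback f g := γ₀ ≫ m
  haveI : IsOpenImmersion γ := inferInstance
  have hγ1 : γ ≫ pullback.fst f g = V.ι := by
    simp only [γ, m, γ₀, Category.assoc, pullback.lift_fst, pullback.lift_fst_assoc,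
      Category.id_comp]
  have hγ2 : γ ≫ pullback.snd f g = i := by
    simp only [γ, m, γ₀, Category.assoc, pullback.lift_snd, pullback.lift_snd_assoc,
      Category.comp_id]
  refine ⟨Spec C, g, γ.opensRange, inferInstance, ⟨γ ⟨x, hxV⟩, ⟨_, rfl⟩, ?_⟩, ?_⟩
  · change (γ ≫ pullback.fst f g) ⟨x, hxV⟩ = x
    rw [hγ1]
    rfl
  · have e : γ.opensRange.ι ≫ pullback.snd f g = γ.isoOpensRange.inv ≫ i := by
      rw [← hγ2, ← Category.assoc, Scheme.Hom.isoOpensRange_inv_comp]
    rw [e]
    infer_instance


/-- Let f : X ⟶ Y be locally of finite presentation. If f is unramified then there are étale morphisms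
g_a : Y'_a ⟶ Y and opens U_a of the fibre products X ×_Y Y'_a whose images under the first
projections cover X, such that each U_a ⟶ Y'_a (inclusion followed by the second projection) is a
closed immersion. Conversely, the existence of such a family with the g_a only assumed flat implies
that f is unramified. -/
theorem result {X Y : Scheme.{u}} (f : X ⟶ Y) [LocallyOfFinitePresentation f] :
    (FormallyUnramified f → ∃ (ι : Type u) (Y' : ι → Scheme.{u}) (g : ∀ a, Y' a ⟶ Y) (U : ∀ a, (pullback f (g a)).Opens),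
      (∀ a, Etale (g a)) ∧ (∀ x : X, ∃ a, x ∈ (pullback.fst f (g a)).base '' (U a : Set ↥(pullback f (g a)))) ∧
        ∀ a, IsClosedImmersion ((U a).ι ≫ pullback.snd f (g a))) ∧
    ((∃ (ι : Type u) (Y' : ι → Scheme.{u}) (g : ∀ a, Y' a ⟶ Y) (U : ∀ a, (pullback f (g a)).Opens),
      (∀ a, Flat (g a)) ∧ (∀ x : X, ∃ a, x ∈ (pullback.fst f (g a)).base '' (U a : Set ↥(pullback f (g a)))) ∧
        ∀ a, IsClosedImmersion ((U a).ι ≫ pullback.snd f (g a))) → FormallyUnramified f) := by
  constructor
  · intro hf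
    choose Z g W hg hW hW' using fun x : X => exists_etale_closedImmersion f x
    exact ⟨X, Z, g, W, hg, fun x => ⟨x, hW x⟩, hW'⟩
  · rintro ⟨ι, Y', g, U, -, hcov, hU⟩
    have key : ∀ x : X, ∃ V : X.Opens, x ∈ V ∧ FormallyUnramified (V.ι ≫ f) := by
      intro x
      obtain ⟨a, x', hx'U, rfl⟩ := hcov x
      haveI := hU a
      have h1 := Groth.Agent.S2807.stalkMap_formallyUnramified_of_nhd (pullback.snd f (g a)) x'
        ⟨U a, hx'U, inferInstance⟩
      have h2 := Groth.Agent.Lib.Helper17.UnramPullback.stalkMap_formallyUnramified_of_pullback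
        f (g a) x' h1
      exact Groth.Agent.S2807.exists_formallyUnramified_nhd f _ h2
    choose V hxV hV using key
    rw [IsZariskiLocalAtSource.iff_of_iSup_eq_top (P := @FormallyUnramified) V]
    · exact hV
    · rw [eq_top_iff]
      intro x _
      exact TopologicalSpace.Opens.mem_iSup.mpr ⟨x, hxV x⟩

end Groth.Agent.S5063
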