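import Groth.Statements.S0633
import Groth.Agent.S5063
import Mathlib
set_option backward.isDefEq.respectTransparency.types false

set_option autoImplicit false
open CategoryTheory CategoryTheory.Limits AlgebraicGeometry Opposite
universe u
open EtCore

namespace Groth.Agent.S0633

/-- pointwise core -/
theorem key {X Y U₀ : Scheme.{u}} (f : X ⟶ Y) [IsClosedImmersion f] (p : U₀ ⟶ X) [Etale p]
    (u : U₀) :
    ∃ (V : Scheme.{u}) (g : V ⟶ Y) (_ : Etale g) (h : pullback g f ⟶ U₀),
      h ≫ p = pullback.snd g f ∧ IsOpenImmersion h ∧ ∃ y, h y = u := by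
  have : IsIso (pullback.diagonal f) := inferInstance
  have : FormallyUnramified f := inferInstance
  have : FormallyUnramified (p ≫ f) :=
    MorphismProperty.comp_mem (W := @FormallyUnramified) _ _ inferInstance inferInstance
  obtain ⟨U', hU', V', hV', hVU, huV, C, a, φ, ha, hφ, haφ⟩ :=
    Groth.Agent.S5063.exists_etale_surjection (p ≫ f) u
  let g₀ : Spec C ⟶ Y := Spec.map a ≫ hU'.fromSpec
  have : Etale (Spec.map a) := by
    rw [HasRingHomProperty.Spec_iff (P := @Etale)]
    exact ha
  have : Etale g₀ := inferInstance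
  let i : V'.toScheme ⟶ Spec C := hV'.isoSpec.hom ≫ Spec.map φ
  have : IsClosedImmersion (Spec.map φ) := IsClosedImmersion.spec_of_surjective φ hφ
  have : IsClosedImmersion i := inferInstance
  have hcompat : i ≫ g₀ = V'.ι ≫ p ≫ f := by
    simp only [i, g₀, Category.assoc]
    rw [← Spec.map_comp_assoc, haφ, IsAffineOpen.SpecMap_appLE_fromSpec (p ≫ f) hU' hV' hVU,
      IsAffineOpen.isoSpec_hom_fromSpec_assoc]
  -- the closed subscheme Z_X of Z = Spec C
  let π₁ := pullback.fst g₀ f
  let π₂ := pullback.snd g₀ f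
  have : IsClosedImmersion π₁ := inferInstance
  have : Etale π₂ := inferInstance
  let r : V'.toScheme ⟶ pullback g₀ f := pullback.lift i (V'.ι ≫ p) (by rw [hcompat]; simp)
  have hr1 : r ≫ π₁ = i := pullback.lift_fst _ _ _
  have hr2 : r ≫ π₂ = V'.ι ≫ p := pullback.lift_snd _ _ _
  have : IsClosedImmersion (r ≫ π₁) := by rw [hr1]; infer_instance
  have : IsClosedImmersion r := IsClosedImmersion.of_comp_isClosedImmersion r π₁
  have : Etale (r ≫ π₂) := by rw [hr2]; infer_instance
  have : Etale r := Etale.of_comp r π₂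
  have : IsOpenImmersion r := IsOpenImmersion.of_flat_of_mono r
  -- the open of Z
  let T : Set (Spec C) := π₁ '' (Set.range r)ᶜ
  have hT : IsClosed T :=
    π₁.isClosedEmbedding.isClosedMap _ (r.isOpenEmbedding.isOpen_range.isClosed_compl)
  let Vo : (Spec C).Opens := ⟨Tᶜ, hT.isOpen_compl⟩
  let gV : Vo.toScheme ⟶ Y := Vo.ι ≫ g₀
  have : Etale gV := inferInstance
  let m : pullback gV f ⟶ pullback g₀ f :=
    pullback.map gV f g₀ f Vo.ι (𝟙 _) (𝟙 _) (by simp [gV]) (by simp)
  have : IsOpenImmersion m := inferInstance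
  have hm1 : m ≫ π₁ = pullback.fst gV f ≫ Vo.ι := pullback.lift_fst _ _ _
  have hm2 : m ≫ π₂ = pullback.snd gV f := by
    simp only [m, π₂, pullback.map, pullback.lift_snd, Category.comp_id]
  have hrange : Set.range m ⊆ Set.range r := by
    rintro _ ⟨y, rfl⟩
    by_contra hy
    have h1 : π₁ (m y) ∈ T := ⟨m y, hy, rfl⟩
    have h2 : π₁ (m y) = Vo.ι (pullback.fst gV f y) := by
      rw [← Scheme.Hom.comp_apply, hm1, Scheme.Hom.comp_apply]
    rw [h2] at h1
    exact (pullback.fst gV f y).2 h1
  let l : pullback gV f ⟶ V'.toScheme := IsOpenImmersion.lift r m hrange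
  have hl : l ≫ r = m := IsOpenImmersion.lift_fac r m hrange
  have : IsOpenImmersion (l ≫ r) := by rw [hl]; infer_instance
  have : IsOpenImmersion l := IsOpenImmersion.of_comp l r
  refine ⟨Vo.toScheme, gV, inferInstance, l ≫ V'.ι, ?_, inferInstance, ?_⟩
  · rw [Category.assoc, ← hr2, ← Category.assoc, hl, hm2]
  · -- the point
    let u' : V'.toScheme := ⟨u, huV⟩
    have hiu : i u' ∈ Vo := by
      rintro ⟨z, hz, hzi⟩
      apply hz
      have : π₁ z = π₁ (r u') := by
        rw [hzi, ← Scheme.Hom.comp_apply, hr1]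
      exact ⟨u', (π₁.isClosedEmbedding.injective this).symm⟩
    have hg : gV ⟨i u', hiu⟩ = f (p u) := by
      show (Vo.ι ≫ g₀) ⟨i u', hiu⟩ = f (p u)
      rw [Scheme.Hom.comp_apply]
      show g₀ (i u') = f (p u)
      rw [← Scheme.Hom.comp_apply, hcompat]
      rfl
    obtain ⟨y, hy1, hy2⟩ := Scheme.Pullback.exists_preimage_pullback (f := gV) (g := f)
      ⟨i u', hiu⟩ (p u) hg
    refine ⟨y, ?_⟩
    have h3 : m y = r u' := by
      apply π₁.isClosedEmbedding.injective
      rw [← Scheme.Hom.comp_apply, hm1, Scheme.Hom.comp_apply, hy1, ← Scheme.Hom.comp_apply r, hr1]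
      rfl
    have h4 : l y = u' := by
      apply r.isOpenEmbedding.injective
      rw [← Scheme.Hom.comp_apply, hl, h3]
    rw [Scheme.Hom.comp_apply, h4]
    rfl


/-- Let X -> Y be a closed immersion and U -> X etale. Then there exist etale morphisms V_i -> Y and
X-morphisms V_i x_Y X -> U which are open immersions whose images cover U. -/
theorem result {X Y : Scheme.{u}} (f : X ⟶ Y) [IsClosedImmersion f]
    (U : X.Etale) :
    ∃ (κ : Type u) (V : κ → Y.Etale) (h : ∀ j, pullback (V j).hom f ⟶ U.left),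
      (∀ j, h j ≫ U.hom = pullback.snd (V j).hom f) ∧ (∀ j, IsOpenImmersion (h j)) ∧
      ∀ x : U.left, ∃ (j : κ) (y : ↥(pullback (V j).hom f)), (h j).base y = x := by
  choose V g hg h h1 h2 h3 using fun u : U.left => key f U.hom u
  refine ⟨U.left, fun u => MorphismProperty.Over.mk ⊤ (g u) (hg u), h, h1, h2, fun x => ⟨x, h3 x⟩⟩

end Groth.Agent.S0633
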