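import Groth.Statements.S0632
import Groth.Agent.S0633
import Mathlib
set_option backward.isDefEq.respectTransparency.types false

set_option autoImplicit false
open CategoryTheory CategoryTheory.Limits AlgebraicGeometry Opposite
universe u
open EtCore

namespace Groth.Agent.S0632


/-- Let X -> Y be a closed immersion and U_i -> X (i in ι) a jointly surjective family of etale
morphisms. Then one can find a jointly surjective family of etale Y-schemes V_j each of which either
has empty preimage over X or, after base change to X, maps into one of the U_i over X. -/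
theorem result {X Y : Scheme.{u}} (f : X ⟶ Y) [IsClosedImmersion f]
    {ι : Type u} (U : ι → X.Etale) (hU : EtCoh.Covers U) :
    ∃ (κ : Type u) (V : κ → Y.Etale), EtCoh.Covers V ∧
      ∀ j, IsEmpty ↥(pullback (V j).hom f) ∨
        ∃ (i : ι) (h : pullback (V j).hom f ⟶ (U i).left), h ≫ (U i).hom = pullback.snd (V j).hom f := by
  choose V g hg h h1 h2 h3 using fun j : (Σ i, (U i).left) =>
    Groth.Agent.S0633.key f (U j.1).hom j.2
  let W : Y.Opens := ⟨(Set.range f)ᶜ, f.isClosedEmbedding.isClosed_range.isOpen_compl⟩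
  let V' : Option (Σ i, (U i).left) → Y.Etale := fun j =>
    match j with
    | none => MorphismProperty.Over.mk ⊤ W.ι (inferInstance : Etale W.ι)
    | some j => MorphismProperty.Over.mk ⊤ (g j) (hg j)
  refine ⟨Option (Σ i, (U i).left), V', ?_, ?_⟩
  · intro y
    by_cases hy : y ∈ Set.range f
    · obtain ⟨x, rfl⟩ := hy
      obtain ⟨i, u, hu⟩ := hU x
      obtain ⟨y', hy'⟩ := h3 ⟨i, u⟩
      refine ⟨some ⟨i, u⟩, pullback.fst (g ⟨i, u⟩) f y', ?_⟩
      show (g ⟨i, u⟩) (pullback.fst (g ⟨i, u⟩) f y') = f x
      rw [← Scheme.Hom.comp_apply, pullback.condition, ← h1 ⟨i, u⟩, Scheme.Hom.comp_apply,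
        Scheme.Hom.comp_apply, hy']
      exact congrArg f hu
    · exact ⟨none, ⟨y, hy⟩, rfl⟩
  · rintro (_ | j)
    · left
      show IsEmpty ↥(pullback W.ι f)
      rw [Scheme.isEmpty_pullback_iff]
      rw [Set.disjoint_iff_forall_ne]
      rintro _ ⟨w, rfl⟩ _ ⟨x, rfl⟩ heq
      exact w.2 ⟨x, heq.symm⟩
    · right
      exact ⟨j.1, h j, h1 j⟩

end Groth.Agent.S0632
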