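import Groth.Statements.S0644
-- import your own Groth.Agent.* helpers here
import Groth.Agent.Lib.Helper23.EtGlue2
import Mathlib.AlgebraicGeometry.Morphisms.UniversallyOpen
import Mathlib.AlgebraicGeometry.Morphisms.Etale
import Mathlib.AlgebraicGeometry.Morphisms.Flat

set_option autoImplicit false
open CategoryTheory CategoryTheory.Limits AlgebraicGeometry Opposite
universe u
open EtCore

namespace Groth.Agent.S0644

open CategoryTheory AlgebraicGeometry Opposite Limits GrothendieckTopology
open Groth.Agent.Lib.Helper23.EtSite Groth.Agent.Lib.Helper23.EtGlue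

set_option backward.isDefEq.respectTransparency.types false in
set_option backward.isDefEq.respectTransparency false in
/-- Morphisms into the open `W`: exactly the objects whose image lies in `W`. -/
lemma nonempty_hom_iff {S : Scheme.{u}} (W : S.Opens) (U : S.Etale) :
    Nonempty (U ⟶ Scheme.Etale.mk W.ι) ↔ Set.range U.hom ⊆ (W : Set S) := by
  constructor
  · rintro ⟨g⟩ _ ⟨a, rfl⟩
    have hw : g.left ≫ W.ι = U.hom := Over.w g.hom
    have h1 : U.hom a = W.ι (g.left a) := by
      rw [← hw]; rfl
    rw [h1]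
    exact (g.left a).2
  · intro h
    have h' : Set.range U.hom ⊆ Set.range W.ι := by
      rw [Scheme.Opens.range_ι]; exact h
    exact ⟨MorphismProperty.Over.homMk (IsOpenImmersion.lift W.ι U.hom h')
      (IsOpenImmersion.lift_fac _ _ _) trivial⟩

lemma subsingleton_hom {S : Scheme.{u}} (W : S.Opens) (U : S.Etale) :
    Subsingleton (U ⟶ Scheme.Etale.mk W.ι) := by
  constructor
  intro g g'
  apply hom_ext_of_left
  have hw : g.left ≫ W.ι = U.hom := Over.w g.hom
  have hw' : g'.left ≫ W.ι = U.hom := Over.w g'.hom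
  have hm : Mono W.ι := inferInstance
  exact (cancel_mono W.ι).1 (hw.trans hw'.symm)


set_option backward.isDefEq.respectTransparency.types false in
set_option backward.isDefEq.respectTransparency false in
lemma nonempty_sections_of_local {S : Scheme.{u}} (F : Sheaf S.smallEtaleTopology (Type u))
    (hF : ∀ U : S.Etale, Subsingleton (F.obj.obj (op U))) (U : S.Etale)
    (h : ∀ u : U.left, ∃ (U' : S.Etale) (u' : U'.left),
      Nonempty (F.obj.obj (op U')) ∧ U'.hom u' = U.hom u) :
    Nonempty (F.obj.obj (op U)) := by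
  let R : Sieve U :=
    { arrows := fun T _ => Nonempty (F.obj.obj (op T))
      downward_closed := fun ⟨s⟩ a => ⟨F.obj.map a.op s⟩ }
  have hR : R ∈ S.smallEtaleTopology U := by
    apply sieve_mem_of_forall_point
    intro u
    obtain ⟨U', u', ⟨s⟩, hu'⟩ := h u
    let U'' : S.Etale := Scheme.Etale.mk (pullback.fst U.hom U'.hom ≫ U.hom)
    let p1 : U'' ⟶ U := MorphismProperty.Over.homMk (pullback.fst U.hom U'.hom) rfl trivial
    let p2 : U'' ⟶ U' := MorphismProperty.Over.homMk (pullback.snd U.hom U'.hom)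
      (pullback.condition).symm trivial
    obtain ⟨z, hz1, hz2⟩ := Scheme.Pullback.exists_preimage_pullback u u' hu'.symm
    exact ⟨U'', p1, ⟨F.obj.map p2.op s⟩, ⟨z, hz1⟩⟩
  have hP := (isSheaf_iff_isSheaf_of_type _ _).1 F.2
  have hsh := hP R hR
  let x : Presieve.FamilyOfElements F.obj R.arrows := fun T g hg => hg.some
  have hx : x.Compatible := by
    intro Y₁ Y₂ Z g₁ g₂ f₁ f₂ h₁ h₂ _
    exact @Subsingleton.elim _ (hF Z) _ _
  obtain ⟨t, _⟩ := hsh x hx
  exact ⟨t⟩

set_option backward.isDefEq.respectTransparency.types false in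
set_option backward.isDefEq.respectTransparency false in
lemma iso_of_key {S : Scheme.{u}} (F : Sheaf S.smallEtaleTopology (Type u))
    (hF : ∀ U : S.Etale, Subsingleton (F.obj.obj (op U))) (W' : S.Opens)
    (hk : ∀ U : S.Etale, Nonempty (F.obj.obj (op U)) ↔ Nonempty (U ⟶ Scheme.Etale.mk W'.ι)) :
    Nonempty (F.obj ≅ yoneda.obj (Scheme.Etale.mk W'.ι)) := by
  refine ⟨NatIso.ofComponents (fun U => Equiv.toIso ?_) ?_⟩
  · haveI := hF U.unop
    haveI := subsingleton_hom W' U.unop
    exact
      { toFun := fun s => ((hk U.unop).1 ⟨s⟩).some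
        invFun := fun g => ((hk U.unop).2 ⟨g⟩).some
        left_inv := fun _ => Subsingleton.elim _ _
        right_inv := fun _ => Subsingleton.elim _ _ }
  · intro U U' g
    ext s
    exact @Subsingleton.elim _ (subsingleton_hom W' U'.unop) _ _

/-- Let F be a sheaf of sets on the small etale site of S which is a subsheaf of the final sheaf, i.e.
every set of sections has at most one element. Then there is exactly one open W of S such that F is
isomorphic to the sheaf represented by W (viewed as a scheme etale over S). -/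
theorem result (S : Scheme.{u}) (F : Sheaf S.smallEtaleTopology (Type u))
    (hF : ∀ U : S.Etale, Subsingleton (F.obj.obj (op U))) :
    ∃! W : S.Opens, Nonempty (F.obj ≅ yoneda.obj (Scheme.Etale.mk W.ι)) := by
  let Wset : Set S := ⋃ (U : S.Etale) (_ : Nonempty (F.obj.obj (op U))), Set.range U.hom
  have hopen : IsOpen Wset :=
    isOpen_iUnion fun U => isOpen_iUnion fun _ => by
      haveI : Etale U.hom := U.prop
      exact (Scheme.Hom.isOpenMap U.hom).isOpen_range
  let W : S.Opens := ⟨Wset, hopen⟩
  have key : ∀ U : S.Etale,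
      Nonempty (F.obj.obj (op U)) ↔ Nonempty (U ⟶ Scheme.Etale.mk W.ι) := by
    intro U
    rw [nonempty_hom_iff]
    constructor
    · intro hU x hx
      exact Set.mem_iUnion₂.2 ⟨U, hU, hx⟩
    · intro hU
      apply nonempty_sections_of_local F hF U
      intro u
      have hu : U.hom u ∈ Wset := hU ⟨u, rfl⟩
      obtain ⟨U', hU', u', hu'⟩ := Set.mem_iUnion₂.1 hu
      exact ⟨U', u', hU', hu'⟩
  refine ⟨W, iso_of_key F hF W key, ?_⟩
  rintro W' ⟨e⟩
  have key' : ∀ U : S.Etale,
      Nonempty (F.obj.obj (op U)) ↔ Nonempty (U ⟶ Scheme.Etale.mk W'.ι) := fun U =>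
    ⟨fun ⟨s⟩ => ⟨e.hom.app (op U) s⟩, fun ⟨g⟩ => ⟨e.inv.app (op U) g⟩⟩
  apply le_antisymm
  · have h1 : Nonempty (F.obj.obj (op (Scheme.Etale.mk W'.ι))) := (key' _).2 ⟨𝟙 _⟩
    have h2 := (nonempty_hom_iff W _).1 ((key _).1 h1)
    intro x hx
    apply h2
    change x ∈ Set.range W'.ι
    rw [Scheme.Opens.range_ι]
    exact hx
  · have h1 : Nonempty (F.obj.obj (op (Scheme.Etale.mk W.ι))) := (key _).2 ⟨𝟙 _⟩
    have h2 := (nonempty_hom_iff W' _).1 ((key' _).1 h1)
    intro x hx
    apply h2
    change x ∈ Set.range W.ι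
    rw [Scheme.Opens.range_ι]
    exact hx


end Groth.Agent.S0644
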