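import Groth.Statements.S0634
-- import your own Groth.Agent.* helpers here
import Groth.Agent.S0100
import Groth.Agent.S0644
import Groth.Agent.S0622
import Groth.Agent.Lib.Helper23.EtGlue2

set_option autoImplicit false
open CategoryTheory CategoryTheory.Limits AlgebraicGeometry Opposite
universe u
open EtCore

namespace Groth.Agent.S0634

open CategoryTheory AlgebraicGeometry Opposite Limits GrothendieckTopology
open Groth.Agent.Lib.Helper23.EtSite Groth.Agent.Lib.Helper23.EtGlue
open Groth.Agent.S0622

set_option backward.isDefEq.respectTransparency.types false in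
set_option backward.isDefEq.respectTransparency false in
lemma top_hom_ext {S : Scheme.{u}} {V : S.Etale} (a b : V ⟶ EtCoh.top S) : a = b := by
  apply hom_ext_of_left
  have ha : a.left ≫ 𝟙 S = V.hom := Over.w a.hom
  have hb : b.left ≫ 𝟙 S = V.hom := Over.w b.hom
  exact ((Category.comp_id _).symm.trans ha).trans ((Category.comp_id _).symm.trans hb).symm

set_option backward.isDefEq.respectTransparency.types false in
set_option backward.isDefEq.respectTransparency false in
lemma bc_map_surjective {S T : Scheme.{u}} (f : T ⟶ S) (W : S.Opens)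
    (hf : Set.range f.base ⊆ (W : Set S)) (ι : Scheme.Etale.mk W.ι ⟶ EtCoh.top S) :
    Function.Surjective ((EtCoh.bc f).map ι).left := by
  intro z
  let x : T := (pullback.snd (𝟙 S) f) z
  have hx : f x ∈ (W : Set S) := hf ⟨x, rfl⟩
  obtain ⟨z', hz1, hz2⟩ := Scheme.Pullback.exists_preimage_pullback (f := W.ι) (g := f)
    (⟨f x, hx⟩ : ↥W) x rfl
  refine ⟨z', ?_⟩
  have hk : ((EtCoh.bc f).map ι).left ≫ pullback.snd (𝟙 S) f = pullback.snd W.ι f :=
    Over.w ((EtCoh.bc f).map ι).hom
  have h1 := congrArg (fun φ : pullback W.ι f ⟶ T => φ z') hk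
  simp only [Scheme.Hom.comp_apply] at h1
  have hinj : Function.Injective (pullback.snd (𝟙 S) f) :=
    (pullback.snd (𝟙 S) f).isOpenEmbedding.injective
  apply hinj
  exact h1.trans hz2

set_option backward.isDefEq.respectTransparency.types false in
set_option backward.isDefEq.respectTransparency false in
/-- Key local statement: if the pulled back sections agree then, around the image of every point,
the sections agree on an etale neighbourhood. -/
lemma exists_nhd_of_unit_eq {S T : Scheme.{u}} (f : T ⟶ S) (F : EtCoh.Ab S)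
    (s t : EtCoh.sect F (EtCoh.top S))
    (h : ((EtCoh.pullPushAdj f).unit.app F).hom.app (op (EtCoh.top S)) s =
          ((EtCoh.pullPushAdj f).unit.app F).hom.app (op (EtCoh.top S)) t) (x : T) :
    ∃ (V : S.Etale) (g : V ⟶ EtCoh.top S) (v : V.left), V.hom v = f x ∧
      F.obj.map g.op s = F.obj.map g.op t := by
  let Ω := SeparableClosure (T.residueField x)
  let ξ : Spec (CommRingCat.of Ω) ⟶ T :=
    Spec.map (CommRingCat.ofHom (algebraMap (T.residueField x) Ω)) ≫ T.fromSpecResidueField x
  let Φ := Scheme.pointSmallEtale ξ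
  haveI : InitiallySmall.{u} (EtCoh.bc f ⋙ Φ.fiber).Elements :=
    Groth.Agent.Lib.Helper23.PointIso.initiallySmall_elements_of_iso (Groth.Agent.S0100.fiberIso f ξ)
  have hF := EtCoh.coverPreserving_bc f
  let Φ' := Φ.comap (EtCoh.bc f) hF
  let e1 := Φ.sheafFiberComapIso (EtCoh.bc f) hF AddCommGrpCat.{u+1}
  let x₀ : Φ'.fiber.obj (EtCoh.top S) :=
    Over.homMk (pullback.lift (ξ ≫ f) ξ (by simp) : Spec (CommRingCat.of Ω) ⟶ pullback (𝟙 S) f)
      (pullback.lift_snd _ _ _)
  -- germs
  have hg : Φ'.toPresheafFiber (EtCoh.top S) x₀ F.obj s = Φ'.toPresheafFiber (EtCoh.top S) x₀ F.obj t := by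
    have hinj : Function.Injective (e1.hom.app F) :=
      ((ConcreteCategory.isIso_iff_bijective (e1.hom.app F)).1 inferInstance).1
    apply hinj
    rw [Point.sheafFiberComapIso_hom_app]
    simp only [ConcreteCategory.comp_apply]
    have h1 : ∀ z : F.obj.obj (op (EtCoh.top S)),
        (Φ'.sheafFiber.map ((EtCoh.pullPushAdj f).unit.app F))
          (Φ'.toPresheafFiber (EtCoh.top S) x₀ F.obj z) =
        Φ'.toPresheafFiber (EtCoh.top S) x₀ ((EtCoh.push f).obj ((EtCoh.pull f).obj F)).obj
          (((EtCoh.pullPushAdj f).unit.app F).hom.app (op (EtCoh.top S)) z) := fun z =>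
      Point.toPresheafFiber_naturality_apply Φ' ((EtCoh.pullPushAdj f).unit.app F).hom
        (EtCoh.top S) x₀ z
    erw [h1 s, h1 t, h]
  rw [Point.toPresheafFiber_eq_iff'] at hg
  obtain ⟨V, g, y, hy, hst⟩ := hg
  refine ⟨V, g, ((y.left : Spec (CommRingCat.of Ω) ⟶ pullback V.hom f) ≫ pullback.fst V.hom f) (default : Spec (CommRingCat.of Ω)), ?_, hst⟩
  have hw : (y.left : Spec (CommRingCat.of Ω) ⟶ pullback V.hom f) ≫ pullback.snd V.hom f = ξ :=
    Over.w y
  have h2 : ((y.left : Spec (CommRingCat.of Ω) ⟶ pullback V.hom f) ≫ pullback.fst V.hom f) ≫ V.hom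
      = ξ ≫ f := by
    rw [Category.assoc, pullback.condition, ← Category.assoc, hw]
  have h3 := congrArg (fun φ : Spec (CommRingCat.of Ω) ⟶ S => φ (default : Spec (CommRingCat.of Ω))) h2
  have h4 : ξ (default : Spec (CommRingCat.of Ω)) = x := by
    change (T.fromSpecResidueField x) _ = x
    exact Scheme.fromSpecResidueField_apply x _
  simp only [Scheme.Hom.comp_apply] at h3
  rw [h4] at h3
  exact h3


/-- For an abelian sheaf F on the small etale site of S and two global sections s, t there is an open W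
of S such that a morphism f : T -> S has image inside W if and only if the pullbacks of s and t
along f (images under the adjunction unit, as sections of the pullback sheaf over T) coincide. -/
theorem result {S : Scheme.{u}} (F : EtCoh.Ab S) (s t : EtCoh.sect F (EtCoh.top S)) :
    ∃ W : S.Opens, ∀ (T : Scheme.{u}) (f : T ⟶ S),
      Set.range f.base ⊆ (W : Set S) ↔
        ((EtCoh.pullPushAdj f).unit.app F).hom.app (op (EtCoh.top S)) s =
          ((EtCoh.pullPushAdj f).unit.app F).hom.app (op (EtCoh.top S)) t := by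
  let Wset : Set S := ⋃ (V : S.Etale)
    (_ : ∃ g : V ⟶ EtCoh.top S, F.obj.map g.op s = F.obj.map g.op t), Set.range V.hom
  have hopen : IsOpen Wset :=
    isOpen_iUnion fun V => isOpen_iUnion fun _ => by
      haveI : Etale V.hom := V.prop
      exact (Scheme.Hom.isOpenMap V.hom).isOpen_range
  let W : S.Opens := ⟨Wset, hopen⟩
  let ι : Scheme.Etale.mk W.ι ⟶ EtCoh.top S :=
    MorphismProperty.Over.homMk W.ι (Category.comp_id _) trivial
  let F' : EtDesc.Sh S := (sheafCompose _ (forget AddCommGrpCat.{u+1})).obj F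
  have hW : F.obj.map ι.op s = F.obj.map ι.op t := by
    let R : Sieve (Scheme.Etale.mk W.ι) :=
      { arrows := fun V k => F.obj.map (k ≫ ι).op s = F.obj.map (k ≫ ι).op t
        downward_closed := by
          intro V V' k hk a
          have h1 : (a ≫ k) ≫ ι = a ≫ (k ≫ ι) := Category.assoc _ _ _
          rw [h1, op_comp, Functor.map_comp]
          simp only [ConcreteCategory.comp_apply]
          rw [hk] }
    have hR : R ∈ S.smallEtaleTopology (Scheme.Etale.mk W.ι) := by
      apply sieve_mem_of_forall_point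
      intro w
      have hw : W.ι w ∈ Wset := w.2
      obtain ⟨V, ⟨g, hg⟩, v, hv⟩ := Set.mem_iUnion₂.1 hw
      have hVW : Set.range V.hom ⊆ (W : Set S) := fun z hz =>
        Set.mem_iUnion₂.2 ⟨V, ⟨g, hg⟩, hz⟩
      obtain ⟨k⟩ := (Groth.Agent.S0644.nonempty_hom_iff W V).2 hVW
      refine ⟨V, k, ?_, v, ?_⟩
      · change F.obj.map (k ≫ ι).op s = F.obj.map (k ≫ ι).op t
        rw [top_hom_ext (k ≫ ι) g]
        exact hg
      · have hk : k.left ≫ W.ι = V.hom := Over.w k.hom
        have h1 := congrArg (fun φ : V.left ⟶ S => φ v) hk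
        simp only [Scheme.Hom.comp_apply] at h1
        have hinj : Function.Injective W.ι := W.ι.isOpenEmbedding.injective
        apply hinj
        exact h1.trans hv
    have hsep := ((isSheaf_iff_isSheaf_of_type _ _).1 F'.2).isSeparated _ hR
    apply hsep.ext
    intro V k hk
    have h1 : F.obj.map (k ≫ ι).op s = F.obj.map (k ≫ ι).op t := hk
    rw [op_comp, Functor.map_comp] at h1
    exact h1
  refine ⟨W, fun T f => ⟨fun hf => ?_, fun h => ?_⟩⟩
  · let G' : EtDesc.Sh T :=
      (sheafCompose _ (forget AddCommGrpCat.{u+1})).obj ((EtCoh.pull f).obj F)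
    apply eq_of_restrict_eq G' ((EtCoh.bc f).map ι) (bc_map_surjective f W hf ι)
    have hs := congrArg (fun φ => φ s) (((EtCoh.pullPushAdj f).unit.app F).hom.naturality ι.op)
    have ht := congrArg (fun φ => φ t) (((EtCoh.pullPushAdj f).unit.app F).hom.naturality ι.op)
    simp only [ConcreteCategory.comp_apply] at hs ht
    have hW' : (ConcreteCategory.hom (((𝟭 (EtCoh.Ab S)).obj F).obj.map ι.op)) s =
        (ConcreteCategory.hom (((𝟭 (EtCoh.Ab S)).obj F).obj.map ι.op)) t := hW
    rw [hW'] at hs
    exact hs.symm.trans ht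
  · rintro _ ⟨x, rfl⟩
    obtain ⟨V, g, v, hv, hst⟩ := exists_nhd_of_unit_eq f F s t h x
    exact Set.mem_iUnion₂.2 ⟨V, ⟨g, hst⟩, ⟨v, hv⟩⟩

end Groth.Agent.S0634
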