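import Groth.Statements.S0642
-- import your own Groth.Agent.* helpers here
import Groth.Agent.Lib.Helper23.IntPushEss
import Mathlib.Algebra.Homology.DerivedCategory.Ext.MapBijective

set_option autoImplicit false
open CategoryTheory CategoryTheory.Limits AlgebraicGeometry Opposite
universe u
open EtCore

namespace Groth.Agent.S0642

/-- Let X_0 -> X be integral, universally injective and surjective (a universal homeomorphism). Then for
every abelian sheaf F on the small etale site of X and every q the pullback map from H^q(X, F) to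
H^q(X_0, F|_{X_0}) is bijective. (Exactness of pullback of abelian sheaves, which always holds, is
carried as an instance hypothesis.) -/
theorem result {X₀ X : Scheme.{u}} (i : X₀ ⟶ X) [IsIntegralHom i]
    [UniversallyInjective i] [Surjective i] [PreservesFiniteLimits (EtCoh.pull i)] (F : EtCoh.Ab X) (q : ℕ) :
    Function.Bijective (EtCore.Hpull i F q) := by
  have hc : ∀ G : EtCoh.Ab X₀, IsIso ((EtCoh.pullPushAdj i).counit.app G) :=
    fun G => Groth.Agent.Lib.Helper23.IntPushStalk.isIso_counit i G
  have hu : ∀ G : EtCoh.Ab X, IsIso ((EtCoh.pullPushAdj i).unit.app G) := fun G =>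
    Groth.Agent.Lib.Helper23.IntPushEss.isIso_unit_of_supp i G (by
      rw [Set.range_eq_univ.2 i.surjective]
      exact Set.subset_univ _)
  haveI : IsIso (EtCoh.pullPushAdj i).unit := NatIso.isIso_of_isIso_app _
  haveI : IsIso (EtCoh.pullPushAdj i).counit := NatIso.isIso_of_isIso_app _
  have hff := (EtCoh.pullPushAdj i).fullyFaithfulLOfIsIsoUnit
  haveI := hff.full
  haveI := hff.faithful
  let e : EtCoh.Ab X ≌ EtCoh.Ab X₀ := (EtCoh.pullPushAdj i).toEquivalence
  have adj' : EtCoh.push i ⊣ EtCoh.pull i := e.symm.toAdjunction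
  haveI : (EtCoh.push i).PreservesMonomorphisms := inferInstance
  haveI : (EtCoh.pull i).PreservesInjectiveObjects :=
    Functor.preservesInjectiveObjects_of_adjunction_of_preservesMonomorphisms adj'
  have h1 := Functor.mapExt_bijective_of_preservesInjectiveObjects (EtCoh.pull i)
    (EtCoh.const X ℤ) F q
  unfold EtCore.Hpull
  rw [AddMonoidHom.coe_comp]
  refine Function.Bijective.comp ?_ h1
  refine Function.bijective_iff_has_inverse.2
    ⟨fun e => (Abelian.Ext.mk₀ (pullConst i ℤ).hom).comp e (zero_add q), fun e => ?_, fun e => ?_⟩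
  · change (Abelian.Ext.mk₀ (pullConst i ℤ).hom).comp
      ((Abelian.Ext.mk₀ (pullConst i ℤ).inv).comp e (zero_add q)) (zero_add q) = e
    rw [Abelian.Ext.mk₀_comp_mk₀_assoc, Iso.hom_inv_id, Abelian.Ext.mk₀_id_comp]
  · change (Abelian.Ext.mk₀ (pullConst i ℤ).inv).comp
      ((Abelian.Ext.mk₀ (pullConst i ℤ).hom).comp e (zero_add q)) (zero_add q) = e
    rw [Abelian.Ext.mk₀_comp_mk₀_assoc, Iso.inv_hom_id, Abelian.Ext.mk₀_id_comp]

end Groth.Agent.S0642
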