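import Groth.Statements.S0643
-- import your own Groth.Agent.* helpers here

set_option autoImplicit false
universe u
open EtCore

namespace Groth.Agent.S0643

open Polynomial in
/-- Let A be a ring, assumed nonzero here (the published statement does not say so; over the zero ring
no polynomial has positive degree in Lean's sense), and a, b elements generating the unit ideal such
that some positive power of a is congruent to 1 modulo b. Then there is a monic polynomial P of
positive degree over A such that in B = A[y]/(P) the element a - b y is a unit. -/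
theorem result (A : Type u) [CommRing A] [Nontrivial A] (a b : A) (hab : IsCoprime a b)
    (hroot : ∃ n : ℕ, 0 < n ∧ a ^ n - 1 ∈ Ideal.span ({b} : Set A)) :
    ∃ P : A[X], P.Monic ∧ 0 < P.natDegree ∧
      IsUnit (algebraMap A (AdjoinRoot P) a - algebraMap A (AdjoinRoot P) b * AdjoinRoot.root P) := by
  obtain ⟨n, hn, hmem⟩ := hroot
  obtain ⟨t, ht⟩ := Ideal.mem_span_singleton'.mp hmem
  -- ht : t * b = a ^ n - 1
  obtain ⟨u, v, huv⟩ := (hab.pow (m := n - 1) (n := n - 1))
  -- huv : u * a ^ (n-1) + v * b ^ (n-1) = 1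
  obtain ⟨m, rfl⟩ : ∃ m, n = m + 1 := ⟨n - 1, by omega⟩
  simp only [Nat.add_sub_cancel] at huv
  let q : A[X] := - C (t * u) * X ^ m - C (t * v)
  have hq : q.degree < ((m + 1 : ℕ) : WithBot ℕ) := by
    refine lt_of_le_of_lt (degree_sub_le _ _) (max_lt ?_ ?_)
    · rw [neg_mul, degree_neg]
      refine lt_of_le_of_lt (degree_C_mul_X_pow_le m _) ?_
      exact_mod_cast Nat.lt_succ_self m
    · refine lt_of_le_of_lt degree_C_le ?_
      exact_mod_cast Nat.succ_pos m
  refine ⟨X ^ (m + 1) + q, monic_X_pow_add hq, ?_, ?_⟩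
  · rw [natDegree_add_eq_left_of_degree_lt (by rwa [degree_X_pow]), natDegree_X_pow]
    exact Nat.succ_pos m
  · set y := AdjoinRoot.root (X ^ (m + 1) + q) with hy
    set α := algebraMap A (AdjoinRoot (X ^ (m + 1) + q)) a with hα
    set β := algebraMap A (AdjoinRoot (X ^ (m + 1) + q)) b with hβ
    set τ := algebraMap A (AdjoinRoot (X ^ (m + 1) + q)) t with hτ
    set μ := algebraMap A (AdjoinRoot (X ^ (m + 1) + q)) u with hμ
    set ν := algebraMap A (AdjoinRoot (X ^ (m + 1) + q)) v with hν
    have hP : y ^ (m + 1) - τ * μ * y ^ m - τ * ν = 0 := by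
      have := AdjoinRoot.eval₂_root (X ^ (m + 1) + q)
      simp only [q, eval₂_add, eval₂_sub, eval₂_neg, eval₂_mul, eval₂_pow, eval₂_X, eval₂_C] at this
      rw [← this]
      simp only [hy, hτ, hμ, hν, map_mul, AdjoinRoot.algebraMap_eq]
      ring
    have h1 : τ * β = α ^ (m + 1) - 1 := by
      simp only [hτ, hβ, hα, ← map_mul, ← map_pow, ht]
      simp
    have h2 : μ * α ^ m + ν * β ^ m = 1 := by
      simp only [hμ, hν, hβ, hα, ← map_mul, ← map_pow, ← map_add, huv]
      simp
    have key : (1 : AdjoinRoot (X ^ (m + 1) + q)) =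
        (α ^ (m + 1) - (β * y) ^ (m + 1)) - τ * μ * β * (α ^ m - (β * y) ^ m) := by
      have e1 : (β * y) ^ (m + 1) = β ^ (m + 1) * (τ * μ * y ^ m + τ * ν) := by
        rw [mul_pow]; congr 1; linear_combination hP
      rw [e1]
      have e2 : α ^ (m + 1) = 1 + τ * β := by rw [h1]; ring
      rw [e2]
      have e3 : τ * β = τ * β * (μ * α ^ m + ν * β ^ m) := by rw [h2, mul_one]
      rw [mul_pow]
      linear_combination (-1 : AdjoinRoot (X ^ (m + 1) + q)) * e3
    have hd1 : (α - β * y) ∣ (α ^ (m + 1) - (β * y) ^ (m + 1)) := sub_dvd_pow_sub_pow _ _ _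
    have hd2 : (α - β * y) ∣ (α ^ m - (β * y) ^ m) := sub_dvd_pow_sub_pow _ _ _
    have : (α - β * y) ∣ 1 := by
      rw [key]
      exact dvd_sub hd1 (Dvd.dvd.mul_left hd2 _)
    exact isUnit_of_dvd_one this

end Groth.Agent.S0643
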