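import Groth.Statements.S0653
-- import your own Groth.Agent.* helpers here
import Groth.Agent.Lib.Helper23.FinPushExact
import Groth.Agent.S0652
import Groth.Agent.S0649
import Groth.Agent.S0651
import Groth.Agent.S0647

set_option autoImplicit false
open CategoryTheory CategoryTheory.Limits AlgebraicGeometry Opposite
universe u
open EtCore

namespace Groth.Agent.S0653

open Groth.Agent.Lib.Helper23 Groth.Agent.Lib.Helper23.FinPushStalk Groth.Agent.Lib.Helper23.FinPushGeom
  Groth.Agent.Lib.Helper23.FinPushExact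

lemma isZero_of_stalks_alg {X : Scheme.{u}} (Z : EtCoh.Ab X)
    (h : ∀ (Ω : Type u) [Field Ω] [IsAlgClosed Ω] (ξ : Spec (CommRingCat.of Ω) ⟶ X),
      IsZero ((EtCoh.stalk ξ).obj Z)) : IsZero Z := by
  have : Epi (0 : Z ⟶ Z) := by
    apply epi_of_stalks
    intro Ω _ _ ξ b
    have := AddCommGrpCat.subsingleton_of_isZero (h Ω ξ)
    exact ⟨0, Subsingleton.elim _ _⟩
  exact IsZero.of_epi_eq_zero (0 : Z ⟶ Z) rfl

/-- variant of S0652 where the vanishing of stalks is only required at algebraically closed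
geometric points -/
theorem extZero_unique_alg {U X : Scheme.{u}} (j : U ⟶ X) [IsOpenImmersion j]
    [AlgebraicGeometry.Etale j] [EtShriek.JCont j] (F : EtCoh.Ab U) (G : EtCoh.Ab X)
    (hres : Nonempty ((EtShriek.restrAlong j).obj G ≅ F))
    (hzero : ∀ (Ω : Type u) [Field Ω] [IsAlgClosed Ω] (ξ : Spec (CommRingCat.of Ω) ⟶ X),
      Set.range ξ.base ⊆ (Set.range j.base)ᶜ → IsZero ((EtCoh.stalk ξ).obj G)) :
    Nonempty (G ≅ (EtShriek.extZero j).obj F) := by
  obtain ⟨Z, i, hi, hZU⟩ := Groth.Agent.S0652.exists_closed_compl j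
  obtain ⟨e⟩ := hres
  have hJC := Groth.Agent.Lib.Helper23.EtRecoll.isZero_of_restr_pull i j hZU
  have hzG : IsZero ((EtCoh.pull i).obj G) := by
    apply isZero_of_stalks_alg
    intro Ω _ _ ζ
    obtain ⟨e1⟩ := Groth.Agent.S0100.result i G ζ
    refine (hzero Ω (ζ ≫ i) ?_).of_iso e1
    rintro x ⟨t, rfl⟩
    change (ζ ≫ i) t ∈ (Set.range j.base)ᶜ
    rw [hZU, compl_compl]
    exact ⟨ζ t, rfl⟩
  have hz1 : IsZero ((EtCoh.pull i).obj ((EtShriek.extZero j).obj
      ((EtShriek.restrAlong j).obj G))) :=
    Groth.Agent.Lib.Helper23.EtRecoll.isZero_pull_extZero i j hZU _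
  haveI : IsIso ((EtShriek.extZeroAdj j).counit.app G) := by
    apply Groth.Agent.Lib.Helper23.JointExact.isIso_of (EtShriek.restrAlong j) (EtCoh.pull i) hJC
    · exact Groth.Agent.Lib.Helper23.EtRecoll.isIso_restr_counit j G
    · exact ⟨⟨0, hz1.eq_of_src _ _, hzG.eq_of_src _ _⟩⟩
  exact ⟨(asIso ((EtShriek.extZeroAdj j).counit.app G)).symm ≪≫ (EtShriek.extZero j).mapIso e⟩


/-- Consider a cartesian square U = X x_Y V with f : X -> Y finite, j : V -> Y an open immersion, j' : U
-> X and g : U -> V the projections. Then for every abelian sheaf F on the small etale site of U,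
f_* j'_! F is isomorphic to j_! g_* F. (The source also asserts functoriality in F; only the
objectwise isomorphism is stated.) (Continuity of the composition functor of etale sites, which
always holds, is carried as an instance hypothesis.) -/
theorem result {U X V Y : Scheme.{u}} (f : X ⟶ Y) [IsFinite f] (j : V ⟶ Y)
    [IsOpenImmersion j] [AlgebraicGeometry.Etale j] [EtShriek.JCont j] (j' : U ⟶ X) [IsOpenImmersion j']
    [AlgebraicGeometry.Etale j'] [EtShriek.JCont j'] (g : U ⟶ V) (h : IsPullback j' g f j) (F : EtCoh.Ab U) :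
    Nonempty ((EtCoh.push f).obj ((EtShriek.extZero j').obj F) ≅ (EtShriek.extZero j).obj ((EtCoh.push g).obj F)) := by
  classical
  apply extZero_unique_alg j ((EtCoh.push g).obj F) ((EtCoh.push f).obj ((EtShriek.extZero j').obj F))
  · -- restriction to `V`
    haveI c1 : (EtCoh.bc g ⋙ EtShriek.compEtale j').IsContinuous V.smallEtaleTopology
        X.smallEtaleTopology := Functor.isContinuous_comp _ _ _ U.smallEtaleTopology _
    haveI c2 : (EtShriek.compEtale j ⋙ EtCoh.bc f).IsContinuous V.smallEtaleTopology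
        X.smallEtaleTopology := Functor.isContinuous_comp _ _ _ Y.smallEtaleTopology _
    let e : EtShriek.restrAlong j' ⋙ EtCoh.push g ≅ EtCoh.push f ⋙ EtShriek.restrAlong j :=
      Functor.sheafPushforwardContinuousComp' (F := EtCoh.bc g) (G := EtShriek.compEtale j')
        (FG := EtShriek.compEtale j ⋙ EtCoh.bc f) (Groth.Agent.S0649.siteIso j f j' g h)
        AddCommGrpCat.{u + 1} V.smallEtaleTopology U.smallEtaleTopology X.smallEtaleTopology ≪≫
      (Functor.sheafPushforwardContinuousComp (EtShriek.compEtale j) (EtCoh.bc f)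
        AddCommGrpCat.{u + 1} V.smallEtaleTopology Y.smallEtaleTopology X.smallEtaleTopology).symm
    haveI : IsIso ((EtShriek.extZeroAdj j').unit.app F) := (Groth.Agent.S0651.result j' F).2
    exact ⟨(e.app ((EtShriek.extZero j').obj F)).symm ≪≫
      (EtCoh.push g).mapIso (asIso ((EtShriek.extZeroAdj j').unit.app F)).symm⟩
  · intro Ω _ _ η hη
    have hF : Presheaf.IsSheaf X.smallEtaleTopology
        (((EtShriek.extZero j').obj F).obj ⋙ forget AddCommGrpCat.{u+1}) :=
      (Presheaf.isSheaf_iff_isSheaf_forget _ _ (forget AddCommGrpCat.{u+1})).1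
        ((EtShriek.extZero j').obj F).property
    have hsub : Subsingleton ((EtCoh.stalk η).obj
        ((EtCoh.push f).obj ((EtShriek.extZero j').obj F))) := by
      refine ⟨fun z z' => ?_⟩
      apply θ_injective f η ((EtShriek.extZero j').obj F).obj hF
      intro ξ
      obtain ⟨e2⟩ := Groth.Agent.S0647.result j' F ξ.1
      haveI : IsEmpty {u : Spec (CommRingCat.of Ω) ⟶ U // u ≫ j' = ξ.1} := by
        refine ⟨fun u => ?_⟩
        have h1 : (u.1 ≫ g) ≫ j = η := by
          rw [Category.assoc, ← h.w, ← Category.assoc, u.2, ξ.2]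
        have h2 : η.base default ∈ (Set.range j.base)ᶜ := hη ⟨default, rfl⟩
        apply h2
        refine ⟨(u.1 ≫ g).base default, ?_⟩
        exact congrArg (fun φ : Spec (CommRingCat.of Ω) ⟶ Y => φ.base default) h1
      have hz : IsZero ((EtCoh.stalk ξ.1).obj ((EtShriek.extZero j').obj F)) := by
        refine IsZero.of_iso ?_ e2
        have hinit : IsInitial (∐ fun u : {u : Spec (CommRingCat.of Ω) ⟶ U // u ≫ j' = ξ.1} =>
            (EtCoh.stalk u.1).obj F) :=
          (isColimitEquivIsInitialOfIsEmpty _ (colimit.cocone _)) (colimit.isColimit _)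
        exact (IsZero.iff_id_eq_zero _).2 (hinit.hom_ext _ _)
      have hs := AddCommGrpCat.subsingleton_of_isZero hz
      exact @Subsingleton.elim _ hs _ _
    exact AddCommGrpCat.isZero_of_subsingleton _

end Groth.Agent.S0653
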