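import Groth.Statements.S0660
import Mathlib
set_option backward.isDefEq.respectTransparency.types false

set_option autoImplicit false
open CategoryTheory CategoryTheory.Limits AlgebraicGeometry Opposite
universe u
open EtCore

namespace Groth.Agent.S0660

/-- scheme-level core -/
theorem key {Z X U U' : Scheme.{u}} (i : Z ⟶ X) [IsClosedImmersion i] (p : U ⟶ X) [Etale p]
    (p' : U' ⟶ X) [Etale p'] (h : pullback p i ⟶ pullback p' i)
    (hh : h ≫ pullback.snd p' i = pullback.snd p i) :
    ∃ (W : Scheme.{u}) (w : W ⟶ X) (_ : Etale w) (a : W ⟶ U) (b : W ⟶ U')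
      (ha : a ≫ p = w) (hb : b ≫ p' = w),
      IsIso (pullback.lift (pullback.fst w i ≫ a) (pullback.snd w i)
        (by rw [Category.assoc, ha, pullback.condition]) : pullback w i ⟶ pullback p i) ∧
      (pullback.lift (pullback.fst w i ≫ a) (pullback.snd w i)
        (by rw [Category.assoc, ha, pullback.condition]) : pullback w i ⟶ pullback p i) ≫ h =
      (pullback.lift (pullback.fst w i ≫ b) (pullback.snd w i)
        (by rw [Category.assoc, hb, pullback.condition]) : pullback w i ⟶ pullback p' i) := by
  let π : pullback p p' ⟶ X := pullback.fst p p' ≫ p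
  have : Etale π := inferInstance
  let ρ₁ := pullback.fst π i
  let ρ₂ := pullback.snd π i
  have : IsClosedImmersion ρ₁ := inferInstance
  have : Etale ρ₂ := inferInstance
  have c1 : pullback.fst p i ≫ p = (h ≫ pullback.fst p' i) ≫ p' := by
    rw [pullback.condition, Category.assoc, pullback.condition, ← Category.assoc, hh]
  let γ₀ : pullback p i ⟶ pullback p p' :=
    pullback.lift (pullback.fst p i) (h ≫ pullback.fst p' i) c1
  have c2 : γ₀ ≫ π = pullback.snd p i ≫ i := by
    show γ₀ ≫ pullback.fst p p' ≫ p = _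
    rw [← Category.assoc, pullback.lift_fst, pullback.condition]
  let γ : pullback p i ⟶ pullback π i := pullback.lift γ₀ (pullback.snd p i) c2
  have hγ1 : γ ≫ ρ₁ = γ₀ := pullback.lift_fst _ _ _
  have hγ2 : γ ≫ ρ₂ = pullback.snd p i := pullback.lift_snd _ _ _
  let q : pullback π i ⟶ pullback p i := pullback.lift (ρ₁ ≫ pullback.fst p p') ρ₂ (by
    simp only [Category.assoc]; exact pullback.condition)
  have hγq : γ ≫ q = 𝟙 _ := by
    apply pullback.hom_ext
    · simp only [q, Category.assoc, pullback.lift_fst, Category.id_comp]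
      rw [← Category.assoc, hγ1]
      exact pullback.lift_fst _ _ _
    · simp only [q, Category.assoc, pullback.lift_snd, Category.id_comp]
      exact hγ2
  have : Mono γ := mono_of_mono_fac hγq
  have : Etale (γ ≫ ρ₂) := by rw [hγ2]; infer_instance
  have : Etale γ := Etale.of_comp γ ρ₂
  have : IsOpenImmersion γ := IsOpenImmersion.of_flat_of_mono γ
  let T : Set ↥(pullback p p') := ρ₁ '' (Set.range γ)ᶜ
  have hT : IsClosed T :=
    ρ₁.isClosedEmbedding.isClosedMap _ (γ.isOpenEmbedding.isOpen_range.isClosed_compl)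
  let Wo : (pullback p p').Opens := ⟨Tᶜ, hT.isOpen_compl⟩
  let w : Wo.toScheme ⟶ X := Wo.ι ≫ π
  have : Etale w := inferInstance
  let m : pullback w i ⟶ pullback π i :=
    pullback.map w i π i Wo.ι (𝟙 _) (𝟙 _) (by simp [w]) (by simp)
  have : IsOpenImmersion m := inferInstance
  have hm1 : m ≫ ρ₁ = pullback.fst w i ≫ Wo.ι := pullback.lift_fst _ _ _
  have hm2 : m ≫ ρ₂ = pullback.snd w i := by
    simp only [m, ρ₂, pullback.map, pullback.lift_snd, Category.comp_id]
  have hrange : Set.range m ⊆ Set.range γ := by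
    rintro _ ⟨y, rfl⟩
    by_contra hy
    have h1 : ρ₁ (m y) ∈ T := ⟨m y, hy, rfl⟩
    have h2 : ρ₁ (m y) = Wo.ι (pullback.fst w i y) := by
      rw [← Scheme.Hom.comp_apply, hm1, Scheme.Hom.comp_apply]
    rw [h2] at h1
    exact (pullback.fst w i y).2 h1
  let l : pullback w i ⟶ pullback p i := IsOpenImmersion.lift γ m hrange
  have hl : l ≫ γ = m := IsOpenImmersion.lift_fac γ m hrange
  have : IsOpenImmersion (l ≫ γ) := by rw [hl]; infer_instance
  have : IsOpenImmersion l := IsOpenImmersion.of_comp l γ
  have hlsurj : Function.Surjective l := by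
    intro y
    have hiy : ρ₁ (γ y) ∈ Wo := by
      rintro ⟨z, hz, hzi⟩
      exact hz ⟨y, (ρ₁.isClosedEmbedding.injective hzi).symm⟩
    have hg : w ⟨ρ₁ (γ y), hiy⟩ = i (ρ₂ (γ y)) := by
      show (Wo.ι ≫ π) ⟨ρ₁ (γ y), hiy⟩ = i (ρ₂ (γ y))
      rw [Scheme.Hom.comp_apply]
      show π (ρ₁ (γ y)) = i (ρ₂ (γ y))
      rw [← Scheme.Hom.comp_apply, ← Scheme.Hom.comp_apply ρ₂, pullback.condition]
    obtain ⟨y', hy1, hy2⟩ := Scheme.Pullback.exists_preimage_pullback (f := w) (g := i)
      ⟨ρ₁ (γ y), hiy⟩ (ρ₂ (γ y)) hg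
    refine ⟨y', ?_⟩
    apply γ.isOpenEmbedding.injective
    rw [← Scheme.Hom.comp_apply, hl]
    apply ρ₁.isClosedEmbedding.injective
    rw [← Scheme.Hom.comp_apply, hm1, Scheme.Hom.comp_apply, hy1]
    rfl
  have : IsIso l := by
    have : Surjective l := ⟨hlsurj⟩
    exact isIso_of_isOpenImmersion_of_opensRange_eq_top l (by
      ext x; simp [hlsurj x])
  have hla : l = pullback.lift (pullback.fst w i ≫ Wo.ι ≫ pullback.fst p p') (pullback.snd w i)
      (by rw [Category.assoc, Category.assoc]; exact pullback.condition) := by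
    have : l = m ≫ q := by rw [← hl, Category.assoc, hγq, Category.comp_id]
    rw [this]
    apply pullback.hom_ext
    · simp only [q, Category.assoc, pullback.lift_fst]
      rw [← Category.assoc, hm1, Category.assoc]
    · simp only [q, Category.assoc, pullback.lift_snd]
      exact hm2
  refine ⟨Wo.toScheme, w, inferInstance, Wo.ι ≫ pullback.fst p p', Wo.ι ≫ pullback.snd p p',
    by simp [w, π], by simp only [w, π, Category.assoc, pullback.condition], ?_, ?_⟩
  · rw [← hla]; infer_instance
  · rw [← hla]
    apply pullback.hom_ext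
    · simp only [Category.assoc, pullback.lift_fst]
      have : h ≫ pullback.fst p' i = γ ≫ ρ₁ ≫ pullback.snd p p' := by
        rw [← Category.assoc, hγ1]
        exact (pullback.lift_snd _ _ _).symm
      rw [this, ← Category.assoc, hl, ← Category.assoc, hm1, Category.assoc]
    · simp only [Category.assoc, pullback.lift_snd]
      rw [hh, ← hγ2, ← Category.assoc, hl, hm2]


/-- Let i : Z -> X be a closed immersion, U and U' schemes etale over X, and h a Z-morphism from U x_X Z
to U' x_X Z. Then there are an etale X-scheme W and X-morphisms a : W -> U, b : W -> U' such that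
the base change of a to Z is an isomorphism and h is the base change of b composed with the inverse
of the base change of a. -/
theorem result {Z X : Scheme.{u}} (i : Z ⟶ X) [IsClosedImmersion i] (U U' : X.Etale)
    (h : (EtCoh.bc i).obj U ⟶ (EtCoh.bc i).obj U') :
    ∃ (W : X.Etale) (a : W ⟶ U) (b : W ⟶ U'), IsIso ((EtCoh.bc i).map a) ∧ (EtCoh.bc i).map a ≫ h = (EtCoh.bc i).map b := by
  have hh : h.left ≫ pullback.snd U'.hom i = pullback.snd U.hom i := by
    have := MorphismProperty.Over.w h
    simpa [EtCoh.bc] using this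
  obtain ⟨W, w, hw, a, b, ha, hb, h1, h2⟩ := key i U.hom U'.hom h.left hh
  let W' : X.Etale := MorphismProperty.Over.mk ⊤ w hw
  let a' : W' ⟶ U := MorphismProperty.Over.homMk a ha trivial
  let b' : W' ⟶ U' := MorphismProperty.Over.homMk b hb trivial
  refine ⟨W', a', b', ?_, ?_⟩
  · have h3 : IsIso ((EtCoh.bc i).map a').left := h1
    let e : (EtCoh.bc i).obj W' ≅ (EtCoh.bc i).obj U :=
      MorphismProperty.Over.isoMk (asIso ((EtCoh.bc i).map a').left)
        (MorphismProperty.Over.w ((EtCoh.bc i).map a'))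
    have he : (EtCoh.bc i).map a' = e.hom := by
      apply MorphismProperty.Over.Hom.ext
      rfl
    rw [he]
    infer_instance
  · apply MorphismProperty.Over.Hom.ext
    exact h2

end Groth.Agent.S0660
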