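import Groth.Statements.S0682
-- import your own Groth.Agent.* helpers here
import Groth.Agent.Lib.Helper23.Shriek.PresCoprod

set_option autoImplicit false
open CategoryTheory CategoryTheory.Limits AlgebraicGeometry Opposite
universe u
open EtShriek

namespace Groth.Agent.S0682

/-- For f : X -> Y separated and locally of finite type, the functor f_! on abelian etale sheaves
commutes with direct sums (coproducts indexed by any small type). -/
theorem result {X Y : Scheme.{u}} (f : X ⟶ Y) [IsSeparated f]
    [LocallyOfFiniteType f] (ι : Type u) :
    PreservesColimitsOfShape (Discrete ι) (EtShriek.lowerShriek f) := by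
  exact Groth.Agent.Lib.Helper23.Shriek.preservesCoproducts_lowerShriek f

end Groth.Agent.S0682
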