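import Groth.Statements.S0701
import Mathlib.RingTheory.Spectrum.Prime.ConstructibleSet
import Mathlib.Topology.Connected.Separation

set_option autoImplicit false
open CategoryTheory CategoryTheory.Limits AlgebraicGeometry Opposite Topology
universe u
open ProEtW

namespace Groth.Agent.S0701

/-- Let Spec A be profinite (quasi-compact, Hausdorff, totally disconnected) and A -> B a ring map such
that two distinct primes of B over the same prime of A are never comparable. Then Spec B is
profinite. -/
theorem result (A B : Type u) [CommRing A] [CommRing B]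
    [Algebra A B] [T2Space (PrimeSpectrum A)] [TotallyDisconnectedSpace (PrimeSpectrum A)]
    (h : ∀ q q' : PrimeSpectrum B, q.asIdeal.comap (algebraMap A B) = q'.asIdeal.comap (algebraMap A B) →
      q.asIdeal ≤ q'.asIdeal → q = q') :
    ProEtW.IsProfinite (PrimeSpectrum B) := by
  have hA : ∀ p : PrimeSpectrum A, p.asIdeal.IsMaximal := fun p =>
    (PrimeSpectrum.isClosed_singleton_iff_isMaximal p).mp isClosed_singleton
  have hspec : ∀ x y : PrimeSpectrum B, x ⤳ y → x = y := by
    intro x y hxy
    have hle : x.asIdeal ≤ y.asIdeal := (PrimeSpectrum.le_iff_specializes x y).mpr hxy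
    refine h x y ?_ hle
    have h1 : x.asIdeal.comap (algebraMap A B) ≤ y.asIdeal.comap (algebraMap A B) :=
      Ideal.comap_mono hle
    have hmax := hA (PrimeSpectrum.comap (algebraMap A B) x)
    exact hmax.eq_of_le (Ideal.IsPrime.ne_top
      (inferInstance : (y.asIdeal.comap (algebraMap A B)).IsPrime)) h1
  have hclopen : ∀ f : B, IsClopen (PrimeSpectrum.basicOpen f : Set (PrimeSpectrum B)) := fun f =>
    ⟨PrimeSpectrum.isClosed_of_stableUnderSpecialization_of_isConstructible
      (fun x y hxy hx => hspec x y hxy ▸ hx) PrimeSpectrum.isConstructible_basicOpen,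
      (PrimeSpectrum.basicOpen f).isOpen⟩
  have hTS : TotallySeparatedSpace (PrimeSpectrum B) := by
    rw [totallySeparatedSpace_iff_exists_isClopen]
    intro x y hxy
    have hnle : ¬ y.asIdeal ≤ x.asIdeal := fun hle =>
      hxy (hspec y x ((PrimeSpectrum.le_iff_specializes y x).mp hle)).symm
    obtain ⟨f, hfy, hfx⟩ := Set.not_subset.mp hnle
    exact ⟨PrimeSpectrum.basicOpen f, hclopen f, hfx, fun hy => hy hfy⟩
  exact ⟨inferInstance, inferInstance, inferInstance⟩

end Groth.Agent.S0701
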