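import Groth.Statements.S0702
import Mathlib

set_option autoImplicit false
open CategoryTheory CategoryTheory.Limits AlgebraicGeometry Opposite Topology
universe u
open ProEtW

namespace Groth.Agent.S0702

theorem zdim_exists (B : Type u) [CommRing B] (h : ∀ q : Ideal B, q.IsPrime → q.IsMaximal) (a : B) :
    ∃ (c : B) (n : ℕ), a ^ n * (1 - a * c) = 0 := by
  by_contra hne
  push Not at hne
  let S : Submonoid B :=
    { carrier := {x | ∃ (c : B) (n : ℕ), x = a ^ n * (1 - a * c)}
      mul_mem' := by
        rintro x y ⟨c, n, rfl⟩ ⟨d, m, rfl⟩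
        exact ⟨c + d - a * c * d, n + m, by ring⟩
      one_mem' := ⟨0, 0, by simp⟩ }
  have hdisj : Disjoint ((⊥ : Ideal B) : Set B) S := by
    rw [Set.disjoint_left]
    rintro x hx ⟨c, n, rfl⟩
    exact hne c n ((Ideal.mem_bot).mp hx)
  obtain ⟨P, hP, -, hPS⟩ := Ideal.exists_le_prime_disjoint _ _ hdisj
  have hPmax := h P hP
  by_cases haP : a ∈ P
  · exact Set.disjoint_left.mp hPS haP ⟨0, 1, by simp⟩
  · obtain ⟨y, i, hi, hyi⟩ := hPmax.exists_inv haP
    have hmem : 1 - a * y ∈ P := by
      have : 1 - a * y = i := by rw [← hyi]; ring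
      rw [this]; exact hi
    exact Set.disjoint_left.mp hPS hmem ⟨y, 0, by simp⟩

theorem zdim_profinite (B : Type u) [CommRing B] (h : ∀ q : Ideal B, q.IsPrime → q.IsMaximal) :
    T2Space (PrimeSpectrum B) ∧ TotallyDisconnectedSpace (PrimeSpectrum B) := by
  have key : ∀ x y : PrimeSpectrum B, x ≠ y → ∃ U : Set (PrimeSpectrum B),
      IsClopen U ∧ x ∈ U ∧ y ∈ Uᶜ := by
    intro x y hxy
    have hnle : ¬ x.asIdeal ≤ y.asIdeal := by
      intro hle
      have hxmax := h x.asIdeal x.2
      have := hxmax.eq_of_le y.2.ne_top hle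
      exact hxy (PrimeSpectrum.ext this)
    obtain ⟨a, hax, hay⟩ := SetLike.not_le_iff_exists.mp hnle
    obtain ⟨c, n, hcn⟩ := zdim_exists B h a
    have hcompl : ((PrimeSpectrum.basicOpen (1 - a * c) : TopologicalSpace.Opens (PrimeSpectrum B)) :
        Set (PrimeSpectrum B)) = ((PrimeSpectrum.basicOpen a : TopologicalSpace.Opens (PrimeSpectrum B)) :
        Set (PrimeSpectrum B))ᶜ := by
      ext z
      simp only [SetLike.mem_coe, PrimeSpectrum.mem_basicOpen, Set.mem_compl_iff, not_not]
      constructor
      · intro h1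
        have h0 : a ^ n * (1 - a * c) ∈ z.asIdeal := by rw [hcn]; exact z.asIdeal.zero_mem
        rcases z.2.mem_or_mem h0 with h2 | h2
        · exact z.2.mem_of_pow_mem _ h2
        · exact absurd h2 h1
      · intro h1 h2
        have : (1 : B) ∈ z.asIdeal := by
          have := z.asIdeal.add_mem h2 (z.asIdeal.mul_mem_right c h1)
          rwa [sub_add_cancel] at this
        exact z.2.ne_top ((Ideal.eq_top_iff_one _).mpr this)
    refine ⟨(PrimeSpectrum.basicOpen (1 - a * c) : TopologicalSpace.Opens (PrimeSpectrum B)),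
      ⟨?_, (PrimeSpectrum.basicOpen (1 - a * c)).2⟩, ?_, ?_⟩
    · rw [hcompl]
      exact (PrimeSpectrum.basicOpen a).2.isClosed_compl
    · rw [hcompl]
      simpa using hax
    · rw [hcompl, compl_compl]
      exact hay
  have hts : TotallySeparatedSpace (PrimeSpectrum B) :=
    totallySeparatedSpace_iff_exists_isClopen.mpr key
  exact ⟨inferInstance, inferInstance⟩

/-- Let Spec A be profinite and A -> B induce algebraic extensions of residue fields at all primes. Then
Spec B is profinite. -/
theorem result (A B : Type u) [CommRing A] [CommRing B]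
    [Algebra A B] [T2Space (PrimeSpectrum A)] [TotallyDisconnectedSpace (PrimeSpectrum A)]
    (h : ProEtW.AlgebraicResidueExtensions A B) :
    ProEtW.IsProfinite (PrimeSpectrum B) := by
  have hAmax : ∀ p : Ideal A, p.IsPrime → p.IsMaximal := by
    intro p hp
    have : IsClosed ({⟨p, hp⟩} : Set (PrimeSpectrum A)) := isClosed_singleton
    exact (PrimeSpectrum.isClosed_singleton_iff_isMaximal _).mp this
  have hBmax : ∀ q : Ideal B, q.IsPrime → q.IsMaximal := by
    intro q hq
    have halg := h q
    have hp : (q.comap (algebraMap A B)).IsMaximal := hAmax _ (Ideal.comap_isPrime _ _)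
    have hfield : IsField (A ⧸ q.comap (algebraMap A B)) :=
      (Ideal.Quotient.maximal_ideal_iff_isField_quotient _).mp hp
    have hint : Algebra.IsIntegral (A ⧸ q.comap (algebraMap A B)) (B ⧸ q) := by
      letI := hfield.toField
      exact Algebra.IsAlgebraic.isIntegral
    have := isField_of_isIntegral_of_isField' (S := B ⧸ q) hfield
    exact (Ideal.Quotient.maximal_ideal_iff_isField_quotient _).mpr this
  obtain ⟨h1, h2⟩ := zdim_profinite B hBmax
  exact ⟨inferInstance, h1, h2⟩

end Groth.Agent.S0702
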