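import Groth.Statements.S0706
import Mathlib

set_option autoImplicit false
open CategoryTheory CategoryTheory.Limits AlgebraicGeometry Opposite Topology
universe u
open ProEtW

namespace Groth.Agent.S0706

/-- Let f be an element and I an ideal of A, and Z the intersection of D(f) and V(I) in Spec A. There is
a multiplicative subset S of A for which the image of Spec(S^{-1}A) in Spec A consists precisely of
the points having a specialization in Z. -/
theorem result (A : Type u) [CommRing A] (f : A) (I : Ideal A) :
    ∃ S : Submonoid A,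
      Set.range (PrimeSpectrum.comap (algebraMap A (Localization S))) =
        {x | ∃ z : PrimeSpectrum A,
          z ∈ (PrimeSpectrum.basicOpen f : Set (PrimeSpectrum A)) ∩ PrimeSpectrum.zeroLocus I ∧ x ⤳ z} := by
  refine ⟨Submonoid.comap (Ideal.Quotient.mk I) (Submonoid.powers (Ideal.Quotient.mk I f)), ?_⟩
  rw [PrimeSpectrum.localization_comap_range (Localization _)
    (Submonoid.comap (Ideal.Quotient.mk I) (Submonoid.powers (Ideal.Quotient.mk I f)))]
  ext x
  simp only [Set.mem_setOf_eq, Set.mem_inter_iff, SetLike.mem_coe, PrimeSpectrum.mem_basicOpen,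
    PrimeSpectrum.mem_zeroLocus]
  constructor
  · intro hdisj
    have hJ : Disjoint ((x.asIdeal ⊔ I : Ideal A) : Set A) (Submonoid.powers f) := by
      rw [Set.disjoint_left]
      rintro a ha ⟨n, rfl⟩
      obtain ⟨b, hb, i, hi, hbi⟩ := Submodule.mem_sup.mp ha
      have hbS : b ∈ Submonoid.comap (Ideal.Quotient.mk I)
          (Submonoid.powers (Ideal.Quotient.mk I f)) := by
        rw [Submonoid.mem_comap]
        refine ⟨n, ?_⟩
        have hbi' : b + i = f ^ n := hbi
        change (Ideal.Quotient.mk I) f ^ n = (Ideal.Quotient.mk I) b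
        rw [← map_pow, ← hbi', map_add, Ideal.Quotient.eq_zero_iff_mem.mpr hi, add_zero]
      exact Set.disjoint_left.mp hdisj hbS hb
    obtain ⟨z, hz, hle, hzd⟩ := Ideal.exists_le_prime_disjoint _ _ hJ
    refine ⟨⟨z, hz⟩, ⟨?_, ?_⟩, ?_⟩
    · intro hf
      exact Set.disjoint_left.mp hzd hf (Submonoid.mem_powers f)
    · exact fun a ha => hle (Ideal.mem_sup_right ha)
    · rw [← PrimeSpectrum.le_iff_specializes]
      exact fun a ha => hle (Ideal.mem_sup_left ha)
  · rintro ⟨z, ⟨hfz, hIz⟩, hxz⟩
    rw [← PrimeSpectrum.le_iff_specializes] at hxz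
    rw [Set.disjoint_left]
    rintro s ⟨n, hn⟩ hsx
    have hsz : s ∈ z.asIdeal := hxz hsx
    have hdiff : f ^ n - s ∈ z.asIdeal := by
      apply hIz
      change f ^ n - s ∈ I
      rw [← Ideal.Quotient.eq, map_pow]
      exact hn
    have : f ^ n ∈ z.asIdeal := by
      have := z.asIdeal.add_mem hdiff hsz
      rwa [sub_add_cancel] at this
    exact hfz (z.2.mem_of_pow_mem _ this)

end Groth.Agent.S0706
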