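import Groth.Statements.S0708
import Groth.Agent.Lib.Helper12.EtRetrLoc

set_option autoImplicit false
open CategoryTheory CategoryTheory.Limits AlgebraicGeometry Opposite Topology
universe u
open ProEtW

namespace Groth.Agent.S0708

/-- Let A be a ring all of whose faithfully flat etale algebras have retractions, I an ideal with zero
set Z, and B a localization of A at a multiplicative subset such that the image of Spec B → Spec A
is precisely the set of points of Spec A specializing to some point of Z. Then every faithfully flat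
etale B-algebra has a retraction. -/
theorem result (A B : Type u) [CommRing A] [CommRing B]
    [Algebra A B] (S : Submonoid A) [IsLocalization S B] (I : Ideal A)
    (hB : Set.range (PrimeSpectrum.comap (algebraMap A B)) =
      {x | ∃ z : PrimeSpectrum A, z ∈ PrimeSpectrum.zeroLocus (R := A) I ∧ x ⤳ z})
    (hA : ProEtW.HasEtaleRetractions A) : ProEtW.HasEtaleRetractions B := by
  intro C _ _ hff het
  letI : Algebra A C := ((algebraMap B C).comp (algebraMap A B)).toAlgebra
  haveI : IsScalarTower A B C := .of_algebraMap_eq (fun _ => rfl)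
  obtain ⟨C', _, _, _, φ, hsurj, hlift⟩ :=
    Groth.Agent.Lib.Helper12.SpreadOut.exists_etale_model B S C
  have hzB : ∀ z : PrimeSpectrum A, z ∈ PrimeSpectrum.zeroLocus (R := A) I →
      z ∈ Set.range (PrimeSpectrum.comap (algebraMap A B)) := by
    intro z hz
    rw [hB]
    exact ⟨z, hz, specializes_rfl⟩
  have hI : PrimeSpectrum.zeroLocus (I : Set A) ⊆
      Set.range (PrimeSpectrum.comap (algebraMap A C')) := by
    intro z hz
    obtain ⟨y, rfl⟩ := hzB z hz
    obtain ⟨w, rfl⟩ := PrimeSpectrum.comap_surjective_of_faithfullyFlat (B := C) y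
    refine ⟨PrimeSpectrum.comap φ.toRingHom w, ?_⟩
    apply PrimeSpectrum.ext
    ext a
    simp only [PrimeSpectrum.comap_asIdeal, Ideal.mem_comap]
    rw [show φ.toRingHom (algebraMap A C' a) = algebraMap A C a from φ.commutes a,
      IsScalarTower.algebraMap_apply A B C]
  have hT : ∀ f ∈ I, algebraMap A B f ∈ Ideal.jacobson (⊥ : Ideal B) := by
    intro f hf
    rw [Ideal.jacobson, Ideal.mem_sInf]
    rintro J ⟨-, hmax⟩
    haveI := hmax.isPrime
    have hx : PrimeSpectrum.comap (algebraMap A B) ⟨J, hmax.isPrime⟩ ∈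
        Set.range (PrimeSpectrum.comap (algebraMap A B)) := ⟨_, rfl⟩
    rw [hB] at hx
    obtain ⟨z, hz, hxz⟩ := hx
    obtain ⟨y, rfl⟩ := hzB z hz
    have hle : J ≤ y.asIdeal := by
      have h1 : (PrimeSpectrum.comap (algebraMap A B) ⟨J, hmax.isPrime⟩).asIdeal ≤
          (PrimeSpectrum.comap (algebraMap A B) y).asIdeal :=
        (PrimeSpectrum.le_iff_specializes _ _).2 hxz
      rw [← IsLocalization.map_comap S B J, ← IsLocalization.map_comap S B y.asIdeal]
      exact Ideal.map_mono h1
    have heq : J = y.asIdeal := hmax.eq_of_le y.2.ne_top hle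
    have h2 : f ∈ (PrimeSpectrum.comap (algebraMap A B) y).asIdeal := hz hf
    rw [heq]
    exact h2
  obtain ⟨ψ⟩ := Groth.Agent.Lib.Helper12.EtRetrLoc.exists_algHom hA I C' hI B hT
  obtain ⟨ψ', -⟩ := hlift B ψ
  exact ⟨ψ'⟩

end Groth.Agent.S0708
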