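import Groth.Statements.S0728
-- import your own Groth.Agent.* helpers here
import Groth.Agent.Lib.Helper23.EtSupp
import Mathlib.AlgebraicGeometry.Morphisms.FormallyUnramified

set_option autoImplicit false
open CategoryTheory CategoryTheory.Limits AlgebraicGeometry Opposite
universe u
open EtShriek

namespace Groth.Agent.S0728

open Groth.Agent.Lib.Helper23.EtSupp Groth.Agent.Lib.Helper23.EtGlue

set_option backward.isDefEq.respectTransparency.types false in
set_option backward.isDefEq.respectTransparency false in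
lemma agree_of_diag {X : Scheme.{u}} (F : EtCoh.Ab X) {U U' : X.Etale}
    (φ : U' ⟶ U) (Z : Set ↥U.left) (hZ : IsClosed Z)
    (hbij : Set.BijOn φ.left.base (φ.left.base ⁻¹' Z) Z)
    (hres : ∀ x ∈ φ.left.base ⁻¹' Z, Function.Bijective (φ.left.residueFieldMap x))
    (s' : EtCoh.sect F U')
    (hvan : ∀ (T : X.Etale) (g : T ⟶ U'), (∀ t, g.left t ∉ φ.left.base ⁻¹' Z) →
      F.obj.map g.op s' = 0)
    (T : X.Etale) (g₁ g₂ : T ⟶ U') (h : g₁ ≫ φ = g₂ ≫ φ) :
    F.obj.map g₁.op s' = F.obj.map g₂.op s' := by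
  have hl : g₁.left ≫ φ.left = g₂.left ≫ φ.left := congrArg (fun k => k.left) h
  let V' : U'.left.Opens := ⟨(φ.left.base ⁻¹' Z)ᶜ, (hZ.preimage φ.left.continuous).isOpen_compl⟩
  apply eq_of_cover F T
  intro t
  have hφt : φ.left (g₁.left t) = φ.left (g₂.left t) :=
    congrArg (fun k : T.left ⟶ U.left => k t) hl
  by_cases ha : g₁.left t ∈ φ.left.base ⁻¹' Z
  · have hb : g₂.left t ∈ φ.left.base ⁻¹' Z := by
      change φ.left (g₂.left t) ∈ Z
      rw [← hφt]
      exact ha
    have hab : g₁.left t = g₂.left t := hbij.injOn ha hb hφt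
    let q : T.left ⟶ pullback φ.left φ.left := pullback.lift g₁.left g₂.left hl
    let D : (pullback φ.left φ.left).Opens := (pullback.diagonal φ.left).opensRange
    let T₁ : T.left.Opens := q ⁻¹ᵁ D
    have hq1 : pullback.fst φ.left φ.left (q t) = g₁.left t :=
      congrArg (fun k : T.left ⟶ U'.left => k t) (pullback.lift_fst _ _ _)
    have hq2 : pullback.snd φ.left φ.left (q t) = g₂.left t :=
      congrArg (fun k : T.left ⟶ U'.left => k t) (pullback.lift_snd _ _ _)
    have htT₁ : t ∈ T₁ := by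
      change q t ∈ Set.range (pullback.diagonal φ.left)
      apply mem_range_diagonal
      · rw [hq1, hq2, hab]
      · intro x hx
        have hxZ : x ∈ φ.left.base ⁻¹' Z := by rw [hx, hq1]; exact ha
        exact (hres x hxZ).2
    refine ⟨opn T T₁, opnι T T₁, ?_, ?_⟩
    · exact ⟨⟨t, htT₁⟩, rfl⟩
    · have hr : Set.range (T₁.ι ≫ q) ⊆ Set.range (pullback.diagonal φ.left) := by
        rintro _ ⟨y, rfl⟩
        exact y.2
      let r : T₁.toScheme ⟶ U'.left := IsOpenImmersion.lift (pullback.diagonal φ.left) (T₁.ι ≫ q) hr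
      have hrfac : r ≫ pullback.diagonal φ.left = T₁.ι ≫ q := IsOpenImmersion.lift_fac _ _ _
      have e1 : T₁.ι ≫ g₁.left = r := by
        have : (T₁.ι ≫ q) ≫ pullback.fst φ.left φ.left = T₁.ι ≫ g₁.left := by
          rw [Category.assoc, pullback.lift_fst]
        rw [← this, ← hrfac, Category.assoc, pullback.diagonal_fst, Category.comp_id]
      have e2 : T₁.ι ≫ g₂.left = r := by
        have : (T₁.ι ≫ q) ≫ pullback.snd φ.left φ.left = T₁.ι ≫ g₂.left := by
          rw [Category.assoc, pullback.lift_snd]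
        rw [← this, ← hrfac, Category.assoc, pullback.diagonal_snd, Category.comp_id]
      have e : opnι T T₁ ≫ g₁ = opnι T T₁ ≫ g₂ := by
        apply hom_ext_of_left
        exact e1.trans e2.symm
      rw [← map_comp_apply, ← map_comp_apply, e]
  · have hb : g₂.left t ∉ φ.left.base ⁻¹' Z := by
      intro hb
      apply ha
      change φ.left (g₁.left t) ∈ Z
      rw [hφt]
      exact hb
    let T₀ : T.left.Opens := g₁.left ⁻¹ᵁ V' ⊓ g₂.left ⁻¹ᵁ V'
    refine ⟨opn T T₀, opnι T T₀, ?_, ?_⟩
    · exact ⟨⟨t, ⟨ha, hb⟩⟩, rfl⟩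
    · rw [← map_comp_apply, ← map_comp_apply, hvan _ (opnι T T₀ ≫ g₁) (fun y => y.2.1),
        hvan _ (opnι T T₀ ≫ g₂) (fun y => y.2.2)]

/-- In the case where the inverse image of Z is Z' (so that the bijection is restriction): let phi : U'
-> U be a morphism of the small etale site of X and Z a closed subset of U such that phi restricted
to the inverse image Z' of Z is a bijection onto Z inducing isomorphisms of residue fields (so Z' ->
U is a closed immersion with image Z, for the reduced structures). Then restriction along phi is a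
bijection from the sections of F over U supported in Z to the sections of F over U' supported in Z'. -/
theorem result {X : Scheme.{u}} (F : EtCoh.Ab X) {U U' : X.Etale}
    (φ : U' ⟶ U) (Z : Set ↥U.left) (hZ : IsClosed Z)
    (hbij : Set.BijOn φ.left.base (φ.left.base ⁻¹' Z) Z)
    (hres : ∀ x ∈ φ.left.base ⁻¹' Z, Function.Bijective (φ.left.residueFieldMap x)) :
    Set.BijOn (F.obj.map φ.op) {s | EtShriek.sectSupp F U s ⊆ Z}
      {s' | EtShriek.sectSupp F U' s' ⊆ φ.left.base ⁻¹' Z} := by
  let V : U.left.Opens := ⟨Zᶜ, hZ.isOpen_compl⟩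
  let V' : U'.left.Opens := ⟨(φ.left.base ⁻¹' Z)ᶜ, (hZ.preimage φ.left.continuous).isOpen_compl⟩
  refine ⟨?_, ?_, ?_⟩
  · intro s hs
    exact (sectSupp_map_subset F φ s).trans (Set.preimage_mono hs)
  · intro s₁ hs₁ s₂ hs₂ h12
    apply eq_of_cover F U
    intro x
    by_cases hx : x ∈ Z
    · obtain ⟨x', -, rfl⟩ := hbij.surjOn hx
      exact ⟨U', φ, ⟨x', rfl⟩, h12⟩
    · refine ⟨opn U V, opnι U V, ?_, ?_⟩
      · exact ⟨⟨x, hx⟩, rfl⟩
      · rw [restrict_eq_zero F U s₁ V (fun y hy hys => hy (hs₁ hys)),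
          restrict_eq_zero F U s₂ V (fun y hy hys => hy (hs₂ hys))]
  · intro s' hs'
    have hs'0 : F.obj.map (opnι U' V').op s' = 0 :=
      restrict_eq_zero F U' s' V' (fun y hy hys => hy (hs' hys))
    have hvan : ∀ (T : X.Etale) (g : T ⟶ U'), (∀ t, g.left t ∉ φ.left.base ⁻¹' Z) →
        F.obj.map g.op s' = 0 := by
      intro T g hg
      obtain ⟨g', rfl⟩ := exists_factor_opn g V' hg
      rw [map_comp_apply, hs'0, map_zero]
    obtain ⟨s, hs1, hs2⟩ := exists_glue_two F φ (opnι U V) (fun x => by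
        by_cases hx : x ∈ Z
        · obtain ⟨x', -, rfl⟩ := hbij.surjOn hx
          exact Or.inl ⟨x', rfl⟩
        · exact Or.inr ⟨⟨x, hx⟩, rfl⟩) s' 0
      (fun T g₁ g₂ h => agree_of_diag F φ Z hZ hbij hres s' hvan T g₁ g₂ h)
      (fun T g₁ g₂ _ => by rw [map_zero, map_zero])
      (fun T g₁ g₂ h => by
        rw [map_zero]
        apply hvan
        intro t ht
        have hl : g₁.left ≫ φ.left = g₂.left ≫ (opnι U V).left := congrArg (fun k => k.left) h
        have h1 : φ.left (g₁.left t) = V.ι (g₂.left t) :=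
          congrArg (fun k : T.left ⟶ U.left => k t) hl
        have h2 : V.ι (g₂.left t) ∈ V := (g₂.left t).2
        rw [← h1] at h2
        exact h2 ht)
    refine ⟨s, ?_, hs1⟩
    intro x hx
    by_contra hxZ
    exact hx (opn U V) (opnι U V) ⟨⟨x, hxZ⟩, rfl⟩ hs2

end Groth.Agent.S0728
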