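import Groth.Statements.S0729
-- import your own Groth.Agent.* helpers here
import Mathlib.AlgebraicGeometry.Sites.Proetale

set_option autoImplicit false
open CategoryTheory CategoryTheory.Limits AlgebraicGeometry Opposite
universe u
open ProEtS

namespace Groth.Agent.S0729

open MorphismProperty in
/-- Every étale covering of a scheme X is a pro-étale covering, in the form used to define the
comparison morphism of sites ε : X_proét → X_ét: the inclusion functor from the small étale site of
X to the small pro-étale site of X is continuous. -/
theorem result (X : Scheme.{u}) : ProEtS.EpsCont X := by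
  have h1 : PreservesFiniteLimits (ProEtS.eps X ⋙ Scheme.ProEt.forget X) :=
    inferInstanceAs (PreservesFiniteLimits (Scheme.Etale.forget X))
  have h2 : PreservesFiniteLimits (ProEtS.eps X) :=
    preservesFiniteLimits_of_reflects_of_preserves (ProEtS.eps X) (Scheme.ProEt.forget X)
  have h3 : RepresentablyFlat (ProEtS.eps X) := flat_of_preservesFiniteLimits _
  change (ProEtS.eps X).IsContinuous X.smallEtaleTopology (Scheme.ProEt.topology X)
  rw [Functor.isContinuous_iff_coverPreserving]
  constructor
  intro U S hS
  obtain ⟨𝒰, hO, h, hle⟩ := (Scheme.mem_smallGrothendieckTopology (P := @Etale) U S).1 hS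
  refine (Scheme.ProEt.topology X).superset_covering (S := Sieve.generate
    (Presieve.ofArrows (fun i => (ProEtS.eps X).obj ((𝒰.X i).asOverProp X (h i)))
      (fun i => (ProEtS.eps X).map ((𝒰.f i).asOverProp X)))) ?_ ?_
  · rw [Sieve.generate_le_iff]
    rintro _ _ ⟨i⟩
    exact ⟨_, (𝒰.f i).asOverProp X, 𝟙 _, hle _ _ ⟨i⟩, (Category.id_comp _).symm⟩
  · apply Precoverage.generate_mem_toGrothendieck
    change Presieve.map _ _ ∈ Scheme.proetalePrecoverage _
    rw [Presieve.map_ofArrows]
    exact Scheme.etalePrecoverage_le_proetalePrecoverage _ 𝒰.mem₀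

end Groth.Agent.S0729
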