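import Groth.Statements.S0730
-- import your own Groth.Agent.* helpers here
import Mathlib.AlgebraicGeometry.Sites.Proetale

set_option autoImplicit false
open CategoryTheory CategoryTheory.Limits AlgebraicGeometry Opposite
universe u
open ProEtS

namespace Groth.Agent.S0730

set_option backward.isDefEq.respectTransparency.types false in
/-- For `g : V ⟶ U` in `Y.ProEt`, the square with corners `V ×_Y X, U ×_Y X, V, U` is cartesian. -/
theorem isPullback_bcP_map {X Y : Scheme.{u}} (f : X ⟶ Y) {U V : Y.ProEt} (g : V ⟶ U) :
    IsPullback ((ProEtS.bcP f).map g).left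
      (pullback.fst V.hom f : ((ProEtS.bcP f).obj V).left ⟶ V.left)
      (pullback.fst U.hom f : ((ProEtS.bcP f).obj U).left ⟶ U.left) g.left := by
  have e1 : ((ProEtS.bcP f).map g).left ≫ pullback.snd U.hom f = pullback.snd V.hom f := by
    dsimp [ProEtS.bcP]
    exact pullback.lift_snd _ _ _
  have e2 : g.left ≫ U.hom = V.hom := Over.w g.hom
  refine IsPullback.of_right (h₁₂ := pullback.snd U.hom f) (v₁₃ := f) (h₂₂ := U.hom) ?_ ?_
    (IsPullback.of_hasPullback U.hom f).flip
  · exact (congrArg₂ (fun a d => IsPullback a (pullback.fst V.hom f) f d) e1 e2).mpr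
      (IsPullback.of_hasPullback V.hom f).flip
  · dsimp [ProEtS.bcP]
    exact pullback.lift_fst _ _ _

open MorphismProperty in
/-- Base changes of pro-étale coverings are pro-étale coverings, in the form used to define the morphism
of sites f_proét : X_proét → Y_proét for a morphism of schemes f : X → Y: the base change functor
from the small pro-étale site of Y to that of X is continuous. -/
theorem result {X Y : Scheme.{u}} (f : X ⟶ Y) : ProEtS.PCont f := by
  change (ProEtS.bcP f).IsContinuous (Scheme.ProEt.precoverage Y).toGrothendieck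
    (Scheme.ProEt.precoverage X).toGrothendieck
  have : PreservesFiniteLimits (ProEtS.bcP f) :=
    inferInstanceAs (PreservesFiniteLimits (MorphismProperty.Over.pullback (@WeaklyEtale) ⊤ f))
  have : HasPullbacks Y.ProEt := inferInstance
  have : HasPullbacks X.ProEt := inferInstance
  have hpX : PreservesLimitsOfShape WalkingCospan (Scheme.ProEt.forget X ⋙ Over.forget X) :=
    inferInstance
  have hpY : PreservesLimitsOfShape WalkingCospan (Scheme.ProEt.forget Y ⋙ Over.forget Y) :=
    inferInstance
  have hX : (Scheme.ProEt.precoverage X).IsStableUnderBaseChange := by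
    unfold Scheme.ProEt.precoverage
    infer_instance
  have hY : (Scheme.ProEt.precoverage Y).IsStableUnderBaseChange := by
    unfold Scheme.ProEt.precoverage
    infer_instance
  apply Functor.isContinuous_toGrothendieck_of_pullbacksPreservedBy
  intro V R hR
  obtain ⟨ι, Z, g, rfl⟩ := R.exists_eq_ofArrows
  change Presieve.map _ (Presieve.map _ _) ∈ Scheme.proetalePrecoverage _
  change Presieve.map _ _ ∈ Scheme.proetalePrecoverage _ at hR
  rw [Presieve.map_ofArrows] at hR
  rw [Presieve.map_ofArrows, Presieve.map_ofArrows]
  exact Precoverage.mem_coverings_of_isPullback _ hR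
    (pullback.fst V.hom f : ((ProEtS.bcP f).obj V).left ⟶ V.left)
    (fun i => ((ProEtS.bcP f).map (g i)).left)
    (fun i => (pullback.fst (Z i).hom f : ((ProEtS.bcP f).obj (Z i)).left ⟶ (Z i).left))
    (fun i => isPullback_bcP_map f (g i))

end Groth.Agent.S0730
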