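import Groth.Statements.S0742
-- import your own Groth.Agent.* helpers here
import Mathlib.AlgebraicGeometry.Sites.Proetale
import Mathlib.CategoryTheory.Adjunction.Triple

set_option autoImplicit false
open CategoryTheory CategoryTheory.Limits AlgebraicGeometry Opposite
universe u
open ProEtS

namespace Groth.Agent.S0742

/-- the adjunction of sites `compP j ⊣ bcP j` for weakly étale `j` -/
noncomputable def siteAdj {U X : Scheme.{u}} (j : U ⟶ X) [hj : WeaklyEtale j] :
    ProEtS.compP j ⊣ ProEtS.bcP j :=
  MorphismProperty.Over.mapPullbackAdj (@WeaklyEtale) ⊤ j hj trivial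

lemma isIso_lift_of_mono {C : Type*} [Category C] [HasPullbacks C] {V U X : C} (a : V ⟶ U)
    (j : U ⟶ X) [Mono j] :
    IsIso (pullback.lift (𝟙 V) a (by simp) : V ⟶ pullback (a ≫ j) j) := by
  refine ⟨pullback.fst _ _, pullback.lift_fst _ _ _, ?_⟩
  apply pullback.hom_ext
  · rw [Category.assoc, pullback.lift_fst, Category.id_comp]
    exact Category.comp_id _
  · rw [Category.assoc, pullback.lift_snd, Category.id_comp, ← cancel_mono j, Category.assoc]
    exact pullback.condition

set_option backward.isDefEq.respectTransparency.types false in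
lemma isIso_siteAdj_unit_app {U X : Scheme.{u}} (j : U ⟶ X) [hj : WeaklyEtale j] [Mono j]
    (A : U.ProEt) : IsIso ((siteAdj j).unit.app A) := by
  have h1 : IsIso ((Scheme.ProEt.forget U ⋙ Over.forget U).map ((siteAdj j).unit.app A)) :=
    isIso_lift_of_mono A.hom j
  exact isIso_of_reflects_iso _ (Scheme.ProEt.forget U ⋙ Over.forget U)

/-- the adjunction `j⁻¹ ⊣ j_*` (restriction, pushforward) on pro-étale abelian sheaves -/
noncomputable def restrPushAdj {U X : Scheme.{u}} (j : U ⟶ X) [WeaklyEtale j]
    [ProEtS.JPCont j] [ProEtS.PCont j] : ProEtS.restrP j ⊣ ProEtS.pushP j :=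
  (siteAdj j).sheafPushforwardContinuous (Scheme.ProEt.topology U) (Scheme.ProEt.topology X)

set_option backward.isDefEq.respectTransparency.types false in
lemma isIso_restrPushAdj_counit {U X : Scheme.{u}} (j : U ⟶ X) [WeaklyEtale j] [Mono j]
    [ProEtS.JPCont j] [ProEtS.PCont j] : IsIso (restrPushAdj j).counit := by
  have : ∀ G, IsIso ((restrPushAdj j).counit.app G) := by
    intro G
    have h1 : IsIso ((sheafToPresheaf _ _).map ((restrPushAdj j).counit.app G)) := by
      have : ∀ V, IsIso (((sheafToPresheaf _ _).map ((restrPushAdj j).counit.app G)).app V) := by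
        intro V
        have := isIso_siteAdj_unit_app j V.unop
        change IsIso (((restrPushAdj j).counit.app G).hom.app V)
        rw [restrPushAdj, Adjunction.sheafPushforwardContinuous_counit_app_hom_app]
        have h2 : IsIso ((siteAdj j).unit.app (unop V)).op := inferInstance
        exact Functor.map_isIso _ _
      exact NatIso.isIso_of_isIso_app _
    exact isIso_of_reflects_iso _ (sheafToPresheaf _ _)
  exact NatIso.isIso_of_isIso_app _

/-- For an open immersion j : U -> X, the unit F -> j^{-1} j_! F and the counit j^{-1} j_* G -> G are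
isomorphisms on abelian pro-etale sheaves (so j_! and j_* are fully faithful; continuity binders
assumed). -/
theorem result {U X : Scheme.{u}} (j : U ⟶ X) [IsOpenImmersion j]
    [ProEtS.JPCont j] [ProEtS.PCont j] (F G : ProEtS.AbP U) :
    IsIso ((ProEtS.extZeroPAdj j).unit.app F) ∧ IsIso ((ProEtS.pullPushAdjP j).counit.app G) := by
  have hc := isIso_restrPushAdj_counit j
  let t : Adjunction.Triple (ProEtS.extZeroP j) (ProEtS.restrP j) (ProEtS.pushP j) :=
    ⟨ProEtS.extZeroPAdj j, restrPushAdj j⟩
  have hu : IsIso (ProEtS.extZeroPAdj j).unit := t.isIso_unit_iff_isIso_counit.mpr hc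
  have hff : (ProEtS.pushP j).FullyFaithful := (restrPushAdj j).fullyFaithfulROfIsIsoCounit
  have := hff.full
  have := hff.faithful
  exact ⟨inferInstance, inferInstance⟩

end Groth.Agent.S0742
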