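import Groth.Statements.S0780
-- import your own Groth.Agent.* helpers here
import Groth.Agent.Lib.Helper23.Shriek.ProjStalk

set_option autoImplicit false
open CategoryTheory CategoryTheory.Limits AlgebraicGeometry Opposite
universe u
open EtShriek

namespace Groth.Agent.S0780

/-- Projection formula for the direct image with proper support: let f : X → Y be a morphism of schemes
that is separated, locally of finite type and locally quasi-finite (so that f_! is the subsheaf of
f_* of sections with proper support). For abelian sheaves F on X_ét and G on Y_ét the sheaves f_!F ⊗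
G and f_!(F ⊗ f⁻¹G) are isomorphic. Only the existence of an isomorphism is asserted (the
identification is in fact canonical). -/
theorem result {X Y : Scheme.{u}} (f : X ⟶ Y) [IsSeparated f]
    [LocallyOfFiniteType f] [LocallyQuasiFinite f] (F : EtCoh.Ab X) (G : EtCoh.Ab Y) :
    Nonempty ((EtTens.tensorBi.obj ((EtShriek.lowerShriek f).obj F)).obj G ≅
      (EtShriek.lowerShriek f).obj ((EtTens.tensorBi.obj F).obj ((EtCoh.pull f).obj G))) := by
  classical
  have hP := Groth.Agent.Lib.Helper23.FinPushExact.isConservative_algClosed Y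
  have hinj : Presheaf.IsLocallyInjective Y.smallEtaleTopology
      (Groth.Agent.Lib.Helper23.Shriek.Proj.φ₀ f F G) :=
    Groth.Agent.Lib.Helper23.PointStalk.isLocallyInjective_of_fibers hP
      (Groth.Agent.Lib.Helper23.Shriek.Proj.φ₀ f F G) (fun Φ => by
        obtain ⟨Ω, _, _, η, hΦ⟩ := Groth.Agent.Lib.Helper23.FinPushExact.key Y Φ
        rw [hΦ]
        exact (Groth.Agent.Lib.Helper23.Shriek.Proj.fiber_φ₀_bijective f F G η).1)
  have hsurj : Presheaf.IsLocallySurjective Y.smallEtaleTopology
      (Groth.Agent.Lib.Helper23.Shriek.Proj.φ₀ f F G) :=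
    Groth.Agent.Lib.Helper23.PointStalk.isLocallySurjective_of_fibers hP
      (Groth.Agent.Lib.Helper23.Shriek.Proj.φ₀ f F G) (fun Φ => by
        obtain ⟨Ω, _, _, η, hΦ⟩ := Groth.Agent.Lib.Helper23.FinPushExact.key Y Φ
        rw [hΦ]
        exact (Groth.Agent.Lib.Helper23.Shriek.Proj.fiber_φ₀_bijective f F G η).2)
  have hW : Y.smallEtaleTopology.W (Groth.Agent.Lib.Helper23.Shriek.Proj.φ₀ f F G) :=
    (GrothendieckTopology.W_iff_isLocallyBijective _ _).2 ⟨hinj, hsurj⟩
  have hiso : IsIso ((presheafToSheaf Y.smallEtaleTopology AddCommGrpCat.{u+1}).map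
      (Groth.Agent.Lib.Helper23.Shriek.Proj.φ₀ f F G)) :=
    (GrothendieckTopology.W_iff _ _).1 hW
  let e1 : (EtTens.tensorBi.obj ((EtShriek.lowerShriek f).obj F)).obj G ≅
      (EtTens.tensorBi.obj ((Groth.Agent.Lib.Helper23.Shriek.L f).obj F)).obj G :=
    (EtTens.tensorBi.mapIso ((Groth.Agent.Lib.Helper23.Shriek.LIso f).app F)).app G
  let e2 : (EtTens.tensorBi.obj ((Groth.Agent.Lib.Helper23.Shriek.L f).obj F)).obj G ≅
      (EtShriek.lowerShriek f).obj ((EtTens.tensorBi.obj F).obj ((EtCoh.pull f).obj G)) :=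
    @asIso _ _ _ _ ((presheafToSheaf Y.smallEtaleTopology AddCommGrpCat.{u+1}).map
      (Groth.Agent.Lib.Helper23.Shriek.Proj.φ₀ f F G)) hiso
  exact ⟨e1 ≪≫ e2⟩

end Groth.Agent.S0780
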