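import Groth.Statements.S0781
import Mathlib.AlgebraicGeometry.Morphisms.Etale
import Mathlib.AlgebraicGeometry.Morphisms.FormallyUnramified
import Mathlib.AlgebraicGeometry.Morphisms.Separated
import Mathlib.AlgebraicGeometry.Morphisms.UnderlyingMap

set_option autoImplicit false
open CategoryTheory CategoryTheory.Limits AlgebraicGeometry Opposite
universe u
open Desc

namespace Groth.Agent.S0781

set_option backward.isDefEq.respectTransparency false in
theorem isOpenImmersion_equalizer_ι_left {S : Scheme.{u}} {X Y : Over S}
    [IsOpenImmersion (pullback.diagonal Y.hom)]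
    (f g : X ⟶ Y) : IsOpenImmersion (equalizer.ι f g).left := by
  refine MorphismProperty.of_isPullback (P := @IsOpenImmersion)
    ((Limits.isPullback_equalizer_prod f g).map (Over.forget _)).flip ?_
  rw [← MorphismProperty.cancel_right_of_respectsIso @IsOpenImmersion _
    (Over.prodLeftIsoPullback Y Y).hom]
  convert! (inferInstance : IsOpenImmersion (pullback.diagonal Y.hom))
  ext1 <;> simp [← Over.comp_left]


/-- If p : X → S is a surjective morphism of schemes, then for schemes U₁, U₂ étale over S, two
S-morphisms U₁ → U₂ whose base changes to X agree, as morphisms of canonical descent data relative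
to p, are equal; that is, the canonical-descent-datum functor is faithful on schemes étale over S.
(Descent data are taken in functor-of-points form, equivalent by the Yoneda lemma to an isomorphism
over X ×_S X satisfying the cocycle condition.) -/
theorem result {X S : Scheme.{u}} (p : X ⟶ S) [Surjective p] (U₁ U₂ : Over S)
    [Etale U₁.hom] [Etale U₂.hom] : Function.Injective ((Desc.toDD p).map : (U₁ ⟶ U₂) → _) := by
  intro f g hfg
  have h1 : ((Desc.toDD p).map f).hom.left = ((Desc.toDD p).map g).hom.left := by rw [hfg]
  have h2 : pullback.snd p U₁.hom ≫ f.left = pullback.snd p U₁.hom ≫ g.left := by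
    have e1 : ((Desc.toDD p).map f).hom.left ≫ pullback.snd p U₂.hom = pullback.snd p U₁.hom ≫ f.left := by
      simp only [Desc.toDD, Over.homMk_left]
      exact pullback.lift_snd _ _ _
    have e2 : ((Desc.toDD p).map g).hom.left ≫ pullback.snd p U₂.hom = pullback.snd p U₁.hom ≫ g.left := by
      simp only [Desc.toDD, Over.homMk_left]
      exact pullback.lift_snd _ _ _
    rw [← e1, ← e2, h1]
  have hopen : IsOpenImmersion (equalizer.ι f g).left := isOpenImmersion_equalizer_ι_left f g
  let ι' : Over.mk (pullback.snd p U₁.hom ≫ U₁.hom) ⟶ U₁ := Over.homMk (pullback.snd p U₁.hom)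
  have hι : ι' ≫ f = ι' ≫ g := by
    ext1
    exact h2
  have hsurj : Surjective (equalizer.ι f g).left := by
    have e : (equalizer.lift ι' hι).left ≫ (equalizer.ι f g).left = pullback.snd p U₁.hom := by
      rw [← Over.comp_left, equalizer.lift_ι]
      rfl
    have : Surjective ((equalizer.lift ι' hι).left ≫ (equalizer.ι f g).left) := by
      rw [e]; infer_instance
    exact Surjective.of_comp (equalizer.lift ι' hι).left _
  have hepi : Epi (equalizer.ι f g).left.base := by
    rw [TopCat.epi_iff_surjective]
    exact hsurj.surj
  have hiso : IsIso (equalizer.ι f g).left := IsOpenImmersion.isIso _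
  ext1
  rw [← cancel_epi (equalizer.ι f g).left]
  exact congr($(equalizer.condition f g).left)


end Groth.Agent.S0781
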