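import Groth.Statements.S0797
-- import your own Groth.Agent.* helpers here
import Mathlib.RingTheory.AdicCompletion.Basic
import Mathlib.RingTheory.Finiteness.Cardinality
import Mathlib.LinearAlgebra.Finsupp.LinearCombination
import Mathlib.RingTheory.Ideal.Operations

set_option autoImplicit false
universe u
open Formal2

namespace Groth.Agent.S0797


section

variable {A : Type u} [CommRing A] (I : Ideal A) (M : ℕ → Type u) [∀ n, AddCommGroup (M n)]
  [∀ n, Module A (M n)] (f : ∀ n, M (n + 1) →ₗ[A] M n)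

/-- transition to level 0 -/
def tau : ∀ n, M n →ₗ[A] M 0
  | 0 => LinearMap.id
  | n + 1 => (tau n).comp (f n)

/-- lifting sequences from level 0 -/
noncomputable def liftSeq (hf : ∀ n, Function.Surjective (f n)) (x : M 0) : ∀ n, M n
  | 0 => x
  | n + 1 => Function.surjInv (hf n) (liftSeq hf x n)

lemma liftSeq_spec (hf : ∀ n, Function.Surjective (f n)) (x : M 0) (n : ℕ) :
    f n (liftSeq M f hf x (n + 1)) = liftSeq M f hf x n :=
  Function.surjInv_eq (hf n) _

variable {M f}

lemma zero_of_zero {w : ∀ n, M n} (hw : ∀ n, f n (w (n + 1)) = w n) {m j : ℕ} (hmj : m ≤ j)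
    (hj : w j = 0) : w m = 0 := by
  obtain ⟨d, rfl⟩ := Nat.exists_eq_add_of_le hmj
  induction d with
  | zero => exact hj
  | succ d ih =>
    apply ih (Nat.le_add_right _ _)
    rw [← hw (m + d)]
    have : w (m + d + 1) = 0 := hj
    rw [this, map_zero]

lemma tau_compat {w : ∀ n, M n} (hw : ∀ n, f n (w (n + 1)) = w n) (n : ℕ) :
    tau M f n (w n) = w 0 := by
  induction n with
  | zero => rfl
  | succ n ih =>
    change tau M f n (f n (w (n + 1))) = w 0
    rw [hw n, ih]

lemma ker_tau_le (hf : ∀ n, Function.Surjective (f n))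
    (hker : ∀ n, LinearMap.ker (f n) = I ^ (n + 1) • (⊤ : Submodule A (M (n + 1)))) (n : ℕ) :
    LinearMap.ker (tau M f n) ≤ I • (⊤ : Submodule A (M n)) := by
  induction n with
  | zero =>
    intro x hx
    have : x = 0 := hx
    rw [this]; exact zero_mem _
  | succ n ih =>
    intro x hx
    have h1 : f n x ∈ LinearMap.ker (tau M f n) := hx
    have h2 := ih h1
    have h3 : (I • (⊤ : Submodule A (M n))) = (I • (⊤ : Submodule A (M (n + 1)))).map (f n) := by
      rw [Submodule.map_smul'', Submodule.map_top, LinearMap.range_eq_top.2 (hf n)]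
    rw [h3] at h2
    obtain ⟨x', hx', hxx'⟩ := h2
    have h4 : x - x' ∈ LinearMap.ker (f n) := by
      rw [LinearMap.mem_ker, map_sub, hxx', sub_self]
    rw [hker n] at h4
    have h5 : I ^ (n + 1) • (⊤ : Submodule A (M (n + 1))) ≤ I • ⊤ := by
      apply Submodule.smul_mono_left
      conv_rhs => rw [← pow_one I]
      exact Ideal.pow_le_pow_right (Nat.le_add_left 1 n)
    have : x = (x - x') + x' := by abel
    rw [this]
    exact add_mem (h5 h4) hx'

end

/-- The module-theoretic heart, over a base that is already complete (so that the completion of A is A).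
Let A be Noetherian and I-adically complete, and let (M_n, f_n : M_{n+1} → M_n) be an inverse system
of finite A-modules with M_n annihilated by I^(n+1) and f_n surjective with kernel I^(n+1) M_{n+1}
(indices shifted by one). Then the A-module of compatible sequences is finitely generated, each
projection to M_n is surjective, and its kernel is I^(n+1) times the module of compatible sequences. -/
theorem result (A : Type u) [CommRing A] [IsNoetherianRing A] (I : Ideal A)
    [IsAdicComplete I A] (M : ℕ → Type u) [∀ n, AddCommGroup (M n)] [∀ n, Module A (M n)]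
    [∀ n, Module.Finite A (M n)] (f : ∀ n, M (n + 1) →ₗ[A] M n) (hf : ∀ n, Function.Surjective (f n))
    (hk : ∀ n, I ^ (n + 1) • (⊤ : Submodule A (M n)) = ⊥)
    (hker : ∀ n, LinearMap.ker (f n) = I ^ (n + 1) • (⊤ : Submodule A (M (n + 1))))
    (L : Submodule A (∀ n, M n)) (hL : ∀ x : ∀ n, M n, x ∈ L ↔ ∀ n, f n (x (n + 1)) = x n) :
    Module.Finite A L ∧ ∀ n, Function.Surjective ((LinearMap.proj n).comp L.subtype : L →ₗ[A] M n) ∧
      LinearMap.ker ((LinearMap.proj n).comp L.subtype : L →ₗ[A] M n) = I ^ (n + 1) • (⊤ : Submodule A L) := by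
  classical
  -- generators of `M 0`
  obtain ⟨t, s, hs⟩ := (Submodule.fg_iff_exists_fin_generating_family).1
    (Module.Finite.fg_top : (⊤ : Submodule A (M 0)).FG)
  have hLmem : ∀ x : M 0, liftSeq M f hf x ∈ L := by
    intro x
    rw [hL]
    exact fun n => liftSeq_spec M f hf x n
  let g : Fin t → L := fun i => ⟨liftSeq M f hf (s i), hLmem (s i)⟩
  have hg0 : ∀ i, (g i).1 0 = s i := fun i => rfl
  have hgc : ∀ i n, f n ((g i).1 (n + 1)) = (g i).1 n := fun i => (hL _).1 (g i).2
  have hcoe : ∀ (a : Fin t → A) (n : ℕ), (∑ i, a i • g i : L).1 n = ∑ i, a i • (g i).1 n := by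
    intro a n
    simp [Submodule.coe_sum, Finset.sum_apply]
  -- (N1)
  have N1 : ∀ n (x : M n), ∃ a : Fin t → A, x = ∑ i, a i • (g i).1 n := by
    intro n x
    set N : Submodule A (M n) := Submodule.span A (Set.range fun i => (g i).1 n) with hN
    have h1 : (⊤ : Submodule A (M n)) ≤ N ⊔ I • ⊤ := by
      intro x _
      have hx0 : tau M f n x ∈ Submodule.span A (Set.range s) := by rw [hs]; trivial
      obtain ⟨c, hc⟩ := (Submodule.mem_span_range_iff_exists_fun A).1 hx0
      have h2 : x - ∑ i, c i • (g i).1 n ∈ LinearMap.ker (tau M f n) := by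
        rw [LinearMap.mem_ker, map_sub, map_sum, ← hc, sub_eq_zero]
        refine Finset.sum_congr rfl fun i _ => ?_
        rw [map_smul, tau_compat (hgc i) n, hg0]
      have h3 := ker_tau_le I hf hker n h2
      have : x = (∑ i, c i • (g i).1 n) + (x - ∑ i, c i • (g i).1 n) := by abel
      rw [this]
      refine Submodule.add_mem_sup ?_ h3
      exact Submodule.sum_mem _ fun i _ => Submodule.smul_mem _ _ (Submodule.subset_span ⟨i, rfl⟩)
    have h2 : ∀ k, (⊤ : Submodule A (M n)) ≤ N ⊔ I ^ k • ⊤ := by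
      intro k
      induction k with
      | zero => rw [pow_zero, Ideal.one_eq_top, Submodule.top_smul]; exact le_sup_right
      | succ k ih =>
        calc (⊤ : Submodule A (M n)) ≤ N ⊔ I ^ k • ⊤ := ih
          _ ≤ N ⊔ I ^ k • (N ⊔ I • ⊤) := sup_le_sup_left (Submodule.smul_mono le_rfl h1) _
          _ = N ⊔ (I ^ k • N ⊔ I ^ k • (I • ⊤)) := by rw [Submodule.smul_sup]
          _ ≤ N ⊔ I ^ (k + 1) • ⊤ := by
            refine sup_le le_sup_left (sup_le (le_sup_of_le_left Submodule.smul_le_right) ?_)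
            rw [← Submodule.mul_smul, ← pow_succ]
            exact le_sup_right
    have h3 : (⊤ : Submodule A (M n)) ≤ N := by
      have := h2 (n + 1)
      rwa [hk n, sup_bot_eq] at this
    obtain ⟨c, hc⟩ := (Submodule.mem_span_range_iff_exists_fun A).1 (h3 (Submodule.mem_top : x ∈ ⊤))
    exact ⟨c, hc.symm⟩
  -- (N2)
  have N2 : ∀ n m (x : M n), x ∈ I ^ m • (⊤ : Submodule A (M n)) →
      ∃ c : Fin t → A, (∀ i, c i ∈ I ^ m) ∧ x = ∑ i, c i • (g i).1 n := by
    intro n m x hx
    refine Submodule.smul_induction_on hx ?_ ?_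
    · intro r hr y _
      obtain ⟨a, rfl⟩ := N1 n y
      refine ⟨fun i => r * a i, fun i => Ideal.mul_mem_right _ _ hr, ?_⟩
      rw [Finset.smul_sum]
      exact Finset.sum_congr rfl fun i _ => by rw [smul_smul]
    · rintro x y ⟨c, hc, rfl⟩ ⟨c', hc', rfl⟩
      refine ⟨fun i => c i + c' i, fun i => add_mem (hc i) (hc' i), ?_⟩
      rw [← Finset.sum_add_distrib]
      exact Finset.sum_congr rfl fun i _ => by rw [add_smul]
  -- step lemma
  have KL : ∀ n (y : L) (b : Fin t → A), (∑ i, b i • (g i).1 n = y.1 n) →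
      ∃ b' : Fin t → A, (∀ i, b' i - b i ∈ I ^ (n + 1)) ∧ ∑ i, b' i • (g i).1 (n + 1) = y.1 (n + 1) := by
    intro n y b hb
    have hyc : ∀ n, f n (y.1 (n + 1)) = y.1 n := (hL _).1 y.2
    have hx : y.1 (n + 1) - ∑ i, b i • (g i).1 (n + 1) ∈ LinearMap.ker (f n) := by
      rw [LinearMap.mem_ker, map_sub, hyc, map_sum, ← hb, sub_eq_zero]
      refine Finset.sum_congr rfl fun i _ => ?_
      rw [map_smul, hgc]
    rw [hker n] at hx
    obtain ⟨c, hc, hxc⟩ := N2 (n + 1) (n + 1) _ hx
    refine ⟨fun i => b i + c i, fun i => by simpa using hc i, ?_⟩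
    have : ∑ i, (b i + c i) • (g i).1 (n + 1) =
        ∑ i, b i • (g i).1 (n + 1) + ∑ i, c i • (g i).1 (n + 1) := by
      rw [← Finset.sum_add_distrib]
      exact Finset.sum_congr rfl fun i _ => by rw [add_smul]
    rw [this, ← hxc]
    abel
  -- approximation lemma
  have approx : ∀ n (y : L) (b₀ : Fin t → A), (∑ i, b₀ i • (g i).1 n = y.1 n) →
      ∃ a : Fin t → A, (∀ i, a i - b₀ i ∈ I ^ (n + 1)) ∧ ∑ i, a i • g i = y := by
    intro n y b₀ hb₀
    have hyc : ∀ n, f n (y.1 (n + 1)) = y.1 n := (hL _).1 y.2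
    let B : ∀ k, {b : Fin t → A // ∑ i, b i • (g i).1 (n + k) = y.1 (n + k)} := fun k =>
      Nat.rec (motive := fun k => {b : Fin t → A // ∑ i, b i • (g i).1 (n + k) = y.1 (n + k)})
        ⟨b₀, hb₀⟩ (fun k b => ⟨(KL (n + k) y b.1 b.2).choose, (KL (n + k) y b.1 b.2).choose_spec.2⟩) k
    have hBstep : ∀ k i, (B (k + 1)).1 i - (B k).1 i ∈ I ^ (n + k + 1) := fun k i =>
      (KL (n + k) y (B k).1 (B k).2).choose_spec.1 i
    have hB0 : (B 0).1 = b₀ := rfl
    have hBtel : ∀ k d i, (B (k + d)).1 i - (B k).1 i ∈ I ^ (n + k + 1) := by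
      intro k d i
      induction d with
      | zero => simp
      | succ d ih =>
        have h1 := hBstep (k + d) i
        have h2 : I ^ (n + (k + d) + 1) ≤ I ^ (n + k + 1) := Ideal.pow_le_pow_right (by omega)
        have : (B (k + (d + 1))).1 i - (B k).1 i =
            ((B (k + d + 1)).1 i - (B (k + d)).1 i) + ((B (k + d)).1 i - (B k).1 i) := by
          change (B (k + d + 1)).1 i - _ = _
          ring
        rw [this]
        exact add_mem (h2 h1) ih
    have hlim : ∀ i, ∃ a : A, ∀ k, (B k).1 i - a ∈ I ^ k := by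
      intro i
      have hprec : IsPrecomplete I A := inferInstance
      obtain ⟨a, ha⟩ := hprec.prec (f := fun k => (B k).1 i) (by
        intro k k' hkk'
        obtain ⟨d, rfl⟩ := Nat.exists_eq_add_of_le hkk'
        rw [SModEq.sub_mem, smul_eq_mul, Ideal.mul_top]
        have h1 := hBtel k d i
        have h2 : I ^ (n + k + 1) ≤ I ^ k := Ideal.pow_le_pow_right (by omega)
        have := h2 h1
        rw [← neg_sub]
        exact neg_mem this)
      refine ⟨a, fun k => ?_⟩
      have := ha k
      rwa [SModEq.sub_mem, smul_eq_mul, Ideal.mul_top] at this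
    choose a ha using hlim
    refine ⟨a, ?_, ?_⟩
    · intro i
      have h1 := ha i (n + 1)
      have h2 := hBtel 0 (n + 1) i
      rw [zero_add, hB0] at h2
      have h3 : I ^ (n + 0 + 1) ≤ I ^ (n + 1) := le_of_eq (by rw [add_zero])
      have : a i - b₀ i = -((B (n + 1)).1 i - a i) + ((B (n + 1)).1 i - b₀ i) := by ring
      rw [this]
      exact add_mem (neg_mem h1) (h3 h2)
    · apply Subtype.ext
      funext m
      rw [hcoe]
      -- compare with `B (m+1)`
      set k := m + 1 with hk'
      have hw : ∀ j, f j ((∑ i, (B k).1 i • g i - y : L).1 (j + 1)) =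
          (∑ i, (B k).1 i • g i - y : L).1 j := (hL _).1 (∑ i, (B k).1 i • g i - y : L).2
      have hwz : (∑ i, (B k).1 i • g i - y : L).1 (n + k) = 0 := by
        rw [Submodule.coe_sub, Pi.sub_apply, hcoe, (B k).2, sub_self]
      have hwm := zero_of_zero hw (show m ≤ n + k by omega) hwz
      rw [Submodule.coe_sub, Pi.sub_apply, hcoe, sub_eq_zero] at hwm
      rw [← hwm, ← sub_eq_zero, ← Finset.sum_sub_distrib]
      have hmem : ∑ i, (a i • (g i).1 m - (B k).1 i • (g i).1 m) ∈
          I ^ (m + 1) • (⊤ : Submodule A (M m)) := by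
        refine Submodule.sum_mem _ fun i _ => ?_
        rw [← sub_smul]
        refine Submodule.smul_mem_smul ?_ Submodule.mem_top
        have := ha i k
        rw [← neg_sub]
        exact neg_mem this
      rw [hk m] at hmem
      exact hmem
  refine ⟨?_, fun n => ⟨?_, ?_⟩⟩
  · apply Module.Finite.of_surjective (Fintype.linearCombination A g)
    intro y
    obtain ⟨b₀, hb₀⟩ := N1 0 (y.1 0)
    obtain ⟨a, -, ha⟩ := approx 0 y b₀ hb₀.symm
    exact ⟨a, by rw [Fintype.linearCombination_apply, ha]⟩
  · intro x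
    obtain ⟨a, ha⟩ := N1 n x
    refine ⟨∑ i, a i • g i, ?_⟩
    change (∑ i, a i • g i : L).1 n = x
    rw [hcoe, ha]
  · apply le_antisymm
    · intro y hy
      have hy' : y.1 n = 0 := hy
      obtain ⟨a, ha1, ha2⟩ := approx n y 0 (by simp [hy'])
      rw [← ha2]
      refine Submodule.sum_mem _ fun i _ => Submodule.smul_mem_smul ?_ Submodule.mem_top
      simpa using ha1 i
    · intro y hy
      have h1 : ((LinearMap.proj n).comp L.subtype : L →ₗ[A] M n) y ∈
          (I ^ (n + 1) • (⊤ : Submodule A L)).map ((LinearMap.proj n).comp L.subtype) :=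
        Submodule.mem_map_of_mem hy
      rw [Submodule.map_smul''] at h1
      have h2 : I ^ (n + 1) • Submodule.map ((LinearMap.proj n).comp L.subtype : L →ₗ[A] M n) ⊤ ≤
          I ^ (n + 1) • (⊤ : Submodule A (M n)) := Submodule.smul_mono le_rfl le_top
      have h3 := h2 h1
      rw [hk n] at h3
      exact h3

end Groth.Agent.S0797
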