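import Groth.Statements.S0813
import Groth.Agent.Lib.Helper17.FlatBCUnit
import Groth.Agent.Lib.Helper17.InvDescLoc
import Groth.Agent.Lib.Helper17.Serre
import Groth.Agent.Lib.Helper7.ModHartogs
import Groth.Agent.Lib.Helper1.ParaFSec3
import Groth.Agent.Lib.Helper28.GenIso
import Groth.Agent.Lib.Helper28.TensorPowGen
import Mathlib
set_option backward.isDefEq.respectTransparency.types false

set_option autoImplicit false
universe u
open Formal2

namespace Groth.Agent.S0813

open CategoryTheory CategoryTheory.Limits AlgebraicGeometry TopologicalSpace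
open Groth.Agent.Lib.Helper28 Groth.Agent.Lib.Helper28.QCohLoc Groth.Agent.Lib.Helper28.GenLocus
open Groth.Agent.Lib.Helper17 Groth.Agent.Lib.Helper1.ParaFSec Groth.Agent.Lib.Helper7.ModHartogs

/-- Hartogs for the punctured spectrum of a Noetherian local ring of depth at least two -/
theorem bijective_res_punctured (A : Type u) [CommRing A] [IsNoetherianRing A] [IsLocalRing A]
    (hdepth : (2 : ℕ∞) ≤ LocCoh.depth A A) (V : (Spec (CommRingCat.of A)).Opens) :
    Function.Bijective ((Spec (CommRingCat.of A)).presheaf.map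
      (homOfLE (inf_le_left : V ⊓ FEt.puncturedSpec A ≤ V)).op) := by
  by_cases hV : IsLocalRing.closedPoint A ∈ V
  · have hVtop : V = ⊤ := (IsLocalRing.closedPoint_mem_iff (R := A) V).mp hV
    subst hVtop
    obtain ⟨a, ha, b, hb, hareg, hbreg⟩ := exists_regular_pair (B := A) (N := A) (IsLocalRing.maximalIdeal A) hdepth
    let X := Spec (CommRingCat.of A)
    let e := Scheme.ΓSpecIso (CommRingCat.of A)
    have he1 : ∀ r : A, e.hom.hom (e.inv.hom r) = r := fun r => by
      rw [← CommRingCat.comp_apply, Iso.inv_hom_id]; rfl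
    have he2 : ∀ c : Γ(X, ⊤), e.inv.hom (e.hom.hom c) = c := fun c => by
      rw [← CommRingCat.comp_apply, Iso.hom_inv_id]; rfl
    let I : Ideal Γ(X, ⊤) := (IsLocalRing.maximalIdeal A).comap e.hom.hom
    have hbo : ∀ c : Γ(X, ⊤), X.basicOpen c = PrimeSpectrum.basicOpen (e.hom.hom c) := fun c =>
      basicOpen_eq_of_affine' c
    have hb1 := bijective_res (Coh.structureModule X) (W := ⊤) (Serre.isLocOn_structureModule (isAffineOpen_top X))
      I (FEt.puncturedSpec A) le_top ?_ ?_ (e.inv.hom a) (e.inv.hom b) ?_ ?_ ?_ ?_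
    · refine bijective_map_congr (le_top : FEt.puncturedSpec A ≤ ⊤) _ (top_inf_eq _).symm rfl ?_
      exact hb1
    · -- hsub
      intro c hc z hz
      rw [hbo] at hz
      show z ∈ ({IsLocalRing.closedPoint A}ᶜ : Set (PrimeSpectrum A))
      intro hz'
      rw [Set.mem_singleton_iff] at hz'
      apply hz
      rw [hz']
      exact hc
    · -- hcov
      intro z hz
      have hz' : z ≠ IsLocalRing.closedPoint A := hz
      have hlt : ¬ (IsLocalRing.maximalIdeal A ≤ z.asIdeal) := by
        intro hle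
        apply hz'
        apply PrimeSpectrum.ext
        exact le_antisymm (IsLocalRing.le_maximalIdeal z.2.ne_top) hle
      obtain ⟨r, hr, hrz⟩ := Set.not_subset.mp hlt
      refine ⟨e.inv.hom r, ?_, ?_⟩
      · show e.hom.hom (e.inv.hom r) ∈ IsLocalRing.maximalIdeal A
        rw [he1]; exact hr
      · rw [hbo, he1]
        exact hrz
    · show e.hom.hom (e.inv.hom a) ∈ IsLocalRing.maximalIdeal A
      rw [he1]; exact ha
    · show e.hom.hom (e.inv.hom b) ∈ IsLocalRing.maximalIdeal A
      rw [he1]; exact hb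
    · -- regular
      intro u v huv
      have huv' : e.inv.hom a * (show Γ(X, ⊤) from u) = e.inv.hom a * (show Γ(X, ⊤) from v) := huv
      have h1 := congrArg e.hom.hom huv'
      rw [map_mul, map_mul, he1] at h1
      have h2 : e.hom.hom (show Γ(X, ⊤) from u) = e.hom.hom (show Γ(X, ⊤) from v) := hareg h1
      have h3 := congrArg e.inv.hom h2
      rw [he2, he2] at h3
      exact h3
    · -- second
      rintro u ⟨z, hz⟩
      have hz' : e.inv.hom b * (show Γ(X, ⊤) from u) = e.inv.hom a * (show Γ(X, ⊤) from z) := hz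
      have h1 := congrArg e.hom.hom hz'
      rw [map_mul, map_mul, he1, he1] at h1
      obtain ⟨w, hw⟩ := hbreg (e.hom.hom (show Γ(X, ⊤) from u)) ⟨e.hom.hom (show Γ(X, ⊤) from z), h1⟩
      refine ⟨(show Γ(Coh.structureModule X, ⊤) from e.inv.hom w), ?_⟩
      show (show Γ(X, ⊤) from u) = e.inv.hom a * e.inv.hom w
      rw [← map_mul, ← he2 (show Γ(X, ⊤) from u)]
      exact congrArg e.inv.hom hw
  · have hle : V ≤ FEt.puncturedSpec A := by
      intro z hz
      show z ∈ ({IsLocalRing.closedPoint A}ᶜ : Set (PrimeSpectrum A))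
      intro hz'
      apply hV
      rw [Set.mem_singleton_iff] at hz'
      rw [← hz']
      exact hz
    refine bijective_map_congr (le_refl V) _ (inf_eq_left.mpr hle).symm rfl ?_
    have : (Spec (CommRingCat.of A)).presheaf.map (homOfLE (le_refl V)).op = 𝟙 _ := by
      rw [show (homOfLE (le_refl V)) = 𝟙 V from rfl, op_id, CategoryTheory.Functor.map_id]
    rw [this]
    exact Function.bijective_id

theorem isGen_of_iso {Z : Scheme.{u}} {M N : Z.Modules} (φ : M ≅ N) {U : Z.Opens} {g : Γ(M, U)}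
    (hg : IsGen M U g) : IsGen N U (φ.hom.app U g) := by
  intro W hW
  have hfun : (fun c : Γ(Z, W) => (c • res N hW (φ.hom.app U g) : Γ(N, W))) =
      (φ.hom.app W) ∘ (fun c : Γ(Z, W) => (c • res M hW g : Γ(M, W))) := by
    funext c
    rw [Function.comp_apply, Scheme.Modules.Hom.app_smul, app_res]
  rw [hfun]
  exact (app_bijective_of_isIso φ.hom W).comp (hg W hW)

open CategoryTheory AlgebraicGeometry in

open CategoryTheory AlgebraicGeometry in
/-- Let (A, 𝔪) be a Noetherian local ring of depth at least 2, A^ its 𝔪-adic completion, U the punctured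
spectrum of A and U^ its preimage in Spec A^ (the punctured spectrum of A^). Then an invertible
O_U-module whose pullback to U^ is trivial is trivial. -/
theorem result (A : Type u) [CommRing A] [IsNoetherianRing A]
    [IsLocalRing A] (hdepth : (2 : ℕ∞) ≤ LocCoh.depth A A) :
    Formal2.PicPullbackInjective
      (Spec.map (CommRingCat.ofHom (algebraMap A (AdicCompletion (IsLocalRing.maximalIdeal A) A))) ∣_
        FEt.puncturedSpec A) := by
  intro L hL ⟨e'⟩
  let X := Spec (CommRingCat.of A)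
  let U : X.Opens := FEt.puncturedSpec A
  let g : Spec (CommRingCat.of (AdicCompletion (IsLocalRing.maximalIdeal A) A)) ⟶ X :=
    Spec.map (CommRingCat.ofHom (algebraMap A (AdicCompletion (IsLocalRing.maximalIdeal A) A)))
  haveI : Module.FaithfullyFlat A (AdicCompletion (IsLocalRing.maximalIdeal A) A) :=
    Module.FaithfullyFlat.of_flat_of_isLocalHom
  haveI : Flat g := by
    rw [AlgebraicGeometry.Flat.SpecMap_iff]
    exact RingHom.flat_algebraMap_iff.2 inferInstance
  haveI : Surjective g := ⟨fun p => by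
    obtain ⟨q, hq⟩ := PrimeSpectrum.comap_surjective_of_faithfullyFlat (A := A)
      (B := AdicCompletion (IsLocalRing.maximalIdeal A) A) p
    exact ⟨q, hq⟩⟩
  haveI : QuasiCompact g := inferInstance
  have h : IsPullback (g ∣_ U) (g ⁻¹ᵁ U).ι U.ι g := isPullback_morphismRestrict g U
  haveI : QuasiCompact U.ι := inferInstance
  haveI : QuasiSeparated U.ι := inferInstance
  have hf : ∀ V : X.Opens, Function.Bijective (U.ι.app V) := by
    intro V
    rw [Scheme.Opens.ι_app]
    refine bijective_map_congr (inf_le_left : V ⊓ U ≤ V) _ ?_ rfl (bijective_res_punctured A hdepth V)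
    ext z
    constructor
    · rintro ⟨h1, h2⟩
      exact ⟨⟨z, h2⟩, h1, rfl⟩
    · rintro ⟨w, hw, rfl⟩
      exact ⟨hw, w.2⟩
  have hf' : ∀ W' : (Spec (CommRingCat.of (AdicCompletion (IsLocalRing.maximalIdeal A) A))).Opens,
      Function.Bijective ((g ⁻¹ᵁ U).ι.app W') :=
    FlatBCUnit.bijective_app_baseChange U.ι g (g ∣_ U) (g ⁻¹ᵁ U).ι h hf
  have hloc : ∀ y' : ↥(Spec (CommRingCat.of (AdicCompletion (IsLocalRing.maximalIdeal A) A))),
      ∃ (W' : (Spec (CommRingCat.of (AdicCompletion (IsLocalRing.maximalIdeal A) A))).Opens)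
      (l : Γ((Scheme.Modules.pullback (g ∣_ U)).obj L, (g ⁻¹ᵁ U).ι ⁻¹ᵁ W')), y' ∈ W' ∧
      IsGen ((Scheme.Modules.pullback (g ∣_ U)).obj L) ((g ⁻¹ᵁ U).ι ⁻¹ᵁ W') l := by
    intro y'
    refine ⟨⊤, e'.inv.app ⊤ (oneSec _ ⊤), trivial, ?_⟩
    exact isGen_of_iso e'.symm (isGen_oneSec ⊤)
  obtain ⟨D, x, hyD, hx, -⟩ := InvDescLoc.exists_common_gen U.ι g (g ∣_ U) (g ⁻¹ᵁ U).ι h hf hf' L hL hloc
    (IsLocalRing.closedPoint A)
  have hD : D = ⊤ := (IsLocalRing.closedPoint_mem_iff (R := A) D).mp hyD
  obtain ⟨ψ, -⟩ := exists_iso_of_cocycle_gen (M := L) (N := Coh.structureModule (U : Scheme.{u}))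
    (fun _ : Unit => U.ι ⁻¹ᵁ D) (fun _ => x) (fun _ => oneSec _ (U.ι ⁻¹ᵁ D))
    (fun _ => hx) (fun _ => isGen_oneSec (U.ι ⁻¹ᵁ D))
    (fun z => ⟨(), by rw [hD]; trivial⟩)
    (fun _ _ => ⟨1, by rw [one_smul], by rw [one_smul]⟩)
  exact ⟨ψ⟩

end Groth.Agent.S0813
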