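import Groth.Statements.S0819
import Groth.Agent.Lib.Helper6.DevRed

set_option autoImplicit false
universe u
open Coherent

namespace Groth.Agent.S0819

open CategoryTheory AlgebraicGeometry in
/-- Let X be a Noetherian scheme, Z₀ ⊆ X an irreducible closed subset with generic point ξ, and P an
isomorphism-invariant property of O_X-modules such that: (1) in every short exact sequence of
coherent modules supported in Z₀, P for two of the terms implies P for the third; (2) P holds for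
i_* I whenever i : Z → X is an integral closed subscheme with i(Z) a proper subset of Z₀ and I ⊆ O_Z
is a quasi-coherent ideal sheaf; (3) there is a coherent G with support exactly Z₀, stalk at ξ
isomorphic to the residue field over the local ring, and P(G). Then P holds for every coherent
module whose support is contained in Z₀. -/
theorem result (X : Scheme.{u}) [IsNoetherian X]
    (Z₀ : Set X) (hZ₀ : IsClosed Z₀) (hirr : IsIrreducible Z₀) (ξ : X) (hξ : ξ ∈ Z₀ ∧ closure {ξ} = Z₀)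
    (P : X.Modules → Prop) (hP : ∀ M N : X.Modules, Nonempty (M ≅ N) → P M → P N)
    (h₁ : ∀ S : ShortComplex X.Modules, S.ShortExact → Coh.IsCoh S.X₁ → Coh.IsCoh S.X₂ → Coh.IsCoh S.X₃ →
      CohB1.support S.X₂ ⊆ Z₀ →
      (P S.X₁ → P S.X₂ → P S.X₃) ∧ (P S.X₁ → P S.X₃ → P S.X₂) ∧ (P S.X₂ → P S.X₃ → P S.X₁))
    (h₂ : ∀ (Z : Scheme.{u}) (i : Z ⟶ X), IsClosedImmersion i → IsIntegral Z →
      Set.range ⇑i ⊆ Z₀ → Set.range ⇑i ≠ Z₀ →
      ∀ (I : Z.Modules) (ι : I ⟶ Coh.structureModule Z), Mono ι → Coh.IsQCoh I →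
        P ((Coh.push i).obj I))
    (h₃ : ∃ G : X.Modules, Coh.IsCoh G ∧ CohB1.support G = Z₀ ∧
      Nonempty (↑(G.presheaf.stalk ξ) ≃ₗ[X.presheaf.stalk ξ] IsLocalRing.ResidueField (X.presheaf.stalk ξ)) ∧ P G)
    (M : X.Modules) (hM : Coh.IsCoh M) (hsupp : CohB1.support M ⊆ Z₀) : P M := by
  classical
  open Groth.Agent.Lib.Helper6.DevCore Groth.Agent.Lib.Helper6.DevStep Groth.Agent.Lib.Helper6.DevRed
    Groth.Agent.Lib.Helper6.DevSub Groth.Agent.Lib.Helper17.Serre in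
  obtain ⟨G₀, hG₀, hG₀s, ⟨e₀⟩, hPG₀⟩ := h₃
  let K' : ObjectProperty X.Modules := fun N => CohB1.support N ⊆ Z₀ ∧ P N
  haveI : K'.IsClosedUnderIsomorphisms :=
    ⟨fun {A B} e hA => ⟨(support_subset_of_mono e.inv).trans hA.1, hP A B ⟨e⟩ hA.2⟩⟩
  have hex : ∀ S : ShortComplex X.Modules, S.ShortExact → Coh.IsCoh S.X₁ → Coh.IsCoh S.X₂ → Coh.IsCoh S.X₃ →
      (K' S.X₁ → K' S.X₂ → K' S.X₃) ∧ (K' S.X₁ → K' S.X₃ → K' S.X₂) ∧ (K' S.X₂ → K' S.X₃ → K' S.X₁) := by
    intro S hS h1 h2 h3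
    have hs := Groth.Agent.S0796.support_eq_union S hS
    refine ⟨fun k1 k2 => ⟨?_, (h₁ S hS h1 h2 h3 k2.1).1 k1.2 k2.2⟩, fun k1 k3 => ?_,
      fun k2 k3 => ⟨?_, (h₁ S hS h1 h2 h3 k2.1).2.2 k2.2 k3.2⟩⟩
    · exact (hs ▸ Set.subset_union_right).trans k2.1
    · have h2s : CohB1.support S.X₂ ⊆ Z₀ := by rw [hs]; exact Set.union_subset k1.1 k3.1
      exact ⟨h2s, (h₁ S hS h1 h2 h3 h2s).2.1 k1.2 k3.2⟩
    · exact (hs ▸ Set.subset_union_left).trans k2.1
  have h0 : ∀ N : X.Modules, Limits.IsZero N → K' N := by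
    intro N hz
    have hNs : CohB1.support N ⊆ Z₀ := by
      intro x hx
      exfalso
      apply hx
      refine ⟨fun a b => ?_⟩
      have key : ∀ c : N.presheaf.stalk x, c = 0 := fun c => by
        rw [← stalkHom_id N x c, hz.eq_of_src (𝟙 N) 0, stalkHom_zero]
      rw [key a, key b]
    let S : ShortComplex X.Modules := ShortComplex.mk (0 : N ⟶ G₀) (𝟙 G₀) (by simp)
    have hmono : Mono (0 : N ⟶ G₀) := ⟨fun g h _ => hz.eq_of_tgt g h⟩
    have hS : S.ShortExact :=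
      ShortComplex.ShortExact.mk' ((S.exact_iff_mono rfl).2 (inferInstanceAs (Mono (𝟙 G₀)))) hmono
        (inferInstanceAs (Epi (𝟙 G₀)))
    exact ⟨hNs, (h₁ S hS (isCoh_of_isZero hz) hG₀ hG₀ hG₀s.le).2.2 hPG₀ hPG₀⟩
  refine (devissage_core K' (fun S hS h1 h2 h3 => (hex S hS h1 h2 h3).2.1) h0 Z₀ ?_ hZ₀ M hM hsupp).2
  intro Z hZ hirr' hZZ₀ y hy IH Q hQ hQZ hyQ
  by_cases hZeq : Z = Z₀
  · have hyξ : ξ = y := IsGenericPoint.eq (hZeq ▸ hξ.2 : IsGenericPoint ξ Z) hy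
    subst hyξ
    obtain ⟨g, hg0, hgm, hgen'⟩ := exists_gen_of_equiv_residueField _ _ e₀
    exact step_simple K' hex Z ξ hy IH G₀ hG₀ ⟨hG₀s.le, hPG₀⟩ (hZeq ▸ hG₀s.le) g hg0 hgm hgen' Q hQ hQZ hyQ
  · let Zc : TopologicalSpace.Closeds X := ⟨Z, hZ⟩
    have hint : IsIntegral (Scheme.IdealSheafData.vanishingIdeal Zc).subscheme :=
      isIntegral_subscheme_vanishingIdeal Zc hirr'
    have hrange : Set.range (Scheme.IdealSheafData.vanishingIdeal Zc).subschemeι = Z :=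
      range_subschemeι_vanishingIdeal Zc
    have hPT : P (ClSub.quotMod (Scheme.IdealSheafData.vanishingIdeal Zc)) :=
      h₂ _ (Scheme.IdealSheafData.vanishingIdeal Zc).subschemeι inferInstance hint
        (hrange ▸ hZZ₀) (hrange ▸ hZeq) (Coh.structureModule _) (𝟙 _) inferInstance inferInstance
    have hTs : CohB1.support (ClSub.quotMod (Scheme.IdealSheafData.vanishingIdeal Zc)) = Z :=
      support_quotMod_vanishingIdeal Zc
    obtain ⟨g, hg0, hgm, hgen'⟩ := exists_gen_quotMod Zc y hy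
    exact step_simple K' hex Z y hy IH _ (isCoh_quotMod _) ⟨hTs.le.trans hZZ₀, hPT⟩ hTs.le g hg0 hgm hgen'
      Q hQ hQZ hyQ

end Groth.Agent.S0819
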