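import Groth.Statements.S0820
import Groth.Agent.Lib.Helper6.DevFin

set_option autoImplicit false
universe u
open Coherent

namespace Groth.Agent.S0820

open CategoryTheory AlgebraicGeometry in
/-- Let f : Y → X be finite and surjective with X locally Noetherian, and let i : Z → X be a closed
immersion from an integral scheme, ξ the image of the generic point of Z. Then some coherent
O_Y-module F has f_* F supported exactly on i(Z), with the stalk of f_* F at ξ killed by every
element of 𝔪_{X,ξ}, the maximal ideal of O_{X,ξ}. -/
theorem result {Y X : Scheme.{u}} (f : Y ⟶ X) [IsFinite f]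
    [Surjective f] [IsLocallyNoetherian X] (Z : Scheme.{u}) (i : Z ⟶ X) [IsClosedImmersion i] [IsIntegral Z] :
    ∃ F : Y.Modules, Coh.IsCoh F ∧ CohB1.support ((Coh.push f).obj F) = Set.range ⇑i ∧
      ∀ a ∈ IsLocalRing.maximalIdeal (X.presheaf.stalk (i (genericPoint Z))),
        ∀ m : ↑(((Coh.push f).obj F).presheaf.stalk (i (genericPoint Z))), a • m = 0 := by
  open Groth.Agent.Lib.Helper6.DevRed Groth.Agent.Lib.Helper6.DevFin in
  obtain ⟨y, hy⟩ := f.surjective (i (genericPoint Z))
  let W : TopologicalSpace.Closeds Y := ⟨closure {y}, isClosed_closure⟩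
  have hfc : IsClosedMap f := f.isClosedMap
  refine ⟨ClSub.quotMod (Scheme.IdealSheafData.vanishingIdeal W), isCoh_quotMod _, ?_, ?_⟩
  · rw [support_push_quotMod f hfc, Scheme.IdealSheafData.coe_support_vanishingIdeal]
    change f '' closure {y} = _
    rw [← hfc.closure_image_eq_of_continuous f.continuous, Set.image_singleton, hy]
    have h := (genericPoint_spec Z).image i.continuous
    rw [Set.image_univ, i.isClosedEmbedding.isClosed_range.closure_eq] at h
    exact h
  · intro a ha m
    exact maximalIdeal_smul_push f y W rfl _ hy a ha m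

end Groth.Agent.S0820
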