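import Groth.Statements.S0825
import Groth.Agent.Lib.helper11.LCKit

set_option autoImplicit false
universe u
open scoped BigOperators
open LocCoh

namespace Groth.Agent.S0825

section Helpers

open CategoryTheory Abelian Groth.Agent.Lib.helper11.LCKit

variable {A : Type u} [CommRing A] (I : Ideal A)

/-- the inclusion `I^l → I^k` for `k ≤ l`. -/
noncomputable def incl {k l : ℕ} (h : k ≤ l) :
    ModuleCat.of A ↥(I ^ l) ⟶ ModuleCat.of A ↥(I ^ k) :=
  ModuleCat.ofHom (Submodule.inclusion (Ideal.pow_le_pow_right h))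

/-- the short complex `0 → I^k → A → A/I^k → 0`. -/
noncomputable abbrev T (k : ℕ) : ShortComplex (ModuleCat.{u} A) :=
  ShortComplex.mk (X₁ := ModuleCat.of A ↥(I ^ k)) (X₂ := ModuleCat.of A A) (X₃ := Q I k)
    (ModuleCat.ofHom (Submodule.subtype (I ^ k)))
    (ModuleCat.ofHom (Submodule.mkQ (I ^ k))) (by
      ext x
      exact (Submodule.Quotient.mk_eq_zero _).2 x.2)

theorem T_shortExact (k : ℕ) : (T I k).ShortExact := by
  have hmono : Mono (T I k).f := by
    rw [ModuleCat.mono_iff_injective]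
    exact Submodule.injective_subtype _
  have hepi : Epi (T I k).g := by
    rw [ModuleCat.epi_iff_surjective]
    exact Submodule.mkQ_surjective _
  refine ShortComplex.ShortExact.mk' ?_ hmono hepi
  rw [ShortComplex.moduleCat_exact_iff]
  intro x₂ hx₂
  have h1 : x₂ ∈ I ^ k := (Submodule.Quotient.mk_eq_zero _).1 hx₂
  exact ⟨⟨x₂, h1⟩, rfl⟩

/-- the morphism of short complexes `T l ⟶ T k` for `k ≤ l`. -/
noncomputable def Tmap {k l : ℕ} (h : k ≤ l) : T I l ⟶ T I k where
  τ₁ := incl I h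
  τ₂ := 𝟙 _
  τ₃ := tr I h
  comm₁₂ := by
    ext x
    rfl
  comm₂₃ := by
    ext x
    rfl

instance : Projective (ModuleCat.of A A) :=
  (IsProjective.iff_projective (R := A) A).1 inferInstance

variable {r : ℕ} (f : Fin r → A)

/-- the presentation map `A^r → I^1`. -/
noncomputable def pres (hI : I = Ideal.span (Set.range f)) : (Fin r → A) →ₗ[A] ↥(I ^ 1) :=
  (Fintype.linearCombination A f).codRestrict (I ^ 1) (by
    intro v
    rw [pow_one, hI, Fintype.linearCombination_apply]
    exact Submodule.sum_mem _ (fun j _ => Submodule.smul_mem _ _ (Submodule.subset_span ⟨j, rfl⟩)))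

theorem pres_val (hI : I = Ideal.span (Set.range f)) (v : Fin r → A) :
    ((pres I f hI v : ↥(I ^ 1)) : A) = ∑ j, f j * v j := by
  change Fintype.linearCombination A f v = _
  rw [Fintype.linearCombination_apply]
  exact Finset.sum_congr rfl (fun j _ => by rw [smul_eq_mul, mul_comm])

theorem pres_surjective (hI : I = Ideal.span (Set.range f)) :
    Function.Surjective (pres I f hI) := by
  intro x
  have hx : (x : A) ∈ Ideal.span (Set.range f) := hI.le ((pow_one I).le x.2)
  obtain ⟨c, hc⟩ := (Submodule.mem_span_range_iff_exists_fun A).1 hx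
  refine ⟨c, Subtype.ext ?_⟩
  rw [pres_val, ← hc]
  exact Finset.sum_congr rfl (fun j _ => by rw [smul_eq_mul, mul_comm])

/-- the short complex `0 → K → A^r → I → 0`. -/
noncomputable abbrev S (hI : I = Ideal.span (Set.range f)) : ShortComplex (ModuleCat.{u} A) :=
  ShortComplex.mk (X₁ := ModuleCat.of A ↥(LinearMap.ker (pres I f hI)))
    (X₂ := ModuleCat.of A (Fin r → A)) (X₃ := ModuleCat.of A ↥(I ^ 1))
    (ModuleCat.ofHom (Submodule.subtype _))
    (ModuleCat.ofHom (pres I f hI)) (by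
      apply ModuleCat.hom_ext
      apply LinearMap.ext
      intro x
      exact LinearMap.mem_ker.1 x.2)

theorem S_shortExact (hI : I = Ideal.span (Set.range f)) : (S I f hI).ShortExact := by
  have hmono : Mono (S I f hI).f := by
    rw [ModuleCat.mono_iff_injective]
    exact Submodule.injective_subtype _
  have hepi : Epi (S I f hI).g := by
    rw [ModuleCat.epi_iff_surjective]
    exact pres_surjective I f hI
  refine ShortComplex.ShortExact.mk' ?_ hmono hepi
  rw [ShortComplex.moduleCat_exact_iff]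
  intro x₂ hx₂
  exact ⟨⟨x₂, LinearMap.mem_ker.2 hx₂⟩, rfl⟩

theorem main (hI : I = Ideal.span (Set.range f))
    (h2 : ∀ K : ModuleCat.{u} A, Subsingleton ((localCohomology I 2).obj K)) :
    ∃ (c : ℕ) (lam : ↥(I ^ (c + 1)) →ₗ[A] (Fin r → A)),
      ∀ x : ↥(I ^ (c + 1)), (x : A) = ∑ j, f j * lam x j := by
  have hS := S_shortExact I f hI
  set K := (S I f hI).X₁ with hK
  let ξ : Ext (ModuleCat.of A ↥(I ^ 1)) K 1 := hS.extClass
  let z₁ : Ext (Q I 1) K 2 := (T_shortExact I 1).extClass.comp ξ (by norm_num)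
  have hz : ιE I 2 K 1 z₁ = 0 := (h2 K).elim _ _
  obtain ⟨l, hl, hzl⟩ := (ιE_eq_zero_iff I 2 K z₁).1 hz
  -- naturality
  have hnat := ShortComplex.ShortExact.extClass_naturality (T_shortExact I l) (T_shortExact I 1)
    (Tmap I hl)
  let w : Ext (ModuleCat.of A ↥(I ^ l)) K 1 := (Ext.mk₀ (incl I hl)).comp ξ (zero_add 1)
  have hw : (T_shortExact I l).extClass.comp w (by norm_num : 1 + 1 = 2) = 0 := by
    have e1 : (T_shortExact I l).extClass.comp w (by norm_num : 1 + 1 = 2) =
        ((T_shortExact I l).extClass.comp (Ext.mk₀ (Tmap I hl).τ₁) (add_zero 1)).comp ξ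
          (by norm_num : 1 + 1 = 2) :=
      (Ext.comp_assoc (a₁₂ := 1) _ _ _ (by norm_num) (by norm_num) (by norm_num)).symm
    rw [e1, hnat, Ext.comp_assoc (a₂₃ := 2) _ _ _ (by norm_num) (by norm_num) (by norm_num)]
    exact hzl
  obtain ⟨x₂, hx₂⟩ := Ext.contravariant_sequence_exact₁ (T_shortExact I l) K w
    (by norm_num : 1 + 1 = 2) hw
  have hx₂0 : x₂ = 0 := Ext.eq_zero_of_projective (P := ModuleCat.of A A) x₂
  have hw0 : w = 0 := hx₂.symm.trans (by rw [hx₂0, Ext.comp_zero])
  obtain ⟨y₂, hy₂⟩ := Ext.covariant_sequence_exact₃ (ModuleCat.of A ↥(I ^ l)) hS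
    (Ext.mk₀ (incl I hl)) (zero_add 1) hw0
  obtain ⟨lam, rfl⟩ := (Ext.mk₀_bijective _ _).2 y₂
  rw [Ext.mk₀_comp_mk₀] at hy₂
  have hlam : lam ≫ (S I f hI).g = incl I hl := (Ext.mk₀_bijective _ _).1 hy₂
  obtain ⟨c, rfl⟩ := Nat.exists_eq_add_of_le' hl
  refine ⟨c, lam.hom, fun x => ?_⟩
  have h1 : (pres I f hI) (lam.hom x) = (incl I hl).hom x := by
    rw [← hlam]
    rfl
  have h2' := congrArg Subtype.val h1
  rw [pres_val] at h2'
  exact h2'.symm

end Helpers

/-- Let A be a Noetherian ring and I the ideal generated by f_1, …, f_r, with cohomological dimension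
exactly 1. Then there are c ≥ 1 and A-linear maps φ_j : I^c → A such that x = Σ_j f_j φ_j(x) for
every x ∈ I^c. -/
theorem result (A : Type u) [CommRing A] [IsNoetherianRing A] (r : ℕ) (f : Fin r → A)
    (h₁ : LocCoh.CdLE A (Ideal.span (Set.range f)) 1) (h₀ : ¬ LocCoh.CdLE A (Ideal.span (Set.range f)) 0) :
    ∃ (c : ℕ) (φ : Fin r → (↥(Ideal.span (Set.range f) ^ (c + 1)) →ₗ[A] A)),
      ∀ x : ↥(Ideal.span (Set.range f) ^ (c + 1)), (x : A) = ∑ j, f j * φ j x := by
  have h2 : ∀ K : ModuleCat.{u} A,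
      Subsingleton ((localCohomology (Ideal.span (Set.range f)) 2).obj K) := by
    intro K
    have := h₁ K 2 (by norm_num)
    exact this
  obtain ⟨c, lam, hlam⟩ := main (Ideal.span (Set.range f)) f rfl h2
  exact ⟨c, fun j => (LinearMap.proj j) ∘ₗ lam, fun x => hlam x⟩

end Groth.Agent.S0825
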