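import Groth.Statements.S0826
import Groth.Agent.Lib.Helper23.Tower.QCohTower

set_option autoImplicit false
universe u
open Formal2

namespace Groth.Agent.S0826

open CategoryTheory CategoryTheory.Limits AlgebraicGeometry in
/-- Part (2), for the ideal sheaf generated by an ideal I of a base ring A. Let X be a scheme over Spec
A and (G_n) an inverse system of quasi-coherent O_X-modules with G_n killed by I^(n+1) and G_n =
G_{n+1}/I^(n+1)G_{n+1} (indices shifted by one). Then the limit O_X-module lim G_n has vanishing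
cohomology in positive degrees over every affine open of X. -/
theorem result (A : Type u) [CommRing A] (I : Ideal A) (X : Scheme.{u})
    [X.Over (Spec (CommRingCat.of A))] (G : ℕᵒᵖ ⥤ X.Modules) (hG : Formal2.IsQCohFormal I G)
    (U : X.Opens) (hU : IsAffineOpen U) (p : ℕ) (hp : 0 < p) :
    Subsingleton (Coh.HHon X (limit G) U p) := by
  obtain ⟨j, rfl⟩ : ∃ j, p = j + 1 := ⟨p - 1, by omega⟩
  haveI : IsAffine (U : Scheme.{u}) := hU
  have he0 : ∀ n, Epi (G.map (homOfLE (Nat.le_succ n)).op) := by
    intro n
    obtain ⟨h, hiso⟩ := hG.2.2 n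
    have e : cokernel.π _ ≫ cokernel.desc _ _ h = G.map (homOfLE (Nat.le_succ n)).op :=
      cokernel.π_desc _ _ h
    rw [← e]
    haveI : Epi (cokernel.desc _ _ h) := @IsIso.epi_of_iso _ _ _ _ _ hiso
    exact epi_comp _ _
  let G' : ℕᵒᵖ ⥤ (U : Scheme.{u}).Modules := G ⋙ Scheme.Modules.restrictFunctor U.ι
  have hq : ∀ n, (G'.obj (Opposite.op n)).IsQuasicoherent := fun n => by
    haveI : (G.obj (Opposite.op n)).IsQuasicoherent := hG.1 n
    exact inferInstanceAs
      ((Scheme.Modules.restrictFunctor U.ι).obj (G.obj (Opposite.op n))).IsQuasicoherent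
  have he : ∀ n, Epi (G'.map (homOfLE (Nat.le_succ n)).op) := fun n => by
    haveI := he0 n
    exact inferInstanceAs (Epi ((Scheme.Modules.restrictFunctor U.ι).map
      (G.map (homOfLE (Nat.le_succ n)).op)))
  have hc : IsLimit ((SheafOfModules.toSheaf.{u} (U : Scheme.{u}).ringCatSheaf).mapCone
      ((Scheme.Modules.restrictFunctor U.ι).mapCone (limit.cone G))) :=
    isLimitOfPreserves (SheafOfModules.toSheaf.{u} (U : Scheme.{u}).ringCatSheaf)
      (isLimitOfPreserves (Scheme.Modules.restrictFunctor U.ι) (limit.isLimit G))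
  exact Groth.Agent.Lib.Helper23.Tower.subsingleton_H_lim_of_isAffine G' hq he
    (c := (SheafOfModules.toSheaf.{u} (U : Scheme.{u}).ringCatSheaf).mapCone
      ((Scheme.Modules.restrictFunctor U.ι).mapCone (limit.cone G))) hc j

end Groth.Agent.S0826
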