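import Groth.Statements.S0828
import Groth.Agent.Lib.Helper7.StalkAnn
import Groth.Agent.Lib.Helper7.RegularFree
import Groth.Agent.S0558

set_option autoImplicit false
universe u
open Coherent

namespace Groth.Agent.S0828

open CategoryTheory AlgebraicGeometry in
/-- Let X be a regular scheme (locally Noetherian with regular local rings) and F a coherent O_X-module.
Then F has support all of X and Cohen–Macaulay stalks if and only if F is finite locally free of
positive rank near every point. -/
theorem result (X : Scheme.{u}) [IsLocallyNoetherian X]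
    (hreg : ∀ x : X, IsRegularLocalRing (X.presheaf.stalk x)) (F : X.Modules) (hF : Coh.IsCoh F) :
    (CohB1.support F = Set.univ ∧
        ∀ x : X, LocCoh.IsCohenMacaulayModule (X.presheaf.stalk x) ↑(F.presheaf.stalk x)) ↔
      ∀ x : X, ∃ (U : X.Opens) (n : ℕ), x ∈ U ∧ 0 < n ∧
        Nonempty (F.restrict U.ι ≅ FlatMod.freeMod (↑U) n) := by
  have hdom : ∀ x : X, IsDomain (X.presheaf.stalk x) := fun x =>
    haveI := hreg x
    Groth.Agent.S0558.result (X.presheaf.stalk x)
  constructor
  · rintro ⟨hsupp, hCM⟩ x
    haveI := hreg x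
    haveI : ∀ y : X, _root_.IsReduced (X.presheaf.stalk y) := fun y =>
      haveI := hdom y
      inferInstance
    haveI : IsReduced X := isReduced_of_isReduced_stalk X
    haveI : Module.Finite (X.presheaf.stalk x) (F.presheaf.stalk x) :=
      Groth.Agent.Lib.Helper7.StalkFree.finite_stalk_of_isCoh X F hF x
    have hann := Groth.Agent.Lib.Helper7.StalkFree.annihilator_stalk_eq_bot X F hF hsupp x
    haveI : Module.Free (X.presheaf.stalk x) (F.presheaf.stalk x) :=
      Groth.Agent.Lib.Helper7.RegularFree.free_of_isCM (F.presheaf.stalk x) hann (hCM x)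
    obtain ⟨U, hxU, e⟩ :=
      Groth.Agent.Lib.Helper7.StalkFree.exists_iso_freeMod_of_free_stalk X F hF x
    refine ⟨U, _, hxU, ?_, e⟩
    rw [Module.finrank_pos_iff_of_free]
    have hx : x ∈ CohB1.support F := by rw [hsupp]; trivial
    exact not_subsingleton_iff_nontrivial.1 hx
  · intro h
    have key : ∀ x : X, Module.Free (X.presheaf.stalk x) (F.presheaf.stalk x) ∧
        Module.Finite (X.presheaf.stalk x) (F.presheaf.stalk x) ∧
        Nontrivial (F.presheaf.stalk x) := by
      intro x
      obtain ⟨U, n, hxU, hn, ⟨e⟩⟩ := h x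
      obtain ⟨h1, h2, h3⟩ := Groth.Agent.Lib.Helper7.StalkFree.free_stalk_of_iso F x U hxU n e
      haveI := h1
      haveI := h2
      refine ⟨h1, h2, ?_⟩
      rw [← Module.finrank_pos_iff_of_free (R := X.presheaf.stalk x), h3]
      exact hn
    constructor
    · rw [Set.eq_univ_iff_forall]
      intro x
      obtain ⟨-, -, h3⟩ := key x
      exact not_subsingleton_iff_nontrivial.2 h3
    · intro x
      obtain ⟨h1, h2, h3⟩ := key x
      haveI := hreg x
      haveI := h1
      haveI := h2
      haveI := h3
      exact Groth.Agent.Lib.Helper7.RegularFree.isCM_of_free (F.presheaf.stalk x)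

end Groth.Agent.S0828
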