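import Groth.Statements.S0832
import Groth.Agent.Lib.Helper23.Formal.Quot

set_option autoImplicit false
universe u
open Formal2

namespace Groth.Agent.S0832

open CategoryTheory AlgebraicGeometry Opposite in
/-- First assertion, for the ideal sheaf I·O_X of an ideal I of a base ring A. Let X be a Noetherian
scheme over Spec A and (F_n) a coherent formal module for I such that some fixed power I^c
annihilates every F_n. Then (F_n) is isomorphic to the system (M/I^nM) of a coherent O_X-module M. -/
theorem result (A : Type u) [CommRing A] (I : Ideal A) (X : Scheme.{u})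
    [X.Over (Spec (CommRingCat.of A))] [IsNoetherian X] (F : ℕᵒᵖ ⥤ X.Modules) (hF : Formal.IsCohFormal I F)
    (hc : ∃ c : ℕ, ∀ n : ℕ, Formal.KilledBy (I ^ c) (F.obj (op n))) :
    ∃ M : X.Modules, Coh.IsCoh M ∧ Nonempty (Formal.completion I M ≅ F) := by
  classical
  obtain ⟨c, hc⟩ := hc
  obtain ⟨hcoh, hkill, hiso⟩ := hF
  -- transition maps
  have hq : ∀ m, Groth.Agent.Lib.Helper23.FQuot.IsQuot (I ^ (m + 1))
      (F.map (homOfLE (Nat.le_succ m)).op) := fun m =>
    (Groth.Agent.Lib.Helper23.FQuot.isQuot_iff _ _).2 (hiso m)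
  have htr : ∀ n m (h : n ≤ m), Groth.Agent.Lib.Helper23.FQuot.IsQuot (I ^ (n + 1))
      (F.map (homOfLE h).op) := by
    intro n m h
    induction m, h using Nat.le_induction with
    | base =>
      have : F.map (homOfLE (le_refl n)).op = 𝟙 _ := by
        rw [← F.map_id]
        congr 1
      rw [this]
      exact Groth.Agent.Lib.Helper23.FQuot.isQuot_id (hkill n)
    | succ m h ih =>
      have : F.map (homOfLE (Nat.le_succ_of_le h)).op =
          F.map (homOfLE (Nat.le_succ m)).op ≫ F.map (homOfLE h).op := by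
        rw [← F.map_comp]
        congr 1
      rw [this]
      exact Groth.Agent.Lib.Helper23.FQuot.IsQuot.comp
        (Ideal.pow_le_pow_right (Nat.succ_le_succ h)) (hq m) ih
  have hisoT : ∀ m (h : c ≤ m), IsIso (F.map (homOfLE h).op) := fun m h =>
    (htr c m h).isIso_of_killed (Groth.Agent.Lib.Helper23.FQuot.killedBy_mono
      (Ideal.pow_le_pow_right (Nat.le_succ c)) (hc m))
  -- the cone maps from `F_c`
  let θ : ∀ n, F.obj (op c) ⟶ F.obj (op n) := fun n =>
    @inv _ _ _ _ (F.map (homOfLE (le_max_right n c)).op) (hisoT _ _) ≫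
      F.map (homOfLE (le_max_left n c)).op
  have hθq : ∀ n, Groth.Agent.Lib.Helper23.FQuot.IsQuot (I ^ (n + 1)) (θ n) := by
    intro n
    haveI := hisoT _ (le_max_right n c)
    exact Groth.Agent.Lib.Helper23.FQuot.IsQuot.iso_comp (htr n _ (le_max_left n c))
  have hθt : ∀ n, θ (n + 1) ≫ F.map (homOfLE (Nat.le_succ n)).op = θ n := by
    intro n
    haveI := hisoT _ (le_max_right n c)
    haveI := hisoT _ (le_max_right (n + 1) c)
    have hle : max n c ≤ max (n + 1) c := max_le_max (Nat.le_succ n) le_rfl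
    have h1 : F.map (homOfLE (le_max_right (n + 1) c)).op =
        F.map (homOfLE hle).op ≫ F.map (homOfLE (le_max_right n c)).op := by
      rw [← F.map_comp]
      congr 1
    have h2 : F.map (homOfLE (le_max_left (n + 1) c)).op ≫ F.map (homOfLE (Nat.le_succ n)).op =
        F.map (homOfLE hle).op ≫ F.map (homOfLE (le_max_left n c)).op := by
      rw [← F.map_comp, ← F.map_comp]
      congr 1
    change (inv (F.map (homOfLE (le_max_right (n + 1) c)).op) ≫
      F.map (homOfLE (le_max_left (n + 1) c)).op) ≫ F.map (homOfLE (Nat.le_succ n)).op =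
      inv (F.map (homOfLE (le_max_right n c)).op) ≫ F.map (homOfLE (le_max_left n c)).op
    rw [Category.assoc, IsIso.inv_comp_eq, h2, h1, Category.assoc, IsIso.hom_inv_id_assoc]
  refine ⟨F.obj (op c), hcoh c, ?_⟩
  have hzero : ∀ n, Formal.smulFamily (I ^ (n + 1)) (F.obj (op c)) ≫ θ n = 0 := fun n =>
    ((Groth.Agent.Lib.Helper23.FQuot.isQuot_iff _ _).1 (hθq n)).1
  have hdiso : ∀ n, IsIso (Limits.cokernel.desc _ (θ n) (hzero n)) := fun n =>
    ((Groth.Agent.Lib.Helper23.FQuot.isQuot_iff _ _).1 (hθq n)).2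
  have hnat : ∀ n, Formal.modPowTrans I (n + 1) (F.obj (op c)) ≫
      Limits.cokernel.desc (Formal.smulFamily (I ^ (n + 1)) (F.obj (op c))) (θ n) (hzero n) =
      Limits.cokernel.desc (Formal.smulFamily (I ^ (n + 1 + 1)) (F.obj (op c))) (θ (n + 1))
        (hzero (n + 1)) ≫ F.map (homOfLE (Nat.le_succ n)).op := by
    intro n
    apply Groth.Agent.Lib.Helper23.FQuot.modPow_hom_ext
    refine Eq.trans ?_ (Groth.Agent.Lib.Helper23.FQuot.modPowπ_desc_comp I (n + 1 + 1) (θ (n + 1))
      (hzero (n + 1)) (F.map (homOfLE (Nat.le_succ n)).op)).symm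
    rw [← Category.assoc, Formal.modPowπ_trans, Groth.Agent.Lib.Helper23.FQuot.modPowπ_desc, hθt]
  let τ : Formal.completion I (F.obj (op c)) ⟶ F :=
    NatTrans.ofOpSequence (fun n => Limits.cokernel.desc _ (θ n) (hzero n)) (by
      intro n
      have e1 : (Formal.completion I (F.obj (op c))).map (homOfLE (n.le_add_right 1)).op =
          Formal.modPowTrans I (n + 1) (F.obj (op c)) :=
        Functor.ofOpSequence_map_homOfLE_succ _ n
      rw [e1]
      exact hnat n)
  haveI : IsIso τ := by
    haveI : ∀ k : ℕᵒᵖ, IsIso (τ.app k) := fun k => hdiso k.unop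
    exact NatIso.isIso_of_isIso_app τ
  exact ⟨asIso τ⟩

end Groth.Agent.S0832
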