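import Groth.Statements.S0835
import Groth.Agent.Lib.Helper23.Formal.QuotAdj
import Groth.Agent.Lib.Helper17.TensorSupp

set_option autoImplicit false
universe u
open Formal2

namespace Groth.Agent.S0835

open CategoryTheory AlgebraicGeometry in
/-- First assertion, for ideal sheaves generated by an ideal I of a base ring A. Let f : X → Y be a
morphism of Noetherian schemes over Spec A and (G_n) a coherent formal module for I on Y. Then the
componentwise pullback (f^* G_n) is a coherent formal module for I on X. (Exactness properties of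
this functor are not stated.) -/
theorem result (A : Type u) [CommRing A] (I : Ideal A) (X Y : Scheme.{u})
    [X.Over (Spec (CommRingCat.of A))] [Y.Over (Spec (CommRingCat.of A))] [IsNoetherian X] [IsNoetherian Y]
    (f : X ⟶ Y) (hf : f ≫ (Y ↘ Spec (CommRingCat.of A)) = X ↘ Spec (CommRingCat.of A))
    (G : ℕᵒᵖ ⥤ Y.Modules) (hG : Formal.IsCohFormal I G) :
    Formal.IsCohFormal I (G ⋙ Scheme.Modules.pullback f) := by
  obtain ⟨hcoh, hkill, hiso⟩ := hG
  refine ⟨?_, ?_, ?_⟩
  · intro n
    haveI : (G.obj (Opposite.op n)).IsQuasicoherent := (hcoh n).1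
    haveI : SheafOfModules.IsFiniteType.{u} (R := Y.ringCatSheaf) (G.obj (Opposite.op n)) :=
      (hcoh n).2
    exact ⟨(inferInstance : ((Scheme.Modules.pullback f).obj
      (G.obj (Opposite.op n))).IsQuasicoherent),
      Groth.Agent.Lib.Helper17.TensorSupp.isFiniteType_pullback f _⟩
  · intro n
    exact Groth.Agent.Lib.Helper23.FQuot.killedBy_pullback f hf (hkill n)
  · intro n
    have hq := (Groth.Agent.Lib.Helper23.FQuot.isQuot_iff _ _).2 (hiso n)
    exact (Groth.Agent.Lib.Helper23.FQuot.isQuot_iff _ _).1
      (Groth.Agent.Lib.Helper23.FQuot.IsQuot.pullback f hf hq)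

end Groth.Agent.S0835
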