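import Groth.Statements.S0846
import Groth.Agent.Lib.Helper28.TwistDual

set_option autoImplicit false
universe u
open Coherent

open CategoryTheory.Limits Groth.Agent.Lib.Helper28 Groth.Agent.Lib.Helper28.GenLocus Groth.Agent.Lib.Helper28.HomMod

namespace Groth.Agent.S0846

open CategoryTheory CategoryTheory.Limits AlgebraicGeometry in
/-- Let A be a Noetherian graded ring (graded by ℕ as an R-algebra) and X = Proj A. Then every coherent
O_X-module is a quotient of a finite coproduct of twisting modules O_X(d_1), …, O_X(d_r). -/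
theorem result {R A : Type u} [CommRing R] [CommRing A] [Algebra R A]
    (𝒜 : ℕ → Submodule R A) [GradedAlgebra 𝒜] [IsNoetherianRing A] (F : (Proj 𝒜).Modules) (hF : Coh.IsCoh F) :
    ∃ (r : ℕ) (d : Fin r → ℤ) (φ : (∐ fun j : Fin r => Twist.twist 𝒜 (d j)) ⟶ F), Epi φ := by
  classical
  have hfg : (HomogeneousIdeal.irrelevant 𝒜).toIdeal.FG :=
    (inferInstance : IsNoetherian A A).noetherian _
  obtain ⟨N, hN, hcov, hcpt⟩ := TwistDual.exists_cover_of_fg 𝒜 hfg
  haveI := hcpt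
  have hA : CohB1.IsAmple (Twist.twist 𝒜 (N : ℤ)) := TwistGenD.isAmple_twist_of_cover 𝒜 N hN hcov
  have hqs : QuasiSeparatedSpace (Proj 𝒜) := inferInstance
  obtain ⟨n₀, hn₀⟩ := exists_forall_finite_genAtBy hA F hF
  obtain ⟨S, hSfin, hS⟩ := hn₀ n₀ le_rfl
  obtain ⟨k, f, hf⟩ := hSfin.fin_embedding
  have hΛ : PicF.IsInvertible (CohB1.tensorPow (Twist.twist 𝒜 (N : ℤ)) n₀) := isInvertible_tensorPow hA.1 n₀
  obtain ⟨φ, hφ⟩ := exists_epi_dual F hΛ (fun j => f j) (by
    intro x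
    have : Set.range (fun j => f j) = S := hf
    rw [this]
    exact hS x)
  obtain ⟨ψ⟩ := TwistDual.nonempty_dual_tensorPow_iso 𝒜 N hN hcov n₀
  refine ⟨k, fun _ => -(n₀ : ℤ) * N, (Sigma.mapIso (fun _ : Fin k => ψ)).inv ≫ φ, ?_⟩
  infer_instance

end Groth.Agent.S0846
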