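import Groth.Statements.S0853
import Groth.Agent.Lib.Helper17.Rees7
import Mathlib
set_option backward.isDefEq.respectTransparency.types false

set_option autoImplicit false
universe u
open Coherent

namespace Groth.Agent.S0853

open CategoryTheory CategoryTheory.Limits AlgebraicGeometry in
/-- Let A be a Noetherian ring, I an ideal, X proper over Spec A and F a coherent O_X-module, and fix p.
Then there is c ≥ 0 such that for all n, m with n + m ≥ c the image of H^p(X, I^(n+m)F) → H^p(X,
I^nF) is contained in I^(m−e) H^p(X, I^nF), where e = max(0, c − n). (Here I^nF ⊆ F is the kernel of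
F → F/I^nF, and H^p(X, I^nF) is an A-module through the structure morphism.) -/
theorem result (A : Type u) [CommRing A] [IsNoetherianRing A]
    (I : Ideal A) (X : Scheme.{u}) [X.Over (Spec (CommRingCat.of A))] [IsProper (X ↘ Spec (CommRingCat.of A))]
    (F : X.Modules) (hF : Coh.IsCoh F) (p : ℕ) :
    ∃ c : ℕ, ∀ (n m : ℕ), c ≤ n + m →
      Set.range (Sheaf.H.map ((SheafOfModules.toSheaf _).map (Formal2.idealPowIncl I (Nat.le_add_right n m) F)) p) ⊆
        SetLike.coe (I ^ (m - (c - n)) • (⊤ : Submodule A (Coh.HH X (Formal2.idealPowMod I n F) p))) := by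
  open Groth.Agent.Lib.Helper17.Rees5 Groth.Agent.Lib.Helper17.Rees6 Groth.Agent.Lib.Helper17.Rees7
    Groth.Agent.Lib.Helper23.FQuot in
  obtain ⟨d, hd⟩ := rees_stable A I X F p hF (fun _ => ⊤) (fun _ _ _ _ _ => trivial)
  refine ⟨d, fun n m hnm => ?_⟩
  rintro _ ⟨w, rfl⟩
  have main : ∀ T : Submodule A (Coh.HH X (Formal2.idealPowMod I n F) p),
      (∀ a ∈ I ^ (m - (d - n)), ∀ v, a • v ∈ T) →
        Hmap (Formal2.idealPowIncl I (Nat.le_add_right n m) F) p w ∈ T := by
    intro T hT
    obtain ⟨k, hk⟩ : ∃ k, k = max n d := ⟨_, rfl⟩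
    obtain ⟨r, hr⟩ : ∃ r, r = n + m - k := ⟨_, rfl⟩
    have hkn : n ≤ k := by omega
    have hkd : d ≤ k := by omega
    have hrk : r + k = n + m := by omega
    have hrm : r = m - (d - n) := by omega
    have e1 : I ^ (n + m) = I ^ r * I ^ k := by rw [← pow_add, hrk]
    have h1 := hd k hkd r (castH A X F p e1 (Hmap (ePow I (n + m) F).hom p w)) trivial
    have hle : I ^ r * I ^ k ≤ I ^ n := by
      rw [← pow_add, hrk]
      exact Ideal.pow_le_pow_right (Nat.le_add_right n m)
    have h2 := map_mem_of_mem_closure (Hmap (inclJ hle F ≫ (ePow I n F).inv) p) _ T (by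
      rintro _ ⟨a, v, _, rfl⟩
      have e2 : Hmap (inclJ hle F ≫ (ePow I n F).inv) p (CohIII.HmulMap (I ^ r) (I ^ k) F a p v) =
          (a : A) • Hmap (inclJ (Ideal.pow_le_pow_right hkn) F ≫ (ePow I n F).inv) p v := by
        change Hmap _ p (Hmap (CohIII.mulMap _ _ F a) p v) = _
        rw [← Hmap_comp, ← Hmap_smulMod, ← Hmap_comp]
        apply Hmap_congr
        rw [← Category.assoc, mulMap_inclJ (I ^ r) (I ^ k) (I ^ n) F a hle (Ideal.pow_le_pow_right hkn),
          Category.assoc, Category.assoc, smulMod_naturality]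
      rw [e2]
      exact hT _ (hrm ▸ a.2) _) _ h1
    have e3 : Hmap (inclJ hle F ≫ (ePow I n F).inv) p
        (castH A X F p e1 (Hmap (ePow I (n + m) F).hom p w)) =
        Hmap (Formal2.idealPowIncl I (Nat.le_add_right n m) F) p w := by
      rw [Hmap_comp, Hmap_inclJ_castH, ← Hmap_comp, ← Hmap_comp]
      apply Hmap_congr
      rw [← Category.assoc, ← idealPowIncl_ePow, Category.assoc, Iso.hom_inv_id, Category.comp_id]
    rw [e3] at h2
    exact h2
  exact SetLike.mem_coe.2 (main _ (fun a ha v => Submodule.smul_mem_smul ha trivial))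

end Groth.Agent.S0853
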