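import Groth.Statements.S0870
import Groth.Agent.Lib.Helper23.Tower.SiteTower

set_option autoImplicit false
universe u
open CategoryTheory
open CohTop

namespace Groth.Agent.S0870

open TopologicalSpace Opposite CategoryTheory.Limits in
/-- Let (F_n) be an inverse system of abelian sheaves on X and B a basis of opens such that H^p(U, F_n)
= 0 for p > 0 and U in B, and the system of sections F_n(U) has vanishing R^1 lim for U in B. Then
lim F_n (placed in degree zero) is a derived limit of the system (F_n) in the derived category, and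
H^p(U, lim F_n) = 0 for p > 0 and U in B. -/
theorem result {X : TopCat.{u}} [HasDerivedCategory.{u} (CohTop.Ab X)]
    (F : ℕ → CohTop.Ab X) (t : ∀ n, F (n + 1) ⟶ F n)
    [HasProduct fun n => (DerivedCategory.singleFunctor (CohTop.Ab X) 0).obj (F n)]
    (B : Set (Opens X)) (hB : Opens.IsBasis B)
    (h1 : ∀ U ∈ B, ∀ (p n : ℕ), Subsingleton (CohTop.HU (F n) (p + 1) U))
    (h2 : ∀ U ∈ B, CohCx.LimOneIsZero (fun n => (F n).obj.obj (op U))
      (fun n => ((t n).hom.app (op U)).hom)) :
    DCoh.IsRlim (fun n => (DerivedCategory.singleFunctor (CohTop.Ab X) 0).obj (F n))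
      (fun n => (DerivedCategory.singleFunctor (CohTop.Ab X) 0).map (t n))
      ((DerivedCategory.singleFunctor (CohTop.Ab X) 0).obj (limit (CohCx.opSequence F t))) ∧
    ∀ U ∈ B, ∀ p : ℕ, Subsingleton (CohTop.HU (limit (CohCx.opSequence F t)) (p + 1) U) := by
  have hB' : Groth.Agent.Lib.Helper23.Tower.Covers (Opens.grothendieckTopology X) B := by
    intro U
    refine ⟨{V : Opens X // V ∈ B ∧ V ≤ U}, fun i => i.1, fun i => CategoryTheory.homOfLE i.2.2,
      ?_, fun i => i.2.1⟩
    intro x hx
    obtain ⟨V, hV, hxV, hVU⟩ := Opens.isBasis_iff_nbhd.1 hB hx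
    exact ⟨V, CategoryTheory.homOfLE hVU,
      CategoryTheory.Sieve.ofArrows_mk _ _ (⟨V, hV, hVU⟩ : {V : Opens X // V ∈ B ∧ V ≤ U}), hxV⟩
  have ht : ∀ n, Groth.Agent.Lib.Helper23.Tower.tMap (CohCx.opSequence F t) n = t n :=
    fun n => CategoryTheory.Functor.ofOpSequence_map_homOfLE_succ t n
  have h1' : ∀ U ∈ B, ∀ (p n : ℕ),
      Subsingleton (CohSite.HU ((CohCx.opSequence F t).obj (op n)) (p + 1) U) :=
    fun U hU p n => h1 U hU p n
  have h2' : ∀ U ∈ B, Groth.Agent.Lib.Helper23.Tower.SecLimOneZero (CohCx.opSequence F t) U := by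
    intro U hU y
    obtain ⟨a, ha⟩ := h2 U hU y
    refine ⟨a, ?_⟩
    funext n
    have h := congrFun ha n
    have e : (CohCx.opSequence F t).map (CategoryTheory.homOfLE (Nat.le_succ n)).op = t n := ht n
    simp only [e]
    exact h
  haveI : HasProduct fun n => (DerivedCategory.singleFunctor (CohTop.Ab X) 0).obj
      (Groth.Agent.Lib.Helper23.Tower.tObj (CohCx.opSequence F t) n) :=
    ‹HasProduct fun n => (DerivedCategory.singleFunctor (CohTop.Ab X) 0).obj (F n)›
  refine ⟨?_, fun U hU p => Groth.Agent.Lib.Helper23.Tower.subsingleton_HU_lim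
    (CohCx.opSequence F t) B hB' (limit.isLimit _) h1' h2' U hU p⟩
  have key := Groth.Agent.Lib.Helper23.Tower.isRlim_site (CohCx.opSequence F t) B hB'
    (limit.isLimit _) h1' h2'
  have hfun : (fun n => (DerivedCategory.singleFunctor (CohTop.Ab X) 0).map
      (Groth.Agent.Lib.Helper23.Tower.tMap (CohCx.opSequence F t) n)) =
      fun n => (DerivedCategory.singleFunctor (CohTop.Ab X) 0).map (t n) :=
    funext fun n => congrArg (DerivedCategory.singleFunctor (CohTop.Ab X) 0).map (ht n)
  rw [hfun] at key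
  exact key

end Groth.Agent.S0870
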