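import Groth.Statements.S0892
import Groth.Agent.Lib.Helper1.LocFree7

set_option autoImplicit false
universe u
open CategoryTheory
attribute [local instance] HasDerivedCategory.standard
open DCoh

namespace Groth.Agent.S0892

open Groth.Agent.Lib.Helper16.RS Groth.Agent.Lib.Helper16.PC DerivedCategory
  Groth.Agent.Lib.Helper1.LocPC Groth.Agent.Lib.Helper1.LocPerf Groth.Agent.Lib.Helper1.LocFree
  Groth.Agent.Lib.Helper29.FPDict CategoryTheory.Limits AlgebraicGeometry
  Groth.Agent.Lib.Helper2.HZDepth5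

/-- near a point where all cohomology sheaves of a perfect object have flat stalks, all
cohomology sheaves are finite locally free. -/
theorem key {X : Scheme.{u}} (E : DCoh.D X) (hE : DCoh.IsPerfect E) (x : X)
    (hx : ∀ i : ℤ, Module.Flat (X.presheaf.stalk x) ((DCoh.HD E i).presheaf.stalk x)) :
    ∃ W : X.Opens, x ∈ W ∧ ∀ i : ℤ, FL (DCoh.HD E i) W := by
  obtain ⟨F₀, ⟨e₀⟩⟩ := exists_rep E
  obtain ⟨V, hxV, P, hP, ⟨e⟩⟩ := (isPerfect_iff_isOn E F₀ e₀).1 hE x
  have e1 : (RD V.ι).obj E ≅ Q.obj P :=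
    (RD V.ι).mapIso e₀.symm ≪≫ RDQIso V.ι F₀ ≪≫ e
  have hiso : ∀ i : ℤ, Nonempty ((DCoh.HD E i).restrict V.ι ≅ P.homology i) := fun i => by
    obtain ⟨e2⟩ := nonempty_map_homology_iso (Scheme.Modules.restrictFunctor V.ι) E i
    exact ⟨e2 ≪≫ (homologyFunctor _ i).mapIso e1 ≪≫ (homologyFunctorFactors _ i).app P⟩
  have hflat : ∀ i : ℤ, Module.Flat ((V : Scheme.{u}).presheaf.stalk ⟨x, hxV⟩)
      ((P.homology i).presheaf.stalk ⟨x, hxV⟩) := fun i => by
    obtain ⟨e3⟩ := hiso i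
    haveI : Module.Flat (X.presheaf.stalk (V.ι ⟨x, hxV⟩))
      ((DCoh.HD E i).presheaf.stalk (V.ι ⟨x, hxV⟩)) := hx i
    haveI : Module.Flat ((V : Scheme.{u}).presheaf.stalk ⟨x, hxV⟩)
        ((DerSch.stalkFunctor (V : Scheme.{u}) ⟨x, hxV⟩).obj ((DCoh.HD E i).restrict V.ι)) :=
      flat_of_semilinear (psi V.ι ⟨x, hxV⟩)
        (hh V.ι (DCoh.HD E i) ⟨x, hxV⟩).addCommGroupIsoToAddEquiv
        (fun r m => hh_smul V.ι (DCoh.HD E i) ⟨x, hxV⟩ r m)
    exact Module.Flat.of_linearEquiv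
      (((DerSch.stalkFunctor (V : Scheme.{u}) ⟨x, hxV⟩).mapIso e3).toLinearEquiv).symm
  obtain ⟨W', hxW', hW'⟩ := exists_nhd_FL_homology P hP ⟨x, hxV⟩ hflat
  refine ⟨V.ι ''ᵁ W', ⟨⟨x, hxV⟩, hxW', rfl⟩, fun i => ?_⟩
  obtain ⟨e3⟩ := hiso i
  exact FL.image V W' ((hW' i).of_iso e3.symm)

open AlgebraicGeometry in
/-- Let X be a scheme and E a perfect object of D(O_X). Then the set U of points x such that for every i
the stalk H^i(E)_x is a finite free O_{X,x}-module is open, all cohomology sheaves H^i(E) are finite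
locally free over U, and every open W over which all H^i(E) are finite locally free is contained in
U. (Stated for schemes; the published statement is for ringed spaces all of whose stalks of the
structure sheaf are local rings.) -/
theorem result {X : Scheme.{u}} (E : DCoh.D X) (hE : DCoh.IsPerfect E) :
    ∃ U : X.Opens,
      (U : Set X) = {x : X | ∀ i : ℤ, Module.Free (X.presheaf.stalk x) ((DCoh.HD E i).presheaf.stalk x) ∧
        Module.Finite (X.presheaf.stalk x) ((DCoh.HD E i).presheaf.stalk x)} ∧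
      (∀ i : ℤ, FlatMod.IsFinLocFree ((DCoh.HD E i).restrict U.ι)) ∧
      ∀ W : X.Opens, (∀ i : ℤ, FlatMod.IsFinLocFree ((DCoh.HD E i).restrict W.ι)) → W ≤ U := by
  have hkey : ∀ x : X, (∀ i : ℤ, Module.Free (X.presheaf.stalk x) ((DCoh.HD E i).presheaf.stalk x) ∧
      Module.Finite (X.presheaf.stalk x) ((DCoh.HD E i).presheaf.stalk x)) →
      ∃ W : X.Opens, x ∈ W ∧ ∀ i : ℤ, FL (DCoh.HD E i) W := fun x hx =>
    key E hE x (fun i => by
      haveI := (hx i).1
      infer_instance)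
  have hsub : ∀ W : X.Opens, (∀ i : ℤ, FL (DCoh.HD E i) W) → ∀ x ∈ W, ∀ i : ℤ,
      Module.Free (X.presheaf.stalk x) ((DCoh.HD E i).presheaf.stalk x) ∧
        Module.Finite (X.presheaf.stalk x) ((DCoh.HD E i).presheaf.stalk x) :=
    fun W hW x hx i => (hW i).free_finite_stalk x hx
  have hopen : IsOpen {x : X | ∀ i : ℤ,
      Module.Free (X.presheaf.stalk x) ((DCoh.HD E i).presheaf.stalk x) ∧
        Module.Finite (X.presheaf.stalk x) ((DCoh.HD E i).presheaf.stalk x)} := by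
    rw [isOpen_iff_forall_mem_open]
    intro x hx
    obtain ⟨W, hxW, hW⟩ := hkey x hx
    exact ⟨W, fun y hy => hsub W hW y hy, W.isOpen, hxW⟩
  refine ⟨⟨_, hopen⟩, rfl, fun i => ?_, fun W hW x hx => hsub W hW x hx⟩
  refine FL.of_locally (fun x hx => ?_)
  obtain ⟨W, hxW, hW⟩ := hkey x hx
  exact ⟨W, hxW, hW i⟩

end Groth.Agent.S0892
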