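import Groth.Statements.S0912
import Groth.Agent.Lib.Helper16.KD9

set_option autoImplicit false
universe u
open CategoryTheory
attribute [local instance] HasDerivedCategory.standard
open DCoh

namespace Groth.Agent.S0912

open AlgebraicGeometry in
/-- For E in D(O_X) and integers a ≤ b, E has tor-amplitude in [a, b] (all H^i(E ⊗^L F), F an
O_X-module, vanish for i outside [a, b]; derived tensor products under their existence binder) if
and only if E is represented by a complex of flat O_X-modules which is zero outside [a, b]. The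
existence of the derived tensor product – ⊗^L G for every O_X-module G is assumed (hypothesis hL). -/
theorem result {X : Scheme.{u}} (E : DCoh.D X) (a b : ℤ) (hab : a ≤ b)
    (hL : ∀ G : X.Modules, DCoh.HasLTensorMod G) :
    DCoh.HasTorAmplitudeIn a b E ↔ DCoh.HasFlatAmplitudeIn a b E := by
  constructor
  · intro h
    have e : DerivedCategory.Q.obj (DerivedCategory.Q.objPreimage E) ≅ E :=
      DerivedCategory.Q.objObjPreimageIso E
    obtain ⟨P, p, hP, hPfl, hp, -⟩ :=
      Groth.Agent.Lib.Helper16.Stk.exists_kFlat_resolution (DerivedCategory.Q.objPreimage E)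
    haveI := hp
    have hG : ∀ (G : X.Modules) (i : ℤ), i < a ∨ b < i →
        ((Groth.Agent.Lib.Helper16.KD.tensModCx G).obj P).ExactAt i := by
      intro G i hi
      haveI := hL G
      rw [HomologicalComplex.exactAt_iff_isZero_homology]
      exact CategoryTheory.Limits.IsZero.of_iso (h G i hi) ((Groth.Agent.Lib.Helper16.KD.HDQIso _ i).symm ≪≫
        (DerivedCategory.homologyFunctor _ i).mapIso
          ((Groth.Agent.Lib.Helper16.KD.LTensorModIso G P hP).symm ≪≫
            (DCoh.LTensorMod G).mapIso (asIso (DerivedCategory.Q.map p) ≪≫ e)))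
    obtain ⟨E', hv, hfl, ⟨e'⟩⟩ :=
      Groth.Agent.Lib.Helper16.KD.exists_flat_amplitude_model P hP hPfl a b hab hG
    exact ⟨E', hv, hfl, ⟨e' ≪≫ asIso (DerivedCategory.Q.map p) ≪≫ e⟩⟩
  · exact Groth.Agent.Lib.Helper16.KD.hasTorAmplitudeIn_of_hasFlatAmplitudeIn a b

end Groth.Agent.S0912
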