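import Groth.Statements.S0913
import Groth.Agent.Lib.Helper1.LocPerf4

set_option autoImplicit false
universe u
open CategoryTheory
attribute [local instance] HasDerivedCategory.standard
open DCoh

namespace Groth.Agent.S0913

open Groth.Agent.Lib.Helper1.LocPC Groth.Agent.Lib.Helper1.LocPerf Groth.Agent.Lib.Helper16.RS

open AlgebraicGeometry in
/-- Let a ≤ b and let E in D(O_X) be represented by a complex of flat modules vanishing outside [a, b]
(tor-amplitude in [a, b]) and be (a-1)-pseudo-coherent. Then E is perfect. -/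
theorem result {X : Scheme.{u}} (E : DCoh.D X) (a b : ℤ) (hab : a ≤ b)
    (h1 : DCoh.HasFlatAmplitudeIn a b E) (h2 : DCoh.IsPseudoCoherentD (a - 1) E) : DCoh.IsPerfect E := by
  obtain ⟨F, hF, hflat, ⟨e⟩⟩ := h1
  rw [isPseudoCoherentD_iff] at h2
  intro x
  obtain ⟨V, hx, hV⟩ := h2 x
  obtain ⟨E', hE', -, ⟨e'⟩⟩ := exists_strictlyPerfect_of_pc_of_stalk_torAmp ((RD V.ι).obj E) a b hV
    (fun y => stalk_torAmp_of_flat_rep_restrict E F e a b hF hflat V.ι y)
  refine ⟨V, hx, ?_⟩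
  rintro G ⟨eG⟩
  exact ⟨E', hE', ⟨(RDQIso V.ι G).symm ≪≫ (RD V.ι).mapIso eG ≪≫ e'.symm⟩⟩

end Groth.Agent.S0913
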