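import Groth.Statements.S0915
import Groth.Agent.Lib.Helper16.KD5

set_option autoImplicit false
universe u
open CategoryTheory
attribute [local instance] HasDerivedCategory.standard
open DCoh

namespace Groth.Agent.S0915

open AlgebraicGeometry CategoryTheory.Limits in
/-- On a scheme X, let K and L be objects of D(𝒪_X). If K ⊕ L has tor-amplitude in [a, b] then K and L
each have tor-amplitude in [a, b]. (The hypothesis is taken in the flat-representative form and the
conclusion in the derived-tensor form.) -/
theorem result {X : Scheme.{u}} (K L : DCoh.D X) [HasBinaryBiproduct K L] (a b : ℤ)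
    (h : DCoh.HasFlatAmplitudeIn a b (K ⊞ L)) : DCoh.HasTorAmplitudeIn a b K ∧ DCoh.HasTorAmplitudeIn a b L := by
  have hT := Groth.Agent.Lib.Helper16.KD.hasTorAmplitudeIn_of_hasFlatAmplitudeIn a b h
  have key : ∀ (M : DCoh.D X) (i : M ⟶ K ⊞ L) (p : K ⊞ L ⟶ M), i ≫ p = 𝟙 M →
      DCoh.HasTorAmplitudeIn a b M := by
    intro M i p hip F _ n hn
    have hz := hT F n hn
    rw [IsZero.iff_id_eq_zero]
    have h1 : (DCoh.LTensorMod F ⋙ DerivedCategory.homologyFunctor X.Modules n).map i ≫
        (DCoh.LTensorMod F ⋙ DerivedCategory.homologyFunctor X.Modules n).map p = 𝟙 _ := by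
      rw [← CategoryTheory.Functor.map_comp, hip]
      exact CategoryTheory.Functor.map_id _ _
    change 𝟙 ((DCoh.LTensorMod F ⋙ DerivedCategory.homologyFunctor X.Modules n).obj M) = 0
    rw [← h1, hz.eq_of_tgt ((DCoh.LTensorMod F ⋙ DerivedCategory.homologyFunctor X.Modules n).map i)
      0, zero_comp]
  exact ⟨key K biprod.inl biprod.fst biprod.inl_fst, key L biprod.inr biprod.snd biprod.inr_snd⟩

end Groth.Agent.S0915
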