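import Groth.Statements.S0919
-- import your own Groth.Agent.* helpers here
import Mathlib

set_option autoImplicit false
universe v u
open CategoryTheory
open CohDer

namespace Groth.Agent.S0919

/-- A `Type`-valued right adjoint on `Cᵒᵖ` is representable. -/
lemma isRepresentable_of_isRightAdjoint {C : Type u} [Category.{v} C] (F : Cᵒᵖ ⥤ Type v)
    [F.IsRightAdjoint] : F.IsRepresentable := by
  let L := F.leftAdjoint
  let adj : L ⊣ F := Adjunction.ofIsRightAdjoint F
  let Z : Cᵒᵖ := L.obj PUnit
  -- elements of `F.obj X` as morphisms `PUnit ⟶ F.obj X`
  let el : ∀ X : Cᵒᵖ, (PUnit ⟶ F.obj X) ≃ F.obj X := fun X =>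
    { toFun := fun g => g PUnit.unit
      invFun := fun x => homOfElement x
      left_inv := fun g => by
        apply ConcreteCategory.hom_ext
        intro u
        cases u
        rfl
      right_inv := fun x => rfl }
  refine ⟨Z.unop, ⟨{
    homEquiv := fun {X} => (opEquiv Z (Opposite.op X)).symm.trans
      ((adj.homEquiv PUnit (Opposite.op X)).trans (el (Opposite.op X)))
    homEquiv_comp := ?_ }⟩⟩
  intro X X' f g
  simp only [Equiv.trans_apply, el, Equiv.coe_fn_mk]
  have h1 : (opEquiv Z (Opposite.op X)).symm (f ≫ g) =
      (opEquiv Z (Opposite.op X')).symm g ≫ f.op := rfl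
  rw [h1, Adjunction.homEquiv_naturality_right]
  rfl


open CategoryTheory.Limits in
/-- Let A be a Grothendieck abelian category and F a contravariant functor from A to sets (a functor on
the opposite category). Then F is representable if and only if F turns all small colimits of A into
limits, i.e. preserves small limits as a functor on the opposite category. -/
theorem result {A : Type u} [Category.{v} A] [Abelian A]
    [IsGrothendieckAbelian.{v} A] (F : Aᵒᵖ ⥤ Type v) :
    F.IsRepresentable ↔ PreservesLimitsOfSize.{v, v} F := by
  constructor
  · intro h
    exact preservesLimits_of_natIso F.reprW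
  · intro h
    have hG : IsSeparator (separator A) := isSeparator_separator A
    have hcosep : IsCoseparator (Opposite.op (separator A)) := (isCoseparator_op_iff _).mpr hG
    have : F.IsRightAdjoint :=
      isRightAdjoint_of_preservesLimits_of_isCoseparating hcosep F
    exact isRepresentable_of_isRightAdjoint F

end Groth.Agent.S0919
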