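import Groth.Statements.S0924
import Groth.Agent.Lib.Helper1.LocPerf4
import Groth.Agent.S7018
import Groth.Agent.Lib.Helper16.DRE2

set_option autoImplicit false
universe u
open CategoryTheory
attribute [local instance] HasDerivedCategory.standard
open DCoh

namespace Groth.Agent.S0924

open Groth.Agent.Lib.Helper1.LocPC Groth.Agent.Lib.Helper1.LocPerf Groth.Agent.Lib.Helper16.RS
  Groth.Agent.Lib.Helper16.PC AlgebraicGeometry CategoryTheory.Limits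

lemma hasTorAmplitudeIn_of_iso {A : Type u} [CommRing A] {a b : ℤ} {K K' : Dual.D A}
    (h : DRing.HasTorAmplitudeIn A a b K) (e : K ≅ K') : DRing.HasTorAmplitudeIn A a b K' := by
  obtain ⟨E, h1, h2, ⟨i⟩⟩ := h
  exact ⟨E, h1, h2, ⟨i ≪≫ e⟩⟩

attribute [local instance] preservesBinaryBiproducts_of_preservesBiproducts in
theorem isPerfect_left_of_biprod {X : Scheme.{u}} (K L : DCoh.D X) [HasBinaryBiproduct K L]
    (h : DCoh.IsPerfect (K ⊞ L)) : DCoh.IsPerfect K := by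
  obtain ⟨F₀, ⟨e₀⟩⟩ := exists_rep (K ⊞ L)
  intro x
  obtain ⟨V, hxV, hV⟩ := h x
  obtain ⟨E₀, ⟨⟨a, b, hab⟩, hfree⟩, ⟨i⟩⟩ := hV F₀ ⟨e₀⟩
  have e₁ : DerivedCategory.Q.obj E₀ ≅ (RD V.ι).obj (K ⊞ L) :=
    i.symm ≪≫ (RDQIso V.ι F₀).symm ≪≫ (RD V.ι).mapIso e₀
  have hKL : PCAt (a - 1) (K ⊞ L) x :=
    ⟨V, hxV, E₀, e₁.hom, ⟨⟨a, b, hab⟩, hfree⟩, good_of_isIso _ _⟩
  obtain ⟨V', hxV', hV'⟩ := (PCAt.of_biprod (a - 1) K L x hKL).1
  let W := V ⊓ V'
  have hx : x ∈ W := ⟨hxV, hxV'⟩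
  have hpc : PCat (a - 1) ((RD W.ι).obj K) := hV'.of_le_opens inf_le_right
  let k : (W : Scheme.{u}) ⟶ (V : Scheme.{u}) := X.homOfLE (inf_le_left : W ≤ V)
  have hk : k ≫ V.ι = W.ι := X.homOfLE_ι _
  obtain ⟨ι⟩ := nonempty_RD_fac_iso V.ι k W.ι hk (K ⊞ L)
  have hst : ∀ y : (W : Scheme.{u}), DRing.HasTorAmplitudeIn ((W : Scheme.{u}).presheaf.stalk y) a b
      ((DerSch.stalkFunctor (W : Scheme.{u}) y).mapDerivedCategory.obj ((RD W.ι).obj K)) := by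
    intro y
    have h3 := stalk_torAmp_of_flat_rep_restrict ((RD V.ι).obj (K ⊞ L)) E₀ e₁ a b hab
      (fun j => isFlat_of_isFinLocFree _ (hfree j)) k y
    let G : DCoh.D X ⥤ Dual.D ((W : Scheme.{u}).presheaf.stalk y) :=
      RD W.ι ⋙ (DerSch.stalkFunctor (W : Scheme.{u}) y).mapDerivedCategory
    have h4 : DRing.HasTorAmplitudeIn ((W : Scheme.{u}).presheaf.stalk y) a b
        (G.obj K ⊞ G.obj L) :=
      hasTorAmplitudeIn_of_iso h3
        ((DerSch.stalkFunctor (W : Scheme.{u}) y).mapDerivedCategory.mapIso ι ≪≫ G.mapBiprod K L)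
    haveI : ∀ M : ModuleCat.{u} ((W : Scheme.{u}).presheaf.stalk y),
        DRing.HasLTensor ((W : Scheme.{u}).presheaf.stalk y) M :=
      fun M => Groth.Agent.Lib.Helper16.DRE.hasLTensor M
    exact (Groth.Agent.S7018.result ((W : Scheme.{u}).presheaf.stalk y) a b (G.obj K) (G.obj L) h4).1
  obtain ⟨E', hE', -, ⟨e'⟩⟩ :=
    exists_strictlyPerfect_of_pc_of_stalk_torAmp ((RD W.ι).obj K) a b hpc hst
  refine ⟨W, hx, ?_⟩
  rintro G ⟨eG⟩
  exact ⟨E', hE', ⟨(RDQIso W.ι G).symm ≪≫ (RD W.ι).mapIso eG ≪≫ e'.symm⟩⟩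

open AlgebraicGeometry CategoryTheory.Limits in

open AlgebraicGeometry CategoryTheory.Limits in
/-- Perfectness of objects of D(O_X) passes to direct summands: K and L are perfect as soon as K ⊕ L is. -/
theorem result {X : Scheme.{u}} (K L : DCoh.D X) [HasBinaryBiproduct K L]
    (h : DCoh.IsPerfect (K ⊞ L)) : DCoh.IsPerfect K ∧ DCoh.IsPerfect L := by
  refine ⟨isPerfect_left_of_biprod K L h, isPerfect_left_of_biprod L K ?_⟩
  exact isPerfect_of_iso (biprod.braiding K L) h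

end Groth.Agent.S0924
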