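import Groth.Statements.S0926
import Groth.Agent.Lib.Helper6.CohTopConst

set_option autoImplicit false
universe u
open CategoryTheory
open CohTop

namespace Groth.Agent.S0926

section Helpers

open TopologicalSpace CategoryTheory.Limits Opposite

theorem imageSubobject_le_of_comp_cokernel {A : Type*} [Category A] [Abelian A] {X Y Z : A}
    (f : X ⟶ Z) (g : Y ⟶ Z) (h : f ≫ cokernel.π g = 0) :
    imageSubobject f ≤ imageSubobject g := by
  refine imageSubobject_le f (kernel.lift (cokernel.π g) f h ≫ (Abelian.imageIsoImage g).hom ≫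
    (imageSubobjectIso g).inv) ?_
  rw [Category.assoc, Category.assoc, imageSubobject_arrow', Abelian.imageIsoImage_hom_comp_image_ι,
    kernel.lift_ι]

open Groth.Agent.Lib.Helper6.CohTopConst

theorem sheaf_comp_cokernel_eq_zero {C : Type*} [Category C] {J : GrothendieckTopology C}
    [HasSheafify J AddCommGrpCat.{u}]
    {A B Z : Sheaf J AddCommGrpCat.{u}} (f : A ⟶ Z) (g : B ⟶ Z)
    (hfg : ∀ (W : Cᵒᵖ) (a : A.obj.obj W), ∃ b : B.obj.obj W, g.hom.app W b = f.hom.app W a) :
    f ≫ cokernel.π g = 0 := by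
  ext W a
  obtain ⟨b, hb⟩ := hfg W a
  have h0 : g ≫ cokernel.π g = 0 := cokernel.condition g
  have h1 : (cokernel.π g).hom.app W (g.hom.app W b) = 0 := by
    have h2 : (g ≫ cokernel.π g).hom.app W b = 0 := by
      rw [h0]
      rfl
    exact h2
  change (cokernel.π g).hom.app W (f.hom.app W a) = 0
  rw [← hb, h1]

variable {X : TopCat.{u}}

theorem subsingleton_of_empty (F : CohTop.Ab X) (W : Opens X) (hW : ¬ (W : Set X).Nonempty) :
    Subsingleton (F.obj.obj (op W)) := by
  have hbot : W = ⊥ := by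
    ext x
    simp only [Opens.coe_bot, Set.mem_empty_iff_false, iff_false]
    exact fun hx => hW ⟨x, hx⟩
  have hT := TopCat.Sheaf.isTerminalOfEqEmpty F hbot
  have hZ : IsZero (F.obj.obj (op W)) :=
    (isZero_zero _).of_iso (hT.uniqueUpToIso (isZero_zero _).isTerminal)
  exact AddCommGrpCat.subsingleton_of_isZero hZ

variable (H : CohTop.Ab X) (ι : H ⟶ CohTop.const X (ULift.{u} ℤ))

/-- η on integers -/
noncomputable def ηZ (W : Opens X) : ℤ →+ (CohTop.const X (ULift.{u} ℤ)).obj.obj (op W) :=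
  ((η X (ULift.{u} ℤ)).app (op W)).hom.comp
    (AddEquiv.ulift.symm : ℤ ≃+ ULift.{u} ℤ).toAddMonoidHom

theorem ηZ_res {W' W : Opens X} (hle : W' ≤ W) (n : ℤ) :
    (CohTop.const X (ULift.{u} ℤ)).obj.map (homOfLE hle).op (ηZ W n) = ηZ W' n :=
  η_res hle _

theorem exists_eq_ηZ [PreirreducibleSpace X] (W : Opens X) (hW : (W : Set X).Nonempty)
    (z : (CohTop.const X (ULift.{u} ℤ)).obj.obj (op W)) : ∃ n : ℤ, ηZ W n = z := by
  obtain ⟨a, ha⟩ := exists_eq_η W hW z
  exact ⟨a.down, ha⟩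

/-- integers lying in the subsheaf over `W` -/
noncomputable def S (W : Opens X) : AddSubgroup ℤ :=
  (ι.hom.app (op W)).hom.range.comap (ηZ W)

theorem mem_S (W : Opens X) (n : ℤ) :
    n ∈ S H ι W ↔ ∃ h : H.obj.obj (op W), ι.hom.app (op W) h = ηZ W n := by
  simp [S, AddSubgroup.mem_comap, AddMonoidHom.mem_range]

theorem S_mono {W' W : Opens X} (hle : W' ≤ W) : S H ι W ≤ S H ι W' := by
  intro n hn
  obtain ⟨h, hh⟩ := (mem_S H ι W n).1 hn
  refine (mem_S H ι W' n).2 ⟨H.obj.map (homOfLE hle).op h, ?_⟩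
  have := NatTrans.naturality_apply ι.hom (homOfLE hle).op h
  rw [this, hh]
  exact ηZ_res hle n

theorem exists_U_d [IrreducibleSpace X] : ∃ (U : Opens X) (d : ℤ), (U : Set X).Nonempty ∧
    ∀ W : Opens X, W ≤ U → (W : Set X).Nonempty → S H ι W = AddSubgroup.zmultiples d := by
  classical
  by_cases hP : ∃ n : ℕ, 0 < n ∧ ∃ W : Opens X, (W : Set X).Nonempty ∧ (n : ℤ) ∈ S H ι W
  · obtain ⟨hd0, W₀, hW₀, hdW₀⟩ := Nat.find_spec hP
    refine ⟨W₀, (Nat.find hP : ℤ), hW₀, fun W hle hW => le_antisymm ?_ ?_⟩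
    · intro n hn
      rw [Int.mem_zmultiples_iff]
      have hd : ((Nat.find hP : ℕ) : ℤ) ∈ S H ι W := S_mono H ι hle hdW₀
      have hdpos : (0 : ℤ) < (Nat.find hP : ℕ) := by exact_mod_cast hd0
      have hr : n % (Nat.find hP : ℕ) ∈ S H ι W := by
        rw [Int.emod_def]
        refine sub_mem hn ?_
        simpa [mul_comm] using (S H ι W).zsmul_mem hd (n / (Nat.find hP : ℕ))
      by_contra hdvd
      have hne : n % (Nat.find hP : ℕ) ≠ 0 := fun h0 => hdvd (Int.dvd_of_emod_eq_zero h0)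
      have hnn : 0 ≤ n % (Nat.find hP : ℕ) := Int.emod_nonneg _ hdpos.ne'
      have hlt : n % (Nat.find hP : ℕ) < (Nat.find hP : ℕ) := Int.emod_lt_of_pos _ hdpos
      have hmin := Nat.find_min' hP (m := (n % (Nat.find hP : ℕ)).toNat)
        ⟨by omega, W, hW, by rwa [Int.toNat_of_nonneg hnn]⟩
      omega
    · exact AddSubgroup.zmultiples_le_of_mem (S_mono H ι hle hdW₀)
  · refine ⟨⊤, 0, ?_, fun W _ hW => ?_⟩
    · simp
    · rw [AddSubgroup.zmultiples_zero_eq_bot, eq_bot_iff]
      intro n hn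
      rw [AddSubgroup.mem_bot]
      by_contra hn0
      apply hP
      refine ⟨n.natAbs, Int.natAbs_pos.2 hn0, W, hW, ?_⟩
      rcases Int.natAbs_eq n with h | h
      · rw [← h]; exact hn
      · have : (n.natAbs : ℤ) = -n := by omega
        rw [this]; exact neg_mem hn

theorem le_U (U : Opens X) (W' : Opens ↥U) :
    (U.isOpenEmbedding.isOpenMap.functor.obj W') ≤ U := by
  rintro x ⟨y, _, rfl⟩
  exact y.2

theorem zsmul_app (d : ℤ) (F : CohTop.Ab X) (W : Opens X) (z : F.obj.obj (op W)) :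
    (d • 𝟙 F).hom.app (op W) z = d • z := by
  have h1 : (d • 𝟙 F).hom = d • 𝟙 F.obj :=
    (sheafToPresheaf _ _).map_zsmul (f := 𝟙 F) (r := d)
  rw [h1]
  simp

theorem key1 [IrreducibleSpace X] {U : Opens X} {d : ℤ}
    (hS : ∀ W : Opens X, W ≤ U → (W : Set X).Nonempty → S H ι W = AddSubgroup.zmultiples d)
    (W : Opens X) (hWU : W ≤ U) (h : H.obj.obj (op W)) :
    ∃ z : (CohTop.const X (ULift.{u} ℤ)).obj.obj (op W),
      (d • 𝟙 (CohTop.const X (ULift.{u} ℤ))).hom.app (op W) z = ι.hom.app (op W) h := by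
  by_cases hW : (W : Set X).Nonempty
  · obtain ⟨n, hn⟩ := exists_eq_ηZ W hW (ι.hom.app (op W) h)
    have hmem : n ∈ S H ι W := (mem_S H ι W n).2 ⟨h, hn.symm⟩
    rw [hS W hWU hW, Int.mem_zmultiples_iff] at hmem
    obtain ⟨k, rfl⟩ := hmem
    refine ⟨ηZ W k, ?_⟩
    rw [← hn, zsmul_app, ← map_zsmul (ηZ W) d k, smul_eq_mul]
  · have := subsingleton_of_empty (CohTop.const X (ULift.{u} ℤ)) W hW
    exact ⟨0, Subsingleton.elim _ _⟩

theorem key2 [IrreducibleSpace X] {U : Opens X} {d : ℤ}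
    (hS : ∀ W : Opens X, W ≤ U → (W : Set X).Nonempty → S H ι W = AddSubgroup.zmultiples d)
    (W : Opens X) (hWU : W ≤ U) (z : (CohTop.const X (ULift.{u} ℤ)).obj.obj (op W)) :
    ∃ h : H.obj.obj (op W),
      ι.hom.app (op W) h = (d • 𝟙 (CohTop.const X (ULift.{u} ℤ))).hom.app (op W) z := by
  by_cases hW : (W : Set X).Nonempty
  · obtain ⟨n, hn⟩ := exists_eq_ηZ W hW z
    have hmem : d * n ∈ S H ι W := by
      rw [hS W hWU hW, Int.mem_zmultiples_iff]
      exact dvd_mul_right d n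
    obtain ⟨h, hh⟩ := (mem_S H ι W _).1 hmem
    refine ⟨h, ?_⟩
    rw [hh, zsmul_app, ← hn, ← map_zsmul (ηZ W) d n, smul_eq_mul]
  · have := subsingleton_of_empty (CohTop.const X (ULift.{u} ℤ)) W hW
    exact ⟨0, Subsingleton.elim _ _⟩

theorem main [IrreducibleSpace X] : ∃ (U : Opens X) (d : ℤ), U ≠ ⊥ ∧
      imageSubobject ((CohTop.restrFunctor U).map ι) =
        imageSubobject ((CohTop.restrFunctor U).map (d • 𝟙 (CohTop.const X (ULift.{u} ℤ)))) := by
  obtain ⟨U, d, hU, hS⟩ := exists_U_d H ι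
  refine ⟨U, d, ?_, le_antisymm (imageSubobject_le_of_comp_cokernel _ _ ?_)
    (imageSubobject_le_of_comp_cokernel _ _ ?_)⟩
  · rintro rfl
    simp at hU
  · apply sheaf_comp_cokernel_eq_zero
    intro W' h
    exact key1 H ι hS _ (le_U U W'.unop) h
  · apply sheaf_comp_cokernel_eq_zero
    intro W' z
    exact key2 H ι hS _ (le_U U W'.unop) z

end Helpers

open TopologicalSpace CategoryTheory.Limits in
/-- Let X be an irreducible topological space and H an abelian subsheaf of the constant sheaf Z (given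
by a monomorphism ι). Then there are a nonempty open U and an integer d such that over U the
subsheaf H coincides with the image of multiplication by d on the constant sheaf: the images of ι|_U
and of (d · id)|_U agree as subobjects of the constant sheaf on U. -/
theorem result {X : TopCat.{u}} [IrreducibleSpace X]
    (H : CohTop.Ab X) (ι : H ⟶ CohTop.const X (ULift.{u} ℤ)) [Mono ι] :
    ∃ (U : Opens X) (d : ℤ), U ≠ ⊥ ∧
      imageSubobject ((CohTop.restrFunctor U).map ι) =
        imageSubobject ((CohTop.restrFunctor U).map (d • 𝟙 (CohTop.const X (ULift.{u} ℤ)))) := by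
  exact main H ι

end Groth.Agent.S0926
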