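import Groth.Statements.S0930
import Groth.Agent.Lib.Helper6.Leray
-- import your own Groth.Agent.* helpers here

set_option autoImplicit false
universe u
open CategoryTheory
attribute [local instance] HasDerivedCategory.standard
open CohTop

namespace Groth.Agent.S0930

open Groth.Agent.Lib.Helper6 in
lemma pull_preservesFiniteLimits {X Y : TopCat.{u}} (f : X ⟶ Y) :
    Limits.PreservesFiniteLimits (CohTop.pull f) := by
  dsimp only [CohTop.pull, TopCat.Sheaf.pullback]
  have : RepresentablyFlat (TopologicalSpace.Opens.map f) := inferInstance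
  exact CategoryTheory.Functor.SmallCategories.instPreservesFiniteLimitsSheafSheafPullbackOfRepresentablyFlat _ _ _ _

/-- The adjunction `f⁻¹ ⊣ f_*`, retyped. -/
noncomputable def adj {X Y : TopCat.{u}} (f : X ⟶ Y) : CohTop.pull f ⊣ CohTop.push f :=
  TopCat.Sheaf.pullbackPushforwardAdjunction _ f

lemma push_injective {X Y : TopCat.{u}} (f : X ⟶ Y) (I : Ab X) [Injective I] :
    Injective ((CohTop.push f).obj I) := by
  have := pull_preservesFiniteLimits f
  exact Injective.injective_of_adjoint (adj f) I

instance push_pfl {X Y : TopCat.{u}} (f : X ⟶ Y) :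
    Limits.PreservesFiniteLimits (CohTop.push f) := by
  have := (adj f).rightAdjoint_preservesLimits
  exact Limits.PreservesLimits.preservesFiniteLimits _

/-- For continuous maps f : X -> Y and g : Y -> Z, the composite of the right derived functors Rf_* :
D^+(X) -> D^+(Y) and Rg_* : D^+(Y) -> D^+(Z) is isomorphic to R(g ∘ f)_* (existence of an
isomorphism of functors between bounded below derived categories). -/
theorem result {X Y Z : TopCat.{u}} (f : X ⟶ Y) (g : Y ⟶ Z) :
    Nonempty ((CohTop.push f).rightDerivedFunctorPlus ⋙ (CohTop.push g).rightDerivedFunctorPlus ≅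
      (CohTop.push (f ≫ g)).rightDerivedFunctorPlus) := by
  refine Groth.Agent.Lib.Helper6.Leray.nonempty_comp_iso (CohTop.push f) (CohTop.push g)
    (CohTop.push (f ≫ g)) (Iso.refl _) ?_
  intro I hI
  have := push_injective f I
  exact Groth.Agent.Lib.Helper6.Leray.acyc_of_injective _ _

end Groth.Agent.S0930
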