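import Groth.Statements.S0938
import Groth.Agent.Lib.Helper29.FreeIso2
import Groth.Agent.Lib.Helper29.QCohStruct

set_option autoImplicit false
universe u
open CategoryTheory
open Coh

namespace Groth.Agent.S0938

open AlgebraicGeometry CategoryTheory.Limits
open Groth.Agent.Lib.Helper28.QCohLoc Groth.Agent.Lib.Helper28.TwistGen Groth.Agent.Lib.Helper29.FreeIso
open Groth.Agent.Lib.Helper29.QCohStalk

variable {X : Scheme.{u}}

/-- the linear map on global sections induced by a morphism of modules -/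
noncomputable def gl {M N : X.Modules} (φ : M ⟶ N) : Γ(M, ⊤) →ₗ[Γ(X, ⊤)] Γ(N, ⊤) where
  toFun := fun m => φ.app ⊤ m
  map_add' := fun x y => map_add _ x y
  map_smul' := fun a x => Scheme.Modules.Hom.app_smul φ a x

theorem gl_apply {M N : X.Modules} (φ : M ⟶ N) (m : Γ(M, ⊤)) : gl φ m = φ.app ⊤ m := rfl

theorem gl_id (M : X.Modules) : gl (𝟙 M) = LinearMap.id := rfl

theorem gl_comp {M N K : X.Modules} (φ : M ⟶ N) (ψ : N ⟶ K) : gl (φ ≫ ψ) = (gl ψ).comp (gl φ) := rfl

/-- the global sections functor -/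
noncomputable def Γf (X : Scheme.{u}) : X.Modules ⥤ ModuleCat.{u} (Γ(X, ⊤)) where
  obj M := ModuleCat.of Γ(X, ⊤) Γ(M, ⊤)
  map φ := ModuleCat.ofHom (gl φ)
  map_id M := rfl
  map_comp φ ψ := rfl

variable (n : ℕ)

/-- the standard global sections of `O^n` -/
noncomputable def es (j : Fin n) : Γ(B X n, ⊤) :=
  (biproduct.ι (fun _ : Fin n => Coh.structureModule X) j).app ⊤ (toSM (1 : Γ(X, ⊤)))

theorem ι_app_eq (j : Fin n) (c : Γ(X, ⊤)) :
    (biproduct.ι (fun _ : Fin n => Coh.structureModule X) j).app ⊤ (toSM c) = c • es n j := by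
  have h1 : toSM c = c • toSM (1 : Γ(X, ⊤)) := by rw [toSM_smul, mul_one]
  rw [h1, Scheme.Modules.Hom.app_smul]
  rfl

theorem π_app_es (j k : Fin n) :
    (biproduct.π (fun _ : Fin n => Coh.structureModule X) k).app ⊤ (es n j) =
      toSM (if j = k then (1 : Γ(X, ⊤)) else 0) := by
  have h := congrArg (fun φ : Coh.structureModule X ⟶ Coh.structureModule X =>
    φ.app ⊤ (toSM (1 : Γ(X, ⊤))))
    (biproduct.ι_π (fun _ : Fin n => Coh.structureModule X) j k)
  refine h.trans ?_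
  by_cases hjk : j = k
  · subst hjk
    rw [dif_pos rfl, if_pos rfl]
    rfl
  · rw [dif_neg hjk, if_neg hjk]
    rfl

theorem es_li : LinearIndependent Γ(X, ⊤) (es (X := X) n) := by
  rw [Fintype.linearIndependent_iff]
  intro c hc k
  have h := congrArg (fun z => (biproduct.π (fun _ : Fin n => Coh.structureModule X) k).app ⊤ z) hc
  simp only [map_sum] at h
  have h2 : ∀ j, (biproduct.π (fun _ : Fin n => Coh.structureModule X) k).app ⊤ (c j • es n j) =
      toSM (if j = k then c j else 0) := by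
    intro j
    rw [Scheme.Modules.Hom.app_smul, π_app_es, toSM_smul]
    by_cases hjk : j = k
    · rw [if_pos hjk, if_pos hjk, mul_one]
    · rw [if_neg hjk, if_neg hjk, mul_zero]
  rw [Finset.sum_congr rfl (fun j _ => h2 j)] at h
  have h3 : (∑ j : Fin n, toSM (if j = k then c j else 0) : Γ(Coh.structureModule X, ⊤)) = toSM (c k) := by
    rw [Finset.sum_eq_single k]
    · rw [if_pos rfl]
    · intro j _ hjk
      rw [if_neg hjk]; rfl
    · intro hk; exact absurd (Finset.mem_univ k) hk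
  rw [h3] at h
  have h4 : (biproduct.π (fun _ : Fin n => Coh.structureModule X) k).app ⊤ (0 : Γ(B X n, ⊤)) = 0 := map_zero _
  rw [h4] at h
  exact h

theorem es_span : Submodule.span Γ(X, ⊤) (Set.range (es (X := X) n)) = ⊤ := by
  rw [eq_top_iff]
  rintro z -
  rw [decomp n ⊤ z]
  refine Submodule.sum_mem _ fun j _ => ?_
  have h := ι_app_eq n j (ofSM ((biproduct.π (fun _ : Fin n => Coh.structureModule X) j).app ⊤ z))
  rw [toSM_ofSM] at h
  rw [h]
  exact Submodule.smul_mem _ _ (Submodule.subset_span ⟨j, rfl⟩)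

/-- the standard basis of the global sections of `O^n` -/
noncomputable def eb : Module.Basis (Fin n) Γ(X, ⊤) Γ(B X n, ⊤) :=
  Module.Basis.mk (es_li n) (es_span n).ge

theorem eb_apply (j : Fin n) : eb (X := X) n j = es n j := by
  unfold eb; rw [Module.Basis.mk_apply]

theorem ψ_app_es (F : X.Modules) (τ : Fin n → Γ(F, ⊤)) (j : Fin n) :
    (ψ F τ).app ⊤ (es n j) = τ j := by
  have h := ψ_app_ι F τ ⊤ j (1 : Γ(X, ⊤))
  rw [one_smul, res_self] at h
  exact h

theorem hom_ext_es {F : X.Modules} (h₁ h₂ : B X n ⟶ F)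
    (h : ∀ j, h₁.app ⊤ (es n j) = h₂.app ⊤ (es n j)) : h₁ = h₂ := by
  refine biproduct.hom_ext' _ _ fun j => ?_
  exact hom_ext_unit _ _ (h j)

theorem gl_ext_es {F : X.Modules} (l₁ l₂ : Γ(B X n, ⊤) →ₗ[Γ(X, ⊤)] Γ(F, ⊤))
    (h : ∀ j, l₁ (es n j) = l₂ (es n j)) : l₁ = l₂ := by
  refine (eb n).ext fun j => ?_
  rw [eb_apply]; exact h j

variable (X)

/-- retracts of finite free modules -/
abbrev P₁ : ObjectProperty X.Modules := fun M =>
  ∃ (n : ℕ) (i : M ⟶ FlatMod.freeMod X n) (r : FlatMod.freeMod X n ⟶ M), i ≫ r = 𝟙 M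

/-- finite projective modules -/
abbrev P₂ : ObjectProperty (ModuleCat.{u} (Γ(X, ⊤))) := fun N =>
  Module.Finite (Γ(X, ⊤)) N ∧ Module.Projective (Γ(X, ⊤)) N

variable {X}

theorem exists_retract_B {M : X.Modules} (hM : P₁ X M) :
    ∃ (n : ℕ) (i : M ⟶ B X n) (r : B X n ⟶ M), i ≫ r = 𝟙 M := by
  obtain ⟨n, i, r, h⟩ := hM
  refine ⟨n, i ≫ (biproduct.isoCoproduct (fun _ : Fin n => Coh.structureModule X)).inv,
    (biproduct.isoCoproduct (fun _ : Fin n => Coh.structureModule X)).hom ≫ r, ?_⟩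
  rw [Category.assoc, Iso.inv_hom_id_assoc, h]

theorem gl_retract {M N : X.Modules} (i : M ⟶ N) (r : N ⟶ M) (h : i ≫ r = 𝟙 M) :
    (gl r).comp (gl i) = LinearMap.id := by
  rw [← gl_comp, h, gl_id]

theorem P₂_of_P₁ {M : X.Modules} (hM : P₁ X M) : P₂ X ((Γf X).obj M) := by
  obtain ⟨n, i, r, h⟩ := exists_retract_B hM
  have hri := gl_retract i r h
  haveI : Module.Free Γ(X, ⊤) Γ(B X n, ⊤) := Module.Free.of_basis (eb n)
  haveI : Module.Finite Γ(X, ⊤) Γ(B X n, ⊤) := Module.Finite.of_basis (eb n)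
  have hsurj : Function.Surjective (gl r) := fun m => ⟨gl i m, LinearMap.congr_fun hri m⟩
  exact ⟨Module.Finite.of_surjective (gl r) hsurj, Module.Projective.of_split (gl i) (gl r) hri⟩

/-- the global sections functor from retracts of finite free modules to finite projective modules -/
noncomputable def G (X : Scheme.{u}) : (P₁ X).FullSubcategory ⥤ (P₂ X).FullSubcategory :=
  (P₂ X).lift ((P₁ X).ι ⋙ Γf X) (fun M => P₂_of_P₁ M.property)

theorem gl_injective_of_P₁ {M M' : X.Modules} (hM : P₁ X M) (φ₁ φ₂ : M ⟶ M') (h : gl φ₁ = gl φ₂) : φ₁ = φ₂ := by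
  obtain ⟨n, i, r, hir⟩ := exists_retract_B hM
  have h1 : r ≫ φ₁ = r ≫ φ₂ := by
    refine hom_ext_es n _ _ fun j => ?_
    exact LinearMap.congr_fun h (r.app ⊤ (es n j))
  calc φ₁ = (i ≫ r) ≫ φ₁ := by rw [hir, Category.id_comp]
    _ = i ≫ (r ≫ φ₂) := by rw [Category.assoc, h1]
    _ = φ₂ := by rw [← Category.assoc, hir, Category.id_comp]

theorem gl_surjective_of_P₁ {M M' : X.Modules} (hM : P₁ X M) (g : Γ(M, ⊤) →ₗ[Γ(X, ⊤)] Γ(M', ⊤)) :
    ∃ φ : M ⟶ M', gl φ = g := by
  obtain ⟨n, i, r, hir⟩ := exists_retract_B hM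
  refine ⟨i ≫ ψ M' (fun j => g (r.app ⊤ (es n j))), ?_⟩
  have h1 : gl (ψ M' (fun j => g (r.app ⊤ (es n j)))) = g.comp (gl r) := by
    refine gl_ext_es n _ _ fun j => ?_
    rw [gl_apply, ψ_app_es]
    rfl
  rw [gl_comp, h1, LinearMap.comp_assoc, gl_retract i r hir, LinearMap.comp_id]

instance : (G X).Faithful where
  map_injective {M M'} φ₁ φ₂ h := by
    apply ObjectProperty.hom_ext
    apply gl_injective_of_P₁ M.property
    have h2 := congrArg (fun f => f.hom) h
    exact congrArg ModuleCat.Hom.hom h2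

instance : (G X).Full where
  map_surjective {M M'} g := by
    obtain ⟨φ, hφ⟩ := gl_surjective_of_P₁ (M' := M'.obj) M.property g.hom.hom
    refine ⟨ObjectProperty.homMk φ, ?_⟩
    apply ObjectProperty.hom_ext
    apply ModuleCat.hom_ext
    exact hφ

theorem exists_module_of_P₂ (N : ModuleCat.{u} (Γ(X, ⊤))) (hN : P₂ X N) :
    ∃ (M : X.Modules) (_ : P₁ X M), Nonempty (Γ(M, ⊤) ≃ₗ[Γ(X, ⊤)] N) := by
  obtain ⟨hfin, hproj⟩ := hN
  obtain ⟨n, p, hp⟩ := Module.Finite.exists_fin' Γ(X, ⊤) N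
  obtain ⟨s, hs⟩ := Module.projective_lifting_property p LinearMap.id hp
  let β : Γ(B X n, ⊤) ≃ₗ[Γ(X, ⊤)] (Fin n → Γ(X, ⊤)) := (eb n).equivFun
  let p' : Γ(B X n, ⊤) →ₗ[Γ(X, ⊤)] N := p.comp β.toLinearMap
  let s' : N →ₗ[Γ(X, ⊤)] Γ(B X n, ⊤) := β.symm.toLinearMap.comp s
  have hps : ∀ x, p' (s' x) = x := by
    intro x
    show p (β (β.symm (s x))) = x
    rw [LinearEquiv.apply_symm_apply]
    exact LinearMap.congr_fun hs x
  let E : B X n ⟶ B X n := ψ (B X n) (fun j => s' (p' (es n j)))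
  have hE : ∀ z, gl E z = s' (p' z) := by
    have : gl E = s'.comp p' := by
      refine gl_ext_es n _ _ fun j => ?_
      rw [gl_apply, ψ_app_es]
      rfl
    intro z
    rw [this]; rfl
  have hEE : E ≫ E = E := by
    refine hom_ext_es n _ _ fun j => ?_
    show gl E (gl E (es n j)) = gl E (es n j)
    rw [hE, hE, hps]
  obtain ⟨M, i, r, hir, hri⟩ := IsIdempotentComplete.idempotents_split (B X n) E hEE
  have hM : P₁ X M := by
    refine ⟨n, i ≫ (biproduct.isoCoproduct (fun _ : Fin n => Coh.structureModule X)).hom,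
      (biproduct.isoCoproduct (fun _ : Fin n => Coh.structureModule X)).inv ≫ r, ?_⟩
    rw [Category.assoc, Iso.hom_inv_id_assoc, hir]
  refine ⟨M, hM, ⟨LinearEquiv.ofLinear (p'.comp (gl i)) ((gl r).comp s') ?_ ?_⟩⟩
  · ext x
    show p' (gl i (gl r (s' x))) = x
    have h1 : gl i (gl r (s' x)) = gl E (s' x) := by
      rw [← hri]; rfl
    rw [h1, hE, hps, hps]
  · ext m
    show gl r (s' (p' (gl i m))) = m
    rw [← hE]
    have h1 : gl r (gl E (gl i m)) = gl (i ≫ E ≫ r) m := rfl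
    rw [h1, ← hri]
    have h2 : i ≫ (r ≫ i) ≫ r = 𝟙 M := by
      rw [Category.assoc, ← Category.assoc i r, hir, Category.id_comp]
    rw [h2]
    rfl

instance : (G X).EssSurj where
  mem_essImage N := by
    obtain ⟨M, hM, ⟨e⟩⟩ := exists_module_of_P₂ N.obj N.property
    exact ⟨⟨M, hM⟩, ⟨(P₂ X).isoMk (e.toModuleIso : ModuleCat.of Γ(X, ⊤) Γ(M, ⊤) ≅ ModuleCat.of Γ(X, ⊤) N.obj)⟩⟩

instance : (G X).IsEquivalence where


open AlgebraicGeometry CategoryTheory.Limits in
/-- For a scheme X with R = Γ(X, O_X), the full subcategory of O_X-modules which are retracts of a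
finite free O_X-module is equivalent to the full subcategory of R-modules which are finite and
projective (existence of an equivalence of categories). The published statement is for ringed
spaces; stated here for schemes. -/
theorem result {X : Scheme.{u}} :
    Nonempty ((ObjectProperty.FullSubcategory fun M : X.Modules =>
        ∃ (n : ℕ) (i : M ⟶ FlatMod.freeMod X n) (r : FlatMod.freeMod X n ⟶ M), i ≫ r = 𝟙 M) ≌
      (ObjectProperty.FullSubcategory fun N : ModuleCat.{u} (Γ(X, ⊤)) =>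
        Module.Finite (Γ(X, ⊤)) N ∧ Module.Projective (Γ(X, ⊤)) N)) := by
  exact ⟨(G X).asEquivalence⟩



end Groth.Agent.S0938
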