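import Groth.Statements.S0942
import Groth.Agent.Lib.Helper6.OverShriek
import Groth.Agent.Lib.Helper6.KInjAdj

set_option autoImplicit false
universe u
open CategoryTheory
open CohSite

namespace Groth.Agent.S0942

/-- Let U be an object of a site and I a K-injective complex of abelian sheaves. Then the restriction of
I to the site of objects over U (precomposition with the forgetful functor from the over category)
is a K-injective complex. -/
theorem result {C : Type u} [SmallCategory C] (J : GrothendieckTopology C) (U : C)
    (I : CochainComplex (Sheaf J AddCommGrpCat.{u}) ℤ) (hI : I.IsKInjective) :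
    CochainComplex.IsKInjective ((((Over.forget U).sheafPushforwardContinuous AddCommGrpCat.{u} (J.over U) J).mapHomologicalComplex
      (ComplexShape.up ℤ)).obj I) := by
  open Groth.Agent.Lib.Helper6 in
  classical
  let M := OverShriek.overForget U
  have hA : MultiAdj.SigmaMono M AddCommGrpCat.{u} := fun V X Y f hf => by
    haveI := hf
    exact OverShriek.mono_sigmaMap f
  let L := MultiAdj.shriek M (J.over U) J (A := AddCommGrpCat.{u})
  let adj := MultiAdj.adj M (J.over U) J (A := AddCommGrpCat.{u})
  haveI : L.Additive := MultiAdj.shriek_additive M (J.over U) J
  haveI : Limits.PreservesFiniteLimits L := MultiAdj.shriek_preservesFiniteLimits M (J.over U) J hA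
  haveI : Limits.PreservesFiniteColimits L := by
    have := adj.leftAdjoint_preservesColimits
    infer_instance
  haveI : L.PreservesHomology := { }
  exact KInjAdj.isKInjective_map_of_adj adj (fun K hK => KInjAdj.acyclic_map L K hK) I

end Groth.Agent.S0942
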