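import Groth.Statements.S0962
import Groth.Agent.Lib.Helper16.RM5
import Groth.Agent.Lib.Helper16.RS12

set_option autoImplicit false
universe u
open CategoryTheory
attribute [local instance] HasDerivedCategory.standard
open DCoh

namespace Groth.Agent.S0962

open Groth.Agent.Lib.Helper16.RM Groth.Agent.Lib.Helper16.RS Groth.Agent.Lib.Helper16.BiCx
  Groth.Agent.Lib.Helper16.KD

open AlgebraicGeometry in
/-- Schemes; second factor given by a K-flat complex representing a perfect object: if K in D(O_X) is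
perfect and L is a K-flat complex with perfect image in D(O_X), then K ⊗^L L is perfect (derived
tensor under its existence binder). -/
theorem result {X : Scheme.{u}} (L : CochainComplex X.Modules ℤ) (hL : DCoh.IsKFlat L)
    (hLp : DCoh.IsPerfect (DerivedCategory.Q.obj L)) [DCoh.HasLTensorCx L] (K : DCoh.D X) (hK : DCoh.IsPerfect K) :
    DCoh.IsPerfect ((DCoh.LTensorCx L).obj K) := by
  classical
  obtain ⟨K₀, ⟨eK⟩⟩ := exists_rep K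
  have e : DerivedCategory.Q.obj (T (DCoh.tensorBi (X := X)) K₀ L) ≅ (DCoh.LTensorCx L).obj K :=
    (LTensorCxIso' L hL K₀).symm ≪≫ (DCoh.LTensorCx L).mapIso eK
  refine isPerfect_of_iso e ?_
  rw [isPerfect_iff_isOn _ (T (DCoh.tensorBi (X := X)) K₀ L) (Iso.refl _)]
  intro x
  obtain ⟨V₁, hx₁, h₁⟩ := (isPerfect_iff_isOn K K₀ eK).1 hK x
  obtain ⟨V₂, hx₂, h₂⟩ := (isPerfect_iff_isOn _ L (Iso.refl _)).1 hLp x
  obtain ⟨V₁', hx₁', -, h₁'⟩ := IsOn.refine (Pr' := bfProp) V₁ x hx₁ h₁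
    (fun E₁ hE₁ => exists_isBoundedFree_restrict E₁ hE₁ ⟨x, hx₁⟩)
  obtain ⟨V₂', hx₂', -, h₂'⟩ := IsOn.refine (Pr' := bfProp) V₂ x hx₂ h₂
    (fun E₂ hE₂ => exists_isBoundedFree_restrict E₂ hE₂ ⟨x, hx₂⟩)
  have hK' : IsOn bfProp (V₁' ⊓ V₂').ι K₀ := h₁'.of_le inf_le_left
  have hL' : IsOn bfProp (V₁' ⊓ V₂').ι L := h₂'.of_le inf_le_right
  obtain ⟨E₁, hE₁, ⟨e₁⟩⟩ := hK'
  obtain ⟨E₂, hE₂, ⟨e₂⟩⟩ := hL'
  refine ⟨V₁' ⊓ V₂', ⟨hx₁', hx₂'⟩, T (DCoh.tensorBi (X := ↑(V₁' ⊓ V₂'))) E₁ E₂,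
    isStrictlyPerfect_of_isBoundedFree _ (isBoundedFree_T E₁ E₂ hE₁ hE₂), ?_⟩
  obtain ⟨e₃⟩ := nonempty_iso_Q_T (isKFlat_RCx (V₁' ⊓ V₂').ι L hL)
    (isKFlat_of_isStrictlyPerfect E₁ (isStrictlyPerfect_of_isBoundedFree _ hE₁)) e₁ e₂
  exact ⟨DerivedCategory.Q.mapIso (tensorRCxIso (V₁' ⊓ V₂').ι K₀ L).symm ≪≫ e₃⟩

end Groth.Agent.S0962
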