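import Groth.Statements.S0968
import Groth.Agent.Lib.Helper16.KD6

set_option autoImplicit false
universe u
open CategoryTheory
attribute [local instance] HasDerivedCategory.standard
open DCoh

namespace Groth.Agent.S0968

open AlgebraicGeometry CategoryTheory.Limits in
/-- For a bounded above complex E of flat O_X-modules whose image in D(O_X) has tor-amplitude in [a, b]
(derived-tensor form; the existence of – ⊗^L G for every O_X-module G is assumed, hypothesis hL),
the cokernel of the differential E^{a-1} -> E^a is a flat O_X-module. -/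
theorem result {X : Scheme.{u}} (E : CochainComplex X.Modules ℤ) (n : ℤ) (hn : E.IsStrictlyLE n)
    (hflat : ∀ i : ℤ, FlatMod.IsFlat (E.X i)) (hL : ∀ G : X.Modules, DCoh.HasLTensorMod G) (a b : ℤ)
    (hE : DCoh.HasTorAmplitudeIn a b (DCoh.toD X E)) :
    FlatMod.IsFlat (cokernel (E.d (a - 1) a)) := by
  have hK := Groth.Agent.Lib.Helper16.Stk.isKFlat_of_boundedAbove_flat E n hn hflat
  refine Groth.Agent.Lib.Helper16.KD.isFlat_cokernel_of_exactAt E a (hflat a) (fun G => ?_)
  haveI := hL G
  have h1 := hE G (a - 1) (Or.inl (by omega))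
  rw [HomologicalComplex.exactAt_iff_isZero_homology]
  exact IsZero.of_iso h1 ((Groth.Agent.Lib.Helper16.KD.HDQIso _ (a - 1)).symm ≪≫
    (DerivedCategory.homologyFunctor _ (a - 1)).mapIso
      (Groth.Agent.Lib.Helper16.KD.LTensorModIso G E hK).symm)

end Groth.Agent.S0968
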