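import Groth.Statements.S0972
import Groth.Agent.Lib.Helper14.ElemRepl
import Groth.Agent.Lib.Helper8.PC16

set_option autoImplicit false
universe v u
open CategoryTheory CategoryTheory.Limits
open CohDer

namespace Groth.Agent.S0972

open Groth.Agent.Lib.Helper14.ElemRepl

section

variable {A : Type u} [Category.{v} A] [Abelian A]

/-- the hypotheses on the dimension function -/
structure Hyp (d : A → ℕ∞) : Prop where
  hiso : ∀ ⦃X Y : A⦄, Nonempty (X ≅ Y) → d X = d Y
  h1 : ∀ X : A, ∃ (Y : A) (j : X ⟶ Y), Mono j ∧ d Y = 0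
  h2 : ∀ X Y : A, d (X ⊞ Y) ≤ max (d X) (d Y)
  h3 : ∀ S : ShortComplex A, S.ShortExact → d S.X₃ ≤ max (d S.X₁ - 1) (d S.X₂)

variable {d : A → ℕ∞} (H : Hyp d)

include H in
lemma exists_step (C : CochainComplex A ℤ) (n : ℤ) :
    ∃ (C' : CochainComplex A ℤ) (e : C ⟶ C'), QuasiIso e ∧
      (∀ i, i ≠ n → i ≠ n + 1 → IsIso (e.f i)) ∧ d (C'.X n) = 0 ∧
      d (C'.X (n + 1)) ≤ max (d (C.X n) - 1) (d (C.X (n + 1))) ∧
      (d (C.X n) = 0 → ∀ i, IsIso (e.f i)) := by
  by_cases h0 : d (C.X n) = 0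
  · refine ⟨C, 𝟙 C, inferInstance, fun i _ _ => ?_, h0, le_max_right _ _, fun _ i => ?_⟩
    all_goals (rw [HomologicalComplex.id_f]; infer_instance)
  · obtain ⟨M, j, hj, hM⟩ := H.h1 (C.X n)
    refine ⟨newC C n j, repl C n j, quasiIso_repl C n j,
      fun i hi0 hi1 => isIso_repl_f C n j i hi0 hi1, ?_,
      d_newC_X₁ d H.hiso H.h2 H.h3 C n j hM, fun h => absurd h h0⟩
    exact (H.hiso (nonempty_iso_newC_X₀ C n j)).trans hM

/-- the chosen step -/
noncomputable def stepObj (C : CochainComplex A ℤ) (n : ℤ) : CochainComplex A ℤ :=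
  (exists_step H C n).choose

noncomputable def stepMap (C : CochainComplex A ℤ) (n : ℤ) : C ⟶ stepObj H C n :=
  (exists_step H C n).choose_spec.choose

lemma step_spec (C : CochainComplex A ℤ) (n : ℤ) :
    QuasiIso (stepMap H C n) ∧
      (∀ i, i ≠ n → i ≠ n + 1 → IsIso ((stepMap H C n).f i)) ∧ d ((stepObj H C n).X n) = 0 ∧
      d ((stepObj H C n).X (n + 1)) ≤ max (d (C.X n) - 1) (d (C.X (n + 1))) ∧
      (d (C.X n) = 0 → ∀ i, IsIso ((stepMap H C n).f i)) :=
  (exists_step H C n).choose_spec.choose_spec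

include H in
lemma d_eq_of_isIso {C C' : CochainComplex A ℤ} (e : C ⟶ C') (i : ℤ) [IsIso (e.f i)] :
    d (C'.X i) = d (C.X i) :=
  (H.hiso ⟨asIso (e.f i)⟩).symm

/-- the pass: objects -/
noncomputable def passObj (C : CochainComplex A ℤ) (a : ℤ) : ℕ → CochainComplex A ℤ
  | 0 => C
  | t + 1 => stepObj H (passObj C a t) (a + t)

/-- the pass: maps -/
noncomputable def passMap (C : CochainComplex A ℤ) (a : ℤ) : ∀ t : ℕ, C ⟶ passObj H C a t
  | 0 => 𝟙 C
  | t + 1 => passMap C a t ≫ stepMap H (passObj H C a t) (a + t)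

lemma quasiIso_passMap (C : CochainComplex A ℤ) (a : ℤ) (t : ℕ) : QuasiIso (passMap H C a t) := by
  induction t with
  | zero => exact inferInstanceAs (QuasiIso (𝟙 C))
  | succ t ih =>
    have h2 := (step_spec H (passObj H C a t) (a + t)).1
    exact quasiIso_comp (hφ := ih) (hφ' := h2) _ _

lemma passMap_succ_f (C : CochainComplex A ℤ) (a : ℤ) (t : ℕ) (i : ℤ) :
    (passMap H C a (t + 1)).f i =
      (passMap H C a t).f i ≫ (stepMap H (passObj H C a t) (a + t)).f i := rfl

lemma isIso_passMap_f_of_lt (C : CochainComplex A ℤ) (a : ℤ) (t : ℕ) (i : ℤ)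
    (h : i < a ∨ a + t < i) : IsIso ((passMap H C a t).f i) := by
  induction t with
  | zero => exact inferInstanceAs (IsIso ((𝟙 C : C ⟶ C).f i))
  | succ t ih =>
    rw [passMap_succ_f]
    have i1 := ih (by push_cast at h; omega)
    have i2 := (step_spec H (passObj H C a t) (a + t)).2.1 i (by push_cast at h; omega)
      (by push_cast at h; omega)
    exact IsIso.comp_isIso' i1 i2

lemma d_passObj_eq (C : CochainComplex A ℤ) (a : ℤ) (t : ℕ) (i : ℤ)
    (h : i < a ∨ a + t < i) : d ((passObj H C a t).X i) = d (C.X i) := by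
  haveI := isIso_passMap_f_of_lt H C a t i h
  exact d_eq_of_isIso H (passMap H C a t) i

lemma d_passObj_eq_zero (C : CochainComplex A ℤ) (a : ℤ) (t : ℕ) (i : ℤ)
    (hi1 : a ≤ i) (hi2 : i < a + t) : d ((passObj H C a t).X i) = 0 := by
  induction t with
  | zero => exfalso; push_cast at hi2; omega
  | succ t ih =>
    by_cases hc : i = a + t
    · subst hc
      exact (step_spec H (passObj H C a t) (a + t)).2.2.1
    · have hlt : i < a + t := by push_cast at hi2; omega
      haveI := (step_spec H (passObj H C a t) (a + t)).2.1 i hc (by omega)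
      have := d_eq_of_isIso H (stepMap H (passObj H C a t) (a + t)) i
      exact this.trans (ih hlt)

lemma d_passObj_le (C : CochainComplex A ℤ) (a b : ℤ)
    (hz : ∀ i, a < i → i ≤ b → d (C.X i) = 0) (k : ℕ) (hk : d (C.X a) = k) (t : ℕ) (m : ℤ)
    (hm : m = a + t) (hb : m ≤ b) : d ((passObj H C a t).X m) ≤ ((k - t : ℕ) : ℕ∞) := by
  induction t generalizing m with
  | zero =>
    obtain rfl : m = a := by simpa using hm
    show d (C.X m) ≤ _
    rw [hk]
    simp
  | succ t ih =>
    have hm' : m = (a + t) + 1 := by push_cast at hm; omega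
    subst hm'
    have h4 := (step_spec H (passObj H C a t) (a + t)).2.2.2.1
    have h5 := ih (a + t) rfl (by omega)
    have h6 : d ((passObj H C a t).X (a + t + 1)) = 0 := by
      rw [d_passObj_eq H C a t (a + t + 1) (Or.inr (by omega))]
      exact hz _ (by omega) hb
    show d ((stepObj H (passObj H C a t) (a + t)).X (a + t + 1)) ≤ _
    refine h4.trans ?_
    rw [h6, max_eq_left zero_le]
    refine (tsub_le_tsub_right h5 1).trans ?_
    have : ((k - t : ℕ) : ℕ∞) - 1 = ((k - t - 1 : ℕ) : ℕ∞) := by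
      rw [ENat.natCast_sub]; rfl
    rw [this, Nat.sub_sub]

lemma isIso_passMap_f (C : CochainComplex A ℤ) (a : ℤ) (t : ℕ) (i : ℤ)
    (h : ∀ r : ℕ, r < t → (a + r = i - 1 ∨ a + r = i) → d ((passObj H C a r).X (a + r)) = 0) :
    IsIso ((passMap H C a t).f i) := by
  induction t with
  | zero => exact inferInstanceAs (IsIso ((𝟙 C : C ⟶ C).f i))
  | succ t ih =>
    rw [passMap_succ_f]
    have i1 := ih (fun r hr hc => h r (by omega) hc)
    have i2 : IsIso ((stepMap H (passObj H C a t) (a + t)).f i) := by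
      by_cases hc : a + t = i - 1 ∨ a + t = i
      · exact (step_spec H (passObj H C a t) (a + t)).2.2.2.2 (h t (by omega) hc) i
      · exact (step_spec H (passObj H C a t) (a + t)).2.1 i (by omega) (by omega)
    exact IsIso.comp_isIso' i1 i2

/-- the sequence of complexes -/
noncomputable def seqObj (K : CochainComplex A ℤ) : ℕ → CochainComplex A ℤ
  | 0 => K
  | s + 1 => passObj H (seqObj K s) (-((s : ℤ) + 1)) (2 * s + 2)

/-- the transition maps -/
noncomputable def seqMap (K : CochainComplex A ℤ) (s : ℕ) :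
    seqObj H K s ⟶ seqObj H K (s + 1) :=
  passMap H (seqObj H K s) (-((s : ℤ) + 1)) (2 * s + 2)

lemma quasiIso_seqMap (K : CochainComplex A ℤ) (s : ℕ) : QuasiIso (seqMap H K s) :=
  quasiIso_passMap H _ _ _

lemma d_seqObj_eq_zero (K : CochainComplex A ℤ) (s : ℕ) (i : ℤ) (hi1 : -(s : ℤ) ≤ i)
    (hi2 : i ≤ s - 1) : d ((seqObj H K s).X i) = 0 := by
  cases s with
  | zero => exfalso; push_cast at hi1 hi2; omega
  | succ s =>
    exact d_passObj_eq_zero H (seqObj H K s) (-((s : ℤ) + 1)) (2 * s + 2) i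
      (by push_cast at hi1; omega) (by push_cast at hi2 ⊢; omega)

lemma d_seqObj_eq (K : CochainComplex A ℤ) (s : ℕ) (i : ℤ) (hi : i < -(s : ℤ)) :
    d ((seqObj H K s).X i) = d (K.X i) := by
  induction s with
  | zero => rfl
  | succ s ih =>
    have h1 := d_passObj_eq H (seqObj H K s) (-((s : ℤ) + 1)) (2 * s + 2) i
      (Or.inl (by push_cast at hi; omega))
    exact h1.trans (ih (by push_cast at hi; omega))

lemma isIso_seqMap_f (K : CochainComplex A ℤ) (s : ℕ) (i : ℤ) (k : ℕ)
    (hk : d (K.X (-((s : ℤ) + 1))) = k) (hlev : -((s : ℤ) + 1) + k ≤ i - 1)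
    (hi : i ≤ s - 1) : IsIso ((seqMap H K s).f i) := by
  apply isIso_passMap_f
  intro r _ hc
  have hk' : d ((seqObj H K s).X (-((s : ℤ) + 1))) = k :=
    (d_seqObj_eq H K s _ (by omega)).trans hk
  have hz : ∀ i', -((s : ℤ) + 1) < i' → i' ≤ (s : ℤ) - 1 → d ((seqObj H K s).X i') = 0 :=
    fun i' h1 h2 => d_seqObj_eq_zero H K s i' (by omega) h2
  have h := d_passObj_le H (seqObj H K s) (-((s : ℤ) + 1)) ((s : ℤ) - 1) hz k hk' r
    (-((s : ℤ) + 1) + r) rfl (by omega)
  have hkr : k - r = 0 := by omega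
  rw [hkr] at h
  exact le_antisymm h zero_le

/-- iterated composites -/
noncomputable def seqComp (K : CochainComplex A ℤ) : ∀ s : ℕ, K ⟶ seqObj H K s
  | 0 => 𝟙 K
  | s + 1 => seqComp K s ≫ seqMap H K s

lemma quasiIso_seqComp (K : CochainComplex A ℤ) (s : ℕ) : QuasiIso (seqComp H K s) := by
  induction s with
  | zero => exact inferInstanceAs (QuasiIso (𝟙 K))
  | succ s ih => exact quasiIso_comp (hφ := ih) (hφ' := quasiIso_seqMap H K s) _ _

lemma isIso_homologyMap_of_isIso_f {G F : CochainComplex A ℤ} (φ : G ⟶ F) (i : ℤ)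
    (h1 : IsIso (φ.f (i - 1))) (h2 : IsIso (φ.f i)) (h3 : IsIso (φ.f (i + 1))) :
    IsIso (HomologicalComplex.homologyMap φ i) := by
  have h1' : IsIso (φ.f ((ComplexShape.up ℤ).prev i)) := by
    have : (ComplexShape.up ℤ).prev i = i - 1 := by simp
    rw [this]; exact h1
  have h3' : IsIso (φ.f ((ComplexShape.up ℤ).next i)) := by
    have : (ComplexShape.up ℤ).next i = i + 1 := by simp
    rw [this]; exact h3
  let ψ := (HomologicalComplex.shortComplexFunctor A (ComplexShape.up ℤ) i).map φ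
  have : Epi ψ.τ₁ := by change Epi (φ.f _); infer_instance
  have : IsIso ψ.τ₂ := by change IsIso (φ.f _); infer_instance
  have : Mono ψ.τ₃ := by change Mono (φ.f _); infer_instance
  have hq : ShortComplex.QuasiIso ψ := ShortComplex.quasiIso_of_epi_of_isIso_of_mono ψ
  exact hq.1

end


/-- Let d assign to each object of an abelian category a value in ℕ∞, invariant under isomorphism, such
that every object embeds into an object with d = 0, d of a binary biproduct is at most the maximum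
of the d of the summands, and in a short exact sequence 0 → X₁ → X₂ → X₃ → 0 one has d(X₃) ≤
max(d(X₁) - 1, d(X₂)). If K is a cochain complex with all d(Kⁿ) finite (the source allows the value
∞; we state the finite case) and n + d(Kⁿ) tending to -∞ as n → -∞, then K maps quasi-isomorphically
to a complex L all of whose terms have d = 0. -/
theorem result {A : Type u} [Category.{v} A] [Abelian A] (d : A → ℕ∞) (hiso : ∀ ⦃X Y : A⦄, Nonempty (X ≅ Y) → d X = d Y)
    (h1 : ∀ X : A, ∃ (Y : A) (ι : X ⟶ Y), Mono ι ∧ d Y = 0)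
    (h2 : ∀ X Y : A, d (X ⊞ Y) ≤ max (d X) (d Y))
    (h3 : ∀ S : ShortComplex A, S.ShortExact → d S.X₃ ≤ max (d S.X₁ - 1) (d S.X₂))
    (K : CochainComplex A ℤ) (hfin : ∀ n : ℤ, d (K.X n) ≠ ⊤)
    (hK : ∀ m : ℤ, ∃ N : ℤ, ∀ n : ℤ, n ≤ N → ∃ k : ℕ, d (K.X n) = k ∧ n + k ≤ m) :
    ∃ (L : CochainComplex A ℤ) (f : K ⟶ L), QuasiIso f ∧ ∀ n, d (L.X n) = 0 := by
  have H : Hyp d := ⟨hiso, h1, h2, h3⟩
  choose N hN using hK
  let Kf : ℤ → ℕ := fun i => (max (i + 1) (-(N (i - 1)) - 1)).toNat
  have hKf : ∀ (i : ℤ) (s : ℕ), Kf i ≤ s → IsIso ((seqMap H K s).f i) := by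
    intro i s hs
    have hs1 : i + 1 ≤ (s : ℤ) := by
      have : max (i + 1) (-(N (i - 1)) - 1) ≤ (s : ℤ) := by
        have := Int.toNat_le.1 hs
        exact this
      exact (le_max_left _ _).trans this
    have hs2 : -(N (i - 1)) - 1 ≤ (s : ℤ) := by
      have : max (i + 1) (-(N (i - 1)) - 1) ≤ (s : ℤ) := Int.toNat_le.1 hs
      exact (le_max_right _ _).trans this
    obtain ⟨k, hk, hlev⟩ := hN (i - 1) (-((s : ℤ) + 1)) (by omega)
    exact isIso_seqMap_f H K s i k hk hlev (by omega)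
  obtain ⟨G, ι, -, hι, -, hιiso, -⟩ :=
    Groth.Agent.Lib.Helper8.PC16.exists_colimit (seqMap H K) Kf hKf
      (M := K) (fun _ => 0) (fun _ => comp_zero)
  let f0 : K ⟶ G := ι 0
  have hcomp : ∀ s, seqComp H K s ≫ ι s = f0 := by
    intro s
    induction s with
    | zero => exact Category.id_comp _
    | succ s ih =>
      show (seqComp H K s ≫ seqMap H K s) ≫ ι (s + 1) = f0
      rw [Category.assoc, hι, ih]
  refine ⟨G, f0, ?_, ?_⟩
  · rw [quasiIso_iff]
    intro i
    rw [quasiIsoAt_iff_isIso_homologyMap]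
    let s := max (Kf (i - 1)) (max (Kf i) (Kf (i + 1)))
    have e1 : IsIso (HomologicalComplex.homologyMap (ι s) i) :=
      isIso_homologyMap_of_isIso_f (ι s) i
        (hιiso (i - 1) s (le_max_left _ _))
        (hιiso i s ((le_max_left _ _).trans (le_max_right _ _)))
        (hιiso (i + 1) s ((le_max_right _ _).trans (le_max_right _ _)))
    have e2 : IsIso (HomologicalComplex.homologyMap (seqComp H K s) i) := by
      have := quasiIso_seqComp H K s
      infer_instance
    rw [← hcomp s, HomologicalComplex.homologyMap_comp]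
    infer_instance
  · intro i
    let s := max (Kf i) (i.natAbs + 1)
    haveI := hιiso i s (le_max_left _ _)
    rw [d_eq_of_isIso H (ι s) i]
    have hs : (i.natAbs : ℤ) + 1 ≤ (s : ℤ) := by
      have : i.natAbs + 1 ≤ s := le_max_right _ _
      exact_mod_cast this
    exact d_seqObj_eq_zero H K s i (by omega) (by omega)

end Groth.Agent.S0972
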