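import Groth.Statements.S0976
import Mathlib.CategoryTheory.Triangulated.Orthogonal
import Mathlib.CategoryTheory.Triangulated.Subcategory

set_option autoImplicit false
universe v u
open CategoryTheory
open CohDer

namespace Groth.Agent.S0976

section Aux

open CategoryTheory.Pretriangulated CategoryTheory.Limits ObjectProperty

variable {D : Type u} [Category.{v} D] [Preadditive D] [Limits.HasZeroObject D] [HasShift D ℤ]
    [∀ n : ℤ, (shiftFunctor D n).Additive] [Pretriangulated D] [IsTriangulated D]

lemma swap_le (P : ObjectProperty D) [P.IsTriangulated] :
    extensionProduct P.rightOrthogonal P ≤ extensionProduct P P.rightOrthogonal := by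
  intro X ⟨B, A, f, g, h, hT, hB, hA⟩
  have hh : h = 0 := by
    have hB' : P.rightOrthogonal (B⟦(1 : ℤ)⟧) := P.rightOrthogonal.le_shift (1 : ℤ) _ hB
    exact hB' h hA
  obtain ⟨e, -, -⟩ := exists_iso_binaryBiproduct_of_distTriang _ hT hh
  have h1 : extensionProduct P P.rightOrthogonal (A ⊞ B) :=
    ⟨A, B, biprod.inl, biprod.snd, 0, binaryBiproductTriangle_distinguished A B, hA, hB⟩
  exact (extensionProduct P P.rightOrthogonal).prop_of_iso
    ((biprod.braiding A B) ≪≫ e.symm) h1

theorem aux (P : ObjectProperty D) [P.IsTriangulated] :
    ObjectProperty.IsTriangulated (fun X : D => ∃ (A B : D) (f : A ⟶ X) (g : X ⟶ B) (h : B ⟶ (shiftFunctor D (1 : ℤ)).obj A),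
      Triangle.mk f g h ∈ distinguishedTriangles ∧ P A ∧ P.rightOrthogonal B) := by
  change (extensionProduct P P.rightOrthogonal).IsTriangulated
  have hQQ : extensionProduct P.rightOrthogonal P.rightOrthogonal ≤ P.rightOrthogonal :=
    extensionProduct_le_of_isTriangulatedClosed₂ le_rfl le_rfl
  have hPP : extensionProduct P P ≤ P.isoClosure :=
    extensionProduct_le_of_isTriangulatedClosed₂' le_rfl le_rfl
  have key : extensionProduct (extensionProduct P P.rightOrthogonal)
      (extensionProduct P P.rightOrthogonal) ≤ extensionProduct P P.rightOrthogonal := by
    calc extensionProduct (extensionProduct P P.rightOrthogonal)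
          (extensionProduct P P.rightOrthogonal)
        = extensionProduct P (extensionProduct P.rightOrthogonal
            (extensionProduct P P.rightOrthogonal)) := extensionProduct_assoc _ _ _
      _ = extensionProduct P (extensionProduct (extensionProduct P.rightOrthogonal P)
            P.rightOrthogonal) := by rw [extensionProduct_assoc]
      _ ≤ extensionProduct P (extensionProduct (extensionProduct P P.rightOrthogonal)
            P.rightOrthogonal) :=
          monotone_extensionProduct_right _ (monotone_extensionProduct_left _ (swap_le P))
      _ = extensionProduct P (extensionProduct P (extensionProduct P.rightOrthogonal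
            P.rightOrthogonal)) := by rw [extensionProduct_assoc]
      _ ≤ extensionProduct P (extensionProduct P P.rightOrthogonal) :=
          monotone_extensionProduct_right _ (monotone_extensionProduct_right _ hQQ)
      _ = extensionProduct (extensionProduct P P) P.rightOrthogonal :=
          (extensionProduct_assoc _ _ _).symm
      _ ≤ extensionProduct P.isoClosure P.rightOrthogonal :=
          monotone_extensionProduct_left _ hPP
      _ = extensionProduct P P.rightOrthogonal := extensionProduct_isoClosure_left _ _
  have hzero : (extensionProduct P P.rightOrthogonal).ContainsZero := by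
    obtain ⟨Z, hZ, hPZ⟩ := P.exists_prop_of_containsZero
    exact ⟨Z, hZ, le_extensionProduct_left _ _ hPZ⟩
  exact
    { toContainsZero := hzero
      toIsStableUnderShift := inferInstance
      toIsTriangulatedClosed₂ :=
        ⟨fun T hT h₁ h₃ => le_isoClosure _ _ (key _ ⟨_, _, _, _, _, hT, h₁, h₃⟩)⟩ }

end Aux

open CategoryTheory.Pretriangulated in
/-- Let P be a triangulated subcategory of a triangulated category D (an object property containing
zero, stable under shifts, closed under extensions). Consider the class of objects X sitting in a
distinguished triangle A → X → B → A[1] with P A and B right orthogonal to P. This class is again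
stable under shifts and closed under extensions, i.e. satisfies two-out-of-three in distinguished
triangles. -/
theorem result {D : Type u} [Category.{v} D] [Preadditive D] [Limits.HasZeroObject D] [HasShift D ℤ]
    [∀ n : ℤ, (shiftFunctor D n).Additive] [Pretriangulated D] [IsTriangulated D]
    (P : ObjectProperty D) [P.IsTriangulated] :
    ObjectProperty.IsTriangulated (fun X : D => ∃ (A B : D) (f : A ⟶ X) (g : X ⟶ B) (h : B ⟶ (shiftFunctor D (1 : ℤ)).obj A),
      Triangle.mk f g h ∈ distinguishedTriangles ∧ P A ∧ P.rightOrthogonal B) := by
  exact aux P

end Groth.Agent.S0976
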