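import Groth.Statements.S0984
import Groth.Agent.Lib.Helper8.Brown.CG
import Mathlib.CategoryTheory.Preadditive.Yoneda.Limits

set_option autoImplicit false
universe v u
open CategoryTheory
open DerLim

namespace Groth.Agent.S0984

section Aux

open CategoryTheory.Limits CategoryTheory.Pretriangulated Opposite
open CategoryTheory.Pretriangulated.Opposite
open Groth.Agent.Lib.Helper8.Brown Groth.Agent.Lib.Helper8.Compact

theorem aux {D : Type u} [Category.{v} D] [Preadditive D] [Limits.HasZeroObject D] [HasShift D ℤ]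
    [∀ n : ℤ, (shiftFunctor D n).Additive] [Pretriangulated D] [IsTriangulated D] [HasCoproducts.{v} D]
    [HasColimitsOfShape (Discrete ℕ) D]
    {ι : Type v} (E : ι → D) (hc : ∀ i, CohDer.IsCompactObject (E i)) (hg : CohDer.Generates E) (X : D) :
    ∃ (K : ℕ → D) (f : ∀ n, K n ⟶ K (n + 1)) (i : ∀ n, K n ⟶ X),
      DerLim.IsHocolim K f X i ∧
      (∃ (κ : Type v) (a : κ → ι) (m : κ → ℤ), Nonempty (K 0 ≅ ∐ (fun k => (shiftFunctor D (m k)).obj (E (a k))))) ∧
      ∀ n, ∃ (κ : Type v) (a : κ → ι) (m : κ → ℤ) (y : (∐ fun k => (shiftFunctor D (m k)).obj (E (a k))) ⟶ K n)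
        (z : K (n + 1) ⟶ (shiftFunctor D (1 : ℤ)).obj (∐ fun k => (shiftFunctor D (m k)).obj (E (a k)))),
        Triangle.mk y (f n) z ∈ _root_.CategoryTheory.Pretriangulated.distinguishedTriangles := by
  let H : Dᵒᵖ ⥤ AddCommGrpCat.{v} := preadditiveYoneda.obj X
  let G := shiftFamily E
  have hP1 : P1 G := P1_shiftFamily_of_generates E hg
  have hP2 : P2 G := P2_of_FF _ (by
    rintro ⟨i, m⟩
    exact FF.le_shift m _ (FF_of_isCompactObject (hc i)))
  have hSh : ShClosed G := shClosed_shiftFamily E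
  have := preservesLimitsOfShape_nat H
  obtain ⟨aF, haF⟩ := exists_freeElt (H := H) G
  let S₀ : Stage H := ⟨freeObj (H := H) G, aF⟩
  have hsurj : ∀ k (b : H.obj (op (G k))), ∃ ξ : G k ⟶ S₀.obj, res H ξ S₀.elt = b := by
    intro k b
    exact ⟨Sigma.ι (fun x : (Σ k : ι × ℤ, H.obj (op (G k))) => G x.1) ⟨k, b⟩, haF ⟨k, b⟩⟩
  let T := goodTower G S₀ hsurj
  obtain ⟨h⟩ := exists_hocolim T
  let lam : h.L ⟶ X := h.a
  have hres : ∀ {Y : D} (α : Y ⟶ h.L), res H α h.a = α ≫ lam := fun α => rfl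
  have hbij := fun k => key_bijective hP2 hSh h k
  have hiso : IsIso lam := isIso_of_bijective hP1 hSh lam (fun k => hbij k)
  refine ⟨T.X, T.s, fun n => h.i n ≫ lam, ⟨inv lam ≫ h.c, ?_⟩, ?_, ?_⟩
  · have hdesc : Sigma.desc (fun n => h.i n ≫ lam) = h.π ≫ lam := by
      apply Sigma.hom_ext
      intro n
      simp [Hocolim.i]
    refine isomorphic_distinguished _ h.dist _
      (Triangle.isoMk _ _ (Iso.refl (∐ T.X)) (Iso.refl (∐ T.X)) (asIso lam).symm ?_ ?_ ?_)
    · change (𝟙 (∐ T.X) - shiftMap T.X T.s) ≫ 𝟙 _ = 𝟙 _ ≫ (𝟙 (∐ T.X) - shiftMap T.X T.s)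
      rw [Category.comp_id, Category.id_comp]
    · change Sigma.desc (fun n => h.i n ≫ lam) ≫ inv lam = 𝟙 _ ≫ h.π
      rw [hdesc, Category.assoc, IsIso.hom_inv_id, Category.comp_id, Category.id_comp]
    · change (inv lam ≫ h.c) ≫ (𝟙 (∐ T.X))⟦(1 : ℤ)⟧' = inv lam ≫ h.c
      rw [CategoryTheory.Functor.map_id, Category.comp_id]
  · exact ⟨(Σ k : ι × ℤ, H.obj (op (G k))), fun x => x.1.1, fun x => x.1.2, ⟨Iso.refl _⟩⟩
  · intro n
    obtain ⟨α, g, y, z, hT⟩ := T.tri n
    exact ⟨α, fun x => (g x).1, fun x => (g x).2, y, z, hT⟩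

end Aux

open CategoryTheory.Limits CategoryTheory.Pretriangulated in
/-- Let D be a triangulated category with all small direct sums and E a small family of compact objects
which generates D. Every object X of D is a homotopy colimit of a sequential system X₀ → X₁ → X₂ → …
in which X₀ is a direct sum of shifts of members of E and each transition map Xₙ → Xₙ₊₁ sits in a
distinguished triangle Yₙ → Xₙ → Xₙ₊₁ → Yₙ[1] with Yₙ a direct sum of shifts of members of E. -/
theorem result {D : Type u} [Category.{v} D] [Preadditive D] [Limits.HasZeroObject D] [HasShift D ℤ]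
    [∀ n : ℤ, (shiftFunctor D n).Additive] [Pretriangulated D] [IsTriangulated D] [HasCoproducts.{v} D]
    [HasColimitsOfShape (Discrete ℕ) D]
    {ι : Type v} (E : ι → D) (hc : ∀ i, CohDer.IsCompactObject (E i)) (hg : CohDer.Generates E) (X : D) :
    ∃ (K : ℕ → D) (f : ∀ n, K n ⟶ K (n + 1)) (i : ∀ n, K n ⟶ X),
      DerLim.IsHocolim K f X i ∧
      (∃ (κ : Type v) (a : κ → ι) (m : κ → ℤ), Nonempty (K 0 ≅ ∐ (fun k => (shiftFunctor D (m k)).obj (E (a k))))) ∧
      ∀ n, ∃ (κ : Type v) (a : κ → ι) (m : κ → ℤ) (y : (∐ fun k => (shiftFunctor D (m k)).obj (E (a k))) ⟶ K n)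
        (z : K (n + 1) ⟶ (shiftFunctor D (1 : ℤ)).obj (∐ fun k => (shiftFunctor D (m k)).obj (E (a k)))),
        Triangle.mk y (f n) z ∈ distinguishedTriangles := by
  exact aux E hc hg X

end Groth.Agent.S0984
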