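import Groth.Statements.S0978
import Groth.Agent.S0984
import Groth.Agent.Lib.Helper8.Compact4
import Mathlib.CategoryTheory.Triangulated.Orthogonal

set_option autoImplicit false
universe v u
open CategoryTheory
open CohDer

namespace Groth.Agent.S0978

section Aux

open CategoryTheory.Limits CategoryTheory.Pretriangulated
open Groth.Agent.Lib.Helper8.Compact ZeroObject

variable {D : Type u} [Category.{v} D] [Preadditive D] [Limits.HasZeroObject D] [HasShift D ℤ]
    [∀ n : ℤ, (shiftFunctor D n).Additive] [Pretriangulated D] [IsTriangulated D]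

/-- Objects with no nonzero maps to any shift of `K`. -/
def Orth (K : D) : ObjectProperty D := fun Y => ∀ (n : ℤ) (f : Y ⟶ K⟦n⟧), f = 0

instance (K : D) : (Orth K).IsStableUnderRetracts where
  of_retract := by
    intro Y Y' r hY' n f
    have : f = r.i ≫ r.r ≫ f := by simp
    rw [this, hY' n (r.r ≫ f), comp_zero]

instance (K : D) : (Orth K).ContainsZero where
  exists_zero := ⟨0, isZero_zero _, fun n f => (isZero_zero D).eq_of_src f 0⟩

instance (K : D) : (Orth K).IsStableUnderShift ℤ where
  isStableUnderShiftBy a := ⟨by
    intro Y hY n f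
    let e := shiftFunctorAdd' D (n - a) a n (by omega)
    obtain ⟨g, hg⟩ := (shiftFunctor D a).map_surjective (f ≫ e.hom.app K)
    rw [hY (n - a) g, Functor.map_zero] at hg
    rw [← cancel_mono (e.hom.app K), ← hg, zero_comp]⟩

instance (K : D) : (Orth K).IsTriangulatedClosed₂ := by
  apply ObjectProperty.IsTriangulatedClosed₂.mk'
  intro T hT h₁ h₃ n f
  obtain ⟨g, hg⟩ := Triangle.yoneda_exact₂ T hT f (h₁ n _)
  rw [hg, h₃ n g, comp_zero]

instance (K : D) : (Orth K).IsTriangulated where

theorem aux [HasCoproducts.{v} D]
    [HasColimitsOfShape (Discrete ℕ) D]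
    (E : D) (hE : CohDer.IsCompactObject E) :
    CohDer.Generates (fun _ : Unit => E) ↔
      (CohDer.IsCompactlyGenerated D ∧ ∀ X : D, CohDer.IsCompactObject X → ObjectProperty.triangEnvelope (fun Y : D => Y = E) X) := by
  constructor
  · intro hg
    have hg' : CohDer.Generates (fun _ : PUnit.{v + 1} => E) :=
      fun K hK => hg K (fun _ n f => hK PUnit.unit n f)
    refine ⟨⟨PUnit.{v + 1}, fun _ => E, fun _ => hE, hg'⟩, fun X hX => ?_⟩
    obtain ⟨K, f, i, hL, h0, hstep⟩ :=
      Groth.Agent.S0984.result (fun _ : PUnit.{v + 1} => E) (fun _ => hE) hg' X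
    have hXF := FF_of_isCompactObject hX
    obtain ⟨n, ψ, hψ⟩ := hXF.factors_through_stage hL (𝟙 X)
    obtain ⟨s, E'', g, h', henv, hgh⟩ :=
      main (fun _ : PUnit.{v + 1} => E) (fun _ => hE) K f h0 hstep n X hXF ψ
    have henv' : ObjectProperty.triangEnvelope (fun Y : D => Y = E) E'' :=
      ObjectProperty.monotone_triangEnvelope (fun Y ⟨_, _, h⟩ => h) _ henv
    exact ObjectProperty.prop_of_retract _
      ⟨g, h' ≫ i n, by rw [← Category.assoc, hgh, hψ]⟩ henv'
  · rintro ⟨⟨ι, E', hc', hg'⟩, henv⟩ K hK
    apply hg'
    intro j n f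
    have h1 : (fun Y : D => Y = E) ≤ Orth K := by
      rintro Y rfl n f
      exact hK () n f
    have h2 : ObjectProperty.triangEnvelope (fun Y : D => Y = E) ≤ Orth K :=
      (ObjectProperty.triangEnvelope_le_iff _).2 h1
    exact h2 _ (henv _ (hc' j)) n f

end Aux

open CategoryTheory.Limits in
/-- Let D be a triangulated category with all small direct sums and E a compact object. Then E generates
D (an object admitting only zero maps from all shifts of E is zero) if and only if D is compactly
generated and every compact object lies in the triangulated envelope of E (objects reachable from E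
by shifts, finite sums, direct summands and extensions). -/
theorem result {D : Type u} [Category.{v} D] [Preadditive D] [Limits.HasZeroObject D] [HasShift D ℤ]
    [∀ n : ℤ, (shiftFunctor D n).Additive] [Pretriangulated D] [IsTriangulated D] [HasCoproducts.{v} D]
    [HasColimitsOfShape (Discrete ℕ) D]
    (E : D) (hE : CohDer.IsCompactObject E) :
    CohDer.Generates (fun _ : Unit => E) ↔
      (CohDer.IsCompactlyGenerated D ∧ ∀ X : D, CohDer.IsCompactObject X → ObjectProperty.triangEnvelope (fun Y : D => Y = E) X) := by
  exact aux E hE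

end Groth.Agent.S0978
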