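import Groth.Statements.S0982
import Mathlib.Algebra.Homology.DerivedCategory.TStructure

set_option autoImplicit false
universe w v u
open CategoryTheory CategoryTheory.Limits
open CohDer

namespace Groth.Agent.S0982

theorem eq_zero_of_strict {A : Type u} [Category.{v} A] [Abelian A]
    {X Y : CochainComplex A ℤ} (a : ℤ) [X.IsStrictlyLE a] [Y.IsStrictlyGE a] (u : X ⟶ Y)
    (hu : HomologicalComplex.homologyMap u a = 0) : u = 0 := by
  ext i
  by_cases hi : i = a
  · subst hi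
    have h1 : X.iCycles i ≫ u.f i ≫ Y.pOpcycles i = 0 := by
      rw [← HomologicalComplex.cyclesMap_i_assoc, ← HomologicalComplex.homology_π_ι,
        ← HomologicalComplex.homologyπ_naturality_assoc, hu, zero_comp, comp_zero]
    have : IsIso (X.iCycles i) := X.isIso_iCycles i (i + 1) (by simp)
      ((X.isZero_of_isStrictlyLE i (i + 1) (by omega)).eq_of_tgt _ _)
    have : IsIso (Y.pOpcycles i) := Y.isIso_pOpcycles (i - 1) i (by simp)
      ((Y.isZero_of_isStrictlyGE i (i - 1) (by omega)).eq_of_src _ _)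
    rw [← cancel_epi (X.iCycles i), ← cancel_mono (Y.pOpcycles i)]
    simpa using h1
  · rcases lt_or_gt_of_ne hi with h | h
    · exact (Y.isZero_of_isStrictlyGE a i h).eq_of_tgt _ _
    · exact (X.isZero_of_isStrictlyLE a i h).eq_of_src _ _

/-- Let K : ℕ ⥤ CochainComplex A ℤ be a sequence of cochain maps K₀ → K₁ → K₂ → … in an abelian category
with Hⁱ(K₀) = 0 for i > 0 and such that for every j < n the map H⁻ʲ(Kⱼ) → H⁻ʲ(Kⱼ₊₁) is zero. Then in
the derived category the composite K₀ → Kₙ factors through the canonical truncation τ_{≤ -n}Kₙ → Kₙ. -/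
theorem result {A : Type u} [Category.{v} A] [Abelian A] [HasDerivedCategory.{w} A]
    (K : ℕ ⥤ CochainComplex A ℤ) (n : ℕ)
    (h0 : ∀ i : ℤ, 0 < i → IsZero ((K.obj 0).homology i))
    (hz : ∀ j : ℕ, j < n → HomologicalComplex.homologyMap (K.map (homOfLE (Nat.le_succ j))) (-(j : ℤ)) = 0) :
    ∃ φ : DerivedCategory.Q.obj (K.obj 0) ⟶ DerivedCategory.Q.obj ((K.obj n).truncLE (-(n : ℤ))),
      φ ≫ DerivedCategory.Q.map ((K.obj n).ιTruncLE (-(n : ℤ))) = DerivedCategory.Q.map (K.map (homOfLE (Nat.zero_le n))) := by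
  induction n with
  | zero =>
    have : (K.obj 0).IsLE (-((0 : ℕ) : ℤ)) := by
      rw [CochainComplex.isLE_iff]
      intro i hi
      rw [HomologicalComplex.exactAt_iff_isZero_homology]
      exact h0 i (by simpa using hi)
    refine ⟨inv (DerivedCategory.Q.map ((K.obj 0).ιTruncLE (-((0 : ℕ) : ℤ)))), ?_⟩
    rw [IsIso.inv_hom_id]
    have : homOfLE (Nat.zero_le 0) = 𝟙 (0 : ℕ) := Subsingleton.elim _ _
    rw [this, K.map_id, CategoryTheory.Functor.map_id]
  | succ n ih =>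
    obtain ⟨φ, hφ⟩ := ih (fun j hj => hz j (by omega))
    have hab : -(((n + 1 : ℕ)) : ℤ) + 1 = -((n : ℕ) : ℤ) := by push_cast; omega
    have hses := (K.obj (n + 1)).shortComplexTruncLE_shortExact (-(((n + 1 : ℕ)) : ℤ))
    have hT := DerivedCategory.triangleOfSES_distinguished hses
    have hf0 := hz n (Nat.lt_succ_self n)
    obtain ⟨f, hf⟩ : ∃ f : K.obj n ⟶ K.obj (n + 1), f = K.map (homOfLE (Nat.le_succ n)) :=
      ⟨_, rfl⟩
    rw [← hf] at hf0
    have hu : (K.obj n).ιTruncLE (-((n : ℕ) : ℤ)) ≫ f ≫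
        (K.obj (n + 1)).πTruncGE (-((n : ℕ) : ℤ)) = 0 := by
      apply eq_zero_of_strict (-((n : ℕ) : ℤ))
      rw [HomologicalComplex.homologyMap_comp, HomologicalComplex.homologyMap_comp, hf0,
        zero_comp, comp_zero]
    have hg : DerivedCategory.Q.map ((K.obj n).ιTruncLE (-((n : ℕ) : ℤ)) ≫ f) ≫
        DerivedCategory.Q.map ((K.obj (n + 1)).shortComplexTruncLE (-(((n + 1 : ℕ)) : ℤ))).g
          = 0 := by
      rw [← cancel_mono (DerivedCategory.Q.map
        ((K.obj (n + 1)).shortComplexTruncLEX₃ToTruncGE (-(((n + 1 : ℕ)) : ℤ)) (-((n : ℕ) : ℤ)) hab))]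
      have key := (K.obj (n + 1)).g_shortComplexTruncLEX₃ToTruncGE (-(((n + 1 : ℕ)) : ℤ))
        (-((n : ℕ) : ℤ)) hab
      have e1 : DerivedCategory.Q.map (((K.obj n).ιTruncLE (-((n : ℕ) : ℤ)) ≫ f) ≫
          (K.obj (n + 1)).πTruncGE (-((n : ℕ) : ℤ))) = 0 := by
        rw [Category.assoc, hu, Functor.map_zero]
      rw [zero_comp, ← e1, ← key]
      simp only [Functor.map_comp, Category.assoc]
      congr 2
      exact (DerivedCategory.Q.map_comp _ _).symm
    obtain ⟨ψ, hψ⟩ : ∃ ψ : DerivedCategory.Q.obj ((K.obj n).truncLE (-((n : ℕ) : ℤ))) ⟶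
        DerivedCategory.Q.obj ((K.obj (n + 1)).truncLE (-(((n + 1 : ℕ)) : ℤ))),
        DerivedCategory.Q.map ((K.obj n).ιTruncLE (-((n : ℕ) : ℤ)) ≫ f) =
          ψ ≫ DerivedCategory.Q.map ((K.obj (n + 1)).ιTruncLE (-(((n + 1 : ℕ)) : ℤ))) :=
      Pretriangulated.Triangle.coyoneda_exact₂ _ hT _ hg
    refine ⟨φ ≫ ψ, ?_⟩
    rw [Category.assoc, ← hψ, Functor.map_comp, ← Category.assoc, hφ, ← Functor.map_comp, hf,
      ← Functor.map_comp]
    rfl

end Groth.Agent.S0982
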