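import Groth.Statements.S0983
import Mathlib

set_option autoImplicit false
universe v u
open CategoryTheory
open CohDer

namespace Groth.Agent.S0983

open CategoryTheory.Pretriangulated in


open CategoryTheory.Pretriangulated in
/-- In a triangulated category, a commutative square f ≫ v = u ≫ f' (with f : X ⟶ Y, f' : X' ⟶ Y', u : X
⟶ X', v : Y ⟶ Y') extends to a diagram with three distinguished rows (X, Y, Z), (X', Y', Z'), (X'',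
Y'', Z'') and three distinguished columns (X, X', X''), (Y, Y', Y''), (Z, Z', Z''), in which all
squares commute except the one formed by the third morphisms of the last row and last column, which
anticommutes; the fourth row and column are the shifts of the first ones. -/
theorem result {D : Type u} [Category.{v} D] [Preadditive D] [Limits.HasZeroObject D] [HasShift D ℤ]
    [∀ n : ℤ, (shiftFunctor D n).Additive] [Pretriangulated D] [IsTriangulated D]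
    {X Y X' Y' : D} (f : X ⟶ Y) (f' : X' ⟶ Y') (u : X ⟶ X') (v : Y ⟶ Y') (comm : f ≫ v = u ≫ f') :
    ∃ (Z Z' X'' Y'' Z'' : D) (g : Y ⟶ Z) (h : Z ⟶ (shiftFunctor D (1 : ℤ)).obj X)
      (g' : Y' ⟶ Z') (h' : Z' ⟶ (shiftFunctor D (1 : ℤ)).obj X')
      (f'' : X'' ⟶ Y'') (g'' : Y'' ⟶ Z'') (h'' : Z'' ⟶ (shiftFunctor D (1 : ℤ)).obj X'')
      (u' : X' ⟶ X'') (u'' : X'' ⟶ (shiftFunctor D (1 : ℤ)).obj X)
      (v' : Y' ⟶ Y'') (v'' : Y'' ⟶ (shiftFunctor D (1 : ℤ)).obj Y)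
      (w : Z ⟶ Z') (w' : Z' ⟶ Z'') (w'' : Z'' ⟶ (shiftFunctor D (1 : ℤ)).obj Z),
      Triangle.mk f g h ∈ distinguishedTriangles ∧ Triangle.mk f' g' h' ∈ distinguishedTriangles ∧
      Triangle.mk f'' g'' h'' ∈ distinguishedTriangles ∧
      Triangle.mk u u' u'' ∈ distinguishedTriangles ∧ Triangle.mk v v' v'' ∈ distinguishedTriangles ∧
      Triangle.mk w w' w'' ∈ distinguishedTriangles ∧
      g ≫ w = v ≫ g' ∧ h ≫ (shiftFunctor D (1 : ℤ)).map u = w ≫ h' ∧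
      f' ≫ v' = u' ≫ f'' ∧ g' ≫ w' = v' ≫ g'' ∧ h' ≫ (shiftFunctor D (1 : ℤ)).map u' = w' ≫ h'' ∧
      f'' ≫ v'' = u'' ≫ (shiftFunctor D (1 : ℤ)).map f ∧ g'' ≫ w'' = v'' ≫ (shiftFunctor D (1 : ℤ)).map g ∧
      h'' ≫ (shiftFunctor D (1 : ℤ)).map u'' = -(w'' ≫ (shiftFunctor D (1 : ℤ)).map h) := by
  obtain ⟨Z, g, h, hf⟩ := distinguished_cocone_triangle f
  obtain ⟨Z', g', h', hf'⟩ := distinguished_cocone_triangle f'
  obtain ⟨X'', u', u'', hu⟩ := distinguished_cocone_triangle u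
  obtain ⟨Y'', v', v'', hv⟩ := distinguished_cocone_triangle v
  obtain ⟨A, p, q, hd⟩ := distinguished_cocone_triangle (f ≫ v)
  have hd' : Triangle.mk (u ≫ f') p q ∈ distTriang D := by rw [← comm]; exact hd
  have o₁ := Triangulated.someOctahedron rfl hf hv hd
  have o₂ := Triangulated.someOctahedron rfl hu hf' hd'
  -- the third row
  obtain ⟨Z'', g'', h'', hf''⟩ := distinguished_cocone_triangle (o₂.m₁ ≫ o₁.m₃)
  have hβ : Triangle.mk o₁.m₃ (v'' ≫ g⟦(1 : ℤ)⟧') (-o₁.m₁⟦(1 : ℤ)⟧') ∈ distTriang D :=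
    rot_of_distTriang _ o₁.mem
  have o₃ := Triangulated.someOctahedron rfl o₂.mem hβ hf''
  have hw : Triangle.mk (o₁.m₁ ≫ o₂.m₃) o₃.m₁ o₃.m₃ ∈ distTriang D := by
    rw [rotate_distinguished_triangle]
    have := o₃.mem
    have e : (-o₁.m₁⟦(1 : ℤ)⟧') ≫ o₂.m₃⟦(1 : ℤ)⟧' = -(o₁.m₁ ≫ o₂.m₃)⟦(1 : ℤ)⟧' := by
      rw [Preadditive.neg_comp, Functor.map_comp]
    rw [e] at this
    exact this
  refine ⟨Z, Z', X'', Y'', Z'', g, h, g', h', o₂.m₁ ≫ o₁.m₃, g'', h'', u', u'', v', v'',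
    o₁.m₁ ≫ o₂.m₃, o₃.m₁, o₃.m₃, hf, hf', hf'', hu, hv, hw, ?_, ?_, ?_, ?_, ?_, ?_, ?_, ?_⟩
  · -- g ≫ w = v ≫ g'
    rw [o₁.comm₁_assoc, o₂.comm₃]
  · -- h ≫ u[1] = w ≫ h'
    rw [Category.assoc, ← o₂.comm₄, o₁.comm₂_assoc]
  · -- f' ≫ v' = u' ≫ f''
    rw [o₂.comm₁_assoc, o₁.comm₃]
  · -- g' ≫ w' = v' ≫ g''
    calc g' ≫ o₃.m₁ = (p ≫ o₂.m₃) ≫ o₃.m₁ := congrArg (· ≫ o₃.m₁) o₂.comm₃.symm
      _ = p ≫ o₁.m₃ ≫ g'' := by rw [Category.assoc, o₃.comm₁]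
      _ = v' ≫ g'' := by rw [o₁.comm₃_assoc]
  · -- h' ≫ u'[1] = w' ≫ h''
    exact o₃.comm₂.symm
  · -- f'' ≫ v'' = u'' ≫ f[1]
    rw [Category.assoc, ← o₁.comm₄, o₂.comm₂_assoc]
  · -- g'' ≫ w'' = v'' ≫ g[1]
    exact o₃.comm₃
  · -- h'' ≫ u''[1] = -(w'' ≫ h[1])
    have h4 := o₃.comm₄
    have e1 : u''⟦(1 : ℤ)⟧' = o₂.m₁⟦(1 : ℤ)⟧' ≫ q⟦(1 : ℤ)⟧' := by
      rw [← Functor.map_comp, o₂.comm₂]
    have e2 : h⟦(1 : ℤ)⟧' = o₁.m₁⟦(1 : ℤ)⟧' ≫ q⟦(1 : ℤ)⟧' := by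
      rw [← Functor.map_comp, o₁.comm₂]
    rw [e1, e2, ← Category.assoc, ← Category.assoc, h4, Preadditive.comp_neg,
      Preadditive.neg_comp]

end Groth.Agent.S0983
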