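import Groth.Statements.S0985
import Groth.Agent.S0986
import Mathlib.Algebra.Homology.DerivedCategory.ShortExact

set_option autoImplicit false
universe w v u
open CategoryTheory CategoryTheory.Limits
open DerLim

namespace Groth.Agent.S0985

section Aux

open CategoryTheory.Pretriangulated

instance hasExactColimitsOfShape_complex {A : Type u} [Category.{v} A] [Abelian A]
    [HasColimitsOfShape ℕ A] [HasExactColimitsOfShape ℕ A] {ι : Type*} (c : ComplexShape ι) :
    HasExactColimitsOfShape ℕ (HomologicalComplex A c) := by
  constructor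
  constructor
  intro J _ _
  apply HomologicalComplex.preservesLimitsOfShape_of_eval
  intro p
  have e := preservesColimitNatIso (J := ℕ) (HomologicalComplex.eval A c p)
  haveI : PreservesFiniteLimits (colim (J := ℕ) (C := A)) :=
    HasExactColimitsOfShape.preservesFiniteLimits
  haveI : PreservesLimitsOfShape J
      ((Functor.whiskeringRight ℕ (HomologicalComplex A c) A).obj (HomologicalComplex.eval A c p) ⋙ colim) :=
    inferInstance
  exact preservesLimitsOfShape_of_natIso e.symm

theorem aux {A : Type u} [Category.{v} A] [Abelian A] [HasDerivedCategory.{w} A]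
    [HasColimitsOfShape ℕ A] [HasExactColimitsOfShape ℕ A]
    (L : ℕ ⥤ CochainComplex A ℤ) [HasCoproduct L.obj] [PreservesColimit (Discrete.functor L.obj) (DerivedCategory.Q (C := A))]
    [HasCoproduct (fun n => DerivedCategory.Q.obj (L.obj n))] :
    DerLim.IsHocolim (fun n => DerivedCategory.Q.obj (L.obj n)) (fun n => DerivedCategory.Q.map (L.map (homOfLE (Nat.le_succ n))))
      (DerivedCategory.Q.obj (colimit L)) (fun n => DerivedCategory.Q.map (colimit.ι L n)) := by
  obtain ⟨w, hSE⟩ := Groth.Agent.S0986.result L
  have hT := DerivedCategory.triangleOfSES_distinguished hSE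
  let Q := DerivedCategory.Q (C := A)
  let K : ℕ → DerivedCategory A := fun n => Q.obj (L.obj n)
  let f : ∀ n, K n ⟶ K (n + 1) := fun n => Q.map (L.map (homOfLE (Nat.le_succ n)))
  let fL : ∀ n, L.obj n ⟶ L.obj (n + 1) := fun n => L.map (homOfLE (Nat.le_succ n))
  let σ : ∐ K ⟶ Q.obj (∐ L.obj) := sigmaComparison Q L.obj
  have hiso : IsIso σ := by
    change IsIso (sigmaComparison Q L.obj)
    infer_instance
  have hσ : ∀ n, Sigma.ι K n ≫ σ = Q.map (Sigma.ι L.obj n) := fun n =>
    ι_comp_sigmaComparison Q L.obj n
  let δ := DerivedCategory.triangleOfSESδ hSE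
  refine ⟨δ ≫ (shiftFunctor (DerivedCategory A) (1 : ℤ)).map (inv σ), ?_⟩
  refine isomorphic_distinguished _ hT _ ?_
  refine Triangle.isoMk _ _ (@asIso _ _ _ _ σ hiso) (@asIso _ _ _ _ σ hiso) (Iso.refl _) ?_ ?_ ?_
  · change (𝟙 (∐ K) - shiftMap K f) ≫ σ = σ ≫ Q.map (𝟙 (∐ L.obj) - shiftMap L.obj fL)
    apply Sigma.hom_ext
    intro n
    rw [Preadditive.sub_comp, Preadditive.comp_sub, Category.id_comp, Functor.map_sub,
      Preadditive.comp_sub, Preadditive.comp_sub, CategoryTheory.Functor.map_id, Category.comp_id]
    congr 1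
    unfold shiftMap
    rw [Sigma.ι_desc_assoc, reassoc_of% (hσ n), ← Q.map_comp, Sigma.ι_desc, Category.assoc, hσ,
      Q.map_comp]
  · change Sigma.desc (fun n => Q.map (colimit.ι L n)) ≫ 𝟙 _ =
      σ ≫ Q.map (Sigma.desc (fun n => colimit.ι L n))
    rw [Category.comp_id]
    exact (sigmaComparison_map_desc Q L.obj _ _).symm
  · change (δ ≫ (shiftFunctor (DerivedCategory A) (1 : ℤ)).map (inv σ)) ≫
      (shiftFunctor (DerivedCategory A) (1 : ℤ)).map σ = 𝟙 _ ≫ δ
    rw [Category.assoc, ← Functor.map_comp, IsIso.inv_hom_id, CategoryTheory.Functor.map_id,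
      Category.comp_id, Category.id_comp]

end Aux

/-- Let A be an abelian category in which colimits of sequences ℕ ⥤ A exist and are exact, and let L : ℕ
⥤ CochainComplex A ℤ be a sequence of complexes. Then the image in the derived category of the
termwise colimit of L, with the canonical maps from the Lₙ, is a homotopy colimit of the images of
the Lₙ — assuming the termwise direct sum of the Lₙ exists and is preserved by the localization
functor to D(A) (a known result, carried here as a hypothesis rather than proved), and that the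
direct sum of the images exists in D(A). -/
theorem result {A : Type u} [Category.{v} A] [Abelian A] [HasDerivedCategory.{w} A]
    [HasColimitsOfShape ℕ A] [HasExactColimitsOfShape ℕ A]
    (L : ℕ ⥤ CochainComplex A ℤ) [HasCoproduct L.obj] [PreservesColimit (Discrete.functor L.obj) (DerivedCategory.Q (C := A))]
    [HasCoproduct (fun n => DerivedCategory.Q.obj (L.obj n))] :
    DerLim.IsHocolim (fun n => DerivedCategory.Q.obj (L.obj n)) (fun n => DerivedCategory.Q.map (L.map (homOfLE (Nat.le_succ n))))
      (DerivedCategory.Q.obj (colimit L)) (fun n => DerivedCategory.Q.map (colimit.ι L n)) := by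
  exact aux L

end Groth.Agent.S0985
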