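import Groth.Statements.S0987
import Groth.Agent.Lib.Helper16.K0Db2
-- import your own Groth.Agent.* helpers here

set_option autoImplicit false
universe w v u
open CategoryTheory CategoryTheory.Limits
open KZero

namespace Groth.Agent.S0987

open KZero Groth.Agent.Lib.Helper16.K0Db

section
variable (A : Type u) [Category.{v} A] [Abelian A]

instance : (⊤ : ObjectProperty A).IsClosedUnderKernels where
  kernels_le := fun _ _ => trivial

lemma cl_shortExact (S : ShortComplex A) (hS : S.ShortExact) :
    (cl S.X₂ : K0 A) = cl S.X₁ + cl S.X₃ := by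
  have hmem : FreeAbelianGroup.of S.X₂ - FreeAbelianGroup.of S.X₁
      - FreeAbelianGroup.of S.X₃ ∈ relAb A :=
    AddSubgroup.subset_closure ⟨S, hS, rfl⟩
  have h := (QuotientAddGroup.eq_zero_iff _).2 hmem
  rw [QuotientAddGroup.mk_sub, QuotientAddGroup.mk_sub, sub_sub, sub_eq_zero] at h
  exact h

/-- `K₀(A) → K₀(⊤)` -/
noncomputable def toSub : K0 A →+ K0sub (⊤ : ObjectProperty A) :=
  QuotientAddGroup.lift (relAb A)
    (FreeAbelianGroup.lift fun X : A => clSub (⊤ : ObjectProperty A) X)
    (by
      rw [relAb, AddSubgroup.closure_le]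
      rintro x ⟨S, hS, rfl⟩
      simp only [SetLike.mem_coe, AddMonoidHom.mem_ker, map_sub, FreeAbelianGroup.lift_apply_of]
      rw [clSub_shortExact _ S hS trivial trivial trivial]; abel)

/-- `K₀(⊤) → K₀(A)` -/
noncomputable def ofSub : K0sub (⊤ : ObjectProperty A) →+ K0 A :=
  QuotientAddGroup.lift (relSub _)
    (FreeAbelianGroup.lift fun X : Subtype (⊤ : ObjectProperty A) => (cl X.1 : K0 A))
    (by
      rw [relSub, AddSubgroup.closure_le]
      rintro x ⟨S, _, _, _, hS, rfl⟩
      simp only [SetLike.mem_coe, AddMonoidHom.mem_ker, map_sub, FreeAbelianGroup.lift_apply_of]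
      rw [cl_shortExact A S hS]; abel)

noncomputable def equivSub : K0 A ≃+ K0sub (⊤ : ObjectProperty A) where
  toFun := toSub A
  invFun := ofSub A
  left_inv := by
    intro x
    have : (ofSub A).comp (toSub A) = AddMonoidHom.id _ := by
      apply QuotientAddGroup.addMonoidHom_ext
      apply FreeAbelianGroup.lift_ext
      intro X
      simp [toSub, ofSub, clSub_of (⊤ : ObjectProperty A) X trivial, cl]
    exact DFunLike.congr_fun this x
  right_inv := by
    intro x
    have : (toSub A).comp (ofSub A) = AddMonoidHom.id _ := by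
      apply QuotientAddGroup.addMonoidHom_ext
      apply FreeAbelianGroup.lift_ext
      rintro ⟨X, hX⟩
      simp [toSub, ofSub, clSub_of (⊤ : ObjectProperty A) X trivial, cl]
    exact DFunLike.congr_fun this x
  map_add' := map_add _

lemma equivSub_cl (X : A) : equivSub A (cl X) = clSub (⊤ : ObjectProperty A) X := by
  simp [equivSub, toSub, cl]

end



/-- For an abelian category A there is an isomorphism between K₀(A) and K₀ of the bounded derived
category D^b(A) (objects of D(A) with bounded cohomology, with the distinguished triangles of D(A))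
which sends the class of an object X to the class of X placed in degree 0. -/
theorem result (A : Type u) [Category.{v} A] [Abelian A] [HasDerivedCategory.{w} A] :
    ∃ φ : KZero.K0 A ≃+ KZero.K0tr (fun X : DerivedCategory A => ∃ a b : ℤ, X.IsGE a ∧ X.IsLE b),
      ∀ X : A, φ (KZero.cl X) =
        KZero.clTr (fun X : DerivedCategory A => ∃ a b : ℤ, X.IsGE a ∧ X.IsLE b) ((DerivedCategory.singleFunctor A 0).obj X) := by
  have hQ : (fun X : DerivedCategory A => ∃ a b : ℤ, X.IsGE a ∧ X.IsLE b) =
      Qb (⊤ : ObjectProperty A) := by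
    funext X
    apply propext
    constructor
    · intro h; exact ⟨fun _ => trivial, h⟩
    · intro h; exact h.2
  rw [hQ]
  obtain ⟨φ, hφ⟩ := main (⊤ : ObjectProperty A)
  exact ⟨(equivSub A).trans φ, fun X => by
    rw [AddEquiv.trans_apply, equivSub_cl, hφ X trivial]⟩

end Groth.Agent.S0987
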