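import Groth.Statements.S0989
-- import your own Groth.Agent.* helpers here

set_option autoImplicit false
universe w v u
open CategoryTheory CategoryTheory.Limits
open CohDer
open scoped ZeroObject
open CategoryTheory.Pretriangulated

namespace Groth.Agent.S0989

/-- Let P be a weak Serre class in an abelian category A: P is closed under isomorphisms, holds for a
zero object, and whenever X₀ → X₁ → X₂ → X₃ → X₄ is exact with P holding for X₀, X₁, X₃, X₄ it holds
for X₂. Then the class of objects of the derived category all of whose cohomology objects satisfy P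
is a triangulated subcategory (contains zero, stable under shifts, closed under extensions) which is
moreover closed under retracts (saturated). -/
theorem result {A : Type u} [Category.{v} A] [Abelian A] [HasDerivedCategory.{w} A]
    (P : ObjectProperty A) [P.IsClosedUnderIsomorphisms] (h0 : ∃ Z : A, IsZero Z ∧ P Z)
    (hP : ∀ S : ComposableArrows A 4, S.Exact → P (S.obj 0) → P (S.obj 1) → P (S.obj 3) → P (S.obj 4) → P (S.obj 2)) :
    ObjectProperty.IsTriangulated (fun X : DerivedCategory A => ∀ n : ℤ, P ((DerivedCategory.homologyFunctor A n).obj X)) ∧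
    ObjectProperty.IsStableUnderRetracts (fun X : DerivedCategory A => ∀ n : ℤ, P ((DerivedCategory.homologyFunctor A n).obj X)) := by
  classical
  obtain ⟨Z, hZ, hPZ⟩ := h0
  have hzero : ∀ X : A, IsZero X → P X := fun X hX => P.prop_of_iso (hZ.iso hX) hPZ
  -- P is closed under retracts
  have hretr : ∀ {X Y : A} (r : Retract X Y), P Y → P X := by
    intro X Y r hY
    let S : ComposableArrows A 4 :=
      ComposableArrows.mk₄ (0 : Z ⟶ Z) (0 : Z ⟶ X) r.i (𝟙 Y - r.r ≫ r.i)
    have hS : S.Exact := by
      refine ComposableArrows.exact_of_δ₀ ?_ (ComposableArrows.exact_of_δ₀ ?_ ?_)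
      · refine ComposableArrows.exact₂_mk _ zero_comp ?_
        exact ShortComplex.exact_of_isZero_X₂ _ hZ
      · refine ComposableArrows.exact₂_mk _ zero_comp ?_
        have hm : Mono r.i := inferInstance
        exact (ShortComplex.exact_iff_mono _ (by rfl)).2 hm
      · have w : r.i ≫ (𝟙 Y - r.r ≫ r.i) = 0 := by
          rw [Preadditive.comp_sub, Category.comp_id, ← Category.assoc, r.retract,
            Category.id_comp, sub_self]
        refine ComposableArrows.exact₂_mk _ w ?_
        refine ShortComplex.exact_of_f_is_kernel _ ?_
        refine KernelFork.IsLimit.ofι _ _ (fun g _ => g ≫ r.r) ?_ ?_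
        · intro W (g : W ⟶ Y) (hg : g ≫ (𝟙 Y - r.r ≫ r.i) = 0)
          rw [Preadditive.comp_sub, Category.comp_id, sub_eq_zero] at hg
          change (g ≫ r.r) ≫ r.i = g
          rw [Category.assoc]
          exact hg.symm
        · intro W (g : W ⟶ Y) _ (m : W ⟶ X) (hm : m ≫ r.i = g)
          change m = g ≫ r.r
          rw [← hm, Category.assoc, r.retract, Category.comp_id]
    exact hP S hS hPZ hPZ hY hY
  -- shift
  have hshift : ∀ (a : ℤ) (X : DerivedCategory A),
      (∀ n : ℤ, P ((DerivedCategory.homologyFunctor A n).obj X)) →
      ∀ n : ℤ, P ((DerivedCategory.homologyFunctor A n).obj (X⟦a⟧)) := by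
    intro a X hX n
    exact P.prop_of_iso
      (((DerivedCategory.homologyFunctor A 0).shiftIso a n (a + n) rfl).app X).symm (hX (a + n))
  have hiso : ObjectProperty.IsClosedUnderIsomorphisms
      (fun X : DerivedCategory A => ∀ n : ℤ, P ((DerivedCategory.homologyFunctor A n).obj X)) :=
    ⟨fun e h n => P.prop_of_iso ((DerivedCategory.homologyFunctor A n).mapIso e) (h n)⟩
  refine ⟨?_, ?_⟩
  · have : ObjectProperty.IsTriangulatedClosed₂
        (fun X : DerivedCategory A => ∀ n : ℤ, P ((DerivedCategory.homologyFunctor A n).obj X)) := by
      refine ObjectProperty.IsTriangulatedClosed₂.mk' ?_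
      intro T hT h₁ h₃ n
      let F := DerivedCategory.homologyFunctor A 0
      let S : ComposableArrows A 4 :=
        ComposableArrows.mk₄ (F.homologySequenceδ T (n - 1) n (by omega))
          ((F.shift n).map T.mor₁) ((F.shift n).map T.mor₂)
          (F.homologySequenceδ T n (n + 1) rfl)
      have hS : S.Exact :=
        ComposableArrows.exact_of_δ₀
          (F.homologySequence_exact₁ T hT (n - 1) n (by omega)).exact_toComposableArrows
          (ComposableArrows.exact_of_δ₀
            (F.homologySequence_exact₂ T hT n).exact_toComposableArrows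
            (F.homologySequence_exact₃ T hT n (n + 1) rfl).exact_toComposableArrows)
      exact hP S hS (h₃ (n - 1)) (h₁ n) (h₃ n) (h₁ (n + 1))
    exact
      { exists_zero := ⟨0, isZero_zero _, fun n =>
          hzero _ ((DerivedCategory.homologyFunctor A n).map_isZero (isZero_zero _))⟩
        isStableUnderShiftBy := fun a => ⟨fun X hX => hshift a X hX⟩ }
  · exact ⟨fun {X Y} r hY n => hretr (r.map (DerivedCategory.homologyFunctor A n)) (hY n)⟩

end Groth.Agent.S0989
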