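import Groth.Statements.S10005
import Groth.Agent.Lib.Helper15.LimSep
import Groth.Agent.Lib.Helper3.SpCoprod
-- import your own Groth.Agent.* helpers here

set_option autoImplicit false
universe u
open CategoryTheory CategoryTheory.Limits AlgebraicGeometry
open AlgSp

namespace Groth.Agent.S10005

section H
set_option backward.isDefEq.respectTransparency.types false
namespace W1
open Groth.Agent.Lib.Helper15 Groth.Agent.Lib.Helper3

variable {S : Scheme.{u}}

theorem isSeparatedSp_of_isSeparatedMor {X T : Sp S} (hT : IsTerminal T) (f : X ⟶ T)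
    (hf : IsSeparatedMor f) : IsSeparatedSp X := by
  have h2 : Limits.diag X =
      pullback.diagonal f ≫ prod.lift (pullback.fst f f) (pullback.snd f f) := by
    apply Limits.prod.hom_ext <;> simp
  haveI : IsIso (prod.lift (pullback.fst f f) (pullback.snd f f)) := by
    refine ⟨pullback.lift prod.fst prod.snd (hT.hom_ext _ _), ?_, ?_⟩
    · apply pullback.hom_ext
      · rw [Category.assoc, pullback.lift_fst, prod.lift_fst, Category.id_comp]
      · rw [Category.assoc, pullback.lift_snd, prod.lift_snd, Category.id_comp]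
    · apply Limits.prod.hom_ext
      · rw [Category.assoc, prod.lift_fst, pullback.lift_fst, Category.id_comp]
      · rw [Category.assoc, prod.lift_snd, pullback.lift_snd, Category.id_comp]
  change RepWith @IsClosedImmersion (Limits.diag X)
  rw [h2]
  exact (MorphismProperty.cancel_right_of_respectsIso (RepWith (S := S) @IsClosedImmersion) _ _).2 hf

theorem main (S : Scheme.{u}) [QuasiSeparatedSpace S] {I : Type u} [SmallCategory I] [IsCofiltered I]
    (D : I ⥤ AlgSp.Sp S) (hD : ∀ i, AlgSp.IsAlgSpace (D.obj i))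
    (hDa : ∀ (i j : I) (φ : i ⟶ j), AlgSp.IsAffineMor (D.map φ))
    (hqc : ∀ i, AlgSp.IsQuasiCompactSp (D.obj i)) (hqs : ∀ i, AlgSp.IsQuasiSeparatedSp (D.obj i))
    (c : Cone D) (hc : IsLimit c)
    (hX : AlgSp.IsSeparatedSp c.pt) : ∃ i, AlgSp.IsSeparatedSp (D.obj i) := by
  have hT : IsTerminal ((yon S).obj (Over.mk (𝟙 S))) := SpCoprod.isTerminalYonBase
  let Y : AlgSp.Space S := ⟨(yon S).obj (Over.mk (𝟙 S)), IsAlgSpace.yon_obj _⟩
  let t : D ⟶ (Functor.const I).obj Y.obj :=
    { app := fun i => hT.from (D.obj i)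
      naturality := fun i j φ => hT.hom_ext _ _ }
  haveI : QuasiSeparatedSpace ↥(Over.mk (𝟙 S)).left := inferInstanceAs (QuasiSeparatedSpace ↥S)
  obtain ⟨i₀, hi₀⟩ := LimSep.main Y D hD t hDa c hc (hT.from c.pt) (fun i => hT.hom_ext _ _) hqc hqs
    (LimRep.isQuasiSeparatedSp_yon _)
    (Groth.Agent.S9900.repWith_diagonal_of_repWith_diag @IsClosedImmersion _ hX)
  exact ⟨i₀, isSeparatedSp_of_isSeparatedMor hT _ (hi₀ i₀ (𝟙 _))⟩

end W1
end H


/-- Let `S` be a quasi-separated scheme and `X` the limit, in fppf sheaves over `S`, of a cofiltered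
system `(X_i)` of quasi-compact algebraic spaces over `S`, each quasi-separated over `S`, whose
transition maps are affine. If `X` is separated over `S`, then `X_i` is separated over `S` for some
`i`. (The published statement uses absolute separatedness and quasi-separatedness and puts no
condition on `S`; this row assumes `S` quasi-separated and takes both notions over `S`, which gives
the same quasi-separatedness and, when `S` is separated, the same separatedness.) -/
theorem result (S : Scheme.{u}) [QuasiSeparatedSpace S] {I : Type u} [SmallCategory I] [IsCofiltered I]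
    (D : I ⥤ AlgSp.Sp S) (hD : ∀ i, AlgSp.IsAlgSpace (D.obj i))
    (hDa : ∀ (i j : I) (φ : i ⟶ j), AlgSp.IsAffineMor (D.map φ))
    (hqc : ∀ i, AlgSp.IsQuasiCompactSp (D.obj i)) (hqs : ∀ i, AlgSp.IsQuasiSeparatedSp (D.obj i))
    (c : Cone D) (hc : IsLimit c)
    (hX : AlgSp.IsSeparatedSp c.pt) : ∃ i, AlgSp.IsSeparatedSp (D.obj i) := by
  exact W1.main S D hD hDa hqc hqs c hc hX

end Groth.Agent.S10005
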