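import Groth.Statements.S10008
import Groth.Agent.Lib.Helper15.LimChart
import Groth.Agent.Lib.Helper3.AlgSpQC
-- import your own Groth.Agent.* helpers here

set_option autoImplicit false
universe u
open CategoryTheory CategoryTheory.Limits AlgebraicGeometry
open AlgSp

namespace Groth.Agent.S10008

section H
set_option backward.isDefEq.respectTransparency.types false
namespace W1
open Groth.Agent.Lib.Helper15 Groth.Agent.Lib.Helper3 Groth.Agent.S10056.W1

variable {S : Scheme.{u}} {I : Type u} [SmallCategory I] [IsCofiltered I]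

theorem main (D : I ⥤ AlgSp.Sp S)
    (hDa : ∀ (i j : I) (φ : i ⟶ j), AlgSp.IsAffineMor (D.map φ))
    (c : Cone D) (hc : IsLimit c)
    (hqc : ∀ i, AlgSp.IsQuasiCompactSp (D.obj i)) (hne : ∀ i, Nonempty (AlgSp.Points (D.obj i))) :
    Nonempty (AlgSp.Points c.pt) := by
  have hDa' : ∀ (i j : I) (φ : i ⟶ j), AlgSp.RepWith @IsAffineHom (D.map φ) :=
    fun i j φ => (isAffineMor_iff_repWith _).1 (hDa i j φ)
  obtain ⟨i₀⟩ := IsCofiltered.nonempty (C := I)
  obtain ⟨U₀, p₀, he, hs, hU₀⟩ := hqc i₀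
  haveI : CompactSpace U₀.left := hU₀
  obtain ⟨cE, -, hcEL, q, a, sq, -, -, -⟩ := LimChart.exists_chart D hDa' i₀ p₀ c hc
  haveI : ∀ {k k' : Over i₀} (ψ : k ⟶ k'),
      IsAffineHom ((E D hDa' i₀ p₀ ⋙ Over.forget S).map ψ) :=
    fun ψ => isAffineHom_uk D hDa' i₀ p₀ ψ
  haveI : ∀ k, CompactSpace ((E D hDa' i₀ p₀ ⋙ Over.forget S).obj k) := fun k => by
    have h1 : IsAffineHom (ak D hDa' i₀ p₀ k).left := isAffineHom_ak D hDa' i₀ p₀ k
    have h2 : QuasiCompact (ak D hDa' i₀ p₀ k).left := inferInstance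
    exact @QuasiCompact.compactSpace_of_compactSpace _ _ (ak D hDa' i₀ p₀ k).left h2 _
  haveI : ∀ k, Nonempty ((E D hDa' i₀ p₀ ⋙ Over.forget S).obj k) := fun k => by
    have hpks : RepWith @Surjective (pk D hDa' i₀ p₀ k) :=
      MorphismProperty.of_isPullback (sqk D hDa' i₀ p₀ k).flip hs
    obtain ⟨x⟩ := hne k.left
    obtain ⟨w, -⟩ := surjective_map_of_repWith hpks x
    exact ⟨(Points.schemeHomeo _).symm w⟩
  obtain ⟨u⟩ := Scheme.nonempty_of_isLimit (E D hDa' i₀ p₀ ⋙ Over.forget S) _ hcEL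
  exact ⟨Points.ofPt q u⟩

end W1
end H


/-- Let `X` be the limit, in fppf sheaves over `S`, of a cofiltered system `(X_i)` of algebraic spaces
over `S` whose transition maps are affine. If every `X_i` is quasi-compact and has at least one
point, then `X` has a point. -/
theorem result (S : Scheme.{u}) {I : Type u} [SmallCategory I] [IsCofiltered I]
    (D : I ⥤ AlgSp.Sp S) (hD : ∀ i, AlgSp.IsAlgSpace (D.obj i))
    (hDa : ∀ (i j : I) (φ : i ⟶ j), AlgSp.IsAffineMor (D.map φ))
    (c : Cone D) (hc : IsLimit c)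
    (hqc : ∀ i, AlgSp.IsQuasiCompactSp (D.obj i)) (hne : ∀ i, Nonempty (AlgSp.Points (D.obj i))) :
    Nonempty (AlgSp.Points c.pt) := by
  exact W1.main D hDa c hc hqc hne

end Groth.Agent.S10008
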