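import Groth.Statements.S10010
import Groth.Agent.Lib.Helper15.LimChart
import Groth.Agent.Lib.Helper15.LimImm
import Groth.Agent.Lib.Helper15.PartialChart
import Groth.Agent.Lib.Helper15.EtCoverDesc
import Groth.Agent.Lib.Helper3.AlgSpQC7
import Groth.Agent.Lib.Helper3.AlgSpSep
import Groth.Agent.S10004
import Groth.Agent.S1125
-- import your own Groth.Agent.* helpers here

set_option autoImplicit false
universe u
open CategoryTheory CategoryTheory.Limits AlgebraicGeometry
open AlgSp

namespace Groth.Agent.S10010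

section H
set_option backward.isDefEq.respectTransparency.types false
namespace W1
open Groth.Agent.Lib.Helper3 Groth.Agent.Lib.Helper15 Groth.Agent.Lib.Helper15.EtCoverDesc
  Groth.Agent.S10056.W1

variable {S : Scheme.{u}}

/-- cancellation: if `f ≫ g` has `P` and the diagonal of `g` has `P`, then `f` has `P` -/
theorem repWith_of_postcomp (P : MorphismProperty Scheme.{u}) [P.IsStableUnderBaseChange]
    [P.IsStableUnderComposition] {X Y Z : Sp S} (f : X ⟶ Y) (g : Y ⟶ Z)
    (hg : RepWith P (pullback.diagonal g)) (hfg : RepWith P (f ≫ g)) : RepWith P f := by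
  have h1 : RepWith P (pullback.lift (𝟙 X) f (by simp) : X ⟶ pullback (f ≫ g) g) :=
    (repWith_isStableUnderBaseChange _).of_isPullback (pullback_lift_diagonal_isPullback f g) hg
  have h2 : RepWith P (pullback.snd (f ≫ g) g) :=
    (repWith_isStableUnderBaseChange _).of_isPullback (IsPullback.of_hasPullback (f ≫ g) g) hfg
  have e : f = pullback.lift (𝟙 X) f (by simp) ≫ pullback.snd (f ≫ g) g := by
    rw [pullback.lift_snd]
  rw [e]
  exact MorphismProperty.comp_mem _ _ _ h1 h2

theorem main (S : Scheme.{u}) [QuasiSeparatedSpace S] {I : Type u} [SmallCategory I] [IsCofiltered I]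
    (B : AlgSp.Space S) (D : I ⥤ AlgSp.Sp S) (hD : ∀ i, AlgSp.IsAlgSpace (D.obj i))
    (t : D ⟶ (Functor.const I).obj B.obj)
    (hDa : ∀ (i j : I) (φ : i ⟶ j), AlgSp.IsAffineMor (D.map φ))
    (c : Cone D) (hc : IsLimit c)
    (hqs : ∀ i, AlgSp.IsQuasiSeparatedSp (D.obj i))
    (Y : AlgSp.Space S) (hYqc : AlgSp.IsQuasiCompactSp Y.obj) (y : Y.obj ⟶ c.pt) (hy : AlgSp.RepWith @IsImmersion y) (i₁ : I)
    (hYB : AlgSp.LocP @LocallyOfFiniteType (y ≫ c.π.app i₁ ≫ t.app i₁)) :
    ∃ i₀ : I, ∀ (i : I) (_ : i ⟶ i₀), AlgSp.RepWith @IsImmersion (y ≫ c.π.app i) := by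
  have hDa' : ∀ (i j : I) (φ : i ⟶ j), RepWith @IsAffineHom (D.map φ) :=
    fun i j φ => (isAffineMor_iff_repWith _).1 (hDa i j φ)
  have hy1 : LocP @LocallyOfFiniteType (y ≫ c.π.app i₁) :=
    locP_lft_of_comp Y.property (hD i₁) B.property _ _ (by rwa [Category.assoc])
  -- a quasi-compact chart of the stage `i₁` covering the image of `Y`
  obtain ⟨V₀, v₀, hv₀e, hv₀s⟩ := (hD i₁).atlas
  haveI : CompactSpace (Points Y.obj) := compactSpace_points_of_isQuasiCompactSp hYqc
  have hK : IsCompact (Set.range (Points.map (y ≫ c.π.app i₁))) :=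
    isCompact_range (Points.continuous_map _)
  have hv₀surj : Function.Surjective (Points.map v₀) := surjective_map_of_repWith hv₀s
  obtain ⟨W, hWc, hW⟩ := exists_compact_open_of_isCompact' v₀ (isOpenMap_map_of_etale hv₀e) _ hK
    (by rw [hv₀surj.range_eq]; exact Set.subset_univ _)
  let V₁ : Over S := Over.mk (W.ι ≫ V₀.hom)
  let jW : V₁ ⟶ V₀ := Over.homMk W.ι rfl
  let v₁ : (yon S).obj V₁ ⟶ D.obj i₁ := (yon S).map jW ≫ v₀
  have hjWe : RepWith @Etale ((yon S).map jW) :=
    (repWith_yon_map_iff _ _).2 (inferInstanceAs (Etale W.ι))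
  have hve : RepWith @Etale v₁ := MorphismProperty.comp_mem _ _ _ hjWe hv₀e
  haveI hV₁c : CompactSpace V₁.left := isCompact_iff_compactSpace.1 hWc
  obtain ⟨cE, hcE, hcEL, q, a, sq, haπ, hqπ, haff⟩ := LimChart.exists_chart D hDa' i₁ v₁ c hc
  have sqT := hy.rep.isPullback q
  have hjT : IsImmersion (hy.rep.snd q).left := hy.property_snd q
  have sqT1 : IsPullback (hy.rep.fst q) ((yon S).map (hy.rep.snd q ≫ a)) (y ≫ c.π.app i₁) v₁ := by
    rw [Functor.map_comp]; exact sqT.paste_vert sq
  have hfe : RepWith @Etale (hy.rep.fst q) :=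
    (repWith_isStableUnderBaseChange _).of_isPullback sqT1.flip hve
  have hlft : LocallyOfFiniteType (hy.rep.snd q ≫ a).left :=
    hy1 (hy.rep.fst q) v₁ (hy.rep.snd q ≫ a) hfe hve sqT1.w
  -- `T` is quasi-compact
  haveI hTc : CompactSpace (hy.rep.pullback q).left := by
    have hqcm := isQuasiCompactMor_of_isQuasiCompactSp_of_isQuasiSeparatedSp Y.property
      (y ≫ c.π.app i₁) hYqc (hqs i₁)
    exact compactSpace_of_isQuasiCompactSp_yon
      (hqcm (IsAlgSpace.yon_obj V₁) (isQuasiCompactSp_yon hV₁c) v₁ _ _ sqT1)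
  -- `T ⟶ Y` is surjective
  have hfs : IsSurjectiveMor (hy.rep.fst q) := by
    intro η
    obtain ⟨z, ⟨w, hw, rfl⟩, hz⟩ := hW ⟨η, rfl⟩
    have h1 : Points.map (y ≫ c.π.app i₁) η =
        Points.map v₁ (Points.schemeHomeo V₁ (⟨w, hw⟩ : W)) := by
      rw [← hz, Points.map_comp, Points.map_yon_map_apply]
      rfl
    obtain ⟨ζ, hζ, -⟩ := Points.exists_of_isPullback sqT1 _ _ h1
    exact ⟨ζ, hζ⟩
  -- the scheme-level system
  haveI : ∀ {k k' : Over i₁} (ψ : k ⟶ k'), IsAffineHom ((E D hDa' i₁ v₁ ⋙ Over.forget S).map ψ) :=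
    fun ψ => isAffineHom_uk D hDa' i₁ v₁ ψ
  let t' : (E D hDa' i₁ v₁ ⋙ Over.forget S) ⟶ (Functor.const (Over i₁)).obj V₁.left :=
    { app := fun k => (ak D hDa' i₁ v₁ k).left
      naturality := fun k k' ψ => by
        simp only [Functor.const_obj_obj, Functor.const_obj_map, Category.comp_id]
        change (uk D hDa' i₁ v₁ ψ).left ≫ (ak D hDa' i₁ v₁ k').left = _
        rw [← Over.comp_left, uk_a] }
  let hT : (hy.rep.pullback q).left ⟶ ((Over.forget S).mapCone cE).pt := (hy.rep.snd q).left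
  haveI : IsImmersion hT := hjT
  let aL : ((Over.forget S).mapCone cE).pt ⟶ V₁.left := a.left
  have ha' : ∀ k, ((Over.forget S).mapCone cE).π.app k ≫ t'.app k = aL := fun k => by
    change (cE.π.app k).left ≫ (ak D hDa' i₁ v₁ k).left = a.left
    rw [← Over.comp_left, haπ k]
  haveI : LocallyOfFiniteType (hT ≫ aL) := hlft
  obtain ⟨k, hk⟩ := LimImm.exists_isImmersion (E D hDa' i₁ v₁ ⋙ Over.forget S) _ hcEL t' hT aL ha'
  -- the stage `k`
  have sqTop : IsPullback q ((yon S).map (cE.π.app k : cE.pt ⟶ Uk D hDa' i₁ v₁ k))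
      (c.π.app k.left) (pk D hDa' i₁ v₁ k) := by
    have e : (yon S).map (cE.π.app k : cE.pt ⟶ Uk D hDa' i₁ v₁ k) ≫
        (yon S).map (ak D hDa' i₁ v₁ k) = (yon S).map a := by
      rw [← Functor.map_comp, haπ k]
    have h := sq
    rw [← e, ← c.w k.hom] at h
    exact IsPullback.of_bot h (hqπ k) (sqk D hDa' i₁ v₁ k)
  have sqK0 := sqT.paste_vert sqTop
  have sqK : IsPullback (hy.rep.fst q)
      ((yon S).map (hy.rep.snd q ≫ (cE.π.app k : cE.pt ⟶ Uk D hDa' i₁ v₁ k)))
      (y ≫ c.π.app k.left) (pk D hDa' i₁ v₁ k) := by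
    rw [Functor.map_comp]; exact sqK0
  have hpe : RepWith @Etale (pk D hDa' i₁ v₁ k) :=
    (repWith_isStableUnderBaseChange _).of_isPullback (sqk D hDa' i₁ v₁ k).flip hve
  have hπaff : ∀ i, RepWith @IsAffineHom (c.π.app i) := fun i =>
    (isAffineMor_iff_repWith _).1 ((Groth.Agent.S10004.result S D hD hDa c hc).2 i)
  have hrep : Representable (y ≫ c.π.app k.left) :=
    MorphismProperty.comp_mem _ _ _ hy.rep (hπaff k.left).rep
  haveI := Groth.Agent.S1125.result.{u}
  have hyk : RepWith @IsImmersion (y ≫ c.π.app k.left) := by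
    refine PartialChart.repWith_of_partial_chart @IsImmersion
      (fun f j hf hj => by
        haveI : IsImmersion f := hf
        haveI : IsOpenImmersion j := hj
        exact (inferInstance : IsImmersion (f ≫ j)))
      _ hrep (pk D hDa' i₁ v₁ k) hpe (hy.rep.fst q) _ sqK hfs ?_
    exact hk
  refine ⟨k.left, fun i φ => ?_⟩
  have hsep : RepWith @IsImmersion (pullback.diagonal (D.map φ)) :=
    repWith_diagonal_of_repWith (P := @IsImmersion) (Q := @IsAffineHom)
      (fun A B g hg => by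
        have : IsAffineHom g := hg
        exact (inferInstance : IsImmersion (pullback.diagonal g))) _ (hDa' _ _ φ)
  refine repWith_of_postcomp @IsImmersion (y ≫ c.π.app i) (D.map φ) hsep ?_
  rw [Category.assoc, c.w]
  exact hyk

end W1
end H


/-- Let `S` be a quasi-separated scheme, `B` an algebraic space over `S`, and `X` the limit, in fppf
sheaves, of a cofiltered system `(X_i)` of algebraic spaces over `B`, each quasi-separated over `S`,
whose transition maps are affine; let `y : Y ⟶ X` be an immersion from a quasi-compact algebraic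
space `Y` whose structure map to `B` is locally of finite type. Then, for all `i` mapping to some
`i₀`, the composite `Y ⟶ X ⟶ X_i` is an immersion. (The published statement allows any base scheme
and uses absolute quasi-separatedness; this row assumes the base quasi-separated, over which
quasi-separatedness relative to the base is the absolute notion.) -/
theorem result (S : Scheme.{u}) [QuasiSeparatedSpace S] {I : Type u} [SmallCategory I] [IsCofiltered I]
    (B : AlgSp.Space S) (D : I ⥤ AlgSp.Sp S) (hD : ∀ i, AlgSp.IsAlgSpace (D.obj i))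
    (t : D ⟶ (Functor.const I).obj B.obj)
    (hDa : ∀ (i j : I) (φ : i ⟶ j), AlgSp.IsAffineMor (D.map φ))
    (c : Cone D) (hc : IsLimit c)
    (hqs : ∀ i, AlgSp.IsQuasiSeparatedSp (D.obj i))
    (Y : AlgSp.Space S) (hYqc : AlgSp.IsQuasiCompactSp Y.obj) (y : Y.obj ⟶ c.pt) (hy : AlgSp.RepWith @IsImmersion y) (i₁ : I)
    (hYB : AlgSp.LocP @LocallyOfFiniteType (y ≫ c.π.app i₁ ≫ t.app i₁)) :
    ∃ i₀ : I, ∀ (i : I) (_ : i ⟶ i₀), AlgSp.RepWith @IsImmersion (y ≫ c.π.app i) := by
  exact W1.main S B D hD t hDa c hc hqs Y hYqc y hy i₁ hYB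

end Groth.Agent.S10010
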