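import Groth.Statements.S10011
import Groth.Agent.Lib.Helper15.LimChart
import Groth.Agent.Lib.Helper15.EtCoverDesc
import Groth.Agent.Lib.Helper3.AlgSpQC4
import Groth.Agent.Lib.Helper3.SchImSub
import Groth.Agent.S10004
-- import your own Groth.Agent.* helpers here

set_option autoImplicit false
universe u
open CategoryTheory CategoryTheory.Limits AlgebraicGeometry
open AlgSp

namespace Groth.Agent.S10011

section H
set_option backward.isDefEq.respectTransparency.types false
namespace W1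
open Groth.Agent.Lib.Helper3 Groth.Agent.Lib.Helper15 Groth.Agent.Lib.Helper15.EtCoverDesc
  Groth.Agent.S10056.W1

variable {S : Scheme.{u}}

/-- scheme level: a cofiltered system of affine schemes with monomorphic transition maps over a
base `V`, whose limit is locally of finite presentation over `V`, is eventually constant. -/
theorem exists_isIso_π {J : Type u} [SmallCategory J] [IsCofiltered J] (E : J ⥤ Scheme.{u})
    (e : Cone E) (he : IsLimit e) [∀ {i j : J} (f : i ⟶ j), IsAffineHom (E.map f)]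
    [∀ i, IsAffine (E.obj i)] {V : Scheme.{u}} (t : E ⟶ (Functor.const J).obj V)
    (hmono : ∀ j, Mono (t.app j)) (a : e.pt ⟶ V) (ha : ∀ j, e.π.app j ≫ t.app j = a)
    [LocallyOfFinitePresentation a] : ∃ j : J, IsIso (e.π.app j) := by
  obtain ⟨j, g, hg1, hg2⟩ := Scheme.exists_π_app_comp_eq_of_locallyOfFinitePresentation E t a e he
    (𝟙 e.pt) (by
      ext j
      simp only [NatTrans.comp_app, Functor.const_obj_obj, Functor.const_map_app,
        Category.id_comp]
      exact ha j)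
  refine ⟨j, ⟨g, hg1, ?_⟩⟩
  haveI := hmono j
  rw [← cancel_mono (t.app j), Category.assoc, ha j, hg2, Category.id_comp]

theorem main (S : Scheme.{u}) {I : Type u} [SmallCategory I] [IsCofiltered I]
    (B : AlgSp.Space S) (D : I ⥤ AlgSp.Sp S) (hD : ∀ i, AlgSp.IsAlgSpace (D.obj i))
    (t : D ⟶ (Functor.const I).obj B.obj)
    (hDc : ∀ (i j : I) (φ : i ⟶ j), AlgSp.RepWith @IsClosedImmersion (D.map φ))
    (c : Cone D) (hc : IsLimit c)
    (hqc : ∀ i, AlgSp.IsQuasiCompactSp (D.obj i)) (hft : ∀ i, AlgSp.LocP @LocallyOfFiniteType (t.app i)) (i₁ : I)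
    (hX : AlgSp.LocP @LocallyOfFinitePresentation (c.π.app i₁ ≫ t.app i₁)) :
    ∃ i₀ : I, ∀ (i : I) (_ : i ⟶ i₀), IsIso (c.π.app i) := by
  have hDa' : ∀ (i j : I) (φ : i ⟶ j), RepWith @IsAffineHom (D.map φ) :=
    fun i j φ => repWith_mono (fun A B g hg => by
      have : IsClosedImmersion g := hg
      exact (inferInstance : IsAffineHom g)) (hDc i j φ)
  have hDa : ∀ (i j : I) (φ : i ⟶ j), IsAffineMor (D.map φ) :=
    fun i j φ => (isAffineMor_iff_repWith _).2 (hDa' i j φ)
  have hXalg : IsAlgSpace c.pt := (Groth.Agent.S10004.result S D hD hDa c hc).1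
  have hπ : LocP @LocallyOfFinitePresentation (c.π.app i₁) :=
    locP_lfp_of_comp hXalg (hD i₁) B.property _ _ hX (hft i₁)
  obtain ⟨V₁, v₁, hve, hvs, hVa⟩ := exists_affine_chart_of_isQuasiCompactSp (hqc i₁)
  obtain ⟨cE, hcE, hcEL, q, a, sq, haπ, hqπ, haff⟩ := LimChart.exists_chart D hDa' i₁ v₁ c hc
  have hqe : RepWith @Etale q := (repWith_isStableUnderBaseChange _).of_isPullback sq.flip hve
  haveI ha_lfp : LocallyOfFinitePresentation a.left := hπ q v₁ a hqe hve sq.w
  -- the scheme-level system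
  haveI : ∀ {k k' : Over i₁} (ψ : k ⟶ k'), IsAffineHom ((E D hDa' i₁ v₁ ⋙ Over.forget S).map ψ) :=
    fun ψ => isAffineHom_uk D hDa' i₁ v₁ ψ
  haveI : IsAffine V₁.left := hVa
  haveI : ∀ k, IsAffine ((E D hDa' i₁ v₁ ⋙ Over.forget S).obj k) := fun k =>
    @isAffine_of_isAffineHom _ _ (ak D hDa' i₁ v₁ k).left (isAffineHom_ak D hDa' i₁ v₁ k) ‹_›
  let t' : (E D hDa' i₁ v₁ ⋙ Over.forget S) ⟶ (Functor.const (Over i₁)).obj V₁.left :=
    { app := fun k => (ak D hDa' i₁ v₁ k).left
      naturality := fun k k' ψ => by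
        simp only [Functor.const_obj_obj, Functor.const_obj_map, Category.comp_id]
        change (uk D hDa' i₁ v₁ ψ).left ≫ (ak D hDa' i₁ v₁ k').left = _
        rw [← Over.comp_left, uk_a] }
  have hmono : ∀ k, Mono (t'.app k) := fun k => by
    have h1 : RepWith @IsClosedImmersion ((yon S).map (ak D hDa' i₁ v₁ k)) :=
      (repWith_isStableUnderBaseChange _).of_isPullback (sqk D hDa' i₁ v₁ k) (hDc _ _ k.hom)
    have h2 : IsClosedImmersion (ak D hDa' i₁ v₁ k).left := (repWith_yon_map_iff _ _).1 h1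
    exact (inferInstance : Mono (ak D hDa' i₁ v₁ k).left)
  let aL : ((Over.forget S).mapCone cE).pt ⟶ V₁.left := a.left
  haveI : LocallyOfFinitePresentation aL := ha_lfp
  have ha' : ∀ k, ((Over.forget S).mapCone cE).π.app k ≫ t'.app k = aL := fun k => by
    change (cE.π.app k).left ≫ (ak D hDa' i₁ v₁ k).left = a.left
    rw [← Over.comp_left, haπ k]
  obtain ⟨k, hk⟩ := exists_isIso_π (E D hDa' i₁ v₁ ⋙ Over.forget S) _ hcEL t' hmono aL ha'
  -- the stage `k`
  have hk' : IsIso (cE.π.app k : cE.pt ⟶ Uk D hDa' i₁ v₁ k) := by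
    have : IsIso ((Over.forget S).map (cE.π.app k : cE.pt ⟶ Uk D hDa' i₁ v₁ k)) := hk
    exact isIso_of_reflects_iso _ (Over.forget S)
  have sqTop : IsPullback q ((yon S).map (cE.π.app k : cE.pt ⟶ Uk D hDa' i₁ v₁ k))
      (c.π.app k.left) (pk D hDa' i₁ v₁ k) := by
    have e : (yon S).map (cE.π.app k : cE.pt ⟶ Uk D hDa' i₁ v₁ k) ≫
        (yon S).map (ak D hDa' i₁ v₁ k) = (yon S).map a := by
      rw [← Functor.map_comp, haπ k]
    have h := sq
    rw [← e, ← c.w k.hom] at h
    exact IsPullback.of_bot h (hqπ k) (sqk D hDa' i₁ v₁ k)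
  have hpe : RepWith @Etale (pk D hDa' i₁ v₁ k) :=
    (repWith_isStableUnderBaseChange _).of_isPullback (sqk D hDa' i₁ v₁ k).flip hve
  have hps : RepWith @Surjective (pk D hDa' i₁ v₁ k) :=
    (repWith_isStableUnderBaseChange _).of_isPullback (sqk D hDa' i₁ v₁ k).flip hvs
  have hXk : IsIso (c.π.app k.left) :=
    @isIso_of_etale_cover _ _ _ (c.π.app k.left) _ (pk D hDa' i₁ v₁ k) hpe hps _ q _ sqTop
      (Functor.map_isIso (yon S) _)
  refine ⟨k.left, fun i φ => ?_⟩
  haveI : Mono (D.map φ) := Groth.Agent.Lib.Helper3.SchIm.mono_of_closedImmersion _ (hDc _ _ φ)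
  have hw : c.π.app i ≫ D.map φ = c.π.app k.left := c.w φ
  haveI : IsIso (c.π.app i ≫ D.map φ) := by rw [hw]; exact hXk
  haveI : IsSplitEpi (D.map φ) := ⟨⟨⟨inv (c.π.app i ≫ D.map φ) ≫ c.π.app i, by
    rw [Category.assoc, IsIso.inv_hom_id]⟩⟩⟩
  haveI : IsIso (D.map φ) := isIso_of_mono_of_isSplitEpi _
  exact IsIso.of_isIso_comp_right (c.π.app i) (D.map φ)

end W1
end H


/-- Let `B` be an algebraic space over `S` and `X` the limit in fppf sheaves of a cofiltered system
`(X_i)` of quasi-compact algebraic spaces over `B`, each locally of finite type over `B`, whose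
transition morphisms are closed immersions. If `X ⟶ B` is locally of finite presentation, then the
projection `X ⟶ X_i` is an isomorphism for all `i` mapping to some `i₀`. -/
theorem result (S : Scheme.{u}) {I : Type u} [SmallCategory I] [IsCofiltered I]
    (B : AlgSp.Space S) (D : I ⥤ AlgSp.Sp S) (hD : ∀ i, AlgSp.IsAlgSpace (D.obj i))
    (t : D ⟶ (Functor.const I).obj B.obj)
    (hDc : ∀ (i j : I) (φ : i ⟶ j), AlgSp.RepWith @IsClosedImmersion (D.map φ))
    (c : Cone D) (hc : IsLimit c)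
    (hqc : ∀ i, AlgSp.IsQuasiCompactSp (D.obj i)) (hft : ∀ i, AlgSp.LocP @LocallyOfFiniteType (t.app i)) (i₁ : I)
    (hX : AlgSp.LocP @LocallyOfFinitePresentation (c.π.app i₁ ≫ t.app i₁)) :
    ∃ i₀ : I, ∀ (i : I) (_ : i ⟶ i₀), IsIso (c.π.app i) := by
  exact W1.main S B D hD t hDc c hc hqc hft i₁ hX

end Groth.Agent.S10011
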