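import Groth.Statements.S10012
import Groth.Agent.S10011
import Groth.Agent.S10016
import Groth.Agent.Lib.Helper3.AlgSpQC7
import Groth.Agent.Lib.Helper3.AlgSpLocP4
-- import your own Groth.Agent.* helpers here

set_option autoImplicit false
universe u
open CategoryTheory CategoryTheory.Limits AlgebraicGeometry
open AlgSp

namespace Groth.Agent.S10012

section H
set_option backward.isDefEq.respectTransparency.types false
namespace W1
open Groth.Agent.Lib.Helper3 Groth.Agent.Lib.Helper15 Groth.Agent.Lib.Helper15.EtCoverDesc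

variable {S : Scheme.{u}}

section Sys

variable {I : Type u} [SmallCategory I] (D : I ⥤ AlgSp.Sp S) (c : Cone D) {Y : Sp S}
  (y : Y ⟶ c.pt) (i₁ : I)

/-- the composite `Y ⟶ X ⟶ X_k` -/
abbrev yk (k : Over i₁) : Y ⟶ D.obj k.left := y ≫ c.π.app k.left

theorem yk_w {k k' : Over i₁} (ψ : k ⟶ k') : yk D c y i₁ k ≫ D.map ψ.left = yk D c y i₁ k' := by
  rw [yk, Category.assoc, c.w]

/-- transition maps of the system `Y ×_{X_k} Y` -/
noncomputable def zmap {k k' : Over i₁} (ψ : k ⟶ k') :
    pullback (yk D c y i₁ k) (yk D c y i₁ k) ⟶ pullback (yk D c y i₁ k') (yk D c y i₁ k') :=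
  pullback.map _ _ _ _ (𝟙 Y) (𝟙 Y) (D.map ψ.left)
    (by rw [Category.id_comp, yk_w]) (by rw [Category.id_comp, yk_w])

theorem zmap_fst {k k' : Over i₁} (ψ : k ⟶ k') :
    zmap D c y i₁ ψ ≫ pullback.fst (yk D c y i₁ k') (yk D c y i₁ k') =
      pullback.fst (yk D c y i₁ k) (yk D c y i₁ k) :=
  (pullback.lift_fst _ _ _).trans (Category.comp_id _)

theorem zmap_snd {k k' : Over i₁} (ψ : k ⟶ k') :
    zmap D c y i₁ ψ ≫ pullback.snd (yk D c y i₁ k') (yk D c y i₁ k') =
      pullback.snd (yk D c y i₁ k) (yk D c y i₁ k) :=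
  (pullback.lift_snd _ _ _).trans (Category.comp_id _)

/-- the system `Y ×_{X_k} Y` -/
@[reducible] noncomputable def Z : Over i₁ ⥤ Sp S where
  obj k := pullback (yk D c y i₁ k) (yk D c y i₁ k)
  map {k k'} ψ := zmap D c y i₁ ψ
  map_id k := by
    apply pullback.hom_ext
    · rw [zmap_fst, Category.id_comp]
    · rw [zmap_snd, Category.id_comp]
  map_comp ψ ψ' := by
    apply pullback.hom_ext
    · rw [zmap_fst, Category.assoc, zmap_fst, zmap_fst]
    · rw [zmap_snd, Category.assoc, zmap_snd, zmap_snd]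

theorem Z_map_fst {k k' : Over i₁} (ψ : k ⟶ k') :
    (Z D c y i₁).map ψ ≫ pullback.fst (yk D c y i₁ k') (yk D c y i₁ k') =
      pullback.fst (yk D c y i₁ k) (yk D c y i₁ k) := zmap_fst D c y i₁ ψ

theorem Z_map_snd {k k' : Over i₁} (ψ : k ⟶ k') :
    (Z D c y i₁).map ψ ≫ pullback.snd (yk D c y i₁ k') (yk D c y i₁ k') =
      pullback.snd (yk D c y i₁ k) (yk D c y i₁ k) := zmap_snd D c y i₁ ψ

/-- the cone of diagonals -/
@[reducible] noncomputable def cZ : Cone (Z D c y i₁) where
  pt := Y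
  π :=
    { app := fun k => pullback.diagonal (yk D c y i₁ k)
      naturality := fun k k' ψ => by
        apply pullback.hom_ext
        · change (𝟙 Y ≫ pullback.diagonal (yk D c y i₁ k')) ≫ _ =
            (pullback.diagonal (yk D c y i₁ k) ≫ zmap D c y i₁ ψ) ≫ _
          rw [Category.id_comp, pullback.diagonal_fst, Category.assoc, zmap_fst,
            pullback.diagonal_fst]
        · change (𝟙 Y ≫ pullback.diagonal (yk D c y i₁ k')) ≫ _ =
            (pullback.diagonal (yk D c y i₁ k) ≫ zmap D c y i₁ ψ) ≫ _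
          rw [Category.id_comp, pullback.diagonal_snd, Category.assoc, zmap_snd,
            pullback.diagonal_snd] }

theorem cZ_π_fst (k : Over i₁) :
    (cZ D c y i₁).π.app k ≫ pullback.fst (yk D c y i₁ k) (yk D c y i₁ k) = 𝟙 Y :=
  pullback.diagonal_fst _

theorem cZ_π_snd (k : Over i₁) :
    (cZ D c y i₁).π.app k ≫ pullback.snd (yk D c y i₁ k) (yk D c y i₁ k) = 𝟙 Y :=
  pullback.diagonal_snd _

/-- the terminal index -/
abbrev top : Over i₁ := Over.mk (𝟙 i₁)

/-- the map to the terminal index -/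
abbrev toTop (k : Over i₁) : k ⟶ top i₁ := Over.homMk k.hom

variable [IsCofiltered I]

/-- the cone of diagonals is a limit cone when `y` is a monomorphism -/
noncomputable def hcZ (hc : IsLimit c) [Mono y] : IsLimit (cZ D c y i₁) := by
  refine IsLimit.ofExistsUnique fun s => ?_
  have hfst : ∀ k : Over i₁, s.π.app k ≫ pullback.fst (yk D c y i₁ k) (yk D c y i₁ k) =
      s.π.app (top i₁) ≫ pullback.fst (yk D c y i₁ (top i₁)) (yk D c y i₁ (top i₁)) := fun k => by
    rw [← s.w (toTop i₁ k), Category.assoc, Z_map_fst]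
  have hsnd : ∀ k : Over i₁, s.π.app k ≫ pullback.snd (yk D c y i₁ k) (yk D c y i₁ k) =
      s.π.app (top i₁) ≫ pullback.snd (yk D c y i₁ (top i₁)) (yk D c y i₁ (top i₁)) := fun k => by
    rw [← s.w (toTop i₁ k), Category.assoc, Z_map_snd]
  have hab : s.π.app (top i₁) ≫ pullback.fst (yk D c y i₁ (top i₁)) (yk D c y i₁ (top i₁)) =
      s.π.app (top i₁) ≫ pullback.snd (yk D c y i₁ (top i₁)) (yk D c y i₁ (top i₁)) := by
    rw [← cancel_mono y]
    apply hc.hom_ext
    intro i
    let k : Over i₁ := Over.mk (IsCofiltered.minToRight i i₁)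
    have h1 : (s.π.app k ≫ pullback.fst (yk D c y i₁ k) (yk D c y i₁ k)) ≫ yk D c y i₁ k =
        (s.π.app k ≫ pullback.snd (yk D c y i₁ k) (yk D c y i₁ k)) ≫ yk D c y i₁ k := by
      rw [Category.assoc, Category.assoc, pullback.condition]
    rw [hfst k, hsnd k] at h1
    have e : c.π.app k.left ≫ D.map (IsCofiltered.minToLeft i i₁) = c.π.app i := c.w _
    have h2 := h1 =≫ D.map (IsCofiltered.minToLeft i i₁)
    simp only [Category.assoc] at h2
    rw [e] at h2
    simpa only [Category.assoc] using h2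
  refine ⟨s.π.app (top i₁) ≫ pullback.fst _ _, fun k => ?_, fun m hm => ?_⟩
  · apply pullback.hom_ext
    · rw [Category.assoc, cZ_π_fst, Category.comp_id, hfst k]
    · rw [Category.assoc, cZ_π_snd, Category.comp_id, hsnd k, hab]
  · have := hm (top i₁)
    rw [← this, Category.assoc, cZ_π_fst, Category.comp_id]

end Sys

/-- the canonical map `Y ×_X Y ⟶ Y ×_{X'} Y` is a closed immersion when `X ⟶ X'` is separated -/
theorem repWith_ci_map {Y X X' : Sp S} (f : Y ⟶ X) (i : X ⟶ X') (f' : Y ⟶ X') (h : f ≫ i = f')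
    (hi : RepWith @IsClosedImmersion (pullback.diagonal i)) :
    RepWith @IsClosedImmersion (pullback.map f f f' f' (𝟙 Y) (𝟙 Y) i
      (by rw [Category.id_comp, h]) (by rw [Category.id_comp, h])) := by
  subst h
  exact (repWith_isStableUnderBaseChange _).of_isPullback (pullback_map_diagonal_isPullback f f i) hi

theorem main (S : Scheme.{u}) [QuasiSeparatedSpace S] {I : Type u} [SmallCategory I] [IsCofiltered I]
    (B : AlgSp.Space S) (D : I ⥤ AlgSp.Sp S) (hD : ∀ i, AlgSp.IsAlgSpace (D.obj i))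
    (t : D ⟶ (Functor.const I).obj B.obj)
    (hDa : ∀ (i j : I) (φ : i ⟶ j), AlgSp.IsAffineMor (D.map φ))
    (c : Cone D) (hc : IsLimit c)
    (hqs : ∀ i, AlgSp.IsQuasiSeparatedSp (D.obj i))
    (Y : AlgSp.Space S) (hYqc : AlgSp.IsQuasiCompactSp Y.obj) (y : Y.obj ⟶ c.pt) [Mono y] (i₁ : I)
    (hYB : AlgSp.LocP @LocallyOfFiniteType (y ≫ c.π.app i₁ ≫ t.app i₁)) :
    ∃ i₀ : I, ∀ (i : I) (_ : i ⟶ i₀), Mono (y ≫ c.π.app i) := by
  have hDa' : ∀ (i j : I) (φ : i ⟶ j), RepWith @IsAffineHom (D.map φ) :=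
    fun i j φ => (isAffineMor_iff_repWith _).1 (hDa i j φ)
  have hy1 : LocP @LocallyOfFiniteType (y ≫ c.π.app i₁) :=
    locP_lft_of_comp Y.property (hD i₁) B.property _ _ (by rwa [Category.assoc])
  have hZalg : ∀ k : Over i₁, IsAlgSpace ((Z D c y i₁).obj k) := fun k =>
    isAlgSpace_of_isPullback' (hD k.left) Y.property Y.property (IsPullback.of_hasPullback _ _)
  let B' : AlgSp.Space S := ⟨(Z D c y i₁).obj (top i₁), hZalg _⟩
  let t' : Z D c y i₁ ⟶ (Functor.const (Over i₁)).obj B'.obj :=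
    { app := fun k => (Z D c y i₁).map (toTop i₁ k)
      naturality := fun k k' ψ => by
        have e : ψ ≫ toTop i₁ k' = toTop i₁ k := by
          ext
          simp
        change (Z D c y i₁).map ψ ≫ (Z D c y i₁).map (toTop i₁ k') =
          (Z D c y i₁).map (toTop i₁ k) ≫ 𝟙 _
        rw [Category.comp_id, ← Functor.map_comp, e] }
  have hsep : ∀ {i j : I} (φ : i ⟶ j), RepWith @IsClosedImmersion (pullback.diagonal (D.map φ)) :=
    fun φ => repWith_diagonal_of_repWith (P := @IsClosedImmersion) (Q := @IsAffineHom)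
      (fun A B g hg => by
        have : IsAffineHom g := hg
        exact (inferInstance : IsClosedImmersion (pullback.diagonal g))) _ (hDa' _ _ φ)
  have hDc : ∀ (k k' : Over i₁) (ψ : k ⟶ k'),
      RepWith @IsClosedImmersion ((Z D c y i₁).map ψ) := fun k k' ψ =>
    repWith_ci_map _ (D.map ψ.left) _ (yk_w D c y i₁ ψ) (hsep _)
  have hqc : ∀ k : Over i₁, IsQuasiCompactSp ((Z D c y i₁).obj k) := fun k => by
    have hf := isQuasiCompactMor_of_isQuasiCompactSp_of_isQuasiSeparatedSp Y.property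
      (yk D c y i₁ k) hYqc (hqs k.left)
    exact hf Y.property hYqc _ _ _ (IsPullback.of_hasPullback _ _)
  have hft : ∀ k : Over i₁, LocP @LocallyOfFiniteType (t'.app k) := fun k => by
    change LocP @LocallyOfFiniteType ((Z D c y i₁).map (toTop i₁ k))
    exact locP_of_repWith isEtLocal_locallyOfFiniteType _
      (repWith_mono (fun A B g hg => by
        have : IsClosedImmersion g := hg
        exact (inferInstance : LocallyOfFiniteType g)) (hDc _ _ (toTop i₁ k)))
  have hX : LocP @LocallyOfFinitePresentation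
      ((cZ D c y i₁).π.app (top i₁) ≫ t'.app (top i₁)) := by
    have e : t'.app (top i₁) = 𝟙 _ := by
      change (Z D c y i₁).map (toTop i₁ (top i₁)) = 𝟙 _
      rw [show toTop i₁ (top i₁) = 𝟙 _ from by ext; simp, CategoryTheory.Functor.map_id]
    rw [e, Category.comp_id]
    exact Groth.Agent.S10016.W1.locP_lfp_diagonal Y.property (hD i₁) _ hy1
  obtain ⟨k₀, hk₀⟩ := Groth.Agent.S10011.W1.main S B' (Z D c y i₁) hZalg t' hDc
    (cZ D c y i₁) (hcZ D c y i₁ hc) hqc hft (top i₁) hX
  refine ⟨k₀.left, fun i φ => ?_⟩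
  let k : Over i₁ := Over.mk (φ ≫ k₀.hom)
  have := hk₀ k (Over.homMk φ)
  exact (pullback.isIso_diagonal_iff (yk D c y i₁ k)).1 this

end W1
end H


/-- Let `S` be a quasi-separated scheme, `B` an algebraic space over `S`, and `X` the limit, in fppf
sheaves, of a cofiltered system `(X_i)` of algebraic spaces over `B`, each quasi-separated over `S`,
whose transition maps are affine; let `y : Y ⟶ X` be a monomorphism from a quasi-compact algebraic
space `Y` whose structure map to `B` is locally of finite type. Then, for all `i` mapping to some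
`i₀`, the composite `Y ⟶ X ⟶ X_i` is a monomorphism. (The published statement allows any base scheme
and uses absolute quasi-separatedness; this row assumes the base quasi-separated, over which
quasi-separatedness relative to the base is the absolute notion.) -/
theorem result (S : Scheme.{u}) [QuasiSeparatedSpace S] {I : Type u} [SmallCategory I] [IsCofiltered I]
    (B : AlgSp.Space S) (D : I ⥤ AlgSp.Sp S) (hD : ∀ i, AlgSp.IsAlgSpace (D.obj i))
    (t : D ⟶ (Functor.const I).obj B.obj)
    (hDa : ∀ (i j : I) (φ : i ⟶ j), AlgSp.IsAffineMor (D.map φ))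
    (c : Cone D) (hc : IsLimit c)
    (hqs : ∀ i, AlgSp.IsQuasiSeparatedSp (D.obj i))
    (Y : AlgSp.Space S) (hYqc : AlgSp.IsQuasiCompactSp Y.obj) (y : Y.obj ⟶ c.pt) [Mono y] (i₁ : I)
    (hYB : AlgSp.LocP @LocallyOfFiniteType (y ≫ c.π.app i₁ ≫ t.app i₁)) :
    ∃ i₀ : I, ∀ (i : I) (_ : i ⟶ i₀), Mono (y ≫ c.π.app i) := by
  exact W1.main S B D hD t hDa c hc hqs Y hYqc y i₁ hYB

end Groth.Agent.S10012
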