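import Groth.Statements.S10025
import Groth.Agent.Lib.Helper15.RelLim
-- import your own Groth.Agent.* helpers here

set_option autoImplicit false
universe u
open CategoryTheory CategoryTheory.Limits AlgebraicGeometry
open AlgSp

namespace Groth.Agent.S10025

section H
set_option backward.isDefEq.respectTransparency.types false
namespace W1
open AlgSp Opposite Groth.Agent.Lib.Helper15.RelLim

variable {S : Scheme.{u}} {F G H : AlgSp.PSp S} (a : F ⟶ G) (b : G ⟶ H)

theorem comp_app_apply (X : (Over S)ᵒᵖ) (x : F.obj X) :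
    (a ≫ b).app X x = b.app X (a.app X x) := by
  simp

theorem main (ha : AlgSp.IsRelLimitPreserving a) (hb : AlgSp.IsRelLimitPreserving b) :
    AlgSp.IsRelLimitPreserving (a ≫ b) := by
  intro T z I _ _ D c hc hD hT
  obtain ⟨hG⟩ := hb T z D c hc hD hT
  let D' : I ⥤ Over S := D ⋙ Over.map T.hom
  let c' : Cone D' := (Over.map T.hom).mapCone c
  have hc' : IsLimit ((Over.forget S).mapCone c') := hc
  have hD' : ∀ j, IsAffine (D'.obj j).left := hD
  have hT' : IsAffine c'.pt.left := hT
  refine ⟨Types.FilteredColimit.isColimitOf' _ _ ?_ ?_⟩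
  · -- surjectivity
    intro x
    let x1 : F.obj (op c'.pt) := x.1
    have hx2 : b.app (op c'.pt) (a.app (op c'.pt) x1) = H.map (overHom T c.pt).op z :=
      (comp_app_apply a b _ x1).symm.trans x.2
    let gx : (fiberFun b T z).obj (op c.pt) := ⟨a.app (op c'.pt) x1, hx2⟩
    obtain ⟨i, gi, hgi⟩ := Types.jointly_surjective_of_isColimit hG gx
    have h1 := congrArg Subtype.val hgi
    rw [Functor.mapCocone_ι_app, fiberFun_map_coe] at h1
    let g1 : G.obj (op (D'.obj i.unop)) := gi.1
    have h1' : G.map (c'.π.app i.unop).op g1 = a.app (op c'.pt) x1 := h1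
    have hgi2 : b.app (op (D'.obj i.unop)) g1 = H.map (overHom T (D.obj i.unop)).op z := gi.2
    obtain ⟨j, f, xj, hxj1, hxj2⟩ := exists_lift D' c' i.unop a ha hc' hD' hT' g1 x1 h1'.symm
    have hxj3 : (a ≫ b).app (op (D'.obj j)) xj = H.map (overHom T (D.obj j)).op z := by
      rw [comp_app_apply, hxj1, NatTrans.naturality_apply, hgi2, map_map_apply]
      exact congrArg (fun m => H.map m.op z) (map_comp_overHom T (D.map f))
    let xj' : (fiberFun (a ≫ b) T z).obj (op (D.obj j)) := ⟨xj, hxj3⟩
    refine ⟨op j, xj', Subtype.ext ?_⟩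
    rw [Functor.mapCocone_ι_app, fiberFun_map_coe]
    exact hxj2.symm
  · -- injectivity
    intro i x x' hxx
    have h0 := congrArg Subtype.val hxx
    rw [Functor.mapCocone_ι_app, fiberFun_map_coe, fiberFun_map_coe] at h0
    let x1 : F.obj (op (D'.obj i.unop)) := x.1
    let x1' : F.obj (op (D'.obj i.unop)) := x'.1
    have h0' : F.map (c'.π.app i.unop).op x1 = F.map (c'.π.app i.unop).op x1' := h0
    have hx2 : b.app (op (D'.obj i.unop)) (a.app (op (D'.obj i.unop)) x1) =
        H.map (overHom T (D.obj i.unop)).op z := (comp_app_apply a b _ x1).symm.trans x.2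
    have hx2' : b.app (op (D'.obj i.unop)) (a.app (op (D'.obj i.unop)) x1') =
        H.map (overHom T (D.obj i.unop)).op z := (comp_app_apply a b _ x1').symm.trans x'.2
    let gx : (fiberFun b T z).obj (op (D.obj i.unop)) := ⟨a.app (op (D'.obj i.unop)) x1, hx2⟩
    let gx' : (fiberFun b T z).obj (op (D.obj i.unop)) := ⟨a.app (op (D'.obj i.unop)) x1', hx2'⟩
    have hgx : gx.1 = a.app (op (D'.obj i.unop)) x1 := rfl
    have hgx' : gx'.1 = a.app (op (D'.obj i.unop)) x1' := rfl
    have h1 : ((fiberFun b T z).mapCocone c.op).ι.app i gx =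
        ((fiberFun b T z).mapCocone c.op).ι.app i gx' := by
      apply Subtype.ext
      rw [Functor.mapCocone_ι_app, fiberFun_map_coe, fiberFun_map_coe, hgx, hgx']
      change G.map (c'.π.app i.unop).op _ = G.map (c'.π.app i.unop).op _
      rw [← NatTrans.naturality_apply, ← NatTrans.naturality_apply, h0']
    obtain ⟨j, f, hf⟩ := (Types.FilteredColimit.isColimit_eq_iff' hG _ _).1 h1
    have h2 := congrArg Subtype.val hf
    rw [Functor.comp_map, fiberFun_map_coe, fiberFun_map_coe, hgx, hgx'] at h2
    have h2' : G.map (D'.map f.unop).op (a.app (op (D'.obj i.unop)) x1) =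
        G.map (D'.map f.unop).op (a.app (op (D'.obj i.unop)) x1') := h2
    rw [← NatTrans.naturality_apply, ← NatTrans.naturality_apply] at h2'
    have h3 : F.map (c'.π.app j.unop).op (F.map (D'.map f.unop).op x1) =
        F.map (c'.π.app j.unop).op (F.map (D'.map f.unop).op x1') := by
      rw [map_map_apply, map_map_apply, c'.w]
      exact h0'
    obtain ⟨k, h, hk⟩ := exists_eq D' c' j.unop a ha hc' hD' hT' _ _ h2' h3
    rw [map_map_apply, map_map_apply, ← D'.map_comp] at hk
    refine ⟨op k, (h ≫ f.unop).op, Subtype.ext ?_⟩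
    rw [Functor.comp_map, fiberFun_map_coe, fiberFun_map_coe]
    exact hk

end W1
end H


/-- The composite of two relatively limit preserving transformations of presheaves of sets on schemes
over `S` is relatively limit preserving. -/
theorem result (S : Scheme.{u}) {F G H : AlgSp.PSp S} (a : F ⟶ G) (b : G ⟶ H)
    (ha : AlgSp.IsRelLimitPreserving a) (hb : AlgSp.IsRelLimitPreserving b) :
    AlgSp.IsRelLimitPreserving (a ≫ b) := by
  exact W1.main a b ha hb

end Groth.Agent.S10025
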