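import Groth.Statements.S10026
-- import your own Groth.Agent.* helpers here

set_option autoImplicit false
universe u
open CategoryTheory CategoryTheory.Limits AlgebraicGeometry
open AlgSp

namespace Groth.Agent.S10026

section helpers
open AlgSp Opposite

variable {S : Scheme.{u}} {F G H : AlgSp.PSp S} (a : F ⟶ G) (b : G ⟶ H)

theorem comp_app_apply (X : (Over S)ᵒᵖ) (x : F.obj X) :
    (a ≫ b).app X x = b.app X (a.app X x) := by
  simp

/-- inclusion of the fibre of `a` over `y` into the fibre of `a ≫ b` over `b y` -/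
def toZ (T : Over S) (y : G.obj (op T)) (T' : (Over T.left)ᵒᵖ)
    (x : (fiberFun a T y).obj T') : (fiberFun (a ≫ b) T (b.app _ y)).obj T' :=
  ⟨x.1, by
    rw [comp_app_apply, x.2, NatTrans.naturality_apply]⟩

/-- the image in the fibre of `b`. -/
def toG (T : Over S) (y : G.obj (op T)) (T' : (Over T.left)ᵒᵖ)
    (x : (fiberFun (a ≫ b) T (b.app _ y)).obj T') : (fiberFun b T (b.app _ y)).obj T' :=
  ⟨a.app _ x.1, by
    rw [← comp_app_apply, x.2]⟩

/-- the section `y` restricted, in the fibre of `b`. -/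
def secY (T : Over S) (y : G.obj (op T)) (T' : (Over T.left)ᵒᵖ) :
    (fiberFun b T (b.app _ y)).obj T' :=
  ⟨G.map (overHom T T'.unop).op y, by
    rw [NatTrans.naturality_apply]⟩

theorem toZ_val (T : Over S) (y : G.obj (op T)) (T' : (Over T.left)ᵒᵖ)
    (x : (fiberFun a T y).obj T') : (toZ a b T y T' x).1 = x.1 := rfl
theorem toG_val (T : Over S) (y : G.obj (op T)) (T' : (Over T.left)ᵒᵖ)
    (x : (fiberFun (a ≫ b) T (b.app _ y)).obj T') : (toG a b T y T' x).1 = a.app _ x.1 := rfl
theorem secY_val (T : Over S) (y : G.obj (op T)) (T' : (Over T.left)ᵒᵖ) :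
    (secY b T y T').1 = G.map (overHom T T'.unop).op y := rfl

theorem aux (hab : AlgSp.IsRelLimitPreserving (a ≫ b)) (hb : AlgSp.IsRelLimitPreserving b) :
    AlgSp.IsRelLimitPreserving a := by
  intro T y I _ _ D c hc hD hT
  obtain ⟨hZ⟩ := hab T (b.app _ y) D c hc hD hT
  obtain ⟨hG⟩ := hb T (b.app _ y) D c hc hD hT
  refine ⟨Types.FilteredColimit.isColimitOf' _ _ ?_ ?_⟩
  · -- surjectivity
    intro x
    obtain ⟨i, xi, hxi⟩ := Types.jointly_surjective_of_isColimit hZ (toZ a b T y _ x)
    have h1 := congrArg Subtype.val hxi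
    rw [Functor.mapCocone_ι_app, fiberFun_map_coe, toZ_val] at h1
    -- compare `a xi` and `y` in the fibre of `b`
    have hcmp : ((fiberFun b T (b.app _ y)).mapCocone c.op).ι.app i (toG a b T y _ xi) =
        ((fiberFun b T (b.app _ y)).mapCocone c.op).ι.app i (secY b T y _) := by
      apply Subtype.ext
      rw [Functor.mapCocone_ι_app, fiberFun_map_coe, fiberFun_map_coe, toG_val, secY_val,
        ← NatTrans.naturality_apply, h1, x.2, ← Functor.map_comp_apply, ← op_comp,
        map_comp_overHom]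
    obtain ⟨j, f, hf⟩ := (Types.FilteredColimit.isColimit_eq_iff' hG _ _).1 hcmp
    have h2 := congrArg Subtype.val hf
    rw [Functor.comp_map, fiberFun_map_coe, fiberFun_map_coe, toG_val, secY_val,
      ← Functor.map_comp_apply, ← op_comp, map_comp_overHom] at h2
    let xj : (fiberFun a T y).obj (D.op.obj j) :=
      ⟨F.map ((Over.map T.hom).map (D.op.map f).unop).op xi.1, by
        rw [NatTrans.naturality_apply, h2]⟩
    have hxj : xj.1 = F.map ((Over.map T.hom).map (D.op.map f).unop).op xi.1 := rfl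
    refine ⟨j, xj, Subtype.ext ?_⟩
    rw [Functor.mapCocone_ι_app, fiberFun_map_coe, hxj, ← h1, ← Functor.map_comp_apply, ← op_comp,
      ← Functor.map_comp]
    congr 4
    simp
  · -- injectivity
    intro i x x' hxx
    have h0 := congrArg Subtype.val hxx
    rw [Functor.mapCocone_ι_app, fiberFun_map_coe, fiberFun_map_coe] at h0
    have h1 : ((fiberFun (a ≫ b) T (b.app _ y)).mapCocone c.op).ι.app i (toZ a b T y _ x) =
        ((fiberFun (a ≫ b) T (b.app _ y)).mapCocone c.op).ι.app i (toZ a b T y _ x') := by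
      apply Subtype.ext
      rw [Functor.mapCocone_ι_app, fiberFun_map_coe, fiberFun_map_coe, toZ_val, toZ_val]
      exact h0
    obtain ⟨j, f, hf⟩ := (Types.FilteredColimit.isColimit_eq_iff' hZ _ _).1 h1
    refine ⟨j, f, Subtype.ext ?_⟩
    have h2 := congrArg Subtype.val hf
    rw [Functor.comp_map, fiberFun_map_coe, fiberFun_map_coe, toZ_val, toZ_val] at h2
    rw [Functor.comp_map, fiberFun_map_coe, fiberFun_map_coe]
    exact h2

end helpers

/-- Let `a : F ⟶ G`, `b : G ⟶ H` be transformations of presheaves of sets on schemes over `S`. If `a ≫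
b` and `b` are relatively limit preserving, then so is `a`. -/
theorem result (S : Scheme.{u}) {F G H : AlgSp.PSp S} (a : F ⟶ G) (b : G ⟶ H)
    (hab : AlgSp.IsRelLimitPreserving (a ≫ b)) (hb : AlgSp.IsRelLimitPreserving b) :
    AlgSp.IsRelLimitPreserving a := by
  exact aux a b hab hb

end Groth.Agent.S10026
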