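import Groth.Statements.S10027
import Mathlib.CategoryTheory.Limits.Types.Pullbacks
import Mathlib.CategoryTheory.Limits.Types.Filtered
import Mathlib.CategoryTheory.Limits.FunctorCategory.Basic

set_option autoImplicit false
universe u
open CategoryTheory CategoryTheory.Limits AlgebraicGeometry
open AlgSp

namespace Groth.Agent.S10027

section helpers
open AlgSp Opposite

variable {S : Scheme.{u}}

theorem comp_app_apply {F G H : AlgSp.PSp S} (a : F ⟶ G) (b : G ⟶ H) (X : (Over S)ᵒᵖ) (x : F.obj X) :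
    (a ≫ b).app X x = b.app X (a.app X x) := by
  simp

variable {P Q E : AlgSp.PSp S}

/-- map between fibres induced by a factorisation `α ≫ β = γ`. -/
def fibMap (α : P ⟶ Q) (β : Q ⟶ E) (γ : P ⟶ E) (w : α ≫ β = γ) (T : Over S) (e : E.obj (op T))
    (T' : (Over T.left)ᵒᵖ) (x : (fiberFun γ T e).obj T') : (fiberFun β T e).obj T' :=
  ⟨α.app _ x.1, by rw [← comp_app_apply, w]; exact x.2⟩

theorem fibMap_val (α : P ⟶ Q) (β : Q ⟶ E) (γ : P ⟶ E) (w : α ≫ β = γ) (T : Over S) (e : E.obj (op T))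
    (T' : (Over T.left)ᵒᵖ) (x : (fiberFun γ T e).obj T') :
    (fibMap α β γ w T e T' x).1 = α.app _ x.1 := rfl

theorem fibMap_map (α : P ⟶ Q) (β : Q ⟶ E) (γ : P ⟶ E) (w : α ≫ β = γ) (T : Over S) (e : E.obj (op T))
    {T' T'' : (Over T.left)ᵒᵖ} (g : T' ⟶ T'') (x : (fiberFun γ T e).obj T') :
    (fiberFun β T e).map g (fibMap α β γ w T e T' x) =
      fibMap α β γ w T e T'' ((fiberFun γ T e).map g x) := by
  apply Subtype.ext
  rw [fiberFun_map_coe, fibMap_val, fibMap_val, fiberFun_map_coe, NatTrans.naturality_apply]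

theorem cocone_w_apply {J : Type*} [Category J] {K : J ⥤ Type (u + 1)} (t : Cocone K) {i j : J}
    (f : i ⟶ j) (x : K.obj i) : t.ι.app j (K.map f x) = t.ι.app i x := by
  have := ConcreteCategory.congr_hom (t.w f) x
  simp

variable {F G H : AlgSp.PSp S}

theorem aux (a : F ⟶ G) (b : H ⟶ G) (c : G ⟶ E) (fst : P ⟶ F) (snd : P ⟶ H)
    (hP : IsPullback fst snd a b)
    (hc : AlgSp.IsRelLimitPreserving c) (hac : AlgSp.IsRelLimitPreserving (a ≫ c))
    (hbc : AlgSp.IsRelLimitPreserving (b ≫ c)) :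
    AlgSp.IsRelLimitPreserving (fst ≫ a ≫ c) := by
  intro T e I _ _ D cc hcc hD hT
  obtain ⟨hF⟩ := hac T e D cc hcc hD hT
  obtain ⟨hH⟩ := hbc T e D cc hcc hD hT
  obtain ⟨hG⟩ := hc T e D cc hcc hD hT
  have wH : snd ≫ b ≫ c = fst ≫ a ≫ c := by
    rw [← Category.assoc, ← hP.w, Category.assoc]
  have hsq : ∀ T' (x : (fiberFun (fst ≫ a ≫ c) T e).obj T'),
      fibMap a c (a ≫ c) rfl T e T' (fibMap fst (a ≫ c) (fst ≫ a ≫ c) rfl T e T' x) = fibMap b c (b ≫ c) rfl T e T' (fibMap snd (b ≫ c) (fst ≫ a ≫ c) wH T e T' x) := by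
    intro T' x
    apply Subtype.ext
    change a.app _ (fst.app _ x.1) = b.app _ (snd.app _ x.1)
    rw [← comp_app_apply, ← comp_app_apply, hP.w]
  have hpb : ∀ X : (Over S)ᵒᵖ, IsPullback (fst.app X) (snd.app X) (a.app X) (b.app X) := fun X =>
    hP.map ((evaluation (Over S)ᵒᵖ (Type (u + 1))).obj X)
  refine ⟨Types.FilteredColimit.isColimitOf' _ _ ?_ ?_⟩
  · -- surjectivity
    intro x
    obtain ⟨i1, fi, hfi⟩ := Types.jointly_surjective_of_isColimit hF (fibMap fst (a ≫ c) (fst ≫ a ≫ c) rfl T e _ x)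
    obtain ⟨i2, hi, hhi⟩ := Types.jointly_surjective_of_isColimit hH (fibMap snd (b ≫ c) (fst ≫ a ≫ c) wH T e _ x)
    -- common index
    obtain ⟨k, fk, hk, hfk, hhk⟩ : ∃ (k : Iᵒᵖ) (fk : (fiberFun (a ≫ c) T e).obj (D.op.obj k))
        (hk : (fiberFun (b ≫ c) T e).obj (D.op.obj k)),
        (fiberFun (a ≫ c) T e).map (cc.op.ι.app k) fk = fibMap fst (a ≫ c) (fst ≫ a ≫ c) rfl T e _ x ∧
        (fiberFun (b ≫ c) T e).map (cc.op.ι.app k) hk = fibMap snd (b ≫ c) (fst ≫ a ≫ c) wH T e _ x := by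
      refine ⟨IsFiltered.max i1 i2,
        (D.op ⋙ fiberFun (a ≫ c) T e).map (IsFiltered.leftToMax i1 i2) fi,
        (D.op ⋙ fiberFun (b ≫ c) T e).map (IsFiltered.rightToMax i1 i2) hi, ?_, ?_⟩
      · rw [← hfi]
        exact cocone_w_apply ((fiberFun (a ≫ c) T e).mapCocone cc.op) (IsFiltered.leftToMax i1 i2) fi
      · rw [← hhi]
        exact cocone_w_apply ((fiberFun (b ≫ c) T e).mapCocone cc.op) (IsFiltered.rightToMax i1 i2) hi
    have hcmp : ((fiberFun c T e).mapCocone cc.op).ι.app k (fibMap a c (a ≫ c) rfl T e _ fk) =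
        ((fiberFun c T e).mapCocone cc.op).ι.app k (fibMap b c (b ≫ c) rfl T e _ hk) := by
      rw [Functor.mapCocone_ι_app, fibMap_map, fibMap_map, hfk, hhk, hsq]
    obtain ⟨l, g, hg⟩ := (Types.FilteredColimit.isColimit_eq_iff' hG _ _).1 hcmp
    rw [Functor.comp_map, fibMap_map, fibMap_map] at hg
    obtain ⟨p, hp1, hp2⟩ := Types.exists_of_isPullback (hpb _) _ _ (congrArg Subtype.val hg)
    have hpl : (fst ≫ a ≫ c).app _ p = E.map (overHom T (D.op.obj l).unop).op e := by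
      rw [comp_app_apply, hp1]
      exact ((fiberFun (a ≫ c) T e).map (D.op.map g) fk).2
    obtain ⟨pl, hpl'⟩ : ∃ pl : (fiberFun (fst ≫ a ≫ c) T e).obj (D.op.obj l), pl.1 = p :=
      ⟨⟨p, hpl⟩, rfl⟩
    have hplF : fibMap fst (a ≫ c) (fst ≫ a ≫ c) rfl T e _ pl = (fiberFun (a ≫ c) T e).map (D.op.map g) fk :=
      Subtype.ext (by rw [fibMap_val, hpl', hp1])
    have hplH : fibMap snd (b ≫ c) (fst ≫ a ≫ c) wH T e _ pl = (fiberFun (b ≫ c) T e).map (D.op.map g) hk :=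
      Subtype.ext (by rw [fibMap_val, hpl', hp2])
    refine ⟨l, pl, ?_⟩
    have e1 : fibMap fst (a ≫ c) (fst ≫ a ≫ c) rfl T e _ (((fiberFun (fst ≫ a ≫ c) T e).mapCocone cc.op).ι.app l pl) = fibMap fst (a ≫ c) (fst ≫ a ≫ c) rfl T e _ x := by
      rw [Functor.mapCocone_ι_app, ← fibMap_map, hplF, ← hfk]
      exact cocone_w_apply ((fiberFun (a ≫ c) T e).mapCocone cc.op) g fk
    have e2 : fibMap snd (b ≫ c) (fst ≫ a ≫ c) wH T e _ (((fiberFun (fst ≫ a ≫ c) T e).mapCocone cc.op).ι.app l pl) = fibMap snd (b ≫ c) (fst ≫ a ≫ c) wH T e _ x := by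
      rw [Functor.mapCocone_ι_app, ← fibMap_map, hplH, ← hhk]
      exact cocone_w_apply ((fiberFun (b ≫ c) T e).mapCocone cc.op) g hk
    exact (Subtype.ext (Types.ext_of_isPullback (hpb _) (congrArg Subtype.val e1)
      (congrArg Subtype.val e2))).symm
  · -- injectivity
    intro i x x' hxx
    rw [Functor.mapCocone_ι_app] at hxx
    have h1 : ((fiberFun (a ≫ c) T e).mapCocone cc.op).ι.app i (fibMap fst (a ≫ c) (fst ≫ a ≫ c) rfl T e _ x) =
        ((fiberFun (a ≫ c) T e).mapCocone cc.op).ι.app i (fibMap fst (a ≫ c) (fst ≫ a ≫ c) rfl T e _ x') := by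
      rw [Functor.mapCocone_ι_app, fibMap_map, fibMap_map, hxx]
    have h2 : ((fiberFun (b ≫ c) T e).mapCocone cc.op).ι.app i (fibMap snd (b ≫ c) (fst ≫ a ≫ c) wH T e _ x) =
        ((fiberFun (b ≫ c) T e).mapCocone cc.op).ι.app i (fibMap snd (b ≫ c) (fst ≫ a ≫ c) wH T e _ x') := by
      rw [Functor.mapCocone_ι_app, fibMap_map, fibMap_map, hxx]
    obtain ⟨j1, f1, hf1⟩ := (Types.FilteredColimit.isColimit_eq_iff' hF _ _).1 h1
    obtain ⟨j2, f2, hf2⟩ := (Types.FilteredColimit.isColimit_eq_iff' hH _ _).1 h2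
    rw [Functor.comp_map, fibMap_map, fibMap_map] at hf1 hf2
    obtain ⟨k, g1, g2, hgg⟩ := IsFiltered.span f1 f2
    refine ⟨k, f1 ≫ g1, Subtype.ext (Types.ext_of_isPullback (hpb _) ?_ ?_)⟩
    · have : fibMap fst (a ≫ c) (fst ≫ a ≫ c) rfl T e _ ((D.op ⋙ fiberFun (fst ≫ a ≫ c) T e).map (f1 ≫ g1) x) =
          fibMap fst (a ≫ c) (fst ≫ a ≫ c) rfl T e _ ((D.op ⋙ fiberFun (fst ≫ a ≫ c) T e).map (f1 ≫ g1) x') := by
        have h3 := congrArg (fun z => (fiberFun (a ≫ c) T e).map (D.op.map g1) z) hf1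
        simp only [fibMap_map] at h3
        rw [Functor.comp_map, Functor.map_comp, Functor.map_comp_apply, Functor.map_comp_apply]
        exact h3
      exact congrArg Subtype.val this
    · have : fibMap snd (b ≫ c) (fst ≫ a ≫ c) wH T e _ ((D.op ⋙ fiberFun (fst ≫ a ≫ c) T e).map (f1 ≫ g1) x) =
          fibMap snd (b ≫ c) (fst ≫ a ≫ c) wH T e _ ((D.op ⋙ fiberFun (fst ≫ a ≫ c) T e).map (f1 ≫ g1) x') := by
        have h3 := congrArg (fun z => (fiberFun (b ≫ c) T e).map (D.op.map g2) z) hf2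
        simp only [fibMap_map] at h3
        rw [hgg, Functor.comp_map, Functor.map_comp, Functor.map_comp_apply, Functor.map_comp_apply]
        exact h3
      exact congrArg Subtype.val this

end helpers

/-- Let `a : F ⟶ G`, `b : H ⟶ G`, `c : G ⟶ E` be transformations of presheaves of sets on schemes over
`S` and `P` a fibre product `F ×_G H`. If `c`, `a ≫ c` and `b ≫ c` are relatively limit preserving,
then so is `P ⟶ E`. -/
theorem result (S : Scheme.{u}) {E F G H P : AlgSp.PSp S}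
    (a : F ⟶ G) (b : H ⟶ G) (c : G ⟶ E) (fst : P ⟶ F) (snd : P ⟶ H) (hP : IsPullback fst snd a b)
    (hc : AlgSp.IsRelLimitPreserving c) (hac : AlgSp.IsRelLimitPreserving (a ≫ c))
    (hbc : AlgSp.IsRelLimitPreserving (b ≫ c)) :
    AlgSp.IsRelLimitPreserving (fst ≫ a ≫ c) := by
  exact aux a b c fst snd hP hc hac hbc

end Groth.Agent.S10027
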