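import Groth.Statements.S10052
import Groth.Agent.Lib.Helper15.QuotLim
-- import your own Groth.Agent.* helpers here

set_option autoImplicit false
universe u
open CategoryTheory CategoryTheory.Limits AlgebraicGeometry
open AlgSp

namespace Groth.Agent.S10052

section H
set_option backward.isDefEq.respectTransparency.types false
namespace W1
open Groth.Agent.Lib.Helper15 Groth.Agent.Lib.Helper3 Groth.Agent.Lib.Helper15.QuotLim

theorem rep_of_iso {S : Scheme.{u}} {F G : Sp S} (e : F ≅ G) (h : F.obj.IsRepresentable) :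
    G.obj.IsRepresentable := by
  obtain ⟨T, ⟨r⟩⟩ := h
  exact ⟨T, ⟨representableByOfIso (isoOfRepresentableBy r ≪≫ e)⟩⟩

theorem main (A : CommRingCat.{u}) (X : AlgSp.Space (Spec A))
    (q : X.obj ⟶ (AlgSp.yon (Spec A)).obj (Over.mk (𝟙 (Spec A))))
    (hqc : AlgSp.IsQuasiCompactMor q) (hqs : AlgSp.IsQuasiSeparatedMor q) (hX : ¬ X.obj.obj.IsRepresentable) :
    ∃ I : Ideal A,
      (∀ (P : AlgSp.Sp (Spec A)) (fst : P ⟶ X.obj)
        (snd : P ⟶ (AlgSp.yon (Spec A)).obj (Over.mk (Spec.map (CommRingCat.ofHom (Ideal.Quotient.mk I))))),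
        IsPullback fst snd q ((AlgSp.yon (Spec A)).map (Over.homMk (Spec.map (CommRingCat.ofHom (Ideal.Quotient.mk I))))) →
          ¬ P.obj.IsRepresentable) ∧
      ∀ I' : Ideal A, I < I' →
        ∀ (P : AlgSp.Sp (Spec A)) (fst : P ⟶ X.obj)
          (snd : P ⟶ (AlgSp.yon (Spec A)).obj (Over.mk (Spec.map (CommRingCat.ofHom (Ideal.Quotient.mk I'))))),
          IsPullback fst snd q ((AlgSp.yon (Spec A)).map (Over.homMk (Spec.map (CommRingCat.ofHom (Ideal.Quotient.mk I'))))) →
            P.obj.IsRepresentable := by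
  -- the canonical base change
  let Rp : Ideal A → Prop := fun I => (pullback ((yon (Spec A)).map (ι A I)) q).obj.IsRepresentable
  have bridge : ∀ (I : Ideal A) (P : AlgSp.Sp (Spec A)) (fst : P ⟶ X.obj)
      (snd : P ⟶ (AlgSp.yon (Spec A)).obj (Z A I)),
      IsPullback fst snd q ((AlgSp.yon (Spec A)).map (ι A I)) → (P.obj.IsRepresentable ↔ Rp I) := by
    intro I P fst snd sq
    exact ⟨rep_of_iso sq.flip.isoPullback, rep_of_iso sq.flip.isoPullback.symm⟩
  let 𝒮 : Set (Ideal A) := {I | ¬ Rp I}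
  have hbot : (⊥ : Ideal A) ∈ 𝒮 := by
    intro h
    apply hX
    haveI h1 : IsIso (CommRingCat.ofHom (Ideal.Quotient.mk (⊥ : Ideal A))) := by
      refine (ConcreteCategory.isIso_iff_bijective _).2 ⟨?_, Ideal.Quotient.mk_surjective⟩
      refine (RingHom.injective_iff_ker_eq_bot _).2 ?_
      exact Ideal.mk_ker
    haveI h2 : IsIso ((Over.forget (Spec A)).map (ι A (⊥ : Ideal A))) := by
      change IsIso (Spec.map (CommRingCat.ofHom (Ideal.Quotient.mk (⊥ : Ideal A))))
      infer_instance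
    haveI h3 : IsIso (ι A (⊥ : Ideal A)) := isIso_of_reflects_iso _ (Over.forget (Spec A))
    haveI h4 : IsIso ((yon (Spec A)).map (ι A (⊥ : Ideal A))) := inferInstance
    exact rep_of_iso (asIso (pullback.snd ((yon (Spec A)).map (ι A (⊥ : Ideal A))) q)) h
  obtain ⟨I, -, hI, hmax⟩ := zorn_le_nonempty₀ 𝒮 (by
    intro c hc𝒮 hc y hy
    refine ⟨sSup c, ?_, fun z hz => le_sSup hz⟩
    intro hrep
    obtain ⟨I, hIc, hI⟩ := exists_rep_stage c hc ⟨y, hy⟩ X q hqc hqs hrep
    exact hc𝒮 hIc hI) ⊥ hbot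
  refine ⟨I, fun P fst snd sq => ?_, fun I' hlt P fst snd sq => ?_⟩
  · exact fun h => hI ((bridge I P fst snd sq).1 h)
  · refine (bridge I' P fst snd sq).2 ?_
    by_contra hn
    exact absurd (hmax hn hlt.le) (not_le_of_gt hlt)

end W1
end H


/-- Let `X` be an algebraic space over `Spec A` with quasi-compact and quasi-separated structure
morphism. If `X` is not a scheme, there is an ideal `I ⊂ A` such that `X_{A/I}` is not a scheme but
`X_{A/I'}` is a scheme for every ideal `I'` strictly containing `I`. -/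
theorem result (A : CommRingCat.{u}) (X : AlgSp.Space (Spec A))
    (q : X.obj ⟶ (AlgSp.yon (Spec A)).obj (Over.mk (𝟙 (Spec A))))
    (hqc : AlgSp.IsQuasiCompactMor q) (hqs : AlgSp.IsQuasiSeparatedMor q) (hX : ¬ X.obj.obj.IsRepresentable) :
    ∃ I : Ideal A,
      (∀ (P : AlgSp.Sp (Spec A)) (fst : P ⟶ X.obj)
        (snd : P ⟶ (AlgSp.yon (Spec A)).obj (Over.mk (Spec.map (CommRingCat.ofHom (Ideal.Quotient.mk I))))),
        IsPullback fst snd q ((AlgSp.yon (Spec A)).map (Over.homMk (Spec.map (CommRingCat.ofHom (Ideal.Quotient.mk I))))) →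
          ¬ P.obj.IsRepresentable) ∧
      ∀ I' : Ideal A, I < I' →
        ∀ (P : AlgSp.Sp (Spec A)) (fst : P ⟶ X.obj)
          (snd : P ⟶ (AlgSp.yon (Spec A)).obj (Over.mk (Spec.map (CommRingCat.ofHom (Ideal.Quotient.mk I'))))),
          IsPullback fst snd q ((AlgSp.yon (Spec A)).map (Over.homMk (Spec.map (CommRingCat.ofHom (Ideal.Quotient.mk I'))))) →
            P.obj.IsRepresentable := by
  exact W1.main A X q hqc hqs hX

end Groth.Agent.S10052
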