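import Groth.Statements.S10055
import Groth.Agent.Lib.Helper15.UnivQuot
import Groth.Agent.Lib.Helper15.InfNbhd
import Groth.Agent.Lib.Helper3.AlgSpEtMono
-- import your own Groth.Agent.* helpers here

set_option autoImplicit false
universe u
open CategoryTheory CategoryTheory.Limits AlgebraicGeometry
open AlgSp

namespace Groth.Agent.S10055

section H
namespace W1
open Groth.Agent.Lib.Helper15 Groth.Agent.Lib.Helper3

variable {S : Scheme.{u}} {I : Type u} [SmallCategory I]

theorem main (DX DY : I ⥤ AlgSp.Sp S)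
    (τ : DX ⟶ DY) (hτ : ∀ i, AlgSp.RepWith @IsClosedImmersion (τ.app i))
    (cX : Cone DX) (hcX : IsLimit cX) (cY : Cone DY) (hcY : IsLimit cY)
    (g : cX.pt ⟶ cY.pt) (hg : ∀ i, g ≫ cY.π.app i = cX.π.app i ≫ τ.app i) :
    AlgSp.RepWith @IsClosedImmersion g := by
  refine repWith_of_forall @IsClosedImmersion g fun T k => ?_
  -- the fibres at each level
  let Vi : I → Over S := fun i => (hτ i).rep.pullback (k ≫ cY.π.app i)
  let p : ∀ i, Vi i ⟶ T := fun i => (hτ i).rep.snd (k ≫ cY.π.app i)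
  let x : ∀ i, (yon S).obj (Vi i) ⟶ DX.obj i := fun i => (hτ i).rep.fst (k ≫ cY.π.app i)
  have sq : ∀ i, IsPullback (x i) ((yon S).map (p i)) (τ.app i) (k ≫ cY.π.app i) := fun i =>
    (hτ i).rep.isPullback (k ≫ cY.π.app i)
  haveI hp : ∀ i, IsClosedImmersion (p i).left := fun i => (hτ i).2 _ _ _ (sq i)
  haveI hmono : ∀ i, Mono (τ.app i) := fun i => InfNbhd.mono_of_repWith_closedImmersion _ (hτ i)
  -- the intersection
  let Id : T.left.IdealSheafData := ⨆ i, (p i).left.ker
  let V : Over S := Over.mk (Id.subschemeι ≫ T.hom)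
  let snd : V ⟶ T := Over.homMk Id.subschemeι rfl
  haveI : IsClosedImmersion snd.left := inferInstanceAs (IsClosedImmersion Id.subschemeι)
  haveI : Mono snd := by
    haveI : Mono snd.left := inferInstance
    exact (Over.forget S).mono_of_mono_map ‹_›
  have hle : ∀ i, (p i).left.ker ≤ Id.subschemeι.ker := fun i => by
    rw [Scheme.IdealSheafData.ker_subschemeι]; exact le_iSup (fun i => (p i).left.ker) i
  let q : ∀ i, V ⟶ Vi i := fun i =>
    Over.homMk (IsClosedImmersion.lift (p i).left Id.subschemeι (hle i)) (by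
      change _ ≫ (Vi i).hom = Id.subschemeι ≫ T.hom
      rw [← Over.w (p i), ← Category.assoc, IsClosedImmersion.lift_fac])
  have hq : ∀ i, q i ≫ p i = snd := fun i => by
    apply Over.OverMorphism.ext
    exact IsClosedImmersion.lift_fac _ _ _
  -- the compatible family
  let y : ∀ i, (yon S).obj V ⟶ DX.obj i := fun i => (yon S).map (q i) ≫ x i
  have hyτ : ∀ i, y i ≫ τ.app i = (yon S).map snd ≫ k ≫ cY.π.app i := fun i => by
    change ((yon S).map (q i) ≫ x i) ≫ τ.app i = _
    rw [Category.assoc, (sq i).w, ← Category.assoc, ← Functor.map_comp, hq]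
  have hycompat : ∀ (i j : I) (φ : i ⟶ j), y i ≫ DX.map φ = y j := fun i j φ => by
    rw [← cancel_mono (τ.app j), Category.assoc, τ.naturality, ← Category.assoc, hyτ, hyτ,
      Category.assoc, Category.assoc, cY.w]
  have hnat : ∀ (i j : I) (φ : i ⟶ j),
      ((Functor.const I).obj ((yon S).obj V)).map φ ≫ y j = y i ≫ DX.map φ := fun i j φ => by
    simp only [Functor.const_obj_obj, Functor.const_obj_map, Category.id_comp]
    exact (hycompat i j φ).symm
  let coneV : Cone DX := ⟨(yon S).obj V, ⟨y, hnat⟩⟩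
  let fst : (yon S).obj V ⟶ cX.pt := hcX.lift coneV
  have hfst : ∀ i, fst ≫ cX.π.app i = y i := fun i => hcX.fac coneV i
  have w : fst ≫ g = (yon S).map snd ≫ k := by
    refine hcY.hom_ext fun i => ?_
    rw [Category.assoc, hg, ← Category.assoc, hfst, hyτ, Category.assoc]
  refine ⟨V, fst, snd, ?_, ‹_›⟩
  refine UnivQuot.isPullback_of_points _ _ _ _ w ?_ ?_
  · intro Z a b _ h2
    obtain ⟨a₀, rfl⟩ := (yon S).map_surjective a
    obtain ⟨b₀, rfl⟩ := (yon S).map_surjective b
    rw [← Functor.map_comp, ← Functor.map_comp] at h2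
    have := (yon S).map_injective h2
    rw [cancel_mono] at this
    rw [this]
  · intro Z x₂ x₃ h
    obtain ⟨b₀, rfl⟩ := (yon S).map_surjective x₃
    -- lifts at each level
    have hlev : ∀ i, ∃ l : Z ⟶ Vi i, l ≫ p i = b₀ ∧ (yon S).map l ≫ x i = x₂ ≫ cX.π.app i := by
      intro i
      have hw : (x₂ ≫ cX.π.app i) ≫ τ.app i = (yon S).map b₀ ≫ k ≫ cY.π.app i := by
        rw [Category.assoc, ← hg, ← Category.assoc, h, Category.assoc]
      obtain ⟨l, hl1, hl2⟩ := (sq i).exists_lift (x₂ ≫ cX.π.app i) ((yon S).map b₀) hw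
      obtain ⟨l₀, rfl⟩ := (yon S).map_surjective l
      rw [← Functor.map_comp] at hl2
      exact ⟨l₀, (yon S).map_injective hl2, hl1⟩
    choose l hl1 hl2 using hlev
    have hker : Id.subschemeι.ker ≤ b₀.left.ker := by
      rw [Scheme.IdealSheafData.ker_subschemeι]
      refine iSup_le fun i => ?_
      rw [← hl1 i, Over.comp_left]
      exact Scheme.Hom.le_ker_comp _ _
    let c₀ : Z ⟶ V := Over.homMk (IsClosedImmersion.lift Id.subschemeι b₀.left hker) (by
      change _ ≫ Id.subschemeι ≫ T.hom = Z.hom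
      rw [← Category.assoc, IsClosedImmersion.lift_fac, Over.w])
    have hc₀ : c₀ ≫ snd = b₀ := by
      apply Over.OverMorphism.ext
      exact IsClosedImmersion.lift_fac _ _ _
    refine ⟨(yon S).map c₀, ?_, by rw [← Functor.map_comp, hc₀]⟩
    refine hcX.hom_ext fun i => ?_
    rw [Category.assoc, hfst, ← hl2 i]
    change (yon S).map c₀ ≫ (yon S).map (q i) ≫ x i = _
    rw [← Category.assoc, ← Functor.map_comp]
    congr 2
    haveI : Mono (p i) := by
      haveI : Mono (p i).left := inferInstance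
      exact (Over.forget S).mono_of_mono_map ‹_›
    rw [← cancel_mono (p i), Category.assoc, hq, hc₀, hl1]

end W1
end H


/-- Let `(X_i) ⟶ (Y_i)` be a morphism of cofiltered systems of algebraic spaces over `S`, both with
affine transition morphisms, with every `X_i ⟶ Y_i` a closed immersion. Then the induced morphism of
limits (in fppf sheaves) `lim X_i ⟶ lim Y_i` is a closed immersion. -/
theorem result (S : Scheme.{u}) {I : Type u} [SmallCategory I] [IsCofiltered I]
    (DX DY : I ⥤ AlgSp.Sp S) (hDX : ∀ i, AlgSp.IsAlgSpace (DX.obj i)) (hDY : ∀ i, AlgSp.IsAlgSpace (DY.obj i))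
    (hXa : ∀ (i j : I) (φ : i ⟶ j), AlgSp.IsAffineMor (DX.map φ)) (hYa : ∀ (i j : I) (φ : i ⟶ j), AlgSp.IsAffineMor (DY.map φ))
    (τ : DX ⟶ DY) (hτ : ∀ i, AlgSp.RepWith @IsClosedImmersion (τ.app i))
    (cX : Cone DX) (hcX : IsLimit cX) (cY : Cone DY) (hcY : IsLimit cY)
    (g : cX.pt ⟶ cY.pt) (hg : ∀ i, g ≫ cY.π.app i = cX.π.app i ≫ τ.app i) :
    AlgSp.RepWith @IsClosedImmersion g := by
  exact W1.main DX DY τ hτ cX hcX cY hcY g hg

end Groth.Agent.S10055
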