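import Groth.Statements.S10056
import Groth.Agent.Lib.Helper15.UnivQuot
import Groth.Agent.Lib.Helper15.OnePointSp
import Groth.Agent.Lib.Helper3.AlgSpRepLocal2
import Groth.Agent.Lib.Helper9.AffLimExists
import Groth.Agent.S4774
-- import your own Groth.Agent.* helpers here

set_option autoImplicit false
universe u
open CategoryTheory CategoryTheory.Limits AlgebraicGeometry
open AlgSp

namespace Groth.Agent.S10056

section H
set_option backward.isDefEq.respectTransparency.types false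
namespace W1
open Groth.Agent.Lib.Helper15 Groth.Agent.Lib.Helper3

variable {S : Scheme.{u}} {I : Type u} [SmallCategory I] (D : I ⥤ AlgSp.Sp S)
  (hDa : ∀ (i j : I) (φ : i ⟶ j), AlgSp.RepWith @IsAffineHom (D.map φ)) (i₀ : I)
  {U₀ : Over S} (p₀ : (yon S).obj U₀ ⟶ D.obj i₀)

/-- the fibre chart at level `k` -/
noncomputable def Uk (k : Over i₀) : Over S := (hDa k.left i₀ k.hom).rep.pullback p₀

noncomputable def ak (k : Over i₀) : Uk D hDa i₀ p₀ k ⟶ U₀ := (hDa k.left i₀ k.hom).rep.snd p₀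

noncomputable def pk (k : Over i₀) : (yon S).obj (Uk D hDa i₀ p₀ k) ⟶ D.obj k.left :=
  (hDa k.left i₀ k.hom).rep.fst p₀

theorem sqk (k : Over i₀) :
    IsPullback (pk D hDa i₀ p₀ k) ((yon S).map (ak D hDa i₀ p₀ k)) (D.map k.hom) p₀ :=
  (hDa k.left i₀ k.hom).rep.isPullback p₀

theorem isAffineHom_ak (k : Over i₀) : IsAffineHom (ak D hDa i₀ p₀ k).left :=
  (hDa k.left i₀ k.hom).2 _ _ _ (sqk D hDa i₀ p₀ k)

theorem uk_w {k k' : Over i₀} (ψ : k ⟶ k') :
    (pk D hDa i₀ p₀ k ≫ D.map ψ.left) ≫ D.map k'.hom = (yon S).map (ak D hDa i₀ p₀ k) ≫ p₀ := by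
  rw [Category.assoc, ← D.map_comp, Over.w ψ, (sqk D hDa i₀ p₀ k).w]

noncomputable def uk {k k' : Over i₀} (ψ : k ⟶ k') : Uk D hDa i₀ p₀ k ⟶ Uk D hDa i₀ p₀ k' :=
  (yon S).preimage ((sqk D hDa i₀ p₀ k').lift (pk D hDa i₀ p₀ k ≫ D.map ψ.left)
    ((yon S).map (ak D hDa i₀ p₀ k)) (uk_w D hDa i₀ p₀ ψ))

theorem uk_p {k k' : Over i₀} (ψ : k ⟶ k') :
    (yon S).map (uk D hDa i₀ p₀ ψ) ≫ pk D hDa i₀ p₀ k' = pk D hDa i₀ p₀ k ≫ D.map ψ.left := by
  rw [uk, Functor.map_preimage, IsPullback.lift_fst]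

theorem uk_a {k k' : Over i₀} (ψ : k ⟶ k') :
    uk D hDa i₀ p₀ ψ ≫ ak D hDa i₀ p₀ k' = ak D hDa i₀ p₀ k := by
  apply (yon S).map_injective
  rw [Functor.map_comp, uk, Functor.map_preimage, IsPullback.lift_snd]

theorem hom_ext_Uk {T : Over S} {k : Over i₀} (x y : T ⟶ Uk D hDa i₀ p₀ k)
    (h1 : (yon S).map x ≫ pk D hDa i₀ p₀ k = (yon S).map y ≫ pk D hDa i₀ p₀ k)
    (h2 : x ≫ ak D hDa i₀ p₀ k = y ≫ ak D hDa i₀ p₀ k) : x = y := by
  apply (yon S).map_injective
  apply (sqk D hDa i₀ p₀ k).hom_ext h1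
  rw [← Functor.map_comp, ← Functor.map_comp, h2]

noncomputable def E : Over i₀ ⥤ Over S where
  obj := Uk D hDa i₀ p₀
  map ψ := uk D hDa i₀ p₀ ψ
  map_id k := by
    apply hom_ext_Uk
    · rw [uk_p]; simp
    · rw [uk_a]; simp
  map_comp ψ ψ' := by
    apply hom_ext_Uk
    · rw [uk_p, Functor.map_comp, Category.assoc, uk_p, ← Category.assoc, uk_p]; simp
    · rw [uk_a, Category.assoc, uk_a, uk_a]

theorem isAffineHom_uk {k k' : Over i₀} (ψ : k ⟶ k') :
    IsAffineHom (uk D hDa i₀ p₀ ψ).left := by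
  have h1 : (uk D hDa i₀ p₀ ψ).left ≫ (ak D hDa i₀ p₀ k').left = (ak D hDa i₀ p₀ k).left := by
    rw [← Over.comp_left, uk_a]
  have h2 : IsAffineHom ((uk D hDa i₀ p₀ ψ).left ≫ (ak D hDa i₀ p₀ k').left) := by
    rw [h1]; exact isAffineHom_ak D hDa i₀ p₀ k
  have h3 : IsSeparated (ak D hDa i₀ p₀ k').left := by
    haveI := isAffineHom_ak D hDa i₀ p₀ k'
    infer_instance
  exact MorphismProperty.of_postcomp (W := @IsAffineHom) (W' := @IsSeparated) _ _ h3 h2

variable [IsCofiltered I]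

include hDa in
theorem main (c : Cone D) (hc : IsLimit c) (hp₀e : RepWith @Etale p₀) (hp₀s : RepWith @Surjective p₀)
    (hred : ∀ i, AlgSp.IsReducedSp (D.obj i)) : AlgSp.IsReducedSp c.pt := by
  haveI : IsConnected (Over i₀) := IsCofiltered.isConnected (Over i₀)
  let E₀ := E D hDa i₀ p₀
  haveI : ∀ {k k' : Over i₀} (ψ : k ⟶ k'), IsAffineHom ((E₀ ⋙ Over.forget S).map ψ) :=
    fun ψ => isAffineHom_uk D hDa i₀ p₀ ψ
  haveI : HasLimit (E₀ ⋙ Over.forget S) := Groth.Agent.Lib.Helper9.AffLimExists.hasLimit _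
  haveI : HasLimit E₀ := hasLimit_of_created E₀ (Over.forget S)
  let cE : Cone E₀ := limit.cone E₀
  have hcE : IsLimit cE := limit.isLimit E₀
  have hcEL : IsLimit ((Over.forget S).mapCone cE) := isLimitOfPreserves (Over.forget S) hcE
  -- charts at every level
  have hpke : ∀ k, RepWith @Etale (pk D hDa i₀ p₀ k) := fun k =>
    MorphismProperty.of_isPullback (sqk D hDa i₀ p₀ k).flip hp₀e
  have hUk : ∀ k : Over i₀, IsReduced (E₀.obj k).left := fun k =>
    OnePointSp.isReduced_chart (hred k.left) (pk D hDa i₀ p₀ k) (hpke k)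
  have hredU : IsReduced cE.pt.left := by
    by_contra h
    obtain ⟨k, hk⟩ := Groth.Agent.S4774.result (E₀ ⋙ Over.forget S) _ hcEL h
    exact hk k (𝟙 k) (hUk k)
  -- the restricted limit cone
  have hc' : IsLimit (c.whisker (Over.forget i₀)) :=
    (Functor.Initial.isLimitWhiskerEquiv (Over.forget i₀) c).symm hc
  let k₀ : Over i₀ := Over.mk (𝟙 i₀)
  let π : ∀ k : Over i₀, cE.pt ⟶ Uk D hDa i₀ p₀ k := fun k => cE.π.app k
  have hπw : ∀ (k k' : Over i₀) (ψ : k ⟶ k'), π k ≫ uk D hDa i₀ p₀ ψ = π k' :=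
    fun k k' ψ => cE.w ψ
  have hπext : ∀ {T : Over S} (x y : T ⟶ cE.pt), (∀ k, x ≫ π k = y ≫ π k) → x = y :=
    fun x y h => hcE.hom_ext h
  obtain ⟨aInf, haInfdef⟩ : ∃ a : cE.pt ⟶ U₀, a = π k₀ ≫ ak D hDa i₀ p₀ k₀ := ⟨_, rfl⟩
  have haInf : ∀ k : Over i₀, π k ≫ ak D hDa i₀ p₀ k = aInf := fun k => by
    rw [haInfdef, ← hπw k k₀ (Over.homMk k.hom), Category.assoc, uk_a]
  -- the map to the limit
  have hnat : ∀ (k k' : Over i₀) (ψ : k ⟶ k'),
      ((yon S).map (π k) ≫ pk D hDa i₀ p₀ k) ≫ D.map ψ.left =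
        (yon S).map (π k') ≫ pk D hDa i₀ p₀ k' := fun k k' ψ => by
    rw [Category.assoc, ← uk_p, ← Category.assoc, ← Functor.map_comp, hπw]
  let coneQ : Cone (Over.forget i₀ ⋙ D) := ⟨(yon S).obj cE.pt,
    ⟨fun k => (yon S).map (π k) ≫ pk D hDa i₀ p₀ k, fun k k' ψ => by
      simp only [Functor.const_obj_obj, Functor.const_obj_map, Category.id_comp]
      exact (hnat k k' ψ).symm⟩⟩
  let q : (yon S).obj cE.pt ⟶ c.pt := hc'.lift coneQ
  have hq : ∀ k : Over i₀, q ≫ c.π.app k.left =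
      (yon S).map (π k) ≫ pk D hDa i₀ p₀ k := fun k => hc'.fac coneQ k
  have w : q ≫ c.π.app i₀ = (yon S).map aInf ≫ p₀ := by
    have h1 : q ≫ c.π.app i₀ = (yon S).map (π k₀) ≫ pk D hDa i₀ p₀ k₀ := hq k₀
    have h2 : pk D hDa i₀ p₀ k₀ = (yon S).map (ak D hDa i₀ p₀ k₀) ≫ p₀ := by
      have h3 := (sqk D hDa i₀ p₀ k₀).w
      have h4 : D.map k₀.hom = 𝟙 _ := D.map_id i₀
      rw [h4] at h3
      exact (Category.comp_id _).symm.trans h3
    rw [h1, h2, ← Category.assoc, ← Functor.map_comp, haInfdef]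
  have sq : IsPullback q ((yon S).map aInf) (c.π.app i₀) p₀ := by
    refine UnivQuot.isPullback_of_points _ _ _ _ w ?_ ?_
    · intro T x y h1 h2
      obtain ⟨x₀, rfl⟩ := (yon S).map_surjective x
      obtain ⟨y₀, rfl⟩ := (yon S).map_surjective y
      congr 1
      refine hπext _ _ fun k => ?_
      apply hom_ext_Uk
      · rw [Functor.map_comp, Functor.map_comp, Category.assoc, Category.assoc, ← hq k,
          ← Category.assoc, h1, Category.assoc]
      · rw [Category.assoc, Category.assoc, haInf k]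
        apply (yon S).map_injective
        rw [Functor.map_comp, Functor.map_comp, h2]
    · intro T x₂ x₃ h
      obtain ⟨b₀, rfl⟩ := (yon S).map_surjective x₃
      have hw : ∀ k : Over i₀, (x₂ ≫ c.π.app k.left) ≫ D.map k.hom = (yon S).map b₀ ≫ p₀ := fun k => by
        rw [Category.assoc, c.w, h]
      let l : ∀ k : Over i₀, T ⟶ Uk D hDa i₀ p₀ k := fun k =>
        (yon S).preimage ((sqk D hDa i₀ p₀ k).lift (x₂ ≫ c.π.app k.left) ((yon S).map b₀) (hw k))
      have hl1 : ∀ k, (yon S).map (l k) ≫ pk D hDa i₀ p₀ k = x₂ ≫ c.π.app k.left := fun k => by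
        simp only [l, Functor.map_preimage, IsPullback.lift_fst]
      have hl2 : ∀ k, l k ≫ ak D hDa i₀ p₀ k = b₀ := fun k => by
        apply (yon S).map_injective
        simp only [l, Functor.map_comp, Functor.map_preimage, IsPullback.lift_snd]
      have hlnat : ∀ (k k' : Over i₀) (ψ : k ⟶ k'), l k ≫ uk D hDa i₀ p₀ ψ = l k' := fun k k' ψ => by
        apply hom_ext_Uk
        · rw [Functor.map_comp, Category.assoc, uk_p, ← Category.assoc, hl1, hl1, Category.assoc, c.w]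
        · rw [Category.assoc, uk_a, hl2, hl2]
      let coneT : Cone E₀ := ⟨T, ⟨l, fun k k' ψ => by
        simp only [Functor.const_obj_obj, Functor.const_obj_map, Category.id_comp]
        exact (hlnat k k' ψ).symm⟩⟩
      let lInf : T ⟶ cE.pt := hcE.lift coneT
      have hlInf : ∀ k, lInf ≫ π k = l k := fun k => hcE.fac coneT k
      refine ⟨(yon S).map lInf, ?_, ?_⟩
      · refine hc'.hom_ext fun k => ?_
        change ((yon S).map lInf ≫ q) ≫ c.π.app k.left = x₂ ≫ c.π.app k.left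
        rw [Category.assoc, hq, ← Category.assoc, ← Functor.map_comp, hlInf, hl1]
      · rw [← Functor.map_comp]
        congr 1
        rw [haInfdef, ← Category.assoc, hlInf, hl2]
  exact ⟨cE.pt, q, MorphismProperty.of_isPullback sq.flip hp₀e,
    MorphismProperty.of_isPullback sq.flip hp₀s, hredU⟩

omit hDa in
theorem main' (hDa' : ∀ (i j : I) (φ : i ⟶ j), AlgSp.IsAffineMor (D.map φ))
    (c : Cone D) (hc : IsLimit c) (hred : ∀ i, AlgSp.IsReducedSp (D.obj i)) :
    AlgSp.IsReducedSp c.pt := by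
  obtain ⟨i₀⟩ := IsCofiltered.nonempty (C := I)
  obtain ⟨U₀, p₀, he, hs, -⟩ := hred i₀
  exact main D (fun i j φ => (isAffineMor_iff_repWith _).1 (hDa' i j φ)) i₀ p₀ c hc he hs hred

end W1
end H


/-- Let `X` be the limit, in fppf sheaves over `S`, of a cofiltered system `(X_i)` of algebraic spaces
over `S` whose transition maps are affine. If each `X_i` is reduced, then `X` is reduced. (The
published statement does not restate that the transition morphisms are affine; the limit it refers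
to is formed under that assumption, which this row states.) -/
theorem result (S : Scheme.{u}) {I : Type u} [SmallCategory I] [IsCofiltered I]
    (D : I ⥤ AlgSp.Sp S) (hD : ∀ i, AlgSp.IsAlgSpace (D.obj i))
    (hDa : ∀ (i j : I) (φ : i ⟶ j), AlgSp.IsAffineMor (D.map φ))
    (c : Cone D) (hc : IsLimit c)
    (hred : ∀ i, AlgSp.IsReducedSp (D.obj i)) : AlgSp.IsReducedSp c.pt := by
  exact W1.main' D hDa c hc hred

end Groth.Agent.S10056
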