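import Groth.Statements.S10057
import Groth.Agent.Lib.Helper3.AlgSpMonoPt
import Groth.Agent.Lib.Helper15.BddFibSp
import Groth.Agent.Lib.Helper15.GeomDesc
import Mathlib.Algebra.Category.Ring.FilteredColimits
import Mathlib.CategoryTheory.Limits.ConcreteCategory.Basic
-- import your own Groth.Agent.* helpers here

set_option autoImplicit false
universe u
open CategoryTheory CategoryTheory.Limits AlgebraicGeometry
open AlgSp

namespace Groth.Agent.S10057

section H
namespace W1

open Groth.Agent.Lib.Helper3 Groth.Agent.Lib.Helper15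
set_option backward.isDefEq.respectTransparency.types false

/-- a filtered colimit of fields is a field -/
theorem isField_colimit {J : Type u} [SmallCategory J] [IsFiltered J] (G : J ⥤ CommRingCat.{u})
    (hG : ∀ j, IsField (G.obj j)) : IsField ↑(colimit G) := by
  obtain ⟨j₀⟩ := IsFiltered.nonempty (C := J)
  refine ⟨⟨0, 1, ?_⟩, mul_comm, ?_⟩
  · intro h01
    have h : colimit.ι G j₀ (0 : G.obj j₀) = colimit.ι G j₀ (1 : G.obj j₀) := by
      rw [map_zero, map_one]
      exact h01
    obtain ⟨k, f, g, hfg⟩ := Concrete.colimit_exists_of_rep_eq G _ _ h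
    rw [map_zero, map_one] at hfg
    haveI := (hG k).nontrivial
    exact zero_ne_one hfg
  · intro a ha
    obtain ⟨j, y, rfl⟩ := Concrete.colimit_exists_rep G a
    have hy : y ≠ 0 := by
      rintro rfl
      exact ha (map_zero _)
    obtain ⟨z, hz⟩ := (hG j).mul_inv_cancel hy
    refine ⟨colimit.ι G j z, ?_⟩
    rw [← map_mul, hz, map_one]

variable {S : Scheme.{u}} {I : Type u} [SmallCategory I] [IsCofiltered I]

/-- the field of a compatible system of monomorphic field points of a cofiltered system, with its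
cone to the limit and its versal property -/
theorem exists_field_cone (D : I ⥤ AlgSp.Sp S) (hD : ∀ i, AlgSp.IsAlgSpace (D.obj i))
    (c : Cone D) (hc : IsLimit c)
    (p : ∀ i, FieldPt (D.obj i)) (hm : ∀ i, Mono (p i).toHom)
    (hcompat : ∀ (i j : I) (φ : i ⟶ j),
      Points.map (D.map φ) (Points.mk (p i)) = Points.mk (p j)) :
    ∃ (k : Type u) (_ : Field k) (str : Spec (CommRingCat.of k) ⟶ S)
      (t : ∀ i, Over.mk str ⟶ (p i).pt) (l : (yon S).obj (Over.mk str) ⟶ c.pt),
      (∀ i, l ≫ c.π.app i = (yon S).map (t i) ≫ (p i).toHom) ∧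
      ∀ (K : Type u) [Field K] (w : Spec (CommRingCat.of K) ⟶ S) (d : ∀ i, Over.mk w ⟶ (p i).pt),
        (∀ (i j : I) (φ : i ⟶ j), (yon S).map (d i) ≫ (p i).toHom ≫ D.map φ =
          (yon S).map (d j) ≫ (p j).toHom) →
        ∃ e : Over.mk w ⟶ Over.mk str, ∀ i, e ≫ t i = d i := by
  -- the transition morphisms
  have hex : ∀ (i j : I) (φ : i ⟶ j), ∃ cφ : (p i).pt ⟶ (p j).pt,
      (yon S).map cφ ≫ (p j).toHom = (p i).toHom ≫ D.map φ := by
    intro i j φ
    haveI := hm j
    have h := hcompat i j φ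
    rw [Points.map_mk] at h
    obtain ⟨cφ, hcφ⟩ := exists_factor_of_mono_fieldPt (hD j) (p j) ((p i).map (D.map φ)) h.symm
    rw [FieldPt.toHom_map] at hcφ
    exact ⟨cφ, hcφ⟩
  choose cc hcc using hex
  have huniq : ∀ (j : I) {T : Over S} (x y : T ⟶ (p j).pt),
      (yon S).map x ≫ (p j).toHom = (yon S).map y ≫ (p j).toHom → x = y := by
    intro j T x y h
    haveI := hm j
    exact (yon S).map_injective ((cancel_mono _).1 h)
  have hcc_id : ∀ i, cc i i (𝟙 i) = 𝟙 _ := by
    intro i
    apply huniq i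
    rw [hcc, D.map_id, Category.comp_id, (yon S).map_id, Category.id_comp]
  have hcc_comp : ∀ (i j l : I) (φ : i ⟶ j) (ψ : j ⟶ l),
      cc i l (φ ≫ ψ) = cc i j φ ≫ cc j l ψ := by
    intro i j l φ ψ
    apply huniq l
    rw [hcc, (yon S).map_comp, Category.assoc, hcc, ← Category.assoc, hcc, Category.assoc,
      D.map_comp]
  -- the diagram of fields
  let cl : ∀ (i j : I) (φ : i ⟶ j),
      Spec (CommRingCat.of (p i).K) ⟶ Spec (CommRingCat.of (p j).K) := fun i j φ => (cc i j φ).left
  let G : Iᵒᵖ ⥤ CommRingCat.{u} :=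
    { obj := fun i => CommRingCat.of (p i.unop).K
      map := fun {i j} φ => Spec.preimage (cl j.unop i.unop φ.unop)
      map_id := fun i => by
        apply Spec.map_injective
        rw [Spec.map_preimage, Spec.map_id]
        show (cc i.unop i.unop (𝟙 i.unop)).left = 𝟙 _
        rw [hcc_id]
        rfl
      map_comp := fun {i j l} φ ψ => by
        apply Spec.map_injective
        rw [Spec.map_preimage, Spec.map_comp, Spec.map_preimage, Spec.map_preimage]
        show (cc l.unop i.unop (ψ.unop ≫ φ.unop)).left =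
          (cc l.unop j.unop ψ.unop).left ≫ (cc j.unop i.unop φ.unop).left
        rw [hcc_comp]
        rfl }
  have hGmap : ∀ (i j : I) (φ : i ⟶ j), Spec.map (G.map φ.op) = (cc i j φ).left :=
    fun i j φ => Spec.map_preimage _
  have hfield : IsField ↑(colimit G) :=
    isField_colimit G (fun j => Field.toIsField (p j.unop).K)
  letI : Field ↑(colimit G) := hfield.toField
  obtain ⟨i₀⟩ := IsCofiltered.nonempty (C := I)
  let ι : ∀ i : I, CommRingCat.of (p i).K ⟶ colimit G := fun i => colimit.ι G (Opposite.op i)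
  have hι : ∀ (i j : I) (φ : i ⟶ j), G.map φ.op ≫ ι i = ι j := fun i j φ => colimit.w G φ.op
  -- structure morphisms
  let σ : ∀ i : I, Spec (colimit G) ⟶ S := fun i => Spec.map (ι i) ≫ (p i).str
  have hσ : ∀ (i j : I) (φ : i ⟶ j), σ i = σ j := by
    intro i j φ
    show Spec.map (ι i) ≫ (p i).str = Spec.map (ι j) ≫ (p j).str
    rw [← hι i j φ, Spec.map_comp, hGmap, Category.assoc]
    congr 1
    exact (Over.w (cc i j φ)).symm
  have hσ₀ : ∀ i, σ i = σ i₀ := by
    intro i
    rw [← hσ _ _ (IsCofiltered.minToLeft i i₀), ← hσ _ _ (IsCofiltered.minToRight i i₀)]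
  let str : Spec (CommRingCat.of ↑(colimit G)) ⟶ S := σ i₀
  let t : ∀ i, Over.mk str ⟶ (p i).pt := fun i => Over.homMk (Spec.map (ι i)) (hσ₀ i)
  have ht : ∀ (i j : I) (φ : i ⟶ j), t i ≫ cc i j φ = t j := by
    intro i j φ
    ext
    show Spec.map (ι i) ≫ (cc i j φ).left = Spec.map (ι j)
    rw [← hGmap, ← Spec.map_comp, hι]
  let coneT : Cone D := ⟨(yon S).obj (Over.mk str),
    ⟨fun i => (yon S).map (t i) ≫ (p i).toHom, fun i j φ => by
      simp only [Functor.const_obj_obj, Functor.const_obj_map, Category.id_comp]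
      rw [Category.assoc, ← hcc, ← Category.assoc, ← Functor.map_comp, ht]⟩⟩
  refine ⟨↑(colimit G), inferInstance, str, t, hc.lift coneT, fun i => hc.fac coneT i, ?_⟩
  intro K _ w d hd
  have hdc : ∀ (i j : I) (φ : i ⟶ j), d i ≫ cc i j φ = d j := by
    intro i j φ
    apply huniq j
    rw [(yon S).map_comp, Category.assoc, hcc, hd]
  let dl : ∀ i, Spec (CommRingCat.of K) ⟶ Spec (CommRingCat.of (p i).K) := fun i => (d i).left
  let δ : ∀ i : I, CommRingCat.of (p i).K ⟶ CommRingCat.of K := fun i => Spec.preimage (dl i)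
  have hδ : ∀ i, Spec.map (δ i) = (d i).left := fun i => Spec.map_preimage _
  have hδnat : ∀ (i j : I) (φ : i ⟶ j), G.map φ.op ≫ δ i = δ j := by
    intro i j φ
    apply Spec.map_injective
    rw [Spec.map_comp, hδ, hδ, hGmap, ← hdc i j φ]
    rfl
  let coc : Cocone G := ⟨CommRingCat.of K, ⟨fun i => δ i.unop, fun i j φ => by
    simp only [Functor.const_obj_obj, Functor.const_obj_map, Category.comp_id]
    exact hδnat _ _ φ.unop⟩⟩
  let δc : colimit G ⟶ CommRingCat.of K := colimit.desc G coc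
  have hδc : ∀ i, ι i ≫ δc = δ i := fun i => colimit.ι_desc coc (Opposite.op i)
  refine ⟨Over.homMk (Spec.map δc) ?_, ?_⟩
  · show Spec.map δc ≫ Spec.map (ι i₀) ≫ (p i₀).str = w
    rw [← Category.assoc, ← Spec.map_comp, hδc, hδ]
    exact Over.w (d i₀)
  · intro i
    ext
    show Spec.map δc ≫ Spec.map (ι i) = (d i).left
    rw [← Spec.map_comp, hδc, hδ]

theorem surj (D : I ⥤ AlgSp.Sp S) (hD : ∀ i, AlgSp.IsAlgSpace (D.obj i))
    (c : Cone D) (hc : IsLimit c) (hdec : ∀ i, AlgSp.IsDecent (D.obj i))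
    (s : ∀ i, AlgSp.Points (D.obj i))
    (hs : ∀ (i j : I) (φ : i ⟶ j), AlgSp.Points.map (D.map φ) (s i) = s j) :
    ∃ x : AlgSp.Points c.pt, ∀ i, AlgSp.Points.map (c.π.app i) x = s i := by
  choose p hp hm hq using fun i => hdec i (s i)
  have hcompat : ∀ (i j : I) (φ : i ⟶ j),
      Points.map (D.map φ) (Points.mk (p i)) = Points.mk (p j) := by
    intro i j φ
    rw [hp, hp]
    exact hs i j φ
  obtain ⟨k, _, str, t, l, hl, -⟩ := exists_field_cone D hD c hc p hm hcompat
  let P : FieldPt c.pt := ⟨k, str, (J S).uliftYonedaEquiv l⟩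
  have hP : P.toHom = l := Equiv.symm_apply_apply _ _
  refine ⟨Points.mk P, fun i => ?_⟩
  rw [Points.map_mk, ← hp i, Points.mk_eq_mk_iff, BddFibSp.rel_iff]
  refine ⟨k, inferInstance, str, 𝟙 _, t i, ?_⟩
  rw [FieldPt.toHom_map, hP, hl i]
  erw [(yon S).map_id, Category.id_comp]

theorem inj (D : I ⥤ AlgSp.Sp S) (hD : ∀ i, AlgSp.IsAlgSpace (D.obj i))
    (c : Cone D) (hc : IsLimit c) (hdec : ∀ i, AlgSp.IsDecent (D.obj i))
    (x x' : AlgSp.Points c.pt)
    (hxx : ∀ i, AlgSp.Points.map (c.π.app i) x = AlgSp.Points.map (c.π.app i) x') : x = x' := by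
  induction x using Points.ind with | _ q => ?_
  induction x' using Points.ind with | _ q' => ?_
  choose p hp hm hqc using fun i => hdec i (Points.map (c.π.app i) (Points.mk q))
  have hcompat : ∀ (i j : I) (φ : i ⟶ j),
      Points.map (D.map φ) (Points.mk (p i)) = Points.mk (p j) := by
    intro i j φ
    rw [hp, hp, ← Points.map_comp, c.w]
  obtain ⟨k, _, str, t, l, hl, hvers⟩ := exists_field_cone D hD c hc p hm hcompat
  -- factorizations of the two points
  have hd : ∀ i, ∃ d : q.pt ⟶ (p i).pt,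
      (yon S).map d ≫ (p i).toHom = q.toHom ≫ c.π.app i := by
    intro i
    haveI := hm i
    have h : Points.mk (p i) = Points.mk (q.map (c.π.app i)) := by rw [hp i, Points.map_mk]
    obtain ⟨d, hd⟩ := exists_factor_of_mono_fieldPt (hD i) (p i) (q.map (c.π.app i)) h
    rw [FieldPt.toHom_map] at hd
    exact ⟨d, hd⟩
  have hd' : ∀ i, ∃ d : q'.pt ⟶ (p i).pt,
      (yon S).map d ≫ (p i).toHom = q'.toHom ≫ c.π.app i := by
    intro i
    haveI := hm i
    have h : Points.mk (p i) = Points.mk (q'.map (c.π.app i)) := by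
      rw [hp i, hxx i, Points.map_mk]
    obtain ⟨d, hd⟩ := exists_factor_of_mono_fieldPt (hD i) (p i) (q'.map (c.π.app i)) h
    rw [FieldPt.toHom_map] at hd
    exact ⟨d, hd⟩
  choose d hd using hd
  choose d' hd' using hd'
  obtain ⟨e, he⟩ := hvers q.K q.str d (fun i j φ => by
    rw [← Category.assoc, hd i, Category.assoc, c.w, hd j])
  obtain ⟨e', he'⟩ := hvers q'.K q'.str d' (fun i j φ => by
    rw [← Category.assoc, hd' i, Category.assoc, c.w, hd' j])
  -- a common extension over `k`
  have sqP := (IsPullback.of_hasPullback e e').map (Over.forget S)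
  simp only [Over.forget_obj, Over.forget_map] at sqP
  haveI : Subsingleton ↥(Spec (CommRingCat.of k)) :=
    inferInstanceAs (Subsingleton (PrimeSpectrum k))
  have hpt : e.left (IsLocalRing.closedPoint q.K) = e'.left (IsLocalRing.closedPoint q'.K) :=
    Subsingleton.elim (α := ↥(Spec (CommRingCat.of k))) _ _
  obtain ⟨z, hz1, hz2⟩ := Scheme.Pullback.exists_preimage_pullback
    (f := e.left) (g := e'.left) (IsLocalRing.closedPoint q.K) (IsLocalRing.closedPoint q'.K) hpt
  let z' : ↥(pullback e e').left := sqP.isoPullback.inv z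
  let jz : Over.mk ((pullback e e').left.fromSpecResidueField z' ≫ (pullback e e').hom) ⟶
    pullback e e' := Over.homMk ((pullback e e').left.fromSpecResidueField z') rfl
  rw [Points.mk_eq_mk_iff, BddFibSp.rel_iff]
  refine ⟨(pullback e e').left.residueField z', inferInstance, _, jz ≫ pullback.fst e e',
    jz ≫ pullback.snd e e', ?_⟩
  refine hc.hom_ext fun i => ?_
  rw [Category.assoc, Category.assoc, ← hd i, ← hd' i, ← he i, ← he' i, ← Category.assoc,
    ← Category.assoc, ← Functor.map_comp, ← Functor.map_comp]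
  congr 2
  rw [Category.assoc, Category.assoc, ← Category.assoc (pullback.fst e e'), pullback.condition,
    Category.assoc]

theorem main (D : I ⥤ AlgSp.Sp S) (hD : ∀ i, AlgSp.IsAlgSpace (D.obj i))
    (c : Cone D) (hc : IsLimit c) (hdec : ∀ i, AlgSp.IsDecent (D.obj i)) :
    (∀ x x' : AlgSp.Points c.pt, (∀ i, AlgSp.Points.map (c.π.app i) x =
      AlgSp.Points.map (c.π.app i) x') → x = x') ∧
    (∀ s : ∀ i, AlgSp.Points (D.obj i), (∀ (i j : I) (φ : i ⟶ j),
      AlgSp.Points.map (D.map φ) (s i) = s j) →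
      ∃ x : AlgSp.Points c.pt, ∀ i, AlgSp.Points.map (c.π.app i) x = s i) :=
  ⟨fun x x' h => inj D hD c hc hdec x x' h, fun s hs => surj D hD c hc hdec s hs⟩

end W1
end H


/-- Let `X` be the limit, in fppf sheaves over `S`, of a cofiltered system `(X_i)` of decent algebraic
spaces over `S` with affine transition morphisms. Then `|X| = lim |X_i|` as sets: the projections
separate the points of `X`, and every compatible family of points `(x_i ∈ |X_i|)` comes from a point
of `X`. -/
theorem result (S : Scheme.{u}) {I : Type u} [SmallCategory I] [IsCofiltered I]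
    (D : I ⥤ AlgSp.Sp S) (hD : ∀ i, AlgSp.IsAlgSpace (D.obj i))
    (hDa : ∀ (i j : I) (φ : i ⟶ j), AlgSp.IsAffineMor (D.map φ))
    (c : Cone D) (hc : IsLimit c)
    (hdec : ∀ i, AlgSp.IsDecent (D.obj i)) :
    (∀ x x' : AlgSp.Points c.pt, (∀ i, AlgSp.Points.map (c.π.app i) x = AlgSp.Points.map (c.π.app i) x') → x = x') ∧
    (∀ s : ∀ i, AlgSp.Points (D.obj i), (∀ (i j : I) (φ : i ⟶ j), AlgSp.Points.map (D.map φ) (s i) = s j) →
      ∃ x : AlgSp.Points c.pt, ∀ i, AlgSp.Points.map (c.π.app i) x = s i) := by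
  exact (W1.main D hD c hc hdec)

end Groth.Agent.S10057
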