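import Groth.Statements.S10058
import Groth.Agent.Lib.Helper15.LimChart
import Groth.Agent.Lib.Helper3.AlgSpImmersionPts
import Groth.Agent.Lib.Helper3.AlgSpChartPts
import Groth.Agent.Lib.Helper3.AlgSpRepLocal2
import Mathlib.AlgebraicGeometry.AffineTransitionLimit
-- import your own Groth.Agent.* helpers here

set_option autoImplicit false
universe u
open CategoryTheory CategoryTheory.Limits AlgebraicGeometry
open AlgSp

namespace Groth.Agent.S10058

section H
namespace W1

open Groth.Agent.Lib.Helper3 Groth.Agent.Lib.Helper15 Groth.Agent.Lib.Helper15.LimChart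
  Groth.Agent.S10056.W1
open Topology
set_option backward.isDefEq.respectTransparency.types false

variable {S : Scheme.{u}} {I : Type u} [SmallCategory I] [IsCofiltered I]

/-- the initial topology for the projections -/
@[instance_reducible] noncomputable def limTop (D : I ⥤ AlgSp.Sp S) (c : Cone D) : TopologicalSpace (Points c.pt) :=
  ⨅ i, TopologicalSpace.induced (AlgSp.Points.map (c.π.app i))
    (AlgSp.Points.topologicalSpace (D.obj i))

theorem main (D : I ⥤ AlgSp.Sp S) (hD : ∀ i, AlgSp.IsAlgSpace (D.obj i))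
    (hDa' : ∀ (i j : I) (φ : i ⟶ j), AlgSp.IsAffineMor (D.map φ))
    (c : Cone D) (hc : IsLimit c) :
    AlgSp.Points.topologicalSpace c.pt =
      ⨅ i, TopologicalSpace.induced (AlgSp.Points.map (c.π.app i))
        (AlgSp.Points.topologicalSpace (D.obj i)) := by
  have hDa : ∀ (i j : I) (φ : i ⟶ j), AlgSp.RepWith @IsAffineHom (D.map φ) :=
    fun i j φ => (isAffineMor_iff_repWith _).1 (hDa' i j φ)
  show AlgSp.Points.topologicalSpace c.pt = limTop D c
  apply le_antisymm
  · exact le_iInf fun i => continuous_iff_le_induced.1 (Points.continuous_map (c.π.app i))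
  · intro W hW
    show IsOpen[limTop D c] W
    obtain ⟨i₀⟩ := IsCofiltered.nonempty (C := I)
    obtain ⟨U₀, p₀, hp₀e, hp₀s⟩ := (hD i₀).atlas
    obtain ⟨cE, hcE, hcEL, q, a, sq, ha, hq, -⟩ := exists_chart D hDa i₀ p₀ c hc
    have hqe : RepWith @Etale q := MorphismProperty.of_isPullback sq.flip hp₀e
    have hqs : RepWith @Surjective q := MorphismProperty.of_isPullback sq.flip hp₀s
    have hpke : ∀ k, RepWith @Etale (pk D hDa i₀ p₀ k) := fun k =>
      MorphismProperty.of_isPullback (sqk D hDa i₀ p₀ k).flip hp₀e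
    -- the cartesian squares at each level
    have sqK : ∀ k : Over i₀, IsPullback q ((yon S).map (cE.π.app k)) (c.π.app k.left)
        (pk D hDa i₀ p₀ k) := by
      intro k
      have hbig : IsPullback ((yon S).map (cE.π.app k) ≫ (yon S).map (ak D hDa i₀ p₀ k)) q p₀
          (c.π.app k.left ≫ D.map k.hom) := by
        rw [← Functor.map_comp, ha k, c.w]
        exact sq.flip
      exact (IsPullback.of_right hbig (hq k).symm (sqk D hDa i₀ p₀ k).flip).flip
    -- the scheme-level limit
    haveI : ∀ {k k' : Over i₀} (ψ : k ⟶ k'),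
        IsAffineHom ((E D hDa i₀ p₀ ⋙ Over.forget S).map ψ) :=
      fun ψ => isAffineHom_uk D hDa i₀ p₀ ψ
    have hbasis := isBasis_preimage_isAffineOpen (E D hDa i₀ p₀ ⋙ Over.forget S)
      ((Over.forget S).mapCone cE) hcEL
    rw [@isOpen_iff_forall_mem_open _ (limTop D c) W]
    intro x hx
    obtain ⟨u, rfl⟩ := exists_ofPt_eq q hqs x
    let WU : cE.pt.left.Opens := ⟨Points.ofPt q ⁻¹' W, hW.preimage (Points.continuous_ofPt q)⟩
    have huW : u ∈ WU := hx
    obtain ⟨_, ⟨k, V', -, rfl⟩, huV, hVW⟩ := TopologicalSpace.Opens.isBasis_iff_nbhd.1 hbasis huW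
    let V : (Uk D hDa i₀ p₀ k).left.Opens := V'
    refine ⟨Points.map (c.π.app k.left) ⁻¹' (Points.ofPt (pk D hDa i₀ p₀ k) '' (V : Set _)),
      ?_, ?_, ?_⟩
    · rintro x' ⟨v, hv, hvx⟩
      obtain ⟨u', hu'1, hu'2⟩ := exists_of_isPullback_chart (sqK k) x' v hvx.symm
      rw [← hu'1]
      apply hVW
      show (cE.π.app k).left u' ∈ V
      rw [hu'2]
      exact hv
    · have h1 : IsOpen (Points.ofPt (pk D hDa i₀ p₀ k) '' (V : Set _)) :=
        isOpenMap_ofPt _ (hpke k) _ V.2
      have h2 : IsOpen[TopologicalSpace.induced (Points.map (c.π.app k.left))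
          (Points.topologicalSpace (D.obj k.left))]
          (Points.map (c.π.app k.left) ⁻¹' (Points.ofPt (pk D hDa i₀ p₀ k) '' (V : Set _))) :=
        isOpen_induced h1
      exact (iInf_le (fun i => TopologicalSpace.induced (AlgSp.Points.map (c.π.app i))
        (AlgSp.Points.topologicalSpace (D.obj i))) k.left) _ h2
    · refine ⟨(cE.π.app k).left u, huV, ?_⟩
      rw [Points.map_ofPt, hq k, Points.ofPt_yon_map_comp]
      rfl

end W1
end H


/-- Let `X` be the limit, in fppf sheaves over `S`, of a cofiltered system `(X_i)` of decent algebraic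
spaces over `S` with affine transition morphisms. Then `|X| = lim |X_i|` as topological spaces: the
topology of `|X|` is the one induced by the projections `|X| → |X_i|`. -/
theorem result (S : Scheme.{u}) {I : Type u} [SmallCategory I] [IsCofiltered I]
    (D : I ⥤ AlgSp.Sp S) (hD : ∀ i, AlgSp.IsAlgSpace (D.obj i))
    (hDa : ∀ (i j : I) (φ : i ⟶ j), AlgSp.IsAffineMor (D.map φ))
    (c : Cone D) (hc : IsLimit c)
    (hdec : ∀ i, AlgSp.IsDecent (D.obj i)) :
    AlgSp.Points.topologicalSpace c.pt =
      ⨅ i, TopologicalSpace.induced (AlgSp.Points.map (c.π.app i)) (AlgSp.Points.topologicalSpace (D.obj i)) := by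
  exact (W1.main D hD hDa c hc)

end Groth.Agent.S10058
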