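import Groth.Statements.S10062
import Groth.Agent.Lib.Helper15.LimEvt
import Groth.Agent.S0594
-- import your own Groth.Agent.* helpers here

set_option autoImplicit false
universe u
open CategoryTheory CategoryTheory.Limits AlgebraicGeometry
open AlgSp

namespace Groth.Agent.S10062

section H
namespace W1
open Groth.Agent.Lib.Helper3 Groth.Agent.Lib.Helper3.FpqcDesc

theorem main (S : Scheme.{u}) [QuasiSeparatedSpace S] {I : Type u} [SmallCategory I] [IsCofiltered I]
    (Y : AlgSp.Space S) (D : I ⥤ AlgSp.Sp S) (hD : ∀ i, AlgSp.IsAlgSpace (D.obj i))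
    (t : D ⟶ (Functor.const I).obj Y.obj)
    (hDc : ∀ (i j : I) (φ : i ⟶ j), AlgSp.RepWith @IsClosedImmersion (D.map φ))
    (c : Cone D) (hc : IsLimit c) (g : c.pt ⟶ Y.obj) (hg : ∀ i, c.π.app i ≫ t.app i = g)
    (hqc : ∀ i, AlgSp.IsQuasiCompactSp (D.obj i)) (hqs : ∀ i, AlgSp.IsQuasiSeparatedSp (D.obj i))
    (hYqc : AlgSp.IsQuasiCompactSp Y.obj) (hYqs : AlgSp.IsQuasiSeparatedSp Y.obj)
    (hft : ∀ i, AlgSp.LocP @LocallyOfFiniteType (t.app i)) (hX : AlgSp.RepWith @IsClosedImmersion g) :
    ∃ i₀ : I, ∀ (i : I) (_ : i ⟶ i₀), AlgSp.RepWith @IsClosedImmersion (t.app i) :=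
  Groth.Agent.Lib.Helper15.LimEvt.main @IsClosedImmersion @IsClosedImmersion @IsClosedImmersion
    (fun A B k hk => by have : IsClosedImmersion k := hk; infer_instance)
    (fun A B k hk => by have : IsClosedImmersion k := hk; infer_instance)
    (fun A B k hk => by have : IsClosedImmersion k := hk; infer_instance)
    (fun {J} _ _ V _ F τ cF hcF hQ hA hL j₀ hP' => by
      haveI : ∀ (i j : J) (f : i ⟶ j), IsClosedImmersion (F.map f) := hQ
      haveI := hA
      haveI := hL
      haveI : IsClosedImmersion (cF.π.app j₀ ≫ τ.app j₀) := hP'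
      haveI : ∀ i, CompactSpace (F.obj i) := fun i => inferInstance
      haveI : ∀ i, QuasiSeparatedSpace (F.obj i) := fun i => inferInstance
      obtain ⟨j₁, hj₁⟩ := Groth.Agent.S0594.result V F τ cF hcF j₀
      refine ⟨j₁, fun j a => ?_⟩
      have e : F.map a ≫ τ.app j₁ = τ.app j := by
        have := τ.naturality a
        simp only [Functor.const_obj_obj, Functor.const_obj_map, Category.comp_id] at this
        exact this
      rw [← e]
      haveI := hj₁
      exact (inferInstance : IsClosedImmersion (F.map a ≫ τ.app j₁)))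
    Y D hD t hDc c hc g hg hqc hqs hYqc hYqs hft hX

end W1
end H


/-- Let `S` be a quasi-separated scheme, `Y` an algebraic space over `S` which is quasi-compact and
quasi-separated over `S`, and `X` the limit, in fppf sheaves, of a cofiltered system `(X_i)` of
algebraic spaces over `Y`, each quasi-compact and quasi-separated over `S`, whose transition maps
are closed immersions. Suppose every `X_i ⟶ Y` is locally of finite type and the limit map `X ⟶ Y`
is a closed immersion. In that case some index `i₀` has the property that, for every `i` mapping to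
`i₀`, the map `X_i ⟶ Y` is itself a closed immersion. (The published statement allows any base
scheme and uses absolute quasi-separatedness; this row assumes the base quasi-separated, over which
quasi-separatedness relative to the base is the absolute notion.) -/
theorem result (S : Scheme.{u}) [QuasiSeparatedSpace S] {I : Type u} [SmallCategory I] [IsCofiltered I]
    (Y : AlgSp.Space S) (D : I ⥤ AlgSp.Sp S) (hD : ∀ i, AlgSp.IsAlgSpace (D.obj i))
    (t : D ⟶ (Functor.const I).obj Y.obj)
    (hDc : ∀ (i j : I) (φ : i ⟶ j), AlgSp.RepWith @IsClosedImmersion (D.map φ))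
    (c : Cone D) (hc : IsLimit c) (g : c.pt ⟶ Y.obj) (hg : ∀ i, c.π.app i ≫ t.app i = g)
    (hqc : ∀ i, AlgSp.IsQuasiCompactSp (D.obj i)) (hqs : ∀ i, AlgSp.IsQuasiSeparatedSp (D.obj i))
    (hYqc : AlgSp.IsQuasiCompactSp Y.obj) (hYqs : AlgSp.IsQuasiSeparatedSp Y.obj)
    (hft : ∀ i, AlgSp.LocP @LocallyOfFiniteType (t.app i)) (hX : AlgSp.RepWith @IsClosedImmersion g) :
    ∃ i₀ : I, ∀ (i : I) (_ : i ⟶ i₀), AlgSp.RepWith @IsClosedImmersion (t.app i) := by
  exact W1.main S Y D hD t hDc c hc g hg hqc hqs hYqc hYqs hft hX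

end Groth.Agent.S10062
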