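import Groth.Statements.S10067
import Groth.Agent.Lib.Helper15.RelLim
-- import your own Groth.Agent.* helpers here

set_option autoImplicit false
universe u
open CategoryTheory CategoryTheory.Limits AlgebraicGeometry
open AlgSp

namespace Groth.Agent.S10067

section H
set_option backward.isDefEq.respectTransparency.types false
namespace W1
open AlgSp Opposite Groth.Agent.Lib.Helper15.RelLim

variable {S : Scheme.{u}} {F G : AlgSp.PSp S} (a : F ⟶ G)

section
variable {I : Type u} [SmallCategory I] (D : I ⥤ Over S) (c : Cone D)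

theorem colimMap_ι (j : Iᵒᵖ) (x : F.obj (op (D.obj j.unop))) :
    colimMap (Functor.whiskerLeft D.op a) (colimit.ι (D.op ⋙ F) j x) =
      colimit.ι (D.op ⋙ G) j (a.app _ x) := by
  have := ConcreteCategory.congr_hom (ι_colimMap (Functor.whiskerLeft D.op a) j) x
  simpa using this

theorem desc_ι (P : PSp S) (j : Iᵒᵖ) (x : P.obj (op (D.obj j.unop))) :
    colimit.desc (D.op ⋙ P) (P.mapCocone c.op) (colimit.ι (D.op ⋙ P) j x) =
      P.map (c.π.app j.unop).op x := by
  have := ConcreteCategory.congr_hom (colimit.ι_desc (P.mapCocone c.op) j) x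
  simpa using this

theorem ι_map (P : PSp S) {j k : I} (f : k ⟶ j) (x : P.obj (op (D.obj j))) :
    colimit.ι (D.op ⋙ P) (op k) (P.map (D.map f).op x) = colimit.ι (D.op ⋙ P) (op j) x := by
  have := ConcreteCategory.congr_hom (colimit.w (D.op ⋙ P) f.op) x
  simpa using this

end

theorem forward (ha : AlgSp.IsRelLimitPreserving a)
    {I : Type u} [SmallCategory I] [IsCofiltered I] (D : I ⥤ Over S) (c : Cone D)
    (hc : IsLimit ((Over.forget S).mapCone c)) (hD : ∀ i, IsAffine (D.obj i).left)
    (hT : IsAffine c.pt.left) :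
    IsPullback (colimMap (Functor.whiskerLeft D.op a)) (colimit.desc (D.op ⋙ F) (F.mapCocone c.op))
      (colimit.desc (D.op ⋙ G) (G.mapCocone c.op)) (a.app (Opposite.op c.pt)) := by
  rw [Types.isPullback_iff]
  refine ⟨?_, ?_, ?_⟩
  · apply colimit.hom_ext
    intro j
    ext x
    simp
  · rintro x₁ y₁ ⟨h1, h2⟩
    obtain ⟨j, x, x', rfl, rfl⟩ :=
      Types.FilteredColimit.jointly_surjective_of_isColimit₂ (colimit.isColimit (D.op ⋙ F)) x₁ y₁
    change colimMap (Functor.whiskerLeft D.op a) (colimit.ι (D.op ⋙ F) j x) =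
      colimMap (Functor.whiskerLeft D.op a) (colimit.ι (D.op ⋙ F) j x') at h1
    change colimit.desc (D.op ⋙ F) (F.mapCocone c.op) (colimit.ι (D.op ⋙ F) j x) =
      colimit.desc (D.op ⋙ F) (F.mapCocone c.op) (colimit.ι (D.op ⋙ F) j x') at h2
    change colimit.ι (D.op ⋙ F) j x = colimit.ι (D.op ⋙ F) j x'
    rw [colimMap_ι, colimMap_ι] at h1
    rw [desc_ι, desc_ι] at h2
    obtain ⟨k, f, hf⟩ := (Types.FilteredColimit.isColimit_eq_iff' (colimit.isColimit (D.op ⋙ G))
      _ _).1 h1
    have hf' : G.map (D.map f.unop).op (a.app _ x) = G.map (D.map f.unop).op (a.app _ x') := hf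
    rw [← NatTrans.naturality_apply, ← NatTrans.naturality_apply] at hf'
    have h3 : F.map (c.π.app k.unop).op (F.map (D.map f.unop).op x) =
        F.map (c.π.app k.unop).op (F.map (D.map f.unop).op x') := by
      rw [map_map_apply, map_map_apply, c.w]
      exact h2
    obtain ⟨m, h, hm⟩ := exists_eq D c k.unop a ha hc hD hT _ _ hf' h3
    rw [← ι_map D F f.unop x, ← ι_map D F f.unop x', ← ι_map D F h, hm, ι_map D F h]
  · intro g x hgx
    obtain ⟨i, gi, rfl⟩ := Types.jointly_surjective_of_isColimit (colimit.isColimit (D.op ⋙ G)) g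
    change colimit.desc (D.op ⋙ G) (G.mapCocone c.op) (colimit.ι (D.op ⋙ G) i gi) = _ at hgx
    rw [desc_ι] at hgx
    obtain ⟨j, f, xj, hxj1, hxj2⟩ := exists_lift D c i.unop a ha hc hD hT gi x hgx.symm
    refine ⟨colimit.ι (D.op ⋙ F) (op j) xj, ?_, ?_⟩
    · rw [colimMap_ι]
      change colimit.ι (D.op ⋙ G) (op j) (a.app (op (D.obj j)) xj) = colimit.ι (D.op ⋙ G) i gi
      rw [hxj1]
      exact ι_map D G f gi
    · rw [desc_ι]
      exact hxj2

theorem backward
    (h : ∀ ⦃I : Type u⦄ [SmallCategory I] [IsCofiltered I] (D : I ⥤ Over S) (c : Cone D),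
        IsLimit ((Over.forget S).mapCone c) → (∀ i, IsAffine (D.obj i).left) → IsAffine c.pt.left →
          IsPullback (colimMap (Functor.whiskerLeft D.op a))
            (colimit.desc (D.op ⋙ F) (F.mapCocone c.op))
            (colimit.desc (D.op ⋙ G) (G.mapCocone c.op)) (a.app (Opposite.op c.pt))) :
    AlgSp.IsRelLimitPreserving a := by
  intro T y I _ _ D c hc hD hT
  let D' : I ⥤ Over S := D ⋙ Over.map T.hom
  let c' : Cone D' := (Over.map T.hom).mapCone c
  have hc' : IsLimit ((Over.forget S).mapCone c') := hc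
  have hD' : ∀ j, IsAffine (D'.obj j).left := hD
  have hT' : IsAffine c'.pt.left := hT
  have hPB := h D' c' hc' hD' hT'
  refine ⟨Types.FilteredColimit.isColimitOf' _ _ ?_ ?_⟩
  · -- surjectivity
    intro x
    let x1 : F.obj (op c'.pt) := x.1
    have hx2 : a.app (op c'.pt) x1 = G.map (overHom T c.pt).op y := x.2
    obtain ⟨i₀⟩ := IsCofiltered.nonempty (C := I)
    let g : colimit (D'.op ⋙ G) :=
      colimit.ι (D'.op ⋙ G) (op i₀) (G.map (overHom T (D.obj i₀)).op y)
    have hg : colimit.desc (D'.op ⋙ G) (G.mapCocone c'.op) g = a.app (op c'.pt) x1 := by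
      rw [desc_ι D' c' G (op i₀), hx2, map_map_apply]
      exact congrArg (fun m => G.map m.op y) (map_comp_overHom T (c.π.app i₀))
    obtain ⟨f₁, hf1, hf2⟩ := Types.exists_of_isPullback hPB g x1 hg
    obtain ⟨j, xj, rfl⟩ := Types.jointly_surjective_of_isColimit (colimit.isColimit (D'.op ⋙ F)) f₁
    change colimMap (Functor.whiskerLeft D'.op a) (colimit.ι (D'.op ⋙ F) j xj) = g at hf1
    change colimit.desc (D'.op ⋙ F) (F.mapCocone c'.op) (colimit.ι (D'.op ⋙ F) j xj) = x1 at hf2
    rw [colimMap_ι] at hf1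
    rw [desc_ι] at hf2
    obtain ⟨k, f, f', hk⟩ := (Types.FilteredColimit.isColimit_eq_iff _
      (colimit.isColimit (D'.op ⋙ G))).1 hf1
    have hk' : G.map (D'.map f.unop).op (a.app (op (D'.obj j.unop)) xj) =
        G.map (D'.map f'.unop).op (G.map (overHom T (D.obj i₀)).op y) := hk
    rw [← NatTrans.naturality_apply, map_map_apply] at hk'
    have hk3 : a.app (op (D'.obj k.unop)) (F.map (D'.map f.unop).op xj) =
        G.map (overHom T (D.obj k.unop)).op y := by
      rw [hk']
      exact congrArg (fun m => G.map m.op y) (map_comp_overHom T (D.map f'.unop))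
    let xk : (fiberFun a T y).obj (op (D.obj k.unop)) := ⟨F.map (D'.map f.unop).op xj, hk3⟩
    refine ⟨k, xk, Subtype.ext ?_⟩
    rw [Functor.mapCocone_ι_app, fiberFun_map_coe]
    change x1 = F.map (c'.π.app k.unop).op (F.map (D'.map f.unop).op xj)
    rw [map_map_apply, c'.w]
    exact hf2.symm
  · -- injectivity
    intro i x x' hxx
    have h0 := congrArg Subtype.val hxx
    rw [Functor.mapCocone_ι_app, fiberFun_map_coe, fiberFun_map_coe] at h0
    let x1 : F.obj (op (D'.obj i.unop)) := x.1
    let x1' : F.obj (op (D'.obj i.unop)) := x'.1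
    have h0' : F.map (c'.π.app i.unop).op x1 = F.map (c'.π.app i.unop).op x1' := h0
    have hx2 : a.app (op (D'.obj i.unop)) x1 = G.map (overHom T (D.obj i.unop)).op y := x.2
    have hx2' : a.app (op (D'.obj i.unop)) x1' = G.map (overHom T (D.obj i.unop)).op y := x'.2
    have e : colimit.ι (D'.op ⋙ F) i x1 = colimit.ι (D'.op ⋙ F) i x1' := by
      apply Types.ext_of_isPullback hPB
      · change colimMap (Functor.whiskerLeft D'.op a) (colimit.ι (D'.op ⋙ F) i x1) =
          colimMap (Functor.whiskerLeft D'.op a) (colimit.ι (D'.op ⋙ F) i x1')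
        rw [colimMap_ι, colimMap_ι]
        exact congrArg (colimit.ι (D'.op ⋙ G) i) (hx2.trans hx2'.symm)
      · change colimit.desc (D'.op ⋙ F) (F.mapCocone c'.op) (colimit.ι (D'.op ⋙ F) i x1) =
          colimit.desc (D'.op ⋙ F) (F.mapCocone c'.op) (colimit.ι (D'.op ⋙ F) i x1')
        rw [desc_ι, desc_ι]
        exact h0'
    obtain ⟨j, f, hf⟩ := (Types.FilteredColimit.isColimit_eq_iff'
      (colimit.isColimit (D'.op ⋙ F)) _ _).1 e
    refine ⟨j, f, Subtype.ext ?_⟩
    rw [Functor.comp_map, fiberFun_map_coe, fiberFun_map_coe]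
    exact hf

end W1
end H


/-- A transformation `a : F ⟶ G` of presheaves of sets on schemes over `S` is relatively limit
preserving if and only if, for every directed limit `T = lim T_i` of affine schemes over `S` (with
`T` affine), the square formed by `colim F(T_i) → F(T)`, `colim G(T_i) → G(T)` and the two maps
induced by `a` is cartesian in sets. -/
theorem result (S : Scheme.{u}) {F G : AlgSp.PSp S} (a : F ⟶ G) :
    AlgSp.IsRelLimitPreserving a ↔
      ∀ ⦃I : Type u⦄ [SmallCategory I] [IsCofiltered I] (D : I ⥤ Over S) (c : Cone D),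
        IsLimit ((Over.forget S).mapCone c) → (∀ i, IsAffine (D.obj i).left) → IsAffine c.pt.left →
          IsPullback (colimMap (Functor.whiskerLeft D.op a)) (colimit.desc (D.op ⋙ F) (F.mapCocone c.op))
            (colimit.desc (D.op ⋙ G) (G.mapCocone c.op)) (a.app (Opposite.op c.pt)) := by
  exact ⟨fun ha I _ _ D c hc hD hT => W1.forward a ha D c hc hD hT, W1.backward a⟩

end Groth.Agent.S10067
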