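import Groth.Statements.S10086
import Groth.Agent.Lib.Helper15.LimChart
import Groth.Agent.Lib.Helper3.AlgSpQC7
import Groth.Agent.Lib.Helper3.AlgSpOpenPullback
import Groth.Agent.Lib.Helper3.AlgSpOpenSubsp2
import Groth.Agent.Lib.Helper3.AlgSpZarDecent
import Groth.Agent.S10004
-- import your own Groth.Agent.* helpers here

set_option autoImplicit false
universe u
open CategoryTheory CategoryTheory.Limits AlgebraicGeometry Opposite
open AlgSp

namespace Groth.Agent.S10086

section H
set_option backward.isDefEq.respectTransparency.types false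
namespace W1
open Groth.Agent.Lib.Helper3 Groth.Agent.Lib.Helper15 Groth.Agent.S10056.W1

variable {S : Scheme.{u}}

theorem main (S : Scheme.{u}) [QuasiSeparatedSpace ↥S] {I : Type u} [SmallCategory I] [IsCofiltered I]
    (D : I ⥤ AlgSp.Sp S) (hD : ∀ i, AlgSp.IsAlgSpace (D.obj i))
    (hDa : ∀ (i j : I) (φ : i ⟶ j), AlgSp.IsAffineMor (D.map φ))
    (hqc : ∀ i, AlgSp.IsQuasiCompactSp (D.obj i)) (hqs : ∀ i, AlgSp.IsQuasiSeparatedSp (D.obj i))
    (c : Cone D) (hc : IsLimit c)
    (U : AlgSp.Sp S) (j : U ⟶ c.pt) (hj : AlgSp.RepWith @IsOpenImmersion j) (hU : AlgSp.IsQuasiCompactSp U) :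
    ∃ (i : I) (Ui : AlgSp.Sp S) (ji : Ui ⟶ D.obj i) (q : U ⟶ Ui),
      AlgSp.RepWith @IsOpenImmersion ji ∧ AlgSp.IsQuasiCompactSp Ui ∧ IsPullback j q (c.π.app i) ji := by
  obtain ⟨i₁⟩ := IsCofiltered.nonempty (C := I)
  have hDa' : ∀ (i j : I) (φ : i ⟶ j), RepWith @IsAffineHom (D.map φ) :=
    fun i j φ => (isAffineMor_iff_repWith _).1 (hDa i j φ)
  obtain ⟨V₁, v₁, hve, hvs, hVa⟩ := exists_affine_chart_of_isQuasiCompactSp (hqc i₁)
  obtain ⟨cE, hcE, hcEL, q, a, sq, haπ, hqπ, haff⟩ := LimChart.exists_chart D hDa' i₁ v₁ c hc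
  have hXalg : IsAlgSpace c.pt := (Groth.Agent.S10004.result S D hD hDa c hc).1
  haveI : Mono j := mono_of_repWith_isOpenImmersion j hj
  have hUalg : IsAlgSpace U := isAlgSpace_of_mono_representable hXalg j hj.rep
  -- the open `W` of the chart of the limit
  have sqW := hj.rep.isPullback q
  have hWo : IsOpenImmersion (hj.rep.snd q).left := hj.property_snd q
  have sqW1 : IsPullback (hj.rep.fst q) ((yon S).map (hj.rep.snd q ≫ a)) (j ≫ c.π.app i₁) v₁ := by
    rw [Functor.map_comp]; exact sqW.paste_vert sq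
  haveI : IsAffine V₁.left := hVa
  haveI hWc : CompactSpace (hj.rep.pullback q).left := by
    have hqcm := isQuasiCompactMor_of_isQuasiCompactSp_of_isQuasiSeparatedSp hUalg
      (j ≫ c.π.app i₁) hU (hqs i₁)
    exact compactSpace_of_isQuasiCompactSp_yon
      (hqcm (IsAlgSpace.yon_obj V₁) (isQuasiCompactSp_yon inferInstance) v₁ _ _ sqW1)
  have hqsurj : RepWith @Surjective q :=
    (repWith_isStableUnderBaseChange _).of_isPullback sq.flip hvs
  have hfsurj : IsSurjectiveMor (hj.rep.fst q) := surjective_map_of_repWith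
    ((repWith_isStableUnderBaseChange _).of_isPullback sqW.flip hqsurj)
  -- scheme level
  haveI : ∀ {k k' : Over i₁} (ψ : k ⟶ k'), IsAffineHom ((E D hDa' i₁ v₁ ⋙ Over.forget S).map ψ) :=
    fun ψ => isAffineHom_uk D hDa' i₁ v₁ ψ
  let hT : (hj.rep.pullback q).left ⟶ ((Over.forget S).mapCone cE).pt := (hj.rep.snd q).left
  haveI : IsOpenImmersion hT := hWo
  let O : ((Over.forget S).mapCone cE).pt.Opens := hT.opensRange
  have hOc : IsCompact (O : Set ((Over.forget S).mapCone cE).pt) := by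
    rw [Scheme.Hom.coe_opensRange]; exact isCompact_range hT.continuous
  obtain ⟨k, Wk, hWkc, hWk⟩ :=
    exists_preimage_eq (E D hDa' i₁ v₁ ⋙ Over.forget S) _ hcEL O hOc
  let πk : cE.pt ⟶ Uk D hDa' i₁ v₁ k := cE.π.app k
  have hqπk : q ≫ c.π.app k.left = (yon S).map πk ≫ pk D hDa' i₁ v₁ k := hqπ k
  have hmemO : ∀ v₀ : cE.pt.left, πk.left v₀ ∈ Wk ↔ v₀ ∈ Set.range hT := by
    intro v₀
    have : v₀ ∈ (((Over.forget S).mapCone cE).π.app k ⁻¹ᵁ Wk) ↔ v₀ ∈ O := by rw [hWk]
    exact this
  -- the open of the stage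
  let Wko : Over S := Over.mk (Wk.ι ≫ (Uk D hDa' i₁ v₁ k).hom)
  let jk : Wko ⟶ Uk D hDa' i₁ v₁ k := Over.homMk Wk.ι rfl
  let ak' : (yon S).obj Wko ⟶ D.obj k.left := (yon S).map jk ≫ pk D hDa' i₁ v₁ k
  have hpe : RepWith @Etale (pk D hDa' i₁ v₁ k) :=
    (repWith_isStableUnderBaseChange _).of_isPullback (sqk D hDa' i₁ v₁ k).flip hve
  have hjke : RepWith @Etale ((yon S).map jk) :=
    (repWith_yon_map_iff _ _).2 (inferInstanceAs (Etale Wk.ι))
  have hak'e : RepWith @Etale ak' := MorphismProperty.comp_mem _ _ _ hjke hpe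
  let W' : Set (Points (D.obj k.left)) := Set.range (Points.map ak')
  have hW'o : IsOpen W' := by
    have := isOpenMap_map_of_etale hak'e
    rw [show W' = Points.map ak' '' Set.univ from Set.image_univ.symm]
    exact this _ isOpen_univ
  have hji := repWith_isOpenImmersion_openSubι (D.obj k.left) W' hW'o
  have hrange : Set.range (Points.map (openSubι (D.obj k.left) W')) = W' := range_map_openSubι _ _
  -- quasi-compactness of the open subspace
  have hUiqc : IsQuasiCompactSp (openSub (D.obj k.left) W') := by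
    obtain ⟨a', -, ha'e, ha's, -⟩ := exists_factor_surjective_etale ak' hak'e
      (openSubι (D.obj k.left) W') hji (by rw [hrange, ← range_map_eq_range_ofPt])
    exact ⟨Wko, a', ha'e, ha's, isCompact_iff_compactSpace.1 hWkc⟩
  -- the top square of the chart
  have sqTop : IsPullback q ((yon S).map πk) (c.π.app k.left) (pk D hDa' i₁ v₁ k) := by
    have e0 : πk ≫ ak D hDa' i₁ v₁ k = a := haπ k
    have e : (yon S).map πk ≫ (yon S).map (ak D hDa' i₁ v₁ k) = (yon S).map a := by
      rw [← Functor.map_comp, e0]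
    have h := sq
    rw [← e, ← c.w k.hom] at h
    exact IsPullback.of_bot h hqπk (sqk D hDa' i₁ v₁ k)
  -- points of the chart of `W` map into `W'`
  have hpt : ∀ w : (hj.rep.pullback q).left,
      Points.map (j ≫ c.π.app k.left) (Points.map (hj.rep.fst q) (Points.schemeHomeo _ w)) ∈ W' := by
    intro w
    have hx : πk.left ((hj.rep.snd q).left w) ∈ Wk := (hmemO _).2 ⟨w, rfl⟩
    refine ⟨Points.schemeHomeo Wko ⟨_, hx⟩, ?_⟩
    have e1 : Points.map ak' (Points.schemeHomeo Wko ⟨_, hx⟩) =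
        Points.map (pk D hDa' i₁ v₁ k)
          (Points.schemeHomeo (Uk D hDa' i₁ v₁ k) (πk.left ((hj.rep.snd q).left w))) := by
      rw [Points.map_comp, Points.map_yon_map_apply]
      rfl
    have e2 : Points.map (j ≫ c.π.app k.left)
        (Points.map (hj.rep.fst q) (Points.schemeHomeo _ w)) =
        Points.map (pk D hDa' i₁ v₁ k)
          (Points.schemeHomeo (Uk D hDa' i₁ v₁ k) (πk.left ((hj.rep.snd q).left w))) := by
      rw [← Points.map_comp, ← Category.assoc, sqW.w, Category.assoc, hqπk, Points.map_comp,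
        Points.map_comp, Points.map_yon_map_apply, Points.map_yon_map_apply]
    rw [e1, e2]
  -- the factorization
  obtain ⟨qU, hqU⟩ := exists_factor_of_range_subset (openSubι (D.obj k.left) W') hji
    (j ≫ c.π.app k.left) (by
      rw [hrange]
      rintro _ ⟨η, rfl⟩
      obtain ⟨ω, rfl⟩ := hfsurj η
      obtain ⟨w, rfl⟩ := (Points.schemeHomeo _).surjective ω
      exact hpt w)
  refine ⟨k.left, openSub (D.obj k.left) W', openSubι _ _, qU, hji, hUiqc, ?_⟩
  refine isPullback_of_openImmersions j qU (c.π.app k.left) _ hj hji hqU.symm ?_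
  rw [hrange]
  rintro x ⟨z, hz⟩
  obtain ⟨z₀, rfl⟩ := (Points.schemeHomeo Wko).surjective z
  have hz' : Points.map (c.π.app k.left) x =
      Points.map (pk D hDa' i₁ v₁ k) (Points.schemeHomeo _ (jk.left z₀)) := by
    rw [← hz, Points.map_comp, Points.map_yon_map_apply]
  obtain ⟨v, hv1, hv2⟩ := Points.exists_of_isPullback sqTop _ _ hz'
  obtain ⟨v₀, rfl⟩ := (Points.schemeHomeo _).surjective v
  rw [Points.map_yon_map_apply] at hv2
  have hv3 : πk.left v₀ = jk.left z₀ := (Points.schemeHomeo _).injective hv2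
  have hv4 : πk.left v₀ ∈ Wk := by rw [hv3]; exact z₀.2
  obtain ⟨w, rfl⟩ := (hmemO v₀).1 hv4
  refine ⟨Points.map (hj.rep.fst q) (Points.schemeHomeo _ w), ?_⟩
  rw [← hv1, ← Points.map_comp, sqW.w, Points.map_comp, Points.map_yon_map_apply]
  rfl

end W1
end H


/-- Let `S` be a quasi-separated scheme and `X` the limit, in fppf sheaves over `S`, of a cofiltered
system `(X_i)` of algebraic spaces over `S`, each quasi-compact and quasi-separated over `S`, whose
transition maps are affine. Then every quasi-compact open subspace `U ⟶ X` is the inverse image of a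
quasi-compact open subspace `U_i ⟶ X_i` for some index `i` (a pullback square over the projection `X
⟶ X_i`). (The published statement allows any base scheme and uses absolute quasi-separatedness; this
row assumes the base quasi-separated, over which quasi-separatedness relative to the base is the
absolute notion.) -/
theorem result (S : Scheme.{u}) [QuasiSeparatedSpace ↥S] {I : Type u} [SmallCategory I] [IsCofiltered I]
    (D : I ⥤ AlgSp.Sp S) (hD : ∀ i, AlgSp.IsAlgSpace (D.obj i))
    (hDa : ∀ (i j : I) (φ : i ⟶ j), AlgSp.IsAffineMor (D.map φ))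
    (hqc : ∀ i, AlgSp.IsQuasiCompactSp (D.obj i)) (hqs : ∀ i, AlgSp.IsQuasiSeparatedSp (D.obj i))
    (c : Cone D) (hc : IsLimit c)
    (U : AlgSp.Sp S) (j : U ⟶ c.pt) (hj : AlgSp.RepWith @IsOpenImmersion j) (hU : AlgSp.IsQuasiCompactSp U) :
    ∃ (i : I) (Ui : AlgSp.Sp S) (ji : Ui ⟶ D.obj i) (q : U ⟶ Ui),
      AlgSp.RepWith @IsOpenImmersion ji ∧ AlgSp.IsQuasiCompactSp Ui ∧ IsPullback j q (c.π.app i) ji := by
  exact W1.main S D hD hDa hqc hqs c hc U j hj hU

end Groth.Agent.S10086
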