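import Groth.Statements.S10097
import Groth.Agent.Lib.Helper27.PshBootComp
-- import your own Groth.Agent.* helpers here

set_option autoImplicit false
universe u
open CategoryTheory CategoryTheory.Limits AlgebraicGeometry
open AlgSp

namespace Groth.Agent.S10097

section H
set_option backward.isDefEq.respectTransparency.types false
namespace W1
open Groth.Agent.Lib.Helper27.PshBootComp

section cat
variable {C : Type*} [Category C] [HasBinaryProducts C] [HasPullbacks C]

theorem P1 {A B F F' : C} {ξ : A ⟶ F} {η : B ⟶ F} {fst : F' ⟶ A} {snd : F' ⟶ B}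
    (sq : IsPullback fst snd ξ η) :
    IsPullback (prod.lift fst snd) (fst ≫ ξ) (prod.map ξ η) (Limits.diag F) := by
  apply IsPullback.mk'
  · apply Limits.prod.hom_ext
    · rw [Category.assoc, prod.map_fst, ← Category.assoc, prod.lift_fst, Category.assoc,
        Limits.diag, prod.lift_fst, Category.comp_id]
    · rw [Category.assoc, prod.map_snd, ← Category.assoc, prod.lift_snd, Category.assoc,
        Limits.diag, prod.lift_snd, Category.comp_id, sq.w]
  · intro T φ φ' h1 h2
    apply sq.hom_ext
    · have := congrArg (fun m => m ≫ prod.fst) h1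
      simpa only [Category.assoc, prod.lift_fst] using this
    · have := congrArg (fun m => m ≫ prod.snd) h1
      simpa only [Category.assoc, prod.lift_snd] using this
  · intro T u v huv
    have e1 : (u ≫ prod.fst) ≫ ξ = v := by
      have := congrArg (fun m => m ≫ prod.fst) huv
      simpa only [Category.assoc, prod.map_fst, Limits.diag, prod.lift_fst, Category.comp_id]
        using this
    have e2 : (u ≫ prod.snd) ≫ η = v := by
      have := congrArg (fun m => m ≫ prod.snd) huv
      simpa only [Category.assoc, prod.map_snd, Limits.diag, prod.lift_snd, Category.comp_id]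
        using this
    refine ⟨sq.lift (u ≫ prod.fst) (u ≫ prod.snd) (e1.trans e2.symm), ?_, ?_⟩
    · apply Limits.prod.hom_ext
      · rw [Category.assoc, prod.lift_fst, sq.lift_fst]
      · rw [Category.assoc, prod.lift_snd, sq.lift_snd]
    · rw [← Category.assoc, sq.lift_fst, e1]

theorem P2_aux {T F F' : C} {ζ : T ⟶ F ⨯ F} {fst : F' ⟶ F} {snd : F' ⟶ T}
    (sq : IsPullback fst snd (Limits.diag F) ζ) :
    fst = snd ≫ ζ ≫ prod.fst ∧ fst = snd ≫ ζ ≫ prod.snd := by
  constructor
  · have := congrArg (fun m => m ≫ prod.fst) sq.w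
    simpa only [Category.assoc, Limits.diag, prod.lift_fst, Category.comp_id] using this
  · have := congrArg (fun m => m ≫ prod.snd) sq.w
    simpa only [Category.assoc, Limits.diag, prod.lift_snd, Category.comp_id] using this

theorem P2 {T F F' : C} {ζ : T ⟶ F ⨯ F} {fst : F' ⟶ F} {snd : F' ⟶ T}
    (sq : IsPullback fst snd (Limits.diag F) ζ) :
    IsPullback (pullback.lift snd snd ((P2_aux sq).1.symm.trans (P2_aux sq).2) :
        F' ⟶ pullback (ζ ≫ prod.fst) (ζ ≫ prod.snd)) snd
      (prod.lift (pullback.fst (ζ ≫ prod.fst) (ζ ≫ prod.snd))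
        (pullback.snd (ζ ≫ prod.fst) (ζ ≫ prod.snd))) (Limits.diag T) := by
  obtain ⟨h1, h2⟩ := P2_aux sq
  apply IsPullback.mk'
  · apply Limits.prod.hom_ext
    · rw [Category.assoc, prod.lift_fst, pullback.lift_fst, Category.assoc, Limits.diag,
        prod.lift_fst, Category.comp_id]
    · rw [Category.assoc, prod.lift_snd, pullback.lift_snd, Category.assoc, Limits.diag,
        prod.lift_snd, Category.comp_id]
  · intro W φ φ' e1 e2
    apply sq.hom_ext
    · rw [h1, ← Category.assoc, ← Category.assoc, e2, Category.assoc, Category.assoc]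
    · exact e2
  · intro W u v huv
    have e1 : u ≫ pullback.fst _ _ = v := by
      have := congrArg (fun m => m ≫ prod.fst) huv
      simpa only [Category.assoc, Limits.diag, prod.lift_fst, Category.comp_id] using this
    have e2 : u ≫ pullback.snd _ _ = v := by
      have := congrArg (fun m => m ≫ prod.snd) huv
      simpa only [Category.assoc, Limits.diag, prod.lift_snd, Category.comp_id] using this
    have hc : (v ≫ ζ ≫ prod.fst) ≫ Limits.diag F = v ≫ ζ := by
      apply Limits.prod.hom_ext
      · rw [Category.assoc, Limits.diag, prod.lift_fst, Category.comp_id, Category.assoc]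
      · rw [Category.assoc, Limits.diag, prod.lift_snd, Category.comp_id, Category.assoc,
          ← e1, Category.assoc, pullback.condition, ← Category.assoc, e2, ← e1]
    refine ⟨sq.lift (v ≫ ζ ≫ prod.fst) v hc, ?_, sq.lift_snd _ _ _⟩
    apply pullback.hom_ext
    · rw [Category.assoc, pullback.lift_fst, sq.lift_snd, e1]
    · rw [Category.assoc, pullback.lift_snd, sq.lift_snd, e2]

end cat

theorem main (S : Scheme.{u}) (F : AlgSp.PSp S) :
    AlgSp.RepBySp (Limits.diag F) ↔
      ∀ (T : Over S) (ξ : (AlgSp.pyon S).obj T ⟶ F), AlgSp.RepBySp ξ := by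
  constructor
  · intro hΔ T ξ U η F' fst snd sq
    have hX : IsAlgSpaceP ((pyon S).obj T ⨯ (pyon S).obj U) :=
      (isAlgSpaceP_pyon (T ⨯ U)).of_iso (PreservesLimitPair.iso (pyon S) T U)
    exact isAlgSpaceP_pullback hΔ hX (P1 sq)
  · intro h U ζ F' fst snd sq
    have hQ : IsAlgSpaceP (pullback (ζ ≫ prod.fst) (ζ ≫ prod.snd)) :=
      h U (ζ ≫ prod.fst) (ζ ≫ prod.snd) _ _ (IsPullback.of_hasPullback _ _)
    have hd : RepBySp (Limits.diag ((pyon S).obj U)) := by
      apply repBySp_of_relativelyRepresentable
      apply Functor.relativelyRepresentable.diag_of_map_from_obj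
      intro a g
      obtain ⟨g₀, rfl⟩ := (pyon S).map_surjective g
      exact Functor.relativelyRepresentable.map _ g₀
    exact isAlgSpaceP_pullback hd hQ (P2 sq)

end W1
end H


/-- (1) ⇔ (2): for a presheaf of sets `F` on schemes over `S`, the diagonal `F ⟶ F × F` is representable
by algebraic spaces if and only if every map `h_T ⟶ F` from a scheme `T` over `S` is representable
by algebraic spaces. -/
theorem result (S : Scheme.{u}) (F : AlgSp.PSp S) :
    AlgSp.RepBySp (Limits.diag F) ↔
      ∀ (T : Over S) (ξ : (AlgSp.pyon S).obj T ⟶ F), AlgSp.RepBySp ξ := by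
  exact W1.main S F

end Groth.Agent.S10097
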