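import Groth.Statements.S10090
import Groth.Agent.S10097
import Groth.Agent.Lib.Helper27.PshBootComp
import Groth.Agent.Lib.Helper27.PshRepSp
-- import your own Groth.Agent.* helpers here

set_option autoImplicit false
universe u
open CategoryTheory CategoryTheory.Limits AlgebraicGeometry
open AlgSp

namespace Groth.Agent.S10090

section H
set_option backward.isDefEq.respectTransparency.types false
namespace W1
open Groth.Agent.Lib.Helper27.PshBootComp

section cat
variable {C : Type*} [Category C] [HasBinaryProducts C] [HasPullbacks C]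

theorem P3 {T F G F' : C} {a : F ⟶ G} {ζ : T ⟶ pullback a a} {fst : F' ⟶ F} {snd : F' ⟶ T}
    (sq : IsPullback fst snd (pullback.diagonal a) ζ) {y : T ⟶ G}
    (s₁ s₂ : T ⟶ pullback a y)
    (h11 : s₁ ≫ pullback.fst _ _ = ζ ≫ pullback.fst a a) (h12 : s₁ ≫ pullback.snd _ _ = 𝟙 T)
    (h21 : s₂ ≫ pullback.fst _ _ = ζ ≫ pullback.snd a a) (h22 : s₂ ≫ pullback.snd _ _ = 𝟙 T) :
    IsPullback snd (snd ≫ s₁) (prod.lift s₁ s₂) (Limits.diag _) := by
  have hf1 : fst = snd ≫ ζ ≫ pullback.fst a a := by
    have := congrArg (fun m => m ≫ pullback.fst a a) sq.w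
    simpa only [Category.assoc, pullback.diagonal_fst, Category.comp_id] using this
  have hf2 : fst = snd ≫ ζ ≫ pullback.snd a a := by
    have := congrArg (fun m => m ≫ pullback.snd a a) sq.w
    simpa only [Category.assoc, pullback.diagonal_snd, Category.comp_id] using this
  apply IsPullback.mk'
  · apply Limits.prod.hom_ext
    · rw [Category.assoc, prod.lift_fst, Category.assoc, Limits.diag, prod.lift_fst,
        Category.comp_id]
    · rw [Category.assoc, prod.lift_snd, Category.assoc, Limits.diag, prod.lift_snd,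
        Category.comp_id]
      apply pullback.hom_ext
      · rw [Category.assoc, h21, Category.assoc, h11, ← hf1, ← hf2]
      · rw [Category.assoc, h22, Category.assoc, h12]
  · intro W φ φ' e1 e2
    apply sq.hom_ext
    · rw [hf1, ← Category.assoc, ← Category.assoc, e1, Category.assoc, Category.assoc]
    · exact e1
  · intro W u v huv
    have e1 : u ≫ s₁ = v := by
      have := congrArg (fun m => m ≫ prod.fst) huv
      simpa only [Category.assoc, Limits.diag, prod.lift_fst, Category.comp_id] using this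
    have e2 : u ≫ s₂ = v := by
      have := congrArg (fun m => m ≫ prod.snd) huv
      simpa only [Category.assoc, Limits.diag, prod.lift_snd, Category.comp_id] using this
    have e3 : u ≫ ζ ≫ pullback.fst a a = u ≫ ζ ≫ pullback.snd a a := by
      rw [← h11, ← h21, ← Category.assoc, ← Category.assoc, e1, e2]
    have hc : (u ≫ ζ ≫ pullback.fst a a) ≫ pullback.diagonal a = u ≫ ζ := by
      apply pullback.hom_ext
      · rw [Category.assoc, pullback.diagonal_fst, Category.comp_id, Category.assoc]
      · rw [Category.assoc, pullback.diagonal_snd, Category.comp_id, Category.assoc, e3]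
    refine ⟨sq.lift (u ≫ ζ ≫ pullback.fst a a) u hc, sq.lift_snd _ _ _, ?_⟩
    rw [← Category.assoc, sq.lift_snd, e1]

end cat

variable {S : Scheme.{u}}

theorem repBySp_of_isAlgSpaceP {X Y : PSp S} (hX : IsAlgSpaceP X) (hY : IsAlgSpaceP Y)
    (a : X ⟶ Y) : RepBySp a :=
  Groth.Agent.Lib.Helper27.PshRepSp.repBySp_of_spaces (F := ⟨⟨X, hX.1⟩, hX.2⟩)
    (G := ⟨⟨Y, hY.1⟩, hY.2⟩) (ObjectProperty.homMk a)

theorem main (S : Scheme.{u}) (F G : AlgSp.PSp S) (a : F ⟶ G)
    (ha : AlgSp.RepBySp a) : AlgSp.RepBySp (pullback.diagonal a) := by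
  intro T ζ F' fst snd sq
  have hFT : IsAlgSpaceP (pullback a ((ζ ≫ pullback.fst a a) ≫ a)) :=
    ha _ _ _ (IsPullback.of_hasPullback _ _)
  have hd : RepBySp (Limits.diag (pullback a ((ζ ≫ pullback.fst a a) ≫ a))) :=
    (Groth.Agent.S10097.result S _).2
      (fun U ξ => repBySp_of_isAlgSpaceP (isAlgSpaceP_pyon U) hFT ξ)
  let s₁ : (pyon S).obj T ⟶ pullback a ((ζ ≫ pullback.fst a a) ≫ a) :=
    pullback.lift (ζ ≫ pullback.fst a a) (𝟙 _) (by rw [Category.id_comp])
  let s₂ : (pyon S).obj T ⟶ pullback a ((ζ ≫ pullback.fst a a) ≫ a) :=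
    pullback.lift (ζ ≫ pullback.snd a a) (𝟙 _) (by
      rw [Category.id_comp, Category.assoc, Category.assoc, pullback.condition])
  exact isAlgSpaceP_pullback hd (isAlgSpaceP_pyon T)
    (P3 sq s₁ s₂ (pullback.lift_fst _ _ _) (pullback.lift_snd _ _ _) (pullback.lift_fst _ _ _)
      (pullback.lift_snd _ _ _))

end W1
end H


/-- Let `a : F ⟶ G` be a map of presheaves of sets on schemes over `S` which is representable by
algebraic spaces. Then the relative diagonal `F ⟶ F ×_G F` is representable by algebraic spaces. -/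
theorem result (S : Scheme.{u}) (F G : AlgSp.PSp S) (a : F ⟶ G)
    (ha : AlgSp.RepBySp a) : AlgSp.RepBySp (pullback.diagonal a) := by
  exact W1.main S F G a ha

end Groth.Agent.S10090
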