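import Groth.Statements.S10096
import Groth.Agent.S9885
import Groth.Agent.Lib.Helper3.AlgSpHasAtMor
import Groth.Agent.Lib.Helper3.AlgSpLocSrc2
set_option backward.isDefEq.respectTransparency.types false

set_option autoImplicit false
universe u
open CategoryTheory CategoryTheory.Limits AlgebraicGeometry
open AlgSp

namespace Groth.Agent.S10096

/-- Let `a : F ⟶ G` be a map of fppf sheaves of sets over `S` that is flat, surjective, locally of
finite presentation and representable by algebraic spaces (every base change `h_U ×_G F ⟶ h_U` to a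
scheme is such a morphism of algebraic spaces). Then `a` is surjective as a map of sheaves (an
epimorphism of fppf sheaves). -/
theorem result (S : Scheme.{u}) (F G : AlgSp.Sp S) (a : F ⟶ G)
    (ha : AlgSp.RepBySpWith (AlgSp.IsSurjectiveMor ⊓ AlgSp.LocP @Flat ⊓ AlgSp.LocP @LocallyOfFinitePresentation) a.hom) :
    Epi a := by
  open Groth.Agent.Lib.Helper3 in
  rw [← Sheaf.isLocallySurjective_iff_epi]
  constructor
  intro T x
  obtain ⟨ξ, hξ⟩ : ∃ ξ : (yon S).obj T ⟶ G, (J S).uliftYonedaEquiv.{u+1} ξ = x :=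
    ⟨(J S).uliftYonedaEquiv.{u+1}.symm x, Equiv.apply_symm_apply _ _⟩
  have sq := IsPullback.of_hasPullback a ξ
  have sqP := sq.map (sheafToPresheaf (J S) (Type (u+1)))
  obtain ⟨h, hA, ⟨hsurj, hflat⟩, hlfp⟩ := ha ξ.hom _ _ sqP
  obtain ⟨V, p, hpe, hps⟩ := hA.atlas
  obtain ⟨c, hc⟩ := (yon S).map_surjective (p ≫ pullback.snd a ξ)
  have hid := repWith_id @Etale T
  have w1 : p ≫ pullback.snd a ξ = (yon S).map c ≫ 𝟙 _ := by rw [hc, Category.comp_id]
  have hfl : Flat c.left := hflat p (𝟙 _) c hpe hid w1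
  have hfp : LocallyOfFinitePresentation c.left := hlfp p (𝟙 _) c hpe hid w1
  have hsu : Surjective c.left := by
    constructor
    intro t
    obtain ⟨z, hz⟩ := hsurj (Points.schemeHomeo T t)
    obtain ⟨v, rfl⟩ := exists_ofPt_eq p hps z
    refine ⟨v, ?_⟩
    apply (Points.schemeHomeo T).injective
    rw [← hz]
    refine (Points.map_yon_map_apply c v).symm.trans ?_
    rw [hc, Points.map_comp]
    rfl
  have w2 : (p ≫ pullback.fst a ξ) ≫ a = (yon S).map c ≫ ξ := by
    rw [Category.assoc, pullback.condition, ← Category.assoc, hc]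
  have := Groth.Agent.S9885.imageSieve_of_isPullback a ξ (p ≫ pullback.fst a ξ) c w2
  rw [hξ] at this
  exact Groth.Agent.S9885.mem_J_of_fppf c hfl hsu hfp _ this

end Groth.Agent.S10096
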