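import Groth.Statements.S10113
import Mathlib.CategoryTheory.Sites.RegularEpi

set_option autoImplicit false
universe u
open CategoryTheory CategoryTheory.Limits AlgebraicGeometry
open AlgSp

namespace Groth.Agent.S10113

/-- In a category where epimorphisms are regular: if `q` is epi, coequalizes `s, t`, and
`(t, s) : R ⟶ U ×_M U` is epi, then `M` is the coequalizer of `s, t`. -/
theorem isIso_desc_of_epi {C : Type*} [Category C] [HasPullbacks C] [IsRegularEpiCategory C]
    [HasCoequalizers C] {R U M : C} (s t : R ⟶ U) (q : U ⟶ M) (w : s ≫ q = t ≫ q) [Epi q]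
    [Epi (pullback.lift t s w.symm : R ⟶ pullback q q)] : IsIso (coequalizer.desc q w) := by
  have hreg : IsRegularEpi q := IsRegularEpiCategory.regularEpiOfEpi q
  have heff : EffectiveEpi q := (isRegularEpi_iff_effectiveEpi q).mp hreg
  have hk : IsColimit (Cofork.ofπ q (pullback.condition (f := q) (g := q))) :=
    isColimitCoforkOfEffectiveEpi q _ (pullback.isLimit q q)
  set e : R ⟶ pullback q q := pullback.lift t s w.symm with he
  have hcond : ∀ {Z : C} (h : U ⟶ Z), s ≫ h = t ≫ h →
      pullback.fst q q ≫ h = pullback.snd q q ≫ h := by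
    intro Z h hh
    rw [← cancel_epi e]
    simp only [he, pullback.lift_fst_assoc, pullback.lift_snd_assoc]
    exact hh.symm
  let inv : M ⟶ coequalizer s t :=
    hk.desc (Cofork.ofπ (coequalizer.π s t) (hcond _ (coequalizer.condition s t)))
  have hinv : q ≫ inv = coequalizer.π s t :=
    hk.fac (Cofork.ofπ (coequalizer.π s t) (hcond _ (coequalizer.condition s t)))
      WalkingParallelPair.one
  refine ⟨inv, ?_, ?_⟩
  · apply coequalizer.hom_ext
    rw [coequalizer.π_desc_assoc, hinv, Category.comp_id]
  · rw [← cancel_epi q, ← Category.assoc, hinv, coequalizer.π_desc, Category.comp_id]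

/-- Let `s, t : R ⟶ U` be a pre-relation of algebraic spaces, `M` an algebraic space and `U ⟶ M` a
morphism which coequalizes `s, t`, is a surjection of sheaves, and for which `(t, s) : R ⟶ U ×_M U`
is a surjection of sheaves. Then the induced map `U/R ⟶ M` is an isomorphism: `M` represents the
quotient sheaf. -/
theorem result (S : Scheme.{u}) (R U M : AlgSp.Sp S)
    (hR : AlgSp.IsAlgSpace R) (hU : AlgSp.IsAlgSpace U) (hM : AlgSp.IsAlgSpace M) (s t : R ⟶ U)
    (q : U ⟶ M) (w : s ≫ q = t ≫ q) [Epi q] [Epi (pullback.lift t s w.symm : R ⟶ pullback q q)] :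
    IsIso (AlgSp.quotSpDesc q w) := by
  exact isIso_desc_of_epi s t q w

end Groth.Agent.S10113
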