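import Groth.Statements.S10114
import Groth.Agent.Lib.Helper15.SpQuot
-- import your own Groth.Agent.* helpers here

set_option autoImplicit false
universe u
open CategoryTheory CategoryTheory.Limits AlgebraicGeometry
open AlgSp

namespace Groth.Agent.S10114

section H
set_option backward.isDefEq.respectTransparency.types false
namespace W1
open Groth.Agent.Lib.Helper15.SpQuot

theorem main (S : Scheme.{u}) (R U R' U' : AlgSp.Sp S)
    (s t : R ⟶ U) (hpre : AlgSp.IsPreEqvRelSp s t) (g : U' ⟶ U) (s' t' : R' ⟶ U') (r : R' ⟶ R)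
    (hsq : IsPullback (prod.lift t' s') r (prod.map g g) (prod.lift t s))
    (ψ : AlgSp.quotSp s' t' ⟶ AlgSp.quotSp s t) (hψ : AlgSp.quotSpπ s' t' ≫ ψ = g ≫ AlgSp.quotSpπ s t) :
    Mono ψ ∧ (Epi g → IsIso ψ) := by
  have hmono : Mono ψ := by
    refine mono_of_restrict hpre g s' t' ?_ ψ hψ
    intro T a' b' ρ h1 h2
    have hc : prod.lift a' b' ≫ prod.map g g = ρ ≫ prod.lift t s := by
      apply Limits.prod.hom_ext
      · rw [Category.assoc, prod.map_fst, ← Category.assoc, prod.lift_fst, Category.assoc,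
          prod.lift_fst, h1]
      · rw [Category.assoc, prod.map_snd, ← Category.assoc, prod.lift_snd, Category.assoc,
          prod.lift_snd, h2]
    refine ⟨hsq.lift _ _ hc, ?_, ?_⟩
    · have := congrArg (fun k => k ≫ prod.fst) (hsq.lift_fst _ _ hc)
      simpa only [Category.assoc, prod.lift_fst] using this
    · have := congrArg (fun k => k ≫ prod.snd) (hsq.lift_fst _ _ hc)
      simpa only [Category.assoc, prod.lift_snd] using this
  refine ⟨hmono, fun hg => ?_⟩
  haveI : Epi (AlgSp.quotSpπ s t) := by unfold AlgSp.quotSpπ; exact coequalizer.π_epi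
  haveI : Epi (g ≫ AlgSp.quotSpπ s t) := epi_comp _ _
  haveI : Epi (AlgSp.quotSpπ s' t' ≫ ψ) := by rw [hψ]; infer_instance
  haveI : Epi ψ := epi_of_epi (AlgSp.quotSpπ s' t') ψ
  exact isIso_of_mono_of_epi ψ

end W1
end H


/-- Let `s, t : R ⟶ U` be a pre-equivalence relation of algebraic spaces, `g : U' ⟶ U` a morphism of
algebraic spaces and `s', t' : R' ⟶ U'` the restriction of the pre-relation along `g` (so `R' = (U'
× U') ×_{U × U} R`). Then the induced map of quotient sheaves `U'/R' ⟶ U/R` is injective, and it is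
an isomorphism when `g` is a surjection of sheaves. -/
theorem result (S : Scheme.{u}) (R U R' U' : AlgSp.Sp S)
    (hR : AlgSp.IsAlgSpace R) (hU : AlgSp.IsAlgSpace U) (hR' : AlgSp.IsAlgSpace R') (hU' : AlgSp.IsAlgSpace U')
    (s t : R ⟶ U) (hpre : AlgSp.IsPreEqvRelSp s t) (g : U' ⟶ U) (s' t' : R' ⟶ U') (r : R' ⟶ R)
    (hsq : IsPullback (prod.lift t' s') r (prod.map g g) (prod.lift t s))
    (ψ : AlgSp.quotSp s' t' ⟶ AlgSp.quotSp s t) (hψ : AlgSp.quotSpπ s' t' ≫ ψ = g ≫ AlgSp.quotSpπ s t) :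
    Mono ψ ∧ (Epi g → IsIso ψ) := by
  exact W1.main S R U R' U' s t hpre g s' t' r hsq ψ hψ

end Groth.Agent.S10114
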