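import Groth.Statements.S10313
import Groth.Agent.Lib.Helper3.AlgSpQFBaseChange
import Groth.Agent.Lib.Helper3.AlgSpOpenSubsp
import Groth.Agent.Lib.Helper3.AlgSpLocP5
import Groth.Agent.Lib.Helper3.AlgSpDiag

set_option autoImplicit false
universe u
open CategoryTheory CategoryTheory.Limits AlgebraicGeometry
open AlgSp

namespace Groth.Agent.S10313

/-- For f locally of finite type there is an open subspace of X on which f is locally quasi-finite,
outside of which the relative dimension is at least 1, and whose formation commutes with base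
change. -/
theorem result {S : Scheme.{u}} {X Y : AlgSp.Space S} (f : X ⟶ Y)
    (hf : AlgSp.LocP @LocallyOfFiniteType f.hom) :
    ∃ (X' : AlgSp.Space S) (j : X' ⟶ X), AlgSp.RepWith @IsOpenImmersion j.hom ∧
      AlgSp.LocP (@LocallyQuasiFinite ⊓ @LocallyOfFiniteType) (j ≫ f).hom ∧
      (∀ x : AlgSp.Points X.obj, x ∉ Set.range (AlgSp.Points.map j.hom) →
        AlgSp.HasAtMor (fun _ _ h u => 1 ≤ FlatMor.fibreDimAt h u) f.hom x) ∧
      ∀ (Y'' X'' : AlgSp.Space S) (g : Y'' ⟶ Y) (b : X'' ⟶ X) (f'' : X'' ⟶ Y''),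
        IsPullback b.hom f''.hom f.hom g.hom → ∀ x'' : AlgSp.Points X''.obj,
          AlgSp.Points.map b.hom x'' ∈ Set.range (AlgSp.Points.map j.hom) ↔ AlgSp.HasAtMor (fun U _ h u => ∃ W : U.Opens, u ∈ W ∧ LocallyQuasiFinite (W.ι ≫ h) ∧ LocallyOfFiniteType (W.ι ≫ h)) f''.hom x'' := by
  classical
  let W : Set (AlgSp.Points X.obj) :=
    {x | AlgSp.HasAtMor Groth.Agent.Lib.lead.QFCodimSp.QFQ f.hom x}
  have hW : IsOpen W := by
    rw [isOpen_iff_forall_mem_open]
    rintro x ⟨U, V, a, b, h, u, hae, hbe, e, hu, hq⟩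
    haveI : LocallyOfFiniteType h.left := hf a b h hae hbe e
    refine ⟨AlgSp.Points.ofPt a '' (h.left.quasiFiniteLocus : Set ↥U.left), ?_,
      Groth.Agent.Lib.Helper3.isOpenMap_ofPt a hae _ h.left.quasiFiniteLocus.isOpen,
      ⟨u, Groth.Agent.Lib.lead.QFCodimSp.quasiFiniteAt_of_QFQ _ _ hq, hu⟩⟩
    rintro _ ⟨u₁, hu₁, rfl⟩
    exact ⟨U, V, a, b, h, u₁, hae, hbe, e, rfl,
      Groth.Agent.Lib.lead.QFCodimSp.QFQ_of_quasiFiniteAt h.left u₁ hu₁⟩
  refine ⟨⟨Groth.Agent.Lib.Helper3.openSub X.obj W,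
      Groth.Agent.Lib.Helper3.isAlgSpace_openSub X.property W hW⟩,
    ObjectProperty.homMk (Groth.Agent.Lib.Helper3.openSubι X.obj W),
    Groth.Agent.Lib.Helper3.repWith_isOpenImmersion_openSubι X.obj W hW, ?_, ?_, ?_⟩
  · intro U' V' a' b' h' ha' hb' w'
    change a' ≫ (Groth.Agent.Lib.Helper3.openSubι X.obj W ≫ f.hom) = _ at w'
    have hje : AlgSp.RepWith @Etale (Groth.Agent.Lib.Helper3.openSubι X.obj W) :=
      Groth.Agent.Lib.Helper3.repWith_mono (fun _ _ g hg => by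
        haveI : IsOpenImmersion g := hg
        infer_instance) (Groth.Agent.Lib.Helper3.repWith_isOpenImmersion_openSubι X.obj W hW)
    have ha'' : AlgSp.RepWith @Etale (a' ≫ Groth.Agent.Lib.Helper3.openSubι X.obj W) :=
      (AlgSp.RepWith @Etale).comp_mem _ _ ha' hje
    have w'' : (a' ≫ Groth.Agent.Lib.Helper3.openSubι X.obj W) ≫ f.hom =
        (AlgSp.yon S).map h' ≫ b' := by rw [Category.assoc, w']
    have hlft' : LocallyOfFiniteType h'.left := hf _ b' h' ha'' hb' w''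
    refine ⟨?_, hlft'⟩
    rw [← Scheme.Hom.quasiFiniteLocus_eq_top_iff]
    refine top_le_iff.mp fun u' _ => ?_
    change h'.left.QuasiFiniteAt u'
    have hmem : AlgSp.Points.ofPt (a' ≫ Groth.Agent.Lib.Helper3.openSubι X.obj W) u' ∈ W := by
      have h1 : AlgSp.Points.ofPt (a' ≫ Groth.Agent.Lib.Helper3.openSubι X.obj W) u' ∈
          Set.range (AlgSp.Points.map (Groth.Agent.Lib.Helper3.openSubι X.obj W)) := by
        rw [← AlgSp.Points.map_ofPt]
        exact ⟨_, rfl⟩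
      rwa [Groth.Agent.Lib.Helper3.range_map_openSubι X.obj W] at h1
    obtain ⟨U₁, V₁, a₁, b₁, h₁, u₁, ha₁e, hb₁e, e₁, hu₁, hq₁⟩ := hmem
    exact Groth.Agent.Lib.lead.QFCodimSp.quasiFiniteAt_of_charts f.hom
      (a' ≫ Groth.Agent.Lib.Helper3.openSubι X.obj W) b' h' a₁ b₁ h₁ ha'' hb' ha₁e hb₁e w'' e₁ u' u₁
      hu₁.symm (Groth.Agent.Lib.lead.QFCodimSp.quasiFiniteAt_of_QFQ _ _ hq₁)
  · intro x hx
    change x ∉ Set.range (AlgSp.Points.map (Groth.Agent.Lib.Helper3.openSubι X.obj W)) at hx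
    rw [Groth.Agent.Lib.Helper3.range_map_openSubι] at hx
    obtain ⟨V, b, hbe, hbs⟩ := Y.property.atlas
    obtain ⟨U, c, h, hce, -, hae, has, hh, hk⟩ :=
      Groth.Agent.Lib.Helper3.exists_chart_over X.property Y.property f.hom b hbe
    obtain ⟨u, hu⟩ := Groth.Agent.Lib.Helper3.exists_ofPt_eq _ (has hbs) x
    haveI : LocallyOfFiniteType h.left := hf _ b h hae hbe hk
    refine ⟨U, V, _, b, h, u, hae, hbe, hk, hu, ?_⟩
    have hnq : ¬ h.left.QuasiFiniteAt u := fun hq =>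
      hx ⟨U, V, _, b, h, u, hae, hbe, hk, hu,
        Groth.Agent.Lib.lead.QFCodimSp.QFQ_of_quasiFiniteAt h.left u hq⟩
    rw [Groth.Agent.Lib.lead.QFRelDim.quasiFiniteAt_iff_fibreDimAt_eq_zero] at hnq
    apply Groth.Agent.Lib.lead.QFRelDim.one_le_of_pos
    refine lt_of_le_of_ne ?_ (Ne.symm hnq)
    unfold FlatMor.fibreDimAt FlatMor.localDim
    refine le_iInf fun O => ?_
    haveI : Nonempty ((O.1 : Set ↥(h.left.fiber (h.left.base u)))) := ⟨⟨_, O.2⟩⟩
    exact Groth.Agent.Lib.lead.QFRelDim.topologicalKrullDim_nonneg_of_nonempty _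
  · intro Y'' X'' g b f'' sqX x''
    change AlgSp.Points.map b.hom x'' ∈
      Set.range (AlgSp.Points.map (Groth.Agent.Lib.Helper3.openSubι X.obj W)) ↔ _
    rw [Groth.Agent.Lib.Helper3.range_map_openSubι]
    exact (Groth.Agent.Lib.Helper3.hasAtMor_QFQ_baseChange_iff X.property Y.property X''.property
      Y''.property f.hom g.hom b.hom f''.hom sqX hf x'').symm

end Groth.Agent.S10313
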