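import Groth.Statements.S10118
import Groth.Agent.Lib.Helper15.GrpSep
import Groth.Agent.Lib.Helper3.AlgSpLocP4
import Groth.Agent.Lib.Helper3.AlgSpHasAtMor
import Groth.Agent.Lib.Helper3.AlgSpOpenSub
import Groth.Agent.Lib.Helper3.AlgSpLargestOpen
import Groth.Agent.S10262
import Groth.Agent.S10313
-- import your own Groth.Agent.* helpers here

set_option autoImplicit false
universe u
open CategoryTheory CategoryTheory.Limits AlgebraicGeometry MonoidalCategory MonObj
open AlgSp AlgSp.GAction

namespace Groth.Agent.S10118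

section H
namespace W1

open Groth.Agent.Lib.Helper3 Groth.Agent.Lib.Helper15 CartesianMonoidalCategory

variable {S : Scheme.{u}}

theorem locP_of_iso_comp {P : MorphismProperty Scheme.{u}} {X' X Y : Sp S} (i : X' ⟶ X) [IsIso i]
    {f : X ⟶ Y} (hf : LocP P (i ≫ f)) : LocP P f := by
  intro U V a b h ha hb w
  have hinv : RepWith @Etale (inv i) :=
    repWith_mono isOpenImmersion_le_etale (MorphismProperty.of_isIso (RepWith @IsOpenImmersion) _)
  refine hf (a ≫ inv i) b h (MorphismProperty.comp_mem _ _ _ ha hinv) hb ?_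
  rw [Category.assoc, IsIso.inv_hom_id_assoc, w]

theorem locP_iso_comp {P : MorphismProperty Scheme.{u}} {X' X Y : Sp S} (i : X' ⟶ X) [IsIso i]
    {f : X ⟶ Y} (hf : LocP P f) : LocP P (i ≫ f) := by
  intro U V a b h ha hb w
  have hi : RepWith @Etale i :=
    repWith_mono isOpenImmersion_le_etale (MorphismProperty.of_isIso (RepWith @IsOpenImmersion) _)
  refine hf (a ≫ i) b h (MorphismProperty.comp_mem _ _ _ ha hi) hb ?_
  rw [Category.assoc, w]

theorem main (S : Scheme.{u}) (B : AlgSp.Sp S) (hB : AlgSp.IsAlgSpace B)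
    (G X : Over B) [GrpObj G] (hG : AlgSp.IsAlgSpace G.left) (hX : AlgSp.IsAlgSpace X.left)
    (a : AlgSp.GAction G X) (ha : a.IsPseudoTorsor)
    (hGt : AlgSp.LocP @LocallyOfFiniteType G.hom) (hXt : AlgSp.LocP @LocallyOfFiniteType X.hom) :
    (AlgSp.LocP (@LocallyOfFiniteType ⊓ @FormallyUnramified) G.hom →
        AlgSp.LocP (@LocallyOfFiniteType ⊓ @FormallyUnramified) X.hom) ∧
      (AlgSp.LocP (@LocallyQuasiFinite ⊓ @LocallyOfFiniteType) G.hom →
        AlgSp.LocP (@LocallyQuasiFinite ⊓ @LocallyOfFiniteType) X.hom) := by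
  have hGX : IsAlgSpace (pullback G.hom X.hom) :=
    isAlgSpace_of_isPullback' hB hG hX (IsPullback.of_hasPullback G.hom X.hom)
  have hXX : IsAlgSpace (pullback X.hom X.hom) :=
    isAlgSpace_of_isPullback' hB hX hX (IsPullback.of_hasPullback X.hom X.hom)
  haveI : IsIso (lift a.act (snd G X)) := ha
  let φ : pullback G.hom X.hom ⟶ pullback X.hom X.hom := (lift a.act (snd G X)).left
  haveI : IsIso φ := (inferInstance : IsIso ((Over.forget B).map (lift a.act (snd G X))))
  have hφ : φ ≫ pullback.snd X.hom X.hom = pullback.snd G.hom X.hom :=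
    congrArg (fun f => f.left) (lift_snd a.act (snd G X))
  -- transfer to the second projection of `X ×_B X`
  have key : ∀ {P : MorphismProperty Scheme.{u}} (hP : IsEtLocal P), LocP P G.hom →
      LocP P (pullback.snd X.hom X.hom) := by
    intro P hP hGP
    have h1 : LocP P (pullback.snd G.hom X.hom) :=
      locP_of_isPullback hP hG hB hX hGX G.hom X.hom _ _ (IsPullback.of_hasPullback _ _) hGP
    rw [← hφ] at h1
    exact locP_of_iso_comp φ h1
  have hsec : pullback.diagonal X.hom ≫ pullback.snd X.hom X.hom = 𝟙 _ := pullback.diagonal_snd _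
  let XS : AlgSp.Space S := ⟨X.left, hX⟩
  let BS : AlgSp.Space S := ⟨B, hB⟩
  let XXS : AlgSp.Space S := ⟨pullback X.hom X.hom, hXX⟩
  refine ⟨fun hGu => ?_, fun hGq => ?_⟩
  · have h2 := key isEtLocal_unramified hGu
    have h3 := (Groth.Agent.S10262.result (S := S) (X := XXS) (Y := XS)
      (ObjectProperty.homMk (pullback.snd X.hom X.hom))).1 h2
    have h4 : RepWith @IsOpenImmersion (pullback.diagonal X.hom) :=
      MorphismProperty.of_isPullback (P := RepWith (S := S) @IsOpenImmersion)
        (GrpSep.isPullback_section_diagonal _ _ hsec) h3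
    exact (Groth.Agent.S10262.result (S := S) (X := XS) (Y := BS)
      (ObjectProperty.homMk X.hom)).2 hXt h4
  · have h2 := key isEtLocal_locallyQuasiFinite hGq
    obtain ⟨X', j, hj, hjf, -, hbc⟩ := Groth.Agent.S10313.result (S := S) (X := XS) (Y := BS)
      (ObjectProperty.homMk X.hom) hXt
    have hsurj : IsSurjectiveMor j.hom := by
      intro x
      have h5 := (hbc XS XXS (ObjectProperty.homMk X.hom)
        (ObjectProperty.homMk (pullback.fst X.hom X.hom))
        (ObjectProperty.homMk (pullback.snd X.hom X.hom)) (IsPullback.of_hasPullback _ _)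
        (Points.map (pullback.diagonal X.hom) x)).2 ?_
      · have e : Points.map (pullback.fst X.hom X.hom) (Points.map (pullback.diagonal X.hom) x) = x := by
          rw [← Points.map_comp, pullback.diagonal_fst, Points.map_id]
        change Points.map (pullback.fst X.hom X.hom) _ ∈ _ at h5
        rw [e] at h5
        exact h5
      · exact hasAtMor_of_locP isEtLocal_locallyQuasiFinite hXX hX _ h2 _
    haveI : IsIso j.hom := isIso_of_repWith_isOpenImmersion_of_isSurjectiveMor _ hj hsurj
    exact locP_of_iso_comp j.hom hjf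

end W1
end H


/-- Let `X` be a pseudo-torsor under a group algebraic space `G` over an algebraic space `B`, where both
`G` and `X` are locally of finite type over `B`. Whenever `G ⟶ B` is unramified, `X ⟶ B` is
unramified too; likewise, local quasi-finiteness passes from `G ⟶ B` to `X ⟶ B`. -/
theorem result (S : Scheme.{u}) (B : AlgSp.Sp S) (hB : AlgSp.IsAlgSpace B)
    (G X : Over B) [GrpObj G] (hG : AlgSp.IsAlgSpace G.left) (hX : AlgSp.IsAlgSpace X.left)
    (a : AlgSp.GAction G X) (ha : a.IsPseudoTorsor)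
    (hGt : AlgSp.LocP @LocallyOfFiniteType G.hom) (hXt : AlgSp.LocP @LocallyOfFiniteType X.hom) :
    (AlgSp.LocP (@LocallyOfFiniteType ⊓ @FormallyUnramified) G.hom →
        AlgSp.LocP (@LocallyOfFiniteType ⊓ @FormallyUnramified) X.hom) ∧
      (AlgSp.LocP (@LocallyQuasiFinite ⊓ @LocallyOfFiniteType) G.hom →
        AlgSp.LocP (@LocallyQuasiFinite ⊓ @LocallyOfFiniteType) X.hom) := by
  exact W1.main S B hB G X hG hX a ha hGt hXt

end Groth.Agent.S10118
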