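import Groth.Statements.S10122
import Groth.Agent.Lib.Helper15.GrpSep
import Groth.Agent.Lib.Helper3.AlgSpSep
-- import your own Groth.Agent.* helpers here

set_option autoImplicit false
universe u
open CategoryTheory CategoryTheory.Limits AlgebraicGeometry
open AlgSp AlgSp.GroupoidSp

namespace Groth.Agent.S10122

section H
namespace W1

open Groth.Agent.Lib.Helper3 Groth.Agent.Lib.Helper15

variable {S : Scheme.{u}} {B : Sp S} (G : GroupoidSp B)

theorem lift_congr {C : Type*} [Category C] {X Y Z T : C} {f : X ⟶ Z} {g : Y ⟶ Z} [HasPullback f g]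
    {a a' : T ⟶ X} {b b' : T ⟶ Y} (ha : a = a') (hb : b = b') (h : a ≫ f = b ≫ g) :
    pullback.lift a b h = pullback.lift a' b' (by rw [← ha, ← hb]; exact h) := by
  subst ha; subst hb; rfl

theorem comp_lift {C : Type*} [Category C] {X Y Z T T' : C} {f : X ⟶ Z} {g : Y ⟶ Z}
    [HasPullback f g] (x : T' ⟶ T) (a : T ⟶ X) (b : T ⟶ Y) (h : a ≫ f = b ≫ g) :
    x ≫ pullback.lift a b h = pullback.lift (x ≫ a) (x ≫ b)
      (by rw [Category.assoc, Category.assoc, h]) := by
  apply pullback.hom_ext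
  · rw [Category.assoc, pullback.lift_fst, pullback.lift_fst]
  · rw [Category.assoc, pullback.lift_snd, pullback.lift_snd]

/-- Groupoid algebra: if `α⁻¹ ∘ β` is an identity then `α = β`. -/
theorem eq_of_inv_comp {T : Sp S} (α β : T ⟶ G.R) (ht : α ≫ G.t = β ≫ G.t) (u : T ⟶ G.U)
    (h : pullback.lift (α ≫ G.i) β (by rw [Category.assoc, G.i_s, ht]) ≫ G.c = u ≫ G.e) :
    α = β := by
  have h₁ : α ≫ G.s = (α ≫ G.i) ≫ G.t := by rw [Category.assoc, G.i_t]
  have h₂ : (α ≫ G.i) ≫ G.s = β ≫ G.t := by rw [Category.assoc, G.i_s, ht]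
  have hu : u = α ≫ G.s := by
    have := congrArg (· ≫ G.t) h
    simp only [Category.assoc, G.e_t, Category.comp_id] at this
    rw [← this]
    have := G.comp_t (α ≫ G.i) β h₂
    simp only [Category.assoc] at this ⊢
    rw [this, G.i_t]
  have e1 := G.e_comp β
  have e2 := G.comp_i α
  have e3 := G.assoc α (α ≫ G.i) β h₁ h₂
  have e4 := G.comp_e α
  rw [← e1, ← e4]
  have k1 : pullback.lift (β ≫ G.t ≫ G.e) β
      (by rw [Category.assoc, Category.assoc, G.e_s, Category.comp_id]) =
      pullback.lift (pullback.lift α (α ≫ G.i) h₁ ≫ G.c) β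
        ((G.comp_s α (α ≫ G.i) h₁).trans h₂) :=
    lift_congr (by rw [e2, ← Category.assoc, ← ht, Category.assoc]) rfl _
  rw [k1, e3]
  congr 1
  exact lift_congr rfl (by rw [h, hu, Category.assoc]) _

theorem eG_toU (eG : G.U ⟶ G.stabilizer) (heG : eG ≫ G.stabilizerι = G.e) :
    eG ≫ G.stabilizerToU = 𝟙 G.U := by
  have h1 : (eG ≫ G.stabilizerToU) ≫ G.diag = G.diag := by
    have := pullback.condition (f := G.j) (g := G.diag)
    change G.stabilizerι ≫ G.j = G.stabilizerToU ≫ G.diag at this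
    rw [Category.assoc, ← this, ← Category.assoc, heG]
    apply pullback.hom_ext
    · rw [Category.assoc, G.j_fst, G.e_t]; exact (pullback.lift_fst _ _ _).symm
    · rw [Category.assoc, G.j_snd, G.e_s]; exact (pullback.lift_snd _ _ _).symm
  have h2 : G.diag ≫ pullback.fst G.pU G.pU = 𝟙 _ := pullback.lift_fst _ _ _
  have := congrArg (· ≫ pullback.fst G.pU G.pU) h1
  simpa only [Category.assoc, h2, Category.comp_id] using this

/-- The diagonal of `j` is a base change of the unit section of the stabilizer. -/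
theorem exists_isPullback_diagonal_j (eG : G.U ⟶ G.stabilizer) (heG : eG ≫ G.stabilizerι = G.e) :
    ∃ δ : pullback G.j G.j ⟶ G.stabilizer, IsPullback (pullback.diagonal G.j) G.s δ eG := by
  have hto := eG_toU G eG heG
  set p₁ := pullback.fst G.j G.j with hp₁
  set p₂ := pullback.snd G.j G.j with hp₂
  have hc : p₁ ≫ G.j = p₂ ≫ G.j := pullback.condition
  have hΔ1 : pullback.diagonal G.j ≫ p₁ = 𝟙 _ := pullback.diagonal_fst _
  have hΔ2 : pullback.diagonal G.j ≫ p₂ = 𝟙 _ := pullback.diagonal_snd _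
  have hct : p₁ ≫ G.t = p₂ ≫ G.t := by
    have := congrArg (· ≫ pullback.fst G.pU G.pU) hc
    simpa only [Category.assoc, G.j_fst] using this
  have hcs : p₁ ≫ G.s = p₂ ≫ G.s := by
    have := congrArg (· ≫ pullback.snd G.pU G.pU) hc
    simpa only [Category.assoc, G.j_snd] using this
  have hm : (p₁ ≫ G.i) ≫ G.s = p₂ ≫ G.t := by rw [Category.assoc, G.i_s, hct]
  let m : pullback G.j G.j ⟶ G.R := pullback.lift (p₁ ≫ G.i) p₂ hm ≫ G.c
  have hms : m ≫ G.s = p₂ ≫ G.s := G.comp_s _ _ hm
  have hmt : m ≫ G.t = p₁ ≫ G.s :=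
    (G.comp_t _ _ hm).trans (by rw [Category.assoc, G.i_t])
  have hd1 : G.diag ≫ pullback.fst G.pU G.pU = 𝟙 _ := pullback.lift_fst _ _ _
  have hd2 : G.diag ≫ pullback.snd G.pU G.pU = 𝟙 _ := pullback.lift_snd _ _ _
  have hδ : m ≫ G.j = (p₂ ≫ G.s) ≫ G.diag := by
    apply pullback.hom_ext
    · rw [Category.assoc, G.j_fst, hmt, hcs, Category.assoc, hd1, Category.comp_id]
    · rw [Category.assoc, G.j_snd, hms, Category.assoc, hd2, Category.comp_id]
  let δ : pullback G.j G.j ⟶ G.stabilizer := pullback.lift m (p₂ ≫ G.s) hδ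
  have hδ1 : δ ≫ G.stabilizerι = m := pullback.lift_fst _ _ _
  have hδ2 : δ ≫ G.stabilizerToU = p₂ ≫ G.s := pullback.lift_snd _ _ _
  refine ⟨δ, IsPullback.mk' ?_ ?_ ?_⟩
  · apply pullback.hom_ext
    · change (pullback.diagonal G.j ≫ δ) ≫ G.stabilizerι = (G.s ≫ eG) ≫ G.stabilizerι
      rw [Category.assoc, hδ1, Category.assoc, heG]
      show pullback.diagonal G.j ≫ pullback.lift (p₁ ≫ G.i) p₂ hm ≫ G.c = _
      rw [← Category.assoc, comp_lift]
      have := G.i_comp (𝟙 G.R)
      refine Eq.trans ?_ (this.trans (Category.id_comp _))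
      congr 1
      exact lift_congr (by rw [← Category.assoc, hΔ1])
        (by rw [hΔ2]) _
    · change (pullback.diagonal G.j ≫ δ) ≫ G.stabilizerToU = (G.s ≫ eG) ≫ G.stabilizerToU
      rw [Category.assoc, hδ2, Category.assoc, hto, Category.comp_id, ← Category.assoc,
        hΔ2, Category.id_comp]
  · intro Z φ φ' h1 _
    have := congrArg (· ≫ p₁) h1
    simpa only [Category.assoc, hΔ1, Category.comp_id] using this
  · intro Z x u hxu
    have hxs : x ≫ p₂ ≫ G.s = u := by
      have := congrArg (· ≫ G.stabilizerToU) hxu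
      simpa only [Category.assoc, hδ2, hto, Category.comp_id] using this
    have hxm : x ≫ m = u ≫ G.e := by
      have := congrArg (· ≫ G.stabilizerι) hxu
      simpa only [Category.assoc, hδ1, heG] using this
    have hαβ : x ≫ p₁ = x ≫ p₂ := by
      refine eq_of_inv_comp G (x ≫ p₁) (x ≫ p₂) (by rw [Category.assoc, hct, Category.assoc]) u ?_
      rw [← hxm]
      show _ = x ≫ pullback.lift (p₁ ≫ G.i) p₂ hm ≫ G.c
      refine Eq.trans ?_ (Category.assoc _ _ _)
      rw [comp_lift]
      congr 1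
    refine ⟨x ≫ p₁, ?_, ?_⟩
    · apply pullback.hom_ext
      · rw [Category.assoc]
        exact (congrArg ((x ≫ p₁) ≫ ·) hΔ1).trans (Category.comp_id _)
      · rw [Category.assoc]
        exact (congrArg ((x ≫ p₁) ≫ ·) hΔ2).trans ((Category.comp_id _).trans hαβ)
    · rw [hαβ, Category.assoc, hxs]

section main
variable (P : MorphismProperty Scheme.{u}) (eG : G.U ⟶ G.stabilizer)
  (heG : eG ≫ G.stabilizerι = G.e)

theorem diag_j_to_stab (h : RepWith P (pullback.diagonal G.j)) :
    RepWith P (pullback.diagonal G.stabilizerToU) :=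
  repWith_diagonal_of_isPullback P (IsPullback.of_hasPullback G.j G.diag) h

include heG in
theorem stab_to_eG (h : RepWith P (pullback.diagonal G.stabilizerToU)) : RepWith P eG :=
  MorphismProperty.of_isPullback (P := RepWith (S := S) P)
    (Groth.Agent.Lib.Helper15.GrpSep.isPullback_section_diagonal G.stabilizerToU eG (eG_toU G eG heG)) h

include heG in
theorem eG_to_diag_j (h : RepWith P eG) : RepWith P (pullback.diagonal G.j) := by
  obtain ⟨δ, sq⟩ := exists_isPullback_diagonal_j G eG heG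
  exact MorphismProperty.of_isPullback (P := RepWith (S := S) P) sq.flip h

end main

theorem main (S : Scheme.{u}) (B : AlgSp.Sp S) (hB : AlgSp.IsAlgSpace B)
    (G : AlgSp.GroupoidSp B) (hU : AlgSp.IsAlgSpace G.U) (hR : AlgSp.IsAlgSpace G.R)
    (eG : G.U ⟶ G.stabilizer) (heG : eG ≫ G.stabilizerι = G.e) :
    ((AlgSp.IsSeparatedMor G.j ↔ AlgSp.IsSeparatedMor G.stabilizerToU) ∧
        (AlgSp.IsSeparatedMor G.j ↔ AlgSp.RepWith @IsClosedImmersion eG)) ∧
      ((AlgSp.IsQuasiSeparatedMor G.j ↔ AlgSp.IsQuasiSeparatedMor G.stabilizerToU) ∧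
        (AlgSp.IsQuasiSeparatedMor G.j ↔ AlgSp.IsQuasiCompactMor eG)) ∧
      ((AlgSp.IsLocallySeparatedMor G.j → AlgSp.RepWith @IsImmersion eG) ∧
        (AlgSp.IsLocallySeparatedMor G.stabilizerToU → AlgSp.RepWith @IsImmersion eG)) := by
  have hUU : IsAlgSpace (pullback G.pU G.pU) :=
    isAlgSpace_of_isPullback' hB hU hU (IsPullback.of_hasPullback _ _)
  have hSt : IsAlgSpace G.stabilizer :=
    isAlgSpace_of_isPullback' hUU hR hU (IsPullback.of_hasPullback G.j G.diag)
  have hrep : Representable eG :=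
    MorphismProperty.of_isPullback (P := Representable (S := S))
      (Groth.Agent.Lib.Helper15.GrpSep.isPullback_section_diag G.stabilizerToU eG (eG_toU G eG heG)) hSt.diag
  refine ⟨⟨⟨diag_j_to_stab G _, fun h => eG_to_diag_j G _ eG heG (stab_to_eG G _ eG heG h)⟩,
    ⟨fun h => stab_to_eG G _ eG heG (diag_j_to_stab G _ h), eG_to_diag_j G _ eG heG⟩⟩,
    ⟨⟨diag_j_to_stab G _, fun h => eG_to_diag_j G _ eG heG (stab_to_eG G _ eG heG h)⟩,
    ⟨fun h => isQuasiCompactMor_of_repWith_quasiCompact _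
        (stab_to_eG G _ eG heG (diag_j_to_stab G _ h)),
      fun h => eG_to_diag_j G _ eG heG (repWith_quasiCompact_of_isQuasiCompactMor _ hrep h)⟩⟩,
    ⟨fun h => stab_to_eG G _ eG heG (diag_j_to_stab G _ h), fun h => stab_to_eG G _ eG heG h⟩⟩

end W1
end H


/-- Let `(U, R, s, t, c)` be a groupoid in algebraic spaces over `B` with stabilizer `G ⟶ U` and unit
section `e : U ⟶ G`. Then (1) `j : R ⟶ U ×_B U` is separated iff `G ⟶ U` is separated iff `e` is a
closed immersion; (3) `j` is quasi-separated iff `G ⟶ U` is quasi-separated iff `e` is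
quasi-compact; (2) if `j` or `G ⟶ U` is locally separated then `e` is an immersion. The unit section
is written as any morphism `U ⟶ G` lifting the identity `e : U ⟶ R` of the groupoid. (The published
part (2) is a three-way equivalence; this row states only that `j` locally separated, or `G ⟶ U`
locally separated, implies that `e` is an immersion.) -/
theorem result (S : Scheme.{u}) (B : AlgSp.Sp S) (hB : AlgSp.IsAlgSpace B)
    (G : AlgSp.GroupoidSp B) (hU : AlgSp.IsAlgSpace G.U) (hR : AlgSp.IsAlgSpace G.R)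
    (eG : G.U ⟶ G.stabilizer) (heG : eG ≫ G.stabilizerι = G.e) :
    ((AlgSp.IsSeparatedMor G.j ↔ AlgSp.IsSeparatedMor G.stabilizerToU) ∧
        (AlgSp.IsSeparatedMor G.j ↔ AlgSp.RepWith @IsClosedImmersion eG)) ∧
      ((AlgSp.IsQuasiSeparatedMor G.j ↔ AlgSp.IsQuasiSeparatedMor G.stabilizerToU) ∧
        (AlgSp.IsQuasiSeparatedMor G.j ↔ AlgSp.IsQuasiCompactMor eG)) ∧
      ((AlgSp.IsLocallySeparatedMor G.j → AlgSp.RepWith @IsImmersion eG) ∧
        (AlgSp.IsLocallySeparatedMor G.stabilizerToU → AlgSp.RepWith @IsImmersion eG)) := by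
  exact W1.main S B hB G hU hR eG heG

end Groth.Agent.S10122
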