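import Groth.Statements.S10123
import Groth.Agent.Lib.Helper15.FieldBase
-- import your own Groth.Agent.* helpers here

set_option autoImplicit false
universe u
open CategoryTheory CategoryTheory.Limits AlgebraicGeometry
open AlgSp AlgSp.GroupoidSp

namespace Groth.Agent.S10123

section H
namespace W1

open Groth.Agent.Lib.Helper3 Groth.Agent.Lib.Helper15

variable {S : Scheme.{u}} {B : Sp S} {G' G : GroupoidSp B} (φ : GroupoidSp.Hom G' G)

theorem prodMap_fst : φ.prodMap ≫ pullback.fst G.pU G.pU = pullback.fst G'.pU G'.pU ≫ φ.fU :=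
  pullback.lift_fst _ _ _

theorem prodMap_snd : φ.prodMap ≫ pullback.snd G.pU G.pU = pullback.snd G'.pU G'.pU ≫ φ.fU :=
  pullback.lift_snd _ _ _

/-- `R' ⟶ R ×_{s,U} U'` is a base change of `U' ⟶ U`. -/
theorem isPullback_s (hφ : φ.IsRestriction) :
    IsPullback (pullback.lift φ.fR G'.s φ.comm_s : G'.R ⟶ pullback G.s φ.fU) G'.t
      (pullback.fst G.s φ.fU ≫ G.t) φ.fU := by
  have hφ' : IsPullback φ.fR G'.j G.j φ.prodMap := hφ
  refine IsPullback.mk' ?_ ?_ ?_
  · rw [← Category.assoc, pullback.lift_fst, φ.comm_t]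
  · intro Z x y h1 h2
    apply hφ'.hom_ext
    · have := congrArg (· ≫ pullback.fst G.s φ.fU) h1
      simpa only [Category.assoc, pullback.lift_fst] using this
    · apply pullback.hom_ext
      · simpa only [Category.assoc, GroupoidSp.j_fst] using h2
      · have := congrArg (· ≫ pullback.snd G.s φ.fU) h1
        simpa only [Category.assoc, pullback.lift_snd, GroupoidSp.j_snd] using this
  · intro Z x y hxy
    have hw : (x ≫ pullback.snd G.s φ.fU) ≫ G'.pU = y ≫ G'.pU := by
      rw [← φ.fU_over, Category.assoc, ← Category.assoc _ φ.fU, ← pullback.condition,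
        Category.assoc, G.s_over, ← G.t_over, ← Category.assoc, ← Category.assoc,
        ← Category.assoc, Category.assoc x, hxy, Category.assoc]
    have hcond : (x ≫ pullback.fst G.s φ.fU) ≫ G.j =
        pullback.lift y (x ≫ pullback.snd G.s φ.fU) hw.symm ≫ φ.prodMap := by
      apply pullback.hom_ext
      · simp only [Category.assoc, GroupoidSp.j_fst, prodMap_fst, pullback.lift_fst_assoc, hxy]
      · simp only [Category.assoc, GroupoidSp.j_snd, prodMap_snd, pullback.lift_snd_assoc,
          pullback.condition]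
    refine ⟨hφ'.lift _ _ hcond, ?_, ?_⟩
    · apply pullback.hom_ext
      · rw [Category.assoc, pullback.lift_fst, hφ'.lift_fst]
      · rw [Category.assoc, pullback.lift_snd, ← GroupoidSp.j_snd G', ← Category.assoc,
          hφ'.lift_snd, pullback.lift_snd]
    · rw [← GroupoidSp.j_fst G', ← Category.assoc, hφ'.lift_snd, pullback.lift_fst]

/-- `R' ⟶ R ×_{t,U} U'` is a base change of `U' ⟶ U`. -/
theorem isPullback_t (hφ : φ.IsRestriction) :
    IsPullback (pullback.lift φ.fR G'.t φ.comm_t : G'.R ⟶ pullback G.t φ.fU) G'.s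
      (pullback.fst G.t φ.fU ≫ G.s) φ.fU := by
  have hφ' : IsPullback φ.fR G'.j G.j φ.prodMap := hφ
  refine IsPullback.mk' ?_ ?_ ?_
  · rw [← Category.assoc, pullback.lift_fst, φ.comm_s]
  · intro Z x y h1 h2
    apply hφ'.hom_ext
    · have := congrArg (· ≫ pullback.fst G.t φ.fU) h1
      simpa only [Category.assoc, pullback.lift_fst] using this
    · apply pullback.hom_ext
      · have := congrArg (· ≫ pullback.snd G.t φ.fU) h1
        simpa only [Category.assoc, pullback.lift_snd, GroupoidSp.j_fst] using this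
      · simpa only [Category.assoc, GroupoidSp.j_snd] using h2
  · intro Z x y hxy
    have hw : (x ≫ pullback.snd G.t φ.fU) ≫ G'.pU = y ≫ G'.pU := by
      rw [← φ.fU_over, Category.assoc, ← Category.assoc _ φ.fU, ← pullback.condition,
        Category.assoc, G.t_over, ← G.s_over, ← Category.assoc, ← Category.assoc,
        ← Category.assoc, Category.assoc x, hxy, Category.assoc]
    have hcond : (x ≫ pullback.fst G.t φ.fU) ≫ G.j =
        pullback.lift (x ≫ pullback.snd G.t φ.fU) y hw ≫ φ.prodMap := by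
      apply pullback.hom_ext
      · simp only [Category.assoc, GroupoidSp.j_fst, prodMap_fst, pullback.lift_fst_assoc,
          pullback.condition]
      · simp only [Category.assoc, GroupoidSp.j_snd, prodMap_snd, pullback.lift_snd_assoc, hxy]
    refine ⟨hφ'.lift _ _ hcond, ?_, ?_⟩
    · apply pullback.hom_ext
      · rw [Category.assoc, pullback.lift_fst, hφ'.lift_fst]
      · rw [Category.assoc, pullback.lift_snd, ← GroupoidSp.j_fst G', ← Category.assoc,
          hφ'.lift_snd, pullback.lift_fst]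
    · rw [← GroupoidSp.j_snd G', ← Category.assoc, hφ'.lift_snd, pullback.lift_snd]

theorem key {P : MorphismProperty Scheme.{u}} (hP : IsEtLocal P) (hB : IsAlgSpace B)
    (hU : IsAlgSpace G.U) (hR : IsAlgSpace G.R) (hU' : IsAlgSpace G'.U) (hR' : IsAlgSpace G'.R)
    (hφ : φ.IsRestriction) (hs : LocP P G.s) (ht : LocP P G.t) (hf : LocP P φ.fU) :
    LocP P G'.s ∧ LocP P G'.t := by
  constructor
  · have hQ : IsAlgSpace (pullback G.s φ.fU) :=
      isAlgSpace_of_isPullback' hU hR hU' (IsPullback.of_hasPullback _ _)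
    have h1 : LocP P (pullback.lift φ.fR G'.s φ.comm_s : G'.R ⟶ pullback G.s φ.fU) :=
      locP_of_isPullback hP hU' hU hQ hR' _ _ _ _ (isPullback_s φ hφ).flip hf
    have h2 : LocP P (pullback.snd G.s φ.fU) :=
      locP_of_isPullback hP hR hU hU' hQ _ _ _ _ (IsPullback.of_hasPullback G.s φ.fU) hs
    have := locP_comp hP hR' hQ hU' _ _ h1 h2
    rwa [pullback.lift_snd] at this
  · have hQ : IsAlgSpace (pullback G.t φ.fU) :=
      isAlgSpace_of_isPullback' hU hR hU' (IsPullback.of_hasPullback _ _)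
    have h1 : LocP P (pullback.lift φ.fR G'.t φ.comm_t : G'.R ⟶ pullback G.t φ.fU) :=
      locP_of_isPullback hP hU' hU hQ hR' _ _ _ _ (isPullback_t φ hφ).flip hf
    have h2 : LocP P (pullback.snd G.t φ.fU) :=
      locP_of_isPullback hP hR hU hU' hQ _ _ _ _ (IsPullback.of_hasPullback G.t φ.fU) ht
    have := locP_comp hP hR' hQ hU' _ _ h1 h2
    rwa [pullback.lift_snd] at this

theorem main (S : Scheme.{u}) (B : AlgSp.Sp S) (hB : AlgSp.IsAlgSpace B)
    (G G' : AlgSp.GroupoidSp B) (hU : AlgSp.IsAlgSpace G.U) (hR : AlgSp.IsAlgSpace G.R)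
    (hU' : AlgSp.IsAlgSpace G'.U) (hR' : AlgSp.IsAlgSpace G'.R) (φ : AlgSp.GroupoidSp.Hom G' G)
    (hφ : φ.IsRestriction) :
    (AlgSp.LocP @LocallyOfFiniteType G.s → AlgSp.LocP @LocallyOfFiniteType G.t →
        AlgSp.LocP @LocallyOfFiniteType φ.fU →
        AlgSp.LocP @LocallyOfFiniteType G'.s ∧ AlgSp.LocP @LocallyOfFiniteType G'.t) ∧
      (AlgSp.LocP @LocallyOfFinitePresentation G.s → AlgSp.LocP @LocallyOfFinitePresentation G.t →
        AlgSp.LocP @LocallyOfFinitePresentation φ.fU →
        AlgSp.LocP @LocallyOfFinitePresentation G'.s ∧ AlgSp.LocP @LocallyOfFinitePresentation G'.t) ∧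
      (AlgSp.LocP @Flat G.s → AlgSp.LocP @Flat G.t → AlgSp.LocP @Flat φ.fU →
        AlgSp.LocP @Flat G'.s ∧ AlgSp.LocP @Flat G'.t) :=
  ⟨key φ isEtLocal_locallyOfFiniteType hB hU hR hU' hR' hφ,
    key φ isEtLocal_locallyOfFinitePresentation hB hU hR hU' hR' hφ,
    key φ isEtLocal_flat hB hU hR hU' hR' hφ⟩

end W1
end H


/-- Let `(U', R', s', t', c')` be the restriction of a groupoid in algebraic spaces `(U, R, s, t, c)`
over `B` along `g : U' ⟶ U`. If `s, t, g` are locally of finite type (resp. locally of finite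
presentation, resp. flat) then so are `s', t'`. -/
theorem result (S : Scheme.{u}) (B : AlgSp.Sp S) (hB : AlgSp.IsAlgSpace B)
    (G G' : AlgSp.GroupoidSp B) (hU : AlgSp.IsAlgSpace G.U) (hR : AlgSp.IsAlgSpace G.R)
    (hU' : AlgSp.IsAlgSpace G'.U) (hR' : AlgSp.IsAlgSpace G'.R) (φ : AlgSp.GroupoidSp.Hom G' G)
    (hφ : φ.IsRestriction) :
    (AlgSp.LocP @LocallyOfFiniteType G.s → AlgSp.LocP @LocallyOfFiniteType G.t →
        AlgSp.LocP @LocallyOfFiniteType φ.fU →
        AlgSp.LocP @LocallyOfFiniteType G'.s ∧ AlgSp.LocP @LocallyOfFiniteType G'.t) ∧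
      (AlgSp.LocP @LocallyOfFinitePresentation G.s → AlgSp.LocP @LocallyOfFinitePresentation G.t →
        AlgSp.LocP @LocallyOfFinitePresentation φ.fU →
        AlgSp.LocP @LocallyOfFinitePresentation G'.s ∧ AlgSp.LocP @LocallyOfFinitePresentation G'.t) ∧
      (AlgSp.LocP @Flat G.s → AlgSp.LocP @Flat G.t → AlgSp.LocP @Flat φ.fU →
        AlgSp.LocP @Flat G'.s ∧ AlgSp.LocP @Flat G'.t) := by
  exact W1.main S B hB G G' hU hR hU' hR' φ hφ

end Groth.Agent.S10123
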