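import Groth.Statements.S10124
import Groth.Agent.Lib.lead.GpdSp

set_option autoImplicit false
universe u
open CategoryTheory CategoryTheory.Limits AlgebraicGeometry
open AlgSp AlgSp.GroupoidSp

namespace Groth.Agent.S10124


open Groth.Agent.Lib.lead.GpdSp

section
variable {S : Scheme.{u}} {B : AlgSp.Sp S} (G : AlgSp.GroupoidSp B) {X : AlgSp.Sp S}
  (g : X ⟶ G.R) (b : X ⟶ G.U) (hb : g ≫ G.t = b)

include hb in
private lemma h1 : pullback.snd b G.s ≫ G.s = (pullback.fst b G.s ≫ g) ≫ G.t := by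
  rw [Category.assoc, hb, pullback.condition]

private lemma h3 : pullback.snd (g ≫ G.s) G.s ≫ G.s = (pullback.fst (g ≫ G.s) G.s ≫ g ≫ G.i) ≫ G.t := by
  rw [Category.assoc, Category.assoc, G.i_t, pullback.condition]

/-- right translation by `g`. -/
private noncomputable def fwd : pullback b G.s ⟶ pullback (g ≫ G.s) G.s :=
  pullback.lift (pullback.fst b G.s) (m G (pullback.snd b G.s) (pullback.fst b G.s ≫ g) (h1 G g b hb))
    (by rw [m_s, Category.assoc])

/-- right translation by the inverse of `g`. -/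
private noncomputable def bwd : pullback (g ≫ G.s) G.s ⟶ pullback b G.s :=
  pullback.lift (pullback.fst (g ≫ G.s) G.s)
    (m G (pullback.snd (g ≫ G.s) G.s) (pullback.fst (g ≫ G.s) G.s ≫ g ≫ G.i) (h3 G g))
    (by rw [m_s, Category.assoc, Category.assoc, G.i_s, hb])

private lemma fwd_bwd : fwd G g b hb ≫ bwd G g b hb = 𝟙 _ := by
  apply pullback.hom_ext
  · simp only [fwd, bwd, Category.assoc, pullback.lift_fst, Category.id_comp]
  · rw [Category.assoc, Category.id_comp]
    unfold bwd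
    rw [pullback.lift_snd, m_pre]
    have e1 : fwd G g b hb ≫ pullback.snd (g ≫ G.s) G.s
        = m G (pullback.snd b G.s) (pullback.fst b G.s ≫ g) (h1 G g b hb) := by
      unfold fwd; rw [pullback.lift_snd]
    have e2 : fwd G g b hb ≫ pullback.fst (g ≫ G.s) G.s ≫ g ≫ G.i
        = (pullback.fst b G.s ≫ g) ≫ G.i := by
      unfold fwd; rw [← Category.assoc, pullback.lift_fst, Category.assoc]
    have h2 : (pullback.fst b G.s ≫ g) ≫ G.s = ((pullback.fst b G.s ≫ g) ≫ G.i) ≫ G.t := by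
      rw [Category.assoc _ G.i, G.i_t]
    refine (m_congr G e1 e2 _ ((m_s G _ _ (h1 G g b hb)).trans h2)).trans ?_
    refine (m_assoc G _ _ _ (h1 G g b hb) h2).trans ?_
    refine m_e_right G _ _ ?_ _
    rw [m_i_right G (pullback.fst b G.s ≫ g) _ rfl h2, ← Category.assoc, ← h1 G g b hb,
      Category.assoc]

private lemma bwd_fwd : bwd G g b hb ≫ fwd G g b hb = 𝟙 _ := by
  apply pullback.hom_ext
  · simp only [fwd, bwd, Category.assoc, pullback.lift_fst, Category.id_comp]
  · rw [Category.assoc, Category.id_comp]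
    unfold fwd
    rw [pullback.lift_snd, m_pre]
    have e1 : bwd G g b hb ≫ pullback.snd b G.s
        = m G (pullback.snd (g ≫ G.s) G.s) (pullback.fst (g ≫ G.s) G.s ≫ g ≫ G.i) (h3 G g) := by
      unfold bwd; rw [pullback.lift_snd]
    have e2 : bwd G g b hb ≫ pullback.fst b G.s ≫ g
        = pullback.fst (g ≫ G.s) G.s ≫ g := by
      unfold bwd; rw [← Category.assoc, pullback.lift_fst]
    have h2 : (pullback.fst (g ≫ G.s) G.s ≫ g ≫ G.i) ≫ G.s
        = (pullback.fst (g ≫ G.s) G.s ≫ g) ≫ G.t := by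
      rw [Category.assoc, Category.assoc, G.i_s, Category.assoc]
    refine (m_congr G e1 e2 _ ((m_s G _ _ (h3 G g)).trans h2)).trans ?_
    refine (m_assoc G _ _ _ (h3 G g) h2).trans ?_
    refine m_e_right G _ _ ?_ _
    rw [m_i_left G (pullback.fst (g ≫ G.s) G.s ≫ g) _ (by rw [Category.assoc]) h2]
    have hc := congrArg (· ≫ G.e) (pullback.condition (f := g ≫ G.s) (g := G.s))
    simpa [Category.assoc] using hc

private noncomputable def transIso :
    Over.mk (pullback.fst b G.s) ≅ Over.mk (pullback.fst (g ≫ G.s) G.s) :=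
  Over.isoMk ⟨fwd G g b hb, bwd G g b hb, fwd_bwd G g b hb, bwd_fwd G g b hb⟩
    (by
      show fwd G g b hb ≫ pullback.fst _ _ = pullback.fst _ _
      unfold fwd
      rw [pullback.lift_fst])

end

/-- Let `(U, R, s, t, c)` be a groupoid in algebraic spaces over `B`, `K` a field and `r, r' : Spec K ⟶
R` with `t ∘ r = t ∘ r'`; put `u = s ∘ r`, `u' = s ∘ r'`. Then the fibres `Spec K ×_{u, U, s} R` and
`Spec K ×_{u', U, s} R` are isomorphic as spaces over `Spec K` (existence of an isomorphism over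
`Spec K`). -/
theorem result (S : Scheme.{u}) (B : AlgSp.Sp S) (hB : AlgSp.IsAlgSpace B)
    (G : AlgSp.GroupoidSp B) (hU : AlgSp.IsAlgSpace G.U) (hR : AlgSp.IsAlgSpace G.R)
    (K : Type u) [Field K] (σ : Spec (CommRingCat.of K) ⟶ S)
    (r r' : (AlgSp.yon S).obj (Over.mk σ) ⟶ G.R) (h : r ≫ G.t = r' ≫ G.t) :
    Nonempty (Over.mk (pullback.fst (r ≫ G.s) G.s) ≅ Over.mk (pullback.fst (r' ≫ G.s) G.s)) := by
  exact ⟨(transIso G r (r ≫ G.t) rfl).symm ≪≫ transIso G r' (r ≫ G.t) h.symm⟩

end Groth.Agent.S10124
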