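import Groth.Statements.S10125
import Groth.Agent.Lib.Helper15.GrpTr2
import Groth.Agent.Lib.Helper3.AlgSpLocP4
import Groth.Agent.Lib.Helper3.AlgSpEtMono
import Groth.Agent.S9911
-- import your own Groth.Agent.* helpers here

set_option autoImplicit false
universe u
open CategoryTheory CategoryTheory.Limits AlgebraicGeometry MonoidalCategory MonObj
open AlgSp

namespace Groth.Agent.S10125

section H
namespace W1

open Groth.Agent.Lib.Helper3 Groth.Agent.Lib.Helper15 CartesianMonoidalCategory

variable {S : Scheme.{u}}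

theorem isUnivOpenMor_of_isPullback {X Y Y' X' : Sp S} {f : X ⟶ Y} {g : Y' ⟶ Y} {fst : X' ⟶ X}
    {f' : X' ⟶ Y'} (sq : IsPullback fst f' f g) (hf : IsUnivOpenMor f) : IsUnivOpenMor f' := by
  intro Z Z' hZ k a b sq'
  exact hf hZ (k ≫ g) (a ≫ fst) b (sq'.paste_horiz sq)

theorem isUnivOpenMor_iso_comp {X' X Y : Sp S} (i : X' ⟶ X) [IsIso i] {f : X ⟶ Y}
    (hf : IsUnivOpenMor f) : IsUnivOpenMor (i ≫ f) := by
  intro Z Z' hZ k a b sq'
  refine hf hZ k (a ≫ i) b ?_
  exact IsPullback.of_iso sq' (Iso.refl _) (asIso i) (Iso.refl _) (Iso.refl _)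
    (by simp) (by simp) (by simp) (by simp)

theorem main (k : Type u) [Field k]
    (G : Over ((AlgSp.yon (Spec (CommRingCat.of k))).obj (Over.mk (𝟙 _)))) [GrpObj G]
    (hG : AlgSp.IsAlgSpace G.left) :
    AlgSp.LocP @Flat (μ[G]).left ∧ AlgSp.IsUnivOpenMor (μ[G]).left := by
  have hB : IsAlgSpace ((AlgSp.yon (Spec (CommRingCat.of k))).obj (Over.mk (𝟙 _))) :=
    IsAlgSpace.yon_obj _
  -- `G ⟶ Spec k` is flat and universally open
  have hflat : LocP @Flat G.hom := by
    obtain ⟨U, a, hae, has⟩ := hG.atlas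
    obtain ⟨h, hh⟩ := (yon _).map_surjective (a ≫ G.hom)
    refine locP_of_chart isEtLocal_flat G.hom a hae has (𝟙 _) (repWith_id _ _) h ?_ ?_
    · rw [hh, Category.comp_id]
    · haveI : Subsingleton ↥(Spec (CommRingCat.of k)) :=
        inferInstanceAs (Subsingleton (PrimeSpectrum k))
      haveI : IsIntegral (Spec (CommRingCat.of k)) := inferInstance
      have key : ∀ {X : Scheme.{u}} (f : X ⟶ Spec (CommRingCat.of k)), Flat f :=
        fun f => inferInstance
      exact key _
  have hopen : IsUnivOpenMor G.hom :=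
    Groth.Agent.S9911.result (S := Spec (CommRingCat.of k)) ⟨G.left, hG⟩ (𝟙 _)
      (ObjectProperty.homMk G.hom)
  obtain ⟨t, -, ht⟩ := GrpTr2.exists_translation_mul G (𝟙 G.left)
  have hflat' : LocP @Flat (𝟙 G.left ≫ G.hom) := by rw [Category.id_comp]; exact hflat
  have hopen' : IsUnivOpenMor (𝟙 G.left ≫ G.hom) := by rw [Category.id_comp]; exact hopen
  have sqP := (IsPullback.of_hasPullback G.hom (𝟙 G.left ≫ G.hom)).flip
  have hP : IsAlgSpace (pullback G.hom (𝟙 G.left ≫ G.hom)) :=
    isAlgSpace_of_isPullback' hB hG hG sqP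
  have hGG : IsAlgSpace (G ⊗ G).left :=
    isAlgSpace_of_isPullback' hB hG hG (IsPullback.of_hasPullback G.hom G.hom)
  -- the comparison iso
  let c : pullback G.hom (𝟙 G.left ≫ G.hom) ⟶ (G ⊗ G).left :=
    pullback.lift (pullback.fst _ _) (pullback.snd _ _ ≫ 𝟙 G.left)
      (by rw [pullback.condition, Category.assoc])
  let d : (G ⊗ G).left ⟶ pullback G.hom (𝟙 G.left ≫ G.hom) :=
    pullback.lift (pullback.fst G.hom G.hom) (pullback.snd G.hom G.hom)
      (by rw [Category.id_comp, pullback.condition])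
  have hc1 : c ≫ pullback.fst G.hom G.hom = pullback.fst G.hom (𝟙 G.left ≫ G.hom) :=
    pullback.lift_fst _ _ _
  have hc2 : c ≫ pullback.snd G.hom G.hom = pullback.snd G.hom (𝟙 G.left ≫ G.hom) :=
    (pullback.lift_snd _ _ _).trans (Category.comp_id _)
  have hd1 : d ≫ pullback.fst G.hom (𝟙 G.left ≫ G.hom) = pullback.fst G.hom G.hom :=
    pullback.lift_fst _ _ _
  have hd2 : d ≫ pullback.snd G.hom (𝟙 G.left ≫ G.hom) = pullback.snd G.hom G.hom :=
    pullback.lift_snd _ _ _
  have hcd : c ≫ d = 𝟙 _ := by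
    apply pullback.hom_ext
    · exact (Category.assoc _ _ _).trans ((congrArg (c ≫ ·) hd1).trans
        (hc1.trans (Category.id_comp _).symm))
    · exact (Category.assoc _ _ _).trans ((congrArg (c ≫ ·) hd2).trans
        (hc2.trans (Category.id_comp _).symm))
  have hdc : d ≫ c = 𝟙 _ := by
    apply pullback.hom_ext
    · exact (Category.assoc _ _ _).trans ((congrArg (d ≫ ·) hc1).trans
        (hd1.trans (Category.id_comp _).symm))
    · exact (Category.assoc _ _ _).trans ((congrArg (d ≫ ·) hc2).trans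
        (hd2.trans (Category.id_comp _).symm))
  have hμ : (μ[G]).left = (d ≫ t.hom) ≫ pullback.fst G.hom (𝟙 G.left ≫ G.hom) := by
    rw [Category.assoc, ht]
    show _ = d ≫ c ≫ _
    rw [reassoc_of% hdc]
  haveI : IsIso d := ⟨c, hdc, hcd⟩
  have hiso : IsIso (d ≫ t.hom) := inferInstance
  rw [hμ]
  refine ⟨?_, ?_⟩
  · have h1 : LocP @Flat (pullback.fst G.hom (𝟙 G.left ≫ G.hom)) :=
      locP_of_isPullback isEtLocal_flat hG hB hG hP _ _ _ _ sqP hflat'
    have hopenI : RepWith @IsOpenImmersion (d ≫ t.hom) :=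
      MorphismProperty.of_isIso (RepWith @IsOpenImmersion) _
    have h2 : LocP @Flat (d ≫ t.hom) :=
      locP_of_repWith isEtLocal_flat _
        (repWith_mono (fun _ _ k hk => by have : IsOpenImmersion k := hk; infer_instance) hopenI)
    exact locP_comp isEtLocal_flat hGG hP hG _ _ h2 h1
  · exact isUnivOpenMor_iso_comp _ (isUnivOpenMor_of_isPullback sqP hopen')

end W1
end H


/-- For a group algebraic space `G` over a field `k`, the multiplication `m` of `G`, a morphism `G ×_k G
⟶ G`, is both flat and universally open. (The published situation allows any base scheme `S` with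
`k` a field over `S`; this row takes `S = Spec k`.) -/
theorem result (k : Type u) [Field k]
    (G : Over ((AlgSp.yon (Spec (CommRingCat.of k))).obj (Over.mk (𝟙 _)))) [GrpObj G]
    (hG : AlgSp.IsAlgSpace G.left) :
    AlgSp.LocP @Flat (μ[G]).left ∧ AlgSp.IsUnivOpenMor (μ[G]).left := by
  exact W1.main k G hG

end Groth.Agent.S10125
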