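import Groth.Statements.S10357
import Groth.Agent.S10373
import Groth.Agent.Lib.Helper3.AlgSpEtPoint
-- import your own Groth.Agent.* helpers here

set_option autoImplicit false
universe u
open CategoryTheory CategoryTheory.Limits AlgebraicGeometry Topology TopologicalSpace
open AlgSp

namespace Groth.Agent.S10357

section H
namespace W1

open Groth.Agent.Lib.Helper3 Groth.Agent.Lib.Helper15 Groth.Agent.Lib.Helper15.FieldQuot
  Groth.Agent.Lib.Helper15.OnePointSp Groth.Agent.Lib.Helper15.LiftDiscrete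
  Groth.Agent.Lib.Helper15.EtaleField

variable {S : Scheme.{u}}

/-- a field point of `U` whose composite to `S` is integral has closed image. -/
theorem isClosed_of_isIntegralHom_comp {U S : Scheme.{u}} (f : U ⟶ S) {L : Type u} [Field L]
    (m : Spec (CommRingCat.of L) ⟶ U) [IsIntegralHom (m ≫ f)] :
    IsClosed ({m (IsLocalRing.closedPoint L)} : Set ↥U) := by
  set u := m (IsLocalRing.closedPoint L) with hu
  rw [← closure_subset_iff_isClosed]
  intro u'' hu''
  rw [← specializes_iff_mem_closure] at hu''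
  change u'' = u
  obtain ⟨S₀, hS₀, hfS₀⟩ : ∃ S₀ : S.Opens, IsAffineOpen S₀ ∧ f u'' ∈ S₀ := by
    obtain ⟨_, ⟨W, hW, rfl⟩, hW', -⟩ := (S.isBasis_affineOpens).exists_subset_of_mem_open
      (Set.mem_univ (f u'')) isOpen_univ
    exact ⟨W, hW, hW'⟩
  obtain ⟨U₂, hU₂, hu''U₂, e⟩ : ∃ U₂ : U.Opens, IsAffineOpen U₂ ∧ u'' ∈ U₂ ∧ U₂ ≤ f ⁻¹ᵁ S₀ := by
    obtain ⟨_, ⟨W, hW, rfl⟩, hW', hWle⟩ := (U.isBasis_affineOpens).exists_subset_of_mem_open
      (show u'' ∈ ((f ⁻¹ᵁ S₀ : U.Opens) : Set ↥U) from hfS₀) (f ⁻¹ᵁ S₀).isOpen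
    exact ⟨W, hW, hW', hWle⟩
  have huU₂ : u ∈ U₂ := hu''.mem_open U₂.isOpen hu''U₂
  have hrange : Set.range m ⊆ Set.range U₂.ι := by
    rintro _ ⟨t, rfl⟩
    rw [Scheme.Opens.range_ι]
    have : t = IsLocalRing.closedPoint L := Subsingleton.elim _ _
    rw [this]
    exact huU₂
  let m₂ : Spec (CommRingCat.of L) ⟶ (U₂ : Scheme.{u}) := IsOpenImmersion.lift U₂.ι m hrange
  have hm₂ : m₂ ≫ U₂.ι = m := IsOpenImmersion.lift_fac _ _ _
  let f₂ : (U₂ : Scheme.{u}) ⟶ (S₀ : Scheme.{u}) := f.resLE S₀ U₂ e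
  have hf₂ : f₂ ≫ S₀.ι = U₂.ι ≫ f := Scheme.Hom.resLE_comp_ι _ _
  haveI : IsAffine (U₂ : Scheme.{u}) := hU₂
  haveI : IsAffine (S₀ : Scheme.{u}) := hS₀
  haveI h1 : IsIntegralHom ((m₂ ≫ f₂) ≫ S₀.ι) := by
    rw [Category.assoc, hf₂, ← Category.assoc, hm₂]
    infer_instance
  haveI h2 : IsIntegralHom (m₂ ≫ f₂) := IsIntegralHom.of_comp (m₂ ≫ f₂) S₀.ι
  haveI h3 : IsIntegralHom m₂ := IsIntegralHom.of_comp m₂ f₂
  have hcl : IsClosed (Set.range m₂) := m₂.isClosedMap.isClosed_range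
  have hrange₂ : Set.range m₂ = {(⟨u, huU₂⟩ : ↥U₂)} := by
    ext w
    simp only [Set.mem_range, Set.mem_singleton_iff]
    constructor
    · rintro ⟨t, rfl⟩
      apply U₂.ι.isOpenEmbedding.injective
      have : t = IsLocalRing.closedPoint L := Subsingleton.elim _ _
      rw [this, ← Scheme.Hom.comp_apply, hm₂]
      rfl
    · rintro rfl
      refine ⟨IsLocalRing.closedPoint L, ?_⟩
      apply U₂.ι.isOpenEmbedding.injective
      rw [← Scheme.Hom.comp_apply, hm₂]
      rfl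
  rw [hrange₂] at hcl
  have hsp : (⟨u, huU₂⟩ : ↥U₂) ⤳ (⟨u'', hu''U₂⟩ : ↥U₂) :=
    (Topology.IsInducing.subtypeVal.specializes_iff).1 hu''
  have := hsp.mem_closed hcl rfl
  exact congrArg Subtype.val this

theorem main {S : Scheme.{u}} (X : AlgSp.Space S)
    (hX : AlgSp.IsDecent X.obj) (s : ↥S) (hs : IsClosed ({s} : Set ↥S)) (k : Type u) [Field k]
    (φ : S.residueField s ⟶ CommRingCat.of k) (hφ : φ.hom.IsIntegral)
    (p : (AlgSp.yon S).obj (Over.mk (Spec.map φ ≫ S.fromSpecResidueField s)) ⟶ X.obj)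
    (t : ↥(Spec (CommRingCat.of k))) :
    IsClosed ({AlgSp.Points.ofPt p t} : Set (AlgSp.Points X.obj)) := by
  set x := Points.ofPt p t with hx
  obtain ⟨U, a, hae, has⟩ := X.property.atlas
  obtain ⟨p', hp', -, hq'⟩ := hX x
  haveI hcis : IsClosedImmersion (S.fromSpecResidueField s) :=
    isClosed_singleton_iff_isClosedImmersion.1 hs
  -- every point of the fibre is closed
  have hA1 : ∀ u : ↥U.left, Points.ofPt a u = x → IsClosed ({u} : Set ↥U.left) := by
    intro u hu
    have hrep : Representable p := X.property.representable_from_yon p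
    obtain ⟨W, pK, pW, sq⟩ := exists_pullback_charts p hrep a
    haveI : Etale pK.left := hae.2 p ((yon S).map pW) pK sq.flip
    obtain ⟨w, hw1, hw2⟩ := exists_of_ofPt_eq_of_isPullback sq t u hu.symm
    obtain ⟨L, _, j, hj, ⟨s₁, hs₁⟩⟩ := exists_field_open_nhd
      (show W.left ⟶ Spec (CommRingCat.of k) from pK.left) w
    haveI : Etale (j ≫ (show W.left ⟶ Spec (CommRingCat.of k) from pK.left)) := inferInstance
    haveI hfin : IsFinite (j ≫ (show W.left ⟶ Spec (CommRingCat.of k) from pK.left)) :=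
      isFinite_of_etale_fields _
    obtain ⟨χ, hχ⟩ := Spec.map_surjective
      (j ≫ (show W.left ⟶ Spec (CommRingCat.of k) from pK.left))
    have hχint : χ.hom.IsIntegral := by
      rw [← hχ, IsFinite.SpecMap_iff] at hfin
      exact hfin.to_isIntegral
    let m : Spec (CommRingCat.of L) ⟶ U.left := j ≫ pW.left
    have hmU : m ≫ U.hom = Spec.map χ ≫ Spec.map φ ≫ S.fromSpecResidueField s := by
      change (j ≫ pW.left) ≫ U.hom = _
      rw [Category.assoc, Over.w pW, ← Over.w pK, hχ, Category.assoc]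
      rfl
    haveI : IsIntegralHom (Spec.map χ) := IsIntegralHom.SpecMap_iff.2 hχint
    haveI : IsIntegralHom (Spec.map φ) := IsIntegralHom.SpecMap_iff.2 hφ
    haveI : IsIntegralHom (m ≫ U.hom) := by rw [hmU]; infer_instance
    have hcl := isClosed_of_isIntegralHom_comp U.hom m
    have hmpt : m (IsLocalRing.closedPoint L) = u := by
      change pW.left (j (IsLocalRing.closedPoint L)) = u
      have : IsLocalRing.closedPoint L = s₁ := Subsingleton.elim _ _
      rw [this, hs₁, hw2]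
    rwa [hmpt] at hcl
  -- the fibre is closed
  have hF : IsClosed (Points.ofPt a ⁻¹' ({x} : Set (Points X.obj))) := by
    rw [← closure_subset_iff_isClosed]
    intro u₁ hu₁
    obtain ⟨U₀, hU₀, hu₁U₀⟩ : ∃ U₀ : U.left.Opens, IsAffineOpen U₀ ∧ u₁ ∈ U₀ := by
      obtain ⟨_, ⟨W, hW, rfl⟩, huW, -⟩ := (U.left.isBasis_affineOpens).exists_subset_of_mem_open
        (Set.mem_univ u₁) isOpen_univ
      exact ⟨W, hW, huW⟩
    let W₀ : Over S := Over.mk (U₀.ι ≫ U.hom)
    let a' : (yon S).obj W₀ ⟶ X.obj := chartRestrict a U₀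
    have ha' : RepWith @Etale a' := chartRestrict_etale a hae U₀
    haveI haff : IsAffine W₀.left := hU₀
    haveI : CompactSpace ↥W₀.left := inferInstance
    have hfin : (Points.ofPt a' ⁻¹' {x}).Finite := by
      rw [← hp']; exact finite_fibre_of_qc_point p' hq' a' ha'
    have hfin' : ((U₀ : Set ↥U.left) ∩ Points.ofPt a ⁻¹' {x}).Finite := by
      refine (hfin.image U₀.ι).subset ?_
      rintro u ⟨huU₀, hu⟩
      refine ⟨(⟨u, huU₀⟩ : ↥U₀), ?_, rfl⟩
      change Points.ofPt a' _ = x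
      rw [ofPt_chartRestrict]
      exact hu
    have hcl' : IsClosed ((U₀ : Set ↥U.left) ∩ Points.ofPt a ⁻¹' {x}) := by
      have : ((U₀ : Set ↥U.left) ∩ Points.ofPt a ⁻¹' {x}) =
          ⋃ u ∈ ((U₀ : Set ↥U.left) ∩ Points.ofPt a ⁻¹' {x}), ({u} : Set ↥U.left) := by
        ext u; simp
      rw [this]
      exact hfin'.isClosed_biUnion fun u hu => hA1 u hu.2
    have h1 : u₁ ∈ closure ((U₀ : Set ↥U.left) ∩ Points.ofPt a ⁻¹' {x}) :=
      U₀.isOpen.inter_closure ⟨hu₁U₀, hu₁⟩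
    rw [hcl'.closure_eq] at h1
    exact h1.2
  -- conclude
  rw [← isOpen_compl_iff]
  have : ({x} : Set (Points X.obj))ᶜ = Points.ofPt a '' (Points.ofPt a ⁻¹' {x})ᶜ := by
    ext y
    simp only [Set.mem_compl_iff, Set.mem_singleton_iff, Set.mem_image, Set.mem_preimage]
    constructor
    · intro hy
      obtain ⟨u, rfl⟩ := exists_ofPt_eq a has y
      exact ⟨u, hy, rfl⟩
    · rintro ⟨u, hu, rfl⟩
      exact hu
  rw [this]
  exact isOpenMap_ofPt a hae _ hF.isOpen_compl

end W1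
end H


/-- Let S be a scheme, X a decent algebraic space over S, and Spec k ⟶ X a morphism over S from the
spectrum of a field whose image in S is a closed point s with k algebraic over κ(s). Then the image
point of |X| is closed. Here Spec k ⟶ S is written as Spec k ⟶ Spec κ(s) ⟶ S for a ring map φ : κ(s)
→ k, integral since k is algebraic over κ(s). -/
theorem result {S : Scheme.{u}} (X : AlgSp.Space S)
    (hX : AlgSp.IsDecent X.obj) (s : ↥S) (hs : IsClosed ({s} : Set ↥S)) (k : Type u) [Field k]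
    (φ : S.residueField s ⟶ CommRingCat.of k) (hφ : φ.hom.IsIntegral)
    (p : (AlgSp.yon S).obj (Over.mk (Spec.map φ ≫ S.fromSpecResidueField s)) ⟶ X.obj)
    (t : ↥(Spec (CommRingCat.of k))) :
    IsClosed ({AlgSp.Points.ofPt p t} : Set (AlgSp.Points X.obj)) := by
  exact W1.main X hX s hs k φ hφ p t

end Groth.Agent.S10357
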