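import Groth.Statements.S10358
import Groth.Agent.S10357
import Groth.Agent.S10359
import Groth.Agent.Lib.Helper3.AlgSpNoethEtale
import Groth.Agent.S9928
-- import your own Groth.Agent.* helpers here

set_option autoImplicit false
universe u
open CategoryTheory CategoryTheory.Limits AlgebraicGeometry Topology TopologicalSpace
open AlgSp

namespace Groth.Agent.S10358

section H
namespace W1

open Groth.Agent.Lib.Helper3 Groth.Agent.Lib.Helper15

theorem main {S : Scheme.{u}} (X : AlgSp.Space S)
    (hX : AlgSp.IsDecent X.obj) (s : ↥S) (hs : IsClosed ({s} : Set ↥S)) (k : Type u) [Field k]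
    (φ : S.residueField s ⟶ CommRingCat.of k) (hφ : φ.hom.Finite)
    (p : (AlgSp.yon S).obj (Over.mk (Spec.map φ ≫ S.fromSpecResidueField s)) ⟶ X.obj) :
    AlgSp.RepWith @IsFinite p ∧
      (Function.Bijective φ.hom → AlgSp.RepWith @IsClosedImmersion p) := by
  let str : Spec (CommRingCat.of k) ⟶ S := Spec.map φ ≫ S.fromSpecResidueField s
  have hstr : str = Spec.map φ ≫ S.fromSpecResidueField s := rfl
  let x : Points X.obj := Points.ofPt p (IsLocalRing.closedPoint k)
  have hxcl : IsClosed ({x} : Set (Points X.obj)) :=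
    Groth.Agent.S10357.result X hX s hs k φ hφ.to_isIntegral p (IsLocalRing.closedPoint k)
  obtain ⟨p', hp', hci⟩ := Groth.Agent.S10359.result X hX x hxcl
  haveI hm : Mono p'.toHom := Groth.Agent.S9928.mono_of_repWith @IsClosedImmersion
    (fun g hg => by have : IsClosedImmersion g := hg; infer_instance) _ hci
  -- factor through `p'`
  obtain ⟨σ, hσ⟩ := Groth.Agent.S10415.W1.exists_factor_fieldPt X.property (IsAlgSpace.yon_obj _)
    p'.toHom str p (Points.ofScheme p'.pt (IsLocalRing.closedPoint p'.K))
    (by rw [← Points.ofPt_eq_map_ofScheme, Points.ofPt_toHom, hp'])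
  obtain ⟨c, rfl⟩ := (yon S).map_surjective σ
  obtain ⟨ψ', hψ'⟩ := Spec.map_surjective (show Spec (CommRingCat.of k) ⟶
    Spec (CommRingCat.of p'.K) from c.left)
  -- the structure map of `p'` factors through the residue field of `s`
  have hcw : c.left ≫ p'.str = str := Over.w c
  have hpt : p'.str (IsLocalRing.closedPoint p'.K) = s := by
    have h1 : c.left (IsLocalRing.closedPoint k) = IsLocalRing.closedPoint p'.K :=
      Subsingleton.elim (α := ↥(Spec (CommRingCat.of p'.K))) _ _
    rw [← h1, ← Scheme.Hom.comp_apply, hcw, hstr, Scheme.Hom.comp_apply]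
    exact Scheme.fromSpecResidueField_apply _ _
  obtain ⟨c', hc'⟩ := exists_desc_residueField p'.str s hpt
  obtain ⟨θ, hθ⟩ := Spec.map_surjective c'
  have hcomp : θ ≫ ψ' = φ := by
    apply Spec.map_injective
    rw [Spec.map_comp, hψ', hθ, ← cancel_mono (S.fromSpecResidueField s), Category.assoc, hc', hcw]
  have hψfin : ψ'.hom.Finite := by
    have : (ψ'.hom.comp θ.hom).Finite := by
      have h := hφ
      rw [← hcomp] at h
      exact h
    exact RingHom.Finite.of_comp_finite this
  have hcfin : IsFinite c.left := by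
    change IsFinite (show Spec (CommRingCat.of k) ⟶ Spec (CommRingCat.of p'.K) from c.left)
    rw [← hψ', IsFinite.SpecMap_iff]
    exact hψfin
  refine ⟨?_, fun hbij => ?_⟩
  · rw [← hσ]
    refine (RepWith @IsFinite).comp_mem _ _ ((repWith_yon_map_iff _ _).2 hcfin) ?_
    exact repWith_mono (fun _ _ g (hg : IsClosedImmersion g) => (inferInstance : IsFinite g)) hci
  · rw [← hσ]
    refine (RepWith @IsClosedImmersion).comp_mem _ _ ((repWith_yon_map_iff _ _).2 ?_) hci
    have hsurj : Function.Surjective ψ'.hom := by
      intro y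
      obtain ⟨z, hz⟩ := hbij.2 y
      refine ⟨θ.hom z, ?_⟩
      rw [← hz, ← hcomp]
      rfl
    change IsClosedImmersion (show Spec (CommRingCat.of k) ⟶ Spec (CommRingCat.of p'.K) from c.left)
    rw [← hψ']
    exact IsClosedImmersion.spec_of_surjective ψ' hsurj

end W1
end H


/-- Let S be a scheme, X a decent algebraic space over S, and Spec k ⟶ X a morphism over S from the
spectrum of a field whose image in S is a closed point s with k finite over κ(s) (Spec k ⟶ S written
through a ring map φ : κ(s) → k). Then Spec k ⟶ X is finite; if moreover φ is bijective (k = κ(s))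
it is a closed immersion. -/
theorem result {S : Scheme.{u}} (X : AlgSp.Space S)
    (hX : AlgSp.IsDecent X.obj) (s : ↥S) (hs : IsClosed ({s} : Set ↥S)) (k : Type u) [Field k]
    (φ : S.residueField s ⟶ CommRingCat.of k) (hφ : φ.hom.Finite)
    (p : (AlgSp.yon S).obj (Over.mk (Spec.map φ ≫ S.fromSpecResidueField s)) ⟶ X.obj) :
    AlgSp.RepWith @IsFinite p ∧
      (Function.Bijective φ.hom → AlgSp.RepWith @IsClosedImmersion p) := by
  exact W1.main X hX s hs k φ hφ p

end Groth.Agent.S10358
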