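import Groth.Statements.S10127
import Groth.Agent.S10358
import Groth.Agent.Lib.Helper15.GrpSep
import Groth.Agent.Lib.Helper15.LiftDiscrete
import Groth.Agent.Lib.Helper3.SpCoprod
-- import your own Groth.Agent.* helpers here

set_option autoImplicit false
universe u
open CategoryTheory CategoryTheory.Limits AlgebraicGeometry MonoidalCategory MonObj
open AlgSp

namespace Groth.Agent.S10127

section H
namespace W1

open Groth.Agent.Lib.Helper3 Groth.Agent.Lib.Helper15

variable {S : Scheme.{u}}

/-- over a terminal base the relative diagonal is the absolute one. -/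
theorem repWith_diag_of_diagonal_of_isTerminal (P : MorphismProperty Scheme.{u}) {F B : Sp S}
    (hB : IsTerminal B) (f : F ⟶ B) (h : RepWith P (pullback.diagonal f)) :
    RepWith P (Limits.diag F) := by
  let c : pullback f f ⟶ F ⨯ F := prod.lift (pullback.fst f f) (pullback.snd f f)
  let d : F ⨯ F ⟶ pullback f f := pullback.lift prod.fst prod.snd (hB.hom_ext _ _)
  have hcd : c ≫ d = 𝟙 _ := by
    apply pullback.hom_ext
    · simp only [c, d, Category.assoc, pullback.lift_fst, prod.lift_fst, Category.id_comp]
    · simp only [c, d, Category.assoc, pullback.lift_snd, prod.lift_snd, Category.id_comp]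
  have hdc : d ≫ c = 𝟙 _ := by
    apply Limits.prod.hom_ext
    · simp only [c, d, Category.assoc, pullback.lift_fst, prod.lift_fst, Category.id_comp]
    · simp only [c, d, Category.assoc, pullback.lift_snd, prod.lift_snd, Category.id_comp]
  haveI : IsIso c := ⟨d, hcd, hdc⟩
  have hΔ : Limits.diag F = pullback.diagonal f ≫ c := by
    apply Limits.prod.hom_ext
    · simp only [c, Category.assoc, prod.lift_fst, pullback.diagonal_fst]
    · simp only [c, Category.assoc, prod.lift_snd, pullback.diagonal_snd]
  rw [hΔ]
  exact ((RepWith (S := S) P).cancel_right_of_respectsIso _ c).2 h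

theorem main (k : Type u) [Field k]
    (G : Over ((AlgSp.yon (Spec (CommRingCat.of k))).obj (Over.mk (𝟙 _)))) [GrpObj G]
    (hG : AlgSp.IsAlgSpace G.left) (hd : AlgSp.IsDecent G.left) : AlgSp.IsSeparatedSp G.left := by
  let S₀ : Scheme.{u} := Spec (CommRingCat.of k)
  let s : ↥S₀ := IsLocalRing.closedPoint k
  have hs : IsClosed ({s} : Set ↥S₀) := by
    have : ({s} : Set ↥S₀) = Set.univ := by
      ext t; simp [Subsingleton.elim t s]
    rw [this]; exact isClosed_univ
  let φ : S₀.residueField s ⟶ CommRingCat.of (S₀.residueField s) := 𝟙 _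
  have hφ : φ.hom.Finite := RingHom.Finite.id _
  have hφb : Function.Bijective φ.hom := Function.bijective_id
  let τ : Over.mk (Spec.map φ ≫ S₀.fromSpecResidueField s) ⟶ Over.mk (𝟙 S₀) :=
    Over.homMk (Spec.map φ ≫ S₀.fromSpecResidueField s) (Category.comp_id _)
  let X : AlgSp.Space S₀ := ⟨G.left, hG⟩
  have h1 := (Groth.Agent.S10358.result X hd s hs (S₀.residueField s) φ hφ
    ((AlgSp.yon S₀).map τ ≫ (η[G]).left)).2 hφb
  haveI : IsIso (S₀.fromSpecResidueField s) := by
    haveI : Nonempty ↥(Spec (S₀.residueField s)) := ⟨IsLocalRing.closedPoint _⟩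
    exact LiftDiscrete.isIso_of_mono_to_field_of_nonempty (L := k) (S₀.fromSpecResidueField s)
  haveI : IsIso (Spec.map φ) := by
    change IsIso (Spec.map (𝟙 _)); rw [Spec.map_id]; infer_instance
  haveI : IsIso τ.left := by
    change IsIso (Spec.map φ ≫ S₀.fromSpecResidueField s); infer_instance
  haveI : IsIso ((Over.forget S₀).map τ) := ‹IsIso τ.left›
  haveI : IsIso τ := isIso_of_reflects_iso τ (Over.forget S₀)
  have h2 : RepWith @IsClosedImmersion (η[G]).left :=
    ((RepWith (S := S₀) @IsClosedImmersion).cancel_left_of_respectsIso ((AlgSp.yon S₀).map τ) _).1 h1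
  have h3 := GrpSep.repWith_diagonal_of_unit G @IsClosedImmersion h2
  exact repWith_diag_of_diagonal_of_isTerminal @IsClosedImmersion SpCoprod.isTerminalYonBase G.hom h3

end W1
end H


/-- A group algebraic space over a field `k` which is a decent algebraic space is separated. (The
published situation allows any base scheme `S` with `k` a field over `S`; this row takes `S = Spec
k`.) -/
theorem result (k : Type u) [Field k]
    (G : Over ((AlgSp.yon (Spec (CommRingCat.of k))).obj (Over.mk (𝟙 _)))) [GrpObj G]
    (hG : AlgSp.IsAlgSpace G.left) (hd : AlgSp.IsDecent G.left) : AlgSp.IsSeparatedSp G.left := by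
  exact W1.main k G hG hd

end Groth.Agent.S10127
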