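import Groth.Statements.S10381
import Groth.Agent.Lib.Helper3.AlgSpDecent

set_option autoImplicit false
universe u
open CategoryTheory CategoryTheory.Limits AlgebraicGeometry Topology TopologicalSpace
open AlgSp

namespace Groth.Agent.S10381

/-- If f : X ⟶ Y is a decent morphism of algebraic spaces over a scheme S and Y is decent, then X is
decent. -/
theorem result {S : Scheme.{u}} {X Y : AlgSp.Space S} (f : X ⟶ Y)
    (hf : AlgSp.IsDecentMor f.hom) (hY : AlgSp.IsDecent Y.obj) : AlgSp.IsDecent X.obj := by
  intro x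
  obtain ⟨q, hq, hqm, hqc⟩ := hY (AlgSp.Points.map f.hom x)
  have sq := IsPullback.of_hasPullback f.hom q.toHom
  have hP : AlgSp.IsDecent (pullback f.hom q.toHom) := hf q.toHom _ _ sq
  obtain ⟨z, hz⟩ := Groth.Agent.Lib.Helper3.exists_points_of_isPullback_toHom f.hom x q hq _ _ sq
  have : Mono (pullback.fst f.hom q.toHom) := sq.mono_fst_of_mono
  have hqcV : AlgSp.RepWith @QuasiCompact (pullback.fst f.hom q.toHom) :=
    (AlgSp.RepWith @QuasiCompact).of_isPullback sq.flip hqc
  have := Groth.Agent.Lib.Helper3.exists_good_rep_map _ hqcV z (hP z)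
  rwa [hz] at this

end Groth.Agent.S10381
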