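import Groth.Statements.S10128
import Groth.Agent.S10122
import Groth.Agent.S10423
import Groth.Agent.S10381
import Groth.Agent.S10127
import Groth.Agent.Lib.Helper15.RelClosedPt
import Groth.Agent.Lib.Helper3.AlgSpFibre
import Groth.Agent.Lib.Helper3.AlgSpSep
-- import your own Groth.Agent.* helpers here

set_option autoImplicit false
universe u
open CategoryTheory CategoryTheory.Limits AlgebraicGeometry
open AlgSp AlgSp.GroupoidSp

namespace Groth.Agent.S10128

section H
namespace W1

open Groth.Agent.Lib.Helper3 Groth.Agent.Lib.Helper15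

theorem main (S : Scheme.{u}) (B : AlgSp.Sp S) (hB : AlgSp.IsAlgSpace B)
    (G : AlgSp.GroupoidSp B) (hR : AlgSp.IsAlgSpace G.R) (k : Type u) [Field k]
    (σ : Spec (CommRingCat.of k) ⟶ S) (eU : G.U ≅ (AlgSp.yon S).obj (Over.mk σ)) (hd : AlgSp.IsDecent G.R) :
    AlgSp.IsSeparatedSp G.R := by
  have hU : IsAlgSpace G.U := IsAlgSpace.of_iso (IsAlgSpace.yon_obj _) eU.symm
  have hP : IsAlgSpace (pullback G.pU G.pU) :=
    isAlgSpace_of_isPullback' hB hU hU (IsPullback.of_hasPullback _ _)
  have hSt : IsAlgSpace G.stabilizer :=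
    isAlgSpace_of_isPullback' hP hR hU (IsPullback.of_hasPullback G.j G.diag)
  -- the stabilizer is decent
  have hdiagrep : Representable G.diag := by
    have h1 : Representable (eU.inv ≫ G.diag) := hP.representable_from_yon _
    exact ((Representable (S := S)).cancel_left_of_respectsIso eU.inv G.diag).1 h1
  have sqSt : IsPullback G.stabilizerι G.stabilizerToU G.j G.diag :=
    IsPullback.of_hasPullback G.j G.diag
  have hιrep : Representable G.stabilizerι :=
    MorphismProperty.of_isPullback (P := Representable (S := S)) sqSt.flip hdiagrep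
  let St : AlgSp.Space S := ⟨G.stabilizer, hSt⟩
  let R' : AlgSp.Space S := ⟨G.R, hR⟩
  let ι : St ⟶ R' := ObjectProperty.homMk G.stabilizerι
  have hιdec : IsDecentMor ι.hom := (Groth.Agent.S10423.result ι).1 hιrep
  have hStd : IsDecent St.obj := Groth.Agent.S10381.result ι hιdec hd
  -- the unit section of the stabilizer
  have hej : G.e ≫ G.j = 𝟙 G.U ≫ G.diag := by
    rw [Category.id_comp]
    apply pullback.hom_ext
    · rw [Category.assoc, G.j_fst, G.e_t]; exact (pullback.lift_fst _ _ _).symm
    · rw [Category.assoc, G.j_snd, G.e_s]; exact (pullback.lift_snd _ _ _).symm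
  let eG : G.U ⟶ G.stabilizer := pullback.lift G.e (𝟙 _) hej
  have heG : eG ≫ G.stabilizerι = G.e := pullback.lift_fst _ _ _
  have heU : eG ≫ G.stabilizerToU = 𝟙 _ := pullback.lift_snd _ _ _
  have hci : RepWith @IsClosedImmersion (eU.inv ≫ eG) :=
    RelClosedPt.repWith_closedImmersion_of_section St hStd σ (G.stabilizerToU ≫ eU.hom)
      (eU.inv ≫ eG) (by rw [Category.assoc, reassoc_of% heU, Iso.inv_hom_id])
  have hci' : RepWith @IsClosedImmersion eG :=
    ((RepWith (S := S) @IsClosedImmersion).cancel_left_of_respectsIso eU.inv eG).1 hci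
  have hj : IsSeparatedMor G.j :=
    ((Groth.Agent.S10122.result S B hB G hU hR eG heG).1.2).2 hci'
  -- assemble
  let T₀ : Sp S := (yon S).obj (Over.mk (𝟙 S))
  have hT₀ : IsTerminal T₀ := SpCoprod.isTerminalYonBase
  let τ : Over.mk σ ⟶ Over.mk (𝟙 S) := Over.homMk σ (Category.comp_id _)
  let tU : G.U ⟶ T₀ := eU.hom ≫ (yon S).map τ
  have htU : (RepWith (S := S) @IsClosedImmersion).diagonal tU := by
    have h1 : IsSeparatedMor ((yon S).map τ) := by
      rw [isSeparatedMor_yon_map_iff]
      change IsSeparated σ
      infer_instance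
    have h1' : (RepWith (S := S) @IsClosedImmersion).diagonal ((yon S).map τ) := h1
    exact ((RepWith (S := S) @IsClosedImmersion).diagonal.cancel_left_of_respectsIso eU.hom _).2 h1'
  have hfst : (RepWith (S := S) @IsClosedImmersion).diagonal (pullback.fst tU tU) :=
    MorphismProperty.of_isPullback (P := (RepWith (S := S) @IsClosedImmersion).diagonal)
      (IsPullback.of_hasPullback tU tU).flip htU
  let m : pullback G.pU G.pU ⟶ pullback tU tU :=
    pullback.lift (pullback.fst _ _) (pullback.snd _ _) (hT₀.hom_ext _ _)
  haveI : Mono m := ⟨fun a b hab => by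
    apply pullback.hom_ext
    · have := congrArg (· ≫ pullback.fst tU tU) hab
      simpa only [Category.assoc, m, pullback.lift_fst] using this
    · have := congrArg (· ≫ pullback.snd tU tU) hab
      simpa only [Category.assoc, m, pullback.lift_snd] using this⟩
  have hm : (RepWith (S := S) @IsClosedImmersion).diagonal m := by
    haveI : IsIso (pullback.diagonal m) := (pullback.isIso_diagonal_iff m).2 inferInstance
    exact MorphismProperty.of_isIso (RepWith (S := S) @IsClosedImmersion) (pullback.diagonal m)
  have hj' : (RepWith (S := S) @IsClosedImmersion).diagonal G.j := hj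
  have hall : (RepWith (S := S) @IsClosedImmersion).diagonal
      (G.j ≫ m ≫ pullback.fst tU tU ≫ tU) :=
    (RepWith (S := S) @IsClosedImmersion).diagonal.comp_mem _ _ hj'
      ((RepWith (S := S) @IsClosedImmersion).diagonal.comp_mem _ _ hm
        ((RepWith (S := S) @IsClosedImmersion).diagonal.comp_mem _ _ hfst htU))
  exact Groth.Agent.S10127.W1.repWith_diag_of_diagonal_of_isTerminal @IsClosedImmersion hT₀ _ hall

end W1
end H


/-- Let `(U, R, s, t, c)` be a groupoid in algebraic spaces over `B` whose object space is `U = Spec k`,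
with `k` a field, and assume `R` is a decent algebraic space. Then `R` is separated over the base
scheme `S`. (The published statement concludes that `R` is separated in the absolute sense; this row
concludes that `R` is separated over `S`, which the absolute notion implies.) -/
theorem result (S : Scheme.{u}) (B : AlgSp.Sp S) (hB : AlgSp.IsAlgSpace B)
    (G : AlgSp.GroupoidSp B) (hR : AlgSp.IsAlgSpace G.R) (k : Type u) [Field k]
    (σ : Spec (CommRingCat.of k) ⟶ S) (eU : G.U ≅ (AlgSp.yon S).obj (Over.mk σ)) (hd : AlgSp.IsDecent G.R) :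
    AlgSp.IsSeparatedSp G.R := by
  exact W1.main S B hB G hR k σ eU hd

end Groth.Agent.S10128
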