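import Groth.Statements.S10129
import Groth.Agent.Lib.Helper3.SchImFactor
import Groth.Agent.Lib.Helper3.AlgSpOpenSubsp

set_option autoImplicit false
universe u
open CategoryTheory CategoryTheory.Limits AlgebraicGeometry
open AlgSp

namespace Groth.Agent.S10129

/-- Consider morphisms `g : X ⟶ Z` and `f : X ⟶ Y` of algebraic spaces over `B`, with `Y ⟶ B` separated
and `g` surjective, flat and locally of finite presentation, and let `V ⊂ Z` be a scheme
theoretically dense open subspace with `V ⟶ Z` quasi-compact such that `f` restricted to `g⁻¹(V)`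
factors through `g⁻¹(V) ⟶ V`. Then `f` factors through `g`. (The published statement does not ask
the open immersion `V ⟶ Z` to be quasi-compact; the published proof pulls the scheme theoretic
density of `V` back along a flat morphism by a lemma that requires it, so this row assumes it.) -/
theorem result (S : Scheme.{u}) (B : AlgSp.Sp S) (hB : AlgSp.IsAlgSpace B)
    (X Y Z : AlgSp.Space S) (pX : X.obj ⟶ B) (pY : Y.obj ⟶ B) (pZ : Z.obj ⟶ B)
    (f : X.obj ⟶ Y.obj) (g : X.obj ⟶ Z.obj) (hf : f ≫ pY = pX) (hg : g ≫ pZ = pX)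
    (hY : AlgSp.IsSeparatedMor pY)
    (hgs : AlgSp.IsSurjectiveMor g) (hgf : AlgSp.LocP @Flat g) (hgp : AlgSp.LocP @LocallyOfFinitePresentation g)
    (V : AlgSp.Sp S) (v : V ⟶ Z.obj) (hv : AlgSp.IsSchDense v) (hvq : AlgSp.IsQuasiCompactMor v)
    (hfac : ∃ φ : V ⟶ Y.obj, pullback.fst g v ≫ f = pullback.snd g v ≫ φ) :
    ∃ h : Z.obj ⟶ Y.obj, g ≫ h = f := by
  open Groth.Agent.Lib.Helper3 Groth.Agent.Lib.Helper3.SchIm in
  obtain ⟨φ, hφ⟩ := hfac
  have hepi : Epi g := epi_of_flat_lfp_surjective X.property Z.property g hgs hgf hgp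
  have sqR := IsPullback.of_hasPullback g g
  have hR : AlgSp.IsAlgSpace (pullback g g) :=
    isAlgSpace_of_isPullback' Z.property X.property X.property sqR
  suffices h : pullback.fst g g ≫ f = pullback.snd g g ≫ f from exists_desc_of_epi g sqR f h
  have hvmono : Mono v := Groth.Agent.S9928.mono_of_repWith @IsOpenImmersion
      (fun g hg => by have : IsOpenImmersion g := hg; infer_instance) _ hv.1
  have hV : AlgSp.IsAlgSpace V := isAlgSpace_of_mono_representable Z.property v hv.1.1
  have hpr1 : AlgSp.LocP @Flat (pullback.fst g g) :=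
    locP_of_isPullback isEtLocal_flat X.property Z.property X.property hR g g (pullback.snd g g)
      (pullback.fst g g) sqR.flip hgf
  have hρ : AlgSp.LocP @Flat (pullback.fst g g ≫ g) :=
    locP_comp isEtLocal_flat hR X.property Z.property _ _ hpr1 hgf
  have sqRV := IsPullback.of_hasPullback (pullback.fst g g ≫ g) v
  have hRV : AlgSp.IsAlgSpace (pullback (pullback.fst g g ≫ g) v) :=
    isAlgSpace_of_isPullback' Z.property hR hV sqRV
  have hdense : AlgSp.IsSchDense (pullback.fst (pullback.fst g g ≫ g) v) :=
    Groth.Agent.S9973.result (X := ⟨pullback g g, hR⟩) (Y := Z) (V := ⟨V, hV⟩)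
      (V' := ⟨pullback (pullback.fst g g ≫ g) v, hRV⟩)
      (ObjectProperty.homMk (pullback.fst g g ≫ g)) hρ (ObjectProperty.homMk v) hv hvq
      (ObjectProperty.homMk (pullback.snd (pullback.fst g g ≫ g) v))
      (ObjectProperty.homMk (pullback.fst (pullback.fst g g ≫ g) v)) sqRV.flip
  have hqc : AlgSp.IsQuasiCompactMor (pullback.fst (pullback.fst g g ≫ g) v) :=
    isQuasiCompactMor_of_isPullback sqRV.flip hvq
  have himg : AlgSp.IsSchImage (pullback.fst (pullback.fst g g ≫ g) v) (𝟙 (pullback g g)) :=
    (Groth.Agent.S9969.result (U := ⟨pullback (pullback.fst g g ≫ g) v, hRV⟩)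
      (X := ⟨pullback g g, hR⟩)
      (ObjectProperty.homMk (pullback.fst (pullback.fst g g ≫ g) v)) hdense.1 hqc).1 hdense
  have hpair : (pullback.fst g g ≫ f) ≫ pY = (pullback.snd g g ≫ f) ≫ pY := by
    rw [Category.assoc, Category.assoc, hf, ← hg, ← Category.assoc, ← Category.assoc,
      pullback.condition]
  have sqE := IsPullback.of_hasPullback (pullback.diagonal pY)
    (pullback.lift (pullback.fst g g ≫ f) (pullback.snd g g ≫ f) hpair)
  have hε : AlgSp.RepWith @IsClosedImmersion (pullback.snd (pullback.diagonal pY)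
      (pullback.lift (pullback.fst g g ≫ f) (pullback.snd g g ≫ f) hpair)) :=
    MorphismProperty.of_isPullback sqE hY
  have hεmono := mono_of_closedImmersion _ hε
  have hE : AlgSp.IsAlgSpace (pullback (pullback.diagonal pY)
      (pullback.lift (pullback.fst g g ≫ f) (pullback.snd g g ≫ f) hpair)) :=
    isAlgSpace_of_mono_representable hR _ hε.1
  -- the restriction to `V`
  have hc1 : (pullback.fst (pullback.fst g g ≫ g) v ≫ pullback.fst g g) ≫ g =
      pullback.snd (pullback.fst g g ≫ g) v ≫ v := by
    rw [Category.assoc]; exact pullback.condition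
  have hc2 : (pullback.fst (pullback.fst g g ≫ g) v ≫ pullback.snd g g) ≫ g =
      pullback.snd (pullback.fst g g ≫ g) v ≫ v := by
    have h0 : pullback.snd g g ≫ g = pullback.fst g g ≫ g := pullback.condition.symm
    calc (pullback.fst (pullback.fst g g ≫ g) v ≫ pullback.snd g g) ≫ g
        = pullback.fst (pullback.fst g g ≫ g) v ≫ (pullback.snd g g ≫ g) := Category.assoc _ _ _
      _ = pullback.fst (pullback.fst g g ≫ g) v ≫ (pullback.fst g g ≫ g) :=
          congrArg (fun m => pullback.fst (pullback.fst g g ≫ g) v ≫ m) h0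
      _ = pullback.snd (pullback.fst g g ≫ g) v ≫ v := pullback.condition
  have e1 : pullback.fst (pullback.fst g g ≫ g) v ≫ pullback.fst g g ≫ f =
      pullback.snd (pullback.fst g g ≫ g) v ≫ φ := by
    have h1 := pullback.lift_fst (f := g) (g := v) _ _ hc1
    have h2 := pullback.lift_snd (f := g) (g := v) _ _ hc1
    rw [← Category.assoc, ← h1, Category.assoc, hφ, ← Category.assoc, h2]
  have e2 : pullback.fst (pullback.fst g g ≫ g) v ≫ pullback.snd g g ≫ f =
      pullback.snd (pullback.fst g g ≫ g) v ≫ φ := by
    have h1 := pullback.lift_fst (f := g) (g := v) _ _ hc2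
    have h2 := pullback.lift_snd (f := g) (g := v) _ _ hc2
    rw [← Category.assoc, ← h1, Category.assoc, hφ, ← Category.assoc, h2]
  have hcomm : (pullback.snd (pullback.fst g g ≫ g) v ≫ φ) ≫ pullback.diagonal pY =
      pullback.fst (pullback.fst g g ≫ g) v ≫
        pullback.lift (pullback.fst g g ≫ f) (pullback.snd g g ≫ f) hpair := by
    apply pullback.hom_ext
    · rw [Category.assoc, pullback.diagonal_fst, Category.comp_id, Category.assoc,
        pullback.lift_fst, e1]
    · rw [Category.assoc, pullback.diagonal_snd, Category.comp_id, Category.assoc,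
        pullback.lift_snd, e2]
  obtain ⟨k, hk⟩ := himg.2.2 _ hE hε ⟨sqE.lift _ _ hcomm, sqE.lift_snd _ _ _⟩
  have hε1 : pullback.snd (pullback.diagonal pY)
      (pullback.lift (pullback.fst g g ≫ f) (pullback.snd g g ≫ f) hpair) ≫
        pullback.fst g g ≫ f = pullback.fst _ _ := by
    have := congrArg (fun m => m ≫ pullback.fst pY pY) sqE.w
    simp only [Category.assoc, pullback.diagonal_fst, pullback.lift_fst, Category.comp_id] at this
    exact this.symm
  have hε2 : pullback.snd (pullback.diagonal pY)
      (pullback.lift (pullback.fst g g ≫ f) (pullback.snd g g ≫ f) hpair) ≫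
        pullback.snd g g ≫ f = pullback.fst _ _ := by
    have := congrArg (fun m => m ≫ pullback.snd pY pY) sqE.w
    simp only [Category.assoc, pullback.diagonal_snd, pullback.lift_snd, Category.comp_id] at this
    exact this.symm
  calc pullback.fst g g ≫ f = (k ≫ pullback.snd (pullback.diagonal pY)
        (pullback.lift (pullback.fst g g ≫ f) (pullback.snd g g ≫ f) hpair)) ≫
          pullback.fst g g ≫ f := by rw [hk, Category.id_comp]
    _ = (k ≫ pullback.snd (pullback.diagonal pY)
        (pullback.lift (pullback.fst g g ≫ f) (pullback.snd g g ≫ f) hpair)) ≫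
          pullback.snd g g ≫ f := by rw [Category.assoc, hε1, Category.assoc, hε2]
    _ = pullback.snd g g ≫ f := by rw [hk, Category.id_comp]

end Groth.Agent.S10129
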