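import Groth.Statements.S10130
import Groth.Agent.Lib.Helper15.GpdAlg
import Groth.Agent.Lib.Helper3.AlgSpPoints
import Groth.Agent.Lib.Helper3.AlgSpOpenSub
-- import your own Groth.Agent.* helpers here

set_option autoImplicit false
universe u
open CategoryTheory CategoryTheory.Limits AlgebraicGeometry
open AlgSp AlgSp.GroupoidSp

namespace Groth.Agent.S10130

section H
namespace W1

open Groth.Agent.Lib.Helper3 Groth.Agent.Lib.Helper15

variable {S : Scheme.{u}} {B : Sp S} (G : GroupoidSp B)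

theorem c_s : G.c ≫ G.s = pullback.snd G.s G.t ≫ G.s := (Groth.Agent.Lib.Helper15.GpdAlg.isPullback_c G).w

theorem c_t : G.c ≫ G.t = pullback.fst G.s G.t ≫ G.t := by
  have hc : pullback.fst G.s G.t ≫ G.s = pullback.snd G.s G.t ≫ G.t := pullback.condition
  have hid : pullback.lift (pullback.fst G.s G.t) (pullback.snd G.s G.t) hc = 𝟙 _ := by
    apply pullback.hom_ext
    · rw [pullback.lift_fst, Category.id_comp]
    · rw [pullback.lift_snd, Category.id_comp]
  have := G.comp_t _ _ hc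
  rwa [hid, Category.id_comp] at this

/-- the orbit set `s(t⁻¹ W)` is stable -/
theorem orbit_stable (W : Set (Points G.U)) (ρ : Points G.R) :
    (Points.map G.s ρ ∈ Points.map G.s '' (Points.map G.t ⁻¹' W) ↔
      Points.map G.t ρ ∈ Points.map G.s '' (Points.map G.t ⁻¹' W)) := by
  constructor
  · rintro ⟨ρ', hρ'W, hρ's⟩
    -- compose ρ' with ρ⁻¹
    have h1 : Points.map G.s ρ' = Points.map G.t (Points.map G.i ρ) := by
      rw [hρ's, ← Points.map_comp, G.i_t]
    obtain ⟨z, hz1, hz2⟩ := Points.exists_of_isPullback (IsPullback.of_hasPullback G.s G.t) ρ'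
      (Points.map G.i ρ) h1
    refine ⟨Points.map G.c z, ?_, ?_⟩
    · show Points.map G.t (Points.map G.c z) ∈ W
      rw [← Points.map_comp, c_t, Points.map_comp, hz1]
      exact hρ'W
    · rw [← Points.map_comp, c_s, Points.map_comp, hz2, ← Points.map_comp, G.i_s]
  · rintro ⟨ρ', hρ'W, hρ's⟩
    obtain ⟨z, hz1, hz2⟩ := Points.exists_of_isPullback (IsPullback.of_hasPullback G.s G.t) ρ'
      ρ hρ's
    refine ⟨Points.map G.c z, ?_, ?_⟩
    · show Points.map G.t (Points.map G.c z) ∈ W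
      rw [← Points.map_comp, c_t, Points.map_comp, hz1]
      exact hρ'W
    · rw [← Points.map_comp, c_s, Points.map_comp, hz2]

theorem main (S : Scheme.{u}) (B : AlgSp.Sp S) (hB : AlgSp.IsAlgSpace B)
    (G : AlgSp.GroupoidSp B) (hU : AlgSp.IsAlgSpace G.U) (hR : AlgSp.IsAlgSpace G.R)
    (hs : AlgSp.IsOpenMor G.s) (ht : AlgSp.IsOpenMor G.t)
    (W W' : AlgSp.Sp S) (w : W ⟶ G.U) (w' : W' ⟶ G.U)
    (hw : AlgSp.RepWith @IsOpenImmersion w) (hw' : AlgSp.RepWith @IsOpenImmersion w')
    (himg : Set.range (AlgSp.Points.map w') =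
      AlgSp.Points.map G.s '' (AlgSp.Points.map G.t ⁻¹' Set.range (AlgSp.Points.map w))) :
    G.IsInvariant w' := by
  intro T r
  have key : ∀ f : (yon S).obj T ⟶ G.U, (∃ a : (yon S).obj T ⟶ W', a ≫ w' = f) ↔
      Set.range (Points.map f) ⊆ Set.range (Points.map w') := by
    intro f
    constructor
    · rintro ⟨a, rfl⟩ _ ⟨x, rfl⟩
      exact ⟨Points.map a x, (Points.map_comp _ _ _).symm⟩
    · intro h
      exact exists_factor_of_range_subset w' hw' f h
  rw [key, key, himg]
  constructor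
  · rintro h _ ⟨x, rfl⟩
    rw [Points.map_comp]
    refine (orbit_stable G _ _).2 ?_
    rw [← Points.map_comp]
    exact h ⟨x, rfl⟩
  · rintro h _ ⟨x, rfl⟩
    rw [Points.map_comp]
    refine (orbit_stable G _ _).1 ?_
    rw [← Points.map_comp]
    exact h ⟨x, rfl⟩

end W1
end H


/-- Let `(U, R, s, t, c)` be a groupoid in algebraic spaces over `B` with `s, t` open. For every open
subspace `W ⊂ U`, the open subspace `s(t⁻¹(W))` of `U` is `R`-invariant. -/
theorem result (S : Scheme.{u}) (B : AlgSp.Sp S) (hB : AlgSp.IsAlgSpace B)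
    (G : AlgSp.GroupoidSp B) (hU : AlgSp.IsAlgSpace G.U) (hR : AlgSp.IsAlgSpace G.R)
    (hs : AlgSp.IsOpenMor G.s) (ht : AlgSp.IsOpenMor G.t)
    (W W' : AlgSp.Sp S) (w : W ⟶ G.U) (w' : W' ⟶ G.U)
    (hw : AlgSp.RepWith @IsOpenImmersion w) (hw' : AlgSp.RepWith @IsOpenImmersion w')
    (himg : Set.range (AlgSp.Points.map w') =
      AlgSp.Points.map G.s '' (AlgSp.Points.map G.t ⁻¹' Set.range (AlgSp.Points.map w))) :
    G.IsInvariant w' := by
  exact W1.main S B hB G hU hR hs ht W W' w w' hw hw' himg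

end Groth.Agent.S10130
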