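import Groth.Statements.S10131
import Groth.Agent.S10130
import Groth.Agent.Lib.Helper3.AlgSpQC6
import Groth.Agent.Lib.Helper3.AlgSpImmersionPts
import Groth.Agent.Lib.Helper3.AlgSpOpenSubsp
import Groth.Agent.Lib.Helper3.AlgSpChartPts
-- import your own Groth.Agent.* helpers here

set_option autoImplicit false
universe u
open CategoryTheory CategoryTheory.Limits AlgebraicGeometry
open AlgSp AlgSp.GroupoidSp

namespace Groth.Agent.S10131

section H
namespace W1

open Groth.Agent.Lib.Helper3 Groth.Agent.Lib.Helper15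

theorem main (S : Scheme.{u}) (B : AlgSp.Sp S) (hB : AlgSp.IsAlgSpace B)
    (G : AlgSp.GroupoidSp B) (hU : AlgSp.IsAlgSpace G.U) (hR : AlgSp.IsAlgSpace G.R)
    (hs : AlgSp.IsOpenMor G.s ∧ AlgSp.IsQuasiCompactMor G.s) (ht : AlgSp.IsOpenMor G.t ∧ AlgSp.IsQuasiCompactMor G.t)
    (x : AlgSp.Points G.U) :
    ∃ (W : AlgSp.Sp S) (w : W ⟶ G.U), AlgSp.RepWith @IsOpenImmersion w ∧ G.IsInvariant w ∧
      AlgSp.IsQuasiCompactSp W ∧ x ∈ Set.range (AlgSp.Points.map w) := by
  obtain ⟨V, a, hae, has⟩ := hU.atlas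
  obtain ⟨v, rfl⟩ := exists_ofPt_eq a has x
  obtain ⟨_, ⟨V₀, hV₀aff, rfl⟩, hv, -⟩ := V.left.isBasis_affineOpens.exists_subset_of_mem_open
    (Set.mem_univ v) isOpen_univ
  have hV₀aff : IsAffineOpen V₀ := hV₀aff
  let W₀ : Set (Points G.U) := Points.ofPt a '' (V₀ : Set ↥V.left)
  have hW₀o : IsOpen W₀ := isOpenMap_ofPt a hae _ V₀.isOpen
  have hW₀c : IsCompact W₀ := IsCompact.image hV₀aff.isCompact (Points.continuous_ofPt a)
  let E : Set (Points G.U) := Points.map G.s '' (Points.map G.t ⁻¹' W₀)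
  have hEo : IsOpen E := hs.1 _ (hW₀o.preimage (Points.continuous_map _))
  have hEc : IsCompact E :=
    (isCompact_preimage_of_isQuasiCompactMor hU ht.2 W₀ hW₀o hW₀c).image (Points.continuous_map _)
  have hxE : Points.ofPt a v ∈ E := by
    refine ⟨Points.map G.e (Points.ofPt a v), ?_, ?_⟩
    · show Points.map G.t (Points.map G.e (Points.ofPt a v)) ∈ W₀
      rw [← Points.map_comp, G.e_t, Points.map_id]
      exact ⟨v, hv, rfl⟩
    · rw [← Points.map_comp, G.e_s, Points.map_id]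
  have hEsp : IsAlgSpace (openSub G.U E) := isAlgSpace_openSub hU E hEo
  have hopen := repWith_isOpenImmersion_openSubι G.U E hEo
  refine ⟨openSub G.U E, openSubι G.U E, hopen, ?_, ?_, ?_⟩
  · refine Groth.Agent.S10130.result S B hB G hU hR hs.1 ht.1 (openSub G.U W₀) (openSub G.U E)
      (openSubι G.U W₀) (openSubι G.U E) (repWith_isOpenImmersion_openSubι G.U W₀ hW₀o) hopen ?_
    rw [range_map_openSubι, range_map_openSubι]
  · rw [isQuasiCompactSp_iff_compactSpace hEsp]
    have himm : RepWith @IsImmersion (openSubι G.U E) :=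
      repWith_mono (fun _ _ k hk => by have : IsOpenImmersion k := hk; infer_instance) hopen
    have hemb := (isEmbedding_map_of_immersion hU _ himm).1
    refine ⟨hemb.isCompact_iff.2 ?_⟩
    rw [Set.image_univ, range_map_openSubι]
    exact hEc
  · rw [range_map_openSubι]
    exact hxE

end W1
end H


/-- Let `(U, R, s, t, c)` be a groupoid in algebraic spaces over `B` with `s, t` open and quasi-compact.
Then `U` has an open covering by `R`-invariant quasi-compact open subspaces. -/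
theorem result (S : Scheme.{u}) (B : AlgSp.Sp S) (hB : AlgSp.IsAlgSpace B)
    (G : AlgSp.GroupoidSp B) (hU : AlgSp.IsAlgSpace G.U) (hR : AlgSp.IsAlgSpace G.R)
    (hs : AlgSp.IsOpenMor G.s ∧ AlgSp.IsQuasiCompactMor G.s) (ht : AlgSp.IsOpenMor G.t ∧ AlgSp.IsQuasiCompactMor G.t)
    (x : AlgSp.Points G.U) :
    ∃ (W : AlgSp.Sp S) (w : W ⟶ G.U), AlgSp.RepWith @IsOpenImmersion w ∧ G.IsInvariant w ∧
      AlgSp.IsQuasiCompactSp W ∧ x ∈ Set.range (AlgSp.Points.map w) := by
  exact W1.main S B hB G hU hR hs ht x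

end Groth.Agent.S10131
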