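import Groth.Statements.S10132
import Groth.Agent.S10123
import Groth.Agent.Lib.Helper15.FieldBase
import Groth.Agent.Lib.Helper3.AlgSpQC4
import Groth.Agent.Lib.Helper3.AlgSpSrcLocal
import Groth.Agent.Lib.Helper3.AlgSpRepLocal2
-- import your own Groth.Agent.* helpers here

set_option autoImplicit false
universe u
open CategoryTheory CategoryTheory.Limits AlgebraicGeometry
open AlgSp AlgSp.GroupoidSp

namespace Groth.Agent.S10132

section H
namespace W1

open Groth.Agent.Lib.Helper3 Groth.Agent.Lib.Helper15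

variable {S : Scheme.{u}}

/-- the combined property -/
def Q {X Y : Sp S} (f : X ⟶ Y) : Prop :=
  IsSurjectiveMor f ∧ LocP @Flat f ∧ IsUnivOpenMor f ∧ RepWith @IsAffineHom f

theorem Q_bc {X Y Y' X' : Sp S} (hX : IsAlgSpace X) (hY : IsAlgSpace Y)
    (hY' : IsAlgSpace Y') (hX' : IsAlgSpace X') {f : X ⟶ Y} {g : Y' ⟶ Y} {fst : X' ⟶ X}
    {f' : X' ⟶ Y'} (sq : IsPullback fst f' f g) (hf : Q f) : Q f' :=
  ⟨isSurjectiveMor_snd_of_isPullback sq hf.1,
    locP_of_isPullback isEtLocal_flat hX hY hY' hX' _ _ _ _ sq hf.2.1,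
    FieldBase.isUnivOpenMor_of_isPullback sq hf.2.2.1,
    MorphismProperty.of_isPullback (P := RepWith (S := S) @IsAffineHom) sq hf.2.2.2⟩

theorem Q_comp {X Y Z : Sp S} (hX : IsAlgSpace X) (hY : IsAlgSpace Y) (hZ : IsAlgSpace Z)
    {f : X ⟶ Y} {g : Y ⟶ Z} (hf : Q f) (hg : Q g) : Q (f ≫ g) :=
  ⟨isSurjectiveMor_comp hf.1 hg.1, locP_comp isEtLocal_flat hX hY hZ _ _ hf.2.1 hg.2.1,
    isUnivOpenMor_comp hY hZ.diag hf.2.2.1 hg.2.2.1,
    MorphismProperty.comp_mem _ _ _ hf.2.2.2 hg.2.2.2⟩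

theorem surj_of_section {X Y : Sp S} (f : X ⟶ Y) (e : Y ⟶ X) (h : e ≫ f = 𝟙 Y) :
    IsSurjectiveMor f := by
  intro y
  exact ⟨Points.map e y, by rw [← Points.map_comp, h, Points.map_id]⟩

theorem main (S : Scheme.{u}) (B : AlgSp.Sp S) (hB : AlgSp.IsAlgSpace B)
    (G G' : AlgSp.GroupoidSp B) (hR : AlgSp.IsAlgSpace G.R) (hR' : AlgSp.IsAlgSpace G'.R)
    (k k' : Type u) [Field k] [Field k'] [Algebra k k'] (σ : Spec (CommRingCat.of k) ⟶ S)
    (eU : G.U ≅ ((AlgSp.yon S).obj (Over.mk σ)))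
    (eU' : G'.U ≅ ((AlgSp.yon S).obj (Over.mk (Spec.map (CommRingCat.ofHom (algebraMap k k')) ≫ σ))))
    (φ : AlgSp.GroupoidSp.Hom G' G) (hφ : φ.IsRestriction)
    (hfU : φ.fU = eU'.hom ≫ (AlgSp.yon S).map (Over.homMk (Spec.map (CommRingCat.ofHom (algebraMap k k'))) rfl :
      Over.mk (Spec.map (CommRingCat.ofHom (algebraMap k k')) ≫ σ) ⟶ Over.mk σ) ≫ eU.inv) :
    (∀ f ∈ [G.s, G.t], AlgSp.IsSurjectiveMor f ∧ AlgSp.LocP @Flat f ∧ AlgSp.IsUnivOpenMor f) ∧
      (∀ f ∈ [G'.s, G'.t], AlgSp.IsSurjectiveMor f ∧ AlgSp.LocP @Flat f ∧ AlgSp.IsUnivOpenMor f) ∧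
      (AlgSp.IsSurjectiveMor φ.fU ∧ AlgSp.LocP @Flat φ.fU ∧ AlgSp.IsUnivOpenMor φ.fU) ∧
      (AlgSp.IsSurjectiveMor φ.fR ∧ AlgSp.LocP @Flat φ.fR ∧ AlgSp.IsUnivOpenMor φ.fR ∧ AlgSp.IsAffineMor φ.fR) := by
  have hU : IsAlgSpace G.U := IsAlgSpace.of_iso (IsAlgSpace.yon_obj _) eU.symm
  have hU' : IsAlgSpace G'.U := IsAlgSpace.of_iso (IsAlgSpace.yon_obj _) eU'.symm
  set m : Over.mk (Spec.map (CommRingCat.ofHom (algebraMap k k')) ≫ σ) ⟶ Over.mk σ :=
    Over.homMk (Spec.map (CommRingCat.ofHom (algebraMap k k'))) rfl with hm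
  -- `fU`
  have hQU : Q φ.fU := by
    refine ⟨?_, FieldBase.locP_flat_to_field' hU' σ eU _, FieldBase.isUnivOpenMor_to_field' hU' σ eU _, ?_⟩
    · rw [hfU]
      have h1 : IsSurjectiveMor ((yon S).map m) := by
        apply isSurjectiveMor_of_repWith
        rw [repWith_yon_map_iff]
        show Surjective (Spec.map (CommRingCat.ofHom (algebraMap k k')))
        haveI : Subsingleton ↥(Spec (CommRingCat.of k)) :=
          inferInstanceAs (Subsingleton (PrimeSpectrum k))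
        haveI : Nonempty ↥(Spec (CommRingCat.of k')) :=
          inferInstanceAs (Nonempty (PrimeSpectrum k'))
        exact ⟨fun x => ⟨Classical.arbitrary _, Subsingleton.elim _ _⟩⟩
      have h2 : IsSurjectiveMor eU'.hom := surj_of_section _ eU'.inv eU'.inv_hom_id
      have h3 : IsSurjectiveMor eU.inv := surj_of_section _ eU.hom eU.hom_inv_id
      exact isSurjectiveMor_comp h2 (isSurjectiveMor_comp h1 h3)
    · rw [hfU]
      have h1 : RepWith @IsAffineHom ((yon S).map m) := by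
        rw [repWith_yon_map_iff]
        show IsAffineHom (Spec.map (CommRingCat.ofHom (algebraMap k k')))
        infer_instance
      exact MorphismProperty.comp_mem _ _ _ (MorphismProperty.of_isIso _ _)
        (MorphismProperty.comp_mem _ _ _ h1 (MorphismProperty.of_isIso _ _))
  -- `fR`
  have hP : IsAlgSpace (pullback G.s φ.fU) :=
    isAlgSpace_of_isPullback' hU hR hU' (IsPullback.of_hasPullback _ _)
  have hQ1 : Q (pullback.fst G.s φ.fU) :=
    Q_bc hU' hU hR hP (IsPullback.of_hasPullback G.s φ.fU).flip hQU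
  have hQ2 : Q (pullback.lift φ.fR G'.s φ.comm_s : G'.R ⟶ pullback G.s φ.fU) :=
    Q_bc hU' hU hP hR' (Groth.Agent.S10123.W1.isPullback_s φ hφ).flip hQU
  have hQR : Q φ.fR := by
    have := Q_comp hR' hP hR hQ2 hQ1
    rwa [pullback.lift_fst] at this
  refine ⟨?_, ?_, ⟨hQU.1, hQU.2.1, hQU.2.2.1⟩,
    ⟨hQR.1, hQR.2.1, hQR.2.2.1, (isAffineMor_iff_repWith _).2 hQR.2.2.2⟩⟩
  · intro f hf
    simp only [List.mem_cons, List.mem_nil_iff, or_false] at hf
    rcases hf with rfl | rfl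
    · exact ⟨surj_of_section _ G.e G.e_s, FieldBase.locP_flat_to_field' hR σ eU _,
        FieldBase.isUnivOpenMor_to_field' hR σ eU _⟩
    · exact ⟨surj_of_section _ G.e G.e_t, FieldBase.locP_flat_to_field' hR σ eU _,
        FieldBase.isUnivOpenMor_to_field' hR σ eU _⟩
  · intro f hf
    simp only [List.mem_cons, List.mem_nil_iff, or_false] at hf
    rcases hf with rfl | rfl
    · exact ⟨surj_of_section _ G'.e G'.e_s, FieldBase.locP_flat_to_field' hR' _ eU' _,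
        FieldBase.isUnivOpenMor_to_field' hR' _ eU' _⟩
    · exact ⟨surj_of_section _ G'.e G'.e_t, FieldBase.locP_flat_to_field' hR' _ eU' _,
        FieldBase.isUnivOpenMor_to_field' hR' _ eU' _⟩

end W1
end H


/-- Let `(U, R, s, t, c)` be a groupoid in algebraic spaces over `B` whose object space is `U = Spec k`,
let `k ⊂ k'` be a field extension and `(U', R', s', t', c')` the restriction along `Spec k' ⟶ Spec
k`. Then `s, t, s', t'`, `Spec k' ⟶ Spec k` and `R' ⟶ R` are surjective, flat and universally open,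
and `R' ⟶ R` is moreover affine. (The published statement lists every arrow of the restriction
diagram; this row omits the six arrows through `R ×_{s,U} U'` and `U' ×_{U,t} R`, each a base change
of `s`, `t` or `Spec k' ⟶ Spec k`.) -/
theorem result (S : Scheme.{u}) (B : AlgSp.Sp S) (hB : AlgSp.IsAlgSpace B)
    (G G' : AlgSp.GroupoidSp B) (hR : AlgSp.IsAlgSpace G.R) (hR' : AlgSp.IsAlgSpace G'.R)
    (k k' : Type u) [Field k] [Field k'] [Algebra k k'] (σ : Spec (CommRingCat.of k) ⟶ S)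
    (eU : G.U ≅ ((AlgSp.yon S).obj (Over.mk σ)))
    (eU' : G'.U ≅ ((AlgSp.yon S).obj (Over.mk (Spec.map (CommRingCat.ofHom (algebraMap k k')) ≫ σ))))
    (φ : AlgSp.GroupoidSp.Hom G' G) (hφ : φ.IsRestriction)
    (hfU : φ.fU = eU'.hom ≫ (AlgSp.yon S).map (Over.homMk (Spec.map (CommRingCat.ofHom (algebraMap k k'))) rfl :
      Over.mk (Spec.map (CommRingCat.ofHom (algebraMap k k')) ≫ σ) ⟶ Over.mk σ) ≫ eU.inv) :
    (∀ f ∈ [G.s, G.t], AlgSp.IsSurjectiveMor f ∧ AlgSp.LocP @Flat f ∧ AlgSp.IsUnivOpenMor f) ∧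
      (∀ f ∈ [G'.s, G'.t], AlgSp.IsSurjectiveMor f ∧ AlgSp.LocP @Flat f ∧ AlgSp.IsUnivOpenMor f) ∧
      (AlgSp.IsSurjectiveMor φ.fU ∧ AlgSp.LocP @Flat φ.fU ∧ AlgSp.IsUnivOpenMor φ.fU) ∧
      (AlgSp.IsSurjectiveMor φ.fR ∧ AlgSp.LocP @Flat φ.fR ∧ AlgSp.IsUnivOpenMor φ.fR ∧ AlgSp.IsAffineMor φ.fR) := by
  exact W1.main S B hB G G' hR hR' k k' σ eU eU' φ hφ hfU

end Groth.Agent.S10132
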