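import Groth.Statements.S10141
import Groth.Agent.Lib.Helper3.QuotRelPreEqv
import Groth.Agent.Lib.Helper3.QuotRelGrpd
import Groth.Agent.Lib.Helper3.QuotRelMap

set_option autoImplicit false
universe u
open CategoryTheory CategoryTheory.Limits AlgebraicGeometry
open AlgSp

namespace Groth.Agent.S10141

/-- Let `(U, R, s, t, c)` be a groupoid scheme over `S` and `g : U' ⟶ U` a morphism such that the
composite `h : U' ×_{g, U, t} R ⟶ R ⟶ U` of the projection with `s` has open image `W ⊂ U` and `h :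
U' ×_{g, U, t} R ⟶ W` is a surjection of fppf sheaves. Then for the restriction `R' = R|_{U'}` the
map of fppf quotient sheaves `U'/R' ⟶ U/R` is representable and an open immersion. -/
theorem result (S : Scheme.{u}) (G : Grpd.GroupoidScheme S)
    (U' : Scheme.{u}) (g : U' ⟶ G.U) (W : G.U.Opens)
    (hW : (W : Set ↥G.U) = Set.range ⇑(pullback.snd g G.t ≫ G.s))
    (hlift : pullback g G.t ⟶ ↑W) (hh : hlift ≫ W.ι = pullback.snd g G.t ≫ G.s)
    (hsurj : Sheaf.IsLocallySurjective ((AlgSp.yon S).map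
      (Over.homMk hlift ((Category.assoc _ _ _).symm.trans (congrArg (· ≫ G.pU) hh)) :
        Over.mk ((pullback.snd g G.t ≫ G.s) ≫ G.pU) ⟶ Over.mk (W.ι ≫ G.pU))))
    (R' : Over S) (s' t' : R' ⟶ Over.mk (g ≫ G.pU)) (r : R' ⟶ Over.mk G.pR)
    (hsq : IsPullback (prod.lift t' s') r
      (prod.map (Over.homMk g rfl : Over.mk (g ≫ G.pU) ⟶ Over.mk G.pU) (Over.homMk g rfl : Over.mk (g ≫ G.pU) ⟶ Over.mk G.pU))
      (prod.lift (Over.homMk G.t G.t_over : Over.mk G.pR ⟶ Over.mk G.pU) (Over.homMk G.s G.s_over : Over.mk G.pR ⟶ Over.mk G.pU)))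
    (ψ : QuotSh.quot Scheme.fppfPrecoverage s' t' ⟶
      QuotSh.quot Scheme.fppfPrecoverage (Over.homMk G.s G.s_over : Over.mk G.pR ⟶ Over.mk G.pU) (Over.homMk G.t G.t_over : Over.mk G.pR ⟶ Over.mk G.pU))
    (hψ : QuotSh.quotπ Scheme.fppfPrecoverage s' t' ≫ ψ =
      QuotSh.repMap Scheme.fppfPrecoverage (Over.homMk g rfl : Over.mk (g ≫ G.pU) ⟶ Over.mk G.pU) ≫ QuotSh.quotπ Scheme.fppfPrecoverage _ _) :
    AlgSp.RepWith @IsOpenImmersion ψ := by
  let Uo : Over S := Over.mk G.pU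
  let Ro : Over S := Over.mk G.pR
  let sO : Ro ⟶ Uo := Over.homMk G.s G.s_over
  let tO : Ro ⟶ Uo := Over.homMk G.t G.t_over
  let U'o : Over S := Over.mk (g ≫ G.pU)
  let gO : U'o ⟶ Uo := Over.homMk g rfl
  let P : Over S := Over.mk ((pullback.snd g G.t ≫ G.s) ≫ G.pU)
  let pf : P ⟶ U'o := Over.homMk (pullback.fst g G.t) (by
    change pullback.fst g G.t ≫ g ≫ G.pU = (pullback.snd g G.t ≫ G.s) ≫ G.pU
    rw [← Category.assoc, pullback.condition, Category.assoc, Category.assoc, G.t_over, G.s_over])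
  let ps : P ⟶ Ro := Over.homMk (pullback.snd g G.t) (by
    change pullback.snd g G.t ≫ G.pR = (pullback.snd g G.t ≫ G.s) ≫ G.pU
    rw [Category.assoc, G.s_over])
  have sqP : IsPullback pf ps gO tO :=
    IsPullback.of_map (Over.forget S) (by ext; exact pullback.condition)
      (IsPullback.of_hasPullback g G.t)
  let Wo : Over S := Over.mk (W.ι ≫ G.pU)
  let j : Wo ⟶ Uo := Over.homMk W.ι rfl
  let h : P ⟶ Wo := Over.homMk hlift ((Category.assoc _ _ _).symm.trans (congrArg (· ≫ G.pU) hh))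
  have hfac : h ≫ j = ps ≫ sO := by
    ext
    exact hh
  have hj : IsOpenImmersion j.left := inferInstanceAs (IsOpenImmersion W.ι)
  have hπ : Sheaf.IsLocallySurjective (Groth.Agent.Lib.Helper3.QuotRel.quotMap sO tO) :=
    (Sheaf.isLocallySurjective_iff_epi _).2 inferInstance
  have hπ' : Sheaf.IsLocallySurjective (Groth.Agent.Lib.Helper3.QuotRel.quotMap s' t') :=
    (Sheaf.isLocallySurjective_iff_epi _).2 inferInstance
  refine Groth.Agent.Lib.Helper3.QuotRel.repWith_isOpenImmersion_of_restrict_preEqv sO tO gO s' t' r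
    hsq (Groth.Agent.Lib.Helper3.QuotRel.relQ_equivalence_of_groupoid G)
    (Groth.Agent.Lib.Helper3.QuotRel.quotMap sO tO) hπ
    (Groth.Agent.Lib.Helper3.QuotRel.quotMap_coeq sO tO)
    (Groth.Agent.Lib.Helper3.QuotRel.exists_desc_quotMap sO tO
      (Groth.Agent.Lib.Helper3.QuotRel.toG sO tO) (Groth.Agent.Lib.Helper3.QuotRel.toG_coeq sO tO))
    (Groth.Agent.Lib.Helper3.QuotRel.quotMap s' t') hπ'
    (Groth.Agent.Lib.Helper3.QuotRel.quotMap_coeq s' t') ψ ?_ j pf ps sqP h hsurj hfac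
  rw [Category.assoc, hψ, ← Category.assoc, ← Groth.Agent.Lib.Helper3.QuotRel.repIso_naturality,
    Category.assoc]

end Groth.Agent.S10141
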