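import Groth.Statements.S10142
import Groth.Agent.Lib.lead.GpdSp

set_option autoImplicit false
universe u
open CategoryTheory CategoryTheory.Limits AlgebraicGeometry
open AlgSp AlgSp.GroupoidSp

namespace Groth.Agent.S10142


open Groth.Agent.Lib.lead.GpdSp

private lemma c_eq {S : Scheme.{u}} {B : AlgSp.Sp S} (G : AlgSp.GroupoidSp B) :
    G.c = m G (pullback.fst G.s G.t) (pullback.snd G.s G.t) pullback.condition := by
  have h := comp_c G (𝟙 (pullback G.s G.t))
  rw [Category.id_comp] at h
  exact h.trans (m_congr G (Category.id_comp _) (Category.id_comp _) _ _)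

/-- For a groupoid in algebraic spaces `(U, R, s, t, c, e, i)` over `B`: the square with sides `c : R
×_{s,U,t} R ⟶ R`, `pr_1 : R ×_{s,U,t} R ⟶ R`, `s` and `s` is cartesian, and the morphism `R
×_{t,U,t} R ⟶ R ×_{s,U,t} R`, `(α, β) ↦ (α, i(α) ∘ β)`, is an isomorphism whose composite with `c`
is the second projection `pr_1 : R ×_{t,U,t} R ⟶ R`. (The published statement also lists the square
formed by `pr_0`, `pr_1`, `s`, `t`, which is cartesian by definition of the fibre product.) -/
theorem result (S : Scheme.{u}) (B : AlgSp.Sp S) (hB : AlgSp.IsAlgSpace B)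
    (G : AlgSp.GroupoidSp B) (hU : AlgSp.IsAlgSpace G.U) (hR : AlgSp.IsAlgSpace G.R) :
    IsPullback G.c (pullback.snd G.s G.t) G.s G.s ∧
      ∀ φ : pullback G.t G.t ⟶ pullback G.s G.t,
        φ ≫ pullback.fst G.s G.t = pullback.fst G.t G.t →
        φ ≫ pullback.snd G.s G.t =
          pullback.lift (pullback.fst G.t G.t ≫ G.i) (pullback.snd G.t G.t)
            ((Category.assoc _ _ _).trans ((congrArg (pullback.fst G.t G.t ≫ ·) G.i_s).trans pullback.condition)) ≫ G.c →
        IsIso φ ∧ φ ≫ G.c = pullback.snd G.t G.t := by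
  constructor
  · -- the cartesian square
    have hsq : G.c ≫ G.s = pullback.snd G.s G.t ≫ G.s := by
      rw [c_eq G, m_s]
    refine IsPullback.mk ⟨hsq⟩ ⟨PullbackCone.IsLimit.mk hsq
      (fun s => pullback.lift
        (m G s.fst (s.snd ≫ G.i) (by rw [Category.assoc, G.i_t]; exact s.condition)) s.snd
        (by rw [m_s, Category.assoc, G.i_s])) ?_ ?_ ?_⟩
    · intro s
      have hc := s.condition
      show m G (m G s.fst (s.snd ≫ G.i) _) s.snd _ = s.fst
      have h1 : s.fst ≫ G.s = (s.snd ≫ G.i) ≫ G.t := by rw [Category.assoc, G.i_t]; exact hc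
      have h2 : (s.snd ≫ G.i) ≫ G.s = s.snd ≫ G.t := by rw [Category.assoc, G.i_s]
      refine (m_assoc G s.fst (s.snd ≫ G.i) s.snd h1 h2).trans ?_
      refine m_e_right G s.fst _ ?_ _
      rw [m_i_left G s.snd (s.snd ≫ G.i) rfl h2, ← Category.assoc, ← hc, Category.assoc]
    · intro s
      exact pullback.lift_snd _ _ _
    · intro s x hx1 hx2
      have hc := s.condition
      apply pullback.hom_ext
      · rw [pullback.lift_fst]
        have hγ : s.fst = m G (x ≫ pullback.fst G.s G.t) s.snd (by
            rw [Category.assoc, pullback.condition, ← Category.assoc, hx2]) := by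
          rw [← hx1, comp_c G x]
          exact m_congr G rfl hx2 _ _
        have h1 : (x ≫ pullback.fst G.s G.t) ≫ G.s = s.snd ≫ G.t := by
          rw [Category.assoc, pullback.condition, ← Category.assoc, hx2]
        have h2 : s.snd ≫ G.s = (s.snd ≫ G.i) ≫ G.t := by rw [Category.assoc, G.i_t]
        have h3 : m G s.fst (s.snd ≫ G.i) (by rw [Category.assoc, G.i_t]; exact hc)
            = m G (m G (x ≫ pullback.fst G.s G.t) s.snd h1) (s.snd ≫ G.i)
                ((m_s G _ _ h1).trans h2) := m_congr G hγ rfl _ _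
        rw [h3]
        refine ((m_assoc G _ s.snd (s.snd ≫ G.i) h1 h2).trans ?_).symm
        refine m_e_right G _ _ ?_ _
        rw [m_i_right G s.snd (s.snd ≫ G.i) rfl h2, ← Category.assoc, ← h1, Category.assoc]
      · rw [pullback.lift_snd, hx2]
  · intro φ hφ1 hφ2
    have hφ2' : φ ≫ pullback.snd G.s G.t
        = m G (pullback.fst G.t G.t ≫ G.i) (pullback.snd G.t G.t)
          ((Category.assoc _ _ _).trans
            ((congrArg (pullback.fst G.t G.t ≫ ·) G.i_s).trans pullback.condition)) := hφ2
    have hAi : (pullback.fst G.t G.t ≫ G.i) ≫ G.s = pullback.snd G.t G.t ≫ G.t :=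
      (Category.assoc _ _ _).trans
        ((congrArg (pullback.fst G.t G.t ≫ ·) G.i_s).trans pullback.condition)
    have hφc : φ ≫ G.c = pullback.snd G.t G.t := by
      rw [comp_c G φ]
      have h1 : pullback.fst G.t G.t ≫ G.s = (pullback.fst G.t G.t ≫ G.i) ≫ G.t := by
        rw [Category.assoc, G.i_t]
      refine (m_congr G hφ1 hφ2' _ (h1.trans (m_t G _ _ hAi).symm)).trans ?_
      refine (m_assoc G (pullback.fst G.t G.t) (pullback.fst G.t G.t ≫ G.i)
        (pullback.snd G.t G.t) h1 hAi).symm.trans ?_
      refine m_e_left G _ _ ?_ _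
      rw [m_i_right G (pullback.fst G.t G.t) _ rfl h1, ← Category.assoc, pullback.condition,
        Category.assoc]
    refine ⟨?_, hφc⟩
    have hct : pullback.fst G.s G.t ≫ G.t = G.c ≫ G.t := by
      rw [c_eq G, m_t]
    refine ⟨⟨pullback.lift (pullback.fst G.s G.t) G.c hct, ?_, ?_⟩⟩
    · apply pullback.hom_ext
      · rw [Category.assoc, pullback.lift_fst, hφ1, Category.id_comp]
      · rw [Category.assoc, pullback.lift_snd, hφc, Category.id_comp]
    · apply pullback.hom_ext
      · rw [Category.assoc, hφ1, pullback.lift_fst, Category.id_comp]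
      · rw [Category.assoc, hφ2', Category.id_comp, m_pre]
        have e1 : pullback.lift (pullback.fst G.s G.t) G.c hct ≫ pullback.fst G.t G.t ≫ G.i
            = pullback.fst G.s G.t ≫ G.i := by
          rw [← Category.assoc, pullback.lift_fst]
        have e2 : pullback.lift (pullback.fst G.s G.t) G.c hct ≫ pullback.snd G.t G.t
            = m G (pullback.fst G.s G.t) (pullback.snd G.s G.t) pullback.condition := by
          rw [pullback.lift_snd]; exact c_eq G
        have h1 : (pullback.fst G.s G.t ≫ G.i) ≫ G.s = pullback.fst G.s G.t ≫ G.t := by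
          rw [Category.assoc, G.i_s]
        refine (m_congr G e1 e2 _ (h1.trans (m_t G _ _ pullback.condition).symm)).trans ?_
        refine (m_assoc G (pullback.fst G.s G.t ≫ G.i) (pullback.fst G.s G.t)
          (pullback.snd G.s G.t) h1 pullback.condition).symm.trans ?_
        refine m_e_left G _ _ ?_ _
        rw [m_i_left G (pullback.fst G.s G.t) _ rfl h1, ← Category.assoc, pullback.condition,
          Category.assoc]

end Groth.Agent.S10142
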