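import Groth.Statements.S10312
import Groth.Agent.Lib.Helper15.AlgSpLocus
import Groth.Agent.S9697
-- import your own Groth.Agent.* helpers here

set_option autoImplicit false
universe u
open CategoryTheory CategoryTheory.Limits AlgebraicGeometry
open AlgSp

namespace Groth.Agent.S10312

section H
namespace W1
open Groth.Agent.Lib.Helper3 Groth.Agent.Lib.Helper15
set_option backward.isDefEq.respectTransparency.types false

variable {S : Scheme.{u}}

/-- pointwise descent of "unramified in a neighbourhood" along a base change (from S9697). -/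
theorem unram_desc {U V V'' U'' : Scheme.{u}} (h : U ⟶ V) (k : V'' ⟶ V) (p₁ : U'' ⟶ U)
    (p₂ : U'' ⟶ V'') (sq : IsPullback p₁ p₂ h k) (hh : LocallyOfFiniteType h) (u'' : U'')
    (H : ∃ W : U''.Opens, u'' ∈ W ∧ (@LocallyOfFiniteType ⊓ @FormallyUnramified) (W.ι ≫ p₂)) :
    ∃ W : U.Opens, p₁ u'' ∈ W ∧ (@LocallyOfFiniteType ⊓ @FormallyUnramified) (W.ι ≫ h) := by
  obtain ⟨W, hW, -, hWfu⟩ := H
  haveI : FormallyUnramified (W.ι ≫ p₂) := hWfu
  let e := sq.isoPullback
  have he1 : e.hom ≫ pullback.fst h k = p₁ := sq.isoPullback_hom_fst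
  have he2 : e.inv ≫ p₂ = pullback.snd h k := sq.isoPullback_inv_snd
  have key : (∃ U' : (pullback h k).Opens, e.hom u'' ∈ U' ∧
      FormallyUnramified (U'.ι ≫ pullback.snd h k)) := by
    refine ⟨e.inv ⁻¹ᵁ W, ?_, ?_⟩
    · show e.inv (e.hom u'') ∈ W
      rw [← Scheme.Hom.comp_apply, e.hom_inv_id]
      exact hW
    · have h1 : (e.inv ⁻¹ᵁ W).ι ≫ pullback.snd h k = (e.inv ∣_ W) ≫ (W.ι ≫ p₂) := by
        rw [← he2, ← Category.assoc, ← Category.assoc, morphismRestrict_ι]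
      rw [h1]
      haveI : IsIso (e.inv ∣_ W) := inferInstance
      exact MorphismProperty.comp_mem @FormallyUnramified _ _
        (MorphismProperty.of_isIso @FormallyUnramified _) hWfu
  obtain ⟨W', hW'1, hW'2⟩ := (Groth.Agent.S9697.result h k (e.hom u'')).1 key
  refine ⟨W', ?_, ?_, hW'2⟩
  · have : p₁ u'' = (pullback.fst h k) (e.hom u'') := by
      rw [← Scheme.Hom.comp_apply, he1]
    rw [this]; exact hW'1
  · infer_instance

theorem main {X Y Z Z' Y' X' : AlgSp.Space S} (f : X ⟶ Y)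
    (p : X ⟶ Z) (q : Y ⟶ Z) (comm : f ≫ q = p) (hp : AlgSp.LocP @LocallyOfFiniteType p.hom) (g : Z' ⟶ Z)
    (a : Y' ⟶ Y) (q' : Y' ⟶ Z') (sq1 : IsPullback a.hom q'.hom q.hom g.hom)
    (b : X' ⟶ X) (f' : X' ⟶ Y') (sq2 : IsPullback b.hom f'.hom f.hom a.hom) :
    IsOpen {x : AlgSp.Points X.obj | AlgSp.HasAtMor (fun U _ h u => ∃ W : U.Opens, u ∈ W ∧ LocallyOfFiniteType (W.ι ≫ h) ∧ FormallyUnramified (W.ι ≫ h)) f.hom x} ∧
    {x' : AlgSp.Points X'.obj | AlgSp.HasAtMor (fun U _ h u => ∃ W : U.Opens, u ∈ W ∧ LocallyOfFiniteType (W.ι ≫ h) ∧ FormallyUnramified (W.ι ≫ h)) f'.hom x'} =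
      AlgSp.Points.map b.hom ⁻¹' {x : AlgSp.Points X.obj | AlgSp.HasAtMor (fun U _ h u => ∃ W : U.Opens, u ∈ W ∧ LocallyOfFiniteType (W.ι ≫ h) ∧ FormallyUnramified (W.ι ≫ h)) f.hom x} := by
  subst comm
  have hP := isEtLocal_unramified.{u}
  -- `f` is locally of finite type
  have hft : LocP @LocallyOfFiniteType f.hom := by
    obtain ⟨U', V', W', a', b', c', h', l', ha'e, ha's, hb'e, hc'e, wh', wl'⟩ :=
      AlgSpDeform.exists_charts3 f q
    have wcomp : a' ≫ (f ≫ q).hom = (yon S).map (h' ≫ l') ≫ c' := by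
      show a' ≫ f.hom ≫ q.hom = _
      rw [← Category.assoc, wh', Category.assoc, wl', Functor.map_comp, Category.assoc]
    haveI : LocallyOfFiniteType (h'.left ≫ l'.left) := hp a' c' (h' ≫ l') ha'e hc'e wcomp
    exact locP_of_chart isEtLocal_locallyOfFiniteType f.hom a' ha'e ha's b' hb'e h' wh'
      (locallyOfFiniteType_of_comp h'.left l'.left)
  refine ⟨AlgSpLocus.isOpen_hasAtMor hP X.property Y.property f.hom, ?_⟩
  ext x'
  constructor
  · intro hx'
    exact AlgSpLocus.hasAtMor_of_hasAtMor_baseChange hP X.property Y.property Y'.property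
      X'.property f.hom a.hom b.hom f'.hom sq2 @LocallyOfFiniteType hft
      (fun h k p₁ p₂ sq hh u'' H => unram_desc h k p₁ p₂ sq hh u'' H) x' hx'
  · intro hx
    exact AlgSpLocus.hasAtMor_of_isPullback hP X.property Y.property Y'.property X'.property
      f.hom a.hom b.hom f'.hom sq2 x' hx

end W1
end H


/-- For X -> Y over Z with X -> Z locally of finite type, the locus where X -> Y is unramified is an
open subset of |X| whose formation commutes with base change along any Z' -> Z. -/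
theorem result {S : Scheme.{u}} {X Y Z Z' Y' X' : AlgSp.Space S} (f : X ⟶ Y)
    (p : X ⟶ Z) (q : Y ⟶ Z) (comm : f ≫ q = p) (hp : AlgSp.LocP @LocallyOfFiniteType p.hom) (g : Z' ⟶ Z)
    (a : Y' ⟶ Y) (q' : Y' ⟶ Z') (sq1 : IsPullback a.hom q'.hom q.hom g.hom)
    (b : X' ⟶ X) (f' : X' ⟶ Y') (sq2 : IsPullback b.hom f'.hom f.hom a.hom) :
    IsOpen {x : AlgSp.Points X.obj | AlgSp.HasAtMor (fun U _ h u => ∃ W : U.Opens, u ∈ W ∧ LocallyOfFiniteType (W.ι ≫ h) ∧ FormallyUnramified (W.ι ≫ h)) f.hom x} ∧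
    {x' : AlgSp.Points X'.obj | AlgSp.HasAtMor (fun U _ h u => ∃ W : U.Opens, u ∈ W ∧ LocallyOfFiniteType (W.ι ≫ h) ∧ FormallyUnramified (W.ι ≫ h)) f'.hom x'} =
      AlgSp.Points.map b.hom ⁻¹' {x : AlgSp.Points X.obj | AlgSp.HasAtMor (fun U _ h u => ∃ W : U.Opens, u ∈ W ∧ LocallyOfFiniteType (W.ι ≫ h) ∧ FormallyUnramified (W.ι ≫ h)) f.hom x} := by
  exact W1.main f p q comm hp g a q' sq1 b f' sq2

end Groth.Agent.S10312
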