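import Groth.Statements.S10144
import Groth.Agent.S10313
import Groth.Agent.Lib.Helper15.GrpLocus
import Groth.Agent.Lib.Helper3.AlgSpQC
-- import your own Groth.Agent.* helpers here

set_option autoImplicit false
universe u
open CategoryTheory CategoryTheory.Limits AlgebraicGeometry MonoidalCategory MonObj
open AlgSp

namespace Groth.Agent.S10144

section H
namespace W1
open Groth.Agent.Lib.Helper3 Groth.Agent.Lib.Helper15
set_option backward.isDefEq.respectTransparency.types false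

theorem main (S : Scheme.{u}) (B : AlgSp.Sp S) (hB : AlgSp.IsAlgSpace B)
    (G : Over B) [GrpObj G] (hG : AlgSp.IsAlgSpace G.left) (hlft : AlgSp.LocP @LocallyOfFiniteType G.hom) :
    ∃ (W : AlgSp.Sp S) (w : W ⟶ B), AlgSp.RepWith @IsOpenImmersion w ∧
      (∀ (W' : AlgSp.Sp S) (w' : W' ⟶ B), AlgSp.RepWith @IsOpenImmersion w' →
        (AlgSp.LocP (@LocallyQuasiFinite ⊓ @LocallyOfFiniteType) (pullback.snd G.hom w') ↔ ∃ k : W' ⟶ W, k ≫ w = w')) ∧
      (∀ (B' : AlgSp.Sp S), AlgSp.IsAlgSpace B' → ∀ (f : B' ⟶ B) (W'' : AlgSp.Sp S) (w'' : W'' ⟶ B'),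
        AlgSp.RepWith @IsOpenImmersion w'' →
        (AlgSp.LocP (@LocallyQuasiFinite ⊓ @LocallyOfFiniteType) (pullback.snd (pullback.snd G.hom f) w'') ↔
          ∃ k : W'' ⟶ pullback w f, k ≫ pullback.snd w f = w'')) := by
  have hP := isEtLocal_locallyQuasiFinite.{u}
  let GX : AlgSp.Space S := ⟨G.left, hG⟩
  let BX : AlgSp.Space S := ⟨B, hB⟩
  let fX : GX ⟶ BX := ObjectProperty.homMk G.hom
  obtain ⟨X', j, hj, -, -, hbc⟩ := Groth.Agent.S10313.result fX hlft
  refine GrpLocus.main B hB G hG (NbhdQ (@LocallyQuasiFinite ⊓ @LocallyOfFiniteType))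
    (Set.range (Points.map j.hom)) ?_
    (@LocallyQuasiFinite ⊓ @LocallyOfFiniteType) ?_ ?_
  · intro Y'' X'' hY'' hX'' g b f'' sq x''
    exact hbc ⟨Y'', hY''⟩ ⟨X'', hX''⟩ (ObjectProperty.homMk g) (ObjectProperty.homMk b)
      (ObjectProperty.homMk f'') sq x''
  · exact (isOpenMap_map_of_etale (repWith_mono isOpenImmersion_le_etale hj)).isOpen_range
  · intro X'' Y'' hX'' hY'' f''
    exact ⟨fun h x'' => hasAtMor_of_locP hP hX'' hY'' f'' h x'',
      fun h => locP_of_forall_hasAtMor hP hX'' hY'' f'' h⟩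

end W1
end H


/-- Let `G` be a group algebraic space over an algebraic space `B` with `G ⟶ B` locally of finite type.
Then there is a largest open subspace `W ⊂ B` such that `G_W ⟶ W` is locally quasi-finite, and its
formation commutes with base change along any morphism of algebraic spaces `B' ⟶ B`. -/
theorem result (S : Scheme.{u}) (B : AlgSp.Sp S) (hB : AlgSp.IsAlgSpace B)
    (G : Over B) [GrpObj G] (hG : AlgSp.IsAlgSpace G.left) (hlft : AlgSp.LocP @LocallyOfFiniteType G.hom) :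
    ∃ (W : AlgSp.Sp S) (w : W ⟶ B), AlgSp.RepWith @IsOpenImmersion w ∧
      (∀ (W' : AlgSp.Sp S) (w' : W' ⟶ B), AlgSp.RepWith @IsOpenImmersion w' →
        (AlgSp.LocP (@LocallyQuasiFinite ⊓ @LocallyOfFiniteType) (pullback.snd G.hom w') ↔ ∃ k : W' ⟶ W, k ≫ w = w')) ∧
      (∀ (B' : AlgSp.Sp S), AlgSp.IsAlgSpace B' → ∀ (f : B' ⟶ B) (W'' : AlgSp.Sp S) (w'' : W'' ⟶ B'),
        AlgSp.RepWith @IsOpenImmersion w'' →
        (AlgSp.LocP (@LocallyQuasiFinite ⊓ @LocallyOfFiniteType) (pullback.snd (pullback.snd G.hom f) w'') ↔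
          ∃ k : W'' ⟶ pullback w f, k ≫ pullback.snd w f = w'')) := by
  exact W1.main S B hB G hG hlft

end Groth.Agent.S10144
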