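import Groth.Statements.S10145
-- import your own Groth.Agent.* helpers here

set_option autoImplicit false
universe u
open CategoryTheory CategoryTheory.Limits AlgebraicGeometry
open AlgSp AlgSp.GroupoidSp

namespace Groth.Agent.S10145


section
variable {S : Scheme.{u}} {B : AlgSp.Sp S} (G : AlgSp.GroupoidSp B)

/-- composition of two composable `T`-points -/
private noncomputable def m {T : AlgSp.Sp S} (α β : T ⟶ G.R) (h : α ≫ G.s = β ≫ G.t) : T ⟶ G.R :=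
  pullback.lift α β h ≫ G.c

private lemma m_congr {T : AlgSp.Sp S} {α α' β β' : T ⟶ G.R} (hα : α = α') (hβ : β = β')
    (h : α ≫ G.s = β ≫ G.t) (h' : α' ≫ G.s = β' ≫ G.t) : m G α β h = m G α' β' h' := by
  subst hα hβ
  rfl

private lemma m_pre {T T' : AlgSp.Sp S} (f : T' ⟶ T) (α β : T ⟶ G.R) (h : α ≫ G.s = β ≫ G.t) :
    f ≫ m G α β h = m G (f ≫ α) (f ≫ β) (by rw [Category.assoc, Category.assoc, h]) := by
  unfold m
  rw [← Category.assoc]
  congr 1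
  apply pullback.hom_ext
  · rw [Category.assoc, pullback.lift_fst, pullback.lift_fst]
  · rw [Category.assoc, pullback.lift_snd, pullback.lift_snd]

private lemma m_s {T : AlgSp.Sp S} (α β : T ⟶ G.R) (h : α ≫ G.s = β ≫ G.t) :
    m G α β h ≫ G.s = β ≫ G.s := G.comp_s α β h

private lemma m_t {T : AlgSp.Sp S} (α β : T ⟶ G.R) (h : α ≫ G.s = β ≫ G.t) :
    m G α β h ≫ G.t = α ≫ G.t := G.comp_t α β h

private lemma m_assoc {T : AlgSp.Sp S} (α β γ : T ⟶ G.R) (h₁ : α ≫ G.s = β ≫ G.t)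
    (h₂ : β ≫ G.s = γ ≫ G.t) :
    m G (m G α β h₁) γ ((m_s G α β h₁).trans h₂) =
      m G α (m G β γ h₂) (h₁.trans (m_t G β γ h₂).symm) := G.assoc α β γ h₁ h₂

private lemma m_e_left {T : AlgSp.Sp S} (α : T ⟶ G.R) (x : T ⟶ G.R) (hx : x = α ≫ G.t ≫ G.e)
    (h : x ≫ G.s = α ≫ G.t) : m G x α h = α := by
  subst hx
  exact G.e_comp α

private lemma m_e_right {T : AlgSp.Sp S} (α : T ⟶ G.R) (x : T ⟶ G.R) (hx : x = α ≫ G.s ≫ G.e)
    (h : α ≫ G.s = x ≫ G.t) : m G α x h = α := by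
  subst hx
  exact G.comp_e α

private lemma m_i_left {T : AlgSp.Sp S} (α : T ⟶ G.R) (x : T ⟶ G.R) (hx : x = α ≫ G.i)
    (h : x ≫ G.s = α ≫ G.t) : m G x α h = α ≫ G.s ≫ G.e := by
  subst hx
  exact G.i_comp α

private lemma m_i_right {T : AlgSp.Sp S} (α : T ⟶ G.R) (x : T ⟶ G.R) (hx : x = α ≫ G.i)
    (h : α ≫ G.s = x ≫ G.t) : m G α x h = α ≫ G.t ≫ G.e := by
  subst hx
  exact G.comp_i α

end

/-- Let `(U, R, s, t, c)` be a groupoid in algebraic spaces over `B` whose object space is `U = Spec k`,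
and let `r : Spec k ⟶ R` be such that `s ∘ r` and `t ∘ r` are automorphisms of `Spec k`; write `a =
r ∘ (s ∘ r)⁻¹`, so that `s ∘ a = id` and `t ∘ a` is an automorphism. Then `R ⟶ R`, `f ↦ c(a ∘ t ∘ f,
f)`, is an automorphism of `R` mapping `e` to `a` (the point `r`). -/
theorem result (S : Scheme.{u}) (B : AlgSp.Sp S) (hB : AlgSp.IsAlgSpace B)
    (G : AlgSp.GroupoidSp B) (hR : AlgSp.IsAlgSpace G.R) (k : Type u) [Field k]
    (σ : Spec (CommRingCat.of k) ⟶ S) (eU : G.U ≅ (AlgSp.yon S).obj (Over.mk σ))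
    (a : G.U ⟶ G.R) (ha : a ≫ G.s = 𝟙 G.U) [IsIso (a ≫ G.t)] :
    IsIso (pullback.lift (G.t ≫ a) (𝟙 G.R) (((Category.assoc _ _ _).trans (congrArg (G.t ≫ ·) ha)).trans ((Category.comp_id _).trans (Category.id_comp _).symm)) ≫ G.c) ∧
      G.e ≫ (pullback.lift (G.t ≫ a) (𝟙 G.R) (((Category.assoc _ _ _).trans (congrArg (G.t ≫ ·) ha)).trans ((Category.comp_id _).trans (Category.id_comp _).symm)) ≫ G.c) = a := by
  have h0 : (G.t ≫ a) ≫ G.s = 𝟙 G.R ≫ G.t :=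
    ((Category.assoc _ _ _).trans (congrArg (G.t ≫ ·) ha)).trans
      ((Category.comp_id _).trans (Category.id_comp _).symm)
  show IsIso (m G (G.t ≫ a) (𝟙 G.R) h0) ∧ G.e ≫ m G (G.t ≫ a) (𝟙 G.R) h0 = a
  have hθ : a ≫ G.t ≫ inv (a ≫ G.t) = 𝟙 _ := by
    rw [← Category.assoc]; exact IsIso.hom_inv_id _
  have hθ' : inv (a ≫ G.t) ≫ a ≫ G.t = 𝟙 _ := IsIso.inv_hom_id _
  have h1 : (G.t ≫ inv (a ≫ G.t) ≫ a ≫ G.i) ≫ G.s = 𝟙 G.R ≫ G.t := by
    simp only [Category.assoc, G.i_s, Category.id_comp]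
    rw [hθ', Category.comp_id]
  constructor
  · refine ⟨⟨m G (G.t ≫ inv (a ≫ G.t) ≫ a ≫ G.i) (𝟙 G.R) h1, ?_, ?_⟩⟩
    · -- τ ≫ τ' = 𝟙
      have e1 : m G (G.t ≫ a) (𝟙 G.R) h0 ≫ G.t ≫ inv (a ≫ G.t) ≫ a ≫ G.i = G.t ≫ a ≫ G.i := by
        rw [← Category.assoc, m_t]
        simp only [Category.assoc]
        rw [← Category.assoc G.t (inv (a ≫ G.t)), ← Category.assoc a, ← Category.assoc a,
          Category.assoc a G.t, hθ]
        simp
      have hA : (G.t ≫ a ≫ G.i) ≫ G.s = (G.t ≫ a) ≫ G.t := by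
        simp only [Category.assoc, G.i_s]
      refine (m_pre G _ _ _ h1).trans ?_
      refine (m_congr G e1 (Category.comp_id _) _ (hA.trans (m_t G _ _ h0).symm)).trans ?_
      refine (m_assoc G (G.t ≫ a ≫ G.i) (G.t ≫ a) (𝟙 G.R) hA h0).symm.trans ?_
      have e3 : m G (G.t ≫ a ≫ G.i) (G.t ≫ a) hA = G.t ≫ G.e := by
        rw [m_i_left G (G.t ≫ a) (G.t ≫ a ≫ G.i) (by simp) hA]
        simp only [Category.assoc]
        rw [← Category.assoc a, ha]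
        simp
      exact m_e_left G (𝟙 G.R) _ (by rw [e3]; simp) _
    · -- τ' ≫ τ = 𝟙
      have e1 : m G (G.t ≫ inv (a ≫ G.t) ≫ a ≫ G.i) (𝟙 G.R) h1 ≫ G.t ≫ a
          = G.t ≫ inv (a ≫ G.t) ≫ a := by
        rw [← Category.assoc, m_t]
        simp only [Category.assoc, G.i_t]
        rw [← Category.assoc a G.s, ha]
        simp
      have hA : (G.t ≫ inv (a ≫ G.t) ≫ a) ≫ G.s = (G.t ≫ inv (a ≫ G.t) ≫ a ≫ G.i) ≫ G.t := by
        simp only [Category.assoc, G.i_t]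
      refine (m_pre G _ _ _ h0).trans ?_
      refine (m_congr G e1 (Category.comp_id _) _ (hA.trans (m_t G _ _ h1).symm)).trans ?_
      refine (m_assoc G (G.t ≫ inv (a ≫ G.t) ≫ a) (G.t ≫ inv (a ≫ G.t) ≫ a ≫ G.i) (𝟙 G.R)
        hA h1).symm.trans ?_
      have e3 : m G (G.t ≫ inv (a ≫ G.t) ≫ a) (G.t ≫ inv (a ≫ G.t) ≫ a ≫ G.i) hA
          = G.t ≫ G.e := by
        rw [m_i_right G (G.t ≫ inv (a ≫ G.t) ≫ a) (G.t ≫ inv (a ≫ G.t) ≫ a ≫ G.i) (by simp) hA]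
        simp only [Category.assoc]
        rw [← Category.assoc (inv (a ≫ G.t)), ← Category.assoc (inv (a ≫ G.t) ≫ a),
          Category.assoc (inv (a ≫ G.t)) a, hθ']
        simp
      exact m_e_left G (𝟙 G.R) _ (by rw [e3]; simp) _
  · have h' : a ≫ G.s = G.e ≫ G.t := ha.trans G.e_t.symm
    refine (m_pre G _ _ _ h0).trans ?_
    refine (m_congr G (α' := a) (β' := G.e) ?_ (Category.comp_id _) _ h').trans ?_
    · rw [← Category.assoc, G.e_t, Category.id_comp]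
    · refine m_e_right G a G.e ?_ h'
      rw [← Category.assoc, ha, Category.id_comp]

end Groth.Agent.S10145
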