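import Groth.Statements.S10148
import Mathlib

set_option autoImplicit false
universe u
open LinTop

namespace Groth.Agent.S10148

open Polynomial

theorem nonarch_of_linear (A : Type u) [CommRing A] [TopologicalSpace A] [IsTopologicalRing A]
    [IsLinearTopology A A] : NonarchimedeanAddGroup A :=
  { is_nonarchimedean := fun U hU => by
      obtain ⟨K, hK, hKU⟩ := (IsLinearTopology.hasBasis_open_ideal (R := A)).mem_iff.mp hU
      exact ⟨⟨K.toAddSubgroup, hK⟩, hKU⟩ }

theorem tendsto_of_mem_pow {A : Type u} [CommRing A] [TopologicalSpace A] [IsTopologicalRing A]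
    [IsLinearTopology A A] (e : A) (he : IsTopologicallyNilpotent e) (z : ℕ → A)
    (hz : ∀ k, z k ∈ Ideal.span {e} ^ k) : Filter.Tendsto z Filter.atTop (nhds 0) := by
  rw [(Filter.atTop_basis.tendsto_iff (IsLinearTopology.hasBasis_open_ideal (R := A)))]
  intro K hK
  have hev := he.eventually_mem (hK.mem_nhds K.zero_mem)
  obtain ⟨n₀, hn₀⟩ := Filter.eventually_atTop.mp hev
  refine ⟨n₀, trivial, fun n hn => ?_⟩
  have h1 := hz n
  rw [Ideal.span_singleton_pow, Ideal.mem_span_singleton] at h1
  obtain ⟨c, hc⟩ := h1
  change z n ∈ K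
  rw [hc]
  exact K.mul_mem_right _ (hn₀ n hn)

theorem isUnit_one_add {A : Type u} [CommRing A] [UniformSpace A] [IsUniformAddGroup A]
    [IsTopologicalRing A] [IsLinearTopology A A] [T2Space A] [CompleteSpace A] (x : A)
    (hx : IsTopologicallyNilpotent x) : IsUnit (1 + x) := by
  have hna := nonarch_of_linear A
  have hnx : IsTopologicallyNilpotent (-x) := by
    have := hx.mul_left (-1)
    simpa using this
  have htn : Filter.Tendsto (fun n : ℕ => (-x) ^ n) Filter.cofinite (nhds 0) := by
    rw [Nat.cofinite_eq_atTop]; exact hnx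
  have hsum : Summable (fun n : ℕ => (-x) ^ n) :=
    NonarchimedeanAddGroup.summable_of_tendsto_cofinite_zero htn
  have := hsum.one_sub_mul_tsum_pow
  rw [sub_neg_eq_add] at this
  exact IsUnit.of_mul_eq_one _ this

theorem main (A : Type u) [CommRing A] [UniformSpace A] [IsUniformAddGroup A] [IsTopologicalRing A]
    (hA : LinTop.IsWeaklyAdmissible A) (I : Ideal A) (hI : LinTop.IsWeakIdealOfDefinition A I) :
    HenselianRing A I := by
  obtain ⟨⟨hlin, -⟩, hT2, hcomplete⟩ := hA
  have hna := nonarch_of_linear A
  have hjac : I ≤ Ideal.jacobson ⊥ := by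
    intro x hx
    rw [Ideal.mem_jacobson_bot]
    intro y
    rw [add_comm]
    exact isUnit_one_add _ (hI.2 _ (I.mul_mem_right y hx))
  refine ⟨hjac, ?_⟩
  intro f _ a₀ h₁ h₂
  classical
  let f' := derivative f
  set e := f.eval a₀ with he
  have hetn : IsTopologicallyNilpotent e := hI.2 e h₁
  set E : Ideal A := Ideal.span {e} with hE
  have hEI : E ≤ I := by rw [hE, Ideal.span_singleton_le_iff_mem]; exact h₁
  let c : ℕ → A := fun n => Nat.recOn n a₀ fun _ b => b - f.eval b * Ring.inverse (f'.eval b)
  have hc : ∀ n, c (n + 1) = c n - f.eval (c n) * Ring.inverse (f'.eval (c n)) := by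
    intro n
    simp only [c]
  have hc_mod : ∀ n, c n ≡ a₀ [SMOD I] := by
    intro n
    induction n with
    | zero => rfl
    | succ n ih => ?_
    rw [hc, sub_eq_add_neg, ← add_zero a₀]
    refine ih.add ?_
    rw [SModEq.zero, Ideal.neg_mem_iff]
    refine I.mul_mem_right _ ?_
    rw [← SModEq.zero] at h₁ ⊢
    exact (ih.eval f).trans h₁
  have hf'c : ∀ n, IsUnit (f'.eval (c n)) := by
    intro n
    have := isLocalHom_of_le_jacobson_bot I hjac
    apply IsUnit.of_map (Ideal.Quotient.mk I)
    convert h₂ using 1
    exact SModEq.def.mp ((hc_mod n).eval _)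
  have hfcE : ∀ n, f.eval (c n) ∈ E ^ (n + 1) := by
    intro n
    induction n with
    | zero =>
      simp only [zero_add, pow_one]
      exact Ideal.subset_span rfl
    | succ n ih => ?_
    rw [← taylor_eval_sub (c n), hc, sub_eq_add_neg, sub_eq_add_neg,
      add_neg_cancel_comm]
    rw [eval_eq_sum, sum_over_range' _ _ _ (lt_add_of_pos_right _ zero_lt_two), ←
      Finset.sum_range_add_sum_Ico _ (Nat.le_add_left _ _)]
    swap
    · intro i
      rw [zero_mul]
    refine Ideal.add_mem _ ?_ ?_
    · rw [← one_add_one_eq_two, Finset.sum_range_succ, Finset.range_one, Finset.sum_singleton,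
        taylor_coeff_zero, taylor_coeff_one, pow_zero, pow_one, mul_one, mul_neg,
        mul_left_comm, Ring.mul_inverse_cancel _ (hf'c n), mul_one, add_neg_cancel]
      exact Ideal.zero_mem _
    · refine Submodule.sum_mem _ ?_
      simp only [Finset.mem_Ico]
      rintro i ⟨h2i, _⟩
      have aux : n + 2 ≤ i * (n + 1) := by trans 2 * (n + 1) <;> nlinarith only [h2i]
      refine Ideal.mul_mem_left _ _ (Ideal.pow_le_pow_right aux ?_)
      rw [pow_mul']
      exact Ideal.pow_mem_pow ((Ideal.neg_mem_iff _).2 <| Ideal.mul_mem_right _ _ ih) _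
  -- the increments
  set z : ℕ → A := fun k => c (k + 1) - c k with hz
  have hzE : ∀ k, z k ∈ E ^ k := by
    intro k
    rw [hz]
    simp only
    rw [hc, sub_sub_cancel_left, Ideal.neg_mem_iff]
    exact Ideal.mul_mem_right _ _ (Ideal.pow_le_pow_right (Nat.le_succ k) (hfcE k))
  have hzs : Summable z := by
    refine NonarchimedeanAddGroup.summable_of_tendsto_cofinite_zero ?_
    rw [Nat.cofinite_eq_atTop]
    exact tendsto_of_mem_pow e hetn z hzE
  have htel : ∀ n, ∑ i ∈ Finset.range n, z i = c n - c 0 := fun n => Finset.sum_range_sub c n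
  set a := c 0 + ∑' k, z k with ha
  have hlim : Filter.Tendsto c Filter.atTop (nhds a) := by
    have h1 := hzs.hasSum.tendsto_sum_nat
    have h2 : Filter.Tendsto (fun n => c 0 + ∑ i ∈ Finset.range n, z i) Filter.atTop (nhds a) :=
      h1.const_add (c 0)
    refine h2.congr fun n => ?_
    rw [htel]; ring
  refine ⟨a, ?_, ?_⟩
  · show f.eval a = 0
    have h1 : Filter.Tendsto (fun n => f.eval (c n)) Filter.atTop (nhds (f.eval a)) :=
      ((Polynomial.continuous f).tendsto a).comp hlim
    have h2 : Filter.Tendsto (fun n => f.eval (c n)) Filter.atTop (nhds 0) :=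
      tendsto_of_mem_pow e hetn _
        (fun k => Ideal.pow_le_pow_right (Nat.le_succ k) (hfcE k))
    exact tendsto_nhds_unique h1 h2
  · have hIclosed : IsClosed (I : Set A) :=
      AddSubgroup.isClosed_of_isOpen I.toAddSubgroup hI.1
    have h1 : Filter.Tendsto (fun n => c n - a₀) Filter.atTop (nhds (a - a₀)) :=
      hlim.sub_const a₀
    refine hIclosed.mem_of_tendsto h1 (Filter.Eventually.of_forall fun n => ?_)
    exact (SModEq.sub_mem).mp (hc_mod n)

/-- Let A be a weakly admissible topological ring (linearly topologized, Hausdorff and complete, having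
a weak ideal of definition) and let I be a weak ideal of definition of A, that is, an open ideal
consisting of topologically nilpotent elements. Then (A, I) is a henselian pair. -/
theorem result
    (A : Type u) [CommRing A] [UniformSpace A] [IsUniformAddGroup A] [IsTopologicalRing A]
    (hA : LinTop.IsWeaklyAdmissible A) (I : Ideal A) (hI : LinTop.IsWeakIdealOfDefinition A I) :
    HenselianRing A I := by
  exact main A hA I hI

end Groth.Agent.S10148
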