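import Groth.Statements.S10149
-- import your own Groth.Agent.* helpers here

set_option autoImplicit false
universe u v
open LinTop

namespace Groth.Agent.S10149

/-- In a linearly topologized ring B the ideal of topologically nilpotent elements is closed. Moreover,
if φ : A → B is a continuous homomorphism of linearly topologized rings and I is an ideal of A
consisting of topologically nilpotent elements, then every element of the closure of the ideal φ(I)B
is topologically nilpotent. -/
theorem result
    (A : Type u) [CommRing A] [TopologicalSpace A] [IsTopologicalRing A] [IsLinearTopology A A]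
    (B : Type v) [CommRing B] [TopologicalSpace B] [IsTopologicalRing B] [IsLinearTopology B B] :
    IsClosed ((topologicalNilradical B : Ideal B) : Set B) ∧
      ∀ (φ : A →+* B), Continuous φ → ∀ I : Ideal A, (∀ f ∈ I, IsTopologicallyNilpotent f) →
        ∀ g ∈ (I.map φ).closure, IsTopologicallyNilpotent g := by
  have hclosed : IsClosed ((topologicalNilradical B : Ideal B) : Set B) := by
    refine isClosed_of_closure_subset fun g hg => ?_
    change IsTopologicallyNilpotent g
    simp only [IsTopologicallyNilpotent,
      Filter.atTop_basis.tendsto_iff (IsLinearTopology.hasBasis_open_ideal (R := B)), true_and]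
    intro K hK
    have hnhd : {x : B | x - g ∈ K} ∈ nhds g := by
      have : IsOpen {x : B | x - g ∈ K} := hK.preimage (continuous_id.sub continuous_const)
      exact this.mem_nhds (by simp)
    obtain ⟨t, ht1, ht2⟩ := mem_closure_iff_nhds.mp hg _ hnhd
    have ht2' : IsTopologicallyNilpotent t := ht2
    have hev := ht2'.eventually_mem (hK.mem_nhds K.zero_mem)
    obtain ⟨n₀, hn₀⟩ := Filter.eventually_atTop.mp hev
    refine ⟨n₀, fun n hn => ?_⟩
    have h1 : t ^ n ∈ K := hn₀ n hn
    obtain ⟨c, hc⟩ := sub_dvd_pow_sub_pow t g n
    have h2 : t ^ n - g ^ n ∈ K := by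
      rw [hc]; exact K.mul_mem_right _ ht1
    have : g ^ n = t ^ n - (t ^ n - g ^ n) := by ring
    change g ^ n ∈ K
    rw [this]
    exact K.sub_mem h1 h2
  refine ⟨hclosed, fun φ hφ I hI g hg => ?_⟩
  have hle : I.map φ ≤ topologicalNilradical B := by
    rw [Ideal.map_le_iff_le_comap]
    intro f hf
    exact (hI f hf).map hφ
  have hg' : g ∈ closure ((I.map φ : Ideal B) : Set B) := by rwa [← Ideal.coe_closure]
  exact hclosed.closure_subset_iff.mpr hle hg'

end Groth.Agent.S10149
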