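import Groth.Statements.S10150
import Groth.Agent.S10149

set_option autoImplicit false
universe u v
open LinTop

namespace Groth.Agent.S10150

/-- Let φ : A → B be a continuous ring homomorphism between weakly pre-admissible linearly topologized
rings. Then φ is taut if and only if, for each weak ideal of definition I of A, the closure of the
ideal generated by φ(I) is again a weak ideal of definition, now of B, and every neighbourhood of 0
in B contains one of these closures. (The published statement takes A and B weakly admissible, that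
is, moreover Hausdorff and complete; completeness plays no role and this row omits it.) -/
theorem result
    (A : Type u) [CommRing A] [TopologicalSpace A] [IsTopologicalRing A] [IsLinearTopology A A]
    (B : Type v) [CommRing B] [TopologicalSpace B] [IsTopologicalRing B] [IsLinearTopology B B]
    (hA : LinTop.IsWeaklyPreadmissible A) (hB : LinTop.IsWeaklyPreadmissible B)
    (φ : A →+* B) (hφ : Continuous φ) :
    LinTop.IsTaut φ ↔
      ((∀ I : Ideal A, LinTop.IsWeakIdealOfDefinition A I →
          LinTop.IsWeakIdealOfDefinition B (I.map φ).closure) ∧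
        ∀ U ∈ nhds (0 : B), ∃ I : Ideal A, LinTop.IsWeakIdealOfDefinition A I ∧
          ((I.map φ).closure : Set B) ⊆ U) := by
  obtain ⟨-, I₀, hI₀o, hI₀n⟩ := hA
  have hopen_of_le : ∀ (K L : Ideal B), K ≤ L → IsOpen (K : Set B) → IsOpen (L : Set B) :=
    fun K L hKL hK => AddSubgroup.isOpen_mono (H₁ := K.toAddSubgroup) (H₂ := L.toAddSubgroup) hKL hK
  have hcl_mono : ∀ (K L : Ideal A), K ≤ L → (K.map φ).closure ≤ (L.map φ).closure := by
    intro K L hKL x hx
    have hx' : x ∈ closure ((K.map φ : Ideal B) : Set B) := by rwa [← Ideal.coe_closure]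
    have : x ∈ closure ((L.map φ : Ideal B) : Set B) :=
      closure_mono (Ideal.map_mono hKL : K.map φ ≤ L.map φ) hx'
    rwa [← Ideal.coe_closure] at this
  constructor
  · rintro ⟨-, h2, h3⟩
    refine ⟨fun I hI => ⟨?_, fun g hg => ?_⟩, fun U hU => ?_⟩
    · rw [Ideal.coe_closure]; exact h2 I hI.1
    · exact (Groth.Agent.S10149.result A B).2 φ hφ I hI.2 g hg
    · obtain ⟨I', hI', hI'U⟩ := h3 U hU
      refine ⟨I' ⊓ I₀, ⟨hI'.inter hI₀o, fun f hf => hI₀n f hf.2⟩, ?_⟩
      refine subset_trans ?_ hI'U
      rw [← Ideal.coe_closure]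
      exact hcl_mono _ _ inf_le_left
  · rintro ⟨h1, h2⟩
    refine ⟨hφ, fun I hI => ?_, fun U hU => ?_⟩
    · have hw : LinTop.IsWeakIdealOfDefinition A (I ⊓ I₀) :=
        ⟨hI.inter hI₀o, fun f hf => hI₀n f hf.2⟩
      have := (h1 _ hw).1
      rw [← Ideal.coe_closure]
      exact hopen_of_le _ _ (hcl_mono _ _ inf_le_left) this
    · obtain ⟨I, hI, hIU⟩ := h2 U hU
      refine ⟨I, hI.1, ?_⟩
      rw [← Ideal.coe_closure]; exact hIU

end Groth.Agent.S10150
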