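import Groth.Statements.S10151
-- import your own Groth.Agent.* helpers here

set_option autoImplicit false
universe u v w
open LinTop

namespace Groth.Agent.S10151

/-- Given linearly topologized rings A, B, C and continuous ring maps ψ : B → C and φ : A → B, tautness
of the composite A → C implies that ψ is taut. -/
theorem result
    (A : Type u) [CommRing A] [TopologicalSpace A] [IsTopologicalRing A] [IsLinearTopology A A]
    (B : Type v) [CommRing B] [TopologicalSpace B] [IsTopologicalRing B] [IsLinearTopology B B]
    (C : Type w) [CommRing C] [TopologicalSpace C] [IsTopologicalRing C] [IsLinearTopology C C]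
    (φ : A →+* B) (ψ : B →+* C) (hφ : Continuous φ) (hψ : Continuous ψ)
    (h : LinTop.IsTaut (ψ.comp φ)) : LinTop.IsTaut ψ := by
  obtain ⟨-, h2, h3⟩ := h
  refine ⟨hψ, fun I hI => ?_, fun U hU => ?_⟩
  · have hI' : IsOpen ((I.comap φ : Ideal A) : Set A) := hI.preimage hφ
    have hopen := h2 _ hI'
    have hle : ((I.comap φ).map (ψ.comp φ)).closure ≤ (I.map ψ).closure := by
      have h0 : (I.comap φ).map (ψ.comp φ) ≤ I.map ψ := by
        rw [← Ideal.map_map]
        exact Ideal.map_mono Ideal.map_comap_le
      intro x hx
      have hx' : x ∈ closure (((I.comap φ).map (ψ.comp φ) : Ideal C) : Set C) := by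
        rwa [← Ideal.coe_closure]
      have : x ∈ closure ((I.map ψ : Ideal C) : Set C) := closure_mono h0 hx'
      rwa [← Ideal.coe_closure] at this
    rw [← Ideal.coe_closure] at hopen ⊢
    exact AddSubgroup.isOpen_mono (H₁ := (((I.comap φ).map (ψ.comp φ)).closure).toAddSubgroup)
      (H₂ := ((I.map ψ).closure).toAddSubgroup) hle hopen
  · obtain ⟨I, hI, hIU⟩ := h3 U hU
    have hK : IsOpen (((I.map (ψ.comp φ)).closure : Ideal C) : Set C) := by
      rw [Ideal.coe_closure]; exact h2 I hI
    refine ⟨(I.map (ψ.comp φ)).closure.comap ψ, hK.preimage hψ, ?_⟩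
    refine subset_trans ?_ hIU
    have : (((I.map (ψ.comp φ)).closure.comap ψ).map ψ : Set C) ⊆
        closure ((I.map (ψ.comp φ) : Ideal C) : Set C) := by
      rw [← Ideal.coe_closure]
      exact Ideal.map_comap_le
    exact closure_minimal this isClosed_closure

end Groth.Agent.S10151
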