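import Groth.Statements.S10154
import Groth.Agent.Lib.Helper7.LinTopLemmas

set_option autoImplicit false
universe u v
open LinTop

namespace Groth.Agent.S10154

/-- Let φ : A → B be a taut homomorphism of linearly topologized rings. If A is pre-admissible, then B
is pre-admissible. -/
theorem result
    (A : Type u) [CommRing A] [TopologicalSpace A] [IsTopologicalRing A] [IsLinearTopology A A]
    (B : Type v) [CommRing B] [TopologicalSpace B] [IsTopologicalRing B] [IsLinearTopology B B]
    (φ : A →+* B) (hφ : LinTop.IsTaut φ) (hA : LinTop.IsPreadmissible A) :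
    LinTop.IsPreadmissible B := by
  obtain ⟨_, I, hIopen, hIdef⟩ := hA
  obtain ⟨hcont, hopen, hbasis⟩ := hφ
  refine ⟨inferInstance, (I.map φ).closure, ?_, ?_⟩
  · rw [Ideal.coe_closure]; exact hopen I hIopen
  · intro U hU
    obtain ⟨I', hI'open, hI'U⟩ := hbasis U hU
    obtain ⟨n, hn, hnI'⟩ := hIdef (I' : Set A) (hI'open.mem_nhds I'.zero_mem)
    refine ⟨n, hn, ?_⟩
    have h1 : (I.map φ).closure ^ n ≤ ((I.map φ) ^ n).closure :=
      Groth.Agent.Lib.Helper7.LinTopLemmas.closure_pow_le _ _
    have h2 : (I.map φ) ^ n ≤ I'.map φ := by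
      rw [← Ideal.map_pow]; exact Ideal.map_mono hnI'
    have h3 := Groth.Agent.Lib.Helper7.LinTopLemmas.closure_mono h2
    intro x hx
    have hx' := h3 (h1 hx)
    rw [← SetLike.mem_coe, Ideal.coe_closure] at hx'
    exact hI'U hx'

end Groth.Agent.S10154
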