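import Groth.Statements.S10156
import Groth.Agent.Lib.Helper7.LinTopLemmas

set_option autoImplicit false
universe u v w
open LinTop

namespace Groth.Agent.S10156

/-- Given pre-adic rings A, B, C and continuous ring maps ψ : B → C and φ : A → B, adicness of the
composite A → C implies that ψ is adic. -/
theorem result
    (A : Type u) [CommRing A] [TopologicalSpace A] [IsTopologicalRing A] (hA : LinTop.IsPreadic A)
    (B : Type v) [CommRing B] [TopologicalSpace B] [IsTopologicalRing B] (hB : LinTop.IsPreadic B)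
    (C : Type w) [CommRing C] [TopologicalSpace C] [IsTopologicalRing C] (hC : LinTop.IsPreadic C)
    (φ : A →+* B) (ψ : B →+* C) (hφ : Continuous φ) (hψ : Continuous ψ)
    (h : LinTop.IsAdicHom (ψ.comp φ)) : LinTop.IsAdicHom ψ := by
  obtain ⟨J₀, hJ₀⟩ := hB
  obtain ⟨I, ⟨hIopen, hIdef⟩, hIC⟩ := h
  have hJ₀' := isAdic_iff.mp hJ₀
  have hIC' := isAdic_iff.mp hIC
  set K₀ := I.map (ψ.comp φ) with hK₀
  -- Step 1
  have hJ₀open : IsOpen (J₀ : Set B) := by simpa using hJ₀'.1 1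
  have h1 : (φ ⁻¹' (J₀ : Set B)) ∈ nhds (0 : A) :=
    (hJ₀open.preimage hφ).mem_nhds (by simp)
  obtain ⟨n, hn, hnJ⟩ := hIdef _ h1
  have hnJ' : (I ^ n).map φ ≤ J₀ := by
    rw [Ideal.map_le_iff_le_comap]; exact hnJ
  -- Step 2
  have h2 : (ψ ⁻¹' ((K₀ ^ n : Ideal C) : Set C)) ∈ nhds (0 : B) :=
    ((hIC'.1 n).preimage hψ).mem_nhds (by simp)
  obtain ⟨m, hm⟩ := hJ₀'.2 _ h2
  set J := J₀ ^ (m + 1) with hJ
  have hJle : J ≤ J₀ ^ m := Ideal.pow_le_pow_right (Nat.le_succ m)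
  have hKle : J.map ψ ≤ K₀ ^ n := by
    rw [Ideal.map_le_iff_le_comap]
    exact fun x hx => hm (hJle hx)
  have hKge : K₀ ^ (n * (m + 1)) ≤ J.map ψ := by
    have e1 : K₀ ^ n = ((I ^ n).map φ).map ψ := by
      rw [hK₀, ← Ideal.map_pow, Ideal.map_map]
    have e2 : J.map ψ = (J₀.map ψ) ^ (m + 1) := by
      rw [hJ, Ideal.map_pow]
    rw [pow_mul, e1, e2]
    exact Ideal.pow_right_mono (Ideal.map_mono hnJ') _
  refine ⟨J, ⟨hJ₀'.1 (m + 1), ?_⟩, ?_⟩
  · intro U hU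
    obtain ⟨k, hk⟩ := hJ₀'.2 U hU
    refine ⟨k + 1, Nat.succ_pos k, ?_⟩
    rw [hJ, ← pow_mul]
    refine subset_trans ?_ hk
    exact Ideal.pow_le_pow_right (by nlinarith)
  · rw [isAdic_iff]
    refine ⟨fun k => ?_, fun s hs => ?_⟩
    · have : K₀ ^ (n * (m + 1) * k) ≤ (J.map ψ) ^ k := by
        rw [pow_mul]; exact Ideal.pow_right_mono hKge k
      exact Groth.Agent.Lib.Helper7.LinTopLemmas.isOpen_mono this (hIC'.1 _)
    · obtain ⟨k, hk⟩ := hIC'.2 s hs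
      refine ⟨k, subset_trans ?_ hk⟩
      have h3 : (J.map ψ) ^ k ≤ (K₀ ^ n) ^ k := Ideal.pow_right_mono hKle k
      rw [← pow_mul] at h3
      exact h3.trans (Ideal.pow_le_pow_right (by nlinarith))

end Groth.Agent.S10156
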