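import Groth.Statements.S10157
import Groth.Agent.Lib.Helper7.LinTopLemmas

set_option autoImplicit false
universe u v
open LinTop

namespace Groth.Agent.S10157

/-- A continuous adic homomorphism φ : A → B between pre-adic topological rings is taut. -/
theorem result
    (A : Type u) [CommRing A] [TopologicalSpace A] [IsTopologicalRing A] (hA : LinTop.IsPreadic A)
    (B : Type v) [CommRing B] [TopologicalSpace B] [IsTopologicalRing B] (hB : LinTop.IsPreadic B)
    (φ : A →+* B) (hφ : Continuous φ) (h : LinTop.IsAdicHom φ) : LinTop.IsTaut φ := by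
  obtain ⟨I, ⟨hIopen, hIdef⟩, hIB⟩ := h
  obtain ⟨I₀, hI₀⟩ := hA
  have hI₀' := isAdic_iff.mp hI₀
  have hIB' := isAdic_iff.mp hIB
  set K₀ := I.map φ with hK₀
  refine ⟨hφ, ?_, ?_⟩
  · intro I' hI'
    obtain ⟨n, -, hnI'⟩ := hIdef (I' : Set A) (hI'.mem_nhds I'.zero_mem)
    have hle : K₀ ^ n ≤ I'.map φ := by
      rw [hK₀, ← Ideal.map_pow]; exact Ideal.map_mono hnI'
    have hopen : IsOpen ((I'.map φ : Ideal B) : Set B) :=
      Groth.Agent.Lib.Helper7.LinTopLemmas.isOpen_mono hle (hIB'.1 n)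
    rw [Groth.Agent.Lib.Helper7.LinTopLemmas.closure_eq_of_isOpen _ hopen]
    exact hopen
  · intro U hU
    obtain ⟨n, hn⟩ := hIB'.2 U hU
    refine ⟨I ^ n, ?_, ?_⟩
    · obtain ⟨k, hk⟩ := hI₀'.2 (I : Set A) (hIopen.mem_nhds I.zero_mem)
      have hle : I₀ ^ (k * n) ≤ I ^ n := by
        rw [pow_mul]; exact Ideal.pow_right_mono hk n
      exact Groth.Agent.Lib.Helper7.LinTopLemmas.isOpen_mono hle (hI₀'.1 _)
    · rw [Ideal.map_pow, Groth.Agent.Lib.Helper7.LinTopLemmas.closure_eq_of_isOpen _ (hIB'.1 n)]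
      exact hn

end Groth.Agent.S10157
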