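import Groth.Statements.S10159
import Groth.Agent.Lib.Helper7.LinTopTaut

set_option autoImplicit false
universe u
open LinTop

namespace Groth.Agent.S10159

/-- For a ring A carrying a linear topology, the following four conditions are equivalent: (1) A is
weakly pre-adic; (2) there exist a pre-adic topological ring A' and a taut continuous ring
homomorphism A' → A (A' is taken in the universe of A, which suffices since A with an adic topology
serves); (3) A has an ideal of definition, and for at least one ideal of definition I every closure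
cl(I^n) with n ≥ 1 is open; (4) A has an ideal of definition, and for each of its ideals of
definition I every closure cl(I^n) with n ≥ 1 is open. -/
theorem result
    (A : Type u) [CommRing A] [TopologicalSpace A] [IsTopologicalRing A] [IsLinearTopology A A] :
    List.TFAE [LinTop.IsWeaklyPreadic A,
      ∃ (A' : Type u) (_ : CommRing A') (_ : TopologicalSpace A') (_ : IsTopologicalRing A')
        (φ : A' →+* A), LinTop.IsPreadic A' ∧ LinTop.IsTaut φ,
      LinTop.IsPreadmissible A ∧ ∃ I : Ideal A, LinTop.IsIdealOfDefinition A I ∧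
        ∀ n : ℕ, 0 < n → IsOpen (closure ((I ^ n : Ideal A) : Set A)),
      LinTop.IsPreadmissible A ∧ ∀ I : Ideal A, LinTop.IsIdealOfDefinition A I →
        ∀ n : ℕ, 0 < n → IsOpen (closure ((I ^ n : Ideal A) : Set A))] := by
  tfae_have 1 → 4 := by
    intro h
    obtain ⟨hlin, I₁, hopen₁, hbasis₁⟩ := h
    refine ⟨⟨hlin, I₁.closure, ?_, ?_⟩, ?_⟩
    · have := hopen₁ 1
      rwa [pow_one, ← Ideal.coe_closure] at this
    · intro U hU
      obtain ⟨n, hn⟩ := hbasis₁ U hU
      refine ⟨n + 1, Nat.succ_pos n, ?_⟩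
      have h1 : I₁.closure ^ (n + 1) ≤ (I₁ ^ (n + 1)).closure :=
        Groth.Agent.Lib.Helper7.LinTopLemmas.closure_pow_le _ _
      have h2 : (I₁ ^ (n + 1)).closure ≤ (I₁ ^ n).closure :=
        Groth.Agent.Lib.Helper7.LinTopLemmas.closure_mono
          (Ideal.pow_le_pow_right (Nat.le_succ n))
      intro x hx
      have hx' := h2 (h1 hx)
      rw [← SetLike.mem_coe, Ideal.coe_closure] at hx'
      exact hn hx'
    · intro I hI n _
      exact (Groth.Agent.Lib.Helper7.LinTopLemmas.closure_pow_of_isIdealOfDefinition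
        ⟨hlin, I₁, hopen₁, hbasis₁⟩ I hI).1 n
  tfae_have 4 → 3 := by
    rintro ⟨hpre, h⟩
    obtain ⟨I, hI⟩ := hpre.2
    exact ⟨hpre, I, hI, h I hI⟩
  tfae_have 3 → 1 := by
    rintro ⟨hpre, I, ⟨hIopen, hIdef⟩, hopen⟩
    refine ⟨hpre.1, I, fun n => ?_, fun U hU => ?_⟩
    · rcases Nat.eq_zero_or_pos n with rfl | hn
      · simp
      · exact hopen n hn
    · obtain ⟨J, hJopen, hJU⟩ := (IsLinearTopology.hasBasis_open_ideal (R := A)).mem_iff.mp hU
      obtain ⟨n, -, hnJ⟩ := hIdef (J : Set A) (hJopen.mem_nhds J.zero_mem)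
      refine ⟨n, subset_trans ?_ hJU⟩
      exact closure_minimal hnJ (Groth.Agent.Lib.Helper7.LinTopLemmas.isClosed_of_isOpen J hJopen)
  tfae_have 1 → 2 := by
    rintro ⟨hlin, I₁, hopen₁, hbasis₁⟩
    exact ⟨Groth.Agent.Lib.Helper7.LinTopLemmas.AdicCopy I₁, inferInstance, inferInstance,
      inferInstance, Groth.Agent.Lib.Helper7.LinTopLemmas.AdicCopy.toRing I₁,
      Groth.Agent.Lib.Helper7.LinTopLemmas.AdicCopy.isPreadic I₁,
      Groth.Agent.Lib.Helper7.LinTopLemmas.isTaut_adicCopy I₁ hopen₁ hbasis₁⟩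
  tfae_have 2 → 1 := by
    rintro ⟨A', _, _, _, φ, hA', hφ⟩
    exact Groth.Agent.Lib.Helper7.LinTopLemmas.isWeaklyPreadic_of_isTaut φ hA' hφ
  tfae_finish

end Groth.Agent.S10159
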