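import Groth.Statements.S10164
import Groth.Agent.Lib.Helper7.LinTopCotangent

set_option autoImplicit false
universe u
open LinTop

namespace Groth.Agent.S10164

/-- Let A be weakly adic and I an ideal of definition of A with I/I₂ finitely generated, where I₂
denotes the closure of I^2 (here: I maps onto a finitely generated ideal of A/I₂). Then A is adic,
and some finitely generated ideal of A is an ideal of definition. -/
theorem result
    (A : Type u) [CommRing A] [UniformSpace A] [IsUniformAddGroup A] [IsTopologicalRing A] (hA : LinTop.IsWeaklyAdic A)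
    (I : Ideal A) (hI : LinTop.IsIdealOfDefinition A I)
    (hfg : (I.map (Ideal.Quotient.mk ((I ^ 2).closure))).FG) :
    LinTop.IsAdicRing A ∧ ∃ J : Ideal A, LinTop.IsIdealOfDefinition A J ∧ J.FG := by
  obtain ⟨J, hJfg, -, hJadic⟩ :=
    Groth.Agent.Lib.Helper7.LinTopLemmas.exists_fg_isAdic_of_fg_cotangent hA I hI hfg
  have hJ' := isAdic_iff.mp hJadic
  refine ⟨⟨⟨J, hJadic⟩, hA.2.1, hA.2.2⟩, J, ⟨?_, ?_⟩, hJfg⟩
  · simpa using hJ'.1 1
  · intro U hU
    obtain ⟨n, hn⟩ := hJ'.2 U hU
    exact ⟨n + 1, Nat.succ_pos n, subset_trans (Ideal.pow_le_pow_right (Nat.le_succ n)) hn⟩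

end Groth.Agent.S10164
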