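import Groth.Statements.S10170
import Groth.Agent.S10160
import Groth.Agent.S10164
import Groth.Agent.Lib.Helper1.Taut2
import Groth.Agent.Lib.Helper7.LinTopCotangent

set_option autoImplicit false
universe u v
open LinTop

namespace Groth.Agent.S10170

section helpers

variable {A : Type u} [CommRing A] [TopologicalSpace A] [IsTopologicalRing A]
variable {B : Type v} [CommRing B] [TopologicalSpace B] [IsTopologicalRing B]

lemma exists_fg_le_map_sup (φ : A →+* B) (I : Ideal A) (K : Ideal B)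
    (N : Ideal B) (hN : N.FG) (h : N ≤ I.map φ ⊔ K) :
    ∃ I' : Ideal A, I' ≤ I ∧ I'.FG ∧ N ≤ I'.map φ ⊔ K := by
  classical
  revert h
  refine Submodule.fg_induction (R := B) (M := B) (motive := fun N _ => N ≤ I.map φ ⊔ K →
    ∃ I' : Ideal A, I' ≤ I ∧ I'.FG ∧ N ≤ I'.map φ ⊔ K) ?_ ?_ N hN
  · intro x hx
    have hx' : x ∈ I.map φ ⊔ K := hx (Submodule.mem_span_singleton_self x)
    obtain ⟨a, ha, b, hb, rfl⟩ := Submodule.mem_sup.1 hx'
    have ha' : a ∈ Submodule.span B (φ '' (I : Set A)) := ha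
    obtain ⟨T, hT, haT⟩ := Submodule.mem_span_finite_of_mem_span ha'
    obtain ⟨T', hT', rfl⟩ := Finset.subset_set_image_iff.1 hT
    refine ⟨Ideal.span (T' : Set A), Ideal.span_le.2 hT', ⟨T', rfl⟩, ?_⟩
    rw [Submodule.span_singleton_le_iff_mem]
    refine Submodule.add_mem_sup ?_ hb
    rw [Ideal.map_span]
    simpa using haT
  · intro M₁ M₂ _ _ h₁ h₂ h
    obtain ⟨I₁, hI₁, hfg₁, hle₁⟩ := h₁ (le_sup_left.trans h)
    obtain ⟨I₂, hI₂, hfg₂, hle₂⟩ := h₂ (le_sup_right.trans h)
    refine ⟨I₁ ⊔ I₂, sup_le hI₁ hI₂, Submodule.FG.sup hfg₁ hfg₂, ?_⟩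
    rw [Ideal.map_sup]
    refine sup_le (hle₁.trans ?_) (hle₂.trans ?_)
    · exact sup_le_sup_right le_sup_left _
    · exact sup_le_sup_right le_sup_right _

lemma mem_sup_of_mem_closure {K U : Ideal B} (hU : IsOpen (U : Set B)) {x : B}
    (hx : x ∈ closure (K : Set B)) : x ∈ K ⊔ U := by
  have ho : IsOpen {z : B | x - z ∈ U} := hU.preimage (continuous_const.sub continuous_id)
  have hxm : x ∈ {z : B | x - z ∈ U} := by simp
  obtain ⟨y, hy1, hy2⟩ := mem_closure_iff.mp hx _ ho hxm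
  have : x = y + (x - y) := by ring
  rw [this]; exact Submodule.add_mem_sup hy2 hy1

lemma closure_eq_preimage [IsLinearTopology A A] {φ : A →+* B} (hφ : LinTop.IsTautFFlat φ)
    (K : Ideal A) :
    closure (K : Set A) = φ ⁻¹' (((K.map φ).closure : Ideal B) : Set B) := by
  have hcont : Continuous φ := hφ.1.1
  apply Set.Subset.antisymm
  · intro x hx
    have h2 : φ x ∈ closure (φ '' (K : Set A)) :=
      image_closure_subset_closure_image hcont ⟨x, hx, rfl⟩
    have h3 : closure (φ '' (K : Set A)) ⊆ closure ((K.map φ : Ideal B) : Set B) := by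
      apply closure_mono
      rintro _ ⟨y, hy, rfl⟩
      exact Ideal.mem_map_of_mem φ hy
    have := h3 h2
    rw [← Ideal.coe_closure] at this
    exact this
  · intro x hx
    apply Groth.Agent.Lib.Helper1.Taut.mem_closure_of_forall_sup
    intro I' hI'open
    have hKopen : IsOpen ((K ⊔ I' : Ideal A) : Set A) :=
      Groth.Agent.Lib.Helper7.LinTopLemmas.isOpen_mono le_sup_right hI'open
    apply Groth.Agent.Lib.Helper1.Taut.mem_of_map_mem_closure hφ hKopen
    have h4 : (K.map φ).closure ≤ ((K ⊔ I').map φ).closure :=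
      Groth.Agent.Lib.Helper7.LinTopLemmas.closure_mono (Ideal.map_mono le_sup_left)
    have := h4 hx
    rwa [← SetLike.mem_coe, Ideal.coe_closure] at this

end helpers

/-- Let φ : A → B be a taut homomorphism of linearly topologized rings such that for every open ideal I
of A the induced ring map A/I → B/J, where J denotes the closure of φ(I)B, is faithfully flat.
Suppose A is Hausdorff and complete, and B is adic with some finitely generated ideal of definition.
Then A is adic, and some finitely generated ideal of A is an ideal of definition. -/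
theorem result
    (A : Type u) [CommRing A] [UniformSpace A] [IsUniformAddGroup A] [IsTopologicalRing A] [IsLinearTopology A A] [T2Space A] [CompleteSpace A]
    (B : Type v) [CommRing B] [UniformSpace B] [IsUniformAddGroup B] [IsTopologicalRing B] (hB : LinTop.IsAdicRing B)
    (hJ : ∃ J : Ideal B, LinTop.IsIdealOfDefinition B J ∧ J.FG)
    (φ : A →+* B) (hφ : LinTop.IsTautFFlat φ) :
    LinTop.IsAdicRing A ∧ ∃ I : Ideal A, LinTop.IsIdealOfDefinition A I ∧ I.FG := by
  classical
  obtain ⟨⟨J₀, hJ₀⟩, hBT2, hBcomp⟩ := hB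
  obtain ⟨J₁, hJ₁def, hJ₁fg⟩ := hJ
  have hJ₀' := isAdic_iff.mp hJ₀
  have hlinB : IsLinearTopology B B :=
    IsLinearTopology.mk_of_hasBasis _ hJ₀.hasBasis_nhds_zero
  have hBwp : LinTop.IsWeaklyPreadic B := by
    refine ⟨hlinB, J₀, fun n => ?_, fun U hU => ?_⟩
    · rw [Groth.Agent.Lib.Helper7.LinTopLemmas.closure_eq_of_isOpen _ (hJ₀'.1 n)]
      exact hJ₀'.1 n
    · obtain ⟨n, hn⟩ := hJ₀'.2 U hU
      refine ⟨n, ?_⟩
      rw [Groth.Agent.Lib.Helper7.LinTopLemmas.closure_eq_of_isOpen _ (hJ₀'.1 n)]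
      exact hn
  have hAwp : LinTop.IsWeaklyPreadic A :=
    Groth.Agent.Lib.Helper1.Taut.isWeaklyPreadic_of_isTautFFlat hφ hBwp
  have hAwa : LinTop.IsWeaklyAdic A := ⟨hAwp, inferInstance, inferInstance⟩
  obtain ⟨⟨⟨-, I, hIopen, hIdef⟩, -, -⟩, -⟩ := Groth.Agent.S10160.result A hAwa
  obtain ⟨⟨hcont, hopen, hfund⟩, hff⟩ := id hφ
  -- powers of J₁ are open
  have hJ₁open : ∀ n : ℕ, IsOpen ((J₁ ^ n : Ideal B) : Set B) := by
    intro n
    obtain ⟨k, hk⟩ := hJ₀'.2 _ (hJ₁def.1.mem_nhds J₁.zero_mem)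
    have hk' : J₀ ^ k ≤ J₁ := hk
    have h1 : J₀ ^ (k * n) ≤ J₁ ^ n := by
      rw [pow_mul]; exact Ideal.pow_right_mono hk' n
    exact Groth.Agent.Lib.Helper7.LinTopLemmas.isOpen_mono h1 (hJ₀'.1 _)
  -- J₁^m ⊆ cl(IB)
  have hclI : closure ((I.map φ : Ideal B) : Set B) ∈ nhds (0 : B) :=
    (hopen I hIopen).mem_nhds (subset_closure (Ideal.zero_mem _))
  obtain ⟨m, -, hm⟩ := hJ₁def.2 _ hclI
  set N : Ideal B := J₁ ^ m with hNdef
  have hN0 : N ≤ I.map φ ⊔ J₁ ^ (m + 1) := fun x hx =>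
    mem_sup_of_mem_closure (hJ₁open (m + 1)) (hm hx)
  obtain ⟨If, hIfI, hIffg, hN1'⟩ :=
    exists_fg_le_map_sup φ I (J₁ ^ (m + 1)) N (hJ₁fg.pow) hN0
  set P : Ideal B := If.map φ with hPdef
  have hN1 : N ≤ P ⊔ J₁ * N := by rwa [pow_succ'] at hN1'
  have hstep : ∀ k : ℕ, N ≤ P ⊔ J₁ ^ k * N := by
    intro k
    induction k with
    | zero => rw [pow_zero, one_mul]; exact le_sup_right
    | succ k ih =>
      refine ih.trans (sup_le le_sup_left ?_)
      calc J₁ ^ k * N ≤ J₁ ^ k * (P ⊔ J₁ * N) := Ideal.mul_mono_right hN1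
        _ = J₁ ^ k * P ⊔ J₁ ^ k * (J₁ * N) := Ideal.mul_sup _ _ _
        _ ≤ P ⊔ J₁ ^ (k + 1) * N := by
            refine sup_le_sup Ideal.mul_le_right ?_
            rw [← mul_assoc, ← pow_succ]
  have hNP : N ≤ P.closure := by
    intro x hx
    rw [← SetLike.mem_coe, Ideal.coe_closure]
    apply Groth.Agent.Lib.Helper1.Taut.mem_closure_of_forall_sup
    intro U hU
    obtain ⟨k, -, hk⟩ := hJ₁def.2 _ (hU.mem_nhds U.zero_mem)
    have hk' : J₁ ^ k ≤ U := hk
    exact (sup_le_sup_left (Ideal.mul_le_left.trans hk') P) (hstep k hx)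
  have hPopen : IsOpen ((P.closure : Ideal B) : Set B) :=
    Groth.Agent.Lib.Helper7.LinTopLemmas.isOpen_mono hNP (hJ₁open m)
  -- the ideal I' = closure of If
  have hI'coe : ((If.closure : Ideal A) : Set A) = φ ⁻¹' ((P.closure : Ideal B) : Set B) := by
    rw [Ideal.coe_closure]; exact closure_eq_preimage hφ If
  have hI'open : IsOpen ((If.closure : Ideal A) : Set A) := by
    rw [hI'coe]; exact hPopen.preimage hcont
  have hI'I : If.closure ≤ I := by
    have h1 := Groth.Agent.Lib.Helper7.LinTopLemmas.closure_mono hIfI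
    rwa [Ideal.closure_eq_of_isClosed _
      (Groth.Agent.Lib.Helper7.LinTopLemmas.isClosed_of_isOpen I hIopen)] at h1
  have hI'def : LinTop.IsIdealOfDefinition A If.closure := by
    refine ⟨hI'open, fun U hU => ?_⟩
    obtain ⟨n, hn0, hn⟩ := hIdef U hU
    exact ⟨n, hn0, subset_trans (Ideal.pow_right_mono hI'I n) hn⟩
  have hcl2 : IsOpen (((If.closure ^ 2).closure : Ideal A) : Set A) := by
    rw [Ideal.coe_closure]
    exact (Groth.Agent.Lib.Helper7.LinTopLemmas.closure_pow_of_isIdealOfDefinition hAwp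
      If.closure hI'def).1 2
  have hle : If.closure ≤ If ⊔ (If.closure ^ 2).closure := by
    intro x hx
    rw [← SetLike.mem_coe, Ideal.coe_closure] at hx
    exact mem_sup_of_mem_closure hcl2 hx
  have hmapeq : If.closure.map (Ideal.Quotient.mk ((If.closure ^ 2).closure)) =
      If.map (Ideal.Quotient.mk ((If.closure ^ 2).closure)) := by
    apply le_antisymm
    · refine (Ideal.map_mono hle).trans ?_
      rw [Ideal.map_sup, Ideal.map_quotient_self, sup_bot_eq]
    · exact Ideal.map_mono (Groth.Agent.Lib.Helper7.LinTopLemmas.le_closure If)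
  have hfg : (If.closure.map (Ideal.Quotient.mk ((If.closure ^ 2).closure))).FG := by
    rw [hmapeq]; exact hIffg.map _
  exact Groth.Agent.S10164.result A hAwa If.closure hI'def hfg

end Groth.Agent.S10170
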