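import Groth.Statements.S10171
import Mathlib.Tactic

set_option autoImplicit false
universe u v
open LinTop

namespace Groth.Agent.S10171

open UniformSpace Topology in
theorem key {G : Type*} {H : Type*} [AddCommGroup G] [UniformSpace G] [IsUniformAddGroup G]
    [AddCommGroup H] [UniformSpace H] [IsUniformAddGroup H]
    (π : G →+ H) (hc : Continuous π) (ho : IsOpenMap π)
    (hb : ∀ W ∈ 𝓝 (0 : G), ∃ U : AddSubgroup G, IsOpen (U : Set G) ∧ (U : Set G) ⊆ W) :
    (Completion.map π) ⁻¹' {0} =
      closure (Set.range (fun n : π.ker => ((n : G) : Completion G))) := by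
  have huc : UniformContinuous π := uniformContinuous_addMonoidHom_of_continuous hc
  set φ := AddMonoidHom.completion π hc with hφ
  have hφeq : (φ : Completion G → Completion H) = Completion.map π := rfl
  have hφc : Continuous φ := AddMonoidHom.continuous_completion π hc
  rw [← hφeq]
  apply Set.Subset.antisymm
  · intro ξ hξ
    have hξ0 : φ ξ = 0 := hξ
    rw [mem_closure_iff_nhds]
    intro W hW
    have hW' : (fun y => ξ - y) ⁻¹' W ∈ 𝓝 (0 : Completion G) := by
      apply ContinuousAt.preimage_mem_nhds
      · fun_prop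
      · simpa using hW
    obtain ⟨C, ⟨hC0, hCcl⟩, hCW⟩ := (closed_nhds_basis (0 : Completion G)).mem_iff.mp hW'
    have hιC : ((↑) : G → Completion G) ⁻¹' C ∈ 𝓝 (0 : G) := by
      apply ContinuousAt.preimage_mem_nhds (Completion.continuous_coe G).continuousAt
      rw [Completion.coe_zero]; exact hC0
    obtain ⟨U, hUo, hUC⟩ := hb _ hιC
    let Uh : AddSubgroup (Completion G) := (U.map Completion.toCompl).topologicalClosure
    have hUh : (Uh : Set (Completion G)) = closure ((↑) '' (U : Set G)) := rfl
    have hUhC : (Uh : Set _) ⊆ C := by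
      rw [hUh]; apply closure_minimal _ hCcl; rintro _ ⟨u, hu, rfl⟩; exact hUC hu
    have hUhnhds : (Uh : Set _) ∈ 𝓝 (0 : Completion G) := by
      rw [hUh, ← Completion.coe_zero]
      exact Completion.isDenseInducing_coe.closure_image_mem_nhds (hUo.mem_nhds U.zero_mem)
    have : {y | ξ - y ∈ Uh} ∈ 𝓝 ξ := by
      apply ContinuousAt.preimage_mem_nhds (f := fun y => ξ - y) (by fun_prop)
      simpa using hUhnhds
    obtain ⟨m, hm⟩ := Completion.denseRange_coe.mem_nhds this
    have hm' : ξ - (m : Completion G) ∈ Uh := hm
    have h1 : φ (ξ - ↑m) ∈ closure (((↑) : H → Completion H) '' (π '' (U : Set G))) := by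
      have hsub := image_closure_subset_closure_image
        (s := ((↑) : G → Completion G) '' (U : Set G)) hφc
      have h2 := hsub ⟨_, hm', rfl⟩
      have : (φ : _ → _) '' (((↑) : G → Completion G) '' (U : Set G)) =
          ((↑) : H → Completion H) '' (π '' (U : Set G)) := by
        rw [Set.image_image, Set.image_image]
        apply Set.image_congr; intro a _; exact AddMonoidHom.completion_coe π hc a
      rwa [this] at h2
    have h3 : φ (ξ - ↑m) = ((π (-m) : H) : Completion H) := by
      rw [map_sub, hξ0, zero_sub, map_neg, Completion.coe_neg, AddMonoidHom.completion_coe]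
    rw [h3] at h1
    have h4 : π (-m) ∈ closure (π '' (U : Set G)) := by
      rw [(Completion.isUniformInducing_coe H).isInducing.closure_eq_preimage_closure_image]
      exact h1
    have h5 : IsClosed (π '' (U : Set G)) := by
      have : (π '' (U : Set G)) = ((U.map π : AddSubgroup H) : Set H) := rfl
      rw [this]
      exact AddSubgroup.isClosed_of_isOpen _ (by rw [← this]; exact ho _ hUo)
    rw [h5.closure_eq] at h4
    obtain ⟨u, hu, hπu⟩ := h4
    have hn : m + u ∈ π.ker := by
      rw [AddMonoidHom.mem_ker, map_add, hπu, map_neg, add_neg_cancel]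
    refine ⟨((m + u : G) : Completion G), ?_, ⟨⟨m + u, hn⟩, rfl⟩⟩
    have h6 : ξ - ((m + u : G) : Completion G) ∈ Uh := by
      have : ξ - ((m + u : G) : Completion G) = (ξ - ↑m) - ((u : G) : Completion G) := by
        rw [Completion.coe_add]; abel
      rw [this]
      exact Uh.sub_mem hm' (AddSubgroup.le_topologicalClosure _ ⟨u, hu, rfl⟩)
    have h7 := hCW (hUhC h6)
    simpa using h7
  · apply closure_minimal
    · rintro _ ⟨n, rfl⟩
      show φ _ = 0
      rw [AddMonoidHom.completion_coe, (AddMonoidHom.mem_ker).mp n.2, Completion.coe_zero]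
    · exact isClosed_singleton.preimage hφc

/-- Let M be a linearly topologized module over a ring R and N a submodule. Write M^ for the separated
completion of M and (M/N)^ for that of M/N (quotient topology, additive uniform structure). Then the
kernel of the induced map M^ → (M/N)^ is the closure of the image of N in M^; that closure is the
completion of N, so this is the exactness of 0 → N^ → M^ → (M/N)^ at M^. -/
theorem result
    {R : Type u} [Ring R] {M : Type v} [AddCommGroup M] [Module R M] [UniformSpace M]
    [IsUniformAddGroup M] [IsLinearTopology R M] (N : Submodule R M) :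
    (@UniformSpace.Completion.map M _ (M ⧸ N.toAddSubgroup)
        (IsTopologicalAddGroup.rightUniformSpace (M ⧸ N.toAddSubgroup))
        (QuotientAddGroup.mk' N.toAddSubgroup)) ⁻¹' {0} =
      closure (Set.range (fun n : N => ((n : M) : UniformSpace.Completion M))) := by
  let _ : UniformSpace (M ⧸ N.toAddSubgroup) :=
    IsTopologicalAddGroup.rightUniformSpace (M ⧸ N.toAddSubgroup)
  have : IsUniformAddGroup (M ⧸ N.toAddSubgroup) := isUniformAddGroup_of_addCommGroup
  have hb : ∀ W ∈ nhds (0 : M), ∃ U : AddSubgroup M, IsOpen (U : Set M) ∧ (U : Set M) ⊆ W := by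
    intro W hW
    obtain ⟨U, hU, hUW⟩ := (IsLinearTopology.hasBasis_open_submodule R).mem_iff.mp hW
    exact ⟨U.toAddSubgroup, hU, hUW⟩
  have h := key (QuotientAddGroup.mk' N.toAddSubgroup) QuotientAddGroup.continuous_mk
    QuotientAddGroup.isOpenMap_coe hb
  rw [h]
  congr 1
  ext z
  constructor
  · rintro ⟨⟨n, hn⟩, rfl⟩
    rw [QuotientAddGroup.ker_mk'] at hn
    exact ⟨⟨n, hn⟩, rfl⟩
  · rintro ⟨⟨n, hn⟩, rfl⟩
    refine ⟨⟨n, ?_⟩, rfl⟩
    rw [QuotientAddGroup.ker_mk']
    exact hn

end Groth.Agent.S10171
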