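import Groth.Statements.S10172
import Mathlib.Topology.Algebra.InfiniteSum.Nonarchimedean
import Mathlib.Topology.Algebra.OpenSubgroup
import Mathlib.Tactic

set_option autoImplicit false
universe u v
open LinTop

namespace Groth.Agent.S10172

section abstract

open UniformSpace Topology Filter

theorem image_superset {X Y : Type*} [AddCommGroup X] [UniformSpace X] [IsUniformAddGroup X]
    [CompleteSpace X] [AddCommGroup Y] [TopologicalSpace Y] [IsTopologicalAddGroup Y] [T2Space Y]
    (φ : X →+ Y) (hφ : Continuous φ)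
    (V : ℕ → AddSubgroup X) (hVopen : ∀ n, IsOpen (V n : Set X)) (hVanti : Antitone V)
    (hVbasis : ∀ O ∈ 𝓝 (0 : X), ∃ n, (V n : Set X) ⊆ O)
    (W : ℕ → AddSubgroup Y) (hWopen : ∀ n, IsOpen (W n : Set Y)) (hWanti : Antitone W)
    (hWbasis : ∀ O ∈ 𝓝 (0 : Y), ∃ n, (W n : Set Y) ⊆ O)
    (hdense : ∀ n, (W n : Set Y) ⊆ closure (φ '' (V n : Set X))) :
    ∀ n, ∀ y ∈ W n, ∃ a ∈ V n, φ a = y := by
  classical
  haveI : NonarchimedeanAddGroup X := ⟨fun O hO => by
    obtain ⟨n, hn⟩ := hVbasis O hO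
    exact ⟨⟨V n, hVopen n⟩, hn⟩⟩
  have hK : ∀ n : ℕ, ∀ y ∈ W n, ∃ a ∈ V n, y - φ a ∈ W (n + 1) := by
    intro n y hy
    have hy' := hdense n hy
    have ho : IsOpen {z : Y | y - z ∈ W (n + 1)} :=
      (hWopen (n + 1)).preimage (continuous_const.sub continuous_id)
    obtain ⟨_, hz1, ⟨a, ha, rfl⟩⟩ := mem_closure_iff.mp hy' _ ho (by simp [zero_mem])
    exact ⟨a, ha, hz1⟩
  have hzero : ∀ (u : ℕ → X), (∀ k, u k ∈ V k) → Tendsto u cofinite (𝓝 0) := by
    intro u hu
    rw [Nat.cofinite_eq_atTop, tendsto_atTop']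
    intro O hO
    obtain ⟨N, hN⟩ := hVbasis O hO
    exact ⟨N, fun k hk => hN (hVanti hk (hu k))⟩
  have hWzero : ∀ (w : ℕ → Y), (∀ k, w k ∈ W k) → Tendsto w atTop (𝓝 0) := by
    intro w hw
    rw [tendsto_atTop']
    intro O hO
    obtain ⟨N, hN⟩ := hWbasis O hO
    exact ⟨N, fun k hk => hN (hWanti hk (hw k))⟩
  intro n y hy
  let dec : ℕ → Y → X := fun k z =>
    if h : z ∈ W (n + k) then Classical.choose (hK (n + k) z h) else 0
  have hdec : ∀ k z, z ∈ W (n + k) →
      dec k z ∈ V (n + k) ∧ z - φ (dec k z) ∈ W (n + k + 1) := by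
    intro k z h
    simp only [dec, dif_pos h]
    exact Classical.choose_spec (hK (n + k) z h)
  let Ys : ℕ → Y := fun k => Nat.rec y (fun k yk => yk - φ (dec k yk)) k
  have hY0 : Ys 0 = y := rfl
  have hYs : ∀ k, Ys (k + 1) = Ys k - φ (dec k (Ys k)) := fun k => rfl
  have hYmem : ∀ k, Ys k ∈ W (n + k) := by
    intro k
    induction k with
    | zero => simpa [hY0] using hy
    | succ k ih => rw [hYs]; exact (hdec k _ ih).2
  let a : ℕ → X := fun k => dec k (Ys k)
  have ha : ∀ k, a k ∈ V (n + k) := fun k => (hdec k _ (hYmem k)).1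
  have hpart : ∀ N, φ (∑ k ∈ Finset.range N, a k) = y - Ys N := by
    intro N
    induction N with
    | zero => simp [hY0]
    | succ N ih => rw [Finset.sum_range_succ, map_add, ih, hYs]; abel
  have hasum : Summable a :=
    NonarchimedeanAddGroup.summable_of_tendsto_cofinite_zero
      (hzero a fun k => hVanti (Nat.le_add_left k n) (ha k))
  have hmem : ∑' k, a k ∈ V n := by
    have hcl : IsClosed ((V n : AddSubgroup X) : Set X) :=
      AddSubgroup.isClosed_of_isOpen _ (hVopen n)
    refine hcl.mem_of_tendsto hasum.hasSum.tendsto_sum_nat (Eventually.of_forall fun N => ?_)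
    exact AddSubgroup.sum_mem _ fun k _ => hVanti (Nat.le_add_right n k) (ha k)
  have hlim1 : Tendsto (fun N => φ (∑ k ∈ Finset.range N, a k)) atTop (𝓝 (φ (∑' k, a k))) :=
    (hφ.tendsto _).comp hasum.hasSum.tendsto_sum_nat
  have hlim2 : Tendsto (fun N => φ (∑ k ∈ Finset.range N, a k)) atTop (𝓝 y) := by
    have hY : Tendsto Ys atTop (𝓝 0) :=
      hWzero Ys fun k => hWanti (Nat.le_add_left k n) (hYmem k)
    have : Tendsto (fun N => y - Ys N) atTop (𝓝 (y - 0)) := tendsto_const_nhds.sub hY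
    rw [sub_zero] at this
    exact this.congr (fun N => (hpart N).symm)
  exact ⟨∑' k, a k, hmem, tendsto_nhds_unique hlim1 hlim2⟩

theorem surj_open {X Y : Type*} [AddCommGroup X] [UniformSpace X] [IsUniformAddGroup X]
    [CompleteSpace X] [AddCommGroup Y] [TopologicalSpace Y] [IsTopologicalAddGroup Y] [T2Space Y]
    (φ : X →+ Y) (hφ : Continuous φ)
    (V : ℕ → AddSubgroup X) (hVopen : ∀ n, IsOpen (V n : Set X)) (hVanti : Antitone V)
    (hVbasis : ∀ O ∈ 𝓝 (0 : X), ∃ n, (V n : Set X) ⊆ O)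
    (W : ℕ → AddSubgroup Y) (hWopen : ∀ n, IsOpen (W n : Set Y)) (hWanti : Antitone W)
    (hWbasis : ∀ O ∈ 𝓝 (0 : Y), ∃ n, (W n : Set Y) ⊆ O)
    (hdense : ∀ n, (W n : Set Y) ⊆ closure (φ '' (V n : Set X)))
    (hdr : DenseRange φ) :
    Function.Surjective φ ∧ IsOpenMap φ := by
  have hS := image_superset φ hφ V hVopen hVanti hVbasis W hWopen hWanti hWbasis hdense
  constructor
  · intro y
    have hy : y ∈ closure (Set.range φ) := hdr y
    have ho : IsOpen {z : Y | y - z ∈ W 0} :=
      (hWopen 0).preimage (continuous_const.sub continuous_id)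
    obtain ⟨_, hz1, ⟨c, rfl⟩⟩ := mem_closure_iff.mp hy _ ho (by simp [zero_mem])
    obtain ⟨a, -, ha⟩ := hS 0 _ hz1
    exact ⟨c + a, by rw [map_add, ha]; abel⟩
  · intro s hs
    rw [isOpen_iff_mem_nhds]
    rintro _ ⟨x, hx, rfl⟩
    have h0 : {z : X | x + z ∈ s} ∈ 𝓝 (0 : X) := by
      refine (hs.preimage (continuous_const.add continuous_id)).mem_nhds ?_
      simpa using hx
    obtain ⟨N, hN⟩ := hVbasis _ h0
    have hnb : {w : Y | w - φ x ∈ W N} ∈ 𝓝 (φ x) := by
      refine ((hWopen N).preimage (continuous_id.sub continuous_const)).mem_nhds ?_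
      simp [zero_mem]
    refine mem_of_superset hnb ?_
    intro w hw
    obtain ⟨a, ha, haw⟩ := hS N _ hw
    exact ⟨x + a, hN ha, by rw [map_add, haw]; abel⟩

variable {K : Type*} [AddCommGroup K] [UniformSpace K] [IsUniformAddGroup K]

/-- closure in the completion of the image of a subgroup -/
noncomputable def hat (T : AddSubgroup K) : AddSubgroup (Completion K) :=
  (T.map Completion.toCompl).topologicalClosure

lemma coe_hat (T : AddSubgroup K) :
    (hat T : Set (Completion K)) = closure (((↑) : K → Completion K) '' (T : Set K)) := rfl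

lemma hat_mem_nhds (T : AddSubgroup K) (hT : IsOpen (T : Set K)) :
    (hat T : Set (Completion K)) ∈ 𝓝 (0 : Completion K) := by
  rw [coe_hat, ← Completion.coe_zero]
  exact Completion.isDenseInducing_coe.closure_image_mem_nhds (hT.mem_nhds T.zero_mem)

lemma hat_isOpen (T : AddSubgroup K) (hT : IsOpen (T : Set K)) :
    IsOpen (hat T : Set (Completion K)) :=
  AddSubgroup.isOpen_of_mem_nhds _ (hat_mem_nhds T hT)

lemma hat_mono {T T' : AddSubgroup K} (h : T ≤ T') : hat T ≤ hat T' := by
  intro x hx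
  have hx' : x ∈ closure (((↑) : K → Completion K) '' (T : Set K)) := hx
  exact closure_mono (Set.image_mono h) hx'

lemma hat_basis (T : ℕ → AddSubgroup K) (hTbasis : ∀ O ∈ 𝓝 (0 : K), ∃ n, (T n : Set K) ⊆ O) :
    ∀ O ∈ 𝓝 (0 : Completion K), ∃ n, (hat (T n) : Set (Completion K)) ⊆ O := by
  intro O hO
  obtain ⟨C, ⟨hC0, hCcl⟩, hCO⟩ := (closed_nhds_basis (0 : Completion K)).mem_iff.mp hO
  have hιC : ((↑) : K → Completion K) ⁻¹' C ∈ 𝓝 (0 : K) := by
    apply ContinuousAt.preimage_mem_nhds (Completion.continuous_coe K).continuousAt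
    rw [Completion.coe_zero]; exact hC0
  obtain ⟨n, hn⟩ := hTbasis _ hιC
  refine ⟨n, subset_trans ?_ hCO⟩
  rw [coe_hat]
  apply closure_minimal _ hCcl
  rintro _ ⟨u, hu, rfl⟩
  exact hn hu

theorem key {G H : Type*} [AddCommGroup G] [UniformSpace G] [IsUniformAddGroup G]
    [AddCommGroup H] [UniformSpace H] [IsUniformAddGroup H]
    (π : G →+ H) (hc : Continuous π) (ho : IsOpenMap π) (hsurj : Function.Surjective π)
    (U : ℕ → AddSubgroup G) (hUopen : ∀ n, IsOpen (U n : Set G)) (hUanti : Antitone U)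
    (hUbasis : ∀ O ∈ 𝓝 (0 : G), ∃ n, (U n : Set G) ⊆ O) :
    Function.Surjective (Completion.map π) ∧ IsOpenMap (Completion.map π) := by
  set φ := AddMonoidHom.completion π hc with hφ
  have hφeq : (φ : Completion G → Completion H) = Completion.map π := rfl
  have hφc : Continuous φ := AddMonoidHom.continuous_completion π hc
  rw [← hφeq]
  let T : ℕ → AddSubgroup H := fun n => (U n).map π
  have hTopen : ∀ n, IsOpen (T n : Set H) := fun n => ho _ (hUopen n)
  have hTanti : Antitone T := fun m n h => AddSubgroup.map_mono (hUanti h)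
  have hTbasis : ∀ O ∈ 𝓝 (0 : H), ∃ n, (T n : Set H) ⊆ O := by
    intro O hO
    have : π ⁻¹' O ∈ 𝓝 (0 : G) := hc.continuousAt.preimage_mem_nhds (by simpa using hO)
    obtain ⟨n, hn⟩ := hUbasis _ this
    exact ⟨n, by rintro _ ⟨u, hu, rfl⟩; exact hn hu⟩
  apply surj_open φ hφc (fun n => hat (U n)) (fun n => hat_isOpen _ (hUopen n))
    (fun m n h => hat_mono (hUanti h)) (hat_basis U hUbasis)
    (fun n => hat (T n)) (fun n => hat_isOpen _ (hTopen n))
    (fun m n h => hat_mono (hTanti h)) (hat_basis T hTbasis)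
  · intro n
    rw [coe_hat]
    apply closure_mono
    rintro _ ⟨_, ⟨u, hu, rfl⟩, rfl⟩
    refine ⟨(u : Completion G), subset_closure ⟨u, hu, rfl⟩, ?_⟩
    exact AddMonoidHom.completion_coe π hc u
  · refine Dense.mono ?_ Completion.denseRange_coe
    rintro _ ⟨h, rfl⟩
    obtain ⟨g, rfl⟩ := hsurj h
    exact ⟨(g : Completion G), AddMonoidHom.completion_coe π hc g⟩

end abstract

/-- Let M be a linearly topologized module over a ring R having a countable fundamental system of
neighbourhoods of 0, and N a submodule. With M^ and (M/N)^ the separated completions of M and of M/N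
(quotient topology, additive uniform structure), the induced map M^ → (M/N)^ is surjective and open
(so, its kernel being the completion of N, the sequence 0 → N^ → M^ → (M/N)^ → 0 is exact). -/
theorem result
    {R : Type u} [Ring R] {M : Type v} [AddCommGroup M] [Module R M] [UniformSpace M]
    [IsUniformAddGroup M] [IsLinearTopology R M] (hc : (nhds (0 : M)).IsCountablyGenerated)
    (N : Submodule R M) :
    Function.Surjective (@UniformSpace.Completion.map M _ (M ⧸ N.toAddSubgroup)
        (IsTopologicalAddGroup.rightUniformSpace (M ⧸ N.toAddSubgroup))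
        (QuotientAddGroup.mk' N.toAddSubgroup)) ∧
      IsOpenMap (@UniformSpace.Completion.map M _ (M ⧸ N.toAddSubgroup)
        (IsTopologicalAddGroup.rightUniformSpace (M ⧸ N.toAddSubgroup))
        (QuotientAddGroup.mk' N.toAddSubgroup)) := by
  let _ : UniformSpace (M ⧸ N.toAddSubgroup) :=
    IsTopologicalAddGroup.rightUniformSpace (M ⧸ N.toAddSubgroup)
  have : IsUniformAddGroup (M ⧸ N.toAddSubgroup) := isUniformAddGroup_of_addCommGroup
  have := hc
  obtain ⟨U, hUopen, hUanti⟩ :=
    (IsLinearTopology.hasBasis_open_submodule R (M := M)).exists_antitone_subbasis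
  have hUbasis := hUanti.toHasBasis
  refine key (QuotientAddGroup.mk' N.toAddSubgroup) QuotientAddGroup.continuous_mk
    QuotientAddGroup.isOpenMap_coe (QuotientAddGroup.mk'_surjective _)
    (fun n => (U n).toAddSubgroup) hUopen ?_ ?_
  · intro m n h x hx
    exact hUanti.antitone h hx
  · intro O hO
    obtain ⟨n, -, hn⟩ := hUbasis.mem_iff.mp hO
    exact ⟨n, hn⟩

end Groth.Agent.S10172
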