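import Groth.Statements.S10173
import Groth.Agent.S10172

set_option autoImplicit false
universe u v
open LinTop

namespace Groth.Agent.S10173

section helpers

open UniformSpace Topology Filter

lemma exists_decomp {R : Type*} [CommRing R] {M₀ : Type*} [AddCommGroup M₀] [Module R M₀]
    (G : Finset R) (N : Submodule R M₀) (z : M₀) (hz : z ∈ Ideal.span (G : Set R) • N) :
    ∃ w : R → M₀, (∀ r, w r ∈ N) ∧ z = ∑ r ∈ G, r • w r := by
  classical
  rw [Submodule.span_smul_eq, Submodule.mem_set_smul] at hz
  obtain ⟨c, hc, rfl⟩ := hz
  refine ⟨fun r => (c r : M₀), fun r => (c r).2, ?_⟩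
  rw [Finsupp.sum, AddSubmonoid.coe_finsetSum]
  refine Finset.sum_subset hc (fun r _ hr => ?_)
  rw [Finsupp.notMem_support_iff.1 hr]
  simp

variable {R : Type u} [CommRing R] {M : Type v} [AddCommGroup M] [Module R M] [UniformSpace M]
  [IsUniformAddGroup M] [UniformContinuousConstSMul R M]

/-- the canonical linear map to the completion -/
noncomputable def ιL : M →ₗ[R] Completion M where
  toFun := (↑)
  map_add' := Completion.coe_add
  map_smul' := fun c x => Completion.coe_smul c x

lemma ιL_apply (m : M) : (ιL (R := R) m : Completion M) = ((m : M) : Completion M) := rfl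

end helpers

/-- Let R be a commutative ring, I a finitely generated ideal and M a topological R-module (additive
uniform structure, each scalar acting uniformly continuously) having an open submodule M' whose
topology is the I-adic one, i.e. the I^n M' are open in M and form a fundamental system of
neighbourhoods of 0. Then the separated completion M^ has an open submodule whose topology is I-adic
in the same sense, and for every n ≥ 1 the map M → M^/I^n M^ is surjective with kernel I^n M,
identifying M^/I^n M^ with M/I^n M. -/
theorem result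
    {R : Type u} [CommRing R] (I : Ideal R) (hI : I.FG)
    {M : Type v} [AddCommGroup M] [Module R M] [UniformSpace M] [IsUniformAddGroup M]
    [UniformContinuousConstSMul R M]
    (M' : Submodule R M) (hopen : ∀ n : ℕ, IsOpen ((I ^ n • M' : Submodule R M) : Set M))
    (hbasis : ∀ U ∈ nhds (0 : M), ∃ n : ℕ, ((I ^ n • M' : Submodule R M) : Set M) ⊆ U) :
    (∃ M'' : Submodule R (UniformSpace.Completion M),
        (∀ n : ℕ, IsOpen ((I ^ n • M'' : Submodule R (UniformSpace.Completion M)) :
          Set (UniformSpace.Completion M))) ∧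
        ∀ U ∈ nhds (0 : UniformSpace.Completion M), ∃ n : ℕ,
          ((I ^ n • M'' : Submodule R (UniformSpace.Completion M)) :
            Set (UniformSpace.Completion M)) ⊆ U) ∧
      ∀ n : ℕ, 0 < n →
        Function.Surjective ((QuotientAddGroup.mk' (I ^ n • ⊤ : Submodule R (UniformSpace.Completion M)).toAddSubgroup).comp
          (UniformSpace.Completion.toCompl : M →+ UniformSpace.Completion M)) ∧
        ((QuotientAddGroup.mk' (I ^ n • ⊤ : Submodule R (UniformSpace.Completion M)).toAddSubgroup).comp
          (UniformSpace.Completion.toCompl : M →+ UniformSpace.Completion M)).ker = (I ^ n • ⊤ : Submodule R M).toAddSubgroup := by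
  classical
  let P : ℕ → Submodule R M := fun n => I ^ n • M'
  let C : ℕ → Submodule R (UniformSpace.Completion M) := fun n =>
    ((P n).map (ιL (R := R) (M := M))).topologicalClosure
  have hCcoe : ∀ n, (C n : Set (UniformSpace.Completion M)) =
      closure (((↑) : M → UniformSpace.Completion M) '' (P n : Set M)) := fun n => rfl
  have hP0 : P 0 = M' := by simp [P]
  have hPanti : Antitone P := fun m n h =>
    Submodule.smul_mono (Ideal.pow_le_pow_right h) le_rfl
  have hhat : ∀ n, (Groth.Agent.S10172.hat (P n).toAddSubgroup :
      Set (UniformSpace.Completion M)) = (C n : Set (UniformSpace.Completion M)) := fun n => rfl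
  have hCopen : ∀ n, IsOpen (C n : Set (UniformSpace.Completion M)) := fun n => by
    rw [← hhat]; exact Groth.Agent.S10172.hat_isOpen _ (hopen n)
  have hCanti : Antitone C := fun m n h x hx => by
    have hx' : x ∈ closure (((↑) : M → UniformSpace.Completion M) '' (P n : Set M)) := hx
    exact closure_mono (Set.image_mono (hPanti h)) hx'
  have hCbasis : ∀ O ∈ nhds (0 : UniformSpace.Completion M), ∃ n,
      (C n : Set (UniformSpace.Completion M)) ⊆ O := by
    intro O hO
    obtain ⟨n, hn⟩ := Groth.Agent.S10172.hat_basis (fun n => (P n).toAddSubgroup) hbasis O hO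
    exact ⟨n, hn⟩
  -- F2
  have hF2 : ∀ n, I ^ n • C 0 ≤ C n := by
    intro n
    rw [Submodule.smul_le]
    intro a ha x hx
    have hx' : x ∈ closure (((↑) : M → UniformSpace.Completion M) '' (P 0 : Set M)) := hx
    have : a • x ∈ closure (((↑) : M → UniformSpace.Completion M) '' (P n : Set M)) := by
      refine map_mem_closure (continuous_const_smul a) hx' ?_
      rintro _ ⟨m, hm, rfl⟩
      refine ⟨a • m, ?_, UniformSpace.Completion.coe_smul a m⟩
      have hm' : m ∈ M' := by rw [← hP0]; exact hm
      exact Submodule.smul_mem_smul ha hm'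
    exact this
  -- F3
  have hF3 : ∀ n, C n ≤ I ^ n • C 0 := by
    intro n
    obtain ⟨G, hG⟩ := (hI.pow (n := n) : (I ^ n).FG)
    let φ : (G → UniformSpace.Completion M) →+ UniformSpace.Completion M :=
      AddMonoidHom.mk' (fun ξ => ∑ g : G, (g : R) • ξ g)
        (by intro a b; simp [smul_add, Finset.sum_add_distrib])
    have hφc : Continuous φ :=
      continuous_finset_sum _ (fun g _ => (continuous_apply g).const_smul (g : R))
    let V : ℕ → AddSubgroup (G → UniformSpace.Completion M) := fun k =>
      AddSubgroup.pi Set.univ (fun _ => (C k).toAddSubgroup)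
    have hVopen : ∀ k, IsOpen (V k : Set (G → UniformSpace.Completion M)) := fun k => by
      have : (V k : Set (G → UniformSpace.Completion M)) =
          Set.pi Set.univ (fun _ => (C k : Set (UniformSpace.Completion M))) := rfl
      rw [this]; exact isOpen_set_pi Set.finite_univ (fun _ _ => hCopen k)
    have hVanti : Antitone V := fun m k h ξ hξ g hg => hCanti h (hξ g hg)
    have hVbasis : ∀ O ∈ nhds (0 : G → UniformSpace.Completion M), ∃ k,
        (V k : Set (G → UniformSpace.Completion M)) ⊆ O := by
      intro O hO
      rw [nhds_pi, Filter.mem_pi] at hO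
      obtain ⟨S, hS, t, ht, hst⟩ := hO
      have : ∀ g : G, ∃ k, (C k : Set (UniformSpace.Completion M)) ⊆ t g :=
        fun g => hCbasis _ (ht g)
      choose kk hkk using this
      refine ⟨Finset.univ.sup kk, fun ξ hξ => hst ?_⟩
      intro g _
      exact hkk g (hCanti (Finset.le_sup (Finset.mem_univ g)) (hξ g (Set.mem_univ g)))
    let W : ℕ → AddSubgroup (UniformSpace.Completion M) := fun k => (C (n + k)).toAddSubgroup
    have hdense : ∀ k, (W k : Set (UniformSpace.Completion M)) ⊆
        closure (φ '' (V k : Set (G → UniformSpace.Completion M))) := by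
      intro k
      change closure (((↑) : M → UniformSpace.Completion M) '' (P (n + k) : Set M)) ⊆ _
      apply closure_mono
      rintro _ ⟨z, hz, rfl⟩
      have hz' : z ∈ Ideal.span (G : Set R) • P k := by
        rw [hG]
        have : I ^ n • P k = P (n + k) := by
          simp only [P]; rw [← Submodule.mul_smul, ← pow_add]
        rw [this]; exact hz
      obtain ⟨w, hw, rfl⟩ := exists_decomp G (P k) z hz'
      refine ⟨fun g => ((w g : M) : UniformSpace.Completion M),
        fun g _ => subset_closure ⟨w g, hw g, rfl⟩, ?_⟩
      change ∑ g : G, (g : R) • (ιL (R := R) (w g) : UniformSpace.Completion M) =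
        ιL (R := R) (∑ r ∈ G, r • w r)
      rw [map_sum, Finset.sum_coe_sort G
        (fun r => r • (ιL (R := R) (w r) : UniformSpace.Completion M))]
      simp only [map_smul]
    have hmain := Groth.Agent.S10172.image_superset φ hφc V hVopen hVanti hVbasis W
      (fun k => hCopen (n + k)) (fun a b h => hCanti (Nat.add_le_add_left h n))
      (fun O hO => by
        obtain ⟨k, hk⟩ := hCbasis O hO
        exact ⟨k, subset_trans (hCanti (Nat.le_add_left k n)) hk⟩) hdense 0
    intro y hy
    obtain ⟨ξ, hξ, rfl⟩ := hmain y hy
    change ∑ g : G, (g : R) • ξ g ∈ I ^ n • C 0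
    refine Submodule.sum_mem _ (fun g _ => Submodule.smul_mem_smul ?_ (hξ g (Set.mem_univ g)))
    rw [← hG]; exact Ideal.subset_span g.2
  have hdenseM : ∀ (ξ : UniformSpace.Completion M) (k : ℕ), ∃ m : M,
      ξ - (m : UniformSpace.Completion M) ∈ C k := by
    intro ξ k
    have ho : IsOpen {ζ : UniformSpace.Completion M | ξ - ζ ∈ C k} :=
      (hCopen k).preimage (continuous_const.sub continuous_id)
    have hne : ξ ∈ {ζ : UniformSpace.Completion M | ξ - ζ ∈ C k} := by simp
    obtain ⟨m, hm⟩ := UniformSpace.Completion.denseRange_coe.exists_mem_open ho ⟨ξ, hne⟩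
    exact ⟨m, hm⟩
  have hClosedP : ∀ n, ∀ m : M, (m : UniformSpace.Completion M) ∈ C n → m ∈ P n := by
    intro n m hm
    have h1 : m ∈ closure (P n : Set M) := by
      rw [(UniformSpace.Completion.isUniformInducing_coe M).isInducing.closure_eq_preimage_closure_image]
      exact hm
    have hcl : IsClosed (P n : Set M) :=
      AddSubgroup.isClosed_of_isOpen (P n).toAddSubgroup (hopen n)
    rwa [hcl.closure_eq] at h1
  have hCeq : ∀ n, I ^ n • C 0 = C n := fun n => le_antisymm (hF2 n) (hF3 n)
  refine ⟨⟨C 0, fun n => ?_, fun U hU => ?_⟩, fun n _ => ⟨?_, ?_⟩⟩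
  · rw [hCeq n]; exact hCopen n
  · obtain ⟨n, hn⟩ := hCbasis U hU
    exact ⟨n, by rw [hCeq n]; exact hn⟩
  · intro q
    obtain ⟨ξ, rfl⟩ := QuotientAddGroup.mk_surjective q
    obtain ⟨m, hm⟩ := hdenseM ξ n
    refine ⟨m, ?_⟩
    change QuotientAddGroup.mk
      (s := (I ^ n • (⊤ : Submodule R (UniformSpace.Completion M))).toAddSubgroup)
      (m : UniformSpace.Completion M) = QuotientAddGroup.mk ξ
    rw [QuotientAddGroup.eq]
    have h1 : ξ - (m : UniformSpace.Completion M) ∈
        I ^ n • (⊤ : Submodule R (UniformSpace.Completion M)) :=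
      Submodule.smul_mono le_rfl le_top (hF3 n hm)
    have h2 : -(m : UniformSpace.Completion M) + ξ = ξ - (m : UniformSpace.Completion M) := by abel
    rw [h2]; exact h1
  · ext m
    rw [AddMonoidHom.mem_ker]
    change QuotientAddGroup.mk
      (s := (I ^ n • (⊤ : Submodule R (UniformSpace.Completion M))).toAddSubgroup)
      (m : UniformSpace.Completion M) = 0 ↔ m ∈ (I ^ n • (⊤ : Submodule R M))
    rw [QuotientAddGroup.eq_zero_iff]
    constructor
    · intro hm
      have hm' : (m : UniformSpace.Completion M) ∈
          I ^ n • (⊤ : Submodule R (UniformSpace.Completion M)) := hm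
      obtain ⟨G, hG⟩ := (hI.pow (n := n) : (I ^ n).FG)
      rw [← hG] at hm'
      obtain ⟨ξ, -, hξ⟩ := exists_decomp G ⊤ _ hm'
      choose mm hmm using fun r => hdenseM (ξ r) 0
      set m' := m - ∑ r ∈ G, r • mm r with hm'def
      have h1 : (ιL (R := R) m' : UniformSpace.Completion M) =
          ∑ r ∈ G, r • (ξ r - ιL (R := R) (mm r)) := by
        rw [hm'def, map_sub, map_sum]
        simp only [map_smul, smul_sub, Finset.sum_sub_distrib]
        rw [← hξ]; rfl
      have h2 : (m' : UniformSpace.Completion M) ∈ C n := by
        rw [← ιL_apply (R := R), h1]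
        apply hF2 n
        refine Submodule.sum_mem _ (fun r hr => Submodule.smul_mem_smul ?_ (hmm r))
        rw [← hG]; exact Ideal.subset_span hr
      have h3 : m' ∈ P n := hClosedP n m' h2
      have h4 : m = m' + ∑ r ∈ G, r • mm r := by rw [hm'def]; abel
      rw [h4]
      refine Submodule.add_mem _ (Submodule.smul_mono le_rfl le_top h3)
        (Submodule.sum_mem _ fun r hr => Submodule.smul_mem_smul ?_ Submodule.mem_top)
      rw [← hG]; exact Ideal.subset_span hr
    · intro hm
      have h1 : (ιL (R := R) m : UniformSpace.Completion M) ∈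
          (I ^ n • (⊤ : Submodule R M)).map (ιL (R := R) (M := M)) :=
        Submodule.mem_map_of_mem hm
      rw [Submodule.map_smul''] at h1
      exact Submodule.smul_mono le_rfl le_top h1

end Groth.Agent.S10173
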