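import Groth.Statements.S10179
import Groth.Agent.Lib.Helper3.AlgSpQC
import Groth.Agent.Lib.Helper3.AlgSpPoints2
import Groth.Agent.S10176

set_option autoImplicit false
universe u
open CategoryTheory CategoryTheory.Limits AlgebraicGeometry Topology TopologicalSpace
open AlgSp AlgSp.Points

namespace Groth.Agent.S10179

/-- For an algebraic space X over a scheme S, every point x of |X| has a fundamental system of
quasi-compact open neighbourhoods: every open subset of |X| containing x contains a quasi-compact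
open subset containing x. In particular |X| is locally quasi-compact. -/
theorem result {S : Scheme.{u}} (X : AlgSp.Space S) (x : AlgSp.Points X.obj)
    (W : Set (AlgSp.Points X.obj)) (hW : IsOpen W) (hx : x ∈ W) :
    ∃ V : Set (AlgSp.Points X.obj), IsOpen V ∧ IsCompact V ∧ x ∈ V ∧ V ⊆ W := by
  obtain ⟨U, u, hue, hus⟩ := X.property.atlas
  have hs := Groth.Agent.Lib.Helper3.surjective_map_of_repWith hus
  obtain ⟨z, rfl⟩ := hs x
  obtain ⟨t, rfl⟩ := (AlgSp.Points.schemeHomeo U).surjective z
  have hopen : IsOpen (AlgSp.Points.ofPt u ⁻¹' W) := hW.preimage (AlgSp.Points.continuous_ofPt u)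
  have htW : t ∈ AlgSp.Points.ofPt u ⁻¹' W := by
    change AlgSp.Points.ofPt u t ∈ W
    rw [AlgSp.Points.ofPt_eq_map_ofScheme]
    exact hx
  obtain ⟨_, ⟨A, hA, rfl⟩, htA, hAW⟩ :=
    (U.left.isBasis_affineOpens).exists_subset_of_mem_open htW hopen
  refine ⟨AlgSp.Points.ofPt u '' (A : Set U.left),
    Groth.Agent.S10176.result X u hue _ A.isOpen,
    (IsAffineOpen.isCompact hA).image (AlgSp.Points.continuous_ofPt u),
    ⟨t, htA, (AlgSp.Points.ofPt_eq_map_ofScheme u t)⟩, ?_⟩
  rintro _ ⟨a, ha, rfl⟩
  exact hAW ha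

end Groth.Agent.S10179
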