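import Groth.Statements.S10181
import Groth.Agent.Lib.Helper3.AlgSpDiag
import Mathlib.AlgebraicGeometry.Morphisms.Separated

set_option autoImplicit false
universe u
open CategoryTheory CategoryTheory.Limits AlgebraicGeometry Topology TopologicalSpace
open AlgSp

namespace Groth.Agent.S10181

/-- Let X be an algebraic space over a scheme S and a : h_U ⟶ X a representable etale map from a scheme
U over S whose underlying scheme is separated. Then a is (representable and) separated, and the
scheme R = U ×_X U representing the fibre product h_U ×_X h_U is separated. -/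
theorem result {S : Scheme.{u}} (X : AlgSp.Space S) {U : Over S}
    (a : (AlgSp.yon S).obj U ⟶ X.obj) (ha : AlgSp.RepWith @Etale a) [U.left.IsSeparated] :
    AlgSp.RepWith @IsSeparated a ∧
      ∀ (R : Over S) (s t : R ⟶ U), IsPullback ((AlgSp.yon S).map t) ((AlgSp.yon S).map s) a a →
        R.left.IsSeparated := by
  have part1 : AlgSp.RepWith @IsSeparated a := by
    refine ⟨ha.rep, fun T V g fst snd sq => ?_⟩
    change IsSeparated snd.left
    obtain ⟨φ, rfl⟩ := (AlgSp.yon S).map_surjective fst
    have sqD := Groth.Agent.Lib.Helper3.isPullback_diag_of_isPullback sq.flip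
    rw [Groth.Agent.Lib.Helper3.prod_lift_yon'] at sqD
    have hmono : Mono (Limits.diag X.obj) := by
      have : Limits.diag X.obj ≫ prod.fst = 𝟙 _ := by simp only [Limits.diag, prod.lift_fst]
      exact mono_of_mono_fac this
    have h1 : Mono ((AlgSp.yon S).map (prod.lift snd φ) ≫ prodComparison (AlgSp.yon S) T U) :=
      MorphismProperty.of_isPullback (P := MorphismProperty.monomorphisms _) sqD hmono
    have h2 : Mono ((AlgSp.yon S).map (prod.lift snd φ)) := mono_of_mono _ (prodComparison (AlgSp.yon S) T U)
    have h3 : Mono (prod.lift snd φ) := (AlgSp.yon S).mono_of_mono_map h2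
    have h4 : Mono (prod.lift snd φ).left := inferInstance
    have h5 : (prod.lift snd φ).left ≫ (prod.fst : T ⨯ U ⟶ T).left = snd.left := by
      rw [← Over.comp_left, prod.lift_fst]
    have h6 : IsSeparated (prod.fst : T ⨯ U ⟶ T).left := by
      rw [← Over.prodLeftIsoPullback_hom_fst]
      infer_instance
    rw [← h5]
    infer_instance
  refine ⟨part1, fun R s t hR => ?_⟩
  have hs : IsSeparated s.left := part1.property a _ _ hR
  constructor
  rw [← terminal.comp_from s.left]
  infer_instance

end Groth.Agent.S10181
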