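import Groth.Statements.S10186
import Groth.Agent.Lib.Helper3.AlgSpDiagAffine
-- import your own Groth.Agent.* helpers here

set_option autoImplicit false
universe u
open CategoryTheory CategoryTheory.Limits AlgebraicGeometry Topology TopologicalSpace
open AlgSp

namespace Groth.Agent.S10186

section H
namespace W1

open Groth.Agent.Lib.Helper3
open scoped TensorProduct

variable {S : Scheme.{u}}

/-- the ring map `Γ(U) ⊗_ℤ Γ(V) ⟶ Γ(P)` attached to two morphisms. -/
noncomputable def tens {P U V : Scheme.{u}} (f : P ⟶ U) (g : P ⟶ V) :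
    CommRingCat.of (Γ(U, ⊤) ⊗[ℤ] Γ(V, ⊤)) ⟶ Γ(P, ⊤) :=
  CommRingCat.ofHom
    (Algebra.TensorProduct.productMap f.appTop.hom.toIntAlgHom g.appTop.hom.toIntAlgHom).toRingHom

theorem tens_tmul {P U V : Scheme.{u}} (f : P ⟶ U) (g : P ⟶ V) (a : Γ(U, ⊤)) (b : Γ(V, ⊤)) :
    (tens f g).hom (a ⊗ₜ b) = f.appTop.hom a * g.appTop.hom b := by
  change (Algebra.TensorProduct.productMap f.appTop.hom.toIntAlgHom g.appTop.hom.toIntAlgHom)
    (a ⊗ₜ b) = _
  rw [Algebra.TensorProduct.productMap_apply_tmul]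
  rfl

theorem tens_comp {P P' U V : Scheme.{u}} (l : P' ⟶ P) (f : P ⟶ U) (g : P ⟶ V) :
    tens f g ≫ l.appTop = tens (l ≫ f) (l ≫ g) := by
  apply CommRingCat.hom_ext
  apply RingHom.ext
  intro x
  induction x using TensorProduct.induction_on with
  | zero => simp
  | tmul a b =>
    change l.appTop.hom ((tens f g).hom (a ⊗ₜ b)) = (tens (l ≫ f) (l ≫ g)).hom (a ⊗ₜ b)
    rw [tens_tmul, tens_tmul, map_mul]
    rfl
  | add x y hx hy =>
    rw [map_add, map_add, hx, hy]

noncomputable def inclL (U V : Scheme.{u}) : Γ(U, ⊤) ⟶ CommRingCat.of (Γ(U, ⊤) ⊗[ℤ] Γ(V, ⊤)) :=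
  CommRingCat.ofHom (Algebra.TensorProduct.includeLeftRingHom)

noncomputable def inclR (U V : Scheme.{u}) : Γ(V, ⊤) ⟶ CommRingCat.of (Γ(U, ⊤) ⊗[ℤ] Γ(V, ⊤)) :=
  CommRingCat.ofHom (Algebra.TensorProduct.includeRight (R := ℤ) (A := Γ(U, ⊤)) (B := Γ(V, ⊤))).toRingHom

theorem inclL_tens {P U V : Scheme.{u}} (f : P ⟶ U) (g : P ⟶ V) :
    inclL U V ≫ tens f g = f.appTop := by
  ext a
  change (tens f g).hom (a ⊗ₜ 1) = _
  rw [tens_tmul, map_one, mul_one]

theorem inclR_tens {P U V : Scheme.{u}} (f : P ⟶ U) (g : P ⟶ V) :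
    inclR U V ≫ tens f g = g.appTop := by
  ext b
  change (tens f g).hom (1 ⊗ₜ b) = _
  rw [tens_tmul, map_one, one_mul]

/-- the canonical morphism `P ⟶ Spec (Γ(U) ⊗_ℤ Γ(V))`. -/
noncomputable def toTens {P U V : Scheme.{u}} (f : P ⟶ U) (g : P ⟶ V) :
    P ⟶ Spec (CommRingCat.of (Γ(U, ⊤) ⊗[ℤ] Γ(V, ⊤))) :=
  P.toSpecΓ ≫ Spec.map (tens f g)

theorem comp_toTens {P P' U V : Scheme.{u}} (l : P' ⟶ P) (f : P ⟶ U) (g : P ⟶ V) :
    l ≫ toTens f g = toTens (l ≫ f) (l ≫ g) := by
  unfold toTens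
  rw [Scheme.toSpecΓ_naturality_assoc, ← Spec.map_comp, tens_comp]

theorem toTens_inclL {P U V : Scheme.{u}} (f : P ⟶ U) (g : P ⟶ V) :
    toTens f g ≫ Spec.map (inclL U V) = f ≫ U.toSpecΓ := by
  unfold toTens
  rw [Category.assoc, ← Spec.map_comp, inclL_tens, Scheme.toSpecΓ_naturality]

theorem toTens_inclR {P U V : Scheme.{u}} (f : P ⟶ U) (g : P ⟶ V) :
    toTens f g ≫ Spec.map (inclR U V) = g ≫ V.toSpecΓ := by
  unfold toTens
  rw [Category.assoc, ← Spec.map_comp, inclR_tens, Scheme.toSpecΓ_naturality]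

/-- for affine `U`, `V` over `S` the map `U ×_S V ⟶ Spec (Γ(U) ⊗_ℤ Γ(V))` is a monomorphism. -/
theorem mono_toTens_prod (U V : Over S) [IsAffine U.left] [IsAffine V.left] :
    Mono (toTens (prod.fst : U ⨯ V ⟶ U).left (prod.snd : U ⨯ V ⟶ V).left) := by
  refine ⟨fun {Z} x y hxy => ?_⟩
  have h1 : x ≫ (prod.fst : U ⨯ V ⟶ U).left = y ≫ (prod.fst : U ⨯ V ⟶ U).left := by
    rw [← cancel_mono U.left.toSpecΓ, Category.assoc, Category.assoc, ← toTens_inclL _
      (prod.snd : U ⨯ V ⟶ V).left, reassoc_of% hxy]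
  have h2 : x ≫ (prod.snd : U ⨯ V ⟶ V).left = y ≫ (prod.snd : U ⨯ V ⟶ V).left := by
    rw [← cancel_mono V.left.toSpecΓ, Category.assoc, Category.assoc, ← toTens_inclR
      (prod.fst : U ⨯ V ⟶ U).left, reassoc_of% hxy]
  have hy : y ≫ (U ⨯ V).hom = x ≫ (U ⨯ V).hom := by
    rw [← Over.w (prod.fst : U ⨯ V ⟶ U), ← Category.assoc, ← Category.assoc, h1]
  let x' : Over.mk (x ≫ (U ⨯ V).hom) ⟶ U ⨯ V := Over.homMk x rfl
  let y' : Over.mk (x ≫ (U ⨯ V).hom) ⟶ U ⨯ V := Over.homMk y hy
  have : x' = y' := by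
    apply Limits.prod.hom_ext
    · apply Over.OverMorphism.ext; exact h1
    · apply Over.OverMorphism.ext; exact h2
  exact congrArg (fun k => k.left) this

theorem main (X : AlgSp.Space S)
    (h : ∀ (U V P : Over S) (a : (AlgSp.yon S).obj U ⟶ X.obj) (b : (AlgSp.yon S).obj V ⟶ X.obj)
      (fst : P ⟶ U) (snd : P ⟶ V),
      IsAffine U.left → IsAffine V.left →
      IsPullback ((AlgSp.yon S).map fst) ((AlgSp.yon S).map snd) a b →
        IsAffine P.left ∧ Function.Surjective
          (Algebra.TensorProduct.productMap fst.left.appTop.hom.toIntAlgHom snd.left.appTop.hom.toIntAlgHom)) :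
    AlgSp.IsSeparatedSp X.obj := by
  refine repWith_diag_of_affine @IsClosedImmersion X.obj X.property.diag ?_
  intro T W a b fst snd hT sq
  obtain ⟨hW, hsurj⟩ := h T T W a b fst snd hT hT sq
  haveI : IsAffine T.left := hT
  haveI : IsAffine W.left := hW
  set l := (prod.lift fst snd).left with hl
  set j := toTens (prod.fst : T ⨯ T ⟶ T).left (prod.snd : T ⨯ T ⟶ T).left with hj
  haveI : Mono j := mono_toTens_prod T T
  have hlj : l ≫ j = toTens fst.left snd.left := by
    rw [hj, comp_toTens, hl, ← Over.comp_left, ← Over.comp_left, prod.lift_fst, prod.lift_snd]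
  haveI : IsClosedImmersion (Spec.map (tens fst.left snd.left)) :=
    IsClosedImmersion.spec_of_surjective _ hsurj
  haveI : IsClosedImmersion (l ≫ j) := by
    rw [hlj]; unfold toTens; infer_instance
  exact IsClosedImmersion.of_comp l j

end W1
end H


/-- Let X be an algebraic space over a scheme S such that for all affine schemes U, V over S mapping to
X and every scheme P over S representing h_U ×_X h_V, the scheme P is affine and the ring map from
the tensor product over the integers of the global sections of U and V to the global sections of P,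
induced by the two projections, is surjective. Then X is separated over S. (The published statement
concerns absolute separatedness, over the integers, which this hypothesis also gives and which
implies separatedness over S.) -/
theorem result {S : Scheme.{u}} (X : AlgSp.Space S)
    (h : ∀ (U V P : Over S) (a : (AlgSp.yon S).obj U ⟶ X.obj) (b : (AlgSp.yon S).obj V ⟶ X.obj)
      (fst : P ⟶ U) (snd : P ⟶ V),
      IsAffine U.left → IsAffine V.left →
      IsPullback ((AlgSp.yon S).map fst) ((AlgSp.yon S).map snd) a b →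
        IsAffine P.left ∧ Function.Surjective
          (Algebra.TensorProduct.productMap fst.left.appTop.hom.toIntAlgHom snd.left.appTop.hom.toIntAlgHom)) :
    AlgSp.IsSeparatedSp X.obj := by
  exact W1.main X h

end Groth.Agent.S10186
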