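import Groth.Statements.S10187
import Groth.Agent.S10186
import Groth.Agent.Lib.Helper3.AlgSpDiagAffine
-- import your own Groth.Agent.* helpers here

set_option autoImplicit false
universe u
open CategoryTheory CategoryTheory.Limits AlgebraicGeometry Topology TopologicalSpace
open AlgSp

namespace Groth.Agent.S10187

section H
namespace W1

open Groth.Agent.Lib.Helper3 Groth.Agent.S10186.W1
open scoped TensorProduct

variable {S : Scheme.{u}}

theorem ringHom_ext_tens {A B C : Type u} [CommRing A] [CommRing B] [CommRing C]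
    (f g : A ⊗[ℤ] B →+* C)
    (h1 : ∀ a, f (a ⊗ₜ 1) = g (a ⊗ₜ 1)) (h2 : ∀ b, f (1 ⊗ₜ b) = g (1 ⊗ₜ b)) : f = g := by
  apply RingHom.ext
  intro x
  induction x using TensorProduct.induction_on with
  | zero => simp
  | tmul a b =>
    have : a ⊗ₜ[ℤ] b = (a ⊗ₜ 1) * (1 ⊗ₜ b) := by
      rw [Algebra.TensorProduct.tmul_mul_tmul, mul_one, one_mul]
    rw [this, map_mul, map_mul, h1, h2]
  | add x y hx hy => rw [map_add, map_add, hx, hy]

theorem hom_ext_tens {Z U V : Scheme.{u}}
    (x y : Z ⟶ Spec (CommRingCat.of (Γ(U, ⊤) ⊗[ℤ] Γ(V, ⊤))))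
    (h1 : x ≫ Spec.map (inclL U V) = y ≫ Spec.map (inclL U V))
    (h2 : x ≫ Spec.map (inclR U V) = y ≫ Spec.map (inclR U V)) : x = y := by
  apply ext_of_isAffine
  rw [← cancel_epi (Scheme.ΓSpecIso (CommRingCat.of (Γ(U, ⊤) ⊗[ℤ] Γ(V, ⊤)))).inv]
  have e1 := congrArg (fun k => (Scheme.ΓSpecIso _).inv ≫ k.appTop) h1
  have e2 := congrArg (fun k => (Scheme.ΓSpecIso _).inv ≫ k.appTop) h2
  simp only [Scheme.Hom.comp_appTop, ← Category.assoc, ← Scheme.ΓSpecIso_inv_naturality] at e1 e2
  apply CommRingCat.hom_ext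
  apply ringHom_ext_tens
  · intro a
    exact congrArg (fun k => k.hom a) e1
  · intro b
    exact congrArg (fun k => k.hom b) e2

/-- over a separated base, `U ×_S V ⟶ Spec (Γ(U) ⊗_ℤ Γ(V))` is a closed immersion for affine
`U`, `V`. -/
theorem isClosedImmersion_toTens_prod [S.IsSeparated] (U V : Over S) [IsAffine U.left]
    [IsAffine V.left] :
    IsClosedImmersion (toTens (prod.fst : U ⨯ V ⟶ U).left (prod.snd : U ⨯ V ⟶ V).left) := by
  set pU := (prod.fst : U ⨯ V ⟶ U).left with hpU
  set pV := (prod.snd : U ⨯ V ⟶ V).left with hpV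
  set j := toTens pU pV with hj
  haveI : Mono j := mono_toTens_prod U V
  let α : Spec (CommRingCat.of (Γ(U.left, ⊤) ⊗[ℤ] Γ(V.left, ⊤))) ⟶ S :=
    Spec.map (inclL U.left V.left) ≫ U.left.isoSpec.inv ≫ U.hom
  let β : Spec (CommRingCat.of (Γ(U.left, ⊤) ⊗[ℤ] Γ(V.left, ⊤))) ⟶ S :=
    Spec.map (inclR U.left V.left) ≫ V.left.isoSpec.inv ≫ V.hom
  have hjα : j ≫ α = (U ⨯ V).hom := by
    change j ≫ Spec.map (inclL U.left V.left) ≫ U.left.isoSpec.inv ≫ U.hom = _
    rw [← Category.assoc, hj, toTens_inclL, Category.assoc, Scheme.toSpecΓ_isoSpec_inv_assoc]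
    exact Over.w (prod.fst : U ⨯ V ⟶ U)
  have hjβ : j ≫ β = (U ⨯ V).hom := by
    change j ≫ Spec.map (inclR U.left V.left) ≫ V.left.isoSpec.inv ≫ V.hom = _
    rw [← Category.assoc, hj, toTens_inclR, Category.assoc, Scheme.toSpecΓ_isoSpec_inv_assoc]
    exact Over.w (prod.snd : U ⨯ V ⟶ V)
  let ι := equalizer.ι α β
  let φ : (U ⨯ V).left ⟶ equalizer α β := equalizer.lift j (hjα.trans hjβ.symm)
  have hφ : φ ≫ ι = j := equalizer.lift_ι _ _
  let E : Over S := Over.mk (ι ≫ α)
  let ψ₁ : E ⟶ U := Over.homMk (ι ≫ Spec.map (inclL U.left V.left) ≫ U.left.isoSpec.inv)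
    (by simp only [Category.assoc]; rfl)
  let ψ₂ : E ⟶ V := Over.homMk (ι ≫ Spec.map (inclR U.left V.left) ≫ V.left.isoSpec.inv)
    (by
      simp only [Category.assoc]
      exact (equalizer.condition α β).symm)
  let ψ : equalizer α β ⟶ (U ⨯ V).left := (prod.lift ψ₁ ψ₂).left
  have hψ1 : ψ ≫ pU = ι ≫ Spec.map (inclL U.left V.left) ≫ U.left.isoSpec.inv := by
    change (prod.lift ψ₁ ψ₂).left ≫ (prod.fst : U ⨯ V ⟶ U).left = _
    rw [← Over.comp_left, prod.lift_fst]; rfl
  have hψ2 : ψ ≫ pV = ι ≫ Spec.map (inclR U.left V.left) ≫ V.left.isoSpec.inv := by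
    change (prod.lift ψ₁ ψ₂).left ≫ (prod.snd : U ⨯ V ⟶ V).left = _
    rw [← Over.comp_left, prod.lift_snd]; rfl
  have hψj : ψ ≫ j = ι := by
    apply hom_ext_tens
    · rw [Category.assoc, hj, toTens_inclL, reassoc_of% hψ1,
        Scheme.isoSpec_inv_toSpecΓ, Category.comp_id]
    · rw [Category.assoc, hj, toTens_inclR, reassoc_of% hψ2,
        Scheme.isoSpec_inv_toSpecΓ, Category.comp_id]
  have h1 : φ ≫ ψ = 𝟙 _ := by
    rw [← cancel_mono j, Category.assoc, hψj, hφ, Category.id_comp]
  have h2 : ψ ≫ φ = 𝟙 _ := by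
    rw [← cancel_mono ι, Category.assoc, hφ, hψj, Category.id_comp]
  haveI : IsIso φ := ⟨ψ, h1, h2⟩
  rw [← hφ]
  infer_instance

theorem main [S.IsSeparated]
    (X : AlgSp.Space S) (hX : AlgSp.IsSeparatedSp X.obj) (U V P : Over S) (a : (AlgSp.yon S).obj U ⟶ X.obj) (b : (AlgSp.yon S).obj V ⟶ X.obj)
      (fst : P ⟶ U) (snd : P ⟶ V)
    (hU : IsAffine U.left) (hV : IsAffine V.left)
    (h : IsPullback ((AlgSp.yon S).map fst) ((AlgSp.yon S).map snd) a b) :
    IsAffine P.left ∧ Function.Surjective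
          (Algebra.TensorProduct.productMap fst.left.appTop.hom.toIntAlgHom snd.left.appTop.hom.toIntAlgHom) := by
  have sqD := isPullback_diag_of_isPullback h
  rw [prod_lift_yon'] at sqD
  replace sqD := isPullback_shift_iso sqD
  haveI hci : IsClosedImmersion (prod.lift fst snd).left := hX.2 _ _ _ sqD
  haveI := isClosedImmersion_toTens_prod U V
  set l := (prod.lift fst snd).left with hl
  set j := toTens (prod.fst : U ⨯ V ⟶ U).left (prod.snd : U ⨯ V ⟶ V).left with hj
  have hlj : l ≫ j = toTens fst.left snd.left := by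
    rw [hj, comp_toTens, hl, ← Over.comp_left, ← Over.comp_left, prod.lift_fst, prod.lift_snd]
  haveI : IsClosedImmersion (toTens fst.left snd.left) := by
    rw [← hlj]; infer_instance
  obtain ⟨hP, hsurj⟩ := IsClosedImmersion.isAffine_surjective_of_isAffine (toTens fst.left snd.left)
  refine ⟨hP, ?_⟩
  have key : (toTens fst.left snd.left).appTop =
      (Scheme.ΓSpecIso _).hom ≫ tens fst.left snd.left := by
    unfold toTens
    rw [Scheme.Hom.comp_appTop, Scheme.toSpecΓ_appTop, Scheme.ΓSpecIso_naturality]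
  rw [key] at hsurj
  intro y
  obtain ⟨z, hz⟩ := hsurj y
  exact ⟨(Scheme.ΓSpecIso _).hom.hom z, hz⟩

end W1
end H


/-- Let S be a separated scheme and X an algebraic space over S whose diagonal over S is a closed
immersion. Then for all affine schemes U, V over S mapping to X and every scheme P over S
representing h_U ×_X h_V, the scheme P is affine and the ring map from the tensor product over the
integers of the global sections of U and V to the global sections of P, induced by the projections,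
is surjective. (The published statement uses absolute separatedness of X; over a separated base this
agrees with separatedness over S, and without a hypothesis on S the relative notion does not
suffice: take X = h_S for an affine line with doubled origin S and U, V the two copies of the line.) -/
theorem result {S : Scheme.{u}} [S.IsSeparated]
    (X : AlgSp.Space S) (hX : AlgSp.IsSeparatedSp X.obj) (U V P : Over S) (a : (AlgSp.yon S).obj U ⟶ X.obj) (b : (AlgSp.yon S).obj V ⟶ X.obj)
      (fst : P ⟶ U) (snd : P ⟶ V)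
    (hU : IsAffine U.left) (hV : IsAffine V.left)
    (h : IsPullback ((AlgSp.yon S).map fst) ((AlgSp.yon S).map snd) a b) :
    IsAffine P.left ∧ Function.Surjective
          (Algebra.TensorProduct.productMap fst.left.appTop.hom.toIntAlgHom snd.left.appTop.hom.toIntAlgHom) := by
  exact W1.main X hX U V P a b fst snd hU hV h

end Groth.Agent.S10187
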