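import Groth.Statements.S10188
import Groth.Agent.Lib.Helper3.AlgSpChartPts

set_option autoImplicit false
universe u
open CategoryTheory CategoryTheory.Limits AlgebraicGeometry Topology TopologicalSpace
open AlgSp

namespace Groth.Agent.S10188

/-- Let P be a property of schemes that is local in the etale topology (for every scheme V and every
etale covering family of V, V has P if and only if all members have P), and let X be an algebraic
space over a scheme S. Then X has P etale locally (some surjective etale chart from a scheme with P)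
if and only if every scheme admitting a representable etale map to X has P. -/
theorem result {S : Scheme.{u}} (P : Scheme.{u} → Prop)
    (hP : ∀ (V : Scheme.{u}) (𝒰 : Scheme.Cover.{u} (Scheme.precoverage @Etale) V), P V ↔ ∀ i, P (𝒰.X i))
    (X : AlgSp.Space S) :
    AlgSp.EtaleLocally P X.obj ↔
      ∀ (U : Over S) (a : (AlgSp.yon S).obj U ⟶ X.obj), AlgSp.RepWith @Etale a → P U.left := by
  constructor
  · rintro ⟨U₀, a₀, ha₀e, ha₀s, hU₀⟩ U a hae
    obtain ⟨W, pU, pU₀, sq⟩ := Groth.Agent.Lib.Helper3.exists_pullback_charts a hae.1 a₀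
    have hpU₀ : Etale pU₀.left := hae.2 a₀ ((AlgSp.yon S).map pU) pU₀ sq
    have hpU : Etale pU.left := ha₀e.2 a ((AlgSp.yon S).map pU₀) pU sq.flip
    have hpUs : Surjective pU.left := ha₀s.2 a ((AlgSp.yon S).map pU₀) pU sq.flip
    -- `W` has `P`
    let obj : Option PUnit.{u+1} → Scheme.{u} := fun o => o.elim U₀.left (fun _ => W.left)
    let map : ∀ j, obj j ⟶ U₀.left := fun o => match o with
      | none => 𝟙 _
      | some _ => pU₀.left
    have hmap : ∀ j, Etale (map j) := by
      rintro (_ | _)
      · change Etale (𝟙 U₀.left); infer_instance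
      · exact hpU₀
    let 𝒰₀ : Scheme.Cover.{u} (Scheme.precoverage @Etale) U₀.left :=
      Scheme.Cover.mkOfCovers (Option PUnit.{u+1}) obj map (fun x => ⟨none, x, rfl⟩) hmap
    have hW : P W.left := (hP U₀.left 𝒰₀).1 hU₀ (some PUnit.unit)
    let 𝒰 : Scheme.Cover.{u} (Scheme.precoverage @Etale) U.left :=
      Scheme.Cover.mkOfCovers PUnit.{u+1} (fun _ => W.left) (fun _ => pU.left)
        (fun x => ⟨PUnit.unit, hpUs.surj x⟩) (fun _ => hpU)
    exact (hP U.left 𝒰).2 (fun _ => hW)
  · intro h
    obtain ⟨U, a, hae, has⟩ := X.property.atlas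
    exact ⟨U, a, hae, has, h U a hae⟩

end Groth.Agent.S10188
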