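import Groth.Statements.S10189
import Groth.Agent.Lib.Helper15.AlgSpFT
import Groth.Agent.Lib.Helper25.ProConsScheme
import Groth.Agent.Lib.Helper3.AlgSpChartPts
-- import your own Groth.Agent.* helpers here

set_option autoImplicit false
universe u
open CategoryTheory CategoryTheory.Limits AlgebraicGeometry Topology TopologicalSpace
open AlgSp

namespace Groth.Agent.S10189

section H
namespace W39
open Groth.Agent.Lib.Helper3 Groth.Agent.Lib.Helper15.AlgSpFT Groth.Agent.Lib.Helper25.PC Topology

variable {S : Scheme.{u}}

theorem isLocallyConstructible_preimage {A B : Scheme.{u}} (g : A ⟶ B) {E : Set B}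
    (hE : IsLocallyConstructible E) : IsLocallyConstructible (g.base ⁻¹' E) := by
  rw [isLocallyConstructible_iff (locSpectral _)] at hE ⊢
  exact ⟨IndC.preimage g hE.1, ProC.preimage g hE.2⟩

theorem main (X : AlgSp.Space S)
    (E : Set (AlgSp.Points X.obj)) {U : Over S} (p : (AlgSp.yon S).obj U ⟶ X.obj)
    (hp : AlgSp.RepWith @Etale p) (hs : AlgSp.RepWith @Surjective p)
    (hE : IsLocallyConstructible (AlgSp.Points.ofPt p ⁻¹' E))
    {V : Over S} (a : (AlgSp.yon S).obj V ⟶ X.obj) (ha : AlgSp.RepWith @Etale a) :
    IsLocallyConstructible (AlgSp.Points.ofPt a ⁻¹' E) := by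
  obtain ⟨W, pV, pU, sq⟩ := exists_pullback_charts a ha.1 p
  have h1 : Etale pV.left := hp.2 a ((yon S).map pU) pV sq.flip
  have h2 : Surjective pV.left := hs.2 a ((yon S).map pU) pV sq.flip
  have hW : IsLocallyConstructible (pU.left.base ⁻¹' (Points.ofPt p ⁻¹' E)) :=
    isLocallyConstructible_preimage pU.left hE
  have heq : pV.left.base ⁻¹' (Points.ofPt a ⁻¹' E) =
      pU.left.base ⁻¹' (Points.ofPt p ⁻¹' E) := by
    ext w
    have e1 : Points.ofPt a (pV.left w) = Points.ofPt p (pU.left w) := by
      rw [← ofPt_yon_map_comp pV a w, ← ofPt_yon_map_comp pU p w, sq.w]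
    change Points.ofPt a (pV.left w) ∈ E ↔ Points.ofPt p (pU.left w) ∈ E
    rw [e1]
  rw [← heq] at hW
  exact (isLocallyConstructible_preimage_iff pV.left (Or.inr inferInstance)).1 hW

end W39
end H


/-- Let X be an algebraic space over a scheme S and E a subset of |X|. If the inverse image of E under
some representable etale surjective map h_U ⟶ X from a scheme U is a locally constructible subset of
U, then its inverse image under every representable etale map h_V ⟶ X from a scheme V is locally
constructible in V. -/
theorem result {S : Scheme.{u}} (X : AlgSp.Space S)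
    (E : Set (AlgSp.Points X.obj)) {U : Over S} (p : (AlgSp.yon S).obj U ⟶ X.obj)
    (hp : AlgSp.RepWith @Etale p) (hs : AlgSp.RepWith @Surjective p)
    (hE : IsLocallyConstructible (AlgSp.Points.ofPt p ⁻¹' E))
    {V : Over S} (a : (AlgSp.yon S).obj V ⟶ X.obj) (ha : AlgSp.RepWith @Etale a) :
    IsLocallyConstructible (AlgSp.Points.ofPt a ⁻¹' E) := by
  exact W39.main X E p hp hs hE a ha

end Groth.Agent.S10189
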