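import Groth.Statements.S10190
import Groth.Agent.Lib.Helper3.SchemeCodimZero
import Groth.Agent.Lib.Helper3.AlgSpHasAtMor

set_option autoImplicit false
universe u
open CategoryTheory CategoryTheory.Limits AlgebraicGeometry Topology TopologicalSpace
open AlgSp

namespace Groth.Agent.S10190

/-- For an algebraic space X over a scheme S, the set of codimension 0 points of X (points x of |X| such
that, for some representable etale h_U ⟶ X from a scheme U and some point u of U mapping to x, the
local ring of U at u has dimension 0) is dense in |X|. -/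
theorem result {S : Scheme.{u}} (X : AlgSp.Space S) :
    Dense {x : AlgSp.Points X.obj |
      AlgSp.HasAt (fun U u => ringKrullDim ↥(U.presheaf.stalk u) = 0) X.obj x} := by
  obtain ⟨U, a, hae, has⟩ := X.property.atlas
  rw [dense_iff_inter_open]
  intro W hW hne
  obtain ⟨x₀, hx₀⟩ := hne
  obtain ⟨u₀, hu₀⟩ := Groth.Agent.Lib.Helper3.exists_ofPt_eq a has x₀
  have hopen : IsOpen (Points.ofPt a ⁻¹' W) := hW.preimage (Points.continuous_ofPt a)
  obtain ⟨η, hηW, hη⟩ := Groth.Agent.Lib.Helper3.exists_mem_open_ringKrullDim_stalk_eq_zero U.left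
    (Points.ofPt a ⁻¹' W) hopen ⟨u₀, by rw [Set.mem_preimage, hu₀]; exact hx₀⟩
  exact ⟨Points.ofPt a η, hηW, U, a, η, hae, rfl, hη⟩

end Groth.Agent.S10190
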