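import Groth.Statements.S10197
import Groth.Agent.Lib.Helper3.ZarGlue
import Groth.Agent.Lib.Helper3.AlgSpOpenSubsp2
import Groth.Agent.Lib.Helper3.AlgSpZarDecent
import Groth.Agent.Lib.Helper3.AlgSpHasAtMor

set_option autoImplicit false
universe u
open CategoryTheory CategoryTheory.Limits AlgebraicGeometry Topology TopologicalSpace
open AlgSp

namespace Groth.Agent.S10197

/-- An algebraic space X over a scheme S has a largest open subspace which is a scheme: there is an open
subspace X' ⟶ X whose underlying sheaf is representable by a scheme over S, through which every open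
subspace of X with representable underlying sheaf factors. -/
theorem result {S : Scheme.{u}} (X : AlgSp.Space S) :
    ∃ (X' : AlgSp.Space S) (j : X' ⟶ X), AlgSp.RepWith @IsOpenImmersion j.hom ∧ X'.obj.obj.IsRepresentable ∧
      ∀ (X'' : AlgSp.Space S) (j'' : X'' ⟶ X), AlgSp.RepWith @IsOpenImmersion j''.hom →
        X''.obj.obj.IsRepresentable → ∃ k : X'' ⟶ X', k ≫ j = j'' := by
  classical
  have hX := X.property
  let W : Set (AlgSp.Points X.obj) := {x | ∃ (U : Over S) (a : (AlgSp.yon S).obj U ⟶ X.obj),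
    AlgSp.RepWith @IsOpenImmersion a ∧ x ∈ Set.range (AlgSp.Points.ofPt a)}
  have hW : IsOpen W := by
    rw [isOpen_iff_forall_mem_open]
    rintro x ⟨U, a, ha, hx⟩
    refine ⟨Set.range (AlgSp.Points.ofPt a), ?_, ?_, hx⟩
    · intro y hy
      exact ⟨U, a, ha, hy⟩
    · exact (Groth.Agent.Lib.Helper3.isOpenMap_ofPt a
        (Groth.Agent.Lib.Helper3.repWith_mono
          Groth.Agent.Lib.Helper3.isOpenImmersion_le_etale ha)).isOpen_range
  have hj : AlgSp.RepWith @IsOpenImmersion (Groth.Agent.Lib.Helper3.openSubι X.obj W) :=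
    Groth.Agent.Lib.Helper3.repWith_isOpenImmersion_openSubι X.obj W hW
  have hmono : Mono (Groth.Agent.Lib.Helper3.openSubι X.obj W) :=
    Groth.Agent.Lib.Helper3.mono_of_repWith_isOpenImmersion _ hj
  refine ⟨⟨Groth.Agent.Lib.Helper3.openSub X.obj W,
    Groth.Agent.Lib.Helper3.isAlgSpace_openSub hX W hW⟩,
    ObjectProperty.homMk (Groth.Agent.Lib.Helper3.openSubι X.obj W), hj, ?_, ?_⟩
  · obtain ⟨U₀, p, hpe, hps⟩ := hX.atlas
    have hchoose : ∀ i : {u : ↥U₀.left // AlgSp.Points.ofPt p u ∈ W},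
        ∃ (U : Over S) (a : (AlgSp.yon S).obj U ⟶ X.obj),
          AlgSp.RepWith @IsOpenImmersion a ∧
            AlgSp.Points.ofPt p i.1 ∈ Set.range (AlgSp.Points.ofPt a) := fun i => i.2
    choose U a ha hxa using hchoose
    have hfac : ∀ i, ∃ a' : (AlgSp.yon S).obj (U i) ⟶ Groth.Agent.Lib.Helper3.openSub X.obj W,
        a' ≫ Groth.Agent.Lib.Helper3.openSubι X.obj W = a i := fun i =>
      Groth.Agent.Lib.Helper3.exists_factor_of_range_subset _ hj (a i) (by
        rw [Groth.Agent.Lib.Helper3.range_map_openSubι,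
          Groth.Agent.Lib.Helper3.range_map_eq_range_ofPt]
        rintro _ ⟨u, rfl⟩
        exact ⟨U i, a i, ha i, u, rfl⟩)
    choose a' ha' using hfac
    have ha'o : ∀ i, AlgSp.RepWith @IsOpenImmersion (a' i) := fun i =>
      MorphismProperty.of_isPullback
        (IsPullback.of_horiz_isIso_mono ⟨by rw [Category.id_comp, ha' i]⟩ :
          IsPullback (𝟙 _) (a' i) (a i) (Groth.Agent.Lib.Helper3.openSubι X.obj W)) (ha i)
    have hs : ∀ x : AlgSp.Points (Groth.Agent.Lib.Helper3.openSub X.obj W),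
        ∃ (i : {u : ↥U₀.left // AlgSp.Points.ofPt p u ∈ W}) (u : ↥(U i).left),
          AlgSp.Points.ofPt (a' i) u = x := by
      intro x
      have hxW : AlgSp.Points.map (Groth.Agent.Lib.Helper3.openSubι X.obj W) x ∈ W := by
        have : AlgSp.Points.map (Groth.Agent.Lib.Helper3.openSubι X.obj W) x ∈
          Set.range (AlgSp.Points.map (Groth.Agent.Lib.Helper3.openSubι X.obj W)) := ⟨x, rfl⟩
        rwa [Groth.Agent.Lib.Helper3.range_map_openSubι] at this
      obtain ⟨u₀, hu₀⟩ := Groth.Agent.Lib.Helper3.exists_ofPt_eq p hps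
        (AlgSp.Points.map (Groth.Agent.Lib.Helper3.openSubι X.obj W) x)
      obtain ⟨u, hu⟩ := hxa ⟨u₀, by rw [hu₀]; exact hxW⟩
      refine ⟨⟨u₀, by rw [hu₀]; exact hxW⟩, u, ?_⟩
      apply Groth.Agent.Lib.Helper3.Points.map_injective_of_mono
        (Groth.Agent.Lib.Helper3.openSubι X.obj W)
      rw [AlgSp.Points.map_ofPt, ha', hu, hu₀]
    obtain ⟨G, e, -⟩ := Groth.Agent.Lib.Helper3.exists_iso_yon_of_openCover a' ha'o hs
    exact ⟨G, ⟨AlgSp.representableByOfIso e⟩⟩
  · intro X'' j'' hj'' hrep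
    obtain ⟨G, ⟨r⟩⟩ := hrep.has_representation
    let e := AlgSp.isoOfRepresentableBy r
    have hsub : Set.range (AlgSp.Points.map j''.hom) ⊆
        Set.range (AlgSp.Points.map (Groth.Agent.Lib.Helper3.openSubι X.obj W)) := by
      rw [Groth.Agent.Lib.Helper3.range_map_openSubι]
      rintro _ ⟨y, rfl⟩
      refine ⟨G, e.hom ≫ j''.hom, ?_, ?_⟩
      · exact (AlgSp.RepWith @IsOpenImmersion).comp_mem _ _
          (MorphismProperty.RespectsIso.precomp _ e.hom (𝟙 _)
            (Groth.Agent.Lib.Helper3.repWith_isOpenImmersion_id _) |> fun h => by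
              simpa using h) hj''
      · obtain ⟨g, hg⟩ := (AlgSp.Points.schemeHomeo G).surjective (AlgSp.Points.map e.inv y)
        refine ⟨g, ?_⟩
        rw [AlgSp.Points.ofPt_eq_map_ofScheme]
        change AlgSp.Points.map _ (AlgSp.Points.schemeHomeo G g) = _
        rw [hg, ← AlgSp.Points.map_comp, Iso.inv_hom_id_assoc]
    obtain ⟨k, hk⟩ := Groth.Agent.Lib.Helper3.exists_factor_of_range_subset _ hj j''.hom hsub
    exact ⟨ObjectProperty.homMk k, ObjectProperty.hom_ext _ hk⟩

end Groth.Agent.S10197
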