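import Groth.Statements.S10214
import Groth.Agent.Lib.Helper3.AlgSpChartPts
import Groth.Agent.Lib.Helper3.AlgSpOpenSubsp2
import Groth.Agent.Lib.Helper3.AlgSpHasAtMor

set_option autoImplicit false
universe u
open CategoryTheory CategoryTheory.Limits AlgebraicGeometry Topology TopologicalSpace
open AlgSp

namespace Groth.Agent.S10214

/-- Every algebraic space X over a scheme S has a Zariski covering by open subspaces X_i such that each
X_i has a surjective etale map from an affine scheme; moreover the affine schemes may be taken to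
map into affine opens of S. -/
theorem result {S : Scheme.{u}} (X : AlgSp.Space S) :
    ∃ (ι : Type u) (Xi : ι → AlgSp.Space S) (j : ∀ i, Xi i ⟶ X),
      AlgSp.IsZarCover (fun i => (Xi i).obj) (fun i => (j i).hom) ∧
        ∀ i, ∃ (U : Over S) (p : (AlgSp.yon S).obj U ⟶ (Xi i).obj), IsAffine U.left ∧
          AlgSp.RepWith @Etale p ∧ AlgSp.RepWith @Surjective p ∧
          ∃ W : S.Opens, IsAffineOpen W ∧ ∀ v : ↥U.left, U.hom v ∈ W := by
  obtain ⟨U, a, hae, has⟩ := X.property.atlas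
  have key : ∀ u : ↥U.left, ∃ (V₀ : U.left.Opens) (W : S.Opens), IsAffineOpen V₀ ∧ u ∈ V₀ ∧
      IsAffineOpen W ∧ ∀ v ∈ V₀, U.hom v ∈ W := by
    intro u
    obtain ⟨W, hW, huW, -⟩ := exists_isAffineOpen_mem_and_subset (x := U.hom u) (U := ⊤) trivial
    obtain ⟨V₀, hV₀, huV₀, hsub⟩ := exists_isAffineOpen_mem_and_subset (x := u)
      (U := U.hom ⁻¹ᵁ W) huW
    exact ⟨V₀, W, hV₀, huV₀, hW, fun v hv => hsub hv⟩
  choose V₀ W hV₀ huV₀ hW hVW using key
  -- the open image of each affine chart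
  let Ω : ↥U.left → Set (Points X.obj) := fun u => Points.ofPt a '' (V₀ u : Set ↥U.left)
  have hΩ : ∀ u, IsOpen (Ω u) := fun u =>
    Groth.Agent.Lib.Helper3.isOpenMap_ofPt a hae _ (V₀ u).2
  have hrange : ∀ u, Set.range (Points.ofPt (Groth.Agent.Lib.Helper3.chartRestrict a (V₀ u))) =
      Ω u := by
    intro u
    ext x
    constructor
    · rintro ⟨v, rfl⟩
      exact ⟨(V₀ u).ι v, v.2, (Groth.Agent.Lib.Helper3.ofPt_chartRestrict a (V₀ u) v).symm⟩
    · rintro ⟨v, hv, rfl⟩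
      exact ⟨⟨v, hv⟩, Groth.Agent.Lib.Helper3.ofPt_chartRestrict a (V₀ u) ⟨v, hv⟩⟩
  refine ⟨↥U.left,
    fun u => ⟨Groth.Agent.Lib.Helper3.openSub X.obj (Ω u),
      Groth.Agent.Lib.Helper3.isAlgSpace_openSub X.property (Ω u) (hΩ u)⟩,
    fun u => ObjectProperty.homMk (Groth.Agent.Lib.Helper3.openSubι X.obj (Ω u)), ⟨?_, ?_⟩, ?_⟩
  · intro u
    exact Groth.Agent.Lib.Helper3.repWith_isOpenImmersion_openSubι X.obj (Ω u) (hΩ u)
  · intro x
    obtain ⟨u, rfl⟩ := Groth.Agent.Lib.Helper3.exists_ofPt_eq a has x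
    refine ⟨u, ?_⟩
    change Points.ofPt a u ∈ Set.range (Points.map (Groth.Agent.Lib.Helper3.openSubι X.obj (Ω u)))
    rw [Groth.Agent.Lib.Helper3.range_map_openSubι]
    exact ⟨u, huV₀ u, rfl⟩
  · intro u
    obtain ⟨a', -, hae', has', -⟩ := Groth.Agent.Lib.Helper3.exists_factor_surjective_etale
      (Groth.Agent.Lib.Helper3.chartRestrict a (V₀ u))
      (Groth.Agent.Lib.Helper3.chartRestrict_etale a hae (V₀ u))
      (Groth.Agent.Lib.Helper3.openSubι X.obj (Ω u))
      (Groth.Agent.Lib.Helper3.repWith_isOpenImmersion_openSubι X.obj (Ω u) (hΩ u))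
      (by rw [Groth.Agent.Lib.Helper3.range_map_openSubι, hrange])
    refine ⟨Over.mk ((V₀ u).ι ≫ U.hom), a', hV₀ u, hae', has', W u, hW u, fun v => ?_⟩
    change ((V₀ u).ι ≫ U.hom) v ∈ W u
    rw [Scheme.Hom.comp_apply]
    exact hVW u _ v.2

end Groth.Agent.S10214
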