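import Groth.Statements.S10198
import Groth.Agent.S10214
import Groth.Agent.S10182
import Groth.Agent.Lib.Helper3.QSepChart
set_option backward.isDefEq.respectTransparency.types false

set_option autoImplicit false
universe u
open CategoryTheory CategoryTheory.Limits AlgebraicGeometry Topology TopologicalSpace
open AlgSp

namespace Groth.Agent.S10198

/-- (1) if and only if (3): for an algebraic space X over a scheme S, X is Zariski locally
quasi-separated over S (it has a Zariski covering by open subspaces whose diagonals over S are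
quasi-compact) if and only if X has a Zariski covering by open subspaces each of which admits a
quasi-compact, etale, surjective map from an affine scheme. Since the second condition does not
mention S, being Zariski locally quasi-separated does not depend on the base. -/
theorem result {S : Scheme.{u}} (X : AlgSp.Space S) :
    (∃ (ι : Type u) (Xi : ι → AlgSp.Space S) (j : ∀ i, Xi i ⟶ X),
        AlgSp.IsZarCover (fun i => (Xi i).obj) (fun i => (j i).hom) ∧ ∀ i, AlgSp.IsQuasiSeparatedSp (Xi i).obj) ↔
      (∃ (ι : Type u) (Xi : ι → AlgSp.Space S) (j : ∀ i, Xi i ⟶ X),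
        AlgSp.IsZarCover (fun i => (Xi i).obj) (fun i => (j i).hom) ∧
          ∀ i, ∃ (U : Over S) (p : (AlgSp.yon S).obj U ⟶ (Xi i).obj), IsAffine U.left ∧
            AlgSp.RepWith @QuasiCompact p ∧ AlgSp.RepWith @Etale p ∧ AlgSp.RepWith @Surjective p) := by
  open Groth.Agent.Lib.Helper3 Groth.Agent.Lib.Helper3.QSepChart in
  constructor
  · rintro ⟨ι, Xi, j, hcov, hqs⟩
    choose κ Xia ja hcova hcharts using fun i => Groth.Agent.S10214.result (Xi i)
    refine ⟨Σ i, κ i, fun r => Xia r.1 r.2, fun r => ja r.1 r.2 ≫ j r.1, ⟨?_, ?_⟩, ?_⟩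
    · rintro ⟨i, a⟩
      exact MorphismProperty.comp_mem _ _ _ ((hcova i).1 a) (hcov.1 i)
    · intro x
      obtain ⟨i, y, rfl⟩ := hcov.2 x
      obtain ⟨a, z, rfl⟩ := (hcova i).2 y
      exact ⟨⟨i, a⟩, z, (Points.map_comp _ _ z)⟩
    · rintro ⟨i, a⟩
      obtain ⟨U, p, hU, hpe, hps, W, hW, hUW⟩ := hcharts i a
      have hq : IsQuasiSeparatedSp (Xia i a).obj :=
        isQuasiSeparatedSp_of_openImmersion (ja i a).hom ((hcova i).1 a) (hqs i)
      exact ⟨U, p, hU, repWith_quasiCompact_of_affine_chart (Xia i a).property hq p hps W hW hUW,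
        hpe, hps⟩
  · rintro ⟨ι, Xi, j, hcov, hch⟩
    refine ⟨ι, Xi, j, hcov, fun i => ?_⟩
    obtain ⟨U, p, hU, hqc, hpe, hps⟩ := hch i
    obtain ⟨R, s, fst, sq⟩ := hpe.1 p
    obtain ⟨t, rfl⟩ := (yon S).map_surjective fst
    have : QuasiCompact t.left := hqc.property _ _ _ sq.flip
    exact Groth.Agent.S10182.result (Xi i) p hpe hps s t sq

end Groth.Agent.S10198
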