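import Groth.Statements.S10202
import Groth.Agent.Lib.Helper3.AlgSpNoethChart
import Groth.Agent.Lib.Helper3.AlgSpHasAtMor
import Groth.Agent.Lib.Helper3.AlgSpChartPts

set_option autoImplicit false
universe u
open CategoryTheory CategoryTheory.Limits AlgebraicGeometry Topology TopologicalSpace
open AlgSp

namespace Groth.Agent.S10202

/-- If X is a locally Noetherian algebraic space over a scheme S, then the space |X| is locally
Noetherian: every point of |X| has an open neighbourhood which is a Noetherian topological space in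
the induced topology. -/
theorem result {S : Scheme.{u}} (X : AlgSp.Space S)
    (hX : AlgSp.IsLocNoethSp X.obj) (x : AlgSp.Points X.obj) :
    ∃ W : Set (AlgSp.Points X.obj), IsOpen W ∧ x ∈ W ∧ NoetherianSpace ↥W := by
  obtain ⟨V, b, hbe, hbs, hV⟩ := hX
  have hVn : IsLocallyNoetherian V.left := hV
  obtain ⟨v, rfl⟩ := Groth.Agent.Lib.Helper3.exists_ofPt_eq b hbs x
  obtain ⟨V₀, hV₀, hvV₀, -⟩ := exists_isAffineOpen_mem_and_subset (x := v) (U := ⊤) trivial
  have hnr : IsNoetherianRing Γ(V.left, V₀) := hVn.component_noetherian ⟨V₀, hV₀⟩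
  have hns : NoetherianSpace ↥V₀ := noetherianSpace_of_isAffineOpen V₀ hV₀
  refine ⟨Points.ofPt b '' (V₀ : Set ↥V.left),
    Groth.Agent.Lib.Helper3.isOpenMap_ofPt b hbe _ V₀.2, ⟨v, hvV₀, rfl⟩, ?_⟩
  refine noetherianSpace_of_surjective
    (fun w : ↥V₀ => (⟨Points.ofPt b w.1, ⟨w.1, w.2, rfl⟩⟩ : ↥(Points.ofPt b '' (V₀ : Set ↥V.left))))
    ((Points.continuous_ofPt b).comp continuous_subtype_val |>.subtype_mk _) ?_
  rintro ⟨_, w, hw, rfl⟩
  exact ⟨⟨w, hw⟩, rfl⟩

end Groth.Agent.S10202
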