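import Groth.Statements.S10205
import Groth.Agent.Lib.Helper15.FieldQuotSp
import Groth.Agent.Lib.Helper3.AlgSpDiagAffine
import Groth.Agent.S9945
-- import your own Groth.Agent.* helpers here

set_option autoImplicit false
universe u
open CategoryTheory CategoryTheory.Limits AlgebraicGeometry Topology TopologicalSpace
open AlgSp

namespace Groth.Agent.S10205

section H
namespace W1

open Groth.Agent.Lib.Helper3 Groth.Agent.Lib.Helper15.FieldQuot

/-- an etale morphism from a quasi-compact scheme to the spectrum of a field is finite. -/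
theorem isFinite_of_etale_of_compact {k : Type u} [Field k] {W : Scheme.{u}}
    (q : W ⟶ Spec (CommRingCat.of k)) [Etale q] [CompactSpace ↥W] : IsFinite q := by
  have hq : QuasiCompact q := (HasAffineProperty.iff_of_isAffine (P := @QuasiCompact)).2 ‹_›
  haveI : LocallyQuasiFinite q := Groth.Agent.S9945.W1.locallyQuasiFinite_of_etale q
  exact IsFinite.of_locallyQuasiFinite q

/-- the self-product over `S` of the spectrum of a field is quasi-compact. -/
theorem compactSpace_prod_field {S : Scheme.{u}} {k : Type u} [Field k]
    (str : Spec (CommRingCat.of k) ⟶ S) :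
    CompactSpace ↥((Over.mk str) ⨯ (Over.mk str)).left := by
  have hfin : Finite ↥(Spec (CommRingCat.of k)) := inferInstance
  have hstr : QuasiCompact str := ⟨fun U _ _ => (Set.toFinite _).isCompact⟩
  have h1 : QuasiCompact (pullback.fst str str) := inferInstance
  have : CompactSpace ↥(pullback (Over.mk str).hom (Over.mk str).hom) :=
    QuasiCompact.compactSpace_of_compactSpace (pullback.fst str str)
  exact (Over.prodLeftIsoPullback (Over.mk str) (Over.mk str)).hom.homeomorph.symm.compactSpace

theorem main {S : Scheme.{u}} (X : AlgSp.Space S)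
    (hX : AlgSp.IsQuasiSeparatedSp X.obj) (k : Type u) [Field k] (str : Spec (CommRingCat.of k) ⟶ S)
    (p : (AlgSp.yon S).obj (Over.mk str) ⟶ X.obj) (hp : AlgSp.RepWith @Etale p) (hs : AlgSp.RepWith @Surjective p) :
    ∃ (k' : Type u) (_ : Field k') (str' : Spec (CommRingCat.of k') ⟶ S)
      (e : (AlgSp.yon S).obj (Over.mk str') ≅ X.obj) (c : Over.mk str ⟶ Over.mk str'),
      (AlgSp.yon S).map c ≫ e.hom = p ∧ IsFinite c.left ∧ Etale c.left := by
  -- the kernel pair
  obtain ⟨R, fst', snd, sq0⟩ : ∃ (R : Over S) (fst' : (yon S).obj R ⟶ (yon S).obj (Over.mk str))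
      (snd : R ⟶ Over.mk str), IsPullback fst' ((yon S).map snd) p p :=
    ⟨_, _, _, hp.rep.isPullback p⟩
  obtain ⟨fst, rfl⟩ := (yon S).map_surjective fst'
  have sq : IsPullback ((yon S).map fst) ((yon S).map snd) p p := sq0
  have hfe : Etale fst.left := hp.property _ _ _ sq.flip
  -- compactness
  have sqD := isPullback_diag_of_isPullback sq
  rw [prod_lift_yon'] at sqD
  replace sqD := isPullback_shift_iso sqD
  have hqc : QuasiCompact (prod.lift fst snd).left := hX.2 _ _ _ sqD
  haveI := compactSpace_prod_field str
  haveI : CompactSpace ↥R.left := QuasiCompact.compactSpace_of_compactSpace (prod.lift fst snd).left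
  haveI : IsFinite fst.left := isFinite_of_etale_of_compact fst.left
  obtain ⟨k', hfin, str', c, p', hcl, hfac, hmono, hc, sqc⟩ :=
    exists_mono_quotient str p fst snd sq
  -- `p'` is an isomorphism
  have hpsurj : Sheaf.IsLocallySurjective p :=
    Groth.Agent.S9885.result S _ _ p
      (repWith_mono (fun _ _ f (hf : Etale f) => (inferInstance : Flat f)) hp)
      (repWith_mono (fun _ _ f (hf : Etale f) => (inferInstance : LocallyOfFinitePresentation f)) hp)
      hs
  have hp'surj : Sheaf.IsLocallySurjective p' :=
    Presheaf.isLocallySurjective_of_isLocallySurjective_fac (J S)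
      (f₁ := ((yon S).map c).hom) (f₂ := p'.hom) (f₃ := p.hom)
      (congrArg (fun k => k.hom) hfac)
  haveI : IsIso p' :=
    (Sheaf.isLocallyBijective_iff_isIso p').1 ⟨isLocallyInjective_of_mono p', hp'surj⟩
  refine ⟨k', inferInstance, str', asIso p', c, hfac, ?_, ?_⟩
  · rw [hcl, IsFinite.SpecMap_iff]
    exact hfin
  · have h1 : RepWith @Etale ((yon S).map c ≫ p') := hfac ▸ hp
    have h2 : RepWith @Etale ((yon S).map c) :=
      (MorphismProperty.cancel_right_of_respectsIso (RepWith @Etale) ((yon S).map c) p').1 h1
    exact (repWith_yon_map_iff _ c).1 h2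

end W1
end H


/-- Let X be an algebraic space over a scheme S, k a field with a structure morphism Spec k ⟶ S, and p :
h_{Spec k} ⟶ X a surjective etale map. If the diagonal of X over S is quasi-compact, then X ≅
h_{Spec k'} for a field k' over S, where p corresponds to a finite etale morphism Spec k ⟶ Spec k'
over S (that is, k is a finite separable extension of k'). (The published statement assumes X
quasi-separated in the absolute sense; the argument only uses that Spec k ×_X Spec k is
quasi-compact, which already follows from quasi-compactness of the diagonal over S since Spec k ×_S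
Spec k is affine.) -/
theorem result {S : Scheme.{u}} (X : AlgSp.Space S)
    (hX : AlgSp.IsQuasiSeparatedSp X.obj) (k : Type u) [Field k] (str : Spec (CommRingCat.of k) ⟶ S)
    (p : (AlgSp.yon S).obj (Over.mk str) ⟶ X.obj) (hp : AlgSp.RepWith @Etale p) (hs : AlgSp.RepWith @Surjective p) :
    ∃ (k' : Type u) (_ : Field k') (str' : Spec (CommRingCat.of k') ⟶ S)
      (e : (AlgSp.yon S).obj (Over.mk str') ≅ X.obj) (c : Over.mk str ⟶ Over.mk str'),
      (AlgSp.yon S).map c ≫ e.hom = p ∧ IsFinite c.left ∧ Etale c.left := by
  exact W1.main X hX k str p hp hs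

end Groth.Agent.S10205
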