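import Groth.Statements.S9975
import Groth.Agent.Lib.Helper15.FTPointClosed
import Groth.Agent.Lib.Helper15.AlgSpFT
import Groth.Agent.S9945
-- import your own Groth.Agent.* helpers here

set_option autoImplicit false
universe u
open CategoryTheory CategoryTheory.Limits AlgebraicGeometry
open AlgSp

namespace Groth.Agent.S9975

section H
namespace W1

open Groth.Agent.Lib.Helper3 Groth.Agent.Lib.Helper15

theorem discreteTopology_of_etale_field {k : Type u} [Field k] {P : Scheme.{u}}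
    (pr : P ⟶ Spec (CommRingCat.of k)) [Etale pr] : DiscreteTopology ↥P := by
  haveI : LocallyQuasiFinite pr := Groth.Agent.S9945.W1.locallyQuasiFinite_of_etale pr
  have h := pr.isDiscrete_preimage_singleton (IsLocalRing.closedPoint k)
  have huniv : pr ⁻¹' {IsLocalRing.closedPoint k} = Set.univ := by
    ext w
    simp only [Set.mem_preimage, Set.mem_univ, iff_true]
    exact Subsingleton.elim _ _
  have h' : _root_.IsDiscrete (Set.univ : Set ↥P) := huniv ▸ h
  exact isDiscrete_univ_iff.1 h'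

theorem forward {S : Scheme.{u}} (X : AlgSp.Space S) (x : AlgSp.Points X.obj)
    (k : Type u) [Field k] (str : Spec (CommRingCat.of k) ⟶ S)
    (ξ : (AlgSp.yon S).obj (Over.mk str) ⟶ X.obj)
    (hξ : AlgSp.LocP @LocallyOfFiniteType ξ)
    (hx : AlgSp.Points.ofPt ξ (IsLocalRing.closedPoint k) = x) :
    ∃ (U : Over S) (φ : (AlgSp.yon S).obj U ⟶ X.obj) (u : ↥U.left), AlgSp.RepWith @Etale φ ∧
        IsClosed ({u} : Set ↥U.left) ∧ AlgSp.Points.ofPt φ u = x := by
  obtain ⟨U, u, hue, hus⟩ := X.property.atlas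
  obtain ⟨P, g', pr, sq0⟩ : ∃ (P : Over S) (g' : (yon S).obj P ⟶ (yon S).obj U)
      (pr : P ⟶ Over.mk str), IsPullback g' ((yon S).map pr) u ξ :=
    ⟨_, _, _, hue.rep.isPullback ξ⟩
  obtain ⟨g, rfl⟩ := (yon S).map_surjective g'
  have hpe : Etale pr.left := hue.property _ _ _ sq0
  have hps : Surjective pr.left := hus.property _ _ _ sq0
  obtain ⟨w, hw⟩ := hps.surj (IsLocalRing.closedPoint k)
  have hg : LocallyOfFiniteType g.left :=
    hξ ((yon S).map pr) u g ((repWith_yon_map_iff _ pr).2 hpe) hue sq0.w.symm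
  haveI := discreteTopology_of_etale_field pr.left
  have hwc : IsClosed ({w} : Set ↥P.left) := isClosed_discrete _
  obtain ⟨O, hv, hcl⟩ := FTPointClosed.exists_open_isClosed_singleton g.left w hwc
  let U' : Over S := Over.mk (O.ι ≫ U.hom)
  let ι' : U' ⟶ U := Over.homMk O.ι rfl
  refine ⟨U', (yon S).map ι' ≫ u, ⟨g.left w, hv⟩, ?_, hcl, ?_⟩
  · exact MorphismProperty.comp_mem _ _ _
      ((repWith_yon_map_iff _ ι').2 (inferInstanceAs (Etale O.ι))) hue
  · rw [AlgSpFT.ofPt_yon_map_comp]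
    change Points.ofPt u (g.left w) = x
    rw [← AlgSpFT.ofPt_yon_map_comp g u w, sq0.w, AlgSpFT.ofPt_yon_map_comp, hw, hx]

theorem backward {S : Scheme.{u}} (X : AlgSp.Space S) (x : AlgSp.Points X.obj)
    (U : Over S) (φ : (AlgSp.yon S).obj U ⟶ X.obj) (u : ↥U.left) (hφ : AlgSp.RepWith @Etale φ)
    (hcl : IsClosed ({u} : Set ↥U.left)) (hx : AlgSp.Points.ofPt φ u = x) :
    ∃ (k : Type u) (_ : Field k) (str : Spec (CommRingCat.of k) ⟶ S) (ξ : (AlgSp.yon S).obj (Over.mk str) ⟶ X.obj),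
        AlgSp.LocP @LocallyOfFiniteType ξ ∧ AlgSp.Points.ofPt ξ (IsLocalRing.closedPoint k) = x := by
  obtain ⟨K, _, j, hj, hju⟩ := AlgSpFT.exists_ft_field_point U.left {u} hcl.isLocallyClosed u rfl
  obtain ⟨h1, h2⟩ := AlgSpFT.locP_lft_chart_point X.property φ hφ j hj
  refine ⟨K, inferInstance, j ≫ U.hom, _, h1, ?_⟩
  rw [h2, hju _, hx]

theorem main {S : Scheme.{u}} (X : AlgSp.Space S) (x : AlgSp.Points X.obj) :
    (∃ (k : Type u) (_ : Field k) (str : Spec (CommRingCat.of k) ⟶ S) (ξ : (AlgSp.yon S).obj (Over.mk str) ⟶ X.obj),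
        AlgSp.LocP @LocallyOfFiniteType ξ ∧ AlgSp.Points.ofPt ξ (IsLocalRing.closedPoint k) = x) ↔
      ∃ (U : Over S) (φ : (AlgSp.yon S).obj U ⟶ X.obj) (u : ↥U.left), AlgSp.RepWith @Etale φ ∧
        IsClosed ({u} : Set ↥U.left) ∧ AlgSp.Points.ofPt φ u = x := by
  constructor
  · rintro ⟨k, _, str, ξ, hξ, hx⟩
    exact forward X x k str ξ hξ hx
  · rintro ⟨U, φ, u, hφ, hcl, hx⟩
    exact backward X x U φ u hφ hcl hx

end W1
end H


/-- A point of an algebraic space is a finite type point (represented by a locally finite type morphism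
from the spectrum of a field) exactly when it is the image of a closed point of some etale scheme
chart. -/
theorem result {S : Scheme.{u}} (X : AlgSp.Space S) (x : AlgSp.Points X.obj) :
    (∃ (k : Type u) (_ : Field k) (str : Spec (CommRingCat.of k) ⟶ S) (ξ : (AlgSp.yon S).obj (Over.mk str) ⟶ X.obj),
        AlgSp.LocP @LocallyOfFiniteType ξ ∧ AlgSp.Points.ofPt ξ (IsLocalRing.closedPoint k) = x) ↔
      ∃ (U : Over S) (φ : (AlgSp.yon S).obj U ⟶ X.obj) (u : ↥U.left), AlgSp.RepWith @Etale φ ∧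
        IsClosed ({u} : Set ↥U.left) ∧ AlgSp.Points.ofPt φ u = x := by
  exact W1.main X x

end Groth.Agent.S9975
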