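import Groth.Statements.S10206
import Groth.Agent.Lib.Helper15.KernelPairEt
import Groth.Agent.Lib.Helper15.AlgSpFT
import Groth.Agent.Lib.Helper3.ZarGlue
import Groth.Agent.Lib.Helper3.AlgSpFpqcLocal
import Groth.Agent.S9975
import Groth.Agent.S10212
import Groth.Agent.S10210
-- import your own Groth.Agent.* helpers here

set_option autoImplicit false
universe u
open CategoryTheory CategoryTheory.Limits AlgebraicGeometry Topology TopologicalSpace
open AlgSp

namespace Groth.Agent.S10206

section H
namespace W1

open Groth.Agent.Lib.Helper3 Groth.Agent.Lib.Helper15 Groth.Agent.Lib.Helper15.FieldQuot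
  Groth.Agent.Lib.Helper15.KernelPairEt

/-- a scheme finite over the spectrum of a field has finitely many points. -/
theorem finite_of_isFinite_field {κ : Type u} [Field κ] {T : Scheme.{u}}
    (q : T ⟶ Spec (CommRingCat.of κ)) [IsFinite q] : Finite ↥T := by
  have h := q.finite_preimage_singleton (IsLocalRing.closedPoint κ)
  have huniv : q ⁻¹' {IsLocalRing.closedPoint κ} = Set.univ := by
    ext w
    simp only [Set.mem_preimage, Set.mem_univ, iff_true]
    exact Subsingleton.elim _ _
  have h' : (Set.univ : Set ↥T).Finite := huniv ▸ h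
  exact Set.finite_univ_iff.1 h'

theorem etale_c_of_kernelPair {S : Scheme.{u}} {k : Type u} [Field k]
    (str : Spec (CommRingCat.of k) ⟶ S) {R : Over S} (t s : R ⟶ Over.mk str) (k' : Subfield k)
    (str' : Spec (CommRingCat.of k') ⟶ S) (c : Over.mk str ⟶ Over.mk str')
    (hcl : c.left = Spec.map (CommRingCat.ofHom k'.subtype))
    (sqc : IsPullback ((yon S).map t) ((yon S).map s) ((yon S).map c) ((yon S).map c))
    (hte : Etale t.left) : Etale c.left ∧ Surjective c.left := by
  have sqO : IsPullback t s c c := IsPullback.of_map_of_faithful (yon S) sqc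
  have sqL : IsPullback t.left s.left c.left c.left := sqO.map (Over.forget S)
  have hcs : Surjective c.left := hcl ▸ surjective_subfield k'
  have hcf : Flat c.left := by
    rw [hcl]
    exact (inferInstance : Flat (Spec.map (CommRingCat.ofHom k'.subtype)))
  have hcq : QuasiCompact c.left := by
    rw [hcl]
    exact (inferInstance : QuasiCompact (Spec.map (CommRingCat.ofHom k'.subtype)))
  exact ⟨MorphismProperty.of_isPullback_of_descendsAlong (P := @Etale)
      (Q := @Surjective ⊓ @Flat ⊓ @QuasiCompact) sqL ⟨⟨hcs, hcf⟩, hcq⟩ hte, hcs⟩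

/-- key local statement: around each point of an etale chart, `X` has an open subspace which is
the spectrum of a field. -/
theorem exists_open_field {S : Scheme.{u}} (X : AlgSp.Space S)
    (k : Type u) [Field k] (str : Spec (CommRingCat.of k) ⟶ S)
    (f : X.obj ⟶ (AlgSp.yon S).obj (Over.mk str)) (hf : AlgSp.IsEtaleMor f)
    {U : Over S} (a : (yon S).obj U ⟶ X.obj) (hae : RepWith @Etale a) (u : ↥U.left) :
    ∃ (k' : Type u) (_ : Field k') (str' : Spec (CommRingCat.of k') ⟶ S)
      (p' : (yon S).obj (Over.mk str') ⟶ X.obj), RepWith @IsOpenImmersion p' ∧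
      ∃ pt : ↥(Over.mk str').left, Points.ofPt p' pt = Points.ofPt a u := by
  -- the chart is etale over `Spec k`
  obtain ⟨g, hg⟩ := (yon S).map_surjective (a ≫ f)
  have hge : Etale g.left := (repWith_yon_map_iff _ g).1 (hg ▸ hf a hae)
  haveI := Groth.Agent.S9975.W1.discreteTopology_of_etale_field g.left
  have hcl : IsClosed ({u} : Set ↥U.left) := isClosed_discrete _
  haveI hci : IsClosedImmersion (U.left.fromSpecResidueField u) :=
    isClosed_singleton_iff_isClosedImmersion.1 hcl
  let κ : Type u := ↥(U.left.residueField u)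
  let i : Spec (CommRingCat.of κ) ⟶ U.left := U.left.fromSpecResidueField u
  let strκ : Spec (CommRingCat.of κ) ⟶ S := i ≫ U.hom
  let i' : Over.mk strκ ⟶ U := Over.homMk i rfl
  haveI : IsClosedImmersion i'.left := hci
  haveI : IsClosedImmersion i := hci
  have hilft : LocallyOfFiniteType i := inferInstance
  obtain ⟨-, hpt⟩ := AlgSpFT.locP_lft_chart_point X.property a hae i hilft
  set p : (yon S).obj (Over.mk strκ) ⟶ X.obj := (yon S).map i' ≫ a with hpdef
  have hrep : Representable p := X.property.representable_from_yon p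
  obtain ⟨R, t, s, sq⟩ := exists_pullback_charts p hrep p
  have hse : Etale s.left := etale_snd_of_kernelPair a hae strκ i' t s sq
  have hte : Etale t.left := etale_snd_of_kernelPair a hae strκ i' s t sq.flip
  -- `Spec κ ⟶ Spec k` is finite etale
  haveI hige : Etale (i ≫ g.left) := etale_of_closedImmersion_comp_etale i g.left
  haveI hcκ : CompactSpace ↥(Spec (CommRingCat.of κ)) := inferInstance
  haveI higf : IsFinite (i ≫ g.left) := isFinite_of_etale_of_compact (i ≫ g.left)
  -- compactness of `R`
  have hcomm : t.left ≫ (i ≫ g.left) = s.left ≫ (i ≫ g.left) := by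
    have h1 : (yon S).map (t ≫ i' ≫ g) = (yon S).map (s ≫ i' ≫ g) := by
      simp only [Functor.map_comp]
      rw [hg, ← Category.assoc ((yon S).map i'), ← hpdef, reassoc_of% sq.w]
    exact congrArg (fun q => q.left) ((yon S).map_injective h1)
  let m : R.left ⟶ pullback (i ≫ g.left) (i ≫ g.left) := pullback.lift t.left s.left hcomm
  haveI : Mono m := by
    refine ⟨fun {W} x y hxy => ?_⟩
    have h1 : x ≫ t.left = y ≫ t.left := by
      have := congrArg (fun q => q ≫ pullback.fst _ _) hxy
      simpa only [Category.assoc, m, pullback.lift_fst] using this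
    have h2 : x ≫ s.left = y ≫ s.left := by
      have := congrArg (fun q => q ≫ pullback.snd _ _) hxy
      simpa only [Category.assoc, m, pullback.lift_snd] using this
    exact hmono_of_sq strκ p t s sq W x y h1 h2
  haveI : IsFinite (pullback.fst (i ≫ g.left) (i ≫ g.left)) := inferInstance
  haveI hTfin : Finite ↥(pullback (i ≫ g.left) (i ≫ g.left)) :=
    finite_of_isFinite_field (pullback.fst (i ≫ g.left) (i ≫ g.left))
  haveI hRfin : Finite ↥R.left := Finite.of_injective _ m.injective
  haveI : CompactSpace ↥R.left := inferInstance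
  haveI : IsFinite t.left := isFinite_of_etale_of_compact t.left
  obtain ⟨k', hfin, str', c, p', hcl', hfac, hmono, hc, sqc⟩ :=
    exists_mono_quotient strκ p t s sq
  -- `c` is etale, by descent
  obtain ⟨hce, hcs⟩ := etale_c_of_kernelPair strκ t s k' str' c hcl' sqc hte
  haveI := hce
  haveI := hcs
  -- `p' ≫ f` is etale
  obtain ⟨q₀, hq₀⟩ := (yon S).map_surjective (p' ≫ f)
  have h1 : RepWith @Etale ((yon S).map c ≫ (p' ≫ f)) := by
    rw [← Category.assoc, hfac, hpdef, Category.assoc, ← hg, ← Functor.map_comp]
    exact (repWith_yon_map_iff _ (i' ≫ g)).2 hige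
  have h2 : RepWith @Etale (p' ≫ f) :=
    Groth.Agent.S10212.result ((ofScheme S).obj (Over.mk str)) c (p' ≫ f) h1
  have h3 : IsEtaleMor (p' ≫ f) := isEtaleMor_of_repWith_etale h2
  have h4 : IsEtaleMor p' :=
    Groth.Agent.S10210.result (X := (ofScheme S).obj (Over.mk str')) (Y := X)
      (Z := (ofScheme S).obj (Over.mk str)) (ObjectProperty.homMk p') (ObjectProperty.homMk f)
      (ObjectProperty.homMk (p' ≫ f)) rfl h3 hf
  have h5 : RepWith @IsOpenImmersion p' :=
    repWith_isOpenImmersion_of_etale_mono (IsAlgSpace.yon_obj _) X.property p' h4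
  refine ⟨k', inferInstance, str', p', h5, c.left (IsLocalRing.closedPoint κ), ?_⟩
  rw [← AlgSpFT.ofPt_yon_map_comp c p', hfac, hpt]
  congr 1
  exact Scheme.fromSpecResidueField_apply _ _

theorem main {S : Scheme.{u}} (X : AlgSp.Space S)
    (k : Type u) [Field k] (str : Spec (CommRingCat.of k) ⟶ S)
    (f : X.obj ⟶ (AlgSp.yon S).obj (Over.mk str)) (hf : AlgSp.IsEtaleMor f) :
    X.obj.obj.IsRepresentable := by
  obtain ⟨U, a, hae, has⟩ := X.property.atlas
  choose k' fld str' p' hp' pt hpt using
    fun u : ↥U.left => exists_open_field X k str f hf a hae u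
  obtain ⟨G, e, -⟩ := exists_iso_yon_of_openCover (ι := ↥U.left)
    (U := fun u => Over.mk (str' u)) p' hp' (fun x => by
      obtain ⟨u, rfl⟩ := exists_ofPt_eq a has x
      exact ⟨u, pt u, hpt u⟩)
  exact ⟨G, ⟨AlgSp.representableByOfIso e⟩⟩

end W1
end H


/-- Let X be an algebraic space over a scheme S and X ⟶ h_{Spec k} an etale morphism of algebraic spaces
over S, where k is a field and Spec k is given a structure morphism to S. Then X is a scheme (its
underlying sheaf is representable by a scheme over S). -/
theorem result {S : Scheme.{u}} (X : AlgSp.Space S)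
    (k : Type u) [Field k] (str : Spec (CommRingCat.of k) ⟶ S)
    (f : X.obj ⟶ (AlgSp.yon S).obj (Over.mk str)) (hf : AlgSp.IsEtaleMor f) :
    X.obj.obj.IsRepresentable := by
  exact W1.main X k str f hf

end Groth.Agent.S10206
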