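import Groth.Statements.S10211
import Groth.Agent.Lib.Helper3.AlgSpLocP5
import Groth.Agent.Lib.Helper3.AlgSpQC5

set_option autoImplicit false
universe u
open CategoryTheory CategoryTheory.Limits AlgebraicGeometry Topology TopologicalSpace
open AlgSp

namespace Groth.Agent.S10211

/-- If f : X ⟶ Y is an etale morphism of algebraic spaces over a scheme S, then the induced map of
topological spaces |X| → |Y| is open. -/
theorem result {S : Scheme.{u}} {X Y : AlgSp.Space S} (f : X ⟶ Y)
    (hf : AlgSp.IsEtaleMor f.hom) :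
    IsOpenMap (AlgSp.Points.map f.hom) := by
  obtain ⟨V, b, hbe, hbs⟩ := Y.property.atlas
  obtain ⟨U, u, k, -, -, hae, has, -, hk⟩ :=
    Groth.Agent.Lib.Helper3.exists_chart_over X.property Y.property f.hom b hbe
  have h1 : Etale k.left := (Groth.Agent.Lib.Helper3.locP_etale_of_isEtaleMor hf) _ _ k hae hbe hk
  have h2 : AlgSp.RepWith @Etale ((AlgSp.yon S).map k ≫ b) :=
    MorphismProperty.comp_mem _ _ _ ((AlgSp.repWith_yon_map_iff _ k).2 h1) hbe
  have h3 : IsOpenMap (AlgSp.Points.map ((AlgSp.yon S).map k ≫ b)) :=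
    Groth.Agent.Lib.Helper3.isOpenMap_map_of_etale h2
  rw [← hk] at h3
  have h3' : IsOpenMap (AlgSp.Points.map f.hom ∘ AlgSp.Points.map (u ≫ pullback.fst f.hom b)) := by
    have e : AlgSp.Points.map f.hom ∘ AlgSp.Points.map (u ≫ pullback.fst f.hom b) =
        AlgSp.Points.map ((u ≫ pullback.fst f.hom b) ≫ f.hom) := by
      funext x
      exact (AlgSp.Points.map_comp _ _ x).symm
    rw [e]
    exact h3
  have h4 : Function.Surjective (AlgSp.Points.map (u ≫ pullback.fst f.hom b)) :=
    Groth.Agent.Lib.Helper3.surjective_map_of_repWith (has hbs)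
  intro Ω hΩ
  have : AlgSp.Points.map f.hom '' Ω = (AlgSp.Points.map f.hom ∘
      AlgSp.Points.map (u ≫ pullback.fst f.hom b)) ''
      (AlgSp.Points.map (u ≫ pullback.fst f.hom b) ⁻¹' Ω) := by
    rw [Set.image_comp, Set.image_preimage_eq _ h4]
  rw [this]
  exact h3' _ (hΩ.preimage (AlgSp.Points.continuous_map _))

end Groth.Agent.S10211
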