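import Groth.Statements.S10219
import Groth.Agent.Lib.Helper3.AlgSpEtSitePoint2
import Mathlib.CategoryTheory.Abelian.GrothendieckAxioms.Types
import Mathlib.Algebra.Category.Grp.AB

set_option autoImplicit false
universe u
open CategoryTheory CategoryTheory.Limits AlgebraicGeometry Topology TopologicalSpace
open AlgSp

namespace Groth.Agent.S10219

/-- For an algebraic space X over a scheme S and a geometric point x̄ of X, the stalk functors F ↦ F_x̄
on sheaves of sets and on abelian sheaves on the small etale site of X are exact (they preserve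
finite limits and finite colimits). -/
theorem result {S : Scheme.{u}} (X : AlgSp.Space S) (p : AlgSp.FieldPt X.obj) (hp : p.IsGeometric) :
    (PreservesFiniteLimits (AlgSp.stalkEtFunctor (Type (u + 1)) p) ∧
      PreservesFiniteColimits (AlgSp.stalkEtFunctor (Type (u + 1)) p)) ∧
    (PreservesFiniteLimits (AlgSp.stalkEtFunctor AddCommGrpCat.{u + 1} p) ∧
      PreservesFiniteColimits (AlgSp.stalkEtFunctor AddCommGrpCat.{u + 1} p)) := by
  have hX := X.property
  have h1 : PreservesFiniteLimits
      ((Groth.Agent.Lib.Helper3.etPoint hX p hp).sheafFiber (A := Type (u + 1))) := inferInstance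
  have h2 : PreservesFiniteColimits
      ((Groth.Agent.Lib.Helper3.etPoint hX p hp).sheafFiber (A := Type (u + 1))) := inferInstance
  have h3 : PreservesFiniteLimits
      ((Groth.Agent.Lib.Helper3.etPoint hX p hp).sheafFiber (A := AddCommGrpCat.{u + 1})) :=
    inferInstance
  have h4 : PreservesFiniteColimits
      ((Groth.Agent.Lib.Helper3.etPoint hX p hp).sheafFiber (A := AddCommGrpCat.{u + 1})) :=
    inferInstance
  exact ⟨⟨preservesFiniteLimits_of_natIso
      (Groth.Agent.Lib.Helper3.sheafFiberIso hX p hp (Type (u + 1))),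
    preservesFiniteColimits_of_natIso
      (Groth.Agent.Lib.Helper3.sheafFiberIso hX p hp (Type (u + 1)))⟩,
    ⟨preservesFiniteLimits_of_natIso
      (Groth.Agent.Lib.Helper3.sheafFiberIso hX p hp AddCommGrpCat.{u + 1}),
    preservesFiniteColimits_of_natIso
      (Groth.Agent.Lib.Helper3.sheafFiberIso hX p hp AddCommGrpCat.{u + 1})⟩⟩

end Groth.Agent.S10219
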