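import Groth.Statements.S10222
import Groth.Agent.Lib.Helper15.GeomRedEt
import Groth.Agent.Lib.Helper3.AlgSpChartPts
import Groth.Agent.Lib.Helper3.AlgSpIntegralDim
-- import your own Groth.Agent.* helpers here

set_option autoImplicit false
universe u
open CategoryTheory CategoryTheory.Limits AlgebraicGeometry Topology TopologicalSpace
open AlgSp

namespace Groth.Agent.S10222

section H
set_option backward.isDefEq.respectTransparency.types false
namespace W1
open Groth.Agent.Lib.Helper3 Groth.Agent.Lib.Helper15.GeomRedEt

/-- reducedness of the local ring is independent of the etale chart through a point -/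
theorem chart_iff {S : Scheme.{u}} {X : Sp S} {U V : Over S}
    (a : (yon S).obj U ⟶ X) (b : (yon S).obj V ⟶ X) (ha : RepWith @Etale a)
    (hb : RepWith @Etale b) (u : ↥U.left) (v : ↥V.left)
    (h : Points.ofPt a u = Points.ofPt b v) :
    _root_.IsReduced ↥(U.left.presheaf.stalk u) ↔ _root_.IsReduced ↥(V.left.presheaf.stalk v) := by
  have sq := ha.rep.isPullback b
  obtain ⟨pU, hpU⟩ := (yon S).map_surjective (ha.rep.fst b)
  rw [← hpU] at sq
  haveI hpV : Etale (ha.rep.snd b).left := ha.property_snd b
  haveI hpUe : Etale pU.left := hb.property a _ _ sq.flip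
  obtain ⟨w, hw1, hw2⟩ := exists_of_ofPt_eq_of_isPullback sq u v h
  subst hw1 hw2
  constructor
  · intro hU
    exact isReduced_stalk_of_flat (ha.rep.snd b).left w (isReduced_stalk_of_etale pU.left w hU)
  · intro hV
    exact isReduced_stalk_of_flat pU.left w (isReduced_stalk_of_etale (ha.rep.snd b).left w hV)

theorem main {S : Scheme.{u}} (X : AlgSp.Space S) :
    AlgSp.IsReducedSp X.obj ↔
      ∀ x : AlgSp.Points X.obj, AlgSp.HasAt (fun U u => _root_.IsReduced ↥(U.presheaf.stalk u)) X.obj x := by
  constructor
  · rintro ⟨U, p, hpe, hps, hU⟩ x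
    obtain ⟨u, hu⟩ := exists_ofPt_eq p hps x
    haveI : IsReduced U.left := hU
    exact ⟨U, p, u, hpe, hu, inferInstance⟩
  · intro h
    obtain ⟨U, a, ha, has⟩ := X.property.atlas
    refine ⟨U, a, ha, has, ?_⟩
    haveI : ∀ u : ↥U.left, _root_.IsReduced ↥(U.left.presheaf.stalk u) := by
      intro u
      obtain ⟨V, b, v, hb, hv, hred⟩ := h (Points.ofPt a u)
      exact (chart_iff b a hb ha v u hv).1 hred
    exact isReduced_of_isReduced_stalk _

end W1
end H


/-- (1) if and only if (2): an algebraic space X over a scheme S is reduced if and only if at each x ∈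
|X| the local ring of X is reduced, the latter meaning that for some scheme U, some representable
etale h_U ⟶ X and some point u of U mapping to x, the local ring of U at u is reduced. (The
assertions about global sections in the published statement are not part of this row.) -/
theorem result {S : Scheme.{u}} (X : AlgSp.Space S) :
    AlgSp.IsReducedSp X.obj ↔
      ∀ x : AlgSp.Points X.obj, AlgSp.HasAt (fun U u => _root_.IsReduced ↥(U.presheaf.stalk u)) X.obj x := by
  exact W1.main X

end Groth.Agent.S10222
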