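import Groth.Statements.S1023
import Groth.Agent.S1006

set_option autoImplicit false
universe u
open CategoryTheory CategoryTheory.Limits AlgebraicGeometry
attribute [local instance] HasDerivedCategory.standard
open Perf

namespace Groth.Agent.S1023

open Groth.Agent.Lib.Helper16.RS Groth.Agent.Lib.Helper16.PC DerivedCategory
  Groth.Agent.Lib.Helper1.LocPC Groth.Agent.Lib.Helper1.LocPerf Groth.Agent.Lib.Helper1.LocFree
  CategoryTheory.Limits AlgebraicGeometry CategoryTheory.Pretriangulated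

/-- a perfect object on a quasi-compact scheme is bounded. -/
theorem exists_bounds_of_isPerfect {X : Scheme.{u}} [CompactSpace X] (P : DCoh.D X)
    (hP : DCoh.IsPerfect P) : ∃ a b : ℤ, P.IsGE a ∧ P.IsLE b := by
  choose V Pc a b hxV hPc hab hiso using Groth.Agent.S1006.local_data P hP
  obtain ⟨t, ht⟩ := isCompact_univ.elim_finite_subcover (fun x : X => ((V x : X.Opens) : Set X))
    (fun x => (V x).isOpen) (fun x _ => Set.mem_iUnion.2 ⟨x, hxV x⟩)
  obtain ⟨a₁, ha₁⟩ := (t.image (fun x => - a x)).exists_le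
  obtain ⟨b₀, hb₀⟩ := (t.image b).exists_le
  have hzero : ∀ i : ℤ, (i < - a₁ ∨ b₀ < i) → IsZero (DCoh.HD P i) := by
    intro i hi
    apply isZero_of_locally
    intro y
    obtain ⟨x, hx⟩ := Set.mem_iUnion.1 (ht (Set.mem_univ y))
    obtain ⟨hxt, hyx⟩ := Set.mem_iUnion.1 hx
    obtain ⟨e⟩ := hiso x i
    refine ⟨V x, hyx, IsZero.of_iso ?_ e⟩
    apply isZero_homology_of_isZero
    apply hab x i
    have h1 : - a₁ ≤ a x := by
      have h0 : - a x ≤ a₁ := ha₁ _ (Finset.mem_image_of_mem (fun x => - a x) hxt)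
      omega
    have h2 : b x ≤ b₀ := hb₀ _ (Finset.mem_image_of_mem b hxt)
    rcases hi with hi | hi
    · exact Or.inl (lt_of_lt_of_le hi h1)
    · exact Or.inr (lt_of_le_of_lt h2 hi)
  refine ⟨- a₁, b₀, ?_, ?_⟩
  · rw [DerivedCategory.isGE_iff]
    exact fun i hi => hzero i (Or.inl hi)
  · rw [DerivedCategory.isLE_iff]
    exact fun i hi => hzero i (Or.inr hi)

/-- Let the scheme X be quasi-compact and quasi-separated, P a perfect object of D(O_X), E ∈ D_QCoh(O_X)
and a ∈ ℤ. Then the morphisms P[-i] ⟶ E vanish for all sufficiently negative i if and only if the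
morphisms P[-i] ⟶ τ_{≤ a}E vanish for all sufficiently negative i. -/
theorem result (X : Scheme.{u}) [CompactSpace ↥X] [QuasiSeparatedSpace ↥X]
    (P : DCoh.D X) (hP : DCoh.IsPerfect P) (E : DCoh.D X) (hE : DCoh.IsQCohD E) (a : ℤ) :
    (∃ N : ℤ, ∀ i : ℤ, i ≤ N → ∀ φ : P⟦-i⟧ ⟶ E, φ = 0) ↔
    (∃ N : ℤ, ∀ i : ℤ, i ≤ N → ∀ φ : P⟦-i⟧ ⟶ ((DerivedCategory.TStructure.t : CategoryTheory.Triangulated.TStructure (DCoh.D X)).truncLE a).obj E, φ = 0) := by
  obtain ⟨-, b, -, hb⟩ := exists_bounds_of_isPerfect P hP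
  have hT := (TStructure.t (C := X.Modules)).triangleLEGE_distinguished a (a + 1) rfl E
  have key : ∀ i : ℤ, i ≤ a - b → ((∀ φ : P⟦-i⟧ ⟶ E, φ = 0) ↔
      ∀ φ : P⟦-i⟧ ⟶ ((TStructure.t (C := X.Modules)).truncLE a).obj E, φ = 0) := by
    intro i hi
    have h1 : (TStructure.t (C := X.Modules)).IsLE (P⟦-i⟧) (b + i) :=
      (TStructure.t (C := X.Modules)).isLE_shift P b (-i) (b + i) (by omega)
    have h2 : (TStructure.t (C := X.Modules)).IsGE
        (((TStructure.t (C := X.Modules)).truncGE (a + 1)).obj E) (a + 1) := inferInstance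
    have h3 : (TStructure.t (C := X.Modules)).IsGE
        ((((TStructure.t (C := X.Modules)).truncGE (a + 1)).obj E)⟦(-1 : ℤ)⟧) (a + 2) :=
      (TStructure.t (C := X.Modules)).isGE_shift _ (a + 1) (-1) (a + 2) (by omega)
    constructor
    · intro h φ
      obtain ⟨g, hg⟩ := Triangle.coyoneda_exact₂ _ (inv_rot_of_distTriang _ hT) φ (h _)
      have hg0 : g = 0 :=
        (TStructure.t (C := X.Modules)).zero_of_isLE_of_isGE g (b + i) (a + 2) (by omega) h1 h3
      rw [hg, hg0]
      exact zero_comp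
    · intro h φ
      obtain ⟨g, hg⟩ := Triangle.coyoneda_exact₂ _ hT φ
        ((TStructure.t (C := X.Modules)).zero_of_isLE_of_isGE _ (b + i) (a + 1) (by omega) h1 h2)
      have hg0 : g = 0 := h g
      rw [hg, hg0]
      exact zero_comp
  constructor
  · rintro ⟨N, hN⟩
    exact ⟨min N (a - b), fun i hi => (key i (le_trans hi (min_le_right _ _))).1
      (hN i (le_trans hi (min_le_left _ _)))⟩
  · rintro ⟨N, hN⟩
    exact ⟨min N (a - b), fun i hi => (key i (le_trans hi (min_le_right _ _))).2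
      (hN i (le_trans hi (min_le_left _ _)))⟩

end Groth.Agent.S1023
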