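import Groth.Statements.S1024
import Mathlib.CategoryTheory.Adjunction.PartialAdjoint
import Mathlib.CategoryTheory.Abelian.Basic

set_option autoImplicit false
universe v u u'
open CategoryTheory Opposite
open CohDer

namespace Groth.Agent.S1024

/-- Let u : A ⥤ B be a functor between abelian categories and P a family of objects of B such that each
object of B receives an epimorphism from some member of P, and such that for every member Pᵢ there
is an object Q of A with Hom_A(Q, -) ≅ Hom_B(Pᵢ, u(-)) naturally. Then u is a right adjoint (has a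
left adjoint). -/
theorem result {A : Type u} [Category.{v} A] [Abelian A] {B : Type u'} [Category.{v} B] [Abelian B]
    (u : A ⥤ B) {ι : Type*} (P : ι → B)
    (h1 : ∀ X : B, ∃ (i : ι) (π : P i ⟶ X), Epi π)
    (h2 : ∀ i : ι, ∃ Q : A, Nonempty (coyoneda.obj (op Q) ≅ u ⋙ coyoneda.obj (op (P i)))) :
    u.IsRightAdjoint := by
  classical
  apply Functor.isRightAdjoint_of_leftAdjointObjIsDefined_eq_top
  have hP : ∀ i, u.leftAdjointObjIsDefined (P i) := by
    intro i
    obtain ⟨Q, ⟨e⟩⟩ := h2 i
    rw [Functor.leftAdjointObjIsDefined_iff]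
    exact ⟨Q, ⟨(Functor.corepresentableByEquiv).symm e⟩⟩
  ext X
  simp only [Pi.top_apply, Prop.top_eq_true, iff_true]
  obtain ⟨i0, π0, hπ0⟩ := h1 X
  obtain ⟨i1, π1, hπ1⟩ := h1 (Limits.kernel π0)
  let f : P i1 ⟶ P i0 := π1 ≫ Limits.kernel.ι π0
  have hf : f ≫ π0 = 0 := by simp [f]
  -- X is the cokernel of f
  have hc : Limits.IsColimit (Limits.CokernelCofork.ofπ π0 hf) := by
    have h0 := Abelian.epiIsCokernelOfKernel _ (Limits.kernelIsKernel π0)
    exact Limits.isCokernelEpiComp h0 π1 rfl
  have := Functor.leftAdjointObjIsDefined_of_isColimit (F := u) hc (fun j => by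
    cases j <;> simpa using hP _)
  exact this

end Groth.Agent.S1024
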