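import Groth.Statements.S10241
import Groth.Agent.Lib.Helper3.AlgSpEtSitePoint2
import Mathlib.CategoryTheory.Abelian.GrothendieckAxioms.Types
import Mathlib.Algebra.Category.Grp.AB

set_option autoImplicit false
universe u
open CategoryTheory CategoryTheory.Limits AlgebraicGeometry Topology TopologicalSpace
open AlgSp

namespace Groth.Agent.S10241

/-- Let X be an algebraic space over a scheme S and x̄ a geometric point of X. The stalk functor at x̄
on abelian presheaves on the small etale site of X is exact, and for every presheaf of sets P the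
canonical map from the stalk of P at x̄ to the stalk of its sheafification is bijective. -/
theorem result {S : Scheme.{u}} (X : AlgSp.Space S) (p : AlgSp.FieldPt X.obj)
    (hp : p.IsGeometric) :
    (PreservesFiniteLimits (AlgSp.stalkEtPshFunctor AddCommGrpCat.{u + 1} p) ∧
      PreservesFiniteColimits (AlgSp.stalkEtPshFunctor AddCommGrpCat.{u + 1} p)) ∧
    ∀ P : (AlgSp.EtOver X.obj)ᵒᵖ ⥤ Type (u + 1),
      IsIso ((AlgSp.stalkEtPshFunctor (Type (u + 1)) p).map (toSheafify (AlgSp.etTop X.obj) P)) := by
  have hX := X.property
  have h3 : PreservesFiniteLimits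
      ((Groth.Agent.Lib.Helper3.etPoint hX p hp).presheafFiber (A := AddCommGrpCat.{u + 1})) :=
    inferInstance
  have h4 : PreservesFiniteColimits
      ((Groth.Agent.Lib.Helper3.etPoint hX p hp).presheafFiber (A := AddCommGrpCat.{u + 1})) := by
    have : PreservesColimitsOfSize.{u + 1, u + 1}
      ((Groth.Agent.Lib.Helper3.etPoint hX p hp).presheafFiber (A := AddCommGrpCat.{u + 1})) :=
      inferInstance
    exact PreservesColimitsOfSize.preservesFiniteColimits _
  refine ⟨⟨preservesFiniteLimits_of_natIso
      (Groth.Agent.Lib.Helper3.presheafFiberIso hX p hp AddCommGrpCat.{u + 1}),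
    preservesFiniteColimits_of_natIso
      (Groth.Agent.Lib.Helper3.presheafFiberIso hX p hp AddCommGrpCat.{u + 1})⟩, fun P => ?_⟩
  rw [← NatIso.isIso_map_iff (Groth.Agent.Lib.Helper3.presheafFiberIso hX p hp (Type (u + 1)))]
  infer_instance

end Groth.Agent.S10241
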