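import Groth.Statements.S10244
import Groth.Agent.Lib.Helper3.AlgSpChartPts

set_option autoImplicit false
universe u
open CategoryTheory CategoryTheory.Limits AlgebraicGeometry Topology TopologicalSpace
open AlgSp

namespace Groth.Agent.S10244

/-- Let X be an algebraic space over a scheme S and X_i ⟶ X a family of open subspaces. Then the X_i
form a Zariski covering of X in the sense that for every scheme T and every h_T ⟶ X the open
subschemes T ×_X X_i cover T, if and only if |X| is the union of the |X_i|. -/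
theorem result {S : Scheme.{u}} (X : AlgSp.Space S) {ι : Type u} (Xi : ι → AlgSp.Space S)
    (j : ∀ i, Xi i ⟶ X) (hj : ∀ i, AlgSp.RepWith @IsOpenImmersion (j i).hom) :
    AlgSp.IsZarCover (fun i => (Xi i).obj) (fun i => (j i).hom) ↔
      ∀ (T : Over S) (g : (AlgSp.yon S).obj T ⟶ X.obj) (t : ↥T.left),
        ∃ (i : ι) (P : Over S) (fst : (AlgSp.yon S).obj P ⟶ (Xi i).obj) (snd : P ⟶ T),
          IsPullback fst ((AlgSp.yon S).map snd) (j i).hom g ∧ t ∈ Set.range snd.left := by
  constructor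
  · rintro ⟨-, hsurj⟩ T g t
    obtain ⟨i, z, hz⟩ := hsurj (AlgSp.Points.ofPt g t)
    obtain ⟨P, snd, fst, sq⟩ := (hj i).1 g
    refine ⟨i, P, fst, snd, sq, ?_⟩
    have h := Groth.Agent.Lib.Helper3.Points.ofPt_preimage_image sq Set.univ
    have ht : t ∈ AlgSp.Points.ofPt g ⁻¹' (AlgSp.Points.map (j i).hom '' Set.univ) :=
      ⟨z, Set.mem_univ _, hz⟩
    rw [h] at ht
    obtain ⟨w, -, hw⟩ := ht
    exact ⟨w, hw⟩
  · intro h
    refine ⟨hj, fun x => ?_⟩
    induction x using AlgSp.Points.ind with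
    | h p =>
      obtain ⟨i, P, fst, snd, sq, w, hw⟩ := h p.pt p.toHom (IsLocalRing.closedPoint p.K)
      refine ⟨i, AlgSp.Points.ofPt fst w, ?_⟩
      rw [AlgSp.Points.map_ofPt, sq.w, Groth.Agent.Lib.Helper3.Points.ofPt_yon_map_comp, hw,
        AlgSp.Points.ofPt_toHom]

end Groth.Agent.S10244
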