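import Groth.Statements.S10246
import Groth.Agent.Lib.Helper3.SchImFactor
import Groth.Agent.Lib.Helper3.AlgSpEtCommon
import Groth.Agent.Lib.Helper3.AlgSpChartPts

set_option autoImplicit false
universe u
open CategoryTheory CategoryTheory.Limits AlgebraicGeometry Topology TopologicalSpace
open AlgSp

namespace Groth.Agent.S10246

/-- Morphisms to an affine scheme with prescribed map on global sections. -/
theorem exists_hom_appTop {Z T : Scheme.{u}} [IsAffine T] (ψ : Γ(T, ⊤) →+* Γ(Z, ⊤)) :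
    ∃ m : Z ⟶ T, m.appTop = CommRingCat.ofHom ψ := by
  refine ⟨Z.toSpecΓ ≫ Spec.map (CommRingCat.ofHom ψ) ≫ T.isoSpec.inv, ?_⟩
  have h0 : T.isoSpec.hom.appTop ≫ T.isoSpec.inv.appTop = 𝟙 _ := by
    rw [← Scheme.Hom.comp_appTop, Iso.inv_hom_id]; rfl
  have h2 : T.isoSpec.hom.appTop = (Scheme.ΓSpecIso Γ(T, ⊤)).hom := by
    rw [Scheme.isoSpec_hom, Scheme.toSpecΓ_appTop]
  have h1 : T.isoSpec.inv.appTop = (Scheme.ΓSpecIso Γ(T, ⊤)).inv := by
    rw [h2] at h0
    exact (Iso.eq_inv_comp _).2 h0 |>.trans (Category.comp_id _)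
  simp only [Scheme.Hom.comp_appTop, h1, Scheme.toSpecΓ_appTop]
  simp only [Scheme.ΓSpecIso_naturality, Category.assoc]
  exact Iso.inv_hom_id_assoc _ _

/-- Let X be an algebraic space over a terminal base scheme (so that morphisms over the base are all
morphisms) and T an affine scheme. Then f ↦ f♯ is a bijection from morphisms X ⟶ T to ring maps Γ(T,
O_T) ⟶ Γ(X, O_X), where Γ(X, O_X) is the ring of global sections of the structure sheaf on the small
etale site and f♯ is characterised by: for every scheme U etale over X, following f♯ by the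
restriction Γ(X, O_X) ⟶ Γ(U, O_U) gives the map on global sections of the induced morphism U ⟶ T. -/
theorem result {S : Scheme.{u}} (hS : IsTerminal S) (X : AlgSp.Space S)
    (T : Over S) [IsAffine T.left] (φ : Γ(T.left, ⊤) →+* ↥(AlgSp.gsectEt (AlgSp.OEt X.obj))) :
    ∃! f : X.obj ⟶ (AlgSp.yon S).obj T,
      ∀ (E : AlgSp.EtOver X.obj) (r : Γ(T.left, ⊤)),
        ((limit.π (AlgSp.OEt X.obj).obj (Opposite.op E)) (φ r)).down =
          ((AlgSp.yon S).preimage (E.obj.hom ≫ f)).left.appTop r := by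
  open Groth.Agent.Lib.Helper3 Groth.Agent.Lib.Helper3.SchIm in
  let πE : ∀ E : AlgSp.EtOver X.obj, ↥(AlgSp.gsectEt (AlgSp.OEt X.obj)) →+*
      ULift.{u + 1} Γ(E.obj.left.left, ⊤) := fun E =>
    (limit.π (AlgSp.OEt X.obj).obj (Opposite.op E)).hom
  let φE : ∀ E : AlgSp.EtOver X.obj, Γ(T.left, ⊤) →+* Γ(E.obj.left.left, ⊤) := fun E =>
    (ULift.ringEquiv : ULift.{u + 1} Γ(E.obj.left.left, ⊤) ≃+* _).toRingHom.comp ((πE E).comp φ)
  have hφE : ∀ (E : AlgSp.EtOver X.obj) (r : Γ(T.left, ⊤)),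
      φE E r = ((limit.π (AlgSp.OEt X.obj).obj (Opposite.op E)) (φ r)).down := fun E r => rfl
  choose m hm using fun E : AlgSp.EtOver X.obj => exists_hom_appTop (φE E)
  let μ : ∀ E : AlgSp.EtOver X.obj, E.obj.left ⟶ T := fun E =>
    Over.homMk (m E) (hS.hom_ext _ _)
  have compat : ∀ {E' E : AlgSp.EtOver X.obj} (g : E' ⟶ E), g.hom.left ≫ μ E = μ E' := by
    intro E' E g
    apply Over.OverMorphism.ext
    change g.hom.left.left ≫ m E = m E'
    apply ext_of_isAffine
    rw [Scheme.Hom.comp_appTop, hm, hm]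
    ext r
    change g.hom.left.left.appTop.hom (φE E r) = φE E' r
    rw [hφE, hφE]
    exact (gsectEt_OEt_res g (φ r)).symm
  obtain ⟨R, U, s, t, p, hp⟩ := exists_presentation X
  have hst : (AlgSp.yon S).map s ≫ p = (AlgSp.yon S).map t ≫ p := hp.isPullback.w.symm
  have hse : AlgSp.RepWith @Etale ((AlgSp.yon S).map s) :=
    (AlgSp.repWith_yon_map_iff _ _).2 hp.eqvRel.etale_left
  let EU : AlgSp.EtOver X.obj := AlgSp.EtOver.mk p hp.etale
  let ER : AlgSp.EtOver X.obj := AlgSp.EtOver.mk ((AlgSp.yon S).map s ≫ p)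
    (MorphismProperty.comp_mem _ _ _ hse hp.etale)
  let gs : ER ⟶ EU := AlgSp.EtOver.homMk s rfl
  let gt : ER ⟶ EU := AlgSp.EtOver.homMk t hst.symm
  have hs : s ≫ μ EU = μ ER := compat gs
  have ht : t ≫ μ EU = μ ER := compat gt
  have hpepi : Epi p := epi_of_etale_surjective _ hp.etale hp.surjective
  obtain ⟨f, hf⟩ := exists_desc_of_epi p hp.isPullback ((AlgSp.yon S).map (μ EU)) (by
    rw [← Functor.map_comp, ← Functor.map_comp, hs, ht])
  have key : ∀ E : AlgSp.EtOver X.obj, E.obj.hom ≫ f = (AlgSp.yon S).map (μ E) := by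
    intro E
    obtain ⟨W, pU, pE, sq⟩ := exists_pullback_charts p hp.etale.1 E.obj.hom
    have hpEe : AlgSp.RepWith @Etale ((AlgSp.yon S).map pE) :=
      MorphismProperty.of_isPullback sq hp.etale
    have hpEs : AlgSp.RepWith @Surjective ((AlgSp.yon S).map pE) :=
      MorphismProperty.of_isPullback sq hp.surjective
    have hepi : Epi ((AlgSp.yon S).map pE) := epi_of_etale_surjective _ hpEe hpEs
    let EW : AlgSp.EtOver X.obj := AlgSp.EtOver.mk ((AlgSp.yon S).map pE ≫ E.obj.hom)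
      (MorphismProperty.comp_mem _ _ _ hpEe E.property)
    let gE : EW ⟶ E := AlgSp.EtOver.homMk pE rfl
    let gU : EW ⟶ EU := AlgSp.EtOver.homMk pU sq.w
    have h1 : pE ≫ μ E = μ EW := compat gE
    have h2 : pU ≫ μ EU = μ EW := compat gU
    rw [← cancel_epi ((AlgSp.yon S).map pE), ← Category.assoc, ← sq.w, Category.assoc, hf,
      ← Functor.map_comp, ← Functor.map_comp, h1, h2]
  have hpre : ∀ E : AlgSp.EtOver X.obj, (AlgSp.yon S).preimage (E.obj.hom ≫ f) = μ E := by
    intro E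
    apply (AlgSp.yon S).map_injective
    rw [Functor.map_preimage, key]
  refine ⟨f, fun E r => ?_, fun f' hf' => ?_⟩
  · rw [hpre E]
    change _ = (m E).appTop.hom r
    rw [hm]
    rfl
  · rw [← cancel_epi p]
    have hν : ((AlgSp.yon S).preimage (p ≫ f')).left = m EU := by
      apply ext_of_isAffine
      rw [hm]
      ext r
      exact (hf' EU r).symm
    have hν' : (AlgSp.yon S).preimage (p ≫ f') = μ EU := by
      apply Over.OverMorphism.ext
      exact hν
    rw [hf, ← hν', Functor.map_preimage]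

end Groth.Agent.S10246
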