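import Groth.Statements.S10247
import Groth.Agent.Lib.Helper3.AlgSpEtNbhdCofilt
import Groth.Agent.Lib.Helper3.BasicOpenUnit

set_option autoImplicit false
universe u
open CategoryTheory CategoryTheory.Limits AlgebraicGeometry Topology TopologicalSpace
open AlgSp

namespace Groth.Agent.S10247

/-- Let X be an algebraic space over a scheme S. Together with its structure sheaf O_X, the small etale
site of X is a locally ringed site: for every scheme U etale over X and every global function f on U
there is a covering sieve of U in the small etale site along each of whose arrows f or 1 - f pulls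
back to a unit, and whenever 0 = 1 holds in the ring of global functions of U the empty sieve covers
U. -/
theorem result {S : Scheme.{u}} (X : AlgSp.Space S) :
    ModSite.IsLocallyRinged (AlgSp.etTop X.obj) (AlgSp.OEt X.obj) := by
  open Groth.Agent.Lib.Helper3 in
  constructor
  · intro E f
    obtain ⟨f₀, hf₀⟩ : ∃ f₀ : Γ(E.obj.left.left, ⊤), f₀ = f.down := ⟨_, rfl⟩
    let D : Bool → E.obj.left.left.Opens := fun b =>
      cond b (E.obj.left.left.basicOpen f₀) (E.obj.left.left.basicOpen (1 - f₀))
    let U : Bool → Over S := fun b => Over.mk ((D b).ι ≫ E.obj.left.hom)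
    let ι : ∀ b, U b ⟶ E.obj.left := fun b => Over.homMk (D b).ι rfl
    have hι : ∀ b, RepWith @Etale ((yon S).map (ι b) ≫ E.obj.hom) := fun b =>
      (RepWith @Etale).comp_mem _ _ ((repWith_yon_map_iff _ (ι b)).2
        (inferInstance : Etale (D b).ι)) E.property
    let Eb : Bool → EtOver X.obj := fun b => EtOver.mk _ (hι b)
    let g : ∀ b, Eb b ⟶ E := fun b => EtOver.homMk (ι b) rfl
    have hcov : Sieve.ofArrows Eb g ∈ etTop X.obj E := by
      apply ofArrows_mem_etTop
      intro x
      rcases basicOpen_union f₀ x with h | h
      · exact ⟨true, ⟨⟨x, h⟩, rfl⟩⟩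
      · exact ⟨false, ⟨⟨x, h⟩, rfl⟩⟩
    refine ⟨Sieve.ofArrows Eb g, hcov, ?_⟩
    rintro V k ⟨W, a, _, ⟨b⟩, rfl⟩
    have hrange : Set.range (a ≫ g b).hom.left.left ⊆ (D b : Set E.obj.left.left) := by
      rintro _ ⟨v, rfl⟩
      change ((D b).ι (a.hom.left.left v)) ∈ (D b : Set E.obj.left.left)
      exact (a.hom.left.left v).2
    cases b
    · right
      have := isUnit_appTop_of_range_subset (a ≫ g false).hom.left.left (1 - f₀) hrange
      rw [hf₀] at this
      exact this.map (ULift.ringEquiv.symm : _ ≃+* ULift.{u + 1} _)
    · left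
      have := isUnit_appTop_of_range_subset (a ≫ g true).hom.left.left f₀ hrange
      rw [hf₀] at this
      exact this.map (ULift.ringEquiv.symm : _ ≃+* ULift.{u + 1} _)
  · intro E h01
    have h01' : (0 : Γ(E.obj.left.left, ⊤)) = 1 := congrArg ULift.down h01
    have hempty : IsEmpty E.obj.left.left := by
      constructor
      intro x
      have h1 := congrArg (E.obj.left.left.presheaf.germ ⊤ x trivial).hom h01'
      rw [map_zero, map_one] at h1
      exact zero_ne_one h1
    have hcov : Sieve.ofArrows (fun i : PEmpty.{1} => (i.elim : EtOver X.obj))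
        (fun i => (i.elim : _ ⟶ E)) ∈ etTop X.obj E := by
      apply ofArrows_mem_etTop
      intro x
      exact (hempty.false x).elim
    refine (etTop X.obj).superset_covering ?_ hcov
    rw [Sieve.ofArrows, Sieve.generate_le_iff]
    rintro _ _ ⟨i⟩
    exact i.elim

end Groth.Agent.S10247
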