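import Groth.Statements.S10249
import Groth.Agent.Lib.Helper3.AlgSpLocalDim
import Groth.Agent.Lib.Helper3.AlgSpEtaleDim
import Groth.Agent.Lib.Helper3.AlgSpHasAtMor

set_option autoImplicit false
universe u
open CategoryTheory CategoryTheory.Limits AlgebraicGeometry Topology TopologicalSpace
open AlgSp

namespace Groth.Agent.S10249

/-- Let X and Y be algebraic spaces over a scheme S, f : X ⟶ Y an etale morphism and x ∈ |X| with image
y ∈ |Y|. Then (1) X at x and Y at y have the same dimension: for every d, some etale chart h_U ⟶ X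
from a scheme U and some point u of U over x have local dimension d (of the topological space U at
u) if and only if the same holds for Y at y; and (2) the local rings of X at x and of Y at y have
the same Krull dimension, in the same some-chart sense with the Krull dimension of the local ring of
U at u. -/
theorem result {S : Scheme.{u}} {X Y : AlgSp.Space S} (f : X ⟶ Y)
    (hf : AlgSp.IsEtaleMor f.hom) (x : AlgSp.Points X.obj) :
    (∀ d : WithBot ℕ∞,
        AlgSp.HasAt (fun U u => FlatMor.localDim ↥U u = d) X.obj x ↔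
          AlgSp.HasAt (fun U u => FlatMor.localDim ↥U u = d) Y.obj (AlgSp.Points.map f.hom x)) ∧
    (∀ d : WithBot ℕ∞,
        AlgSp.HasAt (fun U u => ringKrullDim ↥(U.presheaf.stalk u) = d) X.obj x ↔
          AlgSp.HasAt (fun U u => ringKrullDim ↥(U.presheaf.stalk u) = d) Y.obj (AlgSp.Points.map f.hom x)) := by
  obtain ⟨U₀, a₀, ha₀e, ha₀s⟩ := X.property.atlas
  obtain ⟨u₀, hu₀⟩ := Groth.Agent.Lib.Helper3.exists_ofPt_eq a₀ ha₀s x
  have hfx : Points.ofPt (a₀ ≫ f.hom) u₀ = Points.map f.hom x := by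
    rw [← Points.map_ofPt, hu₀]
  constructor
  · intro d
    constructor
    · rintro ⟨U, a, u, hae, hu, hd⟩
      exact ⟨U, a ≫ f.hom, u, hf a hae, by rw [← Points.map_ofPt, hu], hd⟩
    · rintro ⟨V, b, v, hbe, hv, hd⟩
      refine ⟨U₀, a₀, u₀, ha₀e, hu₀, ?_⟩
      rw [← hd]
      exact Groth.Agent.Lib.Helper3.localDim_eq_of_ofPt_eq (a₀ ≫ f.hom) b (hf a₀ ha₀e) hbe u₀ v
        (hfx.trans hv.symm)
  · intro d
    constructor
    · rintro ⟨U, a, u, hae, hu, hd⟩
      exact ⟨U, a ≫ f.hom, u, hf a hae, by rw [← Points.map_ofPt, hu], hd⟩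
    · rintro ⟨V, b, v, hbe, hv, hd⟩
      refine ⟨U₀, a₀, u₀, ha₀e, hu₀, ?_⟩
      rw [← hd]
      exact Groth.Agent.Lib.Helper3.ringKrullDim_stalk_eq_of_ofPt_eq (a₀ ≫ f.hom) b (hf a₀ ha₀e)
        hbe u₀ v (hfx.trans hv.symm)

end Groth.Agent.S10249
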