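import Groth.Statements.S10250
import Groth.Agent.Lib.Helper3.SchemeDim
import Groth.Agent.Lib.Helper3.AlgSpLocP4
import Groth.Agent.Lib.Helper3.AlgSpHasAtMor
import Groth.Agent.Lib.Helper3.AlgSpPoints

set_option autoImplicit false
universe u
open CategoryTheory CategoryTheory.Limits AlgebraicGeometry Topology TopologicalSpace
open AlgSp

namespace Groth.Agent.S10250

/-- Let f : X ⟶ Y be an etale and surjective morphism of algebraic spaces over a scheme S. Then X and Y
have the same dimension (the dimension of an algebraic space being the supremum of the Krull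
dimensions of the schemes etale over it). -/
theorem result {S : Scheme.{u}} {X Y : AlgSp.Space S} (f : X ⟶ Y)
    (hf : AlgSp.IsEtaleMor f.hom) (hs : AlgSp.IsSurjectiveMor f.hom) :
    AlgSp.dim X.obj = AlgSp.dim Y.obj := by
  unfold AlgSp.dim
  apply le_antisymm
  · refine iSup_le fun U => iSup_le fun a => iSup_le fun ha => ?_
    exact le_iSup_of_le U (le_iSup_of_le (a ≫ f.hom) (le_iSup_of_le (hf a ha) le_rfl))
  · refine iSup_le fun V => iSup_le fun b => iSup_le fun hbe => ?_
    obtain ⟨U, u, h, hue, hus, hae, -, hh, hcomm⟩ :=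
      Groth.Agent.Lib.Helper3.exists_chart_over X.property Y.property f.hom b hbe
    have hhe : Etale h.left :=
      Groth.Agent.Lib.Helper3.etale_of_repWith_comp ((u ≫ pullback.fst f.hom b) ≫ f.hom) b
        (hf _ hae) hbe h hcomm.symm
    have hhs : Surjective h.left := by
      refine ⟨fun v => ?_⟩
      obtain ⟨x, hx⟩ := hs (Points.ofPt b v)
      obtain ⟨z, hz1, hz2⟩ := Groth.Agent.Lib.Helper3.Points.exists_of_isPullback
        (IsPullback.of_hasPullback f.hom b) x (Points.ofScheme V v)
        (by rw [hx, Points.ofPt_eq_map_ofScheme])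
      obtain ⟨u₁, hu₁⟩ := Groth.Agent.Lib.Helper3.exists_ofPt_eq u hus z
      refine ⟨u₁, ?_⟩
      apply (Points.schemeHomeo V).injective
      rw [← Points.map_yon_map_apply, hh, Points.map_comp]
      change Points.map (pullback.snd f.hom b) (Points.map u (Points.ofScheme U u₁)) = _
      rw [← Points.ofPt_eq_map_ofScheme, hu₁, hz2]
      rfl
    have h1 : topologicalKrullDim ↥V.left ≤ topologicalKrullDim ↥U.left :=
      Groth.Agent.Lib.Helper3.topologicalKrullDim_le_of_etale_of_surjective h.left
    refine h1.trans ?_
    exact le_iSup_of_le U (le_iSup_of_le (u ≫ pullback.fst f.hom b) (le_iSup_of_le hae le_rfl))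

end Groth.Agent.S10250
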