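import Groth.Statements.S10256
import Groth.Agent.Lib.Helper3.AlgSpEtSupport

set_option autoImplicit false
universe u
open CategoryTheory CategoryTheory.Limits AlgebraicGeometry Topology TopologicalSpace
open AlgSp

namespace Groth.Agent.S10256

/-- Let X be an algebraic space over a scheme S, F an abelian sheaf on the small etale site of X and x ∈
|X|. Then x lies in the support of F, in the sense that the stalk F_x̄ is nonzero for some geometric
point x̄ over x, if and only if x is the image of a point u of some U etale over X lying in the
support of some section σ ∈ F(U), i.e. such that σ does not restrict to zero on any V ⟶ U whose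
image contains u. (The published definition of the support allows any, equivalently some, geometric
point over x; this row uses the existential form and does not assert that the two readings agree.) -/
theorem result {S : Scheme.{u}} (X : AlgSp.Space S) (F : AlgSp.AbEt X.obj)
    (x : AlgSp.Points X.obj) :
    (∃ p : AlgSp.FieldPt X.obj, p.IsGeometric ∧ AlgSp.Points.mk p = x ∧ ¬ IsZero (AlgSp.stalkEt p F)) ↔
      ∃ (U : AlgSp.EtOver X.obj) (σ : ↥(F.obj.obj (Opposite.op U))) (u : ↥U.obj.left.left),
        AlgSp.Points.ofPt U.obj.hom u = x ∧
          ∀ (V : AlgSp.EtOver X.obj) (φ : V ⟶ U), (F.obj.map φ.op).hom σ = 0 →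
            u ∉ Set.range (fun v => φ.hom.left.left v) := by
  open Groth.Agent.Lib.Helper3 in
  rw [exists_not_isZero_stalkEt_iff X.property F x]
  constructor
  · rintro ⟨U, σ, u, hu, hn⟩
    refine ⟨U, σ, u, hu, fun V φ hφ hr => hn ?_⟩
    exact (mem_vanishingOpen_iff F U σ u).2 ⟨V, φ, hφ, hr⟩
  · rintro ⟨U, σ, u, hu, hn⟩
    refine ⟨U, σ, u, hu, fun hmem => ?_⟩
    obtain ⟨V, φ, hφ, hr⟩ := (mem_vanishingOpen_iff F U σ u).1 hmem
    exact hn V φ hφ hr

end Groth.Agent.S10256
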