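import Groth.Statements.S10263
import Groth.Agent.Lib.Helper3.AlgSpLocP5

set_option autoImplicit false
universe u
open CategoryTheory CategoryTheory.Limits AlgebraicGeometry
open AlgSp

namespace Groth.Agent.S10263

/-- If the composite X -> Y -> Z is unramified then X -> Y is unramified. -/
theorem result {S : Scheme.{u}} {X Y Z : AlgSp.Space S} (f : X ⟶ Y) (g : Y ⟶ Z)
    (h : AlgSp.LocP (@LocallyOfFiniteType ⊓ @FormallyUnramified) (f ≫ g).hom) :
    AlgSp.LocP (@LocallyOfFiniteType ⊓ @FormallyUnramified) f.hom := by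
  obtain ⟨W, c, hce, hcs⟩ := Z.property.atlas
  obtain ⟨V, v, l, -, -, hbe, hbs, -, hl⟩ :=
    Groth.Agent.Lib.Helper3.exists_chart_over Y.property Z.property g.hom c hce
  obtain ⟨U, u, k, -, -, hae, has, -, hk⟩ :=
    Groth.Agent.Lib.Helper3.exists_chart_over X.property Y.property f.hom _ hbe
  have hcomm : (u ≫ pullback.fst f.hom (v ≫ pullback.fst g.hom c)) ≫ (f ≫ g).hom =
      (AlgSp.yon S).map (k ≫ l) ≫ c := by
    change _ ≫ f.hom ≫ g.hom = _
    rw [← Category.assoc, hk, Category.assoc, hl, Functor.map_comp, Category.assoc]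
  have h1 := h _ _ (k ≫ l) hae hce hcomm
  rw [Over.comp_left] at h1
  have h1a : LocallyOfFiniteType (k.left ≫ l.left) := h1.1
  have h1b : FormallyUnramified (k.left ≫ l.left) := h1.2
  have h2 : ((@LocallyOfFiniteType : MorphismProperty Scheme.{u}) ⊓ @FormallyUnramified) k.left :=
    ⟨locallyOfFiniteType_of_comp k.left l.left, FormallyUnramified.of_comp k.left l.left⟩
  exact Groth.Agent.Lib.Helper3.locP_of_chart Groth.Agent.Lib.Helper3.isEtLocal_unramified f.hom _ hae (has (hbs hcs)) _ hbe k hk h2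

end Groth.Agent.S10263
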