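import Groth.Statements.S10267
import Groth.Agent.Lib.Helper3.AlgSpRepLocal

set_option autoImplicit false
universe u
open CategoryTheory CategoryTheory.Limits AlgebraicGeometry
open AlgSp

namespace Groth.Agent.S10267

/-- (1) ⇔ (2): a morphism of algebraic spaces is integral (resp. finite), tested on affine schemes over
the target, if and only if it is representable with integral (resp. finite) base changes to all
schemes. -/
theorem result {S : Scheme.{u}} {X Y : AlgSp.Space S} (f : X ⟶ Y) :
    (AlgSp.IsIntegralMor f.hom ↔ AlgSp.RepWith @IsIntegralHom f.hom) ∧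
    (AlgSp.IsFiniteMor f.hom ↔ AlgSp.RepWith @IsFinite f.hom) := by
  refine ⟨⟨fun hf => ?_, fun hf Z hZ g => ?_⟩, ⟨fun hf => ?_, fun hf Z hZ g => ?_⟩⟩
  · have hrep : AlgSp.Representable f.hom :=
      Groth.Agent.Lib.Helper3.representable_of_affine f.hom (fun Z hZ g => by
        obtain ⟨W, i, fst, sq, -⟩ := hf hZ g
        exact ⟨W, i, fst, sq⟩)
    refine Groth.Agent.Lib.Helper3.repWith_of_affine @IsIntegralHom f.hom hrep (fun Z hZ g => ?_)
    obtain ⟨W, i, fst, sq, hW, hi⟩ := hf hZ g
    exact ⟨W, i, fst, sq, hi⟩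
  · have hi : IsIntegralHom (hf.rep.snd g).left := hf.property_snd g
    have : IsAffine Z.left := hZ
    exact ⟨hf.rep.pullback g, hf.rep.snd g, hf.rep.fst g, hf.rep.isPullback g,
      isAffine_of_isAffineHom (hf.rep.snd g).left, hi⟩
  · have hrep : AlgSp.Representable f.hom :=
      Groth.Agent.Lib.Helper3.representable_of_affine f.hom (fun Z hZ g => by
        obtain ⟨W, i, fst, sq, -⟩ := hf hZ g
        exact ⟨W, i, fst, sq⟩)
    refine Groth.Agent.Lib.Helper3.repWith_of_affine @IsFinite f.hom hrep (fun Z hZ g => ?_)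
    obtain ⟨W, i, fst, sq, hW, hi⟩ := hf hZ g
    exact ⟨W, i, fst, sq, hi⟩
  · have hi : IsFinite (hf.rep.snd g).left := hf.property_snd g
    have : IsAffine Z.left := hZ
    exact ⟨hf.rep.pullback g, hf.rep.snd g, hf.rep.fst g, hf.rep.isPullback g,
      isAffine_of_isAffineHom (hf.rep.snd g).left, hi⟩

end Groth.Agent.S10267
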