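import Groth.Statements.S10269
import Groth.Agent.Lib.Helper3.AlgSpLocP4
import Mathlib.AlgebraicGeometry.Morphisms.Finite

set_option autoImplicit false
universe u
open CategoryTheory CategoryTheory.Limits AlgebraicGeometry
open AlgSp

namespace Groth.Agent.S10269

/-- A finite morphism of algebraic spaces is integral; an integral morphism locally of finite type is
finite. -/
theorem result {S : Scheme.{u}} {X Y : AlgSp.Space S} (f : X ⟶ Y) :
    (AlgSp.IsFiniteMor f.hom → AlgSp.IsIntegralMor f.hom) ∧
    (AlgSp.IsIntegralMor f.hom → AlgSp.LocP @LocallyOfFiniteType f.hom → AlgSp.IsFiniteMor f.hom) := by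
  open Groth.Agent.Lib.Helper3 in
  constructor
  · intro h Z hZ g
    obtain ⟨W, i, fst, sq, hW, hi⟩ := h hZ g
    have : IsFinite i.left := hi
    exact ⟨W, i, fst, sq, hW, inferInstance⟩
  · intro h hlft Z hZ g
    obtain ⟨W, i, fst, sq, hW, hi⟩ := h hZ g
    have h1 : LocP @LocallyOfFiniteType ((yon S).map i) :=
      locP_of_isPullback isEtLocal_locallyOfFiniteType X.property Y.property
        (IsAlgSpace.yon_obj Z) (IsAlgSpace.yon_obj W) f.hom g fst ((yon S).map i) sq hlft
    have h2 : LocallyOfFiniteType i.left := locP_yon_map h1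
    exact ⟨W, i, fst, sq, hW, (IsFinite.iff_isIntegralHom_and_locallyOfFiniteType i.left).2 ⟨hi, h2⟩⟩

end Groth.Agent.S10269
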