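import Groth.Statements.S10272
import Groth.Agent.Lib.Helper3.AlgSpAffP

set_option autoImplicit false
universe u
open CategoryTheory CategoryTheory.Limits AlgebraicGeometry
open AlgSp

namespace Groth.Agent.S10272

/-- If g is separated and the composite of f and g is finite (resp. integral) then f is finite (resp.
integral). -/
theorem result {S : Scheme.{u}} {X Y Z : AlgSp.Space S} (f : X ⟶ Y) (g : Y ⟶ Z)
    (hg : AlgSp.IsSeparatedMor g.hom) :
    (AlgSp.IsFiniteMor (f ≫ g).hom → AlgSp.IsFiniteMor f.hom) ∧
    (AlgSp.IsIntegralMor (f ≫ g).hom → AlgSp.IsIntegralMor f.hom) := by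
  have hd : AlgSp.RepWith @IsClosedImmersion (pullback.diagonal g.hom) := hg
  constructor
  · intro h
    have h' : Groth.Agent.Lib.Helper3.AffP @IsFinite (f.hom ≫ g.hom) := h
    exact Groth.Agent.Lib.Helper3.affP_of_diagonal (P := @IsFinite)
      (fun f hf => by haveI := hf; infer_instance) f.hom g.hom h' hd
  · intro h
    have h' : Groth.Agent.Lib.Helper3.AffP @IsIntegralHom (f.hom ≫ g.hom) := h
    exact Groth.Agent.Lib.Helper3.affP_of_diagonal (P := @IsIntegralHom)
      (fun f hf => by haveI := hf; infer_instance) f.hom g.hom h' hd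

end Groth.Agent.S10272
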