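import Groth.Statements.S10278
import Groth.Agent.Lib.Helper3.AlgSpProper

set_option autoImplicit false
universe u
open CategoryTheory CategoryTheory.Limits AlgebraicGeometry
open AlgSp

namespace Groth.Agent.S10278

/-- Over a separated Y -> B, a morphism X -> Y from a space universally closed (resp. proper) over B is
universally closed with closed image (resp. proper). -/
theorem result {S : Scheme.{u}} {X Y B : AlgSp.Space S} (f : X ⟶ Y) (p : X ⟶ B)
    (q : Y ⟶ B) (comm : f ≫ q = p) (hq : AlgSp.IsSeparatedMor q.hom) :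
    (AlgSp.IsUnivClosedMor p.hom →
      AlgSp.IsUnivClosedMor f.hom ∧ IsClosed (Set.range (AlgSp.Points.map f.hom))) ∧
    (AlgSp.IsProperMor p.hom → AlgSp.IsProperMor f.hom) := by
  have hcomm : f.hom ≫ q.hom = p.hom := congrArg (·.hom) comm
  have sqP := IsPullback.of_hasPullback (f.hom ≫ q.hom) q.hom
  have hP : AlgSp.IsAlgSpace (pullback (f.hom ≫ q.hom) q.hom) :=
    Groth.Agent.Lib.Helper3.isAlgSpace_of_isPullback' B.property X.property Y.property sqP
  have sqΓ := pullback_lift_diagonal_isPullback f.hom q.hom
  have hΓ : AlgSp.RepWith @IsClosedImmersion (pullback.lift (𝟙 X.obj) f.hom (by simp) :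
      X.obj ⟶ pullback (f.hom ≫ q.hom) q.hom) :=
    MorphismProperty.of_isPullback sqΓ hq
  have hΓp := Groth.Agent.Lib.Helper3.isProperMor_of_repWith_isClosedImmersion _ hΓ
  constructor
  · intro hp
    rw [← hcomm] at hp
    have hsnd := Groth.Agent.Lib.Helper3.isUnivClosedMor_of_isPullback sqP hp
    have := Groth.Agent.Lib.Helper3.isUnivClosedMor_comp hP Y.property.diag hΓp.2.2 hsnd
    rw [pullback.lift_snd] at this
    refine ⟨this, ?_⟩
    have hc : IsClosedMap (AlgSp.Points.map f.hom) :=
      this Y.property (𝟙 _) (𝟙 _) f.hom IsPullback.of_id_fst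
    rw [← Set.image_univ]
    exact hc _ isClosed_univ
  · intro hp
    rw [← hcomm] at hp
    have hsnd := Groth.Agent.Lib.Helper3.isProperMor_of_isPullback X.property B.property Y.property hP sqP hp
    have := Groth.Agent.Lib.Helper3.isProperMor_comp X.property hP Y.property hΓp hsnd
    rwa [pullback.lift_snd] at this

end Groth.Agent.S10278
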