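import Groth.Statements.S10281
import Groth.Agent.Lib.Helper3.SchImQC4
import Groth.Agent.Lib.Helper3.SchImRed
import Groth.Agent.Lib.Helper3.AlgSpProper
import Groth.Agent.S10191

set_option autoImplicit false
universe u
open CategoryTheory CategoryTheory.Limits AlgebraicGeometry
open AlgSp

namespace Groth.Agent.S10281

/-- The scheme theoretic image of a space proper over B in a space separated and locally of finite type
over B is proper over B, and the source surjects onto it. -/
theorem result {S : Scheme.{u}} {X Y Z B : AlgSp.Space S} (h : X ⟶ Y) (f : X ⟶ B)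
    (g : Y ⟶ B) (comm : h ≫ g = f) (hf : AlgSp.IsProperMor f.hom) (hg : AlgSp.IsSeparatedMor g.hom)
    (hg' : AlgSp.LocP @LocallyOfFiniteType g.hom) (i : Z ⟶ Y) (hZ : AlgSp.IsSchImage h.hom i.hom)
    (h' : X ⟶ Z) (fac : h' ≫ i = h) :
    AlgSp.IsProperMor (i ≫ g).hom ∧ AlgSp.IsSurjectiveMor h'.hom := by
  open Groth.Agent.Lib.Helper3 Groth.Agent.Lib.Helper3.SchIm in
  have hcomm : h.hom ≫ g.hom = f.hom := congrArg (fun φ => φ.hom) comm
  have hfac : h'.hom ≫ i.hom = h.hom := congrArg (fun φ => φ.hom) fac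
  have hig : (i ≫ g).hom = i.hom ≫ g.hom := rfl
  obtain ⟨hfsep, ⟨hflft, hfqc⟩, hfuc⟩ := hf
  rw [← hcomm] at hfqc hfuc
  -- the graph factorisation of `h`
  have sqP := IsPullback.of_hasPullback (h.hom ≫ g.hom) g.hom
  have hPalg : AlgSp.IsAlgSpace (pullback (h.hom ≫ g.hom) g.hom) :=
    isAlgSpace_of_isPullback' B.property X.property Y.property sqP
  have hΓcl : AlgSp.RepWith @IsClosedImmersion
      (pullback.lift (𝟙 X.obj) h.hom (by simp) : X.obj ⟶ pullback (h.hom ≫ g.hom) g.hom) :=
    MorphismProperty.of_isPullback (pullback_lift_diagonal_isPullback h.hom g.hom) hg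
  have hΓsnd : (pullback.lift (𝟙 X.obj) h.hom (by simp) : X.obj ⟶ pullback (h.hom ≫ g.hom) g.hom) ≫
      pullback.snd (h.hom ≫ g.hom) g.hom = h.hom := pullback.lift_snd _ _ _
  have hΓq : AlgSp.IsQuasiCompactMor
      (pullback.lift (𝟙 X.obj) h.hom (by simp) : X.obj ⟶ pullback (h.hom ≫ g.hom) g.hom) :=
    isQuasiCompactMor_of_repWith_quasiCompact _
      (MorphismProperty.relative_monotone (fun A B φ hφ => by
        have : IsClosedImmersion ((Over.forget S).map φ) := hφ
        change QuasiCompact ((Over.forget S).map φ)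
        infer_instance) _ hΓcl)
  have hprq : AlgSp.IsQuasiCompactMor (pullback.snd (h.hom ≫ g.hom) g.hom) :=
    isQuasiCompactMor_of_isPullback sqP hfqc
  have hhq : AlgSp.IsQuasiCompactMor h.hom := by
    rw [← hΓsnd]
    exact isQuasiCompactMor_comp hPalg Y.property.diag hΓq hprq
  -- the image of `h` is closed
  have hprcl : IsClosedMap (AlgSp.Points.map (pullback.snd (h.hom ≫ g.hom) g.hom)) :=
    hfuc Y.property g.hom _ _ sqP
  have hrange : IsClosed (Set.range (AlgSp.Points.map h.hom)) := by
    have : Set.range (AlgSp.Points.map h.hom) =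
        AlgSp.Points.map (pullback.snd (h.hom ≫ g.hom) g.hom) '' Set.range (AlgSp.Points.map
          (pullback.lift (𝟙 X.obj) h.hom (by simp) : X.obj ⟶ pullback (h.hom ≫ g.hom) g.hom)) := by
      rw [← Set.range_comp]
      congr 1
      funext x
      rw [Function.comp_apply, ← AlgSp.Points.map_comp, hΓsnd]
    rw [this]
    exact hprcl _ (isClosed_range_of_closedImmersion _ hΓcl)
  -- surjectivity of `h'`
  have hiinj : Function.Injective (AlgSp.Points.map i.hom) :=
    (Groth.Agent.S10191.result i (MorphismProperty.relative_monotone (fun A B φ hφ => by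
      have : IsClosedImmersion ((Over.forget S).map φ) := hφ
      change IsImmersion ((Over.forget S).map φ)
      infer_instance) _ hZ.1)).1.injective
  have hsurj : AlgSp.IsSurjectiveMor h'.hom := by
    intro z
    have hz := range_subset_closure_of_quasiCompact h hhq i hZ ⟨z, rfl⟩
    rw [hrange.closure_eq] at hz
    obtain ⟨x, hx⟩ := hz
    refine ⟨x, hiinj ?_⟩
    rw [← AlgSp.Points.map_comp, hfac, hx]
  refine ⟨?_, hsurj⟩
  have hmono : Mono i.hom := mono_of_closedImmersion _ hZ.1
  have hip := isProperMor_of_repWith_isClosedImmersion i.hom hZ.1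
  have hcomp : h'.hom ≫ (i.hom ≫ g.hom) = h.hom ≫ g.hom := by
    rw [← Category.assoc, hfac]
  rw [hig]
  refine ⟨isSeparatedMor_comp hip.1 hg, ⟨?_, ?_⟩, ?_⟩
  · exact locP_comp isEtLocal_locallyOfFiniteType Z.property Y.property B.property _ _
      hip.2.1.1 hg'
  · exact isQuasiCompactMor_of_surjective_comp Z.property B.property h'.hom _ hsurj
      (by rw [hcomp]; exact hfqc)
  · exact isUnivClosedMor_of_surjective_comp h'.hom _ hsurj (by rw [hcomp]; exact hfuc)

end Groth.Agent.S10281
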