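import Groth.Statements.S10287
-- import your own Groth.Agent.* helpers here

set_option autoImplicit false
universe u
open CategoryTheory CategoryTheory.Limits AlgebraicGeometry
open AlgSp

namespace Groth.Agent.S10287

/-- The square for `g` obtained from a square for `f ≫ g`. -/
noncomputable def sqG {S : Scheme.{u}} {F G H : AlgSp.Sp S} (f : F ⟶ G) (g : G ⟶ H)
    (sq : AlgSp.ValSq (f ≫ g)) : AlgSp.ValSq g where
  A := sq.A
  K := sq.K
  str := sq.str
  top := sq.top ≫ f
  bot := sq.bot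
  comm := by rw [Category.assoc]; exact sq.comm

/-- The square for `f` given a lift `m` of the `g`-square. -/
noncomputable def sqF {S : Scheme.{u}} {F G H : AlgSp.Sp S} (f : F ⟶ G) (g : G ⟶ H)
    (sq : AlgSp.ValSq (f ≫ g)) (m : (AlgSp.yon S).obj sq.ptA ⟶ G)
    (hm : (AlgSp.yon S).map sq.j ≫ m = sq.top ≫ f) : AlgSp.ValSq f where
  A := sq.A
  K := sq.K
  str := sq.str
  top := sq.top
  bot := m
  comm := hm.symm

/-- The existence and uniqueness parts of the valuative criterion are stable under composition. -/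
theorem result {S : Scheme.{u}} {X Y Z : AlgSp.Space S} (f : X ⟶ Y) (g : Y ⟶ Z) :
    (AlgSp.ExistVC f.hom → AlgSp.ExistVC g.hom → AlgSp.ExistVC (f ≫ g).hom) ∧
    (AlgSp.UniqVC f.hom → AlgSp.UniqVC g.hom → AlgSp.UniqVC (f ≫ g).hom) := by
  constructor
  · intro hEf hEg sq
    -- Step 1: lift for `g` after a first extension
    obtain ⟨e₁, m, hm1, hm2⟩ := hEg (sqG f.hom g.hom sq)
    -- Step 2: the square for `f` over the extended valuation ring
    let sq₂ : AlgSp.ValSq f.hom :=
      { A := e₁.A'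
        K := e₁.K'
        str := Spec.map (CommRingCat.ofHom e₁.φ) ≫ sq.str
        top := (AlgSp.yon S).map (Over.homMk (Spec.map (CommRingCat.ofHom e₁.ψ)) (by
          change Spec.map _ ≫ Spec.map _ ≫ _ = Spec.map _ ≫ Spec.map _ ≫ _
          rw [← Spec.map_comp_assoc, ← Spec.map_comp_assoc, ← CommRingCat.ofHom_comp,
            ← CommRingCat.ofHom_comp]
          exact congrArg (fun r => Spec.map (CommRingCat.ofHom r) ≫ sq.str) e₁.comm.symm) :
            e₁.ptK' ⟶ sq.ptK) ≫ sq.top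
        bot := m
        comm := by rw [Category.assoc]; exact hm1.symm }
    obtain ⟨e₂, l, hl1, hl2⟩ := hEf sq₂
    -- Step 3: the composite extension
    let φ₁ : sq.A →+* e₁.A' := e₁.φ
    let ψ₁ : sq.K →+* e₁.K' := e₁.ψ
    let φ₂ : e₁.A' →+* e₂.A' := e₂.φ
    let ψ₂ : e₁.K' →+* e₂.K' := e₂.ψ
    have hc1 : (algebraMap e₁.A' e₁.K').comp φ₁ = ψ₁.comp (algebraMap sq.A sq.K) := e₁.comm
    have hc2 : (algebraMap e₂.A' e₂.K').comp φ₂ = ψ₂.comp (algebraMap e₁.A' e₁.K') := e₂.comm
    have hloc1 : IsLocalHom φ₁ := e₁.isLocalHom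
    have hloc2 : IsLocalHom φ₂ := e₂.isLocalHom
    let e : sq.DomExt :=
      { A' := e₂.A'
        K' := e₂.K'
        φ := φ₂.comp φ₁
        ψ := ψ₂.comp ψ₁
        comm := by
          rw [← RingHom.comp_assoc, hc2, RingHom.comp_assoc, hc1, RingHom.comp_assoc]
        isLocalHom := RingHom.isLocalHom_comp _ _ }
    refine ⟨e, ?_⟩
    let θ : e.ptA' ⟶ e₂.ptA' := Over.homMk (𝟙 _) (by
      change 𝟙 _ ≫ Spec.map _ ≫ Spec.map _ ≫ _ = Spec.map _ ≫ _
      rw [Category.id_comp, ← Spec.map_comp_assoc, ← CommRingCat.ofHom_comp]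
      rfl)
    refine ⟨(AlgSp.yon S).map θ ≫ l, ?_, ?_⟩
    · let θK : e.ptK' ⟶ e₂.ptK' := Over.homMk (𝟙 _) (by
        change 𝟙 _ ≫ Spec.map _ ≫ Spec.map _ ≫ Spec.map _ ≫ _ = Spec.map _ ≫ Spec.map _ ≫ _
        rw [Category.id_comp]
        congr 1
        rw [← Spec.map_comp_assoc, ← CommRingCat.ofHom_comp]
        rfl)
      have key : (Over.homMk (Spec.map (CommRingCat.ofHom (algebraMap e.A' e.K'))) rfl :
          e.ptK' ⟶ e.ptA') ≫ θ =
          θK ≫ (Over.homMk (Spec.map (CommRingCat.ofHom (algebraMap e₂.A' e₂.K'))) rfl :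
          e₂.ptK' ⟶ e₂.ptA') := by
        apply Over.OverMorphism.ext
        simp only [Over.comp_left, Over.homMk_left, θ, θK]
        rw [Category.comp_id, Category.id_comp]
      rw [← Category.assoc, ← Functor.map_comp]
      rw [key, Functor.map_comp, Category.assoc]
      rw [hl1]
      change _ ≫ _ ≫ _ ≫ sq.top = _
      rw [← Category.assoc, ← Category.assoc, ← Functor.map_comp, ← Functor.map_comp]
      congr 2
      apply Over.OverMorphism.ext
      simp only [Over.comp_left, Over.homMk_left, θK]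
      rw [Category.id_comp, ← Spec.map_comp, ← CommRingCat.ofHom_comp]
    · change ((AlgSp.yon S).map θ ≫ l) ≫ (f.hom ≫ g.hom) = _
      rw [Category.assoc, ← Category.assoc l, hl2, Category.assoc]
      change _ ≫ _ ≫ m ≫ g.hom = _
      rw [hm2]
      let a₂ : e₂.ptA' ⟶ e₁.ptA' := Over.homMk (Spec.map (CommRingCat.ofHom φ₂)) rfl
      let a₁ : e₁.ptA' ⟶ sq.ptA := Over.homMk (Spec.map (CommRingCat.ofHom φ₁)) rfl
      change (AlgSp.yon S).map θ ≫ (AlgSp.yon S).map a₂ ≫ (AlgSp.yon S).map a₁ ≫ sq.bot = _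
      rw [← Category.assoc, ← Category.assoc, ← Functor.map_comp, ← Functor.map_comp]
      congr 2
      apply Over.OverMorphism.ext
      simp only [Over.comp_left, Over.homMk_left, θ, a₁, a₂]
      rw [Category.id_comp, ← Spec.map_comp, ← CommRingCat.ofHom_comp]
  · intro hUf hUg sq l l' h1 h2 h1' h2'
    have hm : l ≫ f.hom = l' ≫ f.hom := by
      refine hUg (sqG f.hom g.hom sq) (l ≫ f.hom) (l' ≫ f.hom) ?_ ?_ ?_ ?_
      · rw [← Category.assoc]; exact congrArg (fun t => t ≫ f.hom) h1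
      · rw [Category.assoc]; exact h2
      · rw [← Category.assoc]; exact congrArg (fun t => t ≫ f.hom) h1'
      · rw [Category.assoc]; exact h2'
    have hm1 : (AlgSp.yon S).map sq.j ≫ (l ≫ f.hom) = sq.top ≫ f.hom := by
      rw [← Category.assoc, h1]
    exact hUf (sqF f.hom g.hom sq (l ≫ f.hom) hm1) l l' h1 rfl h1' hm.symm


end Groth.Agent.S10287
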