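import Groth.Statements.S10291
import Groth.Agent.Lib.Helper3.AlgSpProper
import Groth.Agent.Lib.Helper3.FppfLocal2

set_option autoImplicit false
universe u
open CategoryTheory CategoryTheory.Limits AlgebraicGeometry
open AlgSp

namespace Groth.Agent.S10291

/-- A quasi-separated morphism of algebraic spaces satisfying the uniqueness part of the valuative
criterion is separated. -/
theorem result {S : Scheme.{u}} {X Y : AlgSp.Space S} (f : X ⟶ Y)
    (hqs : AlgSp.IsQuasiSeparatedMor f.hom) (hu : AlgSp.UniqVC f.hom) : AlgSp.IsSeparatedMor f.hom := by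
  have hrep := Groth.Agent.S9900.repWith_diagonal_lft_mono X.property f.hom
  refine ⟨hrep.rep, fun T E k e ι sqE => ?_⟩
  change IsClosedImmersion ι.left
  have hlft : LocallyOfFiniteType ι.left := (hrep.property k e ι sqE).1
  have hmono : Mono ι.left := (hrep.property k e ι sqE).2
  have hqc : QuasiCompact ι.left := hqs.property k e ι sqE
  have huc : UniversallyClosed ι.left := by
    refine UniversallyClosed.of_valuativeCriterion _ ?_
    intro Sv
    have hw := Sv.commSq.w
    let str : Spec (.of Sv.R) ⟶ S := Sv.i₂ ≫ T.hom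
    let ptA : Over S := Over.mk str
    let ptK : Over S := Over.mk (Spec.map (CommRingCat.ofHom (algebraMap Sv.R Sv.K)) ≫ str)
    let j : ptK ⟶ ptA := Over.homMk (Spec.map (CommRingCat.ofHom (algebraMap Sv.R Sv.K))) rfl
    let i₂o : ptA ⟶ T := Over.homMk Sv.i₂ rfl
    let i₁o : ptK ⟶ E := Over.homMk Sv.i₁ (by
      change Sv.i₁ ≫ E.hom = Spec.map _ ≫ Sv.i₂ ≫ T.hom
      rw [← Over.w ι, ← Category.assoc, hw, Category.assoc])
    have hji : i₁o ≫ ι = j ≫ i₂o := by
      apply Over.OverMorphism.ext
      exact hw
    have he : e = (e ≫ pullback.diagonal f.hom) ≫ pullback.fst f.hom f.hom := by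
      rw [Category.assoc, pullback.diagonal_fst, Category.comp_id]
    have he' : e = (e ≫ pullback.diagonal f.hom) ≫ pullback.snd f.hom f.hom := by
      rw [Category.assoc, pullback.diagonal_snd, Category.comp_id]
    have hyj : (AlgSp.yon S).map j ≫ (AlgSp.yon S).map i₂o ≫ k = (AlgSp.yon S).map i₁o ≫ e ≫ pullback.diagonal f.hom := by
      rw [← Category.assoc, ← Functor.map_comp, ← hji, Functor.map_comp, Category.assoc, sqE.w]
    let sq : AlgSp.ValSq f.hom :=
      { A := Sv.R, K := Sv.K, str := str, top := (AlgSp.yon S).map i₁o ≫ e,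
        bot := (AlgSp.yon S).map i₂o ≫ k ≫ pullback.fst f.hom f.hom ≫ f.hom,
        comm := by
          have := congrArg (· ≫ pullback.fst f.hom f.hom ≫ f.hom) hyj
          simp only [Category.assoc, pullback.diagonal_fst_assoc] at this
          rw [Category.assoc]
          exact this.symm }
    have hl := hu sq ((AlgSp.yon S).map i₂o ≫ k ≫ pullback.fst f.hom f.hom)
      ((AlgSp.yon S).map i₂o ≫ k ≫ pullback.snd f.hom f.hom) (by
        rw [← Category.assoc, ← Category.assoc]
        erw [hyj]
        simp only [Category.assoc, pullback.diagonal_fst, Category.comp_id]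
        rfl) (by simp only [Category.assoc]; rfl) (by
        rw [← Category.assoc, ← Category.assoc]
        erw [hyj]
        simp only [Category.assoc, pullback.diagonal_snd, Category.comp_id]
        rfl) (by
        change ((AlgSp.yon S).map i₂o ≫ k ≫ pullback.snd f.hom f.hom) ≫ f.hom =
          (AlgSp.yon S).map i₂o ≫ k ≫ pullback.fst f.hom f.hom ≫ f.hom
        simp only [Category.assoc, pullback.condition])
    have hk : ((AlgSp.yon S).map i₂o ≫ k ≫ pullback.fst f.hom f.hom) ≫ pullback.diagonal f.hom =
        (AlgSp.yon S).map i₂o ≫ k := by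
      apply pullback.hom_ext
      · simp only [Category.assoc, pullback.diagonal_fst, Category.comp_id]
      · simp only [Category.assoc, pullback.diagonal_snd, Category.comp_id]
        exact hl
    obtain ⟨σ, hσ⟩ := (AlgSp.yon S).map_surjective (sqE.lift _ _ hk)
    have hσι : σ ≫ ι = i₂o := by
      apply (AlgSp.yon S).map_injective
      rw [Functor.map_comp, hσ, sqE.lift_snd]
    have hσι' : σ.left ≫ ι.left = Sv.i₂ := by
      rw [← Over.comp_left, hσι]; rfl
    refine ⟨⟨{ l := σ.left, fac_left := ?_, fac_right := hσι' }⟩⟩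
    rw [← cancel_mono ι.left, Category.assoc, hσι', hw]
  rw [Groth.Agent.Lib.Helper3.isClosedImmersion_eq]
  exact ⟨⟨huc, hlft⟩, hmono⟩

end Groth.Agent.S10291
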