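import Groth.Statements.S10294
import Groth.Agent.Lib.Helper3.AlgSpRepLocal2
import Groth.Agent.Lib.Helper3.AlgSpLocP4
import Groth.Agent.Lib.Helper3.AlgSpLocP2

set_option autoImplicit false
universe u
open CategoryTheory CategoryTheory.Limits AlgebraicGeometry
open AlgSp

namespace Groth.Agent.S10294

/-- Finite locally free is the same as finite, flat and locally of finite presentation; over a locally
Noetherian target it is the same as finite and flat. -/
theorem result {S : Scheme.{u}} {X Y : AlgSp.Space S} (f : X ⟶ Y) :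
    (AlgSp.IsFinLocFreeMor f.hom ↔
      (AlgSp.IsFiniteMor f.hom ∧ AlgSp.LocP @Flat f.hom ∧ AlgSp.LocP @LocallyOfFinitePresentation f.hom)) ∧
    (AlgSp.IsLocNoethSp Y.obj →
      (AlgSp.IsFinLocFreeMor f.hom ↔ (AlgSp.IsFiniteMor f.hom ∧ AlgSp.LocP @Flat f.hom))) := by
  have hX := X.property
  have hY := Y.property
  have part1 : AlgSp.IsFinLocFreeMor f.hom ↔
      (AlgSp.IsFiniteMor f.hom ∧ AlgSp.LocP @Flat f.hom ∧
        AlgSp.LocP @LocallyOfFinitePresentation f.hom) := by
    constructor
    · intro h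
      have h1 : AlgSp.RepWith @IsFinite f.hom :=
        Groth.Agent.Lib.Helper3.repWith_mono (fun _ _ g hg => hg.1) h
      have h2 : AlgSp.RepWith @Flat f.hom :=
        Groth.Agent.Lib.Helper3.repWith_mono (fun _ _ g hg => hg.2.1) h
      have h3 : AlgSp.RepWith @LocallyOfFinitePresentation f.hom :=
        Groth.Agent.Lib.Helper3.repWith_mono (fun _ _ g hg => hg.2.2) h
      exact ⟨(Groth.Agent.Lib.Helper3.isFiniteMor_iff_repWith _).2 h1,
        Groth.Agent.Lib.Helper3.locP_of_repWith Groth.Agent.Lib.Helper3.isEtLocal_flat _ h2,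
        Groth.Agent.Lib.Helper3.locP_of_repWith
          Groth.Agent.Lib.Helper3.isEtLocal_locallyOfFinitePresentation _ h3⟩
    · rintro ⟨h1, h2, h3⟩
      have h1' := (Groth.Agent.Lib.Helper3.isFiniteMor_iff_repWith _).1 h1
      have h2' := Groth.Agent.Lib.Helper3.repWith_of_locP
        Groth.Agent.Lib.Helper3.isEtLocal_flat hX hY f.hom h1'.rep h2
      have h3' := Groth.Agent.Lib.Helper3.repWith_of_locP
        Groth.Agent.Lib.Helper3.isEtLocal_locallyOfFinitePresentation hX hY f.hom h1'.rep h3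
      exact ⟨h1'.rep, fun U V g fst snd sq =>
        ⟨h1'.property g fst snd sq, h2'.property g fst snd sq, h3'.property g fst snd sq⟩⟩
  refine ⟨part1, fun hN => ?_⟩
  rw [part1]
  refine ⟨fun h => ⟨h.1, h.2.1⟩, fun h => ⟨h.1, h.2, ?_⟩⟩
  obtain ⟨V, b, hbe, hbs, hVN⟩ := hN
  have h1' := (Groth.Agent.Lib.Helper3.isFiniteMor_iff_repWith _).1 h.1
  have sq := h1'.rep.isPullback b
  have hfin : IsFinite (h1'.rep.snd b).left := h1'.property_snd b
  have : IsLocallyNoetherian V.left := hVN
  have hlfp : LocallyOfFinitePresentation (h1'.rep.snd b).left :=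
    LocallyOfFinitePresentation.iff_locallyOfFiniteType.2 inferInstance
  exact Groth.Agent.Lib.Helper3.locP_of_chart
    Groth.Agent.Lib.Helper3.isEtLocal_locallyOfFinitePresentation f.hom (h1'.rep.fst b)
    (MorphismProperty.of_isPullback sq.flip hbe) (MorphismProperty.of_isPullback sq.flip hbs)
    b hbe (h1'.rep.snd b) sq.w hlfp

end Groth.Agent.S10294
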