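import Groth.Statements.S10298
import Groth.Agent.Lib.Helper3.AlgSpRepLocal2
-- import your own Groth.Agent.* helpers here

set_option autoImplicit false
universe u
open CategoryTheory CategoryTheory.Limits AlgebraicGeometry
open AlgSp

namespace Groth.Agent.S10298

section H
namespace W1

open Groth.Agent.Lib.Helper3

variable {S : Scheme.{u}}

theorem main {V U N : Over S} (g : V ⟶ U)
    [QuasiCompact g.left] [QuasiSeparated g.left] (f' : V ⟶ N) (ν : N ⟶ U)
    (e : N.left ≅ g.left.normalization) (he1 : f'.left ≫ e.hom = g.left.toNormalization)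
    (he2 : e.hom ≫ g.left.fromNormalization = ν.left) :
    AlgSp.IsRelNormalization ((AlgSp.yon S).map g) ((AlgSp.yon S).map ν) ((AlgSp.yon S).map f') := by
  have hfac : f' ≫ ν = g := by
    apply Over.OverMorphism.ext
    rw [Over.comp_left, ← he2, ← Category.assoc, he1, Scheme.Hom.toNormalization_fromNormalization]
  have hνint : IsIntegralHom ν.left := by
    rw [← he2]; infer_instance
  have he2' : e.inv ≫ ν.left = g.left.fromNormalization := by
    rw [← he2, Iso.inv_hom_id_assoc]
  refine ⟨by rw [← Functor.map_comp, hfac], ?_, ?_⟩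
  · rw [isIntegralMor_iff_repWith, repWith_yon_map_iff]
    exact hνint
  · intro Z hZ π g' hπ hg'
    rw [isIntegralMor_iff_repWith] at hπ
    obtain ⟨T, snd, fst, sq⟩ : ∃ (T : Over S) (snd : T ⟶ U) (fst : (yon S).obj T ⟶ Z),
        IsPullback fst ((yon S).map snd) π (𝟙 _) :=
      ⟨hπ.rep.pullback (𝟙 _), hπ.rep.snd (𝟙 _), hπ.rep.fst (𝟙 _), hπ.rep.isPullback (𝟙 _)⟩
    haveI hsnd : IsIntegralHom snd.left := hπ.property _ _ _ sq
    haveI : IsIso fst := sq.isIso_fst_of_isIso
    have hfstπ : fst ≫ π = (yon S).map snd := by rw [sq.w, Category.comp_id]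
    obtain ⟨g₁, hg₁⟩ := (yon S).map_surjective (g' ≫ inv fst)
    have hg₁' : (yon S).map g₁ ≫ fst = g' := by rw [hg₁, Category.assoc, IsIso.inv_hom_id, Category.comp_id]
    have hg₁snd : g₁ ≫ snd = g := by
      apply (yon S).map_injective
      rw [Functor.map_comp, ← hfstπ, ← Category.assoc, hg₁', hg']
    have H : g.left = g₁.left ≫ snd.left := by rw [← Over.comp_left, hg₁snd]
    set d := g.left.normalizationDesc g₁.left snd.left H with hd
    have hd1 : g.left.toNormalization ≫ d = g₁.left :=
      Scheme.Hom.toNormalization_normalizationDesc _ _ _ H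
    have hd2 : d ≫ snd.left = g.left.fromNormalization :=
      Scheme.Hom.normalizationDesc_comp _ _ _ H
    have hw : (e.hom ≫ d) ≫ T.hom = N.hom := by
      rw [← Over.w snd, Category.assoc, ← Category.assoc d, hd2, ← Category.assoc, he2, Over.w ν]
    set h₀ : N ⟶ T := Over.homMk (e.hom ≫ d) hw with hh₀
    have hh₀snd : h₀ ≫ snd = ν := by
      apply Over.OverMorphism.ext
      change (e.hom ≫ d) ≫ snd.left = ν.left
      rw [Category.assoc, hd2, he2]
    have hf'h₀ : f' ≫ h₀ = g₁ := by
      apply Over.OverMorphism.ext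
      change f'.left ≫ (e.hom ≫ d) = g₁.left
      rw [← Category.assoc, he1, hd1]
    refine ⟨(yon S).map h₀ ≫ fst, ⟨?_, ?_⟩, ?_⟩
    · rw [← Category.assoc, ← Functor.map_comp, hf'h₀, hg₁']
    · rw [Category.assoc, hfstπ, ← Functor.map_comp, hh₀snd]
    · rintro h' ⟨hh'1, hh'2⟩
      obtain ⟨k, hk⟩ := (yon S).map_surjective (h' ≫ inv fst)
      have hk' : (yon S).map k ≫ fst = h' := by
        rw [hk, Category.assoc, IsIso.inv_hom_id, Category.comp_id]
      have hksnd : k ≫ snd = ν := by
        apply (yon S).map_injective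
        rw [Functor.map_comp, ← hfstπ, ← Category.assoc, hk', hh'2]
      have hf'k : f' ≫ k = g₁ := by
        apply (yon S).map_injective
        rw [← cancel_mono fst, hg₁', Functor.map_comp, Category.assoc, hk', hh'1]
      have key : e.inv ≫ k.left = d := by
        refine Scheme.Hom.normalization.hom_ext g.left (e.inv ≫ k.left) d snd.left ?_ ?_ hd2
        · rw [hd1, ← he1, Category.assoc, Iso.hom_inv_id_assoc, ← Over.comp_left, hf'k]
        · rw [Category.assoc, ← Over.comp_left, hksnd, he2']
      have : k = h₀ := by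
        apply Over.OverMorphism.ext
        change k.left = e.hom ≫ d
        rw [← key, Iso.hom_inv_id_assoc]
      rw [← hk', this]

end W1
end H


/-- For a quasi-compact quasi-separated morphism of schemes, the relative normalization of schemes is
the normalization in the sense of algebraic spaces. -/
theorem result {S : Scheme.{u}} {V U N : Over S} (g : V ⟶ U)
    [QuasiCompact g.left] [QuasiSeparated g.left] (f' : V ⟶ N) (ν : N ⟶ U)
    (e : N.left ≅ g.left.normalization) (he1 : f'.left ≫ e.hom = g.left.toNormalization)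
    (he2 : e.hom ≫ g.left.fromNormalization = ν.left) :
    AlgSp.IsRelNormalization ((AlgSp.yon S).map g) ((AlgSp.yon S).map ν) ((AlgSp.yon S).map f') := by
  exact W1.main g f' ν e he1 he2

end Groth.Agent.S10298
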