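import Groth.Statements.S10302
import Groth.Agent.Lib.Helper3.AlgSpEtaleDim
import Groth.Agent.Lib.Helper3.AlgSpHasAtMor
import Groth.Agent.Lib.Helper3.AlgSpLocP3

set_option autoImplicit false
universe u
open CategoryTheory CategoryTheory.Limits AlgebraicGeometry
open AlgSp

namespace Groth.Agent.S10302

/-- A flat morphism of algebraic spaces maps points of codimension 0 to points of codimension 0. -/
theorem result {S : Scheme.{u}} {X Y : AlgSp.Space S} (f : X ⟶ Y) (hf : AlgSp.LocP @Flat f.hom)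
    (x : AlgSp.Points X.obj) (hx : AlgSp.HasAt (fun U u => ringKrullDim ↥(U.presheaf.stalk u) = 0) X.obj x) :
    AlgSp.HasAt (fun U u => ringKrullDim ↥(U.presheaf.stalk u) = 0) Y.obj (AlgSp.Points.map f.hom x) := by
  obtain ⟨U₀, a₀, u₀, ha₀, hu₀, hd⟩ := hx
  obtain ⟨V, b, hbe, hbs⟩ := Y.property.atlas
  obtain ⟨U, u, h, -, -, hae, has, -, hcomm⟩ :=
    Groth.Agent.Lib.Helper3.exists_chart_over X.property Y.property f.hom b hbe
  obtain ⟨u₁, hu₁⟩ := Groth.Agent.Lib.Helper3.exists_ofPt_eq _ (has hbs) x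
  have hdim : ringKrullDim ↥(U.left.presheaf.stalk u₁) = 0 := by
    rw [← hd]
    exact Groth.Agent.Lib.Helper3.ringKrullDim_stalk_eq_of_ofPt_eq _ a₀ hae ha₀ u₁ u₀
      (hu₁.trans hu₀.symm)
  have hfl : Flat h.left := hf _ _ h hae hbe hcomm
  refine ⟨V, b, h.left u₁, hbe, ?_, ?_⟩
  · rw [← hu₁, Points.map_ofPt, hcomm, Groth.Agent.Lib.Helper3.Points.ofPt_yon_map_comp]
  · apply le_antisymm
    · rw [← hdim]
      exact Groth.Agent.Lib.Helper3.ringKrullDim_stalk_le_of_flat h.left u₁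
    · exact ringKrullDim_nonneg_of_nontrivial

end Groth.Agent.S10302
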