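import Groth.Statements.S10303
import Groth.Agent.Lib.Helper3.LocFinIrredFlat
import Groth.Agent.Lib.Helper3.AlgSpLocP3

set_option autoImplicit false
universe u
open CategoryTheory CategoryTheory.Limits AlgebraicGeometry
open AlgSp

namespace Groth.Agent.S10303

/-- If Y has an etale surjective chart whose quasi-compact opens have finitely many irreducible
components and f : X -> Y is flat and locally of finite type, then X has such a chart too. -/
theorem result {S : Scheme.{u}} {X Y : AlgSp.Space S} (f : X ⟶ Y)
    (hf : AlgSp.LocP @Flat f.hom) (hf' : AlgSp.LocP @LocallyOfFiniteType f.hom)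
    (hY : AlgSp.EtaleLocally (fun U => ∀ W : U.Opens, IsCompact (W : Set ↥U) → (irreducibleComponents ↥W).Finite) Y.obj) :
    AlgSp.EtaleLocally (fun U => ∀ W : U.Opens, IsCompact (W : Set ↥U) → (irreducibleComponents ↥W).Finite) X.obj := by
  obtain ⟨V, b, hbe, hbs, hV⟩ := hY
  obtain ⟨U, c, h, hce, -, hae, has, hh, hk⟩ :=
    Groth.Agent.Lib.Helper3.exists_chart_over X.property Y.property f.hom b hbe
  haveI : Flat h.left := hf _ b h hae hbe hk
  haveI : LocallyOfFiniteType h.left := hf' _ b h hae hbe hk
  exact ⟨U, _, hae, has hbs,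
    Groth.Agent.Lib.Helper3.locFinIrred_of_flat_of_locallyOfFiniteType h.left hV⟩

end Groth.Agent.S10303
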