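import Groth.Statements.S10304
import Groth.Agent.Lib.Helper3.AlgSpLocFinIrred

set_option autoImplicit false
universe u
open CategoryTheory CategoryTheory.Limits AlgebraicGeometry
open AlgSp

namespace Groth.Agent.S10304

/-- Equivalent forms of the condition that the schemes etale over X have locally finitely many
irreducible components: one etale surjective chart, every etale chart, finiteness of codimension-0
points of quasi-compact spaces etale over X, finiteness of irreducible components of such spaces. -/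
theorem result {S : Scheme.{u}} (X : AlgSp.Space S) :
    (AlgSp.EtaleLocally (fun U => ∀ W : U.Opens, IsCompact (W : Set ↥U) → (irreducibleComponents ↥W).Finite) X.obj ↔
      ∀ (U : Over S) (a : (AlgSp.yon S).obj U ⟶ X.obj), AlgSp.RepWith @Etale a →
        ∀ W : U.left.Opens, IsCompact (W : Set ↥U.left) → (irreducibleComponents ↥W).Finite) ∧
    (AlgSp.EtaleLocally (fun U => ∀ W : U.Opens, IsCompact (W : Set ↥U) → (irreducibleComponents ↥W).Finite) X.obj ↔
      ∀ (Y : AlgSp.Space S) (g : Y ⟶ X), AlgSp.IsEtaleMor g.hom → AlgSp.IsQuasiCompactSp Y.obj →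
        {y : AlgSp.Points Y.obj |
          AlgSp.HasAt (fun U u => ringKrullDim ↥(U.presheaf.stalk u) = 0) Y.obj y}.Finite) ∧
    (AlgSp.EtaleLocally (fun U => ∀ W : U.Opens, IsCompact (W : Set ↥U) → (irreducibleComponents ↥W).Finite) X.obj ↔
      ∀ (Y : AlgSp.Space S) (g : Y ⟶ X), AlgSp.IsEtaleMor g.hom → AlgSp.IsQuasiCompactSp Y.obj →
        (irreducibleComponents (AlgSp.Points Y.obj)).Finite) := by
  have key1 : AlgSp.EtaleLocally Groth.Agent.Lib.Helper3.LocFinIrred X.obj →
      ∀ (U : Over S) (a : (AlgSp.yon S).obj U ⟶ X.obj), AlgSp.RepWith @Etale a →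
        Groth.Agent.Lib.Helper3.LocFinIrred U.left :=
    fun ⟨U₀, p₀, h1, h2, h3⟩ U a ha => Groth.Agent.Lib.Helper3.locFinIrred_chart p₀ h1 h2 h3 a ha
  have key2 : (∀ (U : Over S) (a : (AlgSp.yon S).obj U ⟶ X.obj), AlgSp.RepWith @Etale a →
        Groth.Agent.Lib.Helper3.LocFinIrred U.left) →
      AlgSp.EtaleLocally Groth.Agent.Lib.Helper3.LocFinIrred X.obj := fun H => by
    obtain ⟨U, a, hae, has⟩ := X.property.atlas
    exact ⟨U, a, hae, has, H U a hae⟩
  refine ⟨⟨key1, key2⟩,
    ⟨fun hX Y g hg hY =>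
      Groth.Agent.Lib.Helper3.finite_codimZero_of_locFinIrred g.hom hg hX hY, fun H => key2 ?_⟩,
    ⟨fun hX Y g hg hY =>
      Groth.Agent.Lib.Helper3.finite_irreducibleComponents_points_of_locFinIrred g.hom hg hX hY,
      fun H => key2 ?_⟩⟩
  · intro U a hae W hW
    have hfin := H ⟨(AlgSp.yon S).obj (Over.mk (W.ι ≫ U.hom)),
        AlgSp.IsAlgSpace.yon_obj (Over.mk (W.ι ≫ U.hom))⟩
      (ObjectProperty.homMk (Groth.Agent.Lib.Helper3.chartRestrict a W))
      (Groth.Agent.Lib.Helper3.isEtaleMor_chartRestrict a hae W)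
      (Groth.Agent.Lib.Helper3.isQuasiCompactSp_of_isCompact W hW)
    rw [Groth.Agent.Lib.Helper3.finite_irreducibleComponents_opens_iff,
      ← Groth.Agent.Lib.Helper3.image_val_maxPts_opens]
    apply Set.Finite.image
    refine Set.Finite.of_injOn (f := AlgSp.Points.ofScheme (Over.mk (W.ι ≫ U.hom))) ?_
      (AlgSp.Points.schemeHomeo (Over.mk (W.ι ≫ U.hom))).injective.injOn hfin
    intro w hw
    exact ⟨Over.mk (W.ι ≫ U.hom), 𝟙 _, w, AlgSp.repWith_id _ _, rfl,
      (Groth.Agent.Lib.Helper3.stalk_dim_zero_iff_mem_maxPts _ w).2 hw⟩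
  · intro U a hae W hW
    have hfin := H ⟨(AlgSp.yon S).obj (Over.mk (W.ι ≫ U.hom)),
        AlgSp.IsAlgSpace.yon_obj (Over.mk (W.ι ≫ U.hom))⟩
      (ObjectProperty.homMk (Groth.Agent.Lib.Helper3.chartRestrict a W))
      (Groth.Agent.Lib.Helper3.isEtaleMor_chartRestrict a hae W)
      (Groth.Agent.Lib.Helper3.isQuasiCompactSp_of_isCompact W hW)
    exact Groth.Agent.Lib.Helper3.finite_irreducibleComponents_of_surjective
      (AlgSp.Points.schemeHomeo (Over.mk (W.ι ≫ U.hom))).symm
      (AlgSp.Points.schemeHomeo (Over.mk (W.ι ≫ U.hom))).symm.continuous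
      (AlgSp.Points.schemeHomeo (Over.mk (W.ι ≫ U.hom))).symm.surjective hfin

end Groth.Agent.S10304
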