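import Groth.Statements.S9429
import Mathlib
import Groth.Agent.Lib.Helper25.StdSmoothDim
import Groth.Agent.Lib.Helper25.FiniteSyntomic
-- import your own Groth.Agent.* helpers here

set_option autoImplicit false
set_option linter.unusedSectionVars false
set_option linter.style.haveILetI false
set_option linter.unusedVariables false
universe u
open Synt

namespace Groth.Agent.S9429

/-- a nontrivial standard smooth algebra over a field is a global complete intersection -/
theorem isGlobalCI_of_isStandardSmooth (k : Type u) [Field k] (S : Type u) [CommRing S]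
    [Algebra k S] [Algebra.IsStandardSmooth k S] : Synt.IsGlobalCI k S := by
  rcases subsingleton_or_nontrivial S with h | h
  · left; exact h
  obtain ⟨ι, σ, hσ, hι, ⟨Pr⟩⟩ := ‹Algebra.IsStandardSmooth k S›
  haveI := hσ
  haveI := hι
  letI : Fintype ι := Fintype.ofFinite ι
  letI : Fintype σ := Fintype.ofFinite σ
  have hle : Nat.card σ ≤ Nat.card ι := Pr.card_relations_le_card_vars_of_isFinite
  haveI : Algebra.IsStandardSmoothOfRelativeDimension Pr.dimension k S :=
    Pr.isStandardSmoothOfRelativeDimension rfl
  have hdim := Groth.Agent.Lib.Helper25.StdSmoothDim.ringKrullDim_eq_of_isStandardSmoothOfRelativeDimension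
    k Pr.dimension S
  rw [Nat.card_eq_fintype_card, Nat.card_eq_fintype_card] at hle
  refine Groth.Agent.Lib.Helper25.FiniteSyntomic.isGlobalCI_of_presentation k S (Fintype.card ι)
    (Fintype.card σ) hle
    (Pr.toPresentation.reindex (Fintype.equivFin ι).symm (Fintype.equivFin σ).symm) ?_
  rw [hdim]
  simp only [Algebra.Presentation.dimension, Nat.card_eq_fintype_card]

/-- A smooth algebra over a field k is a local complete intersection over k (finite type, and locally on
Spec S by principal opens a global complete intersection). -/
theorem result (k : Type u) [Field k] (S : Type u) [CommRing S] [Algebra k S]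
    [Algebra.Smooth k S] : Synt.IsLCIOver k S := by
  refine ⟨inferInstance, fun p => ?_⟩
  obtain ⟨s, hs, hsm⟩ := Algebra.Smooth.exists_span_eq_top_isStandardSmooth k S
  have : ∃ g ∈ s, g ∉ p.asIdeal := by
    by_contra hcon
    push Not at hcon
    have : Ideal.span s ≤ p.asIdeal := Ideal.span_le.2 hcon
    rw [hs] at this
    exact p.isPrime.ne_top (top_le_iff.1 this)
  obtain ⟨g, hgs, hgp⟩ := this
  refine ⟨g, hgp, ?_⟩
  haveI := hsm g hgs
  exact isGlobalCI_of_isStandardSmooth k (Localization.Away g)

end Groth.Agent.S9429
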