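import Groth.Statements.S9699
import Mathlib
import Groth.Agent.S9429
-- import your own Groth.Agent.* helpers here

set_option autoImplicit false
set_option linter.unusedSectionVars false
set_option linter.style.haveILetI false
set_option linter.unusedVariables false
universe u
open CategoryTheory CategoryTheory.Limits AlgebraicGeometry
open Synt

namespace Groth.Agent.S9699

/-- a smooth ring map is syntomic -/
theorem isSyntomic_of_smooth (R : Type u) [CommRing R] (A : Type u) [CommRing A] [Algebra R A]
    [Algebra.Smooth R A] : Synt.IsSyntomic R A := by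
  refine ⟨Algebra.Smooth.flat R A, inferInstance, fun p => ?_⟩
  exact Groth.Agent.S9429.result p.asIdeal.ResidueField (p.asIdeal.Fiber A)

/-- A smooth morphism of schemes is syntomic (flat, locally of finite presentation, with local complete
intersection fibres, in the affine-local sense of Synt.IsSyntomicMor). -/
theorem result {X S : Scheme.{u}} (f : X ⟶ S) [Smooth f] :
    Synt.IsSyntomicMor f := by
  intro x
  obtain ⟨U, hU, V, hV, hxV, e, hst⟩ := Smooth.exists_isStandardSmooth f x
  refine ⟨⟨V, hV⟩, ⟨U, hU⟩, e, hxV, ?_⟩
  letI := (f.appLE U V e).hom.toAlgebra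
  haveI : Algebra.IsStandardSmooth Γ(S, U) Γ(X, V) := hst
  exact isSyntomic_of_smooth Γ(S, U) Γ(X, V)

end Groth.Agent.S9699
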