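import Groth.Statements.S10311
import Groth.Agent.Lib.Helper15.AlgSpBCChart
import Groth.Agent.Lib.lead.FlatRelDimSp
import Groth.Agent.Lib.lead.FibreDimBCLocal
-- import your own Groth.Agent.* helpers here

set_option autoImplicit false
universe u
open CategoryTheory CategoryTheory.Limits AlgebraicGeometry
open AlgSp

namespace Groth.Agent.S10311

section H
namespace W1
open Groth.Agent.Lib.Helper3 Groth.Agent.Lib.Helper15
set_option backward.isDefEq.respectTransparency.types false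

variable {S : Scheme.{u}}

theorem main {X Y Y' X' : AlgSp.Space S} (f : X ⟶ Y) (g : Y' ⟶ Y)
    (g' : X' ⟶ X) (f' : X' ⟶ Y') (sq : IsPullback g'.hom f'.hom f.hom g.hom)
    (hf : AlgSp.LocP @LocallyOfFiniteType f.hom) (x' : AlgSp.Points X'.obj) (d : WithBot ℕ∞)
    (hd : AlgSp.HasAtMor (fun _ _ h u => FlatMor.fibreDimAt h u = d) f.hom (AlgSp.Points.map g'.hom x')) :
    AlgSp.HasAtMor (fun _ _ h u => FlatMor.fibreDimAt h u = d) f'.hom x' := by
  obtain ⟨U, V, V'', U'', a₀, b₀, h, a'', b'', p₁, p₂, k, w₀, ha₀e, hb₀e, hw, ha''e, hb''e, hw'',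
    sqS, -, -, hpt1, hpt2⟩ :=
    AlgSpBCChart.exists_baseChange_chart X.property Y.property Y'.property f.hom g.hom g'.hom
      f'.hom sq x'
  obtain ⟨U₁, V₁, a₁, b₁, h₁, u₁, ha₁, hb₁, w₁, hu₁, hd₁⟩ := hd
  haveI : LocallyOfFiniteType h.left := hf a₀ b₀ h ha₀e hb₀e hw
  haveI : LocallyOfFiniteType h₁.left := hf a₁ b₁ h₁ ha₁ hb₁ w₁
  have e1 := Groth.Agent.Lib.lead.FlatRelDimSp.fibreDimAt_eq_of_charts f.hom a₀ b₀ h a₁ b₁ h₁
    ha₀e hb₀e ha₁ hb₁ hw w₁ (p₁.left w₀) u₁ (hpt2.trans hu₁.symm)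
  have e2 := Groth.Agent.Lib.lead.FibreDimBCLocal.fibreDimAt_baseChange h.left k.left p₁.left
    p₂.left sqS w₀
  refine ⟨U'', V'', a'', b'', p₂, w₀, ha''e, hb''e, hw'', hpt1, ?_⟩
  show FlatMor.fibreDimAt p₂.left w₀ = d
  rw [e2, e1, hd₁]

end W1
end H


/-- The relative dimension at a point of a morphism locally of finite type is preserved by base change. -/
theorem result {S : Scheme.{u}} {X Y Y' X' : AlgSp.Space S} (f : X ⟶ Y) (g : Y' ⟶ Y)
    (g' : X' ⟶ X) (f' : X' ⟶ Y') (sq : IsPullback g'.hom f'.hom f.hom g.hom)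
    (hf : AlgSp.LocP @LocallyOfFiniteType f.hom) (x' : AlgSp.Points X'.obj) (d : WithBot ℕ∞)
    (hd : AlgSp.HasAtMor (fun _ _ h u => FlatMor.fibreDimAt h u = d) f.hom (AlgSp.Points.map g'.hom x')) :
    AlgSp.HasAtMor (fun _ _ h u => FlatMor.fibreDimAt h u = d) f'.hom x' := by
  exact W1.main f g g' f' sq hf x' d hd

end Groth.Agent.S10311
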