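import Groth.Statements.S10316
import Groth.Agent.Lib.Helper3.AlgSpResTrdeg

set_option autoImplicit false
universe u
open CategoryTheory CategoryTheory.Limits AlgebraicGeometry
open AlgSp

namespace Groth.Agent.S10316

/-- For X -> Y locally quasi-finite and Y -> Z locally of finite type, the transcendence degree of x
over Z equals that of its image y over Z. -/
theorem result {S : Scheme.{u}} {X Y Z : AlgSp.Space S} (f : X ⟶ Y) (g : Y ⟶ Z)
    (hf : AlgSp.LocP (@LocallyQuasiFinite ⊓ @LocallyOfFiniteType) f.hom) (hg : AlgSp.LocP @LocallyOfFiniteType g.hom)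
    (x : AlgSp.Points X.obj) (r : Cardinal.{u}) :
    AlgSp.HasAtMor (fun _ _ h u => Dual3.resTrdeg h u = r) (f ≫ g).hom x ↔
      AlgSp.HasAtMor (fun _ _ h u => Dual3.resTrdeg h u = r) g.hom (AlgSp.Points.map f.hom x) := by
  obtain ⟨U, V, W, a, b, c, h, k, u, hae, hbe, hce, hh, hk, hu⟩ :=
    Groth.Agent.Lib.Helper3.exists_chart_triple X.property Y.property Z.property f.hom g.hom x
  have hlqf : LocallyQuasiFinite h.left := (hf a b h hae hbe hh).1
  have hv : Points.ofPt b (h.left u) = Points.map f.hom x := by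
    rw [Groth.Agent.Lib.Helper3.ofPt_map_of_comm f.hom a b h hh u, hu]
  have hcomm : a ≫ (f ≫ g).hom = (yon S).map (h ≫ k) ≫ c := by
    change a ≫ f.hom ≫ g.hom = _
    rw [← Category.assoc, hh, Category.assoc, hk, Functor.map_comp, Category.assoc]
  have e0 : Dual3.resTrdeg (h ≫ k).left u = Dual3.resTrdeg k.left (h.left u) := by
    rw [Over.comp_left, Groth.Agent.Lib.Helper3.resTrdeg_comp,
      Groth.Agent.Lib.Helper3.resTrdeg_eq_zero_of_locallyQuasiFinite h.left, add_zero]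
  constructor
  · rintro ⟨U₁, W₁, a₁, c₁, l₁, u₁, ha₁, hc₁, w₁, hu₁, hr₁⟩
    refine ⟨V, W, b, c, k, h.left u, hbe, hce, hk, hv, ?_⟩
    change Dual3.resTrdeg k.left (h.left u) = r
    rw [← e0, ← hr₁]
    exact Groth.Agent.Lib.Helper3.resTrdeg_eq_of_charts (f ≫ g).hom a c (h ≫ k) a₁ c₁ l₁ hae hce
      ha₁ hc₁ hcomm w₁ u u₁ (hu.trans hu₁.symm)
  · rintro ⟨V₂, W₂, b₂, c₂, k₂, v₂, hb₂, hc₂, w₂, hv₂, hr₂⟩
    refine ⟨U, W, a, c, h ≫ k, u, hae, hce, hcomm, hu, ?_⟩
    change Dual3.resTrdeg (h ≫ k).left u = r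
    rw [e0, ← hr₂]
    exact Groth.Agent.Lib.Helper3.resTrdeg_eq_of_charts g.hom b c k b₂ c₂ k₂ hbe hce hb₂ hc₂ hk w₂
      (h.left u) v₂ (hv.trans hv₂.symm)

end Groth.Agent.S10316
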