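import Groth.Statements.S10318
import Groth.Agent.Lib.Helper3.ClosedPtLqf

set_option autoImplicit false
universe u
open CategoryTheory CategoryTheory.Limits AlgebraicGeometry
open AlgSp

namespace Groth.Agent.S10318

/-- Over a Jacobson algebraic space, a finite type point of a space locally of finite type over it has
transcendence degree 0 over its image. -/
theorem result {S : Scheme.{u}} {X Y : AlgSp.Space S} (f : X ⟶ Y)
    (hf : AlgSp.LocP @LocallyOfFiniteType f.hom) (hY : AlgSp.EtaleLocally (fun U => JacobsonSpace ↥U) Y.obj)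
    (x : AlgSp.Points X.obj) (hx : AlgSp.HasAt (fun U u => IsClosed ({u} : Set ↥U)) X.obj x) :
    AlgSp.HasAtMor (fun _ _ h u => Dual3.resTrdeg h u = 0) f.hom x := by
  obtain ⟨U₀, a₀, u₀, ha₀, hu₀, hcl⟩ := hx
  obtain ⟨V₀, b, hbe, hbs, hJ⟩ := hY
  obtain ⟨U, u', h, -, -, hae, has, -, hh⟩ :=
    Groth.Agent.Lib.Helper3.exists_chart_over X.property Y.property f.hom b hbe
  obtain ⟨u, hu⟩ := Groth.Agent.Lib.Helper3.exists_ofPt_eq _ (has hbs) x
  obtain ⟨W, p₀, p, sq⟩ := Groth.Agent.Lib.Helper3.exists_pullback_charts a₀ ha₀.1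
    (u' ≫ pullback.fst f.hom b)
  obtain ⟨w, hw₀, hw⟩ := Groth.Agent.Lib.Helper3.exists_of_ofPt_eq_of_isPullback sq u₀ u
    (hu₀.trans hu.symm)
  have hp₀ : Etale p₀.left := hae.2 a₀ ((yon S).map p) p₀ sq.flip
  have hp : Etale p.left := ha₀.2 _ ((yon S).map p₀) p sq
  have hlqf : LocallyQuasiFinite p₀.left :=
    Groth.Agent.Lib.Helper3.locallyQuasiFinite_of_unramified p₀.left
  have hwcl : IsClosed ({w} : Set ↥W.left) :=
    Groth.Agent.Lib.Helper3.isClosed_singleton_of_locallyQuasiFinite p₀.left w (by rw [hw₀]; exact hcl)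
  have hWe : RepWith @Etale ((yon S).map p ≫ (u' ≫ pullback.fst f.hom b)) :=
    MorphismProperty.comp_mem _ _ _ ((repWith_yon_map_iff _ _).2 hp) hae
  have hcomm : ((yon S).map p ≫ (u' ≫ pullback.fst f.hom b)) ≫ f.hom =
      (yon S).map (p ≫ h) ≫ b := by
    rw [Category.assoc, hh, Functor.map_comp, Category.assoc]
  have hlft : LocallyOfFiniteType (p ≫ h).left := hf _ _ (p ≫ h) hWe hbe hcomm
  have hJ' : JacobsonSpace ↥V₀.left := hJ
  refine ⟨W, V₀, _, b, p ≫ h, w, hWe, hbe, hcomm, ?_, ?_⟩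
  · rw [Groth.Agent.Lib.Helper3.Points.ofPt_yon_map_comp, hw, hu]
  · exact Groth.Agent.Lib.Helper3.resTrdeg_eq_zero_of_isClosed_of_jacobsonSpace (p ≫ h).left w hwcl

end Groth.Agent.S10318
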