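import Groth.Statements.S10319
import Groth.Agent.Lib.Helper3.AlgSpResTrdeg

set_option autoImplicit false
universe u
open CategoryTheory CategoryTheory.Limits AlgebraicGeometry
open AlgSp

namespace Groth.Agent.S10319

/-- Transcendence degrees at a point add up along a composition of morphisms locally of finite type. -/
theorem result {S : Scheme.{u}} {X Y Z : AlgSp.Space S} (f : X ⟶ Y) (g : Y ⟶ Z)
    (hf : AlgSp.LocP @LocallyOfFiniteType f.hom) (hg : AlgSp.LocP @LocallyOfFiniteType g.hom)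
    (x : AlgSp.Points X.obj) (r₁ r₂ : Cardinal.{u})
    (h1 : AlgSp.HasAtMor (fun _ _ h u => Dual3.resTrdeg h u = r₁) f.hom x)
    (h2 : AlgSp.HasAtMor (fun _ _ h u => Dual3.resTrdeg h u = r₂) g.hom (AlgSp.Points.map f.hom x)) :
    AlgSp.HasAtMor (fun _ _ h u => Dual3.resTrdeg h u = r₁ + r₂) (f ≫ g).hom x := by
  obtain ⟨U, V, W, a, b, c, h, k, u, hae, hbe, hce, hh, hk, hu⟩ :=
    Groth.Agent.Lib.Helper3.exists_chart_triple X.property Y.property Z.property f.hom g.hom x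
  obtain ⟨U₁, V₁, a₁, b₁, h₁', u₁, ha₁, hb₁, w₁, hu₁, hr₁⟩ := h1
  obtain ⟨V₂, W₂, b₂, c₂, k₂, v₂, hb₂, hc₂, w₂, hv₂, hr₂⟩ := h2
  have e1 : Dual3.resTrdeg h.left u = r₁ := by
    rw [← hr₁]
    exact Groth.Agent.Lib.Helper3.resTrdeg_eq_of_charts f.hom a b h a₁ b₁ h₁' hae hbe ha₁ hb₁ hh w₁
      u u₁ (hu.trans hu₁.symm)
  have hv : Points.ofPt b (h.left u) = Points.map f.hom x := by
    rw [Groth.Agent.Lib.Helper3.ofPt_map_of_comm f.hom a b h hh u, hu]
  have e2 : Dual3.resTrdeg k.left (h.left u) = r₂ := by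
    rw [← hr₂]
    exact Groth.Agent.Lib.Helper3.resTrdeg_eq_of_charts g.hom b c k b₂ c₂ k₂ hbe hce hb₂ hc₂ hk w₂
      (h.left u) v₂ (hv.trans hv₂.symm)
  refine ⟨U, W, a, c, h ≫ k, u, hae, hce, ?_, hu, ?_⟩
  · change a ≫ f.hom ≫ g.hom = _
    rw [← Category.assoc, hh, Category.assoc, hk, Functor.map_comp, Category.assoc]
  · change Dual3.resTrdeg (h ≫ k).left u = r₁ + r₂
    rw [Over.comp_left, Groth.Agent.Lib.Helper3.resTrdeg_comp, e1, e2, add_comm]

end Groth.Agent.S10319
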