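import Groth.Statements.S10327
import Groth.Agent.S10285
import Groth.Agent.S10288
import Groth.Agent.S10289
import Groth.Agent.S10290
import Groth.Agent.S10291

set_option autoImplicit false
universe u
open CategoryTheory CategoryTheory.Limits AlgebraicGeometry
open AlgSp

namespace Groth.Agent.S10327

/-- For f quasi-compact and quasi-separated, f is separated and universally closed if and only if the
valuative criterion holds, if and only if every valuative square has a unique lift. -/
theorem result {S : Scheme.{u}} {X Y : AlgSp.Space S} (f : X ⟶ Y)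
    (hqc : AlgSp.IsQuasiCompactMor f.hom) (hqs : AlgSp.IsQuasiSeparatedMor f.hom) :
    ((AlgSp.IsSeparatedMor f.hom ∧ AlgSp.IsUnivClosedMor f.hom) ↔ AlgSp.VC f.hom) ∧
    ((AlgSp.IsSeparatedMor f.hom ∧ AlgSp.IsUnivClosedMor f.hom) ↔
      (AlgSp.UniqVC f.hom ∧ AlgSp.ExistVCStrict f.hom)) := by
  have key : (AlgSp.IsSeparatedMor f.hom ∧ AlgSp.IsUnivClosedMor f.hom) ↔ AlgSp.VC f.hom := by
    constructor
    · rintro ⟨hs, hc⟩
      exact ⟨Groth.Agent.S10290.result f hs, Groth.Agent.S10289.result f hqs hc⟩
    · rintro ⟨hu, he⟩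
      exact ⟨Groth.Agent.S10291.result f hqs hu, Groth.Agent.S10288.result f hqc he⟩
  refine ⟨key, ?_⟩
  constructor
  · intro h
    have hv := key.1 h
    exact ⟨hv.1, (Groth.Agent.S10285.result f h.1).1 hv.2⟩
  · rintro ⟨hu, he⟩
    have hs := Groth.Agent.S10291.result f hqs hu
    exact key.2 ⟨hu, (Groth.Agent.S10285.result f hs).2 he⟩

end Groth.Agent.S10327
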