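import Groth.Statements.S10329
import Groth.Agent.Lib.Helper3.AlgSpFibreQF
import Groth.Agent.Lib.Helper3.AlgSpOpenSubsp
import Groth.Agent.Lib.Helper3.AlgSpLocP5
import Groth.Agent.Lib.Helper3.AlgSpDiag

set_option autoImplicit false
universe u
open CategoryTheory CategoryTheory.Limits AlgebraicGeometry
open AlgSp

namespace Groth.Agent.S10329

/-- If the fibre of a morphism locally of finite type has dimension 0 at a point, then the morphism is
locally quasi-finite on some open subspace containing the image of that point. -/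
theorem result {S : Scheme.{u}} {X Y F : AlgSp.Space S} (f : X ⟶ Y)
    (hf : AlgSp.LocP @LocallyOfFiniteType f.hom) (k : Type u) [Field k] (str : Spec (.of k) ⟶ S)
    (y : (AlgSp.yon S).obj (Over.mk str) ⟶ Y.obj) (p : F ⟶ X) (q : F.obj ⟶ (AlgSp.yon S).obj (Over.mk str))
    (sq : IsPullback p.hom q f.hom y) (z : AlgSp.Points F.obj)
    (hz : AlgSp.HasAt (fun U u => FlatMor.localDim ↥U u = 0) F.obj z) :
    ∃ (X' : AlgSp.Space S) (j : X' ⟶ X), AlgSp.RepWith @IsOpenImmersion j.hom ∧
      AlgSp.Points.map p.hom z ∈ Set.range (AlgSp.Points.map j.hom) ∧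
      AlgSp.LocP (@LocallyQuasiFinite ⊓ @LocallyOfFiniteType) (j ≫ f).hom := by
  classical
  -- chart of `f` through `x = p z`
  obtain ⟨V, b, hbe, hbs⟩ := Y.property.atlas
  obtain ⟨U, c, h, hce, -, hae, has, hh, hk⟩ :=
    Groth.Agent.Lib.Helper3.exists_chart_over X.property Y.property f.hom b hbe
  obtain ⟨u, hu⟩ := Groth.Agent.Lib.Helper3.exists_ofPt_eq _ (has hbs) (AlgSp.Points.map p.hom z)
  haveI hlft : LocallyOfFiniteType h.left := hf _ b h hae hbe hk
  have hq : h.left.QuasiFiniteAt u :=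
    Groth.Agent.Lib.Helper3.quasiFiniteAt_of_fibre_localDim_zero f.hom k str y p.hom q sq z hz
      _ b h hk hae hbe u hu
  -- the open subspace
  let W : Set (AlgSp.Points X.obj) :=
    AlgSp.Points.ofPt (c ≫ pullback.fst f.hom b) '' (h.left.quasiFiniteLocus : Set ↥U.left)
  have hW : IsOpen W :=
    Groth.Agent.Lib.Helper3.isOpenMap_ofPt _ hae _ h.left.quasiFiniteLocus.isOpen
  refine ⟨⟨Groth.Agent.Lib.Helper3.openSub X.obj W,
      Groth.Agent.Lib.Helper3.isAlgSpace_openSub X.property W hW⟩,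
    ObjectProperty.homMk (Groth.Agent.Lib.Helper3.openSubι X.obj W),
    Groth.Agent.Lib.Helper3.repWith_isOpenImmersion_openSubι X.obj W hW, ?_, ?_⟩
  · change AlgSp.Points.map p.hom z ∈
      Set.range (AlgSp.Points.map (Groth.Agent.Lib.Helper3.openSubι X.obj W))
    rw [Groth.Agent.Lib.Helper3.range_map_openSubι]
    exact ⟨u, hq, hu⟩
  · intro U' V' a' b' h' ha' hb' w'
    change a' ≫ (Groth.Agent.Lib.Helper3.openSubι X.obj W ≫ f.hom) = _ at w'
    have hje : AlgSp.RepWith @Etale (Groth.Agent.Lib.Helper3.openSubι X.obj W) :=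
      Groth.Agent.Lib.Helper3.repWith_mono (fun _ _ g hg => by
        haveI : IsOpenImmersion g := hg
        infer_instance) (Groth.Agent.Lib.Helper3.repWith_isOpenImmersion_openSubι X.obj W hW)
    have ha'' : AlgSp.RepWith @Etale (a' ≫ Groth.Agent.Lib.Helper3.openSubι X.obj W) :=
      (AlgSp.RepWith @Etale).comp_mem _ _ ha' hje
    have w'' : (a' ≫ Groth.Agent.Lib.Helper3.openSubι X.obj W) ≫ f.hom =
        (AlgSp.yon S).map h' ≫ b' := by rw [Category.assoc, w']
    have hlft' : LocallyOfFiniteType h'.left := hf _ b' h' ha'' hb' w''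
    refine ⟨?_, hlft'⟩
    rw [← Scheme.Hom.quasiFiniteLocus_eq_top_iff]
    refine top_le_iff.mp fun u' _ => ?_
    change h'.left.QuasiFiniteAt u'
    have hmem : AlgSp.Points.ofPt (a' ≫ Groth.Agent.Lib.Helper3.openSubι X.obj W) u' ∈ W := by
      have h1 : AlgSp.Points.ofPt (a' ≫ Groth.Agent.Lib.Helper3.openSubι X.obj W) u' ∈
          Set.range (AlgSp.Points.map (Groth.Agent.Lib.Helper3.openSubι X.obj W)) := by
        rw [← AlgSp.Points.map_ofPt]
        exact ⟨_, rfl⟩
      rwa [Groth.Agent.Lib.Helper3.range_map_openSubι X.obj W] at h1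
    obtain ⟨u₁, hu₁q, hu₁⟩ := hmem
    exact Groth.Agent.Lib.lead.QFCodimSp.quasiFiniteAt_of_charts f.hom
      (a' ≫ Groth.Agent.Lib.Helper3.openSubι X.obj W) b' h' _ b h ha'' hb' hae hbe w'' hk u' u₁
      hu₁.symm hu₁q

end Groth.Agent.S10329
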