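import Groth.Statements.S1033
import Mathlib.Algebra.Homology.DerivedCategory.Fractions
import Mathlib.Algebra.Homology.DerivedCategory.Ext.ExactSequences
import Mathlib.CategoryTheory.Abelian.Exact
-- import your own Groth.Agent.* helpers here

set_option autoImplicit false
universe w v u
open CategoryTheory CategoryTheory.Abelian
open CohDer

namespace Groth.Agent.S1033

open DerivedCategory Abelian CategoryTheory.Limits

variable {A : Type u} [Category.{v} A] [Abelian A]

/-- a quasi-isomorphism from a complex in degrees `≤ 0` to a complex concentrated in degree `0`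
is an epimorphism in degree `0`. -/
lemma epi_f_zero_of_quasiIso {X' S : CochainComplex A ℤ} (s : X' ⟶ S) [QuasiIso s]
    (hX : X'.d 0 1 = 0) (hS : S.d 0 1 = 0) (hS' : S.d (-1) 0 = 0) : Epi (s.f 0) := by
  have i1 : IsIso (X'.homologyι 0) := X'.isIso_homologyι 0 1 (by simp) hX
  have i2 : IsIso (S.homologyι 0) := S.isIso_homologyι 0 1 (by simp) hS
  have i3 : IsIso (S.pOpcycles 0) := S.isIso_pOpcycles (-1) 0 (by simp) hS'
  have i4 : IsIso (HomologicalComplex.homologyMap s 0) := by
    have := (inferInstance : QuasiIso s).quasiIsoAt 0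
    rwa [quasiIsoAt_iff_isIso_homologyMap] at this
  have e1 : HomologicalComplex.homologyMap s 0 ≫ S.homologyι 0 =
      X'.homologyι 0 ≫ HomologicalComplex.opcyclesMap s 0 :=
    HomologicalComplex.homologyι_naturality s 0
  have e2 : X'.pOpcycles 0 ≫ HomologicalComplex.opcyclesMap s 0 = s.f 0 ≫ S.pOpcycles 0 :=
    HomologicalComplex.p_opcyclesMap s 0
  have i5 : IsIso (HomologicalComplex.opcyclesMap s 0) := by
    have : HomologicalComplex.opcyclesMap s 0 =
        inv (X'.homologyι 0) ≫ HomologicalComplex.homologyMap s 0 ≫ S.homologyι 0 := by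
      rw [e1, IsIso.inv_hom_id_assoc]
    rw [this]; infer_instance
  have : Epi (s.f 0 ≫ S.pOpcycles 0) := by
    rw [← e2]; infer_instance
  have h : s.f 0 = (s.f 0 ≫ S.pOpcycles 0) ≫ inv (S.pOpcycles 0) := by simp
  rw [h]
  infer_instance

variable [HasDerivedCategory.{w} A]

/-- effaceability at the level of complexes -/
lemma eff {B : A} {Y : CochainComplex A ℤ} (hY : IsZero (Y.X 0))
    (f : Q.obj ((HomologicalComplex.single A (ComplexShape.up ℤ) 0).obj B) ⟶ Q.obj Y) :
    ∃ (B' : A) (π : B' ⟶ B), Epi π ∧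
      Q.map ((HomologicalComplex.single A (ComplexShape.up ℤ) 0).map π) ≫ f = 0 := by
  let S : CochainComplex A ℤ := (HomologicalComplex.single A (ComplexShape.up ℤ) 0).obj B
  have : CochainComplex.IsStrictlyLE S 0 := by
    rw [CochainComplex.isStrictlyLE_iff]
    intro i hi
    exact HomologicalComplex.isZero_single_obj_X _ _ _ _ (by omega)
  obtain ⟨X', hX', s, hs, g, hf⟩ := right_fac_of_isStrictlyLE f 0
  have hqi : QuasiIso s := by rwa [isIso_Q_map_iff_quasiIso] at hs
  have hd : X'.d 0 1 = 0 := (X'.isZero_of_isStrictlyLE 0 1 (by omega)).eq_of_tgt _ _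
  let j : (HomologicalComplex.single A (ComplexShape.up ℤ) 0).obj (X'.X 0) ⟶ X' :=
    HomologicalComplex.mkHomFromSingle (𝟙 (X'.X 0)) (by
      intro k hk
      simp only [ComplexShape.up_Rel] at hk
      subst hk
      rw [Category.id_comp]; exact hd)
  let iso := HomologicalComplex.singleObjXSelf (ComplexShape.up ℤ) 0 B
  let π : X'.X 0 ⟶ B := s.f 0 ≫ iso.hom
  have hπ : Epi π := by
    have := epi_f_zero_of_quasiIso s hd rfl rfl
    infer_instance
  have h1 : j ≫ s = (HomologicalComplex.single A (ComplexShape.up ℤ) 0).map π := by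
    apply HomologicalComplex.from_single_hom_ext
    rw [HomologicalComplex.comp_f, HomologicalComplex.mkHomFromSingle_f,
      HomologicalComplex.single_map_f_self]
    simp [π, iso]
  have h2 : j ≫ g = 0 := by
    apply HomologicalComplex.from_single_hom_ext
    exact hY.eq_of_tgt _ _
  refine ⟨X'.X 0, π, hπ, ?_⟩
  rw [hf, ← h1, Functor.map_comp, Category.assoc, IsIso.hom_inv_id_assoc, ← Functor.map_comp, h2,
    Functor.map_zero]

end Groth.Agent.S1033

namespace Groth.Agent.S1033

open DerivedCategory Abelian CategoryTheory.Limits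

variable {A : Type u} [Category.{v} A] [Abelian A] [HasExt.{w} A]

/-- effaceability of `Ext^n`, `n ≥ 1` -/
theorem ext_eff {B C : A} {n : ℕ} (hn : 1 ≤ n) (x : Ext B C n) :
    ∃ (B' : A) (π : B' ⟶ B), Epi π ∧ (Ext.mk₀ π).comp x (zero_add n) = 0 := by
  let _ := HasDerivedCategory.standard A
  let SC : CochainComplex A ℤ := (CochainComplex.singleFunctor A 0).obj C
  let Y : CochainComplex A ℤ := SC⟦(n : ℤ)⟧
  have hY : IsZero (Y.X 0) := by
    show IsZero (((HomologicalComplex.single A (ComplexShape.up ℤ) 0).obj C).X (0 + (n : ℤ)))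
    exact HomologicalComplex.isZero_single_obj_X _ _ _ _ (by omega)
  let e : (singleFunctor A 0).obj C ≅ Q.obj SC := (singleFunctorIsoCompQ A 0).app C
  let I : ((singleFunctor A 0).obj C)⟦(n : ℤ)⟧ ≅ Q.obj Y :=
    (shiftFunctor (DerivedCategory A) (n : ℤ)).mapIso e ≪≫ ((Q.commShiftIso (n : ℤ)).app SC).symm
  let f : (singleFunctor A 0).obj B ⟶ Q.obj Y := x.hom ≫ I.hom
  obtain ⟨B', π, hπ, h0⟩ : ∃ (B' : A) (π : B' ⟶ B), Epi π ∧
      (singleFunctor A 0).map π ≫ f = 0 := eff hY f
  refine ⟨B', π, hπ, ?_⟩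
  apply Ext.ext
  rw [Ext.comp_hom, Ext.mk₀_hom, ShiftedHom.mk₀_comp, Ext.zero_hom]
  have h1 : ((singleFunctor A 0).map π ≫ x.hom) ≫ I.hom = 0 ≫ I.hom := by
    rw [Category.assoc, Limits.zero_comp]; exact h0
  exact (cancel_mono I.hom).1 h1



/-- Let A be an abelian category (with Ext groups in some universe) and p ≥ 0. If Extᵖ(B, C) = 0 for all
objects B, C, then Extⁱ(B, C) = 0 for all i ≥ p and all B, C. -/
theorem result {A : Type u} [Category.{v} A] [Abelian A] [HasExt.{w} A] (p : ℕ)
    (h : ∀ (B C : A) (x : Ext B C p), x = 0) (i : ℕ) (hi : p ≤ i) (B C : A) (x : Ext B C i) : x = 0 := by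
  induction i, hi using Nat.le_induction generalizing B C with
  | base => exact h B C x
  | succ i hi ih =>
    obtain ⟨B', π, hπ, h0⟩ := ext_eff (by omega) x
    have hS : (ShortComplex.mk (kernel.ι π) π (kernel.condition π)).ShortExact :=
      { exact := ShortComplex.exact_kernel π }
    obtain ⟨x₁, hx₁⟩ := Ext.contravariant_sequence_exact₃ hS C x h0 (n₀ := i) (by omega)
    rw [← hx₁, ih _ _ x₁, Ext.comp_zero]

end Groth.Agent.S1033
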