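import Groth.Statements.S10333
import Groth.Agent.S10192
import Groth.Agent.S10193
import Groth.Agent.S9928
import Groth.Agent.Lib.Helper3.AlgSpRepLocal2
import Groth.Agent.Lib.Helper3.AlgSpDiag
-- import your own Groth.Agent.* helpers here

set_option autoImplicit false
universe u
open CategoryTheory CategoryTheory.Limits AlgebraicGeometry
open AlgSp

namespace Groth.Agent.S10333

section H
namespace W1

open Groth.Agent.Lib.Helper3

variable {S : Scheme.{u}}

theorem isReducedSp_of_iso {F G : Sp S} (e : F ≅ G) (h : IsReducedSp F) : IsReducedSp G := by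
  obtain ⟨U, p, hpe, hps, hU⟩ := h
  refine ⟨U, p ≫ e.hom, ?_, ?_, hU⟩
  · exact (RepWith @Etale).comp_mem _ _ hpe (MorphismProperty.of_isIso (RepWith @Etale) e.hom)
  · exact (RepWith @Surjective).comp_mem _ _ hps
      (MorphismProperty.of_isIso (RepWith @Surjective) e.hom)

theorem main {Y X X' : AlgSp.Space S} (f : Y ⟶ X)
    (ν : X' ⟶ X) (f' : Y ⟶ X')
    (hn : AlgSp.IsRelNormalization f.hom ν.hom f'.hom) (hY : AlgSp.IsReducedSp Y.obj) :
    AlgSp.IsReducedSp X'.obj := by
  obtain ⟨Z, i, hi, hrange, hZ⟩ := Groth.Agent.S10192.result X' Set.univ isClosed_univ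
  obtain ⟨g, hg⟩ := (Groth.Agent.S10193.result i hi hY f').2
    (by rw [hrange]; exact Set.subset_univ _)
  obtain ⟨hfac, hνint, huniv⟩ := hn
  have hiint : IsIntegralMor i.hom := by
    rw [isIntegralMor_iff_repWith]
    refine repWith_mono ?_ hi
    intro A B k hk
    haveI : IsClosedImmersion k := hk
    infer_instance
  have hcomp : IsIntegralMor (i.hom ≫ ν.hom) := by
    rw [isIntegralMor_iff_repWith] at hiint hνint ⊢
    exact (RepWith @IsIntegralHom).comp_mem _ _ hiint hνint
  have hg' : g.hom ≫ i.hom = f'.hom := congrArg (fun k => k.hom) hg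
  obtain ⟨h, ⟨hh1, hh2⟩, -⟩ := huniv Z.property (i.hom ≫ ν.hom) g.hom hcomp
    (by rw [← Category.assoc, hg', hfac])
  obtain ⟨k, -, hkuniq⟩ := huniv X'.property ν.hom f'.hom hνint hfac
  have h1 : h ≫ i.hom = k := hkuniq _ ⟨by rw [← Category.assoc, hh1, hg'], by
    rw [Category.assoc, hh2]⟩
  have h2 : 𝟙 X'.obj = k := hkuniq _ ⟨Category.comp_id _, Category.id_comp _⟩
  have hsplit : h ≫ i.hom = 𝟙 X'.obj := h1.trans h2.symm
  haveI : Mono i.hom := Groth.Agent.S9928.mono_of_repWith @IsClosedImmersion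
    (fun k hk => by haveI : IsClosedImmersion k := hk; infer_instance) i.hom hi
  have hsplit' : i.hom ≫ h = 𝟙 Z.obj := by
    rw [← cancel_mono i.hom, Category.assoc, hsplit, Category.comp_id, Category.id_comp]
  exact isReducedSp_of_iso ⟨i.hom, h, hsplit', hsplit⟩ hZ

end W1
end H


/-- Let f : Y -> X be a morphism of algebraic spaces over S that is quasi-compact and quasi-separated,
and X' -> X the normalization of X in Y (an integral morphism through which f factors, initial among
such factorizations). If Y is reduced then X' is reduced. -/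
theorem result {S : Scheme.{u}} {Y X X' : AlgSp.Space S} (f : Y ⟶ X)
    (hqc : AlgSp.IsQuasiCompactMor f.hom) (hqs : AlgSp.IsQuasiSeparatedMor f.hom) (ν : X' ⟶ X) (f' : Y ⟶ X')
    (hn : AlgSp.IsRelNormalization f.hom ν.hom f'.hom) (hY : AlgSp.IsReducedSp Y.obj) :
    AlgSp.IsReducedSp X'.obj := by
  exact W1.main f ν f' hn hY

end Groth.Agent.S10333
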