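import Groth.Statements.S10335
import Groth.Agent.Lib.Helper15.TrdegBC
import Groth.Agent.Lib.Helper15.GorSp5
import Groth.Agent.Lib.lead.RelDimFormulaSp
-- import your own Groth.Agent.* helpers here

set_option autoImplicit false
universe u
open CategoryTheory CategoryTheory.Limits AlgebraicGeometry
open AlgSp

namespace Groth.Agent.S10335

section H
namespace W1

open Groth.Agent.Lib.Helper15.TrdegBC Groth.Agent.Lib.Helper15.GorSp Groth.Agent.Lib.Helper3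
open Groth.Agent.Lib.lead Groth.Agent.Lib.Helper24 Groth.Agent.Lib.lead.RelDimFormulaSp

set_option backward.isDefEq.respectTransparency.types false

variable {S : Scheme.{u}}

theorem part1 {X Y Y' X' : AlgSp.Space S} (f : X ⟶ Y) (g : Y' ⟶ Y)
    (g' : X' ⟶ X) (f' : X' ⟶ Y') (sq : IsPullback g'.hom f'.hom f.hom g.hom)
    (hf : AlgSp.LocP @LocallyOfFiniteType f.hom)
    (x' : AlgSp.Points X'.obj) (e e' : WithBot ℕ∞) (r r' : Cardinal.{u})
    (he : AlgSp.HasAtMor (fun _ _ h u => ringKrullDim ↥((h.fiber (h u)).presheaf.stalk (h.asFiber u)) = e) f.hom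
          (AlgSp.Points.map g'.hom x'))
    (hr : AlgSp.HasAtMor (fun _ _ h u => Dual3.resTrdeg h u = r) f.hom (AlgSp.Points.map g'.hom x'))
    (he' : AlgSp.HasAtMor (fun _ _ h u => ringKrullDim ↥((h.fiber (h u)).presheaf.stalk (h.asFiber u)) = e') f'.hom x')
    (hr' : AlgSp.HasAtMor (fun _ _ h u => Dual3.resTrdeg h u = r') f'.hom x') :
    e' + ((Cardinal.toENat r' : ℕ∞) : WithBot ℕ∞) = e + ((Cardinal.toENat r : ℕ∞) : WithBot ℕ∞) ∧ e ≤ e' := by
  obtain ⟨U, V, U'', V'', a₀, b₀, kUV, a'', b'', kUV'', mU, mV, w₀, ha₀e, hb₀e, ha''e, hb''e,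
    hwUV, hwUV'', sqS, hmU, hmV, hw₀⟩ :=
    exists_baseChange_chart1 X.property Y.property Y'.property f.hom g.hom g'.hom f'.hom sq x'
  have hpt : Points.ofPt a₀ (mU.left w₀) = Points.map g'.hom x' := by
    rw [← Points.ofPt_yon_map_comp, ← hmU, ← Points.map_ofPt, hw₀]
  haveI : LocallyOfFiniteType kUV.left := hf a₀ b₀ kUV ha₀e hb₀e hwUV
  haveI : LocallyOfFiniteType kUV''.left := MorphismProperty.of_isPullback sqS inferInstance
  obtain ⟨U₁, V₁, a₁, b₁, h₁, u₁, ha₁, hb₁, w₁, hu₁, he⟩ := he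
  obtain ⟨U₂, V₂, a₂, b₂, h₂, u₂, ha₂, hb₂, w₂, hu₂, hr⟩ := hr
  obtain ⟨U₃, V₃, a₃, b₃, h₃, u₃, ha₃, hb₃, w₃, hu₃, he'⟩ := he'
  obtain ⟨U₄, V₄, a₄, b₄, h₄, u₄, ha₄, hb₄, w₄, hu₄, hr'⟩ := hr'
  have hG1 : FibreOrder.G h₁.left u₁ = FibreOrder.G kUV.left (mU.left w₀) :=
    G_eq_of_charts f.hom a₁ b₁ h₁ a₀ b₀ kUV ha₁ hb₁ ha₀e hb₀e w₁ hwUV u₁ _ (hu₁.trans hpt.symm)
  have hT2 : Dual3.resTrdeg h₂.left u₂ = Dual3.resTrdeg kUV.left (mU.left w₀) :=
    resTrdeg_eq_of_charts f.hom a₂ b₂ h₂ a₀ b₀ kUV ha₂ hb₂ ha₀e hb₀e w₂ hwUV u₂ _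
      (hu₂.trans hpt.symm)
  have hG3 : FibreOrder.G h₃.left u₃ = FibreOrder.G kUV''.left w₀ :=
    G_eq_of_charts f'.hom a₃ b₃ h₃ a'' b'' kUV'' ha₃ hb₃ ha''e hb''e w₃ hwUV'' u₃ _
      (hu₃.trans hw₀.symm)
  have hT4 : Dual3.resTrdeg h₄.left u₄ = Dual3.resTrdeg kUV''.left w₀ :=
    resTrdeg_eq_of_charts f'.hom a₄ b₄ h₄ a'' b'' kUV'' ha₄ hb₄ ha''e hb''e w₄ hwUV'' u₄ _
      (hu₄.trans hw₀.symm)
  rw [FibreOrder.ringKrullDim_fiber_stalk, hG1] at he
  rw [FibreOrder.ringKrullDim_fiber_stalk, hG3] at he'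
  rw [hT2] at hr
  rw [hT4] at hr'
  obtain ⟨k1, k2, k3⟩ := G_add_tr_baseChange kUV.left mV.left kUV''.left mU.left sqS w₀
  have hr1 : Cardinal.toENat r = (FibreDim.tr kUV.left (mU.left w₀) : ℕ∞) := by
    rw [← hr]
    unfold Dual3.resTrdeg
    rw [FibreDim.tr_spec kUV.left (mU.left w₀)]
    simp
  have hr2 : Cardinal.toENat r' = (FibreDim.tr kUV''.left w₀ : ℕ∞) := by
    rw [← hr']
    unfold Dual3.resTrdeg
    rw [FibreDim.tr_spec kUV''.left w₀]
    simp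
  rw [← he, ← he', hr1, hr2]
  refine ⟨?_, ?_⟩
  · exact_mod_cast congrArg (fun z : ℕ∞ => (z : WithBot ℕ∞)) k1
  · exact_mod_cast k3

theorem part2 {X Y Y' X' : AlgSp.Space S} (f : X ⟶ Y) (g : Y' ⟶ Y)
    (g' : X' ⟶ X) (f' : X' ⟶ Y') (sq : IsPullback g'.hom f'.hom f.hom g.hom)
    (hf : AlgSp.LocP @LocallyOfFiniteType f.hom)
    (x : AlgSp.Points X.obj) (y' : AlgSp.Points Y'.obj) (e : WithBot ℕ∞)
    (hxy : AlgSp.Points.map f.hom x = AlgSp.Points.map g.hom y')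
    (he : AlgSp.HasAtMor (fun _ _ h u => ringKrullDim ↥((h.fiber (h u)).presheaf.stalk (h.asFiber u)) = e) f.hom x) :
    ∃ x' : AlgSp.Points X'.obj, AlgSp.Points.map g'.hom x' = x ∧ AlgSp.Points.map f'.hom x' = y' ∧
      AlgSp.HasAtMor (fun _ _ h u => ringKrullDim ↥((h.fiber (h u)).presheaf.stalk (h.asFiber u)) = e)
        f'.hom x' := by
  obtain ⟨x'₀, hx1, hx2⟩ := Points.exists_of_isPullback sq x y' hxy
  obtain ⟨U, V, U'', V'', a₀, b₀, kUV, a'', b'', kUV'', mU, mV, w₀, ha₀e, hb₀e, ha''e, hb''e,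
    hwUV, hwUV'', sqS, hmU, hmV, hw₀⟩ :=
    exists_baseChange_chart1 X.property Y.property Y'.property f.hom g.hom g'.hom f'.hom sq x'₀
  have hpt : Points.ofPt a₀ (mU.left w₀) = x := by
    rw [← Points.ofPt_yon_map_comp, ← hmU, ← Points.map_ofPt, hw₀, hx1]
  have hpt' : Points.ofPt b'' (kUV''.left w₀) = y' := by
    rw [← Points.ofPt_yon_map_comp, ← hwUV'', ← Points.map_ofPt, hw₀, hx2]
  haveI : LocallyOfFiniteType kUV.left := hf a₀ b₀ kUV ha₀e hb₀e hwUV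
  haveI : LocallyOfFiniteType kUV''.left := MorphismProperty.of_isPullback sqS inferInstance
  have hcomm : kUV.left (mU.left w₀) = mV.left (kUV''.left w₀) := by
    rw [← Scheme.Hom.comp_apply, ← Scheme.Hom.comp_apply, sqS.w]
  obtain ⟨w₁, hw1, hw2, hw3⟩ :=
    exists_point_G_eq kUV.left mV.left kUV''.left mU.left sqS (mU.left w₀) (kUV''.left w₀) hcomm
  obtain ⟨U₁, V₁, a₁, b₁, h₁, u₁, ha₁, hb₁, w₁', hu₁, he⟩ := he
  have hG1 : FibreOrder.G h₁.left u₁ = FibreOrder.G kUV.left (mU.left w₀) :=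
    G_eq_of_charts f.hom a₁ b₁ h₁ a₀ b₀ kUV ha₁ hb₁ ha₀e hb₀e w₁' hwUV u₁ _ (hu₁.trans hpt.symm)
  rw [FibreOrder.ringKrullDim_fiber_stalk, hG1] at he
  refine ⟨Points.ofPt a'' w₁, ?_, ?_, U'', V'', a'', b'', kUV'', w₁, ha''e, hb''e, hwUV'', rfl, ?_⟩
  · rw [Points.map_ofPt, hmU, Points.ofPt_yon_map_comp, hw1, hpt]
  · rw [Points.map_ofPt, hwUV'', Points.ofPt_yon_map_comp, hw2, hpt']
  · show ringKrullDim ↥((kUV''.left.fiber (kUV''.left w₁)).presheaf.stalk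
      (kUV''.left.asFiber w₁)) = e
    rw [FibreOrder.ringKrullDim_fiber_stalk, hw3, he]

theorem main {X Y Y' X' : AlgSp.Space S} (f : X ⟶ Y) (g : Y' ⟶ Y)
    (g' : X' ⟶ X) (f' : X' ⟶ Y') (sq : IsPullback g'.hom f'.hom f.hom g.hom)
    (hf : AlgSp.LocP @LocallyOfFiniteType f.hom) :
    (∀ (x' : AlgSp.Points X'.obj) (e e' : WithBot ℕ∞) (r r' : Cardinal.{u}),
      AlgSp.HasAtMor (fun _ _ h u => ringKrullDim ↥((h.fiber (h u)).presheaf.stalk (h.asFiber u)) = e) f.hom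
          (AlgSp.Points.map g'.hom x') →
      AlgSp.HasAtMor (fun _ _ h u => Dual3.resTrdeg h u = r) f.hom (AlgSp.Points.map g'.hom x') →
      AlgSp.HasAtMor (fun _ _ h u => ringKrullDim ↥((h.fiber (h u)).presheaf.stalk (h.asFiber u)) = e') f'.hom x' →
      AlgSp.HasAtMor (fun _ _ h u => Dual3.resTrdeg h u = r') f'.hom x' →
        e' + ((Cardinal.toENat r' : ℕ∞) : WithBot ℕ∞) = e + ((Cardinal.toENat r : ℕ∞) : WithBot ℕ∞) ∧ e ≤ e') ∧
    (∀ (x : AlgSp.Points X.obj) (y' : AlgSp.Points Y'.obj) (e : WithBot ℕ∞),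
      AlgSp.Points.map f.hom x = AlgSp.Points.map g.hom y' →
      AlgSp.HasAtMor (fun _ _ h u => ringKrullDim ↥((h.fiber (h u)).presheaf.stalk (h.asFiber u)) = e) f.hom x →
        ∃ x' : AlgSp.Points X'.obj, AlgSp.Points.map g'.hom x' = x ∧ AlgSp.Points.map f'.hom x' = y' ∧
          AlgSp.HasAtMor (fun _ _ h u => ringKrullDim ↥((h.fiber (h u)).presheaf.stalk (h.asFiber u)) = e)
            f'.hom x') :=
  ⟨fun x' e e' r r' he hr he' hr' => part1 f g g' f' sq hf x' e e' r r' he hr he' hr',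
    fun x y' e hxy he => part2 f g g' f' sq hf x y' e hxy he⟩

end W1
end H


/-- In a base change square of algebraic spaces with f : X -> Y locally of finite type and f' : X' -> Y'
its base change along g : Y' -> Y, take a point x' of X' over x. The fibre of f' has a local ring at
x' whose dimension exceeds the corresponding dimension for the fibre of f at x by exactly the
transcendence degree of x over f(x) minus that of x' over f'(x'), and this excess is never negative;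
and for x in X and y' in Y' over the same point of Y some x' over both has excess zero. All four
quantities are read on some chart diagram through the point. -/
theorem result {S : Scheme.{u}} {X Y Y' X' : AlgSp.Space S} (f : X ⟶ Y) (g : Y' ⟶ Y)
    (g' : X' ⟶ X) (f' : X' ⟶ Y') (sq : IsPullback g'.hom f'.hom f.hom g.hom)
    (hf : AlgSp.LocP @LocallyOfFiniteType f.hom) :
    (∀ (x' : AlgSp.Points X'.obj) (e e' : WithBot ℕ∞) (r r' : Cardinal.{u}),
      AlgSp.HasAtMor (fun _ _ h u => ringKrullDim ↥((h.fiber (h u)).presheaf.stalk (h.asFiber u)) = e) f.hom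
          (AlgSp.Points.map g'.hom x') →
      AlgSp.HasAtMor (fun _ _ h u => Dual3.resTrdeg h u = r) f.hom (AlgSp.Points.map g'.hom x') →
      AlgSp.HasAtMor (fun _ _ h u => ringKrullDim ↥((h.fiber (h u)).presheaf.stalk (h.asFiber u)) = e') f'.hom x' →
      AlgSp.HasAtMor (fun _ _ h u => Dual3.resTrdeg h u = r') f'.hom x' →
        e' + ((Cardinal.toENat r' : ℕ∞) : WithBot ℕ∞) = e + ((Cardinal.toENat r : ℕ∞) : WithBot ℕ∞) ∧ e ≤ e') ∧
    (∀ (x : AlgSp.Points X.obj) (y' : AlgSp.Points Y'.obj) (e : WithBot ℕ∞),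
      AlgSp.Points.map f.hom x = AlgSp.Points.map g.hom y' →
      AlgSp.HasAtMor (fun _ _ h u => ringKrullDim ↥((h.fiber (h u)).presheaf.stalk (h.asFiber u)) = e) f.hom x →
        ∃ x' : AlgSp.Points X'.obj, AlgSp.Points.map g'.hom x' = x ∧ AlgSp.Points.map f'.hom x' = y' ∧
          AlgSp.HasAtMor (fun _ _ h u => ringKrullDim ↥((h.fiber (h u)).presheaf.stalk (h.asFiber u)) = e)
            f'.hom x') := by
  exact W1.main f g g' f' sq hf

end Groth.Agent.S10335
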