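import Groth.Statements.S10336
import Groth.Agent.Lib.Helper3.AlgSpRepLocal2

set_option autoImplicit false
universe u
open CategoryTheory CategoryTheory.Limits AlgebraicGeometry
open AlgSp

namespace Groth.Agent.S10336

/-- Integrality, finiteness and finite local freeness of a morphism f : X -> Y of algebraic spaces over
S can be checked on the restrictions of f over the members of a Zariski covering of Y by open
subspaces. -/
theorem result {S : Scheme.{u}} {X Y : AlgSp.Space S} (f : X ⟶ Y) {ι : Type u}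
    (Yi : ι → AlgSp.Space S) (j : ∀ i, Yi i ⟶ Y) (hj : AlgSp.IsZarCover (fun i => (Yi i).obj) (fun i => (j i).hom))
    (Xi : ι → AlgSp.Sp S) (p : ∀ i, Xi i ⟶ X.obj) (q : ∀ i, Xi i ⟶ (Yi i).obj)
    (sq : ∀ i, IsPullback (p i) (q i) f.hom (j i).hom) :
    ((∀ i, AlgSp.IsIntegralMor (q i)) → AlgSp.IsIntegralMor f.hom) ∧
    ((∀ i, AlgSp.IsFiniteMor (q i)) → AlgSp.IsFiniteMor f.hom) ∧
    ((∀ i, AlgSp.IsFinLocFreeMor (q i)) → AlgSp.IsFinLocFreeMor f.hom) := by
  refine ⟨fun h => ?_, fun h => ?_, fun h => ?_⟩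
  · rw [Groth.Agent.Lib.Helper3.isIntegralMor_iff_repWith]
    exact Groth.Agent.Lib.Helper3.repWith_of_zarCover @IsIntegralHom f.hom
      (fun i => (Yi i).obj) (fun i => (j i).hom) hj Xi p q sq
      (fun i => (Groth.Agent.Lib.Helper3.isIntegralMor_iff_repWith _).1 (h i))
  · rw [Groth.Agent.Lib.Helper3.isFiniteMor_iff_repWith]
    exact Groth.Agent.Lib.Helper3.repWith_of_zarCover @IsFinite f.hom
      (fun i => (Yi i).obj) (fun i => (j i).hom) hj Xi p q sq
      (fun i => (Groth.Agent.Lib.Helper3.isFiniteMor_iff_repWith _).1 (h i))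
  · exact Groth.Agent.Lib.Helper3.repWith_of_zarCover AlgSp.finLocFree f.hom
      (fun i => (Yi i).obj) (fun i => (j i).hom) hj Xi p q sq h

end Groth.Agent.S10336
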