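import Groth.Statements.S10342
import Groth.Agent.Lib.Helper3.AlgSpEtaleDim
import Groth.Agent.Lib.Helper3.AlgSpNoethChart
import Mathlib.RingTheory.Ideal.KrullsHeightTheorem

set_option autoImplicit false
universe u
open CategoryTheory CategoryTheory.Limits AlgebraicGeometry Topology TopologicalSpace
open AlgSp

namespace Groth.Agent.S10342

/-- Let X be a locally Noetherian algebraic space over a scheme S and a : h_U ⟶ X a representable etale
map from a scheme U. If two points u, u' of U have the same image in |X| and u' specializes to u,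
then u = u'. -/
theorem result {S : Scheme.{u}} (X : AlgSp.Space S)
    (hX : AlgSp.IsLocNoethSp X.obj) {U : Over S} (a : (AlgSp.yon S).obj U ⟶ X.obj) (ha : AlgSp.RepWith @Etale a)
    (u u' : ↥U.left) (he : AlgSp.Points.ofPt a u = AlgSp.Points.ofPt a u') (hs : u' ⤳ u) : u = u' := by
  have hUn : IsLocallyNoetherian U.left :=
    Groth.Agent.Lib.Helper3.isLocallyNoetherian_of_isLocNoethSp hX a ha
  by_contra hne
  have hdim := Groth.Agent.Lib.Helper3.ringKrullDim_stalk_eq_of_ofPt_eq a a ha ha u u' he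
  obtain ⟨W, hW, huW, -⟩ := exists_isAffineOpen_mem_and_subset (x := u) (U := ⊤) trivial
  have hu'W : u' ∈ W := hs.mem_open W.2 huW
  have hnr : IsNoetherianRing Γ(U.left, W) := hUn.component_noetherian ⟨W, hW⟩
  have hle : hW.primeIdealOf ⟨u', hu'W⟩ ≤ hW.primeIdealOf ⟨u, huW⟩ := by
    rw [PrimeSpectrum.le_iff_specializes]
    have hs' : (⟨u', hu'W⟩ : ↥W) ⤳ ⟨u, huW⟩ := by
      rw [subtype_specializes_iff]
      exact hs
    exact hs'.map hW.isoSpec.hom.continuous
  have hne' : hW.primeIdealOf ⟨u', hu'W⟩ ≠ hW.primeIdealOf ⟨u, huW⟩ := by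
    intro h
    have := hW.isoSpec.hom.homeomorph.injective h
    exact hne (congrArg Subtype.val this).symm
  have hlt : (hW.primeIdealOf ⟨u', hu'W⟩).asIdeal < (hW.primeIdealOf ⟨u, huW⟩).asIdeal :=
    lt_of_le_of_ne hle (fun h => hne' (PrimeSpectrum.ext h))
  have hl1 := hW.isLocalization_stalk ⟨u, huW⟩
  have hl2 := hW.isLocalization_stalk ⟨u', hu'W⟩
  have h1 : ringKrullDim ↥(U.left.presheaf.stalk u) =
      (hW.primeIdealOf ⟨u, huW⟩).asIdeal.height :=
    @IsLocalization.AtPrime.ringKrullDim_eq_height _ _ _ _ _ _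
      (TopCat.Presheaf.algebra_section_stalk U.left.presheaf ⟨u, huW⟩) hl1
  have h2 : ringKrullDim ↥(U.left.presheaf.stalk u') =
      (hW.primeIdealOf ⟨u', hu'W⟩).asIdeal.height :=
    @IsLocalization.AtPrime.ringKrullDim_eq_height _ _ _ _ _ _
      (TopCat.Presheaf.algebra_section_stalk U.left.presheaf ⟨u', hu'W⟩) hl2
  have h3 := Ideal.height_strict_mono_of_isPrime_of_isPrime hlt
  rw [h1, h2] at hdim
  exact h3.ne (WithBot.coe_injective hdim).symm

end Groth.Agent.S10342
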