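import Groth.Statements.S10344
import Groth.Agent.Lib.Helper3.AlgSpGenLift
import Groth.Agent.Lib.Helper3.AlgSpLocP3
import Groth.Agent.Lib.Helper3.AlgSpHasAtMor

set_option autoImplicit false
universe u
open CategoryTheory CategoryTheory.Limits AlgebraicGeometry Topology TopologicalSpace
open AlgSp

namespace Groth.Agent.S10344

/-- Let S be a scheme, Y and X algebraic spaces over S, and f : Y ⟶ X a flat morphism, and let x' ⤳ x be
a specialization in |X|, where x' is represented by a monomorphism Spec k ⟶ X which is representable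
quasi-compact (for instance X decent). Then generalizations lift along f at x: every y ∈ |Y| over x
has a generization y' over x'. -/
theorem result {S : Scheme.{u}} {X Y : AlgSp.Space S} (f : Y ⟶ X)
    (hf : AlgSp.LocP @Flat f.hom) (x x' : AlgSp.Points X.obj) (h : x' ⤳ x)
    (hx' : ∃ p : AlgSp.FieldPt X.obj, AlgSp.Points.mk p = x' ∧ Mono p.toHom ∧ AlgSp.RepWith @QuasiCompact p.toHom)
    (y : AlgSp.Points Y.obj) (hy : AlgSp.Points.map f.hom y = x) :
    ∃ y' : AlgSp.Points Y.obj, y' ⤳ y ∧ AlgSp.Points.map f.hom y' = x' := by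
  obtain ⟨p, rfl, -, hq⟩ := hx'
  obtain ⟨V, b, hbe, hbs⟩ := X.property.atlas
  obtain ⟨U, c₀, k, -, -, hce, hcs, -, hck⟩ :=
    Groth.Agent.Lib.Helper3.exists_chart_over Y.property X.property f.hom b hbe
  have hcs' := hcs hbs
  obtain ⟨w, hw⟩ := Groth.Agent.Lib.Helper3.exists_ofPt_eq _ hcs' y
  have hflat : Flat k.left := hf _ b k hce hbe hck
  have hux : AlgSp.Points.ofPt b (k.left w) = x := by
    rw [← Groth.Agent.Lib.Helper3.Points.ofPt_yon_map_comp, ← hck, ← AlgSp.Points.map_ofPt, hw, hy]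
  obtain ⟨u', hu', hu'x⟩ :=
    Groth.Agent.Lib.Helper3.exists_specializes_lift_of_qc_point x p h hq b hbe (k.left w) hux
  obtain ⟨w', hw', hw'u⟩ := (Flat.generalizingMap k.left) hu'
  refine ⟨AlgSp.Points.ofPt (c₀ ≫ pullback.fst f.hom b) w', ?_, ?_⟩
  · rw [← hw]
    exact hw'.map (AlgSp.Points.continuous_ofPt _)
  · rw [AlgSp.Points.map_ofPt, hck, Groth.Agent.Lib.Helper3.Points.ofPt_yon_map_comp, hw'u, hu'x]

end Groth.Agent.S10344
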