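import Groth.Statements.S10347
import Groth.Agent.Lib.Helper3.SchemeDim
import Groth.Agent.Lib.Helper3.AlgSpLocP3
import Groth.Agent.Lib.Helper3.AlgSpChartPts

set_option autoImplicit false
universe u
open CategoryTheory CategoryTheory.Limits AlgebraicGeometry Topology TopologicalSpace
open AlgSp

namespace Groth.Agent.S10347

/-- For a locally quasi-finite morphism f : X ⟶ Y of algebraic spaces over a scheme S (locally
quasi-finite and locally of finite type, etale locally on source and target), dim X ≤ dim Y. -/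
theorem result {S : Scheme.{u}} {X Y : AlgSp.Space S} (f : X ⟶ Y)
    (hf : AlgSp.LocP (@LocallyQuasiFinite ⊓ @LocallyOfFiniteType) f.hom) :
    AlgSp.dim X.obj ≤ AlgSp.dim Y.obj := by
  obtain ⟨V, b, hbe, hbs⟩ := Y.property.atlas
  obtain ⟨U₁, u, h, hue, hus, hae, has, hh, hcomm⟩ :=
    Groth.Agent.Lib.Helper3.exists_chart_over X.property Y.property f.hom b hbe
  have has' := has hbs
  unfold AlgSp.dim
  refine iSup_le fun U => iSup_le fun a => iSup_le fun ha => ?_
  obtain ⟨W, pU, pU₁, sq⟩ := Groth.Agent.Lib.Helper3.exists_pullback_charts a ha.1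
    (u ≫ pullback.fst f.hom b)
  have hpUe : Etale pU.left := hae.2 a ((yon S).map pU₁) pU sq.flip
  have hpUs : Surjective pU.left := has'.2 a ((yon S).map pU₁) pU sq.flip
  have hpU₁e : Etale pU₁.left := ha.2 _ ((yon S).map pU) pU₁ sq
  have hW : RepWith @Etale ((yon S).map pU₁ ≫ (u ≫ pullback.fst f.hom b)) :=
    MorphismProperty.comp_mem _ _ _ ((repWith_yon_map_iff _ _).2 hpU₁e) hae
  have hcomm' : ((yon S).map pU₁ ≫ (u ≫ pullback.fst f.hom b)) ≫ f.hom =
      (yon S).map (pU₁ ≫ h) ≫ b := by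
    rw [Category.assoc, hcomm, Functor.map_comp, Category.assoc]
  have hlqf : LocallyQuasiFinite (pU₁ ≫ h).left := (hf _ _ (pU₁ ≫ h) hW hbe hcomm').1
  have h1 : topologicalKrullDim ↥U.left ≤ topologicalKrullDim ↥W.left :=
    Groth.Agent.Lib.Helper3.topologicalKrullDim_le_of_etale_of_surjective pU.left
  have h2 : topologicalKrullDim ↥W.left ≤ topologicalKrullDim ↥V.left :=
    Groth.Agent.Lib.Helper3.topologicalKrullDim_le_of_locallyQuasiFinite (pU₁ ≫ h).left
  refine h1.trans (h2.trans ?_)
  exact le_iSup_of_le V (le_iSup_of_le b (le_iSup_of_le hbe le_rfl))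

end Groth.Agent.S10347
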