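import Groth.Statements.S10348
import Groth.Agent.Lib.Helper3.AlgSpEtaleDim
import Groth.Agent.Lib.Helper3.QuasiFiniteDim
import Groth.Agent.Lib.Helper3.AlgSpHasAtMor
import Groth.Agent.Lib.Helper3.AlgSpLocP3

set_option autoImplicit false
universe u
open CategoryTheory CategoryTheory.Limits AlgebraicGeometry Topology TopologicalSpace
open AlgSp

namespace Groth.Agent.S10348

/-- Let S be a scheme, X and Y algebraic spaces over S, and f : X ⟶ Y a morphism which is locally
quasi-finite; let x ∈ |X| have image y ∈ |Y|. Then the local ring of X at x has dimension at most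
that of the local ring of Y at the point y (both dimensions read on etale charts through the
points). -/
theorem result {S : Scheme.{u}} {X Y : AlgSp.Space S} (f : X ⟶ Y)
    (hf : AlgSp.LocP (@LocallyQuasiFinite ⊓ @LocallyOfFiniteType) f.hom) (x : AlgSp.Points X.obj)
    (d e : WithBot ℕ∞)
    (hx : AlgSp.HasAt (fun U u => ringKrullDim ↥(U.presheaf.stalk u) = d) X.obj x)
    (hy : AlgSp.HasAt (fun V v => ringKrullDim ↥(V.presheaf.stalk v) = e) Y.obj (AlgSp.Points.map f.hom x)) :
    d ≤ e := by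
  obtain ⟨U₀, a₀, u₀, ha₀, hu₀, hd⟩ := hx
  obtain ⟨V₀, b₀, v₀, hb₀, hv₀, he⟩ := hy
  obtain ⟨U, u, h, hue, hus, hae, -, hh, hcomm⟩ :=
    Groth.Agent.Lib.Helper3.exists_chart_over X.property Y.property f.hom b₀ hb₀
  -- the point of the fibre product over `x` and `v₀`
  obtain ⟨z, hz1, hz2⟩ := Groth.Agent.Lib.Helper3.Points.exists_of_isPullback
    (IsPullback.of_hasPullback f.hom b₀) x (Points.ofScheme V₀ v₀)
    (by rw [← hv₀, Points.ofPt_eq_map_ofScheme])
  obtain ⟨u₁, hu₁⟩ := Groth.Agent.Lib.Helper3.exists_ofPt_eq u hus z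
  have hx1 : Points.ofPt (u ≫ pullback.fst f.hom b₀) u₁ = x := by
    rw [← Points.map_ofPt, hu₁, hz1]
  have hv1 : h.left u₁ = v₀ := by
    apply (Points.schemeHomeo V₀).injective
    rw [← Points.map_yon_map_apply, hh, Points.map_comp]
    change Points.map (pullback.snd f.hom b₀) (Points.map u (Points.ofScheme U u₁)) = _
    rw [← Points.ofPt_eq_map_ofScheme, hu₁, hz2]
    rfl
  have hlqf : LocallyQuasiFinite h.left := (hf _ _ h hae hb₀ hcomm).1
  have h1 : ringKrullDim ↥(U.left.presheaf.stalk u₁) = d := by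
    rw [← hd]
    exact Groth.Agent.Lib.Helper3.ringKrullDim_stalk_eq_of_ofPt_eq _ a₀ hae ha₀ u₁ u₀
      (hx1.trans hu₀.symm)
  have h2 := Groth.Agent.Lib.Helper3.ringKrullDim_stalk_le_of_locallyQuasiFinite h.left u₁
  rw [h1, hv1, he] at h2
  exact h2

end Groth.Agent.S10348
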