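import Groth.Statements.S10351
import Groth.Agent.Lib.Helper3.AlgSpDecent

set_option autoImplicit false
universe u
open CategoryTheory CategoryTheory.Limits AlgebraicGeometry Topology TopologicalSpace
open AlgSp

namespace Groth.Agent.S10351

/-- Let S be a scheme, X and Y algebraic spaces over S, and f : X ⟶ Y a morphism which is representable
by schemes. If Y is decent then X is decent. -/
theorem result {S : Scheme.{u}} {X Y : AlgSp.Space S} (f : X ⟶ Y)
    (hf : AlgSp.Representable f.hom) (hY : AlgSp.IsDecent Y.obj) : AlgSp.IsDecent X.obj := by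
  intro x
  obtain ⟨q, hq, hqm, hqc⟩ := hY (AlgSp.Points.map f.hom x)
  obtain ⟨V, sndV, fstV, sq⟩ := hf q.toHom
  obtain ⟨v, hv⟩ := Groth.Agent.Lib.Helper3.exists_ofPt_of_isPullback_toHom f.hom x q hq fstV sndV sq
  have : Mono fstV := sq.mono_fst_of_mono
  have hqcV : AlgSp.RepWith @QuasiCompact fstV :=
    (AlgSp.RepWith @QuasiCompact).of_isPullback sq.flip hqc
  obtain ⟨h1, h2⟩ := Groth.Agent.Lib.Helper3.mono_and_qc_ofPt fstV hqcV v
  exact ⟨AlgSp.FieldPt.ofPt fstV v, hv, h1, h2⟩

end Groth.Agent.S10351
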