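import Groth.Statements.S10368
import Groth.Agent.Lib.Helper15.OnePointSp
-- import your own Groth.Agent.* helpers here

set_option autoImplicit false
universe u
open CategoryTheory CategoryTheory.Limits AlgebraicGeometry Topology TopologicalSpace
open AlgSp

namespace Groth.Agent.S10368

section H
namespace W1

open Groth.Agent.Lib.Helper3 Groth.Agent.Lib.Helper15 Groth.Agent.Lib.Helper15.OnePointSp

theorem main {S : Scheme.{u}} (Z : AlgSp.Space S) :
    (AlgSp.EtaleLocally (fun U => IsReduced U) Z.obj ∧ AlgSp.IsLocNoethSp Z.obj ∧ Nonempty (AlgSp.Points Z.obj) ∧ Subsingleton (AlgSp.Points Z.obj)) ↔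
      ∃ (k : Type u) (_ : Field k) (str : Spec (CommRingCat.of k) ⟶ S) (p : (AlgSp.yon S).obj (Over.mk str) ⟶ Z.obj),
        AlgSp.LocP @LocallyOfFinitePresentation p ∧ AlgSp.LocP @Flat p ∧ AlgSp.IsSurjectiveMor p := by
  constructor
  · rintro ⟨hr, hN, hne, hsub⟩
    obtain ⟨k, hk, str, p, hpe, hps⟩ := exists_lfp_flat_surjective_fieldPt Z.property hr hN
    refine ⟨k, hk, str, p, ?_, ?_, hps⟩
    · exact locP_of_repWith isEtLocal_locallyOfFinitePresentation _
        (repWith_mono (fun _ _ g (hg : Etale g) =>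
          (inferInstance : LocallyOfFinitePresentation g)) hpe)
    · exact locP_of_repWith isEtLocal_flat _
        (repWith_mono (fun _ _ g (hg : Etale g) => (inferInstance : Flat g)) hpe)
  · rintro ⟨k, hk, str, p, hpp, hpf, hps⟩
    obtain ⟨h1, h2, h3⟩ := reduced_singleton_of_flat_surjective_fieldPt Z.property k str p hpf hps
    exact ⟨h1, isLocNoethSp_of_lfp_flat_surjective_fieldPt Z.property k str p hpp hpf hps, h2, h3⟩

end W1
end H


/-- An algebraic space Z over a scheme S is reduced, locally Noetherian and has |Z| a single point if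
and only if there is a locally finitely presented, flat, surjective morphism Spec k ⟶ Z from the
spectrum of a field. -/
theorem result {S : Scheme.{u}} (Z : AlgSp.Space S) :
    (AlgSp.EtaleLocally (fun U => IsReduced U) Z.obj ∧ AlgSp.IsLocNoethSp Z.obj ∧ Nonempty (AlgSp.Points Z.obj) ∧ Subsingleton (AlgSp.Points Z.obj)) ↔
      ∃ (k : Type u) (_ : Field k) (str : Spec (CommRingCat.of k) ⟶ S) (p : (AlgSp.yon S).obj (Over.mk str) ⟶ Z.obj),
        AlgSp.LocP @LocallyOfFinitePresentation p ∧ AlgSp.LocP @Flat p ∧ AlgSp.IsSurjectiveMor p := by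
  exact W1.main Z

end Groth.Agent.S10368
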