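import Groth.Statements.S9977
import Groth.Agent.Lib.Helper15.AlgSpFT
-- import your own Groth.Agent.* helpers here

set_option autoImplicit false
universe u
open CategoryTheory CategoryTheory.Limits AlgebraicGeometry
open AlgSp

namespace Groth.Agent.S9977

section H
namespace W36
open Groth.Agent.Lib.Helper3 Groth.Agent.Lib.Helper15.AlgSpFT

variable {S : Scheme.{u}}

theorem part1 (X : AlgSp.Space S) (T : Set (AlgSp.Points X.obj)) (hT : IsLocallyClosed T)
    (hne : T.Nonempty) :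
    ∃ x ∈ T, (∃ (k : Type u) (_ : Field k) (str : Spec (CommRingCat.of k) ⟶ S) (ξ : (AlgSp.yon S).obj (Over.mk str) ⟶ X.obj),
        AlgSp.LocP @LocallyOfFiniteType ξ ∧ AlgSp.Points.ofPt ξ (IsLocalRing.closedPoint k) = x) := by
  obtain ⟨U, a, hae, has⟩ := X.property.atlas
  obtain ⟨x₀, hx₀⟩ := hne
  obtain ⟨u₀, rfl⟩ := exists_ofPt_eq a has x₀
  obtain ⟨K, _, j, hj, hjZ⟩ := exists_ft_field_point U.left (Points.ofPt a ⁻¹' T)
    (hT.preimage (Points.continuous_ofPt a)) u₀ hx₀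
  obtain ⟨h1, h2⟩ := locP_lft_chart_point X.property a hae j hj
  exact ⟨_, hjZ (IsLocalRing.closedPoint K), K, inferInstance, j ≫ U.hom, _, h1,
    h2 (IsLocalRing.closedPoint K)⟩

theorem main (X : AlgSp.Space S) :
    (∀ T : Set (AlgSp.Points X.obj), IsLocallyClosed T → T.Nonempty →
      ∃ x ∈ T, (∃ (k : Type u) (_ : Field k) (str : Spec (CommRingCat.of k) ⟶ S) (ξ : (AlgSp.yon S).obj (Over.mk str) ⟶ X.obj),
        AlgSp.LocP @LocallyOfFiniteType ξ ∧ AlgSp.Points.ofPt ξ (IsLocalRing.closedPoint k) = x)) ∧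
    (∀ T : Set (AlgSp.Points X.obj), IsClosed T →
      T ⊆ closure {x | x ∈ T ∧ (∃ (k : Type u) (_ : Field k) (str : Spec (CommRingCat.of k) ⟶ S) (ξ : (AlgSp.yon S).obj (Over.mk str) ⟶ X.obj),
        AlgSp.LocP @LocallyOfFiniteType ξ ∧ AlgSp.Points.ofPt ξ (IsLocalRing.closedPoint k) = x)}) := by
  refine ⟨fun T hT hne => part1 X T hT hne, fun T hT x hx => ?_⟩
  rw [mem_closure_iff]
  intro o ho hxo
  obtain ⟨z, hz, hft⟩ := part1 X (o ∩ T) (ho.isLocallyClosed.inter hT.isLocallyClosed) ⟨x, hxo, hx⟩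
  exact ⟨z, hz.1, hz.2, hft⟩

end W36
end H


/-- Every nonempty locally closed subset of |X| contains a finite type point, and finite type points are
dense in every closed subset. -/
theorem result {S : Scheme.{u}} (X : AlgSp.Space S) :
    (∀ T : Set (AlgSp.Points X.obj), IsLocallyClosed T → T.Nonempty →
      ∃ x ∈ T, (∃ (k : Type u) (_ : Field k) (str : Spec (CommRingCat.of k) ⟶ S) (ξ : (AlgSp.yon S).obj (Over.mk str) ⟶ X.obj),
        AlgSp.LocP @LocallyOfFiniteType ξ ∧ AlgSp.Points.ofPt ξ (IsLocalRing.closedPoint k) = x)) ∧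
    (∀ T : Set (AlgSp.Points X.obj), IsClosed T →
      T ⊆ closure {x | x ∈ T ∧ (∃ (k : Type u) (_ : Field k) (str : Spec (CommRingCat.of k) ⟶ S) (ξ : (AlgSp.yon S).obj (Over.mk str) ⟶ X.obj),
        AlgSp.LocP @LocallyOfFiniteType ξ ∧ AlgSp.Points.ofPt ξ (IsLocalRing.closedPoint k) = x)}) := by
  exact W36.main X

end Groth.Agent.S9977
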