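import Groth.Statements.S10370
import Groth.Agent.Lib.Helper15.KernelPairEt
import Groth.Agent.Lib.Helper15.EtaleField
import Groth.Agent.S9975
import Groth.Agent.S9977
-- import your own Groth.Agent.* helpers here

set_option autoImplicit false
universe u
open CategoryTheory CategoryTheory.Limits AlgebraicGeometry Topology TopologicalSpace
open AlgSp

namespace Groth.Agent.S10370

section H
namespace W1

open Groth.Agent.Lib.Helper3 Groth.Agent.Lib.Helper15 Groth.Agent.Lib.Helper15.FieldQuot
  Groth.Agent.Lib.Helper15.KernelPairEt Groth.Agent.Lib.Helper15.EtaleField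

/-- the kernel pair of `Spec κ ⟶ U ⟶ X` (monomorphism followed by an etale chart) has etale
projections. -/
theorem etale_snd_of_kernelPair_mono {S : Scheme.{u}} {X : Sp S} {U : Over S}
    (φ : (yon S).obj U ⟶ X)
    (hφ : RepWith @Etale φ) {κ : Type u} [Field κ] (str : Spec (CommRingCat.of κ) ⟶ S)
    (i : Over.mk str ⟶ U) [Mono i.left] {R : Over S} (s t : R ⟶ Over.mk str)
    (sq : IsPullback ((yon S).map s) ((yon S).map t) ((yon S).map i ≫ φ) ((yon S).map i ≫ φ)) :
    Etale t.left := by
  -- `E = U ×_X Spec κ`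
  obtain ⟨E, eU', e, sqE⟩ : ∃ (E : Over S) (eU' : (yon S).obj E ⟶ (yon S).obj U)
      (e : E ⟶ Over.mk str), IsPullback eU' ((yon S).map e) φ ((yon S).map i ≫ φ) :=
    ⟨_, _, _, hφ.rep.isPullback _⟩
  obtain ⟨eU, rfl⟩ := (yon S).map_surjective eU'
  haveI he : Etale e.left := hφ.property _ _ _ sqE
  have hw : ((yon S).map (s ≫ i)) ≫ φ = (yon S).map t ≫ (yon S).map i ≫ φ := by
    rw [Functor.map_comp, Category.assoc, sq.w]
  obtain ⟨ρ, hρ⟩ := (yon S).map_surjective (sqE.lift _ _ hw)
  have hρ1 : ρ ≫ eU = s ≫ i := by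
    apply (yon S).map_injective
    rw [Functor.map_comp, hρ, sqE.lift_fst]
  have hρ2 : ρ ≫ e = t := by
    apply (yon S).map_injective
    rw [Functor.map_comp, hρ, sqE.lift_snd]
  -- the left square is a pullback
  have sqL : IsPullback ((yon S).map ρ) ((yon S).map s) ((yon S).map eU) ((yon S).map i) := by
    have hright : IsPullback ((yon S).map e) ((yon S).map eU) ((yon S).map i ≫ φ) φ := sqE.flip
    have houter : IsPullback ((yon S).map ρ ≫ (yon S).map e) ((yon S).map s)
        ((yon S).map i ≫ φ) ((yon S).map i ≫ φ) := by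
      rw [← Functor.map_comp, hρ2]
      exact sq.flip
    refine IsPullback.of_right houter ?_ hright
    rw [← Functor.map_comp, ← Functor.map_comp, hρ1]
  have sqL' : IsPullback ρ s eU i := IsPullback.of_map_of_faithful (yon S) sqL
  have sqL'' : IsPullback ρ.left s.left eU.left i.left := sqL'.map (Over.forget S)
  haveI : Mono ρ.left :=
    (MorphismProperty.monomorphisms Scheme.{u}).of_isPullback sqL''.flip
      (MorphismProperty.monomorphisms.infer_property i.left)
  haveI : IsOpenImmersion ρ.left := isOpenImmersion_of_mono_of_etale_field e.left ρ.left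
  have : t.left = ρ.left ≫ e.left := by rw [← hρ2]; rfl
  rw [this]
  infer_instance

theorem main {S : Scheme.{u}} (X : AlgSp.Space S) (x : AlgSp.Points X.obj) :
    ∃ (Z : AlgSp.Space S) (i : Z ⟶ X), Mono i.hom ∧ Set.range (AlgSp.Points.map i.hom) = {x} ∧
      ∃ (k : Type u) (_ : Field k) (str : Spec (CommRingCat.of k) ⟶ S) (p : (AlgSp.yon S).obj (Over.mk str) ⟶ Z.obj),
        AlgSp.LocP @LocallyOfFinitePresentation p ∧ AlgSp.LocP @Flat p ∧ AlgSp.IsSurjectiveMor p := by
  obtain ⟨U, φ, hφ, hφs⟩ := X.property.atlas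
  obtain ⟨u, hxu⟩ := exists_ofPt_eq φ hφs x
  let κ : Type u := ↥(U.left.residueField u)
  let i : Spec (CommRingCat.of κ) ⟶ U.left := U.left.fromSpecResidueField u
  let str' : Spec (CommRingCat.of κ) ⟶ S := i ≫ U.hom
  let i' : Over.mk str' ⟶ U := Over.homMk i rfl
  haveI : Mono i'.left := inferInstanceAs (Mono (U.left.fromSpecResidueField u))
  set p : (yon S).obj (Over.mk str') ⟶ X.obj := (yon S).map i' ≫ φ with hpdef
  have hrep : Representable p := X.property.representable_from_yon p
  obtain ⟨R, t, s, sq⟩ := exists_pullback_charts p hrep p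
  have hE : IsEqvRel s t := isEqvRel_of_kernelPair s t p sq
  have hse : Etale s.left := etale_snd_of_kernelPair_mono φ hφ str' i' t s sq
  have hte : Etale t.left := etale_snd_of_kernelPair_mono φ hφ str' i' s t sq.flip
  have hEt : IsEtaleEqvRel s t := ⟨hE, hse, hte⟩
  obtain ⟨hpres, hZ⟩ := QuotRel.isPresentation_and_isAlgSpace s t hEt
  obtain ⟨f', hf'⟩ := QuotRel.exists_desc_quotMap s t p sq.w.symm
  have hloc : Sheaf.IsLocallySurjective (QuotRel.quotMap s t) :=
    (Sheaf.isLocallySurjective_iff_epi _).2 inferInstance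
  have hmono : Mono f' :=
    mono_of_common_kernelPair _ _ (QuotRel.quotMap s t) p f' hloc hf' hpres.isPullback sq
  have hsurj : Function.Surjective (Points.map (QuotRel.quotMap s t)) :=
    (S9906.repWith_surjective_iff _ hpres.surjective.rep).1 hpres.surjective
  haveI : Unique ↥(Over.mk str').left := (inferInstance : Unique (PrimeSpectrum κ))
  have hpt : ∀ w : ↥(Over.mk str').left, Points.ofPt p w = x := by
    intro w
    rw [hpdef, AlgSpFT.ofPt_yon_map_comp, ← hxu]
    congr 1
    have : w = IsLocalRing.closedPoint κ := Subsingleton.elim _ _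
    rw [this]
    exact Scheme.fromSpecResidueField_apply _ _
  refine ⟨⟨_, hZ⟩, ObjectProperty.homMk f', hmono, ?_, κ, inferInstance, str', QuotRel.quotMap s t,
    ?_, ?_, hsurj⟩
  · ext y
    simp only [Set.mem_range, Set.mem_singleton_iff]
    constructor
    · rintro ⟨z, rfl⟩
      obtain ⟨w, rfl⟩ := hsurj z
      obtain ⟨w', rfl⟩ := (Points.schemeHomeo (Over.mk str')).surjective w
      change Points.map f' (Points.map (QuotRel.quotMap s t) _) = x
      rw [← Points.map_comp, hf']
      exact (Points.ofPt_eq_map_ofScheme p _).symm.trans (hpt w')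
    · rintro rfl
      refine ⟨Points.map (QuotRel.quotMap s t) (Points.ofScheme (Over.mk str') default), ?_⟩
      change Points.map f' (Points.map (QuotRel.quotMap s t) _) = _
      rw [← Points.map_comp, hf']
      exact (Points.ofPt_eq_map_ofScheme p _).symm.trans (hpt default)
  · exact locP_of_repWith isEtLocal_locallyOfFinitePresentation _
      (repWith_mono (fun _ _ g (hg : Etale g) =>
        (inferInstance : LocallyOfFinitePresentation g)) hpres.etale)
  · exact locP_of_repWith isEtLocal_flat _
      (repWith_mono (fun _ _ g (hg : Etale g) => (inferInstance : Flat g)) hpres.etale)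

end W1
end H


/-- For an algebraic space X over a scheme S and x ∈ |X| there is a monomorphism Z ⟶ X of algebraic
spaces with image {x} in |X| such that Z admits a locally finitely presented, flat, surjective
morphism from the spectrum of a field (so Z is a reduced, locally Noetherian, one-point space). -/
theorem result {S : Scheme.{u}} (X : AlgSp.Space S) (x : AlgSp.Points X.obj) :
    ∃ (Z : AlgSp.Space S) (i : Z ⟶ X), Mono i.hom ∧ Set.range (AlgSp.Points.map i.hom) = {x} ∧
      ∃ (k : Type u) (_ : Field k) (str : Spec (CommRingCat.of k) ⟶ S) (p : (AlgSp.yon S).obj (Over.mk str) ⟶ Z.obj),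
        AlgSp.LocP @LocallyOfFinitePresentation p ∧ AlgSp.LocP @Flat p ∧ AlgSp.IsSurjectiveMor p := by
  exact W1.main X x

end Groth.Agent.S10370
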