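import Groth.Statements.S10386
import Groth.Agent.Lib.Helper3.AlgSpZarDecent2

set_option autoImplicit false
universe u
open CategoryTheory CategoryTheory.Limits AlgebraicGeometry Topology TopologicalSpace
open AlgSp

namespace Groth.Agent.S10386

/-- (3) ⇒ (1): let S be a scheme, X and Y algebraic spaces over S, and f : X ⟶ Y a morphism such that Z
×_Y X is decent for every affine scheme Z and every Z ⟶ Y. Then f is decent, i.e. T ×_Y X is decent
for every scheme T over Y. -/
theorem result {S : Scheme.{u}} {X Y : AlgSp.Space S} (f : X ⟶ Y)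
    (h : ∀ (Z : Over S) (g : (AlgSp.yon S).obj Z ⟶ Y.obj) (P : AlgSp.Sp S) (fst : P ⟶ X.obj)
      (snd : P ⟶ (AlgSp.yon S).obj Z), IsAffine Z.left → IsPullback fst snd f.hom g → AlgSp.IsDecent P) :
    AlgSp.IsDecentMor f.hom := by
  intro T F' g fst snd sq
  have hF' : AlgSp.IsAlgSpace F' :=
    Groth.Agent.Lib.Helper3.isAlgSpace_of_isPullback' Y.property X.property
      (AlgSp.IsAlgSpace.yon_obj T) sq
  let TW : T.left.affineOpens → Over S := fun W => Over.mk (W.1.ι ≫ T.hom)
  let incl : ∀ W : T.left.affineOpens, TW W ⟶ T := fun W => Over.homMk W.1.ι rfl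
  refine Groth.Agent.Lib.Helper3.isDecent_of_zarCover hF'
    (fun W : T.left.affineOpens => pullback snd ((AlgSp.yon S).map (incl W)))
    (fun W => pullback.fst snd ((AlgSp.yon S).map (incl W))) ?_ ?_ ?_
  · intro W
    refine MorphismProperty.of_isPullback
      (IsPullback.of_hasPullback snd ((AlgSp.yon S).map (incl W))).flip ?_
    rw [AlgSp.repWith_yon_map_iff]
    change IsOpenImmersion W.1.ι
    infer_instance
  · intro x
    obtain ⟨t, ht⟩ := (AlgSp.Points.schemeHomeo T).surjective (AlgSp.Points.map snd x)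
    obtain ⟨_, ⟨W, hW, rfl⟩, htW, -⟩ := (T.left.isBasis_affineOpens).exists_subset_of_mem_open
      (Set.mem_univ t) isOpen_univ
    refine ⟨⟨W, hW⟩, ?_⟩
    let t' : ↥(TW ⟨W, hW⟩).left := (⟨t, htW⟩ : ↥W)
    have hxy : AlgSp.Points.map snd x =
        AlgSp.Points.map ((AlgSp.yon S).map (incl ⟨W, hW⟩)) (AlgSp.Points.schemeHomeo _ t') := by
      rw [AlgSp.Points.map_yon_map_apply, ← ht]
      rfl
    obtain ⟨z, hz, -⟩ := Groth.Agent.Lib.Helper3.Points.exists_of_isPullback
      (IsPullback.of_hasPullback snd ((AlgSp.yon S).map (incl ⟨W, hW⟩))) x _ hxy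
    exact ⟨z, hz⟩
  · intro W
    have hW : IsAffine (TW W).left := W.2
    exact h (TW W) ((AlgSp.yon S).map (incl W) ≫ g) _ _ _ hW
      ((IsPullback.of_hasPullback snd ((AlgSp.yon S).map (incl W))).paste_horiz sq)

end Groth.Agent.S10386
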