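import Groth.Statements.S10392
import Groth.Agent.Lib.Helper3.AlgSpLftFieldDim
import Groth.Agent.Lib.Helper3.AlgSpLftField
import Groth.Agent.S10338

set_option autoImplicit false
universe u
open CategoryTheory CategoryTheory.Limits AlgebraicGeometry Topology TopologicalSpace
open AlgSp

namespace Groth.Agent.S10392

/-- Let k be a field and X a nonempty algebraic space over k which is locally of finite type. Then (2)
|X| is discrete if and only if (4) dim X = 0, and these imply (3) dim |X| = 0; if X is decent then
(3) implies (2) and (1) |X| finite implies (4). (The published statement asserts (2) ⇔ (3) ⇔ (4) for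
every such X and does not exclude the empty space; for the quotient of the affine line over a field
of characteristic zero by the translation action of the integers, |X| is an infinite set with the
indiscrete topology, so (3) holds while (2) and (4) fail, and for the empty space (2) holds while
dim X = ⊥. The equivalence with local quasi-finiteness of X → Spec k is not part of this row.) -/
theorem result (k : Type u) [Field k] (X : AlgSp.Space (Spec (CommRingCat.of k)))
    (p : X.obj ⟶ (AlgSp.yon (Spec (CommRingCat.of k))).obj (Over.mk (𝟙 _))) (hp : AlgSp.LocP @LocallyOfFiniteType p) [Nonempty (AlgSp.Points X.obj)] :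
    (DiscreteTopology (AlgSp.Points X.obj) ↔ AlgSp.dim X.obj = 0) ∧
      (DiscreteTopology (AlgSp.Points X.obj) → topologicalKrullDim (AlgSp.Points X.obj) = 0) ∧
      (AlgSp.IsDecent X.obj → topologicalKrullDim (AlgSp.Points X.obj) = 0 → DiscreteTopology (AlgSp.Points X.obj)) ∧
      (AlgSp.IsDecent X.obj → Finite (AlgSp.Points X.obj) → AlgSp.dim X.obj = 0) := by
  classical
  have hX : AlgSp.IsAlgSpace X.obj := X.property
  have hN : ∀ ⦃U : Over (Spec (CommRingCat.of k))⦄
      (a : (AlgSp.yon (Spec (CommRingCat.of k))).obj U ⟶ X.obj),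
      AlgSp.RepWith @Etale a → IsLocallyNoetherian U.left := fun U a ha =>
    Groth.Agent.Lib.Helper3.chart_isLocallyNoetherian_of_locP_to_field k p hp a ha
  have hJ : ∀ ⦃U : Over (Spec (CommRingCat.of k))⦄
      (a : (AlgSp.yon (Spec (CommRingCat.of k))).obj U ⟶ X.obj),
      AlgSp.RepWith @Etale a → JacobsonSpace U.left := fun U a ha =>
    Groth.Agent.Lib.Helper3.chart_jacobsonSpace_of_locP_to_field k p hp a ha
  have hnn : (0 : WithBot ℕ∞) ≤ AlgSp.dim X.obj :=
    Groth.Agent.Lib.Helper3.dim_nonneg_of_nonempty hX
  have hnnT : (0 : WithBot ℕ∞) ≤ topologicalKrullDim (AlgSp.Points X.obj) :=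
    Groth.Agent.Lib.lead.QFRelDim.topologicalKrullDim_nonneg_of_nonempty _
  refine ⟨⟨?_, ?_⟩, ?_, ?_, ?_⟩
  · intro hdisc
    refine le_antisymm ?_ hnn
    refine Groth.Agent.Lib.Helper3.dim_le_zero_of_forall_chart ?_
    intro U a ha z z' hs
    haveI := Groth.Agent.Lib.Helper3.discreteTopology_chart_of_discreteTopology_points hN a ha
    exact (specializes_iff_eq.mp hs)
  · intro hdim
    refine Groth.Agent.Lib.Helper3.discreteTopology_points_of_forall_chart hN hX ?_
    intro U a ha z z' hs
    have h1 : topologicalKrullDim ↥U.left ≤ 0 :=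
      (Groth.Agent.Lib.Helper3.le_dim_of_chart a ha).trans hdim.le
    exact Groth.Agent.Lib.Helper3.eq_of_specializes_of_topologicalKrullDim_le_zero h1 hs
  · intro hdisc
    exact le_antisymm (topologicalKrullDim_zero_of_discreteTopology _) hnnT
  · intro hd hdim
    haveI : T0Space (AlgSp.Points X.obj) := Groth.Agent.S10338.result X hd
    rw [discreteTopology_iff_isOpen_singleton]
    intro x
    refine Groth.Agent.Lib.Helper3.isOpen_singleton_of_mem_of_dim_le_zero hN hX ⊤ ?_ x trivial
    exact (topologicalKrullDim_subspace_le _ _).trans hdim.le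
  · intro hd hfin
    refine le_antisymm ?_ hnn
    refine Groth.Agent.Lib.Helper3.dim_le_zero_of_forall_chart ?_
    intro U a ha z z' hs
    obtain ⟨N, hNaff, hzN⟩ := exists_isAffineOpen_mem_and_subset (x := z) (U := ⊤) trivial
    have hz'N : z' ∈ N := hs.mem_open N.2 hzN.1
    haveI : CompactSpace ↥(N : U.left.Opens) := isCompact_iff_compactSpace.mp hNaff.isCompact
    have hae := Groth.Agent.Lib.Helper3.chartRestrict_etale a ha N
    haveI := hJ _ hae
    haveI : CompactSpace ↥(Over.mk (N.ι ≫ U.hom)).left := ‹CompactSpace ↥(N : U.left.Opens)›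
    haveI : Finite ↥(Over.mk (N.ι ≫ U.hom)).left :=
      Groth.Agent.Lib.Helper3.finite_chart_of_isDecent_of_finite hd _ hae
    haveI : Finite ↥(N : U.left.Opens) := ‹Finite ↥(Over.mk (N.ι ≫ U.hom)).left›
    haveI : JacobsonSpace ↥(N : U.left.Opens) := ‹JacobsonSpace ↥(Over.mk (N.ι ≫ U.hom)).left›
    have h1 : (⟨z', hz'N⟩ : ↥(N : U.left.Opens)) ⤳ ⟨z, hzN.1⟩ :=
      Topology.IsInducing.subtypeVal.specializes_iff.mp hs
    exact congrArg Subtype.val (specializes_iff_eq.mp h1)

end Groth.Agent.S10392
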