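import Groth.Statements.S10394
import Groth.Agent.Lib.Helper3.DecSober1
import Groth.Agent.Lib.Helper3.SchLoc5
import Groth.Agent.S10338

set_option autoImplicit false
universe u
open CategoryTheory CategoryTheory.Limits AlgebraicGeometry Topology TopologicalSpace
open AlgSp

namespace Groth.Agent.S10394

/-- (1) ⇔ (4): let S be a scheme, X a decent algebraic space over S and x ∈ |X|. Then x is the generic
point of some irreducible component of |X| if and only if the local ring of X at x has dimension
zero (x is a codimension 0 point of X). -/
theorem result {S : Scheme.{u}} (X : AlgSp.Space S)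
    (hX : AlgSp.IsDecent X.obj) (x : AlgSp.Points X.obj) :
    (∃ T ∈ irreducibleComponents (AlgSp.Points X.obj), IsGenericPoint x T) ↔ AlgSp.HasAt (fun U u => ringKrullDim ↥(U.presheaf.stalk u) = 0) X.obj x := by
  haveI : QuasiSober (AlgSp.Points X.obj) :=
    Groth.Agent.Lib.Helper3.DecDense.quasiSober_points_of_isDecent X hX
  haveI : T0Space (AlgSp.Points X.obj) := Groth.Agent.S10338.result X hX
  exact (Groth.Agent.Lib.Helper3.SchLoc.hasAt_codimZero_iff_isGenericPoint_component X hX x).symm

end Groth.Agent.S10394
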