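import Groth.Statements.S10406
import Groth.Agent.S10340
import Groth.Agent.Lib.Helper3.AlgSpGenLift
import Groth.Agent.Lib.Helper3.AlgSpHasAtMor
import Groth.Agent.Lib.Helper3.AlgSpPoints
import Groth.Agent.Lib.Helper3.AlgSpChartPts
import Groth.Agent.Lib.Helper3.SpUC
import Groth.Agent.Lib.Helper9.AlgSpFin
import Groth.Agent.Lib.Helper15.OnePointSp
-- import your own Groth.Agent.* helpers here

set_option autoImplicit false
universe u
open CategoryTheory CategoryTheory.Limits AlgebraicGeometry Topology TopologicalSpace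
open AlgSp

namespace Groth.Agent.S10406

section H
namespace W1

open Groth.Agent.Lib.Helper3 Groth.Agent.Lib.Helper15.OnePointSp

variable {S : Scheme.{u}}

/-- the map on points of a finite morphism is closed. -/
theorem isClosedMap_of_isFiniteMor {X Y : AlgSp.Space S} (f : Y ⟶ X)
    (hf : AlgSp.IsFiniteMor f.hom) : IsClosedMap (AlgSp.Points.map f.hom) := by
  have h := ((Groth.Agent.Lib.Helper9.AlgSpFin.isFiniteMor_iff f).1 hf).2.2.2
  exact h X.property (𝟙 _) (𝟙 _) f.hom (IsPullback.id_horiz f.hom)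

/-- an affine etale chart through a given point. -/
theorem exists_affine_chart {X : AlgSp.Space S} (x : AlgSp.Points X.obj) :
    ∃ (U : Over S) (a : (AlgSp.yon S).obj U ⟶ X.obj) (u : ↥U.left),
      IsAffine U.left ∧ RepWith @Etale a ∧ Points.ofPt a u = x := by
  obtain ⟨U₀, a₀, hae, has⟩ := X.property.atlas
  obtain ⟨u₀, hu₀⟩ := exists_ofPt_eq a₀ has x
  obtain ⟨W₀, hW₀, huW⟩ : ∃ W₀ : U₀.left.Opens, IsAffineOpen W₀ ∧ u₀ ∈ W₀ := by
    obtain ⟨_, ⟨W, hW, rfl⟩, huW, -⟩ := (U₀.left.isBasis_affineOpens).exists_subset_of_mem_open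
      (Set.mem_univ u₀) isOpen_univ
    exact ⟨W, hW, huW⟩
  refine ⟨Over.mk (W₀.ι ≫ U₀.hom), chartRestrict a₀ W₀, ⟨u₀, huW⟩, hW₀, chartRestrict_etale a₀ hae W₀, ?_⟩
  rw [ofPt_chartRestrict]
  exact hu₀

/-- fibres of the map on points of a finite morphism of decent spaces carry no nontrivial
specializations. -/
theorem eq_of_specializes_of_map_eq {X Y : AlgSp.Space S} (f : Y ⟶ X)
    (hf : AlgSp.IsFiniteMor f.hom) (hX : AlgSp.IsDecent X.obj) (hY : AlgSp.IsDecent Y.obj)
    (y c : AlgSp.Points Y.obj) (hyc : y ⤳ c)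
    (he : AlgSp.Points.map f.hom y = AlgSp.Points.map f.hom c) : y = c := by
  obtain ⟨U, a, u, hU, hae, hu⟩ := exists_affine_chart (AlgSp.Points.map f.hom c)
  obtain ⟨W, i, fst, sq, hW, hfin⟩ := hf hU a
  have hfe : RepWith @Etale fst := (RepWith @Etale).of_isPullback sq.flip hae
  obtain ⟨z, hz1, hz2⟩ := Points.exists_of_isPullback sq c (Points.ofScheme U u)
    (by rw [← Points.ofPt_eq_map_ofScheme, hu])
  set w := Points.toScheme W z with hw
  have hwc : Points.ofPt fst w = c := by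
    rw [Points.ofPt_eq_map_ofScheme, hw, Points.ofScheme_toScheme, hz1]
  obtain ⟨p, hp, -, hpq⟩ := hY y
  obtain ⟨w', hw'w, hw'⟩ := exists_specializes_lift_of_qc_point c p (hp ▸ hyc) hpq fst hfe w hwc
  rw [hp] at hw'
  have hcomm : ∀ t : ↥W.left, Points.ofPt a (i.left t) = Points.map f.hom (Points.ofPt fst t) := by
    intro t
    rw [Points.map_ofPt, sq.w, Groth.Agent.Lib.Helper3.SpUC.ofPt_comp_yon_map]
  have hiw : i.left w = i.left w' := by
    refine Groth.Agent.S10340.result X hX a hae (i.left w) (i.left w') ?_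
      (hw'w.map i.left.continuous)
    rw [hcomm, hcomm, hwc, hw', he]
  haveI : IsFinite i.left := hfin
  have hdisc := i.left.isDiscrete_preimage_singleton (i.left w)
  have : w' = w := eq_of_specializes_of_isDiscrete hdisc
    (show w' ∈ i.left ⁻¹' {i.left w} from hiw.symm) rfl hw'w
  rw [← hw', ← hwc, this]

theorem main {X Y : AlgSp.Space S} (f : Y ⟶ X)
    (hf : AlgSp.IsFiniteMor f.hom) (hs : AlgSp.IsSurjectiveMor f.hom) (hX : AlgSp.IsDecent X.obj)
    (hY : AlgSp.IsDecent Y.obj)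
    (δ : AlgSp.Points X.obj → ℤ)
    (hδ : (∀ a b : AlgSp.Points Y.obj, a ⤳ b → a ≠ b → (δ ∘ AlgSp.Points.map f.hom) b < (δ ∘ AlgSp.Points.map f.hom) a ∧ ((∀ c : AlgSp.Points Y.obj, a ⤳ c → c ⤳ b → c = a ∨ c = b) → (δ ∘ AlgSp.Points.map f.hom) a = (δ ∘ AlgSp.Points.map f.hom) b + 1))) :
    (∀ a b : AlgSp.Points X.obj, a ⤳ b → a ≠ b → δ b < δ a ∧ ((∀ c : AlgSp.Points X.obj, a ⤳ c → c ⤳ b → c = a ∨ c = b) → δ a = δ b + 1)) := by
  intro x x' hxx' hne
  obtain ⟨y, rfl⟩ := hs x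
  have hcl := isClosedMap_of_isFiniteMor f hf
  have hmem : x' ∈ AlgSp.Points.map f.hom '' closure {y} := by
    have h1 : IsClosed (AlgSp.Points.map f.hom '' closure {y}) := hcl _ isClosed_closure
    exact hxx'.mem_closed h1 ⟨y, subset_closure rfl, rfl⟩
  obtain ⟨y', hy', rfl⟩ := hmem
  have hyy' : y ⤳ y' := specializes_iff_mem_closure.2 hy'
  have hne' : y ≠ y' := fun h => hne (by rw [h])
  obtain ⟨h1, h2⟩ := hδ y y' hyy' hne'
  refine ⟨h1, fun himm => h2 fun c hyc hcy' => ?_⟩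
  have hc1 : AlgSp.Points.map f.hom y ⤳ AlgSp.Points.map f.hom c :=
    hyc.map (Points.continuous_map f.hom)
  have hc2 : AlgSp.Points.map f.hom c ⤳ AlgSp.Points.map f.hom y' :=
    hcy'.map (Points.continuous_map f.hom)
  rcases himm _ hc1 hc2 with h | h
  · left
    exact (eq_of_specializes_of_map_eq f hf hX hY y c hyc h.symm).symm
  · right
    exact eq_of_specializes_of_map_eq f hf hX hY c y' hcy' h

end W1
end H


/-- Let S be a scheme, Y and X decent, locally Noetherian algebraic spaces over S, and f : Y ⟶ X a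
surjective finite morphism, and let δ : |X| → ℤ be a function. Suppose δ ∘ |f| is a dimension
function on |Y| (it decreases strictly along nontrivial specializations and by exactly one along
immediate specializations). Then δ is a dimension function on |X|. -/
theorem result {S : Scheme.{u}} {X Y : AlgSp.Space S} (f : Y ⟶ X)
    (hf : AlgSp.IsFiniteMor f.hom) (hs : AlgSp.IsSurjectiveMor f.hom) (hX : AlgSp.IsDecent X.obj)
    (hY : AlgSp.IsDecent Y.obj) (hXN : AlgSp.IsLocNoethSp X.obj) (hYN : AlgSp.IsLocNoethSp Y.obj)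
    (δ : AlgSp.Points X.obj → ℤ)
    (hδ : (∀ a b : AlgSp.Points Y.obj, a ⤳ b → a ≠ b → (δ ∘ AlgSp.Points.map f.hom) b < (δ ∘ AlgSp.Points.map f.hom) a ∧ ((∀ c : AlgSp.Points Y.obj, a ⤳ c → c ⤳ b → c = a ∨ c = b) → (δ ∘ AlgSp.Points.map f.hom) a = (δ ∘ AlgSp.Points.map f.hom) b + 1))) :
    (∀ a b : AlgSp.Points X.obj, a ⤳ b → a ≠ b → δ b < δ a ∧ ((∀ c : AlgSp.Points X.obj, a ⤳ c → c ⤳ b → c = a ∨ c = b) → δ a = δ b + 1)) := by
  exact W1.main f hf hs hX hY δ hδ

end Groth.Agent.S10406
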