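import Groth.Statements.S10409
import Groth.Agent.Lib.Helper15.FieldQuotApp
-- import your own Groth.Agent.* helpers here

set_option autoImplicit false
universe u
open CategoryTheory CategoryTheory.Limits AlgebraicGeometry Topology TopologicalSpace
open AlgSp

namespace Groth.Agent.S10409

section H
namespace W1

open Groth.Agent.Lib.Helper3 Groth.Agent.Lib.Helper15.FieldQuot

theorem main {S : Scheme.{u}} (X : AlgSp.Space S)
    (x : AlgSp.Points X.obj) :
    (∃ p : AlgSp.FieldPt X.obj, AlgSp.Points.mk p = x ∧ Mono p.toHom) ↔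
      ∃ q : AlgSp.FieldPt X.obj, AlgSp.Points.mk q = x ∧
        ∀ (P : AlgSp.Sp S) (fst snd : P ⟶ (AlgSp.yon S).obj q.pt), IsPullback fst snd q.toHom q.toHom →
          AlgSp.RepWith @Etale fst ∧ AlgSp.RepWith @QuasiCompact fst := by
  constructor
  · rintro ⟨p, hp, hm⟩
    refine ⟨p, hp, fun P fst snd sq => ?_⟩
    have hk : IsKernelPair p.toHom fst snd := sq
    haveI : IsIso fst := hk.isIso_of_mono
    exact ⟨MorphismProperty.of_isIso (RepWith @Etale) _,
      MorphismProperty.of_isIso (RepWith @QuasiCompact) _⟩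
  · rintro ⟨q, hq, h⟩
    obtain ⟨h1, h2⟩ := h _ _ _ (IsPullback.of_hasPullback q.toHom q.toHom)
    obtain ⟨k', hfin, str', c, p', hcl, hfac, hmono, hc⟩ :=
      exists_mono_quotient_of_etale_qc q.str q.toHom _ _
        (IsPullback.of_hasPullback q.toHom q.toHom) h1 h2
    refine ⟨fieldPtOfHom k' str' p', ?_, ?_⟩
    · rw [← hq]
      have e1 : Points.mk q = Points.mk (fieldPtOfHom q.K q.str q.toHom) :=
        congrArg Points.mk (fieldPt_eq_ofHom_toHom q)
      rw [e1, ← hfac]
      exact (mk_fieldPtOfHom_comp c p').symm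
    · rw [toHom_fieldPtOfHom]
      exact hmono

end W1
end H


/-- (3) ⇔ (4): for an algebraic space X over a scheme S and x ∈ |X|, there is a monomorphism Spec k ⟶ X
representing x if and only if there is a morphism Spec k' ⟶ X representing x whose
self-fibre-product has etale and quasi-compact projections to Spec k'. -/
theorem result {S : Scheme.{u}} (X : AlgSp.Space S)
    (x : AlgSp.Points X.obj) :
    (∃ p : AlgSp.FieldPt X.obj, AlgSp.Points.mk p = x ∧ Mono p.toHom) ↔
      ∃ q : AlgSp.FieldPt X.obj, AlgSp.Points.mk q = x ∧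
        ∀ (P : AlgSp.Sp S) (fst snd : P ⟶ (AlgSp.yon S).obj q.pt), IsPullback fst snd q.toHom q.toHom →
          AlgSp.RepWith @Etale fst ∧ AlgSp.RepWith @QuasiCompact fst := by
  exact W1.main X x

end Groth.Agent.S10409
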