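import Groth.Statements.S10414
import Groth.Agent.Lib.Helper3.AlgSpMonoSingleton
import Groth.Agent.Lib.Helper3.AlgSpEtPoint

set_option autoImplicit false
universe u
open CategoryTheory CategoryTheory.Limits AlgebraicGeometry Topology TopologicalSpace
open AlgSp

namespace Groth.Agent.S10414

/-- Let S be a scheme, X an algebraic space over S, x ∈ |X|, and Z_x ⟶ X the residual space of x (a
monomorphism with image {x} from a space which admits a locally finitely presented, flat, surjective
morphism whose source is the spectrum of a field). Then Z_x is isomorphic to Spec k' for some field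
k' if and only if the point x is represented by some monomorphism Spec k ⟶ X. (The decent case, in
which the right side holds at every point, is not part of this row.) -/
theorem result {S : Scheme.{u}} (X : AlgSp.Space S) (x : AlgSp.Points X.obj)
    {Z : AlgSp.Space S} (i : Z ⟶ X) [Mono i.hom] (hi : Set.range (AlgSp.Points.map i.hom) = {x})
    (hZ : ∃ (k : Type u) (_ : Field k) (str : Spec (CommRingCat.of k) ⟶ S) (p : (AlgSp.yon S).obj (Over.mk str) ⟶ Z.obj),
        AlgSp.LocP @LocallyOfFinitePresentation p ∧ AlgSp.LocP @Flat p ∧ AlgSp.IsSurjectiveMor p) :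
    (∃ (k : Type u) (_ : Field k) (str : Spec (CommRingCat.of k) ⟶ S), Nonempty (Z.obj ≅ (AlgSp.yon S).obj (Over.mk str))) ↔
      ∃ p : AlgSp.FieldPt X.obj, AlgSp.Points.mk p = x ∧ Mono p.toHom := by
  constructor
  · rintro ⟨k', _, str', ⟨e⟩⟩
    let P : AlgSp.FieldPt X.obj := Groth.Agent.Lib.Helper3.fieldPtOfHom k' str' (e.inv ≫ i.hom)
    have hP : P.toHom = e.inv ≫ i.hom := Groth.Agent.Lib.Helper3.toHom_fieldPtOfHom k' str' _
    refine ⟨P, ?_, ?_⟩
    · have h1 : AlgSp.Points.mk P ∈ Set.range (AlgSp.Points.map i.hom) :=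
        ⟨_, Groth.Agent.Lib.Helper3.Points.map_mk_fieldPtOfHom i.hom k' str' e.inv⟩
      rw [hi] at h1
      exact h1
    · rw [hP]; exact mono_comp _ _
  · rintro ⟨p, hp, hm⟩
    obtain ⟨k, _, str, c, hlfp, hfl, hs⟩ := hZ
    have sq := IsPullback.of_hasPullback i.hom p.toHom
    have hPa : AlgSp.IsAlgSpace (pullback i.hom p.toHom) :=
      Groth.Agent.Lib.Helper3.isAlgSpace_of_isPullback' X.property Z.property
        (AlgSp.IsAlgSpace.yon_obj _) sq
    have hx : x ∈ Set.range (AlgSp.Points.map i.hom) := by rw [hi]; rfl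
    obtain ⟨z, hz⟩ := hx
    have hxy : AlgSp.Points.map i.hom z =
        AlgSp.Points.map p.toHom (AlgSp.Points.ofScheme p.pt (IsLocalRing.closedPoint p.K)) := by
      rw [AlgSp.Points.map_ofPt, Category.id_comp, AlgSp.Points.ofPt_toHom, hz, hp]
    obtain ⟨w, -, -⟩ := Groth.Agent.Lib.Helper3.Points.exists_of_isPullback sq z _ hxy
    have h1 : IsIso (pullback.fst i.hom p.toHom) :=
      Groth.Agent.Lib.Helper3.isIso_of_mono_of_fppf_fieldPt hPa Z.property _ k str c hlfp hfl hs ⟨w⟩
    have h2 : IsIso (pullback.snd i.hom p.toHom) :=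
      Groth.Agent.Lib.Helper3.isIso_of_mono_to_field hPa p.str _ ⟨w⟩
    exact ⟨p.K, p.field, p.str,
      ⟨(asIso (pullback.fst i.hom p.toHom)).symm ≪≫ asIso (pullback.snd i.hom p.toHom)⟩⟩

end Groth.Agent.S10414
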