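import Groth.Statements.S10420
import Groth.Agent.Lib.Helper3.AlgSpMonoPt
import Groth.Agent.Lib.Helper3.AlgSpGeomLift
-- import your own Groth.Agent.* helpers here

set_option autoImplicit false
universe u
open CategoryTheory CategoryTheory.Limits AlgebraicGeometry Topology TopologicalSpace
open AlgSp

namespace Groth.Agent.S10420

section H
namespace W1

open Groth.Agent.Lib.Helper3
set_option backward.isDefEq.respectTransparency.types false

variable {S : Scheme.{u}}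

/-- a field point of a scheme over `S` factors through the residue field of its image -/
theorem exists_factor {K : Type u} [Field K] (str : Spec (CommRingCat.of K) ⟶ S) {V : Over S}
    (c : Over.mk str ⟶ V) (v : ↥V.left) (hv : c.left (IsLocalRing.closedPoint K) = v) :
    ∃ φ : V.left.residueField v ⟶ CommRingCat.of K,
      Spec.map φ ≫ V.left.fromSpecResidueField v = c.left := by
  subst hv
  let cl : Spec (CommRingCat.of K) ⟶ V.left := c.left
  let φ : V.left.residueField (cl (IsLocalRing.closedPoint K)) ⟶ CommRingCat.of K :=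
    V.left.descResidueField (Scheme.stalkClosedPointTo cl)
  exact ⟨φ, Scheme.descResidueField_stalkClosedPointTo_fromSpecResidueField K V.left cl⟩

/-- the morphism over `S` induced by a factorization -/
noncomputable def facHom {K : Type u} [Field K] (str : Spec (CommRingCat.of K) ⟶ S) {V : Over S}
    (c : Over.mk str ⟶ V) (v : ↥V.left) (φ : V.left.residueField v ⟶ CommRingCat.of K)
    (hφ : Spec.map φ ≫ V.left.fromSpecResidueField v = c.left) :
    Over.mk str ⟶ Over.mk (V.left.fromSpecResidueField v ≫ V.hom) :=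
  Over.homMk (Spec.map φ) (by
    show Spec.map φ ≫ V.left.fromSpecResidueField v ≫ V.hom = str
    rw [← Category.assoc, hφ]
    exact Over.w c)

theorem facHom_comp {K : Type u} [Field K] (str : Spec (CommRingCat.of K) ⟶ S) {V : Over S}
    (c : Over.mk str ⟶ V) (v : ↥V.left) (φ : V.left.residueField v ⟶ CommRingCat.of K)
    (hφ : Spec.map φ ≫ V.left.fromSpecResidueField v = c.left) :
    facHom str c v φ hφ ≫ (Over.homMk (V.left.fromSpecResidueField v) rfl :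
        Over.mk (V.left.fromSpecResidueField v ≫ V.hom) ⟶ V) = c := by
  ext
  exact hφ

/-- variant of `exists_factor` for residue field points, with clean types -/
theorem exists_factor' {T V : Over S} (t : ↥T.left)
    (c : Over.mk (T.left.fromSpecResidueField t ≫ T.hom) ⟶ V) (v : ↥V.left)
    (hv : c.left (IsLocalRing.closedPoint (T.left.residueField t)) = v) :
    ∃ φ : V.left.residueField v ⟶ T.left.residueField t,
      Spec.map φ ≫ V.left.fromSpecResidueField v = c.left :=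
  exists_factor (K := T.left.residueField t) (T.left.fromSpecResidueField t ≫ T.hom) c v hv

/-- the morphism over `S` induced by a factorization, residue field version -/
noncomputable def facHom' {T V : Over S} (t : ↥T.left)
    (c : Over.mk (T.left.fromSpecResidueField t ≫ T.hom) ⟶ V) (v : ↥V.left)
    (φ : V.left.residueField v ⟶ T.left.residueField t)
    (hφ : Spec.map φ ≫ V.left.fromSpecResidueField v = c.left) :
    Over.mk (T.left.fromSpecResidueField t ≫ T.hom) ⟶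
      Over.mk (V.left.fromSpecResidueField v ≫ V.hom) :=
  Over.homMk (Spec.map φ) (by
    show Spec.map φ ≫ V.left.fromSpecResidueField v ≫ V.hom = T.left.fromSpecResidueField t ≫ T.hom
    rw [← Category.assoc, hφ]
    exact Over.w c)

theorem facHom'_comp {T V : Over S} (t : ↥T.left)
    (c : Over.mk (T.left.fromSpecResidueField t ≫ T.hom) ⟶ V) (v : ↥V.left)
    (φ : V.left.residueField v ⟶ T.left.residueField t)
    (hφ : Spec.map φ ≫ V.left.fromSpecResidueField v = c.left) :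
    facHom' t c v φ hφ ≫ (Over.homMk (V.left.fromSpecResidueField v) rfl :
        Over.mk (V.left.fromSpecResidueField v ≫ V.hom) ⟶ V) = c := by
  ext
  exact hφ

/-- the residue field point of a scheme over `S` -/
noncomputable abbrev jpt (U : Over S) (u : ↥U.left) :
    Over.mk (U.left.fromSpecResidueField u ≫ U.hom) ⟶ U :=
  Over.homMk (U.left.fromSpecResidueField u) rfl

/-- an étale morphism through which the residue field point lifts gives an elementary étale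
neighbourhood -/
theorem elem_of_section {X : Sp S} {U₁ U : Over S} (a₁ : (yon S).obj U₁ ⟶ X) (u₁ : ↥U₁.left)
    (x : Points X) (h₁ : IsElemEtaleNbhd a₁ u₁ x) (g : U ⟶ U₁) (hg : Etale g.left)
    (t : Over.mk (U₁.left.fromSpecResidueField u₁ ≫ U₁.hom) ⟶ U)
    (ht : t ≫ g = jpt U₁ u₁) (v : ↥U.left)
    (hv : t.left (IsLocalRing.closedPoint (U₁.left.residueField u₁)) = v) :
    IsElemEtaleNbhd ((yon S).map g ≫ a₁) v x ∧ g.left v = u₁ := by
  have hgv : g.left v = u₁ := by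
    rw [← hv, ← Scheme.Hom.comp_apply]
    have : t.left ≫ g.left = U₁.left.fromSpecResidueField u₁ := congrArg (fun m => m.left) ht
    rw [this]
    exact Scheme.fromSpecResidueField_apply _ _
  refine ⟨⟨?_, ?_, ?_⟩, hgv⟩
  · exact MorphismProperty.comp_mem _ _ _ ((repWith_yon_map_iff @Etale g).2 hg) h₁.etale
  · rw [Points.ofPt_yon_map_comp, hgv]
    exact h₁.ofPt_eq
  · -- factor `t` through the residue field of `v`
    obtain ⟨τ, hτ⟩ := exists_factor' u₁ t v hv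
    let τO := facHom' u₁ t v τ hτ
    have hτO : τO ≫ jpt U v = t := facHom'_comp u₁ t v τ hτ
    -- the residue field map of `g`
    have hgv' : (jpt U v ≫ g).left (IsLocalRing.closedPoint (U.left.residueField v)) = u₁ := by
      show (U.left.fromSpecResidueField v ≫ g.left) _ = u₁
      rw [Scheme.Hom.comp_apply, Scheme.fromSpecResidueField_apply, hgv]
    obtain ⟨ρ, hρ⟩ := exists_factor' v (jpt U v ≫ g) u₁ hgv'
    let ρO := facHom' v (jpt U v ≫ g) u₁ ρ hρ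
    have hρO : ρO ≫ jpt U₁ u₁ = jpt U v ≫ g := facHom'_comp v (jpt U v ≫ g) u₁ ρ hρ
    -- `τ ∘ ρ = id`
    have h1 : (Spec.map τ ≫ Spec.map ρ) ≫ U₁.left.fromSpecResidueField u₁ =
        𝟙 _ ≫ U₁.left.fromSpecResidueField u₁ := by
      have e1 : Spec.map ρ ≫ U₁.left.fromSpecResidueField u₁ =
          U.left.fromSpecResidueField v ≫ g.left := hρ
      have e2 : t.left ≫ g.left = U₁.left.fromSpecResidueField u₁ :=
        congrArg (fun m => m.left) ht
      rw [Category.assoc, e1, ← Category.assoc, hτ, e2, Category.id_comp]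
    have h2 : Spec.map τ ≫ Spec.map ρ = 𝟙 _ := (cancel_mono _).1 h1
    have h3 : ρ ≫ τ = 𝟙 _ := by
      apply Spec.map_injective
      rw [Spec.map_comp, h2, Spec.map_id]
    have hbij : Function.Bijective τ.hom := by
      constructor
      · exact RingHom.injective τ.hom
      · intro y
        exact ⟨ρ.hom y, congrArg (fun m => m.hom y) h3⟩
    haveI : IsIso τ := by
      rw [ConcreteCategory.isIso_iff_bijective]
      exact hbij
    haveI : IsIso τO.left := by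
      show IsIso (Spec.map τ)
      infer_instance
    haveI : IsIso ((Over.forget S).map τO) := (inferInstance : IsIso τO.left)
    haveI : IsIso τO := isIso_of_reflects_iso τO (Over.forget S)
    have hm := h₁.mono
    rw [FieldPt.toHom_ofPt] at hm ⊢
    have key : (yon S).map (jpt U v) ≫ (yon S).map g ≫ a₁ =
        inv ((yon S).map τO) ≫ (yon S).map (jpt U₁ u₁) ≫ a₁ := by
      rw [IsIso.eq_inv_comp, ← Category.assoc, ← Category.assoc, ← Functor.map_comp,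
        ← Functor.map_comp, hτO, ht]
    show Mono ((yon S).map (jpt U v) ≫ (yon S).map g ≫ a₁)
    rw [key]
    haveI : Mono ((yon S).map (jpt U₁ u₁) ≫ a₁) := hm
    exact mono_comp _ _

/-- the fibre product of two étale charts -/
theorem exists_chart_pullback {X : Sp S} {U₁ U₂ : Over S} (a₁ : (yon S).obj U₁ ⟶ X)
    (a₂ : (yon S).obj U₂ ⟶ X) (h₁ : RepWith @Etale a₁) (h₂ : RepWith @Etale a₂) :
    ∃ (P : Over S) (π₁ : P ⟶ U₁) (π₂ : P ⟶ U₂),
      IsPullback ((yon S).map π₁) ((yon S).map π₂) a₁ a₂ ∧ Etale π₁.left ∧ Etale π₂.left := by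
  obtain ⟨π₁, hπ₁⟩ := (yon S).map_surjective (h₁.rep.fst a₂)
  have sq : IsPullback ((yon S).map π₁) ((yon S).map (h₁.rep.snd a₂)) a₁ a₂ := by
    rw [hπ₁]
    exact h₁.rep.isPullback a₂
  exact ⟨h₁.rep.pullback a₂, π₁, h₁.rep.snd a₂, sq, h₂.2 a₁ _ π₁ sq.flip, h₁.2 a₂ _ _ sq⟩

theorem part1 (X : AlgSp.Space S) (x : AlgSp.Points X.obj)
    (U₁ U₂ : Over S) (a₁ : (AlgSp.yon S).obj U₁ ⟶ X.obj) (a₂ : (AlgSp.yon S).obj U₂ ⟶ X.obj)
    (u₁ : ↥U₁.left) (u₂ : ↥U₂.left) (h₁ : AlgSp.IsElemEtaleNbhd a₁ u₁ x)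
    (h₂ : AlgSp.IsElemEtaleNbhd a₂ u₂ x) :
    ∃ (U : Over S) (a : (AlgSp.yon S).obj U ⟶ X.obj) (v : ↥U.left) (g₁ : U ⟶ U₁) (g₂ : U ⟶ U₂),
      AlgSp.IsElemEtaleNbhd a v x ∧ (AlgSp.yon S).map g₁ ≫ a₁ = a ∧
        (AlgSp.yon S).map g₂ ≫ a₂ = a ∧ g₁.left v = u₁ ∧ g₂.left v = u₂ := by
  obtain ⟨P, π₁, π₂, sq, hπ₁, hπ₂⟩ := exists_chart_pullback a₁ a₂ h₁.etale h₂.etale
  haveI := h₂.mono
  have hmk : Points.mk (FieldPt.ofPt a₂ u₂) = Points.mk (FieldPt.ofPt a₁ u₁) := by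
    have e1 : Points.mk (FieldPt.ofPt a₁ u₁) = x := h₁.ofPt_eq
    have e2 : Points.mk (FieldPt.ofPt a₂ u₂) = x := h₂.ofPt_eq
    rw [e1, e2]
  obtain ⟨c, hc⟩ := exists_factor_of_mono_fieldPt X.property (FieldPt.ofPt a₂ u₂)
    (FieldPt.ofPt a₁ u₁) hmk
  rw [FieldPt.toHom_ofPt, FieldPt.toHom_ofPt] at hc
  let c' : Over.mk (U₁.left.fromSpecResidueField u₁ ≫ U₁.hom) ⟶
    Over.mk (U₂.left.fromSpecResidueField u₂ ≫ U₂.hom) := c
  have hc' : (yon S).map c' ≫ (yon S).map (jpt U₂ u₂) ≫ a₂ = (yon S).map (jpt U₁ u₁) ≫ a₁ := hc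
  have hw : (yon S).map (jpt U₁ u₁) ≫ a₁ = (yon S).map (c' ≫ jpt U₂ u₂) ≫ a₂ := by
    rw [Functor.map_comp, Category.assoc, hc']
  obtain ⟨t, ht⟩ := (yon S).map_surjective (sq.lift _ _ hw)
  have ht1 : t ≫ π₁ = jpt U₁ u₁ := by
    apply (yon S).map_injective
    rw [Functor.map_comp, ht, sq.lift_fst]
  have ht2 : t ≫ π₂ = c' ≫ jpt U₂ u₂ := by
    apply (yon S).map_injective
    rw [Functor.map_comp, ht, sq.lift_snd]
  obtain ⟨hel, hv1⟩ := elem_of_section a₁ u₁ x h₁ π₁ hπ₁ t ht1 _ rfl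
  refine ⟨P, (yon S).map π₁ ≫ a₁, _, π₁, π₂, hel, rfl, sq.w.symm, hv1, ?_⟩
  rw [← Scheme.Hom.comp_apply]
  have : t.left ≫ π₂.left = c'.left ≫ U₂.left.fromSpecResidueField u₂ :=
    congrArg (fun m => m.left) ht2
  rw [this, Scheme.Hom.comp_apply]
  exact Scheme.fromSpecResidueField_apply _ _

theorem part2 (X : AlgSp.Space S) (x : AlgSp.Points X.obj)
    (U₁ U₂ : Over S) (a₁ : (AlgSp.yon S).obj U₁ ⟶ X.obj) (a₂ : (AlgSp.yon S).obj U₂ ⟶ X.obj)
    (u₁ : ↥U₁.left) (u₂ : ↥U₂.left) (b c : U₁ ⟶ U₂) (h₁ : AlgSp.IsElemEtaleNbhd a₁ u₁ x)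
    (h₂ : AlgSp.IsElemEtaleNbhd a₂ u₂ x)
    (hb : (AlgSp.yon S).map b ≫ a₂ = a₁) (hc : (AlgSp.yon S).map c ≫ a₂ = a₁)
    (hbu : b.left u₁ = u₂) (hcu : c.left u₁ = u₂) :
    ∃ (U : Over S) (a : (AlgSp.yon S).obj U ⟶ X.obj) (v : ↥U.left) (g : U ⟶ U₁),
      AlgSp.IsElemEtaleNbhd a v x ∧ (AlgSp.yon S).map g ≫ a₁ = a ∧ g.left v = u₁ ∧
        g ≫ b = g ≫ c := by
  obtain ⟨P, π₁, π₂, sq, hπ₁, hπ₂⟩ := exists_chart_pullback a₁ a₂ h₁.etale h₂.etale
  -- the two sections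
  obtain ⟨σb, hσb⟩ := (yon S).map_surjective
    (sq.lift (𝟙 _) ((yon S).map b) (by rw [Category.id_comp, hb]))
  obtain ⟨σc, hσc⟩ := (yon S).map_surjective
    (sq.lift (𝟙 _) ((yon S).map c) (by rw [Category.id_comp, hc]))
  have hσb1 : σb ≫ π₁ = 𝟙 _ := by
    apply (yon S).map_injective
    rw [Functor.map_comp, hσb, sq.lift_fst, CategoryTheory.Functor.map_id]
  have hσb2 : σb ≫ π₂ = b := by
    apply (yon S).map_injective
    rw [Functor.map_comp, hσb, sq.lift_snd]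
  have hσc1 : σc ≫ π₁ = 𝟙 _ := by
    apply (yon S).map_injective
    rw [Functor.map_comp, hσc, sq.lift_fst, CategoryTheory.Functor.map_id]
  have hσc2 : σc ≫ π₂ = c := by
    apply (yon S).map_injective
    rw [Functor.map_comp, hσc, sq.lift_snd]
  -- the sections are étale
  have hσce : Etale σc.left := by
    haveI : Etale (σc.left ≫ π₁.left) := by
      have : σc.left ≫ π₁.left = 𝟙 _ := congrArg (fun m => m.left) hσc1
      rw [this]
      infer_instance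
    haveI := hπ₁
    exact Etale.of_comp σc.left π₁.left
  -- the equalizer
  let E : Over S := pullback σb σc
  let pr₁ : E ⟶ U₁ := pullback.fst σb σc
  let pr₂ : E ⟶ U₁ := pullback.snd σb σc
  have hcond : pr₁ ≫ σb = pr₂ ≫ σc := pullback.condition
  have hpr : pr₁ = pr₂ := by
    have e1 : pr₁ = (pr₁ ≫ σb) ≫ π₁ := by rw [Category.assoc, hσb1, Category.comp_id]
    have e2 : pr₂ = (pr₂ ≫ σc) ≫ π₁ := by rw [Category.assoc, hσc1, Category.comp_id]
    rw [e1, e2, hcond]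
  have hpre : Etale pr₁.left := by
    have : (MorphismProperty.inverseImage @Etale (Over.forget S)) pr₁ :=
      MorphismProperty.of_isPullback (P := MorphismProperty.inverseImage @Etale (Over.forget S))
        (IsPullback.of_hasPullback σb σc).flip hσce
    exact this
  -- the two composites agree on the residue field point
  have hjb : jpt U₁ u₁ ≫ b = jpt U₁ u₁ ≫ c := by
    have hb' : (jpt U₁ u₁ ≫ b).left (IsLocalRing.closedPoint (U₁.left.residueField u₁)) = u₂ := by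
      show (U₁.left.fromSpecResidueField u₁ ≫ b.left) _ = u₂
      rw [Scheme.Hom.comp_apply, Scheme.fromSpecResidueField_apply, hbu]
    have hc' : (jpt U₁ u₁ ≫ c).left (IsLocalRing.closedPoint (U₁.left.residueField u₁)) = u₂ := by
      show (U₁.left.fromSpecResidueField u₁ ≫ c.left) _ = u₂
      rw [Scheme.Hom.comp_apply, Scheme.fromSpecResidueField_apply, hcu]
    obtain ⟨β, hβ⟩ := exists_factor' u₁ (jpt U₁ u₁ ≫ b) u₂ hb'
    obtain ⟨γ, hγ⟩ := exists_factor' u₁ (jpt U₁ u₁ ≫ c) u₂ hc'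
    have hβO := facHom'_comp u₁ (jpt U₁ u₁ ≫ b) u₂ β hβ
    have hγO := facHom'_comp u₁ (jpt U₁ u₁ ≫ c) u₂ γ hγ
    haveI := h₂.mono
    have key : facHom' u₁ (jpt U₁ u₁ ≫ b) u₂ β hβ = facHom' u₁ (jpt U₁ u₁ ≫ c) u₂ γ hγ := by
      refine factor_unique_of_mono_fieldPt (FieldPt.ofPt a₂ u₂) (FieldPt.ofPt a₁ u₁) _ _ ?_ ?_
      · rw [FieldPt.toHom_ofPt, FieldPt.toHom_ofPt, ← Category.assoc, ← Functor.map_comp]
        erw [hβO]
        show (yon S).map (jpt U₁ u₁ ≫ b) ≫ a₂ = (yon S).map (jpt U₁ u₁) ≫ a₁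
        rw [(yon S).map_comp, Category.assoc, hb]
      · rw [FieldPt.toHom_ofPt, FieldPt.toHom_ofPt, ← Category.assoc, ← Functor.map_comp]
        erw [hγO]
        show (yon S).map (jpt U₁ u₁ ≫ c) ≫ a₂ = (yon S).map (jpt U₁ u₁) ≫ a₁
        rw [(yon S).map_comp, Category.assoc, hc]
    rw [← hβO, ← hγO, key]
  have hjσ : jpt U₁ u₁ ≫ σb = jpt U₁ u₁ ≫ σc := by
    apply (yon S).map_injective
    apply sq.hom_ext
    · rw [← Functor.map_comp, ← Functor.map_comp, Category.assoc, Category.assoc, hσb1, hσc1]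
    · rw [← Functor.map_comp, ← Functor.map_comp, Category.assoc, Category.assoc, hσb2, hσc2, hjb]
  let t : Over.mk (U₁.left.fromSpecResidueField u₁ ≫ U₁.hom) ⟶ E :=
    pullback.lift (jpt U₁ u₁) (jpt U₁ u₁) hjσ
  have ht : t ≫ pr₁ = jpt U₁ u₁ := pullback.lift_fst _ _ _
  obtain ⟨hel, hv1⟩ := elem_of_section a₁ u₁ x h₁ pr₁ hpre t ht _ rfl
  refine ⟨E, (yon S).map pr₁ ≫ a₁, _, pr₁, hel, rfl, hv1, ?_⟩
  rw [← hσb2, ← hσc2, ← Category.assoc, ← Category.assoc, hcond, ← hpr]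

theorem main (X : AlgSp.Space S) (x : AlgSp.Points X.obj) :
    (∀ (U₁ U₂ : Over S) (a₁ : (AlgSp.yon S).obj U₁ ⟶ X.obj) (a₂ : (AlgSp.yon S).obj U₂ ⟶ X.obj)
        (u₁ : ↥U₁.left) (u₂ : ↥U₂.left), AlgSp.IsElemEtaleNbhd a₁ u₁ x →
        AlgSp.IsElemEtaleNbhd a₂ u₂ x →
        ∃ (U : Over S) (a : (AlgSp.yon S).obj U ⟶ X.obj) (v : ↥U.left) (h₁ : U ⟶ U₁) (h₂ : U ⟶ U₂),
          AlgSp.IsElemEtaleNbhd a v x ∧ (AlgSp.yon S).map h₁ ≫ a₁ = a ∧
            (AlgSp.yon S).map h₂ ≫ a₂ = a ∧ h₁.left v = u₁ ∧ h₂.left v = u₂) ∧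
      (∀ (U₁ U₂ : Over S) (a₁ : (AlgSp.yon S).obj U₁ ⟶ X.obj) (a₂ : (AlgSp.yon S).obj U₂ ⟶ X.obj)
        (u₁ : ↥U₁.left) (u₂ : ↥U₂.left) (b c : U₁ ⟶ U₂), AlgSp.IsElemEtaleNbhd a₁ u₁ x →
        AlgSp.IsElemEtaleNbhd a₂ u₂ x →
        (AlgSp.yon S).map b ≫ a₂ = a₁ → (AlgSp.yon S).map c ≫ a₂ = a₁ → b.left u₁ = u₂ →
        c.left u₁ = u₂ →
        ∃ (U : Over S) (a : (AlgSp.yon S).obj U ⟶ X.obj) (v : ↥U.left) (h : U ⟶ U₁),
          AlgSp.IsElemEtaleNbhd a v x ∧ (AlgSp.yon S).map h ≫ a₁ = a ∧ h.left v = u₁ ∧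
            h ≫ b = h ≫ c) :=
  ⟨fun U₁ U₂ a₁ a₂ u₁ u₂ h₁ h₂ => part1 X x U₁ U₂ a₁ a₂ u₁ u₂ h₁ h₂,
    fun U₁ U₂ a₁ a₂ u₁ u₂ b c h₁ h₂ hb hc hbu hcu =>
      part2 X x U₁ U₂ a₁ a₂ u₁ u₂ b c h₁ h₂ hb hc hbu hcu⟩

end W1
end H


/-- For a decent algebraic space X over a scheme S and x ∈ |X|, the category of elementary etale
neighbourhoods (U, u) ⟶ (X, x) is cofiltered: two objects are dominated by a third and two parallel
morphisms are equalized from some object (it is nonempty by the existence of elementary etale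
neighbourhoods). -/
theorem result {S : Scheme.{u}} (X : AlgSp.Space S) (hX : AlgSp.IsDecent X.obj)
    (x : AlgSp.Points X.obj) :
    (∀ (U₁ U₂ : Over S) (a₁ : (AlgSp.yon S).obj U₁ ⟶ X.obj) (a₂ : (AlgSp.yon S).obj U₂ ⟶ X.obj) (u₁ : ↥U₁.left)
        (u₂ : ↥U₂.left), AlgSp.IsElemEtaleNbhd a₁ u₁ x → AlgSp.IsElemEtaleNbhd a₂ u₂ x →
        ∃ (U : Over S) (a : (AlgSp.yon S).obj U ⟶ X.obj) (v : ↥U.left) (h₁ : U ⟶ U₁) (h₂ : U ⟶ U₂),
          AlgSp.IsElemEtaleNbhd a v x ∧ (AlgSp.yon S).map h₁ ≫ a₁ = a ∧ (AlgSp.yon S).map h₂ ≫ a₂ = a ∧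
            h₁.left v = u₁ ∧ h₂.left v = u₂) ∧
      (∀ (U₁ U₂ : Over S) (a₁ : (AlgSp.yon S).obj U₁ ⟶ X.obj) (a₂ : (AlgSp.yon S).obj U₂ ⟶ X.obj) (u₁ : ↥U₁.left)
        (u₂ : ↥U₂.left) (b c : U₁ ⟶ U₂), AlgSp.IsElemEtaleNbhd a₁ u₁ x → AlgSp.IsElemEtaleNbhd a₂ u₂ x →
        (AlgSp.yon S).map b ≫ a₂ = a₁ → (AlgSp.yon S).map c ≫ a₂ = a₁ → b.left u₁ = u₂ → c.left u₁ = u₂ →
        ∃ (U : Over S) (a : (AlgSp.yon S).obj U ⟶ X.obj) (v : ↥U.left) (h : U ⟶ U₁),
          AlgSp.IsElemEtaleNbhd a v x ∧ (AlgSp.yon S).map h ≫ a₁ = a ∧ h.left v = u₁ ∧ h ≫ b = h ≫ c) := by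
  exact (W1.main X x)

end Groth.Agent.S10420
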