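import Groth.Statements.S10422
import Groth.Agent.Lib.Helper3.LocSepDiag

set_option autoImplicit false
universe u
open Topology TopologicalSpace TensorProduct
open AlgSp

namespace Groth.Agent.S10422

/-- Let A be a ring, k a field, (p_n) a sequence of primes of A which are pairwise distinct, and k →
κ(p_n) field embeddings. Then the closure in Spec(A ⊗ A) of the image of ∐_{n ≠ m} Spec(κ(p_n) ⊗_k
κ(p_m)) meets the diagonal. Here κ(p_n) is any A-algebra K_n which is a field whose structure map
has kernel p_n and whose elements are quotients of images of elements of A. -/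
theorem result (A : Type u) [CommRing A] (k : Type u) [Field k]
    (p : ℕ → PrimeSpectrum A) (hp : Function.Injective p) (K : ℕ → Type u) [∀ n, Field (K n)]
    [∀ n, Algebra A (K n)] [∀ n, Algebra k (K n)]
    (hker : ∀ n, RingHom.ker (algebraMap A (K n)) = (p n).asIdeal)
    (hfrac : ∀ n (x : K n), ∃ a b : A, algebraMap A (K n) b ≠ 0 ∧ x * algebraMap A (K n) b = algebraMap A (K n) a) :
    (closure (⋃ (n : ℕ) (m : ℕ) (_ : n ≠ m),
        Set.range (PrimeSpectrum.comap
          (Algebra.TensorProduct.lift
            ((Algebra.TensorProduct.includeLeft (R := k) (S := ℤ) (A := K n) (B := K m)).toRingHom.toIntAlgHom.comp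
              (Algebra.ofId A (K n)).toRingHom.toIntAlgHom)
            ((Algebra.TensorProduct.includeRight (R := k) (A := K n) (B := K m)).toRingHom.toIntAlgHom.comp
              (Algebra.ofId A (K m)).toRingHom.toIntAlgHom)
            (fun _ _ => Commute.all _ _)).toRingHom)) ∩
      Set.range (PrimeSpectrum.comap (Algebra.TensorProduct.lmul' (S := A) ℤ).toRingHom)).Nonempty := by
  classical
  by_contra hne
  rw [Set.not_nonempty_iff_eq_empty] at hne
  obtain ⟨m, hm⟩ := Groth.Agent.Lib.Helper3.LocSep.exists_bound_of_closed_disjoint_diagonal _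
    isClosed_closure hne
  obtain ⟨Ω, _, _, hΩ⟩ := Groth.Agent.Lib.Helper3.LocSep.exists_common_field k K (m + 1)
  choose g _ using (fun (n : ℕ) (hn : n < m + 1) => exists_true_iff_nonempty.2 (hΩ n hn))
  let φ : Fin (m + 1) → A →+* Ω := fun i =>
    (g i.1 i.2).toRingHom.comp (algebraMap A (K i.1))
  have key := hm Ω (Fin (m + 1)) φ ?_
  · simp at key
  · intro i j hij
    apply subset_closure
    simp only [Set.mem_iUnion]
    refine ⟨i.1, j.1, Fin.val_ne_of_ne hij, ?_⟩
    let θ : K i.1 ⊗[k] K j.1 →+* Ω :=
      (Algebra.TensorProduct.lift (g i.1 i.2) (g j.1 j.2) (fun _ _ => Commute.all _ _)).toRingHom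
    refine ⟨PrimeSpectrum.comap θ ⊥, ?_⟩
    rw [← PrimeSpectrum.comap_comp_apply]
    congr 1
    apply RingHom.ext
    intro x
    induction x using TensorProduct.induction_on with
    | zero => simp
    | tmul a b =>
      rw [Groth.Agent.Lib.Helper3.LocSep.pairHom_tmul]
      simp [θ, φ]
    | add x y hx hy => rw [map_add, map_add, hx, hy]

end Groth.Agent.S10422
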