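import Groth.Statements.S10428
import Groth.Agent.Lib.Helper15.BddFibSp
-- import your own Groth.Agent.* helpers here

set_option autoImplicit false
universe u
open CategoryTheory CategoryTheory.Limits AlgebraicGeometry Topology TopologicalSpace
open AlgSp

namespace Groth.Agent.S10428

section H
namespace W1
open AlgSp Groth.Agent.Lib.Helper15
set_option backward.isDefEq.respectTransparency.types false

theorem main {S : Scheme.{u}} (X : AlgSp.Space S) {U : Over S}
    (φ : (AlgSp.yon S).obj U ⟶ X.obj) (hφ : W4dec.HasUnivBddFibres φ) :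
    ∃ n : ℕ, ∀ x : AlgSp.Points X.obj, (AlgSp.Points.ofPt φ ⁻¹' {x}).encard ≤ n := by
  obtain ⟨n, hn⟩ := hφ
  refine ⟨n, fun x => ?_⟩
  induction x using Points.ind with | _ q => ?_
  have hrep : Representable φ := X.property.representable_from_yon φ
  let T : Over S := hrep.pullback q.toHom
  let c : T ⟶ q.pt := hrep.snd q.toHom
  have sq : IsPullback (hrep.fst q.toHom) ((yon S).map c) φ q.toHom := hrep.isPullback q.toHom
  obtain ⟨sU, hsU⟩ := (yon S).map_surjective (hrep.fst q.toHom)
  rw [← hsU] at sq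
  have hfin := hn q T c _ sq.flip
  obtain ⟨hF, hcard⟩ := Groth.Agent.Lib.Helper9.BddFibLib.finite_card_le_of_finiteOfDegLE c.left n
    ((BddFibSp.finiteOfDegLE_iff _ _).2 hfin)
  have hsub : Points.ofPt φ ⁻¹' {Points.mk q} ⊆ Set.range sU.left := by
    intro u hu
    have hrel : FieldPt.Rel (FieldPt.ofPt φ u) q := Points.mk_eq_mk_iff.1 hu
    obtain ⟨Ω, hΩ, w, a, b, hab⟩ := (BddFibSp.rel_iff _ _).1 hrel
    rw [FieldPt.toHom_ofPt] at hab
    let u0 : (FieldPt.ofPt φ u).pt ⟶ U := Over.homMk (U.left.fromSpecResidueField u) rfl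
    have hab' : (yon S).map (a ≫ u0) ≫ φ = (yon S).map b ≫ q.toHom := by
      rw [Functor.map_comp, Category.assoc]
      exact hab
    obtain ⟨ρ, hρ1, hρ2⟩ : ∃ ρ : (yon S).obj (Over.mk w) ⟶ (yon S).obj T,
        ρ ≫ (yon S).map sU = (yon S).map (a ≫ u0) ∧ ρ ≫ (yon S).map c = (yon S).map b :=
      ⟨sq.lift _ _ hab', sq.lift_fst _ _ _, sq.lift_snd _ _ _⟩
    obtain ⟨r, rfl⟩ := (yon S).map_surjective ρ
    have hr : r ≫ sU = a ≫ u0 := by
      apply (yon S).map_injective
      rw [Functor.map_comp]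
      exact hρ1
    have hr' : r.left ≫ sU.left = a.left ≫ U.left.fromSpecResidueField u :=
      congrArg (fun f => f.left) hr
    refine ⟨r.left (IsLocalRing.closedPoint Ω), ?_⟩
    rw [← Scheme.Hom.comp_apply, hr', Scheme.Hom.comp_apply]
    exact Scheme.fromSpecResidueField_apply _ _
  calc (Points.ofPt φ ⁻¹' {Points.mk q}).encard ≤ (Set.range sU.left).encard :=
        Set.encard_le_encard hsub
    _ = (sU.left '' Set.univ).encard := by rw [Set.image_univ]
    _ ≤ (Set.univ : Set T.left).encard := Set.encard_image_le _ _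
    _ = (Nat.card T.left : ℕ∞) := by
        rw [Set.encard_univ, ENat.card_eq_coe_natCard]
    _ ≤ n := by exact_mod_cast hcard

end W1
end H


/-- Let X be an algebraic space over a scheme S and φ : U ⟶ X a morphism from a scheme with universally
bounded fibres. Then for some integer n, every fibre of |U| → |X| contains at most n elements. -/
theorem result {S : Scheme.{u}} (X : AlgSp.Space S) {U : Over S}
    (φ : (AlgSp.yon S).obj U ⟶ X.obj) (hφ : W4dec.HasUnivBddFibres φ) :
    ∃ n : ℕ, ∀ x : AlgSp.Points X.obj, (AlgSp.Points.ofPt φ ⁻¹' {x}).encard ≤ n := by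
  exact W1.main X φ hφ

end Groth.Agent.S10428
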