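import Groth.Statements.S10429
import Groth.Agent.Lib.Helper15.BddFibSp2
import Groth.Agent.Lib.Helper3.AlgSpLocP
-- import your own Groth.Agent.* helpers here

set_option autoImplicit false
universe u
open CategoryTheory CategoryTheory.Limits AlgebraicGeometry Topology TopologicalSpace
open AlgSp

namespace Groth.Agent.S10429

section H
namespace W1
open AlgSp Groth.Agent.Lib.Helper15 Groth.Agent.Lib.Helper3
set_option backward.isDefEq.respectTransparency.types false

/-- an etale map from a quasi-compact scheme to `X` factoring through a bounded chart is bounded on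
its open image -/
theorem bounded_image {S : Scheme.{u}} {X : Sp S} (hX : IsAlgSpace X) {Ui V W : Over S}
    (φ : (yon S).obj Ui ⟶ X) (ψ : (yon S).obj V ⟶ X) (hb : W4dec.HasUnivBddFibres φ)
    (pU : W ⟶ Ui) (pV : W ⟶ V) (hw : (yon S).map pU ≫ φ = (yon S).map pV ≫ ψ)
    (hpUe : Etale pU.left) (hpVe : Etale pV.left) (w : W.left) :
    ∃ (O : Over S) (j : O ⟶ V), IsOpenImmersion j.left ∧ pV.left w ∈ Set.range j.left ∧
      W4dec.HasUnivBddFibres ((yon S).map j ≫ ψ) := by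
  obtain ⟨W0, hW0, hwW0⟩ : ∃ W0 : W.left.Opens, IsAffineOpen W0 ∧ w ∈ W0 := by
    obtain ⟨_, ⟨W0, hW0, rfl⟩, hwW0, -⟩ := (W.left.isBasis_affineOpens).exists_subset_of_mem_open
      (Set.mem_univ w) isOpen_univ
    exact ⟨W0, hW0, hwW0⟩
  let g : W0.toScheme ⟶ V.left := W0.ι ≫ pV.left
  have hge : Etale g := inferInstance
  let O : V.left.Opens := ⟨Set.range g, g.isOpenMap.isOpen_range⟩
  have hrange : Set.range g ⊆ Set.range O.ι := by
    rintro _ ⟨x, rfl⟩
    exact ⟨⟨g x, ⟨x, rfl⟩⟩, rfl⟩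
  let k0 : W0.toScheme ⟶ O.toScheme := IsOpenImmersion.lift O.ι g hrange
  have hk0 : k0 ≫ O.ι = g := IsOpenImmersion.lift_fac _ _ _
  have hk0e : Etale k0 := by
    have : Etale (k0 ≫ O.ι) := by rw [hk0]; exact hge
    exact Etale.of_comp k0 O.ι
  have hk0s : Surjective k0 := by
    constructor
    rintro ⟨y, x, rfl⟩
    refine ⟨x, ?_⟩
    apply O.ι.isOpenEmbedding.injective
    rw [← Scheme.Hom.comp_apply, hk0]
    rfl
  let W0o : Over S := Over.mk (W0.ι ≫ W.hom)
  let ιW : W0o ⟶ W := Over.homMk W0.ι rfl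
  let k : W0o ⟶ BddFibSp.opOver V O := Over.homMk k0 (by
    change k0 ≫ (O.ι ≫ V.hom) = W0.ι ≫ W.hom
    rw [← Category.assoc, hk0, Category.assoc, Over.w pV])
  have hk : k ≫ BddFibSp.opι V O = ιW ≫ pV := by
    ext
    exact hk0
  refine ⟨BddFibSp.opOver V O, BddFibSp.opι V O, inferInstanceAs (IsOpenImmersion O.ι),
    ⟨⟨pV.left w, ⟨⟨w, hwW0⟩, rfl⟩⟩, rfl⟩, ?_⟩
  obtain ⟨m, hm⟩ := hb
  -- the bound for `W0 → Ui`
  have hcomp : CompactSpace W0.toScheme := by
    have : IsAffine W0.toScheme := hW0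
    infer_instance
  let f0 : W0.toScheme ⟶ Ui.left := W0.ι ≫ pU.left
  have hf0e : Etale f0 := inferInstance
  have hf0q : LocallyQuasiFinite f0 := locallyQuasiFinite_of_unramified f0
  obtain ⟨n, hn⟩ := Groth.Agent.Lib.Helper9.BddFibLib6.univBounded_of_locallyQuasiFinite f0
  have h1 : W4dec.DegFibresLE (n * m) ((yon S).map (ιW ≫ pU) ≫ φ) :=
    BddFibSp.degFibresLE_comp' hX (ιW ≫ pU) φ n m hn hm
  have h2 : (yon S).map (ιW ≫ pU) ≫ φ = (yon S).map k ≫ ((yon S).map (BddFibSp.opι V O) ≫ ψ) := by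
    rw [← Category.assoc, ← Functor.map_comp, hk, Functor.map_comp, Functor.map_comp, Category.assoc,
      Category.assoc, hw]
  rw [h2] at h1
  have hkf : Flat k.left := inferInstanceAs (Flat k0)
  have hks : Surjective k.left := hk0s
  exact ⟨n * m, BddFibSp.degFibresLE_of_flat_surjective_triangle k _ (n * m) h1⟩

theorem main {S : Scheme.{u}} (X : AlgSp.Space S) {ι : Type u} (U : ι → Over S)
    (φ : ∀ i, (AlgSp.yon S).obj (U i) ⟶ X.obj) (hφ : ∀ i, AlgSp.RepWith @Etale (φ i))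
    (hsurj : ∀ x : AlgSp.Points X.obj, ∃ (i : ι) (v : ↥(U i).left), AlgSp.Points.ofPt (φ i) v = x)
    (hb : ∀ i, W4dec.HasUnivBddFibres (φ i)) {V : Over S} [IsAffine V.left] (ψ : (AlgSp.yon S).obj V ⟶ X.obj)
    (hψ : AlgSp.RepWith @Etale ψ) : W4dec.HasUnivBddFibres ψ := by
  apply BddFibSp.hasUnivBddFibres_of_locally X.property ψ
  intro v
  obtain ⟨i, u, hu⟩ := hsurj (Points.ofPt ψ v)
  let W : Over S := (hφ i).rep.pullback ψ
  let pV : W ⟶ V := (hφ i).rep.snd ψ
  have sq0 : IsPullback ((hφ i).rep.fst ψ) ((yon S).map pV) (φ i) ψ := (hφ i).rep.isPullback ψ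
  obtain ⟨pU, hpU⟩ := (yon S).map_surjective ((hφ i).rep.fst ψ)
  rw [← hpU] at sq0
  have hpVe : Etale pV.left := (hφ i).2 _ _ _ sq0
  have hpUe : Etale pU.left := hψ.2 _ _ _ sq0.flip
  obtain ⟨w, hw1, hw2⟩ := exists_of_ofPt_eq_of_isPullback sq0 u v hu
  obtain ⟨O, j, hj, hmem, hbd⟩ := bounded_image X.property (φ i) ψ (hb i) pU pV sq0.w hpUe hpVe w
  rw [hw2] at hmem
  exact ⟨O, j, hj, hmem, hbd⟩

end W1
end H


/-- For an algebraic space X over a scheme S, if there are etale morphisms U_i ⟶ X from schemes with ∐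
U_i ⟶ X surjective and each U_i ⟶ X with universally bounded fibres, then every etale morphism U ⟶ X
from an affine scheme has universally bounded fibres (the converse implication is immediate). -/
theorem result {S : Scheme.{u}} (X : AlgSp.Space S) {ι : Type u} (U : ι → Over S)
    (φ : ∀ i, (AlgSp.yon S).obj (U i) ⟶ X.obj) (hφ : ∀ i, AlgSp.RepWith @Etale (φ i))
    (hsurj : ∀ x : AlgSp.Points X.obj, ∃ (i : ι) (v : ↥(U i).left), AlgSp.Points.ofPt (φ i) v = x)
    (hb : ∀ i, W4dec.HasUnivBddFibres (φ i)) {V : Over S} [IsAffine V.left] (ψ : (AlgSp.yon S).obj V ⟶ X.obj)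
    (hψ : AlgSp.RepWith @Etale ψ) : W4dec.HasUnivBddFibres ψ := by
  exact W1.main X U φ hφ hsurj hb ψ hψ

end Groth.Agent.S10429
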