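import Groth.Statements.S10430
import Groth.Agent.Lib.Helper3.DecMonoLoc

set_option autoImplicit false
universe u
open CategoryTheory CategoryTheory.Limits AlgebraicGeometry Topology TopologicalSpace
open AlgSp

namespace Groth.Agent.S10430

/-- If every etale morphism U ⟶ X from an affine scheme to the algebraic space X has universally bounded
fibres, then X is decent. -/
theorem result {S : Scheme.{u}} (X : AlgSp.Space S)
    (h : ∀ (U : Over S) (φ : (AlgSp.yon S).obj U ⟶ X.obj), IsAffine U.left → AlgSp.RepWith @Etale φ → W4dec.HasUnivBddFibres φ) :
    AlgSp.IsDecent X.obj := by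
  intro x
  induction x using Points.ind with
  | h q =>
    have hq : RepWith @QuasiCompact q.toHom := by
      refine Groth.Agent.Lib.Helper3.DecMono.repWith_quasiCompact_of_forall_affine_etale
        X.property q.toHom ?_
      intro A ψ hA hψ T c snd sq
      obtain ⟨n, hn⟩ := h A ψ hA hψ
      obtain ⟨c', rfl⟩ := (yon S).map_surjective c
      have hfin : IsFinite c'.left := (hn q T c' _ sq).1
      have : CompactSpace ↥q.pt.left :=
        inferInstanceAs (CompactSpace ↥(Spec (CommRingCat.of q.K)))
      exact QuasiCompact.compactSpace_of_compactSpace c'.left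
    exact Groth.Agent.Lib.Helper3.DecMono.exists_qc_mono_point_of_qc X.property q hq

end Groth.Agent.S10430
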