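import Groth.Statements.S10431
import Groth.Agent.Lib.Helper15.BddFibSp2
import Groth.Agent.Lib.Helper3.AlgSpImmersionPts
import Groth.Agent.Lib.Helper3.AlgSpHasAtMor
import Groth.Agent.S10429
import Groth.Agent.S10425
-- import your own Groth.Agent.* helpers here

set_option autoImplicit false
universe u
open CategoryTheory CategoryTheory.Limits AlgebraicGeometry Topology TopologicalSpace
open AlgSp

namespace Groth.Agent.S10431

section H
namespace W1
open AlgSp Groth.Agent.Lib.Helper15 Groth.Agent.Lib.Helper3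
set_option backward.isDefEq.respectTransparency.types false

theorem main {S : Scheme.{u}} {X Y : AlgSp.Space S} (f : X ⟶ Y)
    (hf : AlgSp.Representable f.hom)
    (hY : ∀ (V : Over S) (ψ : (AlgSp.yon S).obj V ⟶ Y.obj), IsAffine V.left → AlgSp.RepWith @Etale ψ → W4dec.HasUnivBddFibres ψ)
    (U : Over S) (φ : (AlgSp.yon S).obj U ⟶ X.obj) (hU : IsAffine U.left) (hφ : AlgSp.RepWith @Etale φ) :
    W4dec.HasUnivBddFibres φ := by
  obtain ⟨V0, p, hpe, hps⟩ := Y.property.atlas
  let ι : Type u := V0.left.affineOpens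
  let Vi : ι → Over S := fun i => BddFibSp.opOver V0 i.1
  let pi : ∀ i : ι, (yon S).obj (Vi i) ⟶ Y.obj := fun i => (yon S).map (BddFibSp.opι V0 i.1) ≫ p
  have hpie : ∀ i, RepWith @Etale (pi i) := fun i =>
    (RepWith @Etale.{u}).comp_mem _ _
      ((repWith_yon_map_iff @Etale _).2 (inferInstanceAs (Etale i.1.ι))) hpe
  have hVia : ∀ i : ι, IsAffine (Vi i).left := fun i => i.2
  have hpib : ∀ i, W4dec.HasUnivBddFibres (pi i) := fun i => hY _ _ (hVia i) (hpie i)
  let Ui : ι → Over S := fun i => hf.pullback (pi i)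
  let φi : ∀ i, (yon S).obj (Ui i) ⟶ X.obj := fun i => hf.fst (pi i)
  have sqi : ∀ i, IsPullback (φi i) ((yon S).map (hf.snd (pi i))) f.hom (pi i) :=
    fun i => hf.isPullback (pi i)
  have hφie : ∀ i, RepWith @Etale (φi i) := fun i =>
    (RepWith @Etale.{u}).of_isPullback (sqi i).flip (hpie i)
  have hφib : ∀ i, W4dec.HasUnivBddFibres (φi i) := fun i =>
    Groth.Agent.S10425.result f hf (pi i) (hpib i) _ _ (sqi i).flip
  have hsurj : ∀ x : Points X.obj, ∃ (i : ι) (v : ↥(Ui i).left), Points.ofPt (φi i) v = x := by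
    intro x
    obtain ⟨v0, hv0⟩ := exists_ofPt_eq p hps (Points.map f.hom x)
    obtain ⟨O, hO, hvO⟩ : ∃ O : V0.left.Opens, IsAffineOpen O ∧ v0 ∈ O := by
      obtain ⟨_, ⟨O, hO, rfl⟩, hvO, -⟩ := (V0.left.isBasis_affineOpens).exists_subset_of_mem_open
        (Set.mem_univ v0) isOpen_univ
      exact ⟨O, hO, hvO⟩
    let i : ι := ⟨O, hO⟩
    have h2 : Points.ofPt ((yon S).map (BddFibSp.opι V0 O) ≫ p) (⟨v0, hvO⟩ : O.toScheme) =
        Points.ofPt p v0 :=
      Groth.Agent.Lib.Helper3.Points.ofPt_yon_map_comp (BddFibSp.opι V0 O) p ⟨v0, hvO⟩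
    have h1 : Points.map f.hom x = Points.ofPt (pi i) ⟨v0, hvO⟩ := by
      rw [← hv0]
      exact h2.symm
    obtain ⟨v, hv, -⟩ := exists_of_isPullback_chart (sqi i) x _ h1
    exact ⟨i, v, hv⟩
  have := hU
  exact Groth.Agent.S10429.result X Ui φi hφie hsurj hφib φ hφ

end W1
end H


/-- Let S be a scheme, X and Y algebraic spaces over S, and X ⟶ Y a representable morphism. If every
etale morphism from an affine scheme to Y has universally bounded fibres, then so does every etale
morphism from an affine scheme to X. -/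
theorem result {S : Scheme.{u}} {X Y : AlgSp.Space S} (f : X ⟶ Y)
    (hf : AlgSp.Representable f.hom)
    (hY : ∀ (V : Over S) (ψ : (AlgSp.yon S).obj V ⟶ Y.obj), IsAffine V.left → AlgSp.RepWith @Etale ψ → W4dec.HasUnivBddFibres ψ)
    (U : Over S) (φ : (AlgSp.yon S).obj U ⟶ X.obj) (hU : IsAffine U.left) (hφ : AlgSp.RepWith @Etale φ) :
    W4dec.HasUnivBddFibres φ := by
  exact W1.main f hf hY U φ hU hφ

end Groth.Agent.S10431
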