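import Groth.Statements.S10432
import Groth.Agent.Lib.Helper15.BddFibSp2
import Groth.Agent.Lib.Helper3.AlgSpZarDecent
import Groth.Agent.Lib.Helper3.AlgSpHasAtMor
import Groth.Agent.S10429
-- import your own Groth.Agent.* helpers here

set_option autoImplicit false
universe u
open CategoryTheory CategoryTheory.Limits AlgebraicGeometry Topology TopologicalSpace
open AlgSp

namespace Groth.Agent.S10432

section H
namespace W1
open AlgSp Groth.Agent.Lib.Helper15 Groth.Agent.Lib.Helper3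
set_option backward.isDefEq.respectTransparency.types false

theorem degFibresLE_comp_openImm {S : Scheme.{u}} {X' X : Sp S} (j : X' ⟶ X)
    (hj : RepWith @IsOpenImmersion j) {V : Over S} (a : (yon S).obj V ⟶ X') (n : ℕ)
    (ha : W4dec.DegFibresLE n a) : W4dec.DegFibresLE n (a ≫ j) := by
  intro q T c snd sq
  by_cases hT : IsEmpty T.left
  · exact (BddFibSp.finiteOfDegLE_iff c.left n).1 (BddFibSp.finiteOfDegLE_of_isEmpty c.left n)
  rw [not_isEmpty_iff] at hT
  obtain ⟨t⟩ := hT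
  have hmono : Mono j := mono_of_repWith_isOpenImmersion j hj
  let E : Over S := hj.rep.pullback q.toHom
  let e : E ⟶ q.pt := hj.rep.snd q.toHom
  have sqE : IsPullback (hj.rep.fst q.toHom) ((yon S).map e) j q.toHom := hj.rep.isPullback _
  have heo : IsOpenImmersion e.left := hj.2 _ _ _ sqE
  obtain ⟨ρ, hρ1, hρ2⟩ : ∃ ρ : (yon S).obj T ⟶ (yon S).obj E,
      ρ ≫ hj.rep.fst q.toHom = snd ≫ a ∧ ρ ≫ (yon S).map e = (yon S).map c :=
    ⟨sqE.lift (snd ≫ a) ((yon S).map c) (by rw [Category.assoc, ← sq.w]), sqE.lift_fst _ _ _,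
      sqE.lift_snd _ _ _⟩
  obtain ⟨r, rfl⟩ := (yon S).map_surjective ρ
  have heiso : IsIso e.left := by
    apply isIso_of_isOpenImmersion_of_opensRange_eq_top
    rw [eq_top_iff]
    intro s _
    have hsub : Subsingleton (PrimeSpectrum q.K) := inferInstance
    exact ⟨r.left t, Subsingleton.elim (α := PrimeSpectrum q.K) _ _⟩
  have heiso' : IsIso e := by
    have : IsIso ((Over.forget S).map e) := heiso
    exact isIso_of_reflects_iso e (Over.forget S)
  let q' : (yon S).obj q.pt ⟶ X' := (yon S).map (inv e) ≫ hj.rep.fst q.toHom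
  have hq' : q' ≫ j = q.toHom := by
    rw [Category.assoc, sqE.w, ← Category.assoc, ← Functor.map_comp, IsIso.inv_hom_id,
      CategoryTheory.Functor.map_id, Category.id_comp]
  let q'' : FieldPt X' := ⟨q.K, q.str, (J S).uliftYonedaEquiv q'⟩
  have hq'' : q''.toHom = q' := Equiv.symm_apply_apply _ _
  have sq' : IsPullback ((yon S).map c) snd q''.toHom a := by
    rw [hq'']
    apply isPullback_of_comp_mono' j
    rw [hq']
    exact sq
  exact ha q'' T c snd sq'

theorem main {S : Scheme.{u}} (X : AlgSp.Space S) {ι : Type u}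
    (Xi : ι → AlgSp.Space S) (j : ∀ i, Xi i ⟶ X) (hj : AlgSp.IsZarCover (fun i => (Xi i).obj) (fun i => (j i).hom))
    (h : ∀ (i : ι) (V : Over S) (ψ : (AlgSp.yon S).obj V ⟶ (Xi i).obj), IsAffine V.left → AlgSp.RepWith @Etale ψ → W4dec.HasUnivBddFibres ψ)
    (U : Over S) (φ : (AlgSp.yon S).obj U ⟶ X.obj) (hU : IsAffine U.left) (hφ : AlgSp.RepWith @Etale φ) :
    W4dec.HasUnivBddFibres φ := by
  choose V0 p hpe hps using fun i => (Xi i).property.atlas
  let ι' : Type u := Σ i : ι, (V0 i).left.affineOpens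
  let V : ι' → Over S := fun k => BddFibSp.opOver (V0 k.1) k.2.1
  let a : ∀ k : ι', (yon S).obj (V k) ⟶ (Xi k.1).obj := fun k =>
    (yon S).map (BddFibSp.opι (V0 k.1) k.2.1) ≫ p k.1
  have hae : ∀ k, RepWith @Etale (a k) := fun k =>
    (RepWith @Etale.{u}).comp_mem _ _
      ((repWith_yon_map_iff @Etale _).2 (inferInstanceAs (Etale k.2.1.ι))) (hpe k.1)
  have hVa : ∀ k : ι', IsAffine (V k).left := fun k => k.2.2
  have hab : ∀ k, W4dec.HasUnivBddFibres (a k) := fun k => h k.1 _ _ (hVa k) (hae k)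
  have hje : ∀ i, RepWith @Etale (j i).hom := fun i =>
    repWith_mono (fun _ _ g hg => by have : IsOpenImmersion g := hg; infer_instance) (hj.1 i)
  have hφe : ∀ k, RepWith @Etale (a k ≫ (j k.1).hom) := fun k =>
    (RepWith @Etale.{u}).comp_mem _ _ (hae k) (hje k.1)
  have hφb : ∀ k, W4dec.HasUnivBddFibres (a k ≫ (j k.1).hom) := by
    intro k
    obtain ⟨n, hn⟩ := hab k
    exact ⟨n, degFibresLE_comp_openImm (j k.1).hom (hj.1 k.1) (a k) n hn⟩
  have hsurj : ∀ x : Points X.obj, ∃ (k : ι') (v : ↥(V k).left),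
      Points.ofPt (a k ≫ (j k.1).hom) v = x := by
    intro x
    obtain ⟨i, z, rfl⟩ := hj.2 x
    obtain ⟨v0, rfl⟩ := exists_ofPt_eq (p i) (hps i) z
    obtain ⟨O, hO, hvO⟩ : ∃ O : (V0 i).left.Opens, IsAffineOpen O ∧ v0 ∈ O := by
      obtain ⟨_, ⟨O, hO, rfl⟩, hvO, -⟩ := ((V0 i).left.isBasis_affineOpens).exists_subset_of_mem_open
        (Set.mem_univ v0) isOpen_univ
      exact ⟨O, hO, hvO⟩
    refine ⟨⟨i, ⟨O, hO⟩⟩, ⟨v0, hvO⟩, ?_⟩
    have h2 : Points.ofPt ((yon S).map (BddFibSp.opι (V0 i) O) ≫ p i) (⟨v0, hvO⟩ : O.toScheme) =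
        Points.ofPt (p i) v0 :=
      Groth.Agent.Lib.Helper3.Points.ofPt_yon_map_comp (BddFibSp.opι (V0 i) O) (p i) ⟨v0, hvO⟩
    rw [← h2, Points.map_ofPt]
  have := hU
  exact Groth.Agent.S10429.result X V (fun k => a k ≫ (j k.1).hom) hφe hsurj hφb φ hφ

end W1
end H


/-- Let X be an algebraic space over a scheme S with a Zariski covering by open subspaces X_i ⟶ X such
that every etale morphism from an affine scheme to X_i has universally bounded fibres. Then every
etale morphism from an affine scheme to X has universally bounded fibres. -/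
theorem result {S : Scheme.{u}} (X : AlgSp.Space S) {ι : Type u}
    (Xi : ι → AlgSp.Space S) (j : ∀ i, Xi i ⟶ X) (hj : AlgSp.IsZarCover (fun i => (Xi i).obj) (fun i => (j i).hom))
    (h : ∀ (i : ι) (V : Over S) (ψ : (AlgSp.yon S).obj V ⟶ (Xi i).obj), IsAffine V.left → AlgSp.RepWith @Etale ψ → W4dec.HasUnivBddFibres ψ)
    (U : Over S) (φ : (AlgSp.yon S).obj U ⟶ X.obj) (hU : IsAffine U.left) (hφ : AlgSp.RepWith @Etale φ) :
    W4dec.HasUnivBddFibres φ := by
  exact W1.main X Xi j hj h U φ hU hφ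

end Groth.Agent.S10432
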