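import Groth.Statements.S10443
import Groth.Agent.S9684
import Groth.Agent.S10340
import Groth.Agent.Lib.Helper3.AlgSpGenLift
import Groth.Agent.Lib.Helper3.AlgSpHasAtMor

set_option autoImplicit false
universe u
open CategoryTheory CategoryTheory.Limits AlgebraicGeometry Topology TopologicalSpace
open AlgSp

namespace Groth.Agent.S10443

/-- Let S be a locally Noetherian, universally catenary scheme carrying a dimension function δ, and X a
decent algebraic space over S that is locally of finite type over S. Define δ_X : |X| → ℤ by δ_X(x)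
= δ(s) + (transcendence degree of x over s), s the image of x in S; concretely, for an etale
surjective chart U ⟶ X with U locally of finite type over S, the composite of δ_X with |U| → |X| is
the function induced from δ along U ⟶ S. Then δ_X is a dimension function: strictly decreasing along
nontrivial specializations, and dropping by one along immediate ones. -/
theorem result {S : Scheme.{u}} (δ : ↥S → ℤ) (hS : Cyc.IsSetup S δ)
    (X : AlgSp.Space S) (hX : AlgSp.IsDecent X.obj) {U : Over S} (a : (AlgSp.yon S).obj U ⟶ X.obj)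
    (ha : AlgSp.RepWith @Etale a) (hs : AlgSp.RepWith @Surjective a) [LocallyOfFiniteType U.hom]
    (δX : AlgSp.Points X.obj → ℤ) (hδ : Cyc.DeltaCompat U.hom (δX ∘ AlgSp.Points.ofPt a) δ) :
    ∀ x y : AlgSp.Points X.obj, x ⤳ y → x ≠ y →
      δX y < δX x ∧ ((∀ z : AlgSp.Points X.obj, x ⤳ z → z ⤳ y → z = x ∨ z = y) → δX x = δX y + 1) := by
  intro x y hxy hne
  have hdim : Cyc.IsDimFun U.left (δX ∘ AlgSp.Points.ofPt a) :=
    Groth.Agent.S9684.result U.hom δ hS _ hδ
  obtain ⟨v, hv⟩ := Groth.Agent.Lib.Helper3.exists_ofPt_eq a hs y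
  obtain ⟨p, hp, -, hq⟩ := hX x
  have hxy' : AlgSp.Points.mk p ⤳ y := by rw [hp]; exact hxy
  obtain ⟨w, hwv, hw⟩ :=
    Groth.Agent.Lib.Helper3.exists_specializes_lift_of_qc_point y p hxy' hq a ha v hv
  have hwx : AlgSp.Points.ofPt a w = x := hw.trans hp
  have hwv_ne : w ≠ v := by
    rintro rfl
    exact hne (hwx.symm.trans hv)
  obtain ⟨h1, h2⟩ := hdim w v hwv hwv_ne
  simp only [Function.comp_apply, hwx, hv] at h1 h2
  refine ⟨h1, fun himm => h2 ?_⟩
  intro z hwz hzv
  have h1' : x ⤳ AlgSp.Points.ofPt a z := by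
    rw [← hwx]; exact hwz.map (AlgSp.Points.continuous_ofPt a)
  have h2' : AlgSp.Points.ofPt a z ⤳ y := by
    rw [← hv]; exact hzv.map (AlgSp.Points.continuous_ofPt a)
  rcases himm _ h1' h2' with e | e
  · left
    exact Groth.Agent.S10340.result X hX a ha z w (e.trans hwx.symm) hwz
  · right
    exact (Groth.Agent.S10340.result X hX a ha v z (hv.trans e.symm) hzv).symm

end Groth.Agent.S10443
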