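import Groth.Statements.S10453
import Groth.Agent.Lib.Helper3.SchLoc3

set_option autoImplicit false
universe u
open CategoryTheory CategoryTheory.Limits AlgebraicGeometry Topology TopologicalSpace
open AlgSp

namespace Groth.Agent.S10453

/-- Let X be a quasi-separated algebraic space over a quasi-separated scheme S and x a point of X of
codimension 0 (the local ring of X at x has dimension 0). Then some open subspace of X containing x
is a scheme. (The published statement allows any base scheme S and takes X quasi-separated in the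
absolute sense; this row asks S to be quasi-separated and X quasi-separated over S, which together
imply absolute quasi-separatedness.) -/
theorem result {S : Scheme.{u}} [QuasiSeparatedSpace S]
    (X : AlgSp.Space S) (hqs : AlgSp.IsQuasiSeparatedSp X.obj) (x : AlgSp.Points X.obj)
    (hx : AlgSp.HasAt (fun U u => ringKrullDim ↥(U.presheaf.stalk u) = 0) X.obj x) :
    ∃ (X' : AlgSp.Space S) (j : X' ⟶ X), AlgSp.RepWith @IsOpenImmersion j.hom ∧
      X'.obj.obj.IsRepresentable ∧ x ∈ Set.range (AlgSp.Points.map j.hom) := by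
  have hZ : ∃ (ι : Type u) (Xi : ι → AlgSp.Space S) (j : ∀ i, Xi i ⟶ X),
      AlgSp.IsZarCover (fun i => (Xi i).obj) (fun i => (j i).hom) ∧
        ∀ i, AlgSp.IsQuasiSeparatedSp (Xi i).obj :=
    ⟨PUnit, fun _ => X, fun _ => 𝟙 X, ⟨fun _ => Groth.Agent.S9937.repWith_of_isIso @IsOpenImmersion (fun g hg => by have := hg; infer_instance) _, fun x => ⟨PUnit.unit, x, AlgSp.Points.map_id x⟩⟩,
      fun _ => hqs⟩
  obtain ⟨M, b, hbo, hbx⟩ := Groth.Agent.Lib.Helper3.SchLoc.exists_open_subscheme_nhd_of_zlqs X hZ x hx
  refine ⟨⟨(AlgSp.yon S).obj M, AlgSp.IsAlgSpace.yon_obj M⟩, ObjectProperty.homMk b, hbo,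
    (AlgSp.representableByOfIso (Iso.refl _)).isRepresentable, ?_⟩
  rw [← Groth.Agent.Lib.Helper3.range_map_eq_range_ofPt] at hbx
  exact hbx

end Groth.Agent.S10453
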