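import Groth.Statements.S10466
import Groth.Agent.Lib.Helper15.ConnBC
import Groth.Agent.Lib.Helper3.AlgSpDiag
import Groth.Agent.Lib.Helper3.AlgSpQC7
-- import your own Groth.Agent.* helpers here

set_option autoImplicit false
universe u
open CategoryTheory CategoryTheory.Limits AlgebraicGeometry Topology TopologicalSpace
open AlgSp

namespace Groth.Agent.S10466

section H
namespace W1
open Groth.Agent.Lib.Helper3 Groth.Agent.Lib.Helper15 Groth.Agent.Lib.Helper15.ConnBC
set_option backward.isDefEq.respectTransparency.types false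

variable {S : Scheme.{u}}

/-- the product with a fixed sheaf is compatible with base change in the other factor -/
theorem isPullback_prod_map' (X : Sp S) {A' A : Sp S} (b : A' ⟶ A) :
    IsPullback (prod.map (𝟙 X) b) prod.snd prod.snd b := by
  have hr := IsPullback.of_hasBinaryProduct' X A
  have hb := IsPullback.of_hasBinaryProduct' X A'
  refine IsPullback.of_right ?_ (by simp) hr
  have e1 : prod.map (𝟙 X) b ≫ (prod.fst : X ⨯ A ⟶ X) = prod.fst := by simp
  have e2 : b ≫ terminal.from A = terminal.from A' := Subsingleton.elim _ _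
  rw [e1, e2]
  exact hb

/-- over a field, the second projection of a product of algebraic spaces is open -/
theorem isOpenMap_prod_snd {k : Type u} [Field k] {X Y : Sp (Spec (CommRingCat.of k))}
    (hX : IsAlgSpace X) (hY : IsAlgSpace Y) :
    IsOpenMap (Points.map (prod.snd : X ⨯ Y ⟶ Y)) := by
  obtain ⟨U, a, hae, has⟩ := hX.atlas
  obtain ⟨V, b, hbe, hbs⟩ := hY.atlas
  set c := prodComparison (yon (Spec (CommRingCat.of k))) U V ≫ prod.map a b with hc
  have hce : RepWith @Etale c := repWith_prodComparison_prod_map @Etale a b hae hbe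
  have hcs : RepWith @Surjective c := repWith_prodComparison_prod_map @Surjective a b has hbs
  have hcomm : c ≫ (prod.snd : X ⨯ Y ⟶ Y) =
      (yon (Spec (CommRingCat.of k))).map (prod.snd : U ⨯ V ⟶ V) ≫ b := by
    rw [hc, Category.assoc, prod.map_snd, ← Category.assoc, prodComparison_snd]
  have hopen : IsOpenMap (prod.snd : U ⨯ V ⟶ V).left := by
    haveI : Subsingleton ↥(Spec (CommRingCat.of k)) :=
      Groth.Agent.Lib.Helper22.SchGeomIrr.subsingleton_spec_field
    have h1 : IsOpenMap (pullback.snd U.hom V.hom) := (pullback.snd U.hom V.hom).isOpenMap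
    rw [← Over.prodLeftIsoPullback_hom_snd]
    exact h1.comp (Over.prodLeftIsoPullback U V).hom.homeomorph.isOpenMap
  intro O hO
  have key : ∀ p, Points.map (prod.snd : X ⨯ Y ⟶ Y) (Points.ofPt c p) =
      Points.ofPt b ((prod.snd : U ⨯ V ⟶ V).left p) := by
    intro p
    rw [Points.map_ofPt, hcomm, Points.ofPt_yon_map_comp]
  have : Points.map (prod.snd : X ⨯ Y ⟶ Y) '' O =
      Points.ofPt b '' ((prod.snd : U ⨯ V ⟶ V).left '' (Points.ofPt c ⁻¹' O)) := by
    ext z
    constructor
    · rintro ⟨z', hz', rfl⟩
      obtain ⟨p, rfl⟩ := exists_ofPt_eq c hcs z'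
      exact ⟨_, ⟨p, hz', rfl⟩, (key p).symm⟩
    · rintro ⟨_, ⟨p, hp, rfl⟩, rfl⟩
      exact ⟨Points.ofPt c p, hp, key p⟩
  rw [this]
  exact isOpenMap_ofPt b hbe _ (hopen _ ((Points.continuous_ofPt c).isOpen_preimage _ hO))

theorem main (k : Type u) [Field k]
    (X Y : AlgSp.Space (Spec (CommRingCat.of k))) (hX : (∀ (K : Type u) [Field K] [Algebra k K], ConnectedSpace (AlgSp.Points (X.obj ⨯ (AlgSp.yon (Spec (CommRingCat.of k))).obj (Over.mk (Spec.map (CommRingCat.ofHom (algebraMap k K)))))))) :
    Function.Bijective (Continuous.connectedComponentsMap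
      (AlgSp.Points.continuous_map (Limits.prod.snd : X.obj ⨯ Y.obj ⟶ Y.obj))) := by
  have hfib : ∀ y : Points Y.obj, _root_.IsConnected
      (Points.map (prod.snd : X.obj ⨯ Y.obj ⟶ Y.obj) ⁻¹' {y}) := by
    intro y
    obtain ⟨L, _, str, b, rfl⟩ := Points.exists_hom y
    obtain ⟨φ, rfl⟩ : ∃ φ : k →+* L, str = Spec.map (CommRingCat.ofHom φ) :=
      ⟨(Spec.preimage str).hom, (Spec.map_preimage str).symm⟩
    letI : Algebra k L := φ.toAlgebra
    let T : Over (Spec (CommRingCat.of k)) := Over.mk (Spec.map (CommRingCat.ofHom φ))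
    haveI : ConnectedSpace (Points (X.obj ⨯ (yon (Spec (CommRingCat.of k))).obj T)) := hX L
    have sq := isPullback_prod_map' X.obj b
    have hsub : Subsingleton (Points ((yon (Spec (CommRingCat.of k))).obj T)) := by
      haveI : Subsingleton ↥T.left := inferInstanceAs (Subsingleton (PrimeSpectrum L))
      exact (Points.schemeHomeo T).symm.injective.subsingleton
    have himg : Points.map (prod.snd : X.obj ⨯ Y.obj ⟶ Y.obj) ⁻¹'
        {Points.mk (fieldPtOfHom L (Spec.map (CommRingCat.ofHom φ)) b)} =
        Set.range (Points.map (prod.map (𝟙 X.obj) b)) := by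
      ext z
      constructor
      · intro hz
        have h0 : Points.mk (fieldPtOfHom L (Spec.map (CommRingCat.ofHom φ)) b) =
            Points.map b (Points.mk (fieldPtOfHom L (Spec.map (CommRingCat.ofHom φ)) (𝟙 _))) := by
          rw [Points.map_mk_fieldPtOfHom, Category.id_comp]
        obtain ⟨w, hw1, -⟩ := Points.exists_of_isPullback sq z _ (hz.trans h0)
        exact ⟨w, hw1⟩
      · rintro ⟨w, rfl⟩
        show Points.map prod.snd (Points.map (prod.map (𝟙 X.obj) b) w) = _
        rw [← Points.map_comp, prod.map_snd, Points.map_comp]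
        have : Points.map (prod.snd : X.obj ⨯ (yon _).obj T ⟶ _) w =
            Points.mk (fieldPtOfHom L (Spec.map (CommRingCat.ofHom φ)) (𝟙 _)) :=
          Subsingleton.elim _ _
        rw [this, Points.map_mk_fieldPtOfHom, Category.id_comp]
    rw [himg]
    exact isConnected_range (Points.continuous_map _)
  have hs : Function.Surjective (Points.map (prod.snd : X.obj ⨯ Y.obj ⟶ Y.obj)) := by
    intro y
    obtain ⟨z, hz⟩ := (hfib y).nonempty
    exact ⟨z, hz⟩
  exact bijective_connectedComponentsMap _ (isOpenMap_prod_snd X.property Y.property) hs hfib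

end W1
end H


/-- Let k be a field and X, Y algebraic spaces over k with X geometrically connected over k. Then the
projection X ×_k Y ⟶ Y induces a bijection between connected components of |X ×_k Y| and of |Y|. -/
theorem result (k : Type u) [Field k]
    (X Y : AlgSp.Space (Spec (CommRingCat.of k))) (hX : (∀ (K : Type u) [Field K] [Algebra k K], ConnectedSpace (AlgSp.Points (X.obj ⨯ (AlgSp.yon (Spec (CommRingCat.of k))).obj (Over.mk (Spec.map (CommRingCat.ofHom (algebraMap k K)))))))) :
    Function.Bijective (Continuous.connectedComponentsMap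
      (AlgSp.Points.continuous_map (Limits.prod.snd : X.obj ⨯ Y.obj ⟶ Y.obj))) := by
  exact W1.main k X Y hX

end Groth.Agent.S10466
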