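import Groth.Statements.S10467
import Groth.Agent.Lib.Helper15.ConnBC
-- import your own Groth.Agent.* helpers here

set_option autoImplicit false
universe u
open CategoryTheory CategoryTheory.Limits AlgebraicGeometry Topology TopologicalSpace
open AlgSp

namespace Groth.Agent.S10467

section H
namespace W1
open Groth.Agent.Lib.Helper3 Groth.Agent.Lib.Helper15 Groth.Agent.Lib.Helper15.ConnBC
set_option backward.isDefEq.respectTransparency.types false

theorem connFib_base {k : Type u} [Field k] [IsSepClosed k] (K : Type u) [Field K] [Algebra k K] :
    ConnFib (S := Spec (CommRingCat.of k))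
      (Over.homMk (Spec.map (CommRingCat.ofHom (algebraMap k K))) :
        Over.mk (Spec.map (CommRingCat.ofHom (algebraMap k K))) ⟶ Over.mk (𝟙 _)) :=
  connFib_of_isSepClosed (k := k) (K := K) _ rfl rfl (by simp)

theorem main (k : Type u) [Field k] [IsSepClosed k]
    (X : AlgSp.Space (Spec (CommRingCat.of k))) (K : Type u) [Field K] [Algebra k K] :
    Function.Bijective (Continuous.connectedComponentsMap
      (AlgSp.Points.continuous_map (Limits.prod.fst : (X.obj ⨯ (AlgSp.yon (Spec (CommRingCat.of k))).obj (Over.mk (Spec.map (CommRingCat.ofHom (algebraMap k K))))) ⟶ X.obj))) :=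
  bijective_pi0 X.property _ (connFib_base K) _ _ _
    (isPullback_prod_base X.obj (Over.mk (Spec.map (CommRingCat.ofHom (algebraMap k K)))))

end W1
end H


/-- Let k be a separably closed field, K an extension field of k and X an algebraic space over k. Then
X_K ⟶ X induces a bijection of connected components. -/
theorem result (k : Type u) [Field k] [IsSepClosed k]
    (X : AlgSp.Space (Spec (CommRingCat.of k))) (K : Type u) [Field K] [Algebra k K] :
    Function.Bijective (Continuous.connectedComponentsMap
      (AlgSp.Points.continuous_map (Limits.prod.fst : (X.obj ⨯ (AlgSp.yon (Spec (CommRingCat.of k))).obj (Over.mk (Spec.map (CommRingCat.ofHom (algebraMap k K))))) ⟶ X.obj))) := by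
  exact W1.main k X K

end Groth.Agent.S10467
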