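import Groth.Statements.S10468
import Groth.Agent.Lib.Helper15.ConnBC
import Groth.Agent.Lib.Helper3.AlgSpQC7
-- import your own Groth.Agent.* helpers here

set_option autoImplicit false
universe u
open CategoryTheory CategoryTheory.Limits AlgebraicGeometry Topology TopologicalSpace
open AlgSp

namespace Groth.Agent.S10468

section H
namespace W1
open Groth.Agent.Lib.Helper3 Groth.Agent.Lib.Helper15 Groth.Agent.Lib.Helper15.ConnBC
set_option backward.isDefEq.respectTransparency.types false

/-- the morphism of `k`-schemes `Spec L' ⟶ Spec L` induced by a ring map `L → L'` over `k` -/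
noncomputable def cMap {k L L' : Type u} [Field k] [Field L] [Field L'] [Algebra k L] [Algebra k L']
    (φ : L →+* L') (hφ : φ.comp (algebraMap k L) = algebraMap k L') :
    (Over.mk (Spec.map (CommRingCat.ofHom (algebraMap k L'))) : Over (Spec (CommRingCat.of k))) ⟶
      Over.mk (Spec.map (CommRingCat.ofHom (algebraMap k L))) :=
  Over.homMk (Spec.map (CommRingCat.ofHom φ)) (by
    show Spec.map (CommRingCat.ofHom φ) ≫ Spec.map (CommRingCat.ofHom (algebraMap k L)) =
      Spec.map (CommRingCat.ofHom (algebraMap k L'))
    rw [← Spec.map_comp, ← CommRingCat.ofHom_comp, hφ])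

theorem main (k : Type u) [Field k] (X : AlgSp.Space (Spec (CommRingCat.of k)))
    (kbar : Type u) [Field kbar] [Algebra k kbar] [IsSepClosure k kbar] :
    (∀ (K : Type u) [Field K] [Algebra k K], ConnectedSpace (AlgSp.Points (X.obj ⨯ (AlgSp.yon (Spec (CommRingCat.of k))).obj (Over.mk (Spec.map (CommRingCat.ofHom (algebraMap k K))))))) ↔ ConnectedSpace (AlgSp.Points (X.obj ⨯ (AlgSp.yon (Spec (CommRingCat.of k))).obj (Over.mk (Spec.map (CommRingCat.ofHom (algebraMap k kbar)))))) := by
  constructor
  · intro h
    exact h kbar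
  · intro h K _ _
    haveI : IsSepClosed kbar := IsSepClosure.sep_closed k
    haveI : Algebra.IsSeparable k kbar := IsSepClosure.separable
    haveI : Algebra.IsAlgebraic k kbar := inferInstance
    let Ω := AlgebraicClosure K
    let φ : kbar →ₐ[k] Ω := IsAlgClosed.lift
    let c1 := cMap (k := k) (φ : kbar →+* Ω) φ.comp_algebraMap
    let c2 := cMap (k := k) (algebraMap K Ω) (IsScalarTower.algebraMap_eq k K Ω).symm
    letI : Algebra kbar Ω := (φ : kbar →+* Ω).toAlgebra
    have hc1 : ConnFib c1 := connFib_of_isSepClosed (k := kbar) (K := Ω) c1 rfl rfl (by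
      simp only [eqToHom_refl, Category.id_comp, Category.comp_id]
      rfl)
    haveI hΩ : ConnectedSpace (Points (X.obj ⨯ (AlgSp.yon (Spec (CommRingCat.of k))).obj
        (Over.mk (Spec.map (CommRingCat.ofHom (algebraMap k Ω)))))) :=
      connectedSpace_bc (isAlgSpace_prod X.property (IsAlgSpace.yon_obj _)) c1 hc1 _ _ _
        (isPullback_prod_map X.obj c1)
    have hc2 : Surjective c2.left := GeomDesc.surjective_specMap_field (algebraMap K Ω)
    have hs := surjective_map_of_isPullback c2 hc2 _ _ _ (isPullback_prod_map X.obj c2)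
    exact hs.connectedSpace (Points.continuous_map _)

end W1
end H


/-- Let k be a field with separable algebraic closure k̄ and X an algebraic space over k. Then X is
geometrically connected if and only if X_{k̄} is connected. -/
theorem result (k : Type u) [Field k] (X : AlgSp.Space (Spec (CommRingCat.of k)))
    (kbar : Type u) [Field kbar] [Algebra k kbar] [IsSepClosure k kbar] :
    (∀ (K : Type u) [Field K] [Algebra k K], ConnectedSpace (AlgSp.Points (X.obj ⨯ (AlgSp.yon (Spec (CommRingCat.of k))).obj (Over.mk (Spec.map (CommRingCat.ofHom (algebraMap k K))))))) ↔ ConnectedSpace (AlgSp.Points (X.obj ⨯ (AlgSp.yon (Spec (CommRingCat.of k))).obj (Over.mk (Spec.map (CommRingCat.ofHom (algebraMap k kbar)))))) := by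
  exact W1.main k X kbar

end Groth.Agent.S10468
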