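import Groth.Statements.S10469
import Groth.Agent.S10468
import Groth.Agent.Lib.Helper15.ConnFin
-- import your own Groth.Agent.* helpers here

set_option autoImplicit false
universe u
open CategoryTheory CategoryTheory.Limits AlgebraicGeometry Topology TopologicalSpace
open AlgSp

namespace Groth.Agent.S10469

section H
namespace W1
open Groth.Agent.Lib.Helper3 Groth.Agent.Lib.Helper15 Groth.Agent.Lib.Helper15.ConnBC
open Groth.Agent.Lib.Helper15.ConnFin
set_option backward.isDefEq.respectTransparency.types false

/-- the product with `Spec L` as a pullback square in the form used by `ConnFin` -/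
theorem sqL (k : Type u) [Field k] (X : AlgSp.Sp (Spec (CommRingCat.of k)))
    (L : Type u) [Field L] [Algebra k L] :
    ∃ (snd : (X ⨯ (AlgSp.yon (Spec (CommRingCat.of k))).obj
        (Over.mk (Spec.map (CommRingCat.ofHom (algebraMap k L))))) ⟶
          (AlgSp.yon (Spec (CommRingCat.of k))).obj (TL (𝟙 (Spec (CommRingCat.of k))) L)),
      IsPullback (prod.fst : (X ⨯ (AlgSp.yon (Spec (CommRingCat.of k))).obj
        (Over.mk (Spec.map (CommRingCat.ofHom (algebraMap k L))))) ⟶ X) snd
        (SpCoprod.isTerminalYonBase.from X)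
        ((AlgSp.yon (Spec (CommRingCat.of k))).map (cL (𝟙 (Spec (CommRingCat.of k))) L)) := by
  let T' : Over (Spec (CommRingCat.of k)) := Over.mk (Spec.map (CommRingCat.ofHom (algebraMap k L)))
  let φ : T' ≅ TL (𝟙 (Spec (CommRingCat.of k))) L := Over.isoMk (Iso.refl _) (by simp [T'])
  refine ⟨prod.snd ≫ (AlgSp.yon _).map φ.hom, ?_⟩
  refine IsPullback.of_iso (isPullback_prod_base X T') (Iso.refl _) (Iso.refl _)
    ((AlgSp.yon _).mapIso φ) (Iso.refl _)
    (by simp only [Iso.refl_hom, Category.comp_id, Category.id_comp]; rfl)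
    (by simp only [Iso.refl_hom, Category.id_comp, Functor.mapIso_hom]; rfl)
    (by simp only [Iso.refl_hom, Category.comp_id, Category.id_comp]) ?_
  simp only [Iso.refl_hom, Category.comp_id, Functor.mapIso_hom, ← Functor.map_comp]
  congr 1

theorem main (k : Type u) [Field k] (X : AlgSp.Space (Spec (CommRingCat.of k))) :
    (∀ (K : Type u) [Field K] [Algebra k K], ConnectedSpace (AlgSp.Points (X.obj ⨯ (AlgSp.yon (Spec (CommRingCat.of k))).obj (Over.mk (Spec.map (CommRingCat.ofHom (algebraMap k K))))))) ↔
      ∀ (k' : Type u) [Field k'] [Algebra k k'], Module.Finite k k' → Algebra.IsSeparable k k' →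
        ConnectedSpace (AlgSp.Points (X.obj ⨯ (AlgSp.yon (Spec (CommRingCat.of k))).obj (Over.mk (Spec.map (CommRingCat.ofHom (algebraMap k k')))))) := by
  constructor
  · intro h k' _ _ _ _
    exact h k'
  · intro h
    rw [Groth.Agent.S10468.result k X (SeparableClosure k)]
    haveI : Algebra.IsSeparable k (SeparableClosure k) := inferInstance
    haveI : Algebra.IsAlgebraic k (SeparableClosure k) := inferInstance
    obtain ⟨sndΩ, sqΩ⟩ := sqL k X.obj (SeparableClosure k)
    refine connectedSpace_of_forall_finite (𝟙 _) X.property _ _ sndΩ sqΩ ?_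
    intro K hK
    obtain ⟨sndK, sqK⟩ := sqL k X.obj K
    exact ⟨_, _, sndK, sqK, h K hK inferInstance⟩

end W1
end H


/-- Let k be a field and X an algebraic space over k. Then X is geometrically connected if and only if
X_{k'} is connected for every finite separable field extension k' of k. -/
theorem result (k : Type u) [Field k] (X : AlgSp.Space (Spec (CommRingCat.of k))) :
    (∀ (K : Type u) [Field K] [Algebra k K], ConnectedSpace (AlgSp.Points (X.obj ⨯ (AlgSp.yon (Spec (CommRingCat.of k))).obj (Over.mk (Spec.map (CommRingCat.ofHom (algebraMap k K))))))) ↔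
      ∀ (k' : Type u) [Field k'] [Algebra k k'], Module.Finite k k' → Algebra.IsSeparable k k' →
        ConnectedSpace (AlgSp.Points (X.obj ⨯ (AlgSp.yon (Spec (CommRingCat.of k))).obj (Over.mk (Spec.map (CommRingCat.ofHom (algebraMap k k')))))) := by
  exact W1.main k X

end Groth.Agent.S10469
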