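import Groth.Statements.S10475
import Groth.Agent.Lib.Helper15.GeomRedSp
import Groth.Agent.Lib.Helper5.StalkBCH
import Groth.Agent.Lib.Helper22.GeomRed
-- import your own Groth.Agent.* helpers here

set_option autoImplicit false
universe u
open CategoryTheory CategoryTheory.Limits AlgebraicGeometry Topology TopologicalSpace
open AlgSp

namespace Groth.Agent.S10475

section H
set_option backward.isDefEq.respectTransparency.types false
namespace W1
open Groth.Agent.Lib.Helper3 Groth.Agent.Lib.Helper15.GeomRedSp

theorem scheme_level {k : Type u} [Field k] [PerfectField k] {U : Scheme.{u}}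
    (f : U ⟶ Spec (CommRingCat.of k)) [IsReduced U] (u : U) : FBase.IsGeomReducedAt f u := by
  letI : U.Over (Spec (CommRingCat.of k)) := ⟨f⟩
  have key : FBase.IsGeomReducedAt f u ↔ Curv2.IsGeomReducedAt k U u := Iff.rfl
  rw [key, Groth.Agent.Lib.Helper5.StalkBC.isGeomReducedAt_iff]
  letI : Algebra k (U.presheaf.stalk u) := Curv2.stalkAlgebra k U u
  exact Groth.Agent.Lib.Helper22.GeomRed.isGeometricallyReduced_of_perfectField

theorem main (k : Type u) [Field k] [PerfectField k]
    (X : AlgSp.Space (Spec (CommRingCat.of k))) (hX : AlgSp.EtaleLocally (fun U => IsReduced U) X.obj) (x : AlgSp.Points X.obj) :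
    (∃ (U : Over (Spec (CommRingCat.of k))) (a : (AlgSp.yon (Spec (CommRingCat.of k))).obj U ⟶ X.obj) (u : ↥U.left),
      AlgSp.RepWith @Etale a ∧ AlgSp.Points.ofPt a u = x ∧ FBase.IsGeomReducedAt U.hom u) := by
  obtain ⟨U, p, hpe, hps, hU⟩ := hX
  obtain ⟨u, hu⟩ := exists_ofPt_eq p hps x
  haveI : IsReduced U.left := hU
  exact ⟨U, p, u, hpe, hu, scheme_level U.hom u⟩

end W1
end H


/-- Let k be a perfect field and X a reduced algebraic space over k. Then X is geometrically reduced
over k (geometrically reduced at every point). -/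
theorem result (k : Type u) [Field k] [PerfectField k]
    (X : AlgSp.Space (Spec (CommRingCat.of k))) (hX : AlgSp.EtaleLocally (fun U => IsReduced U) X.obj) (x : AlgSp.Points X.obj) :
    (∃ (U : Over (Spec (CommRingCat.of k))) (a : (AlgSp.yon (Spec (CommRingCat.of k))).obj U ⟶ X.obj) (u : ↥U.left),
      AlgSp.RepWith @Etale a ∧ AlgSp.Points.ofPt a u = x ∧ FBase.IsGeomReducedAt U.hom u) := by
  exact W1.main k X hX x

end Groth.Agent.S10475
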