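import Groth.Statements.S1548
import Mathlib
import Groth.Agent.Lib.Helper5.FrobRedSch
import Groth.Agent.Lib.Helper5.StalkBCH
import Groth.Agent.Lib.Helper22.GeomRed2
-- import your own Groth.Agent.* helpers here

set_option autoImplicit false
universe u
open CategoryTheory CategoryTheory.Limits AlgebraicGeometry
open Variety

namespace Groth.Agent.S1548

/-- Let k be a field of characteristic p > 0. If the base change X_{k'} is reduced whenever k' is a
finite purely inseparable extension of k, then X is geometrically reduced over k. -/
theorem result (k : Type u) [Field k] (p : ℕ) [Fact p.Prime] [CharP k p]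
    (X : Scheme.{u}) [X.Over (Spec (CommRingCat.of k))]
    (h : ∀ (k' : Type u) [Field k'] [Algebra k k'] [FiniteDimensional k k'] [IsPurelyInseparable k k'], IsReduced (Curv2.bc k X k')) :
    GeometricallyReduced (X ↘ (Spec (CommRingCat.of k))) := by
  have hall : ∀ x : X, Curv2.IsGeomReducedAt k X x := by
    intro x
    letI := Curv2.stalkAlgebra k X x
    rw [Groth.Agent.Lib.Helper5.StalkBC.isGeomReducedAt_iff]
    apply Groth.Agent.Lib.Helper22.GeomRed2.isGeometricallyReduced_of_forall_purelyInseparable
    intro k' _ _ _ _
    haveI := h k'
    have h1 : _root_.IsReduced (TensorProduct k (X.presheaf.stalk x) k') :=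
      Groth.Agent.Lib.Helper5.StalkBC.reduced_tensor_of_reduced_points k X k' x
        (fun x' _ => inferInstance)
    exact isReduced_of_injective (Algebra.TensorProduct.comm k k' (X.presheaf.stalk x))
      (Algebra.TensorProduct.comm k k' (X.presheaf.stalk x)).injective
  rw [GeometricallyReduced.eq_geometrically,
    geometrically_iff_of_commRing_of_isClosedUnderIsomorphisms]
  intro K _ _
  exact Groth.Agent.Lib.Helper5.FrobRed.isReduced_bc_of_forall_geomReducedAt k X hall K

end Groth.Agent.S1548
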