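import Groth.Statements.S10479
import Groth.Agent.Lib.Helper15.GeomRedBC2
-- import your own Groth.Agent.* helpers here

set_option autoImplicit false
universe u
open CategoryTheory CategoryTheory.Limits AlgebraicGeometry Topology TopologicalSpace
open AlgSp

namespace Groth.Agent.S10479

section H
set_option backward.isDefEq.respectTransparency.types false
namespace W1
open Groth.Agent.Lib.Helper3 Groth.Agent.Lib.Helper15.GeomRedSp Groth.Agent.Lib.Helper15.GeomRedBC
  Groth.Agent.Lib.Helper15.ProdChart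

theorem main (k : Type u) [Field k] (X : AlgSp.Space (Spec (CommRingCat.of k))) (K : Type u) [Field K] [Algebra k K]
    (x : AlgSp.Points X.obj) (x' : AlgSp.Points (X.obj ⨯ (AlgSp.yon (Spec (CommRingCat.of k))).obj (Over.mk (Spec.map (CommRingCat.ofHom (algebraMap k K))))))
    (hx' : AlgSp.Points.map (Limits.prod.fst : (X.obj ⨯ (AlgSp.yon (Spec (CommRingCat.of k))).obj (Over.mk (Spec.map (CommRingCat.ofHom (algebraMap k K))))) ⟶ X.obj) x' = x) :
    (∃ (U : Over (Spec (CommRingCat.of k))) (a : (AlgSp.yon (Spec (CommRingCat.of k))).obj U ⟶ X.obj) (u : ↥U.left),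
      AlgSp.RepWith @Etale a ∧ AlgSp.Points.ofPt a u = x ∧ FBase.IsGeomReducedAt U.hom u) ↔
      ∃ (U' : Over (Spec (CommRingCat.of k))) (a' : (AlgSp.yon (Spec (CommRingCat.of k))).obj U' ⟶ (X.obj ⨯ (AlgSp.yon (Spec (CommRingCat.of k))).obj (Over.mk (Spec.map (CommRingCat.ofHom (algebraMap k K))))))
        (q : U' ⟶ Over.mk (Spec.map (CommRingCat.ofHom (algebraMap k K)))) (u' : ↥U'.left),
        AlgSp.RepWith @Etale a' ∧ a' ≫ Limits.prod.snd = (AlgSp.yon (Spec (CommRingCat.of k))).map q ∧
          AlgSp.Points.ofPt a' u' = x' ∧ FBase.IsGeomReducedAt q.left u' := by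
  constructor
  · rintro ⟨U, a, u, ha, hu, hred⟩
    obtain ⟨u', hu'1, hu'2⟩ := exists_pt_prodChart a (TK k K) u x' (hx'.trans hu.symm)
    refine ⟨U ⨯ TK k K, prodChart a (TK k K), prod.snd, u', prodChart_etale a _ ha,
      prodChart_snd a _, hu'1, ?_⟩
    rw [← hu'2] at hred
    exact (bc_iff U u').1 hred
  · rintro ⟨U', a', q, u', ha', hq, hu', hred⟩
    obtain ⟨U, a, u, -, ha, hu⟩ := exists_affine_chart_through X.property x
    obtain ⟨u'', hu''1, hu''2⟩ := exists_pt_prodChart a (TK k K) u x' (hx'.trans hu.symm)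
    refine ⟨U, a, u, ha, hu, ?_⟩
    rw [← hu''2]
    refine (bc_iff U u'').2 ?_
    refine (chart_iff' a' (prodChart a (TK k K)) ha' (prodChart_etale a _ ha) u' u''
      (hu'.trans hu''1.symm) q.left (prod.snd : U ⨯ TK k K ⟶ TK k K).left ?_).1 hred
    intro W pU pV hw
    rw [← Over.comp_left, ← Over.comp_left]
    congr 1
    apply (yon _).map_injective
    rw [Functor.map_comp, Functor.map_comp, ← hq, ← prodChart_snd a (TK k K), ← Category.assoc,
      ← Category.assoc, hw]

end W1
end H


/-- Let k be a field, X an algebraic space over k, K/k a field extension, x a point of X and x' a point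
of X_K lying over x. Then X is geometrically reduced at x (over k) if and only if X_K is
geometrically reduced at x' (over K). -/
theorem result (k : Type u) [Field k] (X : AlgSp.Space (Spec (CommRingCat.of k))) (K : Type u) [Field K] [Algebra k K]
    (x : AlgSp.Points X.obj) (x' : AlgSp.Points (X.obj ⨯ (AlgSp.yon (Spec (CommRingCat.of k))).obj (Over.mk (Spec.map (CommRingCat.ofHom (algebraMap k K))))))
    (hx' : AlgSp.Points.map (Limits.prod.fst : (X.obj ⨯ (AlgSp.yon (Spec (CommRingCat.of k))).obj (Over.mk (Spec.map (CommRingCat.ofHom (algebraMap k K))))) ⟶ X.obj) x' = x) :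
    (∃ (U : Over (Spec (CommRingCat.of k))) (a : (AlgSp.yon (Spec (CommRingCat.of k))).obj U ⟶ X.obj) (u : ↥U.left),
      AlgSp.RepWith @Etale a ∧ AlgSp.Points.ofPt a u = x ∧ FBase.IsGeomReducedAt U.hom u) ↔
      ∃ (U' : Over (Spec (CommRingCat.of k))) (a' : (AlgSp.yon (Spec (CommRingCat.of k))).obj U' ⟶ (X.obj ⨯ (AlgSp.yon (Spec (CommRingCat.of k))).obj (Over.mk (Spec.map (CommRingCat.ofHom (algebraMap k K))))))
        (q : U' ⟶ Over.mk (Spec.map (CommRingCat.ofHom (algebraMap k K)))) (u' : ↥U'.left),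
        AlgSp.RepWith @Etale a' ∧ a' ≫ Limits.prod.snd = (AlgSp.yon (Spec (CommRingCat.of k))).map q ∧
          AlgSp.Points.ofPt a' u' = x' ∧ FBase.IsGeomReducedAt q.left u' := by
  exact W1.main k X K x x' hx'

end Groth.Agent.S10479
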