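import Groth.Statements.S10481
import Groth.Agent.Lib.Helper15.GeomRedSp
import Groth.Agent.Lib.Helper3.AlgSpResTrdeg
-- import your own Groth.Agent.* helpers here

set_option autoImplicit false
universe u
open CategoryTheory CategoryTheory.Limits AlgebraicGeometry Topology TopologicalSpace
open AlgSp

namespace Groth.Agent.S10481

section H
set_option backward.isDefEq.respectTransparency.types false
namespace W1
open Groth.Agent.Lib.Helper3 Groth.Agent.Lib.Helper15.GeomRedSp Groth.Agent.Lib.Helper15.GeomRedEt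

/-- scheme-level: if `h` is etale on an open neighbourhood of `u`, geometric reducedness at `u`
and at `h u` agree. -/
theorem scheme_iff {k : Type u} [Field k] {U V : Over (Spec (CommRingCat.of k))} (h : U ⟶ V)
    (u : ↥U.left) (W : U.left.Opens) (hu : u ∈ W) (hW : Etale (W.ι ≫ h.left)) :
    FBase.IsGeomReducedAt U.hom u ↔ FBase.IsGeomReducedAt V.hom (h.left u) := by
  have h1 := isGeomReducedAt_comp_iff U.hom W.ι ⟨u, hu⟩
  have h2 := isGeomReducedAt_comp_iff V.hom (W.ι ≫ h.left) ⟨u, hu⟩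
  have e : (W.ι ≫ h.left) ≫ V.hom = W.ι ≫ U.hom := by rw [Category.assoc, Over.w h]
  rw [e] at h2
  have e1 : W.ι ⟨u, hu⟩ = u := rfl
  have e2 : (W.ι ≫ h.left) ⟨u, hu⟩ = h.left u := rfl
  rw [e1] at h1
  rw [e2] at h2
  exact h1.symm.trans h2

theorem main (k : Type u) [Field k] {X Y : AlgSp.Space (Spec (CommRingCat.of k))} (f : X ⟶ Y)
    (x : AlgSp.Points X.obj)
    (he : AlgSp.HasAtMor (fun U _ h u => ∃ W : U.Opens, u ∈ W ∧ Etale (W.ι ≫ h)) f.hom x) :
    (∃ (U : Over (Spec (CommRingCat.of k))) (a : (AlgSp.yon (Spec (CommRingCat.of k))).obj U ⟶ X.obj) (u : ↥U.left),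
      AlgSp.RepWith @Etale a ∧ AlgSp.Points.ofPt a u = x ∧ FBase.IsGeomReducedAt U.hom u) ↔ (∃ (U : Over (Spec (CommRingCat.of k))) (a : (AlgSp.yon (Spec (CommRingCat.of k))).obj U ⟶ Y.obj) (u : ↥U.left),
      AlgSp.RepWith @Etale a ∧ AlgSp.Points.ofPt a u = (AlgSp.Points.map f.hom x) ∧ FBase.IsGeomReducedAt U.hom u) := by
  obtain ⟨U, V, a, b, h, u, ha, hb, w, hux, W, huW, hW⟩ := he
  have hv : Points.ofPt b (h.left u) = Points.map f.hom x := by
    rw [ofPt_map_of_comm f.hom a b h w u, hux]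
  have key := scheme_iff h u W huW hW
  constructor
  · rintro ⟨U', a', u', ha', hu', hred⟩
    refine ⟨V, b, h.left u, hb, hv, key.1 ?_⟩
    exact (chart_iff a' a ha' ha u' u (hu'.trans hux.symm)).1 hred
  · rintro ⟨V', b', v', hb', hv', hred⟩
    refine ⟨U, a, u, ha, hux, key.2 ?_⟩
    exact (chart_iff b' b hb' hb v' (h.left u) (hv'.trans hv.symm)).1 hred

end W1
end H


/-- Let k be a field, f : X ⟶ Y a morphism of algebraic spaces over k and x a point of X at which f is
etale. Then X is geometrically reduced at x if and only if Y is geometrically reduced at the image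
of x. -/
theorem result (k : Type u) [Field k] {X Y : AlgSp.Space (Spec (CommRingCat.of k))} (f : X ⟶ Y)
    (x : AlgSp.Points X.obj)
    (he : AlgSp.HasAtMor (fun U _ h u => ∃ W : U.Opens, u ∈ W ∧ Etale (W.ι ≫ h)) f.hom x) :
    (∃ (U : Over (Spec (CommRingCat.of k))) (a : (AlgSp.yon (Spec (CommRingCat.of k))).obj U ⟶ X.obj) (u : ↥U.left),
      AlgSp.RepWith @Etale a ∧ AlgSp.Points.ofPt a u = x ∧ FBase.IsGeomReducedAt U.hom u) ↔ (∃ (U : Over (Spec (CommRingCat.of k))) (a : (AlgSp.yon (Spec (CommRingCat.of k))).obj U ⟶ Y.obj) (u : ↥U.left),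
      AlgSp.RepWith @Etale a ∧ AlgSp.Points.ofPt a u = (AlgSp.Points.map f.hom x) ∧ FBase.IsGeomReducedAt U.hom u) := by
  exact W1.main k f x he

end Groth.Agent.S10481
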