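import Groth.Statements.S10489
import Groth.Agent.S1535
import Groth.Agent.Lib.Helper3.AlgSpLocP4
-- import your own Groth.Agent.* helpers here

set_option autoImplicit false
universe u
open CategoryTheory CategoryTheory.Limits AlgebraicGeometry Topology TopologicalSpace
open AlgSp

namespace Groth.Agent.S10489

section H
namespace W1
open Groth.Agent.Lib.Helper3
set_option backward.isDefEq.respectTransparency.types false

theorem main (k : Type u) [Field k] (X : AlgSp.Space (Spec (CommRingCat.of k)))
    (p : X.obj ⟶ (AlgSp.yon (Spec (CommRingCat.of k))).obj (Over.mk (𝟙 _)))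
    (hp : AlgSp.LocP @Smooth p) :
    AlgSp.EtaleLocally (fun U => IsLocallyNoetherian U ∧
      ∀ u : ↥U, IsRegularLocalRing ↥(U.presheaf.stalk u)) X.obj := by
  obtain ⟨U, a, hae, has⟩ := X.property.atlas
  refine ⟨U, a, hae, has, ?_⟩
  obtain ⟨m, hm⟩ := (yon _).map_surjective (a ≫ p)
  haveI hsm : Smooth m.left := hp a (𝟙 _) m hae (repWith_id _ _) (by rw [hm, Category.comp_id])
  haveI : IsLocallyNoetherian (Over.mk (𝟙 (Spec (CommRingCat.of k)))).left :=
    inferInstanceAs (IsLocallyNoetherian (Spec (CommRingCat.of k)))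
  haveI : IsLocallyNoetherian U.left := LocallyOfFiniteType.isLocallyNoetherian m.left
  refine ⟨inferInstance, fun u => ?_⟩
  letI : U.left.Over (Spec (CommRingCat.of k)) := ⟨m.left⟩
  haveI : Smooth (U.left ↘ (Spec (CommRingCat.of k))) := hsm
  exact Groth.Agent.S1535.result k U.left u

end W1
end H


/-- Let k be a field and X an algebraic space which is smooth over k. Then X is regular as an algebraic
space. -/
theorem result (k : Type u) [Field k] (X : AlgSp.Space (Spec (CommRingCat.of k))) (p : X.obj ⟶ (AlgSp.yon (Spec (CommRingCat.of k))).obj (Over.mk (𝟙 _))) (hp : AlgSp.LocP @Smooth p) :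
    AlgSp.EtaleLocally (fun U => IsLocallyNoetherian U ∧ ∀ u : ↥U, IsRegularLocalRing ↥(U.presheaf.stalk u)) X.obj := by
  exact W1.main k X p hp

end Groth.Agent.S10489
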