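import Groth.Statements.S10494
import Groth.Agent.S10242
import Groth.Agent.Lib.Helper3.AlgSpEtCommon
import Groth.Agent.Lib.Helper3.AlgSpHasAtMor

set_option autoImplicit false
universe u
open CategoryTheory CategoryTheory.Limits AlgebraicGeometry Topology TopologicalSpace
open AlgSp

namespace Groth.Agent.S10494

/-- Let X be an integral algebraic space over a scheme S. Then Γ(X, O_X) is a domain. -/
theorem result {S : Scheme.{u}} (X : AlgSp.Space S)
    (hX : AlgSp.IsIntegralSp X.obj) : IsDomain ↥(AlgSp.gsectEt (AlgSp.OEt X.obj)) := by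
  obtain ⟨hred, -, hirr⟩ := hX
  have h242 := (Groth.Agent.S10242.result X hred).2
  have key : ∀ f g : ↥(AlgSp.gsectEt (AlgSp.OEt X.obj)), f * g = 0 → f = 0 ∨ g = 0 := by
    intro f g hfg
    by_contra hcon
    push_neg at hcon
    obtain ⟨hf, hg⟩ := hcon
    have hf' : ∃ E : AlgSp.EtOver X.obj,
        E.obj.left.left.basicOpen ((limit.π (AlgSp.OEt X.obj).obj (Opposite.op E)) f).down ≠ ⊥ := by
      by_contra h
      push_neg at h
      exact hf (h242 f h)
    have hg' : ∃ E : AlgSp.EtOver X.obj,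
        E.obj.left.left.basicOpen ((limit.π (AlgSp.OEt X.obj).obj (Opposite.op E)) g).down ≠ ⊥ := by
      by_contra h
      push_neg at h
      exact hg (h242 g h)
    obtain ⟨E, hE⟩ := hf'
    obtain ⟨E', hE'⟩ := hg'
    obtain ⟨e, he⟩ := (TopologicalSpace.Opens.ne_bot_iff_nonempty _).1 hE
    obtain ⟨e', he'⟩ := (TopologicalSpace.Opens.ne_bot_iff_nonempty _).1 hE'
    have hA : IsOpen (Points.ofPt E.obj.hom '' (E.obj.left.left.basicOpen
        ((limit.π (AlgSp.OEt X.obj).obj (Opposite.op E)) f).down : Set ↥E.obj.left.left)) :=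
      Groth.Agent.Lib.Helper3.isOpenMap_ofPt _ E.property _ (E.obj.left.left.basicOpen _).2
    have hB : IsOpen (Points.ofPt E'.obj.hom '' (E'.obj.left.left.basicOpen
        ((limit.π (AlgSp.OEt X.obj).obj (Opposite.op E')) g).down : Set ↥E'.obj.left.left)) :=
      Groth.Agent.Lib.Helper3.isOpenMap_ofPt _ E'.property _ (E'.obj.left.left.basicOpen _).2
    have hpre : PreirreducibleSpace (AlgSp.Points X.obj) := hirr.toPreirreducibleSpace
    obtain ⟨x, ⟨a, ha, rfl⟩, ⟨b, hb, hab⟩⟩ := nonempty_preirreducible_inter hA hB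
      ⟨_, e, he, rfl⟩ ⟨_, e', he', rfl⟩
    obtain ⟨E'', g₁, g₂, w, hw1, hw2⟩ :=
      Groth.Agent.Lib.Helper3.EtOver.exists_common_preimage E E' a b hab.symm
    have h1 : w ∈ E''.obj.left.left.basicOpen
        ((limit.π (AlgSp.OEt X.obj).obj (Opposite.op E'')) f).down := by
      rw [Groth.Agent.Lib.Helper3.mem_basicOpen_gsectEt_iff g₁ f w, hw1]
      exact ha
    have h2 : w ∈ E''.obj.left.left.basicOpen
        ((limit.π (AlgSp.OEt X.obj).obj (Opposite.op E'')) g).down := by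
      rw [Groth.Agent.Lib.Helper3.mem_basicOpen_gsectEt_iff g₂ g w, hw2]
      exact hb
    obtain ⟨f₀, hf₀⟩ : ∃ f₀ : Γ(E''.obj.left.left, ⊤),
        f₀ = ((limit.π (AlgSp.OEt X.obj).obj (Opposite.op E'')) f).down := ⟨_, rfl⟩
    obtain ⟨g₀, hg₀⟩ : ∃ g₀ : Γ(E''.obj.left.left, ⊤),
        g₀ = ((limit.π (AlgSp.OEt X.obj).obj (Opposite.op E'')) g).down := ⟨_, rfl⟩
    have h3 : f₀ * g₀ = 0 := by
      have := congrArg (fun k => ((limit.π (AlgSp.OEt X.obj).obj (Opposite.op E'')) k).down) hfg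
      simp only [map_mul, map_zero] at this
      rw [hf₀, hg₀]
      exact this
    rw [← hf₀] at h1
    rw [← hg₀] at h2
    have h4 : w ∈ E''.obj.left.left.basicOpen (f₀ * g₀) := by
      rw [Scheme.basicOpen_mul]
      exact ⟨h1, h2⟩
    rw [h3, Scheme.basicOpen_zero] at h4
    exact h4
  have hnt : Nontrivial ↥(AlgSp.gsectEt (AlgSp.OEt X.obj)) := by
    refine ⟨⟨1, 0, fun h10 => ?_⟩⟩
    obtain ⟨U, a, hae, has, -⟩ := hred
    obtain ⟨x⟩ := hirr.toNonempty
    obtain ⟨u, -⟩ := Groth.Agent.Lib.Helper3.exists_ofPt_eq a has x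
    let E : AlgSp.EtOver X.obj := AlgSp.EtOver.mk a hae
    have := congrArg (fun k => ((limit.π (AlgSp.OEt X.obj).obj (Opposite.op E)) k).down) h10
    simp only [map_one, map_zero] at this
    have hne : Nonempty ↥(⊤ : U.left.Opens) := ⟨⟨u, trivial⟩⟩
    have hnt' : Nontrivial ↑Γ(E.obj.left.left, ⊤) := (inferInstance : Nontrivial ↑Γ(U.left, ⊤))
    obtain ⟨o, ho⟩ : ∃ o : Γ(E.obj.left.left, ⊤), o = 1 := ⟨_, rfl⟩
    have h0 : o = 0 := by rw [ho]; exact this
    have h1 : (1 : Γ(E.obj.left.left, ⊤)) = 0 := ho ▸ h0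
    exact one_ne_zero h1
  have hnz : NoZeroDivisors ↥(AlgSp.gsectEt (AlgSp.OEt X.obj)) := ⟨fun {f g} h => key f g h⟩
  exact NoZeroDivisors.to_isDomain _

end Groth.Agent.S10494
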