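import Groth.Statements.S10501
import Groth.Agent.Lib.Helper15.ConnBC
-- import your own Groth.Agent.* helpers here

set_option autoImplicit false
universe u
open CategoryTheory CategoryTheory.Limits AlgebraicGeometry Topology TopologicalSpace
open AlgSp

namespace Groth.Agent.S10501

section H
namespace W1
open Groth.Agent.Lib.Helper3 Groth.Agent.Lib.Helper15 Groth.Agent.Lib.Helper15.ConnBC
set_option backward.isDefEq.respectTransparency.types false

theorem connFib_base {k : Type u} [Field k] [IsSepClosed k] (K : Type u) [Field K] [Algebra k K] :
    ConnFib (S := Spec (CommRingCat.of k))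
      (Over.homMk (Spec.map (CommRingCat.ofHom (algebraMap k K))) :
        Over.mk (Spec.map (CommRingCat.ofHom (algebraMap k K))) ⟶ Over.mk (𝟙 _)) :=
  connFib_of_isSepClosed (k := k) (K := K) _ rfl rfl (by simp)

theorem main (k : Type u) [Field k] [IsSepClosed k]
    (X : AlgSp.Space (Spec (CommRingCat.of k))) :
    (∀ (K : Type u) [Field K] [Algebra k K], ConnectedSpace (AlgSp.Points (X.obj ⨯ (AlgSp.yon (Spec (CommRingCat.of k))).obj (Over.mk (Spec.map (CommRingCat.ofHom (algebraMap k K))))))) ↔ ConnectedSpace (AlgSp.Points X.obj) := by
  constructor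
  · intro h
    haveI := h k
    obtain ⟨-, hs, -⟩ := core X.property _ (connFib_base k) _ _ _
      (isPullback_prod_base X.obj (Over.mk (Spec.map (CommRingCat.ofHom (algebraMap k k)))))
    exact hs.connectedSpace (Points.continuous_map _)
  · intro h K _ _
    exact connectedSpace_bc X.property _ (connFib_base K) _ _ _
      (isPullback_prod_base X.obj (Over.mk (Spec.map (CommRingCat.ofHom (algebraMap k K)))))

end W1
end H


/-- Over a separably closed field k, an algebraic space X is geometrically connected if and only if it
is connected. -/
theorem result (k : Type u) [Field k] [IsSepClosed k]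
    (X : AlgSp.Space (Spec (CommRingCat.of k))) :
    (∀ (K : Type u) [Field K] [Algebra k K], ConnectedSpace (AlgSp.Points (X.obj ⨯ (AlgSp.yon (Spec (CommRingCat.of k))).obj (Over.mk (Spec.map (CommRingCat.ofHom (algebraMap k K))))))) ↔ ConnectedSpace (AlgSp.Points X.obj) := by
  exact W1.main k X

end Groth.Agent.S10501
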