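import Groth.Statements.S10502
import Groth.Agent.S10479
-- import your own Groth.Agent.* helpers here

set_option autoImplicit false
universe u
open CategoryTheory CategoryTheory.Limits AlgebraicGeometry Topology TopologicalSpace
open AlgSp

namespace Groth.Agent.S10502

section H
set_option backward.isDefEq.respectTransparency.types false
namespace W1
open Groth.Agent.Lib.Helper3 Groth.Agent.Lib.Helper15.GeomRedSp Groth.Agent.Lib.Helper15.GeomRedBC
  Groth.Agent.Lib.Helper15.ProdChart

theorem surjective_specMap (k : Type u) [Field k] (K : Type u) [Field K] [Algebra k K] :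
    Surjective (Spec.map (CommRingCat.ofHom (algebraMap k K))) := by
  constructor
  intro y
  refine ⟨(⊥ : PrimeSpectrum K), ?_⟩
  exact Subsingleton.elim (α := PrimeSpectrum k) _ _

theorem surjective_prod_fst {k : Type u} [Field k] {K : Type u} [Field K] [Algebra k K]
    (U : Over (Spec (CommRingCat.of k))) :
    Function.Surjective (prod.fst : U ⨯ TK k K ⟶ U).left := by
  haveI := surjective_specMap k K
  have e : (Over.prodLeftIsoPullback U (TK k K)).hom ≫ pullback.fst _ _ =
      (prod.fst : U ⨯ TK k K ⟶ U).left := Over.prodLeftIsoPullback_hom_fst U (TK k K)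
  have h1 : Surjective (pullback.fst U.hom (TK k K).hom) := by
    change Surjective (pullback.fst U.hom (Spec.map (CommRingCat.ofHom (algebraMap k K))))
    infer_instance
  have h2 : Surjective ((Over.prodLeftIsoPullback U (TK k K)).hom ≫ pullback.fst _ _) :=
    inferInstance
  rw [e] at h2
  exact h2.surj

theorem main (k : Type u) [Field k] (X : AlgSp.Space (Spec (CommRingCat.of k))) (K : Type u) [Field K] [Algebra k K] :
    (∀ x : AlgSp.Points X.obj, (∃ (U : Over (Spec (CommRingCat.of k))) (a : (AlgSp.yon (Spec (CommRingCat.of k))).obj U ⟶ X.obj) (u : ↥U.left),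
      AlgSp.RepWith @Etale a ∧ AlgSp.Points.ofPt a u = x ∧ FBase.IsGeomReducedAt U.hom u)) ↔
      ∀ x' : AlgSp.Points (X.obj ⨯ (AlgSp.yon (Spec (CommRingCat.of k))).obj (Over.mk (Spec.map (CommRingCat.ofHom (algebraMap k K))))), (∃ (U' : Over (Spec (CommRingCat.of k))) (a' : (AlgSp.yon (Spec (CommRingCat.of k))).obj U' ⟶ (X.obj ⨯ (AlgSp.yon (Spec (CommRingCat.of k))).obj (Over.mk (Spec.map (CommRingCat.ofHom (algebraMap k K))))))
        (q : U' ⟶ Over.mk (Spec.map (CommRingCat.ofHom (algebraMap k K)))) (u' : ↥U'.left),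
        AlgSp.RepWith @Etale a' ∧ a' ≫ Limits.prod.snd = (AlgSp.yon (Spec (CommRingCat.of k))).map q ∧
          AlgSp.Points.ofPt a' u' = x' ∧ FBase.IsGeomReducedAt q.left u') := by
  constructor
  · intro h x'
    exact (Groth.Agent.S10479.result k X K _ x' rfl).1 (h _)
  · intro h x
    obtain ⟨U, a, u, -, ha, hu⟩ := exists_affine_chart_through X.property x
    obtain ⟨u', hu'⟩ := surjective_prod_fst (K := K) U u
    have hx' : Points.map (prod.fst : X.obj ⨯ (yon _).obj (TK k K) ⟶ X.obj)
        (Points.ofPt (prodChart a (TK k K)) u') = x := by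
      rw [Points.map_ofPt, prodChart_fst, Points.ofPt_yon_map_comp, hu', hu]
    exact (Groth.Agent.S10479.result k X K x _ hx').2 (h _)

end W1
end H


/-- Let k be a field, X an algebraic space over k and K/k a field extension. Then X being geometrically
reduced over k is equivalent to its base change X_K being geometrically reduced over K. -/
theorem result (k : Type u) [Field k] (X : AlgSp.Space (Spec (CommRingCat.of k))) (K : Type u) [Field K] [Algebra k K] :
    (∀ x : AlgSp.Points X.obj, (∃ (U : Over (Spec (CommRingCat.of k))) (a : (AlgSp.yon (Spec (CommRingCat.of k))).obj U ⟶ X.obj) (u : ↥U.left),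
      AlgSp.RepWith @Etale a ∧ AlgSp.Points.ofPt a u = x ∧ FBase.IsGeomReducedAt U.hom u)) ↔
      ∀ x' : AlgSp.Points (X.obj ⨯ (AlgSp.yon (Spec (CommRingCat.of k))).obj (Over.mk (Spec.map (CommRingCat.ofHom (algebraMap k K))))), (∃ (U' : Over (Spec (CommRingCat.of k))) (a' : (AlgSp.yon (Spec (CommRingCat.of k))).obj U' ⟶ (X.obj ⨯ (AlgSp.yon (Spec (CommRingCat.of k))).obj (Over.mk (Spec.map (CommRingCat.ofHom (algebraMap k K))))))
        (q : U' ⟶ Over.mk (Spec.map (CommRingCat.ofHom (algebraMap k K)))) (u' : ↥U'.left),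
        AlgSp.RepWith @Etale a' ∧ a' ≫ Limits.prod.snd = (AlgSp.yon (Spec (CommRingCat.of k))).map q ∧
          AlgSp.Points.ofPt a' u' = x' ∧ FBase.IsGeomReducedAt q.left u') := by
  exact W1.main k X K

end Groth.Agent.S10502
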