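import Groth.Statements.S10507
import Groth.Agent.Lib.Helper3.AlgSpLocBase

set_option autoImplicit false
universe u
open CategoryTheory CategoryTheory.Limits AlgebraicGeometry
open AlgSp

namespace Groth.Agent.S10507

/-- If `{X_i ⟶ X}` is an fpqc covering of the algebraic space `X` by algebraic spaces and each `X_i` has
an fpqc covering `{X_ij ⟶ X_i}` by algebraic spaces, then the composites `X_ij ⟶ X_i ⟶ X`, indexed
by the pairs `(i, j)`, form an fpqc covering of `X`. -/
theorem result {S : Scheme.{u}} (X : AlgSp.Space S) {ι : Type u}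
    (Xi : ι → AlgSp.Space S) (g : ∀ i, Xi i ⟶ X) (κ : ι → Type u) (Xij : ∀ i, κ i → AlgSp.Space S)
    (gij : ∀ i j, Xij i j ⟶ Xi i)
    (h : AlgSp.IsFpqcCover (fun i => (Xi i).obj) (fun i => (g i).hom))
    (hij : ∀ i, AlgSp.IsFpqcCover (fun j => (Xij i j).obj) (fun j => (gij i j).hom)) :
    AlgSp.IsFpqcCover (fun r : Σ i, κ i => (Xij r.1 r.2).obj) (fun r => (gij r.1 r.2 ≫ g r.1).hom) := by
  refine ⟨fun r => Groth.Agent.Lib.Helper3.locP_comp Groth.Agent.Lib.Helper3.isEtLocal_flat (Xij r.1 r.2).property (Xi r.1).property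
    X.property _ _ ((hij r.1).1 r.2) (h.1 r.1), ?_⟩
  intro Z hZ h'
  obtain ⟨m, W, c, hW, hcf, hcs, hl⟩ := h.2 Z hZ h'
  choose i l hl using hl
  have := fun j => (hij (i j)).2 (W j) (hW j) (l j)
  choose n W' c' hW' hcf' hcs' hl' using this
  choose k l' hl' using hl'
  let e := finSigmaFinEquiv (n := n)
  refine ⟨∑ j, n j, fun r => W' (e.symm r).1 (e.symm r).2,
    fun r => c' (e.symm r).1 (e.symm r).2 ≫ c (e.symm r).1, fun r => hW' _ _, fun r => ?_, ?_,
    fun r => ⟨⟨i (e.symm r).1, k _ _⟩, l' _ _, ?_⟩⟩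
  · have := hcf (e.symm r).1
    have := hcf' (e.symm r).1 (e.symm r).2
    rw [Over.comp_left]
    infer_instance
  · intro z
    obtain ⟨j, w, hw⟩ := hcs z
    obtain ⟨j', w', hw'⟩ := hcs' j w
    refine ⟨e ⟨j, j'⟩, ?_⟩
    beta_reduce
    rw [Equiv.symm_apply_apply]
    refine ⟨w', ?_⟩
    rw [Over.comp_left, Scheme.Hom.comp_apply, hw', hw]
  · change l' _ _ ≫ (gij _ _).hom ≫ (g _).hom = _
    rw [← Category.assoc, hl', Category.assoc, hl, Functor.map_comp, Category.assoc]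

end Groth.Agent.S10507
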