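import Groth.Statements.S1051
import Groth.Agent.Lib.Helper8.Postnikov2

set_option autoImplicit false
universe v u
open CategoryTheory
open CohDer

namespace Groth.Agent.S1051

section Aux

open CategoryTheory.Limits CategoryTheory.Pretriangulated Groth.Agent.Lib.Helper8.Postnikov

variable {D : Type u} [Category.{v} D] [Preadditive D] [HasZeroObject D] [HasShift D ℤ]
    [∀ n : ℤ, (shiftFunctor D n).Additive] [Pretriangulated D]
    (X : ChainComplex D ℕ) (n : ℕ)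

/-- The state of the construction at level `k`. -/
structure St (k : ℕ) where
  Y : D
  a : Y ⟶ X.X k
  P : ∀ i : ℕ, i ≤ n → k + 2 < i →
    ∀ ψ : (shiftFunctor D ((i : ℤ) - (k : ℤ) - 2)).obj (X.X i) ⟶ Y, ψ = 0
  J : k + 2 ≤ n → ∀ ψ : X.X (k + 2) ⟶ Y, ψ ≫ a = 0 → ψ = 0
  Lf : k < n → ∃ b : X.X (k + 1) ⟶ Y, b ≫ a = X.d (k + 1) k

/-- One step of the construction. -/
structure Step {k : ℕ} (s : St X n k) where
  b : X.X (k + 1) ⟶ s.Y
  next : St X n (k + 1)
  c : s.Y ⟶ (shiftFunctor D (1 : ℤ)).obj next.Y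
  tri : Triangle.mk next.a b c ∈ distTriang D
  hb : k < n → b ≫ s.a = X.d (k + 1) k

variable (hX : ∀ i j : ℕ, j + 2 < i → i ≤ n →
  ∀ φ : (shiftFunctor D ((i : ℤ) - j - 2)).obj (X.X i) ⟶ X.X j, φ = 0)

include hX in
lemma nonempty_step {k : ℕ} (s : St X n k) : Nonempty (Step X n s) := by
  classical
  obtain ⟨b, hb⟩ : ∃ b : X.X (k + 1) ⟶ s.Y, k < n → b ≫ s.a = X.d (k + 1) k := by
    by_cases h : k < n
    · obtain ⟨b, hb⟩ := s.Lf h
      exact ⟨b, fun _ => hb⟩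
    · exact ⟨0, fun h' => absurd h' h⟩
  obtain ⟨Y', a', c', hT⟩ := distinguished_cocone_triangle₁ b
  refine ⟨⟨b, ⟨Y', a', ?_, ?_, ?_⟩, c', hT, hb⟩⟩
  · intro i hi hki
    refine homZero_of_triangle a' b c' hT (X.X i) _ ((i : ℤ) - (k : ℤ) - 2) (by push_cast; ring)
      ?_ (s.P i hi (by omega))
    exact hX i (k + 1) (by omega) hi
  · intro hk ψ hψ
    refine inj_of_homZero a' b c' hT _ ?_ ψ hψ
    exact homZero_congr (by push_cast; ring) (s.P (k + 1 + 2) hk (by omega))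
  · intro hk
    have hk' : k < n := by omega
    have hz : X.d (k + 1 + 1) (k + 1) ≫ b = 0 := by
      apply s.J (by omega)
      rw [Category.assoc, hb hk', X.d_comp_d]
    obtain ⟨b', hb'⟩ := Triangle.coyoneda_exact₂ _ hT (X.d (k + 1 + 1) (k + 1)) hz
    exact ⟨b', hb'.symm⟩

/-- The initial state. -/
def st0 : St X n 0 where
  Y := X.X 0
  a := 𝟙 _
  P := fun i hi h0 => hX i 0 h0 hi
  J := fun _ ψ hψ => by rwa [Category.comp_id] at hψ
  Lf := fun _ => ⟨X.d 1 0, Category.comp_id _⟩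

noncomputable def step {k : ℕ} (s : St X n k) : Step X n s := (nonempty_step X n hX s).some

noncomputable def st : ∀ k, St X n k
  | 0 => st0 X n hX
  | (k + 1) => (step X n hX (st k)).next

include hX in
theorem aux :
    ∃ (Y : ℕ → D) (a : ∀ k, Y k ⟶ X.X k) (b : ∀ k, X.X (k + 1) ⟶ Y k) (c : ∀ k, Y k ⟶ (shiftFunctor D (1 : ℤ)).obj (Y (k + 1))),
      IsIso (a 0) ∧ ∀ k, k < n → Triangle.mk (a (k + 1)) (b k) (c k) ∈ distinguishedTriangles ∧ b k ≫ a k = X.d (k + 1) k := by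
  refine ⟨fun k => (st X n hX k).Y, fun k => (st X n hX k).a, fun k => (step X n hX (st X n hX k)).b,
    fun k => (step X n hX (st X n hX k)).c, ?_, ?_⟩
  · change IsIso (𝟙 (X.X 0))
    infer_instance
  · intro k hk
    exact ⟨(step X n hX (st X n hX k)).tri, (step X n hX (st X n hX k)).hb hk⟩

end Aux

open CategoryTheory.Pretriangulated in
/-- Let X be a chain complex in a triangulated category D and n a natural number; consider the finite
complex Xₙ → Xₙ₋₁ → … → X₀. If every morphism Xᵢ[i - j - 2] ⟶ Xⱼ with j + 2 < i ≤ n vanishes, then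
there is a Postnikov system for it: objects Yₖ (k ≤ n), an isomorphism Y₀ ⟶ X₀, and for each k < n a
distinguished triangle Yₖ₊₁ ⟶ Xₖ₊₁ ⟶ Yₖ ⟶ Yₖ₊₁[1] such that Xₖ₊₁ ⟶ Yₖ ⟶ Xₖ is the differential of X. -/
theorem result {D : Type u} [Category.{v} D] [Preadditive D] [Limits.HasZeroObject D] [HasShift D ℤ]
    [∀ n : ℤ, (shiftFunctor D n).Additive] [Pretriangulated D] [IsTriangulated D]
    (X : ChainComplex D ℕ) (n : ℕ)
    (hX : ∀ i j : ℕ, j + 2 < i → i ≤ n → ∀ φ : (shiftFunctor D ((i : ℤ) - j - 2)).obj (X.X i) ⟶ X.X j, φ = 0) :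
    ∃ (Y : ℕ → D) (a : ∀ k, Y k ⟶ X.X k) (b : ∀ k, X.X (k + 1) ⟶ Y k) (c : ∀ k, Y k ⟶ (shiftFunctor D (1 : ℤ)).obj (Y (k + 1))),
      IsIso (a 0) ∧ ∀ k, k < n → Triangle.mk (a (k + 1)) (b k) (c k) ∈ distinguishedTriangles ∧ b k ≫ a k = X.d (k + 1) k := by
  exact aux X n hX

end Groth.Agent.S1051
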