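import Groth.Statements.S10510
import Groth.Agent.Lib.Helper3.AlgSpFppfRefine
import Groth.Agent.Lib.Helper3.SpCoprod

set_option autoImplicit false
universe u
open CategoryTheory CategoryTheory.Limits AlgebraicGeometry
open AlgSp

namespace Groth.Agent.S10510

/-- An fppf covering `{X_i ⟶ X}` of an algebraic space `X` over `S` by algebraic spaces is jointly
surjective as a family of maps of fppf sheaves: every `h_T ⟶ X` from a scheme `T` over `S` lifts,
locally for the fppf topology on `T`, through members of the family. -/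
theorem result {S : Scheme.{u}} (X : AlgSp.Space S) {ι : Type u}
    (Xi : ι → AlgSp.Space S) (g : ∀ i, Xi i ⟶ X)
    (h : AlgSp.IsFppfCover (fun i => (Xi i).obj) (fun i => (g i).hom))
    (T : Over S) (t : (AlgSp.yon S).obj T ⟶ X.obj) :
    ∃ (κ : Type u) (Tk : κ → Over S) (c : ∀ k, Tk k ⟶ T),
      Sieve.ofArrows Tk c ∈ AlgSp.J S T ∧
      ∀ k, ∃ (i : ι) (l : (AlgSp.yon S).obj (Tk k) ⟶ (Xi i).obj), l ≫ (g i).hom = (AlgSp.yon S).map (c k) ≫ t := by
  classical
  have key := fun (a : T.left.affineOpens) =>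
    Groth.Agent.Lib.Helper3.exists_fppf_refinement_of_isFppfCover X.property
      (fun i => (Xi i).obj) (fun i => (g i).hom) (fun i => (Xi i).property) h
      (Over.mk (a.1.ι ≫ T.hom)) a.2
      ((AlgSp.yon S).map (Over.homMk a.1.ι rfl : Over.mk (a.1.ι ≫ T.hom) ⟶ T) ≫ t)
  choose m W c hWa hcf hcp hcs hl using key
  refine ⟨Σ a : T.left.affineOpens, ULift.{u} (Fin (m a)), fun k => W k.1 k.2.down,
    fun k => c k.1 k.2.down ≫ (Over.homMk k.1.1.ι rfl : Over.mk (k.1.1.ι ≫ T.hom) ⟶ T), ?_, ?_⟩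
  · apply Groth.Agent.Lib.Helper3.generate_ofArrows_mem_J_of_fppf
    · intro k
      have := hcf k.1 k.2.down
      rw [Over.comp_left]
      exact inferInstanceAs (Flat ((c k.1 k.2.down).left ≫ k.1.1.ι))
    · intro k
      have := hcp k.1 k.2.down
      rw [Over.comp_left]
      exact inferInstanceAs (LocallyOfFinitePresentation ((c k.1 k.2.down).left ≫ k.1.1.ι))
    · intro x
      obtain ⟨N, hN, hxN⟩ := exists_isAffineOpen_mem_and_subset (x := x) (U := ⊤) trivial
      obtain ⟨j, y, hy⟩ := hcs ⟨N, hN⟩ ⟨x, hxN.1⟩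
      refine ⟨⟨⟨N, hN⟩, ⟨j⟩⟩, y, ?_⟩
      rw [Over.comp_left]
      change N.ι ((c ⟨N, hN⟩ j).left y) = x
      rw [hy]
      rfl
  · intro k
    obtain ⟨i, l, hl⟩ := hl k.1 k.2.down
    exact ⟨i, l, by rw [hl, CategoryTheory.Functor.map_comp, Category.assoc]⟩

end Groth.Agent.S10510
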