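import Groth.Statements.S10511
import Groth.Agent.Lib.Helper15.WPInd
import Groth.Agent.Lib.Helper15.FieldBase
import Groth.Agent.Lib.Helper3.AlgSpLocP3
import Groth.Agent.Lib.Helper3.AlgSpLocP4
import Groth.Agent.Lib.Helper3.AlgSpChartPts
import Groth.Agent.Lib.Helper3.AlgSpDiag
import Groth.Agent.Lib.Helper3.AlgSpHasAtMor
-- import your own Groth.Agent.* helpers here

set_option autoImplicit false
universe u
open CategoryTheory CategoryTheory.Limits AlgebraicGeometry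
open AlgSp

namespace Groth.Agent.S10511

section H
namespace W1

open Groth.Agent.Lib.Helper3 Groth.Agent.Lib.Helper15 Groth.Agent.Lib.Helper15.WPInd
  Groth.Agent.Lib.Helper15.FieldBase

variable {S : Scheme.{u}}

/-- objects over `W ≅ h_T` isomorphic to open subschemes of `T` with property `Pr`. -/
def QOpen (Pr : Scheme.{u} → Prop) {W : Sp S} {T : Over S} (e : W ≅ (yon S).obj T) :
    ∀ ⦃W' : Sp S⦄, (W' ⟶ W) → Prop :=
  fun W' b => ∃ (T' : Over S) (j : T' ⟶ T) (e' : W' ≅ (yon S).obj T'),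
    IsOpenImmersion j.left ∧ Pr T'.left ∧ b ≫ e.hom = e'.hom ≫ (yon S).map j

theorem qOpen_iso (Pr : Scheme.{u} → Prop) {W : Sp S} {T : Over S} (e : W ≅ (yon S).obj T)
    ⦃W₁ W₂ : Sp S⦄ (e₀ : W₁ ≅ W₂) (a : W₂ ⟶ W) (h : QOpen Pr e a) : QOpen Pr e (e₀.hom ≫ a) := by
  obtain ⟨T', j, e', h1, h2, h3⟩ := h
  exact ⟨T', j, e₀ ≪≫ e', h1, h2, by rw [Category.assoc, h3, Iso.trans_hom, Category.assoc]⟩

theorem qOpen_pb (Pr : Scheme.{u} → Prop) {W : Sp S} {T : Over S} (e : W ≅ (yon S).obj T)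
    (hpb : ∀ (T₁ T₂ : Over S) (j₁ : T₁ ⟶ T) (j₂ : T₂ ⟶ T), IsOpenImmersion j₁.left →
      IsOpenImmersion j₂.left → Pr T₁.left → Pr T₂.left → Pr (pullback j₁ j₂).left)
    ⦃W₁ W₂ P' : Sp S⦄ (a : W₁ ⟶ W) (b : W₂ ⟶ W) (fst : P' ⟶ W₁) (snd : P' ⟶ W₂)
    (sq : IsPullback fst snd a b) (ha : QOpen Pr e a) (hb : QOpen Pr e b) :
    QOpen Pr e (fst ≫ a) := by
  obtain ⟨T₁, j₁, e₁, ho₁, hp₁, hc₁⟩ := ha
  obtain ⟨T₂, j₂, e₂, ho₂, hp₂, hc₂⟩ := hb
  have sq0 : IsPullback (pullback.fst j₁ j₂) (pullback.snd j₁ j₂) j₁ j₂ :=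
    IsPullback.of_hasPullback j₁ j₂
  have sq' := sq0.map (yon S)
  have sq'' : IsPullback (fst ≫ e₁.hom) (snd ≫ e₂.hom) ((yon S).map j₁) ((yon S).map j₂) :=
    IsPullback.of_iso sq (Iso.refl _) e₁ e₂ e (by simp) (by simp) hc₁ hc₂
  let e₃ : P' ≅ (yon S).obj (pullback j₁ j₂) := sq''.isoIsPullback _ _ sq'
  have he₃ : e₃.hom ≫ (yon S).map (pullback.fst j₁ j₂) = fst ≫ e₁.hom :=
    IsPullback.isoIsPullback_hom_fst _ _ sq'' sq'
  have sqS := sq0.map (Over.forget S)
  haveI : IsOpenImmersion j₁.left := ho₁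
  haveI : IsOpenImmersion j₂.left := ho₂
  haveI : IsOpenImmersion (pullback.fst j₁ j₂).left :=
    MorphismProperty.of_isPullback (P := @IsOpenImmersion) sqS.flip ho₂
  refine ⟨pullback j₁ j₂, pullback.fst j₁ j₂ ≫ j₁, e₃, ?_, hpb _ _ _ _ ho₁ ho₂ hp₁ hp₂, ?_⟩
  · rw [Over.comp_left]; infer_instance
  · rw [Category.assoc, hc₁, Functor.map_comp, ← Category.assoc, ← Category.assoc, he₃]


theorem locP_of_openImm {W : Sp S} {T' T : Over S} (j : T' ⟶ T) [IsOpenImmersion j.left]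
    (i : (yon S).obj T ⟶ W) [IsIso i] :
    LocP @Flat ((yon S).map j ≫ i) ∧ LocP @LocallyOfFinitePresentation ((yon S).map j ≫ i) := by
  have h0 : RepWith @IsOpenImmersion ((yon S).map j) := by
    rw [repWith_yon_map_iff]; infer_instance
  have h1 : RepWith @Flat ((yon S).map j) := repWith_mono
    (fun _ _ f hf => by haveI : IsOpenImmersion f := hf; infer_instance) h0
  have h2 : RepWith @LocallyOfFinitePresentation ((yon S).map j) := repWith_mono
    (fun _ _ f hf => by haveI : IsOpenImmersion f := hf; infer_instance) h0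
  exact ⟨locP_comp_iso i (locP_of_repWith isEtLocal_flat _ h1),
    locP_comp_iso i (locP_of_repWith isEtLocal_locallyOfFinitePresentation _ h2)⟩

section step
variable (X : AlgSp.Space S) (P : ∀ ⦃U : AlgSp.Sp S⦄, (U ⟶ X.obj) → Prop)
    (hP : ∀ ⦃U : AlgSp.Sp S⦄ (a : U ⟶ X.obj), AlgSp.IsAlgSpace U →
      ∀ ⦃ι : Type u⦄ (Ui : ι → AlgSp.Sp S) (g : ∀ i, Ui i ⟶ U), (∀ i, AlgSp.IsAlgSpace (Ui i)) →
      AlgSp.IsFppfCover Ui g →
      (∀ (n : ℕ) (c : Fin (n + 1) → ι),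
        P (WidePullback.base (fun k : Fin (n + 1) => g (c k)) ≫ a)) → P a)
include hP

theorem step (Pr : Scheme.{u} → Prop) (haffine : ∀ T : Scheme.{u}, IsAffine T → Pr T)
    (T : Over S)
    (hpb : ∀ (T₁ T₂ : Over S) (j₁ : T₁ ⟶ T) (j₂ : T₂ ⟶ T), IsOpenImmersion j₁.left →
      IsOpenImmersion j₂.left → Pr T₁.left → Pr T₂.left → Pr (pullback j₁ j₂).left)
    (h1 : ∀ (T' : Over S) (W' : Sp S) (e' : W' ≅ (yon S).obj T') (a' : W' ⟶ X.obj), Pr T'.left →
      LocP @Flat a' → LocP @LocallyOfFinitePresentation a' → P a')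
    (W : Sp S) (e : W ≅ (yon S).obj T) (a : W ⟶ X.obj) (hfl : LocP @Flat a)
    (hfp : LocP @LocallyOfFinitePresentation a) : P a := by
  have hW : IsAlgSpace W := IsAlgSpace.of_iso (IsAlgSpace.yon_obj T) e.symm
  let ι : Type u := T.left.affineOpens
  let Ti : ι → Over S := fun i => Over.mk (i.1.ι ≫ T.hom)
  let ji : ∀ i, Ti i ⟶ T := fun i => Over.homMk i.1.ι rfl
  let g : ∀ i, (yon S).obj (Ti i) ⟶ W := fun i => (yon S).map (ji i) ≫ e.inv
  haveI hjo : ∀ i, IsOpenImmersion (ji i).left := fun i => by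
    change IsOpenImmersion i.1.ι; infer_instance
  refine hP a hW (fun i => (yon S).obj (Ti i)) g (fun i => IsAlgSpace.yon_obj _)
    ⟨fun i => locP_of_openImm (ji i) e.inv, ?_⟩ ?_
  · intro x
    set y := Points.map e.hom x with hy
    set t := Points.toScheme T y with ht
    obtain ⟨O, hO, htO⟩ : ∃ O : T.left.Opens, IsAffineOpen O ∧ t ∈ O := by
      obtain ⟨_, ⟨O, hO, rfl⟩, htO, -⟩ := (T.left.isBasis_affineOpens).exists_subset_of_mem_open
        (Set.mem_univ t) isOpen_univ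
      exact ⟨O, hO, htO⟩
    refine ⟨⟨O, hO⟩, Points.ofScheme (Ti ⟨O, hO⟩) ⟨t, htO⟩, ?_⟩
    change Points.map ((yon S).map (ji ⟨O, hO⟩) ≫ e.inv) _ = x
    rw [Points.map_comp]
    have h2 := Points.map_yon_map_apply (ji ⟨O, hO⟩) ⟨t, htO⟩
    change Points.map ((yon S).map (ji ⟨O, hO⟩)) (Points.ofScheme _ _) = Points.ofScheme T t at h2
    rw [h2, ht, Points.ofScheme_toScheme, hy, ← Points.map_comp, e.hom_inv_id, Points.map_id]
  · intro n c
    have hQ := widePullback_induction (QOpen Pr e) (qOpen_iso Pr e) (qOpen_pb Pr e hpb) n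
      (fun k => (yon S).obj (Ti (c k))) (fun k => g (c k))
      (fun k => ⟨Ti (c k), ji (c k), Iso.refl _, hjo _, haffine _ (c k).2, by
        change ((yon S).map (ji (c k)) ≫ e.inv) ≫ e.hom = 𝟙 _ ≫ _
        rw [Category.assoc, e.inv_hom_id, Category.comp_id, Category.id_comp]⟩)
    obtain ⟨T', j, e', ho, hp, hc⟩ := hQ
    haveI : IsOpenImmersion j.left := ho
    have hbase : WidePullback.base (fun k : Fin (n + 1) => g (c k)) =
        e'.hom ≫ ((yon S).map j ≫ e.inv) := by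
      rw [← Category.assoc, ← hc, Category.assoc, e.hom_inv_id, Category.comp_id]
    have hT' : IsAlgSpace ((yon S).obj T') := IsAlgSpace.yon_obj T'
    obtain ⟨ho1, ho2⟩ := locP_of_openImm j e.inv
    apply h1 T' _ e' _ hp
    · rw [hbase, Category.assoc]
      exact locP_iso_comp e'.hom (locP_comp isEtLocal_flat hT' hW X.property _ _ ho1 hfl)
    · rw [hbase, Category.assoc]
      exact locP_iso_comp e'.hom
        (locP_comp isEtLocal_locallyOfFinitePresentation hT' hW X.property _ _ ho2 hfp)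

end step


/-- objects over `X` isomorphic to schemes etale over `X`. -/
def QEt (X : AlgSp.Space S) : ∀ ⦃W' : Sp S⦄, (W' ⟶ X.obj) → Prop :=
  fun W' b => ∃ (T' : Over S) (e' : W' ≅ (yon S).obj T'), RepWith @Etale (e'.inv ≫ b)

theorem qEt_iso (X : AlgSp.Space S) ⦃W₁ W₂ : Sp S⦄ (e₀ : W₁ ≅ W₂) (a : W₂ ⟶ X.obj)
    (h : QEt X a) : QEt X (e₀.hom ≫ a) := by
  obtain ⟨T', e', h1⟩ := h
  refine ⟨T', e₀ ≪≫ e', ?_⟩
  rw [Iso.trans_inv, Category.assoc, Iso.inv_hom_id_assoc]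
  exact h1

theorem qEt_pb (X : AlgSp.Space S) ⦃W₁ W₂ P' : Sp S⦄ (a : W₁ ⟶ X.obj) (b : W₂ ⟶ X.obj)
    (fst : P' ⟶ W₁) (snd : P' ⟶ W₂) (sq : IsPullback fst snd a b) (ha : QEt X a)
    (hb : QEt X b) : QEt X (fst ≫ a) := by
  obtain ⟨T₁, e₁, h₁⟩ := ha
  obtain ⟨T₂, e₂, h₂⟩ := hb
  obtain ⟨R, s, t, sqR⟩ := exists_pullback_charts (e₁.inv ≫ a) h₁.1 (e₂.inv ≫ b)
  have sq'' : IsPullback (fst ≫ e₁.hom) (snd ≫ e₂.hom) (e₁.inv ≫ a) (e₂.inv ≫ b) :=
    IsPullback.of_iso sq (Iso.refl _) e₁ e₂ (Iso.refl _) (by simp) (by simp) (by simp) (by simp)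
  let e₃ : P' ≅ (yon S).obj R := sq''.isoIsPullback _ _ sqR
  have he₃ : e₃.hom ≫ (yon S).map s = fst ≫ e₁.hom :=
    IsPullback.isoIsPullback_hom_fst _ _ sq'' sqR
  have hs : RepWith @Etale ((yon S).map s) :=
    MorphismProperty.of_isPullback (P := RepWith (S := S) @Etale) sqR.flip h₂
  refine ⟨R, e₃, ?_⟩
  have : e₃.inv ≫ fst ≫ a = (yon S).map s ≫ (e₁.inv ≫ a) := by
    rw [Iso.inv_comp_eq, ← Category.assoc, he₃, Category.assoc, Iso.hom_inv_id_assoc]
  rw [this]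
  exact (RepWith (S := S) @Etale).comp_mem _ _ hs h₁

theorem main (X : AlgSp.Space S)
    (P : ∀ ⦃U : AlgSp.Sp S⦄, (U ⟶ X.obj) → Prop)
    (hP : ∀ ⦃U : AlgSp.Sp S⦄ (a : U ⟶ X.obj), AlgSp.IsAlgSpace U →
      ∀ ⦃ι : Type u⦄ (Ui : ι → AlgSp.Sp S) (g : ∀ i, Ui i ⟶ U), (∀ i, AlgSp.IsAlgSpace (Ui i)) →
      AlgSp.IsFppfCover Ui g →
      (∀ (n : ℕ) (c : Fin (n + 1) → ι),
        P (WidePullback.base (fun k : Fin (n + 1) => g (c k)) ≫ a)) → P a)
    (haff : ∀ ⦃U : AlgSp.Sp S⦄ (a : U ⟶ X.obj) (T : Over S) (e : U ≅ (AlgSp.yon S).obj T), IsAffine T.left →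
      AlgSp.LocP @Flat a → AlgSp.LocP @LocallyOfFinitePresentation a → P a) :
    P (𝟙 X.obj) := by
  -- separated schemes
  have claimSep : ∀ (T : Over S) (W : Sp S) (e : W ≅ (yon S).obj T) (a : W ⟶ X.obj),
      T.left.IsSeparated → LocP @Flat a → LocP @LocallyOfFinitePresentation a → P a := by
    intro T W e a hsep hfl hfp
    refine step X P hP (fun T => IsAffine T) (fun _ h => h) T ?_
      (fun T' W' e' a' hT' h1 h2 => haff a' T' e' hT' h1 h2) W e a hfl hfp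
    intro T₁ T₂ j₁ j₂ ho₁ ho₂ hp₁ hp₂
    have sq0 : IsPullback (pullback.fst j₁ j₂) (pullback.snd j₁ j₂) j₁ j₂ :=
      IsPullback.of_hasPullback j₁ j₂
    have sqS := sq0.map (Over.forget S)
    haveI : IsAffine T₁.left := hp₁
    haveI : IsAffine T₂.left := hp₂
    haveI : IsAffineHom j₁.left := by
      haveI : IsAffineHom (j₁.left ≫ terminal.from T.left) := by
        rw [terminal.comp_from]; infer_instance
      exact IsAffineHom.of_comp j₁.left (terminal.from T.left)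
    haveI : IsAffineHom (pullback.snd j₁ j₂).left :=
      MorphismProperty.of_isPullback (P := @IsAffineHom) sqS ‹_›
    exact isAffine_of_isAffineHom (pullback.snd j₁ j₂).left
  -- all schemes
  have claimAll : ∀ (T : Over S) (W : Sp S) (e : W ≅ (yon S).obj T) (a : W ⟶ X.obj),
      LocP @Flat a → LocP @LocallyOfFinitePresentation a → P a := by
    intro T W e a hfl hfp
    refine step X P hP (fun T => T.IsSeparated) (fun _ h => by haveI := h; infer_instance) T ?_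
      claimSep W e a hfl hfp
    intro T₁ T₂ j₁ j₂ ho₁ ho₂ hp₁ hp₂
    have sq0 : IsPullback (pullback.fst j₁ j₂) (pullback.snd j₁ j₂) j₁ j₂ :=
      IsPullback.of_hasPullback j₁ j₂
    have sqS := sq0.map (Over.forget S)
    haveI : T₁.left.IsSeparated := hp₁
    haveI : IsOpenImmersion j₂.left := ho₂
    haveI : IsOpenImmersion (pullback.fst j₁ j₂).left :=
      MorphismProperty.of_isPullback (P := @IsOpenImmersion) sqS.flip ho₂
    refine ⟨?_⟩
    rw [← terminal.comp_from (pullback.fst j₁ j₂).left]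
    infer_instance
  -- the space itself
  obtain ⟨V, p, hpe, hps⟩ := X.property.atlas
  have hpfl : RepWith @Flat p := repWith_mono
    (fun _ _ f hf => by haveI : Etale f := hf; infer_instance) hpe
  have hpfp : RepWith @LocallyOfFinitePresentation p := repWith_mono
    (fun _ _ f hf => by haveI : Etale f := hf; infer_instance) hpe
  refine hP (𝟙 X.obj) X.property (fun _ : PUnit.{u + 1} => (yon S).obj V) (fun _ => p)
    (fun _ => IsAlgSpace.yon_obj V)
    ⟨fun _ => ⟨locP_of_repWith isEtLocal_flat _ hpfl,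
      locP_of_repWith isEtLocal_locallyOfFinitePresentation _ hpfp⟩,
      fun x => ⟨PUnit.unit, surjective_map_of_repWith hps x⟩⟩ ?_
  intro n c
  have hQ := widePullback_induction (QEt X) (qEt_iso X) (qEt_pb X) n
    (fun _ => (yon S).obj V) (fun _ => p)
    (fun _ => ⟨V, Iso.refl _, by rw [Iso.refl_inv, Category.id_comp]; exact hpe⟩)
  obtain ⟨T', e', he'⟩ := hQ
  rw [Category.comp_id]
  have hfl' : RepWith @Flat (e'.inv ≫ WidePullback.base (fun _ : Fin (n + 1) => p)) := repWith_mono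
    (fun _ _ f hf => by haveI : Etale f := hf; infer_instance) he'
  have hfp' : RepWith @LocallyOfFinitePresentation
      (e'.inv ≫ WidePullback.base (fun _ : Fin (n + 1) => p)) := repWith_mono
    (fun _ _ f hf => by haveI : Etale f := hf; infer_instance) he'
  refine claimAll T' _ e' _ ?_ ?_
  · have := locP_iso_comp e'.hom (locP_of_repWith isEtLocal_flat _ hfl')
    rwa [Iso.hom_inv_id_assoc] at this
  · have := locP_iso_comp e'.hom (locP_of_repWith isEtLocal_locallyOfFinitePresentation _ hfp')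
    rwa [Iso.hom_inv_id_assoc] at this

end W1
end H


/-- Let `X` be an algebraic space over `S` and `P` a property of sheaves over `X` such that, for every
algebraic space `U` over `X` and every fppf covering `{U_i ⟶ U}` by algebraic spaces, `P` holds for
`U` as soon as it holds for all the iterated fibre products `U_{i_0} ×_U ⋯ ×_U U_{i_n}` (`n ≥ 0`,
taken in fppf sheaves) over `X`. If `P` holds for every sheaf over `X` that is isomorphic to an
affine scheme and flat and locally of finite presentation over `X`, then `P` holds for `X`. -/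
theorem result {S : Scheme.{u}} (X : AlgSp.Space S)
    (P : ∀ ⦃U : AlgSp.Sp S⦄, (U ⟶ X.obj) → Prop)
    (hP : ∀ ⦃U : AlgSp.Sp S⦄ (a : U ⟶ X.obj), AlgSp.IsAlgSpace U →
      ∀ ⦃ι : Type u⦄ (Ui : ι → AlgSp.Sp S) (g : ∀ i, Ui i ⟶ U), (∀ i, AlgSp.IsAlgSpace (Ui i)) →
      AlgSp.IsFppfCover Ui g →
      (∀ (n : ℕ) (c : Fin (n + 1) → ι),
        P (WidePullback.base (fun k : Fin (n + 1) => g (c k)) ≫ a)) → P a)
    (haff : ∀ ⦃U : AlgSp.Sp S⦄ (a : U ⟶ X.obj) (T : Over S) (e : U ≅ (AlgSp.yon S).obj T), IsAffine T.left →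
      AlgSp.LocP @Flat a → AlgSp.LocP @LocallyOfFinitePresentation a → P a) :
    P (𝟙 X.obj) := by
  exact W1.main X P hP haff

end Groth.Agent.S10511
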