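import Groth.Statements.S10550
import Groth.Agent.Lib.Helper15.AlgSpFppfSrc
-- import your own Groth.Agent.* helpers here

set_option autoImplicit false
universe u
open CategoryTheory CategoryTheory.Limits AlgebraicGeometry
open AlgSp

namespace Groth.Agent.S10550

section H
namespace W1
open Groth.Agent.Lib.Helper3 Groth.Agent.Lib.Helper15 Groth.Agent.Lib.Helper15.AlgSpFppfSrc
set_option backward.isDefEq.respectTransparency.types false

theorem main (S : Scheme.{u}) :
    AlgSp.IsLocalOnSource (AlgSp.IsFppfCover (S := S)) (AlgSp.LocP @LocallyOfFiniteType) := by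
  intro ι X Xi g hX hXi hcov Y f hY
  refine ⟨fun hf i => ?_, fun h => ?_⟩
  · refine locP_comp isEtLocal_locallyOfFiniteType (hXi i) hX hY (g i) f ?_ hf
    intro U V a b k ha hb w
    have := (hcov.1 i).2 a b k ha hb w
    infer_instance
  · exact locP_of_fppf_cover famDesc_lft Xi g hX hXi (fun i => (hcov.1 i).1)
      (fun i => (hcov.1 i).2) hcov.2 f h

end W1
end H


/-- The property of morphisms of algebraic spaces over S given by f is locally of finite type (on etale
charts) is fppf local on the source: for a morphism f : X ⟶ Y of algebraic spaces and a fppf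
covering of X by algebraic spaces X_i, f has the property if and only if every composite X_i ⟶ X ⟶ Y
has it. -/
theorem result (S : Scheme.{u}) :
    AlgSp.IsLocalOnSource (AlgSp.IsFppfCover (S := S)) (AlgSp.LocP @LocallyOfFiniteType) := by
  exact W1.main S

end Groth.Agent.S10550
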