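import Groth.Statements.S10559
-- import your own Groth.Agent.* helpers here
import Groth.Agent.Lib.Helper27.SmLocPSmooth
import Groth.Agent.Lib.Helper3.AlgSpLocSrc


set_option autoImplicit false
universe u
open CategoryTheory CategoryTheory.Limits AlgebraicGeometry
open AlgSp

namespace Groth.Agent.S10559

/-- Let f : X ⟶ Y and q : Y ⟶ B be morphisms of algebraic spaces over S. If f is surjective and smooth
and f ≫ q is smooth, then q is smooth; if f is surjective and etale and f ≫ q is etale, then q is
etale. (The syntomic case of the published statement is not included.) -/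
theorem result {S : Scheme.{u}} {X Y B : AlgSp.Space S} (f : X ⟶ Y) (q : Y ⟶ B)
    (hs : AlgSp.IsSurjectiveMor f.hom) :
    (AlgSp.LocP @Smooth f.hom → AlgSp.LocP @Smooth (f ≫ q).hom → AlgSp.LocP @Smooth q.hom) ∧
    (AlgSp.IsEtaleMor f.hom → AlgSp.IsEtaleMor (f ≫ q).hom → AlgSp.IsEtaleMor q.hom) := by
  constructor
  · intro hf hfq
    have H := Groth.Agent.Lib.Helper27.SmLocP.isLocalOnSource_smooth_locP_smooth (S := S)
      (ι := PUnit.{u+1}) (X := Y.obj) (fun _ => X.obj) (fun _ => f.hom) Y.property
      (fun _ => X.property) ⟨fun _ => hf, fun x => ⟨PUnit.unit, hs x⟩⟩ q.hom B.property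
    exact H.2 (fun _ => hfq)
  · intro hf hfq
    have hcov : AlgSp.IsEtCover (ι := PUnit.{u+1}) (X := Y.obj) (fun _ => X.obj) (fun _ => f.hom) :=
      ⟨fun _ => hf, fun x => ⟨PUnit.unit, hs x⟩⟩
    have H := Groth.Agent.Lib.Helper3.isLocalOnSource_etCover_locP (S := S)
      Groth.Agent.Lib.Helper3.isEtLocal_etale (ι := PUnit.{u+1}) (X := Y.obj) (fun _ => X.obj)
      (fun _ => f.hom) Y.property (fun _ => X.property) hcov q.hom B.property
    rw [Groth.Agent.Lib.Helper3.isEtaleMor_iff_locP_etale Y.property B.property, H]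
    intro _
    exact (Groth.Agent.Lib.Helper3.isEtaleMor_iff_locP_etale X.property B.property).1 hfq

end Groth.Agent.S10559
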