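import Groth.Statements.S10561
import Groth.Agent.Lib.Helper3.ReducedDescent
import Groth.Agent.Lib.Helper3.AlgSpChartSurj

set_option autoImplicit false
universe u
open CategoryTheory CategoryTheory.Limits AlgebraicGeometry
open AlgSp

namespace Groth.Agent.S10561

/-- Let f : X ⟶ Y be a flat and surjective morphism of algebraic spaces over S. If X is reduced then Y
is reduced. -/
theorem result {S : Scheme.{u}} {X Y : AlgSp.Space S} (f : X ⟶ Y)
    (hfl : AlgSp.LocP @Flat f.hom) (hs : AlgSp.IsSurjectiveMor f.hom) (hX : AlgSp.IsReducedSp X.obj) :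
    AlgSp.IsReducedSp Y.obj := by
  open Groth.Agent.Lib.Helper3 in
  obtain ⟨U, a, hae, has, hU⟩ := hX
  obtain ⟨V, b, hbe, hbs⟩ := Y.property.atlas
  obtain ⟨W, c, k, hc, hks, hce, hw⟩ :=
    exists_chart_surjective Y.property f.hom hs a hae has b hbe
  have : IsReduced U.left := hU
  have hWr : IsReduced W.left := isReduced_of_etale_scheme c.left
  have hkfl : Flat k.left := hfl _ _ k hce hbe hw
  exact ⟨V, b, hbe, hbs, isReduced_of_flat_surjective k.left⟩

end Groth.Agent.S10561
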