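import Groth.Statements.S10562
import Groth.Agent.Lib.Helper3.NoethDescent
import Groth.Agent.Lib.Helper3.AlgSpHasAtMor

set_option autoImplicit false
universe u
open CategoryTheory CategoryTheory.Limits AlgebraicGeometry
open AlgSp

namespace Groth.Agent.S10562

/-- Let f : X ⟶ Y be a morphism of algebraic spaces over S which is locally of finite presentation, flat
and surjective. If X is locally Noetherian then Y is locally Noetherian. -/
theorem result {S : Scheme.{u}} {X Y : AlgSp.Space S} (f : X ⟶ Y)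
    (hfp : AlgSp.LocP @LocallyOfFinitePresentation f.hom) (hfl : AlgSp.LocP @Flat f.hom)
    (hs : AlgSp.IsSurjectiveMor f.hom) (hX : AlgSp.IsLocNoethSp X.obj) :
    AlgSp.IsLocNoethSp Y.obj := by
  open Groth.Agent.Lib.Helper3 in
  obtain ⟨U, a, hae, has, hU⟩ := hX
  obtain ⟨V, b, hbe, hbs⟩ := Y.property.atlas
  obtain ⟨W, u, k, hue, hus, hce, hcs, hk, hw⟩ :=
    exists_chart_over (IsAlgSpace.yon_obj U) Y.property (a ≫ f.hom) b hbe
  obtain ⟨c, hc⟩ := (yon S).map_surjective (u ≫ pullback.fst (a ≫ f.hom) b)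
  have hcet : Etale c.left := (repWith_yon_map_iff _ _).1 (hc ▸ hce)
  have : IsLocallyNoetherian U.left := hU
  have hWN : IsLocallyNoetherian W.left := LocallyOfFiniteType.isLocallyNoetherian c.left
  have hae' : RepWith @Etale ((u ≫ pullback.fst (a ≫ f.hom) b) ≫ a) :=
    MorphismProperty.comp_mem _ _ _ hce hae
  have hw' : ((u ≫ pullback.fst (a ≫ f.hom) b) ≫ a) ≫ f.hom = (yon S).map k ≫ b := by
    rw [Category.assoc]; exact hw
  have hkfl : Flat k.left := hfl _ _ k hae' hbe hw'
  have hkfp : LocallyOfFinitePresentation k.left := hfp _ _ k hae' hbe hw'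
  have hks : Surjective k.left := by
    refine ⟨fun v => ?_⟩
    obtain ⟨x, hx⟩ := hs (Points.map b (Points.schemeHomeo V v))
    obtain ⟨u₀, hu₀⟩ := exists_ofPt_eq a has x
    have hu₀' : Points.map a (Points.schemeHomeo U u₀) = x := by
      rw [← hu₀]; exact (Points.ofPt_eq_map_ofScheme a u₀).symm
    obtain ⟨z, hz1, hz2⟩ := Points.exists_of_isPullback
      (IsPullback.of_hasPullback (a ≫ f.hom) b) (Points.schemeHomeo U u₀)
      (Points.schemeHomeo V v) (by rw [Points.map_comp, hu₀', hx])
    obtain ⟨w, hw0⟩ := exists_ofPt_eq u hus z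
    have hw0' : Points.map u (Points.schemeHomeo W w) = z := by
      rw [← hw0]; exact (Points.ofPt_eq_map_ofScheme u w).symm
    refine ⟨w, ?_⟩
    apply (Points.schemeHomeo V).injective
    rw [← Points.map_yon_map_apply, hk, Points.map_comp, hw0', hz2]
  refine ⟨V, b, hbe, hbs, ?_⟩
  exact isLocallyNoetherian_of_flat_lfp_surjective k.left

end Groth.Agent.S10562
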