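import Groth.Statements.S10563
import Groth.Agent.S0065
import Groth.Agent.S0565
import Groth.Agent.S9906
import Groth.Agent.Lib.Helper3.AlgSpNoethChart
import Groth.Agent.Lib.Helper15.AlgSpFibreCrit
-- import your own Groth.Agent.* helpers here

set_option autoImplicit false
universe u
open CategoryTheory CategoryTheory.Limits AlgebraicGeometry
open AlgSp

namespace Groth.Agent.S10563

section H
namespace W1
open Groth.Agent.Lib.Helper3 Groth.Agent.Lib.Helper15
set_option backward.isDefEq.respectTransparency.types false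

variable {S : Scheme.{u}}

theorem main {X Y : AlgSp.Space S} (f : X ⟶ Y)
    (hfp : AlgSp.LocP @LocallyOfFinitePresentation f.hom) (hfl : AlgSp.LocP @Flat f.hom)
    (hs : AlgSp.IsSurjectiveMor f.hom)
    (hX : AlgSp.EtaleLocally (fun U => IsLocallyNoetherian U ∧ ∀ u : ↥U, IsRegularLocalRing ↥(U.presheaf.stalk u)) X.obj) :
    AlgSp.EtaleLocally (fun U => IsLocallyNoetherian U ∧ ∀ u : ↥U, IsRegularLocalRing ↥(U.presheaf.stalk u)) Y.obj := by
  obtain ⟨U₀, p, hpe, hps, hU₀n, hU₀r⟩ := hX
  obtain ⟨V, b, hbe, hbs⟩ := Y.property.atlas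
  refine ⟨V, b, hbe, hbs, ?_⟩
  -- chart of `p ≫ f` over `b`
  obtain ⟨U₁, c, h, -, hcs, hae, -, hh, wh⟩ :=
    exists_chart_over (IsAlgSpace.yon_obj U₀) Y.property (p ≫ f.hom) b hbe
  obtain ⟨e, he⟩ := (yon S).map_surjective (c ≫ pullback.fst (p ≫ f.hom) b)
  have hee : Etale e.left := by
    rw [← repWith_yon_map_iff @Etale e, he]
    exact hae
  have hpe' : RepWith @Etale ((c ≫ pullback.fst (p ≫ f.hom) b) ≫ p) :=
    MorphismProperty.comp_mem _ _ _ hae hpe
  have w' : ((c ≫ pullback.fst (p ≫ f.hom) b) ≫ p) ≫ f.hom = (yon S).map h ≫ b := by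
    rw [Category.assoc, wh]
  haveI hflat : Flat h.left := hfl _ b h hpe' hbe w'
  haveI hlfp : LocallyOfFinitePresentation h.left := hfp _ b h hpe' hbe w'
  -- surjectivity of `h.left`
  have hpsurj : IsSurjectiveMor p := (Groth.Agent.S9906.repWith_surjective_iff p hps.1).1 hps
  haveI hsurj : Surjective h.left := by
    refine ⟨fun v' => ?_⟩
    obtain ⟨x, hx⟩ := hs (Points.ofPt b v')
    obtain ⟨x₀, hx₀⟩ := hpsurj x
    have sq := IsPullback.of_hasPullback (p ≫ f.hom) b
    obtain ⟨q, -, hq2⟩ := Points.exists_of_isPullback sq x₀ (Points.ofScheme V v')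
      (by rw [Points.map_comp, hx₀, hx, Points.map_ofPt, Category.id_comp])
    obtain ⟨u', hu'⟩ := exists_ofPt_eq c hcs q
    refine ⟨u', ?_⟩
    have e1 : Points.ofScheme V (h.left u') = Points.ofScheme V v' := by
      rw [← hq2, ← hu', Points.map_ofPt, ← hh]
      show Points.ofPt (𝟙 _) (h.left u') = _
      rw [← Points.ofPt_yon_map_comp, Category.comp_id]
    have := congrArg (Points.toScheme V) e1
    rwa [Points.toScheme_ofScheme, Points.toScheme_ofScheme] at this
  haveI : IsLocallyNoetherian U₀.left := hU₀n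
  haveI hU₁n : IsLocallyNoetherian U₁.left := LocallyOfFiniteType.isLocallyNoetherian e.left
  haveI hVn : IsLocallyNoetherian V.left := isLocallyNoetherian_of_flat_lfp_surjective h.left
  refine ⟨hVn, fun v => ?_⟩
  obtain ⟨u, rfl⟩ := h.left.surjective v
  haveI hreg : IsRegularLocalRing (U₁.left.presheaf.stalk u) :=
    (Groth.Agent.S0065.result e.left u).2 (hU₀r _)
  letI : Algebra (V.left.presheaf.stalk (h.left u)) (U₁.left.presheaf.stalk u) :=
    (h.left.stalkMap u).hom.toAlgebra
  haveI : IsLocalHom (algebraMap (V.left.presheaf.stalk (h.left u)) (U₁.left.presheaf.stalk u)) :=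
    inferInstanceAs (IsLocalHom (h.left.stalkMap u).hom)
  haveI : Module.Flat (V.left.presheaf.stalk (h.left u)) (U₁.left.presheaf.stalk u) :=
    Flat.stalkMap h.left u
  exact Groth.Agent.S0565.result (V.left.presheaf.stalk (h.left u)) (U₁.left.presheaf.stalk u)

end W1
end H


/-- Let f : X ⟶ Y be a morphism of algebraic spaces over S which is locally of finite presentation, flat
and surjective. If X is regular (etale locally a locally Noetherian scheme all of whose local rings
are regular local rings) then Y is regular. -/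
theorem result {S : Scheme.{u}} {X Y : AlgSp.Space S} (f : X ⟶ Y)
    (hfp : AlgSp.LocP @LocallyOfFinitePresentation f.hom) (hfl : AlgSp.LocP @Flat f.hom)
    (hs : AlgSp.IsSurjectiveMor f.hom)
    (hX : AlgSp.EtaleLocally (fun U => IsLocallyNoetherian U ∧ ∀ u : ↥U, IsRegularLocalRing ↥(U.presheaf.stalk u)) X.obj) :
    AlgSp.EtaleLocally (fun U => IsLocallyNoetherian U ∧ ∀ u : ↥U, IsRegularLocalRing ↥(U.presheaf.stalk u)) Y.obj := by
  exact W1.main f hfp hfl hs hX

end Groth.Agent.S10563
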