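import Groth.Statements.S10564
import Groth.Agent.Lib.Helper3.ReducedSmooth
import Groth.Agent.Lib.Helper3.AlgSpChartSurj

set_option autoImplicit false
universe u
open CategoryTheory CategoryTheory.Limits AlgebraicGeometry
open AlgSp

namespace Groth.Agent.S10564

/-- For a smooth morphism f : X ⟶ Y of algebraic spaces over S, reducedness of Y implies reducedness of
X, and when f is moreover surjective, reducedness of X implies reducedness of Y. -/
theorem result {S : Scheme.{u}} {X Y : AlgSp.Space S} (f : X ⟶ Y) (hf : AlgSp.LocP @Smooth f.hom) :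
    (AlgSp.IsReducedSp Y.obj → AlgSp.IsReducedSp X.obj) ∧
    (AlgSp.IsSurjectiveMor f.hom → AlgSp.IsReducedSp X.obj → AlgSp.IsReducedSp Y.obj) := by
  open Groth.Agent.Lib.Helper3 in
  refine ⟨fun hY => ?_, fun hs hX => ?_⟩
  · obtain ⟨V, b, hbe, hbs, hV⟩ := hY
    obtain ⟨U, u, k, -, -, hae, has, -, hk⟩ :=
      exists_chart_over X.property Y.property f.hom b hbe
    have : Smooth k.left := hf _ _ k hae hbe hk
    have : IsReduced V.left := hV
    exact ⟨U, _, hae, has hbs, isReduced_of_smooth_scheme k.left⟩
  · obtain ⟨U, a, hae, has, hU⟩ := hX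
    obtain ⟨V, b, hbe, hbs⟩ := Y.property.atlas
    obtain ⟨W, c, k, hc, hks, hce, hw⟩ :=
      exists_chart_surjective Y.property f.hom hs a hae has b hbe
    have : IsReduced U.left := hU
    have hWr : IsReduced W.left := isReduced_of_etale_scheme c.left
    have hksm : Smooth k.left := hf _ _ k hce hbe hw
    have hkfl : Flat k.left := inferInstance
    exact ⟨V, b, hbe, hbs, isReduced_of_flat_surjective k.left⟩

end Groth.Agent.S10564
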