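import Groth.Statements.S1057
import Groth.Agent.S0997
import Groth.Agent.Lib.Helper16.AffRed9

set_option autoImplicit false
universe u
open CategoryTheory CategoryTheory.Limits AlgebraicGeometry Opposite
attribute [local instance] HasDerivedCategory.standard
open Perf

namespace Groth.Agent.S1057

/-- For a covering by a single flat, surjective, quasi-compact morphism f : X' ⟶ X: assuming Lf^*
exists, an object E of D(O_X) with quasi-coherent cohomology sheaves is m-pseudo-coherent if and
only if Lf^*E is m-pseudo-coherent. -/
theorem result {X' X : Scheme.{u}} (f : X' ⟶ X) [Flat f] [Surjective f] [QuasiCompact f] [DCoh.HasLpull f] (E : DCoh.D X) (hE : DCoh.IsQCohD E) (m : ℤ) :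
    DCoh.IsPseudoCoherentD m E ↔ DCoh.IsPseudoCoherentD m ((DCoh.Lpull f).obj E) := by
  have hEss : Groth.Agent.Lib.Helper16.AffRed.HEss.{u} :=
    fun R K hK => ((Groth.Agent.S0997.result R).2.2 K).1 hK
  exact Groth.Agent.Lib.Helper16.AffRed.main_descent hEss f E hE m

end Groth.Agent.S1057
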