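import Groth.Statements.S10571
import Groth.Agent.Lib.Helper3.AffCrit
set_option backward.isDefEq.respectTransparency.types false

set_option autoImplicit false
universe u
open CategoryTheory CategoryTheory.Limits AlgebraicGeometry
open AlgSp

namespace Groth.Agent.S10571

theorem exists_isPullback_of_big {C : Type*} [Category C] {X Y Xi Yi A B : C} {top : A ⟶ X}
    {v : A ⟶ B} {f : X ⟶ Y} {l : B ⟶ Yi} {g : Yi ⟶ Y} {q : Xi ⟶ X} {p : Xi ⟶ Yi}
    (big : IsPullback top v f (l ≫ g)) (sq : IsPullback q p f g) :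
    ∃ u : A ⟶ Xi, IsPullback u v p l := by
  have hw : top ≫ f = (v ≫ l) ≫ g := by rw [Category.assoc]; exact big.w
  have hu1 : sq.lift top (v ≫ l) hw ≫ q = top := sq.lift_fst _ _ _
  have hu2 : sq.lift top (v ≫ l) hw ≫ p = v ≫ l := sq.lift_snd _ _ _
  have big' : IsPullback (sq.lift top (v ≫ l) hw ≫ q) v f (l ≫ g) := by rw [hu1]; exact big
  exact ⟨_, IsPullback.of_right big' hu2 sq⟩

/-- Suppose a property P of morphisms between algebraic spaces over S satisfies: (1) if finitely many
morphisms X_i ⟶ Y_i have P then so does the induced morphism ∐ X_i ⟶ ∐ Y_i, (2) f : X ⟶ Y has P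
exactly when, for each affine scheme Z and each h_Z ⟶ Y, the base change h_Z ×_Y X ⟶ h_Z has P, and
(3) for every surjective flat morphism of affine schemes Z' ⟶ Z over S and every f : X ⟶ h_Z, if the
base change h_{Z'} ×_{h_Z} X ⟶ h_{Z'} has P then f has P. Under these hypotheses, P is local on the
base for the fpqc topology. (The published statement asks (1) only for two morphisms; its proof
applies (1) to a disjoint union indexed by a finite set that may be empty, and with (1) for two
morphisms only the property that holds for no morphism satisfies all three hypotheses without being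
fpqc local on the base, as the empty covering of the empty algebraic space shows. This row asks (1)
for all finite families, the empty one included.) -/
theorem result {S : Scheme.{u}} (P : MorphismProperty (AlgSp.Sp S))
    (h1 : ∀ ⦃ι : Type u⦄ [Finite ι] (Xi Yi : ι → AlgSp.Sp S) (fi : ∀ i, Xi i ⟶ Yi i)
      (cX : Cofan Xi) (cY : Cofan Yi) (hcX : IsColimit cX) (hcY : IsColimit cY) (m : cX.pt ⟶ cY.pt),
      (∀ i, AlgSp.IsAlgSpace (Xi i)) → (∀ i, AlgSp.IsAlgSpace (Yi i)) →
      AlgSp.IsAlgSpace cX.pt → AlgSp.IsAlgSpace cY.pt →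
      (∀ i, cX.inj i ≫ m = fi i ≫ cY.inj i) → (∀ i, P (fi i)) → P m)
    (h2 : ∀ ⦃X Y : AlgSp.Sp S⦄, AlgSp.IsAlgSpace X → AlgSp.IsAlgSpace Y → ∀ (f : X ⟶ Y),
      P f ↔ ∀ (Z : Over S), IsAffine Z.left → ∀ (g : (AlgSp.yon S).obj Z ⟶ Y) (W : AlgSp.Sp S)
        (fst : W ⟶ X) (snd : W ⟶ (AlgSp.yon S).obj Z), AlgSp.IsAlgSpace W → IsPullback fst snd f g → P snd)
    (h3 : ∀ ⦃Z Z' : Over S⦄ (c : Z' ⟶ Z), IsAffine Z.left → IsAffine Z'.left → Surjective c.left → Flat c.left →
      ∀ ⦃X X' : AlgSp.Sp S⦄ (f : X ⟶ (AlgSp.yon S).obj Z) (fst : X' ⟶ X) (f' : X' ⟶ (AlgSp.yon S).obj Z'),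
        AlgSp.IsAlgSpace X → AlgSp.IsAlgSpace X' → IsPullback fst f' f ((AlgSp.yon S).map c) → P f' → P f) :
    AlgSp.IsLocalOnBase (AlgSp.IsFpqcCover (S := S)) P := by
  open Groth.Agent.Lib.Helper3 Groth.Agent.Lib.Helper3.AffCrit in
  intro ι Y Yi g hY hYi hcov X f hX Xi p q hXi sq
  constructor
  · intro hf i
    refine (h2 (hXi i) (hYi i) (p i)).2 ?_
    intro Z hZ gz W fst snd hW sqW
    exact (h2 hX hY f).1 hf Z hZ (gz ≫ g i) W (fst ≫ q i) snd hW (sqW.paste_horiz (sq i))
  · intro hp
    refine (h2 hX hY f).2 ?_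
    intro Z hZ gz W fst snd hW sqW
    obtain ⟨m, Wj, c, hWj, hfl, hsurj, hl⟩ := hcov.2 Z hZ gz
    choose i l hl using hl
    obtain ⟨V, q', ιV, hV, hιq, hcovV, hflq, ⟨hcolim⟩⟩ := exists_coprod_affine_colimit Wj c hWj
    have hq'fl : Flat q'.left := hflq hfl
    have hq'su : Surjective q'.left := by
      constructor
      intro z
      obtain ⟨j, w, rfl⟩ := hsurj z
      refine ⟨(ιV j).left w, ?_⟩
      rw [← Scheme.Hom.comp_apply, ← Over.comp_left, hιq]
    -- base change to V
    have sqX' := IsPullback.of_hasPullback snd ((yon S).map q')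
    have hX' : IsAlgSpace (pullback snd ((yon S).map q')) :=
      isAlgSpace_of_isPullback' (IsAlgSpace.yon_obj Z) hW (IsAlgSpace.yon_obj V) sqX'
    refine h3 q' hZ hV hq'su hq'fl snd _ _ hW hX' sqX' ?_
    -- the pieces
    have sqj : ∀ j : ULift.{u} (Fin m), IsPullback
        (pullback.fst (pullback.snd snd ((yon S).map q')) ((yon S).map (ιV j.down)))
        (pullback.snd (pullback.snd snd ((yon S).map q')) ((yon S).map (ιV j.down)))
        (pullback.snd snd ((yon S).map q')) ((yon S).map (ιV j.down)) :=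
      fun j => IsPullback.of_hasPullback _ _
    have hXj : ∀ j : ULift.{u} (Fin m), IsAlgSpace
        (pullback (pullback.snd snd ((yon S).map q')) ((yon S).map (ιV j.down))) := fun j =>
      isAlgSpace_of_isPullback' (IsAlgSpace.yon_obj V) hX' (IsAlgSpace.yon_obj _) (sqj j)
    obtain ⟨hcX⟩ := isColimit_of_isPullback_cofan _ hcolim (pullback.snd snd ((yon S).map q'))
      (fun j => pullback.fst (pullback.snd snd ((yon S).map q')) ((yon S).map (ιV j.down)))
      (fun j => pullback.snd (pullback.snd snd ((yon S).map q')) ((yon S).map (ιV j.down))) sqj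
    refine h1 _ _ (fun j => pullback.snd (pullback.snd snd ((yon S).map q')) ((yon S).map (ιV j.down)))
      _ _ hcX hcolim (pullback.snd snd ((yon S).map q')) hXj (fun j => IsAlgSpace.yon_obj _) hX'
      (IsAlgSpace.yon_obj V) (fun j => (sqj j).w) ?_
    intro j
    -- the big pullback square
    have big := ((sqj j).paste_horiz sqX').paste_horiz sqW
    have e1 : ((yon S).map (ιV j.down) ≫ (yon S).map q') ≫ gz = l j.down ≫ g (i j.down) := by
      rw [← CategoryTheory.Functor.map_comp, hιq, hl]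
    rw [e1] at big
    obtain ⟨u, sqL⟩ := exists_isPullback_of_big big (sq (i j.down))
    exact (h2 (hXi _) (hYi _) (p (i j.down))).1 (hp (i j.down)) (Wj j.down) (hWj j.down) (l j.down)
      _ u _ (hXj j) sqL

end Groth.Agent.S10571
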