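import Groth.Statements.S10583
import Groth.Agent.Lib.Helper3.AlgSpOpenPullback
import Groth.Agent.Lib.Helper3.AlgSpOpenSubsp
import Groth.Agent.Lib.Helper3.AlgSpImmersionPts
import Groth.Agent.Lib.Helper3.AlgSpDiag
import Groth.Agent.Lib.Helper3.AlgSpQC
import Groth.Agent.S9906

set_option autoImplicit false
universe u
open CategoryTheory CategoryTheory.Limits AlgebraicGeometry
open AlgSp

namespace Groth.Agent.S10583

/-- Let i : X ⟶ X' be a thickening of algebraic spaces (representable, every base change to a scheme a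
surjective closed immersion) and let u : U ⟶ X be an open immersion. Then there is an open immersion
u' : U' ⟶ X' with U = X ×_{X'} U' (a pullback square), and any two open subspaces of X' with this
property are isomorphic over X'. -/
theorem result {S : Scheme.{u}} {X X' U : AlgSp.Space S} (i : X ⟶ X')
    (hi : AlgSp.IsThickMor i.hom)
    (u : U ⟶ X) (hu : AlgSp.RepWith @IsOpenImmersion u.hom) :
    (∃ (U' : AlgSp.Space S) (u' : U' ⟶ X') (k : U ⟶ U'),
      AlgSp.RepWith @IsOpenImmersion u'.hom ∧ IsPullback u.hom k.hom i.hom u'.hom) ∧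
    (∀ (U₁ U₂ : AlgSp.Space S) (u₁ : U₁ ⟶ X') (u₂ : U₂ ⟶ X') (k₁ : U ⟶ U₁) (k₂ : U ⟶ U₂),
      AlgSp.RepWith @IsOpenImmersion u₁.hom → IsPullback u.hom k₁.hom i.hom u₁.hom →
      AlgSp.RepWith @IsOpenImmersion u₂.hom → IsPullback u.hom k₂.hom i.hom u₂.hom →
      ∃ e : U₁ ≅ U₂, e.hom ≫ u₂ = u₁) := by
  classical
  have hiI : AlgSp.RepWith @IsImmersion i.hom :=
    Groth.Agent.Lib.Helper3.repWith_mono (fun _ _ g hg => by
      haveI : IsClosedImmersion g := hg.1
      infer_instance) hi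
  have hiS : AlgSp.RepWith @Surjective i.hom :=
    Groth.Agent.Lib.Helper3.repWith_mono (fun _ _ g hg => hg.2) hi
  have hemb := (Groth.Agent.Lib.Helper3.isEmbedding_map_of_immersion X'.property i.hom hiI).1
  have hsurj : Function.Surjective (AlgSp.Points.map i.hom) :=
    (Groth.Agent.S9906.repWith_surjective_iff i.hom hi.1).1 hiS
  have hopen : IsOpenMap (AlgSp.Points.map i.hom) :=
    (hemb.toHomeomorphOfSurjective hsurj).isOpenMap
  have hue : AlgSp.RepWith @Etale u.hom :=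
    Groth.Agent.Lib.Helper3.repWith_mono Groth.Agent.Lib.Helper3.isOpenImmersion_le_etale hu
  have hu_open : IsOpen (Set.range (AlgSp.Points.map u.hom)) :=
    (Groth.Agent.Lib.Helper3.isOpenMap_map_of_etale hue).isOpen_range
  -- the image of `U` in `|X'|`
  have key : ∀ (U₁ : AlgSp.Space S) (u₁ : U₁ ⟶ X') (k₁ : U ⟶ U₁),
      IsPullback u.hom k₁.hom i.hom u₁.hom →
      Set.range (AlgSp.Points.map u₁.hom) =
        AlgSp.Points.map i.hom '' Set.range (AlgSp.Points.map u.hom) := by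
    intro U₁ u₁ k₁ sq
    apply Set.Subset.antisymm
    · rintro _ ⟨p, rfl⟩
      obtain ⟨x, hx⟩ := hsurj (AlgSp.Points.map u₁.hom p)
      obtain ⟨z, hz1, -⟩ := Groth.Agent.Lib.Helper3.Points.exists_of_isPullback sq.flip.flip x p hx
      exact ⟨x, ⟨z, hz1⟩, hx⟩
    · rintro _ ⟨_, ⟨p, rfl⟩, rfl⟩
      refine ⟨AlgSp.Points.map k₁.hom p, ?_⟩
      rw [← AlgSp.Points.map_comp, ← AlgSp.Points.map_comp, sq.w]
  constructor
  · let W' : Set (AlgSp.Points X'.obj) :=
      AlgSp.Points.map i.hom '' Set.range (AlgSp.Points.map u.hom)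
    have hW' : IsOpen W' := hopen _ hu_open
    have hu' := Groth.Agent.Lib.Helper3.repWith_isOpenImmersion_openSubι X'.obj W' hW'
    obtain ⟨k, hk⟩ := Groth.Agent.Lib.Helper3.exists_factor_of_range_subset
      (Groth.Agent.Lib.Helper3.openSubι X'.obj W') hu' (u.hom ≫ i.hom) (by
        rw [Groth.Agent.Lib.Helper3.range_map_openSubι]
        rintro _ ⟨p, rfl⟩
        exact ⟨_, ⟨p, rfl⟩, (AlgSp.Points.map_comp _ _ _).symm⟩)
    refine ⟨⟨Groth.Agent.Lib.Helper3.openSub X'.obj W',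
        Groth.Agent.Lib.Helper3.isAlgSpace_openSub X'.property W' hW'⟩,
      ObjectProperty.homMk (Groth.Agent.Lib.Helper3.openSubι X'.obj W'),
      ObjectProperty.homMk k, hu', ?_⟩
    refine Groth.Agent.Lib.Helper3.isPullback_of_openImmersions u.hom k i.hom
      (Groth.Agent.Lib.Helper3.openSubι X'.obj W') hu hu' hk.symm ?_
    rw [Groth.Agent.Lib.Helper3.range_map_openSubι]
    rintro x ⟨x₀, hx₀, hx⟩
    rwa [← hemb.injective hx]
  · intro U₁ U₂ u₁ u₂ k₁ k₂ h₁ sq₁ h₂ sq₂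
    obtain ⟨e, he⟩ := Groth.Agent.Lib.Helper3.exists_iso_of_range_eq u₁.hom u₂.hom h₁ h₂
      (by rw [key U₁ u₁ k₁ sq₁, key U₂ u₂ k₂ sq₂])
    exact ⟨ObjectProperty.isoMk _ e, by
      apply ObjectProperty.hom_ext
      exact he⟩

end Groth.Agent.S10583
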