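import Groth.Statements.S1059
import Groth.Agent.Lib.Helper16.EC3

set_option autoImplicit false
universe u
open CategoryTheory CategoryTheory.Limits AlgebraicGeometry Opposite
attribute [local instance] HasDerivedCategory.standard
open Perf

namespace Groth.Agent.S1059

/-- Let E be a perfect object of D(O_X). Assuming the derived pullbacks to the points Spec κ(x) ⟶ X
exist, the function x ↦ χ_E(x) = Σᵢ (-1)ⁱ dim_{κ(x)} Hⁱ(E ⊗^L κ(x)) is locally constant on X. -/
theorem result (X : Scheme.{u}) [∀ x : X, DCoh.HasLpull (X.fromSpecResidueField x)]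
    (E : DCoh.D X) (hE : DCoh.IsPerfect E) :
    IsLocallyConstant (fun x : X => PerfD.eulerChar E x) := by
  classical
  rw [IsLocallyConstant.iff_exists_open]
  intro x₀
  -- a K-flat representative of `E`
  obtain ⟨Pf, ψ, hPf⟩ := Groth.Agent.Lib.Helper16.Stk.exists_functorial_kFlat_resolution X
  let F₀ := DerivedCategory.Q.objPreimage E
  let e₀ : DerivedCategory.Q.obj F₀ ≅ E := DerivedCategory.Q.objObjPreimageIso E
  let P₀ := Pf.obj F₀
  have hP₀ : DCoh.IsKFlat P₀ := (hPf F₀).1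
  haveI : QuasiIso (ψ.app F₀) := (hPf F₀).2.2.1
  have hs : IsIso (DerivedCategory.Q.map (ψ.app F₀)) := by
    rw [DerivedCategory.isIso_Q_map_iff_quasiIso]; infer_instance
  let e₁ : DerivedCategory.Q.obj P₀ ≅ E :=
    @asIso _ _ _ _ (DerivedCategory.Q.map (ψ.app F₀)) hs ≪≫ e₀
  obtain ⟨V, hx₀, hV⟩ := (Groth.Agent.Lib.Helper16.RS.isPerfect_iff_locally_bounded_free E).1 hE x₀
  obtain ⟨P, a, b, hab, hfree, ⟨e⟩⟩ := hV P₀ ⟨e₁⟩
  choose n hn using hfree
  have hPK : DCoh.IsKFlat P :=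
    Groth.Agent.Lib.Helper16.RS.isKFlat_of_isStrictlyPerfect P
      (Groth.Agent.Lib.Helper16.RS.isStrictlyPerfect_of_isBoundedFree P ⟨a, b, hab, fun i => ⟨n i, hn i⟩⟩)
  have key : ∀ x : X, x ∈ V → PerfD.eulerChar E x =
      ∑ i ∈ Finset.Icc a b, (i.negOnePow : ℤ) * (n i : ℤ) := by
    intro x hx
    have hr : Set.range (X.fromSpecResidueField x).base ⊆ Set.range V.ι.base := by
      rw [Scheme.range_fromSpecResidueField, Scheme.Opens.range_ι]
      simpa using hx
    let g : Spec (X.residueField x) ⟶ V := IsOpenImmersion.lift V.ι (X.fromSpecResidueField x) hr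
    have hg : g ≫ V.ι = X.fromSpecResidueField x := IsOpenImmersion.lift_fac _ _ _
    obtain ⟨i₁⟩ := Groth.Agent.Lib.Helper16.EC.exists_iso_Lpull_of_restrict V g
      (X.fromSpecResidueField x) hg E P₀ hP₀ e₁ P hPK e
    obtain ⟨h1, h2⟩ := Groth.Agent.Lib.Helper16.EC.pullCx_boundedFree g P a b hab n hn
    exact Groth.Agent.Lib.Helper16.EC.eulerChar_sections (default : Spec (X.residueField x))
      (Groth.Agent.Lib.Helper16.EC.isField_Γtop_Spec (X.residueField x)) _ a b h1 n h2 _ i₁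
  refine ⟨V, V.2, hx₀, fun x hx => ?_⟩
  rw [key x hx, key x₀ hx₀]

end Groth.Agent.S1059
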