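import Groth.Statements.S10604
import Groth.Agent.Lib.Helper15.AlgSpFibreCrit
import Groth.Agent.Lib.Helper15.FibreCritSch
import Groth.Agent.Lib.Helper3.AlgSpNoethChart
-- import your own Groth.Agent.* helpers here

set_option autoImplicit false
universe u
open CategoryTheory CategoryTheory.Limits AlgebraicGeometry
open AlgSp

namespace Groth.Agent.S10604

section H
namespace W1
open Groth.Agent.Lib.Helper3 Groth.Agent.Lib.Helper15
set_option backward.isDefEq.respectTransparency.types false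

variable {S : Scheme.{u}}

theorem main {X Y Z : AlgSp.Space S} (f : X ⟶ Y) (h : Y ⟶ Z)
    (hX : AlgSp.IsLocNoethSp X.obj) (hYn : AlgSp.IsLocNoethSp Y.obj) (hZ : AlgSp.IsLocNoethSp Z.obj)
    (hfl : AlgSp.LocP @Flat (f ≫ h).hom)
    (hfib : ∀ (K : Type u) [Field K] (sK : Spec (CommRingCat.of K) ⟶ S)
      (z : (AlgSp.yon S).obj (Over.mk sK) ⟶ Z.obj) (Xz Yz : AlgSp.Sp S)
      (pX : Xz ⟶ X.obj) (qX : Xz ⟶ (AlgSp.yon S).obj (Over.mk sK))
      (pY : Yz ⟶ Y.obj) (qY : Yz ⟶ (AlgSp.yon S).obj (Over.mk sK)) (fz : Xz ⟶ Yz),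
      IsPullback pX qX (f ≫ h).hom z → IsPullback pY qY h.hom z → fz ≫ pY = pX ≫ f.hom → fz ≫ qY = qX →
      AlgSp.LocP @Flat fz) :
    AlgSp.LocP @Flat f.hom ∧ (AlgSp.IsSurjectiveMor f.hom → AlgSp.LocP @Flat h.hom) := by
  obtain ⟨U', V', W', a', b', c', h', l', ha'e, ha's, hb'e, hb's, hc'e, wh, wl, hsurj⟩ :=
    AlgSpFibreCrit.exists_charts_over X.property Y.property Z.property f.hom h.hom
  haveI : IsLocallyNoetherian U'.left := isLocallyNoetherian_of_isLocNoethSp hX a' ha'e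
  haveI : IsLocallyNoetherian V'.left := isLocallyNoetherian_of_isLocNoethSp hYn b' hb'e
  haveI : IsLocallyNoetherian W'.left := isLocallyNoetherian_of_isLocNoethSp hZ c' hc'e
  have wcomp : a' ≫ (f ≫ h).hom = (yon S).map (h' ≫ l') ≫ c' := by
    show a' ≫ f.hom ≫ h.hom = _
    rw [← Category.assoc, wh, Category.assoc, wl, Functor.map_comp, Category.assoc]
  haveI : Flat (h'.left ≫ l'.left) := hfl a' c' (h' ≫ l') ha'e hc'e wcomp
  have hfibS : ∀ w : W'.left, Flat (MoreMor.fiberMap h'.left l'.left w) := fun w =>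
    AlgSpFibreCrit.flat_fiberMap_of_chart f.hom h.hom a' b' c' h' l' ha'e hb'e hc'e wh wl hfib w
  have key : ∀ u : U'.left, (l'.left.stalkMap (h'.left u)).hom.Flat ∧ (h'.left.stalkMap u).hom.Flat :=
    fun u => FibreCritSch.flat_stalkMap_of_flat_fibre h'.left l'.left u
      (Flat.stalkMap (h'.left ≫ l'.left) u)
      (haveI := hfibS (l'.left (h'.left u)); Flat.stalkMap (MoreMor.fiberMap h'.left l'.left _) _)
  refine ⟨?_, fun hs => ?_⟩
  · exact locP_of_chart isEtLocal_flat f.hom a' ha'e ha's b' hb'e h' wh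
      (Flat.of_stalkMap h'.left fun u => (key u).2)
  · refine locP_of_chart isEtLocal_flat h.hom b' hb'e hb's c' hc'e l' wl
      (Flat.of_stalkMap l'.left fun v => ?_)
    obtain ⟨u, rfl⟩ := hsurj hs v
    exact (key u).1

end W1
end H


/-- Let f : X ⟶ Y and h : Y ⟶ Z be morphisms of algebraic spaces over S with X, Y and Z locally
Noetherian. Assume X is flat over Z and for every field K and every z : Spec K ⟶ Z the base change
X_z ⟶ Y_z of f is flat (fibres taken as pullback squares of fppf sheaves). Then f is flat; if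
moreover f is surjective, then h is flat. -/
theorem result {S : Scheme.{u}} {X Y Z : AlgSp.Space S} (f : X ⟶ Y) (h : Y ⟶ Z)
    (hX : AlgSp.IsLocNoethSp X.obj) (hYn : AlgSp.IsLocNoethSp Y.obj) (hZ : AlgSp.IsLocNoethSp Z.obj)
    (hfl : AlgSp.LocP @Flat (f ≫ h).hom)
    (hfib : ∀ (K : Type u) [Field K] (sK : Spec (CommRingCat.of K) ⟶ S)
      (z : (AlgSp.yon S).obj (Over.mk sK) ⟶ Z.obj) (Xz Yz : AlgSp.Sp S)
      (pX : Xz ⟶ X.obj) (qX : Xz ⟶ (AlgSp.yon S).obj (Over.mk sK))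
      (pY : Yz ⟶ Y.obj) (qY : Yz ⟶ (AlgSp.yon S).obj (Over.mk sK)) (fz : Xz ⟶ Yz),
      IsPullback pX qX (f ≫ h).hom z → IsPullback pY qY h.hom z → fz ≫ pY = pX ≫ f.hom → fz ≫ qY = qX →
      AlgSp.LocP @Flat fz) :
    AlgSp.LocP @Flat f.hom ∧ (AlgSp.IsSurjectiveMor f.hom → AlgSp.LocP @Flat h.hom) := by
  exact W1.main f h hX hYn hZ hfl hfib

end Groth.Agent.S10604
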