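import Groth.Statements.S10605
import Groth.Agent.Lib.Helper3.FpqcDescMain

set_option autoImplicit false
universe u
open CategoryTheory CategoryTheory.Limits AlgebraicGeometry
open AlgSp

namespace Groth.Agent.S10605

theorem thick_eq : (AlgSp.thick.{u}) =
    (@IsClosedImmersion ⊓ @Surjective : MorphismProperty Scheme.{u}) := rfl

instance : IsZariskiLocalAtTarget AlgSp.thick.{u} := by
  rw [thick_eq]; infer_instance

instance : MorphismProperty.DescendsAlong AlgSp.thick.{u}
    (@Surjective ⊓ @Flat ⊓ @QuasiCompact : MorphismProperty Scheme.{u}) := by
  rw [thick_eq]; infer_instance

/-- The property of a morphism of algebraic spaces over S of being a thickening (representable, every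
base change to a scheme a surjective closed immersion) is local on the base for the fpqc topology.
(The published statement also claims the same for first order thickenings; this row states only the
thickening clause.) -/
theorem result {S : Scheme.{u}} :
    AlgSp.IsLocalOnBase (S := S) AlgSp.IsFpqcCover
      AlgSp.IsThickMor := by
  exact Groth.Agent.Lib.Helper3.FpqcDesc.isLocalOnBase_fpqc_repWith (S := S) AlgSp.thick
    (fun A B k hk => by have : IsClosedImmersion k := hk.1; infer_instance)

end Groth.Agent.S10605
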