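import Groth.Statements.S10614
import Groth.Agent.Lib.Helper15.MonoLft
import Groth.Agent.Lib.Helper15.InfNbhd
import Groth.Agent.S10613
import Groth.Agent.S9922
import Mathlib.AlgebraicGeometry.ZariskisMainTheorem
-- import your own Groth.Agent.* helpers here

set_option autoImplicit false
universe u
open CategoryTheory CategoryTheory.Limits AlgebraicGeometry
open AlgSp

namespace Groth.Agent.S10614

section H
set_option backward.isDefEq.respectTransparency.types false
namespace W1
open Groth.Agent.Lib.Helper15.MonoLft Groth.Agent.Lib.Helper3 Groth.Agent.Lib.Helper15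

theorem key {S : Scheme.{u}} {X Y : AlgSp.Space S} (f : X ⟶ Y) :
    AlgSp.RepWith @IsClosedImmersion f.hom ↔
      (AlgSp.IsUnivClosedMor f.hom ∧ AlgSp.LocP @LocallyOfFiniteType f.hom ∧ Mono f.hom) := by
  have hX := X.property
  have hY := Y.property
  constructor
  · intro h
    have huc : RepWith @UniversallyClosed f.hom :=
      MorphismProperty.relative_monotone (fun A B k hk => by
        have : IsClosedImmersion ((Over.forget S).map k) := hk
        change UniversallyClosed ((Over.forget S).map k)
        infer_instance) _ h
    have hlft : RepWith @LocallyOfFiniteType f.hom :=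
      MorphismProperty.relative_monotone (fun A B k hk => by
        have : IsClosedImmersion ((Over.forget S).map k) := hk
        change LocallyOfFiniteType ((Over.forget S).map k)
        infer_instance) _ h
    exact ⟨(Groth.Agent.S9922.result f h.rep).1 huc, locP_of_repWith isEtLocal_locallyOfFiniteType _ hlft,
      InfNbhd.mono_of_repWith_closedImmersion _ h⟩
  · rintro ⟨huc, hlft, hmono⟩
    have hrep : Representable f.hom := representable_of_mono_lft hX hY f.hom hlft
    have huc' : RepWith @UniversallyClosed f.hom := (Groth.Agent.S9922.result f hrep).2 huc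
    refine ⟨hrep, fun T E y e snd sq => ?_⟩
    have h1 : UniversallyClosed snd.left := huc'.property y e snd sq
    have hm : Mono ((yon S).map snd) := by
      have := sq.flip
      exact ⟨fun a b hab => by
        apply sq.hom_ext
        · rw [← cancel_mono f.hom, Category.assoc, Category.assoc, sq.w, ← Category.assoc,
            ← Category.assoc, hab]
        · exact hab⟩
    have hm' : Mono snd := (yon S).mono_of_mono_map hm
    have hm'' : Mono snd.left := inferInstance
    have hE : IsAlgSpace ((yon S).obj E) := IsAlgSpace.yon_obj E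
    have h2' : LocP @LocallyOfFiniteType ((yon S).map snd) :=
      locP_of_isPullback isEtLocal_locallyOfFiniteType hX hY (IsAlgSpace.yon_obj T) hE f.hom y _ _
        sq hlft
    have h2 : LocallyOfFiniteType snd.left := locP_yon_map h2'
    have hqc : QuasiCompact snd.left := inferInstance
    have hsep : IsSeparated snd.left := inferInstance
    have hp : IsProper snd.left := { }
    exact (IsClosedImmersion.iff_isProper_and_mono _).2 ⟨hp, hm''⟩

theorem main {S : Scheme.{u}} {X Y : AlgSp.Space S} (f : X ⟶ Y) :
    (AlgSp.RepWith @IsClosedImmersion f.hom ↔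
      (AlgSp.IsUnivClosedMor f.hom ∧ AlgSp.LocP (@LocallyOfFiniteType ⊓ @FormallyUnramified) f.hom ∧ Mono f.hom)) ∧
    (AlgSp.RepWith @IsClosedImmersion f.hom ↔
      (AlgSp.IsUnivClosedMor f.hom ∧ AlgSp.LocP (@LocallyOfFiniteType ⊓ @FormallyUnramified) f.hom ∧ AlgSp.IsUnivInjectiveMor f.hom)) ∧
    (AlgSp.RepWith @IsClosedImmersion f.hom ↔
      (AlgSp.IsUnivClosedMor f.hom ∧ AlgSp.LocP @LocallyOfFiniteType f.hom ∧ Mono f.hom)) ∧
    (AlgSp.RepWith @IsClosedImmersion f.hom ↔
      (AlgSp.IsUnivClosedMor f.hom ∧ AlgSp.IsUnivInjectiveMor f.hom ∧ AlgSp.LocP @LocallyOfFiniteType f.hom ∧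
        AlgSp.IsFormallyUnramifiedMor f.hom)) := by
  obtain ⟨h1, h2, h3, -⟩ := Groth.Agent.S10613.result f
  refine ⟨?_, ?_, key f, ?_⟩
  · rw [key f, ← h2]
  · rw [key f, ← h2, h1]
  · rw [key f, ← h2, h3]

end W1
end H


/-- For a morphism f : X ⟶ Y of algebraic spaces over S, being a closed immersion (representable by
closed immersions) is equivalent to each of: (a) universally closed plus unramified plus
monomorphism; (b) universally closed plus unramified plus universally injective; (c) a universally
closed monomorphism that is locally of finite type; (d) universally closed, universally injective,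
locally of finite type and formally unramified (lifting sense). (Unramified is the etale-local
condition locally of finite type and formally unramified on charts; monomorphisms are taken in fppf
sheaves.) -/
theorem result {S : Scheme.{u}} {X Y : AlgSp.Space S} (f : X ⟶ Y) :
    (AlgSp.RepWith @IsClosedImmersion f.hom ↔
      (AlgSp.IsUnivClosedMor f.hom ∧ AlgSp.LocP (@LocallyOfFiniteType ⊓ @FormallyUnramified) f.hom ∧ Mono f.hom)) ∧
    (AlgSp.RepWith @IsClosedImmersion f.hom ↔
      (AlgSp.IsUnivClosedMor f.hom ∧ AlgSp.LocP (@LocallyOfFiniteType ⊓ @FormallyUnramified) f.hom ∧ AlgSp.IsUnivInjectiveMor f.hom)) ∧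
    (AlgSp.RepWith @IsClosedImmersion f.hom ↔
      (AlgSp.IsUnivClosedMor f.hom ∧ AlgSp.LocP @LocallyOfFiniteType f.hom ∧ Mono f.hom)) ∧
    (AlgSp.RepWith @IsClosedImmersion f.hom ↔
      (AlgSp.IsUnivClosedMor f.hom ∧ AlgSp.IsUnivInjectiveMor f.hom ∧ AlgSp.LocP @LocallyOfFiniteType f.hom ∧
        AlgSp.IsFormallyUnramifiedMor f.hom)) := by
  exact W1.main f

end Groth.Agent.S10614
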