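import Groth.Statements.S10616
import Groth.Agent.Lib.Helper15.AlgSpFormal
import Groth.Agent.Lib.Helper15.UnivThickAffine
import Groth.Agent.S0117
import Groth.Agent.S1488
-- import your own Groth.Agent.* helpers here

set_option autoImplicit false
universe u
open CategoryTheory CategoryTheory.Limits AlgebraicGeometry
open AlgSp

namespace Groth.Agent.S10616

section H
namespace W1
open Groth.Agent.Lib.Helper15.AlgSpFormal
set_option backward.isDefEq.respectTransparency.types false

variable {S : Scheme.{u}}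

theorem smooth_part {F G : Sp S} (a : F ⟶ G) (ha : RepWith @Smooth a) :
    IsFormallySmoothMor a := by
  intro sq
  have hrep : Representable a := ha.rep
  let W : Over S := hrep.pullback sq.bot
  let w : W ⟶ sq.ptT' := hrep.snd sq.bot
  let fst : (yon S).obj W ⟶ F := hrep.fst sq.bot
  have hpb : IsPullback fst ((yon S).map w) a sq.bot := hrep.isPullback sq.bot
  have hwe : Smooth w.left := ha.2 _ _ _ hpb
  have hfe : MoreMor.IsFormallySmoothHom w.left :=
    Groth.Agent.S1488.W1.formallySmoothHom_of_smooth w.left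
  let t0 : (yon S).obj sq.ptT ⟶ (yon S).obj W := hpb.lift sq.top ((yon S).map sq.j) sq.comm
  let t : sq.ptT ⟶ W := (yon S).preimage t0
  have ht : (yon S).map t = t0 := (yon S).map_preimage t0
  have ht1 : t0 ≫ fst = sq.top := hpb.lift_fst _ _ _
  have ht2 : t0 ≫ (yon S).map w = (yon S).map sq.j := hpb.lift_snd _ _ _
  have htw : t ≫ w = sq.j := by
    apply (yon S).map_injective
    rw [Functor.map_comp, ht, ht2]
  have hcompat : Spec.map (CommRingCat.ofHom (Ideal.Quotient.mk sq.I)) ≫
      𝟙 (Spec (CommRingCat.of sq.A)) = t.left ≫ w.left := by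
    rw [Category.comp_id]
    exact (congrArg (fun φ => φ.left) htw).symm
  obtain ⟨ℓ, hℓ1, hℓ2⟩ := hfe sq.A sq.I sq.sq_zero t.left (𝟙 _) hcompat
  have hℓw : ℓ ≫ W.hom = sq.ptT'.hom := by
    have := Over.w w
    rw [← this, ← Category.assoc, hℓ2, Category.id_comp]
  let L : sq.ptT' ⟶ W := Over.homMk ℓ hℓw
  have hL1 : sq.j ≫ L = t := by
    ext
    exact hℓ1
  have hL2 : L ≫ w = 𝟙 _ := by
    ext
    exact hℓ2
  refine ⟨(yon S).map L ≫ fst, ?_, ?_⟩
  · rw [← Category.assoc, ← Functor.map_comp, hL1, ht, ht1]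
  · rw [Category.assoc, hpb.w, ← Category.assoc, ← Functor.map_comp, hL2]
    exact ((yon S).map_id _ ▸ Category.id_comp _ :)

theorem unramified_part {F G : Sp S} (a : F ⟶ G)
    (ha : RepWith (@LocallyOfFiniteType ⊓ @FormallyUnramified) a) :
    IsFormallyUnramifiedMor a := by
  intro sq l l' h1 h2 h1' h2'
  have hrep : Representable a := ha.rep
  let W : Over S := hrep.pullback sq.bot
  let w : W ⟶ sq.ptT' := hrep.snd sq.bot
  let fst : (yon S).obj W ⟶ F := hrep.fst sq.bot
  have hpb : IsPullback fst ((yon S).map w) a sq.bot := hrep.isPullback sq.bot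
  have hwe : (@LocallyOfFiniteType ⊓ @FormallyUnramified) w.left := ha.2 _ _ _ hpb
  haveI : LocallyOfFiniteType w.left := hwe.1
  haveI : FormallyUnramified w.left := hwe.2
  haveI : Surjective (Spec.map (CommRingCat.ofHom (Ideal.Quotient.mk sq.I))) :=
    (Groth.Agent.Lib.Helper15.UnivThickAffine.isFirstOrderThickening_SpecMap _
      Ideal.Quotient.mk_surjective (by simpa using sq.sq_zero)).1.2
  have key : ∀ l₂ : (yon S).obj sq.ptT' ⟶ F, (yon S).map sq.j ≫ l₂ = sq.top → l₂ ≫ a = sq.bot →
      ∃ L₂ : sq.ptT' ⟶ W, (yon S).map L₂ ≫ fst = l₂ ∧ L₂ ≫ w = 𝟙 _ ∧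
        (yon S).map (sq.j ≫ L₂) = hpb.lift sq.top ((yon S).map sq.j) sq.comm := by
    intro l₂ k1 k2
    let u0 : (yon S).obj sq.ptT' ⟶ (yon S).obj W := hpb.lift l₂ (𝟙 _) (by rw [k2, Category.id_comp])
    let L₂ : sq.ptT' ⟶ W := (yon S).preimage u0
    have hL₂ : (yon S).map L₂ = u0 := (yon S).map_preimage u0
    have hu1 : u0 ≫ fst = l₂ := hpb.lift_fst _ _ _
    have hu2 : u0 ≫ (yon S).map w = 𝟙 _ := hpb.lift_snd _ _ _
    refine ⟨L₂, by rw [hL₂, hu1], ?_, ?_⟩
    · apply (yon S).map_injective
      rw [Functor.map_comp, hL₂, hu2]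
      exact ((yon S).map_id _).symm
    · rw [Functor.map_comp, hL₂]
      apply hpb.hom_ext
      · rw [Category.assoc, hu1, k1, hpb.lift_fst]
      · rw [Category.assoc, hu2, Category.comp_id, hpb.lift_snd]
  obtain ⟨L, hL1, hL2, hL3⟩ := key l h1 h2
  obtain ⟨L', hL1', hL2', hL3'⟩ := key l' h1' h2'
  have hjL : sq.j ≫ L = sq.j ≫ L' := (yon S).map_injective (hL3.trans hL3'.symm)
  have hleft : L.left = L'.left := by
    apply Groth.Agent.S0117.W.inj w.left
      (Spec.map (CommRingCat.ofHom (Ideal.Quotient.mk sq.I))) L.left L'.left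
    · exact (congrArg (fun φ => φ.left) hL2).trans (congrArg (fun φ => φ.left) hL2').symm
    · exact congrArg (fun φ => φ.left) hjL
  have hLL : L = L' := by
    ext
    exact hleft
  rw [← hL1, ← hL1', hLL]

theorem main {F G : AlgSp.Sp S} (a : F ⟶ G) :
    (AlgSp.RepWith @Smooth a → AlgSp.IsFormallySmoothMor a) ∧
    (AlgSp.RepWith @Etale a → AlgSp.IsFormallyEtaleMor a) ∧
    (AlgSp.RepWith (@LocallyOfFiniteType ⊓ @FormallyUnramified) a →
      AlgSp.IsFormallyUnramifiedMor a) :=
  ⟨smooth_part a, isFormallyEtaleMor_of_repWith_etale a, unramified_part a⟩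

end W1
end H


/-- Let a : F ⟶ G be a morphism of fppf sheaves on (Sch/S). If a is representable and smooth, then a is
formally smooth; if a is representable and etale, then a is formally etale; if a is representable
and unramified, then a is formally unramified (lifting conditions against square-zero thickenings of
affine schemes). (The published statement is for transformations of arbitrary presheaves of sets on
(Sch/S)_fppf; this row takes fppf sheaves, the case of algebraic spaces.) -/
theorem result {S : Scheme.{u}} {F G : AlgSp.Sp S} (a : F ⟶ G) :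
    (AlgSp.RepWith @Smooth a → AlgSp.IsFormallySmoothMor a) ∧
    (AlgSp.RepWith @Etale a → AlgSp.IsFormallyEtaleMor a) ∧
    (AlgSp.RepWith (@LocallyOfFiniteType ⊓ @FormallyUnramified) a → AlgSp.IsFormallyUnramifiedMor a) := by
  exact W1.main a

end Groth.Agent.S10616
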