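import Groth.Statements.S10626
import Groth.Agent.S10622
import Groth.Agent.S1487
import Groth.Agent.Lib.Helper15.FlatUnram
-- import your own Groth.Agent.* helpers here

set_option autoImplicit false
universe u
open CategoryTheory CategoryTheory.Limits AlgebraicGeometry
open AlgSp

namespace Groth.Agent.S10626

section H
namespace W1
open Groth.Agent.Lib.Helper15

/-- flat + formally unramified + locally of finite type ⇒ formally étale (lifting sense), for schemes -/
theorem isFormallyEtaleHom_of_flat_unramified {X Y : Scheme.{u}} (f : X ⟶ Y) [LocallyOfFiniteType f]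
    [FormallyUnramified f] [Flat f] : MoreMor.IsFormallyEtaleHom f := by
  rw [Groth.Agent.S1487.result]
  intro U V hU hV hUV
  letI := (f.appLE V U hUV).hom.toAlgebra
  have h1 : (f.appLE V U hUV).hom.FiniteType :=
    HasRingHomProperty.appLE (P := @LocallyOfFiniteType) f inferInstance ⟨V, hV⟩ ⟨U, hU⟩ hUV
  have h2 : (f.appLE V U hUV).hom.FormallyUnramified :=
    HasRingHomProperty.appLE (P := @FormallyUnramified) f inferInstance ⟨V, hV⟩ ⟨U, hU⟩ hUV
  have h3 : (f.appLE V U hUV).hom.Flat :=
    HasRingHomProperty.appLE (P := @Flat) f inferInstance ⟨V, hV⟩ ⟨U, hU⟩ hUV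
  haveI : Algebra.FiniteType Γ(Y, V) Γ(X, U) := h1
  haveI : Algebra.FormallyUnramified Γ(Y, V) Γ(X, U) := h2
  haveI : Module.Flat Γ(Y, V) Γ(X, U) := h3
  exact FlatUnram.formallyEtale_of_flat

theorem main {S : Scheme.{u}} {X Y : AlgSp.Space S} (f : X ⟶ Y)
    (h1 : AlgSp.LocP (@LocallyOfFiniteType ⊓ @FormallyUnramified) f.hom) (h2 : AlgSp.LocP @Flat f.hom) :
    AlgSp.IsFormallyEtaleMor f.hom := by
  rw [(Groth.Agent.S10622.result f).1]
  intro U V a b h ha hb w
  haveI : LocallyOfFiniteType h.left := (h1 a b h ha hb w).1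
  haveI : FormallyUnramified h.left := (h1 a b h ha hb w).2
  haveI : Flat h.left := h2 a b h ha hb w
  exact isFormallyEtaleHom_of_flat_unramified h.left

end W1
end H


/-- An unramified and flat morphism of algebraic spaces over S is formally etale (lifting sense). -/
theorem result {S : Scheme.{u}} {X Y : AlgSp.Space S} (f : X ⟶ Y)
    (h1 : AlgSp.LocP (@LocallyOfFiniteType ⊓ @FormallyUnramified) f.hom) (h2 : AlgSp.LocP @Flat f.hom) :
    AlgSp.IsFormallyEtaleMor f.hom := by
  exact W1.main f h1 h2

end Groth.Agent.S10626
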