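import Groth.Statements.S10628
import Groth.Agent.S10627
import Groth.Agent.S10619
import Groth.Agent.S10618
-- import your own Groth.Agent.* helpers here

set_option autoImplicit false
universe u
open CategoryTheory CategoryTheory.Limits AlgebraicGeometry
open AlgSp

namespace Groth.Agent.S10628

section H
namespace W63
open Groth.Agent.Lib.Helper15.AlgSpFormal Groth.Agent.Lib.Helper15.AlgSpFormal2
set_option backward.isDefEq.respectTransparency.types false

variable {S : Scheme.{u}}

theorem main {X Y U V : AlgSp.Space S} (f : X ⟶ Y)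
    (hf : AlgSp.IsFormallySmoothMor f.hom) (p : U ⟶ X) (q : V ⟶ Y) (hp : AlgSp.IsEtaleMor p.hom)
    (hq : AlgSp.IsEtaleMor q.hom)
    (ψ : U ⟶ V) (w : ψ ≫ q = p ≫ f) : AlgSp.IsFormallySmoothMor ψ.hom := by
  have hp' : IsFormallyEtaleMor p.hom := ((Groth.Agent.S10627.result p).1 hp).2
  have hq' : IsFormallyEtaleMor q.hom := ((Groth.Agent.S10627.result q).1 hq).2
  have h1 : IsFormallySmoothMor (p.hom ≫ f.hom) :=
    (Groth.Agent.S10619.result _ _).1 (isFormallySmoothMor_of_isFormallyEtaleMor hp') hf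
  have w' : ψ.hom ≫ q.hom = p.hom ≫ f.hom := congrArg (fun φ => φ.hom) w
  rw [← w'] at h1
  exact (Groth.Agent.S10618.result _ q.hom (isFormallyUnramifiedMor_of_isFormallyEtaleMor hq')).2.2 h1

end W63
end H


/-- Take a formally smooth morphism f : X ⟶ Y of algebraic spaces over S, and let p : U ⟶ X and q : V ⟶
Y be etale morphisms of algebraic spaces with ψ : U ⟶ V such that ψ ≫ q = p ≫ f. Then ψ is formally
smooth. -/
theorem result {S : Scheme.{u}} {X Y U V : AlgSp.Space S} (f : X ⟶ Y)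
    (hf : AlgSp.IsFormallySmoothMor f.hom) (p : U ⟶ X) (q : V ⟶ Y) (hp : AlgSp.IsEtaleMor p.hom) (hq : AlgSp.IsEtaleMor q.hom)
    (ψ : U ⟶ V) (w : ψ ≫ q = p ≫ f) : AlgSp.IsFormallySmoothMor ψ.hom := by
  exact W63.main f hf p q hp hq ψ w

end Groth.Agent.S10628
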