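import Groth.Statements.S10635
import Mathlib
import Groth.Prelude.Def_AlgSpInf
import Groth.Agent.Lib.Helper15.InfNbhd
import Groth.Agent.S10630
-- import your own Groth.Agent.* helpers here

set_option autoImplicit false
universe u
open CategoryTheory CategoryTheory.Limits AlgebraicGeometry
open AlgSp

namespace Groth.Agent.S10635

section H
namespace W1
open CategoryTheory CategoryTheory.Limits AlgebraicGeometry Opposite
open Groth.Agent.Lib.Helper15
set_option backward.isDefEq.respectTransparency.types false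

theorem main {S : Scheme.{u}} {Z U X Z₁ : AlgSp.Space S} (c : Z ⟶ U)
    (u : U ⟶ X) (hu : AlgSp.RepWith @IsOpenImmersion u.hom)
    (j : Z ⟶ Z₁) (k : Z₁ ⟶ U) (hN : AlgSp.IsInfNbhd 1 c.hom j.hom k.hom) :
    AlgSp.IsUnivFOThick (c ≫ u).hom j.hom (k ≫ u).hom := by
  have hFO : AlgSp.IsFOThickMor j.hom :=
    InfNbhd.isFOThickMor_of_isInfNbhd c.hom j.hom k.hom hN U.property
  have w : j ≫ (k ≫ u) = c ≫ u := by
    apply ObjectProperty.hom_ext
    change j.hom ≫ k.hom ≫ u.hom = c.hom ≫ u.hom
    rw [← Category.assoc, hN.1]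
  refine (Groth.Agent.S10630.result (c ≫ u) j (k ≫ u) hFO w).2 ?_
  intro T T' jT hT' hjT a b hcomm
  exact InfNbhd.affine_test_of_isInfNbhd U.property c.hom u.hom hu j.hom k.hom hN T T' jT hT' hjT
    a b hcomm

end W1
end H


/-- Take an immersion i : Z ⟶ X of algebraic spaces over S, written as a closed immersion c : Z ⟶ U
followed by an open immersion u : U ⟶ X, and let (j : Z ⟶ Z₁, k : Z₁ ⟶ U) be the first order
infinitesimal neighbourhood of Z in U. Then (j, k ≫ u) is a universal first order thickening of Z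
over X. -/
theorem result {S : Scheme.{u}} {Z U X Z₁ : AlgSp.Space S} (c : Z ⟶ U)
    (hc : AlgSp.RepWith @IsClosedImmersion c.hom) (u : U ⟶ X) (hu : AlgSp.RepWith @IsOpenImmersion u.hom)
    (j : Z ⟶ Z₁) (k : Z₁ ⟶ U) (hN : AlgSp.IsInfNbhd 1 c.hom j.hom k.hom) :
    AlgSp.IsUnivFOThick (c ≫ u).hom j.hom (k ≫ u).hom := by
  exact W1.main c u hu j k hN

end Groth.Agent.S10635
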