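import Groth.Statements.S10638
import Groth.Agent.Lib.Helper15.UnivEtLoc
import Groth.Agent.Lib.Helper3.AlgSpLocP5
import Groth.Agent.Lib.Helper9.AlgSpFE
import Groth.Agent.S10627
import Groth.Agent.S10619
import Groth.Agent.S10618
-- import your own Groth.Agent.* helpers here

set_option autoImplicit false
universe u
open CategoryTheory CategoryTheory.Limits AlgebraicGeometry
open AlgSp

namespace Groth.Agent.S10638

section H
namespace W1
open AlgSp Groth.Agent.Lib.Helper3 Groth.Agent.Lib.Helper15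
set_option backward.isDefEq.respectTransparency.types false

theorem fu_of_fe {S : Scheme.{u}} {F G : Sp S} (f : F ⟶ G) (hf : IsFormallyEtaleMor f) :
    IsFormallyUnramifiedMor f := by
  intro sq l l' h1 h2 h3 h4
  obtain ⟨l₀, -, hu⟩ := hf sq
  rw [hu l ⟨h1, h2⟩, hu l' ⟨h3, h4⟩]

theorem main {S : Scheme.{u}} {Z X Z' V U V' : AlgSp.Space S} (h : Z ⟶ X)
    (hh : AlgSp.IsFormallyUnramifiedMor h.hom) (iZ : Z ⟶ Z') (hZ' : Z' ⟶ X) (HZ : AlgSp.IsUnivFOThick h.hom iZ.hom hZ'.hom)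
    (v : V ⟶ Z) (w : U ⟶ X) (hv : AlgSp.IsEtaleMor v.hom) (hw : AlgSp.IsEtaleMor w.hom) (ψ : V ⟶ U)
    (c : ψ ≫ w = v ≫ h) :
    AlgSp.IsFormallyUnramifiedMor ψ.hom ∧
    ∀ (iV : V ⟶ V') (hV' : V' ⟶ U), AlgSp.IsUnivFOThick ψ.hom iV.hom hV'.hom →
      ∀ e' : V' ⟶ Z', iV ≫ e' = v ≫ iZ → e' ≫ hZ' = hV' ≫ w → AlgSp.IsEtaleMor e'.hom := by
  have c' : ψ.hom ≫ w.hom = v.hom ≫ h.hom := congrArg (fun f => f.hom) c
  have hvfe : IsFormallyEtaleMor v.hom := ((Groth.Agent.S10627.result v).1 hv).2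
  have hwfe : IsFormallyEtaleMor w.hom := ((Groth.Agent.S10627.result w).1 hw).2
  have hψ : IsFormallyUnramifiedMor ψ.hom := by
    refine (Groth.Agent.S10618.result ψ.hom w.hom (fu_of_fe _ hwfe)).1 ?_
    rw [c']
    exact (Groth.Agent.S10619.result v.hom h.hom).2.2 (fu_of_fe _ hvfe) hh
  refine ⟨hψ, fun iV hV' HV e' he1 he2 => ?_⟩
  have he1' : iV.hom ≫ e'.hom = v.hom ≫ iZ.hom := congrArg (fun f => f.hom) he1
  have he2' : e'.hom ≫ hZ'.hom = hV'.hom ≫ w.hom := congrArg (fun f => f.hom) he2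
  have HVX : IsUnivFOThick (ψ.hom ≫ w.hom) iV.hom (hV'.hom ≫ w.hom) :=
    Groth.Agent.Lib.Helper9.AlgSpFE.isUnivFOThick_comp_formallyEtale _ _ _ _ HV hwfe
  refine (isEtaleMor_iff_locP_etale V'.property Z'.property).2 ?_
  intro A' B' a b s'' ha hb hab
  -- pull back the thickenings to the charts
  have hiZ : RepWith thick iZ.hom := HZ.1.1
  have hiV : RepWith thick iV.hom := HV.1.1
  let B : Over S := hiZ.rep.pullback b
  let iB : B ⟶ B' := hiZ.rep.snd b
  let bZ : (yon S).obj B ⟶ Z.obj := hiZ.rep.fst b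
  have sqB : IsPullback bZ ((yon S).map iB) iZ.hom b := hiZ.rep.isPullback b
  let A : Over S := hiV.rep.pullback a
  let iA : A ⟶ A' := hiV.rep.snd a
  let aV : (yon S).obj A ⟶ V.obj := hiV.rep.fst a
  have sqA : IsPullback aV ((yon S).map iA) iV.hom a := hiV.rep.isPullback a
  have HB : IsUnivFOThick (bZ ≫ h.hom) ((yon S).map iB) (b ≫ hZ'.hom) :=
    UnivEtLoc.isUnivFOThick_of_etale_pullback bZ h.hom iZ.hom hZ'.hom HZ _ b
      (isEtaleMor_of_repWith_etale hb) (AlgSpFormal.isFormallyEtaleMor_of_repWith_etale _ hb) sqB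
  have HA : IsUnivFOThick (aV ≫ ψ.hom ≫ w.hom) ((yon S).map iA) (a ≫ hV'.hom ≫ w.hom) :=
    UnivEtLoc.isUnivFOThick_of_etale_pullback aV _ iV.hom _ HVX _ a
      (isEtaleMor_of_repWith_etale ha) (AlgSpFormal.isFormallyEtaleMor_of_repWith_etale _ ha) sqA
  -- the map `s : A ⟶ B`
  have hcomm : (aV ≫ v.hom) ≫ iZ.hom = (yon S).map (iA ≫ s'') ≫ b := by
    rw [Functor.map_comp, Category.assoc, Category.assoc, ← hab, ← Category.assoc (f := (yon S).map iA),
      ← sqA.w, Category.assoc, he1']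
  obtain ⟨ssh, hs1', hs2'⟩ : ∃ ρ : (yon S).obj A ⟶ (yon S).obj B,
      ρ ≫ bZ = aV ≫ v.hom ∧ ρ ≫ (yon S).map iB = (yon S).map (iA ≫ s'') :=
    ⟨sqB.lift _ _ hcomm, sqB.lift_fst _ _ _, sqB.lift_snd _ _ _⟩
  obtain ⟨s, rfl⟩ := (yon S).map_surjective ssh
  have hs2 : iA ≫ s'' = s ≫ iB := by
    apply (yon S).map_injective
    rw [(yon S).map_comp s iB]
    exact hs2'.symm
  have haVe : RepWith @Etale aV := (RepWith @Etale.{u}).of_isPullback sqA.flip ha
  have hbZe : RepWith @Etale bZ := (RepWith @Etale.{u}).of_isPullback sqB.flip hb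
  have hse : Etale s.left := locP_etale_of_isEtaleMor hv aV bZ s haVe hbZe hs1'.symm
  have HA' : IsUnivFOThick ((yon S).map s ≫ bZ ≫ h.hom) ((yon S).map iA) (a ≫ hV'.hom ≫ w.hom) := by
    rw [← Category.assoc, hs1', Category.assoc, ← c']
    exact HA
  refine UnivEtLoc.etale_of_isUnivFOThick (bZ ≫ h.hom) s hse iA _ HA' iB _ HB s'' hs2 ?_
  rw [← Category.assoc, ← hab, Category.assoc, he2']

end W1
end H


/-- Take a formally unramified morphism h : Z ⟶ X of algebraic spaces over S with universal first order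
thickening (iZ : Z ⟶ Z', hZ' : Z' ⟶ X). Let v : V ⟶ Z and w : U ⟶ X be etale morphisms of algebraic
spaces and ψ : V ⟶ U with ψ ≫ w = v ≫ h. Then ψ is formally unramified, and for a universal first
order thickening (iV : V ⟶ V', hV' : V' ⟶ U) of V over U, every e' : V' ⟶ Z' with iV ≫ e' = v ≫ iZ
and e' ≫ hZ' = hV' ≫ w (there is exactly one) is etale. (The published statement also identifies the
conormal sheaf of V over U with the restriction of that of Z over X; this row omits that clause.) -/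
theorem result {S : Scheme.{u}} {Z X Z' V U V' : AlgSp.Space S} (h : Z ⟶ X)
    (hh : AlgSp.IsFormallyUnramifiedMor h.hom) (iZ : Z ⟶ Z') (hZ' : Z' ⟶ X) (HZ : AlgSp.IsUnivFOThick h.hom iZ.hom hZ'.hom)
    (v : V ⟶ Z) (w : U ⟶ X) (hv : AlgSp.IsEtaleMor v.hom) (hw : AlgSp.IsEtaleMor w.hom) (ψ : V ⟶ U)
    (c : ψ ≫ w = v ≫ h) :
    AlgSp.IsFormallyUnramifiedMor ψ.hom ∧
    ∀ (iV : V ⟶ V') (hV' : V' ⟶ U), AlgSp.IsUnivFOThick ψ.hom iV.hom hV'.hom →
      ∀ e' : V' ⟶ Z', iV ≫ e' = v ≫ iZ → e' ≫ hZ' = hV' ≫ w → AlgSp.IsEtaleMor e'.hom := by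
  exact W1.main h hh iZ hZ' HZ v w hv hw ψ c

end Groth.Agent.S10638
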