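import Groth.Statements.S10639
import Groth.Agent.Lib.Helper15.AlgSpLocus
import Groth.Agent.S10312
-- import your own Groth.Agent.* helpers here

set_option autoImplicit false
universe u
open CategoryTheory CategoryTheory.Limits AlgebraicGeometry
open AlgSp

namespace Groth.Agent.S10639

section H
namespace W1
open Groth.Agent.Lib.Helper3 Groth.Agent.Lib.Helper15
set_option backward.isDefEq.respectTransparency.types false

variable {S : Scheme.{u}}

theorem main {X Y Z : AlgSp.Space S}
    (f : X ⟶ Y) (p : X ⟶ Z) (q : Y ⟶ Z) (hc : f ≫ q = p)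
    (hp1 : AlgSp.LocP @LocallyOfFiniteType p.hom) (hp2 : AlgSp.IsClosedMor p.hom) :
    ∃ (W : AlgSp.Space S) (w : W ⟶ Z), AlgSp.RepWith @IsOpenImmersion w.hom ∧
      ∀ (Z' : AlgSp.Space S) (g : Z' ⟶ Z),
        (∃ k : Z' ⟶ W, k ≫ w = g) ↔
          ∀ (Y' : AlgSp.Space S) (gY : Y' ⟶ Y) (q' : Y' ⟶ Z'),
            IsPullback gY.hom q'.hom q.hom g.hom →
            ∀ (X' : AlgSp.Space S) (gX : X' ⟶ X) (f' : X' ⟶ Y'),
              IsPullback gX.hom f'.hom f.hom gY.hom →
                AlgSp.LocP (@LocallyOfFiniteType ⊓ @FormallyUnramified) f'.hom := by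
  subst hc
  have hP := isEtLocal_unramified.{u}
  have hft : LocP @LocallyOfFiniteType f.hom := by
    obtain ⟨U', V', W', a', b', c', h', l', ha'e, ha's, hb'e, hc'e, wh', wl'⟩ :=
      AlgSpDeform.exists_charts3 f q
    have wcomp : a' ≫ (f ≫ q).hom = (yon S).map (h' ≫ l') ≫ c' := by
      show a' ≫ f.hom ≫ q.hom = _
      rw [← Category.assoc, wh', Category.assoc, wl', Functor.map_comp, Category.assoc]
    haveI : LocallyOfFiniteType (h'.left ≫ l'.left) := hp1 a' c' (h' ≫ l') ha'e hc'e wcomp
    exact locP_of_chart isEtLocal_locallyOfFiniteType f.hom a' ha'e ha's b' hb'e h' wh'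
      (locallyOfFiniteType_of_comp h'.left l'.left)
  -- the unramified locus and its closed complement
  set 𝒰 : Set (Points X.obj) :=
    {x | HasAtMor (NbhdQ (@LocallyOfFiniteType ⊓ @FormallyUnramified)) f.hom x} with h𝒰
  have h𝒰o : IsOpen 𝒰 := AlgSpLocus.isOpen_hasAtMor hP X.property Y.property f.hom
  have hCc : IsClosed (Points.map (f ≫ q).hom '' 𝒰ᶜ) := hp2 _ h𝒰o.isClosed_compl
  set Ω : Set (Points Z.obj) := (Points.map (f ≫ q).hom '' 𝒰ᶜ)ᶜ with hΩ
  have hΩo : IsOpen Ω := hCc.isOpen_compl
  have hw := repWith_isOpenImmersion_openSubι Z.obj Ω hΩo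
  refine ⟨⟨openSub Z.obj Ω, isAlgSpace_openSub Z.property Ω hΩo⟩,
    ObjectProperty.homMk (openSubι Z.obj Ω), hw, fun Z' g => ⟨?_, ?_⟩⟩
  · rintro ⟨k, rfl⟩ Y' gY q' sq1 X' gX f' sq2
    refine locP_of_forall_hasAtMor hP X'.property Y'.property f'.hom fun x' => ?_
    refine AlgSpLocus.hasAtMor_of_isPullback hP X.property Y.property Y'.property X'.property
      f.hom gY.hom gX.hom f'.hom sq2 x' ?_
    by_contra hx
    have h1 : Points.map (f ≫ q).hom (Points.map gX.hom x') ∈ Points.map (f ≫ q).hom '' 𝒰ᶜ :=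
      ⟨_, hx, rfl⟩
    have h2 : Points.map (f ≫ q).hom (Points.map gX.hom x') =
        Points.map (openSubι Z.obj Ω) (Points.map k.hom (Points.map q'.hom (Points.map f'.hom x'))) := by
      have e1 : gX.hom ≫ (f ≫ q).hom = f'.hom ≫ q'.hom ≫ k.hom ≫ openSubι Z.obj Ω := by
        show gX.hom ≫ f.hom ≫ q.hom = _
        rw [← Category.assoc, sq2.w, Category.assoc, sq1.w]
        rfl
      rw [← Points.map_comp, e1, Points.map_comp, Points.map_comp, Points.map_comp]
    have h3 : Points.map (openSubι Z.obj Ω)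
        (Points.map k.hom (Points.map q'.hom (Points.map f'.hom x'))) ∈
        Set.range (Points.map (openSubι Z.obj Ω)) := ⟨_, rfl⟩
    rw [range_map_openSubι] at h3
    rw [← h2] at h3
    exact h3 h1
  · intro H
    have hsub : Set.range (Points.map g.hom) ⊆ Set.range (Points.map (openSubι Z.obj Ω)) := by
      rw [range_map_openSubι]
      rintro _ ⟨z', rfl⟩ ⟨x, hx, hxz⟩
      -- the base changes
      have sq1 := IsPullback.of_hasPullback q.hom g.hom
      have hY' : IsAlgSpace (pullback q.hom g.hom) :=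
        isAlgSpace_of_isPullback' Z.property Y.property Z'.property sq1
      have sq2 := IsPullback.of_hasPullback f.hom (pullback.fst q.hom g.hom)
      have hX' : IsAlgSpace (pullback f.hom (pullback.fst q.hom g.hom)) :=
        isAlgSpace_of_isPullback' Y.property X.property hY' sq2
      have hloc := H ⟨_, hY'⟩ (ObjectProperty.homMk (pullback.fst q.hom g.hom))
        (ObjectProperty.homMk (pullback.snd q.hom g.hom)) sq1 ⟨_, hX'⟩
        (ObjectProperty.homMk (pullback.fst f.hom (pullback.fst q.hom g.hom)))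
        (ObjectProperty.homMk (pullback.snd f.hom (pullback.fst q.hom g.hom))) sq2
      have big : IsPullback (pullback.fst f.hom (pullback.fst q.hom g.hom))
          (pullback.snd f.hom (pullback.fst q.hom g.hom) ≫ pullback.snd q.hom g.hom)
          (f.hom ≫ q.hom) g.hom := sq2.paste_vert sq1
      obtain ⟨x', hx'1, -⟩ := Points.exists_of_isPullback big x z' hxz
      have h4 := hasAtMor_of_locP hP hX' hY' _ hloc x'
      have h5 := AlgSpLocus.hasAtMor_of_hasAtMor_baseChange hP X.property Y.property hY' hX'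
        f.hom _ _ _ sq2 @LocallyOfFiniteType hft
        (fun h k p₁ p₂ sq hh u'' H => Groth.Agent.S10312.W1.unram_desc h k p₁ p₂ sq hh u'' H) x' h4
      rw [hx'1] at h5
      exact hx h5
    obtain ⟨t, ht⟩ := exists_factor_of_range_subset (openSubι Z.obj Ω) hw g.hom hsub
    exact ⟨ObjectProperty.homMk t, by ext1; exact ht⟩

end W1
end H


/-- For morphisms f : X ⟶ Y, p : X ⟶ Z and q : Y ⟶ Z of algebraic spaces over S with f ≫ q = p, where p
is closed (the map on points is closed) and locally of finite type, there is an open subspace W of Z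
with the following property: a morphism of algebraic spaces g : Z' ⟶ Z factors through W exactly
when the base change X' ⟶ Y' of f along g is unramified (locally of finite type and formally
unramified, etale locally on source and target). Here the base change of f along g is any f' : X' ⟶
Y' obtained from pullback squares Y' = Y ×_Z Z' and X' = X ×_Y Y' of algebraic spaces over S, and W
⊂ Z is given as a representable open immersion w : W ⟶ Z. -/
theorem result {S : Scheme.{u}} {X Y Z : AlgSp.Space S}
    (f : X ⟶ Y) (p : X ⟶ Z) (q : Y ⟶ Z) (hc : f ≫ q = p)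
    (hp1 : AlgSp.LocP @LocallyOfFiniteType p.hom) (hp2 : AlgSp.IsClosedMor p.hom) :
    ∃ (W : AlgSp.Space S) (w : W ⟶ Z), AlgSp.RepWith @IsOpenImmersion w.hom ∧
      ∀ (Z' : AlgSp.Space S) (g : Z' ⟶ Z),
        (∃ k : Z' ⟶ W, k ≫ w = g) ↔
          ∀ (Y' : AlgSp.Space S) (gY : Y' ⟶ Y) (q' : Y' ⟶ Z'),
            IsPullback gY.hom q'.hom q.hom g.hom →
            ∀ (X' : AlgSp.Space S) (gX : X' ⟶ X) (f' : X' ⟶ Y'),
              IsPullback gX.hom f'.hom f.hom gY.hom →
                AlgSp.LocP (@LocallyOfFiniteType ⊓ @FormallyUnramified) f'.hom := by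
  exact W1.main f p q hc hp1 hp2

end Groth.Agent.S10639
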