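import Groth.Statements.S1064
import Groth.Agent.Lib.Helper16.LocFree4
import Groth.Agent.Lib.Helper16.LocFree5

set_option autoImplicit false
universe u
open CategoryTheory CategoryTheory.Limits AlgebraicGeometry Opposite
attribute [local instance] HasDerivedCategory.standard
open Perf

namespace Groth.Agent.S1064

open Groth.Agent.Lib.Helper16 Groth.Agent.Lib.Helper16.RS Groth.Agent.Lib.Helper16.Stk
  Groth.Agent.Lib.Helper16.KD Groth.Agent.Lib.Helper16.LocFree DerivedCategory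

variable {X : Scheme.{u}}

/-- the local models: `P₀` restricted along `k` is a finite locally free module of rank `r` placed
in degree `i`. -/
def Good (P₀ : CochainComplex X.Modules ℤ) (i : ℤ) (r : ℕ) (U : Scheme.{u}) (k : U ⟶ X)
    [IsOpenImmersion k] : Prop :=
  ∃ A : U.Modules, FlatMod.IsFinLocFreeOfRank r A ∧
    Nonempty (Q.obj ((RCx k).obj P₀) ≅ (singleFunctor U.Modules i).obj A)

/-- the locus where `P₀` is locally a finite locally free module of rank `r` placed in degree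
`i`. -/
def locus (P₀ : CochainComplex X.Modules ℤ) (i : ℤ) (r : ℕ) : Set X :=
  {x | ∃ (U : Scheme.{u}) (k : U ⟶ X) (_ : IsOpenImmersion k) (u : U), k u = x ∧ Good P₀ i r U k}

lemma isOpen_locus (P₀ : CochainComplex X.Modules ℤ) (i : ℤ) (r : ℕ) : IsOpen (locus P₀ i r) := by
  rw [isOpen_iff_forall_mem_open]
  rintro x ⟨U, k, hk, u, rfl, hG⟩
  refine ⟨Set.range k, ?_, k.isOpenEmbedding.isOpen_range, ⟨u, rfl⟩⟩
  rintro _ ⟨u', rfl⟩
  exact ⟨U, k, hk, u', rfl, hG⟩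

lemma isFinLocFreeOfRank_freeMod (T : Scheme.{u}) (r : ℕ) :
    FlatMod.IsFinLocFreeOfRank r (FlatMod.freeMod T r) :=
  fun _ => ⟨⊤, trivial, ⟨restrictFreeModIso _ r⟩⟩

/-- from the locus to the pullback. -/
theorem forward {Y : Scheme.{u}} (f : Y ⟶ X) (P₀ : CochainComplex X.Modules ℤ)
    (hP₀ : DCoh.IsKFlat P₀) (i : ℤ) (r : ℕ) (hf : Set.range f ⊆ locus P₀ i r) :
    ∃ V : Y.Modules, FlatMod.IsFinLocFreeOfRank r V ∧
      Nonempty (Q.obj ((pullCx f).obj P₀) ≅ (singleFunctor Y.Modules i).obj V) := by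
  let K := (pullCx f).obj P₀
  have hloc : ∀ y : Y, ∃ (Y' : Scheme.{u}) (j' : Y' ⟶ Y) (_ : IsOpenImmersion j') (y' : Y'),
      j' y' = y ∧ ∃ A' : Y'.Modules, FlatMod.IsFinLocFreeOfRank r A' ∧
        Nonempty (Q.obj ((RCx j').obj K) ≅ (singleFunctor Y'.Modules i).obj A') := by
    intro y
    obtain ⟨U, k, hk, u, hu, A, hA, ⟨e⟩⟩ := hf ⟨y, rfl⟩
    let Y'o : Y.Opens := f ⁻¹ᵁ k.opensRange
    have hy : y ∈ Y'o := ⟨u, hu⟩
    have hrange : Set.range (Y'o.ι ≫ f) ⊆ Set.range k := by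
      rintro _ ⟨z, rfl⟩
      exact z.2
    let g : (Y'o : Scheme.{u}) ⟶ U := IsOpenImmersion.lift k (Y'o.ι ≫ f) hrange
    have hg : Y'o.ι ≫ f = g ≫ k := (IsOpenImmersion.lift_fac _ _ _).symm
    obtain ⟨e'⟩ := nonempty_iso_single_pullback f k P₀ hP₀ i A
      (isFlat_of_isFinLocFree _ (isFinLocFree_of_isFinLocFreeOfRank hA)) e Y'o.ι g hg
    exact ⟨Y'o, Y'o.ι, inferInstance, ⟨y, hy⟩, rfl, _, isFinLocFreeOfRank_pullback g A hA, ⟨e'⟩⟩
  have hH : ∀ (n : ℤ) (Y' : Scheme.{u}) (j' : Y' ⟶ Y) [IsOpenImmersion j'] (A' : Y'.Modules)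
      (_ : Q.obj ((RCx j').obj K) ≅ (singleFunctor Y'.Modules i).obj A'),
      Nonempty ((Scheme.Modules.restrictFunctor j').obj (K.homology n) ≅
        (homologyFunctor Y'.Modules n).obj ((singleFunctor Y'.Modules i).obj A')) :=
    fun n Y' j' _ A' e => ⟨(homologyRCxIso j' K n).symm ≪≫
      ((homologyFunctorFactors Y'.Modules n).app _).symm ≪≫
      (homologyFunctor Y'.Modules n).mapIso e⟩
  have hex : ∀ n : ℤ, n ≠ i → K.ExactAt n := by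
    intro n hn
    rw [HomologicalComplex.exactAt_iff_isZero_homology]
    apply isZero_of_locally
    intro y
    obtain ⟨Y', j', hj', y', hy', A', hA', ⟨e⟩⟩ := hloc y
    obtain ⟨e2⟩ := hH n Y' j' A' e
    refine ⟨Y', j', hj', y', hy', IsZero.of_iso ?_ e2⟩
    rcases lt_or_gt_of_ne hn with h | h
    · exact isZero_of_isGE _ i n h
    · exact isZero_of_isLE _ i n h
  obtain ⟨e⟩ := nonempty_iso_single K i hex
  refine ⟨K.homology i, ?_, ⟨e⟩⟩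
  apply isFinLocFreeOfRank_of_locally
  intro y
  obtain ⟨Y', j', hj', y', hy', A', hA', ⟨e'⟩⟩ := hloc y
  obtain ⟨e2⟩ := hH i Y' j' A' e'
  refine ⟨Y', j', hj', y', hy', isFinLocFreeOfRank_of_iso ?_ hA'⟩
  exact ((singleFunctorCompHomologyFunctorIso Y'.Modules i).app A').symm ≪≫ e2.symm

/-- from the pullback to the locus. -/
theorem backward (E : DCoh.D X) (hE : DCoh.IsPerfect E) (P₀ : CochainComplex X.Modules ℤ)
    (hP₀ : DCoh.IsKFlat P₀) (e₁ : Q.obj P₀ ≅ E) (i : ℤ) (r : ℕ) {Y : Scheme.{u}} (f : Y ⟶ X)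
    (V : Y.Modules) (hV : FlatMod.IsFinLocFreeOfRank r V)
    (eV : Q.obj ((pullCx f).obj P₀) ≅ (singleFunctor Y.Modules i).obj V) (y : Y) :
    f y ∈ locus P₀ i r := by
  -- a strictly perfect local model
  obtain ⟨V₀, hxV₀, hV₀⟩ := hE (f y)
  obtain ⟨E₀, hE₀, ⟨eE₀⟩⟩ := hV₀ P₀ ⟨e₁⟩
  have eE₀' : Q.obj ((RCx V₀.ι).obj P₀) ≅ Q.obj E₀ := eE₀
  let Y₀ : Y.Opens := f ⁻¹ᵁ V₀
  let y₀ : (Y₀ : Scheme.{u}) := ⟨y, hxV₀⟩
  let g₀ : (Y₀ : Scheme.{u}) ⟶ (V₀ : Scheme.{u}) := f ∣_ V₀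
  let x₀ : (V₀ : Scheme.{u}) := g₀ y₀
  have hsq : Y₀.ι ≫ f = g₀ ≫ V₀.ι := (morphismRestrict_ι f V₀).symm
  haveI : DCoh.HasLpull g₀ := hasLpull g₀
  have hE₀K : DCoh.IsKFlat E₀ := isKFlat_of_isStrictlyPerfect E₀ hE₀
  have hPV : DCoh.IsKFlat ((RCx V₀.ι).obj P₀) := isKFlat_RCx V₀.ι P₀ hP₀
  have hVfl : FlatMod.IsFlat V := isFlat_of_isFinLocFree _ (isFinLocFree_of_isFinLocFreeOfRank hV)
  let V' : (Y₀ : Scheme.{u}).Modules := (Scheme.Modules.restrictFunctor Y₀.ι).obj V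
  have hV'fl : FlatMod.IsFlat V' := isFlat_of_isFinLocFree _
    (isFinLocFree_restrict Y₀.ι V (isFinLocFree_of_isFinLocFreeOfRank hV))
  have total : DCoh.toD _ ((pullCx g₀).obj E₀) ≅ DCoh.toD _ (sglAt i V') :=
    (LpullIso g₀ E₀ hE₀K).symm ≪≫ (DCoh.Lpull g₀).mapIso eE₀'.symm ≪≫ LpullIso g₀ _ hPV ≪≫
      Q.mapIso ((pullCxRCxIso f Y₀.ι V₀.ι g₀ hsq).app P₀).symm ≪≫ (RDQIso Y₀.ι _).symm ≪≫
      (RD Y₀.ι).mapIso eV ≪≫ RDSingleIso Y₀.ι i V ≪≫ singleQIso i V'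
  -- the stalk at `y₀`
  have hst : DRing.HasTorAmplitudeIn ((Y₀ : Scheme.{u}).presheaf.stalk y₀) i i
      (DRing.toD (stkCx y₀ ((pullCx g₀).obj E₀))) :=
    TorAmp.hasTorAmplitudeIn_of_iso (Groth.Agent.S6200.stkIsoOfIso y₀ total).symm i i
      (stalk_torAmp_sglAt i V' hV'fl y₀)
  have hst' : DRing.HasTorAmplitudeIn ((Y₀ : Scheme.{u}).presheaf.stalk y₀) i i
      (DRing.toD ((TorLoc.extCx (φs g₀ y₀)).obj (stkCx x₀ E₀))) :=
    TorAmp.hasTorAmplitudeIn_of_iso (Q.mapIso (pullbackStkCxIso g₀ y₀ E₀)) i i hst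
  -- descent to the stalk at `x₀`
  obtain ⟨⟨a, b, hab⟩, hfree⟩ := id hE₀
  letI : Algebra ((V₀ : Scheme.{u}).presheaf.stalk x₀) ((Y₀ : Scheme.{u}).presheaf.stalk y₀) :=
    (φs g₀ y₀).toAlgebra
  haveI : IsLocalHom (algebraMap ((V₀ : Scheme.{u}).presheaf.stalk x₀)
      ((Y₀ : Scheme.{u}).presheaf.stalk y₀)) :=
    (inferInstance : IsLocalHom (g₀.stalkMap y₀).hom)
  have hx₀ : DRing.HasTorAmplitudeIn ((V₀ : Scheme.{u}).presheaf.stalk x₀) i i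
      (DRing.toD (stkCx x₀ E₀)) :=
    torAmp_of_extCx_local (stkCx x₀ E₀) b
      (fun k hk => (stk x₀).map_isZero (hab k (Or.inr hk)))
      (termwiseFiniteFree_stkCx E₀ hE₀ x₀) i i hst'
  -- the local structure
  obtain ⟨U, j, hj, u, hu, A, hA, ⟨eA⟩⟩ := exists_nhd_single E₀ hE₀ i x₀ hx₀
  obtain ⟨T, n, huT, ⟨eT⟩⟩ := hA u
  let k : (T : Scheme.{u}) ⟶ X := (T.ι ≫ j) ≫ V₀.ι
  let t : (T : Scheme.{u}) := ⟨u, huT⟩
  have hkt : k t = f y := by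
    change V₀.ι (j u) = f y
    rw [hu]
    change (g₀ ≫ V₀.ι) y₀ = f y
    rw [← hsq]
    rfl
  have btotal : Q.obj ((RCx k).obj P₀) ≅ (singleFunctor (T : Scheme.{u}).Modules i).obj
      (FlatMod.freeMod (T : Scheme.{u}) n) :=
    (QRCxCompIso V₀.ι (T.ι ≫ j) P₀).symm ≪≫ (nonempty_iso_Q_RCx (T.ι ≫ j) eE₀').some ≪≫
      (QRCxCompIso j T.ι E₀).symm ≪≫ (RDQIso T.ι _).symm ≪≫ (RD T.ι).mapIso eA ≪≫
      RDSingleIso T.ι i A ≪≫ (singleFunctor _ i).mapIso eT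
  -- the rank
  have hn : n = r := by
    let Yk : Y.Opens := f ⁻¹ᵁ k.opensRange
    have hyk : y ∈ Yk := ⟨t, hkt⟩
    have hrange : Set.range (Yk.ι ≫ f) ⊆ Set.range k := by
      rintro _ ⟨z, rfl⟩
      exact z.2
    let gk : (Yk : Scheme.{u}) ⟶ (T : Scheme.{u}) := IsOpenImmersion.lift k (Yk.ι ≫ f) hrange
    have hgk : Yk.ι ≫ f = gk ≫ k := (IsOpenImmersion.lift_fac _ _ _).symm
    obtain ⟨c1⟩ := nonempty_iso_single_pullback f k P₀ hP₀ i (FlatMod.freeMod (T : Scheme.{u}) n)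
      (isFlat_of_isFinLocFree _ (isFinLocFree_freeMod n)) btotal Yk.ι gk hgk
    have c2 : Q.obj ((RCx Yk.ι).obj ((pullCx f).obj P₀)) ≅
        (singleFunctor (Yk : Scheme.{u}).Modules i).obj
          ((Scheme.Modules.restrictFunctor Yk.ι).obj V) :=
      (RDQIso Yk.ι _).symm ≪≫ (RD Yk.ι).mapIso eV ≪≫ RDSingleIso Yk.ι i V
    have eW : FlatMod.freeMod (Yk : Scheme.{u}) n ≅ (Scheme.Modules.restrictFunctor Yk.ι).obj V :=
      (pullbackFreeModIso gk n).symm ≪≫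
        ((singleFunctorCompHomologyFunctorIso (Yk : Scheme.{u}).Modules i).app _).symm ≪≫
        (homologyFunctor (Yk : Scheme.{u}).Modules i).mapIso (c1.symm ≪≫ c2) ≪≫
        (singleFunctorCompHomologyFunctorIso (Yk : Scheme.{u}).Modules i).app _
    obtain ⟨T', hT', ⟨eT'⟩⟩ := isFinLocFreeOfRank_restrict Yk.ι V hV ⟨y, hyk⟩
    exact rank_eq_of_iso_freeMod (T' : Scheme.{u}) ⟨⟨y, hyk⟩, hT'⟩ n r
      ((restrictFreeModIso T'.ι n).symm ≪≫ (Scheme.Modules.restrictFunctor T'.ι).mapIso eW ≪≫ eT')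
  subst hn
  exact ⟨T, k, inferInstance, t, hkt, FlatMod.freeMod (T : Scheme.{u}) n,
    isFinLocFreeOfRank_freeMod _ n, ⟨btotal⟩⟩

/-- Let E be a perfect object of D(O_X), i ∈ ℤ and r ∈ ℕ. There is an open subset U ⊆ X such that for
every morphism f : Y ⟶ X whose derived pullback Lf^* exists, f has its image inside U exactly when
Lf^*E is isomorphic in D(O_Y) to a finite locally free O_Y-module of rank r placed in degree i. -/
theorem result (X : Scheme.{u}) (E : DCoh.D X) (hE : DCoh.IsPerfect E) (i : ℤ) (r : ℕ) :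
    ∃ U : X.Opens, ∀ (Y : Scheme.{u}) (f : Y ⟶ X) [DCoh.HasLpull f],
      Set.range f.base ⊆ (U : Set X) ↔
        ∃ V : Y.Modules, FlatMod.IsFinLocFreeOfRank r V ∧ Nonempty ((DCoh.Lpull f).obj E ≅ (DCoh.inD Y V)⟦-i⟧) := by
  -- a K-flat representative of `E`
  obtain ⟨P₀, p, hP₀, -, hp, -⟩ :=
    Groth.Agent.Lib.Helper16.Stk.exists_kFlat_resolution (DerivedCategory.Q.objPreimage E)
  haveI := hp
  have e₁ : DerivedCategory.Q.obj P₀ ≅ E :=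
    asIso (DerivedCategory.Q.map p) ≪≫ DerivedCategory.Q.objObjPreimageIso E
  refine ⟨⟨locus P₀ i r, isOpen_locus P₀ i r⟩, fun Y f _ => ⟨fun hf => ?_, ?_⟩⟩
  · obtain ⟨V, hV, ⟨e⟩⟩ := forward f P₀ hP₀ i r hf
    exact ⟨V, hV, ⟨(DCoh.Lpull f).mapIso e₁.symm ≪≫ LpullIso f P₀ hP₀ ≪≫ e ≪≫
      (((DerivedCategory.singleFunctors Y.Modules).shiftIso (-i) i 0 (by omega)).app V).symm⟩⟩
  · rintro ⟨V, hV, ⟨eV⟩⟩ _ ⟨y, rfl⟩
    exact backward E hE P₀ hP₀ e₁ i r f V hV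
      ((LpullIso f P₀ hP₀).symm ≪≫ (DCoh.Lpull f).mapIso e₁ ≪≫ eV ≪≫
        ((DerivedCategory.singleFunctors Y.Modules).shiftIso (-i) i 0 (by omega)).app V) y

end Groth.Agent.S1064
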