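import Groth.Statements.S10640
import Groth.Agent.Lib.Helper15.AlgSpDiagOpen
import Groth.Agent.S10312
import Groth.Agent.S9938
-- import your own Groth.Agent.* helpers here

set_option autoImplicit false
universe u
open CategoryTheory CategoryTheory.Limits AlgebraicGeometry
open AlgSp

namespace Groth.Agent.S10640

section H
namespace W1
open Groth.Agent.Lib.Helper3 Groth.Agent.Lib.Helper15
set_option backward.isDefEq.respectTransparency.types false

variable {S : Scheme.{u}}

theorem main {X Y Z : AlgSp.Space S}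
    (f : X ⟶ Y) (p : X ⟶ Z) (q : Y ⟶ Z) (hc : f ≫ q = p)
    (XX : AlgSp.Space S) (pr0 pr1 : XX ⟶ X) (hXX : IsPullback pr0.hom pr1.hom f.hom f.hom)
    (hp1 : AlgSp.LocP @LocallyOfFiniteType p.hom) (hp2 : AlgSp.IsClosedMor p.hom)
    (hp3 : AlgSp.IsClosedMor (pr1 ≫ p).hom) :
    ∃ (W : AlgSp.Space S) (w : W ⟶ Z), AlgSp.RepWith @IsOpenImmersion w.hom ∧
      ∀ (Z' : AlgSp.Space S) (g : Z' ⟶ Z),
        (∃ k : Z' ⟶ W, k ≫ w = g) ↔
          ∀ (Y' : AlgSp.Space S) (gY : Y' ⟶ Y) (q' : Y' ⟶ Z'),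
            IsPullback gY.hom q'.hom q.hom g.hom →
            ∀ (X' : AlgSp.Space S) (gX : X' ⟶ X) (f' : X' ⟶ Y'),
              IsPullback gX.hom f'.hom f.hom gY.hom →
                (AlgSp.LocP (@LocallyOfFiniteType ⊓ @FormallyUnramified) f'.hom ∧
                  AlgSp.IsUnivInjectiveMor f'.hom) := by
  subst hc
  have hP := isEtLocal_unramified.{u}
  have hft : LocP @LocallyOfFiniteType f.hom := by
    obtain ⟨U', V', W', a', b', c', h', l', ha'e, ha's, hb'e, hc'e, wh', wl'⟩ :=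
      AlgSpDeform.exists_charts3 f q
    have wcomp : a' ≫ (f ≫ q).hom = (yon S).map (h' ≫ l') ≫ c' := by
      show a' ≫ f.hom ≫ q.hom = _
      rw [← Category.assoc, wh', Category.assoc, wl', Functor.map_comp, Category.assoc]
    haveI : LocallyOfFiniteType (h'.left ≫ l'.left) := hp1 a' c' (h' ≫ l') ha'e hc'e wcomp
    exact locP_of_chart isEtLocal_locallyOfFiniteType f.hom a' ha'e ha's b' hb'e h' wh'
      (locallyOfFiniteType_of_comp h'.left l'.left)
  -- the unramified locus and its closed complement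
  set 𝒰 : Set (Points X.obj) :=
    {x | HasAtMor (NbhdQ (@LocallyOfFiniteType ⊓ @FormallyUnramified)) f.hom x} with h𝒰
  have h𝒰o : IsOpen 𝒰 := AlgSpLocus.isOpen_hasAtMor hP X.property Y.property f.hom
  have hCc : IsClosed (Points.map (f ≫ q).hom '' 𝒰ᶜ) := hp2 _ h𝒰o.isClosed_compl
  set Ω₁ : Set (Points Z.obj) := (Points.map (f ≫ q).hom '' 𝒰ᶜ)ᶜ with hΩ₁
  have hΩ₁o : IsOpen Ω₁ := hCc.isOpen_compl
  -- the diagonal
  let Δ : X.obj ⟶ XX.obj := hXX.lift (𝟙 _) (𝟙 _) rfl
  have hΔ0 : Δ ≫ pr0.hom = 𝟙 _ := hXX.lift_fst _ _ _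
  have hΔ1 : Δ ≫ pr1.hom = 𝟙 _ := hXX.lift_snd _ _ _
  set Ω₀ : Set (Points X.obj) := Points.map (f ≫ q).hom ⁻¹' Ω₁ with hΩ₀
  have hΩ₀o : IsOpen Ω₀ := hΩ₁o.preimage (Points.continuous_map _)
  have hΩ₀𝒰 : ∀ x ∈ Ω₀, x ∈ 𝒰 := fun x hx => by
    by_contra h
    exact hx ⟨x, h, rfl⟩
  have hD₁o : IsOpen (Points.map Δ '' Ω₀) :=
    AlgSpDiagOpen.isOpen_image_diag X.property Y.property f.hom hXX Δ hΔ0 hΔ1 Ω₀ hΩ₀o hΩ₀𝒰
  have hπC : IsClosed (Points.map (pr1 ≫ f ≫ q).hom '' (Points.map Δ '' Ω₀)ᶜ) :=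
    hp3 _ hD₁o.isClosed_compl
  set Ω : Set (Points Z.obj) :=
    Ω₁ ∩ (Points.map (pr1 ≫ f ≫ q).hom '' (Points.map Δ '' Ω₀)ᶜ)ᶜ with hΩ
  have hΩo : IsOpen Ω := hΩ₁o.inter hπC.isOpen_compl
  have hw := repWith_isOpenImmersion_openSubι Z.obj Ω hΩo
  have hΔπ : Δ ≫ (pr1 ≫ f ≫ q).hom = (f ≫ q).hom := by
    show Δ ≫ pr1.hom ≫ (f ≫ q).hom = _
    rw [← Category.assoc, hΔ1, Category.id_comp]
  refine ⟨⟨openSub Z.obj Ω, isAlgSpace_openSub Z.property Ω hΩo⟩,
    ObjectProperty.homMk (openSubι Z.obj Ω), hw, fun Z' g => ⟨?_, ?_⟩⟩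
  · rintro ⟨k, rfl⟩ Y' gY q' sq1 X' gX f' sq2
    have hmem : ∀ x' : Points X'.obj,
        Points.map (f ≫ q).hom (Points.map gX.hom x') ∈ Ω := by
      intro x'
      have h2 : Points.map (f ≫ q).hom (Points.map gX.hom x') =
          Points.map (openSubι Z.obj Ω)
            (Points.map k.hom (Points.map q'.hom (Points.map f'.hom x'))) := by
        have e1 : gX.hom ≫ (f ≫ q).hom = f'.hom ≫ q'.hom ≫ k.hom ≫ openSubι Z.obj Ω := by
          show gX.hom ≫ f.hom ≫ q.hom = _
          rw [← Category.assoc, sq2.w, Category.assoc, sq1.w]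
          rfl
        rw [← Points.map_comp, e1, Points.map_comp, Points.map_comp, Points.map_comp]
      have h3 : Points.map (openSubι Z.obj Ω)
          (Points.map k.hom (Points.map q'.hom (Points.map f'.hom x'))) ∈
          Set.range (Points.map (openSubι Z.obj Ω)) := ⟨_, rfl⟩
      rw [range_map_openSubι] at h3
      rwa [← h2] at h3
    refine ⟨?_, ?_⟩
    · refine locP_of_forall_hasAtMor hP X'.property Y'.property f'.hom fun x' => ?_
      refine AlgSpLocus.hasAtMor_of_isPullback hP X.property Y.property Y'.property X'.property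
        f.hom gY.hom gX.hom f'.hom sq2 x' ?_
      by_contra hx
      exact (hmem x').1 ⟨_, hx, rfl⟩
    · rw [(Groth.Agent.S9938.result f').2]
      intro ξ'
      let m' : pullback f'.hom f'.hom ⟶ XX.obj :=
        hXX.lift (pullback.fst _ _ ≫ gX.hom) (pullback.snd _ _ ≫ gX.hom)
          (by rw [Category.assoc, Category.assoc, sq2.w, ← Category.assoc, pullback.condition,
            Category.assoc])
      have h0 : m' ≫ pr0.hom = pullback.fst _ _ ≫ gX.hom := hXX.lift_fst _ _ _
      have h1 : m' ≫ pr1.hom = pullback.snd _ _ ≫ gX.hom := hXX.lift_snd _ _ _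
      have sqΔ := DiagBC.isPullback_diag sq2 hXX m' h0 h1 Δ hΔ0 hΔ1
      have hπ : Points.map (pr1 ≫ f ≫ q).hom (Points.map m' ξ') =
          Points.map (f ≫ q).hom (Points.map gX.hom
            (Points.map (pullback.snd f'.hom f'.hom) ξ')) := by
        have e1 : m' ≫ (pr1 ≫ f ≫ q).hom = pullback.snd f'.hom f'.hom ≫ gX.hom ≫ (f ≫ q).hom := by
          show m' ≫ pr1.hom ≫ (f ≫ q).hom = _
          rw [← Category.assoc, h1, Category.assoc]
        rw [← Points.map_comp, e1, Points.map_comp, Points.map_comp]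
      have hin := (hmem (Points.map (pullback.snd f'.hom f'.hom) ξ')).2
      rw [← hπ] at hin
      have hD : Points.map m' ξ' ∈ Points.map Δ '' Ω₀ := by
        by_contra h
        exact hin ⟨_, h, rfl⟩
      obtain ⟨x, -, hx⟩ := hD
      obtain ⟨x', hx', -⟩ := Points.exists_of_isPullback sqΔ ξ' x hx.symm
      exact ⟨x', hx'⟩
  · intro H
    have hsub : Set.range (Points.map g.hom) ⊆ Set.range (Points.map (openSubι Z.obj Ω)) := by
      rw [range_map_openSubι]
      rintro _ ⟨z', rfl⟩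
      -- the base changes
      have sq1 := IsPullback.of_hasPullback q.hom g.hom
      have hY' : IsAlgSpace (pullback q.hom g.hom) :=
        isAlgSpace_of_isPullback' Z.property Y.property Z'.property sq1
      have sq2 := IsPullback.of_hasPullback f.hom (pullback.fst q.hom g.hom)
      have hX' : IsAlgSpace (pullback f.hom (pullback.fst q.hom g.hom)) :=
        isAlgSpace_of_isPullback' Y.property X.property hY' sq2
      obtain ⟨hloc, hinj⟩ := H ⟨_, hY'⟩ (ObjectProperty.homMk (pullback.fst q.hom g.hom))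
        (ObjectProperty.homMk (pullback.snd q.hom g.hom)) sq1 ⟨_, hX'⟩
        (ObjectProperty.homMk (pullback.fst f.hom (pullback.fst q.hom g.hom)))
        (ObjectProperty.homMk (pullback.snd f.hom (pullback.fst q.hom g.hom))) sq2
      have big : IsPullback (pullback.fst f.hom (pullback.fst q.hom g.hom))
          (pullback.snd f.hom (pullback.fst q.hom g.hom) ≫ pullback.snd q.hom g.hom)
          (f.hom ≫ q.hom) g.hom := sq2.paste_vert sq1
      have hz1 : Points.map g.hom z' ∈ Ω₁ := by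
        rintro ⟨x, hx, hxz⟩
        obtain ⟨x', hx'1, -⟩ := Points.exists_of_isPullback big x z' hxz
        have h4 := hasAtMor_of_locP hP hX' hY' _ hloc x'
        have h5 := AlgSpLocus.hasAtMor_of_hasAtMor_baseChange hP X.property Y.property hY' hX'
          f.hom _ _ _ sq2 @LocallyOfFiniteType hft
          (fun h k p₁ p₂ sq hh u'' H => Groth.Agent.S10312.W1.unram_desc h k p₁ p₂ sq hh u'' H)
          x' h4
        rw [hx'1] at h5
        exact hx h5
      refine ⟨hz1, ?_⟩
      rintro ⟨ξ, hξ, hξz⟩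
      set f' := pullback.snd f.hom (pullback.fst q.hom g.hom) with hf'
      set gX := pullback.fst f.hom (pullback.fst q.hom g.hom) with hgX
      let m' : pullback f' f' ⟶ XX.obj :=
        hXX.lift (pullback.fst _ _ ≫ gX) (pullback.snd _ _ ≫ gX)
          (by rw [Category.assoc, Category.assoc, sq2.w, ← Category.assoc, pullback.condition,
            Category.assoc])
      have h0 : m' ≫ pr0.hom = pullback.fst _ _ ≫ gX := hXX.lift_fst _ _ _
      have h1 : m' ≫ pr1.hom = pullback.snd _ _ ≫ gX := hXX.lift_snd _ _ _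
      have sqΔ := DiagBC.isPullback_diag sq2 hXX m' h0 h1 Δ hΔ0 hΔ1
      have sqS := DiagBC.isPullback_snd sq2 hXX m' h0 h1
      have sqBig : IsPullback m' (pullback.snd f' f' ≫ f' ≫ pullback.snd q.hom g.hom)
          (pr1.hom ≫ f.hom ≫ q.hom) g.hom := sqS.paste_vert big
      obtain ⟨ξ', hξ'1, -⟩ := Points.exists_of_isPullback sqBig ξ z' hξz
      have hsurj : IsSurjectiveMor (pullback.diagonal f') :=
        (Groth.Agent.S9938.result (X := ⟨_, hX'⟩) (Y := ⟨_, hY'⟩)
          (ObjectProperty.homMk f')).2.1 hinj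
      obtain ⟨x', hx'⟩ := hsurj ξ'
      have hΔξ : Points.map Δ (Points.map gX x') = ξ := by
        rw [← hξ'1, ← hx', ← Points.map_comp, ← Points.map_comp, sqΔ.w]
      apply hξ
      refine ⟨Points.map gX x', ?_, hΔξ⟩
      show Points.map (f ≫ q).hom (Points.map gX x') ∈ Ω₁
      have e2 : Points.map (f ≫ q).hom (Points.map gX x') = Points.map g.hom z' := by
        rw [← hξz, ← hΔξ, ← Points.map_comp Δ, hΔπ]
      rw [e2]
      exact hz1
    obtain ⟨t, ht⟩ := exists_factor_of_range_subset (openSubι Z.obj Ω) hw g.hom hsub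
    exact ⟨ObjectProperty.homMk t, by ext1; exact ht⟩

end W1
end H


/-- For morphisms f : X ⟶ Y, p : X ⟶ Z and q : Y ⟶ Z of algebraic spaces over S with f ≫ q = p, write XX
= X ×_Y X with projections pr0, pr1, and assume that p is closed and locally of finite type and that
the composite XX ⟶ X ⟶ Z (through pr1 and p) is closed as well. Then there is an open subspace W of
Z with the following property: a morphism of algebraic spaces g : Z' ⟶ Z factors through W exactly
when the base change X' ⟶ Y' of f along g is unramified and universally injective. Here the base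
change of f along g is any f' : X' ⟶ Y' obtained from pullback squares Y' = Y ×_Z Z' and X' = X ×_Y
Y' of algebraic spaces over S, and W ⊂ Z is given as a representable open immersion w : W ⟶ Z. -/
theorem result {S : Scheme.{u}} {X Y Z : AlgSp.Space S}
    (f : X ⟶ Y) (p : X ⟶ Z) (q : Y ⟶ Z) (hc : f ≫ q = p)
    (XX : AlgSp.Space S) (pr0 pr1 : XX ⟶ X) (hXX : IsPullback pr0.hom pr1.hom f.hom f.hom)
    (hp1 : AlgSp.LocP @LocallyOfFiniteType p.hom) (hp2 : AlgSp.IsClosedMor p.hom)
    (hp3 : AlgSp.IsClosedMor (pr1 ≫ p).hom) :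
    ∃ (W : AlgSp.Space S) (w : W ⟶ Z), AlgSp.RepWith @IsOpenImmersion w.hom ∧
      ∀ (Z' : AlgSp.Space S) (g : Z' ⟶ Z),
        (∃ k : Z' ⟶ W, k ≫ w = g) ↔
          ∀ (Y' : AlgSp.Space S) (gY : Y' ⟶ Y) (q' : Y' ⟶ Z'),
            IsPullback gY.hom q'.hom q.hom g.hom →
            ∀ (X' : AlgSp.Space S) (gX : X' ⟶ X) (f' : X' ⟶ Y'),
              IsPullback gX.hom f'.hom f.hom gY.hom →
                (AlgSp.LocP (@LocallyOfFiniteType ⊓ @FormallyUnramified) f'.hom ∧ AlgSp.IsUnivInjectiveMor f'.hom) := by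
  exact W1.main f p q hc XX pr0 pr1 hXX hp1 hp2 hp3

end Groth.Agent.S10640
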