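import Groth.Statements.S10641
import Groth.Agent.S10614
import Groth.Agent.S10640
import Groth.Agent.S10278
import Groth.Agent.Lib.Helper3.AlgSpFibre
-- import your own Groth.Agent.* helpers here

set_option autoImplicit false
universe u
open CategoryTheory CategoryTheory.Limits AlgebraicGeometry
open AlgSp

namespace Groth.Agent.S10641

section H
namespace W1
open Groth.Agent.Lib.Helper3

theorem univClosed_of_isPullback {S : Scheme.{u}} {X Y X' Y' : Sp S} {f : X ⟶ Y} {gY : Y' ⟶ Y}
    {gX : X' ⟶ X} {f' : X' ⟶ Y'} (sq : IsPullback gX f' f gY) (hf : IsUnivClosedMor f) :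
    IsUnivClosedMor f' := by
  intro Z Z' hZ g fst snd sq'
  exact hf hZ (g ≫ gY) (fst ≫ gX) snd (sq'.paste_horiz sq)

theorem main {S : Scheme.{u}} {X Y Z : AlgSp.Space S}
    (f : X ⟶ Y) (p : X ⟶ Z) (q : Y ⟶ Z) (hc : f ≫ q = p)
    (hp1 : AlgSp.LocP @LocallyOfFiniteType p.hom) (hp2 : AlgSp.IsUnivClosedMor p.hom)
    (hq : AlgSp.IsSeparatedMor q.hom) :
    ∃ (W : AlgSp.Space S) (w : W ⟶ Z), AlgSp.RepWith @IsOpenImmersion w.hom ∧
      ∀ (Z' : AlgSp.Space S) (g : Z' ⟶ Z),
        (∃ k : Z' ⟶ W, k ≫ w = g) ↔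
          ∀ (Y' : AlgSp.Space S) (gY : Y' ⟶ Y) (q' : Y' ⟶ Z'),
            IsPullback gY.hom q'.hom q.hom g.hom →
            ∀ (X' : AlgSp.Space S) (gX : X' ⟶ X) (f' : X' ⟶ Y'),
              IsPullback gX.hom f'.hom f.hom gY.hom →
                AlgSp.RepWith @IsClosedImmersion f'.hom := by
  have hfuc : IsUnivClosedMor f.hom := ((Groth.Agent.S10278.result f p q hc hq).1 hp2).1
  let XX : Space S := ⟨pullback f.hom f.hom,
    isAlgSpace_of_isPullback' Y.property X.property X.property (IsPullback.of_hasPullback _ _)⟩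
  let pr0 : XX ⟶ X := ObjectProperty.homMk (pullback.fst f.hom f.hom)
  let pr1 : XX ⟶ X := ObjectProperty.homMk (pullback.snd f.hom f.hom)
  have hXX : IsPullback pr0.hom pr1.hom f.hom f.hom := IsPullback.of_hasPullback _ _
  have hpc : IsClosedMor p.hom :=
    hp2 Z.property (𝟙 _) (𝟙 _) p.hom (IsPullback.of_horiz_isIso ⟨by simp⟩)
  have hpr1 : IsClosedMor pr1.hom := hfuc X.property f.hom pr0.hom pr1.hom hXX
  have hp3 : IsClosedMor (pr1 ≫ p).hom := by
    change IsClosedMap (Points.map (pr1.hom ≫ p.hom))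
    have : Points.map (pr1.hom ≫ p.hom) = Points.map p.hom ∘ Points.map pr1.hom := by
      funext x
      exact Points.map_comp _ _ _
    rw [this]
    exact IsClosedMap.comp hpc hpr1
  obtain ⟨W, w, hw, hW⟩ := Groth.Agent.S10640.result f p q hc XX pr0 pr1 hXX hp1 hpc hp3
  refine ⟨W, w, hw, fun Z' g => ?_⟩
  rw [hW Z' g]
  constructor
  · intro h Y' gY q' sq1 X' gX f' sq2
    obtain ⟨h1, h2⟩ := h Y' gY q' sq1 X' gX f' sq2
    exact (Groth.Agent.S10614.result f').2.1.2 ⟨univClosed_of_isPullback sq2 hfuc, h1, h2⟩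
  · intro h Y' gY q' sq1 X' gX f' sq2
    have := (Groth.Agent.S10614.result f').2.1.1 (h Y' gY q' sq1 X' gX f' sq2)
    exact ⟨this.2.1, this.2.2⟩

end W1
end H


/-- For morphisms f : X ⟶ Y, p : X ⟶ Z and q : Y ⟶ Z of algebraic spaces over S with f ≫ q = p, where p
is universally closed and locally of finite type and q is separated, there is an open subspace W of
Z with the following property: a morphism of algebraic spaces g : Z' ⟶ Z factors through W exactly
when the base change X' ⟶ Y' of f along g is a closed immersion (representable, and a closed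
immersion on every represented pullback). Here the base change of f along g is any f' : X' ⟶ Y'
obtained from pullback squares Y' = Y ×_Z Z' and X' = X ×_Y Y' of algebraic spaces over S, and W ⊂ Z
is given as a representable open immersion w : W ⟶ Z. -/
theorem result {S : Scheme.{u}} {X Y Z : AlgSp.Space S}
    (f : X ⟶ Y) (p : X ⟶ Z) (q : Y ⟶ Z) (hc : f ≫ q = p)
    (hp1 : AlgSp.LocP @LocallyOfFiniteType p.hom) (hp2 : AlgSp.IsUnivClosedMor p.hom)
    (hq : AlgSp.IsSeparatedMor q.hom) :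
    ∃ (W : AlgSp.Space S) (w : W ⟶ Z), AlgSp.RepWith @IsOpenImmersion w.hom ∧
      ∀ (Z' : AlgSp.Space S) (g : Z' ⟶ Z),
        (∃ k : Z' ⟶ W, k ≫ w = g) ↔
          ∀ (Y' : AlgSp.Space S) (gY : Y' ⟶ Y) (q' : Y' ⟶ Z'),
            IsPullback gY.hom q'.hom q.hom g.hom →
            ∀ (X' : AlgSp.Space S) (gX : X' ⟶ X) (f' : X' ⟶ Y'),
              IsPullback gX.hom f'.hom f.hom gY.hom →
                AlgSp.RepWith @IsClosedImmersion f'.hom := by
  exact W1.main f p q hc hp1 hp2 hq

end Groth.Agent.S10641
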