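import Groth.Statements.S10642
import Groth.Agent.Lib.Helper15.AlgSpFlatAt
import Groth.Agent.Lib.Helper15.CritOk
-- import your own Groth.Agent.* helpers here

set_option autoImplicit false
universe u
open CategoryTheory CategoryTheory.Limits AlgebraicGeometry
open AlgSp

namespace Groth.Agent.S10642

section H
namespace W1
open Groth.Agent.Lib.Helper3 Groth.Agent.Lib.Helper15
set_option backward.isDefEq.respectTransparency.types false

variable {S : Scheme.{u}}

theorem main (hcrit : AlgSpFlatAt.CritHyp.{u}) {X Y Z : AlgSp.Space S}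
    (f : X ⟶ Y) (p : X ⟶ Z) (q : Y ⟶ Z) (hc : f ≫ q = p)
    (hp1 : AlgSp.LocP @LocallyOfFinitePresentation p.hom) (hp2 : AlgSp.LocP @Flat p.hom)
    (hp3 : AlgSp.IsClosedMor p.hom) (hq : AlgSp.LocP @LocallyOfFiniteType q.hom) :
    ∃ (W : AlgSp.Space S) (w : W ⟶ Z), AlgSp.RepWith @IsOpenImmersion w.hom ∧
      ∀ (Z' : AlgSp.Space S) (g : Z' ⟶ Z),
        (∃ k : Z' ⟶ W, k ≫ w = g) ↔
          ∀ (Y' : AlgSp.Space S) (gY : Y' ⟶ Y) (q' : Y' ⟶ Z'),
            IsPullback gY.hom q'.hom q.hom g.hom →
            ∀ (X' : AlgSp.Space S) (gX : X' ⟶ X) (f' : X' ⟶ Y'),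
              IsPullback gX.hom f'.hom f.hom gY.hom →
                AlgSp.LocP @Flat f'.hom := by
  subst hc
  set 𝒰 : Set (Points X.obj) := {x | IsFlatAtMor f.hom x} with h𝒰
  have h𝒰o : IsOpen 𝒰 := AlgSpFlatAt.isOpen_isFlatAtMor X.property Y.property Z.property
    f.hom q.hom hcrit hp1 hp2 hq
  have hCc : IsClosed (Points.map (f ≫ q).hom '' 𝒰ᶜ) := hp3 _ h𝒰o.isClosed_compl
  set Ω : Set (Points Z.obj) := (Points.map (f ≫ q).hom '' 𝒰ᶜ)ᶜ with hΩ
  have hΩo : IsOpen Ω := hCc.isOpen_compl
  have hw := repWith_isOpenImmersion_openSubι Z.obj Ω hΩo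
  refine ⟨⟨openSub Z.obj Ω, isAlgSpace_openSub Z.property Ω hΩo⟩,
    ObjectProperty.homMk (openSubι Z.obj Ω), hw, fun Z' g => ⟨?_, ?_⟩⟩
  · rintro ⟨k, rfl⟩ Y' gY q' sq1 X' gX f' sq2
    intro U V a b k' ha hb w
    refine Flat.of_stalkMap _ fun u => ?_
    have hx : IsFlatAtMor f.hom (Points.map gX.hom (Points.ofPt a u)) := by
      by_contra hx
      have h1 : Points.map (f ≫ q).hom (Points.map gX.hom (Points.ofPt a u)) ∈
          Points.map (f ≫ q).hom '' 𝒰ᶜ := ⟨_, hx, rfl⟩
      have h2 : Points.map (f ≫ q).hom (Points.map gX.hom (Points.ofPt a u)) =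
          Points.map (openSubι Z.obj Ω) (Points.map k.hom (Points.map q'.hom
            (Points.map f'.hom (Points.ofPt a u)))) := by
        have e1 : gX.hom ≫ (f ≫ q).hom = f'.hom ≫ q'.hom ≫ k.hom ≫ openSubι Z.obj Ω := by
          show gX.hom ≫ f.hom ≫ q.hom = _
          rw [← Category.assoc, sq2.w, Category.assoc, sq1.w]
          rfl
        rw [← Points.map_comp, e1, Points.map_comp, Points.map_comp, Points.map_comp]
      have h3 : Points.map (openSubι Z.obj Ω) (Points.map k.hom (Points.map q'.hom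
          (Points.map f'.hom (Points.ofPt a u)))) ∈
          Set.range (Points.map (openSubι Z.obj Ω)) := ⟨_, rfl⟩
      rw [range_map_openSubι] at h3
      rw [← h2] at h3
      exact h3 h1
    exact AlgSpFlatAt.isFlatAtMor_baseChange X.property Y.property Z.property f.hom q.hom
      Z'.property (k ≫ ObjectProperty.homMk (openSubι Z.obj Ω)).hom gY.hom q'.hom sq1 gX.hom f'.hom
      sq2 (Points.ofPt a u) hx a b k' u ha hb w rfl
  · intro H
    have hsub : Set.range (Points.map g.hom) ⊆ Set.range (Points.map (openSubι Z.obj Ω)) := by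
      rw [range_map_openSubι]
      rintro _ ⟨z', rfl⟩ ⟨x, hx, hxz⟩
      have sq1 := IsPullback.of_hasPullback q.hom g.hom
      have hY' : IsAlgSpace (pullback q.hom g.hom) :=
        isAlgSpace_of_isPullback' Z.property Y.property Z'.property sq1
      have sq2 := IsPullback.of_hasPullback f.hom (pullback.fst q.hom g.hom)
      have hX' : IsAlgSpace (pullback f.hom (pullback.fst q.hom g.hom)) :=
        isAlgSpace_of_isPullback' Y.property X.property hY' sq2
      have hloc := H ⟨_, hY'⟩ (ObjectProperty.homMk (pullback.fst q.hom g.hom))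
        (ObjectProperty.homMk (pullback.snd q.hom g.hom)) sq1 ⟨_, hX'⟩
        (ObjectProperty.homMk (pullback.fst f.hom (pullback.fst q.hom g.hom)))
        (ObjectProperty.homMk (pullback.snd f.hom (pullback.fst q.hom g.hom))) sq2
      have big : IsPullback (pullback.fst f.hom (pullback.fst q.hom g.hom))
          (pullback.snd f.hom (pullback.fst q.hom g.hom) ≫ pullback.snd q.hom g.hom)
          (f.hom ≫ q.hom) g.hom := sq2.paste_vert sq1
      obtain ⟨x', hx'1, -⟩ := Points.exists_of_isPullback big x z' hxz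
      have h4 : IsFlatAtMor (pullback.snd f.hom (pullback.fst q.hom g.hom)) x' :=
        fun U V a b k u ha hb w _ => by
          haveI : Flat k.left := hloc a b k ha hb w
          exact Flat.stalkMap k.left u
      have h5 := AlgSpFlatAt.isFlatAtMor_of_baseChange X.property Y.property Z.property f.hom q.hom
        Z'.property g.hom _ _ sq1 _ _ sq2 hcrit hp1 hp2 hq x' h4
      rw [hx'1] at h5
      exact hx h5
    obtain ⟨t, ht⟩ := exists_factor_of_range_subset (openSubι Z.obj Ω) hw g.hom hsub
    exact ⟨ObjectProperty.homMk t, by ext1; exact ht⟩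

end W1
end H


/-- For morphisms f : X ⟶ Y, p : X ⟶ Z and q : Y ⟶ Z of algebraic spaces over S with f ≫ q = p, where p
is flat, closed and locally of finite presentation and q is locally of finite type, there is an open
subspace W of Z with the following property: a morphism of algebraic spaces g : Z' ⟶ Z factors
through W exactly when the base change X' ⟶ Y' of f along g is flat. Here the base change of f along
g is any f' : X' ⟶ Y' obtained from pullback squares Y' = Y ×_Z Z' and X' = X ×_Y Y' of algebraic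
spaces over S, and W ⊂ Z is given as a representable open immersion w : W ⟶ Z. -/
theorem result {S : Scheme.{u}} {X Y Z : AlgSp.Space S}
    (f : X ⟶ Y) (p : X ⟶ Z) (q : Y ⟶ Z) (hc : f ≫ q = p)
    (hp1 : AlgSp.LocP @LocallyOfFinitePresentation p.hom) (hp2 : AlgSp.LocP @Flat p.hom)
    (hp3 : AlgSp.IsClosedMor p.hom) (hq : AlgSp.LocP @LocallyOfFiniteType q.hom) :
    ∃ (W : AlgSp.Space S) (w : W ⟶ Z), AlgSp.RepWith @IsOpenImmersion w.hom ∧
      ∀ (Z' : AlgSp.Space S) (g : Z' ⟶ Z),
        (∃ k : Z' ⟶ W, k ≫ w = g) ↔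
          ∀ (Y' : AlgSp.Space S) (gY : Y' ⟶ Y) (q' : Y' ⟶ Z'),
            IsPullback gY.hom q'.hom q.hom g.hom →
            ∀ (X' : AlgSp.Space S) (gX : X' ⟶ X) (f' : X' ⟶ Y'),
              IsPullback gX.hom f'.hom f.hom gY.hom →
                AlgSp.LocP @Flat f'.hom := by
  exact W1.main Groth.Agent.Lib.Helper15.CritOk.critHyp f p q hc hp1 hp2 hp3 hq

end Groth.Agent.S10642
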