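import Groth.Statements.S10643
import Groth.Agent.Lib.Helper15.AlgSpFlatAt
import Groth.Agent.Lib.Helper15.CritOk
-- import your own Groth.Agent.* helpers here

set_option autoImplicit false
universe u
open CategoryTheory CategoryTheory.Limits AlgebraicGeometry
open AlgSp

namespace Groth.Agent.S10643

section H
namespace W1
open Groth.Agent.Lib.Helper3 Groth.Agent.Lib.Helper15
set_option backward.isDefEq.respectTransparency.types false

variable {S : Scheme.{u}}

theorem main (hcrit : AlgSpFlatAt.CritHyp.{u}) {X Y Z : AlgSp.Space S}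
    (f : X ⟶ Y) (p : X ⟶ Z) (q : Y ⟶ Z) (hc : f ≫ q = p)
    (hp1 : AlgSp.LocP @LocallyOfFinitePresentation p.hom) (hp2 : AlgSp.LocP @Flat p.hom)
    (hp3 : AlgSp.IsClosedMor p.hom) (hq1 : AlgSp.LocP @LocallyOfFiniteType q.hom)
    (hq2 : AlgSp.IsClosedMor q.hom) :
    ∃ (W : AlgSp.Space S) (w : W ⟶ Z), AlgSp.RepWith @IsOpenImmersion w.hom ∧
      ∀ (Z' : AlgSp.Space S) (g : Z' ⟶ Z),
        (∃ k : Z' ⟶ W, k ≫ w = g) ↔
          ∀ (Y' : AlgSp.Space S) (gY : Y' ⟶ Y) (q' : Y' ⟶ Z'),
            IsPullback gY.hom q'.hom q.hom g.hom →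
            ∀ (X' : AlgSp.Space S) (gX : X' ⟶ X) (f' : X' ⟶ Y'),
              IsPullback gX.hom f'.hom f.hom gY.hom →
                (AlgSp.IsSurjectiveMor f'.hom ∧ AlgSp.LocP @Flat f'.hom) := by
  subst hc
  set 𝒰 : Set (Points X.obj) := {x | IsFlatAtMor f.hom x} with h𝒰
  have h𝒰o : IsOpen 𝒰 := AlgSpFlatAt.isOpen_isFlatAtMor X.property Y.property Z.property
    f.hom q.hom hcrit hp1 hp2 hq1
  have hCc : IsClosed (Points.map (f ≫ q).hom '' 𝒰ᶜ) := hp3 _ h𝒰o.isClosed_compl
  set Ω₁ : Set (Points Z.obj) := (Points.map (f ≫ q).hom '' 𝒰ᶜ)ᶜ with hΩ₁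
  have hΩ₁o : IsOpen Ω₁ := hCc.isOpen_compl
  have hDo : IsOpen (Points.map f.hom '' 𝒰) := AlgSpFlatAt.isOpen_image_flatLocus X.property
    Y.property Z.property f.hom q.hom hcrit hp1 hp2 hq1
  have hqD : IsClosed (Points.map q.hom '' (Points.map f.hom '' 𝒰)ᶜ) := hq2 _ hDo.isClosed_compl
  set Ω : Set (Points Z.obj) := Ω₁ ∩ (Points.map q.hom '' (Points.map f.hom '' 𝒰)ᶜ)ᶜ with hΩ
  have hΩo : IsOpen Ω := hΩ₁o.inter hqD.isOpen_compl
  have hw := repWith_isOpenImmersion_openSubι Z.obj Ω hΩo
  refine ⟨⟨openSub Z.obj Ω, isAlgSpace_openSub Z.property Ω hΩo⟩,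
    ObjectProperty.homMk (openSubι Z.obj Ω), hw, fun Z' g => ⟨?_, ?_⟩⟩
  · rintro ⟨k, rfl⟩ Y' gY q' sq1 X' gX f' sq2
    have hmemY : ∀ y' : Points Y'.obj, Points.map q.hom (Points.map gY.hom y') ∈ Ω := by
      intro y'
      have h2 : Points.map q.hom (Points.map gY.hom y') =
          Points.map (openSubι Z.obj Ω) (Points.map k.hom (Points.map q'.hom y')) := by
        have e1 : gY.hom ≫ q.hom = q'.hom ≫ k.hom ≫ openSubι Z.obj Ω := by
          rw [sq1.w]
          rfl
        rw [← Points.map_comp, e1, Points.map_comp, Points.map_comp]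
      have h3 : Points.map (openSubι Z.obj Ω) (Points.map k.hom (Points.map q'.hom y')) ∈
          Set.range (Points.map (openSubι Z.obj Ω)) := ⟨_, rfl⟩
      rw [range_map_openSubι] at h3
      rwa [← h2] at h3
    refine ⟨?_, ?_⟩
    · intro y'
      have hy : Points.map gY.hom y' ∈ Points.map f.hom '' 𝒰 := by
        by_contra hy
        exact (hmemY y').2 ⟨_, hy, rfl⟩
      obtain ⟨x, -, hx⟩ := hy
      obtain ⟨x', -, hx'2⟩ := Points.exists_of_isPullback sq2 x y' hx
      exact ⟨x', hx'2⟩
    · intro U V a b k' ha hb w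
      refine Flat.of_stalkMap _ fun u => ?_
      have hx : IsFlatAtMor f.hom (Points.map gX.hom (Points.ofPt a u)) := by
        by_contra hx
        have h1 : Points.map (f ≫ q).hom (Points.map gX.hom (Points.ofPt a u)) ∈
            Points.map (f ≫ q).hom '' 𝒰ᶜ := ⟨_, hx, rfl⟩
        have h2 : Points.map (f ≫ q).hom (Points.map gX.hom (Points.ofPt a u)) =
            Points.map q.hom (Points.map gY.hom (Points.map f'.hom (Points.ofPt a u))) := by
          have e1 : gX.hom ≫ (f ≫ q).hom = f'.hom ≫ gY.hom ≫ q.hom := by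
            show gX.hom ≫ f.hom ≫ q.hom = _
            rw [← Category.assoc, sq2.w, Category.assoc]
          rw [← Points.map_comp, e1, Points.map_comp, Points.map_comp]
        rw [h2] at h1
        exact (hmemY _).1 h1
      exact AlgSpFlatAt.isFlatAtMor_baseChange X.property Y.property Z.property f.hom q.hom
        Z'.property (k ≫ ObjectProperty.homMk (openSubι Z.obj Ω)).hom gY.hom q'.hom sq1 gX.hom
        f'.hom sq2 (Points.ofPt a u) hx a b k' u ha hb w rfl
  · intro H
    have hsub : Set.range (Points.map g.hom) ⊆ Set.range (Points.map (openSubι Z.obj Ω)) := by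
      rw [range_map_openSubι]
      rintro _ ⟨z', rfl⟩
      have sq1 := IsPullback.of_hasPullback q.hom g.hom
      have hY' : IsAlgSpace (pullback q.hom g.hom) :=
        isAlgSpace_of_isPullback' Z.property Y.property Z'.property sq1
      have sq2 := IsPullback.of_hasPullback f.hom (pullback.fst q.hom g.hom)
      have hX' : IsAlgSpace (pullback f.hom (pullback.fst q.hom g.hom)) :=
        isAlgSpace_of_isPullback' Y.property X.property hY' sq2
      obtain ⟨hsurj, hloc⟩ := H ⟨_, hY'⟩ (ObjectProperty.homMk (pullback.fst q.hom g.hom))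
        (ObjectProperty.homMk (pullback.snd q.hom g.hom)) sq1 ⟨_, hX'⟩
        (ObjectProperty.homMk (pullback.fst f.hom (pullback.fst q.hom g.hom)))
        (ObjectProperty.homMk (pullback.snd f.hom (pullback.fst q.hom g.hom))) sq2
      have hall : ∀ x' : Points (pullback f.hom (pullback.fst q.hom g.hom)),
          IsFlatAtMor f.hom (Points.map (pullback.fst f.hom (pullback.fst q.hom g.hom)) x') := by
        intro x'
        have h4 : IsFlatAtMor (pullback.snd f.hom (pullback.fst q.hom g.hom)) x' :=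
          fun U V a b k u ha hb w _ => by
            haveI : Flat k.left := hloc a b k ha hb w
            exact Flat.stalkMap k.left u
        exact AlgSpFlatAt.isFlatAtMor_of_baseChange X.property Y.property Z.property f.hom q.hom
          Z'.property g.hom _ _ sq1 _ _ sq2 hcrit hp1 hp2 hq1 x' h4
      have big : IsPullback (pullback.fst f.hom (pullback.fst q.hom g.hom))
          (pullback.snd f.hom (pullback.fst q.hom g.hom) ≫ pullback.snd q.hom g.hom)
          (f.hom ≫ q.hom) g.hom := sq2.paste_vert sq1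
      refine ⟨?_, ?_⟩
      · rintro ⟨x, hx, hxz⟩
        obtain ⟨x', hx'1, -⟩ := Points.exists_of_isPullback big x z' hxz
        have h5 := hall x'
        rw [hx'1] at h5
        exact hx h5
      · rintro ⟨y, hy, hyz⟩
        obtain ⟨y', hy'1, -⟩ := Points.exists_of_isPullback sq1 y z' hyz
        obtain ⟨x', hx'⟩ := hsurj y'
        change Points.map (pullback.snd f.hom (pullback.fst q.hom g.hom)) x' = y' at hx'
        apply hy
        refine ⟨Points.map (pullback.fst f.hom (pullback.fst q.hom g.hom)) x', hall x', ?_⟩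
        rw [← Points.map_comp, sq2.w, Points.map_comp]
        show Points.map (pullback.fst q.hom g.hom)
          (Points.map (pullback.snd f.hom (pullback.fst q.hom g.hom)) x') = y
        rw [hx', hy'1]
    obtain ⟨t, ht⟩ := exists_factor_of_range_subset (openSubι Z.obj Ω) hw g.hom hsub
    exact ⟨ObjectProperty.homMk t, by ext1; exact ht⟩

end W1
end H


/-- For morphisms f : X ⟶ Y, p : X ⟶ Z and q : Y ⟶ Z of algebraic spaces over S with f ≫ q = p, where p
is flat, closed and locally of finite presentation and q is closed and locally of finite type, there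
is an open subspace W of Z with the following property: a morphism of algebraic spaces g : Z' ⟶ Z
factors through W exactly when the base change X' ⟶ Y' of f along g is flat and surjective (on
points). Here the base change of f along g is any f' : X' ⟶ Y' obtained from pullback squares Y' = Y
×_Z Z' and X' = X ×_Y Y' of algebraic spaces over S, and W ⊂ Z is given as a representable open
immersion w : W ⟶ Z. -/
theorem result {S : Scheme.{u}} {X Y Z : AlgSp.Space S}
    (f : X ⟶ Y) (p : X ⟶ Z) (q : Y ⟶ Z) (hc : f ≫ q = p)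
    (hp1 : AlgSp.LocP @LocallyOfFinitePresentation p.hom) (hp2 : AlgSp.LocP @Flat p.hom)
    (hp3 : AlgSp.IsClosedMor p.hom) (hq1 : AlgSp.LocP @LocallyOfFiniteType q.hom)
    (hq2 : AlgSp.IsClosedMor q.hom) :
    ∃ (W : AlgSp.Space S) (w : W ⟶ Z), AlgSp.RepWith @IsOpenImmersion w.hom ∧
      ∀ (Z' : AlgSp.Space S) (g : Z' ⟶ Z),
        (∃ k : Z' ⟶ W, k ≫ w = g) ↔
          ∀ (Y' : AlgSp.Space S) (gY : Y' ⟶ Y) (q' : Y' ⟶ Z'),
            IsPullback gY.hom q'.hom q.hom g.hom →
            ∀ (X' : AlgSp.Space S) (gX : X' ⟶ X) (f' : X' ⟶ Y'),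
              IsPullback gX.hom f'.hom f.hom gY.hom →
                (AlgSp.IsSurjectiveMor f'.hom ∧ AlgSp.LocP @Flat f'.hom) := by
  exact W1.main Groth.Agent.Lib.Helper15.CritOk.critHyp f p q hc hp1 hp2 hp3 hq1 hq2

end Groth.Agent.S10643
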