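import Groth.Statements.S10644
import Groth.Agent.S10640
import Groth.Agent.S10643
import Groth.Agent.Lib.Helper3.AlgSpEtMono
import Groth.Agent.Lib.Helper3.AlgSpOpenSub
import Groth.Agent.Lib.Helper3.AlgSpPoints2
import Groth.Agent.Lib.Helper3.EtSrcLocal5
import Groth.Agent.Lib.Helper15.AlgSpFibreCrit
-- import your own Groth.Agent.* helpers here

set_option autoImplicit false
universe u
open CategoryTheory CategoryTheory.Limits AlgebraicGeometry
open AlgSp

namespace Groth.Agent.S10644

section H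
namespace W1
open Groth.Agent.Lib.Helper3 Groth.Agent.Lib.Helper15
set_option backward.isDefEq.respectTransparency.types false

variable {S : Scheme.{u}}

/-- cancellation for lfp at the level of algebraic spaces -/
theorem locP_lfp_of_comp {X Y Z : Sp S} (hX : IsAlgSpace X) (hY : IsAlgSpace Y)
    (hZ : IsAlgSpace Z) (f : X ⟶ Y) (g : Y ⟶ Z)
    (hfg : LocP @LocallyOfFinitePresentation (f ≫ g)) (hg : LocP @LocallyOfFiniteType g) :
    LocP @LocallyOfFinitePresentation f := by
  obtain ⟨U', V', W', a', b', c', h', l', ha'e, ha's, hb'e, hb's, hc'e, wh, wl, -⟩ :=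
    AlgSpFibreCrit.exists_charts_over hX hY hZ f g
  have wcomp : a' ≫ (f ≫ g) = (yon S).map (h' ≫ l') ≫ c' := by
    rw [← Category.assoc, wh, Category.assoc, wl, Functor.map_comp, Category.assoc]
  have h1 : LocallyOfFinitePresentation (h'.left ≫ l'.left) := hfg a' c' (h' ≫ l') ha'e hc'e wcomp
  have h2 : LocallyOfFiniteType l'.left := hg b' c' l' hb'e hc'e wl
  exact locP_of_chart isEtLocal_locallyOfFinitePresentation f a' ha'e ha's b' hb'e h' wh
    (locallyOfFinitePresentation_of_comp _ _ h1 h2)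

theorem isClosedMap_snd_diag {X Y Z : Sp S} (hX : IsAlgSpace X) (f : X ⟶ Y) (q : Y ⟶ Z)
    (hp : IsUnivClosedMor (f ≫ q)) (hq : IsSeparatedMor q) :
    IsClosedMap (Points.map (pullback.snd f f)) := by
  have sqj := pullback_map_diagonal_isPullback f f q
  have hj : RepWith @IsClosedImmersion (pullback.map f f (f ≫ q) (f ≫ q) _ _ q
      (Category.id_comp _).symm (Category.id_comp _).symm) :=
    (RepWith @IsClosedImmersion).of_isPullback sqj hq
  have hjc := isClosedMap_map_of_repWith (repWith_mono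
    (fun _ _ k hk => by have : IsClosedImmersion k := hk; infer_instance) hj)
  have h2 : IsClosedMap (Points.map (pullback.snd (f ≫ q) (f ≫ q))) :=
    hp hX (f ≫ q) (pullback.fst _ _) (pullback.snd _ _) (IsPullback.of_hasPullback _ _)
  have e : pullback.snd f f = pullback.map f f (f ≫ q) (f ≫ q) _ _ q
      (Category.id_comp _).symm (Category.id_comp _).symm ≫ pullback.snd (f ≫ q) (f ≫ q) := by
    rw [pullback.lift_snd, Category.comp_id]
  rw [e]
  have e2 : Points.map (pullback.map f f (f ≫ q) (f ≫ q) _ _ q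
      (Category.id_comp _).symm (Category.id_comp _).symm ≫ pullback.snd (f ≫ q) (f ≫ q)) =
      Points.map (pullback.snd (f ≫ q) (f ≫ q)) ∘ Points.map (pullback.map f f (f ≫ q) (f ≫ q) _ _ q
      (Category.id_comp _).symm (Category.id_comp _).symm) := by
    funext x
    rw [Points.map_comp]
    rfl
  rw [e2]
  exact h2.comp hjc

theorem isClosedMor_of_isUnivClosedMor {X Y : Sp S} (hY : IsAlgSpace Y) (f : X ⟶ Y)
    (h : IsUnivClosedMor f) : IsClosedMor f :=
  h hY (𝟙 Y) (𝟙 X) f (IsPullback.id_horiz f)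

theorem props_of_isIso {X Y : Sp S} (f : X ⟶ Y) [IsIso f] :
    (IsSurjectiveMor f ∧ LocP @Flat f) ∧
      (LocP (@LocallyOfFiniteType ⊓ @FormallyUnramified) f ∧ IsUnivInjectiveMor f) := by
  have hopen : RepWith @IsOpenImmersion f := MorphismProperty.of_isIso (RepWith @IsOpenImmersion) f
  have het : RepWith @Etale f := repWith_mono isOpenImmersion_le_etale hopen
  refine ⟨⟨?_, ?_⟩, ?_, isUnivInjectiveMor_of_mono f⟩
  · intro y
    refine ⟨Points.map (inv f) y, ?_⟩
    rw [← Points.map_comp, IsIso.inv_hom_id, Points.map_id]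
  · exact locP_of_repWith isEtLocal_flat f
      (repWith_mono (fun _ _ k hk => by have : Etale k := hk; infer_instance) het)
  · exact locP_of_repWith isEtLocal_unramified f
      (repWith_mono (fun _ _ k hk => by
        have : Etale k := hk
        exact ⟨inferInstance, inferInstance⟩) het)

theorem main {X Y Z : AlgSp.Space S}
    (f : X ⟶ Y) (p : X ⟶ Z) (q : Y ⟶ Z) (hc : f ≫ q = p)
    (hp1 : AlgSp.LocP @LocallyOfFinitePresentation p.hom) (hp2 : AlgSp.LocP @Flat p.hom)
    (hp3 : AlgSp.IsUnivClosedMor p.hom) (hq1 : AlgSp.LocP @LocallyOfFiniteType q.hom)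
    (hq2 : AlgSp.IsClosedMor q.hom) (hq3 : AlgSp.IsSeparatedMor q.hom) :
    ∃ (W : AlgSp.Space S) (w : W ⟶ Z), AlgSp.RepWith @IsOpenImmersion w.hom ∧
      ∀ (Z' : AlgSp.Space S) (g : Z' ⟶ Z),
        (∃ k : Z' ⟶ W, k ≫ w = g) ↔
          ∀ (Y' : AlgSp.Space S) (gY : Y' ⟶ Y) (q' : Y' ⟶ Z'),
            IsPullback gY.hom q'.hom q.hom g.hom →
            ∀ (X' : AlgSp.Space S) (gX : X' ⟶ X) (f' : X' ⟶ Y'),
              IsPullback gX.hom f'.hom f.hom gY.hom →
                IsIso f'.hom := by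
  have hpc : IsClosedMor p.hom := isClosedMor_of_isUnivClosedMor Z.property p.hom hp3
  have hpft : LocP @LocallyOfFiniteType p.hom := fun U V a b k ha hb w => by
    have := hp1 a b k ha hb w
    infer_instance
  -- the diagonal square
  have hXX := IsPullback.of_hasPullback f.hom f.hom
  have hXXa : IsAlgSpace (pullback f.hom f.hom) :=
    isAlgSpace_of_isPullback' Y.property X.property X.property hXX
  have hpr1 : IsClosedMor ((ObjectProperty.homMk (pullback.snd f.hom f.hom) :
      (⟨_, hXXa⟩ : AlgSp.Space S) ⟶ X) ≫ p).hom := by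
    show IsClosedMap (Points.map (pullback.snd f.hom f.hom ≫ p.hom))
    have e2 : Points.map (pullback.snd f.hom f.hom ≫ p.hom) =
        Points.map p.hom ∘ Points.map (pullback.snd f.hom f.hom) := by
      funext x
      rw [Points.map_comp]
      rfl
    rw [e2]
    refine IsClosedMap.comp hpc (isClosedMap_snd_diag X.property f.hom q.hom ?_ hq3)
    have e3 : f.hom ≫ q.hom = p.hom := by rw [← hc]; rfl
    rw [e3]
    exact hp3
  obtain ⟨W₁, w₁, hw₁, H₁⟩ := Groth.Agent.S10643.result f p q hc hp1 hp2 hpc hq1 hq2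
  obtain ⟨W₂, w₂, hw₂, H₂⟩ := Groth.Agent.S10640.result f p q hc ⟨_, hXXa⟩
    (ObjectProperty.homMk (pullback.fst f.hom f.hom))
    (ObjectProperty.homMk (pullback.snd f.hom f.hom)) hXX hpft hpc hpr1
  have sqW := IsPullback.of_hasPullback w₁.hom w₂.hom
  have hWa : IsAlgSpace (pullback w₁.hom w₂.hom) :=
    isAlgSpace_of_isPullback' Z.property W₁.property W₂.property sqW
  have hfst : RepWith @IsOpenImmersion (pullback.fst w₁.hom w₂.hom) :=
    (RepWith @IsOpenImmersion).of_isPullback sqW.flip hw₂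
  have hw : RepWith @IsOpenImmersion (pullback.fst w₁.hom w₂.hom ≫ w₁.hom) :=
    (RepWith @IsOpenImmersion).comp_mem _ _ hfst hw₁
  refine ⟨⟨_, hWa⟩, ObjectProperty.homMk (pullback.fst w₁.hom w₂.hom ≫ w₁.hom), hw,
    fun Z' g => ⟨?_, ?_⟩⟩
  · rintro ⟨k, rfl⟩ Y' gY q' sq1 X' gX f' sq2
    have hk1 : ∃ k₁ : Z' ⟶ W₁, k₁ ≫ w₁ = k ≫ ObjectProperty.homMk
        (pullback.fst w₁.hom w₂.hom ≫ w₁.hom) :=
      ⟨k ≫ ObjectProperty.homMk (pullback.fst w₁.hom w₂.hom), by ext1; simp⟩
    have hk2 : ∃ k₂ : Z' ⟶ W₂, k₂ ≫ w₂ = k ≫ ObjectProperty.homMk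
        (pullback.fst w₁.hom w₂.hom ≫ w₁.hom) :=
      ⟨k ≫ ObjectProperty.homMk (pullback.snd w₁.hom w₂.hom), by
        ext1
        show k.hom ≫ pullback.snd w₁.hom w₂.hom ≫ w₂.hom = k.hom ≫ pullback.fst w₁.hom w₂.hom ≫ w₁.hom
        rw [pullback.condition]⟩
    obtain ⟨hsurj, hflat⟩ := (H₁ Z' _).1 hk1 Y' gY q' sq1 X' gX f' sq2
    obtain ⟨hunr, hinj⟩ := (H₂ Z' _).1 hk2 Y' gY q' sq1 X' gX f' sq2
    -- f' is lfp
    have big : IsPullback gX.hom (f'.hom ≫ q'.hom) (f.hom ≫ q.hom) _ := sq2.paste_vert sq1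
    have e3 : f.hom ≫ q.hom = p.hom := by rw [← hc]; rfl
    rw [e3] at big
    have hp' : LocP @LocallyOfFinitePresentation (f'.hom ≫ q'.hom) :=
      locP_of_isPullback isEtLocal_locallyOfFinitePresentation X.property Z.property
        Z'.property X'.property _ _ _ _ big hp1
    have hq' : LocP @LocallyOfFiniteType q'.hom :=
      locP_of_isPullback isEtLocal_locallyOfFiniteType Y.property Z.property
        Z'.property Y'.property _ _ _ _ sq1 hq1
    have hlfp : LocP @LocallyOfFinitePresentation f'.hom :=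
      locP_lfp_of_comp X'.property Y'.property Z'.property f'.hom q'.hom hp' hq'
    have het : LocP @Etale f'.hom := fun U V a b k' ha hb w => by
      haveI : Flat k'.left := hflat a b k' ha hb w
      haveI : LocallyOfFinitePresentation k'.left := hlfp a b k' ha hb w
      haveI : FormallyUnramified k'.left := (hunr a b k' ha hb w).2
      exact Etale.of_formallyUnramified_of_flat _
    have hopen := repWith_isOpenImmersion_of_etale_univInjective X'.property Y'.property f'.hom
      ((isEtaleMor_iff_locP_etale X'.property Y'.property).2 het) hinj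
    exact isIso_of_repWith_isOpenImmersion_of_isSurjectiveMor f'.hom hopen hsurj
  · intro H
    obtain ⟨k₁, hk₁⟩ := (H₁ Z' g).2 fun Y' gY q' sq1 X' gX f' sq2 => by
      haveI := H Y' gY q' sq1 X' gX f' sq2
      exact (props_of_isIso f'.hom).1
    obtain ⟨k₂, hk₂⟩ := (H₂ Z' g).2 fun Y' gY q' sq1 X' gX f' sq2 => by
      haveI := H Y' gY q' sq1 X' gX f' sq2
      exact (props_of_isIso f'.hom).2
    have e : k₁.hom ≫ w₁.hom = k₂.hom ≫ w₂.hom := by
      have h1 : k₁.hom ≫ w₁.hom = g.hom := by rw [← hk₁]; rfl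
      have h2 : k₂.hom ≫ w₂.hom = g.hom := by rw [← hk₂]; rfl
      rw [h1, h2]
    refine ⟨ObjectProperty.homMk (pullback.lift k₁.hom k₂.hom e), ?_⟩
    ext1
    show pullback.lift k₁.hom k₂.hom e ≫ pullback.fst w₁.hom w₂.hom ≫ w₁.hom = g.hom
    rw [pullback.lift_fst_assoc, ← hk₁]
    rfl

end W1
end H


/-- For morphisms f : X ⟶ Y, p : X ⟶ Z and q : Y ⟶ Z of algebraic spaces over S with f ≫ q = p, where p
is flat, universally closed and locally of finite presentation and q is closed, separated and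
locally of finite type, there is an open subspace W of Z with the following property: a morphism of
algebraic spaces g : Z' ⟶ Z factors through W exactly when the base change X' ⟶ Y' of f along g is
an isomorphism. Here the base change of f along g is any f' : X' ⟶ Y' obtained from pullback squares
Y' = Y ×_Z Z' and X' = X ×_Y Y' of algebraic spaces over S, and W ⊂ Z is given as a representable
open immersion w : W ⟶ Z. -/
theorem result {S : Scheme.{u}} {X Y Z : AlgSp.Space S}
    (f : X ⟶ Y) (p : X ⟶ Z) (q : Y ⟶ Z) (hc : f ≫ q = p)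
    (hp1 : AlgSp.LocP @LocallyOfFinitePresentation p.hom) (hp2 : AlgSp.LocP @Flat p.hom)
    (hp3 : AlgSp.IsUnivClosedMor p.hom) (hq1 : AlgSp.LocP @LocallyOfFiniteType q.hom)
    (hq2 : AlgSp.IsClosedMor q.hom) (hq3 : AlgSp.IsSeparatedMor q.hom) :
    ∃ (W : AlgSp.Space S) (w : W ⟶ Z), AlgSp.RepWith @IsOpenImmersion w.hom ∧
      ∀ (Z' : AlgSp.Space S) (g : Z' ⟶ Z),
        (∃ k : Z' ⟶ W, k ≫ w = g) ↔
          ∀ (Y' : AlgSp.Space S) (gY : Y' ⟶ Y) (q' : Y' ⟶ Z'),
            IsPullback gY.hom q'.hom q.hom g.hom →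
            ∀ (X' : AlgSp.Space S) (gX : X' ⟶ X) (f' : X' ⟶ Y'),
              IsPullback gX.hom f'.hom f.hom gY.hom →
                IsIso f'.hom := by
  exact W1.main f p q hc hp1 hp2 hp3 hq1 hq2 hq3

end Groth.Agent.S10644
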