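import Groth.Statements.S10645
import Groth.Agent.Lib.Helper15.KoszulBC
import Groth.Agent.Lib.Helper3.AlgSpOpenSub
import Groth.Agent.Lib.Helper3.AlgSpOpenSubsp
import Groth.Agent.Lib.Helper3.AlgSpLargestOpen
-- import your own Groth.Agent.* helpers here

set_option autoImplicit false
universe u
open CategoryTheory CategoryTheory.Limits AlgebraicGeometry
open AlgSp

namespace Groth.Agent.S10645

section H
namespace W1
open Groth.Agent.Lib.Helper3 Groth.Agent.Lib.Helper15.KoszulBC Groth.Agent.Lib.Helper15.LocPNearSp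
open Groth.Agent.Lib.Helper15.LciSp Groth.Agent.Lib.Helper5.Lci
set_option backward.isDefEq.respectTransparency.types false

theorem locP_lci_of_forall_locPNear {S : Scheme.{u}} {X Y : Sp S} (f : X ⟶ Y)
    (H : ∀ x, LocPNear AlgSp.lci f x) : LocP AlgSp.lci f := by
  intro U V a b h hae hbe w
  rw [lci_iff]
  choose W hW hPW using fun u => chart_of_locPNear isEtLocalW_lci f a hae b hbe h w u (H _)
  apply IsZariskiLocalAtSource.of_iSup_eq_top (P := LciMor) W
  · rw [eq_top_iff]
    intro u _
    exact TopologicalSpace.Opens.mem_iSup.2 ⟨u, hW u⟩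
  · intro u
    rw [← lci_iff]
    exact hPW u

theorem locPNear_of_locP {S : Scheme.{u}} {X Y : Sp S} {P : MorphismProperty Scheme.{u}} (f : X ⟶ Y)
    (H : LocP P f) (x : Points X) : LocPNear P f x :=
  ⟨X, 𝟙 X, repWith_isOpenImmersion_id X, ⟨x, by simp⟩, by rwa [Category.id_comp]⟩

theorem isOpen_locPNear {S : Scheme.{u}} {X Y : Sp S} {P : MorphismProperty Scheme.{u}} (f : X ⟶ Y) :
    IsOpen {x | LocPNear P f x} := by
  rw [isOpen_iff_forall_mem_open]
  rintro x ⟨W₁, j, hj, hx, hloc⟩
  have hje : RepWith @Etale j := MorphismProperty.relative_monotone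
    (fun _ _ k hk => isOpenImmersion_le_etale _ hk) _ hj
  exact ⟨Set.range (Points.map j), fun y hy => ⟨W₁, j, hj, hy, hloc⟩,
    (isOpenMap_map_of_etale hje).isOpen_range, hx⟩

theorem main {S : Scheme.{u}} {X Y Z : AlgSp.Space S}
    (f : X ⟶ Y) (p : X ⟶ Z) (q : Y ⟶ Z) (hc : f ≫ q = p)
    (hp1 : AlgSp.LocP @Flat p.hom) (hp2 : AlgSp.LocP @LocallyOfFinitePresentation p.hom)
    (hp3 : AlgSp.IsClosedMor p.hom) (hq1 : AlgSp.LocP @Flat q.hom)
    (hq2 : AlgSp.LocP @LocallyOfFinitePresentation q.hom) :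
    ∃ (W : AlgSp.Space S) (w : W ⟶ Z), AlgSp.RepWith @IsOpenImmersion w.hom ∧
      ∀ (Z' : AlgSp.Space S) (g : Z' ⟶ Z),
        (∃ k : Z' ⟶ W, k ≫ w = g) ↔
          ∀ (Y' : AlgSp.Space S) (gY : Y' ⟶ Y) (q' : Y' ⟶ Z'),
            IsPullback gY.hom q'.hom q.hom g.hom →
            ∀ (X' : AlgSp.Space S) (gX : X' ⟶ X) (f' : X' ⟶ Y'),
              IsPullback gX.hom f'.hom f.hom gY.hom →
                AlgSp.IsLCIMor f'.hom := by
  subst hc
  set K : Set (Points X.obj) := {x | LocPNear AlgSp.lci f.hom x} with hKdef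
  have hK : IsOpen K := isOpen_locPNear f.hom
  set W₀ : Set (Points Z.obj) := (Points.map (f ≫ q).hom '' Kᶜ)ᶜ with hW₀def
  have hW₀ : IsOpen W₀ := (hp3 _ (isClosed_compl_iff.2 hK)).isOpen_compl
  have hw := repWith_isOpenImmersion_openSubι Z.obj W₀ hW₀
  have hrange : Set.range (Points.map (openSubι Z.obj W₀)) = W₀ := range_map_openSubι Z.obj W₀
  refine ⟨⟨openSub Z.obj W₀, isAlgSpace_openSub Z.property W₀ hW₀⟩,
    ObjectProperty.homMk (openSubι Z.obj W₀), hw, fun Z' g => ⟨?_, ?_⟩⟩
  · rintro ⟨k, rfl⟩ Y' gY q' sqY X' gX f' sqX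
    apply locP_lci_of_forall_locPNear
    intro x'
    rw [locPNear_lci_baseChange_iff X.property Y.property Z.property Z'.property f.hom q.hom
      hp1 hp2 hq1 hq2 _ gY.hom q'.hom sqY gX.hom f'.hom sqX x']
    by_contra hnK
    have h1 : Points.map (f ≫ q).hom (Points.map gX.hom x') ∈ Points.map (f ≫ q).hom '' Kᶜ :=
      ⟨_, hnK, rfl⟩
    have h2 : Points.map (f ≫ q).hom (Points.map gX.hom x') ∈ W₀ := by
      rw [← hrange]
      refine ⟨Points.map k.hom (Points.map q'.hom (Points.map f'.hom x')), ?_⟩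
      rw [← Points.map_comp, ← Points.map_comp, ← Points.map_comp, ← Points.map_comp]
      congr 1
      change (f'.hom ≫ q'.hom) ≫ (k.hom ≫ openSubι Z.obj W₀) = gX.hom ≫ (f.hom ≫ q.hom)
      exact (sqX.paste_vert sqY).w.symm
    exact h2 h1
  · intro H
    have sqY := IsPullback.of_hasPullback q.hom g.hom
    have hY' : IsAlgSpace (pullback q.hom g.hom) :=
      isAlgSpace_of_isPullback' Z.property Y.property Z'.property sqY
    have sqX := IsPullback.of_hasPullback f.hom (pullback.fst q.hom g.hom)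
    have hX' : IsAlgSpace (pullback f.hom (pullback.fst q.hom g.hom)) :=
      isAlgSpace_of_isPullback' Y.property X.property hY' sqX
    have hlci : IsLCIMor (pullback.snd f.hom (pullback.fst q.hom g.hom)) := H ⟨_, hY'⟩ (ObjectProperty.homMk (pullback.fst q.hom g.hom))
      (ObjectProperty.homMk (pullback.snd q.hom g.hom)) sqY ⟨_, hX'⟩
      (ObjectProperty.homMk (pullback.fst f.hom (pullback.fst q.hom g.hom)))
      (ObjectProperty.homMk (pullback.snd f.hom (pullback.fst q.hom g.hom))) sqX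
    have hsub : Set.range (Points.map g.hom) ⊆ Set.range (Points.map (openSubι Z.obj W₀)) := by
      rw [hrange]
      rintro _ ⟨z', rfl⟩ ⟨x, hxK, hx⟩
      obtain ⟨x', hx', -⟩ := Points.exists_of_isPullback (sqX.paste_vert sqY) x z' hx
      apply hxK
      have := locPNear_of_locP _ hlci x'
      rw [locPNear_lci_baseChange_iff X.property Y.property Z.property Z'.property f.hom q.hom
        hp1 hp2 hq1 hq2 _ _ _ sqY _ _ sqX x'] at this
      rw [← hx']
      exact this
    obtain ⟨k, hk⟩ := exists_factor_of_range_subset _ hw g.hom hsub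
    exact ⟨ObjectProperty.homMk k, by ext1; exact hk⟩

end W1
end H


/-- For morphisms f : X ⟶ Y, p : X ⟶ Z and q : Y ⟶ Z of algebraic spaces over S with f ≫ q = p, where p
is flat, closed and locally of finite presentation and q is flat and also locally of finite
presentation, there is an open subspace W of Z with the following property: a morphism of algebraic
spaces g : Z' ⟶ Z factors through W exactly when the base change X' ⟶ Y' of f along g is a local
complete intersection (Koszul) morphism, i.e. Koszul at every point etale locally on source and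
target. Here the base change of f along g is any f' : X' ⟶ Y' obtained from pullback squares Y' = Y
×_Z Z' and X' = X ×_Y Y' of algebraic spaces over S, and W ⊂ Z is given as a representable open
immersion w : W ⟶ Z. -/
theorem result {S : Scheme.{u}} {X Y Z : AlgSp.Space S}
    (f : X ⟶ Y) (p : X ⟶ Z) (q : Y ⟶ Z) (hc : f ≫ q = p)
    (hp1 : AlgSp.LocP @Flat p.hom) (hp2 : AlgSp.LocP @LocallyOfFinitePresentation p.hom)
    (hp3 : AlgSp.IsClosedMor p.hom) (hq1 : AlgSp.LocP @Flat q.hom)
    (hq2 : AlgSp.LocP @LocallyOfFinitePresentation q.hom) :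
    ∃ (W : AlgSp.Space S) (w : W ⟶ Z), AlgSp.RepWith @IsOpenImmersion w.hom ∧
      ∀ (Z' : AlgSp.Space S) (g : Z' ⟶ Z),
        (∃ k : Z' ⟶ W, k ≫ w = g) ↔
          ∀ (Y' : AlgSp.Space S) (gY : Y' ⟶ Y) (q' : Y' ⟶ Z'),
            IsPullback gY.hom q'.hom q.hom g.hom →
            ∀ (X' : AlgSp.Space S) (gX : X' ⟶ X) (f' : X' ⟶ Y'),
              IsPullback gX.hom f'.hom f.hom gY.hom →
                AlgSp.IsLCIMor f'.hom := by
  exact W1.main f p q hc hp1 hp2 hp3 hq1 hq2

end Groth.Agent.S10645
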