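import Groth.Statements.S10660
import Groth.Agent.S2103
import Groth.Agent.Lib.Helper5.KosH1C
-- import your own Groth.Agent.* helpers here

set_option autoImplicit false
universe u
open CategoryTheory CategoryTheory.Limits AlgebraicGeometry
open AlgSp

namespace Groth.Agent.S10660

section H
namespace W1

theorem seq_h1_of_koszul {R : Type u} [CommRing R] (rs : List R)
    (h : RegImm.Kind.koszul.Seq R rs) : RegImm.Kind.h1.Seq R rs :=
  (Groth.Agent.Lib.Helper5.KosH1.isH1Regular_iff_isZero rs).2 (h (-1) (by decide))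

theorem seq_quasi_of_h1 {R : Type u} [CommRing R] (rs : List R)
    (h : RegImm.Kind.h1.Seq R rs) : RegImm.Kind.quasi.Seq R rs :=
  Groth.Agent.S2103.result rs.get h

theorem regImm_mono {k k' : RegImm.Kind}
    (hk : ∀ (R : Type u) [CommRing R] (rs : List R), k.Seq R rs → k'.Seq R rs)
    {Z X : Scheme.{u}} (i : Z ⟶ X) (h : RegImm.IsRegularImmersion k i) :
    RegImm.IsRegularImmersion k' i := by
  obtain ⟨him, hz⟩ := h
  refine ⟨him, fun z => ?_⟩
  obtain ⟨U, hzU, hc, rs, hrs, hker⟩ := hz z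
  exact ⟨U, hzU, hc, rs, hk _ rs hrs, hker⟩

theorem repLocT_mono {S : Scheme.{u}} {k k' : RegImm.Kind}
    (hk : ∀ (R : Type u) [CommRing R] (rs : List R), k.Seq R rs → k'.Seq R rs)
    {Z X : Sp S} (i : Z ⟶ X) (h : IsRegImmMor k i) : IsRegImmMor k' i := by
  obtain ⟨hrep, hloc⟩ := h
  exact ⟨hrep, fun V W b fst snd hbe sq => regImm_mono hk _ (hloc b fst snd hbe sq)⟩

theorem main {S : Scheme.{u}} {Z X : Sp S} (i : Z ⟶ X) :
    (IsRegImmMor RegImm.Kind.koszul i → IsRegImmMor RegImm.Kind.h1 i) ∧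
      (IsRegImmMor RegImm.Kind.h1 i → IsRegImmMor RegImm.Kind.quasi i) :=
  ⟨repLocT_mono (fun _ _ rs => seq_h1_of_koszul rs) i,
    repLocT_mono (fun _ _ rs => seq_quasi_of_h1 rs) i⟩

end W1
end H


/-- For an immersion i : Z ⟶ X of algebraic spaces over S: if i is a Koszul-regular immersion then it is
an H_1-regular immersion, and if it is an H_1-regular immersion then it is a quasi-regular immersion
(all in the representable, etale-local-on-the-target sense). -/
theorem result {S : Scheme.{u}} {Z X : AlgSp.Space S} (i : Z ⟶ X) (hi : AlgSp.RepWith @IsImmersion i.hom) :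
    (AlgSp.IsRegImmMor RegImm.Kind.koszul i.hom → AlgSp.IsRegImmMor RegImm.Kind.h1 i.hom) ∧
      (AlgSp.IsRegImmMor RegImm.Kind.h1 i.hom → AlgSp.IsRegImmMor RegImm.Kind.quasi i.hom) := by
  exact W1.main i.hom

end Groth.Agent.S10660
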