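import Groth.Statements.S10664
import Groth.Agent.Lib.Helper15.LciSp5
-- import your own Groth.Agent.* helpers here

set_option autoImplicit false
universe u
open CategoryTheory CategoryTheory.Limits AlgebraicGeometry
open AlgSp

namespace Groth.Agent.S10664

section H
namespace W1

open Groth.Agent.Lib.Helper15.LciSp Groth.Agent.Lib.Helper3 Groth.Agent.Lib.Helper5.Lci

theorem main {S : Scheme.{u}} {X Y P U : Sp S} (hY : IsAlgSpace Y) (hP : IsAlgSpace P)
    (f : X ⟶ Y) (g : P ⟶ Y) (e : U ⟶ X) (i : U ⟶ P)
    (hc : i ≫ g = e ≫ f) (hf : IsLCIMor f) (hg : LocP @Smooth g)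
    (he : IsEtaleMor e) (hi : RepWith @IsImmersion i) :
    IsRegImmMor RegImm.Kind.koszul i := by
  refine ⟨hi.rep, ?_⟩
  intro V W c fst snd hce sq
  have him : IsImmersion snd.left := hi.property c fst snd sq
  obtain ⟨T, t, hte, hts⟩ := hY.atlas
  have hVsp : IsAlgSpace ((yon S).obj V) := IsAlgSpace.yon_obj V
  obtain ⟨V', v', l, -, -, hb'e, hb's, -, hl⟩ := exists_chart_over hVsp hY (c ≫ g) t hte
  obtain ⟨β, hβ⟩ := (yon S).map_surjective (v' ≫ pullback.fst (c ≫ g) t)
  rw [← hβ] at hb'e hb's hl
  have hβe : Etale β.left := (repWith_yon_map_iff _ _).1 hb'e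
  have hβs : Surjective β.left := (repWith_yon_map_iff _ _).1 (hb's hts)
  have hcg : LocP @Smooth (c ≫ g) := locP_comp isEtLocal_smooth hVsp hP hY c g
    (locP_smooth_of_isEtaleMor (isEtaleMor_of_repWith_etale hce)) hg
  have hsm : Smooth l.left := hcg _ _ l hb'e hte hl
  have sqO := IsPullback.of_hasPullback snd β
  have sqL : IsPullback (pullback.fst snd β).left (pullback.snd snd β).left snd.left β.left :=
    sqO.map (Over.forget S)
  have hfst : RepWith @Etale fst := MorphismProperty.of_isPullback sq.flip hce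
  have hpr₁e : Etale (pullback.fst snd β).left :=
    MorphismProperty.of_isPullback (P := @Etale) sqL.flip hβe
  have ha' : RepWith @Etale (((yon S).map (pullback.fst snd β) ≫ fst) ≫ e) :=
    he _ (MorphismProperty.comp_mem _ _ _ ((repWith_yon_map_iff _ _).2 hpr₁e) hfst)
  have hw : (((yon S).map (pullback.fst snd β) ≫ fst) ≫ e) ≫ f =
      (yon S).map (pullback.snd snd β ≫ l) ≫ t := by
    rw [Category.assoc, Category.assoc, ← hc, ← Category.assoc fst, sq.w, Category.assoc,
      ← Category.assoc, ← Functor.map_comp, sqO.w, Functor.map_comp, Category.assoc, hl,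
      Functor.map_comp, Category.assoc]
  have h1 : AlgSp.lci (pullback.snd snd β ≫ l).left := hf _ _ _ ha' hte hw
  have h2 : LciMor (pullback.snd snd β).left := by
    rw [lci_iff, Over.comp_left] at h1
    exact lciMor_of_comp_smooth _ l.left h1
  have h3 : LciMor snd.left := lciMor_of_isPullback_etale_surjective sqL h2
  exact isRegularImmersion_of_lciMor snd.left h3

end W1
end H


/-- For a local complete intersection (Koszul) morphism f : X ⟶ Y of algebraic spaces over S, a smooth g
: P ⟶ Y, an etale e : U ⟶ X and a representable immersion i : U ⟶ P with i ≫ g = e ≫ f, the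
immersion i is Koszul-regular as an immersion of algebraic spaces. -/
theorem result {S : Scheme.{u}} {X Y P U : AlgSp.Space S} (f : X ⟶ Y) (g : P ⟶ Y) (e : U ⟶ X) (i : U ⟶ P)
    (hc : i ≫ g = e ≫ f) (hf : AlgSp.IsLCIMor f.hom) (hg : AlgSp.LocP @Smooth g.hom)
    (he : AlgSp.IsEtaleMor e.hom) (hi : AlgSp.RepWith @IsImmersion i.hom) :
    AlgSp.IsRegImmMor RegImm.Kind.koszul i.hom := by
  exact W1.main Y.property P.property f.hom g.hom e.hom i.hom (by rw [← ObjectProperty.FullSubcategory.comp_hom, hc]; rfl) hf hg he hi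

end Groth.Agent.S10664
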