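import Groth.Statements.S10665
import Groth.Agent.Lib.Helper15.LciSp5
-- import your own Groth.Agent.* helpers here

set_option autoImplicit false
universe u
open CategoryTheory CategoryTheory.Limits AlgebraicGeometry
open AlgSp

namespace Groth.Agent.S10665

section H
namespace W1

open Groth.Agent.Lib.Helper15.LciSp Groth.Agent.Lib.Helper3 Groth.Agent.Lib.Helper5.Lci

theorem main {S : Scheme.{u}} {X Y : Sp S} (hY : IsAlgSpace Y) (i : X ⟶ Y)
    (hi : IsRegImmMor RegImm.Kind.koszul i) : IsLCIMor i := by
  obtain ⟨hrep, hloc⟩ := hi
  obtain ⟨V, b, hbe, hbs⟩ := hY.atlas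
  have sq := hrep.isPullback b
  have hfe : RepWith @Etale (hrep.fst b) := MorphismProperty.of_isPullback sq.flip hbe
  have hfs : RepWith @Surjective (hrep.fst b) := MorphismProperty.of_isPullback sq.flip hbs
  have hk : RegImm.IsRegularImmersion .koszul (hrep.snd b).left := hloc b _ _ hbe sq
  have h2 : AlgSp.lci (hrep.snd b).left := by
    rw [lci_iff]
    exact lciMor_of_isRegularImmersion _ hk
  exact locP_of_chart_w isEtLocalW_lci i _ hfe hfs b hbe (hrep.snd b) sq.w h2

end W1
end H


/-- A Koszul-regular immersion between algebraic spaces over S (representable, Koszul-regular immersion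
on every etale scheme chart of the target) is a local complete intersection morphism (Koszul at
every point, etale locally on source and target). -/
theorem result {S : Scheme.{u}} {X Y : AlgSp.Space S} (i : X ⟶ Y) (hi : AlgSp.IsRegImmMor RegImm.Kind.koszul i.hom) :
    AlgSp.IsLCIMor i.hom := by
  exact W1.main Y.property i.hom hi

end Groth.Agent.S10665
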