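import Groth.Statements.S10666
import Groth.Agent.Lib.Helper15.LciSp5
-- import your own Groth.Agent.* helpers here

set_option autoImplicit false
universe u
open CategoryTheory CategoryTheory.Limits AlgebraicGeometry
open AlgSp

namespace Groth.Agent.S10666

section H
namespace W1

open Groth.Agent.Lib.Helper15.LciSp Groth.Agent.Lib.Helper3 Groth.Agent.Lib.Helper5.Lci

theorem main {S : Scheme.{u}} {X Y Z : Sp S} (hX : IsAlgSpace X) (hY : IsAlgSpace Y)
    (hZ : IsAlgSpace Z) (f : X ⟶ Y) (p : X ⟶ Z) (q : Y ⟶ Z) (hc : f ≫ q = p)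
    (hq : LocP @Smooth q) (hp : IsLCIMor p) : IsLCIMor f := by
  obtain ⟨T, c, hce, hcs⟩ := hZ.atlas
  obtain ⟨V, v, l, -, -, hbe, hbs, -, hl⟩ := exists_chart_over hY hZ q c hce
  obtain ⟨U, u, h, -, -, hae, has, -, hh⟩ := exists_chart_over hX hY f _ hbe
  have hsm : Smooth l.left := hq _ _ l hbe hce hl
  have hw : (u ≫ pullback.fst f (v ≫ pullback.fst q c)) ≫ p = (yon S).map (h ≫ l) ≫ c := by
    rw [← hc, ← Category.assoc, hh, Category.assoc, hl, Functor.map_comp, Category.assoc]
  have h1 : AlgSp.lci (h ≫ l).left := hp _ _ (h ≫ l) hae hce hw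
  have h2 : AlgSp.lci h.left := by
    rw [lci_iff] at h1 ⊢
    rw [Over.comp_left] at h1
    exact lciMor_of_comp_smooth h.left l.left h1
  exact locP_of_chart_w isEtLocalW_lci f _ hae (has (hbs hcs)) _ hbe h hh h2

end W1
end H


/-- For morphisms f : X ⟶ Y, p : X ⟶ Z, q : Y ⟶ Z of algebraic spaces over S with f ≫ q = p: if q is
smooth and p is a local complete intersection morphism, then so is f. -/
theorem result {S : Scheme.{u}} {X Y Z : AlgSp.Space S} (f : X ⟶ Y) (p : X ⟶ Z) (q : Y ⟶ Z) (hc : f ≫ q = p)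
    (hq : AlgSp.LocP @Smooth q.hom) (hp : AlgSp.IsLCIMor p.hom) :
    AlgSp.IsLCIMor f.hom := by
  exact W1.main X.property Y.property Z.property f.hom p.hom q.hom (by rw [← hc]; rfl) hq hp

end Groth.Agent.S10666
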