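import Groth.Statements.S10670
import Groth.Agent.Lib.Helper15.ConnBC
import Groth.Agent.Lib.Helper15.GeomRedFib
-- import your own Groth.Agent.* helpers here

set_option autoImplicit false
universe u
open CategoryTheory CategoryTheory.Limits AlgebraicGeometry
open AlgSp

namespace Groth.Agent.S10670

section H
namespace W1
open Groth.Agent.Lib.Helper3 Groth.Agent.Lib.Helper15 Groth.Agent.Lib.Helper15.ConnBC
set_option backward.isDefEq.respectTransparency.types false

variable {S : Scheme.{u}}

/-- a morphism of spectra of fields over `S` out of an algebraically closed one is `ConnFib` -/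
theorem connFib_of_isAlgClosed {K Ω : Type u} [Field K] [IsAlgClosed K] [Field Ω]
    {strK : Spec (CommRingCat.of K) ⟶ S} {w : Spec (CommRingCat.of Ω) ⟶ S}
    (c : Over.mk w ⟶ Over.mk strK) : ConnFib c := by
  letI : Algebra K Ω := (Spec.preimage c.left).hom.toAlgebra
  refine connFib_of_isSepClosed (k := K) (K := Ω) c rfl rfl ?_
  simp only [eqToHom_refl, Category.id_comp, Category.comp_id]
  exact (Spec.map_preimage c.left).symm

/-- the number of connected components of a geometric fibre only depends on the point: comparison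
along a common extension -/
theorem card_eq {X Y : Sp S} (hX : IsAlgSpace X) (hY : IsAlgSpace Y) (f : X ⟶ Y)
    {K K' Ω : Type u} [Field K] [IsAlgClosed K] [Field K'] [IsAlgClosed K'] [Field Ω]
    {strK : Spec (CommRingCat.of K) ⟶ S} {strK' : Spec (CommRingCat.of K') ⟶ S}
    {w : Spec (CommRingCat.of Ω) ⟶ S}
    (y : (yon S).obj (Over.mk strK) ⟶ Y) (y' : (yon S).obj (Over.mk strK') ⟶ Y)
    (c : Over.mk w ⟶ Over.mk strK) (d : Over.mk w ⟶ Over.mk strK')
    (hcd : (yon S).map c ≫ y = (yon S).map d ≫ y')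
    {Z Z' : Sp S} {a : Z ⟶ X} {b : Z ⟶ (yon S).obj (Over.mk strK)} (h : IsPullback a b f y)
    {a' : Z' ⟶ X} {b' : Z' ⟶ (yon S).obj (Over.mk strK')} (h' : IsPullback a' b' f y') :
    ENat.card (_root_.ConnectedComponents (Points Z')) =
      ENat.card (_root_.ConnectedComponents (Points Z)) := by
  have hZ : IsAlgSpace Z := isAlgSpace_of_isPullback' hY hX (IsAlgSpace.yon_obj _) h
  have hZ' : IsAlgSpace Z' := isAlgSpace_of_isPullback' hY hX (IsAlgSpace.yon_obj _) h'
  -- the common base change
  let W := pullback b ((yon S).map c)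
  have sq1 : IsPullback (pullback.fst b ((yon S).map c)) (pullback.snd b ((yon S).map c)) b
    ((yon S).map c) := IsPullback.of_hasPullback _ _
  have big : IsPullback (pullback.fst b ((yon S).map c) ≫ a) (pullback.snd b ((yon S).map c)) f
      ((yon S).map c ≫ y) := sq1.paste_horiz h
  have hw : (pullback.fst b ((yon S).map c) ≫ a) ≫ f =
      (pullback.snd b ((yon S).map c) ≫ (yon S).map d) ≫ y' := by
    rw [Category.assoc, Category.assoc, ← hcd, ← big.w, Category.assoc]
  let l : W ⟶ Z' := h'.lift _ _ hw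
  have sq2 : IsPullback l (pullback.snd b ((yon S).map c)) b' ((yon S).map d) := by
    refine IsPullback.of_right ?_ (h'.lift_snd _ _ hw) h'
    rw [h'.lift_fst, ← hcd]
    exact big
  have e1 := bijective_pi0 hZ c (connFib_of_isAlgClosed c) b _ _ sq1
  have e2 := bijective_pi0 hZ' d (connFib_of_isAlgClosed d) b' _ _ sq2
  rw [← ENat.card_congr (Equiv.ofBijective _ e1), ← ENat.card_congr (Equiv.ofBijective _ e2)]

theorem main {S : Scheme.{u}} {X Y X' Y' : AlgSp.Space S} (f : X ⟶ Y) (g : Y' ⟶ Y) (gX : X' ⟶ X) (f' : X' ⟶ Y')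
    (hsq : IsPullback gX.hom f'.hom f.hom g.hom)
    (k' : AlgSp.FieldPt Y'.obj) (hk' : k'.IsGeometric) (k : AlgSp.FieldPt Y.obj) (hk : k.IsGeometric)
    (hkk : AlgSp.Points.mk k = AlgSp.Points.map g.hom (AlgSp.Points.mk k'))
    (Xk' : AlgSp.Sp S) (a' : Xk' ⟶ X'.obj) (b' : Xk' ⟶ (AlgSp.yon S).obj k'.pt) (h' : IsPullback a' b' f'.hom k'.toHom)
    (Xk : AlgSp.Sp S) (a : Xk ⟶ X.obj) (b : Xk ⟶ (AlgSp.yon S).obj k.pt) (h : IsPullback a b f.hom k.toHom) :
    ENat.card (_root_.ConnectedComponents (AlgSp.Points Xk')) = ENat.card (_root_.ConnectedComponents (AlgSp.Points Xk)) := by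
  haveI : IsAlgClosed k.K := hk
  haveI : IsAlgClosed k'.K := hk'
  have hp : IsPullback (a' ≫ gX.hom) b' f.hom (k'.toHom ≫ g.hom) := h'.paste_horiz hsq
  rw [Points.map_mk] at hkk
  obtain ⟨Ω, _, w, c, d, hcd⟩ := GeomRedFib.toHom_eq_of_rel (Points.mk_eq_mk_iff.1 hkk)
  rw [FieldPt.toHom_map] at hcd
  exact card_eq X.property Y.property f.hom k.toHom (k'.toHom ≫ g.hom) c d hcd h hp

end W1
end H


/-- For morphisms f : X ⟶ Y and g : Y' ⟶ Y between algebraic spaces over S, f' : X' ⟶ Y' the base change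
of f along g, an algebraically closed field point k' of Y' and an algebraically closed field point k
of Y whose class in |Y| is the image of the class of k', the fibres X'_{k'} and X_k (pullbacks in
fppf sheaves) have the same number of connected components of their spaces of points, counted in ℕ∞.
With g the identity this says the number of geometric connected components of the fibre over a point
of |Y| is well defined. -/
theorem result {S : Scheme.{u}} {X Y X' Y' : AlgSp.Space S} (f : X ⟶ Y) (g : Y' ⟶ Y) (gX : X' ⟶ X) (f' : X' ⟶ Y')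
    (hsq : IsPullback gX.hom f'.hom f.hom g.hom)
    (k' : AlgSp.FieldPt Y'.obj) (hk' : k'.IsGeometric) (k : AlgSp.FieldPt Y.obj) (hk : k.IsGeometric)
    (hkk : AlgSp.Points.mk k = AlgSp.Points.map g.hom (AlgSp.Points.mk k'))
    (Xk' : AlgSp.Sp S) (a' : Xk' ⟶ X'.obj) (b' : Xk' ⟶ (AlgSp.yon S).obj k'.pt) (h' : IsPullback a' b' f'.hom k'.toHom)
    (Xk : AlgSp.Sp S) (a : Xk ⟶ X.obj) (b : Xk ⟶ (AlgSp.yon S).obj k.pt) (h : IsPullback a b f.hom k.toHom) :
    ENat.card (_root_.ConnectedComponents (AlgSp.Points Xk')) = ENat.card (_root_.ConnectedComponents (AlgSp.Points Xk)) := by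
  exact W1.main f g gX f' hsq k' hk' k hk hkk Xk' a' b' h' Xk a b h

end Groth.Agent.S10670
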