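import Groth.Statements.S10676
import Groth.Agent.Lib.Helper15.EtSplitMulti
-- import your own Groth.Agent.* helpers here

set_option autoImplicit false
universe u
open CategoryTheory CategoryTheory.Limits AlgebraicGeometry
open AlgSp

namespace Groth.Agent.S10676

section H
namespace W1
open Groth.Agent.Lib.Helper3 Groth.Agent.Lib.Helper15 Groth.Agent.Lib.Helper15.EtSplitMulti
set_option backward.isDefEq.respectTransparency.types false

theorem main {S : Scheme.{u}} {X Y : AlgSp.Space S} (f : X ⟶ Y) (y : AlgSp.Points Y.obj)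
    (xs : Finset (AlgSp.Points X.obj)) (hxs : ∀ x ∈ xs, AlgSp.Points.map f.hom x = y)
    (hf1 : AlgSp.LocP @LocallyOfFiniteType f.hom) (hf2 : AlgSp.IsSeparatedMor f.hom)
    (hf3 : ∀ x ∈ xs, AlgSp.HasAtMor (fun U _ h u => ∃ W : U.Opens, u ∈ W ∧ LocallyQuasiFinite (W.ι ≫ h) ∧ LocallyOfFiniteType (W.ι ≫ h)) f.hom x)
    (hf4 : AlgSp.IsQuasiCompactMor f.hom ∨ AlgSp.IsDecent Y.obj) :
    ∃ (U : AlgSp.Space S) (a : U ⟶ Y) (u : AlgSp.Points U.obj), AlgSp.IsEtaleMor a.hom ∧ AlgSp.Points.map a.hom u = y ∧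
      ∀ (P : AlgSp.Space S) (prX : P ⟶ X) (prU : P ⟶ U), IsPullback prX.hom prU.hom f.hom a.hom →
        ∃ (V : AlgSp.Space S) (jV : V ⟶ P), AlgSp.RepWith @IsOpenImmersion jV.hom ∧ AlgSp.RepWith @IsClosedImmersion jV.hom ∧
          AlgSp.IsFiniteMor (jV ≫ prU).hom ∧
          (∀ v : AlgSp.Points V.obj, AlgSp.Points.map (jV ≫ prU).hom v = u → AlgSp.Points.map (jV ≫ prX).hom v ∈ xs) ∧
          ∀ w : AlgSp.Points P.obj, w ∉ Set.range (AlgSp.Points.map jV.hom) → AlgSp.Points.map prU.hom w = u →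
            AlgSp.Points.map prX.hom w ∉ xs := by
  have hfin : ∀ {V₀ : Over S} (b : (yon S).obj V₀ ⟶ Y.obj), RepWith @Etale b → ∀ v₀ : ↥V₀.left,
      Points.ofPt b v₀ = y → ∀ (W : Sp S) (p : W ⟶ X.obj) (q : W ⟶ (yon S).obj V₀),
        IsPullback p q f.hom b →
          {w : Points W | Points.map q w = Points.ofScheme V₀ v₀ ∧
            Points.map p w ∈ (xs : Set (Points X.obj))}.Finite := by
    intro V₀ b hbe v₀ hv₀ W p q sq
    have hW : IsAlgSpace W := isAlgSpace_of_isPullback' Y.property X.property (IsAlgSpace.yon_obj _) sq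
    let W' : Space S := ⟨W, hW⟩
    let Z' : Space S := ⟨(yon S).obj V₀, IsAlgSpace.yon_obj _⟩
    let q' : W' ⟶ Z' := ObjectProperty.homMk q
    let p' : W' ⟶ X := ObjectProperty.homMk p
    let b' : Z' ⟶ Y := ObjectProperty.homMk b
    rcases hf4 with hqc | hdec
    · have hq : IsFiniteTypeMor q'.hom :=
        ⟨locP_of_isPullback isEtLocal_locallyOfFiniteType X.property Y.property
          (IsAlgSpace.yon_obj _) hW f.hom b p q sq hf1, isQuasiCompactMor_of_isPullback sq hqc⟩
      refine (Groth.Agent.Lib.lead.QFFinSp.main q' hq (Points.ofScheme V₀ v₀)).subset ?_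
      rintro w ⟨hw1, hw2⟩
      refine ⟨hw1, ?_⟩
      exact AlgSpLocus.hasAtMor_of_isPullback isEtLocal_locallyQuasiFinite X.property Y.property
        (IsAlgSpace.yon_obj _) hW f.hom b p q sq w (hf3 _ hw2)
    · have hb0 : RepWith PQ b := MorphismProperty.relative_monotone
          (fun _ _ k hk => isEtLocal_locallyQuasiFinite.etale_le _ hk) _ hbe
      have hb1 : LocP PQ b := locP_of_repWith isEtLocal_locallyQuasiFinite b hb0
      have hb2 := hasAtMor_of_locP isEtLocal_locallyQuasiFinite (IsAlgSpace.yon_obj _) Y.property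
        b hb1 (Points.ofScheme V₀ v₀)
      have hyb : Points.map b (Points.ofScheme V₀ v₀) = y := by
        rw [← Points.ofPt_eq_map_ofScheme]; exact hv₀
      obtain ⟨r, hr, hmono, -⟩ := hdec (Points.map b (Points.ofScheme V₀ v₀))
      refine (Set.Finite.biUnion xs.finite_toSet (fun x hx =>
        Groth.Agent.S10389.result f b' p' q' sq x (Points.ofScheme V₀ v₀)
          ((hxs x hx).trans hyb.symm) ⟨r, hr, hmono⟩ hb2)).subset ?_
      rintro w ⟨h1, h2⟩
      exact Set.mem_biUnion h2 ⟨rfl, h1⟩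
  obtain ⟨U, a, u, hae, hau, H⟩ := main10676 X.property Y.property f.hom y
    (xs : Set (Points X.obj)) hf2 (fun x hx => hf3 x hx) hfin
  refine ⟨⟨(yon S).obj U, IsAlgSpace.yon_obj _⟩, ObjectProperty.homMk a, u, hae, hau, ?_⟩
  intro P prX prU sqP
  obtain ⟨V, jV, h1, h2, h3, h4, h5⟩ := H P.obj prX.hom prU.hom sqP
  exact ⟨⟨(yon S).obj V, IsAlgSpace.yon_obj _⟩, ObjectProperty.homMk jV, h1, h2, h3,
    fun v hv => h4 v hv, fun w hw hu => h5 w hw hu⟩

end W1
end H


/-- For a separated morphism f : X ⟶ Y of algebraic spaces over S which is locally of finite type, a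
point y of |Y| and a finite set xs of points of |X| mapping to y at each of which f is quasi-finite
(some etale chart diagram through the point has top arrow locally quasi-finite and locally of finite
type on an open neighbourhood), assuming moreover that f is quasi-compact or Y is decent: there are
an etale morphism of algebraic spaces a : U ⟶ Y and a point u of |U| over y such that for the base
change P = U ×_Y X there is an open and closed subspace V ⊂ P, finite over U, such that every point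
of |V| over u maps into xs and no point of |P| outside |V| lying over u maps into xs. -/
theorem result {S : Scheme.{u}} {X Y : AlgSp.Space S} (f : X ⟶ Y) (y : AlgSp.Points Y.obj)
    (xs : Finset (AlgSp.Points X.obj)) (hxs : ∀ x ∈ xs, AlgSp.Points.map f.hom x = y)
    (hf1 : AlgSp.LocP @LocallyOfFiniteType f.hom) (hf2 : AlgSp.IsSeparatedMor f.hom)
    (hf3 : ∀ x ∈ xs, AlgSp.HasAtMor (fun U _ h u => ∃ W : U.Opens, u ∈ W ∧ LocallyQuasiFinite (W.ι ≫ h) ∧ LocallyOfFiniteType (W.ι ≫ h)) f.hom x)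
    (hf4 : AlgSp.IsQuasiCompactMor f.hom ∨ AlgSp.IsDecent Y.obj) :
    ∃ (U : AlgSp.Space S) (a : U ⟶ Y) (u : AlgSp.Points U.obj), AlgSp.IsEtaleMor a.hom ∧ AlgSp.Points.map a.hom u = y ∧
      ∀ (P : AlgSp.Space S) (prX : P ⟶ X) (prU : P ⟶ U), IsPullback prX.hom prU.hom f.hom a.hom →
        ∃ (V : AlgSp.Space S) (jV : V ⟶ P), AlgSp.RepWith @IsOpenImmersion jV.hom ∧ AlgSp.RepWith @IsClosedImmersion jV.hom ∧
          AlgSp.IsFiniteMor (jV ≫ prU).hom ∧
          (∀ v : AlgSp.Points V.obj, AlgSp.Points.map (jV ≫ prU).hom v = u → AlgSp.Points.map (jV ≫ prX).hom v ∈ xs) ∧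
          ∀ w : AlgSp.Points P.obj, w ∉ Set.range (AlgSp.Points.map jV.hom) → AlgSp.Points.map prU.hom w = u →
            AlgSp.Points.map prX.hom w ∉ xs := by
  exact W1.main f y xs hxs hf1 hf2 hf3 hf4

end Groth.Agent.S10676
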