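import Groth.Statements.S10680
import Groth.Agent.Lib.Helper15.FibDimSp
import Groth.Agent.Lib.Helper18.Chev.Main
-- import your own Groth.Agent.* helpers here

set_option autoImplicit false
universe u
open CategoryTheory CategoryTheory.Limits AlgebraicGeometry
open AlgSp

namespace Groth.Agent.S10680

section H
namespace W1

open Groth.Agent.Lib.Helper15.FibDimSp Groth.Agent.Lib.Helper3 Groth.Agent.Lib.Helper18

variable {S : Scheme.{u}}

/-- The locus where the relative dimension is at most `n` is open. -/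
theorem isOpen_relDim_le {X Y : Sp S} (f : X ⟶ Y) (hf : LocP @LocallyOfFiniteType f) (n : ℕ) :
    IsOpen {x : Points X | HasAtMor (fun _ _ h u => FlatMor.fibreDimAt h u ≤ (n : WithBot ℕ∞)) f x} := by
  rw [isOpen_iff_forall_mem_open]
  rintro x ⟨U, V, a, b, h, u, hae, hbe, hw, hu, hle⟩
  haveI : LocallyOfFiniteType h.left := hf a b h hae hbe hw
  refine ⟨Points.ofPt a '' {u' | FlatMor.fibreDimAt h.left u' ≤ (n : WithBot ℕ∞)}, ?_,
    isOpenMap_ofPt a hae _ (Chev.isOpen_fibreDimAt_le h.left n), ⟨u, hle, hu⟩⟩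
  rintro _ ⟨u', hu', rfl⟩
  exact ⟨U, V, a, b, h, u', hae, hbe, hw, rfl, hu'⟩

theorem lt_zero_iff (x : WithBot ℕ∞) : x < ((0 : ℕ) : WithBot ℕ∞) ↔ x = ⊥ := by
  induction x using WithBot.recBotCoe with
  | bot => simp
  | coe m =>
    constructor
    · intro h
      have : m < (0 : ℕ∞) := by exact_mod_cast h
      exact absurd this (by simp)
    · intro h
      exact absurd h (by simp)

theorem lt_succ_iff (x : WithBot ℕ∞) (n : ℕ) :
    x < ((n + 1 : ℕ) : WithBot ℕ∞) ↔ x ≤ ((n : ℕ) : WithBot ℕ∞) := by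
  induction x using WithBot.recBotCoe with
  | bot => simp
  | coe m =>
    have h1 : ((m : ℕ∞) : WithBot ℕ∞) < ((n + 1 : ℕ) : WithBot ℕ∞) ↔ m < ((n + 1 : ℕ) : ℕ∞) := by
      exact_mod_cast Iff.rfl
    have h2 : ((m : ℕ∞) : WithBot ℕ∞) ≤ ((n : ℕ) : WithBot ℕ∞) ↔ m ≤ ((n : ℕ) : ℕ∞) := by
      exact_mod_cast Iff.rfl
    rw [h1, h2]
    push_cast
    exact ENat.lt_add_one_iff (ENat.natCast_ne_top n)

theorem lt_top_iff (x : WithBot ℕ∞) :
    x < ((⊤ : ℕ∞) : WithBot ℕ∞) ↔ ∃ n : ℕ, x ≤ ((n : ℕ) : WithBot ℕ∞) := by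
  induction x using WithBot.recBotCoe with
  | bot => simp
  | coe m =>
    constructor
    · intro h
      have h1 : m < ⊤ := by exact_mod_cast h
      obtain ⟨n, rfl⟩ := ENat.ne_top_iff_exists.1 h1.ne
      exact ⟨n, le_rfl⟩
    · rintro ⟨n, hn⟩
      have h1 : m ≤ (n : ℕ∞) := by exact_mod_cast hn
      have : m < ⊤ := lt_of_le_of_lt h1 (ENat.natCast_lt_top n)
      exact_mod_cast this

theorem main {X Y : AlgSp.Space S} (f : X ⟶ Y) (hf : AlgSp.IsProperMor f.hom) (d : WithBot ℕ∞) :
    IsOpen {y : AlgSp.Points Y.obj | ∀ (k : AlgSp.FieldPt Y.obj), AlgSp.Points.mk k = y →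
      ∀ (Xk : AlgSp.Sp S) (fst : Xk ⟶ X.obj) (snd : Xk ⟶ (AlgSp.yon S).obj k.pt),
        IsPullback fst snd f.hom k.toHom → AlgSp.dim Xk < d} := by
  have hlft : LocP @LocallyOfFiniteType f.hom := hf.2.1.1
  have hcl : IsClosedMap (Points.map f.hom) :=
    hf.2.2 Y.property (𝟙 _) (𝟙 _) f.hom (IsPullback.of_horiz_isIso ⟨by simp⟩)
  -- the basic open sets
  let E : ℕ → Set (Points X.obj) := fun n =>
    {x | HasAtMor (fun _ _ h u => FlatMor.fibreDimAt h u ≤ (n : WithBot ℕ∞)) f.hom x}
  let B : ℕ → Set (Points Y.obj) := fun n => (Points.map f.hom '' (E n)ᶜ)ᶜ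
  have hB : ∀ n, IsOpen (B n) := fun n =>
    (hcl _ (isOpen_relDim_le f.hom hlft n).isClosed_compl).isOpen_compl
  have hB0 : IsOpen (Set.range (Points.map f.hom))ᶜ := by
    rw [← Set.image_univ]
    exact (hcl _ isClosed_univ).isOpen_compl
  have hBmem : ∀ n y, y ∈ B n ↔ ∀ x, Points.map f.hom x = y → x ∈ E n := by
    intro n y
    constructor
    · intro hy x hx
      by_contra hne
      exact hy ⟨x, hne, hx⟩
    · rintro H ⟨x, hxE, hx⟩
      exact hxE (H x hx)
  -- the pointwise characterisation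
  have key : ∀ (P : WithBot ℕ∞ → Prop) (Q : Points Y.obj → Prop),
      (∀ (k : FieldPt Y.obj) (Xk : Sp S) (fst : Xk ⟶ X.obj) (snd : Xk ⟶ (yon S).obj k.pt),
        IsPullback fst snd f.hom k.toHom → (P (AlgSp.dim Xk) ↔ Q (Points.mk k))) →
      {y : Points Y.obj | ∀ (k : FieldPt Y.obj), Points.mk k = y →
        ∀ (Xk : Sp S) (fst : Xk ⟶ X.obj) (snd : Xk ⟶ (yon S).obj k.pt),
          IsPullback fst snd f.hom k.toHom → P (AlgSp.dim Xk)} = {y | Q y} := by
    intro P Q hPQ
    ext y
    constructor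
    · intro hy
      obtain ⟨k, rfl⟩ := Points.mk_surjective y
      exact (hPQ k _ _ _ (IsPullback.of_hasPullback f.hom k.toHom)).1
        (hy k rfl _ _ _ (IsPullback.of_hasPullback f.hom k.toHom))
    · rintro hy k rfl Xk fst snd sq
      exact (hPQ k Xk fst snd sq).2 hy
  induction d using WithBot.recBotCoe with
  | bot =>
    rw [key (fun z => z < ⊥) (fun _ => False) (fun k Xk fst snd sq => by simp)]
    simp
  | coe m =>
    induction m using ENat.recTopCoe with
    | top =>
      rw [key (fun z => z < ((⊤ : ℕ∞) : WithBot ℕ∞)) (fun y => ∃ n, y ∈ B n)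
        (fun k Xk fst snd sq => by
          rw [lt_top_iff]
          refine exists_congr fun n => ?_
          rw [hBmem, dim_fibre_le_iff X.property Y.property f.hom hlft k fst snd sq n]
          exact Iff.rfl)]
      have : {y | ∃ n, y ∈ B n} = ⋃ n, B n := by ext y; simp
      rw [this]
      exact isOpen_iUnion hB
    | coe n =>
      rcases n with _ | n
      · rw [key (fun z => z < (((0 : ℕ) : ℕ∞) : WithBot ℕ∞))
          (fun y => y ∈ (Set.range (Points.map f.hom))ᶜ)
          (fun k Xk fst snd sq => by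
            have := lt_zero_iff (AlgSp.dim Xk)
            rw [dim_fibre_eq_bot_iff X.property Y.property f.hom k fst snd sq] at this
            exact_mod_cast this)]
        exact hB0
      · rw [key (fun z => z < (((n + 1 : ℕ) : ℕ∞) : WithBot ℕ∞)) (fun y => y ∈ B n)
          (fun k Xk fst snd sq => by
            have := lt_succ_iff (AlgSp.dim Xk) n
            rw [dim_fibre_le_iff X.property Y.property f.hom hlft k fst snd sq n] at this
            rw [hBmem]
            exact_mod_cast this)]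
        exact hB n

end W1
end H


/-- For a proper morphism f : X ⟶ Y between algebraic spaces over S the fibre dimension function on |Y|
is upper semi-continuous: for every d the set of y such that every fibre X_k over y (k a field point
in the class of y, X_k any pullback in fppf sheaves) has dimension less than d is open. -/
theorem result {S : Scheme.{u}} {X Y : AlgSp.Space S} (f : X ⟶ Y) (hf : AlgSp.IsProperMor f.hom) (d : WithBot ℕ∞) :
    IsOpen {y : AlgSp.Points Y.obj | ∀ (k : AlgSp.FieldPt Y.obj), AlgSp.Points.mk k = y →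
      ∀ (Xk : AlgSp.Sp S) (fst : Xk ⟶ X.obj) (snd : Xk ⟶ (AlgSp.yon S).obj k.pt),
        IsPullback fst snd f.hom k.toHom → AlgSp.dim Xk < d} := by
  exact W1.main f hf d

end Groth.Agent.S10680
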