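import Groth.Statements.S10681
import Groth.Agent.Lib.Helper15.ConnFin
import Groth.Agent.Lib.Helper15.EtNbRes
import Groth.Agent.Lib.Helper3.AlgSpGeomLift
import Groth.Agent.Lib.Helper3.AlgSpFpqcLocal
-- import your own Groth.Agent.* helpers here

set_option autoImplicit false
universe u
open CategoryTheory CategoryTheory.Limits AlgebraicGeometry
open AlgSp

namespace Groth.Agent.S10681

section H
namespace W1

open Groth.Agent.Lib.Helper3 Groth.Agent.Lib.Helper15 Groth.Agent.Lib.Helper15.ConnBC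
  Groth.Agent.Lib.Helper15.ConnFin
set_option backward.isDefEq.respectTransparency.types false

variable {S : Scheme.{u}}

/-- a field point of a scheme over `S` factors through the residue field of its image -/
theorem exists_factor {K : Type u} [Field K] (str : Spec (CommRingCat.of K) ⟶ S) {V : Over S}
    (c : Over.mk str ⟶ V) (v : ↥V.left) (hv : c.left (IsLocalRing.closedPoint K) = v) :
    ∃ φ : V.left.residueField v ⟶ CommRingCat.of K,
      Spec.map φ ≫ V.left.fromSpecResidueField v = c.left := by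
  subst hv
  let cl : Spec (CommRingCat.of K) ⟶ V.left := c.left
  let φ : V.left.residueField (cl (IsLocalRing.closedPoint K)) ⟶ CommRingCat.of K :=
    V.left.descResidueField (Scheme.stalkClosedPointTo cl)
  exact ⟨φ, Scheme.descResidueField_stalkClosedPointTo_fromSpecResidueField K V.left cl⟩

/-- the morphism over `S` induced by a factorization -/
noncomputable def facHom {K : Type u} [Field K] (str : Spec (CommRingCat.of K) ⟶ S) {V : Over S}
    (c : Over.mk str ⟶ V) (v : ↥V.left) (φ : V.left.residueField v ⟶ CommRingCat.of K)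
    (hφ : Spec.map φ ≫ V.left.fromSpecResidueField v = c.left) :
    Over.mk str ⟶ Over.mk (V.left.fromSpecResidueField v ≫ V.hom) :=
  Over.homMk (Spec.map φ) (by
    show Spec.map φ ≫ V.left.fromSpecResidueField v ≫ V.hom = str
    rw [← Category.assoc, hφ]
    exact Over.w c)

theorem facHom_comp {K : Type u} [Field K] (str : Spec (CommRingCat.of K) ⟶ S) {V : Over S}
    (c : Over.mk str ⟶ V) (v : ↥V.left) (φ : V.left.residueField v ⟶ CommRingCat.of K)
    (hφ : Spec.map φ ≫ V.left.fromSpecResidueField v = c.left) :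
    facHom str c v φ hφ ≫ (Over.homMk (V.left.fromSpecResidueField v) rfl :
        Over.mk (V.left.fromSpecResidueField v ≫ V.hom) ⟶ V) = c := by
  ext
  exact hφ

theorem forward {X Y : AlgSp.Space S} (f : X ⟶ Y) (yb : AlgSp.FieldPt Y.obj)
    (Xyb : AlgSp.Sp S) (fst : Xyb ⟶ X.obj) (snd : Xyb ⟶ (AlgSp.yon S).obj yb.pt)
    (h : IsPullback fst snd f.hom yb.toHom) [ConnectedSpace (AlgSp.Points Xyb)]
    (V : Over S) (a : (AlgSp.yon S).obj V ⟶ Y.obj)
    (v : ↥V.left) (c : yb.pt ⟶ V) (hc : (AlgSp.yon S).map c ≫ a = yb.toHom)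
    (hv : c.left (IsLocalRing.closedPoint yb.K) = v)
    (Xv : AlgSp.Sp S) (fst' : Xv ⟶ X.obj)
    (snd' : Xv ⟶ (AlgSp.yon S).obj (Over.mk (V.left.fromSpecResidueField v ≫ V.hom)))
    (h' : IsPullback fst' snd' f.hom ((AlgSp.yon S).map (Over.homMk (V.left.fromSpecResidueField v) rfl :
              Over.mk (V.left.fromSpecResidueField v ≫ V.hom) ⟶ V) ≫ a)) :
    ConnectedSpace (AlgSp.Points Xv) := by
  obtain ⟨φ, hφ⟩ := exists_factor yb.str c v hv
  let c' := facHom yb.str c v φ hφ
  have hc' : c' ≫ _ = c := facHom_comp yb.str c v φ hφ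
  set m := (AlgSp.yon S).map (Over.homMk (V.left.fromSpecResidueField v) rfl :
    Over.mk (V.left.fromSpecResidueField v ≫ V.hom) ⟶ V) with hm
  have hyb : yb.toHom = (yon S).map c' ≫ m ≫ a := by
    rw [← hc, ← hc', Functor.map_comp, Category.assoc]
  have hw : fst ≫ f.hom = (snd ≫ (yon S).map c') ≫ m ≫ a := by rw [h.w, hyb, Category.assoc]
  let l : Xyb ⟶ Xv := h'.lift fst (snd ≫ (yon S).map c') hw
  have hl1 : l ≫ fst' = fst := h'.lift_fst _ _ _
  have hl2 : l ≫ snd' = snd ≫ (yon S).map c' := h'.lift_snd _ _ _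
  have sq : IsPullback l snd snd' ((yon S).map c') := by
    refine IsPullback.of_right ?_ hl2 h'
    rw [hl1, ← hyb]
    exact h
  have hφs : Surjective c'.left := by
    show Surjective (Spec.map φ)
    have := GeomDesc.surjective_specMap_field φ.hom
    exact this
  have hsurj : Function.Surjective (Points.map l) :=
    surjective_map_of_isPullback c' hφs snd' l snd sq
  exact hsurj.connectedSpace (Points.continuous_map l)

theorem finite_level {X Y : AlgSp.Space S} (f : X ⟶ Y) (yb : AlgSp.FieldPt Y.obj)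
    (H : ∀ (V : Over S) (a : (AlgSp.yon S).obj V ⟶ Y.obj), AlgSp.RepWith @Etale a →
        ∀ (v : ↥V.left) (c : yb.pt ⟶ V), (AlgSp.yon S).map c ≫ a = yb.toHom →
          c.left (IsLocalRing.closedPoint yb.K) = v →
          ∀ (Xv : AlgSp.Sp S) (fst' : Xv ⟶ X.obj)
            (snd' : Xv ⟶ (AlgSp.yon S).obj (Over.mk (V.left.fromSpecResidueField v ≫ V.hom))),
            IsPullback fst' snd' f.hom ((AlgSp.yon S).map
              (Over.homMk (V.left.fromSpecResidueField v) rfl :
              Over.mk (V.left.fromSpecResidueField v ≫ V.hom) ⟶ V) ≫ a) →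
            ConnectedSpace (AlgSp.Points Xv))
    (V₀ : Over S) (a₀ : (yon S).obj V₀ ⟶ Y.obj) (hae : RepWith @Etale a₀)
    (c₀ : yb.pt ⟶ V₀) (hc₀ : (yon S).map c₀ ≫ a₀ = yb.toHom)
    (v₀ : ↥V₀.left) (φ : V₀.left.residueField v₀ ⟶ CommRingCat.of yb.K)
    (hφ : Spec.map φ ≫ V₀.left.fromSpecResidueField v₀ = c₀.left)
    (K : Type u) [Field K] [Algebra (V₀.left.residueField v₀) K] (ψ : K →+* yb.K)
    (hψ : ψ.comp (algebraMap (V₀.left.residueField v₀) K) = φ.hom)
    [FiniteDimensional (V₀.left.residueField v₀) K]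
    [Algebra.IsSeparable (V₀.left.residueField v₀) K]
    (ZK : Sp S) (fstK : ZK ⟶ X.obj)
    (sndK : ZK ⟶ (yon S).obj (TL (k := V₀.left.residueField v₀)
      (V₀.left.fromSpecResidueField v₀ ≫ V₀.hom) K))
    (sqK : IsPullback fstK sndK f.hom
      ((yon S).map (cL (k := V₀.left.residueField v₀)
        (V₀.left.fromSpecResidueField v₀ ≫ V₀.hom) K) ≫
        (yon S).map (Over.homMk (V₀.left.fromSpecResidueField v₀) rfl :
          Over.mk (V₀.left.fromSpecResidueField v₀ ≫ V₀.hom) ⟶ V₀) ≫ a₀)) :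
    ConnectedSpace (Points ZK) := by
  obtain ⟨U, g, u, e, -, hget, hgu, heq⟩ :=
    Groth.Agent.Lib.Helper15.EtNbRes.exists_etale_nbhd (S := V₀.left) v₀ K
  -- the étale neighbourhood as a scheme over `S`
  let VK : Over S := Over.mk (g ≫ V₀.hom)
  let gO : VK ⟶ V₀ := Over.homMk g rfl
  let aK : (yon S).obj VK ⟶ Y.obj := (yon S).map gO ≫ a₀
  have haK : RepWith @Etale aK :=
    MorphismProperty.comp_mem _ _ _ ((repWith_yon_map_iff @Etale gO).2 hget) hae
  -- the lift of the geometric point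
  have hψ' : Spec.map (CommRingCat.ofHom ψ) ≫
      Spec.map (CommRingCat.ofHom (algebraMap (V₀.left.residueField v₀) K)) = Spec.map φ := by
    rw [← Spec.map_comp, ← CommRingCat.ofHom_comp, hψ]
    rfl
  have hcl : (Spec.map (CommRingCat.ofHom ψ) ≫ e.hom ≫ U.fromSpecResidueField u) ≫ g =
      c₀.left := by
    rw [Category.assoc, Category.assoc, heq, ← Category.assoc, hψ', hφ]
  let cK : yb.pt ⟶ VK := Over.homMk (Spec.map (CommRingCat.ofHom ψ) ≫ e.hom ≫
      U.fromSpecResidueField u) (by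
    show (Spec.map (CommRingCat.ofHom ψ) ≫ e.hom ≫ U.fromSpecResidueField u) ≫ g ≫ V₀.hom = yb.str
    rw [← Category.assoc, hcl]
    exact Over.w c₀)
  have hcKg : cK ≫ gO = c₀ := by
    ext
    exact hcl
  have h1 : (yon S).map cK ≫ aK = yb.toHom := by
    rw [← hc₀, ← hcKg, Functor.map_comp, Category.assoc]
  have h2 : cK.left (IsLocalRing.closedPoint yb.K) = u := by
    show (Spec.map (CommRingCat.ofHom ψ) ≫ e.hom ≫ U.fromSpecResidueField u)
      (IsLocalRing.closedPoint yb.K) = u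
    rw [← Category.assoc, Scheme.Hom.comp_apply]
    exact Scheme.fromSpecResidueField_apply _ _
  -- the isomorphism `Spec K ≅ Spec κ(u)` over `S`
  let eO : TL (k := V₀.left.residueField v₀) (V₀.left.fromSpecResidueField v₀ ≫ V₀.hom) K ≅
      Over.mk (VK.left.fromSpecResidueField u ≫ VK.hom) := Over.isoMk e (by
    show e.hom ≫ U.fromSpecResidueField u ≫ g ≫ V₀.hom =
      Spec.map (CommRingCat.ofHom (algebraMap (V₀.left.residueField v₀) K)) ≫
        V₀.left.fromSpecResidueField v₀ ≫ V₀.hom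
    rw [← Category.assoc, ← Category.assoc, Category.assoc e.hom, heq, Category.assoc])
  have heO : cL (k := V₀.left.residueField v₀) (V₀.left.fromSpecResidueField v₀ ≫ V₀.hom) K ≫
      (Over.homMk (V₀.left.fromSpecResidueField v₀) rfl :
          Over.mk (V₀.left.fromSpecResidueField v₀ ≫ V₀.hom) ⟶ V₀) =
      eO.hom ≫ (Over.homMk (VK.left.fromSpecResidueField u) rfl :
              Over.mk (VK.left.fromSpecResidueField u ≫ VK.hom) ⟶ VK) ≫ gO := by
    ext
    exact heq.symm
  refine H VK aK haK u cK h1 h2 ZK fstK (sndK ≫ (yon S).map eO.hom) ?_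
  refine IsPullback.of_iso sqK (Iso.refl _) (Iso.refl _) ((yon S).mapIso eO) (Iso.refl _)
    ?_ ?_ ?_ ?_
  · simp
  · simp
  · simp
  · rw [Iso.refl_hom, Category.comp_id, Functor.mapIso_hom, ← Category.assoc, ← Functor.map_comp,
      heO, Functor.map_comp, Functor.map_comp, Category.assoc, Category.assoc]

theorem backward {X Y : AlgSp.Space S} (f : X ⟶ Y) (yb : AlgSp.FieldPt Y.obj)
    (hyb : yb.IsGeometric)
    (Xyb : AlgSp.Sp S) (fst : Xyb ⟶ X.obj) (snd : Xyb ⟶ (AlgSp.yon S).obj yb.pt)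
    (h : IsPullback fst snd f.hom yb.toHom)
    (H : ∀ (V : Over S) (a : (AlgSp.yon S).obj V ⟶ Y.obj), AlgSp.RepWith @Etale a →
        ∀ (v : ↥V.left) (c : yb.pt ⟶ V), (AlgSp.yon S).map c ≫ a = yb.toHom →
          c.left (IsLocalRing.closedPoint yb.K) = v →
          ∀ (Xv : AlgSp.Sp S) (fst' : Xv ⟶ X.obj)
            (snd' : Xv ⟶ (AlgSp.yon S).obj (Over.mk (V.left.fromSpecResidueField v ≫ V.hom))),
            IsPullback fst' snd' f.hom ((AlgSp.yon S).map
              (Over.homMk (V.left.fromSpecResidueField v) rfl :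
              Over.mk (V.left.fromSpecResidueField v ≫ V.hom) ⟶ V) ≫ a) →
            ConnectedSpace (AlgSp.Points Xv)) :
    ConnectedSpace (AlgSp.Points Xyb) := by
  haveI : IsAlgClosed yb.K := hyb
  -- an étale chart of `Y` and a lift of the geometric point
  obtain ⟨V₀, a₀, hae, has⟩ := Y.property.atlas
  obtain ⟨v₀', hv₀'⟩ := exists_ofPt_eq a₀ has (Points.mk yb)
  obtain ⟨ubar, hubar, -⟩ := exists_lift_geometric_point (IsAlgSpace.yon_obj V₀) Y.property a₀
    (isEtaleMor_of_repWith_etale hae) yb hyb (Points.ofPt (𝟙 _) v₀') (by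
      rw [Points.map_ofPt, Category.id_comp, hv₀'])
  obtain ⟨c₀, rfl⟩ := (yon S).map_surjective ubar
  obtain ⟨v₀, hv₀⟩ : ∃ v₀ : ↥V₀.left, c₀.left (IsLocalRing.closedPoint yb.K) = v₀ := ⟨_, rfl⟩
  obtain ⟨φ, hφ⟩ := exists_factor yb.str c₀ v₀ hv₀
  letI algK : Algebra (V₀.left.residueField v₀) yb.K := φ.hom.toAlgebra
  let σ : Spec (CommRingCat.of (V₀.left.residueField v₀)) ⟶ S :=
    V₀.left.fromSpecResidueField v₀ ≫ V₀.hom
  let m₀ : (yon S).obj (Over.mk σ) ⟶ (yon S).obj V₀ :=
    (yon S).map (Over.homMk (V₀.left.fromSpecResidueField v₀) rfl)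
  -- the fibre over `v₀`
  let Z : Sp S := pullback f.hom (m₀ ≫ a₀)
  let s : Z ⟶ (yon S).obj (Over.mk σ) := pullback.snd _ _
  have sqZ : IsPullback (pullback.fst f.hom (m₀ ≫ a₀)) s f.hom (m₀ ≫ a₀) :=
    IsPullback.of_hasPullback _ _
  have hZ : IsAlgSpace Z :=
    isAlgSpace_of_isPullback' Y.property X.property (IsAlgSpace.yon_obj _) sqZ
  -- the separable closure
  let Ω : IntermediateField (V₀.left.residueField v₀) yb.K :=
    separableClosure (V₀.left.residueField v₀) yb.K
  haveI : IsSepClosed Ω :=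
    (separableClosure.isSepClosure (F := V₀.left.residueField v₀) (E := yb.K)).sep_closed
  let ZΩ : Sp S := pullback s ((yon S).map (cL σ Ω))
  have sqΩ : IsPullback (pullback.fst s ((yon S).map (cL σ Ω)))
      (pullback.snd s ((yon S).map (cL σ Ω))) s ((yon S).map (cL σ Ω)) :=
    IsPullback.of_hasPullback _ _
  haveI hconnΩ : ConnectedSpace (Points ZΩ) := by
    refine connectedSpace_of_forall_finite σ hZ s _ _ sqΩ ?_
    intro K hK
    refine ⟨pullback s ((yon S).map (cL σ K)), pullback.fst _ _, pullback.snd _ _,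
      IsPullback.of_hasPullback _ _, ?_⟩
    haveI := hK
    haveI : Algebra.IsSeparable (V₀.left.residueField v₀) K :=
      Algebra.isSeparable_tower_bot_of_isSeparable (V₀.left.residueField v₀) K Ω
    refine finite_level f yb H V₀ a₀ hae c₀ hubar v₀ φ hφ K
      ((algebraMap Ω yb.K).comp (algebraMap K Ω)) ?_ _
      (pullback.fst s ((yon S).map (cL σ K)) ≫ pullback.fst f.hom (m₀ ≫ a₀))
      (pullback.snd s ((yon S).map (cL σ K))) ?_
    · ext x
      rfl
    · exact (IsPullback.of_hasPullback s ((yon S).map (cL σ K))).paste_horiz sqZ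
  -- from the separable closure to the geometric point
  have hΩφ : Spec.map (CommRingCat.ofHom (algebraMap Ω yb.K)) ≫
      Spec.map (CommRingCat.ofHom (algebraMap (V₀.left.residueField v₀) Ω)) = Spec.map φ := by
    rw [← Spec.map_comp, ← CommRingCat.ofHom_comp, ← IsScalarTower.algebraMap_eq]
    rfl
  let cΩ : yb.pt ⟶ TL σ Ω := Over.homMk (Spec.map (CommRingCat.ofHom (algebraMap Ω yb.K))) (by
    show Spec.map (CommRingCat.ofHom (algebraMap Ω yb.K)) ≫
      Spec.map (CommRingCat.ofHom (algebraMap (V₀.left.residueField v₀) Ω)) ≫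
        V₀.left.fromSpecResidueField v₀ ≫ V₀.hom = yb.str
    rw [← Category.assoc, hΩφ, ← Category.assoc, hφ]
    exact Over.w c₀)
  have hcΩ : cΩ ≫ cL σ Ω ≫ (Over.homMk (V₀.left.fromSpecResidueField v₀) rfl :
      Over.mk σ ⟶ V₀) = c₀ := by
    ext
    show Spec.map (CommRingCat.ofHom (algebraMap Ω yb.K)) ≫
      Spec.map (CommRingCat.ofHom (algebraMap (V₀.left.residueField v₀) Ω)) ≫
        V₀.left.fromSpecResidueField v₀ = c₀.left
    rw [← Category.assoc, hΩφ, hφ]
  have hyb' : yb.toHom = (yon S).map cΩ ≫ (yon S).map (cL σ Ω) ≫ m₀ ≫ a₀ := by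
    rw [← hubar, ← hcΩ, Functor.map_comp, Functor.map_comp, Category.assoc, Category.assoc]
  have sqΩZ : IsPullback (pullback.fst s ((yon S).map (cL σ Ω)) ≫ pullback.fst f.hom (m₀ ≫ a₀))
      (pullback.snd s ((yon S).map (cL σ Ω))) f.hom ((yon S).map (cL σ Ω) ≫ m₀ ≫ a₀) :=
    sqΩ.paste_horiz sqZ
  have hw : fst ≫ f.hom = (snd ≫ (yon S).map cΩ) ≫ (yon S).map (cL σ Ω) ≫ m₀ ≫ a₀ := by
    rw [h.w, hyb', Category.assoc]
  let l : Xyb ⟶ ZΩ := sqΩZ.lift fst (snd ≫ (yon S).map cΩ) hw
  have hl1 : l ≫ _ = fst := sqΩZ.lift_fst _ _ _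
  have hl2 : l ≫ pullback.snd s ((yon S).map (cL σ Ω)) = snd ≫ (yon S).map cΩ :=
    sqΩZ.lift_snd _ _ _
  have sq : IsPullback l snd (pullback.snd s ((yon S).map (cL σ Ω))) ((yon S).map cΩ) := by
    refine IsPullback.of_right ?_ hl2 sqΩZ
    rw [hl1, ← hyb']
    exact h
  have hZΩ : IsAlgSpace ZΩ :=
    isAlgSpace_of_isPullback' (IsAlgSpace.yon_obj _) hZ (IsAlgSpace.yon_obj _) sqΩ
  have hcf : ConnFib cΩ := connFib_of_isSepClosed (k := Ω) (K := yb.K) cΩ rfl rfl (by
    simp [cΩ])
  exact connectedSpace_bc hZΩ cΩ hcf _ l snd sq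

theorem main {X Y : AlgSp.Space S} (f : X ⟶ Y) (yb : AlgSp.FieldPt Y.obj) (hyb : yb.IsGeometric)
    (Xyb : AlgSp.Sp S) (fst : Xyb ⟶ X.obj) (snd : Xyb ⟶ (AlgSp.yon S).obj yb.pt)
    (h : IsPullback fst snd f.hom yb.toHom) :
    ConnectedSpace (AlgSp.Points Xyb) ↔
      ∀ (V : Over S) (a : (AlgSp.yon S).obj V ⟶ Y.obj), AlgSp.RepWith @Etale a →
        ∀ (v : ↥V.left) (c : yb.pt ⟶ V), (AlgSp.yon S).map c ≫ a = yb.toHom →
          c.left (IsLocalRing.closedPoint yb.K) = v →
          ∀ (Xv : AlgSp.Sp S) (fst' : Xv ⟶ X.obj)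
            (snd' : Xv ⟶ (AlgSp.yon S).obj (Over.mk (V.left.fromSpecResidueField v ≫ V.hom))),
            IsPullback fst' snd' f.hom ((AlgSp.yon S).map
              (Over.homMk (V.left.fromSpecResidueField v) rfl :
              Over.mk (V.left.fromSpecResidueField v ≫ V.hom) ⟶ V) ≫ a) →
            ConnectedSpace (AlgSp.Points Xv) :=
  ⟨fun hconn V a _ v c hc hv Xv fst' snd' h' =>
      forward f yb Xyb fst snd h V a v c hc hv Xv fst' snd' h',
    backward f yb hyb Xyb fst snd h⟩

end W1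
end H


/-- For a morphism f : X ⟶ Y between algebraic spaces over S and a geometric point ȳ of Y (an
algebraically closed field point), the geometric fibre X_ȳ (pullback in fppf sheaves) has connected
space of points if and only if for every scheme V with a representable etale a : h_V ⟶ Y and every
point v of V through which ȳ factors, the fibre of X ×_Y V ⟶ V over v (pullback along the residue
field point of v) has connected space of points. -/
theorem result {S : Scheme.{u}} {X Y : AlgSp.Space S} (f : X ⟶ Y) (yb : AlgSp.FieldPt Y.obj) (hyb : yb.IsGeometric)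
    (Xyb : AlgSp.Sp S) (fst : Xyb ⟶ X.obj) (snd : Xyb ⟶ (AlgSp.yon S).obj yb.pt) (h : IsPullback fst snd f.hom yb.toHom) :
    ConnectedSpace (AlgSp.Points Xyb) ↔
      ∀ (V : Over S) (a : (AlgSp.yon S).obj V ⟶ Y.obj), AlgSp.RepWith @Etale a →
        ∀ (v : ↥V.left) (c : yb.pt ⟶ V), (AlgSp.yon S).map c ≫ a = yb.toHom → c.left (IsLocalRing.closedPoint yb.K) = v →
          ∀ (Xv : AlgSp.Sp S) (fst' : Xv ⟶ X.obj)
            (snd' : Xv ⟶ (AlgSp.yon S).obj (Over.mk (V.left.fromSpecResidueField v ≫ V.hom))),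
            IsPullback fst' snd' f.hom ((AlgSp.yon S).map (Over.homMk (V.left.fromSpecResidueField v) rfl :
              Over.mk (V.left.fromSpecResidueField v ≫ V.hom) ⟶ V) ≫ a) →
            ConnectedSpace (AlgSp.Points Xv) := by
  exact (W1.main f yb hyb Xyb fst snd h)

end Groth.Agent.S10681
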