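import Groth.Statements.S10683
import Groth.Agent.Lib.Helper15.GeomRedFib
import Groth.Agent.Lib.Helper25.GeomRedLocus
import Groth.Agent.Lib.Helper3.AlgSpQC4
import Groth.Agent.Lib.Helper3.AlgSpQC
-- import your own Groth.Agent.* helpers here

set_option autoImplicit false
universe u
open CategoryTheory CategoryTheory.Limits AlgebraicGeometry
open AlgSp

namespace Groth.Agent.S10683

section H
namespace W1
open Groth.Agent.Lib.Helper3 Groth.Agent.Lib.Helper15 Groth.Agent.Lib.Helper15.GeomRedFib
set_option backward.isDefEq.respectTransparency.types false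

theorem main {S : Scheme.{u}} {X Y : AlgSp.Space S} (f : X ⟶ Y)
    (hf1 : AlgSp.IsQuasiCompactMor f.hom) (hf2 : AlgSp.LocP @LocallyOfFinitePresentation f.hom)
    (V : Over S) (hV : IsAffine V.left) (a : (AlgSp.yon S).obj V ⟶ Y.obj) (ha : AlgSp.RepWith @Etale a) :
    Topology.IsConstructible ((AlgSp.Points.ofPt a) ⁻¹' {y : AlgSp.Points Y.obj | ∀ (k : AlgSp.FieldPt Y.obj), AlgSp.Points.mk k = y → GR f.hom k}) := by
  have hX := X.property
  have hY := Y.property
  have sqP : IsPullback (pullback.fst f.hom a) (pullback.snd f.hom a) f.hom a :=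
    IsPullback.of_hasPullback _ _
  have hVqc : IsQuasiCompactSp ((yon S).obj V) := isQuasiCompactSp_yon inferInstance
  have hPqc : IsQuasiCompactSp (pullback f.hom a) :=
    hf1 (IsAlgSpace.yon_obj V) hVqc a _ _ sqP
  obtain ⟨U, p, hpe, hps, hU⟩ := exists_affine_chart_of_isQuasiCompactSp hPqc
  haveI : IsAffine U.left := hU
  obtain ⟨h, hh⟩ := (yon S).map_surjective (p ≫ pullback.snd f.hom a)
  have hpX : RepWith @Etale (pullback.fst f.hom a) := MorphismProperty.of_isPullback sqP.flip ha
  haveI : LocallyOfFinitePresentation h.left :=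
    hf2 (p ≫ pullback.fst f.hom a) a h (MorphismProperty.comp_mem _ _ _ hpe hpX) ha
      (by rw [Category.assoc, sqP.w, ← Category.assoc, hh])
  haveI : QuasiCompact h.left := inferInstance
  have hcons := (Groth.Agent.Lib.Helper25.GeomRedLocus.isLocallyConstructible_grLocus h.left).isConstructible
  convert hcons using 1
  ext v
  simp only [Set.mem_preimage, Set.mem_ofPred_eq]
  rw [← gRgen_ofPt_iff f.hom a _ _ sqP p hpe hps h hh.symm v, ← gr_iff_gRgen hX hY]
  constructor
  · intro hk
    exact hk _ rfl
  · intro hk k hkv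
    exact gr_of_mk_eq hX hY f.hom hkv.symm hk

end W1
end H


/-- For a quasi-compact morphism f : X ⟶ Y between algebraic spaces over S which is locally of finite
presentation, the set E of points of |Y| at which the fibre of f is geometrically reduced is etale
locally constructible: for every affine scheme V with a representable etale a : h_V ⟶ Y, the inverse
image of E in V is a constructible subset. Here the fibre of f at y being geometrically reduced
means: for every field point k of Y in the class of y and every field homomorphism k ⟶ k', the base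
change X_{k'} (pullback in fppf sheaves) is reduced (some etale surjective scheme chart is reduced). -/
theorem result {S : Scheme.{u}} {X Y : AlgSp.Space S} (f : X ⟶ Y)
    (hf1 : AlgSp.IsQuasiCompactMor f.hom) (hf2 : AlgSp.LocP @LocallyOfFinitePresentation f.hom)
    (V : Over S) (hV : IsAffine V.left) (a : (AlgSp.yon S).obj V ⟶ Y.obj) (ha : AlgSp.RepWith @Etale a) :
    Topology.IsConstructible ((AlgSp.Points.ofPt a) ⁻¹' {y : AlgSp.Points Y.obj | ∀ (k : AlgSp.FieldPt Y.obj), AlgSp.Points.mk k = y →
        ∀ (k' : Type u) [Field k'] (φ : k.K →+* k') (Xk' : AlgSp.Sp S) (a : Xk' ⟶ X.obj)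
          (b : Xk' ⟶ (AlgSp.yon S).obj (Over.mk (Spec.map (CommRingCat.ofHom φ) ≫ k.str))),
          IsPullback a b f.hom ((AlgSp.yon S).map (Over.homMk (Spec.map (CommRingCat.ofHom φ)) rfl :
            Over.mk (Spec.map (CommRingCat.ofHom φ) ≫ k.str) ⟶ k.pt) ≫ k.toHom) →
          AlgSp.EtaleLocally (fun U => IsReduced U) Xk'}) := by
  exact W1.main f hf1 hf2 V hV a ha

end Groth.Agent.S10683
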