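import Groth.Statements.S10686
import Groth.Agent.Lib.Helper15.GeomRedFib
import Groth.Agent.Lib.Helper3.AlgSpEtPoint
-- import your own Groth.Agent.* helpers here

set_option autoImplicit false
universe u
open CategoryTheory CategoryTheory.Limits AlgebraicGeometry
open AlgSp

namespace Groth.Agent.S10686

section H
namespace W1
open Groth.Agent.Lib.Helper3 Groth.Agent.Lib.Helper15 Groth.Agent.Lib.Helper15.GeomRedFib
set_option backward.isDefEq.respectTransparency.types false

theorem main {S : Scheme.{u}} {X Y : AlgSp.Space S} (f : X ⟶ Y) (y : AlgSp.Points Y.obj) :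
    [∃ (k : AlgSp.FieldPt Y.obj), AlgSp.Points.mk k = y ∧ GR f.hom k,
      ∀ (k : AlgSp.FieldPt Y.obj), AlgSp.Points.mk k = y → GR f.hom k,
      ∀ (k : AlgSp.FieldPt Y.obj), AlgSp.Points.mk k = y → RedOver f.hom k.pt k.toHom].TFAE := by
  have hX := X.property
  have hY := Y.property
  tfae_have 1 → 2 := by
    rintro ⟨k, hk, h1⟩ k₂ hk₂
    exact gr_of_mk_eq hX hY f.hom (hk.trans hk₂.symm) h1
  tfae_have 2 → 1 := by
    intro h2
    obtain ⟨k, hk⟩ := Points.mk_surjective y
    exact ⟨k, hk, h2 k hk⟩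
  tfae_have 2 → 3 := by
    intro h2 k hk
    have h := (gr_iff_gRgen hX hY f.hom k).1 (h2 k hk) k.K k.str (𝟙 _)
    rwa [CategoryTheory.Functor.map_id, Category.id_comp] at h
  tfae_have 3 → 2 := by
    intro h3 k hk k' _ φ
    have hcl : Points.mk (fieldPtOfHom k' (Spec.map (CommRingCat.ofHom φ) ≫ k.str)
        ((yon S).map (Over.homMk (Spec.map (CommRingCat.ofHom φ)) rfl :
          Over.mk (Spec.map (CommRingCat.ofHom φ) ≫ k.str) ⟶ k.pt) ≫ k.toHom)) = y := by
      rw [mk_fieldPtOfHom_comp, ← hk]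
      exact (congrArg Points.mk (fieldPt_eq_ofHom k)).symm
    have h := h3 _ hcl
    rw [toHom_fieldPtOfHom] at h
    exact h
  tfae_finish

end W1
end H


/-- For a morphism f : X ⟶ Y between algebraic spaces over S and a point y of |Y|, write X_k for the
fibre (pullback in fppf sheaves) over a field point k of Y and call X_k geometrically reduced when
for every field homomorphism k ⟶ k' the base change X_{k'} is reduced (some etale surjective scheme
chart reduced). The following are equivalent: (1) X_k is geometrically reduced for some k in the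
class of y; (2) X_k is geometrically reduced for every k in the class of y; (3) X_k is reduced for
every k in the class of y. -/
theorem result {S : Scheme.{u}} {X Y : AlgSp.Space S} (f : X ⟶ Y) (y : AlgSp.Points Y.obj) :
    [∃ (k : AlgSp.FieldPt Y.obj), AlgSp.Points.mk k = y ∧
        ∀ (k' : Type u) [Field k'] (φ : k.K →+* k') (Xk' : AlgSp.Sp S) (a : Xk' ⟶ X.obj)
          (b : Xk' ⟶ (AlgSp.yon S).obj (Over.mk (Spec.map (CommRingCat.ofHom φ) ≫ k.str))),
          IsPullback a b f.hom ((AlgSp.yon S).map (Over.homMk (Spec.map (CommRingCat.ofHom φ)) rfl :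
            Over.mk (Spec.map (CommRingCat.ofHom φ) ≫ k.str) ⟶ k.pt) ≫ k.toHom) →
          AlgSp.EtaleLocally (fun U => IsReduced U) Xk',
      ∀ (k : AlgSp.FieldPt Y.obj), AlgSp.Points.mk k = y →
        ∀ (k' : Type u) [Field k'] (φ : k.K →+* k') (Xk' : AlgSp.Sp S) (a : Xk' ⟶ X.obj)
          (b : Xk' ⟶ (AlgSp.yon S).obj (Over.mk (Spec.map (CommRingCat.ofHom φ) ≫ k.str))),
          IsPullback a b f.hom ((AlgSp.yon S).map (Over.homMk (Spec.map (CommRingCat.ofHom φ)) rfl :
            Over.mk (Spec.map (CommRingCat.ofHom φ) ≫ k.str) ⟶ k.pt) ≫ k.toHom) →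
          AlgSp.EtaleLocally (fun U => IsReduced U) Xk',
      ∀ (k : AlgSp.FieldPt Y.obj), AlgSp.Points.mk k = y →
        ∀ (Xk : AlgSp.Sp S) (a : Xk ⟶ X.obj) (b : Xk ⟶ (AlgSp.yon S).obj k.pt), IsPullback a b f.hom k.toHom →
          AlgSp.EtaleLocally (fun U => IsReduced U) Xk].TFAE := by
  exact W1.main f y

end Groth.Agent.S10686
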