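import Groth.Statements.S10692
import Groth.Agent.Lib.Helper15.FibDimSp2
-- import your own Groth.Agent.* helpers here

set_option autoImplicit false
universe u
open CategoryTheory CategoryTheory.Limits AlgebraicGeometry
open AlgSp

namespace Groth.Agent.S10692

section H
namespace W1

open Groth.Agent.Lib.Helper15.FibDimSp

theorem eq_zero_iff (x : WithBot ℕ∞) :
    x = (((0 : ℕ) : ℕ∞) : WithBot ℕ∞) ↔ x ≤ ((0 : ℕ) : WithBot ℕ∞) ∧ x ≠ ⊥ := by
  induction x using WithBot.recBotCoe with
  | bot => simp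
  | coe m =>
    constructor
    · rintro h
      rw [h]
      exact ⟨by exact_mod_cast le_rfl, by simp⟩
    · rintro ⟨h, -⟩
      have h1 : m ≤ (0 : ℕ∞) := by exact_mod_cast h
      have h2 : m = 0 := le_antisymm h1 zero_le
      rw [h2]
      rfl

theorem eq_succ_iff (x : WithBot ℕ∞) (n : ℕ) :
    x = (((n + 1 : ℕ) : ℕ∞) : WithBot ℕ∞) ↔
      x ≤ ((n + 1 : ℕ) : WithBot ℕ∞) ∧ ¬ x ≤ ((n : ℕ) : WithBot ℕ∞) := by
  induction x using WithBot.recBotCoe with
  | bot =>
    simp only [bot_le, not_true_eq_false, and_false, iff_false]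
    exact WithBot.bot_ne_coe
  | coe m =>
    have h1 : ((m : ℕ∞) : WithBot ℕ∞) ≤ ((n + 1 : ℕ) : WithBot ℕ∞) ↔ m ≤ ((n + 1 : ℕ) : ℕ∞) := by
      exact_mod_cast Iff.rfl
    have h2 : ((m : ℕ∞) : WithBot ℕ∞) ≤ ((n : ℕ) : WithBot ℕ∞) ↔ m ≤ ((n : ℕ) : ℕ∞) := by
      exact_mod_cast Iff.rfl
    have h3 : ((m : ℕ∞) : WithBot ℕ∞) = (((n + 1 : ℕ) : ℕ∞) : WithBot ℕ∞) ↔
        m = ((n + 1 : ℕ) : ℕ∞) := WithBot.coe_inj
    rw [h1, h2, h3]
    constructor
    · rintro rfl
      refine ⟨le_rfl, ?_⟩
      intro h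
      have : n + 1 ≤ n := by exact_mod_cast h
      omega
    · rintro ⟨h4, h5⟩
      refine le_antisymm h4 ?_
      have h6 : (n : ℕ∞) < m := not_le.1 h5
      have := (ENat.add_one_le_iff (ENat.natCast_ne_top n)).2 h6
      exact_mod_cast this

theorem main {S : Scheme.{u}} {X Y : AlgSp.Space S} (f : X ⟶ Y) (hf1 : AlgSp.IsProperMor f.hom)
    (hf2 : AlgSp.LocP @Flat f.hom) (hf3 : AlgSp.IsFinitePresentationMor f.hom) (d : WithBot ℕ∞) :
    IsOpen {y : AlgSp.Points Y.obj | ∀ (k : AlgSp.FieldPt Y.obj), AlgSp.Points.mk k = y →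
      ∀ (Xk : AlgSp.Sp S) (fst : Xk ⟶ X.obj) (snd : Xk ⟶ (AlgSp.yon S).obj k.pt),
        IsPullback fst snd f.hom k.toHom → AlgSp.dim Xk = d} := by
  have hX := X.property
  have hY := Y.property
  have hlft : LocP @LocallyOfFiniteType f.hom := hf1.2.1.1
  have hqc : IsQuasiCompactMor f.hom := hf1.2.1.2
  have hcl : IsClosedMap (Points.map f.hom) :=
    hf1.2.2 Y.property (𝟙 _) (𝟙 _) f.hom (IsPullback.of_horiz_isIso ⟨by simp⟩)
  have hR : IsOpen (Set.range (Points.map f.hom)) :=
    isOpen_range_of_flat hX hY f.hom hf2 hf3.1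
  have hRc : IsOpen (Set.range (Points.map f.hom))ᶜ := by
    rw [← Set.image_univ]
    exact (hcl _ isClosed_univ).isOpen_compl
  induction d using WithBot.recBotCoe with
  | bot =>
    rw [setOf_forall_fibre_eq f.hom (fun z => z = ⊥)
      (fun y => y ∈ (Set.range (Points.map f.hom))ᶜ)
      (fun k Xk fst snd sq => dim_fibre_eq_bot_iff hX hY f.hom k fst snd sq)]
    exact hRc
  | coe m =>
    induction m using ENat.recTopCoe with
    | top =>
      rw [setOf_forall_fibre_eq f.hom (fun z => z = ((⊤ : ℕ∞) : WithBot ℕ∞)) (fun _ => False)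
        (fun k Xk fst snd sq => by
          simp only [iff_false]
          obtain ⟨n, hn⟩ := exists_dim_fibre_le hX hY f.hom hlft hqc k fst snd sq
          intro h
          rw [h] at hn
          have : (⊤ : ℕ∞) ≤ (n : ℕ∞) := by exact_mod_cast hn
          exact absurd this (by simp))]
      simp
    | coe n =>
      rcases n with _ | n
      · rw [setOf_forall_fibre_eq f.hom (fun z => z = (((0 : ℕ) : ℕ∞) : WithBot ℕ∞))
          (fun y => (∀ x : Points X.obj, Points.map f.hom x = y →
            HasAtMor (fun _ _ h u => FlatMor.fibreDimAt h u ≤ ((0 : ℕ) : WithBot ℕ∞)) f.hom x) ∧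
              y ∈ Set.range (Points.map f.hom))
          (fun k Xk fst snd sq => by
            rw [eq_zero_iff, dim_fibre_le_iff hX hY f.hom hlft k fst snd sq 0, Ne,
              dim_fibre_eq_bot_iff hX hY f.hom k fst snd sq, not_not])]
        exact (isOpen_forall_relDim_le f.hom hlft hcl 0).inter hR
      · rw [setOf_forall_fibre_eq f.hom (fun z => z = (((n + 1 : ℕ) : ℕ∞) : WithBot ℕ∞))
          (fun y => (∀ x : Points X.obj, Points.map f.hom x = y →
            HasAtMor (fun _ _ h u => FlatMor.fibreDimAt h u ≤ ((n + 1 : ℕ) : WithBot ℕ∞)) f.hom x) ∧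
              ∃ x : Points X.obj, Points.map f.hom x = y ∧
                ¬ HasAtMor (fun _ _ h u => FlatMor.fibreDimAt h u ≤ (n : WithBot ℕ∞)) f.hom x)
          (fun k Xk fst snd sq => by
            rw [eq_succ_iff, dim_fibre_le_iff hX hY f.hom hlft k fst snd sq (n + 1),
              dim_fibre_le_iff hX hY f.hom hlft k fst snd sq n]
            refine and_congr Iff.rfl ?_
            push Not
            exact Iff.rfl)]
        exact (isOpen_forall_relDim_le f.hom hlft hcl (n + 1)).inter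
          (isOpen_exists_relDim_gt hX hY f.hom hf2 hf3.1 n)

end W1
end H


/-- For a proper flat morphism f : X ⟶ Y between algebraic spaces over S which is of finite
presentation, the fibre dimension function on |Y| is locally constant: for every d the set of y such
that every fibre X_k over y (k a field point in the class of y, X_k any pullback in fppf sheaves)
has dimension exactly d is open. -/
theorem result {S : Scheme.{u}} {X Y : AlgSp.Space S} (f : X ⟶ Y) (hf1 : AlgSp.IsProperMor f.hom)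
    (hf2 : AlgSp.LocP @Flat f.hom) (hf3 : AlgSp.IsFinitePresentationMor f.hom) (d : WithBot ℕ∞) :
    IsOpen {y : AlgSp.Points Y.obj | ∀ (k : AlgSp.FieldPt Y.obj), AlgSp.Points.mk k = y →
      ∀ (Xk : AlgSp.Sp S) (fst : Xk ⟶ X.obj) (snd : Xk ⟶ (AlgSp.yon S).obj k.pt),
        IsPullback fst snd f.hom k.toHom → AlgSp.dim Xk = d} := by
  exact W1.main f hf1 hf2 hf3 d

end Groth.Agent.S10692
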