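import Groth.Statements.S10702
import Groth.Agent.Lib.Helper3.AlgSpEpiDescent
import Groth.Agent.S9883

set_option autoImplicit false
universe u
open CategoryTheory CategoryTheory.Limits AlgebraicGeometry
open AlgSp

namespace Groth.Agent.S10702

/-- Consider a commutative diagram of algebraic spaces over `S` with top row `A → C → E`, bottom row `B
→ D → F` and vertical maps `A → B`, `C → D`, `E → F`. If the left square and the outer rectangle are
cartesian and `B → D` is surjective etale, then the right square is cartesian. -/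
theorem result {S : Scheme.{u}} {A B C D E F : AlgSp.Space S} (ac : A ⟶ C) (ab : A ⟶ B)
    (cd : C ⟶ D) (bd : B ⟶ D) (ce : C ⟶ E) (df : D ⟶ F) (ef : E ⟶ F)
    (hl : IsPullback ac.hom ab.hom cd.hom bd.hom) (hcomm : cd ≫ df = ce ≫ ef)
    (hout : IsPullback (ac ≫ ce).hom ab.hom ef.hom (bd ≫ df).hom) (hsurj : AlgSp.IsSurjectiveMor bd.hom)
    (het : AlgSp.IsEtaleMor bd.hom) : IsPullback ce.hom cd.hom ef.hom df.hom := by
  -- `bd` is an epimorphism of sheaves
  have hbd : Sheaf.IsLocallySurjective bd.hom := by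
    obtain ⟨U, p, hpe, hps⟩ := B.property.atlas
    have hcomp : AlgSp.RepWith @Etale (p ≫ bd.hom) := het p hpe
    have hcs : AlgSp.RepWith @Surjective (p ≫ bd.hom) := by
      rw [Groth.Agent.S9906.repWith_surjective_iff _ hcomp.1]
      intro y
      obtain ⟨b, rfl⟩ := hsurj y
      obtain ⟨w, rfl⟩ := (Groth.Agent.S9906.repWith_surjective_iff p hps.1).1 hps b
      exact ⟨w, AlgSp.Points.map_comp _ _ _⟩
    have hloc := Groth.Agent.S9883.isLocallySurjective_of_etale_surjective _ hcomp hcs
    exact Presheaf.isLocallySurjective_of_isLocallySurjective_fac (AlgSp.J S)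
      (f₁ := p.hom) (f₂ := bd.hom.hom) (f₃ := (p ≫ bd.hom).hom) rfl
  -- the pullback `P = E ×_F D` and its base change `P' = P ×_D B`
  have hcomm' : ce.hom ≫ ef.hom = cd.hom ≫ df.hom := by
    have := congrArg (fun k => k.hom) hcomm
    exact this.symm
  have sqP := IsPullback.of_hasPullback ef.hom df.hom
  have sqP' := IsPullback.of_hasPullback (pullback.snd ef.hom df.hom) bd.hom
  let g : C.obj ⟶ pullback ef.hom df.hom := sqP.lift ce.hom cd.hom hcomm'
  have hg1 : g ≫ pullback.fst ef.hom df.hom = ce.hom := sqP.lift_fst _ _ _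
  have hg2 : g ≫ pullback.snd ef.hom df.hom = cd.hom := sqP.lift_snd _ _ _
  have wA : (ac.hom ≫ g) ≫ pullback.snd ef.hom df.hom = ab.hom ≫ bd.hom := by
    rw [Category.assoc, hg2]; exact hl.w
  let g' : A.obj ⟶ pullback (pullback.snd ef.hom df.hom) bd.hom := sqP'.lift (ac.hom ≫ g) ab.hom wA
  have hg'1 : g' ≫ pullback.fst (pullback.snd ef.hom df.hom) bd.hom = ac.hom ≫ g :=
    sqP'.lift_fst _ _ _
  have hg'2 : g' ≫ pullback.snd (pullback.snd ef.hom df.hom) bd.hom = ab.hom :=
    sqP'.lift_snd _ _ _
  -- the left square `A → P'` over `C → P` is a pullback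
  have sqL : IsPullback g' ac.hom (pullback.fst (pullback.snd ef.hom df.hom) bd.hom) g := by
    have hout' : IsPullback ab.hom ac.hom bd.hom cd.hom := hl.flip
    have : IsPullback (g' ≫ pullback.snd (pullback.snd ef.hom df.hom) bd.hom) ac.hom bd.hom
        (g ≫ pullback.snd ef.hom df.hom) := by
      rw [hg'2, hg2]; exact hout'
    exact IsPullback.of_right this hg'1 sqP'.flip
  -- `g'` is an isomorphism: both `A` and `P'` are pullbacks of `ef` along `bd ≫ df`
  have sqBig : IsPullback (pullback.fst (pullback.snd ef.hom df.hom) bd.hom ≫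
      pullback.fst ef.hom df.hom) (pullback.snd (pullback.snd ef.hom df.hom) bd.hom)
      ef.hom (bd.hom ≫ df.hom) := (sqP'.flip.paste_vert sqP.flip).flip
  have hout2 : IsPullback (ac.hom ≫ ce.hom) ab.hom ef.hom (bd.hom ≫ df.hom) := hout
  have hiso : IsIso g' := by
    have h1 : g' = (hout2.isoIsPullback _ _ sqBig).hom := by
      apply sqBig.hom_ext
      · rw [IsPullback.isoIsPullback_hom_fst, ← Category.assoc, hg'1, Category.assoc, hg1]
      · rw [IsPullback.isoIsPullback_hom_snd, hg'2]
    rw [h1]; infer_instance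
  have hq : Sheaf.IsLocallySurjective (pullback.fst (pullback.snd ef.hom df.hom) bd.hom) :=
    Groth.Agent.Lib.Helper3.isLocallySurjective_of_isPullback sqP'.flip hbd
  have hgiso : IsIso g := Groth.Agent.Lib.Helper3.isIso_of_isPullback_of_isLocallySurjective sqL hq
  exact IsPullback.of_iso sqP (asIso g).symm (Iso.refl _) (Iso.refl _) (Iso.refl _)
    (by simp [hg1]) (by simp [hg2]) (by simp) (by simp)

end Groth.Agent.S10702
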