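import Groth.Statements.S10723
-- import your own Groth.Agent.* helpers here
import Groth.Agent.Lib.Helper23.GluePairFP
import Groth.Agent.S10722

set_option autoImplicit false
universe u
open TensorProduct
open EtAlg

namespace Groth.Agent.S10723

/-- Glueing along a glueing pair detects morphisms of affine schemes that are flat and of finite
presentation, stated for coordinate rings. Let `(R → R', f)` be a glueing pair and `φ : A → B` a
homomorphism of `R`-algebras with `A`, `B` glueable as `R`-modules (so `Spec A`, `Spec B` are affine
and glueable over `Spec R`). Then `φ` is flat and of finite presentation if and only if `A_f → B_f`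
and `R' ⊗_R A → R' ⊗_R B` are. -/
theorem result (R : Type u) [CommRing R] (R' : Type u) [CommRing R'] [Algebra R R'] (f : R)
    (hRR' : EtGlue.IsGlueingPair R R' f) (A B : Type u) [CommRing A] [Algebra R A] [CommRing B] [Algebra R B]
    (hA : EtGlue.IsGlueable R R' f A) (hB : EtGlue.IsGlueable R R' f B) (φ : A →ₐ[R] B) :
    (φ.toRingHom.Flat ∧ φ.toRingHom.FinitePresentation) ↔
      ((Localization.awayMap φ.toRingHom (algebraMap R A f)).Flat ∧ (Localization.awayMap φ.toRingHom (algebraMap R A f)).FinitePresentation) ∧
        ((Algebra.TensorProduct.map (AlgHom.id R R') φ).toRingHom.Flat ∧ (Algebra.TensorProduct.map (AlgHom.id R R') φ).toRingHom.FinitePresentation) := by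
  constructor
  · rintro ⟨hfl, hfp⟩
    refine ⟨⟨?_, ?_⟩, ⟨?_, ?_⟩⟩
    · exact RingHom.Flat.propertyIsLocal.localizationAwayPreserves φ.toRingHom (algebraMap R A f)
        (Localization.Away (algebraMap R A f))
        (Localization.Away (φ.toRingHom (algebraMap R A f))) hfl
    · exact RingHom.finitePresentation_isLocal.localizationAwayPreserves φ.toRingHom
        (algebraMap R A f) (Localization.Away (algebraMap R A f))
        (Localization.Away (φ.toRingHom (algebraMap R A f))) hfp
    · exact RingHom.Flat.tensorProductMap (RingHom.Flat.id _) hfl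
    · exact Helper23.GPFP.map_finitePresentation φ hfp
  · rintro ⟨⟨h1f, h1p⟩, ⟨h2f, h2p⟩⟩
    have hfl := Helper23.GPA.flat_of_glueing hRR'.1 hA φ h1f h2f
    have hft := Groth.Agent.S10722.finiteType_of_glueing hRR'.1 φ
      (RingHom.FiniteType.of_finitePresentation h1p) (RingHom.FiniteType.of_finitePresentation h2p)
    exact ⟨hfl, Helper23.GPFP.finitePresentation_of_glueing hRR'.1 φ hfl hft h1p h2p⟩

end Groth.Agent.S10723
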