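import Groth.Statements.S10724
-- import your own Groth.Agent.* helpers here
import Groth.Agent.Lib.Helper23.GluePairFP
import Groth.Agent.Lib.Helper23.GluePairUnr
import Groth.Agent.S10722
import Mathlib.RingTheory.RingHom.Etale

set_option autoImplicit false
universe u
open TensorProduct
open EtAlg

namespace Groth.Agent.S10724

/-- Glueing along a glueing pair detects etale morphisms of affine schemes, stated for coordinate rings.
Let `(R → R', f)` be a glueing pair and `φ : A → B` a homomorphism of `R`-algebras with `A`, `B`
glueable as `R`-modules (so `Spec A`, `Spec B` are affine and glueable over `Spec R`). Then `φ` is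
etale if and only if `A_f → B_f` and `R' ⊗_R A → R' ⊗_R B` are. -/
theorem result (R : Type u) [CommRing R] (R' : Type u) [CommRing R'] [Algebra R R'] (f : R)
    (hRR' : EtGlue.IsGlueingPair R R' f) (A B : Type u) [CommRing A] [Algebra R A] [CommRing B] [Algebra R B]
    (hA : EtGlue.IsGlueable R R' f A) (hB : EtGlue.IsGlueable R R' f B) (φ : A →ₐ[R] B) :
    φ.toRingHom.Etale ↔ (Localization.awayMap φ.toRingHom (algebraMap R A f)).Etale ∧ (Algebra.TensorProduct.map (AlgHom.id R R') φ).toRingHom.Etale := by
  constructor
  · intro h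
    refine ⟨?_, ?_⟩
    · exact RingHom.Etale.propertyIsLocal.localizationAwayPreserves φ.toRingHom (algebraMap R A f)
        (Localization.Away (algebraMap R A f))
        (Localization.Away (φ.toRingHom (algebraMap R A f))) h
    · obtain ⟨hfl, hun, hfp⟩ := RingHom.Etale.iff_flat_and_formallyUnramified.mp h
      rw [RingHom.Etale.iff_flat_and_formallyUnramified]
      exact ⟨RingHom.Flat.tensorProductMap (RingHom.Flat.id _) hfl,
        Helper23.GPU.map_formallyUnramified φ hun, Helper23.GPFP.map_finitePresentation φ hfp⟩
  · rintro ⟨h1, h2⟩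
    obtain ⟨h1f, h1u, h1p⟩ := RingHom.Etale.iff_flat_and_formallyUnramified.mp h1
    obtain ⟨h2f, h2u, h2p⟩ := RingHom.Etale.iff_flat_and_formallyUnramified.mp h2
    have hfl := Helper23.GPA.flat_of_glueing hRR'.1 hA φ h1f h2f
    have hft := Groth.Agent.S10722.finiteType_of_glueing hRR'.1 φ
      (RingHom.FiniteType.of_finitePresentation h1p) (RingHom.FiniteType.of_finitePresentation h2p)
    rw [RingHom.Etale.iff_flat_and_formallyUnramified]
    exact ⟨hfl, Helper23.GPU.formallyUnramified_of_glueing hRR'.1 φ h1u h2u,
      Helper23.GPFP.finitePresentation_of_glueing hRR'.1 φ hfl hft h1p h2p⟩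

end Groth.Agent.S10724
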