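import Groth.Statements.S10727
-- import your own Groth.Agent.* helpers here
import Mathlib
import Groth.Agent.Lib.Helper23.BLGlue3

set_option autoImplicit false
universe u
open TensorProduct
open EtAlg

namespace Groth.Agent.S10727

/-- Glueing affine schemes along a glueing pair, stated for their coordinate rings. Let `(R → R', f)` be
a glueing pair, `A₁` an `R`-algebra in which `f` is invertible, `A'` an `R'`-algebra and `φ : A'_f ≅
R' ⊗_R A₁` an isomorphism of `R'`-algebras. Then there is an `R`-algebra `A`, glueable as an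
`R`-module, with isomorphisms `A_f ≅ A₁` of `R`-algebras and `R' ⊗_R A ≅ A'` of `R'`-algebras under
which `φ` is the canonical identification `(R' ⊗_R A)_f = R' ⊗_R A_f`. (The published statement is
that base change is an equivalence between affine schemes over `Spec R` that are glueable and
triples of affine schemes over `Spec R_f`, `Spec R'_f`, `Spec R'` with cartesian squares; this row
states only that every such triple arises, on coordinate rings.) -/
theorem result (R : Type u) [CommRing R] (R' : Type u) [CommRing R'] [Algebra R R']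
    (f : R) (hRR' : EtGlue.IsGlueingPair R R' f) (A₁ : Type u) [CommRing A₁] [Algebra R A₁]
    (h₁ : IsUnit (algebraMap R A₁ f)) (A' : Type u) [CommRing A'] [Algebra R A'] [Algebra R' A']
    [IsScalarTower R R' A'] (φ : Localization.Away (algebraMap R A' f) ≃ₐ[R'] R' ⊗[R] A₁) :
    ∃ (A : Type u) (_ : CommRing A) (_ : Algebra R A) (_ : EtGlue.IsGlueable R R' f A)
      (e₁ : Localization.Away (algebraMap R A f) ≃ₐ[R] A₁) (e' : R' ⊗[R] A ≃ₐ[R'] A'),
      ∀ a : A, φ (algebraMap A' (Localization.Away (algebraMap R A' f)) (e' ((1 : R') ⊗ₜ[R] a))) =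
        (1 : R') ⊗ₜ[R] e₁ (algebraMap A (Localization.Away (algebraMap R A f)) a) := by
  classical
  let L := Localization.Away (algebraMap R A' f)
  let lam : A' →ₗ[R'] L := (IsScalarTower.toAlgHom R' A' L).toLinearMap
  have hloc : IsLocalizedModule (Submonoid.powers (algebraMap R R' f)) lam := by
    rw [isLocalizedModule_iff_isLocalization]
    have : Algebra.algebraMapSubmonoid A' (Submonoid.powers (algebraMap R R' f)) =
        Submonoid.powers (algebraMap R A' f) := by
      rw [Algebra.algebraMapSubmonoid, Submonoid.map_powers, ← IsScalarTower.algebraMap_apply]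
    rw [this]
    infer_instance
  let α : L ≃ₗ[R'] R' ⊗[R] A₁ := φ.toLinearEquiv
  let g₁ : A' × A₁ →ₐ[R] R' ⊗[R] A₁ :=
    ((φ.toAlgHom.restrictScalars R).comp (IsScalarTower.toAlgHom R A' L)).comp (AlgHom.fst R A' A₁)
  let g₂ : A' × A₁ →ₐ[R] R' ⊗[R] A₁ :=
    (Algebra.TensorProduct.includeRight : A₁ →ₐ[R] R' ⊗[R] A₁).comp (AlgHom.snd R A' A₁)
  let A : Subalgebra R (A' × A₁) := AlgHom.equalizer g₁ g₂
  have hmem : ∀ x : A' × A₁, x ∈ A ↔ φ (algebraMap A' L x.1) = (1 : R') ⊗ₜ[R] x.2 := by
    intro x
    rw [AlgHom.mem_equalizer]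
    rfl
  let p₁ : A →ₐ[R] A' := (AlgHom.fst R A' A₁).comp A.val
  let p₂ : A →ₐ[R] A₁ := (AlgHom.snd R A' A₁).comp A.val
  have hbij : Function.Bijective fun x : A₁ => f • x := by
    have : (fun x : A₁ => f • x) = fun x => algebraMap R A₁ f * x := by
      funext x
      rw [Algebra.smul_def]
    rw [this]
    exact IsUnit.isUnit_iff_mulLeft_bijective.mp h₁
  have hG : Helper23.BL.GlueData f lam α p₁.toLinearMap p₂.toLinearMap :=
    { loc := hloc
      bij := hbij
      compat := fun a => (hmem a.1).mp a.2
      inj := fun a h1 h2 => Subtype.ext (Prod.ext h1 h2)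
      surj := fun x y hxy => ⟨⟨(x, y), (hmem _).mpr hxy⟩, rfl, rfl⟩ }
  have hglue : EtGlue.IsGlueable R R' f A := hG.glueable hRR'
  -- the algebra isomorphism `R' ⊗ A ≃ A'`
  let E' : R' ⊗[R] A →ₐ[R'] A' :=
    Algebra.TensorProduct.lift (Algebra.ofId R' A') p₁ (fun _ _ => Commute.all _ _)
  have hE' : ∀ t : R' ⊗[R] A, E' t = LinearMap.liftBaseChange R' p₁.toLinearMap t := by
    intro t
    induction t using TensorProduct.induction_on with
    | zero => simp
    | tmul r' a =>
      rw [Algebra.TensorProduct.lift_tmul, LinearMap.liftBaseChange_tmul, Algebra.smul_def]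
      rfl
    | add x y hx hy => simp only [map_add, hx, hy]
  have hE'bij : Function.Bijective E' := by
    have := hG.lift_bijective hRR'
    constructor
    · intro x y hxy
      apply this.1
      rw [← hE', ← hE', hxy]
    · intro y
      obtain ⟨x, hx⟩ := this.2 y
      exact ⟨x, by rw [hE', hx]⟩
  -- the algebra isomorphism `A_f ≃ A₁`
  letI : Algebra A A₁ := p₂.toRingHom.toAlgebra
  haveI : IsScalarTower R A A₁ := IsScalarTower.of_algebraMap_eq fun r => (p₂.commutes r).symm
  haveI hlocA : IsLocalization (Submonoid.powers (algebraMap R A f)) A₁ := by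
    have h2 : IsLocalizedModule (Submonoid.powers f) (IsScalarTower.toAlgHom R A A₁).toLinearMap :=
      hG.isLocalizedModule
    rw [isLocalizedModule_iff_isLocalization] at h2
    have : Algebra.algebraMapSubmonoid A (Submonoid.powers f) =
        Submonoid.powers (algebraMap R A f) := by
      rw [Algebra.algebraMapSubmonoid, Submonoid.map_powers]
    rw [this] at h2
    exact h2
  let e₁ : Localization.Away (algebraMap R A f) ≃ₐ[R] A₁ :=
    (IsLocalization.algEquiv (Submonoid.powers (algebraMap R A f))
      (Localization.Away (algebraMap R A f)) A₁).restrictScalars R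
  refine ⟨A, inferInstance, inferInstance, hglue, e₁, AlgEquiv.ofBijective E' hE'bij, ?_⟩
  intro a
  have h3 : e₁ (algebraMap A (Localization.Away (algebraMap R A f)) a) = p₂ a := by
    change (IsLocalization.algEquiv (Submonoid.powers (algebraMap R A f))
      (Localization.Away (algebraMap R A f)) A₁) (algebraMap A _ a) = _
    rw [AlgEquiv.commutes]
    rfl
  have h4 : (AlgEquiv.ofBijective E' hE'bij) ((1 : R') ⊗ₜ[R] a) = p₁ a := by
    rw [AlgEquiv.ofBijective_apply, hE', LinearMap.liftBaseChange_tmul, one_smul]
    rfl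
  rw [h3, h4]
  exact (hmem a.1).mp a.2

end Groth.Agent.S10727
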