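import Groth.Statements.S1073
import Groth.Agent.Lib.Helper16.PushStalk
import Groth.Agent.Lib.Helper16.KD9
import Groth.Agent.Lib.Helper16.TorAmp4
import Groth.Agent.S6200

set_option autoImplicit false
universe u
open CategoryTheory CategoryTheory.Limits AlgebraicGeometry Opposite
attribute [local instance] HasDerivedCategory.standard
open Perf

namespace Groth.Agent.S1073

/-- Let X be a quasi-separated scheme, E ∈ D(O_X) with quasi-coherent cohomology sheaves, and a ≤ b.
Then E has tor amplitude in [a, b] (Hⁱ(E ⊗^L F) = 0 outside [a, b] for every O_X-module F, whenever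
the derived functor is available) if and only if the same vanishing holds for every quasi-coherent
O_X-module F. -/
theorem result (X : Scheme.{u}) [QuasiSeparatedSpace ↥X] (E : DCoh.D X) (hE : DCoh.IsQCohD E)
    (a b : ℤ) (hab : a ≤ b) :
    DCoh.HasTorAmplitudeIn a b E ↔
      ∀ (F : X.Modules), Coh.IsQCoh F → ∀ [DCoh.HasLTensorMod F] (i : ℤ), (i < a ∨ b < i) →
        IsZero (DCoh.HD ((DCoh.LTensorMod F).obj E) i) := by
  constructor
  · intro h F _ _ i hi
    exact h F i hi
  · intro h
    -- exactness of `P'' ⊗ F` for K-flat models and quasi-coherent `F`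
    have step1 : ∀ (P'' : CochainComplex X.Modules ℤ) (hP'' : DCoh.IsKFlat P'')
        (e : DerivedCategory.Q.obj P'' ≅ E) (F : X.Modules) (hq : Coh.IsQCoh F) (i : ℤ),
        i < a ∨ b < i → ((Groth.Agent.Lib.Helper16.KD.tensModCx F).obj P'').ExactAt i := by
      intro P'' hP'' e F hq i hi
      haveI := Groth.Agent.Lib.Helper16.KD.hasLTensorMod F
      rw [HomologicalComplex.exactAt_iff_isZero_homology]
      exact IsZero.of_iso (h F hq i hi) ((Groth.Agent.Lib.Helper16.KD.HDQIso _ i).symm ≪≫
        (DerivedCategory.homologyFunctor _ i).mapIso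
          ((Groth.Agent.Lib.Helper16.KD.LTensorModIso F P'' hP'').symm ≪≫
            (DCoh.LTensorMod F).mapIso e))
    -- the stalkwise form
    have step2 : ∀ (P'' : CochainComplex X.Modules ℤ) (hP'' : DCoh.IsKFlat P'')
        (e : DerivedCategory.Q.obj P'' ≅ E) (x : X) (N : ModuleCat.{u} (X.presheaf.stalk x))
        (i : ℤ), i < a ∨ b < i →
        ((Groth.Agent.Lib.Helper16.TorAmp.tensCx N).obj
          (Groth.Agent.Lib.Helper16.Stk.stkCx x P'')).ExactAt i := by
      intro P'' hP'' e x N i hi
      have h1 := step1 P'' hP'' e (Groth.Agent.Lib.Helper16.PushStalk.FF X x N)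
        (Groth.Agent.Lib.Helper16.PushStalk.isQuasicoherent_FF X x N) i hi
      have h2 := Groth.Agent.Lib.Helper16.KD.exactAt_mapHC
        (Groth.Agent.Lib.Helper16.Stk.stk x) _ i h1
      have h3 := h2.of_iso (Groth.Agent.Lib.Helper16.KD.tensModCxStkIso
        (Groth.Agent.Lib.Helper16.PushStalk.FF X x N) x P'')
      exact (Groth.Agent.Lib.Helper16.KPR.exactAt_tensCx_of_iso
        (Groth.Agent.Lib.Helper16.PushStalk.stalkIso X x N).symm _ _).1 h3
    -- a first K-flat model
    have e₀ : DerivedCategory.Q.obj (DerivedCategory.Q.objPreimage E) ≅ E :=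
      DerivedCategory.Q.objObjPreimageIso E
    obtain ⟨P, p, hP, hPfl, hp, -⟩ :=
      Groth.Agent.Lib.Helper16.Stk.exists_kFlat_resolution (DerivedCategory.Q.objPreimage E)
    haveI := hp
    have hexP : ∀ i : ℤ, i < a ∨ b < i → P.ExactAt i := by
      intro i hi
      rw [Groth.Agent.Lib.Helper16.KD.exactAt_iff_forall_stalk]
      intro x
      exact (step2 P hP (asIso (DerivedCategory.Q.map p) ≪≫ e₀) x (MonoidalCategoryStruct.tensorUnit (ModuleCat.{u} (X.presheaf.stalk x))) i hi).of_iso
        (Groth.Agent.Lib.Helper16.TorAmp.tensCxUnitIso _)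
    have hex₀ : ∀ i : ℤ, b < i → (DerivedCategory.Q.objPreimage E).ExactAt i := by
      intro i hi
      haveI : QuasiIsoAt p i := hp.quasiIsoAt i
      exact (_root_.exactAt_iff_of_quasiIsoAt p i).1 (hexP i (Or.inr hi))
    -- a bounded above flat model
    obtain ⟨P', q, hP'le, hP'fl, hq⟩ :=
      Groth.Agent.Lib.Helper16.KD.exists_boundedAbove_flat_resolution
        (DerivedCategory.Q.objPreimage E) b hex₀
    haveI := hq
    have hP'K : DCoh.IsKFlat P' :=
      Groth.Agent.Lib.Helper16.Stk.isKFlat_of_boundedAbove_flat P' b hP'le hP'fl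
    have e' : DerivedCategory.Q.obj P' ≅ E := asIso (DerivedCategory.Q.map q) ≪≫ e₀
    have hst : ∀ x : X, DRing.HasTorAmplitudeIn (X.presheaf.stalk x) a b
        (DRing.toD (Groth.Agent.Lib.Helper16.Stk.stkCx x P')) := by
      intro x
      exact (Groth.Agent.Lib.Helper16.TorAmp.torAmp_iff_exactAt_tensCx
        (Groth.Agent.Lib.Helper16.Stk.stkCx x P') b
        (fun j hj => (Groth.Agent.Lib.Helper16.Stk.stk x).map_isZero
          (P'.isZero_of_isStrictlyLE b j hj))
        (fun j => hP'fl j x) a b).2 (fun N i hi => step2 P' hP'K e' x N i hi)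
    haveI : (DCoh.toD X P').IsLE b := by
      have : P'.IsLE b := inferInstance
      exact (DerivedCategory.isLE_Q_obj_iff P' b).2 this
    obtain ⟨E', hv, hfl, ⟨e''⟩⟩ := Groth.Agent.S6200.backward P' b a b hst
    exact Groth.Agent.Lib.Helper16.KD.hasTorAmplitudeIn_of_hasFlatAmplitudeIn a b
      ⟨E', hv, hfl, ⟨e'' ≪≫ e'⟩⟩

end Groth.Agent.S1073
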