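import Groth.Statements.S10760
import Groth.Agent.S10587
import Groth.Agent.S10589
import Groth.Agent.S10761
import Groth.Agent.S9906
import Groth.Agent.Lib.Helper3.AlgSpProper
import Groth.Agent.Lib.Helper3.AlgSpFibre
import Groth.Agent.Lib.Helper3.AlgSpDiag
-- import your own Groth.Agent.* helpers here

set_option autoImplicit false
universe u
open CategoryTheory CategoryTheory.Limits AlgebraicGeometry
open AlgSp

namespace Groth.Agent.S10760

section H
namespace W58
open Groth.Agent.Lib.Helper3
set_option backward.isDefEq.respectTransparency.types false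
variable {S : Scheme.{u}}

theorem isThickMor_id (Y : Sp S) : IsThickMor (𝟙 Y) := by
  have : (thick.{u}).IsMultiplicative := by unfold thick; infer_instance
  exact (RepWith thick).id_mem Y

theorem main {X Y Z Z' : AlgSp.Space S}
    (f : X ⟶ Y) (hf : AlgSp.LocP @LocallyOfFiniteType f.hom)
    (i : Z ⟶ X) (i' : Z' ⟶ X)
    (hi : AlgSp.RepWith @IsClosedImmersion i.hom) (hi' : AlgSp.RepWith @IsClosedImmersion i'.hom)
    (heq : Set.range (AlgSp.Points.map i.hom) = Set.range (AlgSp.Points.map i'.hom))
    (hZ : AlgSp.IsProperMor (i ≫ f).hom) :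
    AlgSp.IsProperMor (i' ≫ f).hom := by
  have hW : IsAlgSpace (pullback i.hom i'.hom) :=
    isAlgSpace_of_isPullback' X.property Z.property Z'.property (IsPullback.of_hasPullback _ _)
  let W : AlgSp.Space S := ⟨pullback i.hom i'.hom, hW⟩
  let p : W ⟶ Z := ObjectProperty.homMk (pullback.fst i.hom i'.hom)
  let p' : W ⟶ Z' := ObjectProperty.homMk (pullback.snd i.hom i'.hom)
  have sq : IsPullback p.hom p'.hom i.hom i'.hom := IsPullback.of_hasPullback _ _
  have hpc : RepWith @IsClosedImmersion p.hom := MorphismProperty.of_isPullback sq.flip hi'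
  have hp'c : RepWith @IsClosedImmersion p'.hom := MorphismProperty.of_isPullback sq hi
  have hp's : IsSurjectiveMor p'.hom := by
    intro z'
    have : Points.map i'.hom z' ∈ Set.range (Points.map i.hom) := heq ▸ ⟨z', rfl⟩
    obtain ⟨z, hz⟩ := this
    obtain ⟨w, -, hw⟩ := Points.exists_of_isPullback sq z z' hz
    exact ⟨w, hw⟩
  have hp'S : RepWith @Surjective p'.hom := (S9906.repWith_surjective_iff _ hp'c.1).2 hp's
  have hp'T : IsThickMor p'.hom := repWith_inf hp'c hp'S
  have hpP : IsProperMor p.hom := isProperMor_of_repWith_isClosedImmersion _ hpc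
  have hWY : IsProperMor (p ≫ i ≫ f).hom :=
    isProperMor_comp W.property Z.property Y.property hpP hZ
  have w : p' ≫ (i' ≫ f) = (p ≫ i ≫ f) ≫ 𝟙 Y := by
    rw [Category.comp_id, ← Category.assoc, ← Category.assoc]
    congr 1
    apply ObjectProperty.hom_ext
    exact sq.w.symm
  obtain ⟨-, hqc, huc, -, -⟩ := Groth.Agent.S10587.result p' (𝟙 Y) (p ≫ i ≫ f) (i' ≫ f) hp'T
    (isThickMor_id _) w
  obtain ⟨hsep, -⟩ := Groth.Agent.S10589.result p' (𝟙 Y) (p ≫ i ≫ f) (i' ≫ f) hp'T
    (isThickMor_id _) w
  refine ⟨hsep.1 hWY.1, ⟨?_, hqc.1 hWY.2.1.2⟩, huc.1 hWY.2.2⟩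
  refine locP_comp isEtLocal_locallyOfFiniteType Z'.property X.property Y.property i'.hom f.hom ?_ hf
  refine locP_of_repWith isEtLocal_locallyOfFiniteType i'.hom (repWith_mono ?_ hi')
  intro A B k hk
  have : IsClosedImmersion k := hk
  exact inferInstanceAs (LocallyOfFiniteType k)

end W58
end H


/-- Let f : X ⟶ Y be a morphism of algebraic spaces over S that is locally of finite type, and let i : Z
⟶ X, i' : Z' ⟶ X be closed subspaces (representable closed immersions) with the same image in |X|.
If the composite Z ⟶ Y is proper, then so is Z' ⟶ Y. (That properness of every closed subspace with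
support T implies properness of the reduced one, and that this implies properness of some closed
subspace with support T, is immediate.) -/
theorem result {S : Scheme.{u}} {X Y Z Z' : AlgSp.Space S}
    (f : X ⟶ Y) (hf : AlgSp.LocP @LocallyOfFiniteType f.hom)
    (i : Z ⟶ X) (i' : Z' ⟶ X)
    (hi : AlgSp.RepWith @IsClosedImmersion i.hom) (hi' : AlgSp.RepWith @IsClosedImmersion i'.hom)
    (heq : Set.range (AlgSp.Points.map i.hom) = Set.range (AlgSp.Points.map i'.hom))
    (hZ : AlgSp.IsProperMor (i ≫ f).hom) :
    AlgSp.IsProperMor (i' ≫ f).hom := by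
  exact W58.main f hf i i' hi hi' heq hZ

end Groth.Agent.S10760
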