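import Groth.Statements.S10762
import Groth.Agent.S10281
import Groth.Agent.Lib.Helper3.SchImRed

set_option autoImplicit false
universe u
open CategoryTheory CategoryTheory.Limits AlgebraicGeometry
open AlgSp

namespace Groth.Agent.S10762

/-- Let B be an algebraic space over S, let a : X ⟶ B and b : Y ⟶ B be locally of finite type with b
separated, and let f : X ⟶ Y be a morphism over B. If i : Z ⟶ X is a closed subspace with Z ⟶ B
proper, then the image of |Z| under |f| is a closed subset of |Y| which underlies a closed subspace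
Z' ⟶ Y with Z' ⟶ B proper. -/
theorem result {S : Scheme.{u}} {X Y B Z : AlgSp.Space S}
    (a : X ⟶ B) (b : Y ⟶ B) (f : X ⟶ Y) (hcomm : f ≫ b = a)
    (ha : AlgSp.LocP @LocallyOfFiniteType a.hom) (hb : AlgSp.LocP @LocallyOfFiniteType b.hom)
    (hbs : AlgSp.IsSeparatedMor b.hom)
    (i : Z ⟶ X) (hi : AlgSp.RepWith @IsClosedImmersion i.hom) (hZ : AlgSp.IsProperMor (i ≫ a).hom) :
    IsClosed (AlgSp.Points.map f.hom '' Set.range (AlgSp.Points.map i.hom)) ∧
      ∃ (Z' : AlgSp.Space S) (i' : Z' ⟶ Y), AlgSp.RepWith @IsClosedImmersion i'.hom ∧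
        Set.range (AlgSp.Points.map i'.hom) = AlgSp.Points.map f.hom '' Set.range (AlgSp.Points.map i.hom) ∧
        AlgSp.IsProperMor (i' ≫ b).hom := by
  open Groth.Agent.Lib.Helper3 Groth.Agent.Lib.Helper3.SchIm in
  obtain ⟨Z', i', hZ'⟩ := exists_isSchImage (i ≫ f)
  obtain ⟨h₀, hh₀⟩ := hZ'.2.1
  have fac : (ObjectProperty.homMk h₀ : Z ⟶ Z') ≫ i' = i ≫ f := by
    apply ObjectProperty.hom_ext
    exact hh₀
  have comm : (i ≫ f) ≫ b = i ≫ a := by rw [Category.assoc, hcomm]
  obtain ⟨hprop, hsurj⟩ := Groth.Agent.S10281.result (i ≫ f) (i ≫ a) b comm hZ hbs hb i' hZ'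
    (ObjectProperty.homMk h₀) fac
  have hrange : Set.range (AlgSp.Points.map i'.hom) =
      AlgSp.Points.map f.hom '' Set.range (AlgSp.Points.map i.hom) := by
    have h1 : Set.range (AlgSp.Points.map i'.hom) = Set.range (AlgSp.Points.map (i ≫ f).hom) := by
      apply Set.Subset.antisymm
      · rintro _ ⟨z', rfl⟩
        obtain ⟨z, rfl⟩ := hsurj z'
        refine ⟨z, ?_⟩
        have : (i ≫ f).hom = h₀ ≫ i'.hom := hh₀.symm
        rw [this, AlgSp.Points.map_comp]
        rfl
      · rintro _ ⟨z, rfl⟩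
        refine ⟨AlgSp.Points.map h₀ z, ?_⟩
        rw [← AlgSp.Points.map_comp, hh₀]
    rw [h1, ← Set.range_comp]
    congr 1
    funext z
    have : (i ≫ f).hom = i.hom ≫ f.hom := rfl
    rw [this, AlgSp.Points.map_comp]
    rfl
  refine ⟨?_, Z', i', hZ'.1, hrange, hprop⟩
  rw [← hrange]
  exact isClosed_range_of_closedImmersion _ hZ'.1

end Groth.Agent.S10762
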