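import Groth.Statements.S1079
-- import your own Groth.Agent.* helpers here
import Mathlib.CategoryTheory.Triangulated.Opposite.Pretriangulated
import Mathlib.CategoryTheory.Limits.Preserves.Shapes.Products
import Mathlib.CategoryTheory.Idempotents.Basic
import Mathlib.CategoryTheory.Limits.Shapes.Opposites.Products

set_option autoImplicit false
universe v u
open CategoryTheory CategoryTheory.Limits
open CohDer

namespace Groth.Agent.S1079

section Helpers

open CategoryTheory.Pretriangulated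

/-- Bökstedt–Neeman: countable coproducts split idempotents in a pretriangulated category. -/
theorem isIdempotentComplete_of_coproducts {D : Type u} [Category.{v} D] [Preadditive D]
    [Limits.HasZeroObject D] [HasShift D ℤ]
    [∀ n : ℤ, (shiftFunctor D n).Additive] [Pretriangulated D]
    [HasColimitsOfShape (Discrete ℕ) D] : IsIdempotentComplete D := by
  refine ⟨fun X e he => ?_⟩
  let F : ℕ → D := fun _ => X
  let S : D := ∐ F
  let ι : ∀ n, X ⟶ S := fun n => Sigma.ι F n
  let u : S ⟶ S := Sigma.desc (fun n => ι n - e ≫ ι (n + 1))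
  obtain ⟨Y, v, w, hT⟩ := Pretriangulated.distinguished_cocone_triangle u
  have hιu : ∀ n, ι n ≫ u = ι n - e ≫ ι (n + 1) := fun n => Sigma.ι_desc _ _
  have huv : u ≫ v = 0 := comp_distTriang_mor_zero₁₂ _ hT
  let a : S ⟶ X := Sigma.desc (fun _ => e)
  have hιa : ∀ n, ι n ≫ a = e := fun n => Sigma.ι_desc _ _
  have hua : u ≫ a = 0 := by
    apply Sigma.hom_ext
    intro n
    change ι n ≫ u ≫ a = ι n ≫ 0
    rw [← Category.assoc, hιu, Preadditive.sub_comp, Category.assoc, hιa, hιa, he, sub_self,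
      comp_zero]
  obtain ⟨(i : Y ⟶ X), (hi : a = v ≫ i)⟩ := Triangle.yoneda_exact₂ _ hT a hua
  have h1 : ∀ n, ι n ≫ v = e ≫ ι (n + 1) ≫ v := by
    intro n
    have := congrArg (fun z => ι n ≫ z) huv
    simp only [comp_zero] at this
    rw [← Category.assoc, hιu, Preadditive.sub_comp, Category.assoc] at this
    exact sub_eq_zero.mp this
  have h2 : ∀ n, e ≫ ι n ≫ v = ι n ≫ v := by
    intro n
    rw [h1 n, ← Category.assoc e e, he]
  have h3 : ∀ n, ι n ≫ v = ι 0 ≫ v := by
    intro n
    induction n with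
    | zero => rfl
    | succ n ih => rw [← ih, h1 n, h2 (n + 1)]
  have key : ∀ {T : D} (g : Y ⟶ T), v ≫ g = 0 → g = 0 := by
    intro T g hg
    obtain ⟨t, rfl⟩ := Triangle.yoneda_exact₃ _ hT g hg
    change S⟦(1 : ℤ)⟧ ⟶ T at t
    change w ≫ t = 0
    have hc : IsColimit (Cofan.mk ((shiftFunctor D (1 : ℤ)).obj S)
        (fun n => (shiftFunctor D (1 : ℤ)).map (ι n))) :=
      isColimitCofanMkObjOfIsColimit (shiftFunctor D (1 : ℤ)) _ _ (coproductIsCoproduct F)
    have he' : e⟦(1 : ℤ)⟧' ≫ e⟦(1 : ℤ)⟧' = e⟦(1 : ℤ)⟧' := by rw [← Functor.map_comp, he]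
    let tn : ℕ → (X⟦(1 : ℤ)⟧ ⟶ T) := fun n => (ι n)⟦(1 : ℤ)⟧' ≫ t
    let rn : ℕ → (X⟦(1 : ℤ)⟧ ⟶ T) := fun n =>
      (𝟙 _ - e⟦(1 : ℤ)⟧') ≫ tn n - ∑ k ∈ Finset.range n, e⟦(1 : ℤ)⟧' ≫ tn k
    let r : S⟦(1 : ℤ)⟧ ⟶ T := Cofan.IsColimit.desc hc rn
    have hr : ∀ n, (ι n)⟦(1 : ℤ)⟧' ≫ r = rn n := fun n => Cofan.IsColimit.fac hc rn n
    have hur : u⟦(1 : ℤ)⟧' ≫ r = t := by
      apply Cofan.IsColimit.hom_ext hc
      intro n
      change (ι n)⟦(1 : ℤ)⟧' ≫ u⟦(1 : ℤ)⟧' ≫ r = tn n
      rw [← Category.assoc, ← Functor.map_comp, hιu, Functor.map_sub, Functor.map_comp,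
        Preadditive.sub_comp, Category.assoc, hr, hr]
      simp only [rn, Preadditive.comp_sub, Preadditive.sub_comp, Category.id_comp,
        Preadditive.comp_add, Preadditive.comp_sum, Finset.sum_range_succ]
      simp only [← Category.assoc, he']
      abel
    have h31 : w ≫ u⟦(1 : ℤ)⟧' = 0 := comp_distTriang_mor_zero₃₁ _ hT
    rw [← hur, ← Category.assoc, h31, zero_comp]
  refine ⟨Y, i, ι 0 ≫ v, ?_, ?_⟩
  · have := key (i ≫ ι 0 ≫ v - 𝟙 Y) (by
      apply Sigma.hom_ext
      intro n
      change ι n ≫ v ≫ (i ≫ ι 0 ≫ v - 𝟙 Y) = ι n ≫ 0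
      rw [comp_zero, Preadditive.comp_sub, Preadditive.comp_sub, Category.comp_id,
        ← Category.assoc v, ← hi, ← Category.assoc (ι n), hιa, h2 0, h3 n, sub_self])
    exact sub_eq_zero.mp this
  · rw [Category.assoc, ← hi, hιa]

open CategoryTheory.Pretriangulated.Opposite in
/-- the dual statement, by passing to the opposite category -/
theorem isIdempotentComplete_of_products {D : Type u} [Category.{v} D] [Preadditive D]
    [Limits.HasZeroObject D] [HasShift D ℤ]
    [∀ n : ℤ, (shiftFunctor D n).Additive] [Pretriangulated D]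
    [HasLimitsOfShape (Discrete ℕ) D] : IsIdempotentComplete D := by
  have : HasColimitsOfShape (Discrete ℕ) Dᵒᵖ := Limits.hasCoproductsOfShape_opposite ℕ
  exact Idempotents.isIdempotentComplete_of_isIdempotentComplete_opposite
    (isIdempotentComplete_of_coproducts (D := Dᵒᵖ))

end Helpers

/-- A pretriangulated category which has countable coproducts, or countable products, is Karoubian
(idempotent complete). -/
theorem result {D : Type u} [Category.{v} D] [Preadditive D] [Limits.HasZeroObject D] [HasShift D ℤ]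
    [∀ n : ℤ, (shiftFunctor D n).Additive] [Pretriangulated D]
    (h : HasColimitsOfShape (Discrete ℕ) D ∨ HasLimitsOfShape (Discrete ℕ) D) : IsIdempotentComplete D := by
  rcases h with h | h
  · exact isIdempotentComplete_of_coproducts
  · exact isIdempotentComplete_of_products

end Groth.Agent.S1079
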