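import Groth.Statements.S10795
import Groth.Agent.Lib.Helper3.AlgSpLocP3
import Groth.Agent.Lib.Helper29.BlowUpUP
-- import your own Groth.Agent.* helpers here

set_option autoImplicit false
universe u
open CategoryTheory CategoryTheory.Limits AlgebraicGeometry Topology TopologicalSpace
open AlgSp

namespace Groth.Agent.S10795

section H
namespace W43
open Groth.Agent.Lib.Helper3
set_option backward.isDefEq.respectTransparency.types false

variable {S : Scheme.{u}}

/-- the closed subscheme of the pulled back ideal is the pullback, over `S` and in sheaves -/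
theorem isPullback_comap_yon {U V : Over S} (h : U ⟶ V) (I : V.left.IdealSheafData) :
    ∃ mO : Over.mk ((I.comap h.left).subschemeι ≫ U.hom) ⟶ Over.mk (I.subschemeι ≫ V.hom),
      IsPullback ((yon S).map mO)
        ((yon S).map (Over.homMk (I.comap h.left).subschemeι rfl :
          Over.mk ((I.comap h.left).subschemeι ≫ U.hom) ⟶ U))
        ((yon S).map (Over.homMk I.subschemeι rfl : Over.mk (I.subschemeι ≫ V.hom) ⟶ V))
        ((yon S).map h) := by
  let m := Scheme.IdealSheafData.subschemeMap (I.comap h.left) I h.left (I.le_map_comap h.left)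
  have hm : m ≫ I.subschemeι = (I.comap h.left).subschemeι ≫ h.left :=
    Scheme.IdealSheafData.subschemeMap_subschemeι _ _ _ _
  have sq0 : IsPullback (I.comap h.left).subschemeι m h.left I.subschemeι :=
    IsPullback.of_iso_pullback ⟨hm.symm⟩ (I.comapIso h.left) (I.comapIso_hom_fst h.left)
      (I.comapIso_hom_snd h.left)
  let mO : Over.mk ((I.comap h.left).subschemeι ≫ U.hom) ⟶ Over.mk (I.subschemeι ≫ V.hom) :=
    Over.homMk m (by
      change m ≫ I.subschemeι ≫ V.hom = (I.comap h.left).subschemeι ≫ U.hom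
      rw [reassoc_of% hm, Over.w h])
  have commO : (Over.homMk (I.comap h.left).subschemeι rfl :
      Over.mk ((I.comap h.left).subschemeι ≫ U.hom) ⟶ U) ≫ h =
      mO ≫ (Over.homMk I.subschemeι rfl : Over.mk (I.subschemeι ≫ V.hom) ⟶ V) := by
    apply Over.OverMorphism.ext
    exact hm.symm
  have sqO : IsPullback (Over.homMk (I.comap h.left).subschemeι rfl :
      Over.mk ((I.comap h.left).subschemeι ≫ U.hom) ⟶ U) mO h
      (Over.homMk I.subschemeι rfl : Over.mk (I.subschemeι ≫ V.hom) ⟶ V) :=
    IsPullback.of_map (Over.forget S) commO sq0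
  exact ⟨mO, (sqO.map (yon S)).flip⟩

theorem main (X Y D P : AlgSp.Space S) (f : X ⟶ Y)
    (hf : AlgSp.LocP @Flat f.hom) (i : D ⟶ Y) (hD : AlgSp.IsEffCartierSub i.hom)
    (fst : P ⟶ D) (snd : P ⟶ X) (hP : IsPullback fst.hom snd.hom i.hom f.hom) :
    AlgSp.IsEffCartierSub snd.hom := by
  obtain ⟨hci, V, φ, I, fstD, hφe, hφs, sqD, hI⟩ := hD
  obtain ⟨U, u, h, hue, hus, hae, has, hh, hw⟩ :=
    exists_chart_over X.property Y.property f.hom φ hφe
  have hflat : Flat h.left := hf _ φ h hae hφe hw
  have hJ : BlowUp.IsEffCartierIdeal (I.comap h.left) :=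
    Groth.Agent.Lib.Helper29.EffCart.isEffCartierIdeal_comap_of_flat h.left I hI
  obtain ⟨mO, sqY⟩ := isPullback_comap_yon h I
  have big := sqY.paste_horiz sqD
  rw [← hw] at big
  let fst' := hP.lift ((yon S).map mO ≫ fstD)
    ((yon S).map (Over.homMk (I.comap h.left).subschemeι rfl :
      Over.mk ((I.comap h.left).subschemeι ≫ U.hom) ⟶ U) ≫ (u ≫ pullback.fst f.hom φ))
    (by simpa only [Category.assoc] using big.w)
  have e1 : fst' ≫ fst.hom = (yon S).map mO ≫ fstD := hP.lift_fst _ _ _
  have e2 : fst' ≫ snd.hom = (yon S).map (Over.homMk (I.comap h.left).subschemeι rfl :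
      Over.mk ((I.comap h.left).subschemeι ≫ U.hom) ⟶ U) ≫ (u ≫ pullback.fst f.hom φ) :=
    hP.lift_snd _ _ _
  rw [← e1] at big
  have sq' := IsPullback.of_right big e2 hP
  exact ⟨MorphismProperty.of_isPullback hP hci, U, u ≫ pullback.fst f.hom φ, I.comap h.left, fst',
    hae, has hφs, sq', hJ⟩

end W43
end H


/-- For algebraic spaces X and Y over a scheme S, a flat morphism f : X ⟶ Y and an effective Cartier
divisor D ⟶ Y (one-chart sense), the inverse image of D under f is an effective Cartier divisor on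
X: for every pullback square of D ⟶ Y along f, the projection to X is an effective Cartier divisor
(one-chart sense). -/
theorem result {S : Scheme.{u}} (X Y D P : AlgSp.Space S) (f : X ⟶ Y)
    (hf : AlgSp.LocP @Flat f.hom) (i : D ⟶ Y) (hD : AlgSp.IsEffCartierSub i.hom)
    (fst : P ⟶ D) (snd : P ⟶ X) (hP : IsPullback fst.hom snd.hom i.hom f.hom) :
    AlgSp.IsEffCartierSub snd.hom := by
  exact W43.main X Y D P f hf i hD fst snd hP

end Groth.Agent.S10795
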