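import Groth.Statements.S10791
import Groth.Agent.S10795
import Groth.Agent.Lib.Helper15.AlgSpIdealChart
import Groth.Agent.Lib.Helper15.EffCartDescent
import Groth.Agent.Lib.Helper29.BlowUpUP
-- import your own Groth.Agent.* helpers here

set_option autoImplicit false
universe u
open CategoryTheory CategoryTheory.Limits AlgebraicGeometry Topology TopologicalSpace
open AlgSp

namespace Groth.Agent.S10791

section H
namespace W47
open Groth.Agent.Lib.Helper15.IdealChart Groth.Agent.Lib.Helper15.EffCartDescent
set_option backward.isDefEq.respectTransparency.types false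
variable {S : Scheme.{u}}

/-- two pullbacks of `i` to the same etale chart have the same kernel ideal sheaf -/
theorem ker_eq_of_isPullback {X D : Sp S} {i : D ⟶ X} (hi : Representable i)
    {V : Over S} (φ : (yon S).obj V ⟶ X) (hφ : RepWith @Etale φ)
    {P₁ P₂ : Over S} (ι₁ : P₁ ⟶ V) (ι₂ : P₂ ⟶ V)
    [QuasiCompact ι₁.left] [QuasiCompact ι₂.left]
    (fst₁ : (yon S).obj P₁ ⟶ D) (fst₂ : (yon S).obj P₂ ⟶ D)
    (sq₁ : IsPullback fst₁ ((yon S).map ι₁) i φ)
    (sq₂ : IsPullback fst₂ ((yon S).map ι₂) i φ) :
    ι₁.left.ker = ι₂.left.ker := by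
  apply Scheme.IdealSheafData.ext
  funext U
  have hU' : (⟨U.1.ι ''ᵁ ⊤, (@isAffineOpen_top U.1.toScheme U.2).image_of_isOpenImmersion U.1.ι⟩ :
      V.left.affineOpens) = U := Subtype.ext (Scheme.Opens.ι_image_top U.1)
  rw [← hU']
  have h1 := idealOfRep_chart_open hi φ hφ ι₁ fst₁ sq₁ U.1 U.2
  have h2 := idealOfRep_chart_open hi φ hφ ι₂ fst₂ sq₂ U.1 U.2
  rw [h1] at h2
  have hsurj : Function.Surjective (U.1.ι.appIso ⊤).inv.hom :=
    (ConcreteCategory.bijective_of_isIso (U.1.ι.appIso ⊤).inv).2
  exact Ideal.comap_injective_of_surjective _ hsurj h2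

theorem main (X D : AlgSp.Space S) (i : D ⟶ X)
    (hi : AlgSp.RepWith @IsClosedImmersion i.hom) :
    AlgSp.IsEffCartierSub i.hom ↔
      ∀ (U : Over S) (φ : (AlgSp.yon S).obj U ⟶ X.obj), AlgSp.RepWith @Etale φ →
        ∀ (I : U.left.IdealSheafData)
          (fst : (AlgSp.yon S).obj (Over.mk (I.subschemeι ≫ U.hom)) ⟶ D.obj),
          IsPullback fst ((AlgSp.yon S).map (Over.homMk I.subschemeι rfl :
            Over.mk (I.subschemeι ≫ U.hom) ⟶ U)) i.hom φ →
            BlowUp.IsEffCartierIdeal I := by
  constructor
  · rintro ⟨-, V, φ, K, fstD, hφe, hφs, sqD, hK⟩ U ψ hψe I fst sq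
    have hrep : Representable φ := hφe.1
    let W : Over S := hrep.pullback ψ
    let πU : W ⟶ U := hrep.snd ψ
    let qV : (yon S).obj W ⟶ (yon S).obj V := hrep.fst ψ
    have sqW : IsPullback qV ((yon S).map πU) φ ψ := hrep.isPullback ψ
    let πV : W ⟶ V := (yon S).preimage qV
    have hπV : (yon S).map πV = qV := (yon S).map_preimage qV
    have hπUe : RepWith @Etale ((yon S).map πU) := MorphismProperty.of_isPullback sqW hφe
    have hπUs : RepWith @Surjective ((yon S).map πU) := MorphismProperty.of_isPullback sqW hφs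
    have hπVe : RepWith @Etale ((yon S).map πV) := by
      rw [hπV]; exact MorphismProperty.of_isPullback sqW.flip hψe
    have hπUet : Etale πU.left := (repWith_yon_map_iff _ _).1 hπUe
    have hπUsu : Surjective πU.left := (repWith_yon_map_iff _ _).1 hπUs
    have hπVet : Etale πV.left := (repWith_yon_map_iff _ _).1 hπVe
    have hχe : RepWith @Etale ((yon S).map πU ≫ ψ) := (RepWith @Etale).comp_mem _ _ hπUe hψe
    have hχeq : (yon S).map πV ≫ φ = (yon S).map πU ≫ ψ := by rw [hπV]; exact sqW.w
    have hK' : BlowUp.IsEffCartierIdeal (K.comap πV.left) :=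
      Groth.Agent.Lib.Helper29.EffCart.isEffCartierIdeal_comap_of_flat πV.left K hK
    obtain ⟨m₁, s₁⟩ := Groth.Agent.S10795.W43.isPullback_comap_yon πV K
    obtain ⟨m₂, s₂⟩ := Groth.Agent.S10795.W43.isPullback_comap_yon πU I
    have b₁ := s₁.paste_horiz sqD
    have b₂ := s₂.paste_horiz sq
    rw [hχeq] at b₁
    have hq1 : QuasiCompact (Over.homMk (K.comap πV.left).subschemeι rfl :
        Over.mk ((K.comap πV.left).subschemeι ≫ W.hom) ⟶ W).left := by
      change QuasiCompact (K.comap πV.left).subschemeι; infer_instance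
    have hq2 : QuasiCompact (Over.homMk (I.comap πU.left).subschemeι rfl :
        Over.mk ((I.comap πU.left).subschemeι ≫ W.hom) ⟶ W).left := by
      change QuasiCompact (I.comap πU.left).subschemeι; infer_instance
    have hker := ker_eq_of_isPullback hi.1 _ hχe _ _ _ _ b₁ b₂
    simp only [Over.homMk_left, Scheme.IdealSheafData.ker_subschemeι] at hker
    rw [hker] at hK'
    exact isEffCartierIdeal_of_comap πU.left I hK'
  · intro h
    obtain ⟨V, φ, hφe, hφs⟩ := X.property.atlas
    let ιP : hi.1.pullback φ ⟶ V := hi.1.snd φ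
    have sqP : IsPullback (hi.1.fst φ) ((yon S).map ιP) i.hom φ := hi.1.isPullback φ
    have hcl : IsClosedImmersion ιP.left := hi.2 _ _ _ sqP
    obtain ⟨fst', sq'⟩ := isPullback_ker_subscheme φ ιP _ sqP
    exact ⟨hi, V, φ, ιP.left.ker, fst', hφe, hφs, sq', h V φ hφe _ fst' sq'⟩

end W47
end H


/-- (2) ⇔ (3): let X be an algebraic space over a scheme S and D ⟶ X a closed subspace (a morphism
representable by closed immersions). Then D is an effective Cartier divisor in the one-chart sense
(for some scheme V and some representable etale surjective h_V ⟶ X the inverse image of D in V is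
the closed subscheme of a quasi-coherent ideal sheaf that is locally generated by one
nonzerodivisor) if and only if for every scheme U, every representable etale h_U ⟶ X and every
quasi-coherent ideal sheaf I on U whose closed subscheme is the inverse image of D in U (a pullback
square), I is locally on affine opens generated by one nonzerodivisor. (The characterisation through
the invertible ideal sheaf of D and the pointed affine form are not part of this row.) -/
theorem result {S : Scheme.{u}} (X D : AlgSp.Space S) (i : D ⟶ X)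
    (hi : AlgSp.RepWith @IsClosedImmersion i.hom) :
    AlgSp.IsEffCartierSub i.hom ↔
      ∀ (U : Over S) (φ : (AlgSp.yon S).obj U ⟶ X.obj), AlgSp.RepWith @Etale φ →
        ∀ (I : U.left.IdealSheafData)
          (fst : (AlgSp.yon S).obj (Over.mk (I.subschemeι ≫ U.hom)) ⟶ D.obj),
          IsPullback fst ((AlgSp.yon S).map (Over.homMk I.subschemeι rfl : Over.mk (I.subschemeι ≫ U.hom) ⟶ U)) i.hom φ →
            BlowUp.IsEffCartierIdeal I := by
  exact W47.main X D i hi

end Groth.Agent.S10791
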