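import Groth.Statements.S10792
import Groth.Agent.S10791
import Groth.Agent.Lib.Helper15.EffCartDescent2
import Groth.Agent.Lib.Helper3.AlgSpChartPts
import Groth.Agent.Lib.Helper3.AlgSpHasAtMor
import Groth.Agent.Lib.Helper3.AlgSpLocSrc2
-- import your own Groth.Agent.* helpers here

set_option autoImplicit false
universe u
open CategoryTheory CategoryTheory.Limits AlgebraicGeometry Topology TopologicalSpace
open AlgSp

namespace Groth.Agent.S10792

section H
namespace W55
open Opposite Groth.Agent.Lib.Helper3 Groth.Agent.Lib.Helper15.IdealChart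
  Groth.Agent.Lib.Helper15.EffCartDescent
set_option backward.isDefEq.respectTransparency.types false

theorem exists_principal_nzd_of_notMem_support {U : Scheme.{u}} (I : U.IdealSheafData) (u : U)
    (hu : u ∉ I.support) :
    ∃ U' : U.affineOpens, u ∈ U'.1 ∧
      ∃ f : Γ(U, U'.1), f ∈ nonZeroDivisors Γ(U, U'.1) ∧ I.ideal U' = Ideal.span {f} := by
  obtain ⟨_, ⟨U₁o, hU₁a, rfl⟩, hu₁, -⟩ :=
    U.isBasis_affineOpens.exists_subset_of_mem_open (Set.mem_univ u) isOpen_univ
  let U₁ : U.affineOpens := ⟨U₁o, hU₁a⟩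
  have hu₁' : u ∈ U₁.1 := hu₁
  rw [Scheme.IdealSheafData.mem_support_iff_of_mem hu₁', Scheme.mem_zeroLocus_iff] at hu
  push Not at hu
  obtain ⟨g, hgI, hug⟩ := hu
  have hmapI := I.map_ideal_basicOpen U₁ g
  have hunit : IsUnit ((U.presheaf.map (homOfLE (U.basicOpen_le g)).op).hom g) :=
    RingedSpace.isUnit_res_basicOpen _ g
  have htop : I.ideal (U.affineBasicOpen g) = ⊤ := by
    rw [← hmapI]
    exact Ideal.eq_top_of_isUnit_mem _ (Ideal.mem_map_of_mem _ hgI) hunit
  refine ⟨U.affineBasicOpen g, hug, 1, one_mem _, ?_⟩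
  rw [htop, Ideal.span_singleton_one]

variable {S : Scheme.{u}}

theorem forward (X D : AlgSp.Space S) (i : D ⟶ X) (hD : AlgSp.IsEffCartierSub i.hom)
    (x : AlgSp.Points D.obj) :
    ∃ (U : Over S) (_ : IsAffine U.left) (a : (AlgSp.yon S).obj U ⟶ X.obj) (u : ↥U.left)
      (f : Γ(U.left, ⊤)) (I : U.left.IdealSheafData)
      (fst : (AlgSp.yon S).obj (Over.mk (I.subschemeι ≫ U.hom)) ⟶ D.obj),
      AlgSp.RepWith @Etale a ∧ AlgSp.Points.ofPt a u = AlgSp.Points.map i.hom x ∧
        f ∈ nonZeroDivisors Γ(U.left, ⊤) ∧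
        I.ideal ⟨⊤, isAffineOpen_top U.left⟩ = Ideal.span {f} ∧
        IsPullback fst ((AlgSp.yon S).map (Over.homMk I.subschemeι rfl :
          Over.mk (I.subschemeι ≫ U.hom) ⟶ U)) i.hom a := by
  obtain ⟨-, V, φ, K, fstD, hφe, hφs, sqD, hK⟩ := hD
  have hfs : RepWith @Surjective fstD := MorphismProperty.of_isPullback sqD.flip hφs
  obtain ⟨z, hz⟩ := exists_ofPt_eq fstD hfs x
  obtain ⟨V₀, hv, f, hf, hKf⟩ := hK (K.subschemeι z)
  have hV₀ : IsAffine V₀.1.toScheme := V₀.2
  let j : Over.mk (V₀.1.ι ≫ V.hom) ⟶ V := Over.homMk V₀.1.ι rfl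
  have hje : RepWith @Etale ((yon S).map j) :=
    (repWith_yon_map_iff _ _).2 (show Etale V₀.1.ι from inferInstance)
  obtain ⟨m, s⟩ := Groth.Agent.S10795.W43.isPullback_comap_yon j K
  have big := s.paste_horiz sqD
  have hiso : IsIso (V₀.1.ι.appLE V₀.1 ⊤ V₀.1.ι_preimage_self.ge) := inferInstance
  have hinj : Function.Injective (V₀.1.ι.appLE V₀.1 ⊤ V₀.1.ι_preimage_self.ge).hom :=
    (ConcreteCategory.bijective_of_isIso (V₀.1.ι.appLE V₀.1 ⊤ V₀.1.ι_preimage_self.ge)).1
  have hsurj : Function.Surjective (V₀.1.ι.appLE V₀.1 ⊤ V₀.1.ι_preimage_self.ge).hom :=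
    (ConcreteCategory.bijective_of_isIso (V₀.1.ι.appLE V₀.1 ⊤ V₀.1.ι_preimage_self.ge)).2
  refine ⟨Over.mk (V₀.1.ι ≫ V.hom), hV₀, (yon S).map j ≫ φ, ⟨K.subschemeι z, hv⟩,
    (V₀.1.ι.appLE V₀.1 ⊤ V₀.1.ι_preimage_self.ge).hom f, K.comap V₀.1.ι, (yon S).map m ≫ fstD,
    (RepWith @Etale).comp_mem _ _ hje hφe, ?_, ?_, ?_, big⟩
  · rw [Points.ofPt_yon_map_comp, ← hz, Points.map_ofPt, sqD.w, Points.ofPt_yon_map_comp]
    rfl
  · -- image of a nonzerodivisor under a ring isomorphism
    rw [mem_nonZeroDivisors_iff_right]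
    intro y hy
    obtain ⟨y', rfl⟩ := hsurj y
    rw [← map_mul] at hy
    have := hinj (hy.trans (map_zero _).symm)
    rw [(mem_nonZeroDivisors_iff_right.1 hf) y' this, map_zero]
  · have h1 := Groth.Agent.Lib.Helper29.EffCart.ideal_comap_eq_map K V₀.1.ι V₀
      ⟨⊤, isAffineOpen_top _⟩ V₀.1.ι_preimage_self.ge
    rw [hKf, Ideal.map_span, Set.image_singleton] at h1
    exact h1

theorem main (X D : AlgSp.Space S) (i : D ⟶ X)
    (hi : AlgSp.RepWith @IsClosedImmersion i.hom) :
    AlgSp.IsEffCartierSub i.hom ↔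
      ∀ x : AlgSp.Points D.obj,
        ∃ (U : Over S) (_ : IsAffine U.left) (a : (AlgSp.yon S).obj U ⟶ X.obj) (u : ↥U.left)
          (f : Γ(U.left, ⊤)) (I : U.left.IdealSheafData)
          (fst : (AlgSp.yon S).obj (Over.mk (I.subschemeι ≫ U.hom)) ⟶ D.obj),
          AlgSp.RepWith @Etale a ∧ AlgSp.Points.ofPt a u = AlgSp.Points.map i.hom x ∧
            f ∈ nonZeroDivisors Γ(U.left, ⊤) ∧
            I.ideal ⟨⊤, isAffineOpen_top U.left⟩ = Ideal.span {f} ∧
            IsPullback fst ((AlgSp.yon S).map (Over.homMk I.subschemeι rfl :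
              Over.mk (I.subschemeι ≫ U.hom) ⟶ U)) i.hom a := by
  constructor
  · intro hD x
    exact forward X D i hD x
  · intro hloc
    rw [Groth.Agent.S10791.W47.main X D i hi]
    intro U φ hφe I fst sq u₀
    by_cases hu₀ : u₀ ∈ I.support
    · have hu₀' : u₀ ∈ Set.range I.subschemeι := by
        rw [Scheme.IdealSheafData.range_subschemeι]; exact hu₀
      obtain ⟨z, hz⟩ := hu₀'
      obtain ⟨Ux, hUx, a, ux, f, Ix, fstx, hae, hpt, hf, hIx, sqx⟩ := hloc (Points.ofPt fst z)
      have hpts : Points.ofPt φ u₀ = Points.ofPt a ux := by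
        rw [hpt, Points.map_ofPt, sq.w, Points.ofPt_yon_map_comp]
        congr 1
        exact hz.symm
      obtain ⟨W, pU, pX, sqW⟩ := exists_pullback_charts φ hφe.1 a
      obtain ⟨w, hw1, hw2⟩ := exists_of_ofPt_eq_of_isPullback sqW u₀ ux hpts
      have hpU : Etale pU.left := hae.2 φ ((yon S).map pX) pU sqW.flip
      have hpX : Etale pX.left := hφe.2 a ((yon S).map pU) pX sqW
      have hIxC : BlowUp.IsEffCartierIdeal Ix := fun _ =>
        ⟨⟨⊤, isAffineOpen_top Ux.left⟩, trivial, f, hf, hIx⟩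
      have hIx' : BlowUp.IsEffCartierIdeal (Ix.comap pX.left) :=
        Groth.Agent.Lib.Helper29.EffCart.isEffCartierIdeal_comap_of_flat pX.left Ix hIxC
      obtain ⟨m₁, s₁⟩ := Groth.Agent.S10795.W43.isPullback_comap_yon pU I
      obtain ⟨m₂, s₂⟩ := Groth.Agent.S10795.W43.isPullback_comap_yon pX Ix
      have b₁ := s₁.paste_horiz sq
      have b₂ := s₂.paste_horiz sqx
      rw [← sqW.w] at b₂
      have hχe : RepWith @Etale ((yon S).map pU ≫ φ) :=
        (RepWith @Etale).comp_mem _ _ ((repWith_yon_map_iff _ _).2 hpU) hφe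
      have hq1 : QuasiCompact (Over.homMk (I.comap pU.left).subschemeι rfl :
          Over.mk ((I.comap pU.left).subschemeι ≫ W.hom) ⟶ W).left := by
        change QuasiCompact (I.comap pU.left).subschemeι; infer_instance
      have hq2 : QuasiCompact (Over.homMk (Ix.comap pX.left).subschemeι rfl :
          Over.mk ((Ix.comap pX.left).subschemeι ≫ W.hom) ⟶ W).left := by
        change QuasiCompact (Ix.comap pX.left).subschemeι; infer_instance
      have hker := Groth.Agent.S10791.W47.ker_eq_of_isPullback hi.1 _ hχe _ _ _ _ b₁ b₂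
      simp only [Over.homMk_left, Scheme.IdealSheafData.ker_subschemeι] at hker
      rw [← hker] at hIx'
      have := exists_principal_nzd_of_comap pU.left I hIx' w
      rw [hw1] at this
      exact this
    · exact exists_principal_nzd_of_notMem_support I u₀ hu₀

end W55
end H


/-- (2) ⇔ (4): let X be an algebraic space over a scheme S and D ⟶ X a closed subspace (representable by
closed immersions). Then D is an effective Cartier divisor in the one-chart sense if and only if for
every point x of |D| there are an affine scheme U over S, a representable etale h_U ⟶ X, a point u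
of U mapping to the image of x in |X|, and a nonzerodivisor f of the ring A of global functions of U
such that the inverse image of D in U is the closed subscheme Spec (A/(f)), that is, the closed
subscheme of the quasi-coherent ideal sheaf of U whose ideal of global sections is generated by f. -/
theorem result {S : Scheme.{u}} (X D : AlgSp.Space S) (i : D ⟶ X)
    (hi : AlgSp.RepWith @IsClosedImmersion i.hom) :
    AlgSp.IsEffCartierSub i.hom ↔
      ∀ x : AlgSp.Points D.obj,
        ∃ (U : Over S) (_ : IsAffine U.left) (a : (AlgSp.yon S).obj U ⟶ X.obj) (u : ↥U.left)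
          (f : Γ(U.left, ⊤)) (I : U.left.IdealSheafData)
          (fst : (AlgSp.yon S).obj (Over.mk (I.subschemeι ≫ U.hom)) ⟶ D.obj),
          AlgSp.RepWith @Etale a ∧ AlgSp.Points.ofPt a u = AlgSp.Points.map i.hom x ∧
            f ∈ nonZeroDivisors Γ(U.left, ⊤) ∧
            I.ideal ⟨⊤, isAffineOpen_top U.left⟩ = Ideal.span {f} ∧
            IsPullback fst ((AlgSp.yon S).map (Over.homMk I.subschemeι rfl : Over.mk (I.subschemeι ≫ U.hom) ⟶ U)) i.hom a := by
  exact W55.main X D i hi

end Groth.Agent.S10792
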