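import Groth.Statements.S1686
import Groth.Agent.Lib.Helper29.EffCart4

set_option autoImplicit false
universe u
open CategoryTheory CategoryTheory.Limits AlgebraicGeometry TopologicalSpace
open SDiv

namespace Groth.Agent.S1686

open Groth.Agent.Lib.Helper29.EffCart


/-- Let D be the closed subscheme of an effective Cartier divisor on a scheme S and d a point of D with
image s in S. If the local dimension of S at s is finite, then the local dimension of D at d is
strictly smaller. -/
theorem result (S : Scheme.{u}) (𝓘 : S.IdealSheafData) (h𝓘 : BlowUp.IsEffCartierIdeal 𝓘) (d : ↥𝓘.subscheme)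
    (hfin : FlatMor.localDim ↥S (𝓘.subschemeι d) ≠ ⊤) :
    FlatMor.localDim ↥𝓘.subscheme d < FlatMor.localDim ↥S (𝓘.subschemeι d) := by
  set s : S := 𝓘.subschemeι d with hs
  have key : FlatMor.localDim ↥𝓘.subscheme d + 1 ≤ FlatMor.localDim ↥S s := by
    unfold FlatMor.localDim
    refine le_iInf fun ⟨W₀, hsW₀⟩ => ?_
    obtain ⟨W, hsW, hle, t, ht, hI⟩ := exists_affine_principal_nzd_le 𝓘 h𝓘 s W₀ hsW₀
    calc (⨅ U : {U : TopologicalSpace.Opens ↥𝓘.subscheme // d ∈ U},
            topologicalKrullDim ↥(U.1 : Set 𝓘.subscheme)) + 1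
        ≤ topologicalKrullDim
            ↥((𝓘.subschemeι ⁻¹ᵁ W.1 : 𝓘.subscheme.Opens) : Set 𝓘.subscheme) + 1 := by
          gcongr
          exact iInf_le (fun U : {U : TopologicalSpace.Opens ↥𝓘.subscheme // d ∈ U} =>
            topologicalKrullDim ↥(U.1 : Set 𝓘.subscheme)) ⟨𝓘.subschemeι ⁻¹ᵁ W.1, hsW⟩
      _ ≤ topologicalKrullDim ↥(W.1 : Set S) := topologicalKrullDim_preimage_succ_le 𝓘 W t ht hI
      _ ≤ topologicalKrullDim ↥(W₀ : Set S) := topologicalKrullDim_mono_set hle
  have hnonneg : 0 ≤ FlatMor.localDim ↥𝓘.subscheme d := by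
    unfold FlatMor.localDim
    exact le_iInf fun ⟨U, hU⟩ => topologicalKrullDim_nonneg_of_mem hU
  generalize FlatMor.localDim ↥𝓘.subscheme d = x at key hnonneg
  generalize FlatMor.localDim ↥S s = y at key hfin
  induction x using WithBot.recBotCoe with
  | bot => simp at hnonneg
  | coe a =>
    induction y using WithBot.recBotCoe with
    | bot => simp at key
    | coe b =>
      have hb : b ≠ ⊤ := fun h => hfin (by rw [h]; rfl)
      have h1 : a + 1 ≤ b := by exact_mod_cast key
      have ha : a ≠ ⊤ := by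
        rintro rfl
        exact hb (top_le_iff.1 (by simpa using h1))
      exact_mod_cast (ENat.add_one_le_iff ha).1 h1

end Groth.Agent.S1686
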