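import Groth.Statements.S10794
import Groth.Agent.S1686
import Groth.Agent.Lib.Helper3.AlgSpLocalDim
import Groth.Agent.Lib.Helper3.AlgSpHasAtMor
import Groth.Agent.Lib.Helper3.AlgSpLocSrc2
-- import your own Groth.Agent.* helpers here

set_option autoImplicit false
universe u
open CategoryTheory CategoryTheory.Limits AlgebraicGeometry Topology TopologicalSpace
open AlgSp

namespace Groth.Agent.S10794

section H
namespace W48
open Groth.Agent.Lib.Helper3
set_option backward.isDefEq.respectTransparency.types false
variable {S : Scheme.{u}}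

theorem main (X D : AlgSp.Space S) (i : D ⟶ X)
    (hD : AlgSp.IsEffCartierSub i.hom) (x : AlgSp.Points D.obj) (d : WithBot ℕ∞)
    (hd : AlgSp.HasAt (fun U u => FlatMor.localDim ↥U u = d) X.obj (AlgSp.Points.map i.hom x))
    (hfin : d ≠ ⊤) :
    AlgSp.HasAt (fun V v => FlatMor.localDim ↥V v < d) D.obj x := by
  obtain ⟨-, V, φ, K, fstD, hφe, hφs, sqD, hK⟩ := hD
  obtain ⟨U₀, a₀, u₀, ha₀, hu₀, hdim⟩ := hd
  have hfe : RepWith @Etale fstD := MorphismProperty.of_isPullback sqD.flip hφe
  have hfs : RepWith @Surjective fstD := MorphismProperty.of_isPullback sqD.flip hφs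
  obtain ⟨z, hz⟩ := exists_ofPt_eq fstD hfs x
  have hv : Points.ofPt φ (K.subschemeι z) = Points.map i.hom x := by
    have := Points.ofPt_yon_map_comp (Over.homMk K.subschemeι rfl :
      Over.mk (K.subschemeι ≫ V.hom) ⟶ V) φ z
    rw [← sqD.w] at this
    rw [← hz, Points.map_ofPt]
    exact this.symm
  have heq : FlatMor.localDim ↥V.left (K.subschemeι z) = d := by
    rw [← hdim]
    exact localDim_eq_of_ofPt_eq φ a₀ hφe ha₀ _ _ (hv.trans hu₀.symm)
  have hlt := Groth.Agent.S1686.result V.left K hK z (by rw [heq]; exact hfin)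
  rw [heq] at hlt
  exact ⟨Over.mk (K.subschemeι ≫ V.hom), fstD, z, hfe, hz, hlt⟩

end W48
end H


/-- Let X be an algebraic space over a scheme S, D ⟶ X an effective Cartier divisor (one-chart sense)
and x a point of |D|. If the dimension of X at the image of x is d, in the sense that some etale
scheme chart of X has local dimension d at a point over it, and d is finite, then the dimension of D
at x is strictly smaller: some etale scheme chart of D has local dimension less than d at a point
over x. -/
theorem result {S : Scheme.{u}} (X D : AlgSp.Space S) (i : D ⟶ X)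
    (hD : AlgSp.IsEffCartierSub i.hom) (x : AlgSp.Points D.obj) (d : WithBot ℕ∞)
    (hd : AlgSp.HasAt (fun U u => FlatMor.localDim ↥U u = d) X.obj (AlgSp.Points.map i.hom x)) (hfin : d ≠ ⊤) :
    AlgSp.HasAt (fun V v => FlatMor.localDim ↥V v < d) D.obj x := by
  exact W48.main X D i hD x d hd hfin

end Groth.Agent.S10794
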