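import Groth.Statements.S10810
import Mathlib.Algebra.Category.ModuleCat.Sheaf.Limits
import Mathlib.RingTheory.Ideal.MinimalPrime.Basic
-- import your own Groth.Agent.* helpers here

set_option autoImplicit false
universe u
open CategoryTheory CategoryTheory.Limits AlgebraicGeometry Topology TopologicalSpace
open AlgSp

namespace Groth.Agent.S10810

section H
namespace W52
open Opposite
set_option backward.isDefEq.respectTransparency.types false

theorem exists_primeAtPt_eq (U : Scheme.{u}) [IsAffine U] (p : Ideal Γ(U, ⊤)) [hp : p.IsPrime] :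
    ∃ u : U, primeAtPt U u = p := by
  have hU := isAffineOpen_top U
  let u' : (⊤ : U.Opens) := hU.isoSpec.inv ⟨p, hp⟩
  have h1 : hU.primeIdealOf u' = ⟨p, hp⟩ := by
    have h : (hU.isoSpec.inv ≫ hU.isoSpec.hom) ⟨p, hp⟩ = ⟨p, hp⟩ := by rw [Iso.inv_hom_id]; rfl
    exact h
  have h2 := hU.primeIdealOf_eq_map_closedPoint u'
  refine ⟨u'.1, ?_⟩
  have h3 := congrArg PrimeSpectrum.asIdeal (h2.symm.trans h1)
  exact h3

variable {S : Scheme.{u}}

theorem subsingleton_of_affine (X : Sp S) (M : ModEt X) (h : WeakAssEt M = ∅) (E : EtOver X)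
    (hE : IsAffine E.obj.left.left) : Subsingleton (sectModEt M E) := by
  refine ⟨fun a b => ?_⟩
  suffices hz : ∀ s : sectModEt M E, s = 0 by rw [hz a, hz b]
  intro s
  by_contra hs
  have hne : annSect s ≠ ⊤ := by
    intro htop
    have h1 : (1 : Γ(E.obj.left.left, ⊤)) ∈ annSect s := htop ▸ Submodule.mem_top
    rw [mem_annSect_iff, map_one, one_smul] at h1
    exact hs h1
  obtain ⟨⟨p, hp⟩⟩ := Ideal.nonempty_minimalPrimes hne
  have hpp : p.IsPrime := hp.1.1
  obtain ⟨u, rfl⟩ := exists_primeAtPt_eq E.obj.left.left p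
  have : Points.ofPt E.obj.hom u ∈ WeakAssEt M := ⟨E, hE, u, rfl, s, hp⟩
  rw [h] at this
  exact this

/-- the object of the site given by an open of the scheme of an object -/
noncomputable abbrev openObj {X : Sp S} (E : EtOver X) (U : E.obj.left.left.Opens) : EtOver X :=
  EtOver.mk ((yon S).map (Over.homMk U.ι rfl : Over.mk (U.ι ≫ E.obj.left.hom) ⟶ E.obj.left) ≫
    E.obj.hom)
    ((RepWith @Etale).comp_mem _ _
      ((repWith_yon_map_iff _ _).2 (show Etale U.ι from inferInstance)) E.property)

noncomputable abbrev openHom {X : Sp S} (E : EtOver X) (U : E.obj.left.left.Opens) :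
    openObj E U ⟶ E :=
  EtOver.homMk (Over.homMk U.ι rfl : Over.mk (U.ι ≫ E.obj.left.hom) ⟶ E.obj.left) rfl

theorem subsingleton_sections (X : Sp S) (M : ModEt X) (h : WeakAssEt M = ∅) (E : EtOver X) :
    Subsingleton (sectModEt M E) := by
  refine ⟨fun a b => ?_⟩
  -- affine open cover
  have hcov : ∀ x : E.obj.left.left, ∃ U : E.obj.left.left.Opens, IsAffineOpen U ∧ x ∈ U := by
    intro x
    obtain ⟨_, ⟨U, hU, rfl⟩, hxU, -⟩ :=
      E.obj.left.left.isBasis_affineOpens.exists_subset_of_mem_open (Set.mem_univ x) isOpen_univ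
    exact ⟨U, hU, hxU⟩
  choose Ux hUa hUx using hcov
  have hmem : Sieve.ofArrows (fun x => openObj E (Ux x)) (fun x => openHom E (Ux x)) ∈ etTop X E := by
    apply ofArrows_mem_etTop
    intro x
    refine ⟨x, ?_⟩
    change x ∈ Set.range (Ux x).ι
    rw [Scheme.Opens.range_ι]
    exact hUx x
  have hsh := (Presheaf.isSheaf_iff_isSheaf_forget (etTop X) M.val.presheaf
    (CategoryTheory.forget AddCommGrpCat)).1 M.isSheaf
  have hsep := ((isSheaf_iff_isSheaf_of_type (etTop X) _).1 hsh).isSeparated _ hmem
  apply hsep.ext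
  rintro Y f ⟨Z, g, _, ⟨x⟩, rfl⟩
  have hss : Subsingleton (sectModEt M (openObj E (Ux x))) :=
    subsingleton_of_affine X M h _ (hUa x)
  have e1 : ∀ c : sectModEt M E, (M.val.presheaf ⋙ CategoryTheory.forget AddCommGrpCat).map
      (g ≫ openHom E (Ux x)).op c =
      (M.val.presheaf ⋙ CategoryTheory.forget AddCommGrpCat).map g.op
        ((M.val.presheaf ⋙ CategoryTheory.forget AddCommGrpCat).map (openHom E (Ux x)).op c) := by
    intro c
    rw [op_comp, Functor.map_comp]
    rfl
  rw [e1 a, e1 b]
  congr 1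
  exact hss.elim _ _

theorem main (X : AlgSp.Space S) (M : AlgSp.ModEt X.obj) :
    IsZero M ↔ AlgSp.WeakAssEt M = ∅ := by
  constructor
  · intro hM
    rw [Set.eq_empty_iff_forall_notMem]
    rintro x ⟨E, hE, u, -, s, hs⟩
    have hz : IsZero ((SheafOfModules.evaluation (OEtRing X.obj) (op E)).obj M) :=
      Functor.map_isZero _ hM
    have hss : Subsingleton (sectModEt M E) := ModuleCat.subsingleton_of_isZero hz
    have htop : annSect s = ⊤ := by
      rw [Ideal.eq_top_iff_one, mem_annSect_iff]
      exact hss.elim _ _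
    rw [htop, Ideal.minimalPrimes_top] at hs
    exact hs
  · intro h
    rw [IsZero.iff_id_eq_zero]
    apply SheafOfModules.hom_ext
    apply PresheafOfModules.hom_ext
    intro E
    have hss : Subsingleton (sectModEt M E.unop) := subsingleton_sections X.obj M h E.unop
    apply ModuleCat.hom_ext
    apply LinearMap.ext
    intro s
    exact hss.elim _ _

end W52
end H


/-- Let X be an algebraic space over a scheme S and F a quasi-coherent O_X-module on the small etale
site of X. Then F = 0 if and only if the set of weakly associated points of F is empty. -/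
theorem result {S : Scheme.{u}} (X : AlgSp.Space S)
    (M : AlgSp.ModEt X.obj) [M.IsQuasicoherent] :
    IsZero M ↔ AlgSp.WeakAssEt M = ∅ := by
  exact W52.main X M

end Groth.Agent.S10810
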