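import Groth.Statements.S10796
import Groth.Agent.S10795
import Groth.Agent.S10810
import Groth.Agent.Lib.Helper15.AlgSpIdealChart
import Groth.Agent.Lib.Helper29.IdealComap
import Groth.Agent.Lib.Helper3.AlgSpLocP3
import Groth.Agent.Lib.Helper3.AlgSpLocSrc2
-- import your own Groth.Agent.* helpers here

set_option autoImplicit false
universe u
open CategoryTheory CategoryTheory.Limits AlgebraicGeometry Topology TopologicalSpace
open AlgSp

namespace Groth.Agent.S10796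

section H
namespace W53
open Opposite Groth.Agent.Lib.Helper3 Groth.Agent.Lib.Helper15.IdealChart
set_option backward.isDefEq.respectTransparency.types false

/-- the annihilator of an element of a ring, as an ideal -/
def annR {R : Type*} [CommRing R] (s : R) : Ideal R :=
  LinearMap.ker (LinearMap.toSpanSingleton R R s)

theorem mem_annR {R : Type*} [CommRing R] (s a : R) : a ∈ annR s ↔ a * s = 0 := by
  unfold annR
  rw [LinearMap.mem_ker, LinearMap.toSpanSingleton_apply, smul_eq_mul]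

theorem nzd_of_avoid {T V : Scheme.{u}} [IsAffine T] (h₀ : T ⟶ V) (K : V.IdealSheafData)
    (V₀ : V.affineOpens) (e : (⊤ : T.Opens) ≤ h₀ ⁻¹ᵁ V₀.1) (t : Γ(V, V₀.1))
    (hK : K.ideal V₀ = Ideal.span {t})
    (hyp : ∀ (s : Γ(T, ⊤)) (u : T), primeAtPt T u ∈ (annR s).minimalPrimes →
        h₀ u ∉ K.support) :
    (h₀.appLE V₀.1 ⊤ e).hom t ∈ nonZeroDivisors Γ(T, ⊤) := by
  rw [mem_nonZeroDivisors_iff_right]
  intro s hs0
  by_contra hsne
  have hmem : (h₀.appLE V₀.1 ⊤ e).hom t ∈ annR s := by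
    rw [mem_annR, mul_comm]
    exact hs0
  have hne : annR s ≠ ⊤ := by
    intro htop
    have h1 : (1 : Γ(T, ⊤)) ∈ annR s := htop ▸ Submodule.mem_top
    rw [mem_annR, one_mul] at h1
    exact hsne h1
  obtain ⟨⟨p, hp⟩⟩ := Ideal.nonempty_minimalPrimes hne
  have hpp : p.IsPrime := hp.1.1
  obtain ⟨u, rfl⟩ := Groth.Agent.S10810.W52.exists_primeAtPt_eq T p
  have hnot := hyp s u hp
  have htp : (h₀.appLE V₀.1 ⊤ e).hom t ∈ primeAtPt T u := hp.1.2 hmem
  apply hnot
  have hu : h₀ u ∈ V₀.1 := e (Set.mem_univ u)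
  rw [Scheme.IdealSheafData.mem_support_iff_of_mem hu, hK, Scheme.zeroLocus_span,
    Scheme.mem_zeroLocus_iff]
  intro f hf
  rw [Set.mem_singleton_iff] at hf
  subst hf
  rw [Scheme.mem_basicOpen _ _ _ hu]
  intro hunit
  have h2 : IsUnit (h₀.stalkMap u (V.presheaf.germ V₀.1 (h₀ u) hu f)) := hunit.map _
  rw [Scheme.Hom.germ_stalkMap_apply] at h2
  have h3 : T.presheaf.germ ⊤ u trivial ((h₀.appLE V₀.1 ⊤ e).hom f) =
      T.presheaf.germ (h₀ ⁻¹ᵁ V₀.1) u hu (h₀.app V₀.1 f) := by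
    change T.presheaf.germ ⊤ u trivial (T.presheaf.map (homOfLE e).op (h₀.app V₀.1 f)) = _
    exact TopCat.Presheaf.germ_res_apply _ _ _ _ _
  rw [← h3] at h2
  exact (IsLocalRing.mem_maximalIdeal _).1 htp h2

theorem isEffCartierIdeal_comap_of_avoid {U V : Scheme.{u}} (h : U ⟶ V) (K : V.IdealSheafData)
    (hK : BlowUp.IsEffCartierIdeal K)
    (hyp : ∀ (U₀ : U.Opens) (_ : IsAffineOpen U₀) (s : Γ(U₀.toScheme, ⊤)) (u : U₀.toScheme),
      primeAtPt U₀.toScheme u ∈ (annR s).minimalPrimes → h (U₀.ι u) ∉ K.support) :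
    BlowUp.IsEffCartierIdeal (K.comap h) := by
  intro u₀
  obtain ⟨V₀, hV₀, t, -, hKt⟩ := hK (h u₀)
  obtain ⟨_, ⟨U₀o, hU₀a, rfl⟩, hu₀, hle⟩ :=
    U.isBasis_affineOpens.exists_subset_of_mem_open (show u₀ ∈ (h ⁻¹ᵁ V₀.1 : Set U) from hV₀)
      (h ⁻¹ᵁ V₀.1).isOpen
  let U₀ : U.affineOpens := ⟨U₀o, hU₀a⟩
  have e : U₀.1 ≤ h ⁻¹ᵁ V₀.1 := hle
  have hJ : (K.comap h).ideal U₀ = Ideal.span {(h.appLE V₀.1 U₀.1 e).hom t} := by
    rw [Groth.Agent.Lib.Helper29.EffCart.ideal_comap_eq_map K h V₀ U₀ e, hKt, Ideal.map_span,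
      Set.image_singleton]
  refine ⟨U₀, hu₀, (h.appLE V₀.1 U₀.1 e).hom t, ?_, hJ⟩
  have hT : IsAffine U₀.1.toScheme := hU₀a
  have e₀ : (⊤ : U₀.1.toScheme.Opens) ≤ (U₀.1.ι ≫ h) ⁻¹ᵁ V₀.1 := by
    intro x _
    exact e x.2
  have hn := nzd_of_avoid (U₀.1.ι ≫ h) K V₀ e₀ t hKt (fun s u hp => hyp U₀.1 hU₀a s u hp)
  have hcomp : (U₀.1.ι ≫ h).appLE V₀.1 ⊤ e₀ =
      h.appLE V₀.1 U₀.1 e ≫ U₀.1.ι.appLE U₀.1 ⊤ U₀.1.ι_preimage_self.ge := by
    rw [Scheme.Hom.appLE_comp_appLE]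
  rw [hcomp, CommRingCat.hom_comp, RingHom.comp_apply] at hn
  have hinj : Function.Injective (U₀.1.ι.appLE U₀.1 ⊤ U₀.1.ι_preimage_self.ge).hom :=
    (ConcreteCategory.bijective_of_isIso (U₀.1.ι.appLE U₀.1 ⊤ U₀.1.ι_preimage_self.ge)).1
  exact mem_nonZeroDivisors_of_injective hinj hn

variable {S : Scheme.{u}}

theorem annSect_unit {X : Sp S} (E : EtOver X) (s : Γ(E.obj.left.left, ⊤)) :
    annSect (M := unitModEt X) (E := E) (upΓ E s) = annR s := by
  ext a
  rw [mem_annSect_iff, mem_annR]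
  have hinj : Function.Injective (upΓ E) := ULift.ringEquiv.symm.injective
  constructor
  · intro h
    apply hinj
    rw [map_mul, map_zero]
    exact h
  · intro h
    have := congrArg (upΓ E) h
    rw [map_mul, map_zero] at this
    exact this

theorem main (X Y D P : AlgSp.Space S) (f : X ⟶ Y)
    (i : D ⟶ Y) (hD : AlgSp.IsEffCartierSub i.hom)
    (h : ∀ x ∈ AlgSp.WeakAssEt (AlgSp.unitModEt X.obj),
      AlgSp.Points.map f.hom x ∉ Set.range (AlgSp.Points.map i.hom))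
    (fst : P ⟶ D) (snd : P ⟶ X) (hP : IsPullback fst.hom snd.hom i.hom f.hom) :
    AlgSp.IsEffCartierSub snd.hom := by
  obtain ⟨hci, V, φ, K, fstD, hφe, hφs, sqD, hK⟩ := hD
  obtain ⟨U, u, hh, hue, hus, hae, has, hhh, hw⟩ :=
    exists_chart_over X.property Y.property f.hom φ hφe
  have hJ : BlowUp.IsEffCartierIdeal (K.comap hh.left) := by
    apply isEffCartierIdeal_comap_of_avoid hh.left K hK
    intro U₀ hU₀ s pt hp hsupp
    have hx : Points.ofPt (chartObj _ hae U₀).obj.hom pt ∈ WeakAssEt (unitModEt X.obj) :=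
      ⟨chartObj _ hae U₀, hU₀, pt, rfl, upΓ _ s, by rw [annSect_unit]; exact hp⟩
    apply h _ hx
    have hsupp' : hh.left (U₀.ι pt) ∈ Set.range K.subschemeι := by
      rw [Scheme.IdealSheafData.range_subschemeι]; exact hsupp
    obtain ⟨z, hz⟩ := hsupp'
    refine ⟨Points.ofPt fstD z, ?_⟩
    rw [Points.map_ofPt, Points.map_ofPt, sqD.w, Points.ofPt_yon_map_comp]
    change _ = Points.ofPt (((yon S).map (Over.homMk U₀.ι rfl : Over.mk (U₀.ι ≫ U.hom) ⟶ U) ≫
      (u ≫ pullback.fst f.hom φ)) ≫ f.hom) pt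
    rw [Category.assoc, hw, ← Category.assoc, ← Functor.map_comp, Points.ofPt_yon_map_comp]
    congr 1
  obtain ⟨mO, sqY⟩ := Groth.Agent.S10795.W43.isPullback_comap_yon hh K
  have big := sqY.paste_horiz sqD
  rw [← hw] at big
  let fst' := hP.lift ((yon S).map mO ≫ fstD)
    ((yon S).map (Over.homMk (K.comap hh.left).subschemeι rfl :
      Over.mk ((K.comap hh.left).subschemeι ≫ U.hom) ⟶ U) ≫ (u ≫ pullback.fst f.hom φ))
    (by simpa only [Category.assoc] using big.w)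
  have e1 : fst' ≫ fst.hom = (yon S).map mO ≫ fstD := hP.lift_fst _ _ _
  have e2 : fst' ≫ snd.hom = (yon S).map (Over.homMk (K.comap hh.left).subschemeι rfl :
      Over.mk ((K.comap hh.left).subschemeι ≫ U.hom) ⟶ U) ≫ (u ≫ pullback.fst f.hom φ) :=
    hP.lift_snd _ _ _
  rw [← e1] at big
  have sq' := IsPullback.of_right big e2 hP
  exact ⟨MorphismProperty.of_isPullback hP hci, U, u ≫ pullback.fst f.hom φ, K.comap hh.left, fst',
    hae, has hφs, sq', hJ⟩

end W53
end H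


/-- For algebraic spaces X and Y over a scheme S, a morphism f : X ⟶ Y and an effective Cartier divisor
D ⟶ Y (one-chart sense), assume that no weakly associated point of X (weakly associated point of the
structure sheaf O_X on the small etale site of X) is mapped into |D|. Then the inverse image of D
under f is an effective Cartier divisor on X: for every pullback square of D ⟶ Y along f, the
projection to X is an effective Cartier divisor (one-chart sense). -/
theorem result {S : Scheme.{u}} (X Y D P : AlgSp.Space S) (f : X ⟶ Y)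
    (i : D ⟶ Y) (hD : AlgSp.IsEffCartierSub i.hom) [(AlgSp.unitModEt X.obj).IsQuasicoherent]
    (h : ∀ x ∈ AlgSp.WeakAssEt (AlgSp.unitModEt X.obj),
      AlgSp.Points.map f.hom x ∉ Set.range (AlgSp.Points.map i.hom))
    (fst : P ⟶ D) (snd : P ⟶ X) (hP : IsPullback fst.hom snd.hom i.hom f.hom) :
    AlgSp.IsEffCartierSub snd.hom := by
  exact W53.main X Y D P f i hD h fst snd hP

end Groth.Agent.S10796
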