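import Groth.Statements.S1662
import Groth.Agent.Lib.Helper29.RelEffCart
import Groth.Agent.Lib.Helper29.IdealComap

set_option autoImplicit false
universe u
open CategoryTheory CategoryTheory.Limits AlgebraicGeometry
open Divisors

namespace Groth.Agent.S1662

open Groth.Agent.Lib.Helper29.EffCart Groth.Agent.Lib.Helper29.FlatExt


/-- Let f : X → S, D an effective Cartier divisor on X such that D → S is flat, and g : S' → S any
morphism. Then the inverse image of D in X ×_S S' is an effective Cartier divisor. -/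
theorem result {X S S' : Scheme.{u}} (f : X ⟶ S) (D : X.IdealSheafData) (hD : BlowUp.IsEffCartierIdeal D)
    [Flat (D.subschemeι ≫ f)] (g : S' ⟶ S) :
    BlowUp.IsEffCartierIdeal (D.comap (pullback.fst f g)) := by
  intro x'
  have H : IsPullback (pullback.fst f g) (pullback.snd f g) f g := IsPullback.of_hasPullback f g
  have hcond : f (pullback.fst f g x') = g (pullback.snd f g x') := by
    rw [← Scheme.Hom.comp_apply, ← Scheme.Hom.comp_apply, pullback.condition]
  obtain ⟨_, ⟨V, hV, rfl⟩, hsV, -⟩ :=
    S.isBasis_affineOpens.exists_subset_of_mem_open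
      (Set.mem_univ (f (pullback.fst f g x'))) isOpen_univ
  obtain ⟨U, hxU, hUle, t, ht, hI⟩ :=
    exists_affine_principal_nzd_le D hD (pullback.fst f g x') (f ⁻¹ᵁ V) hsV
  obtain ⟨_, ⟨V', hV', rfl⟩, hsV', hV'le⟩ :=
    S'.isBasis_affineOpens.exists_subset_of_mem_open
      (show pullback.snd f g x' ∈ (g ⁻¹ᵁ V : S'.Opens) from by
        change g (pullback.snd f g x') ∈ V
        rw [← hcond]; exact hsV) (g ⁻¹ᵁ V).2
  set W : (pullback f g).Opens := pullback.fst f g ⁻¹ᵁ U.1 ⊓ pullback.snd f g ⁻¹ᵁ V' with hW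
  have hiso := isIso_pushoutSection_of_isAffineOpen H (UT := V') (US := V) (UX := U.1)
    hV'le hUle hW hV hV' U.2
  have : IsAffine (V : Scheme) := hV
  have : IsAffine (V' : Scheme) := hV'
  have : IsAffine (U.1 : Scheme) := U.2
  have hWaff : IsAffineOpen W :=
    .of_isIso (Scheme.Hom.isPullback_resLE H hV'le hUle hW).isoPullback.hom
  have hpush := (isIso_pushoutSection_iff H hV'le hUle hW).1 hiso
  refine ⟨⟨W, hWaff⟩, ⟨hxU, hsV'⟩, (((pullback.fst f g).appLE U.1 W inf_le_left)).hom t, ?_, ?_⟩
  · exact map_mem_nonZeroDivisors_of_isPushout hpush t ht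
      (by
        have := flat_quotient_of_flat_subschemeι_comp f D inferInstance ⟨V, hV⟩ U hUle
        rw [hI] at this
        exact this)
  · rw [ideal_comap_eq_map D (pullback.fst f g) U ⟨W, hWaff⟩ inf_le_left, hI, Ideal.map_span,
      Set.image_singleton]

end Groth.Agent.S1662
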