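import Groth.Statements.S10797
import Groth.Agent.S10795
import Groth.Agent.S1662
import Groth.Agent.Lib.Helper3.AlgSpLocP3
import Groth.Agent.Lib.Helper3.AlgSpFibre
import Groth.Agent.Lib.Helper29.BlowUpUP
-- import your own Groth.Agent.* helpers here

set_option autoImplicit false
universe u
open CategoryTheory CategoryTheory.Limits AlgebraicGeometry Topology TopologicalSpace
open AlgSp

namespace Groth.Agent.S10797

section H
namespace W44
open Groth.Agent.Lib.Helper3
set_option backward.isDefEq.respectTransparency.types false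
variable {S : Scheme.{u}}

theorem main (X Y D Y' X' D' : AlgSp.Space S)
    (f : X ⟶ Y) (i : D ⟶ X) (hD : AlgSp.IsEffCartierSub i.hom) (hflat : AlgSp.LocP @Flat (i ≫ f).hom)
    (g : Y' ⟶ Y) (g' : X' ⟶ X) (f' : X' ⟶ Y') (hX' : IsPullback g'.hom f'.hom f.hom g.hom)
    (k : D' ⟶ D) (i' : D' ⟶ X') (hD' : IsPullback k.hom i'.hom i.hom g'.hom) :
    AlgSp.IsEffCartierSub i'.hom := by
  obtain ⟨hci, V, φ, I, fstD, hφe, hφs, sqD, hI⟩ := hD
  obtain ⟨W, b, hbe, hbs⟩ := Y.property.atlas
  obtain ⟨V₁, u, h, hue, hus, hψe, hψs, hh, hw⟩ :=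
    exists_chart_over (IsAlgSpace.yon_obj V) Y.property (φ ≫ f.hom) b hbe
  have hψs' := hψs hbs
  let p₀ : V₁ ⟶ V := (yon S).preimage (u ≫ pullback.fst (φ ≫ f.hom) b)
  have hp₀ : (yon S).map p₀ = u ≫ pullback.fst (φ ≫ f.hom) b := (yon S).map_preimage _
  rw [← hp₀] at hψe hψs' hw
  have hp₀et : Etale p₀.left := (repWith_yon_map_iff _ _).1 hψe
  have hp₀fl : Flat p₀.left := inferInstance
  have hI₁ : BlowUp.IsEffCartierIdeal (I.comap p₀.left) :=
    Groth.Agent.Lib.Helper29.EffCart.isEffCartierIdeal_comap_of_flat p₀.left I hI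
  obtain ⟨mO, sqV⟩ := Groth.Agent.S10795.W43.isPullback_comap_yon p₀ I
  have hψet : RepWith @Etale ((yon S).map p₀ ≫ φ) := (RepWith @Etale).comp_mem _ _ hψe hφe
  have hψsu : RepWith @Surjective ((yon S).map p₀ ≫ φ) :=
    (RepWith @Surjective).comp_mem _ _ hψs' hφs
  have big1 := sqV.paste_horiz sqD
  have hZfl : Flat ((I.comap p₀.left).subschemeι ≫ h.left) := by
    have hae : RepWith @Etale ((yon S).map mO ≫ fstD) :=
      (RepWith @Etale).comp_mem _ _ (MorphismProperty.of_isPullback sqV.flip hψe)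
        (MorphismProperty.of_isPullback sqD.flip hφe)
    have := hflat ((yon S).map mO ≫ fstD) b
      ((Over.homMk (I.comap p₀.left).subschemeι rfl :
        Over.mk ((I.comap p₀.left).subschemeι ≫ V₁.hom) ⟶ V₁) ≫ h) hae hbe (by
        have e := big1.w
        change ((yon S).map mO ≫ fstD) ≫ i.hom ≫ f.hom = _
        rw [← Category.assoc, e, Functor.map_comp]
        simp only [Category.assoc]
        rw [hw])
    exact this
  -- the Y' side
  have hYW : IsAlgSpace (pullback g.hom b) :=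
    isAlgSpace_of_isPullback' Y.property Y'.property (IsAlgSpace.yon_obj W)
      (IsPullback.of_hasPullback g.hom b)
  obtain ⟨W', c, hce, hcs⟩ := hYW.atlas
  let g₀ : W' ⟶ W := (yon S).preimage (c ≫ pullback.snd g.hom b)
  have hg₀ : (yon S).map g₀ = c ≫ pullback.snd g.hom b := (yon S).map_preimage _
  let Q : Over S := Over.mk (pullback.fst h.left g₀.left ≫ V₁.hom)
  let fstQ : Q ⟶ V₁ := Over.homMk (pullback.fst h.left g₀.left) rfl
  let sndQ : Q ⟶ W' := Over.homMk (pullback.snd h.left g₀.left) (by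
    change pullback.snd h.left g₀.left ≫ W'.hom = pullback.fst h.left g₀.left ≫ V₁.hom
    rw [← Over.w g₀, ← Over.w h, ← Category.assoc, ← Category.assoc, pullback.condition])
  have commQ : fstQ ≫ h = sndQ ≫ g₀ := by
    apply Over.OverMorphism.ext
    exact pullback.condition
  have sqQ : IsPullback fstQ sndQ h g₀ :=
    IsPullback.of_map (Over.forget S) commQ (IsPullback.of_hasPullback h.left g₀.left)
  have sqQy := sqQ.map (yon S)
  have : Flat ((I.comap p₀.left).subschemeι ≫ h.left) := hZfl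
  have hJ : BlowUp.IsEffCartierIdeal ((I.comap p₀.left).comap (pullback.fst h.left g₀.left)) :=
    Groth.Agent.S1662.result h.left (I.comap p₀.left) hI₁ g₀.left
  obtain ⟨mQ, sqJ⟩ := Groth.Agent.S10795.W43.isPullback_comap_yon fstQ (I.comap p₀.left)
  -- R = h_{V₁} ×_X X'
  have condR := pullback.condition (f := (yon S).map p₀ ≫ φ) (g := g'.hom)
  let r : pullback ((yon S).map p₀ ≫ φ) g'.hom ⟶ pullback g.hom b :=
    pullback.lift (pullback.snd ((yon S).map p₀ ≫ φ) g'.hom ≫ f'.hom)
      (pullback.fst ((yon S).map p₀ ≫ φ) g'.hom ≫ (yon S).map h) (by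
        rw [Category.assoc, Category.assoc, ← hX'.w, ← hw, ← Category.assoc, ← condR]
        simp only [Category.assoc])
  have hr1 : r ≫ pullback.fst g.hom b = pullback.snd ((yon S).map p₀ ≫ φ) g'.hom ≫ f'.hom :=
    pullback.lift_fst _ _ _
  have hr2 : r ≫ pullback.snd g.hom b =
      pullback.fst ((yon S).map p₀ ≫ φ) g'.hom ≫ (yon S).map h := pullback.lift_snd _ _ _
  have bigR : IsPullback (pullback.snd ((yon S).map p₀ ≫ φ) g'.hom ≫ f'.hom)
      (pullback.fst ((yon S).map p₀ ≫ φ) g'.hom) g.hom (((yon S).map p₀ ≫ φ) ≫ f.hom) :=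
    (IsPullback.of_hasPullback ((yon S).map p₀ ≫ φ) g'.hom).flip.paste_horiz hX'.flip
  have sqR : IsPullback r (pullback.fst ((yon S).map p₀ ≫ φ) g'.hom) (pullback.snd g.hom b)
      ((yon S).map h) := by
    have hw' : ((yon S).map p₀ ≫ φ) ≫ f.hom = (yon S).map h ≫ b := by
      rw [Category.assoc]; exact hw
    rw [hw', ← hr1] at bigR
    exact IsPullback.of_right bigR hr2 (IsPullback.of_hasPullback g.hom b)
  let c'' : (yon S).obj Q ⟶ pullback ((yon S).map p₀ ≫ φ) g'.hom :=
    sqR.lift ((yon S).map sndQ ≫ c) ((yon S).map fstQ) (by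
      rw [Category.assoc, ← hg₀]; exact sqQy.w.symm)
  have hc1 : c'' ≫ r = (yon S).map sndQ ≫ c := sqR.lift_fst _ _ _
  have hc2 : c'' ≫ pullback.fst ((yon S).map p₀ ≫ φ) g'.hom = (yon S).map fstQ :=
    sqR.lift_snd _ _ _
  have sqC : IsPullback c'' ((yon S).map sndQ) r c := by
    have bigC := sqQy
    rw [hg₀, ← hc2] at bigC
    exact IsPullback.of_right bigC hc1 sqR.flip
  have hc''e : RepWith @Etale c'' := MorphismProperty.of_isPullback sqC.flip hce
  have hc''s : RepWith @Surjective c'' := MorphismProperty.of_isPullback sqC.flip hcs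
  have hsnde : RepWith @Etale (pullback.snd ((yon S).map p₀ ≫ φ) g'.hom) :=
    MorphismProperty.of_isPullback (IsPullback.of_hasPullback ((yon S).map p₀ ≫ φ) g'.hom) hψet
  have hsnds : RepWith @Surjective (pullback.snd ((yon S).map p₀ ≫ φ) g'.hom) :=
    MorphismProperty.of_isPullback (IsPullback.of_hasPullback ((yon S).map p₀ ≫ φ) g'.hom) hψsu
  have hc'e : RepWith @Etale (c'' ≫ pullback.snd ((yon S).map p₀ ≫ φ) g'.hom) :=
    (RepWith @Etale).comp_mem _ _ hc''e hsnde
  have hc's : RepWith @Surjective (c'' ≫ pullback.snd ((yon S).map p₀ ≫ φ) g'.hom) :=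
    (RepWith @Surjective).comp_mem _ _ hc''s hsnds
  have hcg : (c'' ≫ pullback.snd ((yon S).map p₀ ≫ φ) g'.hom) ≫ g'.hom =
      (yon S).map fstQ ≫ ((yon S).map p₀ ≫ φ) := by
    rw [Category.assoc, ← condR, ← Category.assoc, hc2]
  have big := sqJ.paste_horiz big1
  rw [← hcg] at big
  let fst' := hD'.lift ((yon S).map mQ ≫ (yon S).map mO ≫ fstD)
    ((yon S).map (Over.homMk ((I.comap p₀.left).comap fstQ.left).subschemeι rfl :
      Over.mk (((I.comap p₀.left).comap fstQ.left).subschemeι ≫ Q.hom) ⟶ Q) ≫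
      (c'' ≫ pullback.snd ((yon S).map p₀ ≫ φ) g'.hom))
    (by simpa only [Category.assoc] using big.w)
  have e1 : fst' ≫ k.hom = (yon S).map mQ ≫ (yon S).map mO ≫ fstD := hD'.lift_fst _ _ _
  have e2 : fst' ≫ i'.hom = (yon S).map (Over.homMk
      ((I.comap p₀.left).comap fstQ.left).subschemeι rfl :
      Over.mk (((I.comap p₀.left).comap fstQ.left).subschemeι ≫ Q.hom) ⟶ Q) ≫
      (c'' ≫ pullback.snd ((yon S).map p₀ ≫ φ) g'.hom) := hD'.lift_snd _ _ _
  rw [← e1] at big
  have sq' := IsPullback.of_right big e2 hD'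
  exact ⟨MorphismProperty.of_isPullback hD' hci, Q,
    c'' ≫ pullback.snd ((yon S).map p₀ ≫ φ) g'.hom, (I.comap p₀.left).comap fstQ.left, fst',
    hc'e, hc's, sq', hJ⟩

end W44
end H


/-- Let f : X ⟶ Y be a morphism of algebraic spaces over a scheme S and D ⟶ X an effective Cartier
divisor (one-chart sense) such that the composite D ⟶ Y is flat. Then for every morphism g : Y' ⟶ Y
and every pullback square exhibiting X' as Y' ×_Y X with projection g' : X' ⟶ X, the inverse image
of D under g' (the projection to X' from any pullback of D ⟶ X along g') is an effective Cartier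
divisor on X'. (The published statement takes g to be a morphism from a scheme Y'; this row allows
Y' to be an algebraic space, to which the same etale-local reduction to schemes applies.) -/
theorem result {S : Scheme.{u}} (X Y D Y' X' D' : AlgSp.Space S)
    (f : X ⟶ Y) (i : D ⟶ X) (hD : AlgSp.IsEffCartierSub i.hom) (hflat : AlgSp.LocP @Flat (i ≫ f).hom)
    (g : Y' ⟶ Y) (g' : X' ⟶ X) (f' : X' ⟶ Y') (hX' : IsPullback g'.hom f'.hom f.hom g.hom)
    (k : D' ⟶ D) (i' : D' ⟶ X') (hD' : IsPullback k.hom i'.hom i.hom g'.hom) :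
    AlgSp.IsEffCartierSub i'.hom := by
  exact W44.main X Y D Y' X' D' f i hD hflat g g' f' hX' k i' hD'

end Groth.Agent.S10797
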