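import Groth.Statements.S10798
import Groth.Agent.S10795
import Groth.Agent.S1685
import Groth.Agent.Lib.Helper15.EtaleDepth
import Groth.Agent.Lib.Helper3.EtaleDim
import Groth.Agent.Lib.Helper29.BlowUpUP
-- import your own Groth.Agent.* helpers here

set_option autoImplicit false
universe u
open CategoryTheory CategoryTheory.Limits AlgebraicGeometry Topology TopologicalSpace
open AlgSp

namespace Groth.Agent.S10798

section H
namespace W49
open Groth.Agent.Lib.Helper3 Groth.Agent.Lib.Helper15.EtaleDepth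
set_option backward.isDefEq.respectTransparency.types false
variable {S : Scheme.{u}}

/-- common refinement of a chart of `X` with an effective Cartier chart: the chart of `D` over it -/
theorem exists_refined_chart (X D : AlgSp.Space S) (i : D ⟶ X) (hD : AlgSp.IsEffCartierSub i.hom)
    {U₀ : Over S} (p : (yon S).obj U₀ ⟶ X.obj) (hpe : RepWith @Etale p)
    (hps : RepWith @Surjective p) :
    ∃ (W : Over S) (π : W ⟶ U₀) (K' : W.left.IdealSheafData)
      (c : (yon S).obj (Over.mk (K'.subschemeι ≫ W.hom)) ⟶ D.obj),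
      Etale π.left ∧ BlowUp.IsEffCartierIdeal K' ∧ RepWith @Etale c ∧ RepWith @Surjective c := by
  obtain ⟨-, V, φ, K, fstD, hφe, hφs, sqD, hK⟩ := hD
  have hrep : Representable p := hpe.1
  let W : Over S := hrep.pullback φ
  let πV : W ⟶ V := hrep.snd φ
  let qU : (yon S).obj W ⟶ (yon S).obj U₀ := hrep.fst φ
  have sqW : IsPullback qU ((yon S).map πV) p φ := hrep.isPullback φ
  let πU : W ⟶ U₀ := (yon S).preimage qU
  have hπU : (yon S).map πU = qU := (yon S).map_preimage qU
  have hπVe : RepWith @Etale ((yon S).map πV) := MorphismProperty.of_isPullback sqW hpe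
  have hπVs : RepWith @Surjective ((yon S).map πV) := MorphismProperty.of_isPullback sqW hps
  have hπUe : RepWith @Etale ((yon S).map πU) := by
    rw [hπU]; exact MorphismProperty.of_isPullback sqW.flip hφe
  have hπVet : Etale πV.left := (repWith_yon_map_iff _ _).1 hπVe
  have hπUet : Etale πU.left := (repWith_yon_map_iff _ _).1 hπUe
  have hK' : BlowUp.IsEffCartierIdeal (K.comap πV.left) :=
    Groth.Agent.Lib.Helper29.EffCart.isEffCartierIdeal_comap_of_flat πV.left K hK
  obtain ⟨m, s⟩ := Groth.Agent.S10795.W43.isPullback_comap_yon πV K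
  have hme : RepWith @Etale ((yon S).map m) := MorphismProperty.of_isPullback s.flip hπVe
  have hms : RepWith @Surjective ((yon S).map m) := MorphismProperty.of_isPullback s.flip hπVs
  have hfe : RepWith @Etale fstD := MorphismProperty.of_isPullback sqD.flip hφe
  have hfs : RepWith @Surjective fstD := MorphismProperty.of_isPullback sqD.flip hφs
  exact ⟨W, πU, K.comap πV.left, (yon S).map m ≫ fstD, hπUet, hK',
    (RepWith @Etale).comp_mem _ _ hme hfe, (RepWith @Surjective).comp_mem _ _ hms hfs⟩

theorem main (X D : AlgSp.Space S) (k : ℕ)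
    (hX : AlgSp.EtaleLocally (fun U => IsLocallyNoetherian U ∧ ∀ x : ↥U,
        min ((k : ℕ) : WithBot ℕ∞) (ringKrullDim ↥(U.presheaf.stalk x)) ≤
          ((LocCoh.depth ↥(U.presheaf.stalk x) ↥(U.presheaf.stalk x) : ℕ∞) : WithBot ℕ∞)) X.obj)
    (i : D ⟶ X) (hD : AlgSp.IsEffCartierSub i.hom) :
    AlgSp.EtaleLocally (fun V => IsLocallyNoetherian V ∧ ∀ v : ↥V,
        min ((k - 1 : ℕ) : WithBot ℕ∞) (ringKrullDim ↥(V.presheaf.stalk v)) ≤
          ((LocCoh.depth ↥(V.presheaf.stalk v) ↥(V.presheaf.stalk v) : ℕ∞) : WithBot ℕ∞)) D.obj := by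
  obtain ⟨U₀, p, hpe, hps, hN, hSk⟩ := hX
  obtain ⟨W, π, K', c, hπ, hK', hce, hcs⟩ := exists_refined_chart X D i hD p hpe hps
  have hWN : IsLocallyNoetherian W.left := LocallyOfFiniteType.isLocallyNoetherian π.left
  have hWSk : ∀ w : ↥W.left, min ((k : ℕ) : WithBot ℕ∞) (ringKrullDim (W.left.presheaf.stalk w)) ≤
      ((LocCoh.depth (W.left.presheaf.stalk w) (W.left.presheaf.stalk w) : ℕ∞) : WithBot ℕ∞) := by
    intro w
    rw [ringKrullDim_stalk_eq_of_etale π.left w, depth_stalk_eq_of_etale π.left w]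
    exact hSk _
  refine ⟨Over.mk (K'.subschemeι ≫ W.hom), c, hce, hcs, ?_, ?_⟩
  · exact LocallyOfFiniteType.isLocallyNoetherian K'.subschemeι
  · intro d
    exact Groth.Agent.S1685.result W.left k hWSk K' hK' d

end W49
end H


/-- Let X be a locally Noetherian algebraic space over a scheme S satisfying Serre's condition (S_k), in
the etale-local sense: some etale surjective chart of X from a locally Noetherian scheme all of
whose local rings O satisfy min(k, dim O) ≤ depth O. Let D ⟶ X be an effective Cartier divisor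
(one-chart sense). Then D is locally Noetherian and (S_{k-1}) in the same sense (with k - 1 read as
0 when k = 0). -/
theorem result {S : Scheme.{u}} (X D : AlgSp.Space S) (k : ℕ)
    (hX : AlgSp.EtaleLocally (fun U => IsLocallyNoetherian U ∧ ∀ x : ↥U,
        min ((k : ℕ) : WithBot ℕ∞) (ringKrullDim ↥(U.presheaf.stalk x)) ≤
          ((LocCoh.depth ↥(U.presheaf.stalk x) ↥(U.presheaf.stalk x) : ℕ∞) : WithBot ℕ∞)) X.obj)
    (i : D ⟶ X) (hD : AlgSp.IsEffCartierSub i.hom) :
    AlgSp.EtaleLocally (fun V => IsLocallyNoetherian V ∧ ∀ v : ↥V,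
        min ((k - 1 : ℕ) : WithBot ℕ∞) (ringKrullDim ↥(V.presheaf.stalk v)) ≤
          ((LocCoh.depth ↥(V.presheaf.stalk v) ↥(V.presheaf.stalk v) : ℕ∞) : WithBot ℕ∞)) D.obj := by
  exact W49.main X D k hX i hD

end Groth.Agent.S10798
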