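import Groth.Statements.S10803
import Groth.Agent.Lib.Helper3.AlgSpNoethEtale

set_option autoImplicit false
universe u
open CategoryTheory CategoryTheory.Limits AlgebraicGeometry Topology TopologicalSpace
open AlgSp

namespace Groth.Agent.S10803

/-- (3) ⇒ (2) (with (2) ⇒ (1) ⇒ (3) immediate, this gives the equivalence of the three conditions
defining a locally Noetherian fibre over y): take a morphism f : X ⟶ Y of algebraic spaces over a
scheme S and a point y of |Y|. Suppose that for some field k and some point p : Spec k ⟶ Y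
representing y the fibre X_p (any pullback of f along the morphism of p) is locally Noetherian. Then
for every scheme V, every representable etale h_V ⟶ Y and every point v of V mapping to y, the fibre
X_v = Spec κ(v) ×_Y X is locally Noetherian. -/
theorem result {S : Scheme.{u}} (X Y : AlgSp.Space S) (f : X ⟶ Y)
    (y : AlgSp.Points Y.obj) (p : AlgSp.FieldPt Y.obj) (hp : AlgSp.Points.mk p = y)
    (hNoeth : ∀ ⦃P : AlgSp.Sp S⦄ (fst : P ⟶ X.obj) (snd : P ⟶ (AlgSp.yon S).obj p.pt),
      IsPullback fst snd f.hom p.toHom → AlgSp.IsLocNoethSp P)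
    (V : Over S) (b : (AlgSp.yon S).obj V ⟶ Y.obj) (hb : AlgSp.RepWith @Etale b) (v : ↥V.left)
    (hv : AlgSp.Points.ofPt b v = y)
    {Q : AlgSp.Sp S} (qfst : Q ⟶ X.obj) (qsnd : Q ⟶ (AlgSp.yon S).obj (AlgSp.FieldPt.ofPt b v).pt)
    (hQ : IsPullback qfst qsnd f.hom (AlgSp.FieldPt.ofPt b v).toHom) :
    AlgSp.IsLocNoethSp Q := by
  -- the fibre product `E = V ×_Y Spec k`, etale over `Spec k`
  obtain ⟨E, pV, pK, sqE⟩ := Groth.Agent.Lib.Helper3.exists_pullback_charts b hb.1 p.toHom
  have hpK : Etale pK.left := hb.2 p.toHom ((yon S).map pV) pK sqE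
  have hpt : Points.ofPt b v = Points.ofPt p.toHom (IsLocalRing.closedPoint p.K) := by
    rw [hv, ← hp, Points.ofPt_toHom]
  obtain ⟨w, hwv, -⟩ := Groth.Agent.Lib.Helper3.exists_of_ofPt_eq_of_isPullback sqE v
    (IsLocalRing.closedPoint p.K) hpt
  -- a field point of `E` through `w`, open in `E`
  have hpK' : Etale (show E.left ⟶ Spec (CommRingCat.of p.K) from pK.left) := hpK
  obtain ⟨k', hk', j, hj, t, ht⟩ := Groth.Agent.Lib.Helper3.exists_field_openImmersion_of_etale_field
    p.K (show E.left ⟶ Spec (CommRingCat.of p.K) from pK.left) w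
  have htc : t = IsLocalRing.closedPoint k' := Subsingleton.elim _ _
  let K' : Over S := Over.mk (j ≫ E.hom)
  let jO : K' ⟶ E := Over.homMk j rfl
  let c₁ : K' ⟶ p.pt := jO ≫ pK
  have hc₁ : Etale c₁.left := by
    change Etale (j ≫ pK.left)
    infer_instance
  -- the factorisation through the residue field of `v`
  have hmv : (j ≫ pV.left) (IsLocalRing.closedPoint k') = v := by
    rw [Scheme.Hom.comp_apply, ← htc, ht, hwv]
  obtain ⟨c₂', hc₂'⟩ := Groth.Agent.Lib.Helper3.exists_desc_residueField (j ≫ pV.left) v hmv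
  let c₂ : K' ⟶ (FieldPt.ofPt b v).pt := Over.homMk c₂' (by
    change c₂' ≫ V.left.fromSpecResidueField v ≫ V.hom = j ≫ E.hom
    rw [← Category.assoc, hc₂', Category.assoc, Over.w pV])
  have hc₂f : Flat c₂.left := Groth.Agent.Lib.Helper3.flat_of_field_residueField v c₂'
  have hc₂s : Surjective c₂.left := Groth.Agent.Lib.Helper3.surjective_of_field_residueField v c₂'
  have hc₂a : IsAffineHom c₂.left := (inferInstance : IsAffineHom c₂')
  have hcomp : (yon S).map c₂ ≫ (FieldPt.ofPt b v).toHom = (yon S).map c₁ ≫ p.toHom := by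
    rw [FieldPt.toHom_ofPt, ← Category.assoc, ← Functor.map_comp]
    have : c₂ ≫ Over.homMk (V.left.fromSpecResidueField v) rfl = jO ≫ pV := by
      ext
      exact hc₂'
    rw [this, Functor.map_comp, Category.assoc, sqE.w, ← Category.assoc, ← Functor.map_comp]
  -- the base change of `Q` to `k'`
  have sqPQ := IsPullback.of_hasPullback qsnd ((yon S).map c₂)
  have sqBig := sqPQ.paste_horiz hQ
  rw [hcomp] at sqBig
  have sqP := IsPullback.of_hasPullback f.hom p.toHom
  have hPn : IsLocNoethSp (pullback f.hom p.toHom) := hNoeth _ _ sqP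
  obtain ⟨g, hg1, hg2⟩ : ∃ g : pullback qsnd ((yon S).map c₂) ⟶ pullback f.hom p.toHom,
      g ≫ pullback.fst f.hom p.toHom = pullback.fst qsnd ((yon S).map c₂) ≫ qfst ∧
      g ≫ pullback.snd f.hom p.toHom = pullback.snd qsnd ((yon S).map c₂) ≫ (yon S).map c₁ :=
    ⟨sqP.lift _ _ (by rw [sqBig.w, Category.assoc]), sqP.lift_fst _ _ _, sqP.lift_snd _ _ _⟩
  have sqg : IsPullback g (pullback.snd qsnd ((yon S).map c₂)) (pullback.snd f.hom p.toHom)
      ((yon S).map c₁) := by
    refine IsPullback.of_right ?_ hg2 sqP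
    rw [hg1]
    exact sqBig
  have hc₁e : RepWith @Etale ((yon S).map c₁) := (repWith_yon_map_iff @Etale c₁).2 hc₁
  have hge : RepWith @Etale g := MorphismProperty.of_isPullback sqg.flip hc₁e
  have hPQalg : IsAlgSpace (pullback qsnd ((yon S).map c₂)) :=
    Groth.Agent.Lib.Helper3.isAlgSpace_of_isPullback' Y.property X.property
      (IsAlgSpace.yon_obj K') sqBig
  have hQalg : IsAlgSpace Q :=
    Groth.Agent.Lib.Helper3.isAlgSpace_of_isPullback' Y.property X.property
      (IsAlgSpace.yon_obj _) hQ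
  have hPQn := Groth.Agent.Lib.Helper3.isLocNoethSp_of_repWith_etale hPQalg g hge hPn
  exact Groth.Agent.Lib.Helper3.isLocNoethSp_of_isPullback_flat_affine_surjective hQalg c₂ qsnd
    _ _ sqPQ hPQn

end Groth.Agent.S10803
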