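import Groth.Statements.S10804
import Groth.Agent.Lib.Helper3.AlgSpNoethFibre

set_option autoImplicit false
universe u
open CategoryTheory CategoryTheory.Limits AlgebraicGeometry Topology TopologicalSpace
open AlgSp

namespace Groth.Agent.S10804

/-- (3) ⇒ (4): let f : X ⟶ Y be a morphism of algebraic spaces over a scheme S, and let p : Spec k ⟶ Y
and p₀ : Spec k₀ ⟶ Y be field-valued points defining the same point of |Y|, with h_{Spec k₀} ⟶ Y a
monomorphism. If the fibre X_p = Spec k ×_Y X (any pullback of f along the morphism of p) is locally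
Noetherian, then the fibre X_{p₀} is locally Noetherian. -/
theorem result {S : Scheme.{u}} (X Y : AlgSp.Space S) (f : X ⟶ Y)
    (p p₀ : AlgSp.FieldPt Y.obj) (hpp : AlgSp.Points.mk p = AlgSp.Points.mk p₀) (hmono : Mono p₀.toHom)
    (hNoeth : ∀ ⦃P : AlgSp.Sp S⦄ (fst : P ⟶ X.obj) (snd : P ⟶ (AlgSp.yon S).obj p.pt),
      IsPullback fst snd f.hom p.toHom → AlgSp.IsLocNoethSp P)
    {Q : AlgSp.Sp S} (qfst : Q ⟶ X.obj) (qsnd : Q ⟶ (AlgSp.yon S).obj p₀.pt)
    (hQ : IsPullback qfst qsnd f.hom p₀.toHom) :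
    AlgSp.IsLocNoethSp Q := by
  open Groth.Agent.Lib.Helper3 in
  obtain ⟨c, hc⟩ := exists_factor_of_mono_fieldPt Y.property p₀ p hpp.symm
  have hQa : IsAlgSpace Q :=
    isAlgSpace_of_isPullback' Y.property X.property (IsAlgSpace.yon_obj _) hQ
  have sqP := IsPullback.of_hasPullback qsnd ((yon S).map c)
  have big := sqP.paste_horiz hQ
  rw [hc] at big
  have hP := hNoeth _ _ big
  have h1 : Flat c.left :=
    (inferInstance : Flat (show Spec (CommRingCat.of p.K) ⟶ Spec (CommRingCat.of p₀.K) from c.left))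
  have h2 : IsAffineHom c.left :=
    (inferInstance : IsAffineHom (show Spec (CommRingCat.of p.K) ⟶ Spec (CommRingCat.of p₀.K) from c.left))
  have h3 : Surjective c.left :=
    (inferInstance : Surjective (show Spec (CommRingCat.of p.K) ⟶ Spec (CommRingCat.of p₀.K) from c.left))
  exact isLocNoethSp_of_isPullback_flat_affine_surjective hQa c qsnd _ _ sqP hP

end Groth.Agent.S10804
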