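import Groth.Statements.S10805
import Groth.Agent.S10796
import Groth.Agent.Lib.Helper3.AlgSpReducedChart
import Mathlib.RingTheory.Ideal.MinimalPrime.Localization
import Mathlib.RingTheory.Ideal.Height
import Mathlib.RingTheory.KrullDimension.Basic
-- import your own Groth.Agent.* helpers here

set_option autoImplicit false
universe u
open CategoryTheory CategoryTheory.Limits AlgebraicGeometry Topology TopologicalSpace
open AlgSp

namespace Groth.Agent.S10805

section H
namespace W54
open Opposite Groth.Agent.Lib.Helper3 Groth.Agent.Lib.Helper15.IdealChart Groth.Agent.S10796.W53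
set_option backward.isDefEq.respectTransparency.types false

theorem mem_minimalPrimes_of_annR {R : Type*} [CommRing R] [IsReduced R] (s : R) (p : Ideal R)
    (hp : p ∈ (annR s).minimalPrimes) : p ∈ minimalPrimes R := by
  have hpp : p.IsPrime := hp.1.1
  have hs : s ∉ p := by
    intro hsp
    have hmem : s ∈ ⋃ q ∈ (annR s).minimalPrimes, (q : Set R) := Set.mem_biUnion hp hsp
    rw [Ideal.iUnion_minimalPrimes] at hmem
    obtain ⟨y, hy, n, hn⟩ := hmem
    apply hy
    rw [mem_annR] at hn
    have h1 : (s * y) ^ (n + 1) = 0 := by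
      rw [pow_succ, ← mul_assoc, hn, zero_mul]
    have h2 : s * y = 0 := IsReduced.eq_zero _ ⟨n + 1, h1⟩
    apply Ideal.le_radical
    rw [mem_annR, mul_comm]
    exact h2
  refine ⟨⟨hpp, bot_le⟩, fun q hq hqp => ?_⟩
  have hq' : q.IsPrime := hq.1
  apply hp.2 ⟨hq.1, ?_⟩ hqp
  intro a ha
  rw [mem_annR] at ha
  have : a * s ∈ q := ha ▸ q.zero_mem
  exact (hq'.mem_or_mem this).resolve_right (fun hsq => hs (hqp hsq))

theorem primeAtPt_eq (T : Scheme.{u}) [IsAffine T] (u : T) :
    primeAtPt T u = ((isAffineOpen_top T).primeIdealOf ⟨u, trivial⟩).asIdeal := by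
  have h2 := (isAffineOpen_top T).primeIdealOf_eq_map_closedPoint ⟨u, trivial⟩
  exact (congrArg PrimeSpectrum.asIdeal h2).symm

theorem ringKrullDim_stalk_eq_height (T : Scheme.{u}) [IsAffine T] (u : T) :
    ringKrullDim (T.presheaf.stalk u) = (primeAtPt T u).height := by
  let := T.presheaf.algebra_section_stalk (U := ⊤) ⟨u, trivial⟩
  have hloc := (isAffineOpen_top T).isLocalization_stalk ⟨u, trivial⟩
  rw [primeAtPt_eq]
  exact IsLocalization.AtPrime.ringKrullDim_eq_height _ _

variable {S : Scheme.{u}}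

theorem main (X : AlgSp.Space S) (hX : AlgSp.IsReducedSp X.obj) (x : AlgSp.Points X.obj) :
    x ∈ AlgSp.WeakAssEt (AlgSp.unitModEt X.obj) ↔
      AlgSp.HasAt (fun U u => ringKrullDim ↥(U.presheaf.stalk u) = 0) X.obj x := by
  constructor
  · rintro ⟨E, hE, u, rfl, s, hs⟩
    have hred : IsReduced E.obj.left.left := isReduced_of_isReducedSp hX E
    obtain ⟨s₀, rfl⟩ : ∃ s₀, upΓ E s₀ = s := ULift.ringEquiv.symm.surjective s
    rw [annSect_unit] at hs
    have hmin := mem_minimalPrimes_of_annR s₀ _ hs
    refine ⟨E.obj.left, E.obj.hom, u, E.property, rfl, ?_⟩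
    change ringKrullDim (E.obj.left.left.presheaf.stalk u) = 0
    rw [ringKrullDim_stalk_eq_height]
    have : (primeAtPt E.obj.left.left u).height = 0 := Ideal.height_eq_zero_iff.2 hmin
    rw [this]
    rfl
  · rintro ⟨U, a, u, hae, rfl, hdim⟩
    obtain ⟨U₀, hU₀, hu⟩ : ∃ U₀ : U.left.Opens, IsAffineOpen U₀ ∧ u ∈ U₀ := by
      obtain ⟨_, ⟨U₀, hU₀, rfl⟩, hu, -⟩ :=
        U.left.isBasis_affineOpens.exists_subset_of_mem_open (Set.mem_univ u) isOpen_univ
      exact ⟨U₀, hU₀, hu⟩
    change ringKrullDim (U.left.presheaf.stalk u) = 0 at hdim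
    have hT : IsAffine U₀.toScheme := hU₀
    let pt : U₀.toScheme := ⟨u, hu⟩
    have hdim' : ringKrullDim (U₀.toScheme.presheaf.stalk pt) = 0 := by
      rw [← hdim]
      exact ringKrullDim_eq_of_ringEquiv (U₀.stalkIso pt).commRingCatIsoToRingEquiv
    rw [ringKrullDim_stalk_eq_height] at hdim'
    have hh : (primeAtPt U₀.toScheme pt).height = 0 := by exact_mod_cast hdim'
    have hmin : primeAtPt U₀.toScheme pt ∈ minimalPrimes Γ(U₀.toScheme, ⊤) :=
      Ideal.height_eq_zero_iff.1 hh
    refine ⟨chartObj a hae U₀, hU₀, pt, ?_, upΓ _ 1, ?_⟩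
    · exact Points.ofPt_yon_map_comp (Over.homMk U₀.ι rfl : Over.mk (U₀.ι ≫ U.hom) ⟶ U) a pt
    · rw [annSect_unit]
      have : annR (1 : Γ(U₀.toScheme, ⊤)) = ⊥ := by
        ext b
        rw [mem_annR, mul_one, Ideal.mem_bot]
      rw [this]
      exact hmin

end W54
end H


/-- Let X be a reduced algebraic space over a scheme S and x a point of |X|. Then x is a weakly
associated point of X (a weakly associated point of the structure sheaf O_X on the small etale site)
if and only if x is a point of codimension 0 of X (for some scheme U with a representable etale h_U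
⟶ X and some point u of U over x, the local ring of U at u has Krull dimension 0). -/
theorem result {S : Scheme.{u}} (X : AlgSp.Space S)
    (hX : AlgSp.IsReducedSp X.obj) [(AlgSp.unitModEt X.obj).IsQuasicoherent] (x : AlgSp.Points X.obj) :
    x ∈ AlgSp.WeakAssEt (AlgSp.unitModEt X.obj) ↔
      AlgSp.HasAt (fun U u => ringKrullDim ↥(U.presheaf.stalk u) = 0) X.obj x := by
  exact W54.main X hX x

end Groth.Agent.S10805
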