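import Groth.Statements.S10811
import Mathlib.Algebra.Category.ModuleCat.Sheaf.Limits
import Mathlib.Algebra.Homology.ShortComplex.ModuleCat
import Mathlib.Algebra.Homology.ShortComplex.ExactFunctor
-- import your own Groth.Agent.* helpers here

set_option autoImplicit false
universe u
open CategoryTheory CategoryTheory.Limits AlgebraicGeometry Topology TopologicalSpace
open AlgSp

namespace Groth.Agent.S10811

section H
namespace W51
open Opposite
set_option backward.isDefEq.respectTransparency.types false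

section Ring
variable {R A : Type*} [CommRing R] [Ring A] (υ : R →+* A)
variable {N₁ N₂ N₃ : Type*} [AddCommGroup N₁] [AddCommGroup N₂] [AddCommGroup N₃]
  [Module A N₁] [Module A N₂] [Module A N₃]

/-- the annihilator of an element, pulled back to `R` -/
def annv {N : Type*} [AddCommGroup N] [Module A N] (s : N) : Ideal R :=
  Ideal.comap υ (LinearMap.ker (LinearMap.toSpanSingleton A N s))

theorem mem_annv {N : Type*} [AddCommGroup N] [Module A N] (s : N) (a : R) :
    a ∈ annv υ s ↔ υ a • s = 0 := Iff.rfl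

theorem mem_minimalPrimes_of_le {I J p : Ideal R} (hp : p ∈ I.minimalPrimes) (hIJ : I ≤ J)
    (hJp : J ≤ p) : p ∈ J.minimalPrimes :=
  ⟨⟨hp.1.1, hJp⟩, fun _ hq hqp => hp.2 ⟨hq.1, hIJ.trans hq.2⟩ hqp⟩

theorem annv_map_of_injective (f : N₁ →ₗ[A] N₂) (hf : Function.Injective f) (s : N₁) :
    annv υ (f s) = annv υ s := by
  ext a
  rw [mem_annv, mem_annv, ← map_smul, map_eq_zero_iff f hf]

theorem weakAss_middle (f : N₁ →ₗ[A] N₂) (g : N₂ →ₗ[A] N₃)
    (hex : ∀ y, g y = 0 → ∃ x, f x = y) (hf : Function.Injective f)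
    (hcomm : ∀ (a : R) (b : A), υ a * b = b * υ a)
    (p : Ideal R) (s : N₂) (hp : p ∈ (annv υ s).minimalPrimes) :
    (∃ s₁ : N₁, p ∈ (annv υ s₁).minimalPrimes) ∨ (∃ s₃ : N₃, p ∈ (annv υ s₃).minimalPrimes) := by
  have hpp : p.IsPrime := hp.1.1
  have hle : annv υ s ≤ annv υ (g s) := by
    intro a ha
    rw [mem_annv] at ha ⊢
    rw [← map_smul, ha, map_zero]
  by_cases hc : annv υ (g s) ≤ p
  · exact Or.inr ⟨g s, mem_minimalPrimes_of_le hp hle hc⟩
  · left
    obtain ⟨a, ha, hap⟩ := Set.not_subset.1 hc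
    rw [SetLike.mem_coe, mem_annv, ← map_smul] at ha
    obtain ⟨s₁, hs₁⟩ := hex _ ha
    refine ⟨s₁, ?_⟩
    rw [← annv_map_of_injective υ f hf, hs₁]
    refine mem_minimalPrimes_of_le hp ?_ ?_
    · intro b hb
      rw [mem_annv] at hb ⊢
      rw [smul_smul, hcomm, ← smul_smul, hb, smul_zero]
    · intro b hb
      rw [mem_annv, smul_smul, ← map_mul] at hb
      have : b * a ∈ p := hp.1.2 hb
      exact (hpp.mem_or_mem this).resolve_right hap

end Ring

variable {S : Scheme.{u}}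

theorem sections_exact (X : Sp S) (C : ShortComplex (AlgSp.ModEt X)) (hC : C.ShortExact)
    (E : EtOver X) :
    Function.Injective (C.f.val.app (op E)).hom ∧
      ∀ y : sectModEt C.X₂ E, (C.g.val.app (op E)).hom y = 0 →
        ∃ x : sectModEt C.X₁ E, (C.f.val.app (op E)).hom x = y := by
  have hm := hC.mono_f
  have hex : (C.map (SheafOfModules.evaluation (OEtRing X) (op E))).Exact :=
    hC.exact.map_of_mono_of_preservesKernel _ hm inferInstance
  have hmono : Mono ((SheafOfModules.evaluation (OEtRing X) (op E)).map C.f) := inferInstance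
  constructor
  · exact (ModuleCat.mono_iff_injective _).1 hmono
  · exact (ShortComplex.moduleCat_exact_iff _).1 hex

theorem upΓ_comm (X : Sp S) (E : EtOver X) (a : Γ(E.obj.left.left, ⊤))
    (b : (OEtRing X).obj.obj (op E)) : upΓ E a * b = b * upΓ E a :=
  mul_comm (G := ((OEt X).obj.obj (op E) : CommRingCat)) _ _

theorem main (X : AlgSp.Space S) (C : ShortComplex (AlgSp.ModEt X.obj)) (hC : C.ShortExact) :
    AlgSp.WeakAssEt C.X₂ ⊆ AlgSp.WeakAssEt C.X₁ ∪ AlgSp.WeakAssEt C.X₃ ∧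
      AlgSp.WeakAssEt C.X₁ ⊆ AlgSp.WeakAssEt C.X₂ := by
  constructor
  · rintro x ⟨E, hE, u, rfl, s, hs⟩
    obtain ⟨hinj, hex⟩ := sections_exact X.obj C hC E
    rcases weakAss_middle (upΓ E) (C.f.val.app (op E)).hom (C.g.val.app (op E)).hom hex hinj
      (upΓ_comm X.obj E) _ s hs with ⟨s₁, h₁⟩ | ⟨s₃, h₃⟩
    · exact Or.inl ⟨E, hE, u, rfl, s₁, h₁⟩
    · exact Or.inr ⟨E, hE, u, rfl, s₃, h₃⟩
  · rintro x ⟨E, hE, u, rfl, s, hs⟩
    obtain ⟨hinj, -⟩ := sections_exact X.obj C hC E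
    refine ⟨E, hE, u, rfl, (C.f.val.app (op E)).hom s, ?_⟩
    have := annv_map_of_injective (upΓ E) (C.f.val.app (op E)).hom hinj s
    change primeAtPt E.obj.left.left u ∈ (annv (upΓ E) ((C.f.val.app (op E)).hom s)).minimalPrimes
    rw [this]
    exact hs

end W51
end H


/-- Let X be an algebraic space over a scheme S and 0 ⟶ F₁ ⟶ F₂ ⟶ F₃ ⟶ 0 a short exact sequence of
quasi-coherent O_X-modules on the small etale site of X. Then the weakly associated points satisfy
WeakAss(F₂) ⊆ WeakAss(F₁) ∪ WeakAss(F₃) and WeakAss(F₁) ⊆ WeakAss(F₂). -/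
theorem result {S : Scheme.{u}} (X : AlgSp.Space S)
    (C : ShortComplex (AlgSp.ModEt X.obj)) (hC : C.ShortExact)
    [C.X₁.IsQuasicoherent] [C.X₂.IsQuasicoherent] [C.X₃.IsQuasicoherent] :
    AlgSp.WeakAssEt C.X₂ ⊆ AlgSp.WeakAssEt C.X₁ ∪ AlgSp.WeakAssEt C.X₃ ∧
      AlgSp.WeakAssEt C.X₁ ⊆ AlgSp.WeakAssEt C.X₂ := by
  exact W51.main X C hC

end Groth.Agent.S10811
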