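import Groth.Statements.S10813
import Groth.Agent.Lib.Helper15.AlgSpIdealChart
import Groth.Agent.Lib.Helper15.EffCartMul
-- import your own Groth.Agent.* helpers here

set_option autoImplicit false
universe u
open CategoryTheory CategoryTheory.Limits AlgebraicGeometry Topology TopologicalSpace
open AlgSp

namespace Groth.Agent.S10813

section H
namespace W46
open Groth.Agent.Lib.Helper15.IdealChart Groth.Agent.Lib.Helper15.EffCartMul
set_option backward.isDefEq.respectTransparency.types false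
variable {S : Scheme.{u}}

theorem main (X Z Y D : AlgSp.Space S)
    (iZ : Z ⟶ X) (iY : Y ⟶ X) (iD : D ⟶ X) (I J : AlgSp.IdealEt X.obj)
    (hZ : AlgSp.IsCutOutBy I iZ.hom) (hY : AlgSp.IsCutOutBy J iY.hom)
    (hD : AlgSp.IsCutOutBy (I * J) iD.hom)
    (hDc : AlgSp.IsEffCartierSub iD.hom) :
    AlgSp.IsEffCartierSub iZ.hom ∧ AlgSp.IsEffCartierSub iY.hom := by
  obtain ⟨hiZ, rfl⟩ := hZ
  obtain ⟨hiY, rfl⟩ := hY
  obtain ⟨hiD, hI⟩ := hD
  obtain ⟨-, V, φ, K, fstD, hφe, hφs, sqD, hK⟩ := hDc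
  let ιZ : hiZ.1.pullback φ ⟶ V := hiZ.1.snd φ
  have sqZ : IsPullback (hiZ.1.fst φ) ((yon S).map ιZ) iZ.hom φ := hiZ.1.isPullback φ
  let ιY : hiY.1.pullback φ ⟶ V := hiY.1.snd φ
  have sqY : IsPullback (hiY.1.fst φ) ((yon S).map ιY) iY.hom φ := hiY.1.isPullback φ
  have hclZ : IsClosedImmersion ιZ.left := hiZ.2 _ _ _ sqZ
  have hclY : IsClosedImmersion ιY.left := hiY.2 _ _ _ sqY
  have hq : QuasiCompact (Over.homMk K.subschemeι rfl : Over.mk (K.subschemeι ≫ V.hom) ⟶ V).left := by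
    change QuasiCompact K.subschemeι; infer_instance
  have hker := ker_eq_mul hiD.1 hiZ.1 hiY.1 hI φ hφe
    (Over.homMk K.subschemeι rfl : Over.mk (K.subschemeι ≫ V.hom) ⟶ V) ιZ ιY _ _ _ sqD sqZ sqY
  simp only [Over.homMk_left, Scheme.IdealSheafData.ker_subschemeι] at hker
  rw [hker] at hK
  obtain ⟨fZ, sZ⟩ := isPullback_ker_subscheme φ ιZ _ sqZ
  obtain ⟨fY, sY⟩ := isPullback_ker_subscheme φ ιY _ sqY
  exact ⟨⟨hiZ, V, φ, ιZ.left.ker, fZ, hφe, hφs, sZ, isEffCartierIdeal_of_mul _ _ hK⟩,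
    ⟨hiY, V, φ, ιY.left.ker, fY, hφe, hφs, sY, isEffCartierIdeal_of_mul' _ _ hK⟩⟩

end W46
end H


/-- Let X be an algebraic space over a scheme S, let Z ⟶ X and Y ⟶ X be closed subspaces cut out by
quasi-coherent sheaves of ideals I and J, and let D ⟶ X be the closed subspace which the product I·J
cuts out. If D is an effective Cartier divisor (one-chart sense), then so are Z and Y, and D is
their sum. -/
theorem result {S : Scheme.{u}} (X Z Y D : AlgSp.Space S)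
    (iZ : Z ⟶ X) (iY : Y ⟶ X) (iD : D ⟶ X) (I J : AlgSp.IdealEt X.obj) (hI : I.IsQCoh) (hJ : J.IsQCoh)
    (hZ : AlgSp.IsCutOutBy I iZ.hom) (hY : AlgSp.IsCutOutBy J iY.hom) (hD : AlgSp.IsCutOutBy (I * J) iD.hom)
    (hDc : AlgSp.IsEffCartierSub iD.hom) :
    AlgSp.IsEffCartierSub iZ.hom ∧ AlgSp.IsEffCartierSub iY.hom := by
  exact W46.main X Z Y D iZ iY iD I J hZ hY hD hDc

end Groth.Agent.S10813
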