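import Groth.Statements.S10814
import Groth.Agent.S10795
import Groth.Agent.Lib.Helper15.AlgSpIdealChart
import Groth.Agent.Lib.Helper29.RelEffCart
import Groth.Agent.Lib.Helper29.BlowUpUP
-- import your own Groth.Agent.* helpers here

set_option autoImplicit false
universe u
open CategoryTheory CategoryTheory.Limits AlgebraicGeometry Topology TopologicalSpace
open AlgSp

namespace Groth.Agent.S10814

section H
namespace W45
open Groth.Agent.Lib.Helper15.IdealChart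
set_option backward.isDefEq.respectTransparency.types false
variable {S : Scheme.{u}}

theorem main (X D₁ D₂ D : AlgSp.Space S)
    (i₁ : D₁ ⟶ X) (i₂ : D₂ ⟶ X) (i : D ⟶ X) (I₁ I₂ : AlgSp.IdealEt X.obj)
    (h₁ : AlgSp.IsCutOutBy I₁ i₁.hom) (h₂ : AlgSp.IsCutOutBy I₂ i₂.hom)
    (hD : AlgSp.IsCutOutBy (I₁ * I₂) i.hom)
    (e₁ : AlgSp.IsEffCartierSub i₁.hom) (e₂ : AlgSp.IsEffCartierSub i₂.hom) :
    AlgSp.IsEffCartierSub i.hom := by
  obtain ⟨hi₁, rfl⟩ := h₁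
  obtain ⟨hi₂, rfl⟩ := h₂
  obtain ⟨hi, hI⟩ := hD
  obtain ⟨-, V₁, φ₁, K₁, fst₁, hφ₁e, hφ₁s, sq₁, hK₁⟩ := e₁
  obtain ⟨-, V₂, φ₂, K₂, fst₂, hφ₂e, hφ₂s, sq₂, hK₂⟩ := e₂
  have hrep : Representable φ₂ := hφ₂e.1
  let V : Over S := hrep.pullback φ₁
  let π₁ : V ⟶ V₁ := hrep.snd φ₁
  let q : (yon S).obj V ⟶ (yon S).obj V₂ := hrep.fst φ₁
  have sqV : IsPullback q ((yon S).map π₁) φ₂ φ₁ := hrep.isPullback φ₁
  let π₂ : V ⟶ V₂ := (yon S).preimage q
  have hπ₂ : (yon S).map π₂ = q := (yon S).map_preimage q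
  have hπ₁e : RepWith @Etale ((yon S).map π₁) := MorphismProperty.of_isPullback sqV hφ₂e
  have hπ₁s : RepWith @Surjective ((yon S).map π₁) := MorphismProperty.of_isPullback sqV hφ₂s
  have hπ₂e : RepWith @Etale ((yon S).map π₂) := by
    rw [hπ₂]; exact MorphismProperty.of_isPullback sqV.flip hφ₁e
  have hπ₁et : Etale π₁.left := (repWith_yon_map_iff _ _).1 hπ₁e
  have hπ₂et : Etale π₂.left := (repWith_yon_map_iff _ _).1 hπ₂e
  have hφe : RepWith @Etale ((yon S).map π₁ ≫ φ₁) := (RepWith @Etale).comp_mem _ _ hπ₁e hφ₁e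
  have hφs : RepWith @Surjective ((yon S).map π₁ ≫ φ₁) :=
    (RepWith @Surjective).comp_mem _ _ hπ₁s hφ₁s
  have hφeq : (yon S).map π₂ ≫ φ₂ = (yon S).map π₁ ≫ φ₁ := by rw [hπ₂]; exact sqV.w
  have hK₁' : BlowUp.IsEffCartierIdeal (K₁.comap π₁.left) :=
    Groth.Agent.Lib.Helper29.EffCart.isEffCartierIdeal_comap_of_flat π₁.left K₁ hK₁
  have hK₂' : BlowUp.IsEffCartierIdeal (K₂.comap π₂.left) :=
    Groth.Agent.Lib.Helper29.EffCart.isEffCartierIdeal_comap_of_flat π₂.left K₂ hK₂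
  obtain ⟨m₁, s₁⟩ := Groth.Agent.S10795.W43.isPullback_comap_yon π₁ K₁
  obtain ⟨m₂, s₂⟩ := Groth.Agent.S10795.W43.isPullback_comap_yon π₂ K₂
  have b₁ := s₁.paste_horiz sq₁
  have b₂ := s₂.paste_horiz sq₂
  rw [hφeq] at b₂
  let P : Over S := hi.1.pullback ((yon S).map π₁ ≫ φ₁)
  let ιP : P ⟶ V := hi.1.snd _
  have sqP : IsPullback (hi.1.fst _) ((yon S).map ιP) i.hom ((yon S).map π₁ ≫ φ₁) :=
    hi.1.isPullback _
  have hcl : IsClosedImmersion ιP.left := hi.2 _ _ _ sqP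
  have hq1 : QuasiCompact (Over.homMk (K₁.comap π₁.left).subschemeι rfl :
      Over.mk ((K₁.comap π₁.left).subschemeι ≫ V.hom) ⟶ V).left := by
    change QuasiCompact (K₁.comap π₁.left).subschemeι; infer_instance
  have hq2 : QuasiCompact (Over.homMk (K₂.comap π₂.left).subschemeι rfl :
      Over.mk ((K₂.comap π₂.left).subschemeι ≫ V.hom) ⟶ V).left := by
    change QuasiCompact (K₂.comap π₂.left).subschemeι; infer_instance
  have hker := ker_eq_mul hi.1 hi₁.1 hi₂.1 hI _ hφe ιP _ _ _ _ _ sqP b₁ b₂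
  simp only [Over.homMk_left, Scheme.IdealSheafData.ker_subschemeι] at hker
  obtain ⟨fst', sq'⟩ := isPullback_ker_subscheme _ ιP _ sqP
  refine ⟨hi, V, _, ιP.left.ker, fst', hφe, hφs, sq', ?_⟩
  rw [hker]
  exact Groth.Agent.Lib.Helper29.EffCart.isEffCartierIdeal_mul _ _ hK₁' hK₂'

end W45
end H


/-- Let X be an algebraic space over a scheme S and D₁, D₂ ⟶ X effective Cartier divisors (one-chart
sense) with quasi-coherent ideal sheaves I₁, I₂ on the small etale site. Then their sum, the closed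
subspace D ⟶ X cut out by the product ideal I₁·I₂, is an effective Cartier divisor. -/
theorem result {S : Scheme.{u}} (X D₁ D₂ D : AlgSp.Space S)
    (i₁ : D₁ ⟶ X) (i₂ : D₂ ⟶ X) (i : D ⟶ X) (I₁ I₂ : AlgSp.IdealEt X.obj) (hI₁ : I₁.IsQCoh) (hI₂ : I₂.IsQCoh)
    (h₁ : AlgSp.IsCutOutBy I₁ i₁.hom) (h₂ : AlgSp.IsCutOutBy I₂ i₂.hom) (hD : AlgSp.IsCutOutBy (I₁ * I₂) i.hom)
    (e₁ : AlgSp.IsEffCartierSub i₁.hom) (e₂ : AlgSp.IsEffCartierSub i₂.hom) :
    AlgSp.IsEffCartierSub i.hom := by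
  exact W45.main X D₁ D₂ D i₁ i₂ i I₁ I₂ h₁ h₂ hD e₁ e₂

end Groth.Agent.S10814
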