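import Groth.Statements.S10820
import Groth.Agent.Lib.Helper1.ProjDimHyp

set_option autoImplicit false
universe u
open AlgebraicGeometry Topology TopologicalSpace
open Variety

namespace Groth.Agent.S10820

open Groth.Agent.Lib.Helper1.ProjDimPt Groth.Agent.Lib.Helper1.ProjDimTop
  Groth.Agent.Lib.Helper1.ProjDimLoc Groth.Agent.Lib.Helper1.ProjDimHyp
  Groth.Agent.Lib.Helper1.ProjDimAlg in
/-- below a point of `V₊(f)` there is a point of `V₊(f)` whose ideal is principal, generated by a
homogeneous element -/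
theorem exists_minimal_pt_le {k : Type u} [Field k] {n d : ℕ} (a : PS n k)
    {f : MvPolynomial (Fin (n + 1)) k} (hfd : f.IsHomogeneous d) (hfa : f ∈ idl a) (hf0 : f ≠ 0) :
    ∃ a' : PS n k, a' ≤ a ∧ f ∈ idl a' ∧ ht a' ≤ 1 ∧
      ∃ (e : ℕ) (g : MvPolynomial (Fin (n + 1)) k), g.IsHomogeneous e ∧ idl a' = Ideal.span {g} := by
  classical
  haveI := a.isPrime
  obtain ⟨q, hq, hqa, hqh, hqht⟩ := exists_minimal_homogeneous (botPt : PS n k) {f}
    (by intro g hg; rw [Finset.mem_singleton] at hg; subst hg; exact ⟨d, hfd⟩)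
    (idl_le_iff.mpr (botPt_le a)) (by simpa using hfa)
  have hqne : q ≠ (HomogeneousIdeal.irrelevant (CohB1.polyGrading n k)).toIdeal := by
    rintro rfl
    exact absurd (le_antisymm hqa (idl_lt_irrelevant a).le) (idl_ne_irrelevant a).symm
  have hfq : f ∈ q := hq.1.2 (Ideal.mem_sup_right (Ideal.subset_span (by simp)))
  have hq1 : q.height ≤ 1 := by simpa [ht_botPt] using hqht
  have hqbot : q ≠ ⊥ := by rintro rfl; exact hf0 (by simpa using hfq)
  haveI := hq.1.1
  have hq1' : q.height = 1 :=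
    le_antisymm hq1 (Order.one_le_iff_ne_zero.mpr (fun h => hqbot (Ideal.height_eq_zero_iff_eq_bot.mp h)))
  obtain ⟨p, hpmem, hpp⟩ := Ideal.IsPrime.exists_mem_prime_of_ne_bot hq.1.1 hqbot
  have hIp := q.eq_span_singleton_of_height_eq_one hq1' hpmem hpp
  obtain ⟨e, g, hge, -, hgs⟩ := exists_homogeneous_generator hqh hpp hIp
  refine ⟨mkPt q hq.1.1 hqh hqne, idl_le_iff.mp hqa, hfq, ?_, e, g, hge, hgs.symm⟩
  have : ((ht (mkPt q hq.1.1 hqh hqne) : ℕ) : ℕ∞) ≤ ((1 : ℕ) : ℕ∞) := by
    rw [coe_ht]; exact_mod_cast hq1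
  exact_mod_cast this

open Groth.Agent.Lib.Helper1.ProjDimPt Groth.Agent.Lib.Helper1.ProjDimTop
  Groth.Agent.Lib.Helper1.ProjDimLoc Groth.Agent.Lib.Helper1.ProjDimHyp
  Groth.Agent.Lib.Helper1.ProjDimAlg in

/-- For a field k, n ≥ 2 and a nonzero homogeneous polynomial f of degree d ≥ 1 in n + 1 variables, the
hypersurface V_+(f) in projective n-space over k (as a subspace of Proj of the polynomial ring
graded by degree) is connected and nonempty. -/
theorem result (k : Type u) [Field k] (n d : ℕ) (hn : 2 ≤ n)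
    (f : MvPolynomial (Fin (n + 1)) k) (hf : f.IsHomogeneous d) (hd : 0 < d) (hf0 : f ≠ 0) :
    IsConnected (ProjectiveSpectrum.zeroLocus (CohB1.polyGrading n k)
      ({f} : Set (MvPolynomial (Fin (n + 1)) k))) := by
  classical
  have hts : ({f} : Set (MvPolynomial (Fin (n + 1)) k)) =
      ↑({f} : Finset (MvPolynomial (Fin (n + 1)) k)) := by simp
  constructor
  · obtain ⟨z, hz⟩ := inter_nonempty (botPt : PS n k) _ {f} hts (by
      intro g hg; rw [Finset.mem_singleton] at hg; subst hg; exact ⟨d, hd, hf⟩)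
      (by simp only [Finset.card_singleton, ht_botPt]; omega)
    exact ⟨z, hz.2⟩
  · rw [isPreconnected_closed_iff]
    intro t t' htc ht'c hsub ⟨a, has, hat⟩ ⟨b, hbs, hbt'⟩
    rw [mem_zeroLocus_iff, Set.singleton_subset_iff] at has hbs
    obtain ⟨a', ha'a, hfa', hta', ea, ga, hga, hIa⟩ := exists_minimal_pt_le a hf has hf0
    obtain ⟨b', hb'b, hfb', htb', eb, gb, hgb, hIb⟩ := exists_minimal_pt_le b hf hbs hf0
    have ha's : a' ∈ ProjectiveSpectrum.zeroLocus (CohB1.polyGrading n k)
        ({f} : Set (MvPolynomial (Fin (n + 1)) k)) := by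
      rw [mem_zeroLocus_iff, Set.singleton_subset_iff]; exact hfa'
    have hb's : b' ∈ ProjectiveSpectrum.zeroLocus (CohB1.polyGrading n k)
        ({f} : Set (MvPolynomial (Fin (n + 1)) k)) := by
      rw [mem_zeroLocus_iff, Set.singleton_subset_iff]; exact hfb'
    have hasm : a ∈ ProjectiveSpectrum.zeroLocus (CohB1.polyGrading n k)
        ({f} : Set (MvPolynomial (Fin (n + 1)) k)) := by
      rw [mem_zeroLocus_iff, Set.singleton_subset_iff]; exact has
    have hbsm : b ∈ ProjectiveSpectrum.zeroLocus (CohB1.polyGrading n k)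
        ({f} : Set (MvPolynomial (Fin (n + 1)) k)) := by
      rw [mem_zeroLocus_iff, Set.singleton_subset_iff]; exact hbs
    rcases hsub ha's with ha't | ha't'
    · rcases hsub hb's with hb't | hb't'
      · exact ⟨b, hbsm, mem_of_le htc hb't hb'b, hbt'⟩
      · -- a' ∈ t, b' ∈ t'
        haveI := (irrelevant_isMaximal k n).isPrime
        have hgbirr : gb ∈ (HomogeneousIdeal.irrelevant (CohB1.polyGrading n k)).toIdeal := by
          apply (idl_lt_irrelevant b').le
          rw [hIb]; exact Ideal.subset_span rfl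
        obtain ⟨q, hq, hqc, hqh, hqht⟩ := exists_minimal_homogeneous a' {gb}
          (by intro g hg; rw [Finset.mem_singleton] at hg; subst hg; exact ⟨eb, hgb⟩)
          (idl_lt_irrelevant a').le (by simpa using hgbirr)
        have hqne : q ≠ (HomogeneousIdeal.irrelevant (CohB1.polyGrading n k)).toIdeal := by
          rintro rfl
          rw [height_irrelevant] at hqht
          have : n + 1 ≤ ht a' + 1 := by
            have h2 : ((n + 1 : ℕ) : ℕ∞) ≤ ((ht a' + 1 : ℕ) : ℕ∞) := by simpa using hqht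
            exact_mod_cast h2
          omega
        set z := mkPt q hq.1.1 hqh hqne with hz
        have haz : a' ≤ z := idl_le_iff.mp (le_sup_left.trans hq.1.2)
        have hbz : b' ≤ z := by
          rw [← idl_le_iff, hIb]
          exact (Ideal.span_mono (by simp)).trans (le_sup_right.trans hq.1.2)
        refine ⟨z, ?_, mem_of_le htc ha't haz, mem_of_le ht'c hb't' hbz⟩
        rw [mem_zeroLocus_iff, Set.singleton_subset_iff]
        exact (idl_le_iff.mpr haz) hfa'
    · exact ⟨a, hasm, hat, mem_of_le ht'c ha't' ha'a⟩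

end Groth.Agent.S10820
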