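import Groth.Statements.S10821
import Groth.Agent.Lib.Helper1.ProjDimHyp

set_option autoImplicit false
universe u
open AlgebraicGeometry Topology TopologicalSpace
open Variety

namespace Groth.Agent.S10821

open Groth.Agent.Lib.Helper1.ProjDimPt Groth.Agent.Lib.Helper1.ProjDimTop
  Groth.Agent.Lib.Helper1.ProjDimLoc Groth.Agent.Lib.Helper1.ProjDimHyp in

/-- For a field k and an irreducible closed subset Z of projective n-space over k, Z has codimension 1
(the longest chain of irreducible closed subsets strictly above Z has length 1) if and only if Z is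
the zero set V_+(f) of an irreducible homogeneous polynomial f in n + 1 variables. -/
theorem result (k : Type u) [Field k] (n : ℕ)
    (Z : TopologicalSpace.IrreducibleCloseds (ProjectiveSpectrum (CohB1.polyGrading n k))) :
    Order.coheight Z = 1 ↔
      ∃ (d : ℕ) (f : MvPolynomial (Fin (n + 1)) k), f.IsHomogeneous d ∧ Irreducible f ∧
        (Z : Set (ProjectiveSpectrum (CohB1.polyGrading n k))) =
          ProjectiveSpectrum.zeroLocus (CohB1.polyGrading n k) ({f} : Set (MvPolynomial (Fin (n + 1)) k)) := by
  constructor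
  · intro h
    obtain ⟨x, hZx, hco⟩ := coheight_irr Z
    rw [h] at hco
    have hx1 : (idl x).height = 1 := by rw [← coe_ht, ← hco]
    haveI := x.isPrime
    obtain ⟨p, hpmem, hpp⟩ := Ideal.IsPrime.exists_mem_prime_of_ne_bot x.isPrime
      (Ideal.ne_bot_of_height_eq_one hx1)
    have hIp := (idl x).eq_span_singleton_of_height_eq_one hx1 hpmem hpp
    obtain ⟨d, g, hgd, hgi, hgs⟩ := exists_homogeneous_generator (idl_isHomogeneous x) hpp hIp
    refine ⟨d, g, hgd, hgi, ?_⟩
    rw [hZx]
    ext y
    rw [Set.mem_Ici, mem_zeroLocus_iff, Set.singleton_subset_iff, ← idl_le_iff, ← hgs,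
      Ideal.span_singleton_le_iff_mem]
    rfl
  · rintro ⟨d, f, hfd, hfi, hZ⟩
    obtain ⟨hprime, hht⟩ := height_span_irreducible hfi
    have hhom : (Ideal.span {f}).IsHomogeneous (CohB1.polyGrading n k) :=
      Ideal.homogeneous_span _ _ (by
        intro g hg; rw [Set.mem_singleton_iff] at hg; subst hg; exact ⟨d, hfd⟩)
    obtain ⟨y, hy⟩ := Z.2.nonempty
    have hy' : y ∈ (Z : Set (ProjectiveSpectrum (CohB1.polyGrading n k))) := hy
    rw [hZ, mem_zeroLocus_iff, Set.singleton_subset_iff] at hy'
    have hne : Ideal.span {f} ≠ (HomogeneousIdeal.irrelevant (CohB1.polyGrading n k)).toIdeal := by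
      intro h
      have := idl_lt_irrelevant y
      rw [← h] at this
      exact this.not_ge ((Ideal.span_singleton_le_iff_mem _).mpr hy')
    set x := mkPt _ hprime hhom hne with hx
    have hZx : (Z : Set (ProjectiveSpectrum (CohB1.polyGrading n k))) = Set.Ici x := by
      rw [hZ]
      ext w
      rw [mem_zeroLocus_iff, Set.singleton_subset_iff, Set.mem_Ici, ← idl_le_iff]
      show _ ↔ Ideal.span {f} ≤ idl w
      rw [Ideal.span_singleton_le_iff_mem]
      rfl
    rw [coheight_irr_of_eq Z x hZx, coe_ht]
    exact hht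

end Groth.Agent.S10821
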