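import Groth.Statements.S10822
import Groth.Agent.Lib.Helper1.ProjDimLoc

set_option autoImplicit false
universe u
open AlgebraicGeometry Topology TopologicalSpace
open Variety

namespace Groth.Agent.S10822

open Groth.Agent.Lib.Helper1.ProjDimPt Groth.Agent.Lib.Helper1.ProjDimTop
  Groth.Agent.Lib.Helper1.ProjDimLoc in

/-- Let k be a field, X an irreducible closed subset of projective n-space over k of positive dimension,
and f a homogeneous polynomial in n + 1 variables whose zero set V_+(f) is nonempty and does not
contain X. Then X meets V_+(f), and every irreducible component C of X ∩ V_+(f) has dim C + 1 = dim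
X, i.e. codimension 1 in X (all maximal chains of irreducible closed subsets of X have length dim
X). -/
theorem result (k : Type u) [Field k] (n d : ℕ)
    (X : Set (ProjectiveSpectrum (CohB1.polyGrading n k))) (hXc : IsClosed X) (hXi : IsIrreducible X)
    (hXd : 0 < topologicalKrullDim ↥X)
    (f : MvPolynomial (Fin (n + 1)) k) (hf : f.IsHomogeneous d)
    (hV : (ProjectiveSpectrum.zeroLocus (CohB1.polyGrading n k)
      ({f} : Set (MvPolynomial (Fin (n + 1)) k))).Nonempty)
    (hX : ¬ X ⊆ ProjectiveSpectrum.zeroLocus (CohB1.polyGrading n k)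
      ({f} : Set (MvPolynomial (Fin (n + 1)) k))) :
    (X ∩ ProjectiveSpectrum.zeroLocus (CohB1.polyGrading n k)
        ({f} : Set (MvPolynomial (Fin (n + 1)) k))).Nonempty ∧
      ∀ C ∈ irreducibleComponents ↥(X ∩ ProjectiveSpectrum.zeroLocus (CohB1.polyGrading n k)
          ({f} : Set (MvPolynomial (Fin (n + 1)) k))),
        topologicalKrullDim ↥C + 1 = topologicalKrullDim ↥X := by
  classical
  obtain ⟨x, rfl⟩ := exists_eq_Ici hXc hXi
  have hfx : f ∉ idl x := by
    intro h
    apply hX
    intro y hy
    rw [mem_zeroLocus_iff, Set.singleton_subset_iff]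
    exact (idl_le_iff.mpr (Set.mem_Ici.mp hy)) h
  have hd : 0 < d := by
    rcases Nat.eq_zero_or_pos d with h0 | h0
    · exfalso
      subst h0
      have h1 : f = MvPolynomial.C (f.coeff 0) :=
        MvPolynomial.totalDegree_eq_zero_iff_eq_C.mp
          ((MvPolynomial.totalDegree_zero_iff_isHomogeneous _).mpr hf)
      by_cases hc : f.coeff 0 = 0
      · apply hfx; rw [h1, hc, map_zero]; exact Ideal.zero_mem _
      · obtain ⟨y, hy⟩ := hV
        rw [mem_zeroLocus_iff, Set.singleton_subset_iff] at hy
        have hu : IsUnit f := by rw [h1]; exact (isUnit_iff_ne_zero.mpr hc).map MvPolynomial.C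
        exact y.isPrime.ne_top (Ideal.eq_top_of_isUnit_mem _ hy hu)
    · exact h0
  have hts : ({f} : Set (MvPolynomial (Fin (n + 1)) k)) =
      ↑({f} : Finset (MvPolynomial (Fin (n + 1)) k)) := by simp
  have hdimX : topologicalKrullDim ↥(Set.Ici x) = ((n - ht x : ℕ) : WithBot ℕ∞) := by
    rw [topologicalKrullDim_Ici, coheight_eq]; rfl
  rw [hdimX] at hXd ⊢
  have hpos : 0 < n - ht x := by exact_mod_cast hXd
  constructor
  · exact inter_nonempty x _ {f} hts (by
      intro g hg; rw [Finset.mem_singleton] at hg; subst hg; exact ⟨d, hd, hf⟩)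
      (by simp only [Finset.card_singleton]; omega)
  · intro C hC
    obtain ⟨c, hxc, hfc, hht, hdim⟩ := component_bound x _ {f} hts (by
      intro g hg; rw [Finset.mem_singleton] at hg; subst hg; exact ⟨d, hf⟩) hC
    rw [hdim]
    have hne : x ≠ c := by
      rintro rfl
      exact hfx (hfc rfl)
    have hlt := ht_strictMono (lt_of_le_of_ne hxc hne)
    simp only [Finset.card_singleton] at hht
    have hc := ht_le c
    have : n - ht c + 1 = n - ht x := by omega
    exact_mod_cast this

end Groth.Agent.S10822
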