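import Groth.Statements.S10823
import Groth.Agent.Lib.Helper1.ProjDimLoc

set_option autoImplicit false
universe u
open AlgebraicGeometry Topology TopologicalSpace
open Variety

namespace Groth.Agent.S10823

open Groth.Agent.Lib.Helper1.ProjDimPt Groth.Agent.Lib.Helper1.ProjDimTop
  Groth.Agent.Lib.Helper1.ProjDimLoc in

/-- Let k be a field, X an irreducible closed subset of projective n-space over k, and f_1, …, f_r
nonzero homogeneous polynomials of positive degrees in n + 1 variables. Then every irreducible
component C of X ∩ V_+(f_1, …, f_r) has codimension at most r in X, i.e. dim X ≤ dim C + r, and if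
dim X ≥ r the intersection is nonempty. -/
theorem result (k : Type u) [Field k] (n r : ℕ)
    (X : Set (ProjectiveSpectrum (CohB1.polyGrading n k))) (hXc : IsClosed X) (hXi : IsIrreducible X)
    (f : Fin r → MvPolynomial (Fin (n + 1)) k) (d : Fin r → ℕ)
    (hf : ∀ i, (f i).IsHomogeneous (d i)) (hd : ∀ i, 0 < d i) (hf0 : ∀ i, f i ≠ 0) :
    (∀ C ∈ irreducibleComponents ↥(X ∩ ProjectiveSpectrum.zeroLocus (CohB1.polyGrading n k) (Set.range f)),
        topologicalKrullDim ↥X ≤ topologicalKrullDim ↥C + (r : WithBot ℕ∞)) ∧
      ((r : WithBot ℕ∞) ≤ topologicalKrullDim ↥X →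
        (X ∩ ProjectiveSpectrum.zeroLocus (CohB1.polyGrading n k) (Set.range f)).Nonempty) := by
  classical
  obtain ⟨x, rfl⟩ := exists_eq_Ici hXc hXi
  have hts : Set.range f = ↑(Finset.univ.image f) := by simp
  have hcard : (Finset.univ.image f).card ≤ r := by
    simpa using Finset.card_image_le (s := Finset.univ) (f := f)
  have hdimX : topologicalKrullDim ↥(Set.Ici x) = ((n - ht x : ℕ) : WithBot ℕ∞) := by
    rw [topologicalKrullDim_Ici, coheight_eq]; rfl
  constructor
  · intro C hC
    obtain ⟨c, hxc, -, hht, hdim⟩ := component_bound x (Set.range f) (Finset.univ.image f) hts (by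
      intro g hg; obtain ⟨i, -, rfl⟩ := Finset.mem_image.mp hg; exact ⟨d i, hf i⟩) hC
    rw [hdimX, hdim]
    have : n - ht x ≤ n - ht c + r := by omega
    exact_mod_cast this
  · intro hr
    rw [hdimX] at hr
    have hr' : r ≤ n - ht x := by exact_mod_cast hr
    have := ht_le x
    exact inter_nonempty x (Set.range f) (Finset.univ.image f) hts (by
      intro g hg; obtain ⟨i, -, rfl⟩ := Finset.mem_image.mp hg; exact ⟨d i, hd i, hf i⟩) (by omega)

end Groth.Agent.S10823
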