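import Groth.Statements.S10830
-- import your own Groth.Agent.* helpers here

set_option autoImplicit false
universe u
open Topology TopologicalSpace
open TopDim

namespace Groth.Agent.S10830

/-- In an irreducible topological space X of finite Krull dimension, every proper closed subset Y has
strictly smaller Krull dimension than X. -/
theorem result (X : Type u) [TopologicalSpace X]
    [IrreducibleSpace X] (hfin : topologicalKrullDim X ≠ ⊤) (Y : Set X) (hY : IsClosed Y) (hYX : Y ≠ Set.univ) :
    topologicalKrullDim ↥Y < topologicalKrullDim X := by
  classical
  have hXne : Nonempty (IrreducibleCloseds X) :=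
    ⟨⟨Set.univ, (IrreducibleSpace.isIrreducible_univ X), isClosed_univ⟩⟩
  by_cases hne : Nonempty (IrreducibleCloseds ↥Y)
  · let top : IrreducibleCloseds X :=
      ⟨Set.univ, (IrreducibleSpace.isIrreducible_univ X), isClosed_univ⟩
    let g : WithTop (IrreducibleCloseds ↥Y) → IrreducibleCloseds X := fun a =>
      WithTop.recTopCoe (C := fun _ => IrreducibleCloseds X) top
        (fun Z => IrreducibleCloseds.map Subtype.val continuous_subtype_val Z) a
    have hg : StrictMono g := by
      intro a b hab
      induction a using WithTop.recTopCoe with
      | top => exact absurd hab (not_top_lt)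
      | coe a =>
        induction b using WithTop.recTopCoe with
        | top =>
          show IrreducibleCloseds.map Subtype.val continuous_subtype_val a < top
          refine lt_of_le_of_ne (fun x _ => Set.mem_univ x) ?_
          intro heq
          apply hYX
          have h1 : (IrreducibleCloseds.map Subtype.val continuous_subtype_val a : Set X) ⊆ Y := by
            rw [IrreducibleCloseds.coe_map]
            refine closure_minimal ?_ hY
            rintro _ ⟨y, _, rfl⟩
            exact y.2
          have h2 : (IrreducibleCloseds.map Subtype.val continuous_subtype_val a : Set X) =
              Set.univ := congrArg (fun Z : IrreducibleCloseds X => (Z : Set X)) heq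
          rw [h2] at h1
          exact Set.univ_subset_iff.mp h1
        | coe b =>
          have hab' : a < b := WithTop.coe_lt_coe.mp hab
          exact IrreducibleCloseds.map_strictMono_of_isInducing IsInducing.subtypeVal hab'
    have h1 : Order.krullDim (WithTop (IrreducibleCloseds ↥Y)) ≤ Order.krullDim (IrreducibleCloseds X) :=
      Order.krullDim_le_of_strictMono g hg
    rw [Order.krullDim_WithTop] at h1
    change Order.krullDim (IrreducibleCloseds ↥Y) < Order.krullDim (IrreducibleCloseds X)
    change Order.krullDim (IrreducibleCloseds X) ≠ ⊤ at hfin
    have hb0 : ⊥ < Order.krullDim (IrreducibleCloseds X) := Order.bot_lt_krullDim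
    generalize Order.krullDim (IrreducibleCloseds X) = b at *
    generalize Order.krullDim (IrreducibleCloseds ↥Y) = a at *
    induction a using WithBot.recBotCoe with
    | bot =>
      exact hb0
    | coe a =>
      induction b using WithBot.recBotCoe with
      | bot => simp at h1
      | coe b =>
        have hb : b ≠ ⊤ := fun h => hfin (by rw [h]; rfl)
        have h2 : a + 1 ≤ b := by exact_mod_cast h1
        have ha : a ≠ ⊤ := by
          rintro rfl
          simp at h2
          exact hb h2
        exact_mod_cast (ENat.add_one_le_iff ha).mp h2
  · rw [not_nonempty_iff] at hne
    change Order.krullDim (IrreducibleCloseds ↥Y) < Order.krullDim (IrreducibleCloseds X)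
    rw [Order.krullDim_eq_bot]
    exact Order.bot_lt_krullDim

end Groth.Agent.S10830
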