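import Groth.Statements.S10831
-- import your own Groth.Agent.* helpers here

set_option autoImplicit false
universe u
open Topology TopologicalSpace
open TopDim

namespace Groth.Agent.S10831

theorem isIrreducible_preimage_val {X : Type*} [TopologicalSpace X] (C Z : Set X) (hZC : Z ⊆ C)
    (hZ : IsIrreducible Z) : IsIrreducible ((Subtype.val : C → X) ⁻¹' Z) := by
  obtain ⟨⟨z, hz⟩, hpre⟩ := hZ
  refine ⟨⟨⟨z, hZC hz⟩, hz⟩, ?_⟩
  rintro u' v' hu' hv' ⟨a, haZ, hau⟩ ⟨b, hbZ, hbv⟩
  obtain ⟨u, hu, rfl⟩ := isOpen_induced_iff.mp hu'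
  obtain ⟨v, hv, rfl⟩ := isOpen_induced_iff.mp hv'
  obtain ⟨c, hcZ, hcu, hcv⟩ := hpre u v hu hv ⟨a, haZ, hau⟩ ⟨b, hbZ, hbv⟩
  exact ⟨⟨c, hZC hcZ⟩, hcZ, hcu, hcv⟩

/-- The Krull dimension of a topological space is the supremum of the Krull dimensions of its
irreducible components. -/
theorem result (X : Type u) [TopologicalSpace X] :
    topologicalKrullDim X = ⨆ Y ∈ irreducibleComponents X, topologicalKrullDim ↥Y := by
  apply le_antisymm
  · change Order.krullDim (IrreducibleCloseds X) ≤ _
    rw [Order.krullDim_eq_iSup_height]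
    refine iSup_le fun Z => ?_
    obtain ⟨C, hC, hZC⟩ :=
      exists_mem_irreducibleComponents_subset_of_isIrreducible (Z : Set X) Z.isIrreducible
    refine le_trans ?_ (le_iSup₂ (f := fun Y (_ : Y ∈ irreducibleComponents X) =>
      topologicalKrullDim ↥Y) C hC)
    rw [Order.height_eq_krullDim_Iic]
    let g : Set.Iic Z → IrreducibleCloseds ↥C := fun W =>
      ⟨(Subtype.val : C → X) ⁻¹' (W.1 : Set X),
        isIrreducible_preimage_val C _ (le_trans W.2 hZC) W.1.isIrreducible,
        W.1.isClosed.preimage continuous_subtype_val⟩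
    have hg : StrictMono g := by
      intro W₁ W₂ h
      have hle : (W₁.1 : Set X) ⊆ W₂.1 := h.le
      refine lt_of_le_of_ne (fun x hx => hle hx) ?_
      intro heq
      apply h.ne
      apply Subtype.ext
      apply IrreducibleCloseds.ext
      apply subset_antisymm hle
      intro x hx
      have hxC : x ∈ C := hZC (W₂.2 hx)
      have h1 : (⟨x, hxC⟩ : C) ∈ (g W₂ : Set C) := hx
      rw [← heq] at h1
      exact h1
    exact Order.krullDim_le_of_strictMono g hg
  · exact iSup₂_le fun Y _ => topologicalKrullDim_subspace_le X Y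

end Groth.Agent.S10831
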