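import Groth.Statements.S10840
import Groth.Agent.Lib.Helper1.ProjDimInter
import Groth.Agent.Lib.Helper1.ProjDimHyp

set_option autoImplicit false
universe u
open AlgebraicGeometry Topology
open Variety

namespace Groth.Agent.S10840

open Groth.Agent.Lib.Helper1.ProjDimPt Groth.Agent.Lib.Helper1.ProjDimTop
  Groth.Agent.Lib.Helper1.ProjDimLoc Groth.Agent.Lib.Helper1.ProjDimAlg
  Groth.Agent.Lib.Helper1.ProjDimInter Groth.Agent.Lib.Helper1.ProjDimHyp

/-- an irreducible factor of `f` lying in a prime ideal containing `f` -/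
theorem exists_irreducible_dvd_mem {R : Type*} [CommRing R] [IsDomain R]
    [UniqueFactorizationMonoid R] {P : Ideal R} (hP : P.IsPrime) {f : R} (hf0 : f ≠ 0)
    (hfP : f ∈ P) : ∃ p, Irreducible p ∧ p ∣ f ∧ p ∈ P := by
  obtain ⟨u, hu⟩ := UniqueFactorizationMonoid.factors_prod hf0
  have h1 : (UniqueFactorizationMonoid.factors f).prod ∈ P := by
    have : (UniqueFactorizationMonoid.factors f).prod = f * ((u⁻¹ : Rˣ) : R) := by
      conv_rhs => rw [← hu]
      simp [mul_assoc]
    rw [this]; exact P.mul_mem_right _ hfP
  obtain ⟨p, hp, hpP⟩ := (hP.multiset_prod_mem_iff_exists_mem _).mp h1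
  exact ⟨p, UniqueFactorizationMonoid.irreducible_of_factor p hp,
    UniqueFactorizationMonoid.dvd_of_mem_factors hp, hpP⟩

/-- For a field k and nonzero homogeneous polynomials f, g of positive degrees in three variables, the
common zero set V_+(f, g) in the projective plane over k is zero-dimensional as a topological
subspace exactly when f and g are coprime, i.e. their only common divisors are the non-zero
constants. -/
theorem result (k : Type u) [Field k] (n m : ℕ)
    (f g : MvPolynomial (Fin 3) k) (hf : f.IsHomogeneous n) (hg : g.IsHomogeneous m)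
    (hn : 0 < n) (hm : 0 < m) (hf0 : f ≠ 0) (hg0 : g ≠ 0) :
    topologicalKrullDim ↥(ProjectiveSpectrum.zeroLocus (CohB1.polyGrading 2 k)
        ({f, g} : Set (MvPolynomial (Fin 3) k))) = 0 ↔ IsRelPrime f g := by
  classical
  set W : Set (PS 2 k) := ProjectiveSpectrum.zeroLocus (CohB1.polyGrading 2 k)
    ({f, g} : Set (MvPolynomial (Fin 3) k)) with hW
  have hWc : IsClosed W := ProjectiveSpectrum.isClosed_zeroLocus _ _
  have hmemW : ∀ w : PS 2 k, w ∈ W ↔ f ∈ idl w ∧ g ∈ idl w := by
    intro w
    rw [hW, Groth.Agent.Lib.Helper1.ProjDimLoc.mem_zeroLocus_iff]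
    constructor
    · intro h; exact ⟨h (by simp), h (by simp)⟩
    · rintro ⟨h1, h2⟩ x hx
      rcases hx with rfl | rfl
      · exact h1
      · exact h2
  constructor
  · -- dim 0 ⇒ coprime
    intro hdim
    by_contra hrel
    rw [IsRelPrime] at hrel
    push Not at hrel
    obtain ⟨d, hdf, hdg, hdu⟩ := hrel
    have hd0 : d ≠ 0 := by
      rintro rfl
      exact hf0 (zero_dvd_iff.mp hdf)
    obtain ⟨p, hp, hpd⟩ := WfDvdMonoid.exists_irreducible_factor hdu hd0
    have hpf : p ∣ f := hpd.trans hdf
    have hpg : p ∣ g := hpd.trans hdg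
    obtain ⟨hqprime, hqht⟩ := height_span_irreducible (n := 2) (k := k) hp
    set q : Ideal (MvPolynomial (Fin (2 + 1)) k) := Ideal.span {p} with hq
    have hfq : f ∈ q := Ideal.mem_span_singleton.mpr hpf
    have hgq : g ∈ q := Ideal.mem_span_singleton.mpr hpg
    -- q is a minimal prime over span {f}
    have hfle : Ideal.span {f} ≤ q := (Ideal.span_singleton_le_iff_mem _).mpr hfq
    obtain ⟨q', hq', hq'le⟩ := Ideal.exists_minimalPrimes_le hfle
    haveI := hq'.1.1
    have hq'eq : q' = q := by
      by_contra hne
      have hlt : q' < q := lt_of_le_of_ne hq'le hne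
      have h1 : q'.height < q.height := Ideal.height_strict_mono_of_isPrime_of_isPrime hlt
      rw [hqht] at h1
      have hbot : (⊥ : Ideal (MvPolynomial (Fin (2 + 1)) k)) < q' := by
        refine lt_of_le_of_ne bot_le ?_
        intro hb
        have : f ∈ q' := hq'.1.2 (Ideal.subset_span rfl)
        rw [← hb] at this
        exact hf0 (by simpa using this)
      haveI : (⊥ : Ideal (MvPolynomial (Fin (2 + 1)) k)).IsPrime := Ideal.isPrime_bot
      have h2 : (⊥ : Ideal (MvPolynomial (Fin (2 + 1)) k)).height < q'.height :=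
        Ideal.height_strict_mono_of_isPrime_of_isPrime hbot
      have h3 : q'.height = 0 := by
        have := Order.lt_one_iff.mp h1
        exact this
      rw [h3] at h2
      exact absurd h2 (not_lt_bot)
    have hqhom : q.IsHomogeneous (CohB1.polyGrading 2 k) := by
      rw [← hq'eq]
      refine isHomogeneous_of_mem_minimalPrimes _ ?_ hq'
      refine Ideal.homogeneous_span _ _ ?_
      rintro x (rfl : x = f)
      exact ⟨n, hf⟩
    have hqne : q ≠ (HomogeneousIdeal.irrelevant (CohB1.polyGrading 2 k)).toIdeal := by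
      intro h
      have := height_irrelevant k 2
      rw [← h, hqht] at this
      norm_num at this
    set x : PS 2 k := mkPt q hqprime hqhom hqne with hx
    have hxW : x ∈ W := (hmemW x).mpr ⟨hfq, hgq⟩
    have hhtx : ht x = 1 := by
      have h1 := coe_ht x
      have h2 : idl x = q := rfl
      rw [h2, hqht] at h1
      exact_mod_cast h1
    have h1 := le_dim_of_mem hWc hxW
    rw [hdim, hhtx] at h1
    norm_num at h1
  · -- coprime ⇒ dim 0
    intro hrel
    have hne : W.Nonempty := by
      have := inter_nonempty (n := 2) (k := k) botPt ({f, g} : Set (MvPolynomial (Fin (2 + 1)) k))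
        ({f, g} : Finset (MvPolynomial (Fin (2 + 1)) k)) (by simp) (by
          intro a ha
          simp only [Finset.mem_insert, Finset.mem_singleton] at ha
          rcases ha with rfl | rfl
          · exact ⟨n, hn, hf⟩
          · exact ⟨m, hm, hg⟩) (by
          rw [ht_botPt]
          have := Finset.card_le_two (a := f) (b := g)
          omega)
      obtain ⟨w, -, hw⟩ := this
      exact ⟨w, hw⟩
    have hht : ∀ w ∈ W, ht w = 2 := by
      intro w hw
      obtain ⟨hfw, hgw⟩ := (hmemW w).mp hw
      haveI hwp : (idl w).IsPrime := w.isPrime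
      obtain ⟨p1, hp1, hp1f, hp1w⟩ := exists_irreducible_dvd_mem hwp hf0 hfw
      obtain ⟨p2, hp2, hp2g, hp2w⟩ := exists_irreducible_dvd_mem hwp hg0 hgw
      obtain ⟨hqprime, hqht⟩ := height_span_irreducible (n := 2) (k := k) hp1
      haveI := hqprime
      have hle : Ideal.span {p1} ≤ idl w := (Ideal.span_singleton_le_iff_mem _).mpr hp1w
      have hne' : Ideal.span {p1} ≠ idl w := by
        intro h
        have : p2 ∈ Ideal.span {p1} := h ▸ hp2w
        have hdvd : p1 ∣ p2 := Ideal.mem_span_singleton.mp this
        exact hp1.not_isUnit (hrel hp1f (hdvd.trans hp2g))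
      have hlt : Ideal.span {p1} < idl w := lt_of_le_of_ne hle hne'
      have h1 : (Ideal.span {p1}).height < (idl w).height :=
        Ideal.height_strict_mono_of_isPrime_of_isPrime hlt
      rw [hqht, ← coe_ht] at h1
      have h2 : 1 < ht w := by exact_mod_cast h1
      have h3 := ht_le w
      omega
    rw [topologicalKrullDim_closed hWc]
    haveI : Nonempty W := hne.to_subtype
    have : ∀ w : W, ((Order.coheight (w : PS 2 k) : ℕ∞) : WithBot ℕ∞) = 0 := by
      intro w
      rw [coheight_eq, hht w w.2]
      rfl
    simp only [this]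
    exact ciSup_const

end Groth.Agent.S10840
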