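import Groth.Statements.S10842
import Mathlib
-- import your own Groth.Agent.* helpers here

set_option autoImplicit false
universe u
open CategoryTheory AlgebraicGeometry
open Variety

namespace Groth.Agent.S10842

section H
namespace W34
open AlgebraicGeometry CategoryTheory TopologicalSpace
set_option backward.isDefEq.respectTransparency.types false

theorem primeIdealOf_le {X : Scheme.{u}} {U : X.Opens} (hU : IsAffineOpen U) (x c : X)
    (hx : x ∈ U) (hc : c ∈ U) (hxc : x ⤳ c) :
    (hU.primeIdealOf ⟨x, hx⟩).asIdeal ≤ (hU.primeIdealOf ⟨c, hc⟩).asIdeal := by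
  have h1 : (⟨x, hx⟩ : U) ⤳ ⟨c, hc⟩ := Topology.IsInducing.subtypeVal.specializes_iff.mp hxc
  have h2 : hU.primeIdealOf ⟨x, hx⟩ ⤳ hU.primeIdealOf ⟨c, hc⟩ :=
    h1.map (hU.isoSpec.hom.base.hom.continuous)
  exact (PrimeSpectrum.le_iff_specializes _ _).mpr h2

theorem main (X : Scheme.{u}) [CompactSpace ↥X]
    (h : ∀ x : X, IsClosed ({x} : Set X) →
      IsDomain (X.presheaf.stalk x) ∧ IsIntegrallyClosed (X.presheaf.stalk x)) :
    Pi1.IsNormalScheme X := by
  intro x
  obtain ⟨c, hc, hcl⟩ := (isClosed_closure (s := {x})).exists_closed_singleton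
    ⟨x, subset_closure rfl⟩
  have hxc : x ⤳ c := specializes_iff_mem_closure.mpr hc
  obtain ⟨hdom, hic⟩ := h c hcl
  obtain ⟨_, ⟨U, hU : IsAffineOpen U, rfl⟩, hcU, -⟩ :=
    X.isBasis_affineOpens.exists_subset_of_mem_open (Set.mem_univ c) isOpen_univ
  have hxU : x ∈ U := hxc.mem_open U.isOpen hcU
  have locS := hU.isLocalization_stalk ⟨c, hcU⟩
  have locT := hU.isLocalization_stalk ⟨x, hxU⟩
  let _ : Algebra Γ(X, U) (X.presheaf.stalk c) :=
    TopCat.Presheaf.algebra_section_stalk X.presheaf ⟨c, hcU⟩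
  let _ : Algebra Γ(X, U) (X.presheaf.stalk x) :=
    TopCat.Presheaf.algebra_section_stalk X.presheaf ⟨x, hxU⟩
  let _ : Algebra (X.presheaf.stalk c) (X.presheaf.stalk x) :=
    (X.presheaf.stalkSpecializes hxc).hom.toAlgebra
  have tower : IsScalarTower Γ(X, U) (X.presheaf.stalk c) (X.presheaf.stalk x) :=
    .of_algebraMap_eq' (by
      ext r
      exact (congrArg (fun k => k.hom r) (X.presheaf.germ_stalkSpecializes (U := U) hcU hxc)).symm)
  have hle : (hU.primeIdealOf ⟨c, hcU⟩).asIdeal.primeCompl ≤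
      (hU.primeIdealOf ⟨x, hxU⟩).asIdeal.primeCompl := by
    intro r hr hr'
    exact hr (primeIdealOf_le hU x c hxU hcU hxc hr')
  have loc := IsLocalization.isLocalization_of_submonoid_le (X.presheaf.stalk c)
    (X.presheaf.stalk x) _ _ hle
  have hnz : (hU.primeIdealOf ⟨x, hxU⟩).asIdeal.primeCompl.map
      (algebraMap Γ(X, U) (X.presheaf.stalk c)) ≤ nonZeroDivisors (X.presheaf.stalk c) := by
    rintro _ ⟨r, hr, rfl⟩
    apply mem_nonZeroDivisors_of_ne_zero
    intro h0
    have hu : IsUnit (algebraMap Γ(X, U) (X.presheaf.stalk x) r) :=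
      IsLocalization.map_units (X.presheaf.stalk x) ⟨r, hr⟩
    rw [IsScalarTower.algebraMap_apply Γ(X, U) (X.presheaf.stalk c) (X.presheaf.stalk x), h0,
      map_zero] at hu
    exact not_isUnit_zero hu
  exact ⟨IsLocalization.isDomain_of_le_nonZeroDivisors _ hnz,
    isIntegrallyClosed_of_isLocalization _ _ hnz⟩

end W34
end H


/-- A quasi-compact scheme whose local rings at all closed points are integrally closed domains is
normal, i.e. all of its local rings are integrally closed domains. -/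
theorem result (X : Scheme.{u}) [CompactSpace ↥X]
    (h : ∀ x : X, IsClosed ({x} : Set X) →
      IsDomain (X.presheaf.stalk x) ∧ IsIntegrallyClosed (X.presheaf.stalk x)) :
    Pi1.IsNormalScheme X := by
  exact W34.main X h

end Groth.Agent.S10842
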