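import Groth.Statements.S10844
import Groth.Agent.Lib.Helper6.DevCore
import Groth.Agent.Lib.Helper16.K0Supp

set_option autoImplicit false
universe u
open RepF

namespace Groth.Agent.S10844

open AlgebraicGeometry CategoryTheory in
/-- For a scheme S and a homomorphism v : E → F of quasi-coherent O_S-modules with F of finite type,
there is an open subscheme U of S such that a morphism of schemes f : T → S factors through U (its
image lies in U) if and only if the pulled-back homomorphism f^*v : f^*E → f^*F is an epimorphism. -/
theorem result {S : Scheme.{u}} {E F : S.Modules}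
    [Coh.IsQCoh E] [Coh.IsQCoh F] (hF : CohB1.IsFT F) (v : E ⟶ F) :
    ∃ U : S.Opens, ∀ (T : Scheme.{u}) (f : T ⟶ S),
      Set.range f.base ⊆ (U : Set S) ↔ Epi ((Scheme.Modules.pullback f).map v) := by
  haveI : E.IsQuasicoherent := ‹Coh.IsQCoh E›
  haveI : F.IsQuasicoherent := ‹Coh.IsQCoh F›
  haveI : SheafOfModules.IsFiniteType.{u} (R := S.ringCatSheaf) F := hF
  have hQ : CohB1.IsFT (Limits.cokernel v) := Groth.Agent.Lib.Helper17.CohKer.isFiniteType_cokernel v
  haveI hQq : (Limits.cokernel v).IsQuasicoherent :=
    Groth.Agent.Lib.Helper17.CohKer.isQuasicoherent_cokernel v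
  have hcl : IsClosed (CohB1.support (Limits.cokernel v)) := Groth.Agent.S0020.result S _ hQ
  refine ⟨⟨(CohB1.support (Limits.cokernel v))ᶜ, hcl.isOpen_compl⟩, fun T f => ?_⟩
  haveI : Limits.PreservesColimits (Scheme.Modules.pullback f) :=
    (Scheme.Modules.pullbackPushforwardAdjunction f).leftAdjoint_preservesColimits
  have e : (Scheme.Modules.pullback f).obj (Limits.cokernel v) ≅
      Limits.cokernel ((Scheme.Modules.pullback f).map v) := Limits.PreservesCokernel.iso _ _
  have hsupp := Groth.Agent.S4357.result f (Limits.cokernel v) hQ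
  constructor
  · intro h
    have h0 : CohB1.support ((Scheme.Modules.pullback f).obj (Limits.cokernel v)) = ∅ := by
      rw [hsupp]
      ext t
      simp only [Set.mem_preimage, Set.mem_empty_iff_false, iff_false]
      intro ht
      exact h ⟨t, rfl⟩ ht
    have hz := Groth.Agent.Lib.Helper6.DevCore.isZero_of_support_eq_empty _ h0
    have hz' : Limits.IsZero (Limits.cokernel ((Scheme.Modules.pullback f).map v)) := hz.of_iso e.symm
    exact Preadditive.epi_of_isZero_cokernel _ hz'
  · intro hepi
    have hz' : Limits.IsZero (Limits.cokernel ((Scheme.Modules.pullback f).map v)) := Limits.isZero_cokernel_of_epi _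
    have hz := hz'.of_iso e
    have h0 := Groth.Agent.Lib.Helper16.K0Supp.support_of_isZero hz
    rw [hsupp] at h0
    rintro _ ⟨t, rfl⟩ ht
    have : t ∈ f.base ⁻¹' CohB1.support (Limits.cokernel v) := ht
    rw [h0] at this
    exact this

end Groth.Agent.S10844
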