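import Groth.Statements.S10847
import Groth.Agent.Lib.Helper5.FittSheafE
import Groth.Agent.Lib.Helper5.FittSheafC
import Groth.Agent.Lib.Helper23.Fitting12

set_option autoImplicit false
universe u
open FlatMod

namespace Groth.Agent.S10847




open AlgebraicGeometry CategoryTheory in
/-- Let X be a scheme, F a finite-type quasi-coherent O_X-module and r a natural number. Then there is
an immersion i : Z → X (a subscheme of X) such that a morphism of schemes f : T → X factors through
i if and only if the pullback f^*F is finite locally free of rank r. -/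
theorem result {X : Scheme.{u}} (F : X.Modules)
    [Coh.IsQCoh F] (hF : CohB1.IsFT F) (r : ℕ) :
    ∃ (Z : Scheme.{u}) (i : Z ⟶ X), IsImmersion i ∧ ∀ (T : Scheme.{u}) (f : T ⟶ X),
      (∃ g : T ⟶ Z, g ≫ i = f) ↔ FlatMod.IsFinLocFreeOfRank r ((Scheme.Modules.pullback f).obj F) := by
  have sheafIdeal_mono : ∀ {Y : Scheme.{u}} (M : Y.Modules) [M.IsQuasicoherent]
      [SheafOfModules.IsFiniteType.{u} (R := Y.ringCatSheaf) M] {k k' : ℕ} (h : k ≤ k'),
      Fitt.sheafIdeal M k ≤ Fitt.sheafIdeal M k' := by
    intro Y M _ _ k k' h U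
    rw [Groth.Agent.Lib.Helper5.FittSheaf.sheafIdeal_ideal,
      Groth.Agent.Lib.Helper5.FittSheaf.sheafIdeal_ideal]
    have := Groth.Agent.Lib.Helper28.FinType.finite_of_isAffineOpen M U.2
    exact Helper23.Fit.ideal_mono_index h
  have comap_subschemeι_self : ∀ {Y : Scheme.{u}} (K : Y.IdealSheafData),
      K.comap K.subschemeι = ⊥ := by
    intro Y K
    rw [eq_bot_iff, ← Scheme.IdealSheafData.le_map_iff_comap_le, Scheme.IdealSheafData.map_bot,
      Scheme.IdealSheafData.ker_subschemeι]
  have hq : F.IsQuasicoherent := ‹Coh.IsQCoh F›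
  have hft : SheafOfModules.IsFiniteType.{u} (R := X.ringCatSheaf) F := hF
  let J : X.IdealSheafData := if r = 0 then ⊥ else Fitt.sheafIdeal F (r - 1)
  let I : X.IdealSheafData := Fitt.sheafIdeal F r
  let U : X.Opens := I.support.compl
  -- key equivalence
  have key : ∀ (T : Scheme.{u}) (f : T ⟶ X),
      FlatMod.IsFinLocFreeOfRank r ((Scheme.Modules.pullback f).obj F) ↔
        J.comap f = ⊥ ∧ I.comap f = ⊤ := by
    intro T f
    have := Groth.Agent.Lib.Helper17.TensorSupp.isFiniteType_pullback f F
    rw [Groth.Agent.Lib.Helper5.FittSheaf.isFinLocFreeOfRank_iff]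
    simp only [← Groth.Agent.Lib.Helper5.FittSheaf.sheafIdeal_comap]
    constructor
    · rintro ⟨h1, h2⟩
      refine ⟨?_, h2 r le_rfl⟩
      by_cases hr : r = 0
      · simp only [J, hr, if_true]
        exact Scheme.IdealSheafData.comap_bot f
      · simp only [J, hr, if_false]
        exact h1 (r - 1) (by omega)
    · rintro ⟨h1, h2⟩
      constructor
      · intro k hk
        have hr : r ≠ 0 := by omega
        simp only [J, hr, if_false] at h1
        rw [eq_bot_iff, ← h1]
        exact Scheme.IdealSheafData.comap_mono f (sheafIdeal_mono F (by omega))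
      · intro k hk
        rw [eq_top_iff, ← h2]
        exact Scheme.IdealSheafData.comap_mono f (sheafIdeal_mono F hk)
  refine ⟨(J.comap U.ι).subscheme, (J.comap U.ι).subschemeι ≫ U.ι, inferInstance, fun T f => ?_⟩
  rw [key]
  have hIU : I.comap U.ι = ⊤ := by
    rw [← Scheme.IdealSheafData.support_eq_bot_iff, Scheme.IdealSheafData.support_comap]
    ext x
    simp only [TopologicalSpace.Closeds.coe_preimage, Set.mem_preimage, SetLike.mem_coe,
      TopologicalSpace.Closeds.coe_bot, Set.mem_empty_iff_false, iff_false]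
    exact x.2
  constructor
  · rintro ⟨g, rfl⟩
    constructor
    · rw [Scheme.IdealSheafData.comap_comp, Scheme.IdealSheafData.comap_comp, comap_subschemeι_self,
        Scheme.IdealSheafData.comap_bot]
    · rw [Scheme.IdealSheafData.comap_comp, Scheme.IdealSheafData.comap_comp, hIU,
        Scheme.IdealSheafData.comap_top, Scheme.IdealSheafData.comap_top]
  · rintro ⟨h1, h2⟩
    have hrange : Set.range f ⊆ Set.range U.ι := by
      rintro _ ⟨t, rfl⟩
      rw [Scheme.Opens.range_ι]
      have h3 : (I.comap f).support = ⊥ := (Scheme.IdealSheafData.support_eq_bot_iff _).2 h2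
      rw [Scheme.IdealSheafData.support_comap] at h3
      intro ht
      have : t ∈ ((I.support.preimage f.continuous : TopologicalSpace.Closeds T) : Set T) := ht
      rw [h3] at this
      exact this
    let f' : T ⟶ U := IsOpenImmersion.lift U.ι f hrange
    have hf' : f' ≫ U.ι = f := IsOpenImmersion.lift_fac U.ι f hrange
    have h4 : (J.comap U.ι).comap f' = ⊥ := by
      rw [← Scheme.IdealSheafData.comap_comp, hf', h1]
    have h5 : (J.comap U.ι).subschemeι.ker ≤ f'.ker := by
      rw [Scheme.IdealSheafData.ker_subschemeι, ← Scheme.IdealSheafData.map_bot,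
        Scheme.IdealSheafData.le_map_iff_comap_le, h4]
    refine ⟨IsClosedImmersion.lift (J.comap U.ι).subschemeι f' h5, ?_⟩
    rw [← Category.assoc, IsClosedImmersion.lift_fac, hf']



end Groth.Agent.S10847
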