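import Groth.Statements.S10854
import Groth.Agent.Lib.Helper13.BiratOverFP

set_option autoImplicit false
universe u
open FinCond

namespace Groth.Agent.S10854

open AlgebraicGeometry CategoryTheory in
/-- Let S be a scheme and X, Y two S-schemes locally of finite presentation over S. Let x be a point of
X and y a point of Y over the same point of S, and let φ : O_{Y,y} → O_{X,x} be an isomorphism
compatible with the two homomorphisms from the local ring of S. Then there exist open neighbourhoods
U of x and V of y and an S-isomorphism f : U → V whose composite with Spec O_{X,x} → U and V → Y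
equals Spec φ followed by Spec O_{Y,y} → Y. (The published statement assumes the finiteness
conditions only at the points x and y; this row assumes them everywhere.) -/
theorem result
    {X Y S : Scheme.{u}} (sX : X ⟶ S) (sY : Y ⟶ S)
    [LocallyOfFinitePresentation sX] [LocallyOfFinitePresentation sY]
    {x : X} {y : Y} (e : sX x = sY y)
    (φ : Y.presheaf.stalk y ⟶ X.presheaf.stalk x) [IsIso φ]
    (h : sY.stalkMap y ≫ φ =
      S.presheaf.stalkSpecializes (Inseparable.of_eq e).specializes ≫ sX.stalkMap x) :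
    ∃ (U : X.Opens) (hxU : x ∈ U) (V : Y.Opens) (f : U.toScheme ⟶ V.toScheme), IsIso f ∧
      Spec.map φ ≫ Y.fromSpecStalk y = U.fromSpecStalkOfMem x hxU ≫ f ≫ V.ι ∧
        f ≫ V.ι ≫ sY = U.ι ≫ sX := by
  obtain ⟨U0, hxU0, f0, hf1, hf2⟩ :=
    Groth.Agent.Lib.Helper13.SpreadFP.spread_out_of_finitePresentation sX sY e φ h
  obtain ⟨hfy, hfiso⟩ := Groth.Agent.Lib.Helper13.BiratOver.stalk_info x hxU0 y f0 φ hf1
  haveI : LocallyOfFinitePresentation (f0 ≫ sY) := by rw [hf2]; infer_instance
  haveI : LocallyOfFinitePresentation f0 :=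
    Groth.Agent.Lib.Helper13.BiratOverFP.locallyOfFinitePresentation_of_comp f0 sY
  obtain ⟨U', hxU', hoi⟩ :=
    Groth.Agent.Lib.Helper13.LocalIsoFP.exists_isOpenImmersion_of_isIso_stalkMap f0 ⟨x, hxU0⟩ hfiso
  have hxU : x ∈ U0.ι ''ᵁ U' := ⟨⟨x, hxU0⟩, hxU', rfl⟩
  refine ⟨U0.ι ''ᵁ U', hxU, (U'.ι ≫ f0).opensRange,
    (U0.ι.isoImage U').inv ≫ (U'.ι ≫ f0).isoOpensRange.hom, inferInstance, ?_, ?_⟩
  · rw [hf1, Category.assoc, Scheme.Hom.isoOpensRange_hom_ι, ← Category.assoc, ← Category.assoc]
    congr 1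
    rw [← cancel_mono U0.ι, Scheme.Opens.fromSpecStalkOfMem_ι, Category.assoc, Category.assoc,
      ← Scheme.Hom.isoImage_hom_ι, Iso.inv_hom_id_assoc, Scheme.Opens.fromSpecStalkOfMem_ι]
  · rw [Category.assoc, Scheme.Hom.isoOpensRange_hom_ι_assoc, Category.assoc, hf2,
      ← Category.assoc U'.ι, ← Scheme.Hom.isoImage_hom_ι, Category.assoc, Iso.inv_hom_id_assoc]

end Groth.Agent.S10854
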