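import Groth.Statements.S10855
import Groth.Agent.Lib.Helper29.IdealComap

set_option autoImplicit false
universe u
open BlowUp

namespace Groth.Agent.S10855




open AlgebraicGeometry CategoryTheory in
/-- Let f : X → Y be a flat morphism of schemes and 𝓘 the quasi-coherent ideal sheaf of an effective
Cartier divisor on Y (near every point generated on an affine open by one non-zero-divisor). Then
the inverse image ideal sheaf of 𝓘 on X is again the ideal of an effective Cartier divisor: the
subscheme f⁻¹(Z) is an effective Cartier divisor on X. (The published corollary also identifies this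
divisor with the pullback of Z as a divisor; that clause is not included here.) -/
theorem result {X Y : Scheme.{u}} (f : X ⟶ Y) [Flat f]
    (𝓘 : Y.IdealSheafData) (hD : BlowUp.IsEffCartierIdeal 𝓘) :
    BlowUp.IsEffCartierIdeal (𝓘.comap f) := by
  open Groth.Agent.Lib.Helper29.EffCart in
  intro x
  obtain ⟨V, hyV, g, hgnzd, hg⟩ := hD (f x)
  obtain ⟨_, ⟨U, hU, rfl⟩, hxU, hUV⟩ :=
    X.isBasis_affineOpens.exists_subset_of_mem_open (show x ∈ f ⁻¹ᵁ V.1 from hyV) (f ⁻¹ᵁ V.1).2
  have e : U ≤ f ⁻¹ᵁ V.1 := hUV
  refine ⟨⟨U, hU⟩, hxU, (f.appLE V.1 U e).hom g, ?_, ?_⟩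
  · have hflat : (f.appLE V.1 U e).hom.Flat :=
      HasRingHomProperty.appLE (P := @Flat) f inferInstance V ⟨U, hU⟩ e
    letI := (f.appLE V.1 U e).hom.toAlgebra
    have hM : Module.Flat Γ(Y, V.1) Γ(X, U) := hflat
    have hreg := Module.Flat.isSMulRegular_of_nonZeroDivisors (M := Γ(X, U)) hgnzd
    rw [mem_nonZeroDivisors_iff_right]
    intro b hb
    apply hreg
    change g • b = g • (0 : Γ(X, U))
    rw [smul_zero, Algebra.smul_def, mul_comm]
    exact hb
  · rw [ideal_comap_eq_map 𝓘 f V ⟨U, hU⟩ e, hg, Ideal.map_span, Set.image_singleton]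

end Groth.Agent.S10855
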