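import Groth.Statements.S10856
import Groth.Agent.Lib.Helper29.MeroDiv2

set_option autoImplicit false
universe u
open Mero

namespace Groth.Agent.S10856




open AlgebraicGeometry CategoryTheory TopologicalSpace in
/-- Let X be a scheme and f a global section of the sheaf of meromorphic functions K_X. The domain of
definition of f, i.e. the set of points x whose value f_x ∈ K_{X,x} lies in the image of the local
ring O_{X,x}, is the underlying set of an open subscheme D of X, and D is schematically dense in X: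
for every open subset V of X the restriction map from sections of O_X over V to sections over V ∩ D
is injective. -/
theorem result {X : Scheme.{u}} (f : Γ(Mero.kmod X, ⊤)) :
    ∃ D : X.Opens,
      (D : Set X) = {x | f.1 ⟨x, Opens.mem_top x⟩ ∈ (algebraMap (X.presheaf.stalk x) (Mero.KStalk X x)).range} ∧
        ∀ V : X.Opens, Function.Injective (X.presheaf.map (homOfLE (inf_le_left : V ⊓ D ≤ V)).op) := by
  have hopen : IsOpen {x : X | f.1 ⟨x, Opens.mem_top x⟩ ∈
      (algebraMap (X.presheaf.stalk x) (Mero.KStalk X x)).range} := by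
    rw [isOpen_iff_forall_mem_open]
    rintro x ⟨rx, hrx⟩
    obtain ⟨W, hxW, i, a, b, hab⟩ := f.2 ⟨x, Opens.mem_top x⟩
    obtain ⟨W', hxW', r, rfl⟩ := TopCat.Presheaf.exists_germ_eq X.presheaf rx
    have h1 := hab ⟨x, hxW⟩
    dsimp only at h1
    change f.1 ⟨x, _⟩ = _ at h1
    rw [h1, Groth.Agent.Lib.Helper29.MeroDiv.algebraMap_eq_mk_iff] at hrx
    -- on `W ⊓ W'`
    have h2 : X.presheaf.germ (W ⊓ W') x ⟨hxW, hxW'⟩
        (X.presheaf.map (homOfLE inf_le_right).op r * X.presheaf.map (homOfLE inf_le_left).op b.1) =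
        X.presheaf.germ (W ⊓ W') x ⟨hxW, hxW'⟩ (X.presheaf.map (homOfLE inf_le_left).op a) := by
      rw [map_mul, TopCat.Presheaf.germ_res_apply, TopCat.Presheaf.germ_res_apply,
        TopCat.Presheaf.germ_res_apply]
      exact hrx
    obtain ⟨W'', hxW'', j, j', hj⟩ := TopCat.Presheaf.germ_eq X.presheaf x (show x ∈ W ⊓ W' from ⟨hxW, hxW'⟩)
      (show x ∈ W ⊓ W' from ⟨hxW, hxW'⟩) _ _ h2
    refine ⟨W'', ?_, W''.2, hxW''⟩
    intro y hy
    have hyW : y ∈ W := (j.le hy).1
    have hyW' : y ∈ W' := (j.le hy).2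
    refine ⟨X.presheaf.germ W' y hyW' r, ?_⟩
    have h3 := hab ⟨y, hyW⟩
    dsimp only at h3
    change f.1 ⟨y, _⟩ = _ at h3
    rw [h3, Groth.Agent.Lib.Helper29.MeroDiv.algebraMap_eq_mk_iff]
    have h4 := congrArg (X.presheaf.germ W'' y hy) hj
    rw [TopCat.Presheaf.germ_res_apply, TopCat.Presheaf.germ_res_apply, map_mul,
      TopCat.Presheaf.germ_res_apply, TopCat.Presheaf.germ_res_apply,
      TopCat.Presheaf.germ_res_apply] at h4
    exact h4
  refine ⟨⟨_, hopen⟩, rfl, fun V => ?_⟩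
  rw [← RingHom.coe_coe, injective_iff_map_eq_zero]
  intro g hg
  apply TopCat.Presheaf.section_ext X.sheaf V g 0
  intro x hx
  change X.presheaf.germ V x hx g = X.presheaf.germ V x hx 0
  rw [map_zero]
  obtain ⟨W₀, hxW₀, i, a, b, hab⟩ := f.2 ⟨x, Opens.mem_top x⟩
  obtain ⟨_, ⟨W, hW, rfl⟩, hxW, hWV⟩ := X.isBasis_affineOpens.exists_subset_of_mem_open
    (show x ∈ ((W₀ ⊓ V : X.Opens) : Set X) from ⟨hxW₀, hx⟩) (W₀ ⊓ V).2
  have hWW₀ : W ≤ W₀ := fun y hy => (hWV hy).1
  have hWV' : W ≤ V := fun y hy => (hWV hy).2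
  set b' := X.presheaf.map (homOfLE hWW₀).op b.1 with hb'
  have hb'reg : b' ∈ regSub X W := regSub_res _ b.2
  have hb'nzd : b' ∈ nonZeroDivisors Γ(X, W) := by
    rw [← Groth.Agent.S12513.result X W hW]; exact hb'reg
  set g' := X.presheaf.map (homOfLE hWV').op g with hg'
  have hgerm : ∀ (y : X) (hy : y ∈ V), f.1 ⟨y, Opens.mem_top y⟩ ∈
      (algebraMap (X.presheaf.stalk y) (Mero.KStalk X y)).range → X.presheaf.germ V y hy g = 0 := by
    intro y hy hyD
    have := congrArg (X.presheaf.germ (V ⊓ ⟨_, hopen⟩) y ⟨hy, hyD⟩) hg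
    rw [map_zero] at this
    rw [← this]
    exact (TopCat.Presheaf.germ_res_apply X.presheaf _ y _ g).symm
  have hres : algebraMap Γ(X, W) Γ(X, X.basicOpen b') g' = 0 := by
    apply TopCat.Presheaf.section_ext X.sheaf (X.basicOpen b')
    intro y hy
    have hyW : y ∈ W := X.basicOpen_le b' hy
    change X.presheaf.germ (X.basicOpen b') y hy
      (X.presheaf.map (homOfLE (X.basicOpen_le b')).op g') = X.presheaf.germ _ y hy 0
    rw [map_zero, TopCat.Presheaf.germ_res_apply, hg', TopCat.Presheaf.germ_res_apply]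
    apply hgerm y (hWV' hyW)
    have hu : IsUnit (X.presheaf.germ W y hyW b') := (X.mem_basicOpen b' y hyW).1 hy
    obtain ⟨u, hu⟩ := hu
    have h3 := hab ⟨y, hWW₀ hyW⟩
    dsimp only at h3
    change f.1 ⟨y, _⟩ = _ at h3
    refine ⟨X.presheaf.germ W₀ y (hWW₀ hyW) a * ((u⁻¹ : (X.presheaf.stalk y)ˣ) : X.presheaf.stalk y), ?_⟩
    rw [h3, Groth.Agent.Lib.Helper29.MeroDiv.algebraMap_eq_mk_iff]
    have h4 : ((regGerm ⟨y, hWW₀ hyW⟩ b : regStalk X y) : X.presheaf.stalk y) = u := by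
      rw [hu, hb', TopCat.Presheaf.germ_res_apply]
    rw [h4, mul_assoc, Units.inv_mul, mul_one]
  haveI := hW.isLocalization_basicOpen b'
  obtain ⟨⟨_, n, rfl⟩, hn⟩ := (IsLocalization.map_eq_zero_iff (Submonoid.powers b')
    Γ(X, X.basicOpen b') g').1 hres
  have hg'0 : g' = 0 := (mem_nonZeroDivisors_iff.1 (pow_mem hb'nzd n)).1 _ hn
  have := congrArg (X.presheaf.germ W x hxW) hg'0
  rw [hg', TopCat.Presheaf.germ_res_apply, map_zero] at this
  exact this



end Groth.Agent.S10856
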