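import Groth.Statements.S10857
import Groth.Agent.Lib.Helper28.FinType
import Groth.Agent.Lib.Helper28.ModIsoCover
import Groth.Agent.S8306
import Groth.Agent.Lib.Helper29.FilColimSecAff

set_option autoImplicit false
universe u
open QCohSup

namespace Groth.Agent.S10857



section Helpers
open AlgebraicGeometry CategoryTheory CategoryTheory.Limits TopologicalSpace
open Groth.Agent.Lib.Helper28.QCohLoc Groth.Agent.Lib.Helper29.FilColimSec

theorem key {X : Scheme.{u}}
    {J : Type u} [SmallCategory J] [IsFiltered J] (D : J ⥤ X.Modules)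
    (c : Cocone D) (hc : IsColimit c) [Coh.IsQCoh c.pt]
    (F : X.Modules) [Coh.IsQCoh F] (hF : CohB1.IsFT F) (u : c.pt ⟶ F) [Epi u]
    {U : X.Opens} (hU : IsAffineOpen U) :
    ∃ jU : J, ∀ j : J, Nonempty (jU ⟶ j) → Function.Surjective ((c.ι.app j ≫ u).app U) := by
  classical
  haveI : SheafOfModules.IsFiniteType.{u} (R := X.ringCatSheaf) F := hF
  haveI : Module.Finite Γ(X, U) Γ(F, U) := Groth.Agent.Lib.Helper28.FinType.finite_of_isAffineOpen F hU
  obtain ⟨S, hS⟩ := (Module.Finite.fg_top : (⊤ : Submodule Γ(X, U) Γ(F, U)).FG)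
  have h1 : ∀ s : Γ(F, U), ∃ (j : J) (r : Γ(D.obj j, U)), (c.ι.app j ≫ u).app U r = s := by
    intro s
    obtain ⟨t, ht⟩ := Groth.Agent.S8306.surjective_app_of_epi u hU s
    obtain ⟨j, r, hr⟩ := sec_surj_affine hc hU t
    refine ⟨j, r, ?_⟩
    change u.app U ((c.ι.app j).app U r) = s
    rw [hr, ht]
  choose js rs hrs using h1
  obtain ⟨jU, hjU⟩ := IsFiltered.sup_objs_exists (S.image js)
  refine ⟨jU, fun j ⟨w⟩ => ?_⟩
  let N : Submodule Γ(X, U) Γ(F, U) :=
    { carrier := Set.range ((c.ι.app j ≫ u).app U)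
      add_mem' := by
        rintro _ _ ⟨a, rfl⟩ ⟨b, rfl⟩
        exact ⟨a + b, map_add _ _ _⟩
      zero_mem' := ⟨0, map_zero _⟩
      smul_mem' := by
        rintro a _ ⟨r, rfl⟩
        exact ⟨a • r, Scheme.Modules.Hom.app_smul _ a r⟩ }
  have hrange : N = ⊤ := by
    rw [eq_top_iff, ← hS, Submodule.span_le]
    intro s hs
    obtain ⟨w'⟩ := hjU (Finset.mem_image_of_mem js hs)
    refine ⟨(D.map (w' ≫ w)).app U (rs s), ?_⟩
    have h2 : D.map (w' ≫ w) ≫ c.ι.app j = c.ι.app (js s) := c.w (w' ≫ w)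
    have h3 : (c.ι.app j ≫ u).app U ((D.map (w' ≫ w)).app U (rs s)) = (c.ι.app (js s) ≫ u).app U (rs s) := by
      rw [← h2]; rfl
    exact h3.trans (hrs s)
  intro s
  have : s ∈ N := by rw [hrange]; trivial
  exact this

end Helpers

open AlgebraicGeometry CategoryTheory CategoryTheory.Limits in
/-- Take a quasi-compact scheme X, a finite-type quasi-coherent O_X-module F, and G a quasi-coherent
O_X-module which is the colimit of a filtered diagram of quasi-coherent O_X-modules G_j. A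
homomorphism u : G → F is an epimorphism if and only if there is an index j₀ such that for every
index j admitting a map from j₀ the composite G_j → G → F is an epimorphism. -/
theorem result {X : Scheme.{u}} [CompactSpace X]
    {J : Type u} [SmallCategory J] [IsFiltered J] (D : J ⥤ X.Modules) [∀ j, Coh.IsQCoh (D.obj j)]
    (c : Cocone D) (hc : IsColimit c) [Coh.IsQCoh c.pt]
    (F : X.Modules) [Coh.IsQCoh F] (hF : CohB1.IsFT F) (u : c.pt ⟶ F) :
    Epi u ↔ ∃ j₀ : J, ∀ j : J, Nonempty (j₀ ⟶ j) → Epi (c.ι.app j ≫ u) := by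
  classical
  constructor
  · intro hu
    have hnb : ∀ x : X, ∃ U : X.Opens, IsAffineOpen U ∧ x ∈ U := by
      intro x
      obtain ⟨V, hV, hxV, -⟩ := (TopologicalSpace.Opens.isBasis_iff_nbhd.1 X.isBasis_affineOpens)
        (TopologicalSpace.Opens.mem_top x)
      exact ⟨V, hV, hxV⟩
    choose U hUa hxU using hnb
    obtain ⟨t, ht⟩ := CompactSpace.elim_nhds_subcover (fun x => (U x : Set X))
      (fun x => (U x).isOpen.mem_nhds (hxU x))
    have hk := fun x => key D c hc F hF u (hUa x)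
    choose jU hjU using hk
    obtain ⟨j₀, hj₀⟩ := IsFiltered.sup_objs_exists (t.image jU)
    refine ⟨j₀, fun j ⟨w⟩ => ?_⟩
    refine Groth.Agent.Lib.Helper28.QCohLoc.epi_of_affine_cover (c.ι.app j ≫ u) (fun x : t => U x.1) (fun x => hUa x.1) ?_
      (fun x => Groth.Agent.Lib.Helper28.QCohLoc.isLocOn_of_isQuasicoherent F (hUa x.1)) ?_
    · intro y
      have hy : y ∈ ⋃ x ∈ t, (U x : Set X) := by rw [ht]; trivial
      obtain ⟨x, hx⟩ := Set.mem_iUnion.1 hy
      obtain ⟨hxt, hyx⟩ := Set.mem_iUnion.1 hx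
      exact ⟨⟨x, hxt⟩, hyx⟩
    · intro x
      obtain ⟨w'⟩ := hj₀ (Finset.mem_image_of_mem jU x.2)
      exact hjU x.1 j ⟨w' ≫ w⟩
  · rintro ⟨j₀, h⟩
    haveI := h j₀ ⟨𝟙 _⟩
    exact epi_of_epi (c.ι.app j₀) u



end Groth.Agent.S10857
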