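import Groth.Statements.S10860
import Groth.Agent.Lib.Helper13.RestrictSSup

set_option autoImplicit false
universe u
open Mor

namespace Groth.Agent.S10860

open CategoryTheory AlgebraicGeometry in
/-- For a proper morphism f : X → Y, the set V of points of Y with finite fibre is open, and f
restricted over V is finite (stated as the existence of an open subscheme of Y whose underlying set
is exactly V and over which f is finite). -/
theorem result {X Y : Scheme.{u}} (f : X ⟶ Y) [IsProper f] :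
    ∃ U : Y.Opens, (U : Set Y) = {y : Y | (f.base ⁻¹' {y}).Finite} ∧ IsFinite (f ∣_ U) := by
  classical
  let 𝒱 : Set Y.Opens := {V | IsFinite (f ∣_ V)}
  have hfin : IsFinite (f ∣_ sSup 𝒱) :=
    Groth.Agent.Lib.Helper13.RestrictSSup.morphismRestrict_sSup @IsFinite f 𝒱 (fun V hV => hV)
  refine ⟨sSup 𝒱, ?_, hfin⟩
  ext y
  constructor
  · intro hy
    have hy' : y ∈ sSup 𝒱 := hy
    haveI := hfin
    have h1 := (f ∣_ sSup 𝒱).finite_preimage_singleton ⟨y, hy'⟩
    have h2 : f.base ⁻¹' {y} ⊆ (f ⁻¹ᵁ sSup 𝒱).ι.base '' ((f ∣_ sSup 𝒱).base ⁻¹' {⟨y, hy'⟩}) := by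
      intro z hz
      have hz' : f.base z = y := hz
      have hzU : z ∈ f ⁻¹ᵁ sSup 𝒱 := by
        change f.base z ∈ sSup 𝒱
        rw [hz']; exact hy'
      refine ⟨⟨z, hzU⟩, ?_, rfl⟩
      change (f ∣_ sSup 𝒱).base ⟨z, hzU⟩ = ⟨y, hy'⟩
      apply Subtype.ext
      have := congrArg (fun g => g.base ⟨z, hzU⟩) (morphismRestrict_ι f (sSup 𝒱))
      exact this.trans hz'
    exact (h1.image _).subset h2
  · intro hy
    obtain ⟨V, hyV, hV⟩ := exists_isFinite_morphismRestrict_of_finite_preimage_singleton f y hy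
    change y ∈ sSup 𝒱
    rw [TopologicalSpace.Opens.mem_sSup]
    exact ⟨V, hV, hyV⟩

end Groth.Agent.S10860
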