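import Groth.Statements.S10865
import Groth.Agent.Lib.Helper6.DevRoots
import Groth.Agent.Lib.Helper6.DevChev

set_option autoImplicit false
universe u
open Coherent

namespace Groth.Agent.S10865

open CategoryTheory CategoryTheory.Limits AlgebraicGeometry in
/-- Let X be a nonempty Noetherian scheme and K an isomorphism-closed class of O_X-modules such that (a)
in a short exact sequence of coherent modules, if the middle and right terms lie in K so does the
left one, and if the two outer terms lie in K so does the middle one; (b) if a coherent F has some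
d-fold direct sum (d ≥ 1) in K then F lies in K. If for every integral closed subscheme i : Z → X
there is a coherent O_Z-module with nonzero stalk at the generic point whose direct image under i
lies in K, then every coherent O_X-module lies in K. (For the empty scheme the hypotheses hold for
the empty class, so X is taken nonempty here.) -/
theorem result (X : Scheme.{u}) [IsNoetherian X] [Nonempty X]
    (K : ObjectProperty X.Modules) [K.IsClosedUnderIsomorphisms]
    (ha : ∀ S : ShortComplex X.Modules, S.ShortExact → Coh.IsCoh S.X₁ → Coh.IsCoh S.X₂ → Coh.IsCoh S.X₃ →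
      (K S.X₂ → K S.X₃ → K S.X₁) ∧ (K S.X₁ → K S.X₃ → K S.X₂))
    (hb : ∀ (F : X.Modules) (d : ℕ), 1 ≤ d → Coh.IsCoh F → K (∐ fun _ : Fin d => F) → K F)
    (hgen : ∀ (Z : Scheme.{u}) (i : Z ⟶ X) [IsClosedImmersion i] [IsIntegral Z],
      ∃ H : Z.Modules, Coh.IsCoh H ∧ Nontrivial (H.presheaf.stalk (genericPoint Z)) ∧
        K ((Scheme.Modules.pushforward i).obj H))
    (F : X.Modules) (hF : Coh.IsCoh F) : K F := by
  classical
  open Groth.Agent.Lib.Helper6.DevCore Groth.Agent.Lib.Helper6.DevStep Groth.Agent.Lib.Helper6.DevRed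
    Groth.Agent.Lib.Helper6.DevExt Groth.Agent.Lib.Helper6.DevIdeal Groth.Agent.Lib.Helper6.DevRoots
    Groth.Agent.Lib.Helper6.DevChev Groth.Agent.Lib.Helper6.IdealMul Groth.Agent.Lib.Helper17.CohKer
    Groth.Agent.Lib.Helper17.StalkExact in
  have hP : ∀ M N : X.Modules, Nonempty (M ≅ N) → K M → K N := fun M N ⟨e⟩ h => K.prop_of_iso e h
  have h₁ : ∀ S : ShortComplex X.Modules, S.ShortExact → Coh.IsCoh S.X₁ → Coh.IsCoh S.X₂ → Coh.IsCoh S.X₃ →
      K S.X₁ → K S.X₃ → K S.X₂ := fun S hS c1 c2 c3 => (ha S hS c1 c2 c3).2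
  have h₂ : ∀ (F : X.Modules) (r : ℕ), Coh.IsCoh F → 1 ≤ r → K (∐ fun _ : Fin r => F) → K F :=
    fun F r hF hr h => hb F r hr hF h
  -- a witness for each irreducible closed subset
  have hwit : ∀ (Z : TopologicalSpace.Closeds X), IsIrreducible (Z : Set X) → ∀ y : X, closure {y} = (Z : Set X) →
      ∃ G : X.Modules, Coh.IsCoh G ∧ K G ∧ y ∈ CohB1.support G ∧ CohB1.support G ⊆ (Z : Set X) ∧
        ∀ a ∈ IsLocalRing.maximalIdeal (X.presheaf.stalk y), ∀ m : ↑(G.presheaf.stalk y), a • m = 0 := by
    intro Z hirr y hy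
    haveI hint := isIntegral_subscheme_vanishingIdeal Z hirr
    obtain ⟨H, hH, hHnt, hKH⟩ := hgen _ (Scheme.IdealSheafData.vanishingIdeal Z).subschemeι
    have hG : Coh.IsCoh ((Coh.push (Scheme.IdealSheafData.vanishingIdeal Z).subschemeι).obj H) :=
      isCoh_push_of_isFinite _ H hH
    refine ⟨(Coh.push (Scheme.IdealSheafData.vanishingIdeal Z).subschemeι).obj H, hG, hKH, ?_, ?_,
      fun a ha m => maximalIdeal_smul_push_subscheme Z y hy H a ha m⟩
    · have hgy : (Scheme.IdealSheafData.vanishingIdeal Z).subschemeι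
          (genericPoint (Scheme.IdealSheafData.vanishingIdeal Z).subscheme) = y :=
        closedImmersion_genericPoint _ y (by rw [range_subschemeι_vanishingIdeal]; exact hy)
      have := nontrivial_stalk_push (Scheme.IdealSheafData.vanishingIdeal Z).subschemeι
        (Scheme.IdealSheafData.vanishingIdeal Z).subschemeι.isClosedEmbedding.isInducing H _ hHnt
      rw [hgy] at this
      exact not_subsingleton_iff_nontrivial.2 this
    · haveI : ((Coh.push (Scheme.IdealSheafData.vanishingIdeal Z).subschemeι).obj H).IsQuasicoherent := hG.1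
      have h := Groth.Agent.S0792.support_subset_range (Scheme.IdealSheafData.vanishingIdeal Z).subschemeι H
        _ (Iso.refl _)
      rw [range_subschemeι_vanishingIdeal] at h
      exact h
  -- zero modules
  have h0 : ∀ N : X.Modules, IsZero N → K N := by
    intro N hN
    obtain ⟨x⟩ := ‹Nonempty X›
    let Zc : TopologicalSpace.Closeds X := ⟨closure {x}, isClosed_closure⟩
    obtain ⟨G, hG, hKG, -⟩ := hwit Zc isIrreducible_singleton.closure x rfl
    let S : ShortComplex X.Modules := ShortComplex.mk (0 : N ⟶ G) (𝟙 G) zero_comp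
    have hS : S.ShortExact := by
      haveI : Mono S.f := ⟨fun g h _ => hN.eq_of_tgt g h⟩
      haveI : Epi S.g := inferInstanceAs (Epi (𝟙 G))
      refine ShortComplex.ShortExact.mk' ?_ inferInstance inferInstance
      rw [ShortComplex.exact_iff_mono S (rfl : S.f = 0)]
      exact inferInstanceAs (Mono (𝟙 G))
    exact (ha S hS (isCoh_of_isZero hN) hG hG).1 hKG hKG
  refine devissage_core K h₁ h0 Set.univ ?_ isClosed_univ F hF (Set.subset_univ _)
  intro Z hZ hirr _ y hy IH Q hQ hQZ hyQ
  refine step_ext K hP h₁ ⟨Z, hZ⟩ hirr y hy ?_ IH Q hQ hQZ hyQ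
  intro N j hj hN
  obtain ⟨G, hG, hKG, hyG, hGZ, hGm⟩ := hwit ⟨Z, hZ⟩ hirr y hy
  refine ideal_case K hP h₁ h₂ ⟨Z, hZ⟩ hirr y hy IH G hG hyG hGm ?_ N j hj hN
  intro J hJ
  haveI : G.IsQuasicoherent := hG.1
  haveI : SheafOfModules.IsFiniteType.{u} (R := X.ringCatSheaf) G := hG.2
  haveI hJq : ((Dual3.idealMul J).obj G).IsQuasicoherent := isQuasicoherent_idealMul J G
  have hbij := stalkHom_idealMulι_bijective J G y hJ
  refine ⟨(Dual3.idealMul J).obj G, 𝟙 _, inferInstance, hJq, ?_, ?_⟩
  · rw [Category.id_comp]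
    change IsIso ((stalkFunctor y).map (Dual3.idealMulι J G))
    rw [ConcreteCategory.isIso_iff_bijective]
    exact hbij
  · let S : ShortComplex X.Modules := ShortComplex.mk (Dual3.idealMulι J G) (cokernel.π _) (cokernel.condition _)
    have hS : S.ShortExact :=
      ShortComplex.ShortExact.mk' (ShortComplex.exact_of_g_is_cokernel _ (cokernelIsCokernel _)) inferInstance
        coequalizer.π_epi
    have hJG : Coh.IsCoh ((Dual3.idealMul J).obj G) := ⟨hJq, isFiniteType_of_mono (Dual3.idealMulι J G)⟩
    have hC : Coh.IsCoh (cokernel (Dual3.idealMulι J G)) := isCoh_cokernel _ hJG hG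
    have hyC : y ∉ CohB1.support (cokernel (Dual3.idealMulι J G)) := notMem_support_cokernel _ y hbij.2
    have hCZ : CohB1.support (cokernel (Dual3.idealMulι J G)) ⊆ Z :=
      (support_subset_of_epi (cokernel.π (Dual3.idealMulι J G))).trans hGZ
    exact (ha S hS hJG hG hC).1 hKG (IH _ hC hCZ hyC)

end Groth.Agent.S10865
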