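import Groth.Statements.S10866
import Groth.Agent.S10865

set_option autoImplicit false
universe u
open Coherent

namespace Groth.Agent.S10866

open CategoryTheory AlgebraicGeometry in
/-- Let f : X → Y be a morphism of Noetherian schemes such that for every integral closed subscheme i :
Z → X there is a coherent O_Z-module with nonzero stalk at the generic point of Z whose direct image
under i followed by f is coherent on Y. Then the direct image f_*F of every coherent O_X-module F is
coherent. -/
theorem result {X Y : Scheme.{u}} [IsNoetherian X] [IsNoetherian Y]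
    (f : X ⟶ Y)
    (hgen : ∀ (Z : Scheme.{u}) (i : Z ⟶ X) [IsClosedImmersion i] [IsIntegral Z],
      ∃ H : Z.Modules, Coh.IsCoh H ∧ Nontrivial (H.presheaf.stalk (genericPoint Z)) ∧
        Coh.IsCoh ((Scheme.Modules.pushforward (i ≫ f)).obj H))
    (F : X.Modules) (hF : Coh.IsCoh F) : Coh.IsCoh ((Scheme.Modules.pushforward f).obj F) := by
  classical
  open Groth.Agent.Lib.Helper6.DevCore Groth.Agent.Lib.Helper6.DevRed Groth.Agent.Lib.Helper17.CohKer
    Groth.Agent.Lib.Helper28.QCohLoc CategoryTheory.Limits in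
  -- coherence of a direct image from an injection on sections into a coherent module
  have key : ∀ (A : X.Modules) (B : Y.Modules), Coh.IsCoh A → Coh.IsCoh B →
      ∀ φ : (Scheme.Modules.pushforward f).obj A ⟶ B, (∀ U : Y.Opens, Function.Injective (φ.app U)) →
        Coh.IsCoh ((Scheme.Modules.pushforward f).obj A) := by
    intro A B hA hB φ hφ
    haveI : A.IsQuasicoherent := hA.1
    haveI : B.IsQuasicoherent := hB.1
    haveI : SheafOfModules.IsFiniteType.{u} (R := Y.ringCatSheaf) B := hB.2
    haveI hq : ((Scheme.Modules.pushforward f).obj A).IsQuasicoherent := isQuasicoherent_pushforward f A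
    refine ⟨hq, Groth.Agent.Lib.Helper17.FinTypeConv.isFiniteType_of_forall_finite_sections _ fun U => ?_⟩
    haveI : IsNoetherianRing Γ(Y, U.1) := IsLocallyNoetherian.component_noetherian U
    haveI : Module.Finite Γ(Y, U.1) Γ(B, U.1) := Groth.Agent.Lib.Helper28.FinType.finite_of_isAffineOpen B U.2
    exact Module.Finite.of_injective (Groth.Agent.Lib.Helper17.QCAlgGen.appL φ U.1) (hφ U.1)
  by_cases hne : Nonempty X
  swap
  · have hz : IsZero F := by
      apply isZero_of_support_eq_empty
      rw [Set.eq_empty_iff_forall_notMem]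
      intro x _
      exact hne ⟨x⟩
    exact isCoh_of_isZero ((Scheme.Modules.pushforward f).map_isZero hz)
  let K : ObjectProperty X.Modules := fun A => Coh.IsCoh ((Scheme.Modules.pushforward f).obj A)
  haveI : K.IsClosedUnderIsomorphisms :=
    ⟨fun {A B} e hA => isCoh_of_iso ((Scheme.Modules.pushforward f).mapIso e) hA⟩
  refine Groth.Agent.S10865.result X K ?_ ?_ ?_ F hF
  · intro S hS h1 h2 h3
    refine ⟨fun k2 _ => ?_, fun k1 k3 => ?_⟩
    · exact key S.X₁ _ h1 k2 ((Scheme.Modules.pushforward f).map S.f) (fun U =>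
        Groth.Agent.Lib.Helper29.QCohStalk.injective_app_of_mono S.f hS.mono_f (f ⁻¹ᵁ U))
    · haveI : S.X₂.IsQuasicoherent := h2.1
      haveI hq : ((Scheme.Modules.pushforward f).obj S.X₂).IsQuasicoherent := isQuasicoherent_pushforward f S.X₂
      refine ⟨hq, Groth.Agent.Lib.Helper17.FinTypeConv.isFiniteType_of_forall_finite_sections _ fun U => ?_⟩
      haveI : IsNoetherianRing Γ(Y, U.1) := IsLocallyNoetherian.component_noetherian U
      haveI : (((Scheme.Modules.pushforward f).obj S.X₁)).IsQuasicoherent := k1.1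
      haveI : (((Scheme.Modules.pushforward f).obj S.X₃)).IsQuasicoherent := k3.1
      haveI : SheafOfModules.IsFiniteType.{u} (R := Y.ringCatSheaf) ((Scheme.Modules.pushforward f).obj S.X₁) := k1.2
      haveI : SheafOfModules.IsFiniteType.{u} (R := Y.ringCatSheaf) ((Scheme.Modules.pushforward f).obj S.X₃) := k3.2
      haveI : Module.Finite Γ(Y, U.1) Γ((Scheme.Modules.pushforward f).obj S.X₁, U.1) :=
        Groth.Agent.Lib.Helper28.FinType.finite_of_isAffineOpen _ U.2
      haveI : Module.Finite Γ(Y, U.1) Γ((Scheme.Modules.pushforward f).obj S.X₃, U.1) :=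
        Groth.Agent.Lib.Helper28.FinType.finite_of_isAffineOpen _ U.2
      haveI : IsNoetherian Γ(Y, U.1) Γ((Scheme.Modules.pushforward f).obj S.X₁, U.1) :=
        isNoetherian_of_isNoetherianRing_of_finite _ _
      haveI : IsNoetherian Γ(Y, U.1) Γ((Scheme.Modules.pushforward f).obj S.X₃, U.1) :=
        isNoetherian_of_isNoetherianRing_of_finite _ _
      haveI : IsNoetherian Γ(Y, U.1) Γ((Scheme.Modules.pushforward f).obj S.X₂, U.1) := by
        refine isNoetherian_of_range_eq_ker
          (Groth.Agent.Lib.Helper17.QCAlgGen.appL ((Scheme.Modules.pushforward f).map S.f) U.1)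
          (Groth.Agent.Lib.Helper17.QCAlgGen.appL ((Scheme.Modules.pushforward f).map S.g) U.1) ?_
        ext m
        constructor
        · rintro ⟨a, rfl⟩
          exact Groth.Agent.Lib.Helper17.AffineSurj.app_comp_zero S (f ⁻¹ᵁ U.1) a
        · intro hm
          exact Groth.Agent.Lib.Helper29.QCohStalk.exists_app_eq_of_shortExact S hS (f ⁻¹ᵁ U.1) m hm
      infer_instance
  · intro A d hd hA hk
    let k₀ : Fin d := ⟨0, hd⟩
    have hret : Sigma.ι (fun _ : Fin d => A) k₀ ≫ Sigma.desc (fun k => if k = k₀ then 𝟙 A else 0) = 𝟙 A := by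
      rw [Sigma.ι_desc, if_pos rfl]
    refine key A _ hA hk ((Scheme.Modules.pushforward f).map (Sigma.ι (fun _ : Fin d => A) k₀)) (fun U => ?_)
    haveI : Mono (Sigma.ι (fun _ : Fin d => A) k₀) := mono_of_mono_fac hret
    exact Groth.Agent.Lib.Helper29.QCohStalk.injective_app_of_mono _ inferInstance (f ⁻¹ᵁ U)
  · intro Z i _ _
    obtain ⟨H, hH, hHnt, hcoh⟩ := hgen Z i
    exact ⟨H, hH, hHnt, isCoh_of_iso ((Scheme.Modules.pushforwardComp i f).app H).symm hcoh⟩

end Groth.Agent.S10866
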