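import Groth.Statements.S10867
import Groth.Agent.Lib.Helper13.ClosedImmCrit

set_option autoImplicit false
universe u
open Mor

namespace Groth.Agent.S10867

open CategoryTheory AlgebraicGeometry in
/-- In the case of an algebraically closed base field k and K = k: let X, Y be k-schemes of finite type
and f : X → Y a proper k-morphism which is injective on closed points and such that for every closed
point x of X the ideal generated by the image of the maximal ideal of the local ring at f(x),
together with the square of the maximal ideal at x, is the whole maximal ideal at x (the cotangent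
map is surjective, i.e. the tangent map at x is injective). Then f is a closed immersion. (The
published statement allows any field k and tests points and tangent spaces with values in an
algebraically closed extension K of k; this row is the case K = k.) -/
theorem result (k : Type u) [Field k] [IsAlgClosed k]
    {X Y : Scheme.{u}} (f : X ⟶ Y) (q : Y ⟶ Spec (CommRingCat.of k)) [LocallyOfFiniteType q] [QuasiCompact q]
    [LocallyOfFiniteType (f ≫ q)] [IsProper f]
    (hinj : Set.InjOn f.base {x : X | IsClosed ({x} : Set X)})
    (hT : ∀ x : X, IsClosed ({x} : Set X) →
      Ideal.map (f.stalkMap x).hom (IsLocalRing.maximalIdeal (Y.presheaf.stalk (f.base x))) ⊔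
        IsLocalRing.maximalIdeal (X.presheaf.stalk x) ^ 2 = IsLocalRing.maximalIdeal (X.presheaf.stalk x)) :
    IsClosedImmersion f := by
  have hJ : JacobsonSpace X := LocallyOfFiniteType.jacobsonSpace (f ≫ q)
  have hN : IsLocallyNoetherian X := LocallyOfFiniteType.isLocallyNoetherian (f ≫ q)
  have hfin : IsFinite f := Lib.Helper13.ClosedImmCrit.isFinite_of_injOn_closedPoints f hinj
  refine Lib.Helper13.ClosedImmCrit.isClosedImmersion_of_isFinite f q hinj (fun x hx => ?_)
  have hfg : (IsLocalRing.maximalIdeal (X.presheaf.stalk x)).FG :=
    IsNoetherian.noetherian _
  refine Submodule.le_of_le_smul_of_le_jacobson_bot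
    (I := IsLocalRing.maximalIdeal (X.presheaf.stalk x)) hfg
    (IsLocalRing.maximalIdeal_le_jacobson _) ?_
  rw [smul_eq_mul, ← pow_two]
  exact (hT x hx).ge

end Groth.Agent.S10867
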