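import Groth.Statements.S10868
-- import your own Groth.Agent.* helpers here
import Groth.Agent.Lib.Helper26.QuasiAffine
import Mathlib.AlgebraicGeometry.ZariskisMainTheorem
import Mathlib.AlgebraicGeometry.Morphisms.Proper

set_option autoImplicit false
universe u
open Mor

namespace Groth.Agent.S10868

open CategoryTheory AlgebraicGeometry in
lemma isAffine_of_isProper_of_isQuasiAffine {X Y : Scheme.{u}} [IsAffine Y] (f : X ⟶ Y)
    [IsProper f] [X.IsQuasiAffine] : IsAffine X := by
  have h1 : IsProper (X.toSpecΓ ≫ Spec.map f.appTop) := by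
    rw [← Scheme.toSpecΓ_naturality]
    infer_instance
  have h2 : IsProper X.toSpecΓ := IsProper.of_comp X.toSpecΓ (Spec.map f.appTop)
  have h3 : IsClosedImmersion X.toSpecΓ :=
    (IsClosedImmersion.iff_isProper_and_mono _).mpr ⟨h2, inferInstance⟩
  exact isAffine_of_isAffineHom X.toSpecΓ

open CategoryTheory AlgebraicGeometry in
/-- f : X → Y is a finite morphism exactly when it is proper and quasi-affine (quasi-compact, with the
inverse image of every affine open subscheme of Y a quasi-affine scheme). -/
theorem result {X Y : Scheme.{u}} (f : X ⟶ Y) :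
    IsFinite f ↔ IsProper f ∧ Mor2.IsQuasiAffine f := by
  open Groth.Agent.Lib.Helper26.QuasiAffine in
  constructor
  · intro hf
    exact ⟨inferInstance, (isQAHom_iff f).mp (isQAHom_of_isAffineHom f)⟩
  · rintro ⟨hp, hq⟩
    refine IsFinite.iff_isProper_and_isAffineHom.mpr ⟨hp, ?_⟩
    refine ⟨fun U hU ↦ ?_⟩
    have : IsAffine U := hU
    have : (f ⁻¹ᵁ U).toScheme.IsQuasiAffine := hq.2 U hU
    have : IsProper (f ∣_ U) := IsZariskiLocalAtTarget.restrict hp U
    exact isAffine_of_isProper_of_isQuasiAffine (f ∣_ U)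

end Groth.Agent.S10868
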