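import Groth.Statements.S10869
import Groth.Agent.S4409
import Groth.Agent.Lib.Helper17.GGDescent
import Mathlib
set_option backward.isDefEq.respectTransparency.types false

set_option autoImplicit false
universe u
open Coh

namespace Groth.Agent.S10869
open CategoryTheory CategoryTheory.Limits AlgebraicGeometry
open Opposite TopologicalSpace
open Groth.Agent.Lib.Helper28.QCohLoc Groth.Agent.Lib.Helper28.PullbackInv Groth.Agent.Lib.Helper17.CohKer
open Groth.Agent.Lib.Helper17.GGDescent

variable {X S : Scheme.{u}} (f : X ⟶ S)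

/-- a quotient of `f^* G` makes the counit an epimorphism -/
theorem epi_counit_of_epi {F : X.Modules} {G : S.Modules} (φ : (Scheme.Modules.pullback f).obj G ⟶ F)
    (hφ : Epi φ) : Epi ((Scheme.Modules.pullbackPushforwardAdjunction f).counit.app F) := by
  let adj := Scheme.Modules.pullbackPushforwardAdjunction f
  have h1 : (Scheme.Modules.pullback f).map (adj.homEquiv G F φ) ≫ adj.counit.app F = φ := by
    have := Adjunction.homEquiv_counit adj (X := G) (Y := F) (g := adj.homEquiv G F φ)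
    rw [Equiv.symm_apply_apply] at this
    exact this.symm
  exact @epi_of_epi_fac _ _ _ _ _ _ _ _ hφ h1

/-- global generation passes to quotients -/
theorem isGloballyGenerated_of_epi {Z : Scheme.{u}} {N N' : Z.Modules} (π : N ⟶ N') (hπ : Epi π)
    (hN : Curv2.IsGloballyGenerated N) : Curv2.IsGloballyGenerated N' := by
  obtain ⟨ι, p, hp⟩ := hN
  exact ⟨ι, p ≫ π, @epi_comp _ _ _ _ _ _ hp _ hπ⟩

/-- (⇒) of the second equivalence -/
theorem isGloballyGenerated_restrict_of_epi_counit [QuasiCompact f] [QuasiSeparated f]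
    (F : X.Modules) [F.IsQuasicoherent]
    (hε : Epi ((Scheme.Modules.pullbackPushforwardAdjunction f).counit.app F))
    (V : S.Opens) (hV : IsAffineOpen V) :
    Curv2.IsGloballyGenerated (F.restrict (f ⁻¹ᵁ V).ι) := by
  let G := (Scheme.Modules.pushforward f).obj F
  haveI : G.IsQuasicoherent := isQuasicoherent_pushforward f F
  let ε := (Scheme.Modules.pullbackPushforwardAdjunction f).counit.app F
  let j := (f ⁻¹ᵁ V).ι
  let e := (Groth.Agent.Lib.Helper16.RS.pullbackRestrictIso f (f ⁻¹ᵁ V).ι V.ι (f ∣_ V)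
    (morphismRestrict_ι f V).symm).app G
  haveI : IsAffine (V : Scheme.{u}) := hV
  haveI : (G.restrict V.ι).IsQuasicoherent := inferInstance
  have h1 : Curv2.IsGloballyGenerated (G.restrict V.ι) :=
    ⟨_, fromFree (G.restrict V.ι), epi_fromFree_of_isQuasiAffine _⟩
  have h2 := isGloballyGenerated_pullback (f ∣_ V) _ h1
  have h3 : Epi ((Scheme.Modules.restrictFunctor j).map ε) :=
    @Functor.map_epi _ _ _ _ (Scheme.Modules.restrictFunctor j) _ _ _ ε hε
  exact isGloballyGenerated_of_epi (e.inv ≫ (Scheme.Modules.restrictFunctor j).map ε)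
    (@epi_comp _ _ _ _ _ _ inferInstance _ h3) h2

/-- a morphism killing the image of the counit vanishes over the preimage of an affine open over which
the module is globally generated -/
theorem app_eq_zero_of_gg (F : X.Modules) {C : X.Modules} (g : F ⟶ C)
    (hg : (Scheme.Modules.pullbackPushforwardAdjunction f).counit.app F ≫ g = 0)
    (V : S.Opens) (hgg : Curv2.IsGloballyGenerated (F.restrict (f ⁻¹ᵁ V).ι))
    (W : X.Opens) (hW : W ≤ f ⁻¹ᵁ V) (m : Γ(F, W)) : g.app W m = 0 := by
  let Z : X.Opens := f ⁻¹ᵁ V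
  let j := Z.ι
  obtain ⟨ι, p₀, hp⟩ := hgg
  let p : (SheafOfModules.free ι : (Z : Scheme.{u}).Modules) ⟶ F.restrict j := p₀
  let gZ : F.restrict j ⟶ C.restrict j := (Scheme.Modules.restrictFunctor j).map g
  -- `g` vanishes on sections over `f⁻¹ V`
  have hZ : ∀ T : Γ(F, f ⁻¹ᵁ V), g.app (f ⁻¹ᵁ V) T = 0 := by
    intro T
    have h1 := congrArg (fun ψ : (_ ⟶ C) => ψ.app (f ⁻¹ᵁ V)
      (pbs f ((Scheme.Modules.pushforward f).obj F) V T)) hg
    have h2 : g.app (f ⁻¹ᵁ V) (((Scheme.Modules.pullbackPushforwardAdjunction f).counit.app F).app (f ⁻¹ᵁ V)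
      (pbs f ((Scheme.Modules.pushforward f).obj F) V T)) = 0 := h1
    rw [Groth.Agent.S4409.counit_pbs] at h2
    exact h2
  have htop : j ''ᵁ ⊤ = Z := Scheme.Opens.ι_image_top Z
  have key : ∀ T : Γ(F, j ''ᵁ ⊤), g.app (j ''ᵁ ⊤) T = 0 := by
    intro T
    have h3 : T = res F (le_of_eq htop) (res F (le_of_eq htop.symm) T) := by
      rw [res_res, res_self]
    rw [h3, app_res, hZ, res_zero]
  have hzero : p ≫ gZ = 0 := by
    refine Groth.Agent.S4408.free_hom_eq_zero (p ≫ gZ) fun k => ?_
    exact key _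
  have hgZ : gZ = 0 := by
    have h6 : p ≫ gZ = p ≫ 0 := by rw [hzero, comp_zero]
    exact (@cancel_epi _ _ _ _ _ p hp gZ 0).1 h6
  have himg : j ''ᵁ (j ⁻¹ᵁ W) = W := by
    rw [Scheme.Hom.image_preimage_eq_opensRange_inf, Scheme.Opens.opensRange_ι]
    exact inf_eq_right.2 hW
  have h4 : ∀ y : Γ(F, j ''ᵁ (j ⁻¹ᵁ W)), g.app (j ''ᵁ (j ⁻¹ᵁ W)) y = 0 := by
    intro y
    have := congrArg (fun ψ : (F.restrict j ⟶ C.restrict j) => ψ.app (j ⁻¹ᵁ W) y) hgZ
    exact this
  have h5 : m = res F (le_of_eq himg.symm) (res F (le_of_eq himg) m) := by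
    rw [res_res, res_self]
  rw [h5, app_res, h4, res_zero]

/-- (⇐) of the second equivalence -/
theorem epi_counit_of_gg (F : X.Modules)
    (hgg : ∀ V : S.Opens, IsAffineOpen V → Curv2.IsGloballyGenerated (F.restrict (f ⁻¹ᵁ V).ι)) :
    Epi ((Scheme.Modules.pullbackPushforwardAdjunction f).counit.app F) := by
  apply Preadditive.epi_of_cancel_zero
  intro C g hg
  apply Scheme.Modules.hom_ext
  intro W
  ext m
  change g.app W m = 0
  refine eq_of_locally_eq C (fun V : S.affineOpens => W ⊓ f ⁻¹ᵁ V.1) W (fun V => inf_le_left) ?_ _ _ ?_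
  · intro x hx
    obtain ⟨_, ⟨V, (hV : IsAffineOpen V), rfl⟩, hxV, -⟩ :=
      S.isBasis_affineOpens.exists_subset_of_mem_open (Set.mem_univ (f x)) isOpen_univ
    exact Opens.mem_iSup.mpr ⟨⟨V, hV⟩, hx, hxV⟩
  · intro V
    rw [res_zero, ← app_res]
    exact app_eq_zero_of_gg f F g hg V.1 (hgg V.1 V.2) _ inf_le_right _


open CategoryTheory AlgebraicGeometry in
/-- For f : X → S quasi-compact and quasi-separated and F a quasi-coherent O_X-module, the counit
f^*f_*F → F is an epimorphism iff F is a quotient of f^*G for some quasi-coherent O_S-module G, iff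
the restriction of F to the inverse image of every affine open of S is globally generated. -/
theorem result {X S : Scheme.{u}} (f : X ⟶ S) [QuasiCompact f] [QuasiSeparated f]
    (F : X.Modules) (hF : Coh.IsQCoh F) :
    (Epi ((Scheme.Modules.pullbackPushforwardAdjunction f).counit.app F) ↔
      ∃ G : S.Modules, Coh.IsQCoh G ∧ ∃ φ : (Scheme.Modules.pullback f).obj G ⟶ F, Epi φ) ∧
    (Epi ((Scheme.Modules.pullbackPushforwardAdjunction f).counit.app F) ↔
      ∀ U : S.Opens, IsAffineOpen U → Curv2.IsGloballyGenerated (F.restrict (f ⁻¹ᵁ U).ι)) := by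
  haveI : F.IsQuasicoherent := hF
  refine ⟨⟨fun hε => ?_, ?_⟩, ⟨fun hε U hU => ?_, fun h => ?_⟩⟩
  · exact ⟨(Scheme.Modules.pushforward f).obj F, isQuasicoherent_pushforward f F, _, hε⟩
  · rintro ⟨G, -, φ, hφ⟩
    exact epi_counit_of_epi f φ hφ
  · exact isGloballyGenerated_restrict_of_epi_counit f F hε U hU
  · exact epi_counit_of_gg f F h

end Groth.Agent.S10869
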