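import Groth.Statements.S10876
import Groth.Agent.Lib.Helper2.ArtinDescent
import Mathlib.RingTheory.Filtration

set_option autoImplicit false
universe u
open TensorProduct
open CAlg

namespace Groth.Agent.S10876

/-- Descent of flatness along finite injective maps: let A → B be a local homomorphism of Noetherian
local rings and A → A' an injective ring homomorphism making A' a finite A-module. Then B is A-flat
if and only if the base change A' ⊗_A B is A'-flat. -/
theorem result (A B A' : Type u) [CommRing A] [CommRing B]
    [CommRing A'] [IsNoetherianRing A] [IsLocalRing A] [IsNoetherianRing B] [IsLocalRing B]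
    [Algebra A B] [IsLocalHom (algebraMap A B)] [Algebra A A'] [Module.Finite A A']
    (hinj : Function.Injective (algebraMap A A')) :
    Module.Flat A B ↔ Module.Flat A' (A' ⊗[A] B) := by
  constructor
  · intro h
    infer_instance
  · intro h
    refine Lib.Helper2.ArtinDescent.flat_of_flat_baseChange
      (fun N : ℕ => (IsLocalRing.maximalIdeal A ^ N).map (algebraMap A A')) ?_ ?_
    · intro N
      exact ⟨N, Ideal.le_comap_map⟩
    · intro n
      obtain ⟨k, hk⟩ := Ideal.exists_pow_inf_eq_pow_smul (IsLocalRing.maximalIdeal A)
        (LinearMap.range (Algebra.linearMap A A'))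
      refine ⟨n + k, ?_⟩
      intro a ha
      rw [Ideal.mem_comap] at ha
      have h1 : algebraMap A A' a ∈ IsLocalRing.maximalIdeal A ^ (n + k) •
          (⊤ : Submodule A A') := by
        rw [Ideal.smul_top_eq_map]
        exact ha
      have h2 : algebraMap A A' a ∈ IsLocalRing.maximalIdeal A ^ (n + k) •
          (⊤ : Submodule A A') ⊓ LinearMap.range (Algebra.linearMap A A') :=
        ⟨h1, ⟨a, rfl⟩⟩
      rw [hk (n + k) (Nat.le_add_left k n), Nat.add_sub_cancel] at h2
      have h3 : algebraMap A A' a ∈ IsLocalRing.maximalIdeal A ^ n •
          LinearMap.range (Algebra.linearMap A A') :=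
        Submodule.smul_mono le_rfl inf_le_right h2
      rw [LinearMap.range_eq_map, ← Submodule.map_smul''] at h3
      obtain ⟨b, hb, hba⟩ := h3
      have hb' : b ∈ IsLocalRing.maximalIdeal A ^ n := by
        rw [smul_eq_mul, Ideal.mul_top] at hb
        exact hb
      have : b = a := hinj hba
      rw [← this]
      exact hb'

end Groth.Agent.S10876
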