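import Groth.Statements.S19541
import Groth.Agent.S9566
import Groth.Agent.Lib.Helper17.SmoothNormal
import Groth.Agent.Lib.Helper13.NormalCurve
import Mathlib
set_option backward.isDefEq.respectTransparency.types false

set_option autoImplicit false
universe u
open CategoryTheory CategoryTheory.Limits AlgebraicGeometry TopologicalSpace
open Curves

namespace Groth.Agent.S19541

/-- stalks of a scheme smooth over a field are normal domains -/
theorem stalk_normal_of_smooth (k : Type u) [Field k] {Y : Scheme.{u}}
    (pY : Y ⟶ Spec (CommRingCat.of k)) [Smooth pY] (y : Y) :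
    IsDomain (Y.presheaf.stalk y) ∧ IsIntegrallyClosed (Y.presheaf.stalk y) := by
  obtain ⟨_, ⟨V, hV : IsAffineOpen V, rfl⟩, hyV, -⟩ :=
    Y.isBasis_affineOpens.exists_subset_of_mem_open (Set.mem_univ y) isOpen_univ
  have hsm : (pY.appLE ⊤ V le_top).hom.Smooth :=
    HasRingHomProperty.appLE (P := @Smooth) pY inferInstance ⟨⊤, isAffineOpen_top _⟩ ⟨V, hV⟩ le_top
  have hF : IsField Γ(Spec (CommRingCat.of k), ⊤) :=
    (Scheme.ΓSpecIso (CommRingCat.of k)).commRingCatIsoToRingEquiv.toMulEquiv.isField
      (Field.toIsField k)
  letI := hF.toField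
  algebraize [(pY.appLE ⊤ V le_top).hom]
  have hsm' : Algebra.Smooth Γ(Spec (CommRingCat.of k), ⊤) Γ(Y, V) := hsm
  have hnorm := Groth.Agent.Lib.Helper17.SmoothNormal.isDomain_and_isIntegrallyClosed_atPrime_of_smooth
    Γ(Spec (CommRingCat.of k), ⊤) (B := Γ(Y, V)) (hV.primeIdealOf ⟨y, hyV⟩).asIdeal
  letI := Y.presheaf.algebra_section_stalk ⟨y, hyV⟩
  have hloc := hV.isLocalization_stalk ⟨y, hyV⟩
  let e := IsLocalization.algEquiv (hV.primeIdealOf ⟨y, hyV⟩).asIdeal.primeCompl
      (Localization.AtPrime (hV.primeIdealOf ⟨y, hyV⟩).asIdeal) (Y.presheaf.stalk y)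
  haveI := hnorm.1
  haveI := hnorm.2
  exact ⟨MulEquiv.isDomain _ e.toRingEquiv.symm.toMulEquiv, IsIntegrallyClosed.of_equiv e.toRingEquiv⟩

attribute [local instance] specializationOrder in
theorem ringKrullDim_stalk_le (Y : Scheme.{u}) (y : Y) :
    ringKrullDim (Y.presheaf.stalk y) ≤ topologicalKrullDim Y := by
  rw [ringKrullDim_stalk_eq_coheight]
  have h := Order.coheight_orderIso (irreducibleSetEquivPoints (α := Y)).symm y
  have h2 := Order.coheight_le_krullDim ((irreducibleSetEquivPoints (α := Y)).symm y)
  rw [h] at h2
  exact h2

/-- a closed point of an integral scheme of dimension 1 has a local ring which is not a field -/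
theorem maximalIdeal_ne_bot {X : Scheme.{u}} [IsIntegral X] (hdX : topologicalKrullDim X = 1)
    (x : X) (hx : IsClosed ({x} : Set X)) :
    IsLocalRing.maximalIdeal (X.presheaf.stalk x) ≠ ⊥ := by
  intro hbot
  have hF : IsField (X.presheaf.stalk x) := IsLocalRing.isField_iff_maximalIdeal_eq.mpr hbot
  have h0 : ringKrullDim (X.presheaf.stalk x) = 0 := by
    letI := hF.toField
    exact ringKrullDim_eq_zero_of_field _
  rw [ringKrullDim_stalk_eq_coheight] at h0
  have h1 : Order.coheight x = 0 := by exact_mod_cast h0
  rw [Order.coheight_eq_zero] at h1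
  have h2 : x ⤳ genericPoint X := h1 (genericPoint_specializes x)
  have h3 : genericPoint X = x := by
    have := specializes_iff_mem_closure.mp h2
    rw [hx.closure_eq] at this
    exact this
  have hsub : Subsingleton X := by
    refine ⟨fun a b => ?_⟩
    have ha : a = x := by
      have := specializes_iff_mem_closure.mp (genericPoint_specializes a)
      rw [h3, hx.closure_eq] at this
      exact this
    have hb : b = x := by
      have := specializes_iff_mem_closure.mp (genericPoint_specializes b)
      rw [h3, hx.closure_eq] at this
      exact this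
    rw [ha, hb]
  have := topologicalKrullDim_zero_of_discreteTopology X
  rw [hdX] at this
  exact absurd this (by decide)


/-- Pointwise criterion for a map of smooth curves to be étale: let k be an algebraically closed field,
X and Y integral schemes each smooth, separated and quasi-compact over Spec k and of dimension one,
φ : X → Y a morphism over k and x a closed point of X. Then φ is étale at x (the restriction of φ to
some open neighbourhood of x is étale) if and only if the induced homomorphism of stalks O_{Y,φ(x)}
→ O_{X,x} carries the maximal ideal of the discrete valuation ring O_{Y,φ(x)} to an ideal generating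
the maximal ideal of O_{X,x}; equivalently a uniformiser at φ(x) pulls back to a uniformiser at x.
(The published statement is for smooth curves, which are in addition geometrically connected;
integrality is what is used. For a constant φ both sides fail.) -/
theorem result (k : Type u) [Field k] [IsAlgClosed k] {X Y : Scheme.{u}}
    (pX : X ⟶ Spec (CommRingCat.of k)) (pY : Y ⟶ Spec (CommRingCat.of k)) (φ : X ⟶ Y) (w : φ ≫ pY = pX)
    [IsIntegral X] [Smooth pX] [IsSeparated pX] [QuasiCompact pX] (hdX : topologicalKrullDim X = 1)
    [IsIntegral Y] [Smooth pY] [IsSeparated pY] [QuasiCompact pY] (hdY : topologicalKrullDim Y = 1)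
    (x : X) (hx : IsClosed ({x} : Set X)) :
    (∃ U : X.Opens, x ∈ U ∧ Etale (U.ι ≫ φ)) ↔
      Ideal.map (φ.stalkMap x).hom (IsLocalRing.maximalIdeal (Y.presheaf.stalk (φ.base x))) =
        IsLocalRing.maximalIdeal (X.presheaf.stalk x) := by
  have hftX : LocallyOfFiniteType pX := inferInstance
  have hftY : LocallyOfFiniteType pY := inferInstance
  have hφ : LocallyOfFiniteType φ := by
    have : LocallyOfFiniteType (φ ≫ pY) := by rw [w]; infer_instance
    exact locallyOfFiniteType_of_comp φ pY
  have hnY : IsLocallyNoetherian Y := LocallyOfFiniteType.isLocallyNoetherian pY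
  have hnX : IsLocallyNoetherian X := LocallyOfFiniteType.isLocallyNoetherian pX
  rw [Groth.Agent.S9566.result φ x]
  constructor
  · exact fun h => h.2.1
  · intro hm
    refine ⟨?_, hm, ?_⟩
    · -- flatness
      obtain ⟨hdA, hicA⟩ := stalk_normal_of_smooth k pY (φ.base x)
      have hdimA : ringKrullDim (Y.presheaf.stalk (φ.base x)) ≤ 1 :=
        hdY ▸ ringKrullDim_stalk_le Y (φ.base x)
      haveI : ValuationRing (Y.presheaf.stalk (φ.base x)) :=
        Groth.Agent.Lib.Helper13.NormalCurve.valuationRing_of_dim_le_one _ hdimA
      haveI : Ring.KrullDimLE 1 (Y.presheaf.stalk (φ.base x)) := Ring.krullDimLE_iff.mpr hdimA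
      have hmB := maximalIdeal_ne_bot hdX x hx
      have hinj : Function.Injective (φ.stalkMap x).hom := by
        rw [RingHom.injective_iff_ker_eq_bot]
        by_contra hker
        have hprime : (RingHom.ker (φ.stalkMap x).hom).IsPrime := RingHom.ker_isPrime _
        have hmax := hprime.isMaximal_of_ne_bot hker
        have heq := IsLocalRing.eq_maximalIdeal hmax
        apply hmB
        rw [← hm, ← heq, Ideal.map_eq_bot_iff_le_ker]
      algebraize [(φ.stalkMap x).hom]
      show Module.Flat (Y.presheaf.stalk (φ.base x)) (X.presheaf.stalk x)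
      rw [Module.Flat.flat_iff_torsion_eq_bot_of_isBezout, ← Submodule.isTorsionFree_iff_torsion_eq_bot]
      exact Module.isTorsionFree_iff_algebraMap_injective.mpr hinj
    · -- residue fields
      have hsurj : Function.Surjective (φ.residueFieldMap x).hom := by
        let i := residueFieldIsoBase pX x hx
        let g : CommRingCat.of k ⟶ Y.residueField (φ.base x) :=
          Spec.preimage (Y.fromSpecResidueField (φ.base x) ≫ pY)
        have hi : i.inv = g ≫ φ.residueFieldMap x := by
          apply Spec.map_injective
          rw [SpecMap_residueFieldIsoBase_inv, Spec.map_comp, Spec.map_preimage,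
            Scheme.Hom.SpecMap_residueFieldMap_fromSpecResidueField_assoc, w]
        intro b
        refine ⟨g.hom (i.hom.hom b), ?_⟩
        have : (g ≫ φ.residueFieldMap x).hom (i.hom.hom b) = b := by
          rw [← hi]
          exact congrArg (fun f => f.hom b) i.hom_inv_id
        exact this
      letI := (φ.residueFieldMap x).hom.toAlgebra
      refine ⟨Module.Finite.of_surjective (Algebra.linearMap _ _) hsurj, ⟨fun b => ?_⟩⟩
      obtain ⟨a, rfl⟩ := hsurj b
      exact isSeparable_algebraMap a

end Groth.Agent.S19541
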