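import Groth.Statements.S14519
import Groth.Agent.S19541
import Mathlib
set_option backward.isDefEq.respectTransparency.types false

set_option autoImplicit false
universe u
open CategoryTheory CategoryTheory.Limits AlgebraicGeometry
open Curves

namespace Groth.Agent.S14519

/-- a local ring dominating a valuation ring inside its fraction field equals it -/
theorem alg_core {R B K : Type*} [CommRing R] [IsDomain R] [ValuationRing R] [CommRing B]
    [IsLocalRing B] [Field K] [Algebra R K] [IsFractionRing R K] (s : R →+* B) [IsLocalHom s]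
    (j : B →+* K) (hj : Function.Injective j) (h : j.comp s = algebraMap R K) :
    Function.Bijective s := by
  have hinj : Function.Injective s := by
    have h1 : Function.Injective (j.comp s) := by
      rw [h]; exact IsFractionRing.injective R K
    exact Function.Injective.of_comp (f := j) (by simpa using h1)
  refine ⟨hinj, fun b => ?_⟩
  have hcomp : ∀ r, algebraMap R K r = j (s r) := fun r => by rw [← h]; rfl
  rcases ValuationRing.isInteger_or_isInteger R (j b) with ⟨r, hr⟩ | ⟨r, hr⟩
  · exact ⟨r, hj (by rw [← hcomp, hr])⟩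
  · by_cases hb : b = 0
    · exact ⟨0, by rw [hb, map_zero]⟩
    · have hjb : j b ≠ 0 := fun h0 => hb (hj (by rw [h0, map_zero]))
      have h1 : s r * b = 1 := by
        apply hj
        rw [map_mul, map_one, ← hcomp, hr, inv_mul_cancel₀ hjb]
      have hu : IsUnit (s r) := IsUnit.of_mul_eq_one _ h1
      have hur : IsUnit r := isUnit_of_map_unit s r hu
      obtain ⟨u, rfl⟩ := hur
      refine ⟨((u⁻¹ : Rˣ) : R), ?_⟩
      have h2 : s (u : R) * s ((u⁻¹ : Rˣ) : R) = 1 := by
        rw [← map_mul, Units.mul_inv, map_one]
      exact (hu.mul_right_inj).mp (by rw [h2, h1])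

theorem stalkMap_bijective {X Y : Scheme.{u}} [IsIntegral X] [IsIntegral Y] (f : X ⟶ Y)
    (e : f (genericPoint X) = genericPoint Y)
    (hbir : Function.Bijective (Y.presheaf.stalkSpecializes (specializes_of_eq e) ≫
      f.stalkMap (genericPoint X)).hom)
    (x : X) [ValuationRing (Y.presheaf.stalk (f x))] :
    Function.Bijective (f.stalkMap x).hom := by
  let E : Y.functionField ≃+* X.functionField := RingEquiv.ofBijective _ hbir
  letI : Algebra (Y.presheaf.stalk (f x)) X.functionField :=
    (E.toRingHom.comp (algebraMap (Y.presheaf.stalk (f x)) Y.functionField)).toAlgebra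
  let E' : Y.functionField ≃ₐ[Y.presheaf.stalk (f x)] X.functionField :=
    AlgEquiv.ofRingEquiv (f := E) (fun _ => rfl)
  haveI : IsFractionRing (Y.presheaf.stalk (f x)) X.functionField :=
    IsLocalization.isLocalization_of_algEquiv _ E'
  haveI : IsLocalHom (f.stalkMap x).hom := f.toLRSHom.prop x
  refine alg_core (f.stalkMap x).hom
    (X.presheaf.stalkSpecializes (genericPoint_specializes x)).hom
    (IsFractionRing.injective (X.presheaf.stalk x) X.functionField) ?_
  rw [RingHom.algebraMap_toAlgebra]
  show (f.stalkMap x ≫ X.presheaf.stalkSpecializes (genericPoint_specializes x)).hom =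
    (Y.presheaf.stalkSpecializes (genericPoint_specializes (f x)) ≫
      Y.presheaf.stalkSpecializes (specializes_of_eq e) ≫ f.stalkMap (genericPoint X)).hom
  rw [← Scheme.Hom.stalkSpecializes_stalkMap, ← Category.assoc,
    TopCat.Presheaf.stalkSpecializes_comp]

theorem isDominant_SpecMap_of_injective {R S : CommRingCat.{u}} (φ : R ⟶ S)
    (h : Function.Injective φ.hom) : IsDominant (Spec.map φ) := by
  refine ⟨?_⟩
  have : DenseRange (PrimeSpectrum.comap φ.hom) := by
    rw [PrimeSpectrum.denseRange_comap_iff_ker_le_nilRadical,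
      (RingHom.injective_iff_ker_eq_bot _).mp h]
    exact bot_le
  exact this

theorem injective_of_stalkMap_bijective {X Y : Scheme.{u}} [IsIntegral X] (f : X ⟶ Y)
    [IsSeparated f] (hs : ∀ x, Function.Bijective (f.stalkMap x).hom) :
    Function.Injective f.base := by
  intro x x' hxx'
  haveI : ∀ x, IsIso (f.stalkMap x) := fun x =>
    (ConcreteCategory.isIso_iff_bijective _).mpr (hs x)
  have hsp : f x ⤳ f x' := specializes_of_eq hxx'
  let ψ : X.presheaf.stalk x' ≅ X.presheaf.stalk x :=
    (asIso (f.stalkMap x')).symm ≪≫ Y.presheaf.stalkCongr (.of_eq hxx'.symm) ≪≫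
      asIso (f.stalkMap x)
  have hψ : ψ.hom = inv (f.stalkMap x') ≫ Y.presheaf.stalkSpecializes hsp ≫ f.stalkMap x := rfl
  let a := X.fromSpecStalk x
  let b := Spec.map ψ.hom ≫ X.fromSpecStalk x'
  have hab : a ≫ f = b ≫ f := by
    simp only [a, b, Category.assoc]
    rw [← Scheme.SpecMap_stalkMap_fromSpecStalk, ← Scheme.SpecMap_stalkMap_fromSpecStalk,
      ← Spec.map_comp_assoc, hψ, IsIso.hom_inv_id_assoc, Spec.map_comp_assoc,
      Scheme.SpecMap_stalkSpecializes_fromSpecStalk]
  let ι := Spec.map (X.presheaf.stalkSpecializes (genericPoint_specializes x))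
  have hι : ι ≫ a = ι ≫ b := by
    simp only [ι, a, b]
    rw [Scheme.SpecMap_stalkSpecializes_fromSpecStalk, ← Spec.map_comp_assoc, hψ]
    simp only [Category.assoc]
    rw [← Scheme.Hom.stalkSpecializes_stalkMap, TopCat.Presheaf.stalkSpecializes_comp_assoc,
      Scheme.Hom.stalkSpecializes_stalkMap f _ _ (genericPoint_specializes x'),
      IsIso.inv_hom_id_assoc, Scheme.SpecMap_stalkSpecializes_fromSpecStalk]
  haveI : IsDominant ι := isDominant_SpecMap_of_injective _
    (IsFractionRing.injective (X.presheaf.stalk x) X.functionField)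
  have heq : a = b := ext_of_isDominant_of_isSeparated f hab ι hι
  have h1 : a (IsLocalRing.closedPoint _) = x := Scheme.fromSpecStalk_closedPoint
  have h2 : b (IsLocalRing.closedPoint _) = x' := by
    haveI : IsLocalHom ψ.hom.hom := isLocalHom_of_iso ψ
    simp only [b, Scheme.Hom.comp_apply]
    rw [Spec_closedPoint]
    exact Scheme.fromSpecStalk_closedPoint
  rw [← h1, ← h2, heq]


/-- Let k be an algebraically closed field and f : X → Y a birational morphism over k between smooth
curves (X, Y integral, separated, of finite type and smooth over k, of dimension one; f sends the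
generic point of X to that of Y and the induced map of function fields K(Y) → K(X) is bijective).
Then f is an open immersion. -/
theorem result (k : Type u) [Field k] [IsAlgClosed k]
    (X Y : Scheme.{u}) [X.Over (Spec (CommRingCat.of k))] [Y.Over (Spec (CommRingCat.of k))]
    [IsIntegral X] [IsSeparated (X ↘ (Spec (CommRingCat.of k)))] [LocallyOfFiniteType (X ↘ (Spec (CommRingCat.of k)))] [QuasiCompact (X ↘ (Spec (CommRingCat.of k)))] [Smooth (X ↘ (Spec (CommRingCat.of k)))] (hdimX : topologicalKrullDim X = 1)
    [IsIntegral Y] [IsSeparated (Y ↘ (Spec (CommRingCat.of k)))] [LocallyOfFiniteType (Y ↘ (Spec (CommRingCat.of k)))] [QuasiCompact (Y ↘ (Spec (CommRingCat.of k)))] [Smooth (Y ↘ (Spec (CommRingCat.of k)))] (hdimY : topologicalKrullDim Y = 1)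
    (f : X ⟶ Y) (hf : f ≫ (Y ↘ (Spec (CommRingCat.of k))) = (X ↘ (Spec (CommRingCat.of k))))
    (e : f (genericPoint X) = genericPoint Y)
    (hbir : Function.Bijective (Y.presheaf.stalkSpecializes (specializes_of_eq e) ≫ f.stalkMap (genericPoint X)).hom) :
    IsOpenImmersion f := by
  have hsepf : IsSeparated f := by
    have : IsSeparated (f ≫ (Y ↘ (Spec (CommRingCat.of k)))) := by rw [hf]; infer_instance
    exact IsSeparated.of_comp f (Y ↘ (Spec (CommRingCat.of k)))
  have hlftf : LocallyOfFiniteType f := by
    have : LocallyOfFiniteType (f ≫ (Y ↘ (Spec (CommRingCat.of k)))) := by rw [hf]; infer_instance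
    exact locallyOfFiniteType_of_comp f (Y ↘ (Spec (CommRingCat.of k)))
  have hnY : IsLocallyNoetherian Y :=
    LocallyOfFiniteType.isLocallyNoetherian (Y ↘ (Spec (CommRingCat.of k)))
  have hval : ∀ y : Y, ValuationRing (Y.presheaf.stalk y) := fun y => by
    obtain ⟨hd, hic⟩ := Groth.Agent.S19541.stalk_normal_of_smooth k (Y ↘ (Spec (CommRingCat.of k))) y
    exact Groth.Agent.Lib.Helper13.NormalCurve.valuationRing_of_dim_le_one _
      (hdimY ▸ Groth.Agent.S19541.ringKrullDim_stalk_le Y y)
  have hs : ∀ x, Function.Bijective (f.stalkMap x).hom := fun x => by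
    haveI := hval (f x)
    exact stalkMap_bijective f e hbir x
  have hflat : Flat f := Flat.of_stalkMap f (fun x => RingHom.Flat.of_bijective (hs x))
  have hfp : LocallyOfFinitePresentation f :=
    LocallyOfFinitePresentation.iff_locallyOfFiniteType.mpr inferInstance
  have hopen : IsOpenMap f.base := f.isOpenMap
  have hinj := injective_of_stalkMap_bijective f hs
  haveI : ∀ x, IsIso (f.stalkMap x) := fun x =>
    (ConcreteCategory.isIso_iff_bijective _).mpr (hs x)
  exact IsOpenImmersion.of_isIso_stalkMap f
    (.of_continuous_injective_isOpenMap f.continuous hinj hopen)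

end Groth.Agent.S14519
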