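import Groth.Statements.S10879
import Groth.Agent.S14519
import Mathlib
set_option backward.isDefEq.respectTransparency.types false

set_option autoImplicit false
universe u
open CategoryTheory AlgebraicGeometry
open FlatMor

namespace Groth.Agent.S10879

theorem alg_core2 {A B K : Type*} [CommRing A] [IsDomain A] [CommRing B] [IsDomain B] [Field K]
    [Algebra A K] [IsFractionRing A K] [Algebra A B] [Module.FaithfullyFlat A B]
    (j : B →+* K) (hj : Function.Injective j) (h : j.comp (algebraMap A B) = algebraMap A K) :
    Function.Bijective (algebraMap A B) := by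
  have hinj : Function.Injective (algebraMap A B) := by
    have h1 : Function.Injective (j.comp (algebraMap A B)) := by
      rw [h]; exact IsFractionRing.injective A K
    exact Function.Injective.of_comp (f := j) (by simpa using h1)
  refine ⟨hinj, fun b => ?_⟩
  have hcomp : ∀ r, algebraMap A K r = j (algebraMap A B r) := fun r => by rw [← h]; rfl
  obtain ⟨a, s, hs, hb⟩ := IsFractionRing.div_surjective (A := A) (j b)
  have hs0 : s ≠ 0 := nonZeroDivisors.ne_zero hs
  have hsK : algebraMap A K s ≠ 0 := by
    rw [Ne, map_eq_zero_iff _ (IsFractionRing.injective A K)]; exact hs0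
  have h1 : b * algebraMap A B s = algebraMap A B a := by
    apply hj
    rw [map_mul, ← hcomp, ← hcomp, ← hb, div_mul_cancel₀ _ hsK]
  have h2 : a ∈ (Ideal.span {s} : Ideal A) := by
    rw [← Ideal.comap_map_eq_self_of_faithfullyFlat (B := B) (Ideal.span {s}), Ideal.mem_comap,
      Ideal.map_span, Set.image_singleton, Ideal.mem_span_singleton']
    exact ⟨b, h1⟩
  obtain ⟨c, hc⟩ := Ideal.mem_span_singleton'.mp h2
  refine ⟨c, ?_⟩
  have hsB : algebraMap A B s ≠ 0 := by
    rw [Ne, map_eq_zero_iff _ hinj]; exact hs0
  apply mul_right_cancel₀ hsB
  rw [h1, ← map_mul, hc]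

theorem map_genericPoint {X' X : Scheme.{u}} [IsIntegral X'] [IsIntegral X] (f : X' ⟶ X)
    [Surjective f] : f (genericPoint X') = genericPoint X := by
  obtain ⟨z, hz⟩ := f.surjective (genericPoint X)
  have h1 : f (genericPoint X') ⤳ genericPoint X := by
    rw [← hz]
    exact (genericPoint_specializes z).map f.continuous
  have h2 : genericPoint X ⤳ f (genericPoint X') := genericPoint_specializes _
  exact (h1.antisymm h2).eq

theorem stalkMap_bijective {X' X : Scheme.{u}} [IsIntegral X'] [IsIntegral X] (f : X' ⟶ X)
    [Surjective f] [Flat f] (hK : IsIso (f.stalkMap (genericPoint X'))) (x : X') :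
    Function.Bijective (f.stalkMap x).hom := by
  have e := map_genericPoint f
  let s : X.functionField ⟶ X'.functionField :=
    X.presheaf.stalkSpecializes (specializes_of_eq e) ≫ f.stalkMap (genericPoint X')
  haveI : IsIso (X.presheaf.stalkSpecializes (specializes_of_eq e)) :=
    (X.presheaf.stalkCongr (.of_eq e.symm)).isIso_hom
  have hbir : Function.Bijective s.hom :=
    (ConcreteCategory.isIso_iff_bijective s).mp inferInstance
  let E : X.functionField ≃+* X'.functionField := RingEquiv.ofBijective _ hbir
  letI : Algebra (X.presheaf.stalk (f x)) X'.functionField :=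
    (E.toRingHom.comp (algebraMap (X.presheaf.stalk (f x)) X.functionField)).toAlgebra
  let E' : X.functionField ≃ₐ[X.presheaf.stalk (f x)] X'.functionField :=
    AlgEquiv.ofRingEquiv (f := E) (fun _ => rfl)
  haveI : IsFractionRing (X.presheaf.stalk (f x)) X'.functionField :=
    IsLocalization.isLocalization_of_algEquiv _ E'
  haveI : IsLocalHom (f.stalkMap x).hom := f.toLRSHom.prop x
  letI := (f.stalkMap x).hom.toAlgebra
  haveI : IsLocalHom (algebraMap (X.presheaf.stalk (f x)) (X'.presheaf.stalk x)) :=
    ‹IsLocalHom (f.stalkMap x).hom›
  haveI : Module.Flat (X.presheaf.stalk (f x)) (X'.presheaf.stalk x) := Flat.stalkMap f x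
  haveI : Module.FaithfullyFlat (X.presheaf.stalk (f x)) (X'.presheaf.stalk x) :=
    Module.FaithfullyFlat.of_flat_of_isLocalHom
  refine alg_core2 (X'.presheaf.stalkSpecializes (genericPoint_specializes x)).hom
    (IsFractionRing.injective (X'.presheaf.stalk x) X'.functionField) ?_
  rw [RingHom.algebraMap_toAlgebra, RingHom.algebraMap_toAlgebra]
  show (f.stalkMap x ≫ X'.presheaf.stalkSpecializes (genericPoint_specializes x)).hom =
    (X.presheaf.stalkSpecializes (genericPoint_specializes (f x)) ≫
      X.presheaf.stalkSpecializes (specializes_of_eq e) ≫ f.stalkMap (genericPoint X')).hom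
  rw [← Scheme.Hom.stalkSpecializes_stalkMap, ← Category.assoc,
    TopCat.Presheaf.stalkSpecializes_comp]


/-- Take integral schemes X' and X and a separated surjective morphism f : X' → X which is birational in
the sense that the induced map of function fields (the stalk map of f at the generic point of X') is
an isomorphism, and suppose f is affine (e.g. a normalization) or locally of finite presentation
(e.g. a blow-up of a Noetherian integral scheme). Then f is flat exactly when it is an isomorphism. -/
theorem result {X' X : Scheme.{u}} [IsIntegral X'] [IsIntegral X]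
    (f : X' ⟶ X) [Surjective f] [IsSeparated f] (hK : IsIso (f.stalkMap (genericPoint X')))
    (h : IsAffineHom f ∨ LocallyOfFinitePresentation f) :
    Flat f ↔ IsIso f := by
  refine ⟨fun hflat => ?_, fun _ => inferInstance⟩
  have hs := stalkMap_bijective f hK
  have hinj := Groth.Agent.S14519.injective_of_stalkMap_bijective f hs
  have hopen : IsOpenMap f.base := by
    rcases h with h | h
    · have hq := Flat.isQuotientMap_of_surjective f
      intro U hU
      rw [← hq.isOpen_preimage, Set.preimage_image_eq _ hinj]
      exact hU
    · exact f.isOpenMap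
  haveI : ∀ x, IsIso (f.stalkMap x) := fun x =>
    (ConcreteCategory.isIso_iff_bijective _).mpr (hs x)
  haveI : IsOpenImmersion f := IsOpenImmersion.of_isIso_stalkMap f
    (.of_continuous_injective_isOpenMap f.continuous hinj hopen)
  haveI : Epi f.base := (TopCat.epi_iff_surjective _).mpr f.surjective
  exact IsOpenImmersion.isIso f

end Groth.Agent.S10879
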