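import Groth.Statements.S10883
import Groth.Agent.Lib.Helper18.DetSmooth.Sing

set_option autoImplicit false
universe u
open CAlgX

namespace Groth.Agent.S10883

/-- Let k be a field and 0 < r < min(n, m), and let B be the coordinate ring of the affine determinantal
scheme of n × m matrices of rank at most r over k (polynomial ring on the entries of the generic
matrix modulo its (r+1) × (r+1) minors). A prime P of B is a smooth point over k (the localization
B_P is formally smooth over k) exactly when it corresponds to a matrix of rank exactly r, i.e. when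
P does not contain the image of the ideal generated by the r × r minors. -/
theorem result (k : Type u) [Field k] (n m r : ℕ) (hr0 : 0 < r)
    (hr : r < min n m)
    (P : PrimeSpectrum (MvPolynomial (Fin n × Fin m) k ⧸ CAlgX.minorIdeal (Matrix.of fun (i : Fin n) (j : Fin m) => (MvPolynomial.X (i, j) : MvPolynomial (Fin n × Fin m) k)) (r + 1))) :
    P ∈ Algebra.smoothLocus k (MvPolynomial (Fin n × Fin m) k ⧸ CAlgX.minorIdeal (Matrix.of fun (i : Fin n) (j : Fin m) => (MvPolynomial.X (i, j) : MvPolynomial (Fin n × Fin m) k)) (r + 1)) ↔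
      ¬ (CAlgX.minorIdeal (Matrix.of fun (i : Fin n) (j : Fin m) => (MvPolynomial.X (i, j) : MvPolynomial (Fin n × Fin m) k)) r).map
          (Ideal.Quotient.mk (CAlgX.minorIdeal (Matrix.of fun (i : Fin n) (j : Fin m) => (MvPolynomial.X (i, j) : MvPolynomial (Fin n × Fin m) k)) (r + 1))) ≤ P.asIdeal := by
  have hn : r + 1 ≤ n := lt_of_lt_of_le hr (min_le_left _ _)
  have hm : r + 1 ≤ m := lt_of_lt_of_le hr (min_le_right _ _)
  constructor
  · intro hP hle
    exact @Groth.Agent.Lib.Helper18.DetSmooth.not_formallySmooth_of_le k _ n m r hn hm P.asIdeal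
      P.isPrime hle hP
  · intro hnot
    have hex : ∃ fg : (Fin r → Fin n) × (Fin r → Fin m),
        Ideal.Quotient.mk (CAlgX.minorIdeal (W4bk4grassmannian.genMatrix k n m) (r + 1))
          ((W4bk4grassmannian.genMatrix k n m).submatrix fg.1 fg.2).det ∉ P.asIdeal := by
      by_contra hall
      push_neg at hall
      apply hnot
      unfold CAlgX.minorIdeal
      rw [Ideal.map_span, Ideal.span_le]
      rintro _ ⟨_, ⟨fg, rfl⟩, rfl⟩
      exact hall fg
    obtain ⟨fg, hfg⟩ := hex
    have hsm := Groth.Agent.Lib.Helper18.DetSmooth.formallySmooth_away (k := k) (n := n) (m := m)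
      (r := r) fg.1 fg.2
    haveI hfp : Algebra.FinitePresentation k
        (Groth.Agent.Lib.Helper18.DetSmooth.DetRing k n m r) :=
      Algebra.FinitePresentation.quotient (IsNoetherian.noetherian _)
    have hsub := (Algebra.basicOpen_subset_smoothLocus_iff (R := k)
      (A := Groth.Agent.Lib.Helper18.DetSmooth.DetRing k n m r)).mpr hsm
    exact hsub hfg

end Groth.Agent.S10883
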