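import Groth.Statements.S10890
-- import your own Groth.Agent.* helpers here
import Groth.Agent.Lib.Helper26.MinorRank

set_option autoImplicit false
universe u
open CAlgX

namespace Groth.Agent.S10890

/-- (i) ⇔ (ii): let R be a local ring, A an n × m matrix over R regarded as a linear map R^m → R^n, and
1 ≤ r ≤ n. Then the image of A is a direct summand of R^n of rank r if and only if every (r+1) ×
(r+1) minor of A is zero and the r × r minors of A generate the unit ideal. (The printed statement
is over an arbitrary ring with 'direct summand of rank r'; its proof localises at once, and this row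
states the local case, where a direct summand of R^n is free and its rank is its finrank.) -/
theorem result (R : Type u) [CommRing R] [IsLocalRing R] (n m r : ℕ)
    (hr : 1 ≤ r) (hrn : r ≤ n) (A : Matrix (Fin n) (Fin m) R) :
    (∃ N' : Submodule R (Fin n → R), IsCompl (LinearMap.range (Matrix.mulVecLin A)) N' ∧
        Module.finrank R (LinearMap.range (Matrix.mulVecLin A)) = r) ↔
      (CAlgX.minorIdeal A (r + 1) = ⊥ ∧ CAlgX.minorIdeal A r = ⊤) := by
  constructor
  · rintro ⟨N', hc, hfr⟩
    exact Groth.Agent.Lib.Helper26.MinorRank.forward A N' hc hfr
  · rintro ⟨h0, h1⟩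
    obtain ⟨f, g, hU⟩ := Groth.Agent.Lib.Helper26.MinorIdeal.exists_isUnit_minor A r h1
    exact Groth.Agent.Lib.Helper26.MinorRank.backward A f g hU h0

end Groth.Agent.S10890
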