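import Groth.Statements.S10893
import Groth.Agent.Lib.Helper29.MeroCurve2

set_option autoImplicit false
universe u
open CategoryTheory AlgebraicGeometry
open Curves

namespace Groth.Agent.S10893



section Helpers
open Mero Groth.Agent.Lib.Helper29.MeroDiv

variable {C : Scheme.{u}}

theorem mk_unit_one (x : C) :
    (QuotientGroup.mk (IsLocalization.map_units (KStalk C x) (1 : regStalk C x)).unit : Germ C x) = 1 := by
  rw [QuotientGroup.eq_one_iff]
  refine ⟨1, Units.ext ?_⟩
  simp

theorem mk_unit_ne_one (x : C) (t : regStalk C x) (ht : ¬ IsUnit (t : C.presheaf.stalk x)) :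
    (QuotientGroup.mk (IsLocalization.map_units (KStalk C x) t).unit : Germ C x) ≠ 1 := by
  intro h
  have hval : (((IsLocalization.map_units (KStalk C x) t).unit : (KStalk C x)ˣ) : KStalk C x) =
      LocalizedModule.mk (t : C.presheaf.stalk x) (1 : regStalk C x) := by
    rw [mk_eq_mk', IsLocalization.mk'_one]
    rfl
  rw [mk_eq_one_iff_exists_unit x _ _ _ hval] at h
  obtain ⟨u, hu⟩ := h
  apply ht
  rw [← hu]
  simp

end Helpers

/-- Let C be an absolute curve (Noetherian, local rings at closed points one-dimensional) none of whose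
points is open, and U ⊆ C an open dense subset. Then there is an effective divisor D on C with
support contained in U and meeting every irreducible component of C. -/
theorem result {C : Scheme.{u}} [IsNoetherian C]
    (hC : ∀ x : C, IsClosed ({x} : Set C) → ringKrullDim (C.presheaf.stalk x) = 1)
    (hpt : ∀ x : C, ¬ IsOpen ({x} : Set C)) (U : C.Opens) (hU : Dense (U : Set C)) :
    ∃ D : Mero.Divisor C, Mero.IsEffective D ∧ Mero.supp D ⊆ (U : Set C) ∧
      ∀ Z ∈ irreducibleComponents (C : Type u), (Mero.supp D ∩ Z).Nonempty := by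
  classical
  choose xZ hxZ using fun Z : irreducibleComponents C =>
    Groth.Agent.Lib.Helper29.MeroDiv.exists_good_point hC hpt U hU Z.1 Z.2
  have hfinZ : (irreducibleComponents C).Finite :=
    TopologicalSpace.NoetherianSpace.finite_irreducibleComponents
  haveI : Finite ↑(irreducibleComponents C) := hfinZ.to_subtype
  set S : Set C := Set.range xZ with hS
  have hSfin : S.Finite := Set.finite_range xZ
  have hSP : ∀ x ∈ S, x ∈ U ∧ IsClosed ({x} : Set C) ∧
      ∃ t : Mero.regStalk C x, ¬ IsUnit (t : C.presheaf.stalk x) := by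
    rintro x ⟨Z, rfl⟩
    exact (hxZ Z).2
  let t : ∀ x : C, Mero.regStalk C x := fun x =>
    if h : ∃ t : Mero.regStalk C x, ¬ IsUnit (t : C.presheaf.stalk x) then h.choose else 1
  have ht : ∀ x ∈ S, ¬ IsUnit ((t x : Mero.regStalk C x) : C.presheaf.stalk x) := by
    intro x hx
    have h := (hSP x hx).2.2
    have : t x = h.choose := dif_pos h
    rw [this]
    exact h.choose_spec
  let g : ∀ x : C, Mero.Germ C x := fun x => if x ∈ S then
    QuotientGroup.mk (IsLocalization.map_units (Mero.KStalk C x) (t x)).unit else 1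
  have hg1 : ∀ x : C, x ∉ S → g x = 1 := fun x hx => if_neg hx
  have hgS : ∀ x : C, x ∈ S →
      g x = QuotientGroup.mk (IsLocalization.map_units (Mero.KStalk C x) (t x)).unit :=
    fun x hx => if_pos hx
  have hsupp : ∀ x : C, g x ≠ 1 → x ∈ S := fun x hx => by
    by_contra h
    exact hx (hg1 x h)
  have hg : g ∈ Mero.divisorGroup C :=
    Groth.Agent.Lib.Helper29.MeroDiv.mem_divisorGroup_of_finite hC g (hSfin.subset hsupp)
      (fun x hx => hg1 x (fun h => hx (hSP x h).2.1))
  refine ⟨⟨g, hg⟩, ?_, ?_, ?_⟩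
  · intro x
    by_cases h : x ∈ S
    · exact ⟨t x, hgS x h⟩
    · exact ⟨1, (hg1 x h).trans (mk_unit_one x).symm⟩
  · intro x hx
    exact (hSP x (hsupp x hx)).1
  · intro Z hZ
    refine ⟨xZ ⟨Z, hZ⟩, ?_, (hxZ ⟨Z, hZ⟩).1⟩
    have hxS : xZ ⟨Z, hZ⟩ ∈ S := ⟨⟨Z, hZ⟩, rfl⟩
    change g (xZ ⟨Z, hZ⟩) ≠ 1
    rw [hgS _ hxS]
    exact mk_unit_ne_one _ _ (ht _ hxS)



end Groth.Agent.S10893
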