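import Groth.Statements.S10894
import Groth.Agent.Lib.Helper29.MeroCurve

set_option autoImplicit false
universe u
open CategoryTheory AlgebraicGeometry
open Curves

namespace Groth.Agent.S10894



section Helpers
open Mero Groth.Agent.Lib.Helper29.MeroDiv

variable {C : Scheme.{u}}

/-- a germ of a divisor as a quotient of two regular germs -/
theorem exists_regStalk_div [IsLocallyNoetherian C] (x : C) (g : Germ C x) :
    ∃ a b : regStalk C x, g =
      QuotientGroup.mk (IsLocalization.map_units (KStalk C x) a).unit *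
        (QuotientGroup.mk (IsLocalization.map_units (KStalk C x) b).unit)⁻¹ := by
  obtain ⟨q, rfl⟩ := QuotientGroup.mk_surjective g
  obtain ⟨α, β, hq, hα⟩ := exists_mk_eq_unit x q
  have hα' : α ∈ regStalk C x := by rw [Groth.Agent.S8863.result C x]; exact hα
  refine ⟨⟨α, hα'⟩, β, ?_⟩
  rw [← QuotientGroup.mk_inv, ← QuotientGroup.mk_mul]
  congr 1
  rw [eq_mul_inv_iff_mul_eq]
  refine Units.ext ?_
  rw [Units.val_mul, hq, mk_eq_mk']
  exact IsLocalization.mk'_spec _ _ _

theorem mk_unit_one (x : C) :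
    (QuotientGroup.mk (IsLocalization.map_units (KStalk C x) (1 : regStalk C x)).unit : Germ C x) = 1 := by
  rw [QuotientGroup.eq_one_iff]
  refine ⟨1, Units.ext ?_⟩
  simp

end Helpers

/-- On an absolute curve C (Noetherian, local rings at closed points one-dimensional) every divisor D is
a difference of two effective divisors each supported inside the support of D (divisors are written
multiplicatively, so the difference is D₁ · D₂⁻¹). -/
theorem result {C : Scheme.{u}} [IsNoetherian C]
    (hC : ∀ x : C, IsClosed ({x} : Set C) → ringKrullDim (C.presheaf.stalk x) = 1) (D : Mero.Divisor C) :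
    ∃ D₁ D₂ : Mero.Divisor C, Mero.IsEffective D₁ ∧ Mero.IsEffective D₂ ∧ D = D₁ * D₂⁻¹ ∧
      Mero.supp D₁ ⊆ Mero.supp D ∧ Mero.supp D₂ ⊆ Mero.supp D := by
  classical
  choose a b hab using fun x : C => exists_regStalk_div x (D.1 x)
  let g₁ : ∀ x : C, Mero.Germ C x := fun x => if D.1 x = 1 then 1 else
    QuotientGroup.mk (IsLocalization.map_units (Mero.KStalk C x) (a x)).unit
  let g₂ : ∀ x : C, Mero.Germ C x := fun x => if D.1 x = 1 then 1 else
    QuotientGroup.mk (IsLocalization.map_units (Mero.KStalk C x) (b x)).unit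
  have hg₁1 : ∀ x : C, D.1 x = 1 → g₁ x = 1 := fun x hx => if_pos hx
  have hg₂1 : ∀ x : C, D.1 x = 1 → g₂ x = 1 := fun x hx => if_pos hx
  have hfin := Groth.Agent.Lib.Helper29.MeroDiv.finite_supp hC D
  have hg₁ : g₁ ∈ Mero.divisorGroup C :=
    Groth.Agent.Lib.Helper29.MeroDiv.mem_divisorGroup_of_finite hC g₁
      (hfin.subset fun x hx h => hx (hg₁1 x h))
      (fun x hx => hg₁1 x (Groth.Agent.Lib.Helper29.MeroDiv.germ_eq_one_of_not_isClosed hC x hx _))
  have hg₂ : g₂ ∈ Mero.divisorGroup C :=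
    Groth.Agent.Lib.Helper29.MeroDiv.mem_divisorGroup_of_finite hC g₂
      (hfin.subset fun x hx h => hx (hg₂1 x h))
      (fun x hx => hg₂1 x (Groth.Agent.Lib.Helper29.MeroDiv.germ_eq_one_of_not_isClosed hC x hx _))
  refine ⟨⟨g₁, hg₁⟩, ⟨g₂, hg₂⟩, ?_, ?_, ?_, ?_, ?_⟩
  · intro x
    by_cases h : D.1 x = 1
    · exact ⟨1, (hg₁1 x h).trans (mk_unit_one x).symm⟩
    · exact ⟨a x, if_neg h⟩
  · intro x
    by_cases h : D.1 x = 1
    · exact ⟨1, (hg₂1 x h).trans (mk_unit_one x).symm⟩
    · exact ⟨b x, if_neg h⟩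
  · refine Subtype.ext (funext fun x => ?_)
    change D.1 x = g₁ x * (g₂ x)⁻¹
    by_cases h : D.1 x = 1
    · rw [hg₁1 x h, hg₂1 x h, h, inv_one]
      exact (mul_one (1 : Mero.Germ C x)).symm
    · have e1 : g₁ x = QuotientGroup.mk (IsLocalization.map_units (Mero.KStalk C x) (a x)).unit := if_neg h
      have e2 : g₂ x = QuotientGroup.mk (IsLocalization.map_units (Mero.KStalk C x) (b x)).unit := if_neg h
      rw [e1, e2]
      exact hab x
  · intro x hx h
    exact hx (hg₁1 x h)
  · intro x hx h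
    exact hx (hg₂1 x h)



end Groth.Agent.S10894
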