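import Groth.Statements.S10895
import Mathlib
-- import your own Groth.Agent.* helpers here

set_option autoImplicit false
universe u
open CategoryTheory AlgebraicGeometry
open FlatMor

namespace Groth.Agent.S10895

section H
open CategoryTheory CategoryTheory.Limits AlgebraicGeometry
namespace W15
set_option backward.isDefEq.respectTransparency.types false

/-- Local ring: a surjective flat ring hom to a nontrivial ring is injective. -/
theorem ker_eq_bot_of_flat_surjective {R T : Type u} [CommRing R] [IsLocalRing R] [CommRing T]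
    [Nontrivial T] (ψ : R →+* T) (hs : Function.Surjective ψ) (hflat : ψ.Flat) (g : R)
    (hg : ψ g = 0) : g = 0 := by
  letI := ψ.toAlgebra
  have hfl : Module.Flat R T := hflat
  let K : Ideal R := RingHom.ker (Algebra.ofId R T : R →ₐ[R] T).toRingHom
  have e : (R ⧸ K) ≃ₐ[R] T := Ideal.quotientKerAlgEquivOfSurjective (f := Algebra.ofId R T) hs
  have hpure : K.Pure := Module.Flat.of_linearEquiv e.toLinearEquiv
  have hgK : g ∈ K := hg
  obtain ⟨y, hyK, hy⟩ := Ideal.exists_eq_mul_of_pure hgK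
  have hKne : K ≠ ⊤ := by
    intro h
    have : (1 : R) ∈ K := h ▸ Submodule.mem_top
    have h1 : ψ 1 = 0 := this
    rw [map_one] at h1
    exact one_ne_zero h1
  have hym : y ∈ IsLocalRing.maximalIdeal R := IsLocalRing.le_maximalIdeal hKne hyK
  have hu : IsUnit (1 - y) := IsLocalRing.isUnit_one_sub_self_of_mem_nonunits y hym
  have h0 : g * (1 - y) = 0 := by rw [mul_sub, mul_one, ← hy, sub_self]
  exact (hu.mul_left_eq_zero).1 h0

theorem main {X Y : Scheme.{u}} (f : X ⟶ Y) [IsClosedImmersion f]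
    [LocallyOfFinitePresentation f] (x : X) (hflat : (f.stalkMap x).hom.Flat) :
    ∃ V : Y.Opens, f.base x ∈ V ∧ IsIso (f ∣_ V) := by
  obtain ⟨V, hV, hxV⟩ : ∃ V : Y.Opens, IsAffineOpen V ∧ f x ∈ V := by
    obtain ⟨_, ⟨V, hV, rfl⟩, hxV, -⟩ :=
      Y.isBasis_affineOpens.exists_subset_of_mem_open (Set.mem_univ (f x)) isOpen_univ
    exact ⟨V, hV, hxV⟩
  have hU : IsAffineOpen (f ⁻¹ᵁ V) := hV.preimage f
  let φ : Γ(Y, V) →+* Γ(X, f ⁻¹ᵁ V) := (f.app V).hom
  have hφs : Function.Surjective φ := (isClosedImmersion_iff_isAffineHom.1 ‹_›).2 V hV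
  have hfp : φ.FinitePresentation := by
    have := HasRingHomProperty.appLE (P := @LocallyOfFinitePresentation) f inferInstance
      ⟨V, hV⟩ ⟨f ⁻¹ᵁ V, hU⟩ le_rfl
    rwa [Scheme.Hom.appLE_eq_app] at this
  let I : Ideal Γ(Y, V) := RingHom.ker φ
  have hIfg : I.FG := by
    letI := φ.toAlgebra
    have : Algebra.FinitePresentation Γ(Y, V) Γ(X, f ⁻¹ᵁ V) := hfp
    exact Algebra.FinitePresentation.ker_fG_of_surjective (Algebra.ofId Γ(Y, V) Γ(X, f ⁻¹ᵁ V)) hφs
  -- germs of elements of I vanish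
  have hgerm : ∀ a ∈ I, Y.presheaf.germ V (f x) hxV a = 0 := by
    intro a ha
    apply ker_eq_bot_of_flat_surjective (f.stalkMap x).hom (f.stalkMap_surjective x) hflat
    have h1 := congrArg (fun k => k.hom a) (Scheme.Hom.germ_stalkMap f V x hxV)
    have h2 : (f.stalkMap x).hom (Y.presheaf.germ V (f x) hxV a) =
        X.presheaf.germ (f ⁻¹ᵁ V) x hxV (φ a) := h1
    rw [h2, show φ a = 0 from ha, map_zero]
  let p := hV.primeIdealOf ⟨f x, hxV⟩
  letI : Algebra Γ(Y, V) (Y.presheaf.stalk (f x)) :=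
    TopCat.Presheaf.algebra_section_stalk Y.presheaf ⟨f x, hxV⟩
  have hloc : IsLocalization.AtPrime (Y.presheaf.stalk (f x)) p.asIdeal :=
    hV.isLocalization_stalk ⟨f x, hxV⟩
  have h3 : ∀ a : I, ∃ r ∉ p.asIdeal, r • a = 0 := by
    intro a
    have h := hgerm a.1 a.2
    obtain ⟨m, hm⟩ := (IsLocalization.map_eq_zero_iff p.asIdeal.primeCompl
      (Y.presheaf.stalk (f x)) a.1).1 h
    exact ⟨m.1, m.2, Subtype.ext hm⟩
  have h4 : p ∉ Module.support Γ(Y, V) I := Module.notMem_support_iff'.2 h3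
  have hfin : Module.Finite Γ(Y, V) I := Module.Finite.iff_fg.2 hIfg
  rw [Module.mem_support_iff_of_finite] at h4
  obtain ⟨s, hsann, hsp⟩ := SetLike.not_le_iff_exists.1 h4
  have hxs : f x ∈ Y.basicOpen s := by
    have h1 : hV.fromSpec p = f x := hV.fromSpec_primeIdealOf ⟨f x, hxV⟩
    have h2 : p ∈ hV.fromSpec ⁻¹ᵁ Y.basicOpen s := by
      rw [hV.fromSpec_preimage_basicOpen]
      exact hsp
    rw [← h1]
    exact h2
  refine ⟨Y.basicOpen s, hxs, ?_⟩
  have hW : IsAffineOpen (Y.basicOpen s) := hV.basicOpen s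
  have hWa : IsAffine (Y.basicOpen s).toScheme := hW
  rw [IsClosedImmersion.isIso_iff_ker_eq_bot]
  apply Scheme.IdealSheafData.ext_of_isAffine
  rw [Scheme.ker_morphismRestrict_ideal]
  simp only [Scheme.IdealSheafData.ideal_bot, Pi.bot_apply]
  have key : f.ker.ideal (Y.affineBasicOpen (U := ⟨V, hV⟩) s) = ⊥ := by
    rw [← Scheme.IdealSheafData.map_ideal_basicOpen, Scheme.Hom.ker_apply]
    refine (Ideal.map_eq_bot_iff_le_ker _).2 ?_
    intro a ha
    have hsa : s * a = 0 := by
      have := (Module.mem_annihilator.1 hsann) ⟨a, ha⟩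
      exact congrArg Subtype.val this
    rw [RingHom.mem_ker]
    have hu : IsUnit ((Y.presheaf.map (homOfLE (Y.basicOpen_le s)).op).hom s) :=
      RingedSpace.isUnit_res_basicOpen _ s
    have h5 := congrArg (Y.presheaf.map (homOfLE (Y.basicOpen_le s)).op).hom hsa
    rw [map_mul, map_zero] at h5
    exact (hu.mul_right_eq_zero).1 h5
  have hle : (⟨(Y.basicOpen s).ι ''ᵁ ⊤, (isAffineOpen_top _).image_of_isOpenImmersion _⟩ :
      Y.affineOpens) ≤ Y.affineBasicOpen (U := ⟨V, hV⟩) s := by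
    show (Y.basicOpen s).ι ''ᵁ ⊤ ≤ Y.basicOpen s
    simp
  rw [← Scheme.IdealSheafData.map_ideal _ hle, key, Ideal.map_bot]
  rfl

end W15
end H


/-- A closed immersion of finite presentation which is flat at a point x is an isomorphism over some
open neighbourhood of the image of x. -/
theorem result {X Y : Scheme.{u}} (f : X ⟶ Y) [IsClosedImmersion f]
    [LocallyOfFinitePresentation f] (x : X) (hflat : (f.stalkMap x).hom.Flat) :
    ∃ V : Y.Opens, f.base x ∈ V ∧ IsIso (f ∣_ V) := by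
  exact W15.main f x hflat

end Groth.Agent.S10895
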