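import Groth.Statements.S10897
import Groth.Agent.Lib.Helper1.CubicKThree

set_option autoImplicit false
universe u
open Cubic

namespace Groth.Agent.S10897

open Groth.Agent.Lib.Helper1.CubicK Module Submodule

theorem smooth_of_poly {k : Type u} [Field k] [CharZero k]
    (f : MvPolynomial (Fin 4) k) (hf : f.IsHomogeneous 3)
    (hsm : ∀ v : Fin 4 → k, v ≠ 0 → MvPolynomial.eval v f = 0 →
      ∃ i : Fin 4, MvPolynomial.eval v (MvPolynomial.pderiv i f) ≠ 0) :
    (symTriOf f hf).Smooth := by
  intro v hv hFv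
  have hFv' : MvPolynomial.eval v f = 0 := by rw [← symTriOf_diag f hf v]; exact hFv
  obtain ⟨i, hi⟩ := hsm v hv hFv'
  refine ⟨Pi.single i 1, ?_⟩
  intro h0
  apply hi
  have := symTriOf_pderiv f hf (Pi.single i 1) v
  rw [(symTriOf f hf).s13, (symTriOf f hf).s12] at this
  rw [h0, mul_zero] at this
  rw [← this]
  simp [Pi.single_apply]

/-- a set without four distinct elements is finite of cardinality at most three -/
theorem ncard_le_three {α : Type*} (s : Set α)
    (h : ∀ U : Fin 4 → α, Function.Injective U → (∀ i, U i ∈ s) → False) :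
    s.Finite ∧ s.ncard ≤ 3 := by
  have hfin : s.Finite := by
    by_contra hinf
    obtain ⟨t, hts, htc⟩ := (Set.not_finite.mp hinf).exists_subset_card_eq 4
    let e := (Finset.equivFinOfCardEq htc).symm
    exact h (fun i => (e i : α)) (fun i j hij => e.injective (Subtype.ext hij))
      (fun i => hts (e i).2)
  refine ⟨hfin, ?_⟩
  by_contra hgt
  have h4 : 4 ≤ hfin.toFinset.card := by
    rw [← Set.ncard_eq_toFinset_card s hfin]; omega
  obtain ⟨t, hts, htc⟩ := Finset.exists_subset_card_eq h4
  let e := (Finset.equivFinOfCardEq htc).symm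
  exact h (fun i => (e i : α)) (fun i j hij => e.injective (Subtype.ext hij))
    (fun i => (Set.Finite.mem_toFinset hfin).mp (hts (e i).2))

/-- Over an algebraically closed field of characteristic zero, through a point s of a smooth cubic
surface S = V_+(f) ⊂ P^3 there pass at most three lines contained in S, and these lines are
coplanar. With s given by a nonzero vector v with f(v) = 0, the lines through s on S are the
2-dimensional subspaces of k^4 containing v on which f vanishes; there are at most three of them and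
one 3-dimensional subspace contains them all. -/
theorem result (k : Type u) [Field k] [IsAlgClosed k] [CharZero k]
    (f : MvPolynomial (Fin 4) k) (hf : f.IsHomogeneous 3) (hf0 : f ≠ 0)
    (hsm : ∀ v : Fin 4 → k, v ≠ 0 → MvPolynomial.eval v f = 0 →
      ∃ i : Fin 4, MvPolynomial.eval v (MvPolynomial.pderiv i f) ≠ 0)
    (v : Fin 4 → k) (hv : v ≠ 0) (hfv : MvPolynomial.eval v f = 0) :
    {U : Submodule k (Fin 4 → k) | v ∈ U ∧ (Module.finrank k ↥U = 2 ∧ ∀ u ∈ U, MvPolynomial.eval u f = 0)}.Finite ∧
      {U : Submodule k (Fin 4 → k) | v ∈ U ∧ (Module.finrank k ↥U = 2 ∧ ∀ u ∈ U, MvPolynomial.eval u f = 0)}.ncard ≤ 3 ∧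
      ∃ H : Submodule k (Fin 4 → k), Module.finrank k ↥H = 3 ∧
        ∀ U : Submodule k (Fin 4 → k), v ∈ U → (Module.finrank k ↥U = 2 ∧ ∀ u ∈ U, MvPolynomial.eval u f = 0) → U ≤ H := by
  set S := symTriOf f hf with hS
  have hSF : ∀ x, S.F x = MvPolynomial.eval x f := fun x => symTriOf_diag f hf x
  have hs : S.Smooth := smooth_of_poly f hf hsm
  have hFv : S.F v = 0 := by rw [hSF]; exact hfv
  have h12 := ncard_le_three {U : Submodule k (Fin 4 → k) | v ∈ U ∧
      (Module.finrank k ↥U = 2 ∧ ∀ u ∈ U, MvPolynomial.eval u f = 0)} (by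
    intro U hU hmem
    exact S.no_four_lines hs v hv hFv U hU (fun i => ⟨(hmem i).1, (hmem i).2.1,
      fun u hu => by rw [hSF]; exact (hmem i).2.2 u hu⟩))
  refine ⟨h12.1, h12.2, ?_⟩
  obtain ⟨u₀, hu₀⟩ := hs v hv hFv
  refine ⟨LinearMap.ker (S.lin v v), ?_, ?_⟩
  · have hsurj : Function.Surjective (S.lin v v) := by
      intro c
      refine ⟨(c / S.T v v u₀) • u₀, ?_⟩
      rw [map_smul, SymTri.lin_apply, smul_eq_mul, div_mul_cancel₀ _ hu₀]
    have h1 := LinearMap.finrank_range_add_finrank_ker (S.lin v v)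
    rw [LinearMap.range_eq_top.mpr hsurj, finrank_top, Module.finrank_self] at h1
    have h4 : Module.finrank k (V k) = 4 := by simp [V]
    rw [h4] at h1
    exact Nat.add_left_cancel (n := 1) (h1.trans rfl)
  · intro U hvU hU u hu
    rw [LinearMap.mem_ker, SymTri.lin_apply]
    have := S.line_conds v u (fun s t => by
      rw [hSF]
      exact hU.2 _ (Submodule.add_mem _ (Submodule.smul_mem _ _ hvU) (Submodule.smul_mem _ _ hu)))
    exact this.2.1

end Groth.Agent.S10897
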