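import Groth.Statements.S12425
import Groth.Agent.Lib.Helper1.CubicKFive

set_option autoImplicit false
universe u
open Cubic

namespace Groth.Agent.S12425

open Groth.Agent.Lib.Helper1.CubicK Module Submodule

theorem smooth_of_poly {k : Type u} [Field k] [CharZero k]
    (f : MvPolynomial (Fin 4) k) (hf : f.IsHomogeneous 3)
    (hsm : ∀ v : Fin 4 → k, v ≠ 0 → MvPolynomial.eval v f = 0 →
      ∃ i : Fin 4, MvPolynomial.eval v (MvPolynomial.pderiv i f) ≠ 0) :
    (symTriOf f hf).Smooth := by
  intro v hv hFv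
  have hFv' : MvPolynomial.eval v f = 0 := by rw [← symTriOf_diag f hf v]; exact hFv
  obtain ⟨i, hi⟩ := hsm v hv hFv'
  refine ⟨Pi.single i 1, ?_⟩
  intro h0
  apply hi
  have := symTriOf_pderiv f hf (Pi.single i 1) v
  rw [(symTriOf f hf).s13, (symTriOf f hf).s12] at this
  rw [h0, mul_zero] at this
  rw [← this]
  simp [Pi.single_apply]

/-- Let k be an algebraically closed field of characteristic zero, S = V_+(f) ⊂ P^3_k a smooth cubic
surface (f a nonzero homogeneous cubic with the Jacobian condition at every nonzero zero) and L a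
line on S, i.e. a 2-dimensional subspace of k^4 on which f vanishes. Then exactly five hyperplanes H
⊇ L have H ∩ S equal to a union of three different lines: the set of 3-dimensional subspaces H of
k^4 containing L and containing two further lines of S, distinct from each other and from L, has
exactly 5 elements. -/
theorem result (k : Type u) [Field k] [IsAlgClosed k] [CharZero k]
    (f : MvPolynomial (Fin 4) k) (hf : f.IsHomogeneous 3) (hf0 : f ≠ 0)
    (hsm : ∀ v : Fin 4 → k, v ≠ 0 → MvPolynomial.eval v f = 0 →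
      ∃ i : Fin 4, MvPolynomial.eval v (MvPolynomial.pderiv i f) ≠ 0)
    (L : Submodule k (Fin 4 → k)) (hL : Module.finrank k ↥L = 2) (hLS : ∀ u ∈ L, MvPolynomial.eval u f = 0) :
    {H : Submodule k (Fin 4 → k) | Module.finrank k ↥H = 3 ∧ L ≤ H ∧
      ∃ L' L'' : Submodule k (Fin 4 → k), Module.finrank k ↥L' = 2 ∧ Module.finrank k ↥L'' = 2 ∧
        L' ≠ L ∧ L'' ≠ L ∧ L' ≠ L'' ∧ L' ≤ H ∧ L'' ≤ H ∧
        (∀ u ∈ L', MvPolynomial.eval u f = 0) ∧ (∀ u ∈ L'', MvPolynomial.eval u f = 0)}.ncard = 5 := by
  set S := symTriOf f hf with hS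
  have hSF : ∀ x, S.F x = MvPolynomial.eval x f := fun x => symTriOf_diag f hf x
  have hs : S.Smooth := smooth_of_poly f hf hsm
  have key := S.five_planes hs L hL (fun u hu => by rw [hSF]; exact hLS u hu)
  rw [← key]
  congr 1
  ext H
  simp only [Set.mem_ofPred_eq, SymTri.TwoLines, hSF]

end Groth.Agent.S12425
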