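import Groth.Statements.S10896
import Groth.Agent.S12425
import Groth.Agent.S10897

set_option autoImplicit false
universe u
open Cubic

namespace Groth.Agent.S10896

open Module Submodule

theorem sup_eq_of_two {k : Type u} [Field k] (U M H : Submodule k (Fin 4 → k))
    (hU : finrank k ↥U = 2) (hM : finrank k ↥M = 2) (hH : finrank k ↥H = 3)
    (hUH : U ≤ H) (hMH : M ≤ H) (hne : M ≠ U) : U ⊔ M = H := by
  apply Submodule.eq_of_le_of_finrank_eq (sup_le hUH hMH)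
  have hlt : U < U ⊔ M := by
    rw [lt_iff_le_and_ne]
    refine ⟨le_sup_left, fun h => ?_⟩
    apply hne
    apply Submodule.eq_of_le_of_finrank_eq
    · rw [h]; exact le_sup_right
    · rw [hM, hU]
  have h1 := Submodule.finrank_lt_finrank_of_lt hlt
  have h2 := Submodule.finrank_mono (sup_le hUH hMH)
  omega

theorem inf_eq_of_two {k : Type u} [Field k] (U H₁ H₂ : Submodule k (Fin 4 → k))
    (hU : finrank k ↥U = 2) (h1 : finrank k ↥H₁ = 3) (h2 : finrank k ↥H₂ = 3)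
    (hU1 : U ≤ H₁) (hU2 : U ≤ H₂) (hne : H₁ ≠ H₂) : H₁ ⊓ H₂ = U := by
  symm
  apply Submodule.eq_of_le_of_finrank_le (le_inf hU1 hU2)
  rw [hU]
  by_contra hcon
  push Not at hcon
  have hle := Submodule.finrank_mono (inf_le_left : H₁ ⊓ H₂ ≤ H₁)
  have e1 : H₁ ⊓ H₂ = H₁ := Submodule.eq_of_le_of_finrank_eq inf_le_left (by omega)
  have hle2 : H₁ ≤ H₂ := by rw [← e1]; exact inf_le_right
  exact hne (Submodule.eq_of_le_of_finrank_eq hle2 (by rw [h1, h2]))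

theorem mainAux (k : Type u) [Field k] [IsAlgClosed k] [CharZero k]
    (f : MvPolynomial (Fin 4) k) (hf : f.IsHomogeneous 3) (hf0 : f ≠ 0)
    (hsm : ∀ v : Fin 4 → k, v ≠ 0 → MvPolynomial.eval v f = 0 →
      ∃ i : Fin 4, MvPolynomial.eval v (MvPolynomial.pderiv i f) ≠ 0)
    (hL : ∃ U : Submodule k (Fin 4 → k), (Module.finrank k ↥U = 2 ∧ ∀ u ∈ U, MvPolynomial.eval u f = 0)) :
    ∃ U₁ U₂ : Submodule k (Fin 4 → k), (Module.finrank k ↥U₁ = 2 ∧ ∀ u ∈ U₁, MvPolynomial.eval u f = 0) ∧ (Module.finrank k ↥U₂ = 2 ∧ ∀ u ∈ U₂, MvPolynomial.eval u f = 0) ∧ U₁ ⊓ U₂ = ⊥ := by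
  obtain ⟨U, hU2, hUF⟩ := hL
  have h5 := Groth.Agent.S12425.result k f hf hf0 hsm U hU2 hUF
  have hfin := Set.finite_of_ncard_pos (by rw [h5]; norm_num)
  obtain ⟨H₁, H₂, hH₁, hH₂, hne⟩ := (Set.one_lt_ncard_iff hfin).mp (by rw [h5]; norm_num)
  obtain ⟨h13, hU1, L₁, -, hL₁2, -, hL₁U, -, -, hL₁H, -, hL₁F, -⟩ := hH₁
  obtain ⟨h23, hU2', L₂, -, hL₂2, -, hL₂U, -, -, hL₂H, -, hL₂F, -⟩ := hH₂
  refine ⟨L₁, L₂, ⟨hL₁2, hL₁F⟩, ⟨hL₂2, hL₂F⟩, ?_⟩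
  by_contra hbot
  obtain ⟨v, hvmem, hv0⟩ := Submodule.exists_mem_ne_zero_of_ne_bot hbot
  obtain ⟨hv1, hv2⟩ := Submodule.mem_inf.mp hvmem
  have hvU : v ∈ U := by
    rw [← inf_eq_of_two U H₁ H₂ hU2 h13 h23 hU1 hU2' hne]
    exact Submodule.mem_inf.mpr ⟨hL₁H hv1, hL₂H hv2⟩
  obtain ⟨-, -, H, hH3, hall⟩ := Groth.Agent.S10897.result k f hf hf0 hsm v hv0 (hUF v hvU)
  have hUH := hall U hvU ⟨hU2, hUF⟩
  have hL₁H' := hall L₁ hv1 ⟨hL₁2, hL₁F⟩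
  have hL₂H' := hall L₂ hv2 ⟨hL₂2, hL₂F⟩
  have e1 : H₁ = H := by
    rw [← sup_eq_of_two U L₁ H₁ hU2 hL₁2 h13 hU1 hL₁H hL₁U,
      sup_eq_of_two U L₁ H hU2 hL₁2 hH3 hUH hL₁H' hL₁U]
  have e2 : H₂ = H := by
    rw [← sup_eq_of_two U L₂ H₂ hU2 hL₂2 h23 hU2' hL₂H hL₂U,
      sup_eq_of_two U L₂ H hU2 hL₂2 hH3 hUH hL₂H' hL₂U]
  exact hne (e1.trans e2.symm)

/-- Over an algebraically closed field of characteristic zero, a smooth cubic surface S = V_+(f) ⊂ P^3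
which contains a line contains two disjoint lines (2-dimensional subspaces of k^4 on which f
vanishes and which intersect trivially). -/
theorem result (k : Type u) [Field k] [IsAlgClosed k] [CharZero k]
    (f : MvPolynomial (Fin 4) k) (hf : f.IsHomogeneous 3) (hf0 : f ≠ 0)
    (hsm : ∀ v : Fin 4 → k, v ≠ 0 → MvPolynomial.eval v f = 0 →
      ∃ i : Fin 4, MvPolynomial.eval v (MvPolynomial.pderiv i f) ≠ 0)
    (hL : ∃ U : Submodule k (Fin 4 → k), (Module.finrank k ↥U = 2 ∧ ∀ u ∈ U, MvPolynomial.eval u f = 0)) :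
    ∃ U₁ U₂ : Submodule k (Fin 4 → k), (Module.finrank k ↥U₁ = 2 ∧ ∀ u ∈ U₁, MvPolynomial.eval u f = 0) ∧ (Module.finrank k ↥U₂ = 2 ∧ ∀ u ∈ U₂, MvPolynomial.eval u f = 0) ∧ U₁ ⊓ U₂ = ⊥ := by
  exact mainAux k f hf hf0 hsm hL

end Groth.Agent.S10896
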