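import Groth.Statements.S10899
-- import your own Groth.Agent.* helpers here
import Groth.Agent.Lib.Helper23.PolyR1

set_option autoImplicit false
universe u
open Polynomial
open WDiv

namespace Groth.Agent.S10899

/-- Let A be a Noetherian integral domain which is regular in codimension 1, i.e. whose localization at
every prime ideal of height 1 is a discrete valuation ring. Then the polynomial ring A[X] is regular
in codimension 1 as well: its localization at every prime ideal of height 1 is a discrete valuation
ring. -/
theorem result (A : Type u) [CommRing A]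
    [IsDomain A] [IsNoetherianRing A]
    (hR1 : ∀ (p : Ideal A) [p.IsPrime], p.height = 1 → IsDiscreteValuationRing (Localization.AtPrime p))
    (P : Ideal A[X]) [P.IsPrime] (hP : P.height = 1) :
    IsDiscreteValuationRing (Localization.AtPrime P) := by
  classical
  have hP0 : P ≠ ⊥ := Ideal.ne_bot_of_height_eq_one hP
  have hgood : ∃ f ∈ P, ∀ h ∈ P, Helper23.PolyR1.Good P f h := by
    by_cases hc : P.comap (C : A →+* A[X]) = ⊥
    · exact Helper23.PolyR1.exists_good_of_comap_bot P hP0 hc
    · exact Helper23.PolyR1.exists_good_of_comap_ne_bot hR1 P hP hc
  obtain ⟨f, hf, H⟩ := hgood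
  have hprin := Helper23.PolyR1.isPrincipal_of_good P f hf H
  have hinj : Function.Injective (algebraMap A[X] (Localization.AtPrime P)) :=
    IsLocalization.injective _ P.primeCompl_le_nonZeroDivisors
  have hnf : ¬ IsField (Localization.AtPrime P) := by
    rw [IsLocalRing.isField_iff_maximalIdeal_eq, ← Localization.AtPrime.map_eq_maximalIdeal]
    intro h
    obtain ⟨g, hg, hg0⟩ := Submodule.exists_mem_ne_zero_of_ne_bot hP0
    have : algebraMap A[X] (Localization.AtPrime P) g ∈
        Ideal.map (algebraMap A[X] (Localization.AtPrime P)) P := Ideal.mem_map_of_mem _ hg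
    rw [h] at this
    exact hg0 (hinj (by simpa using this))
  exact ((IsDiscreteValuationRing.TFAE (Localization.AtPrime P) hnf).out 0 4).mpr hprin

end Groth.Agent.S10899
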