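import Groth.Statements.S10903
import Mathlib
import Groth.Agent.Lib.Helper21.DepthKit12
import Groth.Agent.S10918

set_option autoImplicit false
universe u
open CInt

namespace Groth.Agent.S10903

open IsLocalRing Module Pointwise RingTheory.Sequence
open Groth.Agent.Lib.Helper21.DepthKit

section Core
variable (k : Type u) [Field k] (n r : ℕ)

theorem core (hr : r ≤ n) (J : Ideal (MvPolynomial (Fin (n + 1)) k))
    (xs : List (MvPolynomial (Fin (n + 1)) k)) (hJxs : J = Ideal.ofList xs) (hlen : xs.length = r)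
    (hJ : J.height = r) (g : MvPolynomial (Fin (n + 1)) k)
    (hg : ∀ i : Fin (n + 1), ∃ m : ℕ, MvPolynomial.X i ^ m * g ∈ J) : g ∈ J := by
  subst hJxs
  have hreg : ∀ (p : Ideal (MvPolynomial (Fin (n + 1)) k)) (_ : p.IsPrime),
      IsRegularLocalRing (Localization.AtPrime p) := fun p hp => inferInstance
  have hht : (xs.length : ℕ∞) ≤ (Ideal.ofList xs).height := by rw [hJ, hlen]
  by_contra hgJ
  have hgb : Ideal.Quotient.mk (Ideal.ofList xs) g ≠ 0 := by
    rwa [Ne, Ideal.Quotient.eq_zero_iff_mem]
  obtain ⟨P, hP, hle⟩ := exists_le_isAssociatedPrime_of_isNoetherianRing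
    (R := MvPolynomial (Fin (n + 1)) k ⧸ Ideal.ofList xs) _ hgb
  haveI hPp : P.IsPrime := hP.isPrime
  have hx : ∀ i, Ideal.Quotient.mk (Ideal.ofList xs) (MvPolynomial.X i) ∈ P := by
    intro i
    obtain ⟨m, hm⟩ := hg i
    have h1 : Ideal.Quotient.mk (Ideal.ofList xs) (MvPolynomial.X i) ^ m ∈ P := by
      apply hle
      rw [Submodule.mem_colon_singleton, Submodule.mem_bot, smul_eq_mul, ← map_pow, ← map_mul]
      exact Ideal.Quotient.eq_zero_iff_mem.2 hm
    exact hPp.mem_of_pow_mem _ h1
  haveI : (P.comap (algebraMap (MvPolynomial (Fin (n + 1)) k)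
      (MvPolynomial (Fin (n + 1)) k ⧸ Ideal.ofList xs))).IsPrime := Ideal.comap_isPrime _ P
  have h1 := Groth.Agent.S10918.le_height_of_X_mem
    (P.comap (algebraMap (MvPolynomial (Fin (n + 1)) k)
      (MvPolynomial (Fin (n + 1)) k ⧸ Ideal.ofList xs))) (fun j => hx j)
  obtain ⟨hcm, h2⟩ := Groth.Agent.S10918.quot_ofList_facts hreg xs hht P
  have h3 := (depth_localization_eq_zero_iff
    (M := MvPolynomial (Fin (n + 1)) k ⧸ Ideal.ofList xs) P).2 hP
  unfold LocCoh.IsCohenMacaulayModule at hcm
  rw [h3, Groth.Agent.S2659.supportDim_locSelf P] at hcm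
  have h4 : P.height = 0 := by exact_mod_cast hcm
  rw [← h2, h4, hlen, zero_add] at h1
  have : n + 1 ≤ r := by exact_mod_cast h1
  omega

end Core


/-- Let k be a field, S = k[x_0, …, x_n], and f_1, …, f_r with r ≤ n homogeneous polynomials of positive
degrees whose ideal J = (f_1, …, f_r) has height r — the subscheme of P^n_k cut out by the
hypersurfaces f_i = 0 has codimension r, an ideal-theoretic complete intersection. Then J is
saturated with respect to the irrelevant ideal (x_0, …, x_n): an element g of S such that, for each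
i, x_i^m g ∈ J for some m, already lies in J. Hence J is the full homogeneous ideal of that
subscheme (a global complete intersection). -/
theorem result (k : Type u) [Field k] (n r : ℕ)
    (hr : r ≤ n) (f : Fin r → MvPolynomial (Fin (n + 1)) k) (d : Fin r → ℕ)
    (hf : ∀ i, (f i).IsHomogeneous (d i)) (hd : ∀ i, 0 < d i)
    (hJ : (Ideal.span (Set.range f)).height = r) (g : MvPolynomial (Fin (n + 1)) k)
    (hg : ∀ i : Fin (n + 1), ∃ m : ℕ, MvPolynomial.X i ^ m * g ∈ Ideal.span (Set.range f)) :
    g ∈ Ideal.span (Set.range f) := by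
  refine core k n r hr (Ideal.span (Set.range f)) (List.ofFn f) ?_ (List.length_ofFn) hJ g hg
  unfold Ideal.ofList
  congr 1
  ext x
  simp [List.mem_ofFn]

end Groth.Agent.S10903
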