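import Groth.Statements.S10908
import Groth.Agent.Lib.Helper28.GrSect

set_option autoImplicit false
universe u
open ProjDeg

namespace Groth.Agent.S10908


open AlgebraicGeometry TopologicalSpace Opposite Groth.Agent.Lib.Helper28

section
variable {R A : Type u} [CommRing R] [CommRing A] [IsDomain A] [Algebra R A]
  (𝒜 : ℕ → Submodule R A) [GradedAlgebra 𝒜]

/-- domain lemma: if `b * h ∈ 𝒜 (p + q)` with `0 ≠ h ∈ 𝒜 q` then `b ∈ 𝒜 p` -/
theorem mem_of_mul_mem {p q : ℕ} {b h : A} (hh : h ∈ 𝒜 q) (h0 : h ≠ 0) (hb : b * h ∈ 𝒜 (p + q)) :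
    b ∈ 𝒜 p := by
  classical
  have key : ∀ i, i ≠ p → (DirectSum.decompose 𝒜 b i : A) = 0 := by
    intro i hi
    have h1 : (DirectSum.decompose 𝒜 (b * h) (i + q) : A) = (DirectSum.decompose 𝒜 b i : A) * h := by
      rw [DirectSum.coe_decompose_mul_of_right_mem_of_le 𝒜 hh (Nat.le_add_left q i), Nat.add_sub_cancel]
    have h2 : (DirectSum.decompose 𝒜 (b * h) (i + q) : A) = 0 := by
      rw [DirectSum.decompose_of_mem_ne 𝒜 hb]
      omega
    rw [h2] at h1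
    exact (mul_eq_zero.1 h1.symm).resolve_right h0
  rw [← DirectSum.sum_support_decompose 𝒜 b]
  refine Submodule.sum_mem _ fun i _ => ?_
  by_cases hi : i = p
  · subst hi; exact SetLike.coe_mem _
  · rw [key i hi]; exact zero_mem _

/-- the generic point of `Proj` of a graded domain with `𝒜 1 ≠ 0` -/
def gen (h1 : 𝒜 1 ≠ ⊥) : ProjectiveSpectrum 𝒜 :=
  ⟨⊥, Ideal.isPrime_bot, fun hle => by
    obtain ⟨g, hg, hg0⟩ := Submodule.exists_mem_ne_zero_of_ne_bot h1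
    exact hg0 (hle (HomogeneousIdeal.mem_irrelevant_of_mem 𝒜 Nat.one_pos hg))⟩

theorem gen_mem (h1 : 𝒜 1 ≠ ⊥) (V : Opens (ProjectiveSpectrum.top 𝒜)) (y : ProjectiveSpectrum 𝒜)
    (hy : y ∈ V) : gen 𝒜 h1 ∈ V := by
  obtain ⟨k, g, hg, hgy, hV⟩ := GrSect.exists_homogeneous_basicOpen 𝒜 V y hy
  refine hV _ fun h => hgy ?_
  have : g = 0 := h
  rw [this]
  exact zero_mem _

theorem mk_eq_mk_iff' (y : ProjectiveSpectrum 𝒜) (a b : A)
    (s r : y.asHomogeneousIdeal.toIdeal.primeCompl) :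
    (Localization.mk a s : Twist.Loc 𝒜 y) = Localization.mk b r ↔ a * r = b * s := by
  rw [Localization.mk_eq_mk_iff, Localization.r_iff_exists]
  constructor
  · rintro ⟨c, hc⟩
    have hc0 : (c : A) ≠ 0 := fun h => c.2 (by rw [h]; exact zero_mem _)
    have := mul_left_cancel₀ hc0 hc
    rw [mul_comm a, this, mul_comm]
  · intro h
    exact ⟨1, by rw [mul_comm (r : A), h, mul_comm b]⟩


theorem exists_frac_global (h1 : 𝒜 1 ≠ ⊥) (d : ℕ) (t : Twist.sectN (𝒜 := 𝒜) (d : ℤ) (op ⊤))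
    {g : A} (hg : g ∈ 𝒜 1) (hg0 : g ≠ 0) :
    ∃ (k : ℕ) (m : A) (_ : m ∈ 𝒜 (k + d)) (hk : g ^ k ∉ (gen 𝒜 h1).asHomogeneousIdeal),
      ((t.1 ⟨gen 𝒜 h1, trivial⟩).1 : Twist.Loc 𝒜 (gen 𝒜 h1)) = Localization.mk m ⟨g ^ k, hk⟩ := by
  classical
  let F : ∀ x : ProjectiveSpectrum.basicOpen 𝒜 g, GrSect.LocM 𝒜 (M := A) x.1 :=
    fun x => (t.1 ⟨x.1, trivial⟩).1
  have hF : GrSect.IsLocFracOn 𝒜 𝒜 g (d : ℤ) F := by
    intro x
    have h := t.2 ⟨x.1, trivial⟩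
    obtain ⟨V, hxV, i, i', j, a, s, s_nin, hdeg, hval⟩ := h
    refine ⟨V ⊓ ProjectiveSpectrum.basicOpen 𝒜 g, ⟨hxV, x.2⟩, fun y hy => hy.2, i', j, a.1, a.2,
      s.1, s.2, fun y hy => s_nin ⟨y, hy.1⟩, hdeg, fun y hy => ?_⟩
    exact hval ⟨y, hy.1⟩
  have h := GrSect.exists_frac (𝒜 := 𝒜) (ℳ := 𝒜) hg Nat.one_pos (d : ℤ) F hF
  obtain ⟨k, i, m, hm, hi, hval⟩ := h
  have hik : i = k + d := by
    have : (i : ℤ) = (k : ℤ) + d := by rw [hi]; push_cast; ring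
    exact_mod_cast this
  subst hik
  have hgen : gen 𝒜 h1 ∈ ProjectiveSpectrum.basicOpen 𝒜 g := fun h => hg0 h
  have hk : g ^ k ∉ (gen 𝒜 h1).asHomogeneousIdeal := fun h => pow_ne_zero k hg0 h
  exact ⟨k, m, hm, hk, hval ⟨gen 𝒜 h1, hgen⟩ hk⟩


omit [IsDomain A] [GradedAlgebra 𝒜] in
theorem mem_pow_span (hgen : ∀ i : ℕ, 𝒜 1 * 𝒜 i = 𝒜 (i + 1)) (n : ℕ) (c : A) (hc : c ∈ 𝒜 n) :
    c ∈ (Ideal.span (𝒜 1 : Set A)) ^ n := by
  induction n generalizing c with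
  | zero => rw [pow_zero, Ideal.one_eq_top]; trivial
  | succ n ih =>
    rw [← hgen n] at hc
    refine Submodule.mul_induction_on hc (fun x hx y hy => ?_) (fun x y hx hy => add_mem hx hy)
    rw [pow_succ']
    exact Ideal.mul_mem_mul (Ideal.subset_span hx) (ih y hy)

theorem key [IsNoetherianRing A] (hgen : ∀ i : ℕ, 𝒜 1 * 𝒜 i = 𝒜 (i + 1)) (h1 : 𝒜 1 ≠ ⊥) (d : ℕ)
    (t : Twist.sectN (𝒜 := 𝒜) (d : ℤ) (op ⊤)) :
    ∃ N : ℕ, ∀ n, N ≤ n → ∀ c ∈ 𝒜 n, ∃ b ∈ 𝒜 (n + d),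
      ((t.1 ⟨gen 𝒜 h1, trivial⟩).1 : Twist.Loc 𝒜 (gen 𝒜 h1)) * algebraMap A _ c
        = algebraMap A _ b := by
  classical
  let K := Twist.Loc 𝒜 (gen 𝒜 h1)
  let u : K := (t.1 ⟨gen 𝒜 h1, trivial⟩).1
  let I : Ideal A :=
    { carrier := {c | ∃ b, u * algebraMap A K c = algebraMap A K b}
      add_mem' := by
        rintro c c' ⟨b, hb⟩ ⟨b', hb'⟩
        exact ⟨b + b', by rw [map_add, mul_add, hb, hb', map_add]⟩
      zero_mem' := ⟨0, by rw [map_zero, mul_zero]⟩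
      smul_mem' := by
        rintro r c ⟨b, hb⟩
        exact ⟨r * b, by rw [smul_eq_mul, map_mul, mul_left_comm, hb, map_mul]⟩ }
  have hfrac : ∀ g ∈ 𝒜 1, g ≠ 0 → ∃ (k : ℕ) (m : A), m ∈ 𝒜 (k + d) ∧
      u * algebraMap A K (g ^ k) = algebraMap A K m := by
    intro g hg hg0
    obtain ⟨k, m, hm, hk, hu⟩ := exists_frac_global 𝒜 h1 d t hg hg0
    refine ⟨k, m, hm, ?_⟩
    change (t.1 ⟨gen 𝒜 h1, trivial⟩).1 * _ = _
    rw [hu, ← Localization.mk_one_eq_algebraMap, ← Localization.mk_one_eq_algebraMap,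
      Localization.mk_mul, mk_eq_mk_iff']
    simp only [Submonoid.coe_mul, OneMemClass.coe_one]
    ring
  have hrad : ∀ g ∈ (𝒜 1 : Set A), g ∈ I.radical := by
    intro g hg
    by_cases hg0 : g = 0
    · rw [hg0]; exact zero_mem _
    · obtain ⟨k, m, -, hkm⟩ := hfrac g hg hg0
      exact ⟨k, m, hkm⟩
  have hJ : Ideal.span (𝒜 1 : Set A) ≤ I.radical := Ideal.span_le.2 hrad
  obtain ⟨N, hN⟩ := Ideal.exists_pow_le_of_le_radical_of_fg hJ (IsNoetherian.noetherian _)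
  refine ⟨N, fun n hn c hc => ?_⟩
  have hcI : c ∈ I := hN (Ideal.pow_le_pow_right hn (mem_pow_span 𝒜 hgen n c hc))
  obtain ⟨b, hb⟩ := hcI
  refine ⟨b, ?_, hb⟩
  obtain ⟨g₁, hg₁, hg₁0⟩ := Submodule.exists_mem_ne_zero_of_ne_bot h1
  obtain ⟨k, m, hm, hkm⟩ := hfrac g₁ hg₁ hg₁0
  -- b * g₁^k = m * c
  have hinj : Function.Injective (algebraMap A K) :=
    IsLocalization.injective K
      (Ideal.primeCompl_le_nonZeroDivisors (gen 𝒜 h1).asHomogeneousIdeal.toIdeal)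
  have hbg : b * g₁ ^ k = m * c := by
    apply hinj
    rw [map_mul, map_mul, ← hb, ← hkm]
    ring
  have hgk : g₁ ^ k ∈ 𝒜 k := by
    have := SetLike.pow_mem_graded k hg₁
    rwa [smul_eq_mul, mul_one] at this
  refine mem_of_mul_mem 𝒜 hgk (pow_ne_zero k hg₁0) ?_
  rw [hbg]
  have := SetLike.mul_mem_graded hm hc
  have e : k + d + n = n + d + k := by omega
  rwa [e] at this


theorem exists_eq_algebraMap [IsNoetherianRing A] (hgen : ∀ i : ℕ, 𝒜 1 * 𝒜 i = 𝒜 (i + 1))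
    (h1 : 𝒜 1 ≠ ⊥) (hint : IsIntegrallyClosed A) (d : ℕ)
    (t : Twist.sectN (𝒜 := 𝒜) (d : ℤ) (op ⊤)) :
    ∃ a₀ ∈ 𝒜 d, ((t.1 ⟨gen 𝒜 h1, trivial⟩).1 : Twist.Loc 𝒜 (gen 𝒜 h1)) = algebraMap A _ a₀ := by
  classical
  let K := Twist.Loc 𝒜 (gen 𝒜 h1)
  let u : K := (t.1 ⟨gen 𝒜 h1, trivial⟩).1
  have : IsFractionRing A K := by
    have h : IsLocalization (gen 𝒜 h1).asHomogeneousIdeal.toIdeal.primeCompl K :=
      Localization.isLocalization
    have e : (gen 𝒜 h1).asHomogeneousIdeal.toIdeal.primeCompl = nonZeroDivisors A :=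
      Ideal.primeCompl_bot
    show IsLocalization (nonZeroDivisors A) K
    rw [← e]
    exact h
  have hinj : Function.Injective (algebraMap A K) := IsFractionRing.injective A K
  obtain ⟨N, hN⟩ := key 𝒜 hgen h1 d t
  obtain ⟨g₁, hg₁, hg₁0⟩ := Submodule.exists_mem_ne_zero_of_ne_bot h1
  have hgk : ∀ k, g₁ ^ k ∈ 𝒜 k := fun k => by
    have := SetLike.pow_mem_graded k hg₁
    rwa [smul_eq_mul, mul_one] at this
  let S : Set A := {c | ∃ n, N ≤ n ∧ c ∈ 𝒜 n}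
  let N' : Submodule A K := Submodule.span A (algebraMap A K '' S)
  have hN'fg : N'.FG := by
    have e : N' = Submodule.map (Algebra.linearMap A K) (Ideal.span S) := by
      rw [Ideal.span, Submodule.map_span]
      rfl
    rw [e]
    exact (IsNoetherian.noetherian _).map _
  have hN'ne : N' ≠ ⊥ := by
    intro h
    have hmem : algebraMap A K (g₁ ^ N) ∈ N' :=
      Submodule.subset_span ⟨g₁ ^ N, ⟨N, le_rfl, hgk N⟩, rfl⟩
    rw [h, Submodule.mem_bot] at hmem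
    exact pow_ne_zero N hg₁0 (hinj (by rw [hmem, map_zero]))
  have hstab : ∀ n ∈ N', u • n ∈ N' := by
    intro n hn
    induction hn using Submodule.span_induction with
    | mem x hx =>
      obtain ⟨c, ⟨n', hn', hc⟩, rfl⟩ := hx
      obtain ⟨b, hb, hub⟩ := hN n' hn' c hc
      rw [smul_eq_mul]
      change (t.1 ⟨gen 𝒜 h1, trivial⟩).1 * _ ∈ N'
      rw [hub]
      exact Submodule.subset_span ⟨b, ⟨n' + d, by omega, hb⟩, rfl⟩
    | zero => rw [smul_zero]; exact zero_mem _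
    | add x y _ _ hx hy => rw [smul_add]; exact add_mem hx hy
    | smul r x _ hx => rw [smul_comm]; exact N'.smul_mem r hx
  have hint_u : IsIntegral A u := isIntegral_of_smul_mem_submodule N' hN'ne hN'fg u hstab
  obtain ⟨a₀, ha₀⟩ := (isIntegrallyClosed_iff K).1 hint hint_u
  refine ⟨a₀, ?_, ha₀.symm⟩
  obtain ⟨k, m, hm, hk, hu⟩ := exists_frac_global 𝒜 h1 d t hg₁ hg₁0
  have h2 : (Localization.mk a₀ 1 : Twist.Loc 𝒜 (gen 𝒜 h1)) = Localization.mk m ⟨g₁ ^ k, hk⟩ := by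
    rw [Localization.mk_one_eq_algebraMap, ← hu]
    exact ha₀
  rw [mk_eq_mk_iff'] at h2
  simp only [OneMemClass.coe_one, mul_one] at h2
  refine mem_of_mul_mem 𝒜 (hgk k) (pow_ne_zero k hg₁0) ?_
  rw [h2, add_comm]
  exact hm

end


/-- Let S be a Noetherian graded integral domain, graded by the natural numbers as an algebra over a
ring R, generated by its degree-one part over S_0 (S_1 S_i = S_{i+1}) with S_1 ≠ 0, and integrally
closed in its field of fractions (so that X = Proj S is projectively normal). Then for every d ≥ 0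
the canonical map from S_d to the global sections of the twisting sheaf O_X(d), sending a to the
section a/1, is bijective. (The underlying lemma: every global section of O_X(d) is an element of
the homogeneous fraction ring integral over S.) (The published corollary takes the degree-zero part
to be a finitely generated algebra over a field; this row assumes only that the ring is Noetherian,
which is all the argument uses.) -/
theorem result {R A : Type u} [CommRing R] [CommRing A] [IsDomain A]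
    [IsNoetherianRing A] [Algebra R A] (𝒜 : ℕ → Submodule R A) [GradedAlgebra 𝒜]
    (hgen : ∀ i : ℕ, 𝒜 1 * 𝒜 i = 𝒜 (i + 1)) (h1 : 𝒜 1 ≠ ⊥) (hint : IsIntegrallyClosed A) (d : ℕ) :
    Function.Bijective (fun a : ↥(𝒜 d) => Twist.globalOf 𝒜 a) := by
  classical
  refine ⟨fun a b hab => ?_, fun t => ?_⟩
  · have h := congrArg (fun s : Twist.sectN (𝒜 := 𝒜) (d : ℤ) (op ⊤) =>
      ((s.1 ⟨gen 𝒜 h1, trivial⟩).1 : Twist.Loc 𝒜 (gen 𝒜 h1))) hab
    change (Localization.mk a.1 _ : Twist.Loc 𝒜 (gen 𝒜 h1)) = Localization.mk b.1 _ at h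
    rw [mk_eq_mk_iff'] at h
    apply Subtype.ext
    simpa using h
  · obtain ⟨a₀, ha₀d, hu⟩ := exists_eq_algebraMap 𝒜 hgen h1 hint d t
    refine ⟨⟨a₀, ha₀d⟩, ?_⟩
    refine Subtype.ext (funext fun y => Subtype.ext ?_)
    have h := t.2 y
    obtain ⟨V, hyV, i, i', j, a, s, s_nin, hdeg, hval⟩ := h
    have hy := hval ⟨y.1, hyV⟩
    have hg := hval ⟨gen 𝒜 h1, gen_mem 𝒜 h1 V y.1 hyV⟩
    have hg' : (Localization.mk a₀ 1 : Twist.Loc 𝒜 (gen 𝒜 h1)) =
        Localization.mk a.1 ⟨s.1, s_nin ⟨gen 𝒜 h1, gen_mem 𝒜 h1 V y.1 hyV⟩⟩ := by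
      rw [Localization.mk_one_eq_algebraMap, ← hu]
      exact hg
    rw [mk_eq_mk_iff'] at hg'
    refine Eq.trans ?_ hy.symm
    exact (mk_eq_mk_iff' 𝒜 y.1 _ _ _ _).2 hg'

end Groth.Agent.S10908
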