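import Groth.Statements.S10920
import Groth.Agent.Lib.Helper29.StrictTransform

set_option autoImplicit false
universe u
open CategoryTheory AlgebraicGeometry
open SDiv

namespace Groth.Agent.S10920

open Groth.Agent.Lib.Helper29.EffCart
open Opposite TopologicalSpace

/-- Transport a blow-up along an isomorphism of the base. -/
lemma isBlowUp_comp_iso {Y Y₂ Y' : Scheme.{u}} {b' : Y' ⟶ Y} {𝓚 : Y.IdealSheafData}
    (hb' : BlowUp.IsBlowUp b' 𝓚) (e : Y ≅ Y₂) : BlowUp.IsBlowUp (b' ≫ e.hom) (𝓚.comap e.inv) := by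
  have hcomap : ∀ {T : Scheme.{u}} (g : T ⟶ Y₂), (𝓚.comap e.inv).comap g = 𝓚.comap (g ≫ e.inv) :=
    fun g => (Scheme.IdealSheafData.comap_comp _ _ _).symm
  refine ⟨?_, ?_⟩
  · rw [hcomap, Category.assoc, e.hom_inv_id, Category.comp_id]
    exact hb'.1
  · intro T g hT
    rw [hcomap] at hT
    obtain ⟨h, hh, hu⟩ := hb'.2 T (g ≫ e.inv) hT
    refine ⟨h, ?_, ?_⟩
    · change h ≫ b' ≫ e.hom = g
      rw [← Category.assoc, hh, Category.assoc, e.inv_hom_id, Category.comp_id]
    · intro h' hh'
      apply hu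
      change h' ≫ b' = g ≫ e.inv
      rw [← hh', Category.assoc, Category.assoc, e.hom_inv_id, Category.comp_id]

/-- Let X be a Noetherian scheme, I a quasi-coherent ideal sheaf on X, f : Y → X a closed immersion, b :
X' → X a blowing up of X in I and b' : Y' → Y a blowing up of Y in the inverse image ideal sheaf
I·O_Y (blow-ups in the sense of the universal property: the inverse image ideal becomes effective
Cartier, universally). If f' : Y' → X' is the morphism compatible with the blow-ups, b ∘ f' = f ∘ b'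
(it exists and is unique by the universal property), then f' is a closed immersion; Y' is the strict
transform of Y. -/
theorem result {X Y X' Y' : Scheme.{u}} [IsNoetherian X]
    (𝓘 : X.IdealSheafData) (f : Y ⟶ X) [IsClosedImmersion f]
    (b : X' ⟶ X) (hb : BlowUp.IsBlowUp b 𝓘) (b' : Y' ⟶ Y) (hb' : BlowUp.IsBlowUp b' (𝓘.comap f))
    (f' : Y' ⟶ X') (hf' : f' ≫ b = b' ≫ f) : IsClosedImmersion f' := by
  let e : Y ≅ f.ker.subscheme := asIso f.toImage
  have he : e.hom ≫ f.ker.subschemeι = f := f.toImage_imageι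
  have hb'' : BlowUp.IsBlowUp (b' ≫ e.hom) (𝓘.comap f.ker.subschemeι) := by
    have h := isBlowUp_comp_iso hb' e
    rw [← Scheme.IdealSheafData.comap_comp] at h
    have : e.inv ≫ f = f.ker.subschemeι := (Iso.inv_comp_eq e).2 he.symm
    rwa [this] at h
  have hst := isBlowUp_stMap 𝓘 f.ker b hb
  obtain ⟨φ, hφ, -⟩ := hst.2 Y' (b' ≫ e.hom) hb''.1
  have hφ' : φ ≫ stMap 𝓘 f.ker b = b' ≫ e.hom := hφ
  have hiso : IsIso φ := isIso_of_isBlowUp hb'' hst φ hφ'
  have hk' : f' = φ ≫ (stIdeal 𝓘 f.ker b).subschemeι := by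
    refine IsBlowUp.hom_ext hb _ _ ?_ ?_
    · rw [hf', Scheme.IdealSheafData.comap_comp]; exact hb'.1
    · rw [hf', Category.assoc, ← stMap_comp, ← Category.assoc, hφ', Category.assoc, he]
  rw [hk']
  infer_instance

end Groth.Agent.S10920
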