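import Groth.Statements.S10929
import Mathlib
-- import your own Groth.Agent.* helpers here

set_option autoImplicit false
universe u
open CategoryTheory CategoryTheory.Limits AlgebraicGeometry
open Variety

namespace Groth.Agent.S10929

/-- Let k be an algebraically closed field of characteristic zero, X and Y integral schemes of finite
type over k and f : X → Y a dominant k-morphism. Then there is a nonempty open subscheme U of X such
that f restricted to U is a smooth morphism U → Y. -/
theorem result (k : Type u) [Field k] [IsAlgClosed k] [CharZero k]
    {X Y : Scheme.{u}} (qX : X ⟶ Spec (CommRingCat.of k)) (qY : Y ⟶ Spec (CommRingCat.of k))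
    [LocallyOfFiniteType qX] [QuasiCompact qX] [LocallyOfFiniteType qY] [QuasiCompact qY]
    [IsIntegral X] [IsIntegral Y] (f : X ⟶ Y) (hf : f ≫ qY = qX) (hdom : DenseRange f.base) :
    ∃ U : X.Opens, (U : Set ↥X).Nonempty ∧ Smooth (U.ι ≫ f) := by
  haveI : LocallyOfFiniteType (f ≫ qY) := hf ▸ inferInstance
  haveI : LocallyOfFiniteType f := locallyOfFiniteType_of_comp f qY
  haveI : IsLocallyNoetherian Y := LocallyOfFiniteType.isLocallyNoetherian qY
  haveI : LocallyOfFinitePresentation f := inferInstance
  -- the generic point maps to the generic point
  have hgen : f (genericPoint X) = genericPoint Y := by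
    apply ((genericPoint_spec Y).eq _).symm
    have := (genericPoint_spec X).image f.continuous
    rwa [Set.image_univ, hdom.closure_range] at this
  -- the generic point lies in the smooth locus
  have hmem : genericPoint X ∈ f.smoothLocus := by
    have hft := LocallyOfFiniteType.stalkMap f (genericPoint X)
    rw [Scheme.Hom.mem_smoothLocus]
    have key : ∀ y : Y, y = genericPoint Y → IsField (Y.presheaf.stalk y) := by
      rintro _ rfl
      exact Field.toIsField Y.functionField
    letI : Field (Y.presheaf.stalk (f (genericPoint X))) := (key _ hgen).toField
    letI : Field (X.presheaf.stalk (genericPoint X)) :=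
      inferInstanceAs (Field X.functionField)
    algebraize [(f.stalkMap (genericPoint X)).hom]
    -- characteristic zero
    let φ : k →+* Y.presheaf.stalk (f (genericPoint X)) :=
      ((Scheme.ΓSpecIso (CommRingCat.of k)).inv ≫ qY.appTop ≫
        Y.presheaf.germ ⊤ (f (genericPoint X)) trivial).hom
    haveI : CharZero (Y.presheaf.stalk (f (genericPoint X))) :=
      charZero_of_injective_ringHom φ.injective
    exact Algebra.FormallySmooth.of_perfectField
  refine ⟨f.smoothLocus, ⟨_, hmem⟩, ?_⟩
  rw [← Scheme.Hom.smoothLocus_eq_top_iff, ← Scheme.Hom.preimage_smoothLocus_eq]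
  ext x
  simp

end Groth.Agent.S10929
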