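import Groth.Statements.S10933
import Groth.Agent.Lib.helper11.ExtIntoRing
import Groth.Agent.Lib.helper11.GlDimRegular

set_option autoImplicit false
universe u
open CategoryTheory
open CAlg

namespace Groth.Agent.S10933

/-- Let A be a (Noetherian) regular local ring, M a finitely generated A-module and d a natural number.
Then the projective dimension of M equals d if and only if Ext^j_A(M, A) = 0 for every j > d and
Ext^d_A(M, A) ≠ 0. (Projective dimension valued in WithBot ℕ∞, the zero module having projective
dimension ⊥.) -/
theorem result (A : Type u) [CommRing A] [IsRegularLocalRing A]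
    (M : Type u) [AddCommGroup M] [Module A M] [Module.Finite A M] (d : ℕ) :
    projectiveDimension (ModuleCat.of A M) = (d : WithBot ℕ∞) ↔
      ((∀ j : ℕ, d < j → Subsingleton (Abelian.Ext (ModuleCat.of A M) (ModuleCat.of A A) j)) ∧
        Nontrivial (Abelian.Ext (ModuleCat.of A M) (ModuleCat.of A A) d)) := by
  classical
  have hD : ringKrullDim A = ((IsLocalRing.maximalIdeal A).spanFinrank : ℕ) :=
    (IsRegularLocalRing.spanFinrank_maximalIdeal (R := A)).symm
  have hfin := Groth.Agent.Lib.helper11.GlDimRegular.hasProjectiveDimensionLT_of_isRegularLocalRing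
    _ hD (ModuleCat.of A M)
  -- (b)
  have hb : ∀ q : ℕ, (∀ j : ℕ, q < j →
      Subsingleton (Abelian.Ext (ModuleCat.of A M) (ModuleCat.of A A) j)) →
      HasProjectiveDimensionLT (ModuleCat.of A M) (q + 1) := fun q hq =>
    Groth.Agent.Lib.helper11.ExtIntoRing.hasProjectiveDimensionLT_of_ext_ring M q hq _ hfin
  -- (c)
  have hc : HasProjectiveDimensionLT (ModuleCat.of A M) (d + 1) →
      Subsingleton (Abelian.Ext (ModuleCat.of A M) (ModuleCat.of A A) d) →
      HasProjectiveDimensionLT (ModuleCat.of A M) d := by
    intro h1 h2
    rcases d with _ | d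
    · rw [zero_add, ← projective_iff_hasProjectiveDimensionLT_one,
        ← IsProjective.iff_projective] at h1
      haveI : Module.Flat A M := Module.Flat.of_projective
      haveI : Module.Free A M := Module.free_of_flat_of_isLocalRing
      let b := Module.Free.chooseBasis A M
      have hsub : Subsingleton (M →ₗ[A] A) := by
        have e1 := (Abelian.Ext.homEquiv₀ (X := ModuleCat.of A M) (Y := ModuleCat.of A A))
        have : Subsingleton (ModuleCat.of A M ⟶ ModuleCat.of A A) := e1.symm.subsingleton
        exact ⟨fun f g => by
          have := Subsingleton.elim (ModuleCat.ofHom f) (ModuleCat.ofHom g)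
          simpa using congrArg ModuleCat.Hom.hom this⟩
      have hempty : IsEmpty (Module.Free.ChooseBasisIndex A M) := by
        by_contra hne
        rw [not_isEmpty_iff] at hne
        obtain ⟨i0⟩ := hne
        have h3 : b.coord i0 = 0 := Subsingleton.elim _ _
        have h4 : b.coord i0 (b i0) = 1 := by simp
        rw [h3, LinearMap.zero_apply] at h4
        exact zero_ne_one h4
      haveI : Subsingleton M := ⟨fun y z => b.repr.injective (Subsingleton.elim _ _)⟩
      exact (ModuleCat.isZero_of_subsingleton (ModuleCat.of A M)).hasProjectiveDimensionLT_zero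
    · apply hb d
      intro j hj
      rcases Nat.lt_or_ge (d + 1) j with h | h
      · exact HasProjectiveDimensionLT.subsingleton _ (d + 1 + 1) j (by omega) _
      · have : j = d + 1 := by omega
        subst this
        exact h2
  have hiff : projectiveDimension (ModuleCat.of A M) = (d : WithBot ℕ∞) ↔
      HasProjectiveDimensionLT (ModuleCat.of A M) (d + 1) ∧
        ¬ HasProjectiveDimensionLT (ModuleCat.of A M) d := by
    rw [le_antisymm_iff, projectiveDimension_le_iff, projectiveDimension_ge_iff]
  rw [hiff]
  constructor
  · rintro ⟨h1, h2⟩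
    refine ⟨fun j hj => HasProjectiveDimensionLT.subsingleton _ (d + 1) j (by omega) _, ?_⟩
    by_contra hnt
    rw [not_nontrivial_iff_subsingleton] at hnt
    exact h2 (hc h1 hnt)
  · rintro ⟨h1, h2⟩
    refine ⟨hb d h1, fun h3 => ?_⟩
    have : Subsingleton (Abelian.Ext (ModuleCat.of A M) (ModuleCat.of A A) d) :=
      HasProjectiveDimensionLT.subsingleton _ d d le_rfl _
    exact not_subsingleton _ this

end Groth.Agent.S10933
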