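import Groth.Statements.S10939
import Groth.Agent.Lib.Helper1.ProjDimAvoid
import Mathlib.AlgebraicGeometry.Morphisms.ClosedImmersion

set_option autoImplicit false
universe u
open CategoryTheory CategoryTheory.Limits AlgebraicGeometry
open Variety

namespace Groth.Agent.S10939

open Groth.Agent.Lib.Helper1.ProjDimPt Groth.Agent.Lib.Helper1.ProjDimTop
  Groth.Agent.Lib.Helper1.ProjDimInter Groth.Agent.Lib.Helper1.ProjDimAvoid in

/-- Let k be a field, P = P^n_k = Proj k[x_0, …, x_n], and i_X : X → P, i_Y : Y → P closed immersions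
with X of dimension r. Then there are homogeneous polynomials h_1, …, h_{r+1} of positive degree,
with basic opens D_j = D_+(h_j) and hypersurfaces H_j = P ∖ D_j, such that every H_j contains Y and
X ∖ Y = ⋃_j (X ∖ H_j), i.e. every point of X outside Y lies in some D_j; moreover each X ∖ H_j = X ∩
D_j is affine. (The published statement takes X and Y reduced; the assertion only concerns the
underlying closed sets.) -/
theorem result (k : Type u) [Field k] (n r : ℕ)
    {X Y : Scheme.{u}} (iX : X ⟶ CohB1.ProjSpace n k) (iY : Y ⟶ CohB1.ProjSpace n k)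
    [IsClosedImmersion iX] [IsClosedImmersion iY] (hX : topologicalKrullDim ↥X = r) :
    ∃ (h : Fin (r + 1) → MvPolynomial (Fin (n + 1)) k) (D : Fin (r + 1) → (CohB1.ProjSpace n k).Opens),
      (∀ j, D j = Proj.basicOpen (CohB1.polyGrading n k) (h j)) ∧
      (∀ j, ∃ d : ℕ, 0 < d ∧ (h j).IsHomogeneous d) ∧
      (∀ j, Set.range iY.base ⊆ (D j : Set ↥(CohB1.ProjSpace n k))ᶜ) ∧
      (Set.range iX.base \ Set.range iY.base ⊆ ⋃ j, (D j : Set ↥(CohB1.ProjSpace n k))) ∧
      ∀ j, IsAffineOpen (iX ⁻¹ᵁ (D j)) := by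
  set A : Set (PS n k) := Set.range iX.base with hA
  set B : Set (PS n k) := Set.range iY.base with hB
  have hAc : IsClosed A := iX.isClosedEmbedding.isClosed_range
  have hBc : IsClosed B := iY.isClosedEmbedding.isClosed_range
  have hdim : topologicalKrullDim A = r := by
    rw [← hX]
    exact (IsHomeomorph.topologicalKrullDim_eq _
      (iX.isClosedEmbedding.isEmbedding.toHomeomorph).isHomeomorph).symm
  have hAr : ∀ a ∈ A, a ∉ B → n - ht a < r + 1 := by
    intro a ha _
    have h1 := le_dim_of_mem hAc ha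
    rw [hdim] at h1
    have h2 : n - ht a ≤ r := by exact_mod_cast h1
    omega
  obtain ⟨h, hh1, hh2, hh3⟩ := exists_hypersurfaces hBc (r + 1) A hAc hAr
  refine ⟨h, fun j => Proj.basicOpen (CohB1.polyGrading n k) (h j), fun j => rfl, hh1, ?_, ?_, ?_⟩
  · intro j b hb
    rw [Set.mem_compl_iff]
    intro hmem
    exact (Proj.mem_basicOpen _ _ _).mp hmem (hh2 j b hb)
  · rintro a ⟨haA, haB⟩
    obtain ⟨j, hj⟩ := hh3 a haA haB
    exact Set.mem_iUnion.mpr ⟨j, (Proj.mem_basicOpen _ _ _).mpr hj⟩
  · intro j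
    obtain ⟨d, hd, hhd⟩ := hh1 j
    have haff : IsAffineOpen (X := CohB1.ProjSpace n k)
        (Proj.basicOpen (CohB1.polyGrading n k) (h j)) :=
      Proj.isAffineOpen_basicOpen (CohB1.polyGrading n k) (h j)
        ((MvPolynomial.mem_homogeneousSubmodule _ _).mpr hhd) hd
    exact haff.preimage iX

end Groth.Agent.S10939
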