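import Groth.Statements.S10940
import Groth.Agent.Lib.Helper1.ProjDimJac
import Mathlib.AlgebraicGeometry.Morphisms.Immersion

set_option autoImplicit false
universe u
open CategoryTheory CategoryTheory.Limits AlgebraicGeometry
open Variety

namespace Groth.Agent.S10940

open Groth.Agent.Lib.Helper1.ProjDimPt Groth.Agent.Lib.Helper1.ProjDimTop
  Groth.Agent.Lib.Helper1.ProjDimInter Groth.Agent.Lib.Helper1.ProjDimAvoid
  Groth.Agent.Lib.Helper1.ProjDimJac in

/-- Let k be a field and X a quasi-projective variety over k of dimension r: an integral scheme with an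
immersion j : X → P^n_k. Then X admits a cover by r + 1 affine open subschemes. (Consequently the
cohomology of every quasi-coherent O_X-module vanishes above degree r; that consequence is the
general vanishing above the number of affines in a cover and is not restated here. The published
statement is for varieties over an algebraically closed field; the argument, r + 1 hypersurfaces
through the boundary of the closure of X, works over any field, so k is an arbitrary field here.) -/
theorem result (k : Type u) [Field k] (n r : ℕ)
    {X : Scheme.{u}} (j : X ⟶ CohB1.ProjSpace n k) [IsImmersion j] [IsIntegral X]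
    (hX : topologicalKrullDim ↥X = r) :
    ∃ U : Fin (r + 1) → X.Opens, (∀ i, IsAffineOpen (U i)) ∧ ⨆ i, U i = ⊤ := by
  set W : Set (PS n k) := Set.range j.base with hWdef
  have hW : IsLocallyClosed W := j.isLocallyClosed_range
  let e : X ≃ₜ W := j.isEmbedding.toHomeomorph
  haveI : QuasiSober W := e.symm.isClosedEmbedding.quasiSober
  have hdim : topologicalKrullDim W = r := by
    rw [← hX]
    exact (IsHomeomorph.topologicalKrullDim_eq _ e.isHomeomorph).symm
  set A : Set (PS n k) := closure W with hA
  set B : Set (PS n k) := (coborder W)ᶜ with hB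
  have hAc : IsClosed A := isClosed_closure
  have hBc : IsClosed B := hW.isOpen_coborder.isClosed_compl
  have hmemW : ∀ a ∈ A, a ∉ B → a ∈ W := by
    intro a haA haB
    rw [hB, Set.notMem_compl_iff] at haB
    have : a ∈ coborder W ∩ closure W := ⟨haB, haA⟩
    rwa [coborder_inter_closure] at this
  have hAr : ∀ a ∈ A, a ∉ B → n - ht a < r + 1 := by
    intro a haA haB
    have h1 := le_dim_locallyClosed hW (hmemW a haA haB)
    rw [hdim] at h1
    have h2 : n - ht a ≤ r := by exact_mod_cast h1
    omega
  obtain ⟨h, hh1, hh2, hh3⟩ := exists_hypersurfaces hBc (r + 1) A hAc hAr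
  refine ⟨fun i => j ⁻¹ᵁ (Proj.basicOpen (CohB1.polyGrading n k) (h i) :
    (CohB1.ProjSpace n k).Opens), ?_, ?_⟩
  · intro i
    obtain ⟨d, hd, hhd⟩ := hh1 i
    set D : (CohB1.ProjSpace n k).Opens := Proj.basicOpen (CohB1.polyGrading n k) (h i) with hD
    have haff : IsAffineOpen D :=
      Proj.isAffineOpen_basicOpen (CohB1.polyGrading n k) (h i)
        ((MvPolynomial.mem_homogeneousSubmodule _ _).mpr hhd) hd
    haveI : IsAffine D.toScheme := haff
    have hrange : Set.range (j ∣_ D).base = Subtype.val ⁻¹' A := by
      ext y
      constructor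
      · rintro ⟨x, rfl⟩
        show ((j ∣_ D).base x).1 ∈ A
        rw [morphismRestrict_base_coe]
        exact subset_closure ⟨_, rfl⟩
      · intro hy
        have hyA : y.1 ∈ A := hy
        have hyB : y.1 ∉ B := by
          intro hyB
          exact (Proj.mem_basicOpen _ _ _).mp y.2 (hh2 i _ hyB)
        obtain ⟨x, hx⟩ := hmemW _ hyA hyB
        have hxD : x ∈ j ⁻¹ᵁ D := by
          show j.base x ∈ D
          rw [hx]; exact y.2
        refine ⟨⟨x, hxD⟩, Subtype.ext ?_⟩
        rw [morphismRestrict_base_coe]
        exact hx
    haveI : IsClosedImmersion (j ∣_ D) := by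
      refine IsClosedImmersion.of_isPreimmersion _ ?_
      rw [hrange]
      exact hAc.preimage continuous_subtype_val
    exact isAffine_of_isAffineHom (j ∣_ D)
  · rw [eq_top_iff]
    intro x _
    have hxW : j.base x ∈ W := ⟨x, rfl⟩
    have hxB : j.base x ∉ B := fun hmem => hmem (subset_coborder hxW)
    obtain ⟨i, hi⟩ := hh3 (j.base x) (subset_closure hxW) hxB
    refine TopologicalSpace.Opens.mem_iSup.mpr ⟨i, ?_⟩
    exact (Proj.mem_basicOpen _ _ _).mpr hi

end Groth.Agent.S10940
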