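import Groth.Statements.S10942
import Groth.Agent.Lib.Helper23.RDInj.HomFlasque

set_option autoImplicit false
universe u
open CategoryTheory AlgebraicGeometry Opposite
open Coherent

namespace Groth.Agent.S10942

/-- Let X be a scheme, F an O_X-module for which the internal Hom functor Hom(F, -) exists (as the right
adjoint of F ⊗ -; always true) and I an injective object of the category of O_X-modules. Then the
O_X-module Hom(F, I) is flasque: for all opens U ⊆ V of X the restriction map Hom(F, I)(V) → Hom(F,
I)(U) is surjective. -/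
theorem result (X : Scheme.{u}) (F I : X.Modules)
    [DCoh.HasSheafHom F] (hI : Injective I) (U V : X.Opens) (hUV : U ≤ V) :
    Function.Surjective (((DCoh.sheafHom F).obj I).val.map (homOfLE hUV).op).hom := by
  open Groth.Agent.Lib.Helper23.RDInj Groth.Agent.Lib.Helper28.HomMod Groth.Agent.Lib.Helper28.QCohLoc
    Groth.Agent.Lib.Helper6.HomAdj in
  haveI := hI
  let e : (DCoh.sheafHom F).obj I ≅ homMod F I :=
    ((DCoh.sheafHomAdj F).rightAdjointUniq (adj F)).app I
  intro s
  obtain ⟨t, ht⟩ := homMod_flasque (F := F) (I := I) hUV (e.hom.app U s)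
  refine ⟨e.inv.app V t, ?_⟩
  have h1 : res ((DCoh.sheafHom F).obj I) hUV (e.inv.app V t) = e.inv.app U (res (homMod F I) hUV t) :=
    (Groth.Agent.Lib.Helper28.QCohLoc.app_res e.inv hUV t).symm
  have h2 : e.inv.app U (e.hom.app U s) = s := by
    have := congrArg (fun φ => Scheme.Modules.Hom.app φ U s) e.hom_inv_id
    exact this
  change res ((DCoh.sheafHom F).obj I) hUV (e.inv.app V t) = s
  rw [h1, ht, h2]

end Groth.Agent.S10942
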