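import Groth.Statements.S10944
import Mathlib.AlgebraicGeometry.Morphisms.UniversallyOpen

set_option autoImplicit false
universe u
open CategoryTheory AlgebraicGeometry
open FlatMor

namespace Groth.Agent.S10944

/-- Let f : X → Y be a flat morphism of Noetherian schemes and Y' an irreducible component of Y. Then
f⁻¹(Y') is the union of the irreducible components Z of X with f(Z) ⊆ Y'. -/
theorem result {X Y : Scheme.{u}}
    [IsNoetherian X] [IsNoetherian Y] (f : X ⟶ Y) [Flat f]
    (Y' : Set ↥Y) (hY' : Y' ∈ irreducibleComponents ↥Y) :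
    f.base ⁻¹' Y' = ⋃₀ {Z : Set ↥X | Z ∈ irreducibleComponents ↥X ∧ f.base '' Z ⊆ Y'} := by
  have hcont : Continuous f.base := f.continuous
  have hY'c : IsClosed Y' := isClosed_of_mem_irreducibleComponents _ hY'
  apply Set.Subset.antisymm
  · intro x hx
    have hx' : f.base x ∈ Y' := hx
    have hη : IsGenericPoint hY'.1.genericPoint Y' := hY'.1.isGenericPoint_genericPoint hY'c
    set η := hY'.1.genericPoint with hηdef
    have hspec : η ⤳ f.base x := by
      rw [specializes_iff_mem_closure, hη.def]
      exact hx'
    obtain ⟨x', hx'x, hfx'⟩ := (Flat.generalizingMap f) hspec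
    have hZ : irreducibleComponent x' ∈ irreducibleComponents X :=
      irreducibleComponent_mem_irreducibleComponents x'
    have hZc : IsClosed (irreducibleComponent x') := isClosed_of_mem_irreducibleComponents _ hZ
    have hξ : IsGenericPoint hZ.1.genericPoint (irreducibleComponent x') :=
      hZ.1.isGenericPoint_genericPoint hZc
    set ξ := hZ.1.genericPoint with hξdef
    have h1 : ξ ⤳ x' := by
      rw [specializes_iff_mem_closure, hξ.def]
      exact mem_irreducibleComponent
    have h2 : f.base ξ ⤳ η := by
      have := h1.map hcont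
      rwa [hfx'] at this
    have h3 : Y' ⊆ closure {f.base ξ} := by
      rw [← hη.def]
      exact h2.closure_subset
    have h4 : closure {f.base ξ} ⊆ Y' := hY'.2 isIrreducible_singleton.closure h3
    have h5 : f.base ξ ∈ Y' := h4 (subset_closure rfl)
    refine ⟨irreducibleComponent x', ⟨hZ, ?_⟩, hx'x.mem_closed hZc mem_irreducibleComponent⟩
    rintro _ ⟨z, hz, rfl⟩
    have h6 : ξ ⤳ z := by
      rw [specializes_iff_mem_closure, hξ.def]
      exact hz
    exact (h6.map hcont).mem_closed hY'c h5
  · rintro x ⟨Z, ⟨-, hZ⟩, hxZ⟩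
    exact hZ ⟨x, hxZ, rfl⟩

end Groth.Agent.S10944
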