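import Groth.Statements.S10945
import Mathlib.Algebra.Category.ModuleCat.Sheaf.Free
import Mathlib.Algebra.Category.ModuleCat.Sheaf.Abelian

set_option autoImplicit false
universe u
open CategoryTheory AlgebraicGeometry Opposite
open Coherent

namespace Groth.Agent.S10945

section helpers
variable {X : Scheme.{u}}

/-- lift a section along a morphism surjective on global sections -/
theorem lift_section {F F'' : X.Modules} (g : F ⟶ F'')
    (hsurj : Function.Surjective (g.val.app (op ⊤)).hom) (t'' : F''.sections) :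
    ∃ t : F.sections, SheafOfModules.sectionsMap g t = t'' := by
  obtain ⟨m, hm⟩ := hsurj (t''.1 (op ⊤))
  refine ⟨PresheafOfModules.sectionsMk (fun U => F.val.map (homOfLE le_top : U.unop ⟶ ⊤).op m) ?_, ?_⟩
  · intro U V f
    rw [← PresheafOfModules.map_comp_apply]
    rfl
  · apply PresheafOfModules.sections_ext
    intro U
    change g.val.app U (F.val.map (homOfLE le_top : U.unop ⟶ ⊤).op m) = t''.1 U
    rw [PresheafOfModules.naturality_apply]
    have : (g.val.app (op ⊤)) m = t''.1 (op ⊤) := hm
    rw [this]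
    exact t''.2 _

open Limits in
theorem epi_of_ses {𝒜 : Type*} [Category 𝒜] [Preadditive 𝒜] [Balanced 𝒜]
    (S : ShortComplex 𝒜) (hS : S.ShortExact) {A' A'' A : 𝒜} (p' : A' ⟶ S.X₁) [Epi p']
    (p'' : A'' ⟶ S.X₃) [Epi p''] (q : A'' ⟶ S.X₂) (hq : q ≫ S.g = p'') (p : A ⟶ S.X₂)
    (i' : A' ⟶ A) (i'' : A'' ⟶ A) (h' : i' ≫ p = p' ≫ S.f) (h'' : i'' ≫ p = q) : Epi p := by
  have := hS.epi_g
  have := hS.mono_f
  apply Preadditive.epi_of_cancel_zero
  intro C h hph
  have h1 : S.f ≫ h = 0 := by
    rw [← cancel_epi p', ← Category.assoc, ← h', Category.assoc, hph, comp_zero, comp_zero]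
  have h2 : S.g ≫ hS.exact.desc h h1 = h := hS.exact.g_desc h h1
  have h3 : hS.exact.desc h h1 = 0 := by
    rw [← cancel_epi p'', ← hq, Category.assoc, h2, ← h'', Category.assoc, hph, comp_zero, comp_zero]
  rw [← h2, h3, comp_zero]

end helpers

theorem aux (X : Scheme.{u})
    (S : ShortComplex X.Modules) (hS : S.ShortExact)
    (hsurj : Function.Surjective (S.g.val.app (op ⊤)).hom)
    (h1 : Curv2.IsGloballyGenerated S.X₁) (h3 : Curv2.IsGloballyGenerated S.X₃) :
    Curv2.IsGloballyGenerated S.X₂ := by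
  obtain ⟨ι', p', hp'⟩ := h1
  obtain ⟨ι'', p'', hp''⟩ := h3
  have hl : ∀ j : ι'', ∃ t : S.X₂.sections,
      SheafOfModules.sectionsMap S.g t = SheafOfModules.freeHomEquiv _ p'' j :=
    fun j => lift_section S.g hsurj _
  choose t ht using hl
  let q : SheafOfModules.free ι'' ⟶ S.X₂ := (SheafOfModules.freeHomEquiv _).symm t
  have hq : q ≫ S.g = p'' := by
    refine (SheafOfModules.freeHomEquiv_symm_comp t S.g).trans ?_
    apply (SheafOfModules.freeHomEquiv _).injective
    refine (Equiv.apply_symm_apply _ _).trans ?_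
    funext j
    exact ht j
  let p : SheafOfModules.free (ι' ⊕ ι'') ⟶ S.X₂ :=
    (SheafOfModules.freeHomEquiv _).symm (Sum.elim (SheafOfModules.freeHomEquiv _ (p' ≫ S.f)) t)
  have hinl : SheafOfModules.freeMap (Sum.inl : ι' → ι' ⊕ ι'') ≫ p = p' ≫ S.f := by
    apply (SheafOfModules.freeHomEquiv _).injective
    funext i
    have e0 := congrFun (SheafOfModules.freeHomEquiv_freeMap (R := X.ringCatSheaf)
      (Sum.inl : ι' → ι' ⊕ ι'')) i
    have e1 : SheafOfModules.freeHomEquiv S.X₂ (SheafOfModules.freeMap Sum.inl ≫ p) i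
        = SheafOfModules.sectionsMap p (SheafOfModules.freeSection (Sum.inl i)) :=
      congrArg (SheafOfModules.sectionsMap p) e0
    exact e1.trans (SheafOfModules.sectionsMap_freeHomEquiv_symm_freeSection _ _)
  have hinr : SheafOfModules.freeMap (Sum.inr : ι'' → ι' ⊕ ι'') ≫ p = q := by
    apply (SheafOfModules.freeHomEquiv _).injective
    funext i
    have e0 := congrFun (SheafOfModules.freeHomEquiv_freeMap (R := X.ringCatSheaf)
      (Sum.inr : ι'' → ι' ⊕ ι'')) i
    have e1 : SheafOfModules.freeHomEquiv S.X₂ (SheafOfModules.freeMap Sum.inr ≫ p) i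
        = SheafOfModules.sectionsMap p (SheafOfModules.freeSection (Sum.inr i)) :=
      congrArg (SheafOfModules.sectionsMap p) e0
    refine e1.trans ((SheafOfModules.sectionsMap_freeHomEquiv_symm_freeSection _ _).trans ?_)
    exact (congrFun (Equiv.apply_symm_apply (SheafOfModules.freeHomEquiv S.X₂) t) i).symm
  exact ⟨ι' ⊕ ι'', p, @epi_of_ses _ _ _ _ S hS _ _ _ p' hp' p'' hp'' q hq p _ _ hinl hinr⟩

/-- Let X be a scheme and 0 → F' → F → F'' → 0 a short exact sequence of O_X-modules whose map on global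
sections Γ(X, F) → Γ(X, F'') is surjective. If F' and F'' are generated by global sections (each is
a quotient of a free O_X-module), then F is generated by global sections. -/
theorem result (X : Scheme.{u})
    (S : ShortComplex X.Modules) (hS : S.ShortExact)
    (hsurj : Function.Surjective (S.g.val.app (op ⊤)).hom)
    (h1 : Curv2.IsGloballyGenerated S.X₁) (h3 : Curv2.IsGloballyGenerated S.X₃) :
    Curv2.IsGloballyGenerated S.X₂ := by
  exact aux X S hS hsurj h1 h3

end Groth.Agent.S10945
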