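import Groth.Statements.S10954
import Groth.Agent.Lib.Helper17.Serre3
import Mathlib
set_option backward.isDefEq.respectTransparency.types false

set_option autoImplicit false
universe u
open Coherent

namespace Groth.Agent.S10954
open CategoryTheory CategoryTheory.Limits Opposite TopologicalSpace AlgebraicGeometry


open AlgebraicGeometry CategoryTheory CategoryTheory.Limits Opposite in
/-- Let X be a quasi-compact scheme such that, for every short exact sequence 0 → F' → F → F'' → 0 of
quasi-coherent O_X-modules whose first term F' admits a monomorphism into a finite direct sum of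
copies of O_X, taking global sections gives a surjection F(X) → F''(X). Then X is affine. (The
published statement is an equivalence of three conditions on a quasi-compact scheme; this row states
the implication from exactness of global sections on such sequences to affineness.) -/
theorem result (X : Scheme.{u}) [CompactSpace X]
    (h : ∀ (S : ShortComplex X.Modules) (n : ℕ)
      (j : S.X₁ ⟶ ∏ᶜ (fun _ : Fin n => Coh.structureModule X)),
      S.ShortExact → Mono j → Coh.IsQCoh S.X₁ → Coh.IsQCoh S.X₂ → Coh.IsQCoh S.X₃ →
        Function.Surjective (S.g.val.app (op ⊤)).hom) :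
    IsAffine X := by
  refine Groth.Agent.Lib.Helper17.Serre.isAffine_of_surjHyp ?_
  intro S i hS hi h1 h2 h3
  let l : Coh.structureModule X ⟶ ∏ᶜ (fun _ : Fin 1 => Coh.structureModule X) :=
    Pi.lift (fun _ => 𝟙 _)
  have hl : l ≫ Pi.π (fun _ : Fin 1 => Coh.structureModule X) 0 = 𝟙 _ := Pi.lift_π _ _
  haveI : Mono l := mono_of_mono_fac hl
  haveI := hi
  have hj : Mono (i ≫ l) := mono_comp i l
  have := h S 1 (i ≫ l) hS hj h1 h2 h3
  intro y
  obtain ⟨x, hx⟩ := this y
  exact ⟨x, hx⟩

end Groth.Agent.S10954
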