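import Groth.Statements.S10955
import Mathlib

set_option autoImplicit false
universe u
open scoped TensorProduct
open Unram

namespace Groth.Agent.S10955

open KaehlerDifferential TensorProduct in
theorem formallySmooth_iff_split (R S T : Type u) [CommRing R] [CommRing S] [CommRing T]
    [Algebra R S] [Algebra R T] [Algebra S T] [IsScalarTower R S T] [Algebra.FormallySmooth R T] :
    Algebra.FormallySmooth S T ↔
      ∃ l : Ω[T⁄R] →ₗ[T] T ⊗[S] Ω[S⁄R], l ∘ₗ (mapBaseChange R S T) = LinearMap.id := by
  have hex := KaehlerDifferential.exact_mapBaseChange_map R S T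
  have hsurj : Function.Surjective (KaehlerDifferential.map R S T T) :=
    KaehlerDifferential.map_surjective R S T
  have htfae := (hex.split_tfae').out 0 1 rfl rfl
  have hδ : Function.Injective (Algebra.H1Cotangent.δ R S T) := by
    rw [injective_iff_map_eq_zero]
    intro x hx
    obtain ⟨y, rfl⟩ := (Algebra.H1Cotangent.exact_map_δ R S T x).mp hx
    rw [Subsingleton.elim y 0, map_zero]
  constructor
  · intro h
    have hinj : Function.Injective (mapBaseChange R S T) := by
      rw [injective_iff_map_eq_zero]
      intro x hx
      obtain ⟨y, rfl⟩ := (Algebra.H1Cotangent.exact_δ_mapBaseChange R S T x).mp hx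
      rw [Subsingleton.elim y 0, map_zero]
    obtain ⟨s, hs⟩ := Module.projective_lifting_property (KaehlerDifferential.map R S T T)
      LinearMap.id hsurj
    exact (htfae.mp ⟨hinj, s, hs⟩).2
  · rintro ⟨l, hl⟩
    have hinj : Function.Injective (mapBaseChange R S T) :=
      Function.HasLeftInverse.injective ⟨l, LinearMap.congr_fun hl⟩
    obtain ⟨-, s, hs⟩ := htfae.mpr ⟨hsurj, l, hl⟩
    refine ⟨Module.Projective.of_split s _ hs, ?_⟩
    refine ⟨fun x y => hδ (hinj ?_)⟩
    rw [(Algebra.H1Cotangent.exact_δ_mapBaseChange R S T _).mpr ⟨x, rfl⟩,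
      (Algebra.H1Cotangent.exact_δ_mapBaseChange R S T _).mpr ⟨y, rfl⟩]

open KaehlerDifferential TensorProduct in
theorem lTensor_injective_iff_of_baseChange {C C' k : Type*} [CommRing C] [CommRing C'] [Algebra C C']
    [CommRing k] [Algebra C k] [Algebra C' k] [IsScalarTower C C' k]
    {M N M' N' : Type*} [AddCommGroup M] [AddCommGroup N] [AddCommGroup M'] [AddCommGroup N']
    [Module C M] [Module C N] [Module C' M'] [Module C' N']
    (f : M →ₗ[C] N) (f' : M' →ₗ[C'] N') (eM : C' ⊗[C] M ≃ₗ[C'] M') (eN : C' ⊗[C] N ≃ₗ[C'] N')
    (h : eN.toLinearMap ∘ₗ f.baseChange C' = f' ∘ₗ eM.toLinearMap) :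
    Function.Injective (f.lTensor k) ↔ Function.Injective (f'.lTensor k) := by
  have h1 : f'.lTensor k = (eN.toLinearMap.lTensor k) ∘ₗ ((f.baseChange C').lTensor k) ∘ₗ
      (eM.symm.toLinearMap.lTensor k) := by
    rw [← LinearMap.lTensor_comp, ← LinearMap.lTensor_comp, ← LinearMap.comp_assoc, h,
      LinearMap.comp_assoc]
    simp
  have h2 : ∀ x, AlgebraTensorModule.cancelBaseChange C C' k k N ((f.baseChange C').lTensor k x) =
      f.lTensor k (AlgebraTensorModule.cancelBaseChange C C' k k M x) := by
    intro x
    induction x using TensorProduct.induction_on with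
    | zero => simp
    | add x y hx hy => simp only [map_add, hx, hy]
    | tmul a y =>
      induction y using TensorProduct.induction_on with
      | zero => simp
      | add x y hx hy => simp only [tmul_add, map_add, hx, hy]
      | tmul c m => simp
  have h3 : Function.Injective ((f.baseChange C').lTensor k) ↔ Function.Injective (f.lTensor k) := by
    have e1 : (f.lTensor k : _ → _) = (AlgebraTensorModule.cancelBaseChange C C' k k N) ∘
        ((f.baseChange C').lTensor k) ∘ (AlgebraTensorModule.cancelBaseChange C C' k k M).symm := by
      funext x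
      simp [h2]
    rw [e1]
    rw [EquivLike.comp_injective, EquivLike.injective_comp]
  rw [← h3, h1]
  have i1 : Function.Injective (eN.toLinearMap.lTensor k) :=
    (LinearEquiv.lTensor k eN).injective
  have i2 : Function.Bijective (eM.symm.toLinearMap.lTensor k) :=
    (LinearEquiv.lTensor k eM.symm).bijective
  simp only [LinearMap.coe_comp]
  rw [i1.of_comp_iff, Function.Injective.of_comp_iff' _ i2]

open KaehlerDifferential TensorProduct in
theorem local_main (A B C' : Type u) [CommRing A] [CommRing B] [CommRing C'] [Algebra A B]
    [Algebra A C'] [Algebra B C'] [IsScalarTower A B C'] [IsLocalRing C']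
    [Algebra.FormallySmooth A C'] [Module.Finite C' (C' ⊗[B] Ω[B⁄A])] [Module.Finite C' Ω[C'⁄A]] :
    Algebra.FormallySmooth B C' ↔
      Function.Injective ((mapBaseChange A B C').lTensor (IsLocalRing.ResidueField C')) := by
  have : Module.Free C' Ω[C'⁄A] := Module.free_of_flat_of_isLocalRing
  rw [formallySmooth_iff_split A B C',
    IsLocalRing.split_injective_iff_lTensor_residueField_injective]

/-- Let A → B → C be ring homomorphisms with B and C finitely presented over A, let q be a prime ideal
of C and p its inverse image in B, and assume that C is smooth over A at q and that B is smooth over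
A at p. Then C is smooth over B at q if and only if the map obtained from the canonical map C ⊗_B
Ω_{B/A} → Ω_{C/A} by tensoring over C with the residue field k(q) is injective. -/
theorem result (A B C : Type u) [CommRing A] [CommRing B]
    [CommRing C] [Algebra A B] [Algebra B C] [Algebra A C] [IsScalarTower A B C]
    [Algebra.FinitePresentation A B] [Algebra.FinitePresentation A C] (q : Ideal C) [q.IsPrime]
    (hC : Algebra.IsSmoothAt A q) (hB : Algebra.IsSmoothAt A (q.under B)) :
    Algebra.IsSmoothAt B q ↔
      Function.Injective ((KaehlerDifferential.mapBaseChange A B C).lTensor q.ResidueField) := by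
  have hfe : Algebra.FormallyEtale C (Localization.AtPrime q) :=
    Algebra.FormallyEtale.of_isLocalization q.primeCompl
  have hfs : Algebra.FormallySmooth A (Localization.AtPrime q) := hC
  have hloc := local_main A B (Localization.AtPrime q)
  unfold Algebra.IsSmoothAt
  rw [hloc]
  symm
  apply lTensor_injective_iff_of_baseChange (C := C) (C' := Localization.AtPrime q)
    (k := q.ResidueField) (KaehlerDifferential.mapBaseChange A B C)
    (KaehlerDifferential.mapBaseChange A B (Localization.AtPrime q))
    (TensorProduct.AlgebraTensorModule.cancelBaseChange B C (Localization.AtPrime q)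
      (Localization.AtPrime q) (Ω[B⁄A]))
    (KaehlerDifferential.tensorKaehlerEquivOfFormallyEtale A C (Localization.AtPrime q))
  ext x
  simp [← IsScalarTower.algebraMap_apply B C (Localization.AtPrime q)]

end Groth.Agent.S10955
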