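import Groth.Statements.S10956
import Mathlib

set_option autoImplicit false
universe u
open scoped TensorProduct
open CAlg

namespace Groth.Agent.S10956

section aux
open scoped TensorProduct
open KaehlerDifferential

-- universe u declared in template

section
variable (R A B : Type u) [CommRing R] [CommRing A] [CommRing B] [Algebra R A] [Algebra R B]

noncomputable def Lmap : A ⊗[R] B →ₗ[R] ((A ⊗[R] B) ⊗[A] Ω[A⁄R]) :=
  TensorProduct.lift (LinearMap.mk₂ R (fun (a : A) (b : B) => ((1 : A) ⊗ₜ[R] b) ⊗ₜ[A] KaehlerDifferential.D R A a)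
    (fun a a' b => by rw [map_add, TensorProduct.tmul_add])
    (fun c a b => by rw [Derivation.map_smul, TensorProduct.tmul_smul])
    (fun a b b' => by rw [TensorProduct.tmul_add, TensorProduct.add_tmul])
    (fun c a b => by
      rw [TensorProduct.tmul_smul]
      exact (TensorProduct.smul_tmul' _ _ _).symm))

lemma Lmap_tmul (a : A) (b : B) : Lmap R A B (a ⊗ₜ[R] b) = ((1 : A) ⊗ₜ[R] b) ⊗ₜ[A] KaehlerDifferential.D R A a := by
  simp [Lmap]

lemma tmul_smul_D (y : A ⊗[R] B) (a : A) (ω : Ω[A⁄R]) :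
    y ⊗ₜ[A] (a • ω) = ((a ⊗ₜ[R] (1 : B)) * y) ⊗ₜ[A] ω := by
  rw [← TensorProduct.smul_tmul]
  congr 1
  rw [Algebra.smul_def]
  rfl

lemma Lmap_leibniz (x y : A ⊗[R] B) : Lmap R A B (x * y) = x • Lmap R A B y + y • Lmap R A B x := by
  induction x using TensorProduct.induction_on with
  | zero => simp
  | add x₁ x₂ h₁ h₂ => rw [add_mul, map_add, h₁, h₂, map_add, smul_add, add_smul]; abel
  | tmul a b =>
    induction y using TensorProduct.induction_on with
    | zero => simp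
    | add y₁ y₂ h₁ h₂ => rw [mul_add, map_add, h₁, h₂, map_add, smul_add, add_smul]; abel
    | tmul a' b' =>
      rw [Algebra.TensorProduct.tmul_mul_tmul, Lmap_tmul, Lmap_tmul, Lmap_tmul, Derivation.leibniz,
        TensorProduct.tmul_add, tmul_smul_D, tmul_smul_D, TensorProduct.smul_tmul', TensorProduct.smul_tmul',
        smul_eq_mul, smul_eq_mul, Algebra.TensorProduct.tmul_mul_tmul, Algebra.TensorProduct.tmul_mul_tmul,
        Algebra.TensorProduct.tmul_mul_tmul, Algebra.TensorProduct.tmul_mul_tmul, mul_one, mul_one,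
        mul_comm b' b]
      simp only [one_mul]

noncomputable def Dder : Derivation R (A ⊗[R] B) ((A ⊗[R] B) ⊗[A] Ω[A⁄R]) where
  toLinearMap := Lmap R A B
  map_one_eq_zero' := by
    rw [Algebra.TensorProduct.one_def, Lmap_tmul, Derivation.map_one_eq_zero, TensorProduct.tmul_zero]
  leibniz' := Lmap_leibniz R A B

lemma Dder_tmul (a : A) (b : B) : Dder R A B (a ⊗ₜ[R] b) = ((1 : A) ⊗ₜ[R] b) ⊗ₜ[A] KaehlerDifferential.D R A a :=
  Lmap_tmul R A B a b

noncomputable def rmap : Ω[(A ⊗[R] B)⁄R] →ₗ[A ⊗[R] B] ((A ⊗[R] B) ⊗[A] Ω[A⁄R]) :=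
  (Dder R A B).liftKaehlerDifferential

lemma rmap_D (x : A ⊗[R] B) : rmap R A B (KaehlerDifferential.D R (A ⊗[R] B) x) = Dder R A B x :=
  Derivation.liftKaehlerDifferential_comp_D _ x

lemma rmap_mapBaseChange (ν : (A ⊗[R] B) ⊗[A] Ω[A⁄R]) :
    rmap R A B (KaehlerDifferential.mapBaseChange R A (A ⊗[R] B) ν) = ν := by
  induction ν using TensorProduct.induction_on with
  | zero => simp
  | add x y hx hy => rw [map_add, map_add, hx, hy]
  | tmul t ω =>
    rw [KaehlerDifferential.mapBaseChange_tmul, map_smul]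
    have hω : ω ∈ Submodule.span A (Set.range (KaehlerDifferential.D R A)) := by
      rw [KaehlerDifferential.span_range_derivation]; trivial
    induction hω using Submodule.span_induction with
    | mem ω h =>
      obtain ⟨a, rfl⟩ := h
      rw [KaehlerDifferential.map_D, rmap_D]
      have : algebraMap A (A ⊗[R] B) a = a ⊗ₜ[R] (1 : B) := rfl
      rw [this, Dder_tmul, TensorProduct.smul_tmul', smul_eq_mul, ← Algebra.TensorProduct.one_def, mul_one]
    | zero => simp
    | add ω₁ ω₂ _ _ h₁ h₂ => rw [map_add, map_add, smul_add, h₁, h₂, TensorProduct.tmul_add]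
    | smul a ω _ h =>
      rw [map_smul, LinearMap.map_smul_of_tower, smul_comm, h, TensorProduct.tmul_smul]

theorem main : ∃ r : Ω[(A ⊗[R] B)⁄R] →ₗ[A ⊗[R] B] ((A ⊗[R] B) ⊗[A] Ω[A⁄R]),
      (∀ (a : A) (b : B), r (KaehlerDifferential.D R (A ⊗[R] B) (a ⊗ₜ[R] b)) =
          ((1 : A) ⊗ₜ[R] b) ⊗ₜ[A] KaehlerDifferential.D R A a) ∧
        Function.Bijective (fun ω : Ω[(A ⊗[R] B)⁄R] =>
          (r ω, KaehlerDifferential.map R A (A ⊗[R] B) (A ⊗[R] B) ω)) := by
  refine ⟨rmap R A B, fun a b => by rw [rmap_D, Dder_tmul], ?_, ?_⟩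
  · intro ω ω' h
    have h1 : rmap R A B ω = rmap R A B ω' := congrArg Prod.fst h
    have h2 : KaehlerDifferential.map R A (A ⊗[R] B) (A ⊗[R] B) ω =
      KaehlerDifferential.map R A (A ⊗[R] B) (A ⊗[R] B) ω' := congrArg Prod.snd h
    have h3 : KaehlerDifferential.map R A (A ⊗[R] B) (A ⊗[R] B) (ω - ω') = 0 := by
      rw [map_sub, h2, sub_self]
    obtain ⟨ν, hν⟩ := (KaehlerDifferential.exact_mapBaseChange_map R A (A ⊗[R] B) _).mp h3
    have h4 : ν = 0 := by
      rw [← rmap_mapBaseChange R A B ν, hν, map_sub, h1, sub_self]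
    rw [h4, map_zero] at hν
    exact (sub_eq_zero.mp hν.symm)
  · rintro ⟨ν, η⟩
    obtain ⟨ω₀, hω₀⟩ := KaehlerDifferential.map_surjective R A (A ⊗[R] B) η
    refine ⟨ω₀ + KaehlerDifferential.mapBaseChange R A (A ⊗[R] B) (ν - rmap R A B ω₀), ?_⟩
    have h0 : KaehlerDifferential.map R A (A ⊗[R] B) (A ⊗[R] B)
        (KaehlerDifferential.mapBaseChange R A (A ⊗[R] B) (ν - rmap R A B ω₀)) = 0 :=
      (KaehlerDifferential.exact_mapBaseChange_map R A (A ⊗[R] B) _).mpr ⟨_, rfl⟩
    ext1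
    · show rmap R A B _ = ν
      rw [map_add, rmap_mapBaseChange]; abel
    · show KaehlerDifferential.map R A (A ⊗[R] B) (A ⊗[R] B) _ = η
      rw [map_add, h0, add_zero, hω₀]

end

end aux

/-- Let R be a commutative ring, A and B commutative R-algebras and T = A ⊗_R B, an A-algebra through
the left factor. There is a T-linear map r from Ω_{T/R} to T ⊗_A Ω_{A/R} sending d(a ⊗ b) to (1 ⊗ b)
⊗ da for all a in A and b in B, and together with the canonical map Ω_{T/R} → Ω_{T/A} it identifies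
Ω_{T/R} with the product (T ⊗_A Ω_{A/R}) × Ω_{T/A}. (The published statement is the isomorphism of
(Ω_{A/R} ⊗_R B) ⊕ (A ⊗_R Ω_{B/R}) with Ω_{T/R} matching the exterior differentials; it is stated
here through the canonical identifications T ⊗_A Ω_{A/R} = Ω_{A/R} ⊗_R B and Ω_{T/A} = A ⊗_R
Ω_{B/R}.) -/
theorem result (R A B : Type u) [CommRing R] [CommRing A] [CommRing B]
    [Algebra R A] [Algebra R B] :
    ∃ r : Ω[(A ⊗[R] B)⁄R] →ₗ[A ⊗[R] B] ((A ⊗[R] B) ⊗[A] Ω[A⁄R]),
      (∀ (a : A) (b : B), r (KaehlerDifferential.D R (A ⊗[R] B) (a ⊗ₜ[R] b)) =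
          ((1 : A) ⊗ₜ[R] b) ⊗ₜ[A] KaehlerDifferential.D R A a) ∧
        Function.Bijective (fun ω : Ω[(A ⊗[R] B)⁄R] =>
          (r ω, KaehlerDifferential.map R A (A ⊗[R] B) (A ⊗[R] B) ω)) := by
  exact main R A B

end Groth.Agent.S10956
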