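import Groth.Statements.S10961
import Groth.Agent.Lib.Helper29.MeroLoc2
import Groth.Agent.S5086

set_option autoImplicit false
universe u
open CategoryTheory AlgebraicGeometry TopologicalSpace
open Mero

namespace Groth.Agent.S10961



section Helpers
open Opposite Groth.Agent.Lib.Helper29.MeroDiv

variable {X : Scheme.{u}}

theorem bijective_algebraMap_of_generic [IsReduced X] (x : X)
    (hx : closure ({x} : Set X) ∈ irreducibleComponents (X : Type u)) :
    IsField (X.presheaf.stalk x) ∧
      Function.Bijective (algebraMap (X.presheaf.stalk x) (Mero.KStalk X x)) := by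
  have hF := isField_stalk_of_closure_mem_irreducibleComponents X x hx
  refine ⟨hF, ?_⟩
  letI := hF.toField
  have hu : ∀ t ∈ regStalk X x, IsUnit t := fun t ht =>
    (nonZeroDivisors.ne_zero (regStalk_le_nonZeroDivisors x ht)).isUnit
  exact (IsLocalization.atUnits (X.presheaf.stalk x) (regStalk X x) (S := KStalk X x) hu).bijective

/-- every point is a specialization of the generic point of an irreducible component -/
theorem exists_generic_specializes (y : X) :
    ∃ η : X, closure ({η} : Set X) ∈ irreducibleComponents (X : Type u) ∧ η ⤳ y := by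
  have hZ := irreducibleComponent_mem_irreducibleComponents y
  have hirr : IsIrreducible (irreducibleComponent y) := hZ.1
  have hη := hirr.isGenericPoint_genericPoint (isClosed_of_mem_irreducibleComponents _ hZ)
  refine ⟨hirr.genericPoint, ?_, hη.specializes mem_irreducibleComponent⟩
  rw [hη.def]
  exact hZ

/-- on a reduced scheme a function whose germs at the generic points vanish is zero -/
theorem eq_zero_of_germ_generic_eq_zero [IsReduced X] {V : X.Opens} (a : Γ(X, V))
    (h : ∀ (η : X) (hη : η ∈ V), closure ({η} : Set X) ∈ irreducibleComponents (X : Type u) →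
      X.presheaf.germ V η hη a = 0) : a = 0 := by
  rw [← AlgebraicGeometry.basicOpen_eq_bot_iff]
  by_contra hne
  have hne' : ((X.basicOpen a : X.Opens) : Set X).Nonempty := by
    rw [Set.nonempty_iff_ne_empty]
    intro h0
    exact hne (Opens.ext h0)
  obtain ⟨z, hz⟩ := hne'
  obtain ⟨η, hη, hηz⟩ := exists_generic_specializes z
  have hηa : η ∈ X.basicOpen a := hηz.mem_open (X.basicOpen a).isOpen hz
  have hηV : η ∈ V := X.basicOpen_le a hηa
  have h1 := (Scheme.mem_basicOpen X a η hηV).1 hηa
  rw [h η hηV hη] at h1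
  exact not_isUnit_zero h1

theorem kmod_eq_zero_of_generic [IsReduced X] {U : X.Opens} (t : Γ(Mero.kmod X, U))
    (h : ∀ (η : X) (hη : η ∈ U), closure ({η} : Set X) ∈ irreducibleComponents (X : Type u) →
      t.1 ⟨η, hη⟩ = 0) : t = 0 := by
  refine Subtype.ext (funext fun y => ?_)
  obtain ⟨W₀, hyW₀, i, a, b, hab⟩ := t.2 y
  have hab' : ∀ z : W₀, t.1 ⟨z.1, i.le z.2⟩ =
      LocalizedModule.mk (X.presheaf.germ W₀ z.1 z.2 a) (regGerm z b) := hab
  have ha : a = 0 := by
    apply eq_zero_of_germ_generic_eq_zero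
    intro η hη hgen
    have h1 := hab' ⟨η, hη⟩
    rw [h η (i.le hη) hgen, ← map_zero (algebraMap (X.presheaf.stalk η) (KStalk X η)),
      algebraMap_eq_mk_iff, zero_mul] at h1
    exact h1.symm
  have h2 := hab' ⟨y.1, hyW₀⟩
  rw [ha, map_zero, LocalizedModule.zero_mk] at h2
  exact h2

theorem exists_kmod_of_generic_values [IsReduced X]
    (hfin : (irreducibleComponents (X : Type u)).Finite) (U : X.Opens)
    (c : ∀ x : {x : U // closure ({x.1} : Set X) ∈ irreducibleComponents (X : Type u)},
      Mero.KStalk X x.1.1) :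
    ∃ s : Γ(Mero.kmod X, U), ∀ x, s.1 x.1 = c x := by
  classical
  have h1 : ∀ x : {x : U // closure ({x.1} : Set X) ∈ irreducibleComponents (X : Type u)},
      ∃ (Vx : X.Opens) (hx : x.1.1 ∈ Vx) (a : Γ(X, Vx)),
        algebraMap (X.presheaf.stalk x.1.1) (Mero.KStalk X x.1.1) (X.presheaf.germ Vx x.1.1 hx a) = c x := by
    intro x
    obtain ⟨γ, hγ⟩ := (bijective_algebraMap_of_generic x.1.1 x.2).2.2 (c x)
    obtain ⟨Vx, hx, a, ha⟩ := TopCat.Presheaf.exists_germ_eq X.presheaf γ
    exact ⟨Vx, hx, a, by rw [ha, hγ]⟩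
  choose Vx hxVx a ha using h1
  let O : {x : U // closure ({x.1} : Set X) ∈ irreducibleComponents (X : Type u)} → Set X :=
    fun x => ⋃₀ (irreducibleComponents (X : Type u) \ {closure ({x.1.1} : Set X)})
  have hOcl : ∀ x, IsClosed (O x) := by
    intro x
    change IsClosed (⋃₀ (irreducibleComponents (X : Type u) \ {closure ({x.1.1} : Set X)}))
    rw [Set.sUnion_eq_biUnion]
    exact (hfin.subset Set.diff_subset).isClosed_biUnion
      (fun Z' hZ' => isClosed_of_mem_irreducibleComponents Z' hZ'.1)
  have hxO : ∀ x, x.1.1 ∉ O x := by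
    rintro x ⟨Z', ⟨hZ', hne⟩, hxZ'⟩
    have hsub : closure ({x.1.1} : Set X) ⊆ Z' :=
      (isClosed_of_mem_irreducibleComponents Z' hZ').closure_subset_iff.2
        (Set.singleton_subset_iff.2 hxZ')
    exact hne (Set.Subset.antisymm (x.2.2 hZ'.1 hsub) hsub)
  have hOcomp : ∀ x (y : X), y ∉ O x → irreducibleComponent y = closure ({x.1.1} : Set X) := by
    intro x y hy
    by_contra hne
    exact hy ⟨irreducibleComponent y, ⟨irreducibleComponent_mem_irreducibleComponents y, hne⟩,
      mem_irreducibleComponent⟩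
  let V' : {x : U // closure ({x.1} : Set X) ∈ irreducibleComponents (X : Type u)} → X.Opens :=
    fun x => Vx x ⊓ U ⊓ ⟨(O x)ᶜ, (hOcl x).isOpen_compl⟩
  have hxV' : ∀ x, x.1.1 ∈ V' x := fun x => ⟨⟨hxVx x, x.1.2⟩, hxO x⟩
  have hdisj : ∀ x x', x ≠ x' → V' x ⊓ V' x' = ⊥ := by
    intro x x' hne
    rw [eq_bot_iff]
    rintro y ⟨hy, hy'⟩
    exfalso
    apply hne
    have e1 := hOcomp x y hy.2
    have e2 := hOcomp x' y hy'.2
    have e3 : closure ({x.1.1} : Set X) = closure ({x'.1.1} : Set X) := e1.symm.trans e2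
    have e4 : x.1.1 = x'.1.1 :=
      (isGenericPoint_closure (x := x.1.1)).eq (e3 ▸ isGenericPoint_closure (x := x'.1.1))
    exact Subtype.ext (Subtype.ext e4)
  let sf : ∀ x, Γ(X, V' x) := fun x =>
    (X.presheaf.map (homOfLE (inf_le_left.trans inf_le_left : V' x ≤ Vx x)).op).hom (a x)
  have hcompat : TopCat.Presheaf.IsCompatible X.presheaf V' sf := by
    intro x x'
    by_cases h : x = x'
    · subst h
      rfl
    · have hsub : Subsingleton Γ(X, V' x ⊓ V' x') := by
        rw [hdisj x x' h]
        exact CommRingCat.subsingleton_of_isTerminal X.sheaf.isTerminalOfEmpty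
      exact Subsingleton.elim _ _
  obtain ⟨g', hg', -⟩ := X.sheaf.existsUnique_gluing' V' (iSup V')
    (fun x => homOfLE (le_iSup V' x)) le_rfl sf hcompat
  let g : Γ(X, iSup V') := g'
  have hg : ∀ x, (X.presheaf.map (homOfLE (le_iSup V' x)).op).hom g = sf x := hg'
  have hVU : iSup V' ≤ U := iSup_le fun x => inf_le_left.trans inf_le_right
  have hV : ∀ W : X.Opens, W ≤ U →
      Function.Injective ⇑(X.presheaf.map (homOfLE (inf_le_left : W ⊓ iSup V' ≤ W)).op) := by
    intro W hWU
    rw [injective_iff_map_eq_zero]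
    intro r hr
    apply eq_zero_of_germ_generic_eq_zero
    intro η hηW hgen
    have hηV : η ∈ iSup V' := Opens.mem_iSup.2 ⟨⟨⟨η, hWU hηW⟩, hgen⟩, hxV' ⟨⟨η, hWU hηW⟩, hgen⟩⟩
    have h2 := congrArg (X.presheaf.germ (W ⊓ iSup V') η ⟨hηW, hηV⟩) hr
    rw [TopCat.Presheaf.germ_res_apply, map_zero] at h2
    exact h2
  obtain ⟨s, hs⟩ := Groth.Agent.S5086.result X
    (Or.inr ⟨inferInstance, fun x => ⟨⊤, trivial, hfin.subset (fun Z hZ => hZ.1)⟩⟩)
    U (iSup V') hVU hV g
  refine ⟨s, fun x => ?_⟩
  have hxV : x.1.1 ∈ iSup V' := Opens.mem_iSup.2 ⟨x, hxV' x⟩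
  have h3 := congrArg (fun z : Γ(Mero.kmod X, iSup V') => z.1 ⟨x.1.1, hxV⟩) hs
  have h4 : s.1 x.1 = (toK X (iSup V') g).1 ⟨x.1.1, hxV⟩ := h3
  rw [h4, toK_val_apply, ← ha x]
  congr 1
  have h5 := congrArg (X.presheaf.germ (V' x) x.1.1 (hxV' x)) (hg x)
  rw [TopCat.Presheaf.germ_res_apply] at h5
  rw [h5]
  exact TopCat.Presheaf.germ_res_apply X.presheaf _ _ _ _

end Helpers

/-- Let X be a reduced scheme with only finitely many irreducible components, with generic points x_1,
…, x_r, and let U be an open subset of X. Then the ring of sections over U of the sheaf of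
meromorphic functions K_X maps bijectively, by evaluation, onto the product of the rings K_{X,x_i}
over those generic points x_i that lie in U; moreover for each generic point x_i the local ring of X
at x_i is a field and maps bijectively onto K_{X,x_i}, so that K_{X,x_i} is the residue field of
x_i. (The hypothesis holds for every Noetherian scheme; for X integral it says that K_X is the
constant sheaf with value the function field.) -/
theorem result
    (X : Scheme.{u}) [IsReduced X] (hfin : (irreducibleComponents (X : Type u)).Finite) (U : X.Opens) :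
    Function.Bijective (fun s : Γ(Mero.kmod X, U) =>
      fun x : {x : U // closure ({x.1} : Set X) ∈ irreducibleComponents (X : Type u)} =>
        Mero.evalK X U x.1 s) ∧
    (∀ x : X, closure ({x} : Set X) ∈ irreducibleComponents (X : Type u) →
      IsField (X.presheaf.stalk x) ∧
        Function.Bijective (algebraMap (X.presheaf.stalk x) (Mero.KStalk X x))) := by
  refine ⟨⟨?_, ?_⟩, fun x hx => bijective_algebraMap_of_generic x hx⟩
  · intro s s' h
    rw [← sub_eq_zero]
    apply kmod_eq_zero_of_generic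
    intro η hη hgen
    have h1 := congrFun h ⟨⟨η, hη⟩, hgen⟩
    have h2 : Mero.evalK X U ⟨η, hη⟩ s = Mero.evalK X U ⟨η, hη⟩ s' := h1
    have h3 : Mero.evalK X U ⟨η, hη⟩ (s - s') = 0 := by rw [map_sub, h2, sub_self]
    exact h3
  · intro c
    obtain ⟨s, hs⟩ := exists_kmod_of_generic_values hfin U c
    exact ⟨s, funext fun x => hs x⟩



end Groth.Agent.S10961
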