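import Groth.Statements.S10964
import Groth.Agent.Lib.Helper17.InvDescLoc
import Groth.Agent.Lib.Helper28.GenIso
import Mathlib
set_option backward.isDefEq.respectTransparency.types false

set_option autoImplicit false
universe u
open CategoryTheory AlgebraicGeometry TopologicalSpace Opposite
open PicF

namespace Groth.Agent.S10964

open Groth.Agent.Lib.Helper28 Groth.Agent.Lib.Helper28.QCohLoc Groth.Agent.Lib.Helper28.GenLocus
open Groth.Agent.Lib.Helper17 Groth.Agent.Lib.Helper17.InvDescLoc

theorem isGen_of_iso {Z : Scheme.{u}} {M N : Z.Modules} (φ : M ≅ N) {U : Z.Opens} {g : Γ(M, U)}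
    (hg : IsGen M U g) : IsGen N U (φ.hom.app U g) := by
  intro W hW
  have hfun : (fun c : Γ(Z, W) => (c • res N hW (φ.hom.app U g) : Γ(N, W))) =
      (φ.hom.app W) ∘ (fun c : Γ(Z, W) => (c • res M hW g : Γ(M, W))) := by
    funext c
    rw [Function.comp_apply, Scheme.Modules.Hom.app_smul, app_res]
  rw [hfun]
  exact (app_bijective_of_isIso φ.hom W).comp (hg W hW)


/-- Let X be a scheme with an open cover (U_i)_{i ∈ ι}. Let L and L' be O_X-modules with sections s_i of
L and s'_i of L' over U_i that generate there (for every open V ⊆ U_i, r ↦ r · s_i|_V is a bijection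
from functions on V onto sections of L over V, and likewise for s'_i), and let η_ij, η'_ij be the
functions on U_i ∩ U_j with s_i = η_ij · s_j and s'_i = η'_ij · s'_j there. Then L and L' are
isomorphic as O_X-modules if and only if there is a family of units u_i of the rings of functions on
the U_i with η'_ij · u_i|_{U_i ∩ U_j} = u_j|_{U_i ∩ U_j} · η_ij for all i, j. (So two invertible
modules trivialised by the cover are isomorphic exactly when their transition cocycles define the
same Čech cohomology class.) -/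
theorem result (X : Scheme.{u}) {ι : Type u} (U : ι → X.Opens)
    (hU : iSup U = ⊤) (L L' : X.Modules) (s : ∀ i : ι, Γ(L, U i)) (s' : ∀ i : ι, Γ(L', U i))
    (hs : ∀ (i : ι) (V : X.Opens) (h : V ≤ U i),
        Function.Bijective (fun r : Γ(X, V) => r • L.presheaf.map (homOfLE h).op (s i)))
    (hs' : ∀ (i : ι) (V : X.Opens) (h : V ≤ U i),
        Function.Bijective (fun r : Γ(X, V) => r • L'.presheaf.map (homOfLE h).op (s' i)))
    (η η' : ∀ i j : ι, Γ(X, U i ⊓ U j))
    (hη : ∀ i j : ι, L.presheaf.map (homOfLE (inf_le_left : U i ⊓ U j ≤ U i)).op (s i) =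
        η i j • L.presheaf.map (homOfLE (inf_le_right : U i ⊓ U j ≤ U j)).op (s j))
    (hη' : ∀ i j : ι, L'.presheaf.map (homOfLE (inf_le_left : U i ⊓ U j ≤ U i)).op (s' i) =
        η' i j • L'.presheaf.map (homOfLE (inf_le_right : U i ⊓ U j ≤ U j)).op (s' j)) :
    Nonempty (L ≅ L') ↔ ∃ u : ∀ i : ι, (Γ(X, U i))ˣ, ∀ i j : ι,
      η' i j * X.presheaf.map (homOfLE (inf_le_left : U i ⊓ U j ≤ U i)).op (u i : Γ(X, U i)) =
        X.presheaf.map (homOfLE (inf_le_right : U i ⊓ U j ≤ U j)).op (u j : Γ(X, U j)) * η i j := by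
  have hg : ∀ i, IsGen L (U i) (s i) := fun i => hs i
  have hg' : ∀ i, IsGen L' (U i) (s' i) := fun i => hs' i
  have hcov : ∀ x : X, ∃ i, x ∈ U i := by
    intro x
    have : x ∈ iSup U := by rw [hU]; trivial
    exact Opens.mem_iSup.mp this
  constructor
  · rintro ⟨ψ⟩
    have hgψ : ∀ i, IsGen L' (U i) (ψ.hom.app (U i) (s i)) := fun i => isGen_of_iso ψ (hg i)
    let c : ∀ i, Γ(X, U i) := fun i => (hg' i).coef le_rfl (ψ.hom.app (U i) (s i))
    have hc : ∀ i, (c i • s' i : Γ(L', U i)) = ψ.hom.app (U i) (s i) := fun i => by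
      have := (hg' i).coef_smul le_rfl (ψ.hom.app (U i) (s i))
      rwa [res_self] at this
    have hcu : ∀ i, IsUnit (c i) := fun i => by
      apply isUnit_of_isGen_smul (hg' i) (c i)
      rw [hc i]
      exact hgψ i
    refine ⟨fun i => (hcu i).unit, fun i j => ?_⟩
    show η' i j * resO inf_le_left (c i) = resO inf_le_right (c j) * η i j
    apply ((hg' j) (U i ⊓ U j) inf_le_right).1
    show ((η' i j * resO inf_le_left (c i)) • res L' inf_le_right (s' j) : Γ(L', U i ⊓ U j)) =
      ((resO inf_le_right (c j) * η i j) • res L' inf_le_right (s' j) : Γ(L', U i ⊓ U j))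
    have h1 : res L' (inf_le_left : U i ⊓ U j ≤ U i) (ψ.hom.app (U i) (s i)) =
        (η i j • res L' (inf_le_right : U i ⊓ U j ≤ U j) (ψ.hom.app (U j) (s j)) : Γ(L', U i ⊓ U j)) := by
      rw [← app_res, ← app_res]
      have := hη i j
      change res L inf_le_left (s i) = (η i j • res L inf_le_right (s j) : Γ(L, U i ⊓ U j)) at this
      rw [this, Scheme.Modules.Hom.app_smul]
    rw [← hc i, ← hc j, res_smul, res_smul] at h1
    have h2 := hη' i j
    change res L' inf_le_left (s' i) = (η' i j • res L' inf_le_right (s' j) : Γ(L', U i ⊓ U j)) at h2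
    rw [h2, ← mul_smul, ← mul_smul] at h1
    rw [mul_comm (η' i j), mul_comm _ (η i j)]
    exact h1
  · rintro ⟨u, hu⟩
    have hcoc : ∀ i j, ∃ e : Γ(X, U i ⊓ U j),
        res L (inf_le_left : U i ⊓ U j ≤ U i) (s i) = (e • res L (inf_le_right : U i ⊓ U j ≤ U j) (s j) : Γ(L, U i ⊓ U j)) ∧
        res L' (inf_le_left : U i ⊓ U j ≤ U i) (((u i : Γ(X, U i)) • s' i : Γ(L', U i))) =
          (e • res L' (inf_le_right : U i ⊓ U j ≤ U j) (((u j : Γ(X, U j)) • s' j : Γ(L', U j))) : Γ(L', U i ⊓ U j)) := by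
      intro i j
      refine ⟨η i j, hη i j, ?_⟩
      rw [res_smul, res_smul]
      have h2 := hη' i j
      change res L' inf_le_left (s' i) = (η' i j • res L' inf_le_right (s' j) : Γ(L', U i ⊓ U j)) at h2
      rw [h2, ← mul_smul, ← mul_smul]
      congr 1
      have := hu i j
      change η' i j * resO inf_le_left (u i : Γ(X, U i)) = resO inf_le_right (u j : Γ(X, U j)) * η i j at this
      rw [mul_comm, this, mul_comm]
    obtain ⟨ψ, -⟩ := exists_iso_of_cocycle_gen (M := L) (N := L') U s
      (fun i => ((u i : Γ(X, U i)) • s' i : Γ(L', U i)))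
      hg (fun i => IsGen.smul_unit (hg' i) _ (u i).isUnit) hcov hcoc
    exact ⟨ψ⟩

end Groth.Agent.S10964
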