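import Groth.Statements.S10986
import Mathlib

set_option autoImplicit false
open FunFld

namespace Groth.Agent.S10986

/-- `L(D) · W(C) ⊆ W(C - D)`: if `x ∈ L(D)` and `ω` vanishes on `A(C) + K` then `xω` vanishes on `A(C -
D) + K`. -/
theorem result (k K : Type*) [Field k] [Field K] [Algebra k K]
    (C D : FunFld.Divisor k K) (x : K) (hxD : x ∈ FunFld.L D)
    (hx : ∀ a ∈ FunFld.adele k K, x • a ∈ FunFld.adele k K)
    (ω : Module.Dual k (FunFld.adele k K)) (hω : ω ∈ FunFld.WD C) :
    FunFld.mulW x hx ω ∈ FunFld.WD (C - D) := by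
  rw [FunFld.WD, Submodule.mem_dualAnnihilator] at hω ⊢
  intro a ha
  -- a ∈ ADK (C - D)
  rw [FunFld.ADK, Submodule.mem_comap, Submodule.mem_sup] at ha
  obtain ⟨b, hb, c, hc, hbc⟩ := ha
  obtain ⟨y, rfl⟩ := hc
  have hmem : (⟨x • (a : FunFld.Place k K → K), hx _ a.2⟩ : FunFld.adele k K) ∈ FunFld.ADK C := by
    rw [FunFld.ADK, Submodule.mem_comap, Submodule.mem_sup]
    refine ⟨x • b, ?_, FunFld.diag k K (x * y), ⟨_, rfl⟩, ?_⟩
    · intro P
      have h1 := hb P
      have h2 := hxD P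
      rw [Pi.smul_apply, smul_eq_mul, map_mul]
      refine (mul_le_mul' h2 h1).trans_eq ?_
      rw [← WithZero.exp_add]
      congr 1
      simp [Finsupp.sub_apply]
    · simp only [Submodule.subtype_apply] at hbc ⊢
      rw [← hbc, smul_add]
      congr 1
  have := hω _ hmem
  rw [← this]
  rfl

end Groth.Agent.S10986
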