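import Groth.Statements.S10996
import Groth.Agent.Lib.Helper18.FF.Rational

set_option autoImplicit false
open FunFld

namespace Groth.Agent.S10996

/-- In a function field of one variable of positive genus, distinct places of degree one are not
linearly equivalent. -/
theorem result (k K : Type*) [Field k] [Field K] [Algebra k K]
    (hK : FunFld.IsFunctionField k K) (hg : 0 < FunFld.genus k K) (P P' : FunFld.Place k K) (hP : P.deg = 1) (hP' : P'.deg = 1)
    (x : K) (hx : x ≠ 0) (h : Finsupp.single P 1 - Finsupp.single P' 1 = FunFld.div k x) : P = P' := by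
  by_contra hne
  have hdiv : ∀ Q : FunFld.Place k K, Q.ord x = (Finsupp.single P (1 : ℤ) - Finsupp.single P' (1 : ℤ)) Q := by
    intro Q
    rw [h, Groth.Agent.Lib.Helper18.FF.div_apply hK]
  have hg0 : FunFld.genus k K = 0 := by
    refine ((Groth.Agent.Lib.Helper18.FF.genus_zero_and_exists_deg_one_iff hK).mpr
      ((Groth.Agent.Lib.Helper18.FF.exists_simple_pole_iff hK).mp ⟨x, P', hP', ?_, ?_⟩)).1
    · rw [hdiv, Finsupp.sub_apply, Finsupp.single_eq_same,
        Finsupp.single_eq_of_ne (fun h => hne h.symm)]
      norm_num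
    · intro Q hQ
      rw [hdiv, Finsupp.sub_apply, Finsupp.single_eq_of_ne hQ, sub_zero]
      by_cases hQP : Q = P
      · subst hQP; rw [Finsupp.single_eq_same]; norm_num
      · rw [Finsupp.single_eq_of_ne hQP]
  omega

end Groth.Agent.S10996
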