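import Groth.Statements.S11008
import Groth.Agent.Lib.Helper18.FF.AbsIrr3
import Groth.Agent.Lib.Helper24.FFExt.Separating
import Groth.Agent.Lib.Helper24.FFExt.Geometric
import Mathlib.FieldTheory.PrimitiveElement
open Groth.Agent.Lib.Helper18.FF

set_option autoImplicit false
universe u v
open FunFld

namespace Groth.Agent.S11008

/-- `K/k` is a geometric function field of one variable iff `K = k(x, y)` where the relation ideal of
`(x, y)` in `k[X, Y]` is generated by an absolutely irreducible polynomial `f`. -/
theorem result (k : Type u) (K : Type v) [Field k] [Field K] [Algebra k K] :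
    (FunFld.IsFunctionField k K ∧ FunFld.IsGeometric k K) ↔
      ∃ (x y : K) (f : MvPolynomial (Fin 2) k),
        IntermediateField.adjoin k ({x, y} : Set K) = ⊤ ∧
        (∀ (k' : Type u) [Field k'] [Algebra k k'], FiniteDimensional k k' →
          Irreducible (MvPolynomial.map (algebraMap k k') f)) ∧
        RingHom.ker (MvPolynomial.aeval ![x, y] : MvPolynomial (Fin 2) k →ₐ[k] K) = Ideal.span {f} := by
  classical
  constructor
  · rintro ⟨hK, hg⟩
    obtain ⟨t, ht, hfin, hsep⟩ := Groth.Agent.Lib.Helper24.FFExt.exists_separating hK hg
    obtain ⟨α, hα⟩ := Field.exists_primitive_element (IntermediateField.adjoin k ({t} : Set K)) K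
    have hxy : IntermediateField.adjoin k ({t, α} : Set K) = ⊤ := by
      have h1 := IntermediateField.adjoin_adjoin_left k ({t} : Set K) ({α} : Set K)
      rw [hα, IntermediateField.restrictScalars_top] at h1
      rw [h1]
      rfl
    have halg : IsAlgebraic (IntermediateField.adjoin k ({t} : Set K)) α :=
      Algebra.IsAlgebraic.isAlgebraic α
    obtain ⟨g, hg0, hgz⟩ := (bivariate_algebraic ht α).mp halg
    have hprime : (RingHom.ker (MvPolynomial.aeval ![t, α] :
        MvPolynomial (Fin 2) k →ₐ[k] K)).IsPrime := RingHom.ker_isPrime _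
    have hne : RingHom.ker (MvPolynomial.aeval ![t, α] :
        MvPolynomial (Fin 2) k →ₐ[k] K) ≠ ⊥ := by
      intro h
      have : g ∈ RingHom.ker (MvPolynomial.aeval ![t, α] :
          MvPolynomial (Fin 2) k →ₐ[k] K) := hgz
      rw [h] at this
      exact hg0 this
    obtain ⟨f, hfmem, hfprime⟩ := hprime.exists_mem_prime_of_ne_bot hne
    have hfirr : Irreducible f := hfprime.irreducible
    have hfz : MvPolynomial.aeval ![t, α] f = 0 := hfmem
    have hker := (bivariate_gauss ht hfirr hfz).1
    refine ⟨t, α, f, hxy, ?_, ?_⟩
    · intro k' _ _ hk'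
      have hfield := hg k' hk'
      haveI : IsDomain (TensorProduct k k' K) := hfield.isDomain
      exact irreducible_map_of_isDomain t α hfirr.ne_zero hfz hker
    · apply le_antisymm
      · intro g hg
        rw [Ideal.mem_span_singleton]
        exact hker g hg
      · rw [Ideal.span_singleton_le_iff_mem]
        exact hfmem
  · rintro ⟨x, y, f, hxy, habs, hkerEq⟩
    have hfirr : Irreducible f := by
      have := habs k inferInstance
      rwa [Algebra.algebraMap_self, MvPolynomial.map_id] at this
    have hfz : MvPolynomial.aeval ![x, y] f = 0 := by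
      have : f ∈ RingHom.ker (MvPolynomial.aeval ![x, y] :
          MvPolynomial (Fin 2) k →ₐ[k] K) := by
        rw [hkerEq]
        exact Ideal.mem_span_singleton_self f
      exact this
    have hker : ∀ g : MvPolynomial (Fin 2) k, MvPolynomial.aeval ![x, y] g = 0 → f ∣ g := by
      intro g hg
      have : g ∈ RingHom.ker (MvPolynomial.aeval ![x, y] :
          MvPolynomial (Fin 2) k →ₐ[k] K) := hg
      rw [hkerEq, Ideal.mem_span_singleton] at this
      exact this
    have hgeo : FunFld.IsGeometric k K := by
      intro k' _ _ hk'
      exact isField_tensor_of_irreducible_map x y hxy hfz hker (habs k' hk')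
    refine ⟨⟨?_, fun z hz => Groth.Agent.Lib.Helper24.FFExt.IsGeometric.mem_range_of_isAlgebraic hgeo hz⟩,
      hgeo⟩
    rcases transcendental_or_of_ker hfirr hker with hx | hy
    · exact ⟨x, hx, finiteDimensional_of_relation hx hxy hfirr.ne_zero hfz⟩
    · refine ⟨y, hy, ?_⟩
      have hxy' : IntermediateField.adjoin k ({y, x} : Set K) = ⊤ := by
        rw [Set.pair_comm]
        exact hxy
      have hsw0 : MvPolynomial.rename (Equiv.swap (0 : Fin 2) 1) f ≠ 0 := by
        intro h
        apply hfirr.ne_zero
        apply MvPolynomial.rename_injective _ (Equiv.swap (0 : Fin 2) 1).injective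
        rw [h, map_zero]
      have hswz : MvPolynomial.aeval ![y, x]
          (MvPolynomial.rename (Equiv.swap (0 : Fin 2) 1) f) = 0 := by
        rw [MvPolynomial.aeval_rename]
        have : (![y, x] ∘ (Equiv.swap (0 : Fin 2) 1)) = ![x, y] := by
          funext i
          fin_cases i <;> simp
        rw [this]
        exact hfz
      exact finiteDimensional_of_relation hy hxy' hsw0 hswz

end Groth.Agent.S11008
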