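import Groth.Statements.S1101
import Groth.Agent.Lib.Helper16.RelFib6
import Groth.Agent.Lib.Helper16.FibProd4
import Groth.Agent.Lib.Helper1.LocPC1
import Groth.Agent.S2107

set_option autoImplicit false
universe u
open CategoryTheory CategoryTheory.Limits AlgebraicGeometry Opposite
attribute [local instance] HasDerivedCategory.standard
open Perf

namespace Groth.Agent.S1101

/-- Let f : X ⟶ S be flat and locally of finite presentation and E a pseudo-coherent object of D(O_X).
Assume restrictions to opens are exact and the derived pullbacks to the fibres X_s exist. Then E is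
S-perfect (locally of finite tor dimension over S in the flat-representative form) if and only if E
is locally bounded below on X and, for every s ∈ S, the derived pullback of E to the fibre X_s is
locally bounded below on X_s. -/
theorem result {X S : Scheme.{u}} (f : X ⟶ S) [Flat f] [LocallyOfFinitePresentation f]
    [∀ (Y : Scheme.{u}) (V : Y.Opens), PreservesFiniteLimits (Scheme.Modules.restrictFunctor V.ι)]
    [∀ s : S, DCoh.HasLpull (f.fiberι s)]
    (E : DCoh.D X) (hE : ∀ m : ℤ, DCoh.IsPseudoCoherentD m E) :
    DCoh.LocHasFiniteRelTorDim f E ↔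
      ((∀ x : X, ∃ (V : X.Opens) (a : ℤ), x ∈ V ∧ ((DCoh.restrictD V.ι).obj E).IsGE a) ∧
       ∀ (s : S) (y : ↥(f.fiber s)), ∃ (W : (f.fiber s).Opens) (a : ℤ), y ∈ W ∧
         ((DCoh.restrictD W.ι).obj ((DCoh.Lpull (f.fiberι s)).obj E)).IsGE a) := by
  constructor
  · intro h
    refine ⟨fun x => Groth.Agent.Lib.Helper16.RelFib.bounded_of_locHasFiniteRelTorDim f E h x, ?_⟩
    intro s y
    have sq : IsPullback (f.fiberι s) (f.fiberToSpecResidueField s) f (S.fromSpecResidueField s) :=
      IsPullback.of_hasPullback f (S.fromSpecResidueField s)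
    have h' := Groth.Agent.Lib.Helper16.FibProd.locHasFiniteRelTorDim_Lpull_of_isPullback sq E h
    exact Groth.Agent.Lib.Helper16.RelFib.bounded_of_locHasFiniteRelTorDim _ _ h' y
  · rintro ⟨h1, h2⟩
    refine (Groth.Agent.Lib.Helper16.RelAmp.locHasFiniteRelTorDim_iff f E).2 ?_
    refine Groth.Agent.Lib.Helper16.RelFib.locTorAt_of_bounded_on_fibres ?_ f E
      (fun m x => (Groth.Agent.Lib.Helper1.LocPC.isPseudoCoherentD_iff m E).1 (hE m) x) h1 h2
    intro R S M N _ _ _ _ _ _ hS _ _ _ _ _ _ _ _ _ _ _ u hu
    exact Groth.Agent.S2107.result hS u hu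

end Groth.Agent.S1101
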