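import Groth.Statements.S11014
import Groth.Agent.Lib.Helper24.FFExt.HyperGenus

set_option autoImplicit false
open FunFld

namespace Groth.Agent.S11014

/-- For `char k ≠ 2` and `K = k(x, y)` with `y² = f(x)`, `f` squarefree of degree `d ≥ 1`, the genus is
`(d - 2)/2` for `d` even and `(d - 1)/2` for `d` odd. -/
theorem result (k K : Type*) [Field k] [Field K] [Algebra k K]
    (hK : FunFld.IsFunctionField k K) (h2 : ringChar k ≠ 2) (x y : K) (hx : Transcendental k x)
    (hxy : IntermediateField.adjoin k ({x, y} : Set K) = ⊤)
    (f : Polynomial k) (hf : Squarefree f) (hd : 1 ≤ f.natDegree)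
    (heq : y ^ 2 = Polynomial.aeval x f) :
    FunFld.genus k K = (f.natDegree - 1) / 2 := by
  classical
  have hinj : Function.Injective (Polynomial.aeval x : Polynomial k →ₐ[k] K) :=
    transcendental_iff_injective.mp hx
  let φ : RatFunc k →ₐ[k] K := IsFractionRing.liftAlgHom (K := RatFunc k) hinj
  letI : Algebra (RatFunc k) K := φ.toRingHom.toAlgebra
  haveI : IsScalarTower k (RatFunc k) K :=
    IsScalarTower.of_algebraMap_eq fun c => (φ.commutes c).symm
  have hφ : ∀ p : Polynomial k,
      algebraMap (RatFunc k) K (algebraMap (Polynomial k) (RatFunc k) p) = Polynomial.aeval x p :=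
    fun p => IsFractionRing.lift_algebraMap hinj p
  have hX : algebraMap (RatFunc k) K RatFunc.X = x := by
    rw [← RatFunc.algebraMap_X, hφ, Polynomial.aeval_X]
  have heq' : y ^ 2 = algebraMap (RatFunc k) K (algebraMap (Polynomial k) (RatFunc k) f) := by
    rw [hφ]; exact heq
  have htop : IntermediateField.adjoin (RatFunc k) ({y} : Set K) = ⊤ := by
    rw [eq_top_iff]
    intro z _
    have hz : z ∈ IntermediateField.adjoin k ({x, y} : Set K) := by rw [hxy]; trivial
    have hle : IntermediateField.adjoin k ({x, y} : Set K) ≤
        (IntermediateField.adjoin (RatFunc k) ({y} : Set K)).restrictScalars k := by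
      rw [IntermediateField.adjoin_le_iff]
      rintro w (rfl | rfl)
      · show w ∈ IntermediateField.adjoin (RatFunc k) ({y} : Set K)
        rw [← hX]
        exact (IntermediateField.adjoin (RatFunc k) ({y} : Set K)).algebraMap_mem _
      · exact IntermediateField.mem_adjoin_simple_self _ _
    exact hle hz
  have hdeg := Groth.Agent.Lib.Helper24.FFExt.hyper_finrank hf hd heq' htop
  exact Groth.Agent.Lib.Helper24.FFExt.hyper_genus hK h2 hdeg hf hd heq'

end Groth.Agent.S11014
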