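import Groth.Statements.S11017
import Mathlib

set_option autoImplicit false
open FunFld

namespace Groth.Agent.S11017

theorem AD_le_adele {k K : Type*} [Field k] [Field K] [Algebra k K] (E : FunFld.Divisor k K) :
    FunFld.AD E ≤ FunFld.adele k K := by
  intro a ha
  show ∀ᶠ P : FunFld.Place k K in Filter.cofinite, P.1 (a P) ≤ 1
  rw [Filter.eventually_cofinite]
  refine E.support.finite_toSet.subset ?_
  intro P hP
  rw [Finset.mem_coe, Finsupp.mem_support_iff]
  intro h0
  apply hP
  have := ha P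
  rwa [h0, WithZero.exp_zero] at this

theorem main (k K : Type*) [Field k] [Field K] [Algebra k K] (ω : Module.Dual k (FunFld.adele k K))
    (C : FunFld.Divisor k K) (hω : FunFld.IsDivOf ω C)
    (P : FunFld.Place k K) (e : ℤ) :
    e ≤ C P ↔ ∀ (a : FunFld.Place k K → K) (ha : a ∈ FunFld.adele k K),
      (∀ Q, Q ≠ P → a Q = 0) → P.1 (a P) ≤ WithZero.exp e → ω ⟨a, ha⟩ = 0 := by
  classical
  have hωC : ω ∈ FunFld.WD C := (hω C).mpr le_rfl
  have hkillC : ∀ (a : FunFld.Place k K → K) (ha : a ∈ FunFld.adele k K),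
      a ∈ FunFld.AD C ⊔ LinearMap.range (FunFld.diag k K) → ω ⟨a, ha⟩ = 0 := by
    intro a ha hmem
    exact (Submodule.mem_dualAnnihilator ω).mp hωC ⟨a, ha⟩ hmem
  constructor
  · intro he a ha hconc hval
    apply hkillC a ha
    apply Submodule.mem_sup_left
    intro Q
    by_cases hQ : Q = P
    · subst hQ
      exact hval.trans (WithZero.exp_le_exp.mpr he)
    · rw [hconc Q hQ, map_zero]; exact zero_le'
  · intro h
    -- the divisor `E` equal to `C` away from `P` and to `e` at `P`
    set E : FunFld.Divisor k K := C + Finsupp.single P (e - C P) with hE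
    have hEP : E P = e := by
      rw [hE, Finsupp.add_apply, Finsupp.single_eq_same]; ring
    have hEQ : ∀ Q, Q ≠ P → E Q = C Q := by
      intro Q hQ
      rw [hE, Finsupp.add_apply, Finsupp.single_eq_of_ne hQ, add_zero]
    have hωE : ω ∈ FunFld.WD E := by
      rw [FunFld.WD, Submodule.mem_dualAnnihilator]
      rintro ⟨b, hb⟩ hbmem
      have hbmem' : b ∈ FunFld.AD E ⊔ LinearMap.range (FunFld.diag k K) := hbmem
      obtain ⟨b₁, hb₁, y, hy, hsum⟩ := Submodule.mem_sup.mp hbmem'
      -- split `b₁`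
      set c : FunFld.Place k K → K := fun Q => if Q = P then b₁ P else 0 with hc
      have hcP : c P = b₁ P := by rw [hc]; simp
      have hcQ : ∀ Q, Q ≠ P → c Q = 0 := by intro Q hQ; rw [hc]; simp [hQ]
      have hcAD : c ∈ FunFld.AD E := by
        intro Q
        by_cases hQ : Q = P
        · subst hQ; rw [hcP]; exact hb₁ Q
        · rw [hcQ Q hQ, map_zero]; exact zero_le'
      have hc_adele : c ∈ FunFld.adele k K := AD_le_adele E hcAD
      have hd_AD : b₁ - c ∈ FunFld.AD C := by
        intro Q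
        by_cases hQ : Q = P
        · subst hQ
          rw [Pi.sub_apply, hcP, sub_self, map_zero]; exact zero_le'
        · rw [Pi.sub_apply, hcQ Q hQ, sub_zero, ← hEQ Q hQ]; exact hb₁ Q
      have hd_adele : b₁ - c ∈ FunFld.adele k K := AD_le_adele C hd_AD
      have hy_adele : y ∈ FunFld.adele k K := by
        have hb₁a : b₁ ∈ FunFld.adele k K := AD_le_adele E hb₁
        have : y = b - b₁ := by rw [← hsum]; abel
        rw [this]
        exact Submodule.sub_mem _ hb hb₁a
      have hsplit : (⟨b, hb⟩ : FunFld.adele k K) =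
          ⟨b₁ - c, hd_adele⟩ + ⟨c, hc_adele⟩ + ⟨y, hy_adele⟩ := by
        apply Subtype.ext
        show b = (b₁ - c) + c + y
        rw [← hsum]; abel
      rw [hsplit, map_add, map_add]
      have h1 : ω ⟨b₁ - c, hd_adele⟩ = 0 := hkillC _ _ (Submodule.mem_sup_left hd_AD)
      have h2 : ω ⟨c, hc_adele⟩ = 0 := by
        apply h c hc_adele hcQ
        rw [hcP, ← hEP]; exact hb₁ P
      have h3 : ω ⟨y, hy_adele⟩ = 0 := hkillC _ _ (Submodule.mem_sup_right hy)
      rw [h1, h2, h3, add_zero, add_zero]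
    have hle := (hω E).mp hωE P
    rwa [hEP] at hle

/-- For a Weil differential `ω` with divisor `C`, `ord_P [ω] ≥ e` iff `ω` kills every repartition
concentrated at `P` with `P`-component of order at least `-e`. -/
theorem result (k K : Type*) [Field k] [Field K] [Algebra k K] (ω : Module.Dual k (FunFld.adele k K)) (C : FunFld.Divisor k K) (hω : FunFld.IsDivOf ω C)
    (P : FunFld.Place k K) (e : ℤ) :
    e ≤ C P ↔ ∀ (a : FunFld.Place k K → K) (ha : a ∈ FunFld.adele k K),
      (∀ Q, Q ≠ P → a Q = 0) → P.1 (a P) ≤ WithZero.exp e → ω ⟨a, ha⟩ = 0 :=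
  main k K ω C hω P e

end Groth.Agent.S11017
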