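import Groth.Statements.S11019
import Groth.Agent.Lib.Helper24.FFExt.Hyper2

set_option autoImplicit false
open FunFld Polynomial Groth.Agent.Lib.Helper24.FFExt Groth.Agent.Lib.Helper18.FF

namespace Groth.Agent.S11019

/-- For `char k ≠ 2` and `K = k(x, y)` with `x` transcendental and `y² = f(x)`, `f` squarefree of degree
`≥ 1`: the field `k` is algebraically closed in `K` (whatever in `K` is algebraic over `k` lies in
`k`), and `K/k` is a function field of one variable. -/
theorem result (k K : Type*) [Field k] [Field K] [Algebra k K] (h2 : ringChar k ≠ 2) (x y : K) (hx : Transcendental k x)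
    (hxy : IntermediateField.adjoin k ({x, y} : Set K) = ⊤)
    (f : Polynomial k) (hf : Squarefree f) (hd : 1 ≤ f.natDegree)
    (heq : y ^ 2 = Polynomial.aeval x f) : FunFld.IsFunctionField k K := by
  classical
  have hinj : Function.Injective (Polynomial.aeval x : k[X] →ₐ[k] K) :=
    transcendental_iff_injective.mp hx
  let φ : RatFunc k →ₐ[k] K := IsFractionRing.liftAlgHom (K := RatFunc k) hinj
  letI : Algebra (RatFunc k) K := φ.toRingHom.toAlgebra
  haveI : IsScalarTower k (RatFunc k) K :=
    IsScalarTower.of_algebraMap_eq fun c => (φ.commutes c).symm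
  have hφ : ∀ p : k[X], algebraMap (RatFunc k) K (algebraMap k[X] (RatFunc k) p) = aeval x p :=
    fun p => IsFractionRing.lift_algebraMap hinj p
  have hX : algebraMap (RatFunc k) K RatFunc.X = x := by
    rw [← RatFunc.algebraMap_X, hφ, aeval_X]
  have heq' : y ^ 2 = algebraMap (RatFunc k) K (algebraMap k[X] (RatFunc k) f) := by
    rw [hφ]; exact heq
  have htop : IntermediateField.adjoin (RatFunc k) ({y} : Set K) = ⊤ := by
    rw [eq_top_iff]
    intro z _
    have hz : z ∈ IntermediateField.adjoin k ({x, y} : Set K) := by rw [hxy]; trivial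
    have hle : IntermediateField.adjoin k ({x, y} : Set K) ≤
        (IntermediateField.adjoin (RatFunc k) ({y} : Set K)).restrictScalars k := by
      rw [IntermediateField.adjoin_le_iff]
      rintro w (rfl | rfl)
      · show w ∈ IntermediateField.adjoin (RatFunc k) ({y} : Set K)
        rw [← hX]
        exact (IntermediateField.adjoin (RatFunc k) ({y} : Set K)).algebraMap_mem _
      · exact IntermediateField.mem_adjoin_simple_self _ _
    exact hle hz
  refine ⟨⟨x, hx, ?_⟩, hyper_algClosed h2 hf hd heq' htop⟩
  have hdeg := hyper_finrank hf hd heq' htop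
  haveI : FiniteDimensional (RatFunc k) K :=
    Module.finite_of_finrank_pos (by rw [hdeg]; norm_num)
  have hfinX : FiniteDimensional (IntermediateField.adjoin k ({RatFunc.X} : Set (RatFunc k)))
      (RatFunc k) := by
    rw [RatFunc.adjoin_X]
    exact Module.Finite.of_surjective
      (Algebra.linearMap (⊤ : IntermediateField k (RatFunc k)) (RatFunc k))
      (fun z => ⟨⟨z, IntermediateField.mem_top⟩, rfl⟩)
  have := finiteDimensional_adjoin_map (K' := K) hfinX
  rwa [hX] at this

end Groth.Agent.S11019
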