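import Groth.Statements.S11022
import Groth.Agent.Lib.Helper24.FFExt.Galois2

set_option autoImplicit false
open FunFld

namespace Groth.Agent.S11022

/-- In a finite Galois extension of a geometric function field of one variable, `|G : G₀|` is the number
of places above `P`, and all places above `P` share the same `e` and `f`. -/
theorem result (k K K' : Type*) [Field k] [Field K] [Field K'] [Algebra k K] [Algebra K K'] [Algebra k K']
    [IsScalarTower k K K'] [FiniteDimensional K K'] (hK : FunFld.IsFunctionField k K) (hg : FunFld.IsGeometric k K) [IsGalois K K'] (Q : FunFld.Place k K') (P : FunFld.Place k K) (e : ℕ) (he : FunFld.IsOverWith Q P e) :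
    Nat.card {Q' : FunFld.Place k K' // FunFld.IsOver Q' P} *
        Nat.card ((Q.O).decompositionSubgroup K) = Module.finrank K K' ∧
    ∀ Q' : FunFld.Place k K', FunFld.IsOver Q' P → FunFld.IsOverWith Q' P e ∧ Q'.deg = Q.deg :=
  ⟨Groth.Agent.Lib.Helper24.FFExt.card_isOver_mul_card_decomposition
      (Groth.Agent.Lib.Helper24.FFExt.isOverWith_isOver he),
    fun _ hQ' => Groth.Agent.Lib.Helper24.FFExt.isOverWith_and_deg_eq he hQ'⟩

end Groth.Agent.S11022
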