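import Groth.Statements.S11025
import Groth.Agent.Lib.Helper24.FFExt.RamGroup2

set_option autoImplicit false
open FunFld WithZero Groth.Agent.Lib.Helper24.FFExt Groth.Agent.Lib.Helper18.FF

namespace Groth.Agent.S11025

/-- For `i ≥ 2` the ramification quotient `G_i/G_{i+1}` embeds in the additive group of the residue
field: it is abelian, trivial in characteristic `0`, and elementary abelian of exponent `p` in
characteristic `p`. (Residue field of `Q` assumed separable over `k`.) -/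
theorem result (k K K' : Type*) [Field k] [Field K] [Field K'] [Algebra k K] [Algebra K K'] [Algebra k K']
    [IsScalarTower k K K'] [FiniteDimensional K K'] (hK : FunFld.IsFunctionField k K) (hg : FunFld.IsGeometric k K) [IsGalois K K'] (Q : FunFld.Place k K') [Algebra.IsSeparable k (IsLocalRing.ResidueField Q.O)]
    (i : ℕ) (hi : 2 ≤ i) (σ τ : K' ≃ₐ[K] K') (hσ : (∀ x : K', Q.1 x ≤ 1 → Q.1 (σ x - x) ≤ WithZero.exp (-(i : ℤ)))) (hτ : (∀ x : K', Q.1 x ≤ 1 → Q.1 (τ x - x) ≤ WithZero.exp (-(i : ℤ)))) :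
    (∀ x : K', Q.1 x ≤ 1 → Q.1 ((σ * τ * σ⁻¹ * τ⁻¹) x - x) ≤ WithZero.exp (-((i + 1) : ℤ))) ∧
    (ringChar K = 0 → (∀ x : K', Q.1 x ≤ 1 → Q.1 (σ x - x) ≤ WithZero.exp (-((i + 1) : ℤ)))) ∧
    ∀ p : ℕ, p.Prime → ringChar K = p → (∀ x : K', Q.1 x ≤ 1 → Q.1 ((σ ^ p) x - x) ≤ WithZero.exp (-((i + 1) : ℤ))) := by
  have hi1 : (exp (-(i : ℤ)) : ℤᵐ⁰) ≤ exp (-1 : ℤ) := exp_neg_le_exp_neg_one (by omega)
  have hcast : (exp (-((i + 1 : ℕ) : ℤ)) : ℤᵐ⁰) = exp (-((i + 1) : ℤ)) := by push_cast; rfl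
  have hσm : σ ∈ ramGroup Q (exp (-(i : ℤ))) hi1 := hσ
  have hτm : τ ∈ ramGroup Q (exp (-(i : ℤ))) hi1 := hτ
  have hσ1 : ∀ x : K', Q.1 x ≤ 1 → Q.1 (σ x - x) ≤ exp (-(1 : ℤ)) :=
    fun x hx => (hσ x hx).trans hi1
  have hτ1 : ∀ x : K', Q.1 x ≤ 1 → Q.1 (τ x - x) ≤ exp (-(1 : ℤ)) :=
    fun x hx => (hτ x hx).trans hi1
  refine ⟨?_, ?_, ?_⟩
  · intro x hx
    rw [← hcast]
    -- c (τσ) = στ
    set ρ := τ * σ with hρ
    have hρm : ρ ∈ ramGroup Q (exp (-(i : ℤ))) hi1 := Subgroup.mul_mem _ hτm hσm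
    have hρinv : ρ⁻¹ ∈ ramGroup Q (exp (-(i : ℤ))) hi1 := Subgroup.inv_mem _ hρm
    have hρ1 : ∀ x : K', Q.1 x ≤ 1 → Q.1 (ρ⁻¹ x - x) ≤ exp (-(1 : ℤ)) :=
      fun x hx => (hρinv x hx).trans hi1
    set x' := ρ⁻¹ x with hx'
    have hx'1 : Q.1 x' ≤ 1 := by rw [hx', val_map_eq_of_sub_le hρ1]; exact hx
    have hxρ : x = ρ x' := by
      rw [hx', ← AlgEquiv.mul_apply, mul_inv_cancel, AlgEquiv.one_apply]
    have hc : (σ * τ * σ⁻¹ * τ⁻¹) x = (σ * τ) x' := by
      rw [hx', ← AlgEquiv.mul_apply]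
      congr 1
    have h1 := val_mul_sub_le hi hσ hτ hx'1
    have h2 := val_mul_sub_le hi hτ hσ hx'1
    have : (σ * τ * σ⁻¹ * τ⁻¹) x - x =
        ((σ * τ) x' - x' - ((σ x' - x') + (τ x' - x'))) -
          ((τ * σ) x' - x' - ((τ x' - x') + (σ x' - x'))) := by
      rw [hc]; conv_lhs => rw [hxρ]
      ring
    rw [this]
    exact (Valuation.map_sub _ _ _).trans (max_le h1 h2)
  · intro hchar x hx
    rw [← hcast]
    haveI : CharZero K := (CharP.ringChar_zero_iff_CharZero K).mp hchar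
    have hn := orderOf_pos σ
    have h1 := val_pow_sub_le hi hσ hx (orderOf σ)
    rw [pow_orderOf_eq_one, AlgEquiv.one_apply, sub_self, zero_sub, Valuation.map_neg,
      map_mul] at h1
    have hQn : Q.1 ((orderOf σ : ℕ) : K') = 1 := by
      have : ((orderOf σ : ℕ) : K') = algebraMap k K' ((orderOf σ : ℕ) : k) := by
        rw [map_natCast]
      rw [this]
      apply val_algebraMap
      intro h0
      have : ((orderOf σ : ℕ) : K) = 0 := by
        rw [← map_natCast (algebraMap k K), h0, map_zero]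
      exact hn.ne' (Nat.cast_eq_zero.mp this)
    rwa [hQn, one_mul] at h1
  · intro p hp hchar x hx
    rw [← hcast]
    haveI : CharP K p := by rw [← hchar]; exact ringChar.charP K
    haveI : CharP K' p := (Algebra.charP_iff K K' p).mp inferInstance
    have h1 := val_pow_sub_le hi hσ hx p
    rwa [CharP.cast_eq_zero, zero_mul, sub_zero] at h1

end Groth.Agent.S11025
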