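import Groth.Statements.S11035
import Groth.Agent.Lib.Helper18.Zeta.SchmidtInst
open Groth.Agent.Lib.Helper18.Zeta

set_option autoImplicit false
open FunFld

namespace Groth.Agent.S11035

/-- Over a finite constant field the degree map on the divisors of a function field of one variable is
onto the integers. -/
theorem result
    (k K : Type*) [Field k] [Finite k] [Field K] [Algebra k K]
    (hK : FunFld.IsFunctionField k K) :
    Function.Surjective (FunFld.Divisor.deg : FunFld.Divisor k K → ℤ) := by
  exact deg_surjective hK

end Groth.Agent.S11035
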