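import Groth.Statements.S11042
import Groth.Agent.Lib.Helper18.Zeta.WeilJ
open Groth.Agent.Lib.Helper18.Zeta Groth.Agent.Lib.Helper18.FF

set_option autoImplicit false
open FunFld

namespace Groth.Agent.S11042

/-- A function field of one variable of genus `g` over a finite field with `q` elements has `N` places
of degree one with `|N - q - 1| ≤ 2 g √q`. -/
theorem result
    (k K : Type*) [Field k] [Finite k] [Field K] [Algebra k K]
    (hK : FunFld.IsFunctionField k K) :
    |(Nat.card {P : FunFld.Place k K // P.deg = 1} : ℝ) - (Nat.card k : ℝ) - 1| ≤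
      2 * (FunFld.genus k K : ℝ) * Real.sqrt (Nat.card k : ℝ) := by
  classical
  obtain ⟨α, -, hα, hpair⟩ := exists_reciprocal_roots hK
  have hnorm := norm_eq_sqrt_of_weilBound hK (weilBound hK) α hα Fin.rev hpair
  have hfin : {P : Place k K | P.deg = 1}.Finite := finite_places_deg hK 1
  have hN : Nat.card {P : Place k K // P.deg = 1} = NN hK 1 := by
    rw [NN_eq_sum hK 1 one_pos hfin.toFinset (fun P => by
      rw [Set.Finite.mem_toFinset]
      exact ⟨fun h => by rw [Set.mem_setOf_eq] at h; rw [h], fun h => Nat.dvd_one.mp h⟩)]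
    have hone : ∀ P ∈ hfin.toFinset, P.deg = 1 := fun P hP => hfin.mem_toFinset.mp hP
    rw [Finset.sum_congr rfl hone]
    rw [Finset.sum_const, smul_eq_mul, mul_one]
    have h1 : Nat.card {P : Place k K // P.deg = 1} = Nat.card ({P : Place k K | P.deg = 1} : Set _) :=
      rfl
    rw [h1, Nat.card_coe_set_eq, Set.ncard_eq_toFinset_card _ hfin]
  have h1 := NN_eq_of_factorization hK α hα 1 one_pos
  rw [hN]
  have h2 : (((NN hK 1 : ℝ) - (Nat.card k : ℝ) - 1 : ℝ) : ℂ) = - ∑ i, α i := by
    push_cast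
    rw [h1]
    simp only [pow_one]
    ring
  have h3 : |(NN hK 1 : ℝ) - (Nat.card k : ℝ) - 1| = ‖∑ i, α i‖ := by
    rw [← norm_neg (∑ i, α i), ← h2, Complex.norm_real, Real.norm_eq_abs]
  rw [h3]
  calc ‖∑ i, α i‖ ≤ ∑ i, ‖α i‖ := norm_sum_le _ _
    _ = ∑ _i : Fin (2 * genus k K), Real.sqrt (Nat.card k : ℝ) :=
        Finset.sum_congr rfl (fun i _ => hnorm i)
    _ = 2 * (genus k K : ℝ) * Real.sqrt (Nat.card k : ℝ) := by
        rw [Finset.sum_const, Finset.card_univ, Fintype.card_fin, nsmul_eq_mul]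
        push_cast
        ring

end Groth.Agent.S11042
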