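import Groth.Statements.S11049
import Mathlib

set_option autoImplicit false
open CAlg

namespace Groth.Agent.S11049

theorem finrank_of_exact {k M N P : Type*} [Field k] [AddCommGroup M] [Module k M]
    [AddCommGroup N] [Module k N] [AddCommGroup P] [Module k P]
    [Module.Finite k N]
    (f : M →ₗ[k] N) (g : N →ₗ[k] P) (hf : Function.Injective f) (hg : Function.Surjective g)
    (hfg : Function.Exact f g) :
    Module.finrank k N = Module.finrank k M + Module.finrank k P := by
  have h := LinearMap.finrank_range_add_finrank_ker g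
  rw [LinearMap.range_eq_top.mpr hg, finrank_top, (LinearMap.exact_iff.mp hfg),
    LinearMap.finrank_range_of_inj hf] at h
  omega


/-- For `k`-algebras `S ⊆ R` with `R` an integral domain and a nonzero `x ∈ S`, if `R/S` and `R/Rx` are
finite-dimensional over `k` then `dim_k R/Rx = dim_k S/Sx`. (The published statement allows `x = 0`;
then `R` is a field finite over `k` and the two sides are `dim_k R` and `dim_k S`, which differ for
`S = k ⊊ R`; the published proof multiplies by `x` as an injection, so `x ≠ 0` is assumed here.) -/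
theorem result
    (k R : Type*) [Field k] [CommRing R]
    [IsDomain R] [Algebra k R] (S : Subalgebra k R) (x : S) (hx : (x : R) ≠ 0)
    [Module.Finite k (R ⧸ Subalgebra.toSubmodule S)]
    [Module.Finite k (R ⧸ Ideal.span {(x : R)})] :
    Module.finrank k (R ⧸ Ideal.span {(x : R)}) = Module.finrank k (S ⧸ Ideal.span {x}) := by
  classical
  set U : Submodule k R := Subalgebra.toSubmodule S with hU
  set xU : Submodule k R := U.map (LinearMap.mulLeft k (x : R)) with hxU
  set WR : Submodule k R := (Ideal.span {(x : R)}).restrictScalars k with hWR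
  set WS : Submodule k S := (Ideal.span {x}).restrictScalars k with hWS
  have hmemxU : ∀ r : R, r ∈ xU ↔ ∃ s ∈ S, (x : R) * s = r := by
    intro r
    rw [hxU, Submodule.mem_map]
    constructor
    · rintro ⟨s, hs, rfl⟩; exact ⟨s, hs, rfl⟩
    · rintro ⟨s, hs, rfl⟩; exact ⟨s, hs, rfl⟩
  have hmemWR : ∀ r : R, r ∈ WR ↔ ∃ a : R, (x : R) * a = r := by
    intro r
    rw [hWR, Submodule.restrictScalars_mem, Ideal.mem_span_singleton']
    constructor
    · rintro ⟨a, rfl⟩; exact ⟨a, mul_comm _ _⟩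
    · rintro ⟨a, rfl⟩; exact ⟨a, mul_comm _ _⟩
  have hmemWS : ∀ s : S, s ∈ WS ↔ ∃ a : S, x * a = s := by
    intro s
    rw [hWS, Submodule.restrictScalars_mem, Ideal.mem_span_singleton']
    constructor
    · rintro ⟨a, rfl⟩; exact ⟨a, mul_comm _ _⟩
    · rintro ⟨a, rfl⟩; exact ⟨a, mul_comm _ _⟩
  haveI : Module.Finite k (R ⧸ U) := ‹Module.Finite k (R ⧸ Subalgebra.toSubmodule S)›
  haveI : Module.Finite k (R ⧸ WR) :=
    Module.Finite.equiv (Submodule.Quotient.restrictScalarsEquiv k (Ideal.span {(x : R)})).symm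
  -- the maps
  let α : (R ⧸ U) →ₗ[k] (R ⧸ xU) := U.mapQ xU (LinearMap.mulLeft k (x : R))
    (Submodule.map_le_iff_le_comap.mp le_rfl)
  let β : (R ⧸ xU) →ₗ[k] (R ⧸ WR) := xU.liftQ WR.mkQ (by
    intro r hr
    obtain ⟨s, -, rfl⟩ := (hmemxU r).mp hr
    rw [Submodule.ker_mkQ]
    exact (hmemWR _).mpr ⟨s, rfl⟩)
  let γ : (S ⧸ WS) →ₗ[k] (R ⧸ xU) := WS.liftQ (xU.mkQ ∘ₗ S.val.toLinearMap) (by
    intro s hs
    obtain ⟨a, rfl⟩ := (hmemWS s).mp hs
    rw [LinearMap.mem_ker, LinearMap.comp_apply, Submodule.mkQ_apply, Submodule.Quotient.mk_eq_zero]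
    exact (hmemxU _).mpr ⟨a, a.2, rfl⟩)
  let δ : (R ⧸ xU) →ₗ[k] (R ⧸ U) := xU.liftQ U.mkQ (by
    intro r hr
    obtain ⟨s, hs, rfl⟩ := (hmemxU r).mp hr
    rw [Submodule.ker_mkQ]
    exact S.mul_mem x.2 hs)
  have hα : Function.Injective α := by
    rw [← LinearMap.ker_eq_bot, LinearMap.ker_eq_bot']
    intro v hv
    obtain ⟨r, rfl⟩ := Submodule.Quotient.mk_surjective _ v
    have : (Submodule.Quotient.mk ((x : R) * r) : R ⧸ xU) = 0 := hv
    rw [Submodule.Quotient.mk_eq_zero] at this
    obtain ⟨s, hs, hsr⟩ := (hmemxU _).mp this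
    rw [Submodule.Quotient.mk_eq_zero]
    rw [mul_left_cancel₀ hx hsr] at hs
    exact hs
  have hβ : Function.Surjective β := by
    intro v
    obtain ⟨r, rfl⟩ := Submodule.Quotient.mk_surjective _ v
    exact ⟨Submodule.Quotient.mk r, rfl⟩
  have hαβ : Function.Exact α β := by
    intro v
    obtain ⟨r, rfl⟩ := Submodule.Quotient.mk_surjective _ v
    constructor
    · intro h
      have : (Submodule.Quotient.mk r : R ⧸ WR) = 0 := h
      rw [Submodule.Quotient.mk_eq_zero] at this
      obtain ⟨a, rfl⟩ := (hmemWR _).mp this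
      exact ⟨Submodule.Quotient.mk a, rfl⟩
    · rintro ⟨w, hw⟩
      obtain ⟨a, rfl⟩ := Submodule.Quotient.mk_surjective _ w
      rw [← hw]
      show (Submodule.Quotient.mk ((x : R) * a) : R ⧸ WR) = 0
      rw [Submodule.Quotient.mk_eq_zero]
      exact (hmemWR _).mpr ⟨a, rfl⟩
  haveI : Module.Finite k (R ⧸ xU) := Module.Finite.of_exact hαβ hβ
  have hγ : Function.Injective γ := by
    rw [← LinearMap.ker_eq_bot, LinearMap.ker_eq_bot']
    intro v hv
    obtain ⟨s, rfl⟩ := Submodule.Quotient.mk_surjective _ v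
    have : (Submodule.Quotient.mk (s : R) : R ⧸ xU) = 0 := hv
    rw [Submodule.Quotient.mk_eq_zero] at this
    obtain ⟨a, ha, hsa⟩ := (hmemxU _).mp this
    rw [Submodule.Quotient.mk_eq_zero]
    exact (hmemWS _).mpr ⟨⟨a, ha⟩, Subtype.ext hsa⟩
  have hδ : Function.Surjective δ := by
    intro v
    obtain ⟨r, rfl⟩ := Submodule.Quotient.mk_surjective _ v
    exact ⟨Submodule.Quotient.mk r, rfl⟩
  have hγδ : Function.Exact γ δ := by
    intro v
    obtain ⟨r, rfl⟩ := Submodule.Quotient.mk_surjective _ v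
    constructor
    · intro h
      have : (Submodule.Quotient.mk r : R ⧸ U) = 0 := h
      rw [Submodule.Quotient.mk_eq_zero] at this
      exact ⟨Submodule.Quotient.mk ⟨r, this⟩, rfl⟩
    · rintro ⟨w, hw⟩
      obtain ⟨s, rfl⟩ := Submodule.Quotient.mk_surjective _ w
      rw [← hw]
      show (Submodule.Quotient.mk (s : R) : R ⧸ U) = 0
      rw [Submodule.Quotient.mk_eq_zero]
      exact s.2
  have e1 := finrank_of_exact α β hα hβ hαβ
  have e2 := finrank_of_exact γ δ hγ hδ hγδ
  have e3 : Module.finrank k (R ⧸ Ideal.span {(x : R)}) = Module.finrank k (R ⧸ WR) :=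
    (Submodule.Quotient.restrictScalarsEquiv k (Ideal.span {(x : R)})).symm.finrank_eq
  have e4 : Module.finrank k (S ⧸ Ideal.span {x}) = Module.finrank k (S ⧸ WS) :=
    (Submodule.Quotient.restrictScalarsEquiv k (Ideal.span {x})).symm.finrank_eq
  rw [e3, e4]
  omega

end Groth.Agent.S11049
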