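import Groth.Statements.S11053
import Groth.Agent.Lib.Helper18.Hasse.StrongGenus
open Groth.Agent.Lib.Helper18.Hasse

set_option autoImplicit false
open FunFld

namespace Groth.Agent.S11053

/-- Over an algebraically closed constant field, let `τ` be a `k`-embedding of the function field `K` of
genus `g` into itself, of degree `deg τ = [K : τ(K)]`. A place is a strong fixed point of `τ` when
`τ` maps its maximal ideal into the square of that ideal. For every integer `n > g` there are at
most `1 + deg τ + (n + deg τ / n) g + 2g²(g-1)/n` strong fixed points. -/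
theorem result
    (k K : Type*) [Field k] [IsAlgClosed k] [Field K] [Algebra k K]
    (hK : FunFld.IsFunctionField k K) (τ : K →ₐ[k] K) (n : ℕ)
    (hn : FunFld.genus k K < n) :
    {P : FunFld.Place k K | ∀ x : K, P.1 x < 1 → P.1 (τ x) ≤ WithZero.exp (-2)}.Finite ∧
    (Set.ncard {P : FunFld.Place k K | ∀ x : K, P.1 x < 1 → P.1 (τ x) ≤ WithZero.exp (-2)} : ℝ) ≤
      1 + Module.finrank τ.fieldRange K +
        (n + (Module.finrank τ.fieldRange K : ℝ) / n) * FunFld.genus k K +
        2 * (FunFld.genus k K : ℝ) ^ 2 * (FunFld.genus k K - 1) / n := by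
  obtain ⟨hfin, hb⟩ := strong_bound_genus hK τ n hn
  refine ⟨hfin, ?_⟩
  have hn0 : (0 : ℝ) < n := by exact_mod_cast (by omega : 0 < n)
  have hb' : (n : ℝ) * (Set.ncard {P : FunFld.Place k K | FunFld.IsStrongFixedPt τ P} : ℝ) ≤
      ((n : ℝ) + Module.finrank τ.fieldRange K) * ((n : ℝ) + FunFld.genus k K) +
        ((FunFld.genus k K : ℝ) - 1) *
          ((n : ℝ) * ((n : ℝ) - 1) + 2 * ((FunFld.genus k K : ℝ) * FunFld.genus k K)) := by
    exact_mod_cast hb
  have key : (Set.ncard {P : FunFld.Place k K | FunFld.IsStrongFixedPt τ P} : ℝ) ≤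
      (((n : ℝ) + Module.finrank τ.fieldRange K) * ((n : ℝ) + FunFld.genus k K) +
        ((FunFld.genus k K : ℝ) - 1) *
          ((n : ℝ) * ((n : ℝ) - 1) + 2 * ((FunFld.genus k K : ℝ) * FunFld.genus k K))) / n := by
    rw [le_div_iff₀ hn0]
    linarith
  refine key.trans (le_of_eq ?_)
  field_simp
  ring

end Groth.Agent.S11053
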