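import Groth.Statements.S11078
import Groth.Agent.Lib.Helper18.FF.ProjMap
open Groth.Agent.Lib.Helper18.FF

set_option autoImplicit false
open FunFld

namespace Groth.Agent.S11078

/-- Over an algebraically closed constant field, for a projective map `φ = (φ₀, …, φₙ)`, `n ≥ 1`, and a
point `a = φ(P)` with local ring `O_a`, the fibre `φ⁻¹(a)` consists of the places `Q` with `O_a ⊆
O_Q` and `m_Q ∩ O_a` equal to the maximal ideal of `O_a` (which is `m_P ∩ O_a`). Here `O_a` consists
of the quotients of polynomials over `k` in the ratios `φᵢ/φⱼ`, `φⱼ` of least order at `P`, with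
denominator a unit at `P`; and `Q` has the same image point as `P` when some entry has least order
at both places and the ratios are congruent to common constants modulo both maximal ideals. -/
theorem result
    (k K : Type*) [Field k] [IsAlgClosed k] [Field K] [Algebra k K]
    (hK : FunFld.IsFunctionField k K) {n : ℕ} (hn : 1 ≤ n) (φ : Fin (n + 1) → K)
    (hφ : LinearIndependent k φ) (P Q : FunFld.Place k K) :
    FunFld.SameImage φ P Q ↔
      ∀ z : K, FunFld.InLocRing φ P z → (Q.1 z ≤ 1 ∧ (Q.1 z < 1 ↔ P.1 z < 1)) := by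
  have hlt_iff : ∀ (R : FunFld.Place k K) (u : K) (c : k), R.1 (u - algebraMap k K c) < 1 →
      (R.1 u < 1 ↔ c = 0) := by
    intro R u c h
    constructor
    · intro hu
      by_contra hc
      have h1 := val_algebraMap R hc
      have h2 : algebraMap k K c = u - (u - algebraMap k K c) := by ring
      rw [h2] at h1
      have h3 : R.1 (u - (u - algebraMap k K c)) < 1 :=
        lt_of_le_of_lt (Valuation.map_sub _ _ _) (max_lt hu h)
      rw [h1] at h3
      exact lt_irrefl _ h3
    · rintro rfl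
      rwa [map_zero, sub_zero] at h
  constructor
  · rintro ⟨j, hj0, hjP, hjQ, hconst⟩ z hz
    obtain ⟨u, hu, w, hw, hwP, hzw⟩ := inLocRing_index φ P hz j hj0 hjP
    have hgen : ∀ x ∈ Set.range (fun i => φ i / φ j), ∃ c : k,
        P.1 (x - algebraMap k K c) < 1 ∧ Q.1 (x - algebraMap k K c) < 1 := by
      rintro _ ⟨i, rfl⟩
      exact hconst i
    obtain ⟨cu, hcuP, hcuQ⟩ := exists_common_const_of_mem_adjoin P Q _ hgen hu
    obtain ⟨cw, hcwP, hcwQ⟩ := exists_common_const_of_mem_adjoin P Q _ hgen hw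
    have hcw0 : cw ≠ 0 := by
      intro h
      have := (hlt_iff P w cw hcwP).mpr h
      rw [hwP] at this
      exact lt_irrefl _ this
    have hwQ : Q.1 w = 1 := by
      have hle : Q.1 w ≤ 1 := val_le_one_of_mem_adjoin φ Q j hj0 hjQ hw
      refine le_antisymm hle (not_lt.mp fun hlt => hcw0 ((hlt_iff Q w cw hcwQ).mp hlt))
    have hzQ : Q.1 z = Q.1 u := by rw [← hzw, map_mul, hwQ, mul_one]
    have hzP : P.1 z = P.1 u := by rw [← hzw, map_mul, hwP, mul_one]
    refine ⟨?_, ?_⟩
    · rw [hzQ]
      exact val_le_one_of_mem_adjoin φ Q j hj0 hjQ hu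
    · rw [hzQ, hzP, hlt_iff Q u cu hcuQ, hlt_iff P u cu hcuP]
  · intro h
    obtain ⟨j, hjP⟩ := Finite.exists_max (fun i => P.1 (φ i))
    have hj0 : φ j ≠ 0 := hφ.ne_zero j
    have hvP : P.1 (φ j) ≠ 0 := (Valuation.ne_zero_iff _).mpr hj0
    have hvQ : Q.1 (φ j) ≠ 0 := (Valuation.ne_zero_iff _).mpr hj0
    have hin : ∀ a ∈ Algebra.adjoin k (Set.range fun i => φ i / φ j), FunFld.InLocRing φ P a :=
      fun a ha => ⟨j, hj0, hjP, a, ha, 1, Subalgebra.one_mem _, map_one _, mul_one _⟩
    have hratio : ∀ i, φ i / φ j ∈ Algebra.adjoin k (Set.range fun i => φ i / φ j) := fun i =>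
      Algebra.subset_adjoin ⟨i, rfl⟩
    refine ⟨j, hj0, hjP, ?_, ?_⟩
    · intro i
      have h1 := (h _ (hin _ (hratio i))).1
      rw [map_div₀] at h1
      exact (div_le_one₀ (zero_lt_iff.mpr hvQ)).mp h1
    · intro i
      have hle : P.1 (φ i / φ j) ≤ 1 := by
        rw [map_div₀]
        exact (div_le_one₀ (zero_lt_iff.mpr hvP)).mpr (hjP i)
      obtain ⟨c, hc⟩ := exists_const_sub_lt_one hK (deg_eq_one_of_isAlgClosed hK P) hle
      refine ⟨c, hc, ?_⟩
      have hmem : φ i / φ j - algebraMap k K c ∈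
          Algebra.adjoin k (Set.range fun i => φ i / φ j) :=
        Subalgebra.sub_mem _ (hratio i) (Subalgebra.algebraMap_mem _ c)
      exact (h _ (hin _ hmem)).2.mpr hc

end Groth.Agent.S11078
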