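import Groth.Statements.S11055
import Groth.Agent.Lib.Helper18.FF.Codim
import Groth.Agent.S11078
open Groth.Agent.Lib.Helper18.FF

set_option autoImplicit false
open FunFld

namespace Groth.Agent.S11055

/-- Over an algebraically closed constant field, a projective map `φ = (φ₀, …, φₙ)`, `n ≥ 1`, with span
`W` and divisor `[φ]` is nonsingular at the place `P` if and only if `W ∩ L([φ] - P - Q)` has
codimension `2` in `W` for every place `Q`. Here a projective map is nonsingular at a place when its
local ring there (quotients of polynomials over `k` in the ratios `φᵢ/φⱼ`, `φⱼ` of least order at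
the place, with denominator a unit there) is the whole valuation ring. (The published statement is
for any projective map; the published proof uses the finiteness property of the local ring that is
established for birational maps, so `φ` is taken birational here: the ratios `φᵢ/φ₀` generate `K`
over `k`.) -/
theorem result
    (k K : Type*) [Field k] [IsAlgClosed k] [Field K] [Algebra k K]
    (hK : FunFld.IsFunctionField k K) {n : ℕ} (hn : 1 ≤ n)
    (φ : Fin (n + 1) → K) (hφ : LinearIndependent k φ)
    (hbir : IntermediateField.adjoin k (Set.range fun i => φ i / φ 0) = ⊤) (P : FunFld.Place k K) :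
    FunFld.IsNonsingularAt φ P ↔ ∀ Q : FunFld.Place k K,
      Module.finrank k ↥(Submodule.span k (Set.range φ) ⊓
          FunFld.L (FunFld.mapDiv k φ - Finsupp.single P 1 - Finsupp.single Q 1)) + 2 =
        Module.finrank k ↥(Submodule.span k (Set.range φ)) := by
  classical
  have hφ0 : ∀ i, φ i ≠ 0 := fun i => hφ.ne_zero i
  obtain ⟨j, hjmax⟩ := Finite.exists_max (fun i => P.1 (φ i))
  have hj0 := hφ0 j
  obtain ⟨D, hD⟩ : ∃ D : FunFld.Divisor k K, D = FunFld.mapDiv k φ := ⟨_, rfl⟩
  have hvj : P.1 (φ j) = WithZero.exp (D P) := by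
    rw [hD]
    exact val_eq_exp_mapDiv_of_max hK φ hφ0 P j hjmax
  have hvj0 : P.1 (φ j) ≠ 0 := (Valuation.ne_zero_iff _).mpr hj0
  have hWL : ∀ w ∈ Submodule.span k (Set.range φ), w ∈ FunFld.L D := by
    intro w hw
    rw [hD]
    exact (Submodule.span_le.mpr (by
      rintro _ ⟨i, rfl⟩
      exact mem_L_mapDiv hK φ i)) hw
  have hnorm : ∀ i, P.1 (φ i / φ j) ≤ 1 := fun i => by
    rw [map_div₀]
    exact (div_le_one₀ (zero_lt_iff.mpr hvj0)).mpr (hjmax i)
  simp only [codim_two_iff hK φ hφ0 P]
  rw [← hD]
  constructor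
  · intro hns Q
    by_cases hQP : Q = P
    · rw [hQP]
      obtain ⟨t, ht⟩ := exists_uniformizer P
      have htloc : FunFld.InLocRing φ P t := hns t (by
        rw [ht, ← WithZero.exp_zero, WithZero.exp_le_exp]
        norm_num)
      have heff : (1 : K) ∈ Submodule.span k (Set.range fun i => φ i / φ j) :=
        Submodule.subset_span ⟨j, div_self hj0⟩
      obtain ⟨t', ht'span, ht'P⟩ :=
        (exists_uniformizer_inLocRing_iff hK (fun i => φ i / φ j) P heff hnorm).mp
          ⟨t, (inLocRing_div_iff φ j hj0 P t).mpr htloc, ht⟩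
      have hwW := mul_mem_span_of_mem_span_div φ j hj0 ht'span
      have hwP : P.1 (φ j * t') = WithZero.exp (D P - 1) := by
        rw [map_mul, hvj, ht'P, ← WithZero.exp_add]
        rfl
      have hw1 : φ j * t' ∈ FunFld.L (D - Finsupp.single P 1) :=
        mem_L_sub_single_of_val_le (hWL _ hwW) hwP.le
      refine ⟨φ j * t', hwW, hw1, fun h => ?_⟩
      have h2 := h P
      rw [hwP, WithZero.exp_le_exp, Finsupp.sub_apply, Finsupp.sub_apply,
        Finsupp.single_eq_same] at h2
      omega
    · by_contra hcon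
      push Not at hcon
      -- `j` has least order at `Q` too
      have hjQ : Q.1 (φ j) = WithZero.exp (D Q) := by
        by_contra hne
        have hlt : Q.1 (φ j) < WithZero.exp (D Q) := lt_of_le_of_ne (hWL _
          (Submodule.subset_span ⟨j, rfl⟩) Q) hne
        have hle : Q.1 (φ j) ≤ WithZero.exp (D Q - 1) := by
          obtain ⟨m, hm⟩ : ∃ m : ℤ, Q.1 (φ j) = WithZero.exp m :=
            ⟨WithZero.log _, (WithZero.exp_log ((Valuation.ne_zero_iff _).mpr hj0)).symm⟩
          rw [hm, WithZero.exp_lt_exp] at hlt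
          rw [hm, WithZero.exp_le_exp]
          omega
        have h1 := mem_L_sub_single_of_val_le (hWL _ (Submodule.subset_span ⟨j, rfl⟩)) hle
        have h2 := hcon _ (Submodule.subset_span ⟨j, rfl⟩) h1 P
        rw [hvj, WithZero.exp_le_exp, Finsupp.sub_apply, Finsupp.sub_apply,
          Finsupp.single_eq_same, Finsupp.single_eq_of_ne (Ne.symm hQP)] at h2
        omega
      have hjmaxQ : ∀ i, Q.1 (φ i) ≤ Q.1 (φ j) := fun i => by
        rw [hjQ]
        exact hWL _ (Submodule.subset_span ⟨i, rfl⟩) Q
      have hvjQ0 : Q.1 (φ j) ≠ 0 := (Valuation.ne_zero_iff _).mpr hj0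
      have hsame : FunFld.SameImage φ P Q := by
        refine ⟨j, hj0, hjmax, hjmaxQ, fun i => ?_⟩
        have hle : Q.1 (φ i / φ j) ≤ 1 := by
          rw [map_div₀]
          exact (div_le_one₀ (zero_lt_iff.mpr hvjQ0)).mpr (hjmaxQ i)
        obtain ⟨c, hc⟩ := exists_const_sub_lt_one hK (deg_eq_one_of_isAlgClosed hK Q) hle
        refine ⟨c, ?_, hc⟩
        have hwW : φ i - c • φ j ∈ Submodule.span k (Set.range φ) :=
          Submodule.sub_mem _ (Submodule.subset_span ⟨i, rfl⟩)
            (Submodule.smul_mem _ c (Submodule.subset_span ⟨j, rfl⟩))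
        have hfac : φ i - c • φ j = φ j * (φ i / φ j - algebraMap k K c) := by
          rw [Algebra.smul_def]
          field_simp
        have hwQ : Q.1 (φ i - c • φ j) ≤ WithZero.exp (D Q - 1) := by
          rw [hfac, map_mul, hjQ]
          have := (zm0_lt_one_iff _).mp hc
          calc WithZero.exp (D Q) * Q.1 (φ i / φ j - algebraMap k K c)
              ≤ WithZero.exp (D Q) * WithZero.exp (-1 : ℤ) := mul_le_mul' le_rfl this
            _ = WithZero.exp (D Q - 1) := by rw [← WithZero.exp_add]; rfl
        have h1 := mem_L_sub_single_of_val_le (hWL _ hwW) hwQ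
        have h2 := hcon _ hwW h1 P
        rw [Finsupp.sub_apply, Finsupp.sub_apply, Finsupp.single_eq_same,
          Finsupp.single_eq_of_ne (Ne.symm hQP), sub_zero, hfac, map_mul, hvj] at h2
        have h3 : P.1 (φ i / φ j - algebraMap k K c) ≤ WithZero.exp (-1 : ℤ) := by
          have h4 : WithZero.exp (D P - 1) = WithZero.exp (D P) * WithZero.exp (-1 : ℤ) := by
            rw [← WithZero.exp_add]; rfl
          rw [h4] at h2
          exact le_of_mul_le_mul_left h2 (zero_lt_iff.mpr WithZero.exp_ne_zero)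
        exact (zm0_lt_one_iff _).mpr h3
      obtain ⟨y, hyP, hyQ⟩ := exists_val_lt_one_gt_one (Ne.symm hQP : P ≠ Q)
      have := ((Groth.Agent.S11078.result k K hK hn φ hφ P Q).mp hsame y (hns y hyP.le)).1
      exact absurd hyQ (not_lt.mpr this)
  · intro h z hz
    have hres := inLocRing_of_chart hK φ hφ P j hjmax ?_ ?_ hz
    · obtain ⟨u, hu, w, hw, hwP, hzw⟩ := hres
      exact ⟨j, hj0, hjmax, u, hu, w, hw, hwP, hzw⟩
    · obtain ⟨w, hwW, hw1, hwn⟩ := h P
      have hwP := val_eq_exp_of_mem_of_not_mem hK hw1 hwn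
      refine ⟨w / φ j, div_mem_adjoin_of_mem_span φ j hwW, ?_⟩
      rw [map_div₀, hwP, hvj, Finsupp.sub_apply, Finsupp.single_eq_same, ← WithZero.exp_sub]
      congr 1
      ring
    · intro Q hQ hreg
      have hvjQ0 : Q.1 (φ j) ≠ 0 := (Valuation.ne_zero_iff _).mpr hj0
      have hjmaxQ : ∀ i, Q.1 (φ i) ≤ Q.1 (φ j) := fun i => by
        have := hreg (φ i / φ j) (Algebra.subset_adjoin ⟨i, rfl⟩)
        rw [map_div₀] at this
        exact (div_le_one₀ (zero_lt_iff.mpr hvjQ0)).mp this
      have hjQ : Q.1 (φ j) = WithZero.exp (D Q) := by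
        rw [hD]
        exact val_eq_exp_mapDiv_of_max hK φ hφ0 Q j hjmaxQ
      obtain ⟨w, hwW, hw1, hwn⟩ := h Q
      have heq : D - Finsupp.single P 1 - Finsupp.single Q 1 =
          D - Finsupp.single Q 1 - Finsupp.single P 1 := by abel
      rw [heq] at hwn
      have hwP := val_eq_exp_of_mem_of_not_mem hK hw1 hwn
      refine ⟨w / φ j, div_mem_adjoin_of_mem_span φ j hwW, ?_, ?_⟩
      · rw [map_div₀, hwP, hvj, Finsupp.sub_apply, Finsupp.single_eq_of_ne (Ne.symm hQ),
          sub_zero, div_self WithZero.exp_ne_zero]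
      · have hwQ := hw1 Q
        rw [Finsupp.sub_apply, Finsupp.single_eq_same] at hwQ
        rw [map_div₀, hjQ]
        have h4 : WithZero.exp (D Q - 1) = WithZero.exp (D Q) * WithZero.exp (-1 : ℤ) := by
          rw [← WithZero.exp_add]; rfl
        rw [h4] at hwQ
        have h5 : Q.1 w / WithZero.exp (D Q) ≤ WithZero.exp (-1 : ℤ) := by
          rw [div_le_iff₀ (zero_lt_iff.mpr WithZero.exp_ne_zero), mul_comm]
          exact hwQ
        exact (zm0_lt_one_iff _).mpr h5

end Groth.Agent.S11055
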