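import Groth.Statements.S11056
import Groth.Agent.Lib.Helper18.FF.Embedding
open Groth.Agent.Lib.Helper18.FF

set_option autoImplicit false
open FunFld

namespace Groth.Agent.S11056

/-- Over an algebraically closed constant field, if `deg D ≥ 2g + 1` then the projective map given by a
basis of `L(D)` is an embedding, i.e. nonsingular at every place. Here a projective map is
nonsingular at a place when its local ring there (quotients of polynomials over `k` in the ratios
`φᵢ/φⱼ`, `φⱼ` of least order at the place, with denominator a unit there) is the whole valuation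
ring. -/
theorem result
    (k K : Type*) [Field k] [IsAlgClosed k] [Field K] [Algebra k K]
    (hK : FunFld.IsFunctionField k K) (D : FunFld.Divisor k K)
    (hD : 2 * (FunFld.genus k K : ℤ) + 1 ≤ D.deg) {n : ℕ} (φ : Fin (n + 1) → K)
    (hφ : LinearIndependent k φ) (hspan : Submodule.span k (Set.range φ) = FunFld.L D)
    (P : FunFld.Place k K) : FunFld.IsNonsingularAt φ P := by
  have hg : (0 : ℤ) ≤ FunFld.genus k K := Int.natCast_nonneg _
  have hdeg1 : ∀ Q : FunFld.Place k K,
      FunFld.Divisor.deg (Finsupp.single Q (1 : ℤ) : FunFld.Divisor k K) = 1 := fun Q => by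
    rw [deg_single, deg_eq_one_of_isAlgClosed hK Q]
    norm_num
  refine isNonsingularAt_of_ell hK P D ?_ ?_ 1 ?_ φ hφ hspan
  · intro Q
    have e1 := ell_eq_of_deg_ge hK D (by linarith)
    have e2 := ell_eq_of_deg_ge hK (D - Finsupp.single Q 1) (by rw [deg_sub, hdeg1]; linarith)
    rw [deg_sub, hdeg1] at e2
    have : (FunFld.ell (D - Finsupp.single Q 1) : ℤ) < FunFld.ell D := by
      rw [e1, e2]
      linarith
    exact_mod_cast this
  · intro Q
    have e1 := ell_eq_of_deg_ge hK (D - Finsupp.single Q 1) (by rw [deg_sub, hdeg1]; linarith)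
    have e2 := ell_eq_of_deg_ge hK (D - Finsupp.single Q 1 - Finsupp.single P 1)
      (by rw [deg_sub, deg_sub, hdeg1, hdeg1]; linarith)
    rw [deg_sub, hdeg1] at e1
    rw [deg_sub, deg_sub, hdeg1, hdeg1] at e2
    have : (FunFld.ell (D - Finsupp.single Q 1 - Finsupp.single P 1) : ℤ) <
        FunFld.ell (D - Finsupp.single Q 1) := by
      rw [e1, e2]
      linarith
    exact_mod_cast this
  · intro m hm
    have hDpos : (0 : ℤ) ≤ D.deg := by linarith
    have hmul : ∀ i : ℕ, 1 ≤ i → D.deg ≤ (i : ℤ) * D.deg := fun i hi =>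
      le_mul_of_one_le_left hDpos (by exact_mod_cast hi)
    have e : ∀ i : ℕ, 1 ≤ i →
        (FunFld.ell (i • D) : ℤ) = (i : ℤ) * D.deg + 1 - FunFld.genus k K := by
      intro i hi
      have := ell_eq_of_deg_ge hK (i • D) (by rw [deg_nsmul]; have := hmul i hi; linarith)
      rw [deg_nsmul] at this
      exact this
    have e1 := e (m + 2) (by omega)
    have e2 := e m hm
    have e3 := e (m + 1) (by omega)
    have : (FunFld.ell ((m + 2) • D) : ℤ) + FunFld.ell (m • D) ≤
        2 * (FunFld.ell ((m + 1) • D) : ℤ) := by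
      rw [e1, e2, e3]
      push_cast
      linarith
    exact_mod_cast this

end Groth.Agent.S11056
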