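import Groth.Statements.S11057
import Groth.Agent.Lib.Helper18.FF.Gonality
open Groth.Agent.Lib.Helper18.FF

set_option autoImplicit false
open FunFld

namespace Groth.Agent.S11057

/-- Over an algebraically closed constant field, if `K` has degree at least `3` over every subfield
`k(x)` generated by a nonconstant element, then the canonical map (given by a basis of `L(D)` for a
canonical divisor `D`) is an embedding, i.e. nonsingular at every place. Here a projective map is
nonsingular at a place when its local ring there (quotients of polynomials over `k` in the ratios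
`φᵢ/φⱼ`, `φⱼ` of least order at the place, with denominator a unit there) is the whole valuation
ring. -/
theorem result
    (k K : Type*) [Field k] [IsAlgClosed k] [Field K] [Algebra k K]
    (hK : FunFld.IsFunctionField k K)
    (h2 : ∀ x : K, Transcendental k x →
      2 < Module.finrank (IntermediateField.adjoin k ({x} : Set K)) K)
    (D : FunFld.Divisor k K) (hD : FunFld.IsCanonical k K D) {n : ℕ} (φ : Fin (n + 1) → K)
    (hφ : LinearIndependent k φ) (hspan : Submodule.span k (Set.range φ) = FunFld.L D)
    (P : FunFld.Place k K) : FunFld.IsNonsingularAt φ P := by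
  have hdeg1 : ∀ Q : FunFld.Place k K,
      FunFld.Divisor.deg (Finsupp.single Q (1 : ℤ) : FunFld.Divisor k K) = 1 := fun Q => by
    rw [deg_single, deg_eq_one_of_isAlgClosed hK Q]
    norm_num
  have hkey : ∀ F : FunFld.Divisor k K, F.deg ≤ 2 → FunFld.ell F ≤ 1 := by
    intro F hF
    by_contra hcon
    obtain ⟨f, hft, hf⟩ := exists_transcendental_finrank_le hK F (by omega)
    have := h2 f hft
    have h3 : (2 : ℤ) < (Module.finrank (IntermediateField.adjoin k ({f} : Set K)) K : ℤ) := by
      exact_mod_cast this
    linarith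
  have hCdeg := deg_canonical hK hD
  have hCell := ell_canonical hK hD
  have hrr := riemann_roch hK hD
  have hellQ : ∀ Q : FunFld.Place k K, FunFld.ell (Finsupp.single Q 1 : FunFld.Divisor k K) = 1 := by
    intro Q
    have h3 := hkey (Finsupp.single Q 1) (by rw [hdeg1]; norm_num)
    have h4 := ell_pos_of_nonneg hK (single_nonneg' (k := k) Q (by norm_num : (0 : ℤ) ≤ 1))
    omega
  have hellPQ : ∀ Q R : FunFld.Place k K,
      FunFld.ell (Finsupp.single Q 1 + Finsupp.single R 1 : FunFld.Divisor k K) ≤ 1 := by
    intro Q R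
    exact hkey _ (by rw [deg_add, hdeg1, hdeg1]; norm_num)
  have hg2 : (2 : ℤ) ≤ FunFld.genus k K := by
    have h3 := hrr (Finsupp.single P 1 + Finsupp.single P 1)
    rw [deg_add, hdeg1] at h3
    have h4 := hellPQ P P
    have h5 : (FunFld.ell (Finsupp.single P 1 + Finsupp.single P 1 : FunFld.Divisor k K) : ℤ) ≤ 1 := by
      exact_mod_cast h4
    have h6 : (0 : ℤ) ≤ FunFld.ell (D - (Finsupp.single P 1 + Finsupp.single P 1)) :=
      Int.natCast_nonneg _
    linarith
  have hCQ : ∀ Q : FunFld.Place k K,
      (FunFld.ell (D - Finsupp.single Q 1) : ℤ) = (FunFld.genus k K : ℤ) - 1 := by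
    intro Q
    have h3 := hrr (D - Finsupp.single Q 1)
    rw [sub_sub_cancel, hellQ Q, deg_sub, hdeg1, hCdeg] at h3
    push_cast at h3
    linarith
  refine isNonsingularAt_of_ell hK P D ?_ ?_ 2 ?_ φ hφ hspan
  · intro Q
    have h3 := hCQ Q
    have : (FunFld.ell (D - Finsupp.single Q 1) : ℤ) < FunFld.ell D := by
      rw [h3, hCell]
      linarith
    exact_mod_cast this
  · intro Q
    have h3 := hrr (D - Finsupp.single Q 1 - Finsupp.single P 1)
    have h4 : D - (D - Finsupp.single Q 1 - Finsupp.single P 1) =
        (Finsupp.single Q 1 + Finsupp.single P 1 : FunFld.Divisor k K) := by abel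
    rw [h4, deg_sub, deg_sub, hdeg1, hdeg1, hCdeg] at h3
    have h5 : (FunFld.ell (Finsupp.single Q 1 + Finsupp.single P 1 : FunFld.Divisor k K) : ℤ) ≤ 1 := by
      exact_mod_cast hellPQ Q P
    have : (FunFld.ell (D - Finsupp.single Q 1 - Finsupp.single P 1) : ℤ) <
        FunFld.ell (D - Finsupp.single Q 1) := by
      rw [hCQ Q, h3]
      linarith
    exact_mod_cast this
  · intro m hm
    have e : ∀ i : ℕ, 2 ≤ i → (FunFld.ell (i • D) : ℤ) =
        (i : ℤ) * (2 * (FunFld.genus k K : ℤ) - 2) + 1 - FunFld.genus k K := by
      intro i hi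
      have hi' : (2 : ℤ) ≤ (i : ℤ) := by exact_mod_cast hi
      have := ell_eq_of_deg_ge hK (i • D) (by
        rw [deg_nsmul, hCdeg]
        nlinarith)
      rw [deg_nsmul, hCdeg] at this
      exact this
    have e1 := e (m + 2) (by omega)
    have e2 := e m hm
    have e3 := e (m + 1) (by omega)
    have : (FunFld.ell ((m + 2) • D) : ℤ) + FunFld.ell (m • D) ≤
        2 * (FunFld.ell ((m + 1) • D) : ℤ) := by
      rw [e1, e2, e3]
      push_cast
      linarith
    exact_mod_cast this

end Groth.Agent.S11057
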