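import Groth.Statements.S11075
import Groth.Agent.Lib.Helper18.FF.ProjMap
open Groth.Agent.Lib.Helper18.FF

set_option autoImplicit false
open FunFld

namespace Groth.Agent.S11075

/-- Over an algebraically closed constant field, let `φ = (φ₀, …, φₙ)`, `n ≥ 1`, be a projective map
onto the curve `V`. (a) A homogeneous `g` not vanishing identically on `V` vanishes at the image
point of only finitely many places (so a closed set not containing `V` meets `V` in a finite set);
(b) each fibre of `φ` is finite. Here `g` vanishes at `φ(P)` when `g(φ₀/φⱼ, …, φₙ/φⱼ)` lies in the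
maximal ideal of `P` for an entry `φⱼ` of least order at `P`. Two places have the same image point
when some entry `φⱼ` has least order at both and each `φᵢ/φⱼ` is congruent to one constant modulo
both maximal ideals. -/
theorem result (k K : Type*) [Field k] [IsAlgClosed k] [Field K] [Algebra k K]
    (hK : FunFld.IsFunctionField k K) {n : ℕ} (hn : 1 ≤ n)
    (φ : Fin (n + 1) → K) (hφ : LinearIndependent k φ) :
    (∀ g : MvPolynomial (Fin (n + 1)) k, g.IsHomogeneous g.totalDegree →
      MvPolynomial.aeval φ g ≠ 0 →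
        {P : FunFld.Place k K | ∃ j, φ j ≠ 0 ∧ (∀ i, P.1 (φ i) ≤ P.1 (φ j)) ∧
          P.1 (MvPolynomial.aeval (fun i => φ i / φ j) g) < 1}.Finite) ∧
    ∀ P : FunFld.Place k K, {Q : FunFld.Place k K | FunFld.SameImage φ P Q}.Finite := by
  classical
  have hφ0 : ∀ i, φ i ≠ 0 := fun i => hφ.ne_zero i
  constructor
  · intro g hg hG
    have hfin : ({P : FunFld.Place k K | P.1 (MvPolynomial.aeval φ g) ≠ 1} ∪
        ⋃ i, {P : FunFld.Place k K | P.1 (φ i) ≠ 1}).Finite :=
      (finite_val_ne_one hK hG).union (Set.finite_iUnion fun i => finite_val_ne_one hK (hφ0 i))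
    refine hfin.subset ?_
    rintro P ⟨j, hj0, -, hlt⟩
    by_contra hcon
    rw [Set.mem_union, not_or, Set.mem_iUnion, not_exists] at hcon
    obtain ⟨h1, h2⟩ := hcon
    have hG1 : P.1 (MvPolynomial.aeval φ g) = 1 := not_not.mp h1
    have hj1 : P.1 (φ j) = 1 := not_not.mp (h2 j)
    have heq : (fun i => φ i / φ j) = fun i => (φ j)⁻¹ * φ i := by
      funext i
      rw [div_eq_inv_mul]
    rw [heq, aeval_mul_of_isHomogeneous hg, map_mul, map_pow, map_inv₀, hj1, hG1] at hlt
    simp at hlt
  · intro P
    haveI : Nontrivial (Fin (n + 1)) := Fin.nontrivial_iff_two_le.mpr (by omega)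
    choose ι hι using fun j : Fin (n + 1) => exists_ne j
    have hsub : {Q : FunFld.Place k K | FunFld.SameImage φ P Q} ⊆
        ⋃ j, {Q : FunFld.Place k K | ∃ c : k, P.1 (φ (ι j) / φ j - algebraMap k K c) < 1 ∧
          Q.1 (φ (ι j) / φ j - algebraMap k K c) < 1} := by
      rintro Q ⟨j, -, -, -, hc⟩
      exact Set.mem_iUnion.mpr ⟨j, hc (ι j)⟩
    refine (Set.finite_iUnion fun j => ?_).subset hsub
    by_cases hex : ∃ c₀ : k, P.1 (φ (ι j) / φ j - algebraMap k K c₀) < 1
    · obtain ⟨c₀, hc₀⟩ := hex
      have hne : φ (ι j) / φ j - algebraMap k K c₀ ≠ 0 := by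
        intro h
        have h1 : φ (ι j) = c₀ • φ j := by
          rw [Algebra.smul_def, ← sub_eq_zero.mp h]
          field_simp [hφ0 j]
        have hnot := hφ.notMem_span_image (s := {j}) (x := ι j) (by
          rw [Set.mem_singleton_iff]
          exact hι j)
        apply hnot
        rw [h1]
        exact Submodule.smul_mem _ _ (Submodule.subset_span ⟨j, rfl, rfl⟩)
      refine (finite_val_ne_one hK hne).subset ?_
      rintro Q ⟨c, hcP, hcQ⟩
      have hcc : c = c₀ := by
        by_contra hne'
        have h1 := val_algebraMap P (sub_ne_zero.mpr hne')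
        have h2 : algebraMap k K (c - c₀) =
            (φ (ι j) / φ j - algebraMap k K c₀) - (φ (ι j) / φ j - algebraMap k K c) := by
          rw [map_sub]
          ring
        rw [h2] at h1
        have h3 := lt_of_le_of_lt (Valuation.map_sub P.1 _ _) (max_lt hc₀ hcP)
        rw [h1] at h3
        exact lt_irrefl _ h3
      rw [hcc] at hcQ
      exact ne_of_lt hcQ
    · have : {Q : FunFld.Place k K | ∃ c : k, P.1 (φ (ι j) / φ j - algebraMap k K c) < 1 ∧
          Q.1 (φ (ι j) / φ j - algebraMap k K c) < 1} = ∅ := by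
        ext Q
        simp only [Set.mem_setOf_eq, Set.mem_empty_iff_false, iff_false]
        rintro ⟨c, hcP, -⟩
        exact hex ⟨c, hcP⟩
      rw [this]
      exact Set.finite_empty

end Groth.Agent.S11075
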