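import Groth.Statements.S11058
import Groth.Agent.Lib.Helper18.FF.Semilocal
import Groth.Agent.S11075
import Groth.Agent.S11078
open Groth.Agent.Lib.Helper18.FF

set_option autoImplicit false
open FunFld

namespace Groth.Agent.S11058

/-- Over an algebraically closed constant field, a birational projective map `φ = (φ₀, …, φₙ)` (the
ratios `φᵢ/φ₀` generate `K` over `k`) is nonsingular at all but finitely many places. Here a
projective map is nonsingular at a place when its local ring there (quotients of polynomials over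
`k` in the ratios `φᵢ/φⱼ`, `φⱼ` of least order at the place, with denominator a unit there) is the
whole valuation ring. -/
theorem result
    (k K : Type*) [Field k] [IsAlgClosed k] [Field K] [Algebra k K]
    (hK : FunFld.IsFunctionField k K) {n : ℕ} (hn : 1 ≤ n) (φ : Fin (n + 1) → K)
    (hφ : LinearIndependent k φ)
    (hbir : IntermediateField.adjoin k (Set.range fun i => φ i / φ 0) = ⊤) :
    {P : FunFld.Place k K | ¬ FunFld.IsNonsingularAt φ P}.Finite := by
  classical
  have hφ0 : ∀ i, φ i ≠ 0 := fun i => hφ.ne_zero i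
  obtain ⟨f, hfA, hf0, hf⟩ := conductor_chart hK hn φ hφ hbir 0
  have hfin : ((⋃ i, {P : FunFld.Place k K | P.1 (φ i) ≠ 1}) ∪
      {P : FunFld.Place k K | P.1 f ≠ 1}).Finite :=
    (Set.finite_iUnion fun i => finite_val_ne_one hK (hφ0 i)).union (finite_val_ne_one hK hf0)
  refine hfin.subset ?_
  intro P hP
  by_contra hbad
  rw [Set.mem_union, not_or, Set.mem_iUnion, not_exists] at hbad
  obtain ⟨h1, h2⟩ := hbad
  have hφ1 : ∀ i, P.1 (φ i) = 1 := fun i => not_not.mp (h1 i)
  have hf1 : P.1 f = 1 := not_not.mp h2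
  have hjmax : ∀ i, P.1 (φ i) ≤ P.1 (φ 0) := fun i => by rw [hφ1 i, hφ1 0]
  apply hP
  have hinA : ∀ a ∈ Algebra.adjoin k (Set.range fun i => φ i / φ 0), FunFld.InLocRing φ P a :=
    fun a ha => ⟨0, hφ0 0, hjmax, a, ha, 1, Subalgebra.one_mem _, map_one _, mul_one _⟩
  -- the fibre over `φ(P)` is `{P}`
  have hfibre : ∀ Q : FunFld.Place k K, FunFld.SameImage φ P Q → Q = P := by
    intro Q hQ
    by_contra hne
    have hfibfin := (Groth.Agent.S11075.result k K hK hn φ hφ).2 P
    have hPS : P ∉ hfibfin.toFinset.erase P := Finset.notMem_erase _ _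
    obtain ⟨w, hwP, hwS⟩ := exists_approx_one P (hfibfin.toFinset.erase P) hPS
      (one_ne_zero : (1 : WithZero (Multiplicative ℤ)) ≠ 0)
    have hwP1 : P.1 w = 1 := by
      have : w = 1 + (w - 1) := by ring
      rw [this, Valuation.map_add_eq_of_lt_left, map_one]
      rw [map_one]
      exact hwP
    have hwQ : Q.1 w < 1 := hwS Q (Finset.mem_erase.mpr ⟨hne, hfibfin.mem_toFinset.mpr hQ⟩)
    obtain ⟨σ, hσA, hσP, hmem⟩ := hf P hjmax w (by
      intro Q' hQ'
      by_cases hQ'P : Q' = P
      · rw [hQ'P, hwP1]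
      · exact (hwS Q' (Finset.mem_erase.mpr ⟨hQ'P, hfibfin.mem_toFinset.mpr hQ'⟩)).le)
    have hchar := (Groth.Agent.S11078.result k K hK hn φ hφ P Q).mp hQ
    have hfσ : f * σ ∈ Algebra.adjoin k (Set.range fun i => φ i / φ 0) :=
      Subalgebra.mul_mem _ hfA hσA
    have h3 := hchar _ (hinA _ hfσ)
    have h4 := hchar _ (hinA _ hmem)
    have hfσP : P.1 (f * σ) = 1 := by rw [map_mul, hf1, hσP, one_mul]
    have hfσQ : Q.1 (f * σ) = 1 := by
      refine le_antisymm h3.1 (not_lt.mp fun hlt => ?_)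
      have := h3.2.mp hlt
      rw [hfσP] at this
      exact lt_irrefl _ this
    have h5 : Q.1 (f * σ * w) < 1 := by
      rw [map_mul, hfσQ, one_mul]
      exact hwQ
    have h6 := h4.2.mp h5
    rw [map_mul, hfσP, hwP1, one_mul] at h6
    exact lt_irrefl _ h6
  intro z hz
  obtain ⟨σ, hσA, hσP, hmem⟩ := hf P hjmax z (by
    intro Q hQ
    rw [hfibre Q hQ]
    exact hz)
  refine ⟨0, hφ0 0, hjmax, f * σ * z, hmem, f * σ, Subalgebra.mul_mem _ hfA hσA, ?_, ?_⟩
  · rw [map_mul, hf1, hσP, one_mul]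
  · ring

end Groth.Agent.S11058
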