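import Groth.Statements.S11060
import Groth.Agent.Lib.Helper18.FF.PlaneGenus

set_option autoImplicit false
open FunFld

namespace Groth.Agent.S11060

/-- Over an algebraically closed constant field, a function field of genus `g` with a nonsingular plane
model has `g` a triangular number. Here a projective map is nonsingular at a place when its local
ring there (quotients of polynomials over `k` in the ratios `φᵢ/φⱼ`, `φⱼ` of least order at the
place, with denominator a unit there) is the whole valuation ring. -/
theorem result
    (k K : Type*) [Field k] [IsAlgClosed k] [Field K] [Algebra k K]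
    (hK : FunFld.IsFunctionField k K)
    (h : ∃ x y : K, IntermediateField.adjoin k ({x, y} : Set K) = ⊤ ∧
      ∀ P : FunFld.Place k K, FunFld.IsNonsingularAt ![(1 : K), x, y] P) :
    ∃ m : ℕ, 2 * FunFld.genus k K = m * (m + 1) := by
  obtain ⟨x, y, hxy, hns⟩ := h
  have hiff := Groth.Agent.Lib.Helper18.FF.plane_genus_eq_iff hK x y hxy
  have h2 := hiff.mpr hns
  haveI : Infinite k := IsAlgClosed.instInfinite
  obtain ⟨c, u, N, hu, hpole, hut, hEN, hN1, -⟩ :=
    Groth.Agent.Lib.Helper18.FF.plane_setup hK x y hxy
  rw [hEN] at h2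
  rcases Nat.lt_or_ge N 2 with hN | hN
  · have hN' : N = 1 := by omega
    subst hN'
    refine ⟨0, ?_⟩
    have : (2 * (FunFld.genus k K : ℤ)) = 0 := by
      rw [h2]
      norm_num
    omega
  · refine ⟨N - 2, ?_⟩
    have h3 : ((N - 2 : ℕ) : ℤ) = (N : ℤ) - 2 := by
      rw [Nat.cast_sub hN]
      simp
    have : ((2 * FunFld.genus k K : ℕ) : ℤ) = (((N - 2) * (N - 2 + 1) : ℕ) : ℤ) := by
      push_cast
      rw [h3, h2]
      ring
    exact_mod_cast this

end Groth.Agent.S11060
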