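import Groth.Statements.S11064
-- import your own Groth.Agent.* helpers here

set_option autoImplicit false
open FunFld

namespace Groth.Agent.S11064

/-- Over an algebraically closed constant field, a projective map `φ = (φ₀, …, φₙ)` that is nonsingular
at some place is birational, i.e. the ratios `φᵢ/φ₀` generate `K` over `k`. Here the local ring of a
projective map at a place consists of the quotients of polynomials over `k` in the ratios `φᵢ/φⱼ`,
`φⱼ` of least order at the place, with denominator a unit there; the map is nonsingular at the place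
when this ring is the whole valuation ring. -/
theorem result
    (k K : Type*) [Field k] [IsAlgClosed k] [Field K] [Algebra k K]
    (hK : FunFld.IsFunctionField k K) {n : ℕ} (φ : Fin (n + 1) → K)
    (h0 : φ 0 ≠ 0) (P : FunFld.Place k K) (h : FunFld.IsNonsingularAt φ P) :
    IntermediateField.adjoin k (Set.range fun i => φ i / φ 0) = ⊤ := by
  set K₀ := IntermediateField.adjoin k (Set.range fun i => φ i / φ 0) with hK₀
  have hgen : ∀ i, φ i / φ 0 ∈ K₀ := fun i =>
    IntermediateField.subset_adjoin k _ ⟨i, rfl⟩
  have hloc : ∀ z : K, FunFld.InLocRing φ P z → z ∈ K₀ := by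
    rintro z ⟨j, hj, -, u, hu, w, hw, hw1, hzw⟩
    have hle : Algebra.adjoin k (Set.range fun i => φ i / φ j) ≤ K₀.toSubalgebra := by
      apply Algebra.adjoin_le
      rintro _ ⟨i, rfl⟩
      have : φ i / φ j = (φ i / φ 0) / (φ j / φ 0) := (div_div_div_cancel_right₀ h0 _ _).symm
      show φ i / φ j ∈ K₀
      rw [this]
      exact K₀.div_mem (hgen i) (hgen j)
    have hw0 : w ≠ 0 := by
      rintro rfl
      rw [map_zero] at hw1
      exact zero_ne_one hw1
    have hz : z = u / w := by
      rw [← hzw, mul_div_assoc, div_self hw0, mul_one]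
    rw [hz]
    exact K₀.div_mem (hle hu) (hle hw)
  rw [eq_top_iff]
  intro z _
  by_cases hz : P.1 z ≤ 1
  · exact hloc z (h z hz)
  · push Not at hz
    have hz0 : z ≠ 0 := by
      rintro rfl
      rw [map_zero] at hz
      exact not_lt.2 zero_le' hz
    have hinv : P.1 z⁻¹ ≤ 1 := by
      rw [map_inv₀]
      exact (inv_le_one₀ (lt_trans zero_lt_one hz)).2 hz.le
    have := hloc z⁻¹ (h z⁻¹ hinv)
    have h2 := K₀.inv_mem this
    rwa [inv_inv] at h2

end Groth.Agent.S11064
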