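import Groth.Statements.S11065
import Groth.Agent.Lib.Helper18.FF.Chart
open Groth.Agent.Lib.Helper18.FF

set_option autoImplicit false
open FunFld

namespace Groth.Agent.S11065

/-- Over an algebraically closed constant field, a projective map `φ = (φ₀, …, φₙ)`, `n ≥ 1`, is
nonsingular at the place `P` if and only if its local ring at `P` lies in the valuation ring of no
place other than `P` and contains a local parameter at `P`. Here the local ring of a projective map
at a place consists of the quotients of polynomials over `k` in the ratios `φᵢ/φⱼ`, `φⱼ` of least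
order at the place, with denominator a unit there; the map is nonsingular at the place when this
ring is the whole valuation ring. (The published statement is for any projective map; the published
proof uses the finiteness property of the local ring that is established for birational maps, so `φ`
is taken birational here: the ratios `φᵢ/φ₀` generate `K` over `k`.) -/
theorem result
    (k K : Type*) [Field k] [IsAlgClosed k] [Field K] [Algebra k K]
    (hK : FunFld.IsFunctionField k K) {n : ℕ} (hn : 1 ≤ n)
    (φ : Fin (n + 1) → K) (hφ : LinearIndependent k φ)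
    (hbir : IntermediateField.adjoin k (Set.range fun i => φ i / φ 0) = ⊤) (P : FunFld.Place k K) :
    FunFld.IsNonsingularAt φ P ↔
      (∀ Q : FunFld.Place k K, (∀ z : K, FunFld.InLocRing φ P z → Q.1 z ≤ 1) → Q = P) ∧
        ∃ t : K, FunFld.InLocRing φ P t ∧ P.1 t = WithZero.exp (-1) := by
  constructor
  · intro hns
    refine ⟨?_, ?_⟩
    · intro Q hQ
      by_contra hne
      obtain ⟨y, hyP, hyQ⟩ := exists_val_lt_one_gt_one (Ne.symm hne : P ≠ Q)
      have := hQ y (hns y hyP.le)
      exact absurd hyQ (not_lt.mpr this)
    · obtain ⟨t, ht⟩ := exists_uniformizer P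
      refine ⟨t, hns t ?_, ht⟩
      rw [ht, ← WithZero.exp_zero, WithZero.exp_le_exp]
      norm_num
  · rintro ⟨huniq, t, htloc, htP⟩ z hz
    obtain ⟨j, hjmax⟩ := Finite.exists_max (fun i => P.1 (φ i))
    have hj0 : φ j ≠ 0 := hφ.ne_zero j
    have hres := inLocRing_of_chart hK φ hφ P j hjmax ?_ ?_ hz
    · obtain ⟨u, hu, w, hw, hwP, hzw⟩ := hres
      exact ⟨j, hj0, hjmax, u, hu, w, hw, hwP, hzw⟩
    · obtain ⟨u, hu, w, hw, hwP, htw⟩ := inLocRing_index φ P htloc j hj0 hjmax
      refine ⟨u, hu, ?_⟩
      rw [← htw, map_mul, hwP, mul_one, htP]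
    · intro Q hQ hreg
      have hex : ∃ y, FunFld.InLocRing φ P y ∧ 1 < Q.1 y := by
        by_contra hcon
        push Not at hcon
        exact hQ (huniq Q hcon)
      obtain ⟨y, hyloc, hyQ⟩ := hex
      obtain ⟨u, hu, w, hw, hwP, hyw⟩ := inLocRing_index φ P hyloc j hj0 hjmax
      refine ⟨w, hw, hwP, ?_⟩
      have huQ := hreg u hu
      have hwQ := hreg w hw
      rw [← hyw, map_mul] at huQ
      by_contra hcon
      have hw1 : Q.1 w = 1 := le_antisymm hwQ (not_lt.mp hcon)
      rw [hw1, mul_one] at huQ
      exact absurd hyQ (not_lt.mpr huQ)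

end Groth.Agent.S11065
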