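import Groth.Statements.S11071
import Groth.Agent.Lib.Helper18.FF.ChartRes
open Groth.Agent.Lib.Helper18.FF

set_option autoImplicit false
open FunFld

namespace Groth.Agent.S11071

/-- Over an algebraically closed constant field, let `φ = (φ₀, …, φₙ)`, `n ≥ 1`, be a birational
projective map, `f₁, …, f_r` homogeneous generators of its ideal of homogeneous relations (the ideal
of the image curve), and `P` a place at which all `φᵢ/φ₀` are integral, with image point `a`. Then
`φ` is nonsingular at `P` if and only if the matrix `(∂fᵢ/∂Xⱼ(a))`, `1 ≤ j ≤ n`, has rank `n - 1`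
(entries read in the residue field of `P`). Here the local ring of `φ` at `P` consists of the
quotients of polynomials over `k` in the ratios `φᵢ/φ₀` with denominator a unit at `P`; `φ` is
nonsingular at `P` when this ring is the whole valuation ring. -/
theorem result (k K : Type*) [Field k] [IsAlgClosed k] [Field K] [Algebra k K]
    (hK : FunFld.IsFunctionField k K) {n : ℕ} (hn : 1 ≤ n)
    (φ : Fin (n + 1) → K) (hφ : LinearIndependent k φ)
    (hbir : IntermediateField.adjoin k (Set.range fun i => φ i / φ 0) = ⊤)
    (P : FunFld.Place k K) (hP : ∀ i, P.1 (φ i) ≤ P.1 (φ 0)) {r : ℕ}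
    (f : Fin r → MvPolynomial (Fin (n + 1)) k)
    (hhom : ∀ i, (f i).IsHomogeneous (f i).totalDegree)
    (hgen : Ideal.span (Set.range f) =
      RingHom.ker (MvPolynomial.aeval fun i => Polynomial.C (φ i) * Polynomial.X))
    (M : Matrix (Fin r) (Fin n) P.O)
    (hM : ∀ i j, ((M i j : P.O) : K) =
      MvPolynomial.aeval (fun l => φ l / φ 0) (MvPolynomial.pderiv j.succ (f i))) :
    FunFld.IsNonsingularAt φ P ↔ (M.map (IsLocalRing.residue P.O)).rank = n - 1 := by
  classical
  have hφ0 : φ 0 ≠ 0 := hφ.ne_zero 0
  obtain ⟨α, hα⟩ := exists_isChart (φ := φ) (j := 0) hK hφ0 hP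
  rw [isNonsingularAt_iff_inO hφ0 hP hα]
  let F : Option (Fin r) → MvPolynomial (Fin (n + 1)) k :=
    fun o => o.elim (MvPolynomial.X 0 - 1) f
  have hfmem : ∀ i, f i ∈ RingHom.ker (MvPolynomial.aeval (R := k)
      fun i => Polynomial.C (φ i) * (Polynomial.X : Polynomial K)) := by
    intro i
    rw [← hgen]
    exact Ideal.subset_span ⟨i, rfl⟩
  have hF : ∀ o, MvPolynomial.aeval (fun i => φ i / φ 0) (F o) = 0 := by
    intro o
    cases o with
    | none =>
      show MvPolynomial.aeval (fun i => φ i / φ 0) (MvPolynomial.X 0 - 1) = 0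
      rw [map_sub, MvPolynomial.aeval_X, map_one, div_self hφ0, sub_self]
    | some i =>
      exact aeval_chart_eq_zero φ 0 (hhom i) (aeval_eq_zero_of_mem_ker_CX φ (hhom i) (hfmem i))
  have hker : ∀ G : MvPolynomial (Fin (n + 1)) k,
      MvPolynomial.aeval (fun i => φ i / φ 0) G = 0 → G ∈ Ideal.span (Set.range F) := by
    intro G hG
    have h1 := mem_sup_of_aeval_chart_eq_zero φ 0 hφ0 hG
    rw [← hgen] at h1
    have hle : Ideal.span (Set.range f) ⊔
        Ideal.span {(MvPolynomial.X 0 - 1 : MvPolynomial (Fin (n + 1)) k)} ≤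
        Ideal.span (Set.range F) := by
      refine sup_le (Ideal.span_mono ?_) (Ideal.span_mono ?_)
      · rintro _ ⟨i, rfl⟩
        exact ⟨some i, rfl⟩
      · rintro _ rfl
        exact ⟨none, rfl⟩
    exact hle h1
  rw [hα.inO_iff_finrank hK hbir F hF hker]
  have hgradF : (fun o => grad α (F o)) =
      fun o : Option (Fin r) => o.elim (Pi.single 0 1 : Fin (n + 1) → k)
        (fun i => grad α (f i)) := by
    funext o
    cases o with
    | none =>
      show grad α (MvPolynomial.X 0 - 1) = Pi.single 0 1
      funext j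
      simp only [grad, map_sub, MvPolynomial.pderiv_X, MvPolynomial.pderiv_one, sub_zero,
        Pi.single_apply]
      by_cases hj : j = 0
      · subst hj; simp
      · have hj' : ¬ (0 : Fin (n + 1)) = j := fun e => hj e.symm
        simp [hj, hj']
    | some i => rfl
  rw [hgradF, finrank_span_option_elim, Fintype.card_fin]
  -- the matrix
  let J : Matrix (Fin r) (Fin n) k := fun i j => grad α (f i) j.succ
  have hMJ : M.map (IsLocalRing.residue P.O) =
      J.map (algebraMap k (IsLocalRing.ResidueField P.O)) := by
    ext i j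
    simp only [Matrix.map_apply]
    apply residue_eq_algebraMap_of_val_sub_lt
    rw [hM i j]
    exact hα.val_aeval_sub_lt _
  rw [hMJ, rank_map_algebraMap_of_bijective (algebraMap_residueField_bijective hK P),
    Matrix.rank_eq_finrank_span_row]
  have hrow : J.row = fun i : Fin r => fun j : Fin n => grad α (f i) j.succ := rfl
  rw [hrow]
  omega

end Groth.Agent.S11071
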