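import Groth.Statements.S11072
import Groth.Agent.Lib.Helper18.FF.ChartPlane
open Groth.Agent.Lib.Helper18.FF

set_option autoImplicit false
open FunFld

namespace Groth.Agent.S11072

/-- Over an algebraically closed constant field, a plane curve with defining irreducible homogeneous
polynomial `f` and birational natural map `φ = (φ₀ : φ₁ : φ₂)` is singular at the point `a = φ(P)`
(coordinates `(φᵢ/φⱼ)(P)` for an entry `φⱼ` of least order at `P`, read in the residue field) if and
only if `∂f/∂Xᵢ(a) = 0` for `i = 0, 1, 2`. Here `φ` is nonsingular at `P` when its local ring there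
(quotients of polynomials over `k` in the `φᵢ/φⱼ` with denominator a unit at `P`) is the whole
valuation ring. -/
theorem result (k K : Type*) [Field k] [IsAlgClosed k] [Field K] [Algebra k K]
    (hK : FunFld.IsFunctionField k K) (φ : Fin 3 → K)
    (hφ : LinearIndependent k φ)
    (hbir : IntermediateField.adjoin k (Set.range fun i => φ i / φ 0) = ⊤)
    (f : MvPolynomial (Fin 3) k) (hf : Irreducible f) (hhom : f.IsHomogeneous f.totalDegree)
    (hfφ : MvPolynomial.aeval φ f = 0) (P : FunFld.Place k K) (j : Fin 3)
    (hj : ∀ i, P.1 (φ i) ≤ P.1 (φ j)) (a : Fin 3 → P.O) (ha : ∀ i, ((a i : P.O) : K) = φ i / φ j) :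
    ¬ FunFld.IsNonsingularAt φ P ↔
      ∀ l : Fin 3, MvPolynomial.aeval (fun i => IsLocalRing.residue P.O (a i))
        (MvPolynomial.pderiv l f) = 0 := by
  classical
  have hφj : φ j ≠ 0 := hφ.ne_zero j
  obtain ⟨α, hα⟩ := exists_isChart (φ := φ) (j := j) hK hφj hj
  rw [plane_isNonsingularAt_iff_grad hK φ hφ hbir f hf hhom hfφ P j hj α hα, not_not]
  have hres : ∀ l, IsLocalRing.residue P.O (a l) =
      algebraMap k (IsLocalRing.ResidueField P.O) (α l) := by
    intro l
    apply residue_eq_algebraMap_of_val_sub_lt
    rw [ha l]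
    exact hα l
  have hval : ∀ p : MvPolynomial (Fin 3) k,
      MvPolynomial.aeval (fun i => IsLocalRing.residue P.O (a i)) p =
        algebraMap k (IsLocalRing.ResidueField P.O) (MvPolynomial.eval α p) := by
    intro p
    have h3 : (fun l => IsLocalRing.residue P.O (a l)) =
        (algebraMap k (IsLocalRing.ResidueField P.O)) ∘ α := by
      funext l; exact hres l
    rw [h3, MvPolynomial.aeval_def]
    have h4 : MvPolynomial.eval α p = MvPolynomial.eval₂ (RingHom.id k) α p := rfl
    rw [h4, MvPolynomial.eval₂_comp_left]
    rfl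
  constructor
  · intro h l
    rw [hval]
    have := congrFun h l
    show algebraMap k (IsLocalRing.ResidueField P.O) (grad α f l) = 0
    rw [this]
    exact map_zero _
  · intro h
    funext l
    have h1 := h l
    rw [hval] at h1
    exact (map_eq_zero _).mp h1

end Groth.Agent.S11072
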