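import Groth.Statements.S11073
import Groth.Agent.Lib.Helper18.FF.HomKer3
import Groth.Agent.Lib.Helper18.FF.GaussKer2
import Groth.Agent.Lib.Helper18.FF.FiniteExt
open Groth.Agent.Lib.Helper18.FF

set_option autoImplicit false
open FunFld

namespace Groth.Agent.S11073

/-- Over an algebraically closed constant field, the ideal of a projective plane curve — here the curve
with function field `K = k(x, y)`, whose ideal is the kernel of `X₀ ↦ T, X₁ ↦ xT, X₂ ↦ yT` into
`K[T]` — is principal, with an irreducible homogeneous generator. -/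
theorem result
    (k K : Type*) [Field k] [IsAlgClosed k] [Field K] [Algebra k K]
    (hK : FunFld.IsFunctionField k K) (x y : K)
    (hxy : IntermediateField.adjoin k ({x, y} : Set K) = ⊤) :
    ∃ f : MvPolynomial (Fin 3) k, Irreducible f ∧ f.IsHomogeneous f.totalDegree ∧
      RingHom.ker (MvPolynomial.aeval fun i => Polynomial.C (![(1 : K), x, y] i) * Polynomial.X) =
        Ideal.span {f} := by
  classical
  have hφ0 : (![(1 : K), x, y] : Fin 3 → K) 0 = 1 := rfl
  -- one of `x, y` is transcendental
  have htr : Transcendental k x ∨ Transcendental k y := by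
    by_contra hcon
    rw [not_or] at hcon
    have hx : IsAlgebraic k x := by by_contra h; exact hcon.1 h
    have hy : IsAlgebraic k y := by by_contra h; exact hcon.2 h
    obtain ⟨a, rfl⟩ := hK.2 x hx
    obtain ⟨b, rfl⟩ := hK.2 y hy
    obtain ⟨t, ht, -⟩ := hK.1
    have hmem : t ∈ IntermediateField.adjoin k ({algebraMap k K a, algebraMap k K b} : Set K) := by
      rw [hxy]; trivial
    have hbot : IntermediateField.adjoin k ({algebraMap k K a, algebraMap k K b} : Set K) = ⊥ := by
      rw [IntermediateField.adjoin_eq_bot_iff]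
      rintro z (rfl | rfl)
      · exact IntermediateField.algebraMap_mem _ _
      · exact IntermediateField.algebraMap_mem _ _
    rw [hbot, IntermediateField.mem_bot] at hmem
    obtain ⟨c', rfl⟩ := hmem
    exact ht (isAlgebraic_algebraMap c')
  -- a nonzero relation
  have hrel : ∀ (ρ : Fin 2 → Fin 3), Function.Injective ρ → (∀ i, ρ i ≠ 0) →
      ∀ g₂ : MvPolynomial (Fin 2) k, g₂ ≠ 0 →
      MvPolynomial.aeval ((![(1 : K), x, y] : Fin 3 → K) ∘ ρ) g₂ = 0 →
      ∃ H : MvPolynomial (Fin 3) k, H ≠ 0 ∧
        MvPolynomial.aeval (R := k) (fun i => Polynomial.C (![(1 : K), x, y] i) *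
          (Polynomial.X : Polynomial K)) H = 0 := by
    intro ρ hρ hρ0 g₂ hg₂ hg₂z
    refine ⟨homogenizeAt 0 (MvPolynomial.rename ρ g₂), ?_, ?_⟩
    · intro h0
      have h1 := aeval_homogenizeAt (0 : Fin 3) (MvPolynomial.rename ρ g₂)
        (Function.update (MvPolynomial.X : Fin 3 → MvPolynomial (Fin 3) k) 0 1)
        (Function.update_self _ _ _)
      rw [h0, map_zero, MvPolynomial.aeval_rename] at h1
      have h2 : (Function.update (MvPolynomial.X : Fin 3 → MvPolynomial (Fin 3) k) 0 1) ∘ ρ =
          fun i => MvPolynomial.X (ρ i) := by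
        funext i
        simp [Function.update_of_ne (hρ0 i)]
      rw [h2] at h1
      have h3 : MvPolynomial.aeval (fun i => (MvPolynomial.X (ρ i) : MvPolynomial (Fin 3) k)) g₂ =
          MvPolynomial.rename ρ g₂ := by
        rw [MvPolynomial.rename_eq_aeval]; rfl
      rw [h3] at h1
      exact hg₂ (MvPolynomial.rename_injective ρ hρ (by rw [← h1, map_zero]))
    · rw [aeval_CX_of_isHomogeneous (homogenizeAt_isHomogeneous 0 _),
        aeval_homogenizeAt 0 _ _ hφ0, MvPolynomial.aeval_rename, hg₂z, map_zero, zero_mul]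
  -- the kernel is a nonzero prime, and an irreducible element generates it
  have hmain : ∃ σ : Equiv.Perm (Fin 3), (![(1 : K), x, y] : Fin 3 → K) (σ 1) ≠ 0 ∧
      Transcendental k ((![(1 : K), x, y] : Fin 3 → K) (σ 2) /
        (![(1 : K), x, y] : Fin 3 → K) (σ 1)) ∧
      ∃ H : MvPolynomial (Fin 3) k, H ≠ 0 ∧
        MvPolynomial.aeval (R := k) (fun i => Polynomial.C (![(1 : K), x, y] i) *
          (Polynomial.X : Polynomial K)) H = 0 := by
    rcases htr with hx | hy
    · refine ⟨(finRotate 3).symm, ?_, ?_, ?_⟩
      · have : (finRotate 3).symm 1 = 0 := by decide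
        rw [this]; exact one_ne_zero
      · have h1 : (finRotate 3).symm 1 = 0 := by decide
        have h2 : (finRotate 3).symm 2 = 1 := by decide
        rw [h1, h2]
        simpa using hx
      · haveI := finiteDimensional_adjoin_of_transcendental hK hx
        have halg : IsAlgebraic (IntermediateField.adjoin k ({x} : Set K)) y :=
          Algebra.IsAlgebraic.isAlgebraic y
        obtain ⟨g₂, hg₂, hg₂z⟩ := (bivariate_algebraic hx y).mp halg
        refine hrel ![1, 2] ?_ ?_ g₂ hg₂ ?_
        · intro a b hab
          fin_cases a <;> fin_cases b <;> simp_all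
        · intro i; fin_cases i <;> simp
        · have : ((![(1 : K), x, y] : Fin 3 → K) ∘ ![1, 2]) = ![x, y] := by
            funext i; fin_cases i <;> rfl
          rw [this]; exact hg₂z
    · refine ⟨Equiv.swap 0 1, ?_, ?_, ?_⟩
      · have : (Equiv.swap (0 : Fin 3) 1) 1 = 0 := by decide
        rw [this]; exact one_ne_zero
      · have h1 : (Equiv.swap (0 : Fin 3) 1) 1 = 0 := by decide
        have h2 : (Equiv.swap (0 : Fin 3) 1) 2 = 2 := by decide
        rw [h1, h2]
        simpa using hy
      · haveI := finiteDimensional_adjoin_of_transcendental hK hy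
        have halg : IsAlgebraic (IntermediateField.adjoin k ({y} : Set K)) x :=
          Algebra.IsAlgebraic.isAlgebraic x
        obtain ⟨g₂, hg₂, hg₂z⟩ := (bivariate_algebraic hy x).mp halg
        refine hrel ![2, 1] ?_ ?_ g₂ hg₂ ?_
        · intro a b hab
          fin_cases a <;> fin_cases b <;> simp_all
        · intro i; fin_cases i <;> simp
        · have : ((![(1 : K), x, y] : Fin 3 → K) ∘ ![2, 1]) = ![y, x] := by
            funext i; fin_cases i <;> rfl
          rw [this]; exact hg₂z
  obtain ⟨σ, hσ1, hσw, H, hH0, hHz⟩ := hmain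
  have hprime : (RingHom.ker (MvPolynomial.aeval (R := k) fun i =>
      Polynomial.C (![(1 : K), x, y] i) * (Polynomial.X : Polynomial K))).IsPrime :=
    RingHom.ker_isPrime _
  have hne : RingHom.ker (MvPolynomial.aeval (R := k) fun i =>
      Polynomial.C (![(1 : K), x, y] i) * (Polynomial.X : Polynomial K)) ≠ ⊥ := by
    intro h
    have : H ∈ RingHom.ker (MvPolynomial.aeval (R := k) fun i =>
      Polynomial.C (![(1 : K), x, y] i) * (Polynomial.X : Polynomial K)) := hHz
    rw [h] at this
    exact hH0 this
  obtain ⟨f, hfmem, hfprime⟩ := hprime.exists_mem_prime_of_ne_bot hne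
  have hfirr : Irreducible f := hfprime.irreducible
  have hfz : MvPolynomial.aeval (R := k) (fun i =>
      Polynomial.C (![(1 : K), x, y] i) * (Polynomial.X : Polynomial K)) f = 0 := hfmem
  have hker : ∀ g : MvPolynomial (Fin 3) k, MvPolynomial.aeval (R := k) (fun i =>
      Polynomial.C (![(1 : K), x, y] i) * (Polynomial.X : Polynomial K)) g = 0 → f ∣ g :=
    fun g hg => dvd_of_mem_ker_CX_perm _ σ hσ1 hσw hfirr hfz hg
  refine ⟨f, hfirr, ?_, ?_⟩
  · exact isHomogeneous_of_generator hfirr.ne_zero
      (hker _ (homogeneousComponent_mem_ker_CX _ hfz _))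
  · apply le_antisymm
    · intro g hg
      rw [Ideal.mem_span_singleton]
      exact hker g hg
    · rw [Ideal.span_singleton_le_iff_mem]
      exact hfmem

end Groth.Agent.S11073
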