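import Groth.Statements.S11074
import Groth.Agent.Lib.Helper18.FF.Tangent
open Groth.Agent.Lib.Helper18.FF

set_option autoImplicit false
open FunFld

namespace Groth.Agent.S11074

/-- Over an algebraically closed constant field, at a nonsingular point `a = φ(P)` of a plane curve
`V(f)` with birational natural map `φ = (φ₀ : φ₁ : φ₂)`, the tangent line is `(∂f/∂X₀(a) : ∂f/∂X₁(a)
: ∂f/∂X₂(a))`: the corresponding linear form, pulled back along `φ` normalized at `P`, vanishes to
order at least `2` at `P` (the tangent line being the one line whose pullback vanishes to order `≥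
2`). Nonsingular at `P` means that the local ring of `φ` at `P` (quotients of polynomials over `k`
in the `φᵢ/φⱼ`, `φⱼ` of least order at `P`, denominator a unit at `P`) is the whole valuation ring. -/
theorem result
    (k K : Type*) [Field k] [IsAlgClosed k] [Field K] [Algebra k K]
    (hK : FunFld.IsFunctionField k K) (φ : Fin 3 → K) (hφ : LinearIndependent k φ)
    (hbir : IntermediateField.adjoin k (Set.range fun i => φ i / φ 0) = ⊤)
    (f : MvPolynomial (Fin 3) k) (hf : Irreducible f) (hhom : f.IsHomogeneous f.totalDegree)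
    (hfφ : MvPolynomial.aeval φ f = 0) (P : FunFld.Place k K) (j : Fin 3)
    (hj : ∀ i, P.1 (φ i) ≤ P.1 (φ j)) (hns : FunFld.IsNonsingularAt φ P) (a : Fin 3 → P.O)
    (ha : ∀ i, ((a i : P.O) : K) = φ i / φ j) (c : Fin 3 → k)
    (hc : ∀ i, algebraMap k (IsLocalRing.ResidueField P.O) (c i) =
      MvPolynomial.aeval (fun l => IsLocalRing.residue P.O (a l)) (MvPolynomial.pderiv i f)) :
    P.1 (∑ i, c i • (φ i / φ j)) ≤ WithZero.exp (-2) := by
  classical
  have hφj : φ j ≠ 0 := hφ.ne_zero j
  have hψ : ∀ i, P.1 (φ i / φ j) ≤ 1 := fun i => by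
    rw [← ha i]; exact (a i).2
  -- `f(ψ) = 0`
  have hfψ : MvPolynomial.aeval (fun i => φ i / φ j) f = 0 := by
    have h1 := aeval_mul_of_isHomogeneous (K := K) hhom (φ j)⁻¹ φ
    rw [hfφ, mul_zero] at h1
    have h0 : (fun i => φ i / φ j) = fun i => (φ j)⁻¹ * φ i :=
      funext fun i => div_eq_inv_mul _ _
    rw [h0]
    exact h1
  have hdeg : P.deg = 1 := deg_eq_one_of_isAlgClosed hK P
  choose α hα using fun i => exists_const_sub_lt_one hK hdeg (hψ i)
  have hmain := val_tangent_le P f hhom (fun i => φ i / φ j) hψ hfψ α hα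
  -- `c i = ∂ᵢ f(α)`
  have hres : ∀ l, IsLocalRing.residue P.O (a l) =
      algebraMap k (IsLocalRing.ResidueField P.O) (α l) := by
    intro l
    have h1 : algebraMap k (IsLocalRing.ResidueField P.O) (α l) =
        IsLocalRing.residue P.O (algebraMap k P.O (α l)) := rfl
    rw [h1, ← sub_eq_zero, ← map_sub, IsLocalRing.residue_eq_zero_iff,
      Valuation.mem_maximalIdeal_iff (v := P.1)]
    have h2 : ((a l - algebraMap k P.O (α l) : P.O) : K) = φ l / φ j - algebraMap k K (α l) := by
      rw [← ha l]; rfl
    rw [h2]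
    exact hα l
  have hci : ∀ i, c i = MvPolynomial.aeval α (MvPolynomial.pderiv i f) := by
    intro i
    apply (algebraMap k (IsLocalRing.ResidueField P.O)).injective
    rw [hc i]
    have h3 : (fun l => IsLocalRing.residue P.O (a l)) =
        (algebraMap k (IsLocalRing.ResidueField P.O)) ∘ α := by
      funext l; exact hres l
    rw [h3]
    rw [MvPolynomial.aeval_def, MvPolynomial.aeval_def, MvPolynomial.eval₂_comp_left]
    rfl
  simp only [hci]
  exact hmain

end Groth.Agent.S11074
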