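import Groth.Statements.S11076
import Groth.Agent.Lib.Helper18.FF.Fibre
import Groth.Agent.S11075
import Groth.Agent.S11078
import Groth.Agent.S11055
import Groth.Agent.S11065
open Groth.Agent.Lib.Helper18.FF

set_option autoImplicit false
open FunFld

namespace Groth.Agent.S11076

/-- Over an algebraically closed constant field, a projective curve (given by a birational projective
map `φ = (φ₀, …, φₙ)`, `n ≥ 1`) is nonsingular at the point `a = φ(P)` if and only if some
hyperplane `∑ cᵢ Xᵢ` has intersection multiplicity `1` with it at `a`: the sum over the places `Q`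
of the fibre of `a` of `[φ](Q) + ord_Q(∑ cᵢ φᵢ)` is `1`. Nonsingular at `P` means that the local
ring of `φ` at `P` (quotients of polynomials over `k` in the `φᵢ/φⱼ`, `φⱼ` of least order at `P`,
denominator a unit at `P`) is the whole valuation ring. Two places have the same image point when
some entry `φⱼ` has least order at both and each `φᵢ/φⱼ` is congruent to one constant modulo both
maximal ideals. -/
theorem result (k K : Type*) [Field k] [IsAlgClosed k] [Field K] [Algebra k K]
    (hK : FunFld.IsFunctionField k K) {n : ℕ} (hn : 1 ≤ n)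
    (φ : Fin (n + 1) → K) (hφ : LinearIndependent k φ)
    (hbir : IntermediateField.adjoin k (Set.range fun i => φ i / φ 0) = ⊤)
    (P : FunFld.Place k K) :
    FunFld.IsNonsingularAt φ P ↔ ∃ c : Fin (n + 1) → k, ∑ i, c i • φ i ≠ 0 ∧
      ∑ᶠ Q ∈ {Q : FunFld.Place k K | FunFld.SameImage φ P Q},
        ((FunFld.mapDiv k φ) Q + Q.ord (∑ i, c i • φ i)) = 1 := by
  classical
  have hφ0 : ∀ i, φ i ≠ 0 := fun i => hφ.ne_zero i
  obtain ⟨j, hjmax⟩ := Finite.exists_max (fun i => P.1 (φ i))
  have hj0 := hφ0 j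
  obtain ⟨D, hD⟩ : ∃ D : FunFld.Divisor k K, D = FunFld.mapDiv k φ := ⟨_, rfl⟩
  rw [← hD]
  have hs78 := fun Q => Groth.Agent.S11078.result k K hK hn φ hφ P Q
  have hfibfin := (Groth.Agent.S11075.result k K hK hn φ hφ).2 P
  have hPfib : FunFld.SameImage φ P P :=
    (hs78 P).mpr (fun z hz => ⟨val_le_one_of_inLocRing φ P hz, Iff.rfl⟩)
  have hvj : ∀ Q : FunFld.Place k K, (∀ i, Q.1 (φ i) ≤ Q.1 (φ j)) →
      Q.1 (φ j) = WithZero.exp (D Q) := fun Q h => by
    rw [hD]
    exact val_eq_exp_mapDiv_of_max hK φ hφ0 Q j h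
  have hinA : ∀ a ∈ Algebra.adjoin k (Set.range fun i => φ i / φ j), FunFld.InLocRing φ P a :=
    fun a ha => ⟨j, hj0, hjmax, a, ha, 1, Subalgebra.one_mem _, map_one _, mul_one _⟩
  have hjQ : ∀ Q : FunFld.Place k K, FunFld.SameImage φ P Q → ∀ i, Q.1 (φ i) ≤ Q.1 (φ j) := by
    intro Q hQ i
    have := ((hs78 Q).mp hQ _ (hinA _ (Algebra.subset_adjoin ⟨i, rfl⟩))).1
    rw [map_div₀] at this
    exact (div_le_one₀ (zero_lt_iff.mpr ((Valuation.ne_zero_iff _).mpr hj0))).mp this
  have hterm : ∀ Q : FunFld.Place k K, FunFld.SameImage φ P Q → ∀ w : K, w ≠ 0 →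
      D Q + Q.ord w = Q.ord (w / φ j) := by
    intro Q hQ w hw0
    have h1 := ord_eq_of_val_eq_exp Q (hvj Q (hjQ Q hQ))
    rw [div_eq_mul_inv, ord_mul Q hw0 (inv_ne_zero hj0), ord_inv, h1]
    ring
  constructor
  · intro hns
    have hfib : {Q : FunFld.Place k K | FunFld.SameImage φ P Q} = {P} := by
      ext Q
      simp only [Set.mem_setOf_eq, Set.mem_singleton_iff]
      constructor
      · intro hQ
        by_contra hne
        obtain ⟨y, hyP, hyQ⟩ := exists_val_lt_one_gt_one (Ne.symm hne : P ≠ Q)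
        have := ((hs78 Q).mp hQ y (hns y hyP.le)).1
        exact absurd hyQ (not_lt.mpr this)
      · rintro rfl
        exact hPfib
    have h55 := (Groth.Agent.S11055.result k K hK hn φ hφ hbir P).mp hns P
    obtain ⟨w, hwW, hw1, hwn⟩ := (codim_two_iff hK φ hφ0 P P).mp h55
    obtain ⟨c, hc⟩ := (Submodule.mem_span_range_iff_exists_fun k).mp hwW
    have hwP := val_eq_exp_of_mem_of_not_mem hK hw1 hwn
    have hw0 : w ≠ 0 := by
      rintro rfl
      exact hwn (Submodule.zero_mem _)
    refine ⟨c, by rw [hc]; exact hw0, ?_⟩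
    rw [hfib, finsum_mem_singleton, hc]
    have h2 := ord_eq_of_val_eq_exp P hwP
    rw [h2, Finsupp.sub_apply, Finsupp.single_eq_same, hD]
    ring
  · rintro ⟨c, hw0, hsum⟩
    obtain ⟨w, hw⟩ : ∃ w : K, w = ∑ i, c i • φ i := ⟨_, rfl⟩
    rw [← hw] at hw0 hsum
    have hwW : w ∈ Submodule.span k (Set.range φ) := by
      rw [hw]
      exact Submodule.sum_mem _ fun i _ => Submodule.smul_mem _ _ (Submodule.subset_span ⟨i, rfl⟩)
    have ht := div_mem_adjoin_of_mem_span φ j hwW
    rw [finsum_mem_eq_finite_toFinset_sum _ hfibfin] at hsum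
    have hsum' : ∑ Q ∈ hfibfin.toFinset, Q.ord (w / φ j) = 1 := by
      rw [← hsum]
      exact Finset.sum_congr rfl fun Q hQ =>
        (hterm Q (hfibfin.mem_toFinset.mp hQ) w hw0).symm
    have ht0 : w / φ j ≠ 0 := div_ne_zero hw0 hj0
    have hchar : ∀ Q ∈ hfibfin.toFinset, 0 ≤ Q.ord (w / φ j) ∧
        (0 < Q.ord (w / φ j) ↔ P.1 (w / φ j) < 1) := by
      intro Q hQ
      have h1 := (hs78 Q).mp (hfibfin.mem_toFinset.mp hQ) _ (hinA _ ht)
      exact ⟨(val_le_one_iff_ord_nonneg Q ht0).mp h1.1,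
        by rw [← val_lt_one_iff_ord_pos Q ht0]; exact h1.2⟩
    have htP : P.1 (w / φ j) < 1 := by
      by_contra hcon
      have h0 : ∑ Q ∈ hfibfin.toFinset, Q.ord (w / φ j) = 0 := by
        refine Finset.sum_eq_zero fun Q hQ => ?_
        have h1 := (hchar Q hQ).1
        have h2 := (hchar Q hQ).2.not.mpr hcon
        omega
      omega
    have hge1 : ∀ Q ∈ hfibfin.toFinset, 1 ≤ Q.ord (w / φ j) := fun Q hQ =>
      (hchar Q hQ).2.mpr htP
    have hPF : P ∈ hfibfin.toFinset := hfibfin.mem_toFinset.mpr hPfib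
    have hfib : ∀ Q : FunFld.Place k K, FunFld.SameImage φ P Q → Q = P := by
      intro Q hQ
      by_contra hne
      have hQF : Q ∈ hfibfin.toFinset := hfibfin.mem_toFinset.mpr hQ
      have hsub : ({P, Q} : Finset (FunFld.Place k K)) ⊆ hfibfin.toFinset := by
        intro R hR
        rcases Finset.mem_insert.mp hR with rfl | hR
        · exact hPF
        · rw [Finset.mem_singleton.mp hR]
          exact hQF
      have h1 := Finset.sum_le_sum_of_subset_of_nonneg (f := fun Q => Q.ord (w / φ j)) hsub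
        (fun R hR _ => (hchar R hR).1)
      rw [Finset.sum_pair (Ne.symm hne)] at h1
      have h2 := hge1 P hPF
      have h3 := hge1 Q hQF
      omega
    have hordP : P.ord (w / φ j) = 1 := by
      have hF : hfibfin.toFinset = {P} := by
        ext Q
        rw [Set.Finite.mem_toFinset, Finset.mem_singleton, Set.mem_setOf_eq]
        exact ⟨hfib Q, fun h => h ▸ hPfib⟩
      rw [hF, Finset.sum_singleton] at hsum'
      exact hsum'
    refine (Groth.Agent.S11065.result k K hK hn φ hφ hbir P).mpr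
      ⟨?_, w / φ j, hinA _ ht, ?_⟩
    · intro Q hO
      apply hfib Q
      exact (hs78 Q).mpr fun z hz => ⟨hO z hz, lt_one_iff_of_locRing_le hK φ P Q hO hz⟩
    · rw [val_eq_exp_neg_ord P ht0, hordP]

end Groth.Agent.S11076
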