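import Groth.Statements.S11079
import Groth.Agent.Lib.helper19.SpeiserGL

set_option autoImplicit false
universe u
open CAlg

namespace Groth.Agent.S11079

/-- Let L/K be a finite Galois extension of fields, n a natural number, and B a map from the Galois
group of L over K to the invertible n × n matrices over L such that B(σ) · σ(B(τ)) = B(στ) for all
σ, τ, where σ acts on matrices entrywise and στ is the automorphism applying τ first. Then there is
an invertible matrix A over L with B(σ) = A⁻¹ · σ(A) for every σ; that is, every 1-cocycle of the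
Galois group with values in GL_n(L) is a coboundary. -/
theorem result (K L : Type u) [Field K] [Field L]
    [Algebra K L] [FiniteDimensional K L] [IsGalois K L] (n : ℕ)
    (B : (L ≃ₐ[K] L) → GL (Fin n) L)
    (hB : ∀ σ τ : L ≃ₐ[K] L,
      (B σ : Matrix (Fin n) (Fin n) L) * (B τ : Matrix (Fin n) (Fin n) L).map σ = (B (σ * τ) : Matrix (Fin n) (Fin n) L)) :
    ∃ A : GL (Fin n) L, ∀ σ : L ≃ₐ[K] L,
      (B σ : Matrix (Fin n) (Fin n) L) = ((A⁻¹ : GL (Fin n) L) : Matrix (Fin n) (Fin n) L) * (A : Matrix (Fin n) (Fin n) L).map σ := by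
  classical
  have hB1 : (B 1 : Matrix (Fin n) (Fin n) L) = 1 := by
    have h := hB 1 1
    have hmap : (B 1 : Matrix (Fin n) (Fin n) L).map (1 : L ≃ₐ[K] L) = (B 1 : Matrix (Fin n) (Fin n) L) := by
      ext i j; rfl
    rw [hmap, mul_one] at h
    have h2 : B 1 * B 1 = B 1 := Units.ext h
    have h3 : B 1 = 1 := by simpa using h2
    rw [h3]; rfl
  obtain ⟨C, hCu, hC⟩ := Groth.Agent.Lib.helper19.speiser (k := K) (K := L)
    (fun σ => (B σ : Matrix (Fin n) (Fin n) L)) hB1 (fun σ τ => (hB σ τ).symm)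
  obtain ⟨Cu, rfl⟩ := hCu
  have hmapinv : ∀ σ : L ≃ₐ[K] L,
      (Cu : Matrix (Fin n) (Fin n) L).map σ * ((Cu⁻¹ : GL (Fin n) L) : Matrix (Fin n) (Fin n) L).map σ = 1 := by
    intro σ
    have hmap : ∀ M : Matrix (Fin n) (Fin n) L, M.map σ = (σ : L →+* L).mapMatrix M := fun M => rfl
    rw [hmap, hmap, ← map_mul, ← Units.val_mul, mul_inv_cancel, Units.val_one, map_one]
  refine ⟨Cu⁻¹, fun σ => ?_⟩
  rw [inv_inv]
  have h := hC σ
  calc (B σ : Matrix (Fin n) (Fin n) L)
      = (B σ : Matrix (Fin n) (Fin n) L) * ((Cu : Matrix (Fin n) (Fin n) L).map σ *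
          ((Cu⁻¹ : GL (Fin n) L) : Matrix (Fin n) (Fin n) L).map σ) := by rw [hmapinv, mul_one]
    _ = ((B σ : Matrix (Fin n) (Fin n) L) * (Cu : Matrix (Fin n) (Fin n) L).map σ) *
          ((Cu⁻¹ : GL (Fin n) L) : Matrix (Fin n) (Fin n) L).map σ := by rw [mul_assoc]
    _ = _ := by rw [h]

end Groth.Agent.S11079
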