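import Groth.Statements.S1108
import Groth.Agent.Lib.Helper28.SerreFin
import Groth.Agent.Lib.Helper28.AmpleSep

set_option autoImplicit false
universe u
open CategoryTheory AlgebraicGeometry
open Perf

open CategoryTheory.Limits Groth.Agent.Lib.Helper28.GenLocus Groth.Agent.Lib.Helper28.HomMod

namespace Groth.Agent.S1108

/-- A scheme X admitting an ample invertible O_X-module has the resolution property: every
quasi-coherent O_X-module of finite type is a quotient of a finite locally free O_X-module. -/
theorem result (X : Scheme.{u}) (L : X.Modules) (hL : CohB1.IsAmple L) : PerfAux.HasResolutionProperty X := by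
  classical
  intro M hqc hft
  have hinv := hL.1
  have hsep : X.IsSeparated := isSeparated_of_isAmple hL
  have hqs : QuasiSeparatedSpace X := inferInstance
  obtain ⟨n₀, hn₀⟩ := exists_forall_finite_genAtBy hL M ⟨hqc, hft⟩
  obtain ⟨S, hSfin, hS⟩ := hn₀ n₀ le_rfl
  obtain ⟨k, f, hf⟩ := hSfin.fin_embedding
  have hΛ : PicF.IsInvertible (CohB1.tensorPow L n₀) := isInvertible_tensorPow hinv n₀
  obtain ⟨φ, hφ⟩ := exists_epi_dual M hΛ (fun j => f j) (by
    intro x
    have : Set.range (fun j => f j) = S := hf
    rw [this]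
    exact hS x)
  refine ⟨∐ fun _ : Fin k => dual (CohB1.tensorPow L n₀), φ, ?_, hφ⟩
  intro x
  obtain ⟨U, hxU, ⟨e⟩⟩ := isInvertible_dual hΛ x
  exact ⟨U, k, hxU, ⟨PreservesCoproduct.iso (Scheme.Modules.restrictFunctor U.ι) _ ≪≫
    Sigma.mapIso (fun _ => e)⟩⟩

end Groth.Agent.S1108
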