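import Groth.Statements.S11080
import Mathlib.RingTheory.DedekindDomain.AdicValuation
-- import your own Groth.Agent.* helpers here

set_option autoImplicit false
universe u
open CAlg

namespace Groth.Agent.S11080

/-- Valuation rings over a curve: let A be a Dedekind domain with fraction field K. A valuation subring
O of K contains A and is different from K if and only if O is the valuation ring of the v-adic
valuation of K at some nonzero prime v of A (equivalently O is the local ring of A at a maximal
ideal, a discrete valuation ring). (The published statement takes A to be the coordinate ring of a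
nonsingular affine curve over an algebraically closed field, which is such a Dedekind domain; its
proof uses only that the local rings of A at nonzero primes are discrete valuation rings and that
nonzero primes are maximal.) -/
theorem result (A K : Type u) [CommRing A]
    [IsDedekindDomain A] [Field K] [Algebra A K] [IsFractionRing A K] (O : ValuationSubring K) :
    ((algebraMap A K).range ≤ O.toSubring ∧ O ≠ ⊤) ↔
      ∃ v : IsDedekindDomain.HeightOneSpectrum A, O = (v.valuation K).valuationSubring := by
  open IsDedekindDomain.HeightOneSpectrum in
  constructor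
  · rintro ⟨hA, hO⟩
    let φ : A →+* O := (algebraMap A K).codRestrict O.toSubring (fun a => hA ⟨a, rfl⟩)
    have hφ : ∀ a : A, ((φ a : O) : K) = algebraMap A K a := fun a => rfl
    -- units
    have hunit : ∀ a : A, φ a ∉ IsLocalRing.maximalIdeal O → (algebraMap A K a)⁻¹ ∈ O := by
      intro a ha
      rw [IsLocalRing.notMem_maximalIdeal] at ha
      obtain ⟨u, hu⟩ := ha
      have h1 : ((u⁻¹ : Oˣ) : O) * φ a = 1 := by rw [← hu]; exact u.inv_mul
      have h2 : (((u⁻¹ : Oˣ) : O) : K) * algebraMap A K a = 1 := by
        have := congrArg (fun z : O => (z : K)) h1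
        simpa [hφ] using this
      have h3 : (algebraMap A K a)⁻¹ = (((u⁻¹ : Oˣ) : O) : K) := by
        have hne : algebraMap A K a ≠ 0 := by
          intro h0; rw [h0, mul_zero] at h2; exact zero_ne_one h2
        field_simp
        rw [mul_comm]; exact h2.symm
      rw [h3]
      exact SetLike.coe_mem _
    let p : Ideal A := (IsLocalRing.maximalIdeal O).comap φ
    have hp : p.IsPrime := Ideal.comap_isPrime φ _
    have hpne : p ≠ ⊥ := by
      intro hp0
      apply hO
      rw [eq_top_iff]
      intro x _
      obtain ⟨a, b, hb, rfl⟩ := IsFractionRing.div_surjective (A := A) x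
      have hb0 : b ≠ 0 := nonZeroDivisors.ne_zero hb
      have hbp : φ b ∉ IsLocalRing.maximalIdeal O := by
        intro h
        have : b ∈ p := h
        rw [hp0] at this
        exact hb0 this
      rw [div_eq_mul_inv]
      exact O.mul_mem _ _ (hA ⟨a, rfl⟩) (hunit b hbp)
    let v : IsDedekindDomain.HeightOneSpectrum A := ⟨p, hp, hpne⟩
    refine ⟨v, ?_⟩
    rw [← valuationSubringAtPrime_eq_valuationSubring]
    symm
    refine ValuationSubring.eq_of_le_of_ne_top _ ?_ hO
    rintro x ⟨a, s, hs, rfl⟩
    have hsp : φ s ∉ IsLocalRing.maximalIdeal O := fun h => hs h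
    exact O.mul_mem _ _ (hA ⟨a, rfl⟩) (hunit s hsp)
  · rintro ⟨v, rfl⟩
    refine ⟨?_, ?_⟩
    · rintro _ ⟨a, rfl⟩
      exact v.valuation_le_one a
    · simp only [ne_eq, Valuation.valuationSubring_eq_top_iff, not_not]; infer_instance

end Groth.Agent.S11080
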