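import Groth.Statements.S11086
import Groth.Agent.Lib.Helper18.DiffLoc.Main

set_option autoImplicit false
universe u
attribute [local instance] FractionRing.liftAlgebra
open CAlg

namespace Groth.Agent.S11086

/-- Let A be a Dedekind domain, B a Dedekind domain which is a finitely generated torsion-free A-algebra
with fraction field separable over that of A (the integral closure of A in a finite separable
extension), and S a submonoid of A consisting of non-zero-divisors. Let A_S and B_S be localizations
of A at S and of B at the image of S, with B_S an algebra over A_S compatibly with A and B (so A_S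
is integrally closed and B_S is a Dedekind domain, torsion-free over A_S). Then the ideal of B_S
generated by the different of B over A is the different of B_S over A_S. -/
theorem result (A B : Type u) [CommRing A] [CommRing B]
    [IsDedekindDomain A] [IsDedekindDomain B] [Algebra A B] [Module.Finite A B] [Module.IsTorsionFree A B]
    [Algebra.IsSeparable (FractionRing A) (FractionRing B)]
    (S : Submonoid A) (hS : S ≤ nonZeroDivisors A)
    (Aₛ Bₛ : Type u) [CommRing Aₛ] [CommRing Bₛ] [Algebra A Aₛ] [Algebra B Bₛ] [Algebra Aₛ Bₛ]
    [Algebra A Bₛ] [IsScalarTower A Aₛ Bₛ] [IsScalarTower A B Bₛ]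
    [IsLocalization S Aₛ] [IsLocalization (Algebra.algebraMapSubmonoid B S) Bₛ]
    [IsDomain Aₛ] [IsIntegrallyClosed Aₛ] [IsDedekindDomain Bₛ] [Module.IsTorsionFree Aₛ Bₛ] :
    Ideal.map (algebraMap B Bₛ) (differentIdeal A B) = differentIdeal Aₛ Bₛ := by
  classical
  letI : IsScalarTower A (FractionRing A) (FractionRing B) := FractionRing.isScalarTower_liftAlgebra A _
  have hinjAB : Function.Injective (algebraMap A B) := FaithfulSMul.algebraMap_injective A B
  have hSK : ∀ s : S, IsUnit (algebraMap A (FractionRing A) s) := fun s =>
    IsUnit.mk0 _ (by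
      intro h
      have := (IsFractionRing.injective A (FractionRing A)) (h.trans (map_zero _).symm)
      exact (nonZeroDivisors.ne_zero (hS s.2)) this)
  have hSL : ∀ t : Algebra.algebraMapSubmonoid B S, IsUnit (algebraMap B (FractionRing B) t) := by
    rintro ⟨_, s, hs, rfl⟩
    refine IsUnit.mk0 _ ?_
    intro h
    have h1 := (IsFractionRing.injective B (FractionRing B)) (h.trans (map_zero _).symm)
    have h2 := hinjAB (h1.trans (map_zero _).symm)
    exact (nonZeroDivisors.ne_zero (hS hs)) h2
  letI algAK : Algebra Aₛ (FractionRing A) := (IsLocalization.lift (M := S) hSK).toAlgebra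
  haveI : IsScalarTower A Aₛ (FractionRing A) :=
    IsScalarTower.of_algebraMap_eq (fun a => (IsLocalization.lift_eq hSK a).symm)
  letI algBL : Algebra Bₛ (FractionRing B) :=
    (IsLocalization.lift (M := Algebra.algebraMapSubmonoid B S) hSL).toAlgebra
  haveI : IsScalarTower B Bₛ (FractionRing B) :=
    IsScalarTower.of_algebraMap_eq (fun b => (IsLocalization.lift_eq hSL b).symm)
  letI algAL : Algebra Aₛ (FractionRing B) :=
    ((algebraMap (FractionRing A) (FractionRing B)).comp (algebraMap Aₛ (FractionRing A))).toAlgebra
  haveI : IsScalarTower Aₛ (FractionRing A) (FractionRing B) :=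
    IsScalarTower.of_algebraMap_eq (fun _ => rfl)
  haveI : IsScalarTower Aₛ Bₛ (FractionRing B) := by
    refine IsScalarTower.of_algebraMap_eq' ?_
    apply IsLocalization.ringHom_ext S
    ext a
    simp only [RingHom.comp_apply]
    rw [← IsScalarTower.algebraMap_apply A Aₛ Bₛ, IsScalarTower.algebraMap_apply A B Bₛ,
      ← IsScalarTower.algebraMap_apply B Bₛ (FractionRing B),
      ← IsScalarTower.algebraMap_apply A B (FractionRing B)]
    show algebraMap (FractionRing A) (FractionRing B) (algebraMap Aₛ (FractionRing A)
      (algebraMap A Aₛ a)) = _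
    rw [← IsScalarTower.algebraMap_apply A Aₛ (FractionRing A),
      ← IsScalarTower.algebraMap_apply A (FractionRing A) (FractionRing B)]
  exact Groth.Agent.Lib.Helper18.DiffLoc.map_differentIdeal A B S Aₛ Bₛ
    (FractionRing A) (FractionRing B) hS

end Groth.Agent.S11086
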