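import Groth.Statements.S11087
import Groth.Agent.Lib.Helper18.CDVR.Teich

set_option autoImplicit false
universe u
attribute [local instance] FractionRing.liftAlgebra
open CAlg

namespace Groth.Agent.S11087

/-- Let A be a complete discrete valuation ring and K a perfect field contained in A such that K → A →
A/m is bijective. Let B be a Dedekind domain which is a finite torsion-free A-algebra with fraction
field separable over that of A (the integral closure of A in a finite separable extension of its
fraction field). Then for every maximal ideal M of B and every b in B there is exactly one element c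
of B which is algebraic over K and congruent to b modulo M; in other words the algebraic closure of
K in B is a subfield mapping isomorphically onto B/M. -/
theorem result (K A B : Type u) [Field K]
    [PerfectField K] [CommRing A] [IsDomain A] [IsDiscreteValuationRing A]
    [IsAdicComplete (IsLocalRing.maximalIdeal A) A]
    [Algebra K A] (hK : Function.Bijective ((IsLocalRing.residue A).comp (algebraMap K A)))
    [CommRing B] [IsDedekindDomain B] [Algebra A B] [Module.Finite A B] [Module.IsTorsionFree A B]
    [Algebra.IsSeparable (FractionRing A) (FractionRing B)] [Algebra K B] [IsScalarTower K A B]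
    (M : Ideal B) [M.IsMaximal] (b : B) :
    ∃! c : B, IsAlgebraic K c ∧ b - c ∈ M := by
  haveI : IsLocalRing B := Groth.Agent.Lib.Helper18.CDVR.isLocalRing_of_complete A B
  haveI : HenselianLocalRing A := Groth.Agent.Lib.Helper18.CDVR.henselianLocalRing_of_complete A
  haveI : HenselianLocalRing B := Groth.Agent.Lib.Helper12.henselianLocalRing_of_isIntegral A B
  obtain rfl : M = IsLocalRing.maximalIdeal B := IsLocalRing.eq_maximalIdeal ‹_›
  obtain ⟨c, hc, hbc⟩ := Groth.Agent.Lib.Helper18.CDVR.exists_algebraic_lift K A B hK b
  refine ⟨c, ⟨hc, hbc⟩, ?_⟩
  rintro c' ⟨hc', hbc'⟩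
  refine Groth.Agent.Lib.Helper18.CDVR.eq_of_isAlgebraic_of_sub_mem K B (IsLocalRing.maximalIdeal B)
    (IsLocalRing.maximalIdeal.isMaximal B).ne_top hc' hc ?_
  have : c' - c = (b - c) - (b - c') := by ring
  rw [this]
  exact sub_mem hbc hbc'

end Groth.Agent.S11087
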