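import Groth.Statements.S11089
import Groth.Agent.Lib.Helper18.CDVR.Tame

set_option autoImplicit false
universe u
attribute [local instance] FractionRing.liftAlgebra
open CAlg

namespace Groth.Agent.S11089

/-- Let A be a complete discrete valuation ring containing a field K with K → A → A/m bijective, and B a
Dedekind domain which is a finite torsion-free A-algebra of rank m with fraction field separable
over that of A (the integral closure of A in a finite separable extension E of F = Frac A). If the
extension is totally ramified — the maximal ideal M of B has ramification index m — and m is a unit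
in A, then some uniformizer u of B (an element of M not in M²) satisfies u^m ∈ A and generates E
over F: its minimal polynomial over A has degree m. -/
theorem result (K A B : Type u) [Field K]
    [CommRing A] [IsDomain A] [IsDiscreteValuationRing A]
    [IsAdicComplete (IsLocalRing.maximalIdeal A) A]
    [Algebra K A] (hK : Function.Bijective ((IsLocalRing.residue A).comp (algebraMap K A)))
    [CommRing B] [IsDedekindDomain B] [Algebra A B] [Module.Finite A B] [Module.IsTorsionFree A B]
    [Algebra.IsSeparable (FractionRing A) (FractionRing B)]
    (M : Ideal B) [M.IsMaximal] (hram : M.ramificationIdx A = Module.finrank A B)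
    (hm : IsUnit ((Module.finrank A B : ℕ) : A)) :
    ∃ u : B, u ∈ M ∧ u ∉ M ^ 2 ∧ u ^ Module.finrank A B ∈ (algebraMap A B).range ∧
      (minpoly A u).natDegree = Module.finrank A B := by
  haveI : IsLocalRing B := Groth.Agent.Lib.Helper18.CDVR.isLocalRing_of_complete A B
  haveI : HenselianLocalRing A := Groth.Agent.Lib.Helper18.CDVR.henselianLocalRing_of_complete A
  haveI : HenselianLocalRing B := Groth.Agent.Lib.Helper12.henselianLocalRing_of_isIntegral A B
  haveI : IsDiscreteValuationRing B :=
    Groth.Agent.Lib.Helper18.CDVR.isDiscreteValuationRing_of_isLocalRing A B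
  obtain rfl : M = IsLocalRing.maximalIdeal B := IsLocalRing.eq_maximalIdeal ‹_›
  obtain ⟨u, c, hu, hc, huc⟩ :=
    Groth.Agent.Lib.Helper18.CDVR.exists_uniformizer_pow_eq A B hram hm
  have hm0 : 0 < Module.finrank A B := by
    obtain ⟨-, he0⟩ := Groth.Agent.Lib.Helper18.TameDiff.map_maximalIdeal_eq_pow A B
    rw [hram] at he0
    exact Nat.pos_of_ne_zero he0
  refine ⟨u, ?_, ?_, ⟨c, huc.symm⟩, ?_⟩
  · rw [hu.maximalIdeal_eq]
    exact Ideal.mem_span_singleton_self u
  · rw [hu.maximalIdeal_eq, Ideal.span_singleton_pow, Ideal.mem_span_singleton]
    rintro ⟨d, hd⟩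
    have h1 : u * 1 = u * (u * d) := by rw [mul_one]; exact hd.trans (by ring)
    have h2 := mul_left_cancel₀ hu.ne_zero h1
    exact hu.not_isUnit (IsUnit.of_mul_eq_one d h2.symm)
  · exact Groth.Agent.Lib.Helper18.CDVR.natDegree_minpoly_of_pow_eq A B hm0 hc huc

end Groth.Agent.S11089
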