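import Groth.Statements.S4271
import Groth.Agent.Lib.Helper1.AmpleFact
import Groth.Agent.Lib.helper11.RegularUFD
import Groth.Agent.Lib.helper19.RegularLocal

set_option autoImplicit false
universe u
open CategoryTheory CategoryTheory.Limits AlgebraicGeometry
attribute [local instance] HasDerivedCategory.standard
open KSix

namespace Groth.Agent.S4271

/-- The published statement asserts that a separated regular Noetherian scheme is divisorial; stated
here in the following form: a quasi-compact locally Noetherian scheme all of whose local rings are
regular and whose affine opens have pairwise affine intersections (affine diagonal) admits an ample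
family of invertible modules. -/
theorem result (X : Scheme.{u}) [CompactSpace X] [IsLocallyNoetherian X]
    (hreg : ∀ x : X, IsRegularLocalRing (X.presheaf.stalk x))
    (hdiag : ∀ U V : X.Opens, IsAffineOpen U → IsAffineOpen V → IsAffineOpen (U ⊓ V)) : MoreMor.HasAmpleFamily X := by
  haveI : IsNoetherian X := { }
  refine Groth.Agent.Lib.Helper1.AmpleFact.hasAmpleFamily_of_locallyFactorial X hdiag fun x => ?_
  haveI := hreg x
  haveI : IsDomain (X.presheaf.stalk x) := Groth.Agent.Lib.helper19.isDomain_of_isRegularLocalRing _
  exact ⟨inferInstance, Groth.Agent.Lib.helper11.RegularUFD.ufd (X.presheaf.stalk x)⟩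

end Groth.Agent.S4271
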