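import Groth.Statements.S11091
import Groth.Agent.S0499

set_option autoImplicit false
universe u
attribute [local instance] FractionRing.liftAlgebra
open CAlg

namespace Groth.Agent.S11091

/-- Let A be a complete discrete valuation ring and B a Dedekind domain which is a finite torsion-free
A-algebra whose fraction field is separable over that of A (the integral closure of A in a finite
separable extension E of the fraction field F). Then B has exactly one maximal ideal; equivalently,
since the discrete valuations of E extending a multiple of the valuation of F correspond to the
nonzero primes of B, the valuation of F extends uniquely to E, and B is a complete discrete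
valuation ring. -/
theorem result (A B : Type u) [CommRing A] [IsDomain A] [IsDiscreteValuationRing A]
    [IsAdicComplete (IsLocalRing.maximalIdeal A) A]
    [CommRing B] [IsDedekindDomain B] [Algebra A B] [Module.Finite A B] [Module.IsTorsionFree A B]
    [Algebra.IsSeparable (FractionRing A) (FractionRing B)] :
    ∃! M : Ideal B, M.IsMaximal := by
  classical
  haveI hR : HenselianRing A (IsLocalRing.maximalIdeal A) := inferInstance
  haveI : HenselianLocalRing A :=
    { is_henselian := fun f hf a₀ h₁ h₂ =>
        hR.is_henselian f hf a₀ h₁ (h₂.map (Ideal.Quotient.mk _)) }
  obtain ⟨ι, _, C, _, hloc, ⟨φ⟩⟩ := Groth.Agent.S0499.result A B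
  haveI := hloc
  have hsub : Subsingleton ι := ⟨fun i j => by
    by_contra hij
    have h0 : (Pi.single i 1 * Pi.single j 1 : ∀ k, C k) = 0 := by
      ext k
      by_cases hk : k = i
      · subst hk
        simp [Pi.single_eq_of_ne hij]
      · simp [Pi.single_eq_of_ne hk]
    have h1 : φ.symm (Pi.single i 1) * φ.symm (Pi.single j 1) = 0 := by
      rw [← map_mul, h0, map_zero]
    rcases mul_eq_zero.1 h1 with h | h
    · have := φ.symm.injective (h.trans (map_zero φ.symm).symm)
      have := congrFun this i
      simp at this
    · have := φ.symm.injective (h.trans (map_zero φ.symm).symm)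
      have := congrFun this j
      simp at this⟩
  have hne : Nonempty ι := by
    by_contra hemp
    rw [not_nonempty_iff] at hemp
    have : Subsingleton (∀ k, C k) := inferInstance
    have h01 : (0 : B) = 1 := φ.injective (Subsingleton.elim _ _)
    exact zero_ne_one h01
  obtain ⟨i₀⟩ := hne
  haveI : Unique ι := ⟨⟨i₀⟩, fun j => Subsingleton.elim _ _⟩
  let ψ : B ≃+* C default := φ.trans (RingEquiv.piUnique C)
  haveI : IsLocalRing B := ψ.symm.isLocalRing
  exact IsLocalRing.maximal_ideal_unique B

end Groth.Agent.S11091
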