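import Groth.Statements.S11093
import Groth.Agent.S6332
import Groth.Agent.Lib.Helper18.EppAS.NormalForm
import Groth.Agent.Lib.Helper18.AS.Cases
import Groth.Agent.Lib.Helper18.ASPS.Ramified

set_option autoImplicit false
universe u
attribute [local instance] FractionRing.liftAlgebra
open CAlg

namespace Groth.Agent.S11093

/-- Second assertion: (Artin–Schreier normal form): let K be a perfect field of characteristic p > 0, A
= K[[t]] the power series ring with fraction field F, and B a Dedekind domain which is a finite
torsion-free A-algebra whose fraction field E is Galois of degree p over F and totally ramified: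
some maximal ideal of B has ramification index p over A. Then there are x in E generating E over F
and α in F with x^p − x + α = 0, where α = a / t^m for a power series a with nonzero constant term
and a positive integer m not divisible by p. -/
theorem result (p : ℕ) [Fact p.Prime] (K : Type u) [Field K]
    [CharP K p] [PerfectField K] (B : Type u) [CommRing B] [IsDedekindDomain B]
    [Algebra (PowerSeries K) B] [Module.Finite (PowerSeries K) B] [Module.IsTorsionFree (PowerSeries K) B]
    [IsGalois (FractionRing (PowerSeries K)) (FractionRing B)]
    (hdeg : Module.finrank (FractionRing (PowerSeries K)) (FractionRing B) = p)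
    (M : Ideal B) [M.IsMaximal] (hram : M.ramificationIdx (PowerSeries K) = p) :
    ∃ x : FractionRing B, ∃ m : ℕ, ∃ a : PowerSeries K,
      IntermediateField.adjoin (FractionRing (PowerSeries K)) {x} = ⊤ ∧ 0 < m ∧ ¬ p ∣ m ∧
      PowerSeries.constantCoeff a ≠ 0 ∧
      x ^ p - x + algebraMap (FractionRing (PowerSeries K)) (FractionRing B)
        (algebraMap (PowerSeries K) (FractionRing (PowerSeries K)) a /
          algebraMap (PowerSeries K) (FractionRing (PowerSeries K)) (PowerSeries.X ^ m)) = 0 := by
  classical
  have hp2 : 2 ≤ p := (Fact.out : p.Prime).two_le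
  haveI hcharA : CharP (PowerSeries K) p :=
    charP_of_injective_algebraMap (algebraMap K (PowerSeries K)).injective p
  haveI hcharF : CharP (FractionRing (PowerSeries K)) p :=
    charP_of_injective_algebraMap
      (IsFractionRing.injective (PowerSeries K) (FractionRing (PowerSeries K))) p
  haveI hfd : FiniteDimensional (FractionRing (PowerSeries K)) (FractionRing B) :=
    Module.finite_of_finrank_pos (by rw [hdeg]; omega)
  haveI hint : Algebra.IsIntegral (PowerSeries K) B := Algebra.IsIntegral.of_finite _ _
  obtain ⟨z, ⟨ξ, hξ⟩, hgen⟩ := Groth.Agent.S6332.result (K := FractionRing (PowerSeries K))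
    (L := FractionRing B) p hdeg
  have hXirr : Irreducible (PowerSeries.X : PowerSeries K) := PowerSeries.X_irreducible
  have hmax : IsLocalRing.maximalIdeal (PowerSeries K) = Ideal.span {PowerSeries.X} :=
    PowerSeries.maximalIdeal_eq_span_X
  have hperf : ∀ a : PowerSeries K, ∃ a' : PowerSeries K,
      IsLocalRing.residue (PowerSeries K) a = IsLocalRing.residue (PowerSeries K) a' ^ p := by
    intro a
    obtain ⟨b, hb⟩ := surjective_frobenius K p (PowerSeries.constantCoeff a)
    refine ⟨PowerSeries.C b, ?_⟩
    rw [← map_pow, ← sub_eq_zero, ← map_sub, IsLocalRing.residue_eq_zero_iff, hmax,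
      Ideal.mem_span_singleton, PowerSeries.X_dvd_iff, map_sub, map_pow,
      PowerSeries.constantCoeff_C]
    rw [frobenius_def] at hb
    rw [hb, sub_self]
  obtain ⟨n, a₁, hna⟩ := Groth.Agent.Lib.Helper18.EppAS.exists_pole_bound
    (L := FractionRing (PowerSeries K)) hXirr ξ
  obtain ⟨y, hy⟩ := Groth.Agent.Lib.Helper18.EppAS.rational_normal_form (p := p)
    (K₁ := FractionRing (PowerSeries K)) (PowerSeries.X : PowerSeries K) hmax hperf n ξ a₁ hna
  -- the new generator
  have hz' : (z + algebraMap _ (FractionRing B) y) ^ p - (z + algebraMap _ (FractionRing B) y) =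
      algebraMap (FractionRing (PowerSeries K)) (FractionRing B)
        (ξ + Groth.Agent.Lib.Helper18.EppAS.wp p y) := by
    haveI : CharP (FractionRing B) p :=
      charP_of_injective_algebraMap
        (algebraMap (FractionRing (PowerSeries K)) (FractionRing B)).injective p
    rw [add_pow_char, map_add, hξ, Groth.Agent.Lib.Helper18.EppAS.wp, map_sub, map_pow]
    ring
  have hgen' : IntermediateField.adjoin (FractionRing (PowerSeries K))
      {z + algebraMap _ (FractionRing B) y} = ⊤ := by
    rw [eq_top_iff, ← hgen, IntermediateField.adjoin_simple_le_iff]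
    have h1 : z + algebraMap _ (FractionRing B) y ∈ IntermediateField.adjoin
        (FractionRing (PowerSeries K)) {z + algebraMap _ (FractionRing B) y} :=
      IntermediateField.mem_adjoin_simple_self _ _
    have h2 := sub_mem h1 (IntermediateField.algebraMap_mem (IntermediateField.adjoin
        (FractionRing (PowerSeries K)) {z + algebraMap _ (FractionRing B) y}) y)
    rwa [add_sub_cancel_right] at h2
  rcases hy with ⟨a₀, ha₀⟩ | ⟨m, hm0, hpm, u, hu⟩
  · exfalso
    rcases Groth.Agent.Lib.Helper18.AS.caseA (A := PowerSeries K) hz' hgen' PowerSeries.X hXirr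
      a₀ ha₀.symm with h1 | ⟨hunr, -⟩
    · rw [hdeg] at h1; omega
    · exact Groth.Agent.Lib.Helper18.ASPS.not_unramified_of_ramified (A := PowerSeries K) M
        (by rw [hram]; exact hp2) hunr
  · refine ⟨z + algebraMap _ (FractionRing B) y, m, -(u : PowerSeries K), hgen', hm0, hpm, ?_, ?_⟩
    · rw [map_neg, neg_ne_zero]
      intro h0
      have := (PowerSeries.isUnit_iff_constantCoeff.mp u.isUnit)
      rw [h0] at this
      exact not_isUnit_zero this
    · rw [hz', ← map_add, map_pow]
      have hX0 : algebraMap (PowerSeries K) (FractionRing (PowerSeries K)) PowerSeries.X ≠ 0 := by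
        intro h0
        exact hXirr.ne_zero (IsFractionRing.injective (PowerSeries K)
          (FractionRing (PowerSeries K)) (h0.trans (map_zero _).symm))
      rw [map_neg, ← hu, neg_div, mul_div_assoc, div_self (pow_ne_zero _ hX0), mul_one,
        add_neg_cancel, map_zero]

end Groth.Agent.S11093
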