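import Groth.Statements.S11095
import Mathlib
import Groth.Agent.Lib.Helper22.GeomIrr3
import Groth.Agent.Lib.Helper22.GeomIrr4
-- import your own Groth.Agent.* helpers here

set_option autoImplicit false
universe u
open CAlg

namespace Groth.Agent.S11095

/-- Let K₀ be a perfect field, K an algebraic extension of K₀ and F₀ a field extension of K₀ such that
K₀ is algebraically closed in F₀. Then the K₀-algebra F₀ ⊗ K is a field; consequently F₀ and K,
embedded in it by x ↦ x ⊗ 1 and y ↦ 1 ⊗ y, are linearly disjoint over K₀. -/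
theorem result (K₀ F₀ K : Type u)
    [Field K₀] [PerfectField K₀] [Field F₀] [Algebra K₀ F₀] [Field K] [Algebra K₀ K]
    [Algebra.IsAlgebraic K₀ K] (h : algebraicClosure K₀ F₀ = ⊥) :
    IsField (TensorProduct K₀ F₀ K) := by
  open Groth.Agent.Lib.Helper22.GeomIrr3 Groth.Agent.Lib.Helper22.GeomIrr4 TensorProduct in
  have hK : ∀ α : F₀, IsSeparable K₀ α → α ∈ Set.range (algebraMap K₀ F₀) := by
    intro α hα
    have h1 : α ∈ algebraicClosure K₀ F₀ := mem_algebraicClosure_iff'.mpr hα.isIntegral
    rw [h, IntermediateField.mem_bot] at h1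
    exact h1
  have hdom : IsDomain (K ⊗[K₀] F₀) := by
    apply isDomain_of_forall_finset
    intro t
    letI : Field (Algebra.adjoin K₀ (t : Set K)) :=
      (Subalgebra.isField_of_algebraic _).toField
    haveI : Module.Finite K₀ (Algebra.adjoin K₀ (t : Set K)) :=
      Algebra.finite_adjoin_of_finite_of_isIntegral t.finite_toSet
        (fun x _ => Algebra.IsIntegral.isIntegral x)
    haveI : Algebra.IsSeparable K₀ (Algebra.adjoin K₀ (t : Set K)) :=
      Algebra.IsAlgebraic.isSeparable_of_perfectField
    exact isDomain_tensor_of_sepClosedIn hK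
  haveI : IsDomain (F₀ ⊗[K₀] K) :=
    (Algebra.TensorProduct.comm K₀ F₀ K).toRingEquiv.toMulEquiv.isDomain _
  exact isField_of_isIntegral_of_isField' (R := F₀) (Field.toIsField F₀)

end Groth.Agent.S11095
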