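import Groth.Statements.S11096
-- import your own Groth.Agent.* helpers here

set_option autoImplicit false
universe u
open Neron

namespace Groth.Agent.S11096

/-- Let a Weierstrass equation have coefficients in a commutative ring R and let I be an ideal with a₃,
a₄, a₆ ∈ I. If the discriminant Δ does not lie in I ^ 2, then a₆ does not lie in I ^ 2 and b₂ does
not lie in I. (For a discrete valuation ring with maximal ideal (π): if π divides a₃, a₄, a₆ and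
v(Δ) = 1, then v(a₆) = 1 and π does not divide b₂.) -/
theorem result {R : Type u} [CommRing R] (W : WeierstrassCurve R)
    (I : Ideal R) (h3 : W.a₃ ∈ I) (h4 : W.a₄ ∈ I) (h6 : W.a₆ ∈ I) (hΔ : W.Δ ∉ I ^ 2) :
    W.a₆ ∉ I ^ 2 ∧ W.b₂ ∉ I := by
  have hb4 : W.b₄ ∈ I := by
    rw [WeierstrassCurve.b₄]
    exact I.add_mem (I.mul_mem_left _ h4) (I.mul_mem_left _ h3)
  have hb6 : W.b₆ ∈ I := by
    rw [WeierstrassCurve.b₆, pow_two]
    exact I.add_mem (I.mul_mem_left _ h3) (I.mul_mem_left _ h6)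
  have hmul : ∀ {x y : R}, x ∈ I → y ∈ I → x * y ∈ I ^ 2 := fun hx hy => by
    rw [pow_two]; exact Ideal.mul_mem_mul hx hy
  have hbr : -W.a₁ * (W.a₃ * W.a₄) + W.a₂ * (W.a₃ * W.a₃) - W.a₄ * W.a₄ ∈ I ^ 2 :=
    (I ^ 2).sub_mem ((I ^ 2).add_mem ((I ^ 2).mul_mem_left _ (hmul h3 h4))
      ((I ^ 2).mul_mem_left _ (hmul h3 h3))) (hmul h4 h4)
  have key : W.Δ = -(W.b₂ ^ 3 * W.a₆) +
      (-W.b₂ ^ 2 * (-W.a₁ * (W.a₃ * W.a₄) + W.a₂ * (W.a₃ * W.a₃) - W.a₄ * W.a₄)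
        - 8 * W.b₄ * (W.b₄ * W.b₄) - 27 * (W.b₆ * W.b₆) + 9 * W.b₂ * (W.b₄ * W.b₆)) := by
    simp only [WeierstrassCurve.Δ, WeierstrassCurve.b₂, WeierstrassCurve.b₄, WeierstrassCurve.b₆,
      WeierstrassCurve.b₈]
    ring
  have hjunk : (-W.b₂ ^ 2 * (-W.a₁ * (W.a₃ * W.a₄) + W.a₂ * (W.a₃ * W.a₃) - W.a₄ * W.a₄)
        - 8 * W.b₄ * (W.b₄ * W.b₄) - 27 * (W.b₆ * W.b₆) + 9 * W.b₂ * (W.b₄ * W.b₆)) ∈ I ^ 2 :=
    (I ^ 2).add_mem ((I ^ 2).sub_mem ((I ^ 2).sub_mem ((I ^ 2).mul_mem_left _ hbr)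
      ((I ^ 2).mul_mem_left _ (hmul hb4 hb4))) ((I ^ 2).mul_mem_left _ (hmul hb6 hb6)))
      ((I ^ 2).mul_mem_left _ (hmul hb4 hb6))
  constructor
  · intro h6'
    apply hΔ
    rw [key]
    exact (I ^ 2).add_mem ((I ^ 2).neg_mem ((I ^ 2).mul_mem_left _ h6')) hjunk
  · intro hb2
    apply hΔ
    rw [key]
    refine (I ^ 2).add_mem ((I ^ 2).neg_mem ?_) hjunk
    have : W.b₂ ^ 3 * W.a₆ = W.b₂ ^ 2 * (W.b₂ * W.a₆) := by ring
    rw [this]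
    exact (I ^ 2).mul_mem_left _ (hmul hb2 h6)

end Groth.Agent.S11096
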