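import Groth.Statements.S11125
import Groth.Agent.Lib.Helper8.KInjLift

set_option autoImplicit false
universe v u
open CategoryTheory
open CohDer

namespace Groth.Agent.S11125

/-- In an abelian category, a cochain complex I is K-injective with injective terms if and only if for
every short exact sequence 0 → A → B → C → 0 of cochain complexes whose third term C is acyclic,
every chain map A → I extends to a chain map B → I. -/
theorem result {A : Type u} [Category.{v} A] [Abelian A]
    (I : CochainComplex A ℤ) :
    (I.IsKInjective ∧ ∀ n : ℤ, Injective (I.X n)) ↔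
      ∀ (S : ShortComplex (CochainComplex A ℤ)), S.ShortExact → S.X₃.Acyclic →
        ∀ φ : S.X₁ ⟶ I, ∃ ψ : S.X₂ ⟶ I, S.f ≫ ψ = φ := by
  constructor
  · rintro ⟨h1, h2⟩ S hS hC φ
    exact Groth.Agent.Lib.Helper8.KInjLift.lifting I S hS hC φ
  · intro hL
    exact ⟨Groth.Agent.Lib.Helper8.KInjLift.isKInjective I hL,
      fun n => Groth.Agent.Lib.Helper8.KInjLift.injective_X I hL n⟩

end Groth.Agent.S11125
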