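import Groth.Statements.S1113
import Groth.Agent.Lib.Helper16.DerTrunc2
-- import your own Groth.Agent.* helpers here

set_option autoImplicit false
universe w v u
open CategoryTheory CategoryTheory.Limits
open CohDer

namespace Groth.Agent.S1113

open DerivedCategory Pretriangulated Groth.Agent.Lib.Helper16.DerT

variable {C : Type u} [Category.{v} C] [Abelian C] [HasDerivedCategory.{w} C]

lemma isZero_homology_obj₁ (T : Triangle (DerivedCategory C))
    (hT : T ∈ distTriang (DerivedCategory C)) (j j' : ℤ) (hj : j' + 1 = j)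
    (h1 : Epi ((homologyFunctor C j').map T.mor₂))
    (h2 : Mono ((homologyFunctor C j).map T.mor₂)) :
    IsZero ((homologyFunctor C j).obj T.obj₁) := by
  have e1 := (HomologySequence.epi_homologyMap_mor₂_iff T hT j' j hj).1 h1
  have e2 := (HomologySequence.mono_homologyMap_mor₂_iff T hT j).1 h2
  exact (HomologySequence.exact₁ T hT j' j hj).isZero_X₂ e1 e2

lemma homologyMap_truncGELT_eq_zero {K K' : DerivedCategory C} (f : K ⟶ K') (a b j : ℤ)
    (hj : (homologyFunctor C j).map f = 0) :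
    (homologyFunctor C j).map (((TStructure.t (C := C)).truncGELT a b).map f) = 0 := by
  let t := TStructure.t (C := C)
  have h1 : (homologyFunctor C j).map ((t.truncLT b).map f) = 0 := by
    have := mono_homologyMap_truncLTι K' b j
    rw [← cancel_mono ((homologyFunctor C j).map ((t.truncLTι b).app K')), ← Functor.map_comp,
      (t.truncLTι b).naturality f, Functor.map_comp, zero_comp]
    dsimp
    rw [hj, comp_zero]
  have := epi_homologyMap_truncGEπ ((t.truncLT b).obj K) a j
  rw [← cancel_epi ((homologyFunctor C j).map ((t.truncGEπ a).app ((t.truncLT b).obj K))),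
    ← Functor.map_comp]
  have nat := (t.truncGEπ a).naturality ((t.truncLT b).map f)
  dsimp at nat
  dsimp
  rw [← nat, Functor.map_comp, h1, zero_comp, comp_zero]

theorem abstract (X : ℕ → DerivedCategory C) (f : ∀ j, X (j + 1) ⟶ X j) [(X 0).IsGE 0]
    (F : ∀ m, X m ⟶ X 0) (hFs : ∀ m, F (m + 1) = f m ≫ F m)
    (n : ℕ) (hz : ∀ j : ℕ, j < n → (homologyFunctor C (j : ℤ)).map (f j) = 0) :
    ∀ (m : ℕ) (c : ℤ), c = m → m ≤ n →
      ((TStructure.t (C := C)).truncLTι c).app (X m) ≫ F m = 0 := by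
  let t := TStructure.t (C := C)
  intro m
  induction m with
  | zero =>
    intro c hc _
    have : t.IsLE ((t.truncLT c).obj (X 0)) (c - 1) := inferInstance
    exact t.zero _ (c - 1) 0 (by rw [hc]; simp)
  | succ m ih =>
    intro c hc hm
    have hc' : c = (m : ℤ) + 1 := by rw [hc]; push_cast; rfl
    subst hc'
    have IH := ih (m : ℤ) rfl (by omega)
    let T := (t.truncLT ((m : ℤ) + 1)).obj (X m)
    let ι' : T ⟶ X m := (t.truncLTι ((m : ℤ) + 1)).app (X m)
    have h1 : (t.truncLTι (m : ℤ)).app T ≫ (ι' ≫ F m) = 0 := by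
      have nat := (t.truncLTι (m : ℤ)).naturality ι'
      dsimp at nat
      rw [← Category.assoc, ← nat, Category.assoc, IH, comp_zero]
    obtain ⟨ψ', hψ'⟩ : ∃ ψ' : (t.truncGE (m : ℤ)).obj T ⟶ X 0,
        ι' ≫ F m = (t.truncGEπ (m : ℤ)).app T ≫ ψ' :=
      Triangle.yoneda_exact₂ _ (t.triangleLTGE_distinguished (m : ℤ) T) (ι' ≫ F m) h1
    have nat1 := (t.truncLTι ((m : ℤ) + 1)).naturality (f m)
    dsimp at nat1
    have nat2 := (t.truncGEπ (m : ℤ)).naturality ((t.truncLT ((m : ℤ) + 1)).map (f m))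
    dsimp at nat2
    have hzero : (t.truncGE (m : ℤ)).map ((t.truncLT ((m : ℤ) + 1)).map (f m)) = 0 := by
      have i1 : ((t.truncGE (m : ℤ)).obj ((t.truncLT ((m : ℤ) + 1)).obj (X (m + 1)))).IsGE m := by
        show t.IsGE _ _; infer_instance
      have i2 : ((t.truncGE (m : ℤ)).obj ((t.truncLT ((m : ℤ) + 1)).obj (X (m + 1)))).IsLE m := by
        show t.IsLE _ _; infer_instance
      have i3 : ((t.truncGE (m : ℤ)).obj ((t.truncLT ((m : ℤ) + 1)).obj (X m))).IsGE m := by
        show t.IsGE _ _; infer_instance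
      have i4 : ((t.truncGE (m : ℤ)).obj ((t.truncLT ((m : ℤ) + 1)).obj (X m))).IsLE m := by
        show t.IsLE _ _; infer_instance
      exact eq_zero_of_homologyMap_eq_zero (m : ℤ) _
        (homologyMap_truncGELT_eq_zero (f m) m (m + 1) m (hz m (by omega)))
    rw [hFs, ← Category.assoc, ← nat1, Category.assoc]
    change (t.truncLT ((m : ℤ) + 1)).map (f m) ≫ (ι' ≫ F m) = 0
    rw [hψ', ← Category.assoc, nat2, Category.assoc, hzero, zero_comp, comp_zero]

lemma homologyMap_Q_eq_zero {K L : CochainComplex C ℤ} (g : K ⟶ L) (j : ℤ)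
    (h : HomologicalComplex.homologyMap g j = 0) :
    (homologyFunctor C j).map (Q.map g) = 0 := by
  have h' : (HomologicalComplex.homologyFunctor C (ComplexShape.up ℤ) j).map g = 0 := h
  have nat := (homologyFunctorFactors C j).hom.naturality g
  rw [h', comp_zero] at nat
  have : (homologyFunctor C j).map (Q.map g) ≫ (homologyFunctorFactors C j).hom.app L = 0 := nat
  rw [← cancel_mono ((homologyFunctorFactors C j).hom.app L), this, zero_comp]

lemma isIso_homologyMap_Q {K L : CochainComplex C ℤ} (g : K ⟶ L) (j : ℤ)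
    (h : QuasiIsoAt g j) :
    IsIso ((homologyFunctor C j).map (Q.map g)) := by
  rw [quasiIsoAt_iff_isIso_homologyMap] at h
  have h' : IsIso ((HomologicalComplex.homologyFunctor C (ComplexShape.up ℤ) j).map g) := h
  have nat := (homologyFunctorFactors C j).hom.naturality g
  have : IsIso ((Q ⋙ homologyFunctor C j).map g ≫ (homologyFunctorFactors C j).hom.app L) := by
    rw [nat]; infer_instance
  exact IsIso.of_isIso_comp_right ((Q ⋙ homologyFunctor C j).map g)
    ((homologyFunctorFactors C j).hom.app L)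



/-- Let K : ℕᵒᵖ ⥤ CochainComplex A ℤ be a sequence of cochain maps … → K₂ → K₁ → K₀ in an abelian
category with Hⁱ(K₀) = 0 for i < 0 and such that for every j < n the map Hʲ(Kⱼ₊₁) → Hʲ(Kⱼ) is zero.
Then in the derived category the composite Kₙ → K₀ factors through the canonical truncation Kₙ →
τ_{≥ n}Kₙ. -/
theorem result {A : Type u} [Category.{v} A] [Abelian A] [HasDerivedCategory.{w} A]
    (K : ℕᵒᵖ ⥤ CochainComplex A ℤ) (n : ℕ)
    (h0 : ∀ i : ℤ, i < 0 → IsZero ((K.obj (Opposite.op 0)).homology i))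
    (hz : ∀ j : ℕ, j < n → HomologicalComplex.homologyMap (K.map (homOfLE (Nat.le_succ j)).op) (j : ℤ) = 0) :
    ∃ φ : DerivedCategory.Q.obj ((K.obj (Opposite.op n)).truncGE (n : ℤ)) ⟶ DerivedCategory.Q.obj (K.obj (Opposite.op 0)),
      DerivedCategory.Q.map ((K.obj (Opposite.op n)).πTruncGE (n : ℤ)) ≫ φ = DerivedCategory.Q.map (K.map (homOfLE (Nat.zero_le n)).op) := by
  let t := TStructure.t (C := A)
  let X : ℕ → DerivedCategory A := fun m => Q.obj (K.obj (Opposite.op m))
  let f : ∀ j, X (j + 1) ⟶ X j := fun j => Q.map (K.map (homOfLE (Nat.le_succ j)).op)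
  let F : ∀ m, X m ⟶ X 0 := fun m => Q.map (K.map (homOfLE (Nat.zero_le m)).op)
  have hFs : ∀ m, F (m + 1) = f m ≫ F m := by
    intro m
    show Q.map _ = Q.map _ ≫ Q.map _
    rw [← Functor.map_comp, ← Functor.map_comp, ← op_comp]
    rfl
  have hK0 : (K.obj (Opposite.op 0)).IsGE 0 := by
    rw [CochainComplex.isGE_iff]
    intro i hi
    rw [HomologicalComplex.exactAt_iff_isZero_homology]
    exact h0 i hi
  have : (X 0).IsGE 0 := by
    show (Q.obj (K.obj (Opposite.op 0))).IsGE 0
    infer_instance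
  have hz' : ∀ j : ℕ, j < n → (homologyFunctor A (j : ℤ)).map (f j) = 0 := fun j hj =>
    homologyMap_Q_eq_zero _ _ (hz j hj)
  have key := abstract X f F hFs n hz' n (n : ℤ) rfl le_rfl
  let G := Q.obj ((K.obj (Opposite.op n)).truncGE (n : ℤ))
  let P : X n ⟶ G := Q.map ((K.obj (Opposite.op n)).πTruncGE (n : ℤ))
  obtain ⟨U, u, d, hT⟩ := distinguished_cocone_triangle₁ P
  have hG : G.IsGE (n : ℤ) := by
    show (Q.obj ((K.obj (Opposite.op n)).truncGE (n : ℤ))).IsGE (n : ℤ)
    infer_instance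
  have hPiso : ∀ j : ℤ, (n : ℤ) ≤ j → IsIso ((homologyFunctor A j).map P) := fun j hj =>
    isIso_homologyMap_Q _ j (CochainComplex.quasiIsoAt_πTruncGE _ _ _ hj)
  have hU : U.IsLE ((n : ℤ) - 1) := by
    rw [isLE_iff]
    intro j hj
    refine isZero_homology_obj₁ _ hT j (j - 1) (by omega) ?_ ?_
    · by_cases h : (n : ℤ) ≤ j - 1
      · have := hPiso (j - 1) h
        show Epi ((homologyFunctor A (j - 1)).map P)
        infer_instance
      · exact ⟨fun _ _ _ => (isZero_of_isGE G (n : ℤ) (j - 1) (by omega)).eq_of_src _ _⟩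
    · have := hPiso j (by omega)
      show Mono ((homologyFunctor A j).map P)
      infer_instance
  have hu : u ≫ F n = 0 := by
    have := t.liftTruncLT_ι u ((n : ℤ) - 1) (n : ℤ) (by omega)
    rw [← this, Category.assoc, key, comp_zero]
  obtain ⟨φ, hφ⟩ : ∃ φ : G ⟶ X 0, F n = P ≫ φ := Triangle.yoneda_exact₂ _ hT (F n) hu
  exact ⟨φ, hφ.symm⟩

end Groth.Agent.S1113
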