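import Groth.Statements.S11131
import Mathlib.Tactic
import Mathlib.Algebra.Category.ModuleCat.Sheaf.Colimits
import Mathlib.Algebra.Category.ModuleCat.Sheaf.Abelian
import Mathlib.Algebra.Category.ModuleCat.Sheaf.PushforwardContinuous
import Mathlib.Algebra.Category.ModuleCat.Presheaf.Generator
import Mathlib.CategoryTheory.Adjunction.AdjointFunctorTheorems
import Mathlib.CategoryTheory.Abelian.Subobject
import Mathlib.CategoryTheory.Sites.CoverLifting
import Mathlib.Algebra.Category.Grp.FilteredColimits
import Mathlib.CategoryTheory.Sites.Abelian

set_option autoImplicit false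
universe u
open CategoryTheory
open ModSite

namespace Groth.Agent.S11131

open Limits

section Refl
universe v₁ v₂ v₃ u₁ u₂ u₃ w w'
variable {P : Type u₁} [Category.{v₁} P] {S : Type u₂} [Category.{v₂} S] {T : Type u₃} [Category.{v₃} T]

/-- If `a ⊣ i` with `i` fully faithful and `a ⋙ G` preserves colimits of shape `I`, so does `G`. -/
lemma preservesColimitsOfShape_of_reflector {a : P ⥤ S} {i : S ⥤ P} (adj : a ⊣ i) [i.Full] [i.Faithful]
    (G : S ⥤ T) (I : Type w) [Category.{w'} I] [HasColimitsOfShape I P]
    [PreservesColimitsOfShape I (a ⋙ G)] : PreservesColimitsOfShape I G := by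
  constructor
  intro K
  have : PreservesColimitsOfSize.{w', w} a := adj.leftAdjoint_preservesColimits
  let c' := colimit.cocone (K ⋙ i)
  let e : (K ⋙ i) ⋙ a ≅ K := Functor.isoWhiskerLeft K (asIso adj.counit) ≪≫ K.rightUnitor
  let c₀ : Cocone K := (Cocone.precompose e.inv).obj (a.mapCocone c')
  have h₀ : IsColimit c₀ :=
    (IsColimit.precomposeInvEquiv e _).symm (isColimitOfPreserves a (colimit.isColimit _))
  refine preservesColimit_of_preserves_colimit_cocone h₀ ?_
  have h₁ : IsColimit ((a ⋙ G).mapCocone c') := isColimitOfPreserves (a ⋙ G) (colimit.isColimit _)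
  let e' : ((K ⋙ i) ⋙ a) ⋙ G ≅ K ⋙ G := Functor.isoWhiskerRight e G
  have h₂ : IsColimit ((Cocone.precompose e'.inv).obj ((a ⋙ G).mapCocone c')) :=
    (IsColimit.precomposeInvEquiv e' _).symm h₁
  refine IsColimit.ofIsoColimit h₂ (Cocone.ext (Iso.refl _) ?_)
  intro j
  simp [c₀, e']

end Refl

section
variable {D : Type u} [SmallCategory D] {K : GrothendieckTopology D} (R : Sheaf K RingCat.{u})

instance toSheaf_preservesColimitsOfShape (I : Type u) [SmallCategory I] :
    PreservesColimitsOfShape I (SheafOfModules.toSheaf.{u} R) := by
  have : PreservesColimitsOfShape I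
      (PresheafOfModules.sheafification.{u} (𝟙 R.obj) ⋙ SheafOfModules.toSheaf.{u} R) :=
    preservesColimitsOfShape_of_natIso (PresheafOfModules.sheafificationCompToSheaf (𝟙 R.obj)).symm
  exact preservesColimitsOfShape_of_reflector
    (PresheafOfModules.sheafificationAdjunction (𝟙 R.obj)) _ I


/-- the separating family of sheafified free modules on representables -/
noncomputable def sepFam : ObjectProperty (SheafOfModules.{u} R) :=
  .ofObj (fun X : D => (PresheafOfModules.sheafification.{u} (𝟙 R.obj)).obj
    ((PresheafOfModules.free R.obj).obj (yoneda.obj X)))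

instance : ObjectProperty.Small.{u} (sepFam R) := by
  dsimp [sepFam]
  infer_instance

lemma sepFam_isSeparating : (sepFam R).IsSeparating := by
  intro M N f g h
  apply (SheafOfModules.forget R).map_injective
  apply PresheafOfModules.freeYoneda.isSeparating R.obj
  rintro _ ⟨X⟩ k
  let adj := PresheafOfModules.sheafificationAdjunction.{u} (𝟙 R.obj)
  let k' : (PresheafOfModules.free R.obj).obj (yoneda.obj X) ⟶
    (SheafOfModules.forget R ⋙ PresheafOfModules.restrictScalars (𝟙 R.obj)).obj M := k
  have := h _ ⟨X⟩ ((adj.homEquiv _ _).symm k')
  have h2 := congrArg (adj.homEquiv _ _) this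
  rw [adj.homEquiv_naturality_right, adj.homEquiv_naturality_right, Equiv.apply_symm_apply] at h2
  exact h2

instance : WellPowered.{u} (SheafOfModules.{u} R) :=
  wellPowered_of_isDetecting (sepFam_isSeparating R).isDetecting

end

section Main
variable {C : Type u} [SmallCategory C] {D : Type u} [SmallCategory D]
    (J : GrothendieckTopology C) (K : GrothendieckTopology D) (F : C ⥤ D)
    [F.IsContinuous J K] [F.IsCocontinuous J K]
    {S : Sheaf J RingCat.{u}} {R : Sheaf K RingCat.{u}}
    (φ : S ⟶ (F.sheafPushforwardContinuous RingCat.{u} J K).obj R)

lemma pushforward_preservesColimitsOfShape (I : Type u) [SmallCategory I] :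
    PreservesColimitsOfShape I (SheafOfModules.pushforward.{u} φ) := by
  have e : SheafOfModules.pushforward.{u} φ ⋙ SheafOfModules.toSheaf S ≅
      SheafOfModules.toSheaf R ⋙ F.sheafPushforwardContinuous AddCommGrpCat.{u} J K := Iso.refl _
  have : PreservesColimitsOfSize.{u,u} (F.sheafPushforwardContinuous AddCommGrpCat.{u} J K) :=
    (F.sheafAdjunctionCocontinuous AddCommGrpCat.{u} J K).leftAdjoint_preservesColimits
  have : PreservesColimitsOfShape I (SheafOfModules.pushforward.{u} φ ⋙ SheafOfModules.toSheaf S) :=
    preservesColimitsOfShape_of_natIso e.symm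
  have : ReflectsColimitsOfShape I (SheafOfModules.toSheaf.{u} S) :=
    reflectsColimitsOfShape_of_reflectsIsomorphisms
  exact preservesColimitsOfShape_of_reflects_of_preserves _ (SheafOfModules.toSheaf.{u} S)

end Main


/-- Let F : C ⥤ D be a functor between small sites which preserves coverings, is continuous
(precomposition with F preserves sheaves) and is cocontinuous (every covering of F y is refined by
the image of a covering of y). For sheaves of rings S on C and R on D and a ring map φ : S ⟶ F_* R,
the restriction functor from sheaves of R-modules to sheaves of S-modules (precompose with F,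
restrict scalars along φ) is a left adjoint. (The published statement asks the functor to send
coverings to coverings and to preserve fibre products of members of a covering, takes commutative
structure sheaves, and also asserts that restriction commutes with sheafification of presheaves of
modules; this row assumes only that restriction along the functor preserves sheaves, that coverings
go to coverings and that the functor is cocontinuous, and states only that the right adjoint
exists.) -/
theorem result
    {C : Type u} [SmallCategory C] {D : Type u} [SmallCategory D]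
    (J : GrothendieckTopology C) (K : GrothendieckTopology D) (F : C ⥤ D)
    [F.IsContinuous J K] (hF : CoverPreserving J K F) [F.IsCocontinuous J K]
    {S : Sheaf J RingCat.{u}} {R : Sheaf K RingCat.{u}}
    (φ : S ⟶ (F.sheafPushforwardContinuous RingCat.{u} J K).obj R) :
    (SheafOfModules.pushforward.{u} φ).IsLeftAdjoint := by
  have : PreservesColimitsOfSize.{u, u} (SheafOfModules.pushforward.{u} φ) :=
    ⟨fun {I} _ => pushforward_preservesColimitsOfShape J K F φ I⟩
  exact isLeftAdjoint_of_preservesColimits_of_isSeparating (sepFam_isSeparating R) _

end Groth.Agent.S11131
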