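import Groth.Statements.S11135
-- import your own Groth.Agent.* helpers here
import Mathlib

set_option autoImplicit false
universe u
open InvTh

namespace Groth.Agent.S11135


theorem nzd_of_forall_ne {ι : Type u} {D : ι → Type u} [∀ i, CommRing (D i)] [∀ i, IsDomain (D i)]
    (s : Π i, D i) (h : ∀ i, s i ≠ 0) : s ∈ nonZeroDivisors (Π i, D i) := by
  rw [mem_nonZeroDivisors_iff_right]
  intro x hx
  funext i
  have := congrFun hx i
  simp only [Pi.mul_apply, Pi.zero_apply] at this
  exact (mul_eq_zero.mp this).resolve_right (h i)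

open Classical in
theorem intClosed_quot {ι : Type u} (D : ι → Type u)
    [∀ i, CommRing (D i)] [∀ i, IsDomain (D i)] [∀ i, IsIntegrallyClosed (D i)]
    (R : Type u) [CommRing R] (F : Set ((Π i, D i) →+* R))
    (hF : ∀ f ∈ F, ∀ s ∈ nonZeroDivisors (Π i, D i), f s ∈ nonZeroDivisors R)
    (A : Subring (Π i, D i)) (hA : ∀ a, a ∈ A ↔ ∀ f ∈ F, ∀ f' ∈ F, f a = f' a)
    (i₀ : ι) (e : Π i, D i) (heA : e ∈ A)
    (he : ∀ l, e l = if (∀ a ∈ A, a i₀ = 0 ↔ a l = 0) then 1 else 0)
    (I : Ideal A) [I.IsPrime] (hmemI : ∀ a : A, a ∈ I ↔ (a : Π i, D i) i₀ = 0) :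
    IsIntegrallyClosed (A ⧸ I) := by
  classical
  rw [isIntegrallyClosed_iff (FractionRing (A ⧸ I))]
  intro x hx
  obtain ⟨p, q, hq, rfl⟩ := IsFractionRing.div_surjective (A ⧸ I) x
  obtain ⟨a, rfl⟩ := Ideal.Quotient.mk_surjective p
  obtain ⟨b, rfl⟩ := Ideal.Quotient.mk_surjective q
  have hb0 : (b : Π i, D i) i₀ ≠ 0 := by
    intro h
    have : Ideal.Quotient.mk I b = 0 := Ideal.Quotient.eq_zero_iff_mem.mpr ((hmemI b).mpr h)
    exact nonZeroDivisors.ne_zero hq this
  have key : ∀ j, (∀ a ∈ A, a i₀ = 0 ↔ a j = 0) →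
      ∃ d : D j, d * (b : Π i, D i) j = (a : Π i, D i) j := by
    intro j hrel
    let ψ : A ⧸ I →+* D j := Ideal.Quotient.lift I ((Pi.evalRingHom D j).comp A.subtype)
      (fun a ha => (hrel a.1 a.2).mp ((hmemI a).mp ha))
    have hψ : ∀ c : A, ψ (Ideal.Quotient.mk I c) = (c : Π i, D i) j := fun c => rfl
    have hψinj : Function.Injective ψ := by
      rw [injective_iff_map_eq_zero]
      intro y hy
      obtain ⟨c, rfl⟩ := Ideal.Quotient.mk_surjective y
      rw [hψ] at hy
      exact Ideal.Quotient.eq_zero_iff_mem.mpr ((hmemI c).mpr ((hrel c.1 c.2).mpr hy))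
    let g : A ⧸ I →+* FractionRing (D j) := (algebraMap (D j) (FractionRing (D j))).comp ψ
    have hg : Function.Injective g := (IsFractionRing.injective (D j) _).comp hψinj
    let χ : FractionRing (A ⧸ I) →+* FractionRing (D j) := IsFractionRing.lift hg
    have hχ' : ∀ y, χ (algebraMap (A ⧸ I) (FractionRing (A ⧸ I)) y) = g y := by
      intro y
      exact IsFractionRing.lift_algebraMap hg y
    have hχ : χ.comp (algebraMap (A ⧸ I) (FractionRing (A ⧸ I))) = g := by
      apply RingHom.ext
      intro y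
      rw [RingHom.comp_apply]
      exact hχ' y
    obtain ⟨P, hPm, hP⟩ := hx
    have h1 := congrArg χ hP
    rw [Polynomial.hom_eval₂, hχ, map_zero, ← Polynomial.eval₂_map] at h1
    have hint : IsIntegral (D j) (χ (algebraMap (A ⧸ I) _ (Ideal.Quotient.mk I a) /
        algebraMap (A ⧸ I) _ (Ideal.Quotient.mk I b))) := ⟨P.map ψ, hPm.map ψ, h1⟩
    obtain ⟨d, hd⟩ := IsIntegrallyClosed.isIntegral_iff.mp hint
    refine ⟨d, ?_⟩
    have hbj : (b : Π i, D i) j ≠ 0 := fun h => hb0 ((hrel b.1 b.2).mpr h)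
    rw [map_div₀, IsFractionRing.lift_algebraMap, IsFractionRing.lift_algebraMap] at hd
    change algebraMap (D j) (FractionRing (D j)) d
      = algebraMap (D j) _ ((a : Π i, D i) j) / algebraMap (D j) _ ((b : Π i, D i) j) at hd
    have hbj' : algebraMap (D j) (FractionRing (D j)) ((b : Π i, D i) j) ≠ 0 := by
      rw [Ne, map_eq_zero_iff _ (IsFractionRing.injective (D j) _)]; exact hbj
    rw [eq_div_iff hbj', ← map_mul] at hd
    exact IsFractionRing.injective (D j) _ hd
  choose d hd using key
  set dd : Π i, D i := fun j => if h : (∀ a ∈ A, a i₀ = 0 ↔ a j = 0) then d j h else 0 with hdd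
  set n : Π i, D i := (b : Π i, D i) * e + 1 - e with hn
  have hnA : n ∈ A := A.sub_mem (A.add_mem (A.mul_mem b.2 heA) A.one_mem) heA
  have hnz : n ∈ nonZeroDivisors (Π i, D i) := by
    apply nzd_of_forall_ne
    intro j
    simp only [hn, Pi.add_apply, Pi.sub_apply, Pi.mul_apply, Pi.one_apply, he j]
    split_ifs with h
    · simpa using fun h' => hb0 ((h b.1 b.2).mpr h')
    · simp
  have hmul : dd * n = (a : Π i, D i) * e := by
    funext j
    simp only [hdd, hn, Pi.add_apply, Pi.sub_apply, Pi.mul_apply, Pi.one_apply, he j]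
    split_ifs with h
    · rw [mul_one, add_sub_cancel_right, mul_one]; exact hd j h
    · simp
  have haeA : (a : Π i, D i) * e ∈ A := A.mul_mem a.2 heA
  have hddA : dd ∈ A := by
    rw [hA]
    intro f hf f' hf'
    have h1 : f n = f' n := (hA n).mp hnA f hf f' hf'
    have h2 : f ((a : Π i, D i) * e) = f' ((a : Π i, D i) * e) := (hA _).mp haeA f hf f' hf'
    have h3 : (f dd - f' dd) * f n = 0 := by
      have e1 : f dd * f n = f ((a : Π i, D i) * e) := by rw [← map_mul, hmul]
      have e2 : f' dd * f' n = f' ((a : Π i, D i) * e) := by rw [← map_mul, hmul]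
      rw [sub_mul, e1, h1, e2, h2, sub_self]
    exact sub_eq_zero.mp ((mem_nonZeroDivisors_iff_right.mp (hF f hf n hnz)) _ h3)
  refine ⟨Ideal.Quotient.mk I ⟨dd, hddA⟩, ?_⟩
  have hq0 : algebraMap (A ⧸ I) (FractionRing (A ⧸ I)) (Ideal.Quotient.mk I b) ≠ 0 := by
    rw [Ne, map_eq_zero_iff _ (IsFractionRing.injective (A ⧸ I) _)]
    exact nonZeroDivisors.ne_zero hq
  rw [eq_div_iff hq0, ← map_mul, ← map_mul]
  congr 1
  rw [Ideal.Quotient.eq, hmemI]
  have hrefl : ∀ a ∈ A, a i₀ = 0 ↔ a i₀ = 0 := fun _ _ => Iff.rfl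
  have hdd0 : dd i₀ = d i₀ hrefl := by rw [hdd]; exact dif_pos hrefl
  change dd i₀ * (b : Π i, D i) i₀ - (a : Π i, D i) i₀ = 0
  rw [hdd0, hd i₀ hrefl, sub_self]


/-- Suppose S is the product of a finite family of integrally closed domains (a finite product of normal
domains), R is any commutative ring, and F is a family of ring maps S → R each carrying
non-zero-divisors of S to non-zero-divisors of R. Then the subring A of S on which all members of F
coincide (a ∈ A iff f(a) = f'(a) for all f, f' in F) is ring-isomorphic to a product of finitely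
many integrally closed domains. -/
theorem result {ι : Type u} [Fintype ι] (D : ι → Type u)
    [∀ i, CommRing (D i)] [∀ i, IsDomain (D i)] [∀ i, IsIntegrallyClosed (D i)]
    (R : Type u) [CommRing R] (F : Set ((Π i, D i) →+* R))
    (hF : ∀ f ∈ F, ∀ s ∈ nonZeroDivisors (Π i, D i), f s ∈ nonZeroDivisors R)
    (A : Subring (Π i, D i)) (hA : ∀ a, a ∈ A ↔ ∀ f ∈ F, ∀ f' ∈ F, f a = f' a) :
    ∃ (κ : Type u) (_ : Fintype κ) (E : κ → Type u) (_ : ∀ j, CommRing (E j)) (_ : ∀ j, IsDomain (E j))
      (_ : ∀ j, IsIntegrallyClosed (E j)), Nonempty (A ≃+* Π j, E j) := by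
  classical
  have cancel : ∀ f ∈ F, ∀ s ∈ nonZeroDivisors (Π i, D i), ∀ x : R, x * f s = 0 → x = 0 := by
    intro f hf s hs x hx
    exact (mem_nonZeroDivisors_iff_right.mp (hF f hf s hs)) x hx
  -- support idempotents
  have supp_mem : ∀ a ∈ A, (fun i => if a i = 0 then (0 : D i) else 1) ∈ A := by
    intro a ha
    set e : Π i, D i := fun i => if a i = 0 then (0 : D i) else 1 with he
    have hae : a * e = a := by
      funext i; simp only [Pi.mul_apply, he]; split_ifs with h <;> simp [h]
    have hee : e * e = e := by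
      funext i; simp only [Pi.mul_apply, he]; split_ifs with h <;> simp
    have hn : a + 1 - e ∈ nonZeroDivisors (Π i, D i) := by
      apply nzd_of_forall_ne; intro i
      simp only [Pi.add_apply, Pi.sub_apply, Pi.one_apply, he]
      split_ifs with h
      · simp [h]
      · simpa using h
    rw [hA]
    intro f hf f' hf'
    have hc : f a = f' a := (hA a).mp ha f hf f' hf'
    have key : ∀ g ∈ F, ∀ g' ∈ F, g a = g' a → g' e * (1 - g e) = 0 := by
      intro g hg g' hg' hcc
      apply cancel g' hg' _ hn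
      have h1 : g a * g e = g a := by rw [← map_mul, hae]
      have h2 : g' e * g' e = g' e := by rw [← map_mul, hee]
      rw [map_sub, map_add, map_one, ← hcc]
      linear_combination (-(g' e)) * h1 - (1 - g e) * h2
    have k1 := key f hf f' hf' hc
    have k2 := key f' hf' f hf hc.symm
    linear_combination k2 - k1
  -- the equivalence relation
  let rel : ι → ι → Prop := fun i j => ∀ a ∈ A, (a i = 0 ↔ a j = 0)
  have rel_refl : ∀ i, rel i i := fun i a _ => Iff.rfl
  have rel_symm : ∀ {i j}, rel i j → rel j i := fun h a ha => (h a ha).symm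
  have rel_trans : ∀ {i j k}, rel i j → rel j k → rel i k := fun h1 h2 a ha => (h1 a ha).trans (h2 a ha)
  let s : Setoid ι := ⟨rel, ⟨rel_refl, rel_symm, rel_trans⟩⟩
  -- separating elements
  have sep : ∀ i j, ∃ g ∈ A, (rel i j → g = 1) ∧ (¬ rel i j → g i = 1 ∧ g j = 0) := by
    intro i j
    by_cases h : rel i j
    · exact ⟨1, A.one_mem, fun _ => rfl, fun h' => absurd h h'⟩
    · have h' : ∃ a ∈ A, ¬ (a i = 0 ↔ a j = 0) := by
        by_contra hc
        push Not at hc
        exact h hc
      obtain ⟨a, ha, hne⟩ := h'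
      by_cases hi : a i = 0
      · have hj : a j ≠ 0 := fun hj => hne ⟨fun _ => hj, fun _ => hi⟩
        refine ⟨1 - (fun i => if a i = 0 then (0 : D i) else 1), A.sub_mem A.one_mem (supp_mem a ha),
          fun h'' => absurd h'' h, fun _ => ⟨?_, ?_⟩⟩
        · simp [hi]
        · simp [hj]
      · have hj : a j = 0 := by
          by_contra hj
          exact hne ⟨fun h0 => absurd h0 hi, fun h0 => absurd h0 hj⟩
        refine ⟨(fun i => if a i = 0 then (0 : D i) else 1), supp_mem a ha,
          fun h'' => absurd h'' h, fun _ => ⟨?_, ?_⟩⟩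
        · simp [hi]
        · simp [hj]
  choose g hgA hg1 hg2 using sep
  -- class idempotents
  have cls : ∀ i, ∃ e ∈ A, ∀ l, e l = if rel i l then 1 else 0 := by
    intro i
    refine ⟨∏ j, g i j, Subring.prod_mem A (fun j _ => hgA i j), ?_⟩
    intro l
    rw [Finset.prod_apply]
    split_ifs with h
    · apply Finset.prod_eq_one
      intro j _
      by_cases hij : rel i j
      · rw [hg1 i j hij]; rfl
      · have h1 : (1 - g i j) ∈ A := A.sub_mem A.one_mem (hgA i j)
        have h2 : (1 - g i j) i = 0 := by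
          simp [(hg2 i j hij).1]
        have h3 := (h _ h1).mp h2
        simp only [Pi.sub_apply, Pi.one_apply] at h3
        exact (sub_eq_zero.mp h3).symm
    · exact Finset.prod_eq_zero (Finset.mem_univ l) (hg2 i l h).2
  choose ecls heclsA hecls using cls
  -- index type
  let κ := Quotient s
  have : Fintype κ := Fintype.ofFinite κ
  let rep : κ → ι := Quotient.out
  have hrep : ∀ i, rel (rep (Quotient.mk s i)) i := fun i => Quotient.mk_out (s := s) i
  let I : κ → Ideal A := fun k => RingHom.ker ((Pi.evalRingHom D (rep k)).comp A.subtype)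
  have hmemI : ∀ k (a : A), a ∈ I k ↔ (a : Π i, D i) (rep k) = 0 := fun k a => by
    change a ∈ RingHom.ker _ ↔ _
    rw [RingHom.mem_ker]; rfl
  have : ∀ k, (I k).IsPrime := fun k => RingHom.ker_isPrime _
  let Φ : A →+* Π k, A ⧸ I k := RingHom.pi (fun k => Ideal.Quotient.mk (I k))
  have hΦinj : Function.Injective Φ := by
    rw [injective_iff_map_eq_zero]
    intro a ha
    apply Subtype.ext
    funext i
    have h1 : Ideal.Quotient.mk (I (Quotient.mk s i)) a = 0 := congrFun ha (Quotient.mk s i)
    rw [Ideal.Quotient.eq_zero_iff_mem, hmemI] at h1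
    exact (hrep i a.1 a.2).mp h1
  have hΦsurj : Function.Surjective Φ := by
    intro y
    have : ∀ k, ∃ a : A, Ideal.Quotient.mk (I k) a = y k := fun k => Ideal.Quotient.mk_surjective (y k)
    choose a ha using this
    refine ⟨∑ k, (⟨ecls (rep k), heclsA (rep k)⟩ : A) * a k, ?_⟩
    funext k
    change Ideal.Quotient.mk (I k) _ = y k
    rw [← ha k, Ideal.Quotient.eq, hmemI]
    push_cast
    simp only [Pi.sub_apply, Finset.sum_apply, Pi.mul_apply]
    rw [Finset.sum_eq_single k]
    · rw [hecls, if_pos (rel_refl _), one_mul, sub_self]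
    · intro k' _ hk'
      rw [hecls, if_neg, zero_mul]
      intro hrel
      apply hk'
      have : Quotient.mk s (rep k') = Quotient.mk s (rep k) := Quotient.sound hrel
      rwa [Quotient.out_eq, Quotient.out_eq] at this
    · intro h; exact absurd (Finset.mem_univ k) h
  refine ⟨κ, inferInstance, fun k => A ⧸ I k, fun k => inferInstance,
    fun k => Ideal.Quotient.isDomain (I k), ?_, ⟨RingEquiv.ofBijective Φ ⟨hΦinj, hΦsurj⟩⟩⟩
  intro k
  exact intClosed_quot D R F hF A hA (rep k) (ecls (rep k)) (heclsA (rep k)) (hecls (rep k)) (I k)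
    (hmemI k)


end Groth.Agent.S11135
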