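import Groth.Statements.S11136
import Mathlib.RingTheory.Invariant.Basic
import Mathlib.RingTheory.Spectrum.Prime.Noetherian
import Mathlib.Topology.Connected.Clopen
import Mathlib.Topology.Homeomorph.Lemmas

set_option autoImplicit false
universe u v
open InvTh

namespace Groth.Agent.S11136

section aux

theorem isOpen_cc_of_noeth {W : Type*} [TopologicalSpace W]
    [TopologicalSpace.NoetherianSpace W] (x : W) : IsOpen (connectedComponent x) := by
  have hfin : (irreducibleComponents W).Finite :=
    TopologicalSpace.NoetherianSpace.finite_irreducibleComponents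
  have key : (connectedComponent x)ᶜ =
      ⋃₀ {Z ∈ irreducibleComponents W | ¬ Z ⊆ connectedComponent x} := by
    ext y
    simp only [Set.mem_compl_iff, Set.mem_sUnion, Set.mem_ofPred_eq]
    constructor
    · intro hy
      refine ⟨irreducibleComponent y, ⟨irreducibleComponent_mem_irreducibleComponents y, ?_⟩,
        mem_irreducibleComponent⟩
      intro h
      exact hy (h mem_irreducibleComponent)
    · rintro ⟨Z, ⟨hZ, hZx⟩, hyZ⟩ hy
      apply hZx
      have : Z ⊆ connectedComponent y :=
        hZ.1.isConnected.isPreconnected.subset_connectedComponent hyZ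
      rwa [← connectedComponent_eq hy] at this
  rw [← isClosed_compl_iff, key, Set.sUnion_eq_biUnion]
  refine Set.Finite.isClosed_biUnion (hfin.subset fun Z hZ => hZ.1) ?_
  intro Z hZ
  exact isClosed_of_mem_irreducibleComponents Z hZ.1

theorem homeo_image_cc {X Y : Type*} [TopologicalSpace X] [TopologicalSpace Y] (h : X ≃ₜ Y) (x : X) :
    h '' connectedComponent x = connectedComponent (h x) := by
  apply subset_antisymm (h.continuous.image_connectedComponent_subset x)
  have := h.symm.continuous.image_connectedComponent_subset (h x)
  rw [h.symm_apply_apply] at this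
  intro z hz
  exact ⟨h.symm z, this ⟨z, hz, rfl⟩, h.apply_symm_apply z⟩

open Pointwise in
theorem main
    (A : Type u) (R : Type v) [CommRing A] [CommRing R] [Algebra A R] [IsNoetherianRing R]
    (G : Type u) [Group G] [Finite G] [MulSemiringAction G R] [SMulCommClass G A R]
    [Algebra.IsInvariant A R G] [FaithfulSMul A R]
    [ConnectedSpace (PrimeSpectrum A)] (x y : PrimeSpectrum R) :
    ∃ g : G, PrimeSpectrum.comap (MulSemiringAction.toRingHom G R g) '' connectedComponent x =
      connectedComponent y := by
  classical
  -- the homeomorphisms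
  let h : G → (PrimeSpectrum R ≃ₜ PrimeSpectrum R) := fun g =>
    (PrimeSpectrum.homeomorphOfRingEquiv (MulSemiringAction.toRingAut G R g)).symm
  have hh : ∀ g, (h g : PrimeSpectrum R → PrimeSpectrum R) =
      PrimeSpectrum.comap (MulSemiringAction.toRingHom G R g) := by
    intro g; rfl
  suffices hy : ∃ g : G, y ∈ PrimeSpectrum.comap (MulSemiringAction.toRingHom G R g) ''
      connectedComponent x by
    obtain ⟨g, hg⟩ := hy
    refine ⟨g, ?_⟩
    rw [← hh, homeo_image_cc] 
    rw [← hh, homeo_image_cc] at hg
    exact (connectedComponent_eq hg)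
  have hint : Algebra.IsIntegral A R := Algebra.IsInvariant.isIntegral A R G
  set π : PrimeSpectrum R → PrimeSpectrum A := PrimeSpectrum.comap (algebraMap A R) with hπ
  have hclosed : IsClosedMap π :=
    PrimeSpectrum.isClosedMap_comap_of_isIntegral _ (algebraMap_isIntegral_iff.mpr hint)
  have hsurj : Function.Surjective π :=
    Algebra.IsIntegral.comap_surjective _ _
  set T : Set (PrimeSpectrum R) := ⋃ g : G, (h g) '' connectedComponent x with hT
  have hTclopen : IsClopen T := by
    have : Finite G := inferInstance
    refine isClopen_iUnion_of_finite fun g => ?_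
    have hc : IsClopen (connectedComponent x) :=
      ⟨isClosed_connectedComponent, isOpen_cc_of_noeth x⟩
    exact ⟨(h g).isClosedMap _ hc.1, (h g).isOpenMap _ hc.2⟩
  -- fibres are orbits
  have hfib : ∀ z w : PrimeSpectrum R, π z = π w → ∃ g : G, w = h g z := by
    intro z w hzw
    have h1 : z.asIdeal.under A = w.asIdeal.under A := by
      have := congrArg PrimeSpectrum.asIdeal hzw
      simpa [hπ, Ideal.under] using this
    obtain ⟨g, hg⟩ := Algebra.IsInvariant.exists_smul_of_under_eq A R G z.asIdeal w.asIdeal h1
    refine ⟨g⁻¹, ?_⟩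
    ext1
    rw [hg, Ideal.pointwise_smul_eq_comap]
    show _ = Ideal.comap _ _
    congr 1
    ext r
    simp
  -- T is stable
  have hTstab : ∀ z ∈ T, ∀ g : G, h g z ∈ T := by
    intro z hz g
    rw [hT, Set.mem_iUnion] at hz ⊢
    obtain ⟨g', c, hc, rfl⟩ := hz
    refine ⟨g' * g, c, hc, ?_⟩
    ext1
    show Ideal.comap _ c.asIdeal = Ideal.comap _ (Ideal.comap _ c.asIdeal)
    rw [Ideal.comap_comap]
    congr 1
    ext r
    simp [mul_smul]
  have hdisj : Disjoint (π '' T) (π '' Tᶜ) := by
    rw [Set.disjoint_left]
    rintro _ ⟨z, hz, rfl⟩ ⟨w, hw, hzw⟩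
    obtain ⟨g, hg⟩ := hfib z w hzw.symm
    exact hw (hg ▸ hTstab z hz g)
  have hcover : π '' T ∪ π '' Tᶜ = Set.univ := by
    rw [← Set.image_union, Set.union_compl_self, Set.image_univ]
    exact hsurj.range_eq
  have hπT : IsClopen (π '' T) := by
    refine ⟨hclosed _ hTclopen.1, ?_⟩
    have : π '' T = (π '' Tᶜ)ᶜ := by
      ext a
      constructor
      · intro ha ha'
        exact Set.disjoint_left.mp hdisj ha ha'
      · intro ha
        have : a ∈ π '' T ∪ π '' Tᶜ := hcover ▸ Set.mem_univ a
        rcases this with h1 | h1
        · exact h1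
        · exact absurd h1 ha
    rw [this]
    exact (hclosed _ hTclopen.compl.1).isOpen_compl
  have hxT : x ∈ T := by
    rw [hT, Set.mem_iUnion]
    refine ⟨1, x, mem_connectedComponent, ?_⟩
    ext1
    show Ideal.comap _ x.asIdeal = x.asIdeal
    ext r
    simp
  have huniv : π '' T = Set.univ :=
    isClopen_iff.mp hπT |>.resolve_left (Set.Nonempty.ne_empty ⟨π x, x, hxT, rfl⟩)
  have hyT : y ∈ T := by
    have : π y ∈ π '' T := huniv ▸ Set.mem_univ _
    obtain ⟨z, hz, hzy⟩ := this
    obtain ⟨g, hg⟩ := hfib z y hzy
    exact hg ▸ hTstab z hz g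
  rw [hT, Set.mem_iUnion] at hyT
  obtain ⟨g, hg⟩ := hyT
  exact ⟨g, by rwa [← hh]⟩

end aux

/-- Let a finite group G act on a Noetherian commutative ring R by ring automorphisms, with ring of
invariants A (A → R injective with image the fixed elements). When the prime spectrum of A is
connected, any two connected components of Spec R are exchanged by some element of G: for all points
x, y of Spec R there is g in G whose induced self-map of Spec R carries the connected component of x
onto the connected component of y. -/
theorem result
    (A : Type u) (R : Type v) [CommRing A] [CommRing R] [Algebra A R] [IsNoetherianRing R]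
    (G : Type u) [Group G] [Finite G] [MulSemiringAction G R] [SMulCommClass G A R]
    [Algebra.IsInvariant A R G] [FaithfulSMul A R]
    [ConnectedSpace (PrimeSpectrum A)] (x y : PrimeSpectrum R) :
    ∃ g : G, PrimeSpectrum.comap (MulSemiringAction.toRingHom G R g) '' connectedComponent x =
      connectedComponent y := by
  exact main A R G x y

end Groth.Agent.S11136
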