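import Groth.Statements.S11139
import Groth.Agent.Lib.Helper7.HochsterEagon
import Groth.Agent.Lib.Helper7.HopfOrbit
import Groth.Agent.Lib.Helper26.ComodReynolds2

set_option autoImplicit false
universe u
open TensorProduct
open InvTh

namespace Groth.Agent.S11139

/-- Let k be a field and H a finite-dimensional commutative Hopf algebra over k (the coordinate ring of
a finite k-group scheme G) which is linearly reductive, i.e. every finite-dimensional H-comodule is
semisimple. Let R be a commutative k-algebra of finite type with an H-comodule structure whose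
coaction R → R ⊗ H is multiplicative and unital (an action of G on Spec R), and let A be the
k-subalgebra of invariants, the elements a whose coaction is a ⊗ 1. If the ring R satisfies Serre's
condition (S_r), then (S_r) holds both for R viewed as a module over A and for the ring A itself. -/
theorem result (k : Type u) [Field k]
    (H : Type u) [CommRing H] [HopfAlgebra k H] [Module.Finite k H] (hG : HopfRep.IsLinearlyReductive k H)
    (R : Type u) [CommRing R] [Algebra k R] [Algebra.FiniteType k R] [HopfRep.Comod k H R]
    (hmul : ∀ x y : R, HopfRep.Comod.coact (k := k) (A := H) (x * y) =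
        HopfRep.Comod.coact (k := k) (A := H) x * HopfRep.Comod.coact (k := k) (A := H) y)
    (hone : HopfRep.Comod.coact (k := k) (A := H) (1 : R) = 1)
    (A : Subalgebra k R)
    (hA : ∀ a : R, a ∈ A ↔ HopfRep.Comod.coact (k := k) (A := H) a = a ⊗ₜ[k] (1 : H))
    (r : ℕ) (hR : LocCoh.HasSk r R R) :
    LocCoh.HasSk r A R ∧ LocCoh.HasSk r A A := by
  open Groth.Agent.Lib.Helper26.FiniteInv Groth.Agent.Lib.Helper26.Comod
    Groth.Agent.Lib.Helper7.HopfOrbit in
  haveI hco : GLin.IsCoactAlg k H R := ⟨hone, hmul⟩
  have hAeq : A = GLin.invariants k H R := by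
    ext a
    rw [hA]
    rfl
  subst hAeq
  obtain ⟨hft, hfin⟩ := finite_and_finiteType (k := k) (A := H) (R := R)
  haveI := hfin
  haveI : IsNoetherianRing (GLin.invariants k H R) := Algebra.FiniteType.isNoetherianRing k _
  haveI : IsNoetherianRing R := Algebra.FiniteType.isNoetherianRing k R
  obtain ⟨I, hI, hI1⟩ := exists_isIntegral hG
  have hmulA : ∀ (a : GLin.invariants k H R) (x : R),
      reyn R I ((a : R) * x) = (a : R) * reyn R I x := by
    intro a x
    have h1 := reyn_comm I (LinearMap.mulRight k (a : R))
      (isComodHom_mul_invariant (a : R) a.2) x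
    simp only [LinearMap.mulRight_apply] at h1
    rw [mul_comm, ← h1, mul_comm]
  let ρ : R →ₗ[GLin.invariants k H R] GLin.invariants k H R :=
    { toFun := fun x => ⟨reyn R I x, reyn_mem_fixedPts hI x⟩
      map_add' := fun x y => Subtype.ext (map_add (reyn R I) x y)
      map_smul' := fun a x => Subtype.ext (hmulA a x) }
  have hρ : ∀ a : GLin.invariants k H R, ρ (algebraMap (GLin.invariants k H R) R a) = a :=
    fun a => Subtype.ext (reyn_eq_self hI1 (a : R) a.2)
  have key := Groth.Agent.Lib.Helper7.HochsterEagon.hasSk (A := GLin.invariants k H R) (R := R)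
    Subtype.val_injective
    (fun q _ => height_comap_invariants q) ρ hρ r hR
  have hmod : (Subalgebra.moduleLeft (GLin.invariants k H R) :
      Module (GLin.invariants k H R) R) = Algebra.toModule :=
    Module.ext' _ _ (fun a x => rfl)
  refine ⟨?_, key.2⟩
  rw [hmod]
  exact key.1

end Groth.Agent.S11139
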