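import Groth.Statements.S11141
-- import your own Groth.Agent.* helpers here
import Groth.Agent.S11135
import Groth.Agent.Lib.Helper26.Shear

set_option autoImplicit false
universe u
open TensorProduct
open InvTh

namespace Groth.Agent.S11141

/-- Let k be a field, H a finitely generated commutative Hopf algebra over k (the coordinate ring of a
group scheme affine and of finite type over k), and S a commutative k-algebra which is
ring-isomorphic to a finite product of normal (integrally closed) domains and carries an H-comodule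
structure whose coaction S → S ⊗ H is multiplicative and unital. Then the k-subalgebra of invariants
of S, the elements s whose coaction is s ⊗ 1, is again ring-isomorphic to a finite product of normal
domains. -/
theorem result (k : Type u) [Field k]
    (H : Type u) [CommRing H] [HopfAlgebra k H] [Algebra.FiniteType k H]
    (S : Type u) [CommRing S] [Algebra k S] [HopfRep.Comod k H S]
    (hmul : ∀ x y : S, HopfRep.Comod.coact (k := k) (A := H) (x * y) =
        HopfRep.Comod.coact (k := k) (A := H) x * HopfRep.Comod.coact (k := k) (A := H) y)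
    (hone : HopfRep.Comod.coact (k := k) (A := H) (1 : S) = 1)
    {ι : Type u} [Fintype ι] (D : ι → Type u) [∀ i, CommRing (D i)] [∀ i, IsDomain (D i)]
    [∀ i, IsIntegrallyClosed (D i)] (e : S ≃+* Π i, D i)
    (A : Subalgebra k S)
    (hA : ∀ a : S, a ∈ A ↔ HopfRep.Comod.coact (k := k) (A := H) a = a ⊗ₜ[k] (1 : H)) :
    ∃ (κ : Type u) (_ : Fintype κ) (E : κ → Type u) (_ : ∀ j, CommRing (E j)) (_ : ∀ j, IsDomain (E j))
      (_ : ∀ j, IsIntegrallyClosed (E j)), Nonempty (A ≃+* Π j, E j) := by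
  classical
  haveI : GLin.IsCoactAlg k H S := ⟨hone, hmul⟩
  let ρ : S →+* S ⊗[k] H := (GLin.coactAlgHom k H S).toRingHom
  let j : S →+* S ⊗[k] H := (Algebra.TensorProduct.includeLeft : S →ₐ[k] S ⊗[k] H).toRingHom
  have hρ : ∀ s : S, ρ s = HopfRep.Comod.coact (k := k) (A := H) s := fun _ => rfl
  have hj : ∀ s : S, j s = s ⊗ₜ[k] (1 : H) := fun _ => rfl
  let f₁ : (Π i, D i) →+* S ⊗[k] H := ρ.comp e.symm.toRingHom
  let f₂ : (Π i, D i) →+* S ⊗[k] H := j.comp e.symm.toRingHom
  have hf₁ : ∀ a, f₁ a = HopfRep.Comod.coact (k := k) (A := H) (e.symm a) := fun _ => rfl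
  have hf₂ : ∀ a, f₂ a = (e.symm a) ⊗ₜ[k] (1 : H) := fun _ => rfl
  let F : Set ((Π i, D i) →+* S ⊗[k] H) := {f₁, f₂}
  have hnzd : ∀ s ∈ nonZeroDivisors (Π i, D i), e.symm s ∈ nonZeroDivisors S := by
    intro s hs
    rw [← MulEquivClass.map_nonZeroDivisors e.symm]
    exact ⟨s, hs, rfl⟩
  have hF : ∀ f ∈ F, ∀ s ∈ nonZeroDivisors (Π i, D i), f s ∈ nonZeroDivisors (S ⊗[k] H) := by
    intro f hf s hs
    simp only [F, Set.mem_insert_iff, Set.mem_singleton_iff] at hf
    rcases hf with rfl | rfl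
    · rw [hf₁]
      exact Groth.Agent.Lib.Helper26.Shear.coact_mem_nonZeroDivisors _ (hnzd s hs)
    · rw [hf₂]
      exact Groth.Agent.Lib.Helper26.Shear.tmul_one_mem_nonZeroDivisors _ (hnzd s hs)
  let A' : Subring (Π i, D i) := A.toSubring.map e.toRingHom
  have hA' : ∀ a, a ∈ A' ↔ ∀ f ∈ F, ∀ f' ∈ F, f a = f' a := by
    intro a
    constructor
    · rintro ⟨a₀, ha₀, rfl⟩
      have ha₀' : a₀ ∈ A := ha₀
      have h12 : f₁ (e.toRingHom a₀) = f₂ (e.toRingHom a₀) := by
        rw [hf₁, hf₂]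
        change HopfRep.Comod.coact (k := k) (A := H) (e.symm (e a₀)) = (e.symm (e a₀)) ⊗ₜ[k] (1 : H)
        rw [RingEquiv.symm_apply_apply]
        exact (hA a₀).mp ha₀'
      intro f hf f' hf'
      simp only [F, Set.mem_insert_iff, Set.mem_singleton_iff] at hf hf'
      rcases hf with rfl | rfl <;> rcases hf' with rfl | rfl
      · rfl
      · exact h12
      · exact h12.symm
      · rfl
    · intro h
      have h12 := h f₁ (by simp [F]) f₂ (by simp [F])
      rw [hf₁, hf₂] at h12
      have hmem : e.symm a ∈ A := (hA _).mpr h12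
      exact ⟨e.symm a, hmem, by simp⟩
  obtain ⟨κ, hκ, E, hE1, hE2, hE3, ⟨φ⟩⟩ :=
    Groth.Agent.S11135.result D (S ⊗[k] H) F hF A' hA'
  refine ⟨κ, hκ, E, hE1, hE2, hE3, ⟨RingEquiv.trans ?_ φ⟩⟩
  let g : A →+* A' := RingHom.codRestrict (e.toRingHom.comp A.val.toRingHom) A'
    (fun x => ⟨x.1, x.2, rfl⟩)
  refine RingEquiv.ofBijective g ⟨?_, ?_⟩
  · intro x y hxy
    have h1 : e (x : S) = e (y : S) := congrArg Subtype.val hxy
    exact Subtype.ext (e.injective h1)
  · rintro ⟨y, a₀, ha₀, rfl⟩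
    exact ⟨⟨a₀, ha₀⟩, rfl⟩

end Groth.Agent.S11141
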