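import Groth.Statements.S11142
import Mathlib.AlgebraicGeometry.Morphisms.UniversallyOpen
import Mathlib.AlgebraicGeometry.Properties
-- import your own Groth.Agent.* helpers here

set_option autoImplicit false
universe u
open CategoryTheory AlgebraicGeometry
open FlatMor

namespace Groth.Agent.S11142

open AlgebraicGeometry in
theorem exists_generalization_mem (Y : Scheme.{u}) [IsLocallyNoetherian Y]
    (U : Set Y) (hUo : IsOpen U) (hU : Dense U) (y : Y) : ∃ η ∈ U, η ⤳ y := by
  obtain ⟨_, ⟨W, hW, rfl⟩, hyW, -⟩ :=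
    Y.isBasis_affineOpens.exists_subset_of_mem_open (Set.mem_univ y) isOpen_univ
  have : IsNoetherianRing Γ(Y, W) := IsLocallyNoetherian.component_noetherian ⟨W, hW⟩
  have hWN : TopologicalSpace.NoetherianSpace W := noetherianSpace_of_isAffineOpen W hW
  have hZ := irreducibleComponent_mem_irreducibleComponents y
  have hcl : IsClosed (irreducibleComponent y) := isClosed_irreducibleComponent
  have hη := hZ.1.isGenericPoint_genericPoint hcl
  set η := hZ.1.genericPoint with hηdef
  refine ⟨η, ?_, hη.specializes mem_irreducibleComponent⟩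
  rw [hη.mem_open_set_iff hUo]
  have hemb : Topology.IsOpenEmbedding (Subtype.val : W → Y) := W.2.isOpenEmbedding_subtypeVal
  have hZW : (Subtype.val : W → Y) ⁻¹' (irreducibleComponent y) ∈ irreducibleComponents W :=
    preimage_mem_irreducibleComponents hZ hemb
      ⟨y, mem_irreducibleComponent, ⟨⟨y, hyW⟩, rfl⟩⟩
  obtain ⟨o, ho, hone, hoZ⟩ :=
    TopologicalSpace.NoetherianSpace.exists_isOpen_nonempty_subset_irreducibleComponent _ hZW
  have ho' : IsOpen (Subtype.val '' o) := hemb.isOpenMap _ ho
  obtain ⟨z, hz⟩ := hU.inter_open_nonempty _ ho' (hone.image _)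
  obtain ⟨⟨w, hwo, rfl⟩, hzU⟩ := hz
  exact ⟨w.1, hoZ hwo, hzU⟩

/-- For a flat morphism f : X → Y between locally Noetherian schemes, the preimage under f of any dense
open subset of Y is dense in X. -/
theorem result (X Y : Scheme.{u}) [IsLocallyNoetherian X]
    [IsLocallyNoetherian Y] (f : X ⟶ Y) [Flat f] (U : Y.Opens) (hU : Dense (U : Set Y)) :
    Dense ((f ⁻¹ᵁ U : X.Opens) : Set X) := by
  rw [dense_iff_inter_open]
  intro V hV ⟨x, hx⟩
  obtain ⟨η, hηU, hη⟩ := exists_generalization_mem Y U U.2 hU (f x)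
  obtain ⟨x', hx', hfx'⟩ := Flat.generalizingMap f hη
  exact ⟨x', hx'.mem_open hV hx, by simpa [hfx'] using hηU⟩

end Groth.Agent.S11142
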