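import Groth.Statements.S11147
import Mathlib.RingTheory.Unramified.Field
import Mathlib.FieldTheory.PurelyInseparable.PerfectClosure
import Mathlib.RingTheory.TensorProduct.Free

set_option autoImplicit false
universe u
open FrobAlg

namespace Groth.Agent.S11147

open TensorProduct FrobAlg

theorem relFrob_tmul (p : ℕ) [Fact p.Prime] (A : Type u) [CommRing A] [CharP A p] (B : Type u)
    [CommRing B] [Algebra A B] [CharP B p] (b : B) (a : Twist p A) :
    relFrob p A B (b ⊗ₜ a) = b ^ p * algebraMap A B ((toTwist p A).symm a) := by
  simp [relFrob, frobHom, inclHom]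
  rw [frobenius_def]

theorem D_relFrob (p : ℕ) [Fact p.Prime] (A : Type u) [CommRing A] [CharP A p] (B : Type u)
    [CommRing B] [Algebra A B] [CharP B p] (t : BaseChange p A B) :
    KaehlerDifferential.D A B (relFrob p A B t) = 0 := by
  induction t using TensorProduct.induction_on with
  | zero => simp
  | tmul b a =>
    rw [relFrob_tmul, Derivation.leibniz, Derivation.map_algebraMap, Derivation.leibniz_pow,
      ← Nat.cast_smul_eq_nsmul B p, CharP.cast_eq_zero B p, zero_smul, smul_zero, smul_zero,
      add_zero]
  | add x y hx hy => rw [map_add, map_add, hx, hy, add_zero]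

theorem isSeparable_of_surjective (p : ℕ) [Fact p.Prime] (k K : Type u) [Field k]
    [Field K] [Algebra k K] [CharP k p] [CharP K p] (hfg : (⊤ : IntermediateField k K).FG)
    (h : Function.Surjective (FrobAlg.relFrob p k K)) : Algebra.IsSeparable k K := by
  have : Algebra.EssFiniteType k K := IntermediateField.fg_top_iff.mp hfg
  rw [← Algebra.FormallyUnramified.iff_isSeparable]
  constructor
  have htop : (⊤ : Submodule K Ω[K⁄k]) = ⊥ := by
    rw [← KaehlerDifferential.span_range_derivation, Submodule.span_eq_bot]
    rintro _ ⟨x, rfl⟩
    obtain ⟨t, rfl⟩ := h x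
    exact D_relFrob p k K t
  refine ⟨fun a b => ?_⟩
  have ha : a ∈ (⊤ : Submodule K Ω[K⁄k]) := trivial
  have hb : b ∈ (⊤ : Submodule K Ω[K⁄k]) := trivial
  rw [htop, Submodule.mem_bot] at ha hb
  rw [ha, hb]

theorem bijective_of_isSeparable (p : ℕ) [Fact p.Prime] (k K : Type u) [Field k]
    [Field K] [Algebra k K] [CharP k p] [CharP K p] [Algebra.IsSeparable k K] :
    Function.Bijective (FrobAlg.relFrob p k K) := by
  classical
  have hp : p.Prime := Fact.out
  have : ExpChar k p := ExpChar.prime hp
  let ι := Module.Free.ChooseBasisIndex k K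
  let b : Module.Basis ι k K := Module.Free.chooseBasis k K
  let b' : Module.Basis ι k K := b.mapPowExpCharPowOfIsSeparable p 1
  have hb' : ∀ i, b' i = b i ^ p := by
    intro i
    simp [b', Module.Basis.mapPowExpCharPowOfIsSeparable]
  let B : Module.Basis ι (Twist p k) (Twist p k ⊗[k] K) := Algebra.TensorProduct.basis (Twist p k) b
  let c : K ⊗[k] Twist p k ≃ₗ[k] Twist p k ⊗[k] K := TensorProduct.comm k K (Twist p k)
  let e1 : (ι →₀ Twist p k) ≃+ (ι →₀ k) := Finsupp.mapRange.addEquiv (toTwist p k).symm.toAddEquiv
  have hg : ∀ f : ι →₀ Twist p k,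
      relFrob p k K (c.symm (B.repr.symm f)) = b'.repr.symm (e1 f) := by
    intro f
    induction f using Finsupp.induction_linear with
    | zero => simp
    | add f g hf hg => simp only [map_add, hf, hg]
    | single i a =>
      rw [Module.Basis.repr_symm_single, Algebra.TensorProduct.basis_apply, TensorProduct.smul_tmul',
        smul_eq_mul, mul_one, TensorProduct.comm_symm_tmul, relFrob_tmul]
      simp only [e1, Finsupp.mapRange.addEquiv_apply, Finsupp.mapRange_single,
        Module.Basis.repr_symm_single, hb', Algebra.smul_def]
      rw [mul_comm]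
      rfl
  have : (relFrob p k K : _ → K) = (b'.repr.symm ∘ e1) ∘ (B.repr ∘ c) := by
    funext x
    simp only [Function.comp]
    rw [← hg]
    simp
  rw [this]
  exact (b'.repr.symm.bijective.comp e1.bijective).comp (B.repr.bijective.comp c.bijective)

/-- Let p be a prime and k ⊆ K fields of characteristic p such that K is finitely generated over k as a
field. Then the relative Frobenius ring homomorphism K ⊗_{k,Frob} k → K, b ⊗ a ↦ b^p a (the
Radu–André homomorphism of k → K), is bijective exactly when K is algebraic over k and every element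
of K is separable over k. -/
theorem result (p : ℕ) [Fact p.Prime] (k K : Type u) [Field k]
    [Field K] [Algebra k K] [CharP k p] [CharP K p] (hfg : (⊤ : IntermediateField k K).FG) :
    Function.Bijective (FrobAlg.relFrob p k K) ↔ Algebra.IsSeparable k K := by
  constructor
  · intro h
    exact isSeparable_of_surjective p k K hfg h.2
  · intro h
    exact bijective_of_isSeparable p k K

end Groth.Agent.S11147
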