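import Groth.Statements.S11164
import Groth.Agent.Lib.Helper23.ExtZ.Unit
import Groth.Agent.Lib.Helper16.Fl2

set_option autoImplicit false
universe u
open CategoryTheory CategoryTheory.Limits AlgebraicGeometry
attribute [local instance] HasDerivedCategory.standard
open Coherent

namespace Groth.Agent.S11164

/-- Every O_X-module on a scheme X is a quotient of a flat O_X-module; precisely, for every O_X-module F
there are opens U_i of X and an epimorphism ∐ j_{U_i !} O_{U_i} ⟶ F, and such a direct sum of
extensions by zero of structure sheaves of opens is flat (all its stalks are flat over the local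
rings). -/
theorem result {X : Scheme.{u}} (F : X.Modules) :
    ∃ (ι : Type u) (U : ι → X.Opens) (p : (∐ fun i => CxOX.extZeroUnit (U i).ι) ⟶ F),
      Epi p ∧ FlatMod.IsFlat (∐ fun i => CxOX.extZeroUnit (U i).ι) := by
  classical
  open Groth.Agent.Lib.Helper16.Stk Groth.Agent.Lib.Helper23.ExtZ in
  let e : ∀ i : Sec F, CxOX.extZeroUnit (i.1).ι ≅ jS i.1 := fun i =>
    (nonempty_extZeroUnit_iso_jS i.1).some
  let E : (∐ fun i : Sec F => CxOX.extZeroUnit (i.1).ι) ≅ flatCover F :=
    Sigma.mapIso e
  refine ⟨Sec F, fun i => i.1, E.hom ≫ flatCoverπ F, ?_, ?_⟩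
  · exact epi_comp _ _
  · exact Groth.Agent.Lib.Helper16.Stk.isFlat_of_iso E.symm (isFlat_flatCover F)


end Groth.Agent.S11164
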