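import Groth.Statements.S11165
import Groth.Agent.Lib.Helper2.RpushQC4
import Groth.Agent.Lib.Helper17.RComp
import Groth.Agent.Lib.Helper17.RelAffine
import Groth.Agent.S11319

set_option autoImplicit false
universe u
open CategoryTheory CategoryTheory.Limits AlgebraicGeometry
open Coherent

namespace Groth.Agent.S11165

attribute [local instance] HasDerivedCategory.standard

/-- Let f : X ⟶ Y be a separated morphism of schemes, U an open of X on which f restricts to an affine
morphism, i : U ⟶ X the inclusion and F a quasi-coherent O_X-module. Then i_*(F|_U) is acyclic for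
f_*: its higher direct images R^j f_* vanish for j > 0. (The binder asserting injective resolutions
of O_X-modules always holds.) -/
theorem result {X Y : Scheme.{u}} (f : X ⟶ Y) [IsSeparated f]
    (U : X.Opens) [IsAffineHom (U.ι ≫ f)] (F : X.Modules) (hF : Coh.IsQCoh F)
    [HasInjectiveResolutions X.Modules] (j : ℕ) (hj : 0 < j) :
    IsZero ((Coh.Rpush f j).obj ((Scheme.Modules.pushforward U.ι).obj ((Scheme.Modules.restrictFunctor U.ι).obj F))) := by
  haveI : F.IsQuasicoherent := hF
  haveI : IsAffineHom U.ι := IsAffineHom.of_comp (f := U.ι) (g := f)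
  obtain ⟨k, rfl⟩ : ∃ k, j = k + 1 := ⟨j - 1, by lia⟩
  haveI : (F.restrict U.ι).IsQuasicoherent := inferInstance
  have hA : Groth.Agent.Lib.Helper6.RDAcyc.Acyc (CohTop.push U.ι.base) (Coh.toAb (F.restrict U.ι)) :=
    (Groth.Agent.Lib.Helper6.RDAcyc.acyc_iff_isZero_rightDerived (CohTop.push U.ι.base) _).2
      (fun q => Groth.Agent.Lib.Helper17.RelAffine.isZero_Rpush_of_isAffineHom U.ι (F.restrict U.ι) q)
  obtain ⟨e₁⟩ := Groth.Agent.Lib.Helper17.RComp.nonempty_Rpush_comp_iso_of_acyc U.ι.base f.base _ hA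
    (k + 1)
  have hz := Groth.Agent.Lib.Helper17.RelAffine.isZero_Rpush_of_isAffineHom (U.ι ≫ f)
    (F.restrict U.ι) k
  obtain ⟨e₂⟩ := Groth.Agent.S11319.result f
    ((Scheme.Modules.pushforward U.ι).obj ((Scheme.Modules.restrictFunctor U.ι).obj F)) (k + 1)
  apply Groth.Agent.Lib.Helper2.RpushQC4.isZero_of_isZero_toAb
  exact (hz.of_iso e₁.symm).of_iso e₂

end Groth.Agent.S11165
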