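import Groth.Statements.S11167
import Groth.Agent.Lib.Helper29.FreeIso3
import Groth.Agent.Lib.Helper29.QCohExact
import Mathlib.AlgebraicGeometry.Noetherian

set_option autoImplicit false
universe u
open CategoryTheory CategoryTheory.Limits AlgebraicGeometry
open Coherent

namespace Groth.Agent.S11167

open CategoryTheory CategoryTheory.Limits AlgebraicGeometry TopologicalSpace Opposite
open Groth.Agent.Lib.Helper28.QCohLoc Groth.Agent.Lib.Helper29.QCohStalk Groth.Agent.Lib.Helper29.FreeIso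

variable {X : Scheme.{u}} (G : X.Modules) (ι : G ⟶ Coh.structureModule X)

/-- `ι` on sections, valued in functions -/
noncomputable def io (U : X.Opens) (t : Γ(G, U)) : Γ(X, U) := ι.app U t

theorem io_add (U : X.Opens) (t t' : Γ(G, U)) : io G ι U (t + t') = io G ι U t + io G ι U t' :=
  map_add (ConcreteCategory.hom (ι.app U)) t t'

theorem io_zero (U : X.Opens) : io G ι U 0 = 0 :=
  map_zero (ConcreteCategory.hom (ι.app U))

theorem io_smul (U : X.Opens) (r : Γ(X, U)) (t : Γ(G, U)) : io G ι U (r • t) = r * io G ι U t :=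
  Scheme.Modules.Hom.app_smul ι r t

theorem io_res {U V : X.Opens} (h : V ≤ U) (t : Γ(G, U)) : io G ι V (res G h t) = resO h (io G ι U t) :=
  app_res ι h t

theorem io_injective [Mono ι] (U : X.Opens) : Function.Injective (io G ι U) :=
  injective_app_of_mono ι ‹_› U

theorem io_sum_smul (U : X.Opens) {k : ℕ} (c : Fin k → Γ(X, U)) (t : Fin k → Γ(G, U)) :
    io G ι U (∑ j, c j • t j) = ∑ j, c j * io G ι U (t j) := by
  have := map_sum (ConcreteCategory.hom (ι.app U)) (fun j => c j • t j) Finset.univ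
  refine this.trans ?_
  exact Finset.sum_congr rfl fun j _ => io_smul G ι U (c j) (t j)

/-- germs at `y` of a family of local sections -/
def gens (D : Set (Σ U : X.Opens, Γ(G, U))) (y : X) : Set (G.presheaf.stalk y) :=
  {μ | ∃ d ∈ D, ∃ h : y ∈ d.1, gm G d.1 y h d.2 = μ}

def Gen (D : Set (Σ U : X.Opens, Γ(G, U))) (y : X) : Prop :=
  Submodule.span (X.presheaf.stalk y) (gens G D y) = ⊤

theorem Gen.mono {D D' : Set (Σ U : X.Opens, Γ(G, U))} (h : D ⊆ D') {y : X} (hg : Gen G D y) : Gen G D' y := by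
  unfold Gen at hg ⊢
  rw [eq_top_iff, ← hg]
  apply Submodule.span_mono
  rintro μ ⟨d, hd, hy, rfl⟩
  exact ⟨d, h hd, hy, rfl⟩

theorem local_gen [IsNoetherian X] [Mono ι] (x : X) :
    ∃ (N : X.Opens), x ∈ N ∧ ∃ D : Set (Σ U : X.Opens, Γ(G, U)), D.Finite ∧
      ∀ y ∈ N, x ⤳ y → Gen G D y := by
  obtain ⟨V, hV, hxV, -⟩ := (TopologicalSpace.Opens.isBasis_iff_nbhd.1 X.isBasis_affineOpens)
    (Opens.mem_top x)
  have hVa : IsAffineOpen V := hV
  haveI : IsNoetherianRing Γ(X, V) := IsLocallyNoetherian.component_noetherian ⟨V, hV⟩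
  let I : Ideal Γ(X, V) :=
    { carrier := {a | ∃ (T : X.Opens) (hT : T ≤ V), x ∈ T ∧ ∃ t : Γ(G, T), io G ι T t = resO hT a}
      add_mem' := by
        rintro a b ⟨T₁, hT₁, hx₁, t₁, e₁⟩ ⟨T₂, hT₂, hx₂, t₂, e₂⟩
        refine ⟨T₁ ⊓ T₂, inf_le_left.trans hT₁, ⟨hx₁, hx₂⟩,
          res G inf_le_left t₁ + res G inf_le_right t₂, ?_⟩
        rw [io_add, io_res, io_res, e₁, e₂, resO_resO, resO_resO]
        exact (map_add (X.presheaf.map (homOfLE _).op).hom a b).symm
      zero_mem' := ⟨V, le_rfl, hxV, 0, by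
        rw [io_zero]; exact (map_zero (X.presheaf.map (homOfLE _).op).hom).symm⟩
      smul_mem' := by
        rintro c a ⟨T, hT, hx, t, e⟩
        refine ⟨T, hT, hx, resO hT c • t, ?_⟩
        rw [io_smul, e, smul_eq_mul]
        exact (map_mul (X.presheaf.map (homOfLE _).op).hom c a).symm }
  obtain ⟨k, a, ha⟩ := (Submodule.fg_iff_exists_fin_generating_family).1 (IsNoetherian.noetherian I)
  have haI : ∀ j, a j ∈ I := fun j => ha ▸ Submodule.subset_span ⟨j, rfl⟩
  choose T hT hxT t ht using haI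
  let T₀ : X.Opens := V ⊓ ⨅ j, T j
  have hT₀ : ∀ j, T₀ ≤ T j := fun j => inf_le_right.trans (iInf_le T j)
  have hxT₀ : x ∈ T₀ := by
    refine ⟨hxV, ?_⟩
    rw [SetLike.mem_coe, ← SetLike.mem_coe, Opens.coe_iInf]
    exact Set.mem_iInter.2 hxT
  obtain ⟨f, hfT, hxf⟩ := hVa.exists_basicOpen_le (V := T₀) ⟨x, hxT₀⟩ hxV
  have hNV : X.basicOpen f ≤ V := X.basicOpen_le f
  let s : Fin k → Γ(G, X.basicOpen f) := fun j => res G (hfT.trans (hT₀ j)) (t j)
  have hs : ∀ j, io G ι (X.basicOpen f) (s j) = resO hNV (a j) := fun j => by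
    rw [io_res, ht j, resO_resO]
  refine ⟨X.basicOpen f, hxf, Set.range (fun j => (⟨X.basicOpen f, s j⟩ : Σ U : X.Opens, Γ(G, U))),
    Set.finite_range _, ?_⟩
  intro y hyN hxy
  unfold Gen
  rw [eq_top_iff]
  intro μ _
  obtain ⟨W, hyW, τ, rfl⟩ := TopCat.Presheaf.exists_germ_eq G.presheaf μ
  obtain ⟨g, hgW, hyg⟩ := hVa.exists_basicOpen_le (V := W ⊓ X.basicOpen f) ⟨y, ⟨hyW, hyN⟩⟩ (hNV hyN)
  have hxg : x ∈ X.basicOpen g := hxy.mem_open (X.basicOpen g).isOpen hyg
  have hgV : X.basicOpen g ≤ V := X.basicOpen_le g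
  have hgN : X.basicOpen g ≤ X.basicOpen f := hgW.trans inf_le_right
  let τ' : Γ(G, X.basicOpen g) := res G (hgW.trans inf_le_left) τ
  have := hVa.isLocalization_basicOpen g
  obtain ⟨n, b, hb⟩ := IsLocalization.Away.surj g (io G ι _ τ')
  have hb' : (io G ι _ τ' * (resO hgV g) ^ n : Γ(X, X.basicOpen g)) = resO hgV b := hb
  have hbI : b ∈ I := ⟨X.basicOpen g, hgV, hxg, (resO hgV g) ^ n • τ', by rw [io_smul, ← hb', mul_comm]⟩
  rw [← ha] at hbI
  obtain ⟨c, hc⟩ := (Submodule.mem_span_range_iff_exists_fun _).1 hbI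
  have key : (resO hgV g) ^ n • τ' = ∑ j, resO hgV (c j) • res G hgN (s j) := by
    apply io_injective G ι
    rw [io_smul, io_sum_smul, mul_comm, hb', ← hc]
    refine (map_sum (X.presheaf.map (homOfLE hgV).op).hom _ _).trans ?_
    refine Finset.sum_congr rfl fun j _ => ?_
    rw [io_res, hs j, resO_resO, smul_eq_mul]
    exact map_mul (X.presheaf.map (homOfLE hgV).op).hom _ _
  have hgerm := congrArg (gm G (X.basicOpen g) y hyg) key
  rw [gm_smul, gm_sum_smul] at hgerm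
  have hu : IsUnit (X.presheaf.germ (X.basicOpen g) y hyg ((resO hgV g) ^ n)) := by
    rw [map_pow, germ_resO]
    exact ((Scheme.mem_basicOpen _ _ _ (hgV hyg)).1 hyg).pow n
  have hτ : G.presheaf.germ W y hyW τ = gm G (X.basicOpen g) y hyg τ' :=
    (gm_res G (hgW.trans inf_le_left) y hyg τ).symm
  rw [hτ, ← Submodule.smul_mem_iff_of_isUnit _ hu, hgerm]
  refine Submodule.sum_mem _ fun j _ => Submodule.smul_mem _ _ (Submodule.subset_span ?_)
  exact ⟨⟨X.basicOpen f, s j⟩, ⟨j, rfl⟩, hyN, (gm_res G hgN y hyg (s j)).symm⟩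

theorem closed_gen [IsNoetherian X] [Mono ι] (Z : Closeds X) :
    ∃ D : Set (Σ U : X.Opens, Γ(G, U)), D.Finite ∧ ∀ y ∈ Z, Gen G D y := by
  apply wellFounded_lt.induction Z; clear Z
  intro Z H
  rcases eq_or_ne Z ⊥ with rfl | h₀
  · exact ⟨∅, Set.finite_empty, fun y hy => absurd hy (Set.notMem_empty y)⟩
  · by_cases h₁ : IsPreirreducible (Z : Set X)
    · have hirr : IsIrreducible (Z : Set X) := ⟨Closeds.coe_nonempty.2 h₀, h₁⟩
      obtain ⟨x, hx⟩ := QuasiSober.sober hirr Z.isClosed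
      obtain ⟨N, hxN, D₁, hD₁, hgen₁⟩ := local_gen G ι x
      have hxZ : x ∈ Z := hx.mem
      let Z' : Closeds X := Z ⊓ ⟨(N : Set X)ᶜ, N.isOpen.isClosed_compl⟩
      have hlt : Z' < Z := by
        refine lt_of_le_of_ne inf_le_left fun h => ?_
        have : x ∈ Z' := h ▸ hxZ
        exact this.2 hxN
      obtain ⟨D₂, hD₂, hgen₂⟩ := H Z' hlt
      refine ⟨D₁ ∪ D₂, hD₁.union hD₂, fun y hy => ?_⟩
      by_cases hyN : y ∈ N
      · refine Gen.mono G Set.subset_union_left (hgen₁ y hyN ?_)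
        have : y ∈ closure ({x} : Set X) := by rw [hx.def]; exact hy
        exact specializes_iff_mem_closure.2 this
      · exact Gen.mono G Set.subset_union_right (hgen₂ y ⟨hy, hyN⟩)
    · simp only [isPreirreducible_iff_isClosed_union_isClosed, not_forall, not_or] at h₁
      obtain ⟨z₁, z₂, hz₁, hz₂, h, hz₁', hz₂'⟩ := h₁
      lift z₁ to Closeds X using hz₁
      lift z₂ to Closeds X using hz₂
      obtain ⟨D₁, hD₁, hgen₁⟩ := H (Z ⊓ z₁) (inf_lt_left.2 hz₁')
      obtain ⟨D₂, hD₂, hgen₂⟩ := H (Z ⊓ z₂) (inf_lt_left.2 hz₂')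
      refine ⟨D₁ ∪ D₂, hD₁.union hD₂, fun y hy => ?_⟩
      rcases h hy with hy₁ | hy₂
      · exact Gen.mono G Set.subset_union_left (hgen₁ y ⟨hy, hy₁⟩)
      · exact Gen.mono G Set.subset_union_right (hgen₂ y ⟨hy, hy₂⟩)

/-- Let X be a Noetherian scheme and G ⟶ O_X a sub-O_X-module of the structure sheaf (a sheaf of ideals,
not necessarily quasi-coherent). Then there are finitely many opens U_i of X and finitely many
sections s_{ij} ∈ G(U_i) such that for every point x of X the germs at x of those s_{ij} with x ∈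
U_i generate the stalk G_x as an O_{X,x}-module. -/
theorem result {X : Scheme.{u}} [IsNoetherian X]
    (G : X.Modules) (ι : G ⟶ Coh.structureModule X) [Mono ι] :
    ∃ (m : ℕ) (U : Fin m → X.Opens) (k : Fin m → ℕ)
      (s : (i : Fin m) → Fin (k i) → (G.presheaf.obj (Opposite.op (U i)) : Type u)),
      ∀ x : X, Submodule.span (X.presheaf.stalk x)
          (Set.range (fun p : (Σ i : {i : Fin m // x ∈ U i}, Fin (k i.1)) =>
            (G.presheaf.germ (U p.1.1) x p.1.2) (s p.1.1 p.2))) = ⊤ := by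
  obtain ⟨D, hD, hgen⟩ := closed_gen G ι ⊤
  obtain ⟨m, F, -, hF⟩ := hD.fin_param
  subst hF
  refine ⟨m, fun i => (F i).1, fun _ => 1, fun i _ => (F i).2, fun x => ?_⟩
  have h := hgen x (Set.mem_univ x)
  unfold Gen at h
  rw [eq_top_iff, ← h]
  apply Submodule.span_mono
  rintro μ ⟨d, ⟨i, rfl⟩, hy, rfl⟩
  exact ⟨⟨⟨i, hy⟩, 0⟩, rfl⟩



end Groth.Agent.S11167
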