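import Groth.Statements.S11177
import Groth.Agent.Lib.Helper16.FLJ6
import Groth.Agent.Lib.Helper8.RGam10
import Groth.Agent.Lib.Helper5.RelGCIU
import Groth.Agent.S9429

set_option autoImplicit false
universe u
open CategoryTheory
attribute [local instance] HasDerivedCategory.standard
open Dual

namespace Groth.Agent.S11177

/-- Let A be a Noetherian ring, A → B a smooth ring homomorphism (formally smooth and of finite
presentation), and ω a dualizing complex for A. Assuming the derived base change functor D(A) → D(B)
(the total left derived functor of extension of scalars) exists, the derived base change ω ⊗^L_A B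
is a dualizing complex for B. (The published statement is for a smooth morphism of finite type to a
Noetherian scheme and concludes that the pull-back of a dualizing complex twisted by the top
relative differentials, shifted by the relative dimension, is dualizing; removing that invertible
twist does not affect being dualizing.) -/
theorem result (A B : Type u) [CommRing A] [CommRing B] [Algebra A B] [IsNoetherianRing A] [Algebra.Smooth A B] [DRing.HasLBaseChange (algebraMap A B)] (ω : Dual.D A) (hω : Dual.IsDualizing A ω) : Dual.IsDualizing B ((DRing.LBaseChange (algebraMap A B)).obj ω) := by
  haveI : Module.Flat A B := Algebra.Smooth.flat A B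
  haveI : Algebra.FinitePresentation A B := Algebra.Smooth.finitePresentation
  haveI : IsNoetherianRing B :=
    Algebra.FiniteType.isNoetherianRing A B
  have hsynt : Synt.IsSyntomic A B := by
    refine ⟨inferInstance, inferInstance, fun p => ?_⟩
    exact Groth.Agent.S9429.result p.asIdeal.ResidueField (p.asIdeal.Fiber B)
  have hl : LCI.IsLCI A B := Groth.Agent.Lib.Helper5.RelGCI.isLCI_of_isSyntomic hsynt
  have h1 := Groth.Agent.Lib.Helper16.FLJ.isDualizing_ε_of_flat_lci hl ω hω
  exact Groth.Agent.Lib.Helper8.EFB.isDualizing_of_iso
    ((Groth.Agent.Lib.Helper8.RGam.lBaseChangeIsoε (algebraMap A B)).app ω).symm h1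

end Groth.Agent.S11177
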