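import Groth.Statements.S11180
import Mathlib
import Groth.Agent.Lib.helper19.CompletionNoetherian

set_option autoImplicit false
universe u
open scoped TensorProduct
open CAlg

namespace Groth.Agent.S11180

/-- Let A be a Noetherian ring and M an A-module. If an element m of M is such that 1 ⊗ m = 0 in B ⊗_A M
for every A-algebra B which is a complete Noetherian local ring, flat over A, then m = 0.
(Equivalently the natural map from M to the limit of the modules B ⊗_A M over all such B is
injective.) -/
theorem result (A : Type u) [CommRing A] [IsNoetherianRing A] (M : Type u) [AddCommGroup M] [Module A M] (m : M) (h : ∀ (B : Type u) [CommRing B] [Algebra A B] [IsNoetherianRing B] [IsLocalRing B], IsAdicComplete (IsLocalRing.maximalIdeal B) B → Module.Flat A B → (1 : B) ⊗ₜ[A] m = 0) : m = 0 := by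
  by_contra hm
  -- annihilator of m
  let f : A →ₗ[A] M := LinearMap.toSpanSingleton A M m
  have hker : LinearMap.ker f ≠ ⊤ := by
    intro htop
    apply hm
    have h1 : (1 : A) ∈ LinearMap.ker f := htop ▸ Submodule.mem_top
    rw [LinearMap.mem_ker, LinearMap.toSpanSingleton_apply, one_smul] at h1
    exact h1
  obtain ⟨P, hP, hle⟩ := Ideal.exists_le_maximal (LinearMap.ker f : Ideal A) hker
  haveI : P.IsPrime := hP.isPrime
  let L := Localization.AtPrime P
  let B := AdicCompletion (IsLocalRing.maximalIdeal L) L
  haveI : IsNoetherianRing L := IsLocalization.isNoetherianRing P.primeCompl L inferInstance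
  haveI : IsNoetherianRing B := Groth.Agent.Lib.helper19.isNoetherianRing_adicCompletion L _
  haveI : IsScalarTower A L B := IsScalarTower.of_algebraMap_eq (fun _ => rfl)
  haveI : Module.Flat A L := IsLocalization.flat L P.primeCompl
  haveI : Module.Flat L B := inferInstance
  have hflat : Module.Flat A B := Module.Flat.trans A L B
  have h0 := h B inferInstance hflat
  -- the injection A/ker f → M
  let ι : (A ⧸ LinearMap.ker f) →ₗ[A] M := (LinearMap.ker f).liftQ f le_rfl
  have hι : Function.Injective ι := by
    rw [← LinearMap.ker_eq_bot]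
    exact Submodule.ker_liftQ_eq_bot _ _ _ le_rfl
  have hιB : Function.Injective (ι.lTensor B) := Module.Flat.lTensor_preserves_injective_linearMap ι hι
  have h1 : (1 : B) ⊗ₜ[A] (Submodule.Quotient.mk (1 : A) : A ⧸ LinearMap.ker f) = 0 := by
    apply hιB
    rw [map_zero, LinearMap.lTensor_tmul]
    have : ι (Submodule.Quotient.mk (1 : A)) = m := by
      show f 1 = m
      rw [LinearMap.toSpanSingleton_apply, one_smul]
    rw [this]
    exact h0
  have h2 := congrArg (TensorProduct.tensorQuotEquivQuotSMul B (LinearMap.ker f : Ideal A)) h1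
  rw [map_zero] at h2
  have h3 : TensorProduct.tensorQuotEquivQuotSMul B (LinearMap.ker f : Ideal A)
      ((1 : B) ⊗ₜ[A] (Ideal.Quotient.mk (LinearMap.ker f : Ideal A) (1 : A))) =
      Submodule.Quotient.mk ((1 : A) • (1 : B)) :=
    TensorProduct.tensorQuotEquivQuotSMul_tmul_mk (LinearMap.ker f : Ideal A) (1 : B) (1 : A)
  have h4 : (1 : B) ∈ ((LinearMap.ker f : Ideal A) • (⊤ : Submodule A B)) := by
    have := h3.symm.trans h2
    rw [one_smul, Submodule.Quotient.mk_eq_zero] at this
    exact this
  have h5 : ((LinearMap.ker f : Ideal A) • (⊤ : Submodule A B)) ≤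
      (IsLocalRing.maximalIdeal B).restrictScalars A := by
    rw [Submodule.smul_le]
    intro a ha b _
    show a • b ∈ IsLocalRing.maximalIdeal B
    rw [Algebra.smul_def]
    apply Ideal.mul_mem_right
    rw [AdicCompletion.maximalIdeal_eq_map]
    have : algebraMap A B a = algebraMap L B (algebraMap A L a) := rfl
    rw [this]
    apply Ideal.mem_map_of_mem
    exact (IsLocalization.AtPrime.to_map_mem_maximal_iff L P a).mpr (hle ha)
  exact (IsLocalRing.maximalIdeal.isMaximal B).ne_top
    ((Ideal.eq_top_iff_one _).mpr (h5 h4))

end Groth.Agent.S11180
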