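import Groth.Statements.S11183
import Mathlib
import Groth.Agent.Lib.Helper16.QhBij1
import Groth.Agent.Lib.Helper16.TorAmp6
import Groth.Agent.Lib.Helper8.Bid8
import Groth.Agent.Lib.Helper8.EFB9

set_option autoImplicit false
universe u
open CategoryTheory
attribute [local instance] HasDerivedCategory.standard
open Dual

namespace Groth.Agent.S11183

open DerivedCategory MonoidalCategory CategoryTheory.Limits

section

variable {A : Type u} [CommRing A]

/-- inverse objects give inverse tensor functors -/
noncomputable def compIso (P P' : ModuleCat.{u} A) (e : P ⊗ P' ≅ 𝟙_ (ModuleCat.{u} A)) :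
    tensorRight P ⋙ tensorRight P' ≅ 𝟭 (ModuleCat.{u} A) :=
  (tensorRightTensor P P').symm ≪≫ (tensoringRight _).mapIso e ≪≫ rightUnitorNatIso _

variable (P P' : ModuleCat.{u} A) [Module.Flat A P] [Module.Flat A P']
  (e : P ⊗ P' ≅ 𝟙_ (ModuleCat.{u} A)) (e' : P' ⊗ P ≅ 𝟙_ (ModuleCat.{u} A))

/-- the derived functor of `- ⊗ P` -/
noncomputable abbrev T : Dual.D A ⥤ Dual.D A := (tensorRight P).mapDerivedCategory

include e e' in
lemma isEquivalence_T : (T P).IsEquivalence :=
  Groth.Agent.Lib.Helper16.QhBij.isEquivalence_mapDerivedCategory (tensorRight P) (tensorRight P')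
    (compIso P P' e) (compIso P' P e')

variable [Module.Finite A P]

include e e' in
theorem isDualizing_T (ω : Dual.D A) (hω : Dual.IsDualizing A ω) :
    Dual.IsDualizing A ((T P).obj ω) := by
  haveI := isEquivalence_T P P' e e'
  haveI := isEquivalence_T P' P e' e
  let ε : T P' ⋙ T P ≅ 𝟭 (Dual.D A) :=
    Groth.Agent.Lib.Helper16.QhBij.mapDerivedCategoryCompIdIso (tensorRight P') (tensorRight P)
      (compIso P' P e')
  let ff : (T P).FullyFaithful := Functor.FullyFaithful.ofFullyFaithful (T P)
  obtain ⟨a, b, hab⟩ := hω.finite_injective_dimension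
  refine ⟨hω.isNoetherianRing, ⟨a, b, fun M _ _ i hi => ?_⟩, fun i => ?_, ?_, fun i hi => ?_⟩
  · -- finite injective dimension
    let X : Dual.D A := Dual.inD A M
    have e1 : (T P).obj ((T P').obj X) ≅ X := ε.app X
    have e2 : ((T P).obj ω)⟦i⟧ ≅ (T P).obj (ω⟦i⟧) := ((T P).commShiftIso i).symm.app ω
    have e3 : (T P').obj X ≅ Dual.inD A (TensorProduct A M P') :=
      ((tensorRight P').mapDerivedCategorySingleFunctor 0).app (ModuleCat.of A M)
    haveI : Subsingleton (Dual.inD A (TensorProduct A M P') ⟶ ω⟦i⟧) := hab _ i hi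
    have E : (X ⟶ ((T P).obj ω)⟦i⟧) ≃ (Dual.inD A (TensorProduct A M P') ⟶ ω⟦i⟧) :=
      ((Iso.homFromEquiv e1.symm).trans (Iso.homToEquiv e2)).trans
        (ff.homEquiv.symm.trans (Iso.homFromEquiv e3))
    exact E.subsingleton
  · -- finite cohomology
    let K := Q.objPreimage ω
    have eK : Q.obj K ≅ ω := Q.objObjPreimageIso ω
    have i1 : (homologyFunctor (ModuleCat.{u} A) i).obj ((T P).obj ω) ≅
        (tensorRight P).obj ((homologyFunctor (ModuleCat.{u} A) i).obj ω) :=
      (homologyFunctor (ModuleCat.{u} A) i).mapIso ((T P).mapIso eK.symm ≪≫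
        (tensorRight P).mapDerivedCategoryFactors.app K) ≪≫
      (homologyFunctorFactors (ModuleCat.{u} A) i).app _ ≪≫
      (K.sc i).mapHomologyIso (tensorRight P) ≪≫
      (tensorRight P).mapIso ((homologyFunctorFactors (ModuleCat.{u} A) i).app K).symm ≪≫
      (tensorRight P).mapIso ((homologyFunctor (ModuleCat.{u} A) i).mapIso eK)
    haveI := hω.finite_cohomology i
    haveI : Module.Finite A ((tensorRight P).obj ((homologyFunctor (ModuleCat.{u} A) i).obj ω)) :=
      inferInstanceAs (Module.Finite A (TensorProduct A (Dual.HD A ω i) P))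
    exact Module.Finite.equiv i1.symm.toLinearEquiv
  · -- endomorphisms
    have h1 : (fun x : A => x • 𝟙 ((T P).obj ω)) = ff.homEquiv ∘ (fun x : A => x • 𝟙 ω) := by
      ext x
      change x • 𝟙 ((T P).obj ω) = (T P).map (x • 𝟙 ω)
      rw [Functor.map_smul, CategoryTheory.Functor.map_id]
    rw [h1]
    exact ff.homEquiv.bijective.comp hω.toEnd_bijective
  · haveI := hω.ext_self_subsingleton i hi
    have e2 : ((T P).obj ω)⟦i⟧ ≅ (T P).obj (ω⟦i⟧) := ((T P).commShiftIso i).symm.app ω
    exact ((Iso.homToEquiv (Z := (T P).obj ω) e2).trans ff.homEquiv.symm).subsingleton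

end


/-- 'if' direction, affine form: let A be a Noetherian ring, ω a dualizing complex for A, P an
invertible A-module (the evaluation map from the dual of P tensor P to A is bijective, i.e. P is
finite locally free of rank one) and n an integer. Assuming the total left derived functor − ⊗^L_A P
exists on D(A), the complex (ω ⊗^L_A P)[n] is again a dualizing complex for A. (The published
statement is for a connected scheme; this direction does not use connectedness.) -/
theorem result (A : Type u) [CommRing A] [IsNoetherianRing A] (ω : Dual.D A) (hω : Dual.IsDualizing A ω) (P : Type u) [AddCommGroup P] [Module A P] [Module.Invertible A P] [DRing.HasLTensor A (ModuleCat.of A P)] (n : ℤ) : Dual.IsDualizing A (((DRing.LTensor A (ModuleCat.of A P)).obj ω)⟦n⟧) := by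
  let PM : ModuleCat.{u} A := ModuleCat.of A P
  let P'M : ModuleCat.{u} A := ModuleCat.of A (Module.Dual A P)
  haveI : Module.Flat A PM := inferInstanceAs (Module.Flat A P)
  haveI : Module.Flat A P'M := inferInstanceAs (Module.Flat A (Module.Dual A P))
  haveI : Module.Finite A PM := inferInstanceAs (Module.Finite A P)
  let e : PM ⊗ P'M ≅ 𝟙_ (ModuleCat.{u} A) :=
    ((TensorProduct.comm A P (Module.Dual A P)).trans
      (Module.Invertible.linearEquiv A P)).toModuleIso
  let e' : P'M ⊗ PM ≅ 𝟙_ (ModuleCat.{u} A) := (Module.Invertible.linearEquiv A P).toModuleIso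
  let K := Q.objPreimage ω
  have eK : Q.obj K ≅ ω := Q.objObjPreimageIso ω
  have iso : (DRing.LTensor A PM).obj ω ≅ (T PM).obj ω :=
    (DRing.LTensor A PM).mapIso eK.symm ≪≫
      Groth.Agent.Lib.Helper16.TorAmp.lTensorIsoOfFlat PM K ≪≫
      ((tensorRight PM).mapDerivedCategoryFactors.app K).symm ≪≫ (T PM).mapIso eK
  exact Groth.Agent.Lib.Helper8.Bidual.isDualizing_shift _
    (Groth.Agent.Lib.Helper8.EFB.isDualizing_of_iso iso.symm (isDualizing_T PM P'M e e' ω hω)) n

end Groth.Agent.S11183
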