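import Groth.Statements.S11185
import Groth.Agent.S0342
import Groth.Agent.Lib.Helper16.GF6
import Groth.Agent.Lib.Helper8.Gor1

set_option autoImplicit false
universe u
open CategoryTheory
attribute [local instance] HasDerivedCategory.standard
open Dual

namespace Groth.Agent.S11185

/-- Let A be a Noetherian ring all of whose local rings A_p at primes are regular and whose Krull
dimension is finite. Then the complex A[0] is a dualizing complex for A (finite injective dimension,
finite cohomology, A → End(A[0]) bijective and no self-maps of nonzero degree). -/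
theorem result (A : Type u) [CommRing A] [IsNoetherianRing A] (hreg : ∀ p : PrimeSpectrum A, IsRegularLocalRing (Localization.AtPrime p.asIdeal)) (hdim : ringKrullDim A < ⊤) : Dual.IsDualizing A (Dual.inD A A) := by
  classical
  obtain ⟨h1, h2, h3⟩ := Groth.Agent.Lib.Helper8.Bidual.inD_self_conditions (A := A)
  obtain ⟨D, hD⟩ : ∃ D : ℕ, ringKrullDim A ≤ D := by
    generalize ringKrullDim A = x at hdim
    induction x using WithBot.recBotCoe with
    | bot => exact ⟨0, bot_le⟩
    | coe y =>
      have hy : y ≠ ⊤ := by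
        rintro rfl
        exact (lt_irrefl _ hdim)
      obtain ⟨m, rfl⟩ := ENat.ne_top_iff_exists.1 hy
      exact ⟨m, le_rfl⟩
  have hGE : (Dual.inD A A).IsGE 0 := inferInstance
  have h := Groth.Agent.Lib.Helper8.EFB.hinj_of_residue (Dual.inD A A) D 0 hGE h1 ?_
  · exact ⟨inferInstance, ⟨0, D, h⟩, h1, h2, h3⟩
  · intro 𝔫 _ i hi
    haveI : IsRegularLocalRing (Localization.AtPrime 𝔫) := hreg ⟨𝔫, inferInstance⟩
    have hG : LocCoh.IsGorensteinLocalRing (Localization.AtPrime 𝔫) := Groth.Agent.S0342.result _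
    have hDloc : ringKrullDim (Localization.AtPrime 𝔫) ≤ D := by
      rw [IsLocalization.AtPrime.ringKrullDim_eq_height 𝔫]
      exact le_trans Ideal.height_le_ringKrullDim_of_isPrime hD
    have hloc := Groth.Agent.Lib.Helper16.GF.subsingleton_hom_of_gorenstein
      (Localization.AtPrime 𝔫) hG D hDloc
      (Localization.AtPrime 𝔫 ⧸ 𝔫.map (algebraMap A (Localization.AtPrime 𝔫))) i hi
    let eL : Dual.inD (Localization.AtPrime 𝔫) (Localization.AtPrime 𝔫) ≅
        (Groth.Agent.Lib.Helper16.FlatBC.ε (algebraMap A (Localization.AtPrime 𝔫))).obj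
          (Dual.inD A A) :=
      (Groth.Agent.Lib.Helper16.FLI.inDIsoOfEquiv
        (TensorProduct.AlgebraTensorModule.rid A (Localization.AtPrime 𝔫)
          (Localization.AtPrime 𝔫))).symm ≪≫
        Groth.Agent.Lib.Helper16.FlatBC.inDExtIso (B := Localization.AtPrime 𝔫) A
    haveI : Subsingleton (Dual.inD (Localization.AtPrime 𝔫)
        (Localization.AtPrime 𝔫 ⧸ 𝔫.map (algebraMap A (Localization.AtPrime 𝔫))) ⟶
        ((Groth.Agent.Lib.Helper16.FlatBC.ε (algebraMap A (Localization.AtPrime 𝔫))).obj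
          (Dual.inD A A))⟦i⟧) :=
      (Iso.homCongr (Iso.refl _)
        ((shiftFunctor (Dual.D (Localization.AtPrime 𝔫)) i).mapIso eL.symm)).subsingleton
    obtain ⟨Θ⟩ := Groth.Agent.Lib.Helper8.EFB.nonempty_bcEquiv_quot (B := Localization.AtPrime 𝔫) 𝔫
      (Dual.inD A A) ⟨0, hGE⟩ i
    have hs : Subsingleton (TensorProduct A (Localization.AtPrime 𝔫)
        (Dual.inD A (A ⧸ 𝔫) ⟶ (Dual.inD A A)⟦i⟧)) := Θ.subsingleton
    refine Groth.Agent.Lib.Helper16.FLJ.subsingleton_of_killed 𝔫 _
      (fun r hr h => Groth.Agent.Lib.Helper8.EFB.smul_hom_eq_zero r (fun x => ?_) _ h) hs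
    obtain ⟨y, rfl⟩ := Ideal.Quotient.mk_surjective x
    change Ideal.Quotient.mk 𝔫 (r * y) = 0
    exact Ideal.Quotient.eq_zero_iff_mem.2 (Ideal.mul_mem_right y 𝔫 hr)

end Groth.Agent.S11185
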