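import Groth.Statements.S11217
import Mathlib.Algebra.MvPolynomial.PDeriv
import Mathlib.RingTheory.MvPolynomial.WeightedHomogeneous
-- import your own Groth.Agent.* helpers here

set_option autoImplicit false
universe u
open CategoryTheory MonoidalCategory CartesianMonoidalCategory MonObj GrpObj AlgebraicGeometry
open scoped TensorProduct
open AGF

namespace Groth.Agent.S11217

set_option linter.unusedSectionVars false

open MvPolynomial in
theorem mkDer_eq_sum {k : Type u} [CommRing k] {σ : Type} [Fintype σ] [DecidableEq σ]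
    (g : σ → MvPolynomial σ k) (f : MvPolynomial σ k) :
    mkDerivation k g f = ∑ i, g i * pderiv i f := by
  have hsum : ∀ (s : Finset σ) (D : σ → Derivation k (MvPolynomial σ k) (MvPolynomial σ k))
      (f : MvPolynomial σ k), (∑ i ∈ s, D i) f = ∑ i ∈ s, D i f := by
    intro s D f
    induction s using Finset.induction_on with
    | empty => simp
    | insert a s ha ih => rw [Finset.sum_insert ha, Finset.sum_insert ha, Derivation.add_apply, ih]
  have key : mkDerivation k g = ∑ i, g i • (pderiv i : Derivation k (MvPolynomial σ k) (MvPolynomial σ k)) := by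
    apply MvPolynomial.derivation_ext
    intro j
    rw [mkDerivation_X, hsum]
    simp [pderiv_X, Pi.single_apply]
  rw [key, hsum]
  rfl

open MvPolynomial in
theorem coeff_delta {k : Type u} [CommRing k] {σ : Type} [Fintype σ] [DecidableEq σ]
    (g : σ → MvPolynomial σ k) (a : σ → (σ →₀ ℕ)) (r : σ → k) (hg : ∀ i, g i = monomial (a i) (r i))
    (f : MvPolynomial σ k) (e : σ →₀ ℕ) :
    coeff e (mkDerivation k g f) =
      ∑ i, if a i ≤ e then r i * (coeff (e - a i + Finsupp.single i 1) f * (((e - a i) i : ℕ) + 1)) else 0 := by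
  rw [mkDer_eq_sum, coeff_sum]
  apply Finset.sum_congr rfl
  intro i _
  rw [hg i, coeff_monomial_mul', coeff_pderiv]

section
open MvPolynomial
variable (k : Type u) [Field k] [CharZero k] (m : ℕ)

noncomputable def gR : Fin 7 → MvPolynomial (Fin 7) k :=
  ![0, 0, 0, MvPolynomial.X 0 ^ (m + 1), MvPolynomial.X 1 ^ (m + 1), MvPolynomial.X 2 ^ (m + 1),
        (MvPolynomial.X 0 * MvPolynomial.X 1 * MvPolynomial.X 2) ^ m]

noncomputable def aR : Fin 7 → (Fin 7 →₀ ℕ) :=
  ![0, 0, 0, Finsupp.single 0 (m + 1), Finsupp.single 1 (m + 1), Finsupp.single 2 (m + 1),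
    Finsupp.single 0 m + Finsupp.single 1 m + Finsupp.single 2 m]

def rR : Fin 7 → k := ![0, 0, 0, 1, 1, 1, 1]

theorem hgR (i : Fin 7) : gR k m i = monomial (aR m i) (rR k i) := by
  fin_cases i <;> simp [gR, aR, rR, X_pow_eq_monomial, mul_pow, monomial_mul]

theorem coeff_deltaR (f : MvPolynomial (Fin 7) k) (e : Fin 7 →₀ ℕ) :
    coeff e (mkDerivation k (gR k m) f) =
      (if Finsupp.single 0 (m + 1) ≤ e then
        (coeff (e - Finsupp.single 0 (m + 1) + Finsupp.single 3 1) f * ((e 3 : ℕ) + 1)) else 0) +
      (if Finsupp.single 1 (m + 1) ≤ e then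
        (coeff (e - Finsupp.single 1 (m + 1) + Finsupp.single 4 1) f * ((e 4 : ℕ) + 1)) else 0) +
      (if Finsupp.single 2 (m + 1) ≤ e then
        (coeff (e - Finsupp.single 2 (m + 1) + Finsupp.single 5 1) f * ((e 5 : ℕ) + 1)) else 0) +
      (if Finsupp.single 0 m + Finsupp.single 1 m + Finsupp.single 2 m ≤ e then
        (coeff (e - (Finsupp.single 0 m + Finsupp.single 1 m + Finsupp.single 2 m) + Finsupp.single 6 1) f *
          ((e 6 : ℕ) + 1)) else 0) := by
  rw [coeff_delta (gR k m) (aR m) (rR k) (hgR k m), Fin.sum_univ_seven]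
  simp [aR, rR, -Finsupp.single_add]

theorem mainR (hm : 2 ≤ m) (n : ℕ) (hn : 1 ≤ n) (f : MvPolynomial (Fin 7) k)
    (hf : IsWeightedHomogeneous (![0, 0, 0, 1, 1, 1, 1] : Fin 7 → ℕ) f n)
    (hδ : mkDerivation k (gR k m) f = 0) : ∀ d ∈ f.support, 0 < d 0 + d 1 + d 2 := by
  intro d hd
  by_contra hpos
  have h0 : d 0 = 0 := by omega
  have h1 : d 1 = 0 := by omega
  have h2 : d 2 = 0 := by omega
  have hc : coeff d f ≠ 0 := mem_support_iff.mp hd
  have hw : d 3 + d 4 + d 5 + d 6 = n := by
    have := hf hc
    simp [Finsupp.weight_apply, Finsupp.sum_fintype, Fin.sum_univ_seven] at this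
    omega
  by_cases h3 : 1 ≤ d 3
  · have h := congrArg (coeff (d - Finsupp.single 3 1 + Finsupp.single 0 (m + 1))) hδ
    rw [coeff_deltaR, coeff_zero] at h
    have c1 : Finsupp.single 0 (m + 1) ≤ d - Finsupp.single 3 1 + Finsupp.single 0 (m + 1) :=
      le_add_self
    have c2 : ¬ Finsupp.single 1 (m + 1) ≤ d - Finsupp.single 3 1 + Finsupp.single 0 (m + 1) := by
      intro hle
      have := hle 1
      simp [h1] at this
    have c3 : ¬ Finsupp.single 2 (m + 1) ≤ d - Finsupp.single 3 1 + Finsupp.single 0 (m + 1) := by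
      intro hle
      have := hle 2
      simp [h2] at this
    have c4 : ¬ Finsupp.single 0 m + Finsupp.single 1 m + Finsupp.single 2 m ≤
        d - Finsupp.single 3 1 + Finsupp.single 0 (m + 1) := by
      intro hle
      have := hle 1
      simp [h1] at this
      omega
    have e1 : d - Finsupp.single 3 1 + Finsupp.single 0 (m + 1) - Finsupp.single 0 (m + 1) +
        Finsupp.single 3 1 = d := by
      rw [add_tsub_cancel_right]
      ext j
      by_cases hj : j = 3
      · subst hj; simp; omega
      · simp [Ne.symm hj]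
    rw [if_pos c1, if_neg c2, if_neg c3, if_neg c4, e1] at h
    simp only [add_zero, zero_add] at h
    rcases mul_eq_zero.mp h with h | h
    · exact hc h
    · exact Nat.cast_add_one_ne_zero _ h
  by_cases h4 : 1 ≤ d 4
  · have h := congrArg (coeff (d - Finsupp.single 4 1 + Finsupp.single 1 (m + 1))) hδ
    rw [coeff_deltaR, coeff_zero] at h
    have c1 : Finsupp.single 1 (m + 1) ≤ d - Finsupp.single 4 1 + Finsupp.single 1 (m + 1) :=
      le_add_self
    have c2 : ¬ Finsupp.single 0 (m + 1) ≤ d - Finsupp.single 4 1 + Finsupp.single 1 (m + 1) := by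
      intro hle
      have := hle 0
      simp [h0] at this
    have c3 : ¬ Finsupp.single 2 (m + 1) ≤ d - Finsupp.single 4 1 + Finsupp.single 1 (m + 1) := by
      intro hle
      have := hle 2
      simp [h2] at this
    have c4 : ¬ Finsupp.single 0 m + Finsupp.single 1 m + Finsupp.single 2 m ≤
        d - Finsupp.single 4 1 + Finsupp.single 1 (m + 1) := by
      intro hle
      have := hle 0
      simp [h0] at this
      omega
    have e1 : d - Finsupp.single 4 1 + Finsupp.single 1 (m + 1) - Finsupp.single 1 (m + 1) +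
        Finsupp.single 4 1 = d := by
      rw [add_tsub_cancel_right]
      ext j
      by_cases hj : j = 4
      · subst hj; simp; omega
      · simp [Ne.symm hj]
    rw [if_neg c2, if_pos c1, if_neg c3, if_neg c4, e1] at h
    simp only [add_zero, zero_add] at h
    rcases mul_eq_zero.mp h with h | h
    · exact hc h
    · exact Nat.cast_add_one_ne_zero _ h
  by_cases h5 : 1 ≤ d 5
  · have h := congrArg (coeff (d - Finsupp.single 5 1 + Finsupp.single 2 (m + 1))) hδ
    rw [coeff_deltaR, coeff_zero] at h
    have c1 : Finsupp.single 2 (m + 1) ≤ d - Finsupp.single 5 1 + Finsupp.single 2 (m + 1) :=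
      le_add_self
    have c2 : ¬ Finsupp.single 0 (m + 1) ≤ d - Finsupp.single 5 1 + Finsupp.single 2 (m + 1) := by
      intro hle
      have := hle 0
      simp [h0] at this
    have c3 : ¬ Finsupp.single 1 (m + 1) ≤ d - Finsupp.single 5 1 + Finsupp.single 2 (m + 1) := by
      intro hle
      have := hle 1
      simp [h1] at this
    have c4 : ¬ Finsupp.single 0 m + Finsupp.single 1 m + Finsupp.single 2 m ≤
        d - Finsupp.single 5 1 + Finsupp.single 2 (m + 1) := by
      intro hle
      have := hle 0
      simp [h0] at this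
      omega
    have e1 : d - Finsupp.single 5 1 + Finsupp.single 2 (m + 1) - Finsupp.single 2 (m + 1) +
        Finsupp.single 5 1 = d := by
      rw [add_tsub_cancel_right]
      ext j
      by_cases hj : j = 5
      · subst hj; simp; omega
      · simp [Ne.symm hj]
    rw [if_neg c2, if_neg c3, if_pos c1, if_neg c4, e1] at h
    simp only [add_zero, zero_add] at h
    rcases mul_eq_zero.mp h with h | h
    · exact hc h
    · exact Nat.cast_add_one_ne_zero _ h
  -- remaining case: only v occurs
  have h6 : 1 ≤ d 6 := by omega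
  have h := congrArg (coeff (d - Finsupp.single 6 1 +
    (Finsupp.single 0 m + Finsupp.single 1 m + Finsupp.single 2 m))) hδ
  rw [coeff_deltaR, coeff_zero] at h
  have c1 : ¬ Finsupp.single 0 (m + 1) ≤ d - Finsupp.single 6 1 +
      (Finsupp.single 0 m + Finsupp.single 1 m + Finsupp.single 2 m) := by
    intro hle
    have := hle 0
    simp [h0] at this
  have c2 : ¬ Finsupp.single 1 (m + 1) ≤ d - Finsupp.single 6 1 +
      (Finsupp.single 0 m + Finsupp.single 1 m + Finsupp.single 2 m) := by
    intro hle
    have := hle 1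
    simp [h1] at this
  have c3 : ¬ Finsupp.single 2 (m + 1) ≤ d - Finsupp.single 6 1 +
      (Finsupp.single 0 m + Finsupp.single 1 m + Finsupp.single 2 m) := by
    intro hle
    have := hle 2
    simp [h2] at this
  have c4 : Finsupp.single 0 m + Finsupp.single 1 m + Finsupp.single 2 m ≤
      d - Finsupp.single 6 1 + (Finsupp.single 0 m + Finsupp.single 1 m + Finsupp.single 2 m) :=
    le_add_self
  have e1 : d - Finsupp.single 6 1 + (Finsupp.single 0 m + Finsupp.single 1 m + Finsupp.single 2 m) -
      (Finsupp.single 0 m + Finsupp.single 1 m + Finsupp.single 2 m) + Finsupp.single 6 1 = d := by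
    rw [add_tsub_cancel_right]
    ext j
    by_cases hj : j = 6
    · subst hj; simp; omega
    · simp [Ne.symm hj]
  rw [if_neg c1, if_neg c2, if_neg c3, if_pos c4, e1] at h
  simp only [add_zero, zero_add] at h
  rcases mul_eq_zero.mp h with h | h
  · exact hc h
  · exact Nat.cast_add_one_ne_zero _ h
end

/-- Let k be a field of characteristic zero and m ≥ 2; in the polynomial ring k[x, y, z, s, t, u, v]
(variables 0, …, 6) let δ be the k-derivation with δ(x) = δ(y) = δ(z) = 0, δ(s) = x^(m+1), δ(t) =
y^(m+1), δ(u) = z^(m+1), δ(v) = (xyz)^m, and grade by total degree in s, t, u, v. If f is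
homogeneous of degree n ≥ 1 for this grading and δ(f) = 0, then every coefficient of f, as a
polynomial in s, t, u, v over k[x, y, z], lies in the ideal (x, y, z): every monomial of f has
positive degree in x, y, z. (The published statement allows n = 0, where the constant 1 is a
counterexample; this row assumes n ≥ 1. The published definition of the derivation gives δ(v) =
(xyz)^(m+1), for which the assertion fails: v − (yz)^(m+1)·s is killed by δ and has the monomial v
with coefficient 1; this row uses δ(v) = (xyz)^m, the exponent of the published action formula and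
of the published examples of invariants.) -/
theorem result (k : Type u) [Field k] [CharZero k] (m : ℕ) (hm : 2 ≤ m) (n : ℕ) (hn : 1 ≤ n)
    (f : MvPolynomial (Fin 7) k)
    (hf : MvPolynomial.IsWeightedHomogeneous (![0, 0, 0, 1, 1, 1, 1] : Fin 7 → ℕ) f n)
    (hδ : MvPolynomial.mkDerivation k
      (![0, 0, 0, MvPolynomial.X 0 ^ (m + 1), MvPolynomial.X 1 ^ (m + 1), MvPolynomial.X 2 ^ (m + 1),
        (MvPolynomial.X 0 * MvPolynomial.X 1 * MvPolynomial.X 2) ^ m] : Fin 7 → MvPolynomial (Fin 7) k) f = 0) :
    ∀ d ∈ f.support, 0 < d 0 + d 1 + d 2 :=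
  mainR k m hm n hn f hf hδ


end Groth.Agent.S11217
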