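import Groth.Statements.S11221
import Mathlib.RingTheory.Ideal.AssociatedPrime.Localization
import Mathlib.RingTheory.Ideal.Height
-- import your own Groth.Agent.* helpers here

set_option autoImplicit false
universe u
open CategoryTheory MonoidalCategory CartesianMonoidalCategory MonObj GrpObj AlgebraicGeometry
open scoped TensorProduct
open AGF

namespace Groth.Agent.S11221

/-- Let R be a Noetherian integrally closed domain with fraction field K and let p be a prime ideal of R
of height one. Then there is f ∈ K which is not in R but lies in the local ring R_q ⊆ K of every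
height-one prime q ≠ p (f = a/b with b ∉ q): a rational function on Spec R with a pole along V(p)
only. (The published statement is for the coordinate ring of a normal affine variety; this row is
for any Noetherian integrally closed domain, which is all the argument uses.) -/
theorem result (R : Type u) [CommRing R] [IsDomain R] [IsNoetherianRing R] [IsIntegrallyClosed R]
    (p : Ideal R) [p.IsPrime] (hp : p.height = 1) :
    ∃ f : FractionRing R, f ∉ Set.range ⇑(algebraMap R (FractionRing R)) ∧
      ∀ q : Ideal R, q.IsPrime → q.height = 1 → q ≠ p →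
        ∃ a b : R, b ∉ q ∧ f * algebraMap R (FractionRing R) b = algebraMap R (FractionRing R) a := by
  -- nonzero element of p
  have hpbot : p ≠ ⊥ := by
    rintro rfl
    rw [Ideal.height_bot] at hp
    exact zero_ne_one hp
  obtain ⟨a, hap, ha0⟩ := Submodule.exists_mem_ne_zero_of_ne_bot hpbot
  -- p is minimal over (a)
  have hmin : p ∈ (Ideal.span {a}).minimalPrimes := by
    refine ⟨⟨inferInstance, (Ideal.span_singleton_le_iff_mem p).mpr hap⟩, ?_⟩
    rintro q ⟨hqprime, haq⟩ hqp
    by_contra hnle
    have hlt : q < p := lt_of_le_of_ne hqp (fun h => hnle (h ▸ le_refl _))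
    have hfin : p.FiniteHeight := p.finiteHeight_iff.mpr (Or.inr (by rw [hp]; exact ENat.one_ne_top))
    have h1 := Ideal.height_strict_mono_of_isPrime_of_isPrime hlt
    rw [hp, Order.lt_one_iff] at h1
    have hqbot : q = ⊥ := Ideal.height_eq_zero_iff_eq_bot.mp h1
    rw [hqbot] at haq
    exact ha0 (by simpa using haq)
  -- hence an associated prime of R/(a)
  have hass : p ∈ associatedPrimes R (R ⧸ Ideal.span {a}) := by
    apply Module.associatedPrimes.minimalPrimes_annihilator_subset_associatedPrimes
    rwa [Ideal.annihilator_quotient]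
  obtain ⟨hpp, x, hx⟩ := isAssociatedPrime_iff.mp hass
  obtain ⟨b, rfl⟩ := Ideal.Quotient.mk_surjective x
  -- b ∉ (a) and b p ⊆ (a)
  have hmem : ∀ c : R, c ∈ p ↔ c * b ∈ Ideal.span {a} := by
    intro c
    rw [hx, Submodule.mem_colon_singleton, Submodule.mem_bot, ← Ideal.Quotient.eq_zero_iff_mem]
    simp [Algebra.smul_def]
  have hb : b ∉ Ideal.span {a} := by
    intro hb
    have : (1 : R) ∈ p := (hmem 1).mpr (by simpa using hb)
    exact hpp.ne_top ((Ideal.eq_top_iff_one p).mpr this)
  have ha0' : algebraMap R (FractionRing R) a ≠ 0 := by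
    simpa using ha0
  refine ⟨algebraMap R (FractionRing R) b / algebraMap R (FractionRing R) a, ?_, ?_⟩
  · rintro ⟨r, hr⟩
    apply hb
    rw [eq_div_iff ha0', ← map_mul] at hr
    have := IsFractionRing.injective R (FractionRing R) hr
    rw [Ideal.mem_span_singleton']
    exact ⟨r, this⟩
  · intro q hq hq1 hqp
    have hnle : ¬ p ≤ q := by
      intro hle
      have hlt : p < q := lt_of_le_of_ne hle (Ne.symm hqp)
      have hfin : q.FiniteHeight := q.finiteHeight_iff.mpr (Or.inr (by rw [hq1]; exact ENat.one_ne_top))
      have h1 := Ideal.height_strict_mono_of_isPrime_of_isPrime hlt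
      rw [hp, hq1] at h1
      exact lt_irrefl _ h1
    obtain ⟨c, hcp, hcq⟩ := SetLike.not_le_iff_exists.mp hnle
    obtain ⟨a', ha'⟩ := Ideal.mem_span_singleton'.mp ((hmem c).mp hcp)
    refine ⟨a', c, hcq, ?_⟩
    rw [div_mul_eq_mul_div, div_eq_iff ha0', ← map_mul, ← map_mul, ha', mul_comm]


end Groth.Agent.S11221
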