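import Groth.Statements.S11223
import Mathlib
-- import your own Groth.Agent.* helpers here

set_option autoImplicit false
universe u
open CAlg

namespace Groth.Agent.S11223

section helpers
open MvPolynomial

attribute [local instance] MvPolynomial.gradedAlgebra in
lemma hc_mul {σ k : Type*} [CommSemiring k] (g z : MvPolynomial σ k) (e d : ℕ)
    (hz : z.IsHomogeneous e) :
    homogeneousComponent d (g * z) =
      if e ≤ d then homogeneousComponent (d - e) g * z else 0 := by
  have := DirectSum.coe_decompose_mul_of_right_mem (𝒜 := homogeneousSubmodule σ k) (a := g) d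
    (hz : z ∈ homogeneousSubmodule σ k e)
  rw [← decomposition.decompose'_apply, ← decomposition.decompose'_apply]
  exact this

end helpers

/-- Let k be a field, let z_1, ..., z_m be homogeneous polynomials of positive degree in the polynomial
ring k[x_1, ..., x_n], and suppose the radical of the ideal (z_1, ..., z_m) is the ideal (x_1, ...,
x_n) generated by the variables. Then the polynomial ring is integral over the subalgebra generated
by z_1, ..., z_m. (The published statement is over an algebraically closed field; this row takes any
field, which its proof allows.) -/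
theorem result (k : Type u) [Field k] (n m : ℕ)
    (z : Fin m → MvPolynomial (Fin n) k) (d : Fin m → ℕ) (hd : ∀ i, 0 < d i)
    (hz : ∀ i, (z i).IsHomogeneous (d i))
    (hrad : (Ideal.span (Set.range z)).radical =
      Ideal.span (Set.range (MvPolynomial.X : Fin n → MvPolynomial (Fin n) k))) :
    Algebra.IsIntegral (Algebra.adjoin k (Set.range z)) (MvPolynomial (Fin n) k) := by
  classical
  obtain ⟨N, hN⟩ : ∃ N, MvPolynomial.idealOfVars (Fin n) k ^ N ≤ Ideal.span (Set.range z) := by
    apply Ideal.exists_pow_le_of_le_radical_of_fg _ (MvPolynomial.idealOfVars_fg (Fin n) k)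
    rw [hrad]
  obtain ⟨Wset, hWset⟩ : ∃ Wset : Set (MvPolynomial (Fin n) k), Wset =
      (fun m : Fin n →₀ ℕ => MvPolynomial.monomial m (1 : k)) '' {m | m.degree < N} := ⟨_, rfl⟩
  have hWfin : Wset.Finite := by
    rw [hWset]
    exact (Finsupp.finite_of_degree_lt N).image _
  have hdeg : ∀ (f : MvPolynomial (Fin n) k) (e : ℕ), f.IsHomogeneous e →
      ∀ m ∈ f.support, m.degree = e := by
    intro f e hf m hm
    rw [Finsupp.degree_eq_weight_one]
    exact hf (MvPolynomial.mem_support_iff.mp hm)
  have key : ∀ e, ∀ f : MvPolynomial (Fin n) k, f.IsHomogeneous e →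
      f ∈ Submodule.span (Algebra.adjoin k (Set.range z)) Wset := by
    intro e
    induction e using Nat.strong_induction_on with
    | _ e ih =>
      intro f hf
      by_cases hdN : e < N
      · rw [f.as_sum]
        refine Submodule.sum_mem _ fun m hm => ?_
        have hmdeg : m.degree = e := hdeg f e hf m hm
        have h1 : MvPolynomial.monomial m (MvPolynomial.coeff m f) =
            (algebraMap k (Algebra.adjoin k (Set.range z)) (MvPolynomial.coeff m f)) •
              MvPolynomial.monomial m (1 : k) := by
          rw [algebraMap_smul, MvPolynomial.smul_monomial, smul_eq_mul, mul_one]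
        rw [h1]
        refine Submodule.smul_mem _ _ (Submodule.subset_span ?_)
        rw [hWset]
        exact ⟨m, by simpa [hmdeg] using hdN, rfl⟩
      · push Not at hdN
        have hfmem : f ∈ Ideal.span (Set.range z) :=
          hN ((MvPolynomial.mem_pow_idealOfVars_iff N f).mpr fun m hm => by
            rw [hdeg f e hf m hm]; exact hdN)
        obtain ⟨g, hg⟩ := Ideal.mem_span_range_iff_exists_fun.mp hfmem
        have hsum : f = ∑ i, if d i ≤ e then
            MvPolynomial.homogeneousComponent (e - d i) (g i) * z i else 0 := by
          conv_lhs => rw [← MvPolynomial.homogeneousComponent_eq_self hf, ← hg, map_sum]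
          exact Finset.sum_congr rfl fun i _ => hc_mul _ _ _ _ (hz i)
        rw [hsum]
        refine Submodule.sum_mem _ fun i _ => ?_
        split_ifs with h
        · have h1 := ih (e - d i) (by have := hd i; omega) _
            (MvPolynomial.homogeneousComponent_isHomogeneous (e - d i) (g i))
          have h2 : MvPolynomial.homogeneousComponent (e - d i) (g i) * z i =
              (⟨z i, Algebra.subset_adjoin ⟨i, rfl⟩⟩ : Algebra.adjoin k (Set.range z)) •
                MvPolynomial.homogeneousComponent (e - d i) (g i) := by
            rw [mul_comm]; rfl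
          rw [h2]
          exact Submodule.smul_mem _ _ h1
        · exact Submodule.zero_mem _
  have htop : Submodule.span (Algebra.adjoin k (Set.range z)) Wset = ⊤ := by
    rw [eq_top_iff]
    intro f _
    rw [← MvPolynomial.sum_homogeneousComponent f]
    exact Submodule.sum_mem _ fun i _ =>
      key i _ (MvPolynomial.homogeneousComponent_isHomogeneous i f)
  haveI : Module.Finite (Algebra.adjoin k (Set.range z)) (MvPolynomial (Fin n) k) :=
    ⟨by rw [← htop]; exact Submodule.fg_span hWfin⟩
  exact Algebra.IsIntegral.of_finite _ _

end Groth.Agent.S11223
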