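import Groth.Statements.S11233
import Mathlib

set_option autoImplicit false
universe u
open CAlg

namespace Groth.Agent.S11233

/-- Let k be an algebraically closed field, A an integral domain which is a k-algebra, T an m by m
matrix over A with invertible determinant, and let the additive group k^m act on the polynomial ring
A[y_1, ..., y_m] by the A-algebra maps y_s ↦ y_s + Σ_r h_r T_rs. Then the only invariant polynomials
are the constants: a polynomial fixed by all these substitutions lies in A. -/
theorem result (k : Type u) [Field k] [IsAlgClosed k]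
    (A : Type u) [CommRing A] [IsDomain A] [Algebra k A] (m : ℕ) (T : Matrix (Fin m) (Fin m) A)
    (hT : IsUnit T.det) (f : MvPolynomial (Fin m) A)
    (hf : ∀ h : Fin m → k, MvPolynomial.aeval
      (fun s : Fin m => MvPolynomial.X s + MvPolynomial.C (∑ r : Fin m, algebraMap k A (h r) * T r s)) f = f) :
    ∃ a : A, f = MvPolynomial.C a := by
  classical
  haveI : Infinite k := IsAlgClosed.instInfinite
  have hinj : Function.Injective (algebraMap k A) := (algebraMap k A).injective
  let B := MvPolynomial (Fin m) A
  -- the generic translate
  let φ : Fin m → MvPolynomial (Fin m) B := fun s =>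
    MvPolynomial.C (MvPolynomial.X s) +
      ∑ r : Fin m, MvPolynomial.X r * MvPolynomial.C (MvPolynomial.C (T r s))
  let G : MvPolynomial (Fin m) B := MvPolynomial.aeval φ f
  have hcomp : ∀ x : Fin m → B, MvPolynomial.eval x G =
      MvPolynomial.aeval (fun s => MvPolynomial.X s + ∑ r : Fin m, x r * MvPolynomial.C (T r s)) f := by
    intro x
    have h1 := MvPolynomial.comp_aeval (R := A) φ ((MvPolynomial.aeval x).restrictScalars A)
    have h2 := DFunLike.congr_fun h1 f
    simp only [AlgHom.comp_apply, AlgHom.restrictScalars_apply] at h2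
    rw [MvPolynomial.aeval_eq_eval] at h2
    rw [show G = MvPolynomial.aeval φ f from rfl, h2]
    have : (fun i => MvPolynomial.eval x (φ i)) =
        (fun s => MvPolynomial.X s + ∑ r : Fin m, x r * MvPolynomial.C (T r s)) := by
      funext s
      simp [φ]
    rw [this]
  have hG : G = MvPolynomial.C f := by
    apply MvPolynomial.funext_set (fun _ : Fin m => Set.range (fun c : k => (MvPolynomial.C (algebraMap k A c) : B)))
    · intro _
      apply Set.infinite_range_of_injective
      exact (MvPolynomial.C_injective (Fin m) A).comp hinj
    · intro x hx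
      choose h hh using fun i => hx i (Set.mem_univ i)
      have hxh : x = fun r => MvPolynomial.C (algebraMap k A (h r)) := by
        funext r; exact (hh r).symm
      rw [hcomp, MvPolynomial.eval_C, hxh]
      have : (fun s : Fin m => (MvPolynomial.X s : B) + ∑ r : Fin m,
          (fun r => (MvPolynomial.C (algebraMap k A (h r)) : B)) r * MvPolynomial.C (T r s)) =
          (fun s => MvPolynomial.X s + MvPolynomial.C (∑ r, (algebraMap k A) (h r) * T r s)) := by
        funext s
        simp [map_sum]
      rw [this]
      exact hf h
  have key := congrArg (MvPolynomial.eval (fun r : Fin m =>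
    - ∑ s : Fin m, (MvPolynomial.X s : B) * MvPolynomial.C (T⁻¹ s r))) hG
  rw [hcomp, MvPolynomial.eval_C] at key
  have hzero : (fun s : Fin m => (MvPolynomial.X s : B) + ∑ r : Fin m,
      (- ∑ s' : Fin m, (MvPolynomial.X s' : B) * MvPolynomial.C (T⁻¹ s' r)) * MvPolynomial.C (T r s)) =
      fun _ => 0 := by
    funext s
    have hTT : T⁻¹ * T = 1 := Matrix.nonsing_inv_mul T hT
    have : ∑ r : Fin m, (- ∑ s' : Fin m, (MvPolynomial.X s' : B) * MvPolynomial.C (T⁻¹ s' r)) *
        MvPolynomial.C (T r s) = - MvPolynomial.X s := by
      simp_rw [neg_mul, Finset.sum_neg_distrib, Finset.sum_mul]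
      rw [Finset.sum_comm]
      simp_rw [mul_assoc, ← Finset.mul_sum, ← map_mul, ← map_sum]
      have : ∀ s' : Fin m, ∑ r : Fin m, T⁻¹ s' r * T r s = (1 : Matrix (Fin m) (Fin m) A) s' s := by
        intro s'
        rw [← hTT, Matrix.mul_apply]
      simp_rw [this, Matrix.one_apply]
      simp
    rw [this, add_neg_cancel]
  rw [hzero] at key
  refine ⟨MvPolynomial.constantCoeff f, ?_⟩
  rw [MvPolynomial.aeval_zero'] at key
  rw [← MvPolynomial.algebraMap_eq]
  exact key.symm

end Groth.Agent.S11233
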