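import Groth.Statements.S11240
import Mathlib
-- import your own Groth.Agent.* helpers here

set_option autoImplicit false
universe u
open AGF

namespace Groth.Agent.S11240

section helpers
variable (k : Type u) [Field k] (n m p : ℕ)

/-- the generic matrix -/
noncomputable def gen : Matrix (Fin n) (Fin m) (MvPolynomial (Fin n × Fin m) k) :=
  Matrix.of fun a c => (MvPolynomial.X (a, c) : MvPolynomial (Fin n × Fin m) k)

lemma det_sub_ne_zero (r : Fin p → Fin n) (hr : Function.Injective r)
    (c : Fin p → Fin m) (hc : Function.Injective c) :
    ((gen k n m).submatrix r c).det ≠ 0 := by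
  classical
  intro h0
  have h1 := congrArg (MvPolynomial.eval (fun ac : Fin n × Fin m =>
    if ∃ s, r s = ac.1 ∧ c s = ac.2 then (1 : k) else 0)) h0
  rw [RingHom.map_det, map_zero] at h1
  have h2 : (MvPolynomial.eval (fun ac : Fin n × Fin m =>
      if ∃ s, r s = ac.1 ∧ c s = ac.2 then (1 : k) else 0)).mapMatrix
      ((gen k n m).submatrix r c) = 1 := by
    ext s t
    simp only [RingHom.mapMatrix_apply, Matrix.map_apply, Matrix.submatrix_apply, gen,
      Matrix.of_apply, MvPolynomial.eval_X, Matrix.one_apply]
    by_cases hst : s = t
    · subst hst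
      rw [if_pos ⟨s, rfl, rfl⟩, if_pos rfl]
    · rw [if_neg hst, if_neg]
      rintro ⟨s', hs1, hs2⟩
      exact hst ((hr hs1).symm.trans (hc hs2))
  rw [h2, Matrix.det_one] at h1
  exact one_ne_zero h1

lemma tv_apply (i j : Fin n) (b : k) (a : Fin n) (c : Fin m) :
    (Matrix.transvection i j (MvPolynomial.C b) * gen k n m :
      Matrix (Fin n) (Fin m) (MvPolynomial (Fin n × Fin m) k)) a c =
      gen k n m a c + if a = i then (MvPolynomial.C b : MvPolynomial (Fin n × Fin m) k) *
        gen k n m j c else 0 := by
  change ∑ l, (Matrix.transvection i j (MvPolynomial.C b)) a l * gen k n m l c = _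
  simp only [Matrix.transvection, Matrix.add_apply, Matrix.one_apply, Matrix.single_apply, add_mul,
    Finset.sum_add_distrib, ite_mul, one_mul, zero_mul, Finset.sum_ite_eq, Finset.mem_univ, if_true]
  congr 1
  by_cases h : a = i
  · subst h
    simp
  · have : ∀ l, ¬ (i = a ∧ j = l) := fun l hl => h hl.1.symm
    simp [this, h]

lemma sub_transvection (i j : Fin n) (b : k)
    (P : Matrix (Fin n) (Fin m) (MvPolynomial (Fin n × Fin m) k))
    (hP : ∀ a c, P a c = gen k n m a c + if a = i then
      (MvPolynomial.C b : MvPolynomial (Fin n × Fin m) k) * gen k n m j c else 0)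
    (I : Fin p → Fin n) (J : Fin p → Fin m)
    (s₀ : Fin p) (hs₀ : I s₀ = i) (hI : Function.Injective I) :
    P.submatrix I J =
      ((gen k n m).submatrix I J).updateRow s₀
        (((gen k n m).submatrix I J) s₀ +
          (MvPolynomial.C b : MvPolynomial (Fin n × Fin m) k) • fun c => gen k n m j (J c)) := by
  refine Matrix.ext fun s c => ?_
  rw [Matrix.submatrix_apply, hP]
  by_cases hs : s = s₀
  · subst hs
    rw [Matrix.updateRow_self, if_pos hs₀]
    rfl
  · rw [Matrix.updateRow_ne hs, if_neg, add_zero]
    · rfl
    · intro h
      exact hs (hI (h.trans hs₀.symm))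

lemma main (i j : Fin n) (hij : i ≠ j) (I : Fin p ↪o Fin n) (J : Fin p ↪o Fin m)
    (P : k → Matrix (Fin n) (Fin m) (MvPolynomial (Fin n × Fin m) k))
    (hP : ∀ b a c, P b a c = gen k n m a c + if a = i then
      (MvPolynomial.C b : MvPolynomial (Fin n × Fin m) k) * gen k n m j c else 0) :
    (∀ b : k, ((P b).submatrix I J).det = ((gen k n m).submatrix I J).det) ↔
      (i ∈ Set.range I → j ∈ Set.range I) := by
  classical
  constructor
  · rintro hall ⟨s₀, hs₀⟩
    by_contra hj
    have h1 := hall 1
    rw [sub_transvection k n m p i j 1 (P 1) (hP 1) I J s₀ hs₀ I.injective,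
      Matrix.det_updateRow_add,
      Matrix.updateRow_eq_self, Matrix.det_updateRow_smul, map_one, one_mul] at h1
    have h2 : (((gen k n m).submatrix I J).updateRow s₀ fun c => gen k n m j (J c)) =
        (gen k n m).submatrix (Function.update I s₀ j) J := by
      ext s c
      by_cases hs : s = s₀
      · subst hs
        rw [Matrix.updateRow_self, Matrix.submatrix_apply, Function.update_self]
      · rw [Matrix.updateRow_ne hs, Matrix.submatrix_apply, Matrix.submatrix_apply,
          Function.update_of_ne hs]
    have hinj : Function.Injective (Function.update (I : Fin p → Fin n) s₀ j) := by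
      intro s t hst
      by_cases hs : s = s₀ <;> by_cases ht : t = s₀
      · rw [hs, ht]
      · exfalso
        rw [hs, Function.update_self, Function.update_of_ne ht] at hst
        exact hj ⟨t, hst.symm⟩
      · exfalso
        rw [ht, Function.update_self, Function.update_of_ne hs] at hst
        exact hj ⟨s, hst⟩
      · rw [Function.update_of_ne hs, Function.update_of_ne ht] at hst
        exact I.injective hst
    rw [h2] at h1
    exact det_sub_ne_zero k n m p _ hinj _ J.injective (by simpa using h1)
  · intro hcond b
    by_cases hi : i ∈ Set.range I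
    · obtain ⟨s₀, hs₀⟩ := hi
      obtain ⟨t₀, ht₀⟩ := hcond ⟨s₀, hs₀⟩
      have hst : s₀ ≠ t₀ := by
        rintro rfl
        exact hij (hs₀.symm.trans ht₀)
      rw [sub_transvection k n m p i j b (P b) (hP b) I J s₀ hs₀ I.injective,
        Matrix.det_updateRow_add,
        Matrix.updateRow_eq_self, Matrix.det_updateRow_smul]
      have h0 : (((gen k n m).submatrix I J).updateRow s₀ fun c => gen k n m j (J c)).det = 0 := by
        apply Matrix.det_zero_of_row_eq hst
        rw [Matrix.updateRow_self, Matrix.updateRow_ne hst.symm]
        funext c
        rw [Matrix.submatrix_apply, ht₀]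
      rw [h0, mul_zero, add_zero]
    · refine congrArg Matrix.det (Matrix.ext fun s c => ?_)
      rw [Matrix.submatrix_apply, Matrix.submatrix_apply]
      refine (hP b (I s) (J c)).trans ?_
      rw [if_neg, add_zero]
      intro h
      exact hi ⟨s, h⟩

end helpers

/-- For a single root subgroup: let k be an algebraically closed field and X = (x_ab) the generic n × m
matrix over the polynomial ring k[x_ab]. Let i ≠ j be row indices and let I (rows) and J (columns)
be strictly increasing sequences of length p. The minor of X with rows I and columns J is invariant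
under replacing X by (1 + b·E_ij)·X for every b ∈ k (the one-parameter unipotent group adding b
times row j to row i) if and only if j occurs in I whenever i does. (The published statement gives
the criterion for the group generated by several such root subgroups, which is the conjunction of
these.) -/
theorem result (k : Type u) [Field k] [IsAlgClosed k] (n m p : ℕ)
    (i j : Fin n) (hij : i ≠ j) (I : Fin p ↪o Fin n) (J : Fin p ↪o Fin m) :
    (∀ b : k, ((Matrix.transvection i j (MvPolynomial.C b) *
        (Matrix.of fun a c => (MvPolynomial.X (a, c) : MvPolynomial (Fin n × Fin m) k))).submatrix I J).det =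
        ((Matrix.of fun a c => (MvPolynomial.X (a, c) : MvPolynomial (Fin n × Fin m) k)).submatrix I J).det) ↔
      (i ∈ Set.range I → j ∈ Set.range I) := by
  exact main k n m p i j hij I J
    (fun b => Matrix.transvection i j (MvPolynomial.C b) * gen k n m)
    (fun b a c => tv_apply k n m i j b a c)

end Groth.Agent.S11240
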