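import Groth.Statements.S11243
import Mathlib.Tactic

set_option autoImplicit false
universe u v w
open RootD

namespace Groth.Agent.S11243


private lemma pos_sum {ι : Type*} {M N : Type*} [AddCommGroup M] [AddCommGroup N]
    (P : RootPairing ι ℤ M N) (b : P.Base) (i : ι) (hi : b.IsPos i) :
    ∃ f : ι → ℕ, P.root i = ∑ j ∈ b.support, f j • P.root j ∧ 0 < ∑ j ∈ b.support, f j := by
  obtain ⟨f, hf, h | h⟩ := b.exists_root_eq_sum_nat_or_neg i
  · refine ⟨f, h, ?_⟩
    have h' : P.root i = ∑ j ∈ b.support, (fun j => (f j : ℤ)) j • P.root j := by
      simpa using h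
    have h2 := b.height_eq_sum h'
    rw [b.isPos_iff, h2] at hi
    exact_mod_cast hi
  · exfalso
    have h' : P.root i = ∑ j ∈ b.support, (fun j => -(f j : ℤ)) j • P.root j := by
      rw [h]
      simp [Finset.sum_neg_distrib]
    have h2 := b.height_eq_sum h'
    rw [b.isPos_iff, h2] at hi
    simp only [Finset.sum_neg_distrib] at hi
    have h3 : (0 : ℤ) ≤ ∑ j ∈ b.support, (f j : ℤ) :=
      Finset.sum_nonneg (fun _ _ => by positivity)
    omega

/-- (b), for a connected group, as a statement about its root datum: let P be a finite reduced
crystallographic root pairing over ℤ with weight lattice M, and b a base of P (simple roots,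
determining the positive roots). Then there is an additive map h : M → ℤ which is positive on every
positive root (so that h strictly increases along the dominance order) and non-negative on every
dominant weight, i.e. on every ω ∈ M pairing non-negatively with all simple coroots. (Part (c),
invariance under the component group of a disconnected group, is not stated.) -/
theorem result {ι : Type u} {M : Type v} {N : Type w}
    [Fintype ι] [AddCommGroup M] [AddCommGroup N]
    (P : RootPairing ι ℤ M N) [P.IsReduced] [P.IsCrystallographic] (b : P.Base) :
    ∃ h : M →+ ℤ, (∀ i : ι, b.IsPos i → 0 < h (P.root i)) ∧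
      ∀ ω : M, (∀ j ∈ b.support, 0 ≤ P.toLinearMap ω (P.coroot j)) → 0 ≤ h ω := by
  classical
  haveI : Module.IsReflexive ℤ N := .of_isPerfPair P.flip.toLinearMap
  haveI : Module.IsReflexive ℤ M := .of_isPerfPair P.toLinearMap
  haveI : P.flip.IsReduced := inferInstance
  let Pos' : Finset ι := Finset.univ.filter (fun i => b.flip.IsPos i)
  let hL : M →ₗ[ℤ] ℤ := ∑ i ∈ Pos', P.toLinearMap.flip (P.coroot i)
  have hL_apply : ∀ ω, hL ω = ∑ i ∈ Pos', P.toLinearMap ω (P.coroot i) := by
    intro ω
    simp [hL, LinearMap.sum_apply]
  have hsimple : ∀ j ∈ b.support, hL (P.root j) = 2 := by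
    intro j hj
    have hj' : j ∈ b.flip.support := hj
    have hjpos : j ∈ Pos' := by
      simp only [Pos', Finset.mem_filter, Finset.mem_univ, true_and]
      exact RootPairing.Base.isPos_of_mem_support hj'
    rw [hL_apply, ← Finset.add_sum_erase _ _ hjpos]
    have hzero : ∑ i ∈ Pos'.erase j, P.toLinearMap (P.root j) (P.coroot i) = 0 := by
      apply Finset.sum_involution (fun i _ => P.reflectionPerm j i)
      · intro i hi
        have h1 := P.pairing_reflectionPerm j j i
        rw [P.pairing_reflectionPerm_self_left] at h1
        show P.pairing j i + P.pairing j (P.reflectionPerm j i) = 0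
        rw [h1]
        ring
      · intro i hi hne heq
        apply hne
        have h1 := P.pairing_reflectionPerm j j i
        rw [P.pairing_reflectionPerm_self_left] at h1
        rw [heq] at h1
        show P.pairing j i = 0
        omega
      · intro i hi
        rw [Finset.mem_erase] at hi ⊢
        obtain ⟨hij, hi⟩ := hi
        have hipos : b.flip.IsPos i := (Finset.mem_filter.1 hi).2
        refine ⟨?_, ?_⟩
        · intro h
          have h3 : i = P.reflectionPerm j j := by
            have h5 := congrArg (P.reflectionPerm j) h
            rw [RootPairing.reflectionPerm_self] at h5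
            exact h5
          have h4 : b.flip.height (P.flip.reflectionPerm j j) = - b.flip.height j :=
            b.flip.height_reflectionPerm_self j
          rw [b.flip.isPos_iff, h3] at hipos
          have h6 : b.flip.height (P.flip.reflectionPerm j j) = b.flip.height (P.reflectionPerm j j) := rfl
          rw [← h6, h4, RootPairing.Base.height_one_of_mem_support hj'] at hipos
          omega
        · simp only [Pos', Finset.mem_filter, Finset.mem_univ, true_and]
          exact hipos.reflectionPerm hj' hij
      · intro i hi
        simp
    rw [hzero, add_zero]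
    show P.pairing j j = 2
    exact P.pairing_same j
  refine ⟨hL.toAddMonoidHom, ?_, ?_⟩
  · intro i hi
    obtain ⟨f, hf, hpos⟩ := pos_sum P b i hi
    show 0 < hL (P.root i)
    rw [hf, map_sum]
    have h1 : ∀ j ∈ b.support, hL (f j • P.root j) = (f j : ℤ) * 2 := by
      intro j hj
      rw [map_nsmul, hsimple j hj]
      simp
    rw [Finset.sum_congr rfl h1, ← Finset.sum_mul]
    have : (0 : ℤ) < ∑ j ∈ b.support, (f j : ℤ) := by exact_mod_cast hpos
    omega
  · intro ω hω
    show 0 ≤ hL ω
    rw [hL_apply]
    apply Finset.sum_nonneg
    intro i hi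
    have hipos : b.flip.IsPos i := (Finset.mem_filter.1 hi).2
    obtain ⟨f, hf, -⟩ := pos_sum P.flip b.flip i hipos
    have hf' : P.coroot i = ∑ j ∈ b.support, f j • P.coroot j := hf
    rw [hf', map_sum]
    apply Finset.sum_nonneg
    intro j hj
    rw [map_nsmul]
    exact nsmul_nonneg (hω j hj) _

end Groth.Agent.S11243
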