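import Groth.Statements.S11249
import Mathlib

set_option autoImplicit false
universe u
open W4bk4grassmannian

namespace Groth.Agent.S11249

section aux

-- universe u declared in template
open Matrix W4bk4grassmannian

section
variable {K : Type u} [Field K] {d n : ℕ}

/-- existence of a nonvanishing maximal minor -/
theorem exists_minor (A : Matrix (Fin n) (Fin d) K) (hA : LinearIndependent K A.transpose) :
    ∃ θ : Fin d → Fin n, (A.submatrix θ id).det ≠ 0 := by
  have hrank : A.rank = d := by
    rw [Matrix.rank_eq_finrank_span_cols, Matrix.col_eq_transpose]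
    have := finrank_span_eq_card hA
    rw [Fintype.card_fin] at this
    exact this
  have hrows : Submodule.span K (Set.range A.row) = ⊤ := by
    apply Submodule.eq_top_of_finrank_eq
    rw [← Matrix.rank_eq_finrank_span_row, hrank]; simp
  obtain ⟨ι, b, hb⟩ : ∃ (ι : Type u) (b : Module.Basis ι K (Fin d → K)), Set.range b ⊆ Set.range A.row :=
    ⟨_, Module.Basis.ofSpan (le_of_eq hrows.symm), Module.Basis.ofSpan_subset _⟩
  haveI := FiniteDimensional.fintypeBasisIndex b
  have hcard : Fintype.card ι = d := by
    rw [← Module.finrank_eq_card_basis b]; simp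
  let b' := b.reindex (Fintype.equivFinOfCardEq hcard)
  have hmem : ∀ j, b' j ∈ Set.range A.row := by
    intro j
    apply hb
    simp only [b', Module.Basis.reindex_apply]
    exact ⟨_, rfl⟩
  choose θ hθ using hmem
  refine ⟨θ, ?_⟩
  have hrow : (A.submatrix θ id).row = b' := by
    funext j
    rw [← hθ j]
    rfl
  have hli : LinearIndependent K (A.submatrix θ id).row := by
    rw [hrow]; exact b'.linearIndependent
  have := Matrix.linearIndependent_rows_iff_isUnit.mp hli
  rw [Matrix.isUnit_iff_isUnit_det] at this
  exact this.ne_zero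

end

section
variable {K : Type u} [Field K] {d n : ℕ}

/-- a relation between sorted minors extends to all minors -/
theorem minors_all (A A' : Matrix (Fin n) (Fin d) K) (c : K)
    (h : ∀ θ : Idx d n, (A.submatrix θ.1 id).det = c * (A'.submatrix θ.1 id).det)
    (θ : Fin d → Fin n) : (A.submatrix θ id).det = c * (A'.submatrix θ id).det := by
  by_cases hinj : Function.Injective θ
  · let σ := Tuple.sort θ
    have hmono : Monotone (θ ∘ σ) := Tuple.monotone_sort θ
    have hsm : StrictMono (θ ∘ σ) := hmono.strictMono_of_injective (hinj.comp σ.injective)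
    have key : ∀ B : Matrix (Fin n) (Fin d) K,
        (B.submatrix θ id).det = Equiv.Perm.sign σ⁻¹ * (B.submatrix (θ ∘ σ) id).det := by
      intro B
      have : B.submatrix θ id = (B.submatrix (θ ∘ σ) id).submatrix (σ⁻¹ : Equiv.Perm (Fin d)) id := by
        ext i j
        simp [Matrix.submatrix_apply, Function.comp]
      rw [this, Matrix.det_permute]
    rw [key A, key A', h ⟨θ ∘ σ, hsm⟩]
    ring
  · rw [Function.Injective] at hinj
    push Not at hinj
    obtain ⟨i, j, hij, hne⟩ := hinj
    rw [Matrix.det_zero_of_row_eq hne, Matrix.det_zero_of_row_eq hne, mul_zero]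
    · funext k; simp [Matrix.submatrix_apply, hij]
    · funext k; simp [Matrix.submatrix_apply, hij]

/-- Cramer: entries of `A * M⁻¹` where `M` is a maximal minor -/
theorem entry_formula (A : Matrix (Fin n) (Fin d) K) (θ : Fin d → Fin n)
    (hdet : (A.submatrix θ id).det ≠ 0) (i : Fin n) (j : Fin d) :
    (A * (A.submatrix θ id)⁻¹) i j =
      (A.submatrix (Function.update θ j i) id).det / (A.submatrix θ id).det := by
  set M := A.submatrix θ id with hM
  have hu : IsUnit M.det := isUnit_iff_ne_zero.mpr hdet
  -- x := row i of A * M⁻¹ satisfies x ᵥ* M = A i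
  have h1 : (A * M⁻¹) i ᵥ* M = A i := by
    have : (A * M⁻¹) * M = A := by
      rw [Matrix.mul_assoc, Matrix.nonsing_inv_mul _ hu, Matrix.mul_one]
    have h2 := congrFun this i
    rw [← h2]
    funext k
    simp [Matrix.vecMul, Matrix.mul_apply, dotProduct]
  -- transpose form: Mᵀ *ᵥ x = A i, so x = cramer Mᵀ (A i) / det
  have h3 : Mᵀ *ᵥ ((A * M⁻¹) i) = A i := by
    rw [Matrix.mulVec_transpose]; exact h1
  have h4 : Mᵀ.det • ((A * M⁻¹) i) = Matrix.cramer Mᵀ (A i) := by
    have := Matrix.cramer_eq_adjugate_mulVec Mᵀ (A i)
    rw [this, ← h3, Matrix.mulVec_mulVec, Matrix.adjugate_mul, Matrix.smul_mulVec, Matrix.one_mulVec]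
  have h5 := congrFun h4 j
  rw [Pi.smul_apply, smul_eq_mul, Matrix.det_transpose, Matrix.cramer_apply] at h5
  have h6 : (Mᵀ.updateCol j (A i)).det = (A.submatrix (Function.update θ j i) id).det := by
    rw [← Matrix.det_transpose]
    congr 1
    ext a b
    simp only [Matrix.transpose_apply, Matrix.updateCol_apply, Matrix.submatrix_apply, id_eq, hM,
      Function.update_apply]
    split_ifs <;> rfl
  rw [eq_div_iff hdet, mul_comm, h5, h6]

end

section
variable {K : Type u} [Field K] {d n : ℕ}

theorem span_le_of_eq_mul (B B' : Matrix (Fin n) (Fin d) K) (G : Matrix (Fin d) (Fin d) K)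
    (hB : B = B' * G) :
    Submodule.span K (Set.range B.transpose) ≤ Submodule.span K (Set.range B'.transpose) := by
  rw [Submodule.span_le]
  rintro _ ⟨j, rfl⟩
  have : Bᵀ j = ∑ k, G k j • B'ᵀ k := by
    funext i
    simp [hB, Matrix.mul_apply, mul_comm]
  rw [this]
  exact Submodule.sum_mem _ fun k _ => Submodule.smul_mem _ _ (Submodule.subset_span ⟨k, rfl⟩)

theorem main (A A' : Matrix (Fin n) (Fin d) K) (hA : LinearIndependent K A.transpose)
    (c : K)
    (h : ∀ θ : Idx d n, (A.submatrix θ.1 id).det = c * (A'.submatrix θ.1 id).det) :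
    Submodule.span K (Set.range A.transpose) = Submodule.span K (Set.range A'.transpose) := by
  obtain ⟨θ, hθ⟩ := exists_minor A hA
  have hall := minors_all A A' c h
  have hc : c ≠ 0 := by
    intro h0; apply hθ; rw [hall θ, h0, zero_mul]
  have hθ' : (A'.submatrix θ id).det ≠ 0 := by
    intro h0; apply hθ; rw [hall θ, h0, mul_zero]
  have hu : IsUnit (A.submatrix θ id).det := isUnit_iff_ne_zero.mpr hθ
  have hu' : IsUnit (A'.submatrix θ id).det := isUnit_iff_ne_zero.mpr hθ'
  have hP : A * (A.submatrix θ id)⁻¹ = A' * (A'.submatrix θ id)⁻¹ := by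
    ext i j
    rw [entry_formula A θ hθ, entry_formula A' θ hθ', hall, hall]
    field_simp
  have hAeq : A = A' * ((A'.submatrix θ id)⁻¹ * A.submatrix θ id) := by
    rw [← Matrix.mul_assoc, ← hP, Matrix.mul_assoc, Matrix.nonsing_inv_mul _ hu, Matrix.mul_one]
  have hA'eq : A' = A * ((A.submatrix θ id)⁻¹ * A'.submatrix θ id) := by
    rw [← Matrix.mul_assoc, hP, Matrix.mul_assoc, Matrix.nonsing_inv_mul _ hu', Matrix.mul_one]
  exact le_antisymm (span_le_of_eq_mul A A' _ hAeq) (span_le_of_eq_mul A' A _ hA'eq)

end

end aux

open W4bk4grassmannian in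
/-- Injectivity of the Plücker map, in matrix form: let K be a field, A and A' two n × d matrices over K
with linearly independent columns, and suppose there is a nonzero scalar c with det A_θ = c · det
A'_θ for every strictly increasing d-tuple θ of row indices (A_θ the d × d submatrix on the rows θ).
Then the columns of A and of A' span the same subspace of K^n. (The published statement is over an
algebraically closed field; this row allows any field K.) -/
theorem result (K : Type u) [Field K] (d n : ℕ)
    (A A' : Matrix (Fin n) (Fin d) K) (hA : LinearIndependent K A.transpose)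
    (hA' : LinearIndependent K A'.transpose) (c : K) (hc : c ≠ 0)
    (h : ∀ θ : Idx d n, (A.submatrix θ.1 id).det = c * (A'.submatrix θ.1 id).det) :
    Submodule.span K (Set.range A.transpose) = Submodule.span K (Set.range A'.transpose) := by
  exact main A A' hA c h

end Groth.Agent.S11249
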