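import Groth.Statements.S11253
import Groth.Agent.Lib.Helper18.Plucker.Ideals

set_option autoImplicit false
universe u
open W4bk4grassmannian

namespace Groth.Agent.S11253

open W4bk4grassmannian in
/-- Intersections of Schubert varieties are reduced: let K be an algebraically closed field, 0 < d < n,
and I(d,n) the strictly increasing maps Fin d → Fin n ordered entrywise; S = K[X_θ : θ ∈ I(d,n)] is
the Plücker polynomial ring and, for τ ∈ I(d,n), J(τ) ⊆ S is the ideal of polynomials vanishing at
the d × d row-minors of every n × d matrix over K whose minors on rows φ ≰ τ are zero (the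
homogeneous ideal of the Schubert variety X(τ) ⊆ G(d,n)). Then for all w₁, w₂ ∈ I(d,n) the ideal
J(w₁) + J(w₂) of S is radical. -/
theorem result (K : Type u) [Field K] [IsAlgClosed K] (d n : ℕ)
    (hd : 0 < d) (hdn : d < n) (w₁ w₂ : Idx d n) :
    (schubertVanishing K d n w₁ ⊔ schubertVanishing K d n w₂).IsRadical := by
  haveI : Infinite K := IsAlgClosed.instInfinite
  have hle1 : W4bk4grassmannian.inf w₁ w₂ ≤ w₁ := fun t => min_le_left _ _
  have hle2 : W4bk4grassmannian.inf w₁ w₂ ≤ w₂ := fun t => min_le_right _ _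
  have hI : plIdealTop (d := d) (n := n) K ≤
      schubertVanishing K d n w₁ ⊔ schubertVanishing K d n w₂ :=
    (Groth.Agent.Lib.Helper18.Plucker.plIdealTop_le_schubertVanishing w₁).trans le_sup_left
  have hIJ : schubertVanishing K d n w₁ ⊔ schubertVanishing K d n w₂ ≤
      schubertVanishing K d n (W4bk4grassmannian.inf w₁ w₂) :=
    sup_le (Groth.Agent.Lib.Helper18.Plucker.schubertVanishing_anti hle1)
      (Groth.Agent.Lib.Helper18.Plucker.schubertVanishing_anti hle2)
  have key : schubertVanishing K d n w₁ ⊔ schubertVanishing K d n w₂ =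
      schubertVanishing K d n (W4bk4grassmannian.inf w₁ w₂) := by
    refine Groth.Agent.Lib.Helper18.Plucker.eq_of_std _ _ hI hIJ
      (fun c => ∀ k, c.2.1 k ≤ W4bk4grassmannian.inf w₁ w₂) ?_ ?_
    · intro c hc
      obtain ⟨k, hk⟩ := not_forall.1 hc
      refine Groth.Agent.Lib.Helper18.Plucker.chainMon_mem_of_X_mem _ _ k ?_
      by_cases h1 : c.2.1 k ≤ w₁
      · have h2 : ¬ c.2.1 k ≤ w₂ := by
          intro h2
          exact hk (fun t => le_min (h1 t) (h2 t))
        exact Ideal.mem_sup_right
          (Groth.Agent.Lib.Helper18.Plucker.X_mem_schubertVanishing w₂ _ h2)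
      · exact Ideal.mem_sup_left
          (Groth.Agent.Lib.Helper18.Plucker.X_mem_schubertVanishing w₁ _ h1)
    · have := Groth.Agent.Lib.Helper18.Plucker.std_indep' (K := K) hd
        (fun _ : Unit => W4bk4grassmannian.inf w₁ w₂)
        (fun c : {c : Groth.Agent.Lib.Helper18.Plucker.Chain d n //
          ∀ k, c.2.1 k ≤ W4bk4grassmannian.inf w₁ w₂} => c.1)
        Subtype.val_injective (fun c => ⟨(), c.2⟩)
      rwa [iInf_const] at this
  rw [key]
  exact Groth.Agent.Lib.Helper18.Plucker.schubertVanishing_isRadical _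

end Groth.Agent.S11253
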