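import Groth.Statements.S11254
import Groth.Agent.Lib.Helper18.Plucker.Ideals
import Groth.Agent.S11268

set_option autoImplicit false
universe u
open W4bk4grassmannian

namespace Groth.Agent.S11254

open W4bk4grassmannian in
/-- Let K be an algebraically closed field, 0 < d < n, and I(d,n) the strictly increasing maps Fin d →
Fin n ordered entrywise; S = K[X_θ : θ ∈ I(d,n)] is the Plücker polynomial ring and, for τ ∈ I(d,n),
J(τ) ⊆ S is the ideal of polynomials vanishing at the d × d row-minors of every n × d matrix over K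
whose minors on rows φ ≰ τ are zero (the homogeneous ideal of the Schubert variety X(τ) ⊆ G(d,n)).
Let τ ∈ I(d,n) admit some φ < τ (X(τ) has positive dimension). Then J(τ) + (X_τ) = ⋂_φ J(φ), the
intersection over the Schubert divisors φ of τ, i.e. the φ < τ with Σ_t (φ_t - t) + 1 = Σ_t (τ_t -
t). (For the zero-dimensional Schubert variety there is no divisor and the left side is the
irrelevant ideal, so positive dimension is required at the level of ideals.) -/
theorem result (K : Type u) [Field K] [IsAlgClosed K]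
    (d n : ℕ) (hd : 0 < d) (hdn : d < n) (τ : Idx d n) (hτ : ∃ φ : Idx d n, φ < τ) :
    schubertVanishing K d n τ ⊔ Ideal.span {MvPolynomial.X τ} =
      ⨅ φ ∈ divisors τ, schubertVanishing K d n φ := by
  haveI : Infinite K := IsAlgClosed.instInfinite
  obtain ⟨φ₀, hφ₀⟩ := hτ
  obtain ⟨ψ₀, hψ₀, -⟩ := Groth.Agent.S11268.result d n φ₀ τ hφ₀
  have hI : plIdealTop (d := d) (n := n) K ≤
      schubertVanishing K d n τ ⊔ Ideal.span {MvPolynomial.X τ} :=
    (Groth.Agent.Lib.Helper18.Plucker.plIdealTop_le_schubertVanishing τ).trans le_sup_left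
  have hIJ : schubertVanishing K d n τ ⊔ Ideal.span {MvPolynomial.X τ} ≤
      ⨅ φ : {φ : Idx d n // φ ∈ divisors τ}, schubertVanishing K d n φ.1 := by
    refine le_iInf fun φ => sup_le ?_ ?_
    · exact Groth.Agent.Lib.Helper18.Plucker.schubertVanishing_anti (le_of_lt φ.2.1)
    · rw [Ideal.span_le, Set.singleton_subset_iff]
      exact Groth.Agent.Lib.Helper18.Plucker.X_mem_schubertVanishing φ.1 τ (not_le_of_gt φ.2.1)
  have key : schubertVanishing K d n τ ⊔ Ideal.span {MvPolynomial.X τ} =
      ⨅ φ : {φ : Idx d n // φ ∈ divisors τ}, schubertVanishing K d n φ.1 := by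
    refine Groth.Agent.Lib.Helper18.Plucker.eq_of_std _ _ hI hIJ
      (fun c => ∃ φ : {φ : Idx d n // φ ∈ divisors τ}, ∀ k, c.2.1 k ≤ φ.1) ?_ ?_
    · rintro ⟨m, c, hc⟩ hp
      simp only at hp ⊢
      by_cases h1 : ∀ k, c k ≤ τ
      · by_cases h2 : ∃ k, c k = τ
        · obtain ⟨k, hk⟩ := h2
          refine Groth.Agent.Lib.Helper18.Plucker.chainMon_mem_of_X_mem _ _ k ?_
          rw [hk]
          exact Ideal.mem_sup_right (Ideal.subset_span rfl)
        · exfalso
          apply hp
          rcases Nat.eq_zero_or_pos m with hm | hm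
          · subst hm
            exact ⟨⟨ψ₀, hψ₀⟩, fun k => k.elim0⟩
          · have hlt : c ⟨0, hm⟩ < τ := lt_of_le_of_ne (h1 _) (fun h => h2 ⟨_, h⟩)
            obtain ⟨ψ, hψ, hle⟩ := Groth.Agent.S11268.result d n _ τ hlt
            exact ⟨⟨ψ, hψ⟩, fun k => (hc (show (⟨0, hm⟩ : Fin m) ≤ k from Nat.zero_le _)).trans hle⟩
      · obtain ⟨k, hk⟩ := not_forall.1 h1
        refine Groth.Agent.Lib.Helper18.Plucker.chainMon_mem_of_X_mem _ _ k ?_
        exact Ideal.mem_sup_left
          (Groth.Agent.Lib.Helper18.Plucker.X_mem_schubertVanishing τ _ hk)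
    · exact Groth.Agent.Lib.Helper18.Plucker.std_indep' (K := K) hd
        (fun φ : {φ : Idx d n // φ ∈ divisors τ} => φ.1)
        (fun c : {c : Groth.Agent.Lib.Helper18.Plucker.Chain d n //
          ∃ φ : {φ : Idx d n // φ ∈ divisors τ}, ∀ k, c.2.1 k ≤ φ.1} => c.1)
        Subtype.val_injective (fun c => c.2)
  rw [key, iInf_subtype]

end Groth.Agent.S11254
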