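import Groth.Statements.S11257
import Mathlib

set_option autoImplicit false
universe u
open W4bk4grassmannian

namespace Groth.Agent.S11257

open RingTheory.Sequence Function

section ses
variable {R : Type*} [CommRing R] {M' M M'' : Type*} [AddCommGroup M'] [Module R M']
  [AddCommGroup M] [Module R M] [AddCommGroup M''] [Module R M'']

/-- taking prefixes of weakly regular sequences -/
theorem isWeaklyRegular_take {rs : List R} (h : IsWeaklyRegular M rs) (k : ℕ) :
    IsWeaklyRegular M (rs.take k) := by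
  constructor
  intro i hi
  have hi' : i < rs.length := by
    rw [List.length_take] at hi; omega
  have hik : i < k := by
    rw [List.length_take] at hi; omega
  have h1 := h.regular_mod_prev i hi'
  have e1 : (rs.take k).take i = rs.take i := by
    rw [List.take_take, min_eq_left hik.le]
  have e2 : (rs.take k)[i] = rs[i] := by
    rw [List.getElem_take]
  rw [e1, e2]
  exact h1

/-- B&H 1.1.4-type: in a short exact sequence with `rs` weakly regular on the quotient,
reduction mod `rs` keeps the first map injective. -/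
theorem mapQ_injective_of_isWeaklyRegular (i : M' →ₗ[R] M) (p : M →ₗ[R] M'') (hi : Injective i)
    (hex : Exact i p) (hp : Surjective p) (rs : List R) (h : IsWeaklyRegular M'' rs) :
    Injective (Submodule.mapQ _ _ i
      (Submodule.smul_top_le_comap_smul_top (Ideal.ofList rs) i)) := by
  have h0 : Exact (0 : PUnit.{1} →ₗ[R] M') i := by
    intro x
    constructor
    · intro hx
      exact ⟨0, by rw [LinearMap.zero_apply]; exact (hi (by rw [hx, map_zero])).symm⟩
    · rintro ⟨y, rfl⟩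
      rw [LinearMap.zero_apply, map_zero]
  have key := map_first_exact_on_four_term_right_exact_of_isSMulRegular_last h0 hex hp h
  rw [injective_iff_map_eq_zero]
  intro x hx
  obtain ⟨y, hy⟩ := (key x).1 hx
  rw [← hy]
  obtain ⟨z, rfl⟩ := Submodule.Quotient.mk_surjective _ y
  rw [Submodule.mapQ_apply, LinearMap.zero_apply, Submodule.Quotient.mk_zero]

theorem ses_isWeaklyRegular (i : M' →ₗ[R] M) (p : M →ₗ[R] M'') (hi : Injective i)
    (hex : Exact i p) (hp : Surjective p) (rs : List R)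
    (hM : ∀ k (hk : k < rs.length),
      IsSMulRegular (M ⧸ (Ideal.ofList (rs.take k) • ⊤ : Submodule R M)) rs[k])
    (hM'' : ∀ k, k < rs.length → IsWeaklyRegular M'' (rs.take k)) :
    IsWeaklyRegular M' rs := by
  constructor
  intro k hk
  have hinj := mapQ_injective_of_isWeaklyRegular i p hi hex hp (rs.take k) (hM'' k hk)
  exact (hM k hk).of_injective _ hinj

/-- regularity on a product modulo `I • ⊤` from the factors -/
theorem isSMulRegular_prod_quot {M₁ M₂ : Type*} [AddCommGroup M₁] [Module R M₁]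
    [AddCommGroup M₂] [Module R M₂] (I : Ideal R) (r : R)
    (h₁ : IsSMulRegular (M₁ ⧸ (I • ⊤ : Submodule R M₁)) r)
    (h₂ : IsSMulRegular (M₂ ⧸ (I • ⊤ : Submodule R M₂)) r) :
    IsSMulRegular ((M₁ × M₂) ⧸ (I • ⊤ : Submodule R (M₁ × M₂))) r := by
  rw [isSMulRegular_quotient_iff_mem_of_smul_mem] at h₁ h₂ ⊢
  rintro ⟨a, b⟩ hab
  have hfst : Submodule.map (LinearMap.fst R M₁ M₂) (I • ⊤ : Submodule R (M₁ × M₂)) ≤ I • ⊤ := by
    rw [Submodule.map_smul'']
    exact Submodule.smul_mono le_rfl le_top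
  have hsnd : Submodule.map (LinearMap.snd R M₁ M₂) (I • ⊤ : Submodule R (M₁ × M₂)) ≤ I • ⊤ := by
    rw [Submodule.map_smul'']
    exact Submodule.smul_mono le_rfl le_top
  have ha : a ∈ (I • ⊤ : Submodule R M₁) := h₁ a (hfst ⟨_, hab, rfl⟩)
  have hb : b ∈ (I • ⊤ : Submodule R M₂) := h₂ b (hsnd ⟨_, hab, rfl⟩)
  have hinl : Submodule.map (LinearMap.inl R M₁ M₂) (I • ⊤ : Submodule R M₁) ≤ I • ⊤ := by
    rw [Submodule.map_smul'']
    exact Submodule.smul_mono le_rfl le_top
  have hinr : Submodule.map (LinearMap.inr R M₁ M₂) (I • ⊤ : Submodule R M₂) ≤ I • ⊤ := by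
    rw [Submodule.map_smul'']
    exact Submodule.smul_mono le_rfl le_top
  have : ((a, b) : M₁ × M₂) = LinearMap.inl R M₁ M₂ a + LinearMap.inr R M₁ M₂ b := by
    simp
  rw [this]
  exact add_mem (hinl ⟨a, ha, rfl⟩) (hinr ⟨b, hb, rfl⟩)

end ses


/-- Let A be a Noetherian local integral domain with maximal ideal m, I and J ideals of A, d ≥ 1, and
f_1, …, f_d ∈ m. Assume depth A/(I+J) ≥ d - 1, depth A/I ≥ d and depth A/J ≥ d (depths of the
quotients as A-modules), that f_1, …, f_d is a regular sequence on A/I and on A/J, and that f_1, …,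
f_{d-1} is a regular sequence on A/(I+J). Then f_1, …, f_d is a regular sequence on A/(I ∩ J). -/
theorem result (A : Type u) [CommRing A] [IsDomain A]
    [IsNoetherianRing A] [IsLocalRing A] (I J : Ideal A) (d : ℕ) (hd : 0 < d) (f : Fin d → A)
    (hf : ∀ k, f k ∈ IsLocalRing.maximalIdeal A)
    (hIJd : ((d - 1 : ℕ) : ℕ∞) ≤ LocCoh.depth A (A ⧸ (I ⊔ J)))
    (hId : (d : ℕ∞) ≤ LocCoh.depth A (A ⧸ I)) (hJd : (d : ℕ∞) ≤ LocCoh.depth A (A ⧸ J))
    (hI : RingTheory.Sequence.IsRegular (A ⧸ I) (List.ofFn f))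
    (hJ : RingTheory.Sequence.IsRegular (A ⧸ J) (List.ofFn f))
    (hIJ : RingTheory.Sequence.IsRegular (A ⧸ (I ⊔ J)) ((List.ofFn f).take (d - 1))) :
    RingTheory.Sequence.IsRegular (A ⧸ (I ⊓ J)) (List.ofFn f) := by
  set rs := List.ofFn f with hrs
  have hlen : rs.length = d := by rw [hrs, List.length_ofFn]
  -- the maps
  let i₁ : (A ⧸ (I ⊓ J)) →ₗ[A] (A ⧸ I) := Submodule.mapQ (I ⊓ J) I LinearMap.id inf_le_left
  let i₂ : (A ⧸ (I ⊓ J)) →ₗ[A] (A ⧸ J) := Submodule.mapQ (I ⊓ J) J LinearMap.id inf_le_right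
  let p₁ : (A ⧸ I) →ₗ[A] (A ⧸ (I ⊔ J)) := Submodule.mapQ I (I ⊔ J) LinearMap.id le_sup_left
  let p₂ : (A ⧸ J) →ₗ[A] (A ⧸ (I ⊔ J)) := Submodule.mapQ J (I ⊔ J) LinearMap.id le_sup_right
  let i : (A ⧸ (I ⊓ J)) →ₗ[A] (A ⧸ I) × (A ⧸ J) := i₁.prod i₂
  let p : (A ⧸ I) × (A ⧸ J) →ₗ[A] (A ⧸ (I ⊔ J)) := p₁.coprod (-p₂)
  have hi : Injective i := by
    rw [injective_iff_map_eq_zero]
    intro x hx
    obtain ⟨a, rfl⟩ := Submodule.Quotient.mk_surjective _ x
    have h1 : (Submodule.Quotient.mk a : A ⧸ I) = 0 := congrArg Prod.fst hx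
    have h2 : (Submodule.Quotient.mk a : A ⧸ J) = 0 := congrArg Prod.snd hx
    rw [Submodule.Quotient.mk_eq_zero] at h1 h2 ⊢
    exact ⟨h1, h2⟩
  have hp : Surjective p := by
    intro y
    obtain ⟨a, rfl⟩ := Submodule.Quotient.mk_surjective _ y
    refine ⟨(Submodule.Quotient.mk a, 0), ?_⟩
    show p₁ (Submodule.Quotient.mk a) + (-p₂) 0 = _
    rw [map_zero, add_zero]
    rfl
  have hex : Exact i p := by
    intro y
    constructor
    · intro hy
      obtain ⟨y1, y2⟩ := y
      obtain ⟨a, rfl⟩ := Submodule.Quotient.mk_surjective _ y1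
      obtain ⟨b, rfl⟩ := Submodule.Quotient.mk_surjective _ y2
      have h1 : (Submodule.Quotient.mk (a - b) : A ⧸ (I ⊔ J)) = 0 := by
        have : p₁ (Submodule.Quotient.mk a) + (-p₂) (Submodule.Quotient.mk b) = 0 := hy
        rw [Submodule.Quotient.mk_sub, sub_eq_add_neg]
        exact this
      rw [Submodule.Quotient.mk_eq_zero, Submodule.mem_sup] at h1
      obtain ⟨x, hx, z, hz, hxz⟩ := h1
      refine ⟨Submodule.Quotient.mk (a - x), ?_⟩
      show ((Submodule.Quotient.mk (a - x) : A ⧸ I), (Submodule.Quotient.mk (a - x) : A ⧸ J)) = _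
      congr 1
      · rw [Submodule.Quotient.eq]
        have : a - x - a = -x := by ring
        rw [this]; exact neg_mem hx
      · rw [Submodule.Quotient.eq]
        have : a - x - b = z := by linear_combination -hxz
        rw [this]; exact hz
    · rintro ⟨x, rfl⟩
      obtain ⟨a, rfl⟩ := Submodule.Quotient.mk_surjective _ x
      show p₁ (Submodule.Quotient.mk a) + (-p₂) (Submodule.Quotient.mk a) = 0
      show (Submodule.Quotient.mk a : A ⧸ (I ⊔ J)) + -(Submodule.Quotient.mk a) = 0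
      rw [add_neg_cancel]
  have hM : ∀ k (hk : k < rs.length),
      IsSMulRegular (((A ⧸ I) × (A ⧸ J)) ⧸
        (Ideal.ofList (rs.take k) • ⊤ : Submodule A ((A ⧸ I) × (A ⧸ J)))) rs[k] := by
    intro k hk
    exact isSMulRegular_prod_quot _ _ (hI.toIsWeaklyRegular.regular_mod_prev k hk)
      (hJ.toIsWeaklyRegular.regular_mod_prev k hk)
  have hM'' : ∀ k, k < rs.length → IsWeaklyRegular (A ⧸ (I ⊔ J)) (rs.take k) := by
    intro k hk
    have h1 := isWeaklyRegular_take hIJ.toIsWeaklyRegular k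
    rw [List.take_take, min_eq_left (by omega)] at h1
    exact h1
  have hw : IsWeaklyRegular (A ⧸ (I ⊓ J)) rs := ses_isWeaklyRegular i p hi hex hp rs hM hM''
  refine ⟨hw, ?_⟩
  intro htop
  apply hI.top_ne_smul
  have h1 : Submodule.map i₁ (Ideal.ofList rs • ⊤ : Submodule A (A ⧸ (I ⊓ J))) =
      Ideal.ofList rs • ⊤ := by
    rw [Submodule.map_smul'', Submodule.map_top]
    congr 1
    rw [LinearMap.range_eq_top]
    intro y
    obtain ⟨a, rfl⟩ := Submodule.Quotient.mk_surjective _ y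
    exact ⟨Submodule.Quotient.mk a, rfl⟩
  rw [← h1, ← htop, Submodule.map_top]
  symm
  rw [LinearMap.range_eq_top]
  intro y
  obtain ⟨a, rfl⟩ := Submodule.Quotient.mk_surjective _ y
  exact ⟨Submodule.Quotient.mk a, rfl⟩

end Groth.Agent.S11257
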