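import Groth.Statements.S11262
import Mathlib

set_option autoImplicit false
set_option linter.unusedSectionVars false
universe u v
open W4bk4grassmannian

namespace Groth.Agent.S11262

open MvPolynomial

section
variable (K : Type u) [Field K] (L : Type v) [PartialOrder L] [Fintype L]

/-- exponent vectors of the generators -/
def gens : Set (L →₀ ℕ) :=
  {s | ∃ a b : L, ¬ a ≤ b ∧ ¬ b ≤ a ∧ s = Finsupp.single a 1 + Finsupp.single b 1}

/-- standard exponent vectors: support is a chain -/
def IsStd (d : L →₀ ℕ) : Prop := IsChain (fun a b : L => a ≤ b) (↑d.support : Set L)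

variable {L}

lemma exists_gen_le_iff (d : L →₀ ℕ) : (∃ s ∈ gens L, s ≤ d) ↔ ¬ IsStd L d := by
  classical
  constructor
  · rintro ⟨s, ⟨a, b, hab, hba, rfl⟩, hle⟩ hstd
    have hne : a ≠ b := fun h => hab (h ▸ le_refl a)
    have ha : a ∈ d.support := by
      have := hle a
      simp [Finsupp.single_apply, hne.symm] at this
      rw [Finsupp.mem_support_iff]; omega
    have hb : b ∈ d.support := by
      have := hle b
      simp [Finsupp.single_apply, hne] at this
      rw [Finsupp.mem_support_iff]; omega
    rcases hstd (by exact_mod_cast ha) (by exact_mod_cast hb) hne with h | h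
    · exact hab h
    · exact hba h
  · intro hstd
    unfold IsStd IsChain Set.Pairwise at hstd
    push Not at hstd
    obtain ⟨a, ha, b, hb, hne, hab, hba⟩ := hstd
    refine ⟨_, ⟨a, b, hab, hba, rfl⟩, ?_⟩
    intro c
    have ha' : 1 ≤ d a := Nat.one_le_iff_ne_zero.mpr (Finsupp.mem_support_iff.mp (by exact_mod_cast ha))
    have hb' : 1 ≤ d b := Nat.one_le_iff_ne_zero.mpr (Finsupp.mem_support_iff.mp (by exact_mod_cast hb))
    simp only [Finsupp.add_apply, Finsupp.single_apply]
    by_cases h1 : a = c
    · subst h1
      have : ¬ b = a := fun h => hne h.symm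
      simp [this, ha']
    · by_cases h2 : b = c
      · subst h2; simp [h1, hb']
      · simp [h1, h2]

variable (L)

lemma ideal_eq :
    Ideal.span {f : MvPolynomial L K | ∃ a b : L, ¬ a ≤ b ∧ ¬ b ≤ a ∧
          f = MvPolynomial.X a * MvPolynomial.X b} =
      Ideal.span ((fun s => monomial s (1 : K)) '' gens L) := by
  congr 1
  ext f
  constructor
  · rintro ⟨a, b, hab, hba, rfl⟩
    refine ⟨_, ⟨a, b, hab, hba, rfl⟩, ?_⟩
    simp [X, monomial_mul]
  · rintro ⟨s, ⟨a, b, hab, hba, rfl⟩, rfl⟩
    refine ⟨a, b, hab, hba, ?_⟩
    simp [X, monomial_mul]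

/-- the monomial ideal -/
noncomputable def I : Ideal (MvPolynomial L K) := Ideal.span ((fun s => monomial s (1 : K)) '' gens L)

open Classical in
/-- the finite set of standard exponents of degree `m` -/
noncomputable def S (m : ℕ) : Finset (L →₀ ℕ) :=
  (Finset.univ.finsuppAntidiag m).filter (IsStd L)

lemma mem_S {m : ℕ} {d : L →₀ ℕ} : d ∈ S L m ↔ d.degree = m ∧ IsStd L d := by
  classical
  unfold S
  rw [Finset.mem_filter, Finset.mem_finsuppAntidiag, Finsupp.degree_eq_sum]
  simp

/-- the family of standard monomials in the quotient -/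
noncomputable def b (m : ℕ) (d : S L m) : MvPolynomial L K ⧸ I K L :=
  Ideal.Quotient.mk _ (monomial d.1 1)

lemma monomial_mem_I {d : L →₀ ℕ} (hd : ¬ IsStd L d) (c : K) : monomial d c ∈ I K L := by
  classical
  unfold I
  rw [mem_ideal_span_monomial_image]
  intro xi hxi
  rw [support_monomial] at hxi
  split_ifs at hxi with h
  · simp at hxi
  · rw [Finset.mem_singleton] at hxi
    subst hxi
    exact (exists_gen_le_iff xi).mpr hd

lemma linearIndependent_b (m : ℕ) : LinearIndependent K (b K L m) := by
  classical
  rw [Fintype.linearIndependent_iff]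
  intro g hg d0
  by_contra hne
  have h1 : (∑ d : S L m, g d • b K L m d) =
      Ideal.Quotient.mk (I K L) (∑ d : S L m, monomial d.1 (g d)) := by
    rw [map_sum]
    refine Finset.sum_congr rfl fun d _ => ?_
    unfold b
    rw [← Ideal.Quotient.mkₐ_eq_mk K, ← map_smul, smul_monomial, smul_eq_mul, mul_one]
  rw [h1, Ideal.Quotient.eq_zero_iff_mem] at hg
  unfold I at hg
  rw [mem_ideal_span_monomial_image] at hg
  have hc : coeff d0.1 (∑ d : S L m, monomial d.1 (g d)) = g d0 := by
    rw [coeff_sum]
    rw [Finset.sum_eq_single d0]
    · simp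
    · intro d _ hd
      rw [coeff_monomial, if_neg]
      intro h; exact hd (Subtype.ext h)
    · intro h; exact absurd (Finset.mem_univ _) h
  have hsupp : d0.1 ∈ (∑ d : S L m, monomial d.1 (g d)).support := by
    rw [mem_support_iff, hc]; exact hne
  have := (exists_gen_le_iff d0.1).mp (hg _ hsupp)
  exact this ((mem_S L).mp d0.2).2

lemma span_b (m : ℕ) :
    Submodule.span K (Set.range (b K L m)) =
      (homogeneousSubmodule L K m).map (Ideal.Quotient.mkₐ K (I K L)).toLinearMap := by
  classical
  apply le_antisymm
  · rw [Submodule.span_le]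
    rintro _ ⟨d, rfl⟩
    refine ⟨monomial d.1 1, ?_, rfl⟩
    exact isHomogeneous_monomial _ ((mem_S L).mp d.2).1
  · rintro _ ⟨f, hf, rfl⟩
    have hf' : f.IsHomogeneous m := hf
    rw [← support_sum_monomial_coeff f, map_sum]
    refine Submodule.sum_mem _ fun d hd => ?_
    by_cases hstd : IsStd L d
    · have hdeg : d.degree = m := by
        by_contra h
        exact (mem_support_iff.mp hd) (hf'.coeff_eq_zero h)
      have hdS : d ∈ S L m := (mem_S L).mpr ⟨hdeg, hstd⟩
      have : (Ideal.Quotient.mkₐ K (I K L)).toLinearMap (monomial d (coeff d f)) =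
          coeff d f • b K L m ⟨d, hdS⟩ := by
        unfold b
        rw [← Ideal.Quotient.mkₐ_eq_mk K, ← map_smul, smul_monomial, smul_eq_mul, mul_one]
        rfl
      rw [this]
      exact Submodule.smul_mem _ _ (Submodule.subset_span ⟨_, rfl⟩)
    · have : (Ideal.Quotient.mkₐ K (I K L)).toLinearMap (monomial d (coeff d f)) = 0 := by
        show Ideal.Quotient.mk (I K L) _ = 0
        rw [Ideal.Quotient.eq_zero_iff_mem]
        exact monomial_mem_I K L hstd _
      rw [this]
      exact Submodule.zero_mem _

lemma finrank_eq_card (m : ℕ) :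
    Module.finrank K ((homogeneousSubmodule L K m).map
      (Ideal.Quotient.mkₐ K (I K L)).toLinearMap) = (S L m).card := by
  rw [← span_b, finrank_span_eq_card (linearIndependent_b K L m)]
  simp

open Classical in
lemma card_fiber (C : Finset L) (hC : C.Nonempty) (m : ℕ) (hm : 1 ≤ m) :
    ((Finset.univ.finsuppAntidiag m).filter (fun d : L →₀ ℕ => d.support = C)).card =
      (m - 1).choose (C.card - 1) := by
  have hCpos : 1 ≤ C.card := Finset.card_pos.mpr hC
  by_cases hlt : m < C.card
  · rw [Nat.choose_eq_zero_of_lt (by omega), Finset.card_eq_zero, Finset.filter_eq_empty_iff]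
    intro d hd hsupp
    rw [Finset.mem_finsuppAntidiag] at hd
    have hsum : ∑ a, d a = m := hd.1
    have h1 : C.card ≤ ∑ a ∈ C, d a := by
      rw [Finset.card_eq_sum_ones]
      refine Finset.sum_le_sum fun a ha => ?_
      rw [← hsupp, Finsupp.mem_support_iff] at ha
      omega
    have h2 : ∑ a ∈ C, d a ≤ ∑ a, d a :=
      Finset.sum_le_sum_of_subset (Finset.subset_univ _)
    omega
  · push Not at hlt
    set ind : L →₀ ℕ := Finsupp.indicator C (fun _ _ => 1) with hind
    have ind_apply : ∀ a, ind a = if a ∈ C then 1 else 0 := by
      intro a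
      rw [hind, Finsupp.indicator_apply]
      split_ifs <;> rfl
    have hsumind : ∑ a, ind a = C.card := by
      simp_rw [ind_apply]
      rw [Finset.sum_boole]
      simp
    have hsumindC : ∑ a ∈ C, ind a = C.card := by
      rw [Finset.card_eq_sum_ones]
      refine Finset.sum_congr rfl fun a ha => ?_
      rw [ind_apply, if_pos ha]
    have key : ((Finset.univ.finsuppAntidiag m).filter (fun d : L →₀ ℕ => d.support = C)).card =
        (C.finsuppAntidiag (m - C.card)).card := by
      symm
      refine Finset.card_nbij' (fun e => e + ind) (fun d => d - ind) ?_ ?_ ?_ ?_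
      · intro e he
        rw [Finset.mem_coe, Finset.mem_finsuppAntidiag] at he
        rw [Finset.mem_coe, Finset.mem_filter, Finset.mem_finsuppAntidiag]
        refine ⟨⟨?_, Finset.subset_univ _⟩, ?_⟩
        · have : ∑ a, e a = ∑ a ∈ C, e a := by
            symm
            refine Finset.sum_subset (Finset.subset_univ _) fun a _ ha => ?_
            by_contra h
            exact ha (he.2 (Finsupp.mem_support_iff.mpr h))
          have he1 : ∑ a ∈ C, e a = m - C.card := he.1
          show ∑ a, (e + ind) a = m
          simp only [Finsupp.add_apply, Finset.sum_add_distrib]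
          rw [this, he1, hsumind]
          omega
        · ext a
          rw [Finsupp.mem_support_iff, Finsupp.add_apply, ind_apply]
          by_cases ha : a ∈ C
          · simp [ha]
          · have : e a = 0 := by
              by_contra h
              exact ha (he.2 (Finsupp.mem_support_iff.mpr h))
            simp [ha, this]
      · intro d hd
        rw [Finset.mem_coe, Finset.mem_filter, Finset.mem_finsuppAntidiag] at hd
        rw [Finset.mem_coe, Finset.mem_finsuppAntidiag]
        obtain ⟨⟨hsum0, -⟩, hsupp⟩ := hd
        have hsum : ∑ a, d a = m := hsum0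
        have hge : ∀ a ∈ C, 1 ≤ d a := by
          intro a ha
          rw [← hsupp, Finsupp.mem_support_iff] at ha
          omega
        have hsumC : ∑ a ∈ C, d a = m := by
          rw [← hsum]
          refine Finset.sum_subset (Finset.subset_univ _) fun a _ ha => ?_
          rw [← hsupp, Finsupp.notMem_support_iff] at ha
          exact ha
        refine ⟨?_, ?_⟩
        · have h1 : ∑ a ∈ C, (d - ind) a + ∑ a ∈ C, ind a = ∑ a ∈ C, d a := by
            rw [← Finset.sum_add_distrib]
            refine Finset.sum_congr rfl fun a ha => ?_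
            rw [Finsupp.tsub_apply, ind_apply, if_pos ha]
            have := hge a ha
            omega
          rw [hsumindC, hsumC] at h1
          show ∑ a ∈ C, (d - ind) a = m - C.card
          omega
        · intro a ha
          rw [Finsupp.mem_support_iff, Finsupp.tsub_apply] at ha
          rw [← hsupp, Finsupp.mem_support_iff]
          omega
      · intro e _
        show e + ind - ind = e
        exact add_tsub_cancel_right e ind
      · intro d hd
        rw [Finset.mem_coe, Finset.mem_filter, Finset.mem_finsuppAntidiag] at hd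
        obtain ⟨-, hsupp⟩ := hd
        show d - ind + ind = d
        apply tsub_add_cancel_of_le
        intro a
        rw [ind_apply]
        split_ifs with ha
        · rw [← hsupp, Finsupp.mem_support_iff] at ha
          omega
        · exact Nat.zero_le _
    rw [key, Finset.card_finsuppAntidiag_nat_eq_choose]
    have e1 : C.card + (m - C.card) - 1 = m - 1 := by omega
    rw [e1]
    exact Nat.choose_symm_of_eq_add (by omega)

lemma card_S (m : ℕ) (hm : 1 ≤ m) :
    (S L m).card =
      ∑ᶠ C : {C : Finset L // C.Nonempty ∧ IsChain (fun a b : L => a ≤ b) (↑C : Set L)},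
        Nat.choose (m - 1) (C.1.card - 1) := by
  classical
  rw [finsum_eq_sum_of_fintype]
  set T : Finset (Finset L) :=
    Finset.univ.filter (fun C => C.Nonempty ∧ IsChain (fun a b : L => a ≤ b) (↑C : Set L)) with hT
  have hmaps : Set.MapsTo (fun d : L →₀ ℕ => d.support) (S L m) T := by
    intro d hd
    rw [Finset.mem_coe, mem_S] at hd
    rw [Finset.mem_coe, hT, Finset.mem_filter]
    refine ⟨Finset.mem_univ _, ?_, hd.2⟩
    rw [Finsupp.support_nonempty_iff]
    rintro rfl
    simp at hd
    omega
  rw [Finset.card_eq_sum_card_fiberwise hmaps]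
  rw [← Finset.sum_subtype T (p := fun C : Finset L => C.Nonempty ∧ IsChain (fun a b : L => a ≤ b) (↑C : Set L))
    (by intro C; simp [hT]) (fun C : Finset L => Nat.choose (m - 1) (C.card - 1))]
  refine Finset.sum_congr rfl fun C hC => ?_
  rw [hT, Finset.mem_filter] at hC
  rw [← card_fiber L C hC.2.1 m hm]
  congr 1
  unfold S
  rw [Finset.filter_filter]
  refine Finset.filter_congr fun d _ => ?_
  constructor
  · exact fun h => h.2
  · intro h
    refine ⟨?_, h⟩
    unfold IsStd
    rw [h]
    exact hC.2.2


end


/-- Hilbert function of the Stanley–Reisner ring of a finite distributive lattice: let K be a field, L a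
finite distributive lattice, R = K[x_α : α ∈ L], I ⊆ R the ideal generated by the products x_α x_β
over the incomparable (skew) pairs α, β, and m ≥ 1. Then the image in R/I of the homogeneous
polynomials of degree m has K-dimension equal to the sum, over the nonempty chains C ⊆ L, of the
binomial coefficient (m - 1 choose |C| - 1). (The published statement is that the degree of R/I
equals the number of maximal chains of L; this row states the Hilbert function from which that
degree is read off.) -/
theorem result (K : Type u) [Field K] (L : Type v) [DistribLattice L]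
    [Fintype L] (m : ℕ) (hm : 1 ≤ m) :
    Module.finrank K ((MvPolynomial.homogeneousSubmodule L K m).map
        (Ideal.Quotient.mkₐ K (Ideal.span {f : MvPolynomial L K | ∃ a b : L, ¬ a ≤ b ∧ ¬ b ≤ a ∧
          f = MvPolynomial.X a * MvPolynomial.X b})).toLinearMap) =
      ∑ᶠ C : {C : Finset L // C.Nonempty ∧ IsChain (fun a b : L => a ≤ b) (↑C : Set L)},
        Nat.choose (m - 1) (C.1.card - 1) := by
  rw [ideal_eq K L]
  exact (finrank_eq_card K L m).trans (card_S L m hm)

end Groth.Agent.S11262
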