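import Groth.Statements.S11269
import Groth.Agent.Lib.Helper7.S2Ass

set_option autoImplicit false
universe u
open W4bk4grassmannian

namespace Groth.Agent.S11269

/-- Let R be a Noetherian integral domain. Then R satisfies Serre's condition (S_2) (depth R_P ≥ min(2,
dim R_P) for all primes P) if and only if, for every nonzero a ∈ R, every associated prime of the
R-module R/(a) has height one. -/
theorem result (R : Type u) [CommRing R] [IsDomain R]
    [IsNoetherianRing R] :
    LocCoh.HasSk 2 R R ↔
      ∀ a : R, a ≠ 0 → ∀ P : Ideal R, P ∈ associatedPrimes R (R ⧸ Ideal.span {a}) → P.height = 1 := by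
  exact ⟨fun h => Groth.Agent.Lib.Helper7.S2Ass.height_eq_one_of_hasSk h,
    Groth.Agent.Lib.Helper7.S2Ass.hasSk_of_height⟩

end Groth.Agent.S11269
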