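import Groth.Statements.S1127
-- import your own Groth.Agent.* helpers here
import Mathlib.AlgebraicGeometry.Morphisms.FlatDescent
import Mathlib.AlgebraicGeometry.Morphisms.Flat
import Groth.Agent.S0079
import Groth.Agent.S0080
import Groth.Agent.Lib.Helper26.QuasiAffine

set_option autoImplicit false
open CategoryTheory CategoryTheory.Limits AlgebraicGeometry Opposite
universe u
open Desc

namespace Groth.Agent.S1127

open Groth.Agent.Lib.Helper26.QuasiAffine in
set_option backward.isDefEq.respectTransparency.types false in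
lemma isQuasiAffine_of_pullback {R S : CommRingCat.{u}} {Y : Scheme.{u}} (φ : R ⟶ S)
    (g : Y ⟶ Spec R) [Surjective (Spec.map φ)] [Flat (Spec.map φ)]
    (hq : IsQAHom (pullback.fst (Spec.map φ) g)) : Y.IsQuasiAffine := by
  have hqc := Groth.Agent.S0079.result.{u}
  have hqs := Groth.Agent.S0080.result.{u}
  have hfpqc : (@Surjective ⊓ @Flat ⊓ @QuasiCompact : MorphismProperty Scheme.{u}) (Spec.map φ) :=
    ⟨⟨inferInstance, inferInstance⟩, inferInstance⟩
  have hsq : IsPullback (pullback.fst (Spec.map φ) g) (pullback.snd (Spec.map φ) g)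
      (Spec.map φ) g := IsPullback.of_hasPullback _ _
  have hP : (pullback (Spec.map φ) g).IsQuasiAffine := (isQAHom_iff_of_isAffine _).mp hq
  have : QuasiCompact (pullback.fst (Spec.map φ) g) := ((isQAHom_iff _).mp hq).1
  have : QuasiCompact g :=
    MorphismProperty.DescendsAlong.of_isPullback (P := @QuasiCompact) hsq hfpqc inferInstance
  have : QuasiSeparated g :=
    MorphismProperty.DescendsAlong.of_isPullback (P := @QuasiSeparated) hsq hfpqc inferInstance
  have : CompactSpace Y := QuasiCompact.compactSpace_of_compactSpace g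
  have : QuasiSeparatedSpace Y := quasiSeparatedSpace_of_quasiSeparated g
  -- flat base change of global sections
  have hiso := isIso_pushoutSection_of_isQuasiSeparated_of_flat_right hsq.flip
    (US := ⊤) (UT := ⊤) (UX := ⊤) (UY := ⊤) le_top le_top (by simp)
    (isAffineOpen_top _) (isAffineOpen_top _) isCompact_univ isQuasiSeparated_univ
  have hpo := (isIso_pushoutSection_iff hsq.flip (US := ⊤) (UT := ⊤) (UX := ⊤) (UY := ⊤)
    le_top le_top (by simp)).mp hiso
  have hpb := hpo.op.map Scheme.Spec
  simp only [Scheme.Spec_map, Quiver.Hom.unop_op] at hpb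
  have e1 : ∀ {A B : Scheme.{u}} (h : A ⟶ B) (e : (⊤ : A.Opens) ≤ h ⁻¹ᵁ ⊤),
      h.appLE ⊤ ⊤ e = h.appTop := fun h e => Scheme.Hom.appLE_eq_app h
  simp only [e1] at hpb
  -- outer rectangle
  have hR : IsPullback (Spec S).toSpecΓ (Spec.map φ) (Spec.map (Spec.map φ).appTop)
      (Spec R).toSpecΓ :=
    IsPullback.of_horiz_isIso ⟨(Scheme.toSpecΓ_naturality (Spec.map φ)).symm⟩
  have hout := hsq.paste_horiz hR
  rw [Scheme.toSpecΓ_naturality, Scheme.toSpecΓ_naturality] at hout
  have hleft : IsPullback (pullback (Spec.map φ) g).toSpecΓ (pullback.snd (Spec.map φ) g)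
      (Spec.map (pullback.snd (Spec.map φ) g).appTop) Y.toSpecΓ :=
    IsPullback.of_right hout (Scheme.toSpecΓ_naturality _).symm hpb
  -- Spec.map snd.appTop is fpqc
  have hv13 : (@Surjective ⊓ @Flat ⊓ @QuasiCompact : MorphismProperty Scheme.{u})
      (Spec.map (Spec.map φ).appTop) := by
    have h2 : Spec.map (Spec.map φ).appTop =
        inv (Spec S).toSpecΓ ≫ Spec.map φ ≫ (Spec R).toSpecΓ := by
      rw [IsIso.eq_inv_comp, Scheme.toSpecΓ_naturality]
    rw [h2, MorphismProperty.cancel_left_of_respectsIso
      (@Surjective ⊓ @Flat ⊓ @QuasiCompact : MorphismProperty Scheme.{u}),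
      MorphismProperty.cancel_right_of_respectsIso
      (@Surjective ⊓ @Flat ⊓ @QuasiCompact : MorphismProperty Scheme.{u})]
    exact hfpqc
  have hv12 : (@Surjective ⊓ @Flat ⊓ @QuasiCompact : MorphismProperty Scheme.{u})
      (Spec.map (pullback.snd (Spec.map φ) g).appTop) :=
    MorphismProperty.of_isPullback hpb hv13
  have hoi : IsOpenImmersion (pullback (Spec.map φ) g).toSpecΓ := inferInstance
  have : IsOpenImmersion Y.toSpecΓ := MorphismProperty.of_isPullback_of_descendsAlong
    (P := @IsOpenImmersion) hleft hv12 hoi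
  constructor

/-- If the base change of a morphism along a quasi-compact, flat, surjective morphism is quasi-affine
(quasi-compact, with quasi-affine preimages of affine opens), then the morphism is quasi-affine.
(The published statement is the fpqc-local form; stated here for a single quasi-compact flat
surjective base change, from which that form follows by Zariski-locality on the target.) -/
theorem result :
    MorphismProperty.DescendsAlong (fun _ _ f => Mor2.IsQuasiAffine f : MorphismProperty Scheme.{u})
      (@Surjective ⊓ @Flat ⊓ @QuasiCompact : MorphismProperty Scheme.{u}) := by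
  open Groth.Agent.Lib.Helper26.QuasiAffine in
  have hP : (fun _ _ f => Mor2.IsQuasiAffine f : MorphismProperty Scheme.{u}) = IsQAHom.{u} := by
    ext X Y f
    exact (isQAHom_iff f).symm
  rw [hP]
  refine IsZariskiLocalAtTarget.descendsAlong_inf_quasiCompact _ _ ?_ ?_
  · rw [inf_comm]
    exact inf_le_inf le_rfl (IsLocalIso.le_of_isZariskiLocalAtSource _)
  intro R S Y φ g ⟨_, _⟩ hfst
  exact (isQAHom_iff_of_isAffine g).mpr (isQuasiAffine_of_pullback φ g hfst)

end Groth.Agent.S1127
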