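import Groth.Statements.S11271
-- import your own Groth.Agent.* helpers here
import Mathlib.LinearAlgebra.Matrix.ToLin
import Mathlib.LinearAlgebra.Matrix.NonsingularInverse
import Mathlib.LinearAlgebra.Matrix.Adjugate
import Mathlib.FieldTheory.IsAlgClosed.Basic
import Mathlib.Algebra.Polynomial.Roots
import Mathlib.LinearAlgebra.Basis.VectorSpace

set_option autoImplicit false
universe u
open W4bk4grassmannian

namespace Groth.Agent.S11271

open MvPolynomial in
lemma eval_detPoly (K : Type u) [Field K] (d n : ℕ) (B : Matrix (Fin d) (Fin n) K)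
    (P : Matrix (Fin n) (Fin d) K) :
    MvPolynomial.eval (fun p : Fin n × Fin d => P p.1 p.2)
      (Matrix.det (Matrix.of fun s t : Fin d =>
        ∑ k : Fin n, (C (B s k) * X (k, t) : MvPolynomial (Fin n × Fin d) K))) = (B * P).det := by
  rw [RingHom.map_det]
  congr 1
  ext s t
  simp [Matrix.mul_apply]

lemma exists_left_inverse (K : Type u) [Field K] (d n : ℕ) (A : Matrix (Fin n) (Fin d) K)
    (hA : LinearIndependent K A.transpose) : ∃ B : Matrix (Fin d) (Fin n) K, B * A = 1 := by
  have hinj : Function.Injective (Matrix.toLin' A) := by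
    have := Matrix.mulVec_injective_iff.mpr (show LinearIndependent K A.col from hA)
    rw [Matrix.toLin'_apply']
    exact this
  obtain ⟨g, hg⟩ := LinearMap.exists_leftInverse_of_injective (Matrix.toLin' A)
    (LinearMap.ker_eq_bot.mpr hinj)
  refine ⟨LinearMap.toMatrix' g, ?_⟩
  have := congrArg LinearMap.toMatrix' hg
  rwa [LinearMap.toMatrix'_comp, LinearMap.toMatrix'_toLin', LinearMap.toMatrix'_id] at this

open W4bk4grassmannian in
/-- Semistable matrices are the matrices of full rank: let K be an algebraically closed field, 0 < d <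
n, and let SL_d(K) act on n × d matrices by right multiplication; a matrix A is semistable when the
zero matrix is not in the Zariski closure of its orbit, i.e. when some polynomial in the entries
vanishes at A g for every g ∈ SL_d(K) but not at 0. Then A is semistable if and only if its columns
are linearly independent. -/
theorem result (K : Type u) [Field K]
    [IsAlgClosed K] (d n : ℕ) (hd : 0 < d) (hdn : d < n) (A : Matrix (Fin n) (Fin d) K) :
    LinearIndependent K A.transpose ↔
      ∃ f : MatRing K d n, (∀ g : Matrix.SpecialLinearGroup (Fin d) K,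
        MvPolynomial.eval (fun p : Fin n × Fin d => (A * (g : Matrix (Fin d) (Fin d) K)) p.1 p.2) f = 0) ∧
        MvPolynomial.eval (fun _ : Fin n × Fin d => (0 : K)) f ≠ 0 := by
  constructor
  · intro hA
    obtain ⟨B, hBA⟩ := exists_left_inverse K d n A hA
    refine ⟨Matrix.det (Matrix.of fun s t : Fin d =>
        ∑ k : Fin n, (MvPolynomial.C (B s k) * MvPolynomial.X (k, t) :
          MvPolynomial (Fin n × Fin d) K)) - 1, fun g ↦ ?_, ?_⟩
    · rw [map_sub, map_one, eval_detPoly, ← Matrix.mul_assoc, hBA, Matrix.one_mul, g.2, sub_self]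
    · have : Nonempty (Fin d) := ⟨⟨0, hd⟩⟩
      have h0 := eval_detPoly K d n B 0
      simp only [Matrix.zero_apply, Matrix.mul_zero, Matrix.det_zero] at h0
      rw [map_sub, map_one, h0]
      simp
  · rintro ⟨f, hf, hf0⟩
    by_contra hA
    have hninj : ¬ Function.Injective A.mulVec := fun h => hA (Matrix.mulVec_injective_iff.mp h)
    obtain ⟨v, hv0, hAv⟩ : ∃ v : Fin d → K, v ≠ 0 ∧ A.mulVec v = 0 := by
      by_contra hcon
      push Not at hcon
      apply hninj
      intro x y hxy
      have h1 : A.mulVec (x - y) = 0 := by rw [Matrix.mulVec_sub, hxy, sub_self]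
      by_contra hne
      exact hcon (x - y) (sub_ne_zero.mpr hne) h1
    obtain ⟨j₀, hj₀⟩ : ∃ j₀, v j₀ ≠ 0 := by
      by_contra h
      push Not at h
      exact hv0 (funext h)
    let B : Matrix (Fin n) (Fin d) K := fun i j => if j = j₀ then 0 else A i j
    have key : ∀ t : K, t ≠ 0 →
        MvPolynomial.eval (fun p : Fin n × Fin d => B p.1 p.2 * t) f = 0 := by
      intro t ht
      have hdet : (Matrix.updateCol 1 j₀ v * Matrix.diagonal
          (Function.update (fun _ => t) j₀ (v j₀ * t ^ (d - 1))⁻¹) : Matrix (Fin d) (Fin d) K).det
          = 1 := by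
        rw [Matrix.det_mul, Matrix.det_diagonal, ← Matrix.cramer_apply, Matrix.cramer_one,
          Finset.prod_update_of_mem (Finset.mem_univ j₀)]
        simp only [Finset.prod_const, Finset.card_sdiff_of_subset (Finset.subset_univ _),
          Finset.card_univ, Fintype.card_fin, Finset.card_singleton]
        have : v j₀ * t ^ (d - 1) ≠ 0 := mul_ne_zero hj₀ (pow_ne_zero _ ht)
        simp only [Module.End.one_apply]
        field_simp
      have := hf ⟨_, hdet⟩
      convert this using 2
      congr 1
      ext q
      obtain ⟨i, j⟩ := q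
      simp only [Matrix.SpecialLinearGroup.coe_mk, B]
      rw [← Matrix.mul_assoc, Matrix.mul_diagonal, Matrix.mul_apply]
      by_cases hj : j = j₀
      · subst hj
        simp only [if_true, zero_mul, Matrix.updateCol_self]
        have : ∑ k, A i k * v k = (A.mulVec v) i := rfl
        rw [this, hAv]
        simp
      · simp only [if_neg hj, Matrix.updateCol_ne hj, Function.update_of_ne hj, Matrix.one_apply]
        simp
    let p : Polynomial K := MvPolynomial.aeval
      (fun q : Fin n × Fin d => Polynomial.C (B q.1 q.2) * Polynomial.X) f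
    have hp : ∀ t, p.eval t = MvPolynomial.eval (fun q : Fin n × Fin d => B q.1 q.2 * t) f := by
      intro t
      simp only [p, MvPolynomial.aeval_def, ← Polynomial.coe_evalRingHom,
        MvPolynomial.eval₂_comp_left]
      rw [MvPolynomial.eval, MvPolynomial.eval₂Hom]
      congr 1
      · ext a; simp
      · ext q; simp
    have hp0 : p = 0 := by
      apply Polynomial.eq_zero_of_infinite_isRoot
      have hinf : ({0}ᶜ : Set K).Infinite := (Set.finite_singleton 0).infinite_compl
      refine hinf.mono fun t ht => ?_
      show p.eval t = 0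
      rw [hp]
      exact key t ht
    apply hf0
    have := hp 0
    rw [hp0] at this
    simpa using this.symm

end Groth.Agent.S11271
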