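import Groth.Statements.S11272
import Mathlib
import Groth.Agent.Lib.Helper21.GrAddSub
import Groth.Agent.Lib.Helper21.GrCMVertex

set_option autoImplicit false
universe u
open W4bk4grassmannian

namespace Groth.Agent.S11272

open MvPolynomial Groth.Agent.Lib.Helper21

/-- the all-ones integer weight -/
def wt (N : ℕ) : Fin N → ℤ := fun _ => 1

lemma weight_wt (N : ℕ) (d : Fin N →₀ ℕ) :
    Finsupp.weight (wt N) d = ((d.sum fun _ c => c : ℕ) : ℤ) := by
  simp [Finsupp.weight_apply, Finsupp.sum, wt]

lemma weight_wt_eq_zero (N : ℕ) (d : Fin N →₀ ℕ) (h : Finsupp.weight (wt N) d = 0) : d = 0 := by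
  rw [weight_wt] at h
  have h' : (d.sum fun _ c => c) = 0 := by exact_mod_cast h
  ext i
  by_contra hi
  have : d i ≤ d.sum fun _ c => c := by
    rw [Finsupp.sum]
    exact Finset.single_le_sum (f := fun j => d j) (fun _ _ => Nat.zero_le _)
      (Finsupp.mem_support_iff.2 hi)
  simp only [Finsupp.coe_zero, Pi.zero_apply] at hi
  omega

lemma isWeightedHomogeneous_of_isHomogeneous {K : Type u} [Field K] {N : ℕ}
    {f : MvPolynomial (Fin N) K} {k : ℕ} (hf : f.IsHomogeneous k) :
    IsWeightedHomogeneous (wt N) f (k : ℤ) := by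
  intro d hd
  have h := hf hd
  rw [weight_wt]
  have : Finsupp.weight (1 : Fin N → ℕ) d = d.sum fun _ c => c := by
    simp [Finsupp.weight_apply, Finsupp.sum]
  rw [← this, h]


/-- A cone is Cohen–Macaulay iff it is so at its vertex: let K be an algebraically closed field, N a
natural number, S = K[x_1, …, x_N] graded by degree, I ⊆ S a proper ideal generated by homogeneous
polynomials, and m ⊆ S/I the image of the irrelevant ideal (x_1, …, x_N) (the vertex of the cone
Spec S/I), assumed prime. Then S/I is a Cohen–Macaulay ring if and only if the local ring (S/I)_m is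
Cohen–Macaulay. -/
theorem result (K : Type u) [Field K] [IsAlgClosed K] (N : ℕ)
    (I : Ideal (MvPolynomial (Fin N) K))
    (hI : ∃ T : Set (MvPolynomial (Fin N) K), (∀ f ∈ T, ∃ k : ℕ, f.IsHomogeneous k) ∧ I = Ideal.span T)
    (hI' : I ≠ ⊤)
    [hm : ((RingHom.ker (MvPolynomial.constantCoeff : MvPolynomial (Fin N) K →+* K)).map
      (Ideal.Quotient.mk I)).IsPrime] :
    LocCoh.IsCohenMacaulayRing (MvPolynomial (Fin N) K ⧸ I) ↔
      LocCoh.IsCohenMacaulayLocalRing (Localization.AtPrime
        ((RingHom.ker (MvPolynomial.constantCoeff : MvPolynomial (Fin N) K →+* K)).map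
          (Ideal.Quotient.mk I))) := by
  classical
  let 𝒮 : ℤ → Submodule K (MvPolynomial (Fin N) K) := weightedHomogeneousSubmodule K (wt N)
  letI : GradedAlgebra 𝒮 := weightedGradedAlgebra K (wt N)
  have hIh : I.IsHomogeneous 𝒮 := by
    obtain ⟨T, hT, rfl⟩ := hI
    apply Ideal.homogeneous_span
    intro f hf
    obtain ⟨k, hk⟩ := hT f hf
    exact ⟨(k : ℤ), (mem_weightedHomogeneousSubmodule K (wt N) _ _).2
      (isWeightedHomogeneous_of_isHomogeneous hk)⟩
  haveI : GrQuot.IsHomog 𝒮 I := (GrQuot.isHomog_iff 𝒮 I).2 hIh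
  refine GrCMVertex.isCM_iff_vertex (GrAddSub.toAddSub (GrQuot.quot 𝒮 I)) _ ?_
  intro n y hy hu
  obtain ⟨f, hf, rfl⟩ := (GrQuot.mem_quot_iff 𝒮 I n y).1 hy
  have hfw : IsWeightedHomogeneous (wt N) f n := (mem_weightedHomogeneousSubmodule K (wt N) _ _).1 hf
  by_cases hc : constantCoeff f = 0
  · exact Ideal.mem_map_of_mem _ (RingHom.mem_ker.2 hc)
  · exfalso
    apply hu
    have hc0 : coeff 0 f ≠ 0 := by rwa [← constantCoeff_eq]
    have hn : n = 0 := by
      rw [← hfw hc0]; simp
    have hfC : f = C (constantCoeff f) := by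
      ext d
      rw [coeff_C]
      by_cases hd : 0 = d
      · subst hd; simp [constantCoeff_eq]
      · rw [if_neg hd]
        by_contra hne
        have := hfw hne
        rw [hn] at this
        exact hd (weight_wt_eq_zero N d this).symm
    rw [hfC]
    exact ((IsUnit.mk0 _ hc).map C).map (Ideal.Quotient.mk I)

end Groth.Agent.S11272
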