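import Groth.Statements.S11280
import Mathlib
import Groth.Agent.Lib.Helper12.TrivDefB

set_option autoImplicit false
universe u
open Deform

namespace Groth.Agent.S11280

/-- Let k be an algebraically closed field, A a local Artinian k-algebra with residue field k and t an
element of the maximal ideal of A annihilated by the maximal ideal, so that A is a small extension
of A/tA. Let B be a flat A-algebra whose closed fibre B/m_A B is a formally smooth k-algebra (an
infinitesimal deformation over A of a formally smooth k-algebra). Then every A-algebra automorphism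
of B/tB is induced by an A-algebra automorphism of B. (The published statement asks the automorphism
of B/tB to induce the identity on B/m_A B; this row does not. The published statement takes the
closed fibre smooth, that is formally smooth and essentially of finite type; this row asks the
closed fibre to be formally smooth over k in the sense of lifting along all square-zero surjections
of commutative k-algebras, with no finiteness condition.) -/
theorem result
    {k : Type u} [Field k] [IsAlgClosed k]
    {A : Type u} [CommRing A] [Algebra k A] [IsLocalRing A] [IsArtinianRing A]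
    (hres : ∀ a : A, ∃ c : k, a - algebraMap k A c ∈ IsLocalRing.maximalIdeal A)
    (t : A) (ht : t ∈ IsLocalRing.maximalIdeal A)
    (htm : ∀ a ∈ IsLocalRing.maximalIdeal A, a * t = 0)
    {B : Type u} [CommRing B] [Algebra A B] [Module.Flat A B] [Algebra k B] [IsScalarTower k A B]
    (hsm : Algebra.FormallySmooth k (B ⧸ (IsLocalRing.maximalIdeal A).map (algebraMap A B)))
    (σ : (B ⧸ Ideal.span {algebraMap A B t}) ≃ₐ[A] (B ⧸ Ideal.span {algebraMap A B t})) :
    ∃ τ : B ≃ₐ[A] B, ∀ b : B,
      Ideal.Quotient.mk (Ideal.span {algebraMap A B t}) (τ b) =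
        σ (Ideal.Quotient.mk (Ideal.span {algebraMap A B t}) b) := by
  classical
  have hbijk : Function.Bijective
      ((Ideal.Quotient.mk (IsLocalRing.maximalIdeal A)).comp (algebraMap k A)) := by
    refine ⟨RingHom.injective _, fun x => ?_⟩
    obtain ⟨a, rfl⟩ := Ideal.Quotient.mk_surjective x
    obtain ⟨c, hc⟩ := hres a
    refine ⟨c, ?_⟩
    rw [RingHom.comp_apply]
    exact (Ideal.Quotient.eq.mpr hc).symm
  let E : k ≃+* A ⧸ IsLocalRing.maximalIdeal A := RingEquiv.ofBijective _ hbijk
  have hE : ∀ c, E c = Ideal.Quotient.mk _ (algebraMap k A c) := fun c => rfl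
  let e : A →ₐ[k] k :=
    { E.symm.toRingHom.comp (Ideal.Quotient.mk (IsLocalRing.maximalIdeal A)) with
      commutes' := fun c => by
        show E.symm (Ideal.Quotient.mk _ (algebraMap k A c)) = c
        rw [← hE, RingEquiv.symm_apply_apply] }
  have he : ∀ a, e a = E.symm (Ideal.Quotient.mk _ a) := fun a => rfl
  have hker_e : RingHom.ker e = IsLocalRing.maximalIdeal A := by
    ext a
    rw [RingHom.mem_ker, he, map_eq_zero_iff _ E.symm.injective, Ideal.Quotient.eq_zero_iff_mem]
  have hnil : IsNilpotent (RingHom.ker e) := by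
    rw [hker_e]
    have := IsArtinianRing.isNilpotent_jacobson_bot (R := A)
    rwa [IsLocalRing.jacobson_eq_maximalIdeal ⊥ bot_ne_top] at this
  let π : B →ₐ[k] (B ⧸ (IsLocalRing.maximalIdeal A).map (algebraMap A B)) :=
    Ideal.Quotient.mkₐ k _
  have hπ : Function.Surjective π := Ideal.Quotient.mk_surjective
  have hcomm : ∀ a, π (algebraMap A B a) =
      algebraMap k (B ⧸ (IsLocalRing.maximalIdeal A).map (algebraMap A B)) (e a) := by
    intro a
    have h1 : a - algebraMap k A (e a) ∈ IsLocalRing.maximalIdeal A := by
      rw [← hker_e, RingHom.mem_ker, map_sub, AlgHom.commutes, sub_eq_zero]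
      rfl
    have h2 : algebraMap k (B ⧸ (IsLocalRing.maximalIdeal A).map (algebraMap A B)) (e a) =
        Ideal.Quotient.mk _ (algebraMap A B (algebraMap k A (e a))) := by
      rw [← IsScalarTower.algebraMap_apply k A B]
      rfl
    rw [h2]
    show Ideal.Quotient.mk _ (algebraMap A B a) = _
    rw [Ideal.Quotient.eq, ← map_sub]
    exact Ideal.mem_map_of_mem _ h1
  have hker : RingHom.ker π ≤ (RingHom.ker e).map (algebraMap A B) := by
    rw [hker_e]
    intro b hb
    exact Ideal.Quotient.eq_zero_iff_mem.mp hb
  obtain ⟨σ₀, hσ₀, hbij⟩ := Groth.Agent.Lib.Helper12.TrivDef.exists_section_bijective k A B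
    (B ⧸ (IsLocalRing.maximalIdeal A).map (algebraMap A B)) e π hπ hnil hcomm hker
  let Φ := AlgEquiv.ofBijective _ hbij
  haveI : Algebra.FormallySmooth A B := Algebra.FormallySmooth.of_equiv Φ
  -- the lift
  have ht2 : t * t = 0 := htm t ht
  have hI : IsNilpotent (Ideal.span {algebraMap A B t}) := by
    refine ⟨2, ?_⟩
    rw [pow_two, Ideal.span_singleton_mul_span_singleton, ← map_mul, ht2, map_zero]
    simp
  let g : B →ₐ[A] B ⧸ Ideal.span {algebraMap A B t} :=
    σ.toAlgHom.comp (Ideal.Quotient.mkₐ A _)
  let τ₀ : B →ₐ[A] B := Algebra.FormallySmooth.lift _ hI g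
  have hτ₀ : ∀ b, Ideal.Quotient.mk (Ideal.span {algebraMap A B t}) (τ₀ b) =
      σ (Ideal.Quotient.mk _ b) := Algebra.FormallySmooth.mk_lift _ hI g
  have hsmul : (Ideal.span {t} • (⊤ : Submodule A B)) =
      (Ideal.span {algebraMap A B t}).restrictScalars A := by
    rw [Ideal.smul_top_eq_map, Ideal.map_span, Set.image_singleton]
  have hnilt : IsNilpotent (Ideal.span {t}) := by
    refine ⟨2, ?_⟩
    rw [pow_two, Ideal.span_singleton_mul_span_singleton, ht2]
    simp
  have hbijτ : Function.Bijective τ₀.toLinearMap := by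
    apply Groth.Agent.Lib.Helper12.TrivDef.bijective_of_nilpotent_of_flat (Ideal.span {t}) hnilt
    · intro b
      obtain ⟨b', hb'⟩ := Ideal.Quotient.mk_surjective (σ.symm (Ideal.Quotient.mk _ b))
      refine ⟨b', ?_⟩
      rw [hsmul]
      show b - τ₀ b' ∈ Ideal.span {algebraMap A B t}
      rw [← Ideal.Quotient.eq, hτ₀, hb', AlgEquiv.apply_symm_apply]
    · intro b hb
      rw [hsmul] at hb ⊢
      have hb' : τ₀ b ∈ Ideal.span {algebraMap A B t} := hb
      show b ∈ Ideal.span {algebraMap A B t}
      rw [← Ideal.Quotient.eq_zero_iff_mem] at hb' ⊢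
      rw [hτ₀] at hb'
      exact (map_eq_zero_iff _ σ.injective).mp hb'
  exact ⟨AlgEquiv.ofBijective τ₀ hbijτ, hτ₀⟩

end Groth.Agent.S11280
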