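import Groth.Statements.S11281
import Groth.Agent.Lib.Helper1.ExalLocal
import Mathlib.RingTheory.LocalRing.Quotient

set_option autoImplicit false
universe u
open Deform

namespace Groth.Agent.S11281

open IsLocalRing Groth.Agent.Lib.Helper1.ExalLocal

section quot

variable {E : Type u} [CommRing E] [IsLocalRing E] (J : Ideal E) (hJ : J ≠ ⊤)

include hJ in
lemma quot_nontrivial : Nontrivial (E ⧸ J) := Ideal.Quotient.nontrivial_iff.mpr hJ

include hJ in
lemma quot_isLocalRing : IsLocalRing (E ⧸ J) :=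
  haveI := quot_nontrivial J hJ
  IsLocalRing.of_surjective' (Ideal.Quotient.mk J) Ideal.Quotient.mk_surjective

include hJ in
lemma quot_mem_maximalIdeal_iff [IsLocalRing (E ⧸ J)] (e : E) :
    Ideal.Quotient.mk J e ∈ maximalIdeal (E ⧸ J) ↔ e ∈ maximalIdeal E := by
  haveI := IsLocalHom.of_surjective (Ideal.Quotient.mk J) Ideal.Quotient.mk_surjective
  rw [mem_maximalIdeal, mem_maximalIdeal, mem_nonunits_iff, mem_nonunits_iff,
    isUnit_map_iff]

include hJ in
lemma quot_isArtinianRing [IsNoetherianRing E] [IsLocalRing (E ⧸ J)] (n : ℕ)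
    (hn : maximalIdeal E ^ n ≤ J) : IsArtinianRing (E ⧸ J) := by
  rw [isArtinianRing_iff_isNilpotent_maximalIdeal]
  refine ⟨n, ?_⟩
  have : (maximalIdeal E).map (Ideal.Quotient.mk J) = maximalIdeal (E ⧸ J) := by
    ext x
    obtain ⟨x, rfl⟩ := Ideal.Quotient.mk_surjective x
    rw [quot_mem_maximalIdeal_iff J hJ]
    constructor
    · intro h
      rw [Ideal.mem_map_iff_of_surjective _ Ideal.Quotient.mk_surjective] at h
      obtain ⟨y, hy, hyx⟩ := h
      rw [Ideal.Quotient.eq] at hyx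
      have : x = y - (y - x) := by ring
      rw [this]
      exact Ideal.sub_mem _ hy (le_maximalIdeal hJ hyx)
    · intro h; exact Ideal.mem_map_of_mem _ h
  rw [← this, ← Ideal.map_pow, Ideal.zero_eq_bot, Ideal.map_eq_bot_iff_le_ker, Ideal.mk_ker]
  exact hn

end quot

section ba

variable {k : Type u} [Field k]
    {Λ : Type u} [CommRing Λ] [Algebra k Λ]
    {R : Type u} [CommRing R] [Algebra Λ R] [IsLocalRing R] [IsNoetherianRing R]

theorem ba
    (hR : ∀ r : R, ∃ c : k, r - algebraMap Λ R (algebraMap k Λ c) ∈ IsLocalRing.maximalIdeal R)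
    (hb : ∀ (B : Type u) [CommRing B] [Algebra Λ B] [IsLocalRing B] [IsArtinianRing B],
      (∀ b : B, ∃ c : k, b - algebraMap Λ B (algebraMap k Λ c) ∈ IsLocalRing.maximalIdeal B) →
      ∀ t : B, t ∈ IsLocalRing.maximalIdeal B → (∀ b ∈ IsLocalRing.maximalIdeal B, b * t = 0) →
      ∀ φ : R →ₐ[Λ] B ⧸ Ideal.span {t},
        ∃ φ' : R →ₐ[Λ] B, (Ideal.Quotient.mkₐ Λ (Ideal.span {t})).comp φ' = φ)
    (X : Exal.Ext Λ R (IsLocalRing.ResidueField R)) : X.IsTrivial := by
  obtain ⟨n, hn⟩ := exists_incl_one_notMem_pow X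
  have hJ : maximalIdeal X.E ^ n ≠ ⊤ := fun h => hn (h ▸ Submodule.mem_top)
  haveI := quot_isLocalRing _ hJ
  haveI := quot_isArtinianRing _ hJ n le_rfl
  -- residue field condition
  have hB : ∀ b : X.E ⧸ maximalIdeal X.E ^ n, ∃ c : k,
      b - algebraMap Λ (X.E ⧸ maximalIdeal X.E ^ n) (algebraMap k Λ c) ∈
        IsLocalRing.maximalIdeal (X.E ⧸ maximalIdeal X.E ^ n) := by
    intro b
    obtain ⟨e, rfl⟩ := Ideal.Quotient.mk_surjective b
    obtain ⟨c, hc⟩ := hR (X.proj e)
    refine ⟨c, ?_⟩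
    have : Ideal.Quotient.mk (maximalIdeal X.E ^ n) e -
        algebraMap Λ (X.E ⧸ maximalIdeal X.E ^ n) (algebraMap k Λ c) =
        Ideal.Quotient.mk (maximalIdeal X.E ^ n) (e - algebraMap Λ X.E (algebraMap k Λ c)) := by
      rw [map_sub]; rfl
    rw [this, quot_mem_maximalIdeal_iff _ hJ, mem_maximalIdeal_iff, map_sub, AlgHom.commutes]
    exact hc
  have ht : Ideal.Quotient.mk (maximalIdeal X.E ^ n) (X.incl 1) ∈
      IsLocalRing.maximalIdeal (X.E ⧸ maximalIdeal X.E ^ n) := by
    rw [quot_mem_maximalIdeal_iff _ hJ]; exact incl_mem_maximalIdeal X 1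
  have hmt : ∀ b ∈ IsLocalRing.maximalIdeal (X.E ⧸ maximalIdeal X.E ^ n),
      b * Ideal.Quotient.mk (maximalIdeal X.E ^ n) (X.incl 1) = 0 := by
    intro b hb
    obtain ⟨e, rfl⟩ := Ideal.Quotient.mk_surjective b
    rw [quot_mem_maximalIdeal_iff _ hJ] at hb
    rw [← map_mul, maximal_mul_incl X hb, map_zero]
  -- the map φ
  let q : X.E →ₐ[Λ] (X.E ⧸ maximalIdeal X.E ^ n) ⧸
      Ideal.span {Ideal.Quotient.mk (maximalIdeal X.E ^ n) (X.incl 1)} :=
    (Ideal.Quotient.mkₐ Λ _).comp (Ideal.Quotient.mkₐ Λ _)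
  have hq : ∀ a ∈ RingHom.ker X.proj, q a = 0 := by
    intro a ha
    have ha : a ∈ RingHom.ker (X.proj : X.E →+* R) := ha
    rw [ker_proj_eq_span, Ideal.mem_span_singleton'] at ha
    obtain ⟨a', rfl⟩ := ha
    change Ideal.Quotient.mk _ (Ideal.Quotient.mk _ (a' * X.incl 1)) = 0
    rw [Ideal.Quotient.eq_zero_iff_mem, map_mul]
    exact Ideal.mul_mem_left _ _ (Ideal.subset_span rfl)
  let φ : R →ₐ[Λ] (X.E ⧸ maximalIdeal X.E ^ n) ⧸
      Ideal.span {Ideal.Quotient.mk (maximalIdeal X.E ^ n) (X.incl 1)} :=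
    (Ideal.Quotient.liftₐ (RingHom.ker X.proj) q hq).comp
      (Ideal.quotientKerAlgEquivOfSurjective X.isExtension.proj_surjective).symm.toAlgHom
  have hφ : ∀ e : X.E, φ (X.proj e) = q e := by
    intro e
    have : (Ideal.quotientKerAlgEquivOfSurjective X.isExtension.proj_surjective).symm (X.proj e) =
        Ideal.Quotient.mk (RingHom.ker X.proj) e := by
      rw [AlgEquiv.symm_apply_eq]; rfl
    change Ideal.Quotient.liftₐ _ q hq
      ((Ideal.quotientKerAlgEquivOfSurjective X.isExtension.proj_surjective).symm (X.proj e)) = _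
    rw [this]; rfl
  obtain ⟨φ', hφ'⟩ := hb _ hB _ ht hmt φ
  -- the embedding E → R × B
  let j : X.E →ₐ[Λ] R × (X.E ⧸ maximalIdeal X.E ^ n) :=
    AlgHom.prod X.proj (Ideal.Quotient.mkₐ Λ _)
  have hj : Function.Injective j := by
    rw [injective_iff_map_eq_zero]
    intro e he
    have h1 : X.proj e = 0 := congrArg Prod.fst he
    have h2 : Ideal.Quotient.mk (maximalIdeal X.E ^ n) e = 0 := congrArg Prod.snd he
    rw [Ideal.Quotient.eq_zero_iff_mem] at h2
    exact eq_zero_of_proj_eq_zero_of_mem X hn h1 h2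
  have hrange : ∀ r : R, (AlgHom.prod (AlgHom.id Λ R) φ') r ∈ j.range := by
    intro r
    obtain ⟨e₀, rfl⟩ := X.isExtension.proj_surjective r
    have h1 : Ideal.Quotient.mk
        (Ideal.span {Ideal.Quotient.mk (maximalIdeal X.E ^ n) (X.incl 1)})
        (Ideal.Quotient.mk (maximalIdeal X.E ^ n) e₀ - φ' (X.proj e₀)) = 0 := by
      rw [map_sub, sub_eq_zero]
      have := congrArg (fun f => f (X.proj e₀)) hφ'
      simp only [AlgHom.comp_apply] at this
      rw [hφ] at this
      exact this.symm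
    rw [Ideal.Quotient.eq_zero_iff_mem, Ideal.mem_span_singleton'] at h1
    obtain ⟨b, hb'⟩ := h1
    obtain ⟨e₁, rfl⟩ := Ideal.Quotient.mk_surjective b
    refine ⟨e₀ - e₁ * X.incl 1, ?_⟩
    refine Prod.ext ?_ ?_
    · change X.proj (e₀ - e₁ * X.incl 1) = X.proj e₀
      rw [map_sub, map_mul, proj_incl, mul_zero, sub_zero]
    · change Ideal.Quotient.mk _ (e₀ - e₁ * X.incl 1) = φ' (X.proj e₀)
      rw [map_sub, map_mul, hb']; ring
  refine ⟨(AlgEquiv.ofInjective j hj).symm.toAlgHom.comp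
    ((AlgHom.prod (AlgHom.id Λ R) φ').codRestrict j.range hrange), ?_⟩
  intro r
  set y := (AlgHom.prod (AlgHom.id Λ R) φ').codRestrict j.range hrange r with hy
  change X.proj ((AlgEquiv.ofInjective j hj).symm y) = r
  have h3 : j ((AlgEquiv.ofInjective j hj).symm y) = (y : R × _) := by
    have := (AlgEquiv.ofInjective j hj).apply_symm_apply y
    exact congrArg Subtype.val this
  have h4 : (y : R × (X.E ⧸ maximalIdeal X.E ^ n)).1 = r := rfl
  rw [← h4, ← h3]; rfl

end ba

noncomputable section ab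

variable {k : Type u} [Field k]
    {Λ : Type u} [CommRing Λ] [Algebra k Λ]
    {R : Type u} [CommRing R] [Algebra Λ R] [IsLocalRing R]
    {B : Type u} [CommRing B] [Algebra Λ B] [IsLocalRing B]
    {t : B} (φ : R →ₐ[Λ] B ⧸ Ideal.span {t})

/-- the fibre product `R ×_{B/t} B`. -/
def PB : Subalgebra Λ (R × B) :=
  AlgHom.equalizer (φ.comp (AlgHom.fst Λ R B))
    ((Ideal.Quotient.mkₐ Λ (Ideal.span {t})).comp (AlgHom.snd Λ R B))

lemma mem_PB (x : R × B) : x ∈ PB φ ↔ φ x.1 = Ideal.Quotient.mk (Ideal.span {t}) x.2 := Iff.rfl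

/-- the structure map `k → R → κ(R)`. -/
def κ (k : Type u) [Field k] (Λ : Type u) [CommRing Λ] [Algebra k Λ]
    (R : Type u) [CommRing R] [Algebra Λ R] [IsLocalRing R] : k →+* ResidueField R :=
  (residue R).comp ((algebraMap Λ R).comp (algebraMap k Λ))

lemma κ_bijective
    (hR : ∀ r : R, ∃ c : k, r - algebraMap Λ R (algebraMap k Λ c) ∈ IsLocalRing.maximalIdeal R) :
    Function.Bijective (κ k Λ R) := by
  refine ⟨(κ k Λ R).injective, fun z => ?_⟩
  obtain ⟨r, rfl⟩ := residue_surjective z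
  obtain ⟨c, hc⟩ := hR r
  refine ⟨c, ?_⟩
  have := (residue_eq_zero_iff _).2 hc
  rw [map_sub, sub_eq_zero] at this
  exact this.symm

variable (hR : ∀ r : R, ∃ c : k, r - algebraMap Λ R (algebraMap k Λ c) ∈ IsLocalRing.maximalIdeal R)

/-- inverse of `κ`. -/
def ι : ResidueField R ≃+* k := (RingEquiv.ofBijective (κ k Λ R) (κ_bijective hR)).symm

lemma κ_ι (z : ResidueField R) : κ k Λ R (ι hR z) = z :=
  (RingEquiv.ofBijective (κ k Λ R) (κ_bijective hR)).apply_symm_apply z

lemma ι_κ (c : k) : ι hR (κ k Λ R c) = c :=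
  (RingEquiv.ofBijective (κ k Λ R) (κ_bijective hR)).symm_apply_apply c

/-- the inclusion of the kernel. -/
def inclPB : ResidueField R →+ PB φ where
  toFun z := ⟨(0, algebraMap Λ B (algebraMap k Λ (ι hR z)) * t), by
    rw [mem_PB]
    change φ 0 = _
    rw [map_zero, eq_comm, Ideal.Quotient.eq_zero_iff_mem]
    exact Ideal.mul_mem_left _ _ (Ideal.subset_span rfl)⟩
  map_zero' := by
    apply Subtype.ext
    simp
  map_add' z z' := by
    apply Subtype.ext
    simp [add_mul]

lemma inclPB_val (z : ResidueField R) :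
    ((inclPB φ hR z : PB φ) : R × B) = (0, algebraMap Λ B (algebraMap k Λ (ι hR z)) * t) := rfl

/-- `algB c := algebraMap Λ B (algebraMap k Λ c)` is a unit for `c ≠ 0`. -/
lemma isUnit_alg {S : Type u} [CommRing S] [Algebra Λ S] {c : k} (hc : c ≠ 0) :
    IsUnit (algebraMap Λ S (algebraMap k Λ c)) :=
  ((IsUnit.mk0 c hc).map (algebraMap k Λ)).map (algebraMap Λ S)

variable (hB : ∀ b : B, ∃ c : k, b - algebraMap Λ B (algebraMap k Λ c) ∈ IsLocalRing.maximalIdeal B)
  (ht : t ∈ IsLocalRing.maximalIdeal B)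

include hB ht in
lemma sub_mem_of_mem_PB (x : R × B) (hx : x ∈ PB φ) :
    x.2 - algebraMap Λ B (algebraMap k Λ (ι hR (residue R x.1))) ∈ maximalIdeal B := by
  obtain ⟨r, b⟩ := x
  rw [mem_PB] at hx
  change φ r = Ideal.Quotient.mk _ b at hx
  change b - algebraMap Λ B (algebraMap k Λ (ι hR (residue R r))) ∈ maximalIdeal B
  set c := ι hR (residue R r) with hc
  have hm : r - algebraMap Λ R (algebraMap k Λ c) ∈ maximalIdeal R := by
    rw [← residue_eq_zero_iff, map_sub, sub_eq_zero]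
    exact (κ_ι hR (residue R r)).symm
  obtain ⟨c', hc'⟩ := hB (b - algebraMap Λ B (algebraMap k Λ c))
  by_cases h0 : c' = 0
  · rw [h0, map_zero, map_zero, sub_zero] at hc'; exact hc'
  exfalso
  have hJ : Ideal.span {t} ≠ ⊤ := fun h => (IsLocalRing.maximalIdeal.isMaximal B).ne_top
    (top_le_iff.1 (h ▸ (Ideal.span_singleton_le_iff_mem _).2 ht))
  haveI := quot_isLocalRing _ hJ
  -- the unit
  have hu : IsUnit (r - algebraMap Λ R (algebraMap k Λ c) - algebraMap Λ R (algebraMap k Λ c')) := by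
    by_contra hnu
    have h1 : r - algebraMap Λ R (algebraMap k Λ c) - algebraMap Λ R (algebraMap k Λ c') ∈
        maximalIdeal R := hnu
    have h2 : algebraMap Λ R (algebraMap k Λ c') ∈ maximalIdeal R := by
      have := Ideal.sub_mem _ hm h1
      rwa [sub_sub_cancel] at this
    exact h2 (isUnit_alg h0)
  have hφu := hu.map φ
  rw [map_sub, map_sub, AlgHom.commutes, AlgHom.commutes, hx] at hφu
  have h3 : Ideal.Quotient.mk (Ideal.span {t}) b -
      algebraMap Λ (B ⧸ Ideal.span {t}) (algebraMap k Λ c) -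
      algebraMap Λ (B ⧸ Ideal.span {t}) (algebraMap k Λ c') =
      Ideal.Quotient.mk (Ideal.span {t}) (b - algebraMap Λ B (algebraMap k Λ c) -
        algebraMap Λ B (algebraMap k Λ c')) := by
    rw [map_sub, map_sub]; rfl
  rw [h3] at hφu
  have h4 := (quot_mem_maximalIdeal_iff (Ideal.span {t}) hJ _).2 hc'
  exact h4 hφu

variable (hmt : ∀ b ∈ IsLocalRing.maximalIdeal B, b * t = 0) (ht0 : t ≠ 0)

include hB ht hmt ht0 in
lemma isExtension_PB :
    Exal.IsExtension ((AlgHom.fst Λ R B).comp (PB φ).val) (inclPB φ hR) where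
  proj_surjective r := by
    obtain ⟨b, hb⟩ := Ideal.Quotient.mk_surjective (φ r)
    exact ⟨⟨(r, b), hb.symm⟩, rfl⟩
  incl_injective := by
    rw [injective_iff_map_eq_zero]
    intro z hz
    by_contra hz0
    have h1 : algebraMap Λ B (algebraMap k Λ (ι hR z)) * t = 0 :=
      congrArg (fun x : PB φ => (x : R × B).2) hz
    have h2 : ι hR z ≠ 0 := fun h => hz0 (by rw [← κ_ι hR z, h, map_zero])
    exact ht0 ((isUnit_alg h2).mul_right_eq_zero.1 h1)
  exact x := by
    obtain ⟨⟨r, b⟩, hx⟩ := x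
    change r = 0 ↔ _
    constructor
    · rintro rfl
      rw [mem_PB] at hx
      change φ 0 = Ideal.Quotient.mk _ b at hx
      rw [map_zero, eq_comm, Ideal.Quotient.eq_zero_iff_mem, Ideal.mem_span_singleton'] at hx
      obtain ⟨a, rfl⟩ := hx
      obtain ⟨c, hc⟩ := hB a
      refine ⟨κ k Λ R c, Subtype.ext ?_⟩
      rw [inclPB_val, ι_κ]
      refine Prod.ext rfl ?_
      change _ = a * t
      have := hmt _ hc
      rw [sub_mul, sub_eq_zero] at this
      exact this.symm
    · rintro ⟨z, hz⟩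
      exact (congrArg (fun x : PB φ => (x : R × B).1) hz).symm
  mul_incl x z := by
    obtain ⟨⟨r, b⟩, hx⟩ := x
    apply Subtype.ext
    have h1 := hmt _ (sub_mem_of_mem_PB φ hR hB ht (r, b) hx)
    change (b - algebraMap Λ B (algebraMap k Λ (ι hR (residue R r)))) * t = 0 at h1
    rw [sub_mul, sub_eq_zero] at h1
    change ((r, b) : R × B) * (inclPB φ hR z : PB φ) = (inclPB φ hR (r • z) : PB φ)
    rw [inclPB_val, inclPB_val]
    refine Prod.ext (by simp) ?_
    change b * (algebraMap Λ B (algebraMap k Λ (ι hR z)) * t) =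
      algebraMap Λ B (algebraMap k Λ (ι hR (r • z))) * t
    rw [Algebra.smul_def, map_mul, map_mul, map_mul]
    change _ = algebraMap Λ B (algebraMap k Λ (ι hR (residue R r))) * _ * t
    rw [mul_left_comm, h1]; ring

/-- the pullback extension. -/
def extPB : Exal.Ext Λ R (ResidueField R) where
  E := PB φ
  proj := (AlgHom.fst Λ R B).comp (PB φ).val
  incl := inclPB φ hR
  isExtension := isExtension_PB φ hR hB ht hmt ht0

include hR hB ht hmt ht0 in
lemma ab_ne (h : ∀ X : Exal.Ext Λ R (IsLocalRing.ResidueField R), X.IsTrivial) :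
    ∃ φ' : R →ₐ[Λ] B, (Ideal.Quotient.mkₐ Λ (Ideal.span {t})).comp φ' = φ := by
  obtain ⟨s, hs⟩ := h (extPB φ hR hB ht hmt ht0)
  let s' : R →ₐ[Λ] PB φ := s
  have hs' : ∀ r, ((s' r : PB φ) : R × B).1 = r := hs
  refine ⟨(AlgHom.snd Λ R B).comp ((PB φ).val.comp s'), ?_⟩
  ext r
  have := (s' r).2
  rw [mem_PB, hs'] at this
  exact this.symm

end ab

/-- Let k be an algebraically closed field, Λ a local Noetherian k-algebra with residue field k, and R a
local Noetherian Λ-algebra, with local structure map and residue field k. The following are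
equivalent: (a) every Λ-extension of R by its residue field k is trivial, i.e. the relative
obstruction space o(R/Λ) = Ex_Λ(R, k) vanishes; (b) for every local Artinian Λ-algebra B with
residue field k and every t in the maximal ideal of B annihilated by the maximal ideal, every
Λ-algebra map R → B/tB lifts to a Λ-algebra map R → B (formal smoothness of R over Λ tested on small
extensions of Artinian rings). The test algebras B range over the universe of R. -/
theorem result
    {k : Type u} [Field k] [IsAlgClosed k]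
    {Λ : Type u} [CommRing Λ] [Algebra k Λ] [IsLocalRing Λ] [IsNoetherianRing Λ]
    (hΛ : ∀ a : Λ, ∃ c : k, a - algebraMap k Λ c ∈ IsLocalRing.maximalIdeal Λ)
    {R : Type u} [CommRing R] [Algebra Λ R] [IsLocalRing R] [IsNoetherianRing R]
    [IsLocalHom (algebraMap Λ R)]
    (hR : ∀ r : R, ∃ c : k, r - algebraMap Λ R (algebraMap k Λ c) ∈ IsLocalRing.maximalIdeal R) :
    (∀ X : Exal.Ext Λ R (IsLocalRing.ResidueField R), X.IsTrivial) ↔
    (∀ (B : Type u) [CommRing B] [Algebra Λ B] [IsLocalRing B] [IsArtinianRing B],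
      (∀ b : B, ∃ c : k, b - algebraMap Λ B (algebraMap k Λ c) ∈ IsLocalRing.maximalIdeal B) →
      ∀ t : B, t ∈ IsLocalRing.maximalIdeal B → (∀ b ∈ IsLocalRing.maximalIdeal B, b * t = 0) →
      ∀ φ : R →ₐ[Λ] B ⧸ Ideal.span {t},
        ∃ φ' : R →ₐ[Λ] B, (Ideal.Quotient.mkₐ Λ (Ideal.span {t})).comp φ' = φ) := by
  constructor
  · intro h B _ _ _ _ hB t ht hmt φ
    by_cases ht0 : t = 0
    · subst ht0
      have hbij : Function.Bijective (Ideal.Quotient.mkₐ Λ (Ideal.span {(0:B)})) := by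
        refine ⟨?_, Ideal.Quotient.mk_surjective⟩
        rw [injective_iff_map_eq_zero]
        intro b hb
        have : b ∈ Ideal.span {(0:B)} := Ideal.Quotient.eq_zero_iff_mem.1 hb
        simpa using this
      refine ⟨(AlgEquiv.ofBijective _ hbij).symm.toAlgHom.comp φ, ?_⟩
      ext r
      exact (AlgEquiv.ofBijective _ hbij).apply_symm_apply (φ r)
    · exact ab_ne φ hR hB ht hmt ht0 h
  · intro hb X
    exact ba hR hb X

end Groth.Agent.S11281
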