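import Groth.Statements.S11282
import Groth.Agent.Lib.Helper1.ExalLocal
import Mathlib.RingTheory.Filtration
import Mathlib.LinearAlgebra.Finsupp.LinearCombination

set_option autoImplicit false
universe u
open Deform

namespace Groth.Agent.S11282

open IsLocalRing Groth.Agent.Lib.Helper1.ExalLocal

section

variable {A : Type u} {R : Type u} [CommRing A] [CommRing R] [Algebra A R] [IsLocalRing R]
  (X : Exal.Ext A R (ResidueField R))

lemma map_maximalIdeal : (maximalIdeal X.E).map (X.proj : X.E →+* R) = maximalIdeal R := by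
  apply le_antisymm
  · rw [Ideal.map_le_iff_le_comap]
    intro e he
    exact (mem_maximalIdeal_iff X e).1 he
  · intro r hr
    obtain ⟨e, rfl⟩ := X.isExtension.proj_surjective r
    exact Ideal.mem_map_of_mem _ ((mem_maximalIdeal_iff X e).2 hr)

lemma map_maximalIdeal_pow (n : ℕ) :
    (maximalIdeal X.E ^ n).map (X.proj : X.E →+* R) = maximalIdeal R ^ n := by
  rw [Ideal.map_pow, map_maximalIdeal]

lemma mul_eq_zero_of_mem_of_proj_eq_zero {a t : X.E} (ha : a ∈ maximalIdeal X.E)
    (ht : X.proj t = 0) : a * t = 0 := by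
  obtain ⟨z, rfl⟩ := (X.isExtension.exact _).1 ht
  exact maximal_mul_incl X ha z

variable {d : ℕ} (x : Fin d → R) (hx : Ideal.span (Set.range x) = maximalIdeal R)
  (xt : Fin d → X.E) (hxt : ∀ i, X.proj (xt i) = x i)

include hxt hx in
lemma xt_mem (i : Fin d) : xt i ∈ maximalIdeal X.E := by
  rw [mem_maximalIdeal_iff, hxt, ← hx]
  exact Ideal.subset_span ⟨i, rfl⟩

include hx hxt in
/-- elements of `m_E * J'` are combinations of the `xt i` with coefficients in `J'`. -/
lemma exists_sum_of_mem_mul {J' : Ideal X.E} (hJ' : J' ≤ maximalIdeal X.E) {t : X.E}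
    (ht : t ∈ maximalIdeal X.E * J') :
    ∃ y : Fin d → X.E, (∀ i, y i ∈ J') ∧ t = ∑ i, xt i * y i := by
  refine Submodule.mul_induction_on ht ?_ ?_
  · intro u hu b hb
    have h1 : X.proj u ∈ Ideal.span (Set.range x) := by
      rw [hx]; exact (mem_maximalIdeal_iff X u).1 hu
    obtain ⟨c, hc⟩ := Ideal.mem_span_range_iff_exists_fun.1 h1
    choose ct hct using fun i => X.isExtension.proj_surjective (c i)
    have h2 : X.proj (u - ∑ i, ct i * xt i) = 0 := by
      rw [map_sub, map_sum, ← hc, sub_eq_zero]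
      refine (Finset.sum_congr rfl (fun i _ => ?_)).symm
      rw [map_mul, hct, hxt]
    have h3 : b * (u - ∑ i, ct i * xt i) = 0 :=
      mul_eq_zero_of_mem_of_proj_eq_zero X (hJ' hb) h2
    refine ⟨fun i => ct i * b, fun i => J'.mul_mem_left _ hb, ?_⟩
    have : u * b = b * (u - ∑ i, ct i * xt i) + ∑ i, xt i * (ct i * b) := by
      rw [mul_sub, Finset.mul_sum]
      have : ∑ i, b * (ct i * xt i) = ∑ i, xt i * (ct i * b) :=
        Finset.sum_congr rfl (fun i _ => by ring)
      rw [this]; ring
    rw [this, h3, zero_add]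
  · rintro t t' ⟨y, hy, rfl⟩ ⟨y', hy', rfl⟩
    refine ⟨fun i => y i + y' i, fun i => J'.add_mem (hy i) (hy' i), ?_⟩
    rw [← Finset.sum_add_distrib]
    exact Finset.sum_congr rfl (fun i _ => by ring)

include hx hxt in
/-- the key vanishing: for `v ∈ m • N` and any lift `w`, `∑ xt i * w i = 0`. -/
lemma sum_eq_zero_of_mem_smul
    {v : Fin d → R}
    (hv : v ∈ maximalIdeal R • LinearMap.ker (Fintype.linearCombination R x)) :
    ∀ w : Fin d → X.E, (∀ i, X.proj (w i) = v i) → ∑ i, xt i * w i = 0 := by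
  refine Submodule.smul_induction_on hv ?_ ?_
  · intro a ha z hz w hw
    obtain ⟨at', rfl⟩ := X.isExtension.proj_surjective a
    have hat : at' ∈ maximalIdeal X.E := (mem_maximalIdeal_iff X at').2 ha
    choose zt hzt using fun i => X.isExtension.proj_surjective (z i)
    -- Φ(zt) is in the kernel
    have h1 : X.proj (∑ i, xt i * zt i) = 0 := by
      rw [map_sum]
      have h2 : Fintype.linearCombination R x z = 0 := hz
      rw [Fintype.linearCombination_apply] at h2
      rw [← h2]
      refine Finset.sum_congr rfl (fun i _ => ?_)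
      rw [map_mul, hxt, hzt, smul_eq_mul, mul_comm]
    have h3 : at' * ∑ i, xt i * zt i = 0 := mul_eq_zero_of_mem_of_proj_eq_zero X hat h1
    -- compare w with at' * zt
    have h4 : ∀ i, xt i * (w i - at' * zt i) = 0 := by
      intro i
      refine mul_eq_zero_of_mem_of_proj_eq_zero X (xt_mem X x hx xt hxt i) ?_
      rw [map_sub, map_mul, hw, hzt, Pi.smul_apply, smul_eq_mul, sub_self]
    have h5 : ∑ i, xt i * w i = ∑ i, xt i * (w i - at' * zt i) + at' * ∑ i, xt i * zt i := by
      rw [Finset.mul_sum, ← Finset.sum_add_distrib]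
      exact Finset.sum_congr rfl (fun i _ => by ring)
    rw [h5, h3, add_zero]
    exact Finset.sum_eq_zero (fun i _ => h4 i)
  · intro v₁ v₂ h₁ h₂ w hw
    choose w₁ hw₁ using fun i => X.isExtension.proj_surjective (v₁ i)
    have e1 := h₁ w₁ hw₁
    have e2 := h₂ (fun i => w i - w₁ i) (fun i => by
      rw [map_sub, hw, hw₁, Pi.add_apply, add_sub_cancel_left])
    have : ∑ i, xt i * w i = ∑ i, xt i * w₁ i + ∑ i, xt i * (w i - w₁ i) := by
      rw [← Finset.sum_add_distrib]
      exact Finset.sum_congr rfl (fun i _ => by ring)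
    rw [this, e1, e2, add_zero]

end

lemma mem_smul_top_of_forall_mem {R : Type u} [CommRing R] {d : ℕ} (I : Ideal R) {v : Fin d → R}
    (hv : ∀ i, v i ∈ I) : v ∈ I • (⊤ : Submodule R (Fin d → R)) := by
  rw [pi_eq_sum_univ v]
  refine Submodule.sum_mem _ (fun i _ => ?_)
  exact Submodule.smul_mem_smul (hv i) Submodule.mem_top

/-- Let k be an algebraically closed field, Λ a complete local Noetherian k-algebra with residue field
k, and R a local Noetherian Λ-algebra with local structure map, residue field k and maximal ideal m.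
Then for some n the pull-back map o((R/m^(n+1))/Λ) → o(R/Λ) on obstruction spaces is onto: every
Λ-extension 0 → k → E → R → 0 of R by its residue field is the inverse image of a Λ-extension of
R/m^(n+1) by k. Concretely, the middle ring E of every such extension contains an ideal I which
meets the kernel k only in 0 and whose image in R is exactly m^(n+1) (then E/I is an extension of
R/m^(n+1) by k whose inverse image along R → R/m^(n+1) is E). -/
theorem result
    {k : Type u} [Field k] [IsAlgClosed k]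
    {Λ : Type u} [CommRing Λ] [Algebra k Λ] [IsLocalRing Λ] [IsNoetherianRing Λ]
    [IsAdicComplete (IsLocalRing.maximalIdeal Λ) Λ]
    (hΛ : ∀ a : Λ, ∃ c : k, a - algebraMap k Λ c ∈ IsLocalRing.maximalIdeal Λ)
    {R : Type u} [CommRing R] [Algebra Λ R] [IsLocalRing R] [IsNoetherianRing R]
    [IsLocalHom (algebraMap Λ R)]
    (hR : ∀ r : R, ∃ c : k, r - algebraMap Λ R (algebraMap k Λ c) ∈ IsLocalRing.maximalIdeal R) :
    ∃ n : ℕ, ∀ X : Exal.Ext Λ R (IsLocalRing.ResidueField R),
      ∃ I : Ideal X.E, (∀ x ∈ I, X.proj x = 0 → x = 0) ∧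
        Ideal.map X.proj I = IsLocalRing.maximalIdeal R ^ (n + 1) := by
  obtain ⟨d, x, hx⟩ := Submodule.fg_iff_exists_fin_generating_family.1
    (IsNoetherian.noetherian (maximalIdeal R))
  have hx' : Ideal.span (Set.range x) = maximalIdeal R := hx
  obtain ⟨k₀, hk₀⟩ := Ideal.exists_pow_inf_eq_pow_smul (maximalIdeal R)
    (LinearMap.ker (Fintype.linearCombination R x))
  refine ⟨k₀ + 1, fun X => ⟨maximalIdeal X.E ^ (k₀ + 1 + 1), ?_, map_maximalIdeal_pow X _⟩⟩
  intro t ht h0
  choose xt hxt using fun i => X.isExtension.proj_surjective (x i)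
  rw [pow_succ'] at ht
  obtain ⟨y, hy, rfl⟩ := exists_sum_of_mem_mul X x hx' xt hxt
    (Ideal.pow_le_self (Nat.succ_ne_zero k₀)) ht
  refine sum_eq_zero_of_mem_smul X x hx' xt hxt (v := fun i => X.proj (y i)) ?_ y (fun i => rfl)
  have hv1 : (fun i => X.proj (y i)) ∈
      maximalIdeal R ^ (k₀ + 1) • (⊤ : Submodule R (Fin d → R)) := by
    apply mem_smul_top_of_forall_mem
    intro i
    rw [← map_maximalIdeal_pow X]
    exact Ideal.mem_map_of_mem _ (hy i)
  have hv2 : (fun i => X.proj (y i)) ∈ LinearMap.ker (Fintype.linearCombination R x) := by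
    rw [LinearMap.mem_ker, Fintype.linearCombination_apply, ← h0, map_sum]
    refine Finset.sum_congr rfl (fun i _ => ?_)
    rw [map_mul, hxt, smul_eq_mul, mul_comm]
  have h1 := hk₀ (k₀ + 1) (Nat.le_succ k₀)
  have hv : (fun i => X.proj (y i)) ∈ maximalIdeal R ^ (k₀ + 1 - k₀) •
      (maximalIdeal R ^ k₀ • ⊤ ⊓ LinearMap.ker (Fintype.linearCombination R x)) := by
    rw [← h1]; exact ⟨hv1, hv2⟩
  have h2 : k₀ + 1 - k₀ = 1 := by omega
  rw [h2, pow_one] at hv
  exact Submodule.smul_mono le_rfl inf_le_right hv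

end Groth.Agent.S11282
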