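import Groth.Statements.S11283
import Groth.Agent.Lib.Helper1.ExalBaer
import Groth.Agent.Lib.Helper1.ExalSimple
import Groth.Agent.Lib.Helper1.FlatSection
import Mathlib.RingTheory.AdicCompletion.AsTensorProduct
import Mathlib.RingTheory.AdicCompletion.LocalRing
import Mathlib.RingTheory.SimpleModule.Basic

set_option autoImplicit false
universe u
open Deform

namespace Groth.Agent.S11283

open IsLocalRing Exal Exal.Ext Groth.Agent.Lib.Helper1.ExalBaer Groth.Agent.Lib.Helper1.FlatSection
  Groth.Agent.Lib.Helper1.ExalSimple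



section Inj

variable {Λ : Type u} [CommRing Λ]
    {R : Type u} [CommRing R] [Algebra Λ R] [IsLocalRing R] [IsNoetherianRing R]
    (L : Type u) [AddCommGroup L] [Module (AdicCompletion (maximalIdeal R) R) L] [Module R L]
    [IsScalarTower R (AdicCompletion (maximalIdeal R) R) L] [IsSimpleModule R L]

/-- every `R`-extension of the completion by a simple module is trivial. -/
theorem isTrivial_of_ext_completion (Z : Exal.Ext R (AdicCompletion (maximalIdeal R) R) L) :
    Z.IsTrivial := by
  refine exists_section (maximalIdeal R) Z.proj Z.isExtension.proj_surjective ?_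
    (AdicCompletion.evalOneₐ (maximalIdeal R)) ?_
  · intro a ha e he
    obtain ⟨l, rfl⟩ := (Z.isExtension.exact e).1 he
    rw [Algebra.smul_def, Z.isExtension.mul_incl, Z.proj.commutes, algebraMap_smul,
      smul_eq_zero_of_mem_maximalIdeal ha, map_zero]
  · intro p hp
    rw [← AdicCompletion.ker_evalOneₐ_eq_map _ (maximalIdeal R).fg_of_isNoetherianRing]
    exact hp

theorem inj (X X' : Exal.Ext Λ (AdicCompletion (maximalIdeal R) R) L)
    (h : Nonempty ((X.pullback R).Equiv (X'.pullback R))) : Nonempty (X.Equiv X') := by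
  obtain ⟨θ⟩ := h
  exact nonempty_equiv_of_isTrivial θ (isTrivial_of_ext_completion L _)

end Inj

section Surj

variable {Λ : Type u} [CommRing Λ]
    {R : Type u} [CommRing R] [Algebra Λ R] [IsLocalRing R] [IsNoetherianRing R]
    {L : Type u} [AddCommGroup L] [Module (AdicCompletion (maximalIdeal R) R) L] [Module R L]
    [IsScalarTower R (AdicCompletion (maximalIdeal R) R) L] [IsSimpleModule R L]

omit [IsNoetherianRing R] in
lemma smul_eq_zero_of_mem_smul_top {y : AdicCompletion (maximalIdeal R) R}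
    (hy : y ∈ (maximalIdeal R • ⊤ : Submodule R (AdicCompletion (maximalIdeal R) R))) (l : L) :
    y • l = 0 := by
  refine Submodule.smul_induction_on hy ?_ ?_
  · intro a ha z _
    rw [smul_assoc, smul_eq_zero_of_mem_maximalIdeal ha]
  · intro z z' hz hz'
    rw [add_smul, hz, hz', add_zero]

lemma smul_eq_zero_of_evalₐ_eq_zero {n : ℕ} {y : AdicCompletion (maximalIdeal R) R}
    (h : AdicCompletion.evalₐ (maximalIdeal R) (n + 1) y = 0) (l : L) : y • l = 0 := by
  have h1 : y ∈ (maximalIdeal R ^ (n + 1) • ⊤ :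
      Submodule R (AdicCompletion (maximalIdeal R) R)) := by
    rw [AdicCompletion.pow_smul_top_eq_ker_eval (maximalIdeal R).fg_of_isNoetherianRing,
      LinearMap.mem_ker]
    have h2 : maximalIdeal R ^ (n + 1) ≤ (maximalIdeal R ^ (n + 1) • ⊤ : Ideal R) := by simp
    rw [← AdicCompletion.factor_evalₐ_eq_eval _ y h2, h, map_zero]
  refine smul_eq_zero_of_mem_smul_top (Submodule.smul_mono_left ?_ h1) l
  exact Ideal.pow_le_self (Nat.succ_ne_zero n)

variable (Y : Exal.Ext Λ R L) (n : ℕ)

/-- `E/m_E^n → R/m^n`. -/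
noncomputable def pbar : (Y.E ⧸ maximalIdeal Y.E ^ n) →ₐ[Λ] R ⧸ maximalIdeal R ^ n :=
  Ideal.Quotient.liftₐ (maximalIdeal Y.E ^ n)
    ((Ideal.Quotient.mkₐ Λ (maximalIdeal R ^ n)).comp Y.proj) (by
      intro e he
      change Ideal.Quotient.mk (maximalIdeal R ^ n) (Y.proj e) = 0
      rw [Ideal.Quotient.eq_zero_iff_mem, ← map_maximalIdeal_pow Y n]
      exact Ideal.mem_map_of_mem _ he)

lemma pbar_mk (e : Y.E) :
    pbar Y n (Ideal.Quotient.mk (maximalIdeal Y.E ^ n) e) =
      Ideal.Quotient.mk (maximalIdeal R ^ n) (Y.proj e) := rfl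

variable (Λ) in
/-- `R̂ → R/m^n` as a `Λ`-algebra map. -/
noncomputable def ev : AdicCompletion (maximalIdeal R) R →ₐ[Λ] R ⧸ maximalIdeal R ^ n :=
  (AdicCompletion.evalₐ (maximalIdeal R) n).restrictScalars Λ

lemma ev_apply (x : AdicCompletion (maximalIdeal R) R) :
    ev Λ n x = AdicCompletion.evalₐ (maximalIdeal R) n x := rfl

lemma ev_algebraMap (r : R) :
    ev Λ n (algebraMap R (AdicCompletion (maximalIdeal R) R) r) =
      Ideal.Quotient.mk (maximalIdeal R ^ n) r := by
  rw [ev_apply]
  exact AdicCompletion.evalₐ_of _ n r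

/-- the middle ring of the extension of the completion. -/
noncomputable def XE : Subalgebra Λ
    (AdicCompletion (maximalIdeal R) R × (Y.E ⧸ maximalIdeal Y.E ^ n)) :=
  AlgHom.equalizer ((ev Λ n).comp (AlgHom.fst Λ _ _)) ((pbar Y n).comp (AlgHom.snd Λ _ _))

lemma mem_XE (x : AdicCompletion (maximalIdeal R) R × (Y.E ⧸ maximalIdeal Y.E ^ n)) :
    x ∈ XE Y n ↔ ev Λ n x.1 = pbar Y n x.2 := Iff.rfl

/-- the inclusion. -/
noncomputable def inclX : L →+ XE Y n where
  toFun l := ⟨(0, Ideal.Quotient.mk _ (Y.incl l)), by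
    rw [mem_XE, map_zero, pbar_mk, Groth.Agent.Lib.Helper1.ExalSimple.proj_incl, map_zero]⟩
  map_zero' := by apply Subtype.ext; simp
  map_add' l l' := by apply Subtype.ext; simp

lemma inclX_val (l : L) :
    ((inclX Y n l : XE Y n) : AdicCompletion (maximalIdeal R) R × (Y.E ⧸ maximalIdeal Y.E ^ n)) =
      (0, Ideal.Quotient.mk _ (Y.incl l)) := rfl

variable (hn : ∀ e ∈ maximalIdeal Y.E ^ (n + 1), Y.proj e = 0 → e = 0)

include hn in
lemma isExtension_X :
    Exal.IsExtension ((AlgHom.fst Λ _ _).comp (XE Y (n + 1)).val) (inclX Y (n + 1)) where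
  proj_surjective x := by
    obtain ⟨r, hr⟩ := Ideal.Quotient.mk_surjective (ev Λ (n + 1) x)
    obtain ⟨e, rfl⟩ := Y.isExtension.proj_surjective r
    exact ⟨⟨(x, Ideal.Quotient.mk _ e), by rw [mem_XE, pbar_mk, hr]⟩, rfl⟩
  incl_injective := by
    rw [injective_iff_map_eq_zero]
    intro l hl
    have h1 : Ideal.Quotient.mk (maximalIdeal Y.E ^ (n + 1)) (Y.incl l) = 0 :=
      congrArg (fun x : XE Y (n + 1) => (Subtype.val x).2) hl
    rw [Ideal.Quotient.eq_zero_iff_mem] at h1
    have h2 := hn _ h1 (Groth.Agent.Lib.Helper1.ExalSimple.proj_incl Y l)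
    exact Y.isExtension.incl_injective (h2.trans (map_zero _).symm)
  exact x := by
    obtain ⟨⟨x, b⟩, hx⟩ := x
    change x = 0 ↔ _
    constructor
    · rintro rfl
      rw [mem_XE] at hx
      obtain ⟨e, rfl⟩ := Ideal.Quotient.mk_surjective b
      change ev Λ (n + 1) 0 = pbar Y (n + 1) (Ideal.Quotient.mk _ e) at hx
      rw [map_zero, pbar_mk, eq_comm, Ideal.Quotient.eq_zero_iff_mem,
        ← map_maximalIdeal_pow Y (n + 1)] at hx
      obtain ⟨e', he', hee'⟩ := (Ideal.mem_map_iff_of_surjective (Y.proj : Y.E →+* R)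
        Y.isExtension.proj_surjective).1 hx
      have h0 : Y.proj (e - e') = 0 := by
        rw [map_sub, sub_eq_zero]; exact hee'.symm
      obtain ⟨l, hl⟩ := (Y.isExtension.exact _).1 h0
      refine ⟨l, Subtype.ext ?_⟩
      rw [inclX_val]
      refine Prod.ext rfl ?_
      change Ideal.Quotient.mk _ (Y.incl l) = Ideal.Quotient.mk _ e
      rw [hl, map_sub, Ideal.Quotient.eq_zero_iff_mem.2 he', sub_zero]
    · rintro ⟨l, hl⟩
      exact (congrArg (fun x : XE Y (n + 1) => (Subtype.val x).1) hl).symm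
  mul_incl x l := by
    obtain ⟨⟨x, b⟩, hx⟩ := x
    obtain ⟨e, rfl⟩ := Ideal.Quotient.mk_surjective b
    rw [mem_XE] at hx
    change ev Λ (n + 1) x = pbar Y (n + 1) (Ideal.Quotient.mk _ e) at hx
    rw [pbar_mk, ← ev_algebraMap (Λ := Λ), ← sub_eq_zero, ← map_sub, ev_apply] at hx
    have h1 := smul_eq_zero_of_evalₐ_eq_zero hx l
    rw [sub_smul, sub_eq_zero, algebraMap_smul] at h1
    apply Subtype.ext
    change ((x, Ideal.Quotient.mk _ e) :
        AdicCompletion (maximalIdeal R) R × (Y.E ⧸ maximalIdeal Y.E ^ (n + 1))) *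
        Subtype.val (inclX Y (n + 1) l) = Subtype.val (inclX Y (n + 1) (x • l))
    rw [inclX_val, inclX_val, h1]
    refine Prod.ext (by simp) ?_
    change Ideal.Quotient.mk _ e * Ideal.Quotient.mk _ (Y.incl l) = _
    rw [← map_mul, Y.isExtension.mul_incl]

/-- the extension of the completion. -/
noncomputable def extX : Exal.Ext Λ (AdicCompletion (maximalIdeal R) R) L where
  E := XE Y (n + 1)
  proj := (AlgHom.fst Λ _ _).comp (XE Y (n + 1)).val
  incl := inclX Y (n + 1)
  isExtension := isExtension_X Y n hn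

/-- the map `E → X.E`. -/
noncomputable def gX : Y.E →ₐ[Λ] (extX Y n hn).E :=
  AlgHom.codRestrict
    (AlgHom.prod ((IsScalarTower.toAlgHom Λ R (AdicCompletion (maximalIdeal R) R)).comp Y.proj)
      (Ideal.Quotient.mkₐ Λ (maximalIdeal Y.E ^ (n + 1))))
    (XE Y (n + 1)) (by
      intro e
      rw [mem_XE]
      change ev Λ (n + 1) (algebraMap R _ (Y.proj e)) = pbar Y (n + 1) (Ideal.Quotient.mk _ e)
      rw [ev_algebraMap, pbar_mk])

lemma gX_proj (e : Y.E) :
    (extX Y n hn).proj (gX Y n hn e) = algebraMap R _ (Y.proj e) := rfl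

lemma gX_incl (l : L) : gX Y n hn (Y.incl l) = (extX Y n hn).incl l := by
  apply Subtype.ext
  refine Prod.ext ?_ rfl
  change algebraMap R _ (Y.proj (Y.incl l)) = 0
  rw [Groth.Agent.Lib.Helper1.ExalSimple.proj_incl, map_zero]

/-- the map `E → (X.pullback R).E`. -/
noncomputable def fX : Y.E →ₐ[Λ] ((extX Y n hn).pullback R).E :=
  AlgHom.codRestrict (AlgHom.prod (gX Y n hn) Y.proj) ((extX Y n hn).fiberProd R)
    (fun e => gX_proj Y n hn e)

theorem surj_aux : Nonempty (((extX Y n hn).pullback R).Equiv Y) := by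
  refine ⟨(equivOfHom (fX Y n hn) (fun e => rfl) (fun l => ?_)).symm⟩
  apply Subtype.ext
  refine Prod.ext ?_ ?_
  · exact gX_incl Y n hn l
  · change Y.proj (Y.incl l) = 0
    exact Groth.Agent.Lib.Helper1.ExalSimple.proj_incl Y l

end Surj

theorem surj {Λ : Type u} [CommRing Λ]
    {R : Type u} [CommRing R] [Algebra Λ R] [IsLocalRing R] [IsNoetherianRing R]
    {L : Type u} [AddCommGroup L] [Module (AdicCompletion (maximalIdeal R) R) L] [Module R L]
    [IsScalarTower R (AdicCompletion (maximalIdeal R) R) L] [IsSimpleModule R L]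
    (Y : Exal.Ext Λ R L) :
    ∃ X : Exal.Ext Λ (AdicCompletion (maximalIdeal R) R) L, Nonempty ((X.pullback R).Equiv Y) := by
  obtain ⟨n, hn⟩ := exists_pow_inf_ker_eq_bot Y
  have hn' : ∀ e ∈ maximalIdeal Y.E ^ (n + 1), Y.proj e = 0 → e = 0 :=
    fun e he => hn e (Ideal.pow_le_pow_right (Nat.le_succ n) he)
  exact ⟨extX Y n hn', surj_aux Y n hn'⟩

/-- Let k be an algebraically closed field, Λ a complete local Noetherian k-algebra with residue field
k, R a local Noetherian Λ-algebra with local structure map and residue field k, and R̂ the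
completion of R at its maximal ideal. Let L be a simple R-module (a one-dimensional k-vector space
on which R acts through its residue field) carrying a compatible R̂-module structure. Then inverse
image of Λ-extensions along R → R̂ induces a bijection o(R̂/Λ) → o(R/Λ) on classes of Λ-extensions
by L: two Λ-extensions of R̂ by L whose inverse images over R are equivalent are equivalent, and
every Λ-extension of R by L is equivalent to the inverse image of one of R̂. -/
theorem result
    {k : Type u} [Field k] [IsAlgClosed k]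
    {Λ : Type u} [CommRing Λ] [Algebra k Λ] [IsLocalRing Λ] [IsNoetherianRing Λ]
    [IsAdicComplete (IsLocalRing.maximalIdeal Λ) Λ]
    (hΛ : ∀ a : Λ, ∃ c : k, a - algebraMap k Λ c ∈ IsLocalRing.maximalIdeal Λ)
    {R : Type u} [CommRing R] [Algebra Λ R] [IsLocalRing R] [IsNoetherianRing R]
    [IsLocalHom (algebraMap Λ R)]
    (hR : ∀ r : R, ∃ c : k, r - algebraMap Λ R (algebraMap k Λ c) ∈ IsLocalRing.maximalIdeal R)
    (L : Type u) [AddCommGroup L] [Module (AdicCompletion (IsLocalRing.maximalIdeal R) R) L] [Module R L]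
    [IsScalarTower R (AdicCompletion (IsLocalRing.maximalIdeal R) R) L] [IsSimpleModule R L] :
    (∀ X X' : Exal.Ext Λ (AdicCompletion (IsLocalRing.maximalIdeal R) R) L,
        Nonempty ((X.pullback R).Equiv (X'.pullback R)) → Nonempty (X.Equiv X')) ∧
    (∀ Y : Exal.Ext Λ R L, ∃ X : Exal.Ext Λ (AdicCompletion (IsLocalRing.maximalIdeal R) R) L,
        Nonempty ((X.pullback R).Equiv Y)) := by
  exact ⟨fun X X' h => inj L X X' h, fun Y => surj Y⟩

end Groth.Agent.S11283
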