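import Groth.Statements.S11286
import Groth.Agent.Lib.Helper1.GenSmIso

set_option autoImplicit false
universe u
open Deform

namespace Groth.Agent.S11286

/-- Let k be an algebraically closed field and A → B a map of finitely generated k-algebras with B
reduced and smooth over A at every minimal prime of B (the morphism Spec B → Spec A is smooth on a
dense open subset). Let E → B and E' → B be two A-algebra extensions with square-zero kernels I, I',
where I is a finitely generated projective B-module, and suppose their relative conormal sequences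
are isomorphic as extensions of Ω_{B/A}: there are B-linear isomorphisms I ≅ I' and B ⊗_E Ω_{E/A} ≅
B ⊗_{E'} Ω_{E'/A} commuting with the conormal maps and with the canonical maps to Ω_{B/A}. Then
there is a homomorphism of extensions E → E' (a ring map over A and over B) which is bijective and
induces the given isomorphism I ≅ I'. This is the injectivity half of the identification of Ex_A(B,
M) with Ext^1_B(Ω_{B/A}, M); affine case of the statement for algebraic schemes. -/
theorem result
    {k : Type u} [Field k] [IsAlgClosed k]
    {A B : Type u} [CommRing A] [CommRing B] [Algebra k A] [Algebra k B] [Algebra A B]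
    [IsScalarTower k A B] [Algebra.FiniteType k A] [Algebra.FiniteType k B] [IsReduced B]
    (hsm : ∀ p : PrimeSpectrum B, p.asIdeal ∈ minimalPrimes B → Algebra.IsSmoothAt A p.asIdeal)
    (P P' : Algebra.Extension.{u} A B) (hsq : P.ker ^ 2 = ⊥) (hsq' : P'.ker ^ 2 = ⊥)
    [Module.Finite B P.Cotangent] [Module.Projective B P.Cotangent]
    (e₁ : P.Cotangent ≃ₗ[B] P'.Cotangent) (e₂ : P.CotangentSpace ≃ₗ[B] P'.CotangentSpace)
    (h₁ : ∀ x, e₂ (P.cotangentComplex x) = P'.cotangentComplex (e₁ x))
    (h₂ : ∀ y, P'.toKaehler (e₂ y) = P.toKaehler y) :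
    ∃ f : P.Hom P', Function.Bijective f.toRingHom ∧
      Algebra.Extension.Cotangent.map f = e₁.toLinearMap := by
  have hinj := Groth.Agent.Lib.Helper1.GenSm.cotangentComplex_injective hsm P
  have hinj' : Function.Injective P'.cotangentComplex := by
    rw [injective_iff_map_eq_zero]
    intro y' hy'
    obtain ⟨y, rfl⟩ := e₁.surjective y'
    rw [← h₁] at hy'
    have h0 : P.cotangentComplex y = 0 := e₂.injective (hy'.trans (map_zero _).symm)
    rw [hinj (h0.trans (map_zero _).symm), map_zero]
  obtain ⟨f, hf⟩ := Groth.Agent.Lib.Helper1.GenSm.exists_hom_of_map hsq' hinj' e₂.toLinearMap h₂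
  exact ⟨f, Groth.Agent.Lib.Helper1.GenSm.bijective_of_del hsq hinj hsq' hinj' e₂ h₂ f hf,
    Groth.Agent.Lib.Helper1.GenSm.cotangent_map_eq_of_del hinj' e₁.toLinearMap e₂.toLinearMap h₁ f hf⟩

end Groth.Agent.S11286
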