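import Groth.Statements.S11287
import Groth.Agent.Lib.Helper1.ExalBaer
import Groth.Agent.Lib.Helper1.FlatSection
import Groth.Agent.Lib.Helper5.ExalQuot
import Groth.Agent.Lib.Helper5.ExalPush
import Mathlib.RingTheory.AdicCompletion.AsTensorProduct
import Mathlib.RingTheory.AdicCompletion.Completeness
import Mathlib.RingTheory.MvPowerSeries.Equiv
import Mathlib.RingTheory.SimpleModule.Basic
import Mathlib.RingTheory.Jacobson.Ideal

set_option autoImplicit false
universe u
open Deform

namespace Groth.Agent.S11287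

open Exal Exal.Ext Groth.Agent.Lib.Helper1.ExalBaer Groth.Agent.Lib.Helper1.FlatSection

section Basic

variable {Λ : Type u} [CommRing Λ] {d : ℕ} {J : Ideal (MvPowerSeries (Fin d) Λ)}
  {L : Type u} [AddCommGroup L] [Module (MvPowerSeries (Fin d) Λ ⧸ J) L]
  [Module (MvPowerSeries (Fin d) Λ) L]
  [IsScalarTower (MvPowerSeries (Fin d) Λ) (MvPowerSeries (Fin d) Λ ⧸ J) L]

lemma mk_smul (p : MvPowerSeries (Fin d) Λ) (l : L) :
    Ideal.Quotient.mk J p • l = p • l := by
  rw [← Ideal.Quotient.algebraMap_eq, algebraMap_smul]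

lemma smul_eq_zero_of_mem {j : MvPowerSeries (Fin d) Λ} (hj : j ∈ J) (l : L) : j • l = 0 := by
  rw [← mk_smul (J := J), Ideal.Quotient.eq_zero_iff_mem.2 hj]
  exact zero_smul (MvPowerSeries (Fin d) Λ ⧸ J) l

variable [IsSimpleModule (MvPowerSeries (Fin d) Λ ⧸ J) L]

include J in
lemma X_smul (i : Fin d) (l : L) : (MvPowerSeries.X i : MvPowerSeries (Fin d) Λ) • l = 0 := by
  have hjac : (MvPowerSeries.X i : MvPowerSeries (Fin d) Λ) ∈ Ideal.jacobson ⊥ := by
    rw [Ideal.mem_jacobson_bot]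
    intro y
    rw [MvPowerSeries.isUnit_iff_constantCoeff]
    simp
  have h1 : (Module.annihilator (MvPowerSeries (Fin d) Λ ⧸ J) L).IsMaximal :=
    IsSimpleModule.annihilator_isMaximal
  have h2 : ((Module.annihilator (MvPowerSeries (Fin d) Λ ⧸ J) L).comap
      (Ideal.Quotient.mk J)).IsMaximal :=
    Ideal.comap_isMaximal_of_surjective _ Ideal.Quotient.mk_surjective
  have h3 : (MvPowerSeries.X i : MvPowerSeries (Fin d) Λ) ∈
      (Module.annihilator (MvPowerSeries (Fin d) Λ ⧸ J) L).comap (Ideal.Quotient.mk J) := by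
    rw [Ideal.jacobson, Ideal.mem_sInf] at hjac
    exact hjac ⟨bot_le, h2⟩
  rw [Ideal.mem_comap, Module.mem_annihilator] at h3
  rw [← mk_smul (J := J)]
  exact h3 l

include J in
lemma smul_eq_zero_of_mem_span {p : MvPowerSeries (Fin d) Λ}
    (hp : p ∈ Ideal.span (Set.range (MvPowerSeries.X : Fin d → MvPowerSeries (Fin d) Λ)))
    (l : L) : p • l = 0 := by
  have : Ideal.span (Set.range (MvPowerSeries.X : Fin d → MvPowerSeries (Fin d) Λ)) ≤
      Module.annihilator (MvPowerSeries (Fin d) Λ) L := by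
    rw [Ideal.span_le]
    rintro _ ⟨i, rfl⟩
    exact Module.mem_annihilator.2 (fun l => X_smul (J := J) i l)
  exact Module.mem_annihilator.1 (this hp) l

end Basic

noncomputable section PartBC

variable {Λ : Type u} [CommRing Λ] {d : ℕ} {J : Ideal (MvPowerSeries (Fin d) Λ)}
  {L : Type u} [AddCommGroup L] [Module (MvPowerSeries (Fin d) Λ ⧸ J) L]
  [Module (MvPowerSeries (Fin d) Λ) L]
  [IsScalarTower (MvPowerSeries (Fin d) Λ) (MvPowerSeries (Fin d) Λ ⧸ J) L]

/-- (c) -/
theorem partC (δ : J →ₗ[MvPowerSeries (Fin d) Λ] L) :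
    ∃ (X : Exal.Ext Λ (MvPowerSeries (Fin d) Λ ⧸ J) L) (u : MvPowerSeries (Fin d) Λ →ₐ[Λ] X.E),
      (∀ p, X.proj (u p) = Ideal.Quotient.mk J p) ∧ ∀ j : J, X.incl (δ j) = u j := by
  have h : (J • ⊤ : Submodule (MvPowerSeries (Fin d) Λ) J) ≤ LinearMap.ker δ := by
    rw [Submodule.smul_le]
    intro b hb z _
    rw [LinearMap.mem_ker, map_smul, smul_eq_zero_of_mem hb]
  let w : J.Cotangent →ₗ[MvPowerSeries (Fin d) Λ] L := Submodule.liftQ _ δ h
  have hw : ∀ z : J, w (J.toCotangent z) = δ z := fun z => rfl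
  refine ⟨(Groth.Agent.Lib.Helper5.ExalPush.ext J w).restrictBase Λ,
    { toRingHom := (algebraMap (MvPowerSeries (Fin d) Λ)
        (Groth.Agent.Lib.Helper5.ExalPush.ext J w).E :
        MvPowerSeries (Fin d) Λ →+* (Groth.Agent.Lib.Helper5.ExalPush.ext J w).RestrictCarrier Λ)
      commutes' := fun c => rfl }, ?_, ?_⟩
  · intro p
    exact (Groth.Agent.Lib.Helper5.ExalPush.ext J w).proj.commutes p
  · intro j
    rw [← hw, ← Groth.Agent.Lib.Helper5.ExalPush.ext_idealToKer]
    exact Groth.Agent.Lib.Helper5.ExalQuot.incl_idealToKer (J := J) _ j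

variable (X X' : Exal.Ext Λ (MvPowerSeries (Fin d) Λ ⧸ J) L)
  (u : MvPowerSeries (Fin d) Λ →ₐ[Λ] X.E) (u' : MvPowerSeries (Fin d) Λ →ₐ[Λ] X'.E)
  (hu : ∀ p, X.proj (u p) = Ideal.Quotient.mk J p)
  (hu' : ∀ p, X'.proj (u' p) = Ideal.Quotient.mk J p)

/-- the middle ring as a `P`-algebra through `u`. -/
@[nolint unusedArguments]
def CarrierP (X : Exal.Ext Λ (MvPowerSeries (Fin d) Λ ⧸ J) L)
    (_u : MvPowerSeries (Fin d) Λ →ₐ[Λ] X.E) : Type u := X.E

instance : CommRing (CarrierP X u) := inferInstanceAs (CommRing X.E)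

instance : Algebra (MvPowerSeries (Fin d) Λ) (CarrierP X u) :=
  ((u : MvPowerSeries (Fin d) Λ →+* X.E) : MvPowerSeries (Fin d) Λ →+* CarrierP X u).toAlgebra

/-- `X` as an extension over `P`. -/
def toP : Exal.Ext (MvPowerSeries (Fin d) Λ) (MvPowerSeries (Fin d) Λ ⧸ J) L where
  E := CarrierP X u
  proj :=
    { toFun := fun x => X.proj x
      map_one' := map_one X.proj
      map_mul' := map_mul X.proj
      map_zero' := map_zero X.proj
      map_add' := map_add X.proj
      commutes' := hu }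
  incl := X.incl
  isExtension :=
    { proj_surjective := X.isExtension.proj_surjective
      incl_injective := X.isExtension.incl_injective
      exact := X.isExtension.exact
      mul_incl := X.isExtension.mul_incl }

lemma algebraMap_toP (p : MvPowerSeries (Fin d) Λ) :
    algebraMap (MvPowerSeries (Fin d) Λ) (toP X u hu).E p = u p := rfl

lemma incl_idealToKer_toP (z : J) :
    X.incl ((toP X u hu).idealToKer J z) = u z := by
  have := Groth.Agent.Lib.Helper5.ExalQuot.incl_idealToKer (J := J) (toP X u hu) z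
  rw [algebraMap_toP] at this
  exact this

include hu hu' in
/-- (b), `⇐`. -/
theorem partB_mpr (h : ∀ j ∈ J, ∃ z : L, X.incl z = u j ∧ X'.incl z = u' j) :
    Nonempty (X.Equiv X') := by
  have hk : ∀ z : J, (toP X u hu).idealToKer J z = (toP X' u' hu').idealToKer J z := by
    intro z
    obtain ⟨z₀, h1, h2⟩ := h z z.2
    have e1 : (toP X u hu).idealToKer J z = z₀ := by
      apply X.isExtension.incl_injective
      rw [h1, incl_idealToKer_toP]
    have e2 : (toP X' u' hu').idealToKer J z = z₀ := by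
      apply X'.isExtension.incl_injective
      rw [h2, incl_idealToKer_toP]
    rw [e1, e2]
  let θ := Groth.Agent.Lib.Helper5.ExalQuot.equivOfEq (J := J) (toP X u hu) (toP X' u' hu') hk
  let f : X.E →+* X'.E := (θ.toAlgEquiv : (toP X u hu).E →+* (toP X' u' hu').E)
  have hf : ∀ c : Λ, f (algebraMap Λ X.E c) = algebraMap Λ X'.E c := by
    intro c
    rw [← u.commutes, ← u'.commutes]
    exact θ.toAlgEquiv.commutes (algebraMap Λ (MvPowerSeries (Fin d) Λ) c)
  exact ⟨equivOfHom { toRingHom := f, commutes' := hf } (fun e => θ.proj_apply e)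
    (fun z => θ.apply_incl z)⟩

include hu hu' in
/-- (b), `⇒`. -/
theorem partB_mp [IsSimpleModule (MvPowerSeries (Fin d) Λ ⧸ J) L]
    (hJ : J ≤ Ideal.span (Set.range (MvPowerSeries.X : Fin d → MvPowerSeries (Fin d) Λ)) ^ 2)
    (θ : X.Equiv X') : ∀ j ∈ J, ∃ z : L, X.incl z = u j ∧ X'.incl z = u' j := by
  have key : ∀ p ∈ Ideal.span (Set.range
      (MvPowerSeries.X : Fin d → MvPowerSeries (Fin d) Λ)) ^ 2,
      θ.toAlgEquiv (u p) = u' p := by
    intro p hp
    rw [pow_two] at hp
    refine Submodule.mul_induction_on hp ?_ ?_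
    · intro p hp q hq
      have h1 : X'.proj (u' p - θ.toAlgEquiv (u p)) = 0 := by
        rw [map_sub, θ.proj_apply, hu, hu', sub_self]
      have h2 : X'.proj (u' q - θ.toAlgEquiv (u q)) = 0 := by
        rw [map_sub, θ.proj_apply, hu, hu', sub_self]
      obtain ⟨w, hw⟩ := (X'.isExtension.exact _).1 h1
      obtain ⟨w', hw'⟩ := (X'.isExtension.exact _).1 h2
      have e1 : u' p * X'.incl w' = 0 := by
        rw [X'.isExtension.mul_incl, hu', mk_smul, smul_eq_zero_of_mem_span (J := J) hp, map_zero]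
      have e2 : θ.toAlgEquiv (u q) * X'.incl w = 0 := by
        rw [X'.isExtension.mul_incl, θ.proj_apply, hu, mk_smul,
          smul_eq_zero_of_mem_span (J := J) hq, map_zero]
      rw [map_mul, map_mul, map_mul]
      have : u' p * u' q - θ.toAlgEquiv (u p) * θ.toAlgEquiv (u q) =
          u' p * (u' q - θ.toAlgEquiv (u q)) + θ.toAlgEquiv (u q) * (u' p - θ.toAlgEquiv (u p)) := by
        ring
      rw [← hw, ← hw', e1, e2, add_zero, sub_eq_zero] at this
      exact this.symm
    · intro p q hp hq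
      rw [map_add, map_add, map_add, hp, hq]
  intro j hj
  have h0 : X.proj (u j) = 0 := by rw [hu, Ideal.Quotient.eq_zero_iff_mem]; exact hj
  obtain ⟨z, hz⟩ := (X.isExtension.exact _).1 h0
  refine ⟨z, hz, ?_⟩
  rw [← θ.apply_incl, hz]
  exact key j (hJ hj)

end PartBC

noncomputable section PartA

variable {Λ : Type u} [CommRing Λ] [IsNoetherianRing Λ] {d : ℕ}
  {L : Type u} [AddCommGroup L] [Module (MvPowerSeries (Fin d) Λ) L]
  (Y : Exal.Ext Λ (MvPowerSeries (Fin d) Λ) L) (e : Fin d → Y.E)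
  (he : ∀ i, Y.proj (e i) = MvPowerSeries.X i)
  (hX : ∀ (i : Fin d) (l : L), (MvPowerSeries.X i : MvPowerSeries (Fin d) Λ) • l = 0)

/-- the middle ring as an algebra over the polynomial ring. -/
@[nolint unusedArguments]
def EQ (Y : Exal.Ext Λ (MvPowerSeries (Fin d) Λ) L) (_e : Fin d → Y.E) : Type u := Y.E

instance : CommRing (EQ Y e) := inferInstanceAs (CommRing Y.E)

instance : Algebra (MvPolynomial (Fin d) Λ) (EQ Y e) :=
  (show MvPolynomial (Fin d) Λ →+* EQ Y e from
    (MvPolynomial.aeval e : MvPolynomial (Fin d) Λ →ₐ[Λ] Y.E).toRingHom).toAlgebra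

omit [IsNoetherianRing Λ] in
lemma algebraMap_EQ (q : MvPolynomial (Fin d) Λ) :
    algebraMap (MvPolynomial (Fin d) Λ) (EQ Y e) q = MvPolynomial.aeval e q := rfl

include he in
omit [IsNoetherianRing Λ] in
lemma proj_aeval (q : MvPolynomial (Fin d) Λ) :
    Y.proj (MvPolynomial.aeval e q) =
      algebraMap (MvPolynomial (Fin d) Λ) (MvPowerSeries (Fin d) Λ) q := by
  have : Y.proj.comp (MvPolynomial.aeval e) =
      IsScalarTower.toAlgHom Λ (MvPolynomial (Fin d) Λ) (MvPowerSeries (Fin d) Λ) := by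
    apply MvPolynomial.algHom_ext
    intro i
    rw [AlgHom.comp_apply, MvPolynomial.aeval_X, he]
    change _ = algebraMap (MvPolynomial (Fin d) Λ) (MvPowerSeries (Fin d) Λ) (MvPolynomial.X i)
    rw [MvPowerSeries.algebraMap_apply']
    simp
  exact DFunLike.congr_fun this q

/-- the projection to the completion of the polynomial ring. -/
def piQ : EQ Y e →ₐ[MvPolynomial (Fin d) Λ]
    AdicCompletion (MvPolynomial.idealOfVars (Fin d) Λ) (MvPolynomial (Fin d) Λ) :=
  { toRingHom := ((MvPowerSeries.toAdicCompletionAlgEquiv (Fin d) Λ :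
        MvPowerSeries (Fin d) Λ →+* _)).comp (show EQ Y e →+* MvPowerSeries (Fin d) Λ from
          (Y.proj : Y.E →+* MvPowerSeries (Fin d) Λ))
    commutes' := fun q => by
      change MvPowerSeries.toAdicCompletionAlgEquiv (Fin d) Λ (Y.proj (MvPolynomial.aeval e q)) = _
      rw [proj_aeval Y e he, AlgEquiv.commutes] }

omit [IsNoetherianRing Λ] in
lemma piQ_apply (x : EQ Y e) :
    piQ Y e he x = MvPowerSeries.toAdicCompletionAlgEquiv (Fin d) Λ (Y.proj (show Y.E from x)) :=
  rfl

omit [IsNoetherianRing Λ] in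
lemma piQ_surjective : Function.Surjective (piQ Y e he) := by
  intro x
  obtain ⟨y, hy⟩ := Y.isExtension.proj_surjective
    ((MvPowerSeries.toAdicCompletionAlgEquiv (Fin d) Λ).symm x)
  refine ⟨y, ?_⟩
  rw [piQ_apply]
  change MvPowerSeries.toAdicCompletionAlgEquiv (Fin d) Λ (Y.proj y) = x
  rw [hy, AlgEquiv.apply_symm_apply]

include hX in
omit [IsNoetherianRing Λ] in
lemma algebraMap_smul_eq_zero {a : MvPolynomial (Fin d) Λ}
    (ha : a ∈ MvPolynomial.idealOfVars (Fin d) Λ) (l : L) :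
    algebraMap (MvPolynomial (Fin d) Λ) (MvPowerSeries (Fin d) Λ) a • l = 0 := by
  have : MvPolynomial.idealOfVars (Fin d) Λ ≤
      (Module.annihilator (MvPowerSeries (Fin d) Λ) L).comap
        (algebraMap (MvPolynomial (Fin d) Λ) (MvPowerSeries (Fin d) Λ)) := by
    rw [Ideal.span_le]
    rintro _ ⟨i, rfl⟩
    rw [SetLike.mem_coe, Ideal.mem_comap, MvPowerSeries.algebraMap_apply', Module.mem_annihilator]
    intro l
    have : (MvPowerSeries.map (algebraMap Λ Λ)) ((MvPolynomial.X i : MvPolynomial (Fin d) Λ) :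
        MvPowerSeries (Fin d) Λ) = MvPowerSeries.X i := by simp
    rw [this, hX]
  exact Module.mem_annihilator.1 (this ha) l

include hX in
omit [IsNoetherianRing Λ] in
lemma hK_piQ : ∀ a ∈ MvPolynomial.idealOfVars (Fin d) Λ, ∀ x : EQ Y e,
    piQ Y e he x = 0 → a • x = 0 := by
  intro a ha x hx
  rw [piQ_apply] at hx
  have h0 : Y.proj (show Y.E from x) = 0 :=
    (MvPowerSeries.toAdicCompletionAlgEquiv (Fin d) Λ).injective (hx.trans (map_zero _).symm)
  obtain ⟨l, hl⟩ := (Y.isExtension.exact _).1 h0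
  rw [Algebra.smul_def, algebraMap_EQ]
  change MvPolynomial.aeval e a * (show Y.E from x) = 0
  rw [← hl, Y.isExtension.mul_incl, proj_aeval Y e he, algebraMap_smul_eq_zero hX ha, map_zero]

include he hX in
/-- every `Λ`-extension of the power series ring by a module killed by the variables is trivial. -/
theorem isTrivial_of_X_smul : Y.IsTrivial := by
  obtain ⟨s', hs'⟩ := exists_section (MvPolynomial.idealOfVars (Fin d) Λ) (piQ Y e he)
    (piQ_surjective Y e he) (hK_piQ Y e he hX)
    (AdicCompletion.evalOneₐ (MvPolynomial.idealOfVars (Fin d) Λ)) (by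
      intro p hp
      rw [← AdicCompletion.ker_evalOneₐ_eq_map _ (MvPolynomial.idealOfVars_fg (Fin d) Λ)]
      exact hp)
  let s : MvPowerSeries (Fin d) Λ →+* Y.E :=
    (show AdicCompletion (MvPolynomial.idealOfVars (Fin d) Λ) (MvPolynomial (Fin d) Λ) →+* Y.E
      from s'.toRingHom).comp
      (MvPowerSeries.toAdicCompletionAlgEquiv (Fin d) Λ).toAlgHom.toRingHom
  have hs : ∀ p, Y.proj (s p) = p := by
    intro p
    have := hs' (MvPowerSeries.toAdicCompletionAlgEquiv (Fin d) Λ p)
    rw [piQ_apply] at this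
    exact (MvPowerSeries.toAdicCompletionAlgEquiv (Fin d) Λ).injective this
  have hc : ∀ c : Λ, s (algebraMap Λ (MvPowerSeries (Fin d) Λ) c) = algebraMap Λ Y.E c := by
    intro c
    have h1 : algebraMap Λ (MvPowerSeries (Fin d) Λ) c =
        algebraMap (MvPolynomial (Fin d) Λ) (MvPowerSeries (Fin d) Λ) (MvPolynomial.C c) := by
      rw [MvPowerSeries.algebraMap_apply', MvPowerSeries.algebraMap_apply]
      simp
    change s' (MvPowerSeries.toAdicCompletionAlgEquiv (Fin d) Λ _) = _
    rw [h1, AlgEquiv.commutes, s'.commutes, algebraMap_EQ, MvPolynomial.aeval_C]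
  exact ⟨{ toRingHom := s, commutes' := hc }, hs⟩

end PartA

theorem partA {Λ : Type u} [CommRing Λ] [IsNoetherianRing Λ] {d : ℕ}
    {J : Ideal (MvPowerSeries (Fin d) Λ)}
    {L : Type u} [AddCommGroup L] [Module (MvPowerSeries (Fin d) Λ ⧸ J) L]
    [Module (MvPowerSeries (Fin d) Λ) L]
    [IsScalarTower (MvPowerSeries (Fin d) Λ) (MvPowerSeries (Fin d) Λ ⧸ J) L]
    [IsSimpleModule (MvPowerSeries (Fin d) Λ ⧸ J) L]
    (X : Exal.Ext Λ (MvPowerSeries (Fin d) Λ ⧸ J) L) :
    ∃ u : MvPowerSeries (Fin d) Λ →ₐ[Λ] X.E, ∀ p, X.proj (u p) = Ideal.Quotient.mk J p := by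
  choose e he using fun i : Fin d =>
    (X.pullback (MvPowerSeries (Fin d) Λ)).isExtension.proj_surjective (MvPowerSeries.X i)
  obtain ⟨s, hs⟩ := isTrivial_of_X_smul (X.pullback (MvPowerSeries (Fin d) Λ)) e he
    (fun i l => X_smul (J := J) i l)
  refine ⟨(AlgHom.fst Λ X.E (MvPowerSeries (Fin d) Λ)).comp ((valP X).comp s), ?_⟩
  intro p
  change X.proj (valP X (s p)).1 = _
  rw [valP_mem, valP_snd, hs]
  rfl

/-- Let k be an algebraically closed field, Λ a complete local Noetherian k-algebra with residue field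
k, P = Λ[[X_1, …, X_d]] the power series ring, J an ideal of P contained in (X_1, …, X_d)^2, R =
P/J, and L a simple R-module (a copy of the residue field k). Then: (a) for every Λ-extension 0 → L
→ E → R → 0 the quotient map P → R lifts to a Λ-algebra map u : P → E; (b) for two such extensions
E, E' with lifts u, u', the extensions are equivalent if and only if u and u' send every element of
J to the images of the same element of L (the restrictions J → L of the lifts agree); (c) every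
P-linear map J → L is the restriction of a lift for some extension. Thus the classes of Λ-extensions
of R by L correspond bijectively to Hom_P(J, L), the dual of J/m_P J; this is the identification of
the obstruction space o(R/Λ) for a complete R (the general case reduces to it by passing to the
completion). -/
theorem result
    {k : Type u} [Field k] [IsAlgClosed k]
    {Λ : Type u} [CommRing Λ] [Algebra k Λ] [IsLocalRing Λ] [IsNoetherianRing Λ]
    [IsAdicComplete (IsLocalRing.maximalIdeal Λ) Λ]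
    (hΛ : ∀ a : Λ, ∃ c : k, a - algebraMap k Λ c ∈ IsLocalRing.maximalIdeal Λ)
    (d : ℕ) (J : Ideal (MvPowerSeries (Fin d) Λ))
    (hJ : J ≤ Ideal.span (Set.range (MvPowerSeries.X : Fin d → MvPowerSeries (Fin d) Λ)) ^ 2)
    (L : Type u) [AddCommGroup L] [Module (MvPowerSeries (Fin d) Λ ⧸ J) L] [Module (MvPowerSeries (Fin d) Λ) L]
    [IsScalarTower (MvPowerSeries (Fin d) Λ) (MvPowerSeries (Fin d) Λ ⧸ J) L] [IsSimpleModule (MvPowerSeries (Fin d) Λ ⧸ J) L] :
    (∀ X : Exal.Ext Λ (MvPowerSeries (Fin d) Λ ⧸ J) L,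
        ∃ u : MvPowerSeries (Fin d) Λ →ₐ[Λ] X.E, ∀ p, X.proj (u p) = Ideal.Quotient.mk J p) ∧
    (∀ (X X' : Exal.Ext Λ (MvPowerSeries (Fin d) Λ ⧸ J) L) (u : MvPowerSeries (Fin d) Λ →ₐ[Λ] X.E) (u' : MvPowerSeries (Fin d) Λ →ₐ[Λ] X'.E),
        (∀ p, X.proj (u p) = Ideal.Quotient.mk J p) → (∀ p, X'.proj (u' p) = Ideal.Quotient.mk J p) →
        (Nonempty (X.Equiv X') ↔ ∀ j ∈ J, ∃ z : L, X.incl z = u j ∧ X'.incl z = u' j)) ∧
    (∀ δ : J →ₗ[MvPowerSeries (Fin d) Λ] L, ∃ (X : Exal.Ext Λ (MvPowerSeries (Fin d) Λ ⧸ J) L) (u : MvPowerSeries (Fin d) Λ →ₐ[Λ] X.E),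
        (∀ p, X.proj (u p) = Ideal.Quotient.mk J p) ∧ ∀ j : J, X.incl (δ j) = u j) := by
  refine ⟨fun X => partA X, ?_, fun δ => partC δ⟩
  intro X X' u u' hu hu'
  constructor
  · rintro ⟨θ⟩
    exact partB_mp X X' u u' hu hu' hJ θ
  · intro h
    exact partB_mpr X X' u u' hu hu' h

end Groth.Agent.S11287
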