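import Groth.Statements.S11288
import Groth.Agent.Lib.Helper1.CotDual
import Mathlib.LinearAlgebra.Dual.Lemmas

set_option autoImplicit false
universe u
open Deform

namespace Groth.Agent.S11288

open IsLocalRing Groth.Agent.Lib.Helper1.CotDual

section

variable {K : Type u} [Field K]
    {R' : Type u} [CommRing R'] [Algebra K R'] [IsLocalRing R']
    (hres : ∀ a : R', ∃ c : K, a - algebraMap K R' c ∈ IsLocalRing.maximalIdeal R')

include hres in
lemma hres' : Function.Surjective (algebraMap K (ResidueField R')) := by
  intro z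
  obtain ⟨a, rfl⟩ := residue_surjective z
  obtain ⟨c, hc⟩ := hres a
  refine ⟨c, ?_⟩
  rw [← residue_eq_zero_iff, map_sub, sub_eq_zero] at hc
  rw [hc, IsScalarTower.algebraMap_apply K R' (ResidueField R')]
  rfl

variable (t : R') (ht : t ∈ IsLocalRing.maximalIdeal R')
    (htm : ∀ a ∈ IsLocalRing.maximalIdeal R', a * t = 0)

include htm in
lemma mul_t (x : R') : x * t = cHom (hres' hres) x • t := by
  have := htm _ (sub_mem (hres' hres) x)
  rw [sub_mul, sub_eq_zero] at this
  rw [this, Algebra.smul_def]

/-- the retraction `x ↦ x - D(x) t`. -/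
noncomputable def sHom (ℓ : Module.Dual K (CotangentSpace R')) : R' →ₐ[K] R' where
  toFun x := x - dMap (hres' hres) ℓ x • t
  map_one' := by
    have : dMap (hres' hres) ℓ (1 : R') = 0 := by
      rw [← map_one (algebraMap K R'), dMap_algebraMap]
    rw [this, zero_smul, sub_zero]
  map_mul' x y := by
    have htt : t * t = 0 := htm t ht
    have hx := mul_t hres t htm x
    have hy := mul_t hres t htm y
    rw [dMap_mul]
    have e1 : (x - dMap (hres' hres) ℓ x • t) * (y - dMap (hres' hres) ℓ y • t) =
        x * y - dMap (hres' hres) ℓ y • (x * t) - dMap (hres' hres) ℓ x • (y * t) +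
          (dMap (hres' hres) ℓ x * dMap (hres' hres) ℓ y) • (t * t) := by
      simp only [Algebra.smul_def, map_mul]; ring
    rw [e1, htt, smul_zero, add_zero, hx, hy, add_smul, smul_smul, smul_smul,
      mul_comm (dMap (hres' hres) ℓ y), mul_comm (dMap (hres' hres) ℓ x)]
    abel
  map_zero' := by rw [map_zero, zero_smul, sub_zero]
  map_add' x y := by rw [map_add, add_smul]; abel
  commutes' c := by
    change algebraMap K R' c - dMap (hres' hres) ℓ (algebraMap K R' c) • t = _
    rw [dMap_algebraMap, zero_smul, sub_zero]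

lemma sHom_apply (ℓ : Module.Dual K (CotangentSpace R')) (x : R') :
    sHom hres t ht htm ℓ x = x - dMap (hres' hres) ℓ x • t := rfl

end

/-- Let K be a field, R' a local Artinian K-algebra with residue field K, and t a nonzero element of the
maximal ideal m' of R' with m' t = 0, so that R' → R = R'/(t) is a small extension of R. Then the
extension is trivial, i.e. the projection admits a section which is a K-algebra map, if and only if
t is not in m'^2; equivalently, iff the surjection m'/m'^2 → m_R/m_R^2 induced on cotangent spaces,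
whose kernel is spanned by the class of t, is not bijective. For instance K[t]/(t^(n+1)) →
K[t]/(t^n) is a non-trivial small extension for n ≥ 2. (The published example allows any local
K-algebra with residue field K; the row takes R' Artinian, the case in which the subalgebra
generated by lifts of a basis of the cotangent space maps onto R.) -/
theorem result
    {K : Type u} [Field K]
    {R' : Type u} [CommRing R'] [Algebra K R'] [IsLocalRing R'] [IsArtinianRing R']
    (hres : ∀ a : R', ∃ c : K, a - algebraMap K R' c ∈ IsLocalRing.maximalIdeal R')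
    (t : R') (ht : t ∈ IsLocalRing.maximalIdeal R') (ht0 : t ≠ 0)
    (htm : ∀ a ∈ IsLocalRing.maximalIdeal R', a * t = 0) :
    (∃ s : (R' ⧸ Ideal.span {t}) →ₐ[K] R', ∀ x, Ideal.Quotient.mk (Ideal.span {t}) (s x) = x) ↔
      t ∉ IsLocalRing.maximalIdeal R' ^ 2 := by
  constructor
  · rintro ⟨s, hs⟩ ht2
    -- every element of m'^2 is fixed by s ∘ mk
    have key : ∀ z ∈ maximalIdeal R' ^ 2, s (Ideal.Quotient.mk (Ideal.span {t}) z) = z := by
      intro z hz
      rw [pow_two] at hz
      refine Submodule.mul_induction_on hz ?_ ?_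
      · intro x hx y hy
        have hdiff : ∀ w : R', ∃ a : R', w = s (Ideal.Quotient.mk (Ideal.span {t}) w) + a * t := by
          intro w
          have : Ideal.Quotient.mk (Ideal.span {t}) (w - s (Ideal.Quotient.mk (Ideal.span {t}) w))
              = 0 := by rw [map_sub, hs, sub_self]
          rw [Ideal.Quotient.eq_zero_iff_mem, Ideal.mem_span_singleton'] at this
          obtain ⟨a, ha⟩ := this
          exact ⟨a, by rw [ha]; ring⟩
        obtain ⟨a, ha⟩ := hdiff x
        obtain ⟨b, hb⟩ := hdiff y
        set sx := s (Ideal.Quotient.mk (Ideal.span {t}) x) with hsx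
        set sy := s (Ideal.Quotient.mk (Ideal.span {t}) y) with hsy
        have hsxm : sx ∈ maximalIdeal R' := by
          have : sx = x - a * t := by rw [ha]; ring
          rw [this]
          exact Ideal.sub_mem _ hx (Ideal.mul_mem_left _ _ ht)
        have hsym : sy ∈ maximalIdeal R' := by
          have : sy = y - b * t := by rw [hb]; ring
          rw [this]
          exact Ideal.sub_mem _ hy (Ideal.mul_mem_left _ _ ht)
        have h1 : sx * t = 0 := htm _ hsxm
        have h2 : sy * t = 0 := htm _ hsym
        have h3 : t * t = 0 := htm _ ht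
        rw [map_mul, map_mul, ← hsx, ← hsy]
        conv_rhs => rw [ha, hb]
        have : (sx + a * t) * (sy + b * t) = sx * sy + b * (sx * t) + a * (sy * t) +
            a * b * (t * t) := by ring
        rw [this, h1, h2, h3]; ring
      · intro x y hx hy
        rw [map_add, map_add, hx, hy]
    have := key t ht2
    rw [Ideal.Quotient.eq_zero_iff_mem.2 (Ideal.mem_span_singleton_self t), map_zero] at this
    exact ht0 this.symm
  · intro ht2
    have hne : (maximalIdeal R').toCotangent ⟨t, ht⟩ ≠ 0 := by
      rw [Ne, Ideal.toCotangent_eq_zero]; exact ht2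
    obtain ⟨ℓ₀, hℓ₀⟩ : ∃ ℓ₀ : Module.Dual K (CotangentSpace R'),
        ℓ₀ ((maximalIdeal R').toCotangent ⟨t, ht⟩) ≠ 0 := by
      by_contra h
      push Not at h
      exact hne ((Module.forall_dual_apply_eq_zero_iff K _).1 h)
    set ℓ : Module.Dual K (CotangentSpace R') :=
      (ℓ₀ ((maximalIdeal R').toCotangent ⟨t, ht⟩))⁻¹ • ℓ₀ with hℓ
    have hℓt : ℓ ((maximalIdeal R').toCotangent ⟨t, ht⟩) = 1 := by
      rw [hℓ, LinearMap.smul_apply, smul_eq_mul, inv_mul_cancel₀ hℓ₀]
    have hDt : dMap (hres' hres) ℓ t = 1 := by rw [dMap_of_mem _ _ ht, hℓt]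
    have hst : ∀ a ∈ Ideal.span {t}, sHom hres t ht htm ℓ a = 0 := by
      intro a ha
      rw [Ideal.mem_span_singleton'] at ha
      obtain ⟨b, rfl⟩ := ha
      rw [map_mul, sHom_apply hres t ht htm ℓ t, hDt, one_smul, sub_self, mul_zero]
    refine ⟨Ideal.Quotient.liftₐ (Ideal.span {t}) (sHom hres t ht htm ℓ) hst, ?_⟩
    intro x
    obtain ⟨x, rfl⟩ := Ideal.Quotient.mk_surjective x
    change Ideal.Quotient.mk (Ideal.span {t}) (sHom hres t ht htm ℓ x) = _
    rw [sHom_apply, map_sub, Algebra.smul_def, map_mul,
      Ideal.Quotient.eq_zero_iff_mem.2 (Ideal.mem_span_singleton_self t), mul_zero, sub_zero]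

end Groth.Agent.S11288
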