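import Groth.Statements.S11291
import Mathlib

set_option autoImplicit false
universe u
open Deform

namespace Groth.Agent.S11291

open IsLocalRing

section Abstract

variable {k : Type u} [Field k] {A : Type u} [CommRing A] [Algebra k A] [IsLocalRing A]

/-- The residue-field identification `k ≃ A/m`. -/
noncomputable def resEquiv
    (hres : ∀ a : A, ∃ c : k, a - algebraMap k A c ∈ maximalIdeal A) : k ≃+* ResidueField A :=
  RingEquiv.ofBijective (algebraMap k (ResidueField A))
    ⟨(algebraMap k (ResidueField A)).injective, by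
      intro z
      obtain ⟨a, rfl⟩ := residue_surjective z
      obtain ⟨c, hc⟩ := hres a
      refine ⟨c, ?_⟩
      rw [IsScalarTower.algebraMap_apply k A (ResidueField A)]
      symm
      rw [← sub_eq_zero]
      change residue A a - residue A (algebraMap k A c) = 0
      rw [← map_sub, residue_eq_zero_iff]
      exact hc⟩

lemma resEquiv_apply (hres : ∀ a : A, ∃ c : k, a - algebraMap k A c ∈ maximalIdeal A) (c : k) :
    resEquiv hres c = residue A (algebraMap k A c) := by
  change algebraMap k (ResidueField A) c = _
  rw [IsScalarTower.algebraMap_apply k A (ResidueField A)]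
  rfl

/-- abstract construction of a non-split extension -/
theorem exists_nontrivial {P : Type u} [CommRing P] [Algebra k P] (φ : P →ₐ[k] A)
    (hφ : Function.Surjective φ)
    (hres : ∀ a : A, ∃ c : k, a - algebraMap k A c ∈ maximalIdeal A)
    (j₀ : P) (hj₀ : φ j₀ = 0) (hj₀2 : j₀ ∈ (Ideal.comap φ (maximalIdeal A)) ^ 2)
    (hj₀n : j₀ ∉ Ideal.comap φ (maximalIdeal A) * RingHom.ker φ) :
    ∃ X : Exal.Ext k A (ResidueField A), ¬ X.IsTrivial := by
  classical
  set n : Ideal P := Ideal.comap φ (maximalIdeal A) with hn
  set J : Ideal P := RingHom.ker φ with hJ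
  -- the functional
  obtain ⟨f, hf0, hfmap⟩ := Submodule.exists_dual_map_eq_bot_of_notMem
    (R := k) (M := P) (p := (n * J).restrictScalars k) (x := j₀) hj₀n inferInstance
  have hfnJ : ∀ w ∈ n * J, f w = 0 := by
    intro w hw
    have : f w ∈ ((n * J).restrictScalars k).map f := ⟨w, hw, rfl⟩
    rw [hfmap] at this
    exact this
  -- every element of `P` is a scalar mod `n`
  have hscal : ∀ c : P, ∃ c₀ : k, c - algebraMap k P c₀ ∈ n := by
    intro c
    obtain ⟨c₀, hc₀⟩ := hres (φ c)
    refine ⟨c₀, ?_⟩
    rw [hn, Ideal.mem_comap, map_sub, AlgHom.commutes]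
    exact hc₀
  -- the ideal K
  let K : Ideal P :=
    { carrier := {p | p ∈ J ∧ f p = 0}
      add_mem' := fun {a b} ha hb => ⟨J.add_mem ha.1 hb.1, by rw [map_add, ha.2, hb.2, add_zero]⟩
      zero_mem' := ⟨J.zero_mem, map_zero f⟩
      smul_mem' := fun c p hp => by
        refine ⟨J.mul_mem_left c hp.1, ?_⟩
        obtain ⟨c₀, hc₀⟩ := hscal c
        have : c • p = (c - algebraMap k P c₀) * p + c₀ • p := by
          rw [Algebra.smul_def c₀, smul_eq_mul]; ring
        rw [this, map_add, hfnJ _ (Ideal.mul_mem_mul hc₀ hp.1), map_smul, hp.2, smul_zero,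
          add_zero] }
  have hKmem : ∀ p, p ∈ K ↔ p ∈ J ∧ f p = 0 := fun p => Iff.rfl
  have hKJ : ∀ p ∈ K, φ p = 0 := fun p hp => hp.1
  have hnJK : n * J ≤ K := by
    intro w hw
    exact ⟨Ideal.mul_le_right hw, hfnJ w hw⟩
  let e := resEquiv (k := k) (A := A) hres
  let incl : ResidueField A →+ P ⧸ K :=
    (Ideal.Quotient.mk K).toAddMonoidHom.comp ((AddMonoidHom.mulRight j₀).comp
      ((algebraMap k P).toAddMonoidHom.comp e.symm.toAddMonoidHom))
  have hincl : ∀ z, incl z = Ideal.Quotient.mk K (algebraMap k P (e.symm z) * j₀) := fun z => rfl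
  let proj : (P ⧸ K) →ₐ[k] A := Ideal.Quotient.liftₐ K φ hKJ
  have hproj : ∀ p, proj (Ideal.Quotient.mk K p) = φ p := fun p => rfl
  -- residue of φ p
  have hmul : ∀ (p : P) (z : ResidueField A),
      Ideal.Quotient.mk K p * incl z = incl (φ p • z) := by
    intro p z
    obtain ⟨c₀, hc₀⟩ := hscal p
    have hres' : residue A (φ p) = e c₀ := by
      rw [resEquiv_apply]
      rw [← sub_eq_zero, ← map_sub, residue_eq_zero_iff]
      have := hc₀
      rw [hn, Ideal.mem_comap, map_sub, AlgHom.commutes] at this
      exact this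
    have hsm : φ p • z = e c₀ * z := by
      rw [Algebra.smul_def, ← hres']
      rfl
    rw [hincl, hincl, hsm, map_mul e.symm, RingEquiv.symm_apply_apply, ← map_mul, Ideal.Quotient.eq]
    apply hnJK
    have : p * (algebraMap k P (e.symm z) * j₀) - (algebraMap k P) (c₀ * e.symm z) * j₀ =
        (p - algebraMap k P c₀) * (algebraMap k P (e.symm z) * j₀) := by
      rw [map_mul]; ring
    rw [this]
    exact Ideal.mul_mem_mul hc₀ (J.mul_mem_left _ hj₀)
  have hincl_proj : ∀ z, proj (incl z) = 0 := by
    intro z
    rw [hincl, hproj, map_mul, hj₀, mul_zero]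
  let X : Exal.Ext k A (ResidueField A) :=
    { E := P ⧸ K
      proj := proj
      incl := incl
      isExtension :=
        { proj_surjective := by
            intro a
            obtain ⟨p, rfl⟩ := hφ a
            exact ⟨Ideal.Quotient.mk K p, rfl⟩
          incl_injective := by
            rw [injective_iff_map_eq_zero]
            intro z hz
            rw [hincl, Ideal.Quotient.eq_zero_iff_mem] at hz
            have h2 := hz.2
            rw [← Algebra.smul_def, map_smul, smul_eq_mul] at h2
            rcases mul_eq_zero.mp h2 with h | h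
            · exact (EmbeddingLike.map_eq_zero_iff (f := e.symm)).mp h
            · exact absurd h hf0
          exact := by
            intro x
            obtain ⟨p, rfl⟩ := Ideal.Quotient.mk_surjective x
            constructor
            · intro hp
              have hpJ : p ∈ J := hp
              refine ⟨e (f p / f j₀), ?_⟩
              rw [hincl, RingEquiv.symm_apply_apply, eq_comm, Ideal.Quotient.eq]
              refine ⟨J.sub_mem hpJ (J.mul_mem_left _ hj₀), ?_⟩
              rw [map_sub, ← Algebra.smul_def, map_smul, smul_eq_mul, div_mul_cancel₀ _ hf0,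
                sub_self]
            · rintro ⟨z, hz⟩
              rw [← hz]
              exact hincl_proj z
          mul_incl := by
            intro x z
            obtain ⟨p, rfl⟩ := Ideal.Quotient.mk_surjective x
            exact hmul p z } }
  refine ⟨X, ?_⟩
  rintro ⟨s, hs⟩
  -- D u = mk u - s (φ u) lies in the image of incl
  have hD : ∀ u : P, ∃ z, incl z = Ideal.Quotient.mk K u - s (φ u) := by
    intro u
    have : proj (Ideal.Quotient.mk K u - s (φ u)) = 0 := by
      rw [map_sub, hproj]
      have := hs (φ u)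
      change proj (s (φ u)) = φ u at this
      rw [this, sub_self]
    exact (X.isExtension.exact _).1 this
  have hkill : ∀ (y : P ⧸ K) (z : ResidueField A), proj y ∈ maximalIdeal A → y * incl z = 0 := by
    intro y z hy
    have h1 : y * incl z = incl (proj y • z) := X.isExtension.mul_incl y z
    rw [h1]
    have : proj y • z = 0 := by
      rw [Algebra.smul_def]
      have : algebraMap A (ResidueField A) (proj y) = 0 := (residue_eq_zero_iff _).mpr hy
      rw [this, zero_mul]
    rw [this, map_zero]
  have hprod : ∀ u ∈ n, ∀ v ∈ n, Ideal.Quotient.mk K (u * v) = s (φ (u * v)) := by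
    intro u hu v hv
    obtain ⟨zu, hzu⟩ := hD u
    obtain ⟨zv, hzv⟩ := hD v
    have e1 : Ideal.Quotient.mk K u * incl zv = 0 := hkill _ zv (by rw [hproj]; exact hu)
    have e2 : s (φ v) * incl zu = 0 := hkill _ zu (by
      have := hs (φ v)
      change proj (s (φ v)) = φ v at this
      rw [this]; exact hv)
    rw [map_mul, map_mul, map_mul]
    rw [hzv] at e1
    rw [hzu] at e2
    linear_combination e1 + e2
  have hsq : ∀ w ∈ n ^ 2, Ideal.Quotient.mk K w = s (φ w) := by
    intro w hw
    rw [pow_two] at hw
    refine Submodule.mul_induction_on hw (fun u hu v hv => hprod u hu v hv) ?_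
    intro a b ha hb
    rw [map_add, map_add, map_add, ha, hb]
  have := hsq j₀ hj₀2
  rw [hj₀, map_zero, Ideal.Quotient.eq_zero_iff_mem] at this
  exact hf0 this.2

end Abstract

section Concrete

open MvPolynomial

variable {k : Type u} [Field k] {A : Type u} [CommRing A] [Algebra k A] [IsLocalRing A]

/-- a polynomial minus its constant and linear parts lies in `(X)^2` -/
lemma sub_lin_mem {d : ℕ} (p : MvPolynomial (Fin d) k) :
    p - C (coeff 0 p) - ∑ i, C (coeff (Finsupp.single i 1) p) * X i ∈
      idealOfVars (Fin d) k ^ 2 := by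
  classical
  rw [mem_pow_idealOfVars_iff']
  intro x hx
  have hx' : x.degree = 0 ∨ x.degree = 1 := by omega
  rcases hx' with h0 | h1
  · rw [Finsupp.degree_eq_zero_iff] at h0
    subst h0
    rw [coeff_sub, coeff_sub, coeff_zero_C, sub_self, zero_sub, neg_eq_zero, coeff_sum]
    apply Finset.sum_eq_zero
    intro i _
    rw [coeff_C_mul, coeff_zero_X, mul_zero]
  · have : x ∈ {d' : Fin d →₀ ℕ | d'.degree = 1} := h1
    rw [← Finsupp.range_single_one] at this
    obtain ⟨j, rfl⟩ := this
    rw [coeff_sub, coeff_sub, coeff_sum]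
    have h1' : coeff (Finsupp.single j 1) (C (coeff 0 p) : MvPolynomial (Fin d) k) = 0 := by
      rw [coeff_C, if_neg]
      intro h
      have := congrArg (fun g => g j) h
      simp at this
    rw [h1', sub_zero]
    have h2 : ∀ i ∈ Finset.univ, coeff (Finsupp.single j 1)
        (C (coeff (Finsupp.single i 1) p) * X i : MvPolynomial (Fin d) k) =
        if i = j then coeff (Finsupp.single j 1) p else 0 := by
      intro i _
      rw [coeff_C_mul, coeff_X']
      by_cases hij : i = j
      · subst hij; simp
      · rw [if_neg hij, if_neg, mul_zero]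
        intro h
        exact hij ((Finsupp.single_left_inj one_ne_zero).mp h)
    rw [Finset.sum_congr rfl h2, Finset.sum_ite_eq' Finset.univ j]
    simp

end Concrete

/-- Let k be an algebraically closed field and A a local Artinian k-algebra with residue field k and
non-zero maximal ideal, i.e. A is not k. Then the obstruction space o(A) = Ex_k(A, k) is not zero:
there is a k-extension 0 → k → E → A → 0 of A by its residue field which is not trivial (admits no
k-algebra section). Equivalently, k is the only formally smooth object among local Artinian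
k-algebras with residue field k. -/
theorem result
    {k : Type u} [Field k] [IsAlgClosed k]
    {A : Type u} [CommRing A] [Algebra k A] [IsLocalRing A] [IsArtinianRing A]
    (hres : ∀ a : A, ∃ c : k, a - algebraMap k A c ∈ IsLocalRing.maximalIdeal A)
    (hA : IsLocalRing.maximalIdeal A ≠ ⊥) :
    ∃ X : Exal.Ext k A (IsLocalRing.ResidueField A), ¬ X.IsTrivial := by
  classical
  haveI : IsNoetherianRing A := inferInstance
  set m := maximalIdeal A with hm
  -- basis of the cotangent space and lifts
  let b := Module.finBasis (ResidueField A) (CotangentSpace A)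
  set d := Module.finrank (ResidueField A) (CotangentSpace A) with hd
  choose x hx using fun i : Fin d => Ideal.toCotangent_surjective m (b i)
  let x' : Fin d → A := fun i => (x i : A)
  have hx'm : ∀ i, x' i ∈ m := fun i => (x i).2
  -- span of x' is m
  have hspan : Ideal.span (Set.range x') = m := by
    have h1 : Submodule.span (ResidueField A) (m.toCotangent '' Set.range x) = ⊤ := by
      rw [← Set.range_comp]
      have : (m.toCotangent ∘ x) = b := funext hx
      rw [this]
      exact b.span_eq
    rw [CotangentSpace.span_image_eq_top_iff] at h1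
    have h2 := congrArg (Submodule.map m.subtype) h1
    rw [Submodule.map_span, Submodule.map_top, Submodule.range_subtype, ← Set.range_comp] at h2
    exact h2
  let φ : MvPolynomial (Fin d) k →ₐ[k] A := MvPolynomial.aeval x'
  have hφX : ∀ i, φ (MvPolynomial.X i) = x' i := fun i => MvPolynomial.aeval_X _ _
  set n : Ideal (MvPolynomial (Fin d) k) := Ideal.comap φ m with hn
  have hn0 : MvPolynomial.idealOfVars (Fin d) k ≤ n := by
    rw [MvPolynomial.idealOfVars, Ideal.span_le]
    rintro _ ⟨i, rfl⟩
    show φ (MvPolynomial.X i) ∈ m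
    rw [hφX]; exact hx'm i
  -- approximation of elements of m
  have hS' : ∀ v ∈ m, ∃ q, φ q ∈ m ∧ v - φ q ∈ m ^ 2 := by
    intro v hv
    rw [← hspan] at hv
    induction hv using Submodule.span_induction with
    | mem v hv =>
      obtain ⟨i, rfl⟩ := hv
      exact ⟨MvPolynomial.X i, by rw [hφX]; exact hx'm i, by rw [hφX, sub_self]; exact zero_mem _⟩
    | zero => exact ⟨0, by rw [map_zero]; exact zero_mem _, by rw [map_zero, sub_self]; exact zero_mem _⟩
    | add v w _ _ ihv ihw =>
      obtain ⟨q, hq1, hq2⟩ := ihv
      obtain ⟨q', hq1', hq2'⟩ := ihw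
      refine ⟨q + q', by rw [map_add]; exact m.add_mem hq1 hq1', ?_⟩
      have : v + w - φ (q + q') = (v - φ q) + (w - φ q') := by rw [map_add]; ring
      rw [this]; exact Ideal.add_mem _ hq2 hq2'
    | smul a v hv ihv =>
      obtain ⟨q, hq1, hq2⟩ := ihv
      obtain ⟨c, hc⟩ := hres a
      have hvm : v ∈ m := by rw [← hspan]; exact hv
      refine ⟨MvPolynomial.C c * q, by rw [map_mul]; exact m.mul_mem_left _ hq1, ?_⟩
      have : a • v - φ (MvPolynomial.C c * q) = (a - algebraMap k A c) * v + algebraMap k A c * (v - φ q) := by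
        rw [map_mul, smul_eq_mul]
        have : φ (MvPolynomial.C c) = algebraMap k A c := by
          rw [← MvPolynomial.algebraMap_eq, AlgHom.commutes]
        rw [this]; ring
      rw [this]
      refine Ideal.add_mem _ ?_ (Ideal.mul_mem_left _ _ hq2)
      rw [pow_two]; exact Ideal.mul_mem_mul hc hvm
  have hS : ∀ j : ℕ, ∀ y ∈ m ^ j, ∃ q, φ q ∈ m ^ j ∧ y - φ q ∈ m ^ (j + 1) := by
    intro j
    induction j with
    | zero =>
      intro y _
      obtain ⟨c, hc⟩ := hres y
      refine ⟨MvPolynomial.C c, by simp, ?_⟩
      have : φ (MvPolynomial.C c) = algebraMap k A c := by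
        rw [← MvPolynomial.algebraMap_eq, AlgHom.commutes]
      rw [this, zero_add, pow_one]; exact hc
    | succ j ih =>
      intro y hy
      rw [pow_succ] at hy
      refine Submodule.mul_induction_on hy ?_ ?_
      · intro u hu v hv
        obtain ⟨qu, hqu1, hqu2⟩ := ih u hu
        obtain ⟨qv, hqv1, hqv2⟩ := hS' v hv
        refine ⟨qu * qv, ?_, ?_⟩
        · rw [map_mul, pow_succ]; exact Ideal.mul_mem_mul hqu1 hqv1
        · have : u * v - φ (qu * qv) = (u - φ qu) * v + φ qu * (v - φ qv) := by
            rw [map_mul]; ring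
          rw [this]
          refine Ideal.add_mem _ ?_ ?_
          · rw [pow_succ (m) (j + 1)]; exact Ideal.mul_mem_mul hqu2 hv
          · have : m ^ (j + 1 + 1) = m ^ j * m ^ 2 := by rw [← pow_add]
            rw [this]; exact Ideal.mul_mem_mul hqu1 hqv2
      · intro y y' ⟨q, hq1, hq2⟩ ⟨q', hq1', hq2'⟩
        refine ⟨q + q', by rw [map_add]; exact Ideal.add_mem _ hq1 hq1', ?_⟩
        have : y + y' - φ (q + q') = (y - φ q) + (y' - φ q') := by rw [map_add]; ring
        rw [this]; exact Ideal.add_mem _ hq2 hq2'
  have happrox : ∀ j : ℕ, ∀ a : A, ∃ p, a - φ p ∈ m ^ j := by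
    intro j
    induction j with
    | zero => intro a; exact ⟨0, by simp⟩
    | succ j ih =>
      intro a
      obtain ⟨p, hp⟩ := ih a
      obtain ⟨q, -, hq⟩ := hS j _ hp
      refine ⟨p + q, ?_⟩
      have : a - φ (p + q) = a - φ p - φ q := by rw [map_add]; ring
      rw [this]; exact hq
  -- nilpotency
  obtain ⟨N, hN⟩ : ∃ N : ℕ, m ^ N = ⊥ := by
    have := IsArtinianRing.isNilpotent_jacobson_bot (R := A)
    rw [IsLocalRing.jacobson_eq_maximalIdeal ⊥ bot_ne_top] at this
    exact this
  have hφsurj : Function.Surjective φ := by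
    intro a
    obtain ⟨p, hp⟩ := happrox N a
    rw [hN, Ideal.mem_bot, sub_eq_zero] at hp
    exact ⟨p, hp.symm⟩
  -- J ⊆ (X)^2
  have hCφ : ∀ c : k, φ (MvPolynomial.C c) = algebraMap k A c := by
    intro c
    rw [← MvPolynomial.algebraMap_eq, AlgHom.commutes]
  have hn2 : MvPolynomial.idealOfVars (Fin d) k ^ 2 ≤ Ideal.comap φ (m ^ 2) :=
    (Ideal.pow_right_mono hn0 2).trans (Ideal.le_comap_pow φ 2)
  have hJsq : ∀ p, φ p = 0 → p ∈ MvPolynomial.idealOfVars (Fin d) k ^ 2 := by
    intro p hp
    have hr := sub_lin_mem p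
    have hφr := hn2 hr
    rw [Ideal.mem_comap, map_sub, map_sub, hp, map_sum, hCφ] at hφr
    simp only [map_mul, hCφ, hφX] at hφr
    -- constant term vanishes
    have hsum_m : ∑ i, algebraMap k A (MvPolynomial.coeff (Finsupp.single i 1) p) * x' i ∈ m :=
      Ideal.sum_mem _ fun i _ => Ideal.mul_mem_left _ _ (hx'm i)
    have hc0 : MvPolynomial.coeff 0 p = 0 := by
      by_contra hc
      have hunit : IsUnit (algebraMap k A (MvPolynomial.coeff 0 p)) :=
        (IsUnit.mk0 _ hc).map (algebraMap k A)
      have hmem : algebraMap k A (MvPolynomial.coeff 0 p) ∈ m := by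
        have h1 : (0 : A) - algebraMap k A (MvPolynomial.coeff 0 p) -
            ∑ i, algebraMap k A (MvPolynomial.coeff (Finsupp.single i 1) p) * x' i ∈ m :=
          Ideal.pow_le_self two_ne_zero hφr
        have := Ideal.add_mem _ h1 hsum_m
        rw [sub_add_cancel, zero_sub] at this
        exact (Ideal.neg_mem_iff _).mp this
      exact (IsLocalRing.mem_maximalIdeal _).mp hmem hunit
    rw [hc0, map_zero, sub_zero, zero_sub, Ideal.neg_mem_iff] at hφr
    -- linear terms vanish
    have hlin : ∀ i, MvPolynomial.coeff (Finsupp.single i 1) p = 0 := by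
      have hcot : m.toCotangent ⟨_, hsum_m⟩ = 0 := (Ideal.toCotangent_eq_zero m _).mpr hφr
      have hdecomp : (⟨_, hsum_m⟩ : m) =
          ∑ i, algebraMap k A (MvPolynomial.coeff (Finsupp.single i 1) p) • x i := by
        apply Subtype.ext
        simp only [AddSubmonoidClass.coe_finset_sum, Submodule.coe_smul_of_tower, smul_eq_mul]
        rfl
      rw [hdecomp, map_sum] at hcot
      simp only [map_smul, hx] at hcot
      have hcot' : ∑ i, residue A (algebraMap k A (MvPolynomial.coeff (Finsupp.single i 1) p)) • b i = 0 := by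
        rw [← hcot]
        apply Finset.sum_congr rfl
        intro i _
        rw [← algebraMap_smul (ResidueField A) (algebraMap k A _) (b i)]
        rfl
      have hli := b.linearIndependent
      rw [Fintype.linearIndependent_iff] at hli
      intro i
      have := hli _ hcot' i
      rw [← resEquiv_apply hres] at this
      exact (EmbeddingLike.map_eq_zero_iff (f := resEquiv hres)).mp this
    have : p = p - MvPolynomial.C (MvPolynomial.coeff 0 p) -
        ∑ i, MvPolynomial.C (MvPolynomial.coeff (Finsupp.single i 1) p) * MvPolynomial.X i := by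
      simp [hc0, hlin]
    rw [this]; exact hr
  -- d ≥ 1
  have hd0 : 0 < d := by
    by_contra h
    have hd' : d = 0 := by omega
    apply hA
    rw [← hspan]
    have : IsEmpty (Fin d) := by rw [hd']; exact Fin.isEmpty
    rw [Set.range_eq_empty, Ideal.span_empty]
  let i₀ : Fin d := ⟨0, hd0⟩
  have hXN : φ (MvPolynomial.X i₀ ^ N) = 0 := by
    rw [map_pow, hφX]
    have : x' i₀ ^ N ∈ m ^ N := Ideal.pow_mem_pow (hx'm i₀) N
    rwa [hN, Ideal.mem_bot] at this
  have hntop : n ≠ ⊤ := by
    rw [hn]
    exact Ideal.comap_ne_top _ (IsLocalRing.maximalIdeal.isMaximal A).ne_top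
  -- J ≠ n J
  have hex : ∃ j₀, φ j₀ = 0 ∧ j₀ ∉ n * RingHom.ker φ := by
    by_contra hcon
    push_neg at hcon
    have hle : RingHom.ker φ ≤ n * RingHom.ker φ := fun j hj => hcon j hj
    have hpow : ∀ s : ℕ, RingHom.ker φ ≤ n ^ s := by
      intro s
      induction s with
      | zero => simp
      | succ s ih =>
        calc RingHom.ker φ ≤ n * RingHom.ker φ := hle
          _ ≤ n * n ^ s := Ideal.mul_mono_right ih
          _ = n ^ (s + 1) := (pow_succ' n s).symm
    have hbot : RingHom.ker φ ≤ ⊥ := by
      rw [← Ideal.iInf_pow_eq_bot_of_isDomain n hntop]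
      exact le_iInf hpow
    have : MvPolynomial.X i₀ ^ N ∈ RingHom.ker φ := hXN
    have := hbot this
    rw [Ideal.mem_bot] at this
    exact pow_ne_zero N (MvPolynomial.X_ne_zero i₀) this
  obtain ⟨j₀, hj₀, hj₀n⟩ := hex
  exact exists_nontrivial φ hφsurj hres j₀ hj₀ (Ideal.pow_right_mono hn0 2 (hJsq j₀ hj₀)) hj₀n

end Groth.Agent.S11291
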