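import Groth.Statements.S11292
import Groth.Agent.Lib.Helper1.ExalBaer
import Groth.Agent.Lib.Helper5.ExalShear

set_option autoImplicit false
universe u
open Deform

namespace Groth.Agent.S11292

open Exal Exal.Ext Groth.Agent.Lib.Helper1.ExalBaer Groth.Agent.Lib.Helper5.ExalTriv
  Groth.Agent.Lib.Helper5.ExalShear

attribute [local instance] Exal.opModule Exal.isCentralScalar_opModule

section General

variable {k Λ R L : Type u} [CommRing k] [CommRing Λ] [CommRing R]
  [Algebra k Λ] [Algebra Λ R] [Algebra k R] [IsScalarTower k Λ R]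
  [AddCommGroup L] [Module R L] [Module Λ L] [IsScalarTower Λ R L]
  [Module k L] [IsScalarTower k Λ L] [IsScalarTower k R L]

/-- crossing the type synonym. -/
def toT (D : Derivation k Λ L) : DerCarrier (C := R) D →+* TrivSqZeroExt R L := RingHom.id _

/-- (⇒)(a): derivations extend. -/
theorem der_extend (h : ∀ X : Exal.Ext Λ R L, X.IsTrivial) (D : Derivation k Λ L) :
    ∃ D' : Derivation k R L, ∀ a : Λ, D' (algebraMap Λ R a) = D a := by
  obtain ⟨s, hs⟩ := h (Exal.Ext.ofDerivation (C := R) D)
  let s' : R →ₐ[Λ] DerCarrier (C := R) D := s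
  let t : R →+* TrivSqZeroExt R L := (toT D).comp s'.toRingHom
  have ht1 : ∀ r, TrivSqZeroExt.fst (t r) = r := hs
  have ht2 : ∀ a : Λ, t (algebraMap Λ R a) =
      TrivSqZeroExt.inl (algebraMap Λ R a) + TrivSqZeroExt.inr (D a) := by
    intro a
    change toT D (s' (algebraMap Λ R a)) = _
    rw [s'.commutes]
    rfl
  have hmul : ∀ r r' : R, TrivSqZeroExt.snd (t (r * r')) =
      r • TrivSqZeroExt.snd (t r') + r' • TrivSqZeroExt.snd (t r) := by
    intro r r'
    rw [map_mul, TrivSqZeroExt.snd_mul, ht1, ht1, op_smul_eq_smul]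
  have hsalg : ∀ a : Λ, TrivSqZeroExt.snd (t (algebraMap Λ R a)) = D a := by
    intro a
    rw [ht2]
    simp
  refine ⟨Derivation.mk'
    { toFun := fun r => TrivSqZeroExt.snd (t r)
      map_add' := fun r r' => by rw [map_add]; rfl
      map_smul' := fun c r => by
        rw [RingHom.id_apply, Algebra.smul_def, hmul, IsScalarTower.algebraMap_apply k Λ R, hsalg,
          Derivation.map_algebraMap, smul_zero, add_zero, ← IsScalarTower.algebraMap_apply k Λ R,
          algebraMap_smul] } hmul, hsalg⟩

section Conv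

variable (k) (X : Exal.Ext Λ R L)

/-- the canonical section of the pullback of the restricted extension. -/
noncomputable def sP : Λ →+* ((X.restrictBase k).pullback Λ).E :=
  RingHom.codRestrict
    ((RingHom.prod (algebraMap Λ X.E) (RingHom.id Λ) : Λ →+* (X.restrictBase k).E × Λ))
    ((X.restrictBase k).fiberProd Λ) (fun a => X.proj.commutes a)

lemma hsP (a : Λ) : ((X.restrictBase k).pullback Λ).proj (sP k X a) = a := rfl

lemma sP_algebraMap (b : k) :
    sP k X (algebraMap k Λ b) = algebraMap k ((X.restrictBase k).pullback Λ).E b := rfl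

variable (Λ R L) in
/-- the canonical section of the pullback of the trivial extension. -/
noncomputable def sT : Λ →+* ((Exal.Ext.trivial k R L).pullback Λ).E :=
  RingHom.codRestrict
    ((RingHom.prod ((TrivSqZeroExt.inlHom R L).comp (algebraMap Λ R)) (RingHom.id Λ) :
      Λ →+* (Exal.Ext.trivial k R L).E × Λ))
    ((Exal.Ext.trivial k R L).fiberProd Λ) (fun a => rfl)

lemma hsT (a : Λ) : ((Exal.Ext.trivial k R L).pullback Λ).proj (sT k Λ R L a) = a := rfl

lemma sT_algebraMap (b : k) :
    sT k Λ R L (algebraMap k Λ b) = algebraMap k ((Exal.Ext.trivial k R L).pullback Λ).E b := by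
  apply Subtype.ext
  refine Prod.ext ?_ rfl
  change TrivSqZeroExt.inl (algebraMap Λ R (algebraMap k Λ b)) =
    TrivSqZeroExt.inl (algebraMap k R b)
  rw [← IsScalarTower.algebraMap_apply k Λ R]

/-- the pullbacks to `Λ` are equivalent. -/
noncomputable def pullbackEquiv :
    ((X.restrictBase k).pullback Λ).Equiv ((Exal.Ext.trivial k R L).pullback Λ) :=
  shearEquiv ((X.restrictBase k).pullback Λ) ((Exal.Ext.trivial k R L).pullback Λ)
    (sP k X) (hsP k X) (sT k Λ R L) (hsT k) 0 (by intro c c'; simp)
    (by
      intro b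
      rw [← sP_algebraMap, ← sT_algebraMap, ell_s, ell_s]
      simp)

end Conv

/-- (⇐). -/
theorem isTrivial_of
    (ha : ∀ D : Derivation k Λ L, ∃ D' : Derivation k R L, ∀ a : Λ, D' (algebraMap Λ R a) = D a)
    (hb : ∀ Y Y' : Exal.Ext k R L,
        Nonempty ((Y.pullback Λ).Equiv (Y'.pullback Λ)) → Nonempty (Y.Equiv Y'))
    (X : Exal.Ext Λ R L) : X.IsTrivial := by
  obtain ⟨θ₀⟩ := hb (X.restrictBase k) (Exal.Ext.trivial k R L) ⟨pullbackEquiv k X⟩
  -- the k-section
  let s₀ : R →+* X.E :=
    ((θ₀.toAlgEquiv.symm : (Exal.Ext.trivial k R L).E →+* (X.restrictBase k).E)).comp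
      (TrivSqZeroExt.inlHom R L : R →+* (Exal.Ext.trivial k R L).E)
  have hs₀ : ∀ r, X.proj (s₀ r) = r := by
    intro r
    exact θ₀.symm.proj_apply (TrivSqZeroExt.inl r)
  have hs₀k : ∀ c : k, s₀ (algebraMap k R c) = algebraMap Λ X.E (algebraMap k Λ c) := by
    intro c
    exact θ₀.toAlgEquiv.symm.commutes c
  -- the derivation of Λ
  have hDalg : ∀ c : k, ell X s₀ hs₀ (algebraMap Λ X.E (algebraMap k Λ c)) = 0 := by
    intro c
    rw [← hs₀k, ell_s]
  have hDmul : ∀ a a' : Λ, ell X s₀ hs₀ (algebraMap Λ X.E (a * a')) =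
      a • ell X s₀ hs₀ (algebraMap Λ X.E a') + a' • ell X s₀ hs₀ (algebraMap Λ X.E a) := by
    intro a a'
    rw [map_mul, ell_mul, X.proj.commutes, X.proj.commutes, algebraMap_smul, algebraMap_smul]
  let D : Derivation k Λ L := Derivation.mk'
    { toFun := fun a => ell X s₀ hs₀ (algebraMap Λ X.E a)
      map_add' := fun a a' => by rw [map_add, ell_add]
      map_smul' := fun c a => by
        rw [RingHom.id_apply, Algebra.smul_def, hDmul, hDalg, smul_zero, add_zero,
          algebraMap_smul] } hDmul
  obtain ⟨D', hD'⟩ := ha D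
  have hD'' : ∀ a : Λ, D' (algebraMap Λ R a) = ell X s₀ hs₀ (algebraMap Λ X.E a) := hD'
  refine ⟨
    { toFun := fun r => s₀ r + X.incl (D' r)
      map_one' := by rw [map_one, Derivation.map_one_eq_zero, map_zero, add_zero]
      map_mul' := fun r r' => by
        rw [mul_std X s₀ hs₀, Derivation.leibniz]
      map_zero' := by rw [map_zero, map_zero, map_zero, add_zero]
      map_add' := fun r r' => by rw [map_add, map_add, map_add]; abel
      commutes' := fun a => by
        rw [hD'', incl_ell, X.proj.commutes]; abel }, ?_⟩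
  intro r
  change X.proj (s₀ r + X.incl (D' r)) = r
  rw [map_add, hs₀, Groth.Agent.Lib.Helper5.ExalTriv.proj_incl, add_zero]

end General

/-- Let k be an algebraically closed field, Λ and R local Noetherian k-algebras with residue field k,
and Λ → R a local k-algebra homomorphism. Then the relative obstruction space vanishes — every
Λ-extension of R by its residue field k is trivial — if and only if (a) the tangent map t_R → t_Λ is
surjective: every k-derivation of Λ into k extends along Λ → R to a k-derivation of R into k, and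
(b) the obstruction map o(R) → o(Λ) given by inverse image is injective on classes: two k-extensions
of R by k whose inverse images over Λ are equivalent are equivalent (R is less obstructed than Λ).
Here k is the residue field of R, a module over R, Λ and k through the structure maps. -/
theorem result
    {k : Type u} [Field k] [IsAlgClosed k]
    {Λ : Type u} [CommRing Λ] [Algebra k Λ] [IsLocalRing Λ] [IsNoetherianRing Λ]
    (hΛ : ∀ a : Λ, ∃ c : k, a - algebraMap k Λ c ∈ IsLocalRing.maximalIdeal Λ)
    {R : Type u} [CommRing R] [Algebra Λ R] [Algebra k R] [IsScalarTower k Λ R]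
    [IsLocalRing R] [IsNoetherianRing R] [IsLocalHom (algebraMap Λ R)]
    (hR : ∀ r : R, ∃ c : k, r - algebraMap k R c ∈ IsLocalRing.maximalIdeal R) :
    (∀ X : Exal.Ext Λ R (IsLocalRing.ResidueField R), X.IsTrivial) ↔
    ((∀ D : Derivation k Λ (IsLocalRing.ResidueField R),
        ∃ D' : Derivation k R (IsLocalRing.ResidueField R), ∀ a : Λ, D' (algebraMap Λ R a) = D a) ∧
     (∀ Y Y' : Exal.Ext k R (IsLocalRing.ResidueField R),
        Nonempty ((Y.pullback Λ).Equiv (Y'.pullback Λ)) → Nonempty (Y.Equiv Y'))) := by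
  constructor
  · intro h
    refine ⟨fun D => der_extend h D, ?_⟩
    rintro Y Y' ⟨θ⟩
    exact nonempty_equiv_of_isTrivial θ (h _)
  · rintro ⟨ha, hb⟩ X
    exact isTrivial_of ha hb X

end Groth.Agent.S11292
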