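import Groth.Statements.S11294
-- import your own Groth.Agent.* helpers here

set_option autoImplicit false
universe u
open Deform

namespace Groth.Agent.S11294

open TrivSqZeroExt

theorem exists_rep (P : Type u) [CommRing P] (z : DualNumber P) :
    ∃ a b : P, z = (inl a + inr b : DualNumber P) :=
  ⟨z.fst, z.snd, (inl_fst_add_inr_snd_eq z).symm⟩

theorem eps_mul_rep (P : Type u) [CommRing P] (a b : P) :
    DualNumber.eps * (inl a + inr b : DualNumber P) = (inl 0 + inr a : DualNumber P) := by
  apply TrivSqZeroExt.ext
  · simp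
  · simp [DualNumber.snd_mul]

theorem mul_rep (P : Type u) [CommRing P] (c d a b : P) :
    (inl c + inr d : DualNumber P) * (inl a + inr b : DualNumber P) =
      (inl (c * a) + inr (c * b + d * a) : DualNumber P) := by
  apply TrivSqZeroExt.ext
  · simp
  · simp [DualNumber.snd_mul]

/-- the ideal attached to `φ` -/
def Jof (P : Type u) [CommRing P] (J : Ideal P) (φ : J →ₗ[P] (P ⧸ J)) : Ideal (DualNumber P) where
  carrier := {z | ∃ h : z.fst ∈ J, Ideal.Quotient.mk J z.snd = φ ⟨z.fst, h⟩}
  zero_mem' := ⟨J.zero_mem, by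
    have : (⟨(0 : DualNumber P).fst, J.zero_mem⟩ : J) = 0 := rfl
    rw [this, map_zero]; rfl⟩
  add_mem' := by
    rintro z w ⟨h, e⟩ ⟨h', e'⟩
    refine ⟨J.add_mem h h', ?_⟩
    have : (⟨(z + w).fst, J.add_mem h h'⟩ : J) = ⟨z.fst, h⟩ + ⟨w.fst, h'⟩ := rfl
    rw [this, map_add, ← e, ← e']
    rfl
  smul_mem' := by
    rintro c z ⟨h, e⟩
    have h1 : (c • z).fst = c.fst * z.fst := by simp
    have h2 : (c • z).snd = c.fst * z.snd + c.snd * z.fst := by
      simp [DualNumber.snd_mul]
    have hm : c.fst * z.fst ∈ J := J.mul_mem_left _ h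
    refine ⟨h1 ▸ hm, ?_⟩
    have h3 : (⟨(c • z).fst, h1 ▸ hm⟩ : J) = c.fst • ⟨z.fst, h⟩ := Subtype.ext h1
    rw [h3, map_smul, ← e, h2, map_add, map_mul, map_mul]
    have : Ideal.Quotient.mk J z.fst = 0 := Ideal.Quotient.eq_zero_iff_mem.mpr h
    rw [this, mul_zero, add_zero]
    rfl

theorem mem_Jof (P : Type u) [CommRing P] (J : Ideal P) (φ : J →ₗ[P] (P ⧸ J)) (a b : P) :
    (inl a + inr b : DualNumber P) ∈ Jof P J φ ↔
      ∃ h : a ∈ J, Ideal.Quotient.mk J b = φ ⟨a, h⟩ := by
  show (∃ h : (inl a + inr b : DualNumber P).fst ∈ J,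
    Ideal.Quotient.mk J (inl a + inr b : DualNumber P).snd = φ ⟨_, h⟩) ↔ _
  have h1 : (inl a + inr b : DualNumber P).fst = a := by simp
  have h2 : (inl a + inr b : DualNumber P).snd = b := by simp
  constructor
  · rintro ⟨h, e⟩
    refine ⟨h1 ▸ h, ?_⟩
    rw [h2] at e
    rw [e]
    congr 1
    exact Subtype.ext h1
  · rintro ⟨h, e⟩
    refine ⟨h1.symm ▸ h, ?_⟩
    rw [h2, e]
    congr 1
    exact Subtype.ext h1.symm

open TrivSqZeroExt in
/-- Let P be a commutative ring, J an ideal, and P[ε] the ring of dual numbers over P. First-order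
embedded deformations of Spec(P/J) in Spec P, namely ideals J' of P[ε] lifting J (the image of J'
under ε ↦ 0 is J) with P[ε]/J' flat over the dual numbers — flatness being replaced by the condition
that every element of P[ε]/J' annihilated by ε is a multiple of ε (equivalent to flatness over k[ε]
when P is an algebra over a field k) — are in canonical bijection with Hom_P(J, P/J) =
Hom_{P/J}(J/J^2, P/J), the normal module: to φ corresponds the ideal of all a + εb with a in J and b
reducing to φ(a) modulo J. The first clause says this rule defines exactly one ideal for each φ; the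
second says an ideal J' is a flat lift of J precisely when its membership is given by this rule for
some φ. (The published statement is the global one, identifying first-order deformations of a closed
subscheme X of an algebraic scheme Y with H^0(X, N_{X/Y}); this row is the affine computation in its
proof, valid for every commutative ring P.) -/
theorem result (P : Type u) [CommRing P] (J : Ideal P) :
    (∀ φ : J →ₗ[P] (P ⧸ J), ∃! J' : Ideal (DualNumber P),
        ∀ a b : P, (inl a + inr b : DualNumber P) ∈ J' ↔ ∃ h : a ∈ J, Ideal.Quotient.mk J b = φ ⟨a, h⟩) ∧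
    (∀ J' : Ideal (DualNumber P),
      (J'.map (TrivSqZeroExt.fstHom P P P) = J ∧
        ∀ m : DualNumber P ⧸ J', Ideal.Quotient.mk J' DualNumber.eps * m = 0 →
          ∃ m' : DualNumber P ⧸ J', m = Ideal.Quotient.mk J' DualNumber.eps * m') ↔
      ∃ φ : J →ₗ[P] (P ⧸ J), ∀ a b : P,
        (inl a + inr b : DualNumber P) ∈ J' ↔ ∃ h : a ∈ J, Ideal.Quotient.mk J b = φ ⟨a, h⟩) := by
  classical
  constructor
  · intro φ
    refine ⟨Jof P J φ, mem_Jof P J φ, ?_⟩
    intro J' hJ'
    ext z
    obtain ⟨a, b, rfl⟩ := exists_rep P z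
    rw [hJ', mem_Jof]
  · intro J'
    have hfs : Function.Surjective (TrivSqZeroExt.fstHom P P P) := fun a => ⟨inl a, by simp⟩
    constructor
    · rintro ⟨hmap, hflat⟩
      have ha : ∀ a b : P, (inl a + inr b : DualNumber P) ∈ J' →
          (inl 0 + inr a : DualNumber P) ∈ J' := by
        intro a b h
        rw [← eps_mul_rep P a b]
        exact J'.mul_mem_left _ h
      have hb : ∀ a : P, a ∈ J ↔ ∃ b : P, (inl a + inr b : DualNumber P) ∈ J' := by
        intro a
        rw [← hmap, Ideal.mem_map_iff_of_surjective _ hfs]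
        constructor
        · rintro ⟨z, hz, rfl⟩
          obtain ⟨a, b, rfl⟩ := exists_rep P z
          exact ⟨b, by simpa using hz⟩
        · rintro ⟨b, hb⟩
          exact ⟨_, hb, by simp⟩
      have hc : ∀ a : P, (inl 0 + inr a : DualNumber P) ∈ J' → a ∈ J := by
        intro a h
        have h1 : Ideal.Quotient.mk J' DualNumber.eps *
            Ideal.Quotient.mk J' (inl a + inr 0 : DualNumber P) = 0 := by
          rw [← map_mul, eps_mul_rep]
          exact Ideal.Quotient.eq_zero_iff_mem.mpr h
        obtain ⟨m', hm'⟩ := hflat _ h1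
        obtain ⟨z', rfl⟩ := Ideal.Quotient.mk_surjective m'
        obtain ⟨c, d, rfl⟩ := exists_rep P z'
        rw [← map_mul, Ideal.Quotient.eq, eps_mul_rep] at hm'
        rw [hb]
        refine ⟨0 - c, ?_⟩
        have : (inl a + inr 0 - (inl 0 + inr c) : DualNumber P) = inl a + inr (0 - c) := by
          apply TrivSqZeroExt.ext <;> simp
        rwa [this] at hm'
      have hex : ∀ x : J, ∃ y : P, (inl (x : P) + inr y : DualNumber P) ∈ J' :=
        fun x => (hb x).mp x.2
      choose Y hY using hex
      have hwd : ∀ (x y y' : P), (inl x + inr y : DualNumber P) ∈ J' →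
          (inl x + inr y' : DualNumber P) ∈ J' →
          Ideal.Quotient.mk J y = Ideal.Quotient.mk J y' := by
        intro x y y' h h'
        rw [Ideal.Quotient.eq]
        apply hc
        have := J'.sub_mem h h'
        have e : (inl x + inr y - (inl x + inr y') : DualNumber P) = inl 0 + inr (y - y') := by
          apply TrivSqZeroExt.ext <;> simp
        rwa [e] at this
      let φ : J →ₗ[P] (P ⧸ J) :=
        { toFun := fun x => Ideal.Quotient.mk J (Y x)
          map_add' := by
            intro x x'
            rw [← map_add]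
            apply hwd ((x + x' : J) : P) _ _ (hY _)
            have := J'.add_mem (hY x) (hY x')
            have e : (inl (x : P) + inr (Y x) + (inl (x' : P) + inr (Y x')) : DualNumber P) =
                inl ((x + x' : J) : P) + inr (Y x + Y x') := by
              apply TrivSqZeroExt.ext <;> simp
            rwa [e] at this
          map_smul' := by
            intro c x
            rw [RingHom.id_apply]
            show Ideal.Quotient.mk J (Y (c • x)) = Ideal.Quotient.mk J (c * Y x)
            apply hwd ((c • x : J) : P) _ _ (hY _)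
            have := J'.mul_mem_left (inl c + inr 0 : DualNumber P) (hY x)
            rw [mul_rep] at this
            simpa using this }
      refine ⟨φ, ?_⟩
      intro x y
      constructor
      · intro h
        have hx : x ∈ J := (hb x).mpr ⟨y, h⟩
        exact ⟨hx, hwd x _ _ h (hY ⟨x, hx⟩)⟩
      · rintro ⟨hx, e⟩
        have e' : Ideal.Quotient.mk J y = Ideal.Quotient.mk J (Y ⟨x, hx⟩) := e
        rw [Ideal.Quotient.eq] at e'
        obtain ⟨z, hz⟩ := (hb _).mp e'
        have h0 := ha _ _ hz
        have := J'.add_mem (hY ⟨x, hx⟩) h0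
        have e2 : (inl x + inr (Y ⟨x, hx⟩) + (inl 0 + inr (y - Y ⟨x, hx⟩)) : DualNumber P) =
            inl x + inr y := by
          apply TrivSqZeroExt.ext <;> simp
        rwa [e2] at this
    · rintro ⟨φ, hφ⟩
      constructor
      · ext a
        rw [Ideal.mem_map_iff_of_surjective _ hfs]
        constructor
        · rintro ⟨z, hz, rfl⟩
          obtain ⟨a, b, rfl⟩ := exists_rep P z
          obtain ⟨h, -⟩ := (hφ a b).mp hz
          simpa using h
        · intro h
          obtain ⟨b, hb⟩ := Ideal.Quotient.mk_surjective (φ ⟨a, h⟩)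
          exact ⟨inl a + inr b, (hφ a b).mpr ⟨h, hb⟩, by simp⟩
      · intro m hm
        obtain ⟨z, rfl⟩ := Ideal.Quotient.mk_surjective m
        obtain ⟨a, b, rfl⟩ := exists_rep P z
        rw [← map_mul, Ideal.Quotient.eq_zero_iff_mem, eps_mul_rep] at hm
        obtain ⟨h0, e⟩ := (hφ 0 a).mp hm
        have h00 : (⟨0, h0⟩ : J) = 0 := rfl
        rw [h00, map_zero, Ideal.Quotient.eq_zero_iff_mem] at e
        obtain ⟨b', hb'⟩ := Ideal.Quotient.mk_surjective (φ ⟨a, e⟩)
        refine ⟨Ideal.Quotient.mk J' (inl (b - b') + inr 0), ?_⟩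
        rw [← map_mul, Ideal.Quotient.eq, eps_mul_rep]
        have e3 : (inl a + inr b - (inl 0 + inr (b - b')) : DualNumber P) = inl a + inr b' := by
          apply TrivSqZeroExt.ext <;> simp
        rw [e3]
        exact (hφ a b').mpr ⟨e, hb'⟩

end Groth.Agent.S11294
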