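import Groth.Statements.S11298
import Mathlib

set_option autoImplicit false
universe u v
open LocCoh

namespace Groth.Agent.S11298

open scoped Pointwise

/-- A regular sequence `x, y` on the ring is a regular sequence on any dual module. -/
theorem weaklyRegular_dual {B : Type u} [CommRing B] {M : Type v} [AddCommGroup M] [Module B M]
    (x y : B) (hx : IsSMulRegular B x) (hy : IsSMulRegular (QuotSMulTop x B) y) :
    RingTheory.Sequence.IsWeaklyRegular (M →ₗ[B] B) [x, y] := by
  rw [RingTheory.Sequence.isWeaklyRegular_cons_iff, RingTheory.Sequence.isWeaklyRegular_singleton_iff]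
  constructor
  · intro φ ψ hφψ
    ext m
    have := LinearMap.congr_fun hφψ m
    simp only [LinearMap.smul_apply] at this
    exact hx this
  · rw [isSMulRegular_quotient_iff_mem_of_smul_mem]
    intro φ hφ
    obtain ⟨ψ, -, hψ⟩ := (Submodule.mem_smul_pointwise_iff_exists _ _ _).mp hφ
    -- pointwise: φ m ∈ x B
    have hpt : ∀ m, φ m ∈ LinearMap.range (LinearMap.lsmul B B x) := by
      intro m
      have h1 : y • φ m = x • ψ m := by
        have := LinearMap.congr_fun hψ m
        simp only [LinearMap.smul_apply] at this
        exact this.symm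
      have h2 : y • φ m ∈ x • (⊤ : Submodule B B) :=
        (Submodule.mem_smul_pointwise_iff_exists _ _ _).mpr ⟨ψ m, trivial, h1.symm⟩
      have h3 := (isSMulRegular_quotient_iff_mem_of_smul_mem _ _).mp hy (φ m) h2
      obtain ⟨b, -, hb⟩ := (Submodule.mem_smul_pointwise_iff_exists _ _ _).mp h3
      exact ⟨b, hb⟩
    have hinj : Function.Injective (LinearMap.lsmul B B x) := fun a b hab => hx hab
    let e := LinearEquiv.ofInjective (LinearMap.lsmul B B x) hinj
    let χ : M →ₗ[B] B := (e.symm : _ →ₗ[B] B).comp (φ.codRestrict _ hpt)
    refine (Submodule.mem_smul_pointwise_iff_exists _ _ _).mpr ⟨χ, trivial, ?_⟩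
    ext m
    have : (e (e.symm (φ.codRestrict _ hpt m)) : B) = φ m := by
      rw [e.apply_symm_apply]; rfl
    simp only [LinearMap.smul_apply]
    exact this


/-- Let X = Spec B be an affine Noetherian scheme, Z = V(I) a closed subscheme and G a coherent sheaf,
i.e. a finitely generated B-module M, with dual G^v = Hom_B(M, B). If depth_Z(O_X) ≥ 2 then
depth_Z(G^v) ≥ 2. Here the depth along I of a module N is the supremum of the lengths of N-regular
sequences contained in I (and is infinite when I N = N). (The published statement adds that sections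
of the dual over X and over X minus Z agree; this row omits that clause.) -/
theorem result (B : Type u) [CommRing B] [IsNoetherianRing B]
    (I : Ideal B) (M : Type v) [AddCommGroup M] [Module B M] [Module.Finite B M]
    (h : 2 ≤ LocCoh.idealDepth I B) : 2 ≤ LocCoh.idealDepth I (M →ₗ[B] B) := by
  classical
  unfold LocCoh.idealDepth at h ⊢
  split_ifs with htopH
  · exact le_top
  · have htopB : ¬ (I • (⊤ : Submodule B B) = ⊤) := by
      intro e
      apply htopH
      have h1 : (1 : B) ∈ I := by
        have : (1 : B) ∈ (⊤ : Submodule B B) := Submodule.mem_top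
        rw [← e] at this
        simpa using this
      rw [eq_top_iff]
      intro φ _
      have : φ = (1 : B) • φ := (one_smul B φ).symm
      rw [this]
      exact Submodule.smul_mem_smul h1 Submodule.mem_top
    rw [if_neg htopB] at h
    -- extract a sequence of length ≥ 2
    obtain ⟨rs, ⟨hreg, hmem⟩, hlen⟩ : ∃ rs : List B,
        (RingTheory.Sequence.IsWeaklyRegular B rs ∧ ∀ r ∈ rs, r ∈ I) ∧ 2 ≤ rs.length := by
      by_contra hcon
      push Not at hcon
      have : (⨆ (rs : List B) (_ : RingTheory.Sequence.IsWeaklyRegular B rs ∧ ∀ r ∈ rs, r ∈ I),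
          (rs.length : ℕ∞)) ≤ 1 := by
        refine iSup₂_le fun rs hrs => ?_
        have := hcon rs hrs
        have h1 : rs.length ≤ 1 := by omega
        exact_mod_cast h1
      have h2 : (2 : ℕ∞) ≤ 1 := h.trans this
      exact absurd h2 (by norm_num)
    match rs, hreg, hmem, hlen with
    | x :: y :: rest, hreg, hmem, _ =>
      rw [RingTheory.Sequence.isWeaklyRegular_cons_iff,
        RingTheory.Sequence.isWeaklyRegular_cons_iff] at hreg
      have hw := weaklyRegular_dual (M := M) x y hreg.1 hreg.2.1
      refine le_iSup₂_of_le [x, y] ⟨hw, ?_⟩ (by simp)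
      intro r hr
      simp only [List.mem_cons, List.not_mem_nil, or_false] at hr
      rcases hr with rfl | rfl
      · exact hmem _ (by simp)
      · exact hmem _ (by simp)

end Groth.Agent.S11298
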