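import Groth.Statements.S11299
import Mathlib.Algebra.Module.Projective
-- import your own Groth.Agent.* helpers here

set_option autoImplicit false
universe u
open CAlg

namespace Groth.Agent.S11299

section aux
variable {P : Type*} [CommRing P] (N : Type*) [AddCommGroup N] [Module P N]
  {F F' F'' : Type*} [AddCommGroup F] [Module P F] [AddCommGroup F'] [Module P F']
  [AddCommGroup F''] [Module P F'']

abbrev tr (j : F →ₗ[P] P) : Submodule P F :=
  Submodule.span P {y : F | ∃ u v : F, y = j u • v - j v • u}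

abbrev Bd (j : F →ₗ[P] P) : Submodule P (LinearMap.ker j →ₗ[P] N) :=
  LinearMap.range (LinearMap.lcomp P N (LinearMap.ker j).subtype)

abbrev Zc (j : F →ₗ[P] P) : Submodule P (LinearMap.ker j →ₗ[P] N) :=
  LinearMap.ker (LinearMap.lcomp P N
    (Submodule.comap (LinearMap.ker j).subtype (tr j)).subtype)

abbrev T2 (j : F →ₗ[P] P) : Submodule P ((LinearMap.ker j →ₗ[P] N) ⧸ Bd N j) :=
  Submodule.map (Bd N j).mkQ (Zc N j)

variable {N}
variable {j : F →ₗ[P] P} {j' : F' →ₗ[P] P} {j'' : F'' →ₗ[P] P}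

/-- restriction of a lift to kernels -/
def hK (h : F →ₗ[P] F') (hh : j' ∘ₗ h = j) : LinearMap.ker j →ₗ[P] LinearMap.ker j' :=
  h.restrict (fun x hx => by
    rw [LinearMap.mem_ker] at hx ⊢
    rw [← hh] at hx
    exact hx)

lemma hK_coe (h : F →ₗ[P] F') (hh : j' ∘ₗ h = j) (x : LinearMap.ker j) :
    ((hK h hh x : LinearMap.ker j') : F') = h x := rfl

variable (N) in
def Φ (h : F →ₗ[P] F') (hh : j' ∘ₗ h = j) :
    (LinearMap.ker j' →ₗ[P] N) →ₗ[P] (LinearMap.ker j →ₗ[P] N) :=
  LinearMap.lcomp P N (hK h hh)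

lemma Φ_apply (h : F →ₗ[P] F') (hh : j' ∘ₗ h = j) (φ : LinearMap.ker j' →ₗ[P] N)
    (x : LinearMap.ker j) : Φ N h hh φ x = φ (hK h hh x) := rfl

lemma Bd_le (h : F →ₗ[P] F') (hh : j' ∘ₗ h = j) :
    Bd N j' ≤ Submodule.comap (Φ N h hh) (Bd N j) := by
  rintro _ ⟨ψ, rfl⟩
  refine ⟨ψ ∘ₗ h, ?_⟩
  ext x
  rfl

def a (h : F →ₗ[P] F') (hh : j' ∘ₗ h = j) :
    ((LinearMap.ker j' →ₗ[P] N) ⧸ Bd N j') →ₗ[P] ((LinearMap.ker j →ₗ[P] N) ⧸ Bd N j) :=
  Submodule.mapQ _ _ (Φ N h hh) (Bd_le h hh)

lemma a_mk (h : F →ₗ[P] F') (hh : j' ∘ₗ h = j) (φ : LinearMap.ker j' →ₗ[P] N) :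
    a h hh (Submodule.Quotient.mk φ) = Submodule.Quotient.mk (Φ N h hh φ) := rfl

lemma a_indep (h₁ h₂ : F →ₗ[P] F') (hh₁ : j' ∘ₗ h₁ = j) (hh₂ : j' ∘ₗ h₂ = j) :
    a (N := N) h₁ hh₁ = a h₂ hh₂ := by
  apply LinearMap.ext
  intro q
  obtain ⟨φ, rfl⟩ := Submodule.Quotient.mk_surjective _ q
  rw [a_mk, a_mk, Submodule.Quotient.eq]
  have hmem : ∀ x, (h₁ - h₂) x ∈ LinearMap.ker j' := by
    intro x
    rw [LinearMap.mem_ker, LinearMap.sub_apply, map_sub, ← LinearMap.comp_apply,
      ← LinearMap.comp_apply, hh₁, hh₂, sub_self]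
  refine ⟨φ ∘ₗ (LinearMap.codRestrict _ (h₁ - h₂) hmem), ?_⟩
  ext x
  rw [LinearMap.sub_apply, Φ_apply, Φ_apply, ← map_sub]
  rfl

lemma a_id : a (N := N) (LinearMap.id : F →ₗ[P] F) (LinearMap.comp_id j) = LinearMap.id := by
  apply LinearMap.ext
  intro q
  obtain ⟨φ, rfl⟩ := Submodule.Quotient.mk_surjective _ q
  rfl

lemma a_comp (h : F →ₗ[P] F') (hh : j' ∘ₗ h = j) (h' : F' →ₗ[P] F'') (hh' : j'' ∘ₗ h' = j') :
    a (N := N) (h' ∘ₗ h) (by rw [← LinearMap.comp_assoc, hh', hh]) = a h hh ∘ₗ a h' hh' := by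
  apply LinearMap.ext
  intro q
  obtain ⟨φ, rfl⟩ := Submodule.Quotient.mk_surjective _ q
  rfl

lemma tr_map (h : F →ₗ[P] F') (hh : j' ∘ₗ h = j) : ∀ x ∈ tr j, h x ∈ tr j' := by
  intro x hx
  induction hx using Submodule.span_induction with
  | mem x hx =>
    obtain ⟨u, v, rfl⟩ := hx
    apply Submodule.subset_span
    refine ⟨h u, h v, ?_⟩
    rw [map_sub, map_smul, map_smul, ← hh]
    rfl
  | zero => rw [map_zero]; exact zero_mem _
  | add x y _ _ hx hy => rw [map_add]; exact add_mem hx hy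
  | smul c x _ hx => rw [map_smul]; exact Submodule.smul_mem _ _ hx

lemma a_T2 (h : F →ₗ[P] F') (hh : j' ∘ₗ h = j) : ∀ q ∈ T2 N j', a h hh q ∈ T2 N j := by
  rintro _ ⟨φ, hφ, rfl⟩
  refine ⟨Φ N h hh φ, ?_, rfl⟩
  rw [SetLike.mem_coe, LinearMap.mem_ker] at hφ ⊢
  ext ⟨x, hx⟩
  exact LinearMap.congr_fun hφ ⟨hK h hh x, tr_map h hh _ hx⟩

lemma exists_lift [Module.Projective P F] (hle : LinearMap.range j ≤ LinearMap.range j') :
    ∃ h : F →ₗ[P] F', j' ∘ₗ h = j := by
  obtain ⟨h, hh⟩ := Module.projective_lifting_property (LinearMap.rangeRestrict j')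
    (LinearMap.codRestrict (LinearMap.range j') j (fun x => hle (LinearMap.mem_range_self j x)))
    (LinearMap.surjective_rangeRestrict j')
  refine ⟨h, ?_⟩
  ext x
  exact congrArg Subtype.val (LinearMap.congr_fun hh x)

theorem main [Module.Projective P F] [Module.Projective P F']
    (hr : LinearMap.range j = LinearMap.range j') :
    Nonempty (T2 N j ≃ₗ[P] T2 N j') := by
  obtain ⟨h, hh⟩ := exists_lift (j := j) (j' := j') hr.le
  obtain ⟨h', hh'⟩ := exists_lift (j := j') (j' := j) hr.ge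
  have h1 : a (N := N) h hh ∘ₗ a h' hh' = LinearMap.id := by
    rw [← a_comp, ← a_id]
    exact a_indep _ _ _ _
  have h2 : a (N := N) h' hh' ∘ₗ a h hh = LinearMap.id := by
    rw [← a_comp, ← a_id]
    exact a_indep _ _ _ _
  let e : ((LinearMap.ker j →ₗ[P] N) ⧸ Bd N j) ≃ₗ[P] ((LinearMap.ker j' →ₗ[P] N) ⧸ Bd N j') :=
    LinearEquiv.ofLinear (a h' hh') (a h hh) h2 h1
  refine ⟨e.ofSubmodules (T2 N j) (T2 N j') ?_⟩
  apply le_antisymm
  · rintro _ ⟨q, hq, rfl⟩
    exact a_T2 h' hh' q hq
  · intro q hq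
    refine ⟨a h hh q, a_T2 h hh q hq, ?_⟩
    exact LinearMap.congr_fun h2 q

end aux

/-- The second cotangent module does not depend on the presentation: let P be a commutative ring, J an
ideal and B = P/J. For a presentation of J, i.e. a finitely generated free P-module F with a
P-linear map j : F → P with image J, let R = ker j be the relation module and R^tr ⊆ R the span of
the trivial relations j(u) • v - j(v) • u; the module T^2 of the presentation is the quotient of
Hom_B(R/R^tr, B), realised as the P-linear maps R → P/J vanishing on R^tr, by the restrictions to R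
of the P-linear maps F → P/J (here: the image of that submodule in the quotient of Hom_P(R, P/J) by
the restrictions). Then for two presentations (F, j) and (F', j') of the same ideal J the two
modules T^2 are isomorphic as P-modules (existence of an isomorphism; the comparison maps depend on
expressing one system of generators through the other). (The published statement takes B essentially
of finite type over a field and P smooth; this row allows any commutative ring P and ideal J.) -/
theorem result (P : Type u) [CommRing P] (J : Ideal P)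
    (F : Type u) [AddCommGroup F] [Module P F] [Module.Free P F] [Module.Finite P F]
    (F' : Type u) [AddCommGroup F'] [Module P F'] [Module.Free P F'] [Module.Finite P F']
    (j : F →ₗ[P] P) (j' : F' →ₗ[P] P) (hj : LinearMap.range j = J) (hj' : LinearMap.range j' = J) :
    Nonempty (↥(Submodule.map
          (LinearMap.range (LinearMap.lcomp P (P ⧸ J) (LinearMap.ker j).subtype)).mkQ
          (LinearMap.ker (LinearMap.lcomp P (P ⧸ J)
            (Submodule.comap (LinearMap.ker j).subtype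
              (Submodule.span P {y : F | ∃ u v : F, y = j u • v - j v • u})).subtype))) ≃ₗ[P]
      ↥(Submodule.map
          (LinearMap.range (LinearMap.lcomp P (P ⧸ J) (LinearMap.ker j').subtype)).mkQ
          (LinearMap.ker (LinearMap.lcomp P (P ⧸ J)
            (Submodule.comap (LinearMap.ker j').subtype
              (Submodule.span P {y : F' | ∃ u v : F', y = j' u • v - j' v • u})).subtype)))) := by
  exact main (N := P ⧸ J) (j := j) (j' := j') (hj.trans hj'.symm)

end Groth.Agent.S11299
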