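import Groth.Statements.S11302
import Mathlib.LinearAlgebra.Isomorphisms
-- import your own Groth.Agent.* helpers here

set_option autoImplicit false
universe u
open Deform

namespace Groth.Agent.S11302

section aux
open MvPolynomial

lemma ofList_ofFn {R : Type*} [CommRing R] {n : ℕ} (g : Fin n → R) :
    Ideal.ofList (List.ofFn g) = Ideal.span (Set.range g) := by
  unfold Ideal.ofList
  congr 1
  ext x
  simp [List.mem_ofFn']

lemma rel_mem {R : Type*} [CommRing R] : ∀ (n : ℕ) (f : Fin n → R),
    RingTheory.Sequence.IsWeaklyRegular R (List.ofFn f) → ∀ a : Fin n → R,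
    ∑ i, a i * f i = 0 → ∀ i, a i ∈ Ideal.span (Set.range f) := by
  intro n
  induction n with
  | zero => intro f _ a _ i; exact i.elim0
  | succ n ih =>
    intro f hf a ha
    set g : Fin n → R := fun i => f (Fin.castSucc i) with hg
    set r : R := f (Fin.last n) with hr
    have hle : Ideal.span (Set.range g) ≤ Ideal.span (Set.range f) := by
      apply Ideal.span_mono
      rintro _ ⟨i, rfl⟩
      exact ⟨_, rfl⟩
    have hrmem : r ∈ Ideal.span (Set.range f) := Ideal.subset_span ⟨_, rfl⟩
    rw [List.ofFn_succ', List.concat_eq_append,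
      RingTheory.Sequence.isWeaklyRegular_append_iff,
      RingTheory.Sequence.isWeaklyRegular_singleton_iff] at hf
    obtain ⟨hg_reg, hr_reg⟩ := hf
    rw [ofList_ofFn] at hr_reg
    rw [Fin.sum_univ_castSucc] at ha
    -- a (last) * r ∈ span (range g)
    have h1 : a (Fin.last n) ∈ Ideal.span (Set.range g) := by
      have h2 : r • (Submodule.Quotient.mk (a (Fin.last n)) :
          R ⧸ (Ideal.span (Set.range g) • ⊤ : Submodule R R)) = r • 0 := by
        rw [smul_zero, ← Submodule.Quotient.mk_smul, Submodule.Quotient.mk_eq_zero,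
          smul_eq_mul, Ideal.mul_top]
        have : r • a (Fin.last n) = -(∑ i : Fin n, a (Fin.castSucc i) * g i) := by
          rw [eq_neg_iff_add_eq_zero, add_comm, smul_eq_mul, mul_comm]
          exact ha
        rw [this]
        apply neg_mem
        apply sum_mem
        intro i _
        exact Ideal.mul_mem_left _ _ (Ideal.subset_span ⟨i, rfl⟩)
      have h3 := hr_reg h2
      rw [Submodule.Quotient.mk_eq_zero, smul_eq_mul, Ideal.mul_top] at h3
      exact h3
    obtain ⟨b, hb⟩ := Ideal.mem_span_range_iff_exists_fun.mp h1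
    have h4 : ∑ i : Fin n, (a (Fin.castSucc i) + b i * r) * g i = 0 := by
      rw [← ha, ← hb, Finset.sum_mul, ← Finset.sum_add_distrib]
      apply Finset.sum_congr rfl
      intro i _
      ring
    have h5 := ih g hg_reg _ h4
    intro i
    refine Fin.lastCases ?_ (fun i => ?_) i
    · exact hle h1
    · have := hle (h5 i)
      have h6 : b i * r ∈ Ideal.span (Set.range f) := Ideal.mul_mem_left _ _ hrmem
      exact (Ideal.add_mem_iff_left _ h6).mp this

section HomEquiv
variable {R : Type*} [CommRing R] {n : ℕ} (f : Fin n → R)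

def gen (i : Fin n) : ↥(Ideal.span (Set.range f)) :=
  ⟨f i, Ideal.subset_span (Set.mem_range_self i)⟩

def ev : (↥(Ideal.span (Set.range f)) →ₗ[R] (R ⧸ Ideal.span (Set.range f))) →ₗ[R]
    (Fin n → R ⧸ Ideal.span (Set.range f)) :=
  LinearMap.pi (fun i => LinearMap.applyₗ (gen f i))

lemma ev_apply (φ : ↥(Ideal.span (Set.range f)) →ₗ[R] (R ⧸ Ideal.span (Set.range f)))
    (i : Fin n) : ev f φ i = φ (gen f i) := rfl

def piMap : (Fin n → R) →ₗ[R] ↥(Ideal.span (Set.range f)) :=
  Fintype.linearCombination R (gen f)

lemma piMap_coe (c : Fin n → R) : ((piMap f c : ↥(Ideal.span (Set.range f))) : R) =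
    ∑ i, c i * f i := by
  rw [piMap, Fintype.linearCombination_apply, Submodule.coe_sum]
  rfl

lemma piMap_surj : Function.Surjective (piMap f) := by
  rintro ⟨x, hx⟩
  obtain ⟨c, hc⟩ := Ideal.mem_span_range_iff_exists_fun.mp hx
  refine ⟨c, ?_⟩
  apply Subtype.ext
  rw [piMap_coe]
  exact hc

lemma smul_quot_eq_zero {I : Ideal R} {c : R} (hc : c ∈ I) (b : R ⧸ I) : c • b = 0 := by
  obtain ⟨y, rfl⟩ := Ideal.Quotient.mk_surjective b
  change Ideal.Quotient.mk I (c * y) = 0
  rw [Ideal.Quotient.eq_zero_iff_mem]
  exact Ideal.mul_mem_right _ _ hc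

lemma ev_injective : Function.Injective (ev f) := by
  rw [← LinearMap.ker_eq_bot, LinearMap.ker_eq_bot']
  intro φ hφ
  ext x
  obtain ⟨c, rfl⟩ := piMap_surj f x
  rw [piMap, Fintype.linearCombination_apply, map_sum, LinearMap.zero_apply]
  apply Finset.sum_eq_zero
  intro i _
  rw [map_smul]
  have : φ (gen f i) = 0 := congrFun hφ i
  rw [this, smul_zero]

variable (hrel : ∀ a : Fin n → R, ∑ i, a i * f i = 0 → ∀ i, a i ∈ Ideal.span (Set.range f))
include hrel

lemma ev_surjective : Function.Surjective (ev f) := by
  intro b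
  have hle : LinearMap.ker (piMap f) ≤ LinearMap.ker (Fintype.linearCombination R b) := by
    intro c hc
    rw [LinearMap.mem_ker] at hc ⊢
    have h0 : ∑ i, c i * f i = 0 := by
      rw [← piMap_coe, hc]; rfl
    rw [Fintype.linearCombination_apply]
    apply Finset.sum_eq_zero
    intro i _
    exact smul_quot_eq_zero (hrel c h0 i) _
  refine ⟨(Submodule.liftQ _ (Fintype.linearCombination R b) hle) ∘ₗ
    ((piMap f).quotKerEquivOfSurjective (piMap_surj f)).symm.toLinearMap, ?_⟩
  funext i
  have hi : gen f i = piMap f (Pi.single i 1) := by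
    rw [piMap, Fintype.linearCombination_apply_single, one_smul]
  rw [ev_apply, hi, LinearMap.comp_apply, LinearEquiv.coe_coe,
    LinearMap.quotKerEquivOfSurjective_symm_apply, Submodule.liftQ_apply,
    Fintype.linearCombination_apply_single, one_smul]

noncomputable def evEquiv :
    (↥(Ideal.span (Set.range f)) →ₗ[R] (R ⧸ Ideal.span (Set.range f))) ≃ₗ[R]
    (Fin n → R ⧸ Ideal.span (Set.range f)) :=
  LinearEquiv.ofBijective (ev f) ⟨ev_injective f, ev_surjective f hrel⟩

end HomEquiv

lemma deriv_eq_sum {k : Type*} [CommRing k] {d : ℕ} {M : Type*} [AddCommGroup M] [Module k M]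
    [Module (MvPolynomial (Fin d) k) M] [IsScalarTower k (MvPolynomial (Fin d) k) M]
    (D : Derivation k (MvPolynomial (Fin d) k) M) (p : MvPolynomial (Fin d) k) :
    D p = ∑ j, pderiv j p • D (X j) := by
  induction p using MvPolynomial.induction_on with
  | C a =>
    rw [derivation_C]
    symm
    apply Finset.sum_eq_zero
    intro j _
    rw [pderiv_C, zero_smul]
  | add p q hp hq =>
    rw [map_add, hp, hq, ← Finset.sum_add_distrib]
    apply Finset.sum_congr rfl
    intro j _
    rw [map_add, add_smul]
  | mul_X p i hp =>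
    rw [Derivation.leibniz, hp]
    have : ∀ j : Fin d, pderiv j (p * X i) • D (X j) =
        (X i : MvPolynomial (Fin d) k) • (pderiv j p • D (X j)) +
          (if j = i then p • D (X i) else 0) := by
      intro j
      rw [pderiv_mul, add_smul, pderiv_X, smul_smul, mul_comm (X i)]
      congr 1
      by_cases h : j = i
      · subst h
        rw [Pi.single_eq_same, mul_one, if_pos rfl]
      · rw [Pi.single_eq_of_ne (Ne.symm h), mul_zero, zero_smul, if_neg h]
    simp_rw [this]
    rw [Finset.sum_add_distrib, Finset.sum_ite_eq' Finset.univ i, if_pos (Finset.mem_univ i),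
      ← Finset.smul_sum, add_comm]

section Main
variable {k : Type*} [Field k] {d n : ℕ} (f : Fin n → MvPolynomial (Fin d) k)

lemma map_eq
    (hrel : ∀ a : Fin n → MvPolynomial (Fin d) k, ∑ i, a i * f i = 0 →
      ∀ i, a i ∈ Ideal.span (Set.range f)) :
    Submodule.map ((evEquiv f hrel : _ ≃ₗ[MvPolynomial (Fin d) k] _) : _ →ₗ[MvPolynomial (Fin d) k] _)
      (Submodule.span (MvPolynomial (Fin d) k)
        {ψ : ↥(Ideal.span (Set.range f)) →ₗ[MvPolynomial (Fin d) k]
            (MvPolynomial (Fin d) k ⧸ Ideal.span (Set.range f)) |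
          ∃ D : Derivation k (MvPolynomial (Fin d) k)
              (MvPolynomial (Fin d) k ⧸ Ideal.span (Set.range f)),
            ∀ a : ↥(Ideal.span (Set.range f)), ψ a = D (a : MvPolynomial (Fin d) k)}) =
    (Submodule.span (MvPolynomial (Fin d) k ⧸ Ideal.span (Set.range f))
      (Set.range fun j : Fin d => fun i : Fin n =>
        Ideal.Quotient.mk (Ideal.span (Set.range f)) (pderiv j (f i)))).restrictScalars
      (MvPolynomial (Fin d) k) := by
  have hsm : ∀ (p : MvPolynomial (Fin d) k)
      (b : MvPolynomial (Fin d) k ⧸ Ideal.span (Set.range f)),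
      p • b = Ideal.Quotient.mk _ p * b := by
    intro p b
    obtain ⟨y, rfl⟩ := Ideal.Quotient.mk_surjective b
    rfl
  apply le_antisymm
  · rw [Submodule.map_span, Submodule.span_le]
    rintro _ ⟨ψ, ⟨D, hD⟩, rfl⟩
    change ev f ψ ∈ Submodule.span (MvPolynomial (Fin d) k ⧸ Ideal.span (Set.range f)) _
    have : ev f ψ = ∑ j, D (X j) • (fun i : Fin n =>
        Ideal.Quotient.mk (Ideal.span (Set.range f)) (pderiv j (f i))) := by
      funext i
      rw [ev_apply, hD, Finset.sum_apply]
      change D (f i) = _
      rw [deriv_eq_sum D (f i)]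
      apply Finset.sum_congr rfl
      intro j _
      rw [Pi.smul_apply, smul_eq_mul, hsm, mul_comm]
    rw [this]
    apply sum_mem
    intro j _
    exact Submodule.smul_mem _ _ (Submodule.subset_span ⟨j, rfl⟩)
  · intro v hv
    rw [Submodule.restrictScalars_mem] at hv
    obtain ⟨b, hb⟩ := (Submodule.mem_span_range_iff_exists_fun _).mp hv
    let D : Derivation k (MvPolynomial (Fin d) k)
      (MvPolynomial (Fin d) k ⧸ Ideal.span (Set.range f)) := mkDerivation k b
    let ψ : ↥(Ideal.span (Set.range f)) →ₗ[MvPolynomial (Fin d) k]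
        (MvPolynomial (Fin d) k ⧸ Ideal.span (Set.range f)) :=
      { toFun := fun a => D (a : MvPolynomial (Fin d) k)
        map_add' := fun a a' => by rw [Submodule.coe_add, map_add]
        map_smul' := fun p a => by
          rw [Submodule.coe_smul, smul_eq_mul, Derivation.leibniz, RingHom.id_apply,
            smul_quot_eq_zero a.2, add_zero] }
    refine ⟨ψ, Submodule.subset_span ⟨D, fun a => rfl⟩, ?_⟩
    change ev f ψ = v
    rw [← hb]
    funext i
    rw [ev_apply, Finset.sum_apply]
    change D (f i) = _
    rw [deriv_eq_sum D (f i)]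
    apply Finset.sum_congr rfl
    intro j _
    rw [Pi.smul_apply, smul_eq_mul, hsm, mul_comm, mkDerivation_X]

end Main

end aux

open MvPolynomial in
/-- T^1 of a complete intersection; the hypersurface case P/(f, ∂f/∂X_1, ..., ∂f/∂X_d) is n = 1: let k
be an algebraically closed field, P = k[X_1, ..., X_d], f_1, ..., f_n a regular sequence in P (each
f_i a non-zero-divisor modulo the preceding ones), J the ideal they generate and B = P/J. The first
cotangent module T^1_B — the cokernel of Der_k(P, B) → Hom_P(J, B), a derivation being restricted to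
J — is isomorphic, as a P-module, to B^n modulo the B-submodule generated by the d columns
(∂f_1/∂X_j, ..., ∂f_n/∂X_j), j = 1, ..., d, of the Jacobian matrix reduced modulo J, through the map
sending the class of φ : J → B to the class of (φ(f_1), ..., φ(f_n)). (The published formula allows
P to be a localisation of the polynomial ring; this row takes the polynomial ring.) -/
theorem result (k : Type u) [Field k] [IsAlgClosed k] (d n : ℕ)
    (f : Fin n → MvPolynomial (Fin d) k) (hreg : RingTheory.Sequence.IsWeaklyRegular (MvPolynomial (Fin d) k) (List.ofFn f)) :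
    ∃ e : ((↥(Ideal.span (Set.range f)) →ₗ[MvPolynomial (Fin d) k] (MvPolynomial (Fin d) k ⧸ Ideal.span (Set.range f))) ⧸
            Submodule.span (MvPolynomial (Fin d) k)
              {ψ : ↥(Ideal.span (Set.range f)) →ₗ[MvPolynomial (Fin d) k] (MvPolynomial (Fin d) k ⧸ Ideal.span (Set.range f)) |
                ∃ D : Derivation k (MvPolynomial (Fin d) k) (MvPolynomial (Fin d) k ⧸ Ideal.span (Set.range f)), ∀ a : ↥(Ideal.span (Set.range f)), ψ a = D (a : MvPolynomial (Fin d) k)}) ≃ₗ[MvPolynomial (Fin d) k]
          ((Fin n → MvPolynomial (Fin d) k ⧸ Ideal.span (Set.range f)) ⧸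
            Submodule.span (MvPolynomial (Fin d) k ⧸ Ideal.span (Set.range f))
              (Set.range fun j : Fin d => fun i : Fin n => Ideal.Quotient.mk (Ideal.span (Set.range f)) (pderiv j (f i)))),
      ∀ φ : ↥(Ideal.span (Set.range f)) →ₗ[MvPolynomial (Fin d) k] (MvPolynomial (Fin d) k ⧸ Ideal.span (Set.range f)),
        e (Submodule.Quotient.mk φ) =
          Submodule.Quotient.mk (fun i : Fin n => φ ⟨f i, Ideal.subset_span (Set.mem_range_self i)⟩) := by
  have hrel := rel_mem n f hreg
  refine ⟨(Submodule.Quotient.equiv _ _ (evEquiv f hrel) (map_eq f hrel)).trans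
    (Submodule.Quotient.restrictScalarsEquiv (MvPolynomial (Fin d) k) _), ?_⟩
  intro φ
  rfl

end Groth.Agent.S11302
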