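import Groth.Statements.S11306
import Mathlib.Algebra.Module.SpanRankOperations
import Mathlib.LinearAlgebra.Dimension.Constructions
import Mathlib.LinearAlgebra.FiniteDimensional.Lemmas
import Mathlib.LinearAlgebra.Dimension.OrzechProperty
-- import your own Groth.Agent.* helpers here

set_option autoImplicit false
universe u
open TensorProduct
open CAlg

namespace Groth.Agent.S11306

/-- Take a Noetherian local domain A, with residue field k and fraction field K, and let M be a finitely
generated A-module. If k ⊗_A M and K ⊗_A M have the same dimension r (over k and over K
respectively), then M is a free A-module of rank r. -/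
theorem result (A : Type u) [CommRing A] [IsDomain A]
    [IsNoetherianRing A] [IsLocalRing A] (M : Type u) [AddCommGroup M] [Module A M] [Module.Finite A M] (r : ℕ)
    (hk : Module.finrank (IsLocalRing.ResidueField A) (IsLocalRing.ResidueField A ⊗[A] M) = r)
    (hK : Module.finrank (FractionRing A) (FractionRing A ⊗[A] M) = r) :
    Module.Free A M ∧ Module.finrank A M = r := by
  classical
  -- a generating set with `r` elements
  have hfg : (⊤ : Submodule A M).FG := Module.Finite.fg_top
  have h1 : (⊤ : Submodule A M).spanFinrank = r := by
    rw [← TensorProduct.spanFinrank_top_eq_of_residueField (⊤ : Submodule A M) hfg,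
      ← Module.finrank_eq_spanFinrank_of_free, ← hk]
    exact LinearEquiv.finrank_eq
      (TensorProduct.AlgebraTensorModule.congr (LinearEquiv.refl _ _) Submodule.topEquiv)
  obtain ⟨s, hs1, hs2⟩ := hfg.exists_span_finset_card_eq_spanFinrank
  rw [h1] at hs1
  let v : s → M := fun i => i.1
  have hv : Submodule.span A (Set.range v) = ⊤ := by
    simpa [v] using hs2
  -- images in `K ⊗ M` span and hence are linearly independent
  let K := FractionRing A
  have hspanK : ⊤ ≤ Submodule.span K (Set.range fun i : s => (1 : K) ⊗ₜ[A] v i) := by
    have := Submodule.baseChange_span (R := A) (A := K) (Set.range v)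
    rw [hv, Submodule.baseChange_top] at this
    rw [this, ← Set.range_comp]
    rfl
  have hliK : LinearIndependent K (fun i : s => (1 : K) ⊗ₜ[A] v i) :=
    linearIndependent_of_top_le_span_of_card_eq_finrank hspanK (by
      rw [Fintype.card_coe, hs1]; exact hK.symm)
  have hliA : LinearIndependent A v := by
    have h2 : LinearIndependent A (fun i : s => (1 : K) ⊗ₜ[A] v i) :=
      hliK.restrict_scalars (by
        intro a b hab
        simpa [Algebra.smul_def] using hab)
    exact LinearIndependent.of_comp (TensorProduct.mk A K M 1) h2
  let b : Module.Basis s A M := Module.Basis.mk hliA (by rw [hv])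
  refine ⟨Module.Free.of_basis b, ?_⟩
  rw [Module.finrank_eq_card_basis b]
  simpa using hs1

end Groth.Agent.S11306
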