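import Groth.Statements.S11308
import Groth.Agent.Lib.Helper9.BlowRegN4

set_option autoImplicit false
universe u
open CategoryTheory CategoryTheory.Limits AlgebraicGeometry
open NonsingVar

namespace Groth.Agent.S11308

/-- Let k be an algebraically closed field, X a nonsingular variety over k (an integral scheme,
separated and of finite type over k, all of whose local rings are regular), Y a nonsingular closed
subvariety of X (an integral closed subscheme all of whose local rings are regular) with ideal sheaf
I, and π : X~ → X a blowing-up of X with respect to I, characterised by its universal property. Then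
X~ is nonsingular: all of its local rings are regular. -/
theorem result (k : Type u) [Field k] [IsAlgClosed k]
    (X : Scheme.{u}) [X.Over (Spec (CommRingCat.of k))] [IsIntegral X] [IsSeparated (X ↘ (Spec (CommRingCat.of k)))]
    [LocallyOfFiniteType (X ↘ (Spec (CommRingCat.of k)))] [QuasiCompact (X ↘ (Spec (CommRingCat.of k)))]
    (hreg : ∀ x : ↥X, IsRegularLocalRing ↑(X.presheaf.stalk x))
    (Y : Scheme.{u}) (i : Y ⟶ X) [IsClosedImmersion i] [IsIntegral Y]
    (hregY : ∀ y : ↥Y, IsRegularLocalRing ↑(Y.presheaf.stalk y))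
    (Xt : Scheme.{u}) (π : Xt ⟶ X) (hπ : BlowUp.IsBlowUp π i.ker) :
    ∀ z : ↥Xt, IsRegularLocalRing ↑(Xt.presheaf.stalk z) := by
  intro z
  haveI : IsLocallyNoetherian X :=
    LocallyOfFiniteType.isLocallyNoetherian (X ↘ (Spec (CommRingCat.of k)))
  refine Groth.Agent.Lib.Helper9.BlowRegN.stalk_regular_of_isBlowUp hreg i.ker ?_ π hπ z
  intro U
  have hker : i.ker.ideal U = RingHom.ker (i.app U.1).hom := Scheme.Hom.ker_apply i U
  have hsurj : Function.Surjective (i.app U.1).hom := i.app_surjective U.1 U.2
  have hV : IsAffineOpen (i ⁻¹ᵁ U.1) := U.2.preimage i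
  haveI : IsNoetherianRing Γ(X, U.1) := IsLocallyNoetherian.component_noetherian U
  haveI : IsNoetherianRing Γ(Y, i ⁻¹ᵁ U.1) :=
    isNoetherianRing_of_surjective _ _ (i.app U.1).hom hsurj
  haveI : IsRegularRing Γ(Y, i ⁻¹ᵁ U.1) :=
    Groth.Agent.Lib.Helper9.BlowRegN.isRegularRing_of_stalks hV (fun y _ => hregY y)
  exact IsRegularRing.of_ringEquiv
    ((Ideal.quotEquivOfEq hker).trans (RingHom.quotientKerEquivOfSurjective hsurj)).symm

end Groth.Agent.S11308
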