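import Groth.Statements.S1131
import Mathlib.AlgebraicGeometry.Sites.Fpqc
import Mathlib.AlgebraicGeometry.Morphisms.Flat
import Mathlib.AlgebraicGeometry.Morphisms.UnderlyingMap
import Mathlib.AlgebraicGeometry.Morphisms.QuasiCompact

set_option autoImplicit false
open CategoryTheory CategoryTheory.Limits AlgebraicGeometry Opposite
universe u
open Desc

namespace Groth.Agent.S1131

/-- If p : X ⟶ S is surjective, flat and quasi-compact, then the functor sending a scheme over S to its
canonical descent datum relative to p is full. (Faithfulness, which needs no quasi-compactness, is a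
companion statement.) (Descent data are taken in functor-of-points form, equivalent by the Yoneda
lemma to the usual form of an isomorphism over X ×_S X satisfying the cocycle condition.) -/
theorem result {X S : Scheme.{u}} (p : X ⟶ S) [Surjective p] [Flat p] [QuasiCompact p] :
    (Desc.toDD p).Full := by
  constructor
  intro U U' φ
  let φl : pullback p U.hom ⟶ pullback p U'.hom := φ.hom.left
  have hw : φl ≫ pullback.fst p U'.hom = pullback.fst p U.hom := Over.w φ.hom
  set π := pullback.snd p U.hom with hπ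
  set ψ : pullback p U.hom ⟶ U'.left := φl ≫ pullback.snd p U'.hom with hψ
  have hdesc : ∀ {Z : Scheme.{u}} (g₁ g₂ : Z ⟶ pullback p U.hom), g₁ ≫ π = g₂ ≫ π →
      g₁ ≫ ψ = g₂ ≫ ψ := by
    intro Z g₁ g₂ hg
    have h : (g₁ ≫ pullback.fst p U.hom) ≫ p = (g₂ ≫ pullback.fst p U.hom) ≫ p := by
      rw [Category.assoc, Category.assoc, pullback.condition, ← Category.assoc, ← Category.assoc,
        hg]
    let v : Desc.Lifts (Over.mk (pullback.fst p U.hom)) (g₁ ≫ pullback.fst p U.hom) := ⟨g₁, rfl⟩
    let w : Desc.Lifts (Over.mk (pullback.fst p U'.hom)) (g₁ ≫ pullback.fst p U.hom) :=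
      ⟨g₁ ≫ φl, by
        show (g₁ ≫ φl) ≫ pullback.fst p U'.hom = g₁ ≫ pullback.fst p U.hom
        rw [Category.assoc, hw]⟩
    have hc : (Desc.canMap p U' (g₁ ≫ pullback.fst p U.hom) (g₂ ≫ pullback.fst p U.hom) h w).1 =
        (Desc.canMap p U (g₁ ≫ pullback.fst p U.hom) (g₂ ≫ pullback.fst p U.hom) h v).1 ≫ φl :=
      φ.comm (g₁ ≫ pullback.fst p U.hom) (g₂ ≫ pullback.fst p U.hom) h v w rfl
    have e1 : (Desc.canMap p U (g₁ ≫ pullback.fst p U.hom) (g₂ ≫ pullback.fst p U.hom) h v).1 =
        g₂ := by
      rw [Desc.canMap_val]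
      apply pullback.hom_ext
      · rw [pullback.lift_fst]
      · rw [pullback.lift_snd]; exact hg
    have e2 : (Desc.canMap p U' (g₁ ≫ pullback.fst p U.hom) (g₂ ≫ pullback.fst p U.hom) h w).1 ≫
        pullback.snd p U'.hom = g₁ ≫ ψ := by
      rw [Desc.canMap_val, pullback.lift_snd, hψ, Category.assoc]
    rw [← e2, hc, e1, hψ, Category.assoc]
  let d : U.left ⟶ U'.left := EffectiveEpi.desc π ψ (fun g₁ g₂ h => hdesc g₁ g₂ h)
  have hd : π ≫ d = ψ := EffectiveEpi.fac π ψ _
  have hdS : d ≫ U'.hom = U.hom := by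
    have : Epi π := Flat.epi_of_flat_of_surjective _
    rw [← cancel_epi π, ← Category.assoc, hd, hψ, Category.assoc, ← pullback.condition,
      ← Category.assoc, hw, pullback.condition]
  refine ⟨Over.homMk d hdS, ?_⟩
  apply Desc.SchDD.hom_ext
  apply Over.OverMorphism.ext
  show pullback.map p U.hom p U'.hom (𝟙 X) d (𝟙 S) (by simp) (by simp [hdS]) = φl
  apply pullback.hom_ext
  · rw [hw, pullback.lift_fst, Category.comp_id]
  · rw [pullback.lift_snd]
    exact hd

end Groth.Agent.S1131
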