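import Groth.Statements.S6033
import Groth.Agent.Lib.Helper2.CechGeoA4
import Groth.Agent.Lib.Helper2.CechVanish

set_option autoImplicit false
universe u
open CategoryTheory CategoryTheory.Limits TopologicalSpace AlgebraicGeometry
open LocCohZ

namespace Groth.Agent.S6033

open Groth.Agent.Lib.Helper28.QCohLoc Groth.Agent.Lib.Helper2.CechGeoA1
  Groth.Agent.Lib.Helper2.CechGeoA2 Groth.Agent.Lib.Helper2.CechGeoA3
  Groth.Agent.Lib.Helper2.CechGeoA4 in
theorem one_iff_surj (A : Type u) [CommRing A] (M : Type u) [AddCommGroup M] [Module A M]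
    (fs : List A) :
    Subsingleton (CohIII.koszulHLim fs (ModuleCat.of A M) 1) ↔
      Function.Surjective (res (FM A M) (le_top : UofA (phiA A) fs ≤ ⊤)) := by
  obtain ⟨e⟩ := koszulHLim_one_equiv A M fs
  rw [e.toEquiv.subsingleton_congr, Submodule.Quotient.subsingleton_iff,
    LinearMap.range_eq_top]
  exact Iff.rfl

open Groth.Agent.Lib.Helper28.QCohLoc Groth.Agent.Lib.Helper2.CechGeoA1
  Groth.Agent.Lib.Helper2.CechGeoA2 Groth.Agent.Lib.Helper2.CechGeoA3
  Groth.Agent.Lib.Helper2.CechGeoA4 in
theorem flasque_iff (A : Type u) [CommRing A] [NoetherianSpace (PrimeSpectrum A)]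
    (M : Type u) [AddCommGroup M] [Module A M] :
    TopCat.Sheaf.IsFlasque (Coh.toAb (AlgebraicGeometry.tilde (R := CommRingCat.of A)
      (ModuleCat.of A M))) ↔
      ∀ fs : List A, Subsingleton (CohIII.koszulHLim fs (ModuleCat.of A M) 1) := by
  rw [isFlasque_iff]
  constructor
  · intro h fs
    rw [one_iff_surj]
    exact h _
  · intro h U
    obtain ⟨fs, rfl⟩ := exists_eq_UofA A U
    exact (one_iff_surj A M fs).1 (h fs)

theorem higher (A : Type u) [CommRing A]
    (h1 : ∀ (fs : List A) (M : Type u) [AddCommGroup M] [Module A M], Module.Injective A M →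
        Subsingleton (CohIII.koszulHLim fs (ModuleCat.of A M) 1)) :
    ∀ (fs : List A) (M : Type u) [AddCommGroup M] [Module A M], Module.Injective A M →
        ∀ i : ℕ, 0 < i → Subsingleton (CohIII.koszulHLim fs (ModuleCat.of A M) i) := by
  intro fs M _ _ hM i hi
  have key := Groth.Agent.Lib.Helper2.CechVanish.vanish_of_one
    (fun N : ModuleCat.{u} A => Module.Injective A N) (by
      intro fs N hN
      obtain ⟨k⟩ := Groth.Agent.Lib.Helper2.KosCech5.koszulHLim_equiv_extCechH fs N 1
      have : Subsingleton (CohIII.koszulHLim fs N 1) := h1 fs N hN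
      exact k.toEquiv.subsingleton_congr.1 this) fs (ModuleCat.of A M) hM (i : ℤ)
      (by exact_mod_cast hi)
  obtain ⟨k⟩ := Groth.Agent.Lib.Helper2.KosCech5.koszulHLim_equiv_extCechH fs (ModuleCat.of A M) i
  exact k.toEquiv.subsingleton_congr.2 key


/-- Let A be a commutative ring such that the underlying space of X = Spec A is Noetherian. Then M~ is
flasque for every injective A-module M if and only if colim_n H^1(f^n, M) = 0 (direct limit of
Koszul cohomology of the powers) for every finite family f of elements of A and every injective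
A-module M; and in that case colim_n H^i(f^n, M) = 0 for all i > 0 as well. -/
theorem result (A : Type u) [CommRing A]
    [NoetherianSpace (PrimeSpectrum A)] :
    ((∀ (M : Type u) [AddCommGroup M] [Module A M], Module.Injective A M →
        TopCat.Sheaf.IsFlasque (Coh.toAb (AlgebraicGeometry.tilde (R := CommRingCat.of A) (ModuleCat.of A M)))) ↔
      ∀ (fs : List A) (M : Type u) [AddCommGroup M] [Module A M], Module.Injective A M →
        Subsingleton (CohIII.koszulHLim fs (ModuleCat.of A M) 1)) ∧
    ((∀ (M : Type u) [AddCommGroup M] [Module A M], Module.Injective A M →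
        TopCat.Sheaf.IsFlasque (Coh.toAb (AlgebraicGeometry.tilde (R := CommRingCat.of A) (ModuleCat.of A M)))) →
      ∀ (fs : List A) (M : Type u) [AddCommGroup M] [Module A M], Module.Injective A M →
        ∀ i : ℕ, 0 < i → Subsingleton (CohIII.koszulHLim fs (ModuleCat.of A M) i)) := by
  have hiff : (∀ (M : Type u) [AddCommGroup M] [Module A M], Module.Injective A M →
        TopCat.Sheaf.IsFlasque (Coh.toAb (AlgebraicGeometry.tilde (R := CommRingCat.of A) (ModuleCat.of A M)))) ↔
      ∀ (fs : List A) (M : Type u) [AddCommGroup M] [Module A M], Module.Injective A M →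
        Subsingleton (CohIII.koszulHLim fs (ModuleCat.of A M) 1) := by
    constructor
    · intro h fs M _ _ hM
      exact (flasque_iff A M).1 (h M hM) fs
    · intro h M _ _ hM
      exact (flasque_iff A M).2 (fun fs => h fs M hM)
  exact ⟨hiff, fun h => higher A (hiff.1 h)⟩

end Groth.Agent.S6033
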