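import Groth.Statements.S11330
import Groth.Agent.Lib.Helper8.GGPoint

set_option autoImplicit false
universe u
open CategoryTheory CategoryTheory.Limits AlgebraicGeometry
open Curves

namespace Groth.Agent.S11330

/-- Let k be an algebraically closed field and X a curve over k (an integral scheme, proper over k, of
dimension one, with all local rings regular), and L an invertible O_X-module. Then L is generated by
its global sections (a quotient of a free O_X-module) if and only if for every closed point P of X,
with ideal sheaf I_P ⊆ O_X, dim_k H^0(X, L ⊗ I_P) = dim_k H^0(X, L) - 1. -/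
theorem result (k : Type u) [Field k] [IsAlgClosed k] (X : Scheme.{u}) [X.Over (Spec (CommRingCat.of k))]
    [IsIntegral X] [IsProper (X ↘ (Spec (CommRingCat.of k)))] (hdim : topologicalKrullDim X = 1)
    (hreg : ∀ x : X, IsRegularLocalRing (X.presheaf.stalk x)) (L : X.Modules) (hL : PicF.IsInvertible L) :
    Curv2.IsGloballyGenerated L ↔
      ∀ (P : X) (hP : IsClosed ({P} : Set X)),
        Module.finrank k (Coh.HH X (CohB1.tensorMod L (ClSub.idealMod (Scheme.IdealSheafData.vanishingIdeal ⟨{P}, hP⟩))) 0) + 1 = Module.finrank k (Coh.HH X L 0) := by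
  haveI : IsLocallyNoetherian X := Groth.Agent.Lib.Helper8.EulerK.isLocallyNoetherian k X
  constructor
  · intro hgg P hP
    have hQ := Groth.Agent.Lib.Helper8.PointDeg.finrank_quotMod_of_isAlgClosed P hP k
    obtain ⟨s, hs⟩ := Groth.Agent.Lib.Helper8.GGPoint.exists_section_of_gg k X L hL hgg P hP hQ
    exact (Groth.Agent.Lib.Helper8.Descend.step k X hdim.le L hL s P hP hs hQ).1
  · intro h
    apply Groth.Agent.Lib.Helper8.GGPoint.isGloballyGenerated_of_forall_mem_genLocus
    intro x
    haveI : JacobsonSpace X := LocallyOfFiniteType.jacobsonSpace (X ↘ Spec (CommRingCat.of k))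
    obtain ⟨P, hPx, hP⟩ := nonempty_inter_closedPoints
      (show (closure ({x} : Set X)).Nonempty from ⟨x, subset_closure rfl⟩)
      isClosed_closure.isLocallyClosed
    have hP' : IsClosed ({P} : Set X) := hP
    have hQ := Groth.Agent.Lib.Helper8.PointDeg.finrank_quotMod_of_isAlgClosed P hP' k
    obtain ⟨s, hs⟩ := Groth.Agent.Lib.Helper8.GGPoint.exists_section_of_hh_lt k X L hL P hP' hQ (by
      have h' : Module.finrank k (Coh.HH X (CohB1.tensorMod L (ClSub.idealMod
          (Groth.Agent.Lib.Helper8.PointDeg.ptI P hP'))) 0) + 1 = Module.finrank k (Coh.HH X L 0) :=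
        h P hP'
      unfold Groth.Agent.Lib.Helper8.EulerK.hh
      omega)
    refine ⟨s, ?_⟩
    have hsp : x ⤳ P := specializes_iff_mem_closure.2 hPx
    exact hsp.mem_open (CohB1.genLocus L s).isOpen hs

end Groth.Agent.S11330
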