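import Groth.Statements.S11347
import Groth.Agent.Lib.Helper2.CurveSub
import Groth.Agent.Lib.Helper2.RegSmooth
import Groth.Agent.Lib.Helper2.SSDegZero
import Groth.Agent.S12430

set_option autoImplicit false
universe u
open CategoryTheory CategoryTheory.Limits AlgebraicGeometry
open Curves

namespace Groth.Agent.S11347

/-- Let C be a genus-g curve over an algebraically closed field k (integral, proper over k, of dimension
one, all local rings regular), and E a locally free O_C-module of rank 2 which is normalized —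
H^0(C, E) ≠ 0 while H^0(C, E ⊗ M) = 0 for every invertible M with deg M < 0 — and indecomposable —
not isomorphic to a direct sum of two invertible modules. Then the invariant e = -deg E of the ruled
surface P(E) satisfies -2g ≤ e ≤ 2g - 2; here deg E = χ(E) - 2 χ(O_C). -/
theorem result (k : Type u) [Field k] [IsAlgClosed k] (C : Scheme.{u}) [C.Over (Spec (CommRingCat.of k))]
    [IsIntegral C] [IsProper (C ↘ (Spec (CommRingCat.of k)))] (hdimC : topologicalKrullDim C = 1)
    (hregC : ∀ x : C, IsRegularLocalRing (C.presheaf.stalk x))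
    (E : C.Modules) (hE : FlatMod.IsFinLocFreeOfRank 2 E)
    (hn0 : Nontrivial (Coh.HH C E 0))
    (hneg : ∀ M : C.Modules, PicF.IsInvertible M → Curv2.deg k C M 1 < 0 → Subsingleton (Coh.HH C (CohB1.tensorMod E M) 0))
    (hind : ∀ L₁ L₂ : C.Modules, PicF.IsInvertible L₁ → PicF.IsInvertible L₂ → IsEmpty (E ≅ L₁ ⊞ L₂)) :
    2 - 2 * (Curv2.genus k C : ℤ) ≤ Curv2.deg k C E 2 ∧ Curv2.deg k C E 2 ≤ 2 * (Curv2.genus k C : ℤ) := by
  classical
  haveI : Smooth (C ↘ Spec (CommRingCat.of k)) :=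
    Groth.Agent.Lib.Helper2.RegSmooth.smooth_of_regular k (C ↘ Spec (CommRingCat.of k)) hregC
  haveI : IsLocallyNoetherian C := Groth.Agent.Lib.Helper8.EulerK.isLocallyNoetherian k C
  obtain ⟨s, hs⟩ := Groth.Agent.Lib.Helper8.CurveRR.exists_section_ne_zero E hn0
  have hcokinv : PicF.IsInvertible (cokernel s) :=
    Groth.Agent.S12430.result k C hdimC hregC E hE hn0 hneg s hs
  have hOinv := Groth.Agent.Lib.Helper28.AmpleUnit.isInvertible_structureModule C
  have hO1 := Groth.Agent.Lib.Helper6.K0Op.isFinLocFreeOfRank_one_of_isInvertible _ hOinv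
  have hcok1 := Groth.Agent.Lib.Helper6.K0Op.isFinLocFreeOfRank_one_of_isInvertible _ hcokinv
  haveI : Mono s := Groth.Agent.Lib.Helper2.CurveSub.mono_of_ne_zero k C hdimC hO1 hE s hs
  let S : ShortComplex C.Modules := ShortComplex.mk s (cokernel.π s) (cokernel.condition s)
  have hS : S.ShortExact :=
    { exact := ShortComplex.exact_of_g_is_cokernel _ (cokernelIsCokernel s)
      mono_f := ‹Mono s›
      epi_g := inferInstanceAs (Epi (cokernel.π s)) }
  obtain ⟨-, hdegE⟩ := Groth.Agent.Lib.Helper2.CurveExt.ext_locFree k C hdimC S hS hO1 hcok1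
  have hdegE' : Curv2.deg k C E 2 =
      Curv2.deg k C (Coh.structureModule C) 1 + Curv2.deg k C (cokernel s) 1 := hdegE
  have hdegO : Curv2.deg k C (Coh.structureModule C) 1 = 0 :=
    Groth.Agent.Lib.Helper2.SSDegZero.deg_structureModule k C
  have hns : ¬ IsSplitEpi S.g := by
    rintro ⟨⟨σ, hσ⟩⟩
    let sp : S.Splitting := ShortComplex.Splitting.ofExactOfSection S hS.exact σ hσ hS.mono_f
    exact (hind _ _ hOinv hcokinv).false sp.isoBinaryBiproduct
  have hb := Groth.Agent.Lib.Helper2.CurveSub.deg_sub_le_of_not_isSplitEpi k C hdimC S hS hOinv hcokinv hns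
  have hb' : Curv2.deg k C (Coh.structureModule C) 1 - Curv2.deg k C (cokernel s) 1 ≤
      2 * (Curv2.genus k C : ℤ) - 2 := hb
  refine ⟨by omega, ?_⟩
  obtain ⟨M, hM, hdegM⟩ := Groth.Agent.Lib.Helper2.CurveSub.exists_invertible_of_deg k C hdimC (-1)
  have hM1 := Groth.Agent.Lib.Helper6.K0Op.isFinLocFreeOfRank_one_of_isInvertible _ hM
  have hMflat : FlatMod.IsFlat M := Groth.Agent.Lib.Helper6.K0Op.isFlat_of_isFinLocFreeOfRank M hM1
  have hMc := Groth.Agent.Lib.Helper6.K0Op.isCoh_of_isInvertible _ hM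
  have hOc := Groth.Agent.Lib.Helper6.K0Op.isCoh_of_isInvertible _ hOinv
  have hEc := Groth.Agent.Lib.Helper8.CurveTensor.isCoh_of_isFinLocFreeOfRank E hE
  have hQc := Groth.Agent.Lib.Helper6.K0Op.isCoh_of_isInvertible _ hcokinv
  have hS' := Groth.Agent.Lib.Helper6.K0Op.shortExact_tensor_of_flat M hMflat S hS
  have hc1 : Coh.IsCoh (CohB1.tensorMod M (Coh.structureModule C)) :=
    Groth.Agent.Lib.Helper6.K0Op.isCoh_tensorMod _ _ hMc hOc
  have hc2 : Coh.IsCoh (CohB1.tensorMod M E) := Groth.Agent.Lib.Helper6.K0Op.isCoh_tensorMod _ _ hMc hEc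
  have hc3 : Coh.IsCoh (CohB1.tensorMod M (cokernel s)) :=
    Groth.Agent.Lib.Helper6.K0Op.isCoh_tensorMod _ _ hMc hQc
  have hle := Groth.Agent.Lib.Helper8.EulerK.hh₃_le k (S.map (DCoh.tensorBi.obj M)) hS' hc1 hc2 hc3 0
  have hle' : Groth.Agent.Lib.Helper8.EulerK.hh k (CohB1.tensorMod M (cokernel s)) 0 ≤
      Groth.Agent.Lib.Helper8.EulerK.hh k (CohB1.tensorMod M E) 0 +
        Groth.Agent.Lib.Helper8.EulerK.hh k (CohB1.tensorMod M (Coh.structureModule C)) 1 := hle
  have h0 : Groth.Agent.Lib.Helper8.EulerK.hh k (CohB1.tensorMod M E) 0 = 0 := by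
    haveI : Subsingleton (Coh.HH C (CohB1.tensorMod M E) 0) :=
      Groth.Agent.Lib.Helper8.GGCoh.subsingleton_HH_of_iso
        (Groth.Agent.Lib.Helper6.K0Inv.braidIso M E) 0 (hneg M hM (by omega))
    exact Module.finrank_zero_of_subsingleton
  have e : CohB1.tensorMod M (Coh.structureModule C) ≅ M :=
    (Groth.Agent.Lib.Helper8.KillB.rho (X := C)).app M
  have h1 : Groth.Agent.Lib.Helper8.EulerK.hh k (CohB1.tensorMod M (Coh.structureModule C)) 1 =
      Groth.Agent.Lib.Helper8.EulerK.hh k M 1 := Groth.Agent.Lib.Helper8.EulerK.hh_congr k e 1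
  have hM0 : Groth.Agent.Lib.Helper8.EulerK.hh k M 0 = 0 := by
    by_contra hne
    have hnt : Nontrivial (Coh.HH C M 0) := by
      by_contra hnn
      rw [not_nontrivial_iff_subsingleton] at hnn
      exact hne Module.finrank_zero_of_subsingleton
    obtain ⟨t, ht⟩ := Groth.Agent.Lib.Helper8.CurveRR.exists_section_ne_zero M hnt
    haveI : Mono t := Groth.Agent.Lib.Helper8.CurveInv.mono_of_ne_zero hOinv hM t ht
    have := (Groth.Agent.Lib.Helper4.CurveVB.deg_le_of_mono_of_rank_eq k C hdimC.le t hO1 hM1).1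
    omega
  have hχM := Groth.Agent.Lib.Helper8.CurveRR.euler_eq_sub k C hdimC.le _ hMc.1
  have hχQ := Groth.Agent.Lib.Helper8.CurveRR.euler_eq_sub k C hdimC.le _ hc3.1
  have hχO := Groth.Agent.Lib.Helper2.CurveSub.euler_structureModule k C hdimC
  have hdegT := Groth.Agent.Lib.Helper8.DegGroup.deg_tensorMod k C hdimC.le hM hcokinv
  have hdM : Curv2.deg k C M 1 = Curv2.euler k C M - 1 * Curv2.euler k C (Coh.structureModule C) := rfl
  have hdT : Curv2.deg k C (CohB1.tensorMod M (cokernel s)) 1 =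
      Curv2.euler k C (CohB1.tensorMod M (cokernel s)) - 1 * Curv2.euler k C (Coh.structureModule C) := rfl
  unfold Groth.Agent.Lib.Helper8.EulerK.hh at hle' h0 h1 hM0
  rw [hM0] at hχM
  push_cast at hχM hχQ
  omega

end Groth.Agent.S11347
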