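import Groth.Statements.S11348
import Groth.Agent.Lib.Helper2.PtTwist
import Groth.Agent.Lib.Helper2.RegSmooth
import Groth.Agent.S11347

set_option autoImplicit false
universe u
open CategoryTheory CategoryTheory.Limits AlgebraicGeometry
open Curves

namespace Groth.Agent.S11348

/-- Let C be an elliptic curve over an algebraically closed field k — integral, proper over k, of
dimension one, all local rings regular, of genus dim_k H^1(C, O_C) = 1 — and E a locally free
O_C-module of rank 2 which is normalized (H^0(C, E) ≠ 0 while H^0(C, E ⊗ M) = 0 for every invertible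
M of negative degree) and indecomposable (not isomorphic to a direct sum of two invertible modules).
Then the invariant e = -deg E is 0 or -1, i.e. deg E ∈ {0, 1}, with deg E = χ(E) - 2 χ(O_C). -/
theorem result (k : Type u) [Field k] [IsAlgClosed k] (C : Scheme.{u}) [C.Over (Spec (CommRingCat.of k))]
    [IsIntegral C] [IsProper (C ↘ (Spec (CommRingCat.of k)))] (hdimC : topologicalKrullDim C = 1)
    (hregC : ∀ x : C, IsRegularLocalRing (C.presheaf.stalk x)) (hg : Curv2.genus k C = 1)
    (E : C.Modules) (hE : FlatMod.IsFinLocFreeOfRank 2 E)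
    (hn0 : Nontrivial (Coh.HH C E 0))
    (hneg : ∀ M : C.Modules, PicF.IsInvertible M → Curv2.deg k C M 1 < 0 → Subsingleton (Coh.HH C (CohB1.tensorMod E M) 0))
    (hind : ∀ L₁ L₂ : C.Modules, PicF.IsInvertible L₁ → PicF.IsInvertible L₂ → IsEmpty (E ≅ L₁ ⊞ L₂)) :
    Curv2.deg k C E 2 = 0 ∨ Curv2.deg k C E 2 = 1 := by
  classical
  obtain ⟨hlo, hhi⟩ := Groth.Agent.S11347.result k C hdimC hregC E hE hn0 hneg hind
  rw [hg] at hlo hhi
  by_contra hcon
  have hd2 : Curv2.deg k C E 2 = 2 := by
    push_neg at hcon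
    obtain ⟨h0, h1⟩ := hcon
    push_cast at hlo hhi
    omega
  haveI : Smooth (C ↘ Spec (CommRingCat.of k)) :=
    Groth.Agent.Lib.Helper2.RegSmooth.smooth_of_regular k (C ↘ Spec (CommRingCat.of k)) hregC
  haveI : IsLocallyNoetherian C := Groth.Agent.Lib.Helper8.EulerK.isLocallyNoetherian k C
  obtain ⟨s, hs⟩ := Groth.Agent.Lib.Helper8.CurveRR.exists_section_ne_zero E hn0
  have hcokinv : PicF.IsInvertible (cokernel s) :=
    Groth.Agent.S12430.result k C hdimC hregC E hE hn0 hneg s hs
  have hOinv := Groth.Agent.Lib.Helper28.AmpleUnit.isInvertible_structureModule C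
  have hO1 := Groth.Agent.Lib.Helper6.K0Op.isFinLocFreeOfRank_one_of_isInvertible _ hOinv
  have hcok1 := Groth.Agent.Lib.Helper6.K0Op.isFinLocFreeOfRank_one_of_isInvertible _ hcokinv
  haveI : Mono s := Groth.Agent.Lib.Helper2.CurveSub.mono_of_ne_zero k C hdimC hO1 hE s hs
  let S : ShortComplex C.Modules := ShortComplex.mk s (cokernel.π s) (cokernel.condition s)
  have hS : S.ShortExact :=
    { exact := ShortComplex.exact_of_g_is_cokernel _ (cokernelIsCokernel s)
      mono_f := ‹Mono s›
      epi_g := inferInstanceAs (Epi (cokernel.π s)) }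
  obtain ⟨-, hdegE⟩ := Groth.Agent.Lib.Helper2.CurveExt.ext_locFree k C hdimC S hS hO1 hcok1
  have hdegE' : Curv2.deg k C E 2 =
      Curv2.deg k C (Coh.structureModule C) 1 + Curv2.deg k C (cokernel s) 1 := hdegE
  have hdegO : Curv2.deg k C (Coh.structureModule C) 1 = 0 :=
    Groth.Agent.Lib.Helper2.SSDegZero.deg_structureModule k C
  have hdegQ : Curv2.deg k C (cokernel s) 1 = 2 := by omega
  -- `h⁰(E) ≥ 2`
  have hOc := Groth.Agent.Lib.Helper6.K0Op.isCoh_of_isInvertible _ hOinv
  have hEc := Groth.Agent.Lib.Helper8.CurveTensor.isCoh_of_isFinLocFreeOfRank E hE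
  have hχE := Groth.Agent.Lib.Helper8.CurveRR.euler_eq_sub k C hdimC.le _ hEc.1
  have hχO := Groth.Agent.Lib.Helper2.CurveSub.euler_structureModule k C hdimC
  have hdE : Curv2.deg k C E 2 = Curv2.euler k C E - 2 * Curv2.euler k C (Coh.structureModule C) := rfl
  have h0E : 2 ≤ Module.finrank k (Coh.HH C E 0) := by
    have : (2 : ℤ) ≤ (Module.finrank k (Coh.HH C E 0) : ℤ) := by
      rw [hχO, hg, hχE, hd2] at hdE
      push_cast at hdE
      omega
    exact_mod_cast this
  have h0O := Groth.Agent.Lib.Helper2.SecPos.finrank_H0_eq_one_of_isAlgClosed k C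
  -- a section with non-zero image in the quotient
  have hex : ∃ t : Coh.structureModule C ⟶ E, t ≫ cokernel.π s ≠ 0 := by
    by_contra hall
    push_neg at hall
    have hker : LinearMap.ker (Canon.HHlin k S.g 0) = ⊤ := by
      rw [LinearMap.ker_eq_top]
      apply LinearMap.ext
      intro y
      obtain ⟨t, rfl⟩ := Groth.Agent.Lib.Helper8.KillA.exists_hom_of_H0 E y
      have h1 : Groth.Agent.Lib.Helper8.KillA.HHmap (cokernel.π s) 0
          (Groth.Agent.Lib.Helper8.KillA.HHmap t 0 (Groth.Agent.Lib.Helper8.KillA.unitH C)) =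
          Groth.Agent.Lib.Helper8.KillA.HHmap (t ≫ cokernel.π s) 0
            (Groth.Agent.Lib.Helper8.KillA.unitH C) :=
        (Groth.Agent.Lib.Helper8.KillA.HHmap_comp t (cokernel.π s) 0 _).symm
      refine h1.trans ?_
      rw [hall t]
      exact Groth.Agent.Lib.Helper8.KillA.HHmap_zero_unitH _
    have hr := Groth.Agent.Lib.Helper2.HLesLin.range_eq_ker₂ S hS k 0
    rw [hker] at hr
    haveI := Groth.Agent.Lib.Helper8.EulerK.finite_HH k C _ hOc 0
    haveI := Groth.Agent.Lib.Helper8.EulerK.finite_HH k C _ hEc 0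
    have h2 := LinearMap.finrank_range_le (Canon.HHlin k S.f 0)
    rw [hr, finrank_top] at h2
    have h2' : Module.finrank k (Coh.HH C E 0) ≤
        Module.finrank k (Coh.HH C (Coh.structureModule C) 0) := h2
    omega
  obtain ⟨t, ht⟩ := hex
  obtain ⟨M, hM, hdM, hnt⟩ := Groth.Agent.Lib.Helper2.PtTwist.exists_twist_section k C hdimC hregC
    s (cokernel.π s) (cokernel.condition s) hS hcokinv (by omega) t ht
  haveI := hneg M hM (by omega)
  exact not_subsingleton _ ‹Subsingleton (Coh.HH C (CohB1.tensorMod E M) 0)›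

end Groth.Agent.S11348
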