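import Groth.Statements.S11353
import Groth.Agent.Lib.Helper2.CurveSub
import Groth.Agent.Lib.Helper2.RegSmooth
import Groth.Agent.Lib.Helper2.SSDegZero
import Groth.Agent.Lib.Helper2.TensEq

set_option autoImplicit false
universe u
open CategoryTheory CategoryTheory.Limits AlgebraicGeometry
open Curves

namespace Groth.Agent.S11353

/-- Let C be a curve over an algebraically closed field k (integral, proper over k, of dimension one,
all local rings regular) and E a decomposable locally free sheaf of rank 2 — E ≅ L₁ ⊕ L₂ with L₁, L₂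
invertible — which is normalized: H^0(C, E) ≠ 0 while H^0(C, E ⊗ M) = 0 for every invertible M of
negative degree. Then E ≅ O_C ⊕ L for an invertible L with deg L ≤ 0; in particular e = -deg E ≥ 0. -/
theorem result (k : Type u) [Field k] [IsAlgClosed k] (C : Scheme.{u}) [C.Over (Spec (CommRingCat.of k))]
    [IsIntegral C] [IsProper (C ↘ (Spec (CommRingCat.of k)))] (hdimC : topologicalKrullDim C = 1)
    (hregC : ∀ x : C, IsRegularLocalRing (C.presheaf.stalk x))
    (E L₁ L₂ : C.Modules) (hL₁ : PicF.IsInvertible L₁) (hL₂ : PicF.IsInvertible L₂) (hE : Nonempty (E ≅ L₁ ⊞ L₂))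
    (hn0 : Nontrivial (Coh.HH C E 0))
    (hneg : ∀ M : C.Modules, PicF.IsInvertible M → Curv2.deg k C M 1 < 0 → Subsingleton (Coh.HH C (CohB1.tensorMod E M) 0)) :
    ∃ L : C.Modules, PicF.IsInvertible L ∧ Curv2.deg k C L 1 ≤ 0 ∧ Nonempty (E ≅ Coh.structureModule C ⊞ L) := by
  classical
  haveI : Smooth (C ↘ Spec (CommRingCat.of k)) :=
    Groth.Agent.Lib.Helper2.RegSmooth.smooth_of_regular k (C ↘ Spec (CommRingCat.of k)) hregC
  haveI : IsLocallyNoetherian C := Groth.Agent.Lib.Helper8.EulerK.isLocallyNoetherian k C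
  obtain ⟨e⟩ := hE
  have hOinv := Groth.Agent.Lib.Helper28.AmpleUnit.isInvertible_structureModule C
  have hO1 := Groth.Agent.Lib.Helper6.K0Op.isFinLocFreeOfRank_one_of_isInvertible _ hOinv
  have hdegO : Curv2.deg k C (Coh.structureModule C) 1 = 0 :=
    Groth.Agent.Lib.Helper2.SSDegZero.deg_structureModule k C
  -- invertible modules mapping non-trivially to `E` have non-positive degree
  have hle : ∀ (L : C.Modules), PicF.IsInvertible L → (∃ φ : L ⟶ E, φ ≠ 0) → Curv2.deg k C L 1 ≤ 0 := by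
    intro L hL hφ
    obtain ⟨L', hL', hinv⟩ := Groth.Agent.Lib.Helper8.InvInverse.exists_isInverseOf hL
    have hnt := (Groth.Agent.Lib.Helper2.TensEq.exists_hom_ne_zero_iff hinv E).1 hφ
    have hd := Groth.Agent.Lib.Helper8.DegGroup.deg_inverse_eq_neg k C hdimC.le hL hL' hinv
    by_contra hpos
    push_neg at hpos
    haveI := hneg L' hL' (by omega)
    haveI : Subsingleton (Coh.HH C (CohB1.tensorMod L' E) 0) :=
      Groth.Agent.Lib.Helper8.GGCoh.subsingleton_HH_of_iso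
        (Groth.Agent.Lib.Helper6.K0Inv.braidIso L' E) 0 inferInstance
    exact not_subsingleton _ ‹Subsingleton (Coh.HH C (CohB1.tensorMod L' E) 0)›
  have hinl : (biprod.inl : L₁ ⟶ L₁ ⊞ L₂) ≫ e.inv ≠ 0 := by
    intro h0
    have h1 : (biprod.inl : L₁ ⟶ L₁ ⊞ L₂) = 0 := by
      have := congrArg (· ≫ e.hom) h0
      simpa using this
    have h2 : 𝟙 L₁ = 0 := by
      rw [← biprod.inl_fst (X := L₁) (Y := L₂), h1, zero_comp]
    exact Groth.Agent.Lib.Helper4.CurveVB.not_isZero_of_rank_pos (by norm_num : 0 < 1)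
      (Groth.Agent.Lib.Helper6.K0Op.isFinLocFreeOfRank_one_of_isInvertible _ hL₁)
      ((IsZero.iff_id_eq_zero L₁).2 h2)
  have hinr : (biprod.inr : L₂ ⟶ L₁ ⊞ L₂) ≫ e.inv ≠ 0 := by
    intro h0
    have h1 : (biprod.inr : L₂ ⟶ L₁ ⊞ L₂) = 0 := by
      have := congrArg (· ≫ e.hom) h0
      simpa using this
    have h2 : 𝟙 L₂ = 0 := by
      rw [← biprod.inr_snd (X := L₁) (Y := L₂), h1, zero_comp]
    exact Groth.Agent.Lib.Helper4.CurveVB.not_isZero_of_rank_pos (by norm_num : 0 < 1)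
      (Groth.Agent.Lib.Helper6.K0Op.isFinLocFreeOfRank_one_of_isInvertible _ hL₂)
      ((IsZero.iff_id_eq_zero L₂).2 h2)
  have hd₁ := hle L₁ hL₁ ⟨_, hinl⟩
  have hd₂ := hle L₂ hL₂ ⟨_, hinr⟩
  -- a non-zero section
  obtain ⟨s, hs⟩ := Groth.Agent.Lib.Helper8.CurveRR.exists_section_ne_zero E hn0
  have key : ∀ (L : C.Modules), PicF.IsInvertible L → Curv2.deg k C L 1 ≤ 0 →
      (t : Coh.structureModule C ⟶ L) → t ≠ 0 → IsIso t := by
    intro L hL hd t ht
    haveI : Mono t := Groth.Agent.Lib.Helper8.CurveInv.mono_of_ne_zero hOinv hL t ht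
    have hL1 := Groth.Agent.Lib.Helper6.K0Op.isFinLocFreeOfRank_one_of_isInvertible _ hL
    obtain ⟨h1, h2⟩ := Groth.Agent.Lib.Helper4.CurveVB.deg_le_of_mono_of_rank_eq k C hdimC.le t hO1 hL1
    exact h2 (by omega)
  by_cases h1 : s ≫ e.hom ≫ biprod.fst = 0
  · have h2 : s ≫ e.hom ≫ biprod.snd ≠ 0 := by
      intro h2
      apply hs
      have : s ≫ e.hom = 0 := by
        apply biprod.hom_ext
        · simpa using h1
        · simpa using h2
      have h3 := congrArg (· ≫ e.inv) this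
      simpa using h3
    haveI := key L₂ hL₂ hd₂ _ h2
    exact ⟨L₁, hL₁, hd₁, ⟨e ≪≫ biprod.braiding L₁ L₂ ≪≫
      biprod.mapIso (asIso (s ≫ e.hom ≫ biprod.snd)).symm (Iso.refl L₁)⟩⟩
  · haveI := key L₁ hL₁ hd₁ _ h1
    exact ⟨L₂, hL₂, hd₂, ⟨e ≪≫ biprod.mapIso (asIso (s ≫ e.hom ≫ biprod.fst)).symm (Iso.refl L₂)⟩⟩

end Groth.Agent.S11353
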