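import Groth.Statements.S11355
import Groth.Agent.Lib.Helper8.PencilF

set_option autoImplicit false
universe u
open CategoryTheory CategoryTheory.Limits AlgebraicGeometry
open Curves

namespace Groth.Agent.S11355

/-- Let k be an algebraically closed field and X a curve over k (an integral scheme, proper over k, of
dimension one, with all local rings regular), of genus g ≥ 2. If X is hyperelliptic its g^1_2 is
unique: for any two linear series (M, s), (M', s') of degree 2 and dimension 1 on X (invertible
modules of degree 2, each with two k-linearly independent global sections), M ≅ M' (existence of an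
isomorphism; for g ≥ 2 such a module has exactly a 2-dimensional space of sections, so the linear
series coincide). -/
theorem result (k : Type u) [Field k] [IsAlgClosed k] (X : Scheme.{u}) [X.Over (Spec (CommRingCat.of k))]
    [IsIntegral X] [IsProper (X ↘ (Spec (CommRingCat.of k)))] (hdim : topologicalKrullDim X = 1)
    (hreg : ∀ x : X, IsRegularLocalRing (X.presheaf.stalk x)) (hg : 2 ≤ Curv2.genus k X)
    (M : X.Modules) (s : Fin 2 → LinSer.Sect X M) (hM : LinSer.IsLinSer k X M 2 1 s)
    (M' : X.Modules) (s' : Fin 2 → LinSer.Sect X M') (hM' : LinSer.IsLinSer k X M' 2 1 s') :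
    Nonempty (M ≅ M') := by
  obtain ⟨i1, d1, l1⟩ := hM
  obtain ⟨i2, d2, l2⟩ := hM'
  have a1 := Groth.Agent.Lib.Helper8.PencilF.le_hh_of_linIndep k X M
    (Groth.Agent.Lib.Helper6.K0Op.isCoh_of_isInvertible _ i1) s l1
  have a2 := Groth.Agent.Lib.Helper8.PencilF.le_hh_of_linIndep k X M'
    (Groth.Agent.Lib.Helper6.K0Op.isCoh_of_isInvertible _ i2) s' l2
  exact Groth.Agent.Lib.Helper8.PencilF.g12_unique k X hdim hreg hg M M' i1 i2
    (by exact_mod_cast d1) (by exact_mod_cast d2) a1 a2

end Groth.Agent.S11355
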