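import Groth.Statements.S11428
import Groth.Agent.Lib.Helper26.GQ2

set_option autoImplicit false
universe u
open CategoryTheory MonoidalCategory CartesianMonoidalCategory MonObj GrpObj AlgebraicGeometry Topology
open GIT
open Limits Groth.Agent.Lib.Helper26.GQ2

namespace Groth.Agent.S11428

/-- If (Y, φ) is a geometric quotient of X by G over S, then Y is separated over S exactly when the
action is separated, i.e. the image of (σ, p₂) : G ×_S X → X ×_S X is closed. -/
theorem result (S : Scheme.{u}) (G X Y : Over S) [GrpObj G]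
    (a : AlgGrp.Action G X) (φ : X ⟶ Y) (h : GIT.IsGeomQuot a φ) :
    IsSeparated Y.hom ↔ IsClosed (Set.range (GIT.psi a (𝟙 X)).left.base) := by
  rw [isSeparated_iff_isClosed_range_diagonal]
  set Φ := pullback.map (φ.left ≫ Y.hom) (φ.left ≫ Y.hom) Y.hom Y.hom φ.left φ.left (𝟙 _)
    (Category.comp_id _) (Category.comp_id _) with hΦ
  have hQ : IsQuotientMap Φ.base := isQuotientMap_map φ.left Y.hom h.subm
  have sq := pullback_map_diagonal_isPullback φ.left φ.left Y.hom
  set m := pullback.map φ.left φ.left (φ.left ≫ Y.hom) (φ.left ≫ Y.hom) (𝟙 _) (𝟙 _) Y.hom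
    (Category.id_comp _).symm (Category.id_comp _).symm with hm
  -- range m = Φ⁻¹(range Δ)
  have hrange : Set.range m.base = Φ.base ⁻¹' Set.range (pullback.diagonal Y.hom).base := by
    have e1 : m = sq.isoPullback.hom ≫ pullback.snd _ _ := (sq.isoPullback_hom_snd).symm
    rw [e1, Scheme.Hom.comp_base, TopCat.coe_comp, Set.range_comp,
      Set.range_eq_univ.mpr (sq.isoPullback.hom).surjective, Set.image_univ]
    exact Scheme.Pullback.range_snd _ _
  rw [← hQ.isClosed_preimage, ← hrange]
  -- psi.left = PsiY ≫ m ≫ e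
  let e := pullback.congrHom (Over.w φ) (Over.w φ)
  have hm1 : m ≫ e.hom ≫ pullback.fst X.hom X.hom = pullback.fst φ.left φ.left := by
    rw [pullback.congrHom_hom, hm, pullback.map, pullback.map,
      pullback.lift_fst, pullback.lift_fst_assoc]
    simp
  have hm2 : m ≫ e.hom ≫ pullback.snd X.hom X.hom = pullback.snd φ.left φ.left := by
    rw [pullback.congrHom_hom, hm, pullback.map, pullback.map,
      pullback.lift_snd, pullback.lift_snd_assoc]
    simp
  have hpsi : (GIT.psi a (𝟙 X)).left = GIT.PsiY a φ h.inv ≫ m ≫ e.hom := by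
    apply pullback.hom_ext
    · have h1 := congrArg (fun m => Over.Hom.left m)
        (lift_fst ((G ◁ 𝟙 X) ≫ a.act) (snd G X))
      simp only [Over.comp_left] at h1
      have h2 : (GIT.psi a (𝟙 X)).left ≫ pullback.fst X.hom X.hom = a.act.left := by
        unfold GIT.psi
        rw [MonoidalCategory.whiskerLeft_id, Category.id_comp] at h1 ⊢
        exact h1
      rw [h2, Category.assoc, Category.assoc, hm1, Groth.Agent.Lib.Helper26.PB1.psiY_fst]
    · have h1 := congrArg (fun m => Over.Hom.left m)
        (lift_snd ((G ◁ 𝟙 X) ≫ a.act) (snd G X))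
      simp only [Over.comp_left] at h1
      have h2 : (GIT.psi a (𝟙 X)).left ≫ pullback.snd X.hom X.hom = (snd G X).left := by
        unfold GIT.psi
        exact h1
      rw [h2, Category.assoc, Category.assoc, hm2, Groth.Agent.Lib.Helper26.PB1.psiY_snd]
  have hr : Set.range (GIT.psi a (𝟙 X)).left.base = e.hom.base '' Set.range m.base := by
    rw [hpsi, Scheme.Hom.comp_base, TopCat.coe_comp, Set.range_comp,
      Set.range_eq_univ.mpr h.orbit, Set.image_univ, Scheme.Hom.comp_base, TopCat.coe_comp,
      Set.range_comp]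
  rw [hr]
  exact (e.hom.homeomorph.isClosed_image).symm

end Groth.Agent.S11428
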