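import Groth.Statements.S11444
import Groth.Agent.Lib.Helper15.RelPC22
-- import your own Groth.Agent.* helpers here

set_option autoImplicit false
universe u
open CategoryTheory MonoidalCategory CartesianMonoidalCategory MonObj GrpObj AlgebraicGeometry Topology
open GIT

namespace Groth.Agent.S11444

section H
namespace W1

open Groth.Agent.Lib.Helper15.RelPC21 Groth.Agent.Lib.Helper15.RelPC22

theorem main (S X Y : Scheme.{u})
    (p : X ⟶ S) (q : Y ⟶ S) (f : X ⟶ Y) (hf : f ≫ q = p) (n : ℕ)
    [hq : SmoothOfRelativeDimension n q] [Flat p] : DerSch.HasTorDimLE f n := by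
  intro x
  obtain ⟨V, hV, U, hU, hxU, e, hstd⟩ := hq.exists_isStandardSmoothOfRelativeDimension (f x)
  obtain ⟨W, hW, hxW, hWU'⟩ := exists_isAffineOpen_mem_and_subset (x := x) (U := f ⁻¹ᵁ U) hxU
  have hWU : W ≤ f ⁻¹ᵁ U := hWU'
  refine hasTorAmplitudeAt_unit_of_appLE f U hU W hW hWU hxW n ?_
  refine tdle_of_flat_over_standardSmooth n (q.appLE V U e).hom (f.appLE U W hWU).hom hstd ?_
  rw [← CommRingCat.hom_comp, Scheme.Hom.appLE_comp_appLE]
  subst hf
  exact (f ≫ q).flat_appLE hV hW _

end W1
end H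


/-- Let X → Y → S be morphisms of finite type of Noetherian schemes with Y → S smooth with all fibres of
dimension n and X → S flat. Then X → Y has Tor-dimension at most n. -/
theorem result (S X Y : Scheme.{u}) [IsNoetherian S] [IsNoetherian X] [IsNoetherian Y]
    (p : X ⟶ S) (q : Y ⟶ S) (f : X ⟶ Y) (hf : f ≫ q = p) [LocallyOfFiniteType f] (n : ℕ)
    [SmoothOfRelativeDimension n q] [Flat p] : DerSch.HasTorDimLE f n := by
  exact W1.main S X Y p q f hf n

end Groth.Agent.S11444
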