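import Groth.Statements.S11449
import Groth.Agent.Lib.Helper21.HBLift
import Groth.Agent.Lib.helper11.ABFormula
import Groth.Agent.Lib.helper11.GlDimRegular
import Groth.Agent.Lib.Helper21.DepthKit12
import Groth.Agent.S10834

set_option autoImplicit false
universe u
open DefT

namespace Groth.Agent.S11449

open CategoryTheory Groth.Agent.Lib.Helper21.HBLift Groth.Agent.Lib.Helper21.DepthKit

/-- projective dimension of `A/I` is at most two -/
lemma pd_le_two (A : Type u) [CommRing A] [IsRegularLocalRing A] (I : Ideal A)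
    [LocCoh.IsCohenMacaulayLocalRing (A ⧸ I)]
    (hcodim : ringKrullDim (A ⧸ I) + 2 = ringKrullDim A) :
    HasProjectiveDimensionLT (ModuleCat.of A (A ⧸ I)) 3 := by
  obtain ⟨d, hd0⟩ := exists_nat_supportDim (A := A) (M := A)
  have hd : ringKrullDim A = d := by rw [← Module.supportDim_self_eq_ringKrullDim, hd0]
  have hdepthA : LocCoh.depth A A = d := by
    have h1 := Groth.Agent.S10834.isCM_of_isRegularLocalRing A
    unfold LocCoh.IsCohenMacaulayModule at h1
    rw [Module.supportDim_self_eq_ringKrullDim, hd] at h1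
    have h2 : ((d : ℕ∞) : WithBot ℕ∞) = ((LocCoh.depth A A : ℕ∞) : WithBot ℕ∞) := by
      exact_mod_cast h1
    exact (WithBot.coe_injective h2).symm
  have hs : Function.Surjective (algebraMap A (A ⧸ I)) := Ideal.Quotient.mk_surjective
  have hdepthM : LocCoh.depth A (A ⧸ I) = LocCoh.depth (A ⧸ I) (A ⧸ I) :=
    depth_eq_of_surjective (A ⧸ I) hs
  have hCM := LocCoh.IsCohenMacaulayLocalRing.supportDim_eq_depth (R := A ⧸ I)
  rw [Module.supportDim_self_eq_ringKrullDim, ← hdepthM] at hCM
  rw [hCM, hd] at hcodim
  obtain ⟨k, hk⟩ : ∃ k : ℕ, LocCoh.depth A (A ⧸ I) = k := by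
    cases h : LocCoh.depth A (A ⧸ I) with
    | top =>
      rw [h] at hcodim
      exact absurd hcodim (by
        intro hc
        have : ((⊤ : ℕ∞) : WithBot ℕ∞) + 2 = ((⊤ : ℕ∞) : WithBot ℕ∞) := rfl
        rw [this] at hc
        exact absurd (WithBot.coe_injective hc) (by simp))
    | coe k => exact ⟨k, rfl⟩
  rw [hk] at hcodim
  have hkd : k + 2 = d := by
    have h : (((k + 2 : ℕ) : ℕ∞) : WithBot ℕ∞) = ((d : ℕ∞) : WithBot ℕ∞) := by
      push_cast
      exact hcodim
    exact_mod_cast WithBot.coe_injective h
  have hpd := Groth.Agent.Lib.helper11.GlDimRegular.hasProjectiveDimensionLT_of_isRegularLocalRing d hd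
    (ModuleCat.of A (A ⧸ I))
  classical
  have hex : ∃ e, HasProjectiveDimensionLT (ModuleCat.of A (A ⧸ I)) (e + 1) := ⟨d, hpd⟩
  set e := Nat.find hex with he
  have h1 : HasProjectiveDimensionLT (ModuleCat.of A (A ⧸ I)) (e + 1) := Nat.find_spec hex
  have h2 : ¬ HasProjectiveDimensionLT (ModuleCat.of A (A ⧸ I)) e := by
    rcases Nat.eq_zero_or_eq_succ_pred e with h0 | h0
    · rw [h0]
      intro hc
      have hz : Limits.IsZero (ModuleCat.of A (A ⧸ I)) := isZero_of_hasProjectiveDimensionLT_zero _
      haveI : Subsingleton (A ⧸ I) := ModuleCat.subsingleton_of_isZero hz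
      exact not_subsingleton (A ⧸ I) this
    · rw [h0]
      exact Nat.find_min hex (by omega)
  have h3 := Groth.Agent.Lib.helper11.ABFormula.depth_eq_add_depth (A ⧸ I) e h1 h2
  rw [hdepthA, hk] at h3
  have h4 : d = e + k := by exact_mod_cast h3
  have h5 : e = 2 := by omega
  rw [h5] at h1
  exact h1

/-- the syzygy module of a generating family of `I` is free -/
lemma free_ker (A : Type u) [CommRing A] [IsRegularLocalRing A] (I : Ideal A)
    (hpd : HasProjectiveDimensionLT (ModuleCat.of A (A ⧸ I)) 3) (n : ℕ) (f : Fin n → A)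
    (hf : Ideal.span (Set.range f) = I) :
    Module.Free A (LinearMap.ker (Fintype.linearCombination A f)) := by
  -- first sequence
  let S1 := (Submodule.mkQ I).shortComplexKer
  have hS1 : S1.ShortExact := LinearMap.shortExact_shortComplexKer (Submodule.mkQ_surjective I)
  have proj1 : Projective S1.X₂ := ModuleCat.projective_of_categoryTheory_projective S1.X₂
  have hI2 : HasProjectiveDimensionLT (ModuleCat.of A (LinearMap.ker (Submodule.mkQ I))) 2 :=
    (hS1.hasProjectiveDimensionLT_X₃_iff 1 proj1).mp hpd
  -- second sequence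
  have hrange : ∀ v, Fintype.linearCombination A f v ∈ LinearMap.ker (Submodule.mkQ I) := by
    intro v
    rw [Submodule.ker_mkQ, ← hf]
    have := Fintype.range_linearCombination A f
    rw [Ideal.span, ← this]
    exact ⟨v, rfl⟩
  let π₂ : (Fin n → A) →ₗ[A] LinearMap.ker (Submodule.mkQ I) :=
    (Fintype.linearCombination A f).codRestrict _ hrange
  have hπ₂ : Function.Surjective π₂ := by
    rintro ⟨x, hx⟩
    have hx' : x ∈ LinearMap.range (Fintype.linearCombination A f) := by
      rw [Fintype.range_linearCombination]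
      rw [Submodule.ker_mkQ, ← hf] at hx
      exact hx
    obtain ⟨v, hv⟩ := hx'
    exact ⟨v, Subtype.ext hv⟩
  let S2 := π₂.shortComplexKer
  have hS2 : S2.ShortExact := LinearMap.shortExact_shortComplexKer hπ₂
  have proj2 : Projective S2.X₂ := ModuleCat.projective_of_categoryTheory_projective S2.X₂
  have hK1 : HasProjectiveDimensionLT (ModuleCat.of A (LinearMap.ker π₂)) 1 :=
    (hS2.hasProjectiveDimensionLT_X₃_iff 0 proj2).mp hI2
  rw [← projective_iff_hasProjectiveDimensionLT_one, ← IsProjective.iff_projective] at hK1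
  have hker : LinearMap.ker π₂ = LinearMap.ker (Fintype.linearCombination A f) :=
    LinearMap.ker_codRestrict _ _ _
  rw [hker] at hK1
  haveI : Module.Flat A (LinearMap.ker (Fintype.linearCombination A f)) := Module.Flat.of_projective
  exact Module.free_of_flat_of_isLocalRing

/-- dimension count: `I` is not contained in a proper principal ideal -/
lemma isUnit_of_le (A : Type u) [CommRing A] [IsRegularLocalRing A] (I : Ideal A)
    (hcodim : ringKrullDim (A ⧸ I) + 2 = ringKrullDim A) (a : A) (hIa : I ≤ Ideal.span {a}) :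
    IsUnit a := by
  by_contra hna
  have ham : a ∈ IsLocalRing.maximalIdeal A := (IsLocalRing.mem_maximalIdeal a).2 hna
  have h1 : ringKrullDim A ≤ ringKrullDim (A ⧸ Ideal.span ({a} : Set A)) + 1 := by
    have := ringKrullDim_le_ringKrullDim_quotient_add_card ({a} : Finset A) (by
      rw [IsLocalRing.ringJacobson_eq_maximalIdeal]
      intro x hx
      rw [Finset.coe_singleton, Set.mem_singleton_iff] at hx
      rw [hx]; exact ham)
    rw [Finset.card_singleton, Finset.coe_singleton] at this
    exact_mod_cast this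
  have h2 : ringKrullDim (A ⧸ Ideal.span ({a} : Set A)) ≤ ringKrullDim (A ⧸ I) :=
    ringKrullDim_le_of_surjective (Ideal.Quotient.factor hIa) (Ideal.Quotient.factor_surjective hIa)
  obtain ⟨d, hd0⟩ := exists_nat_supportDim (A := A) (M := A)
  rw [Module.supportDim_self_eq_ringKrullDim] at hd0
  rw [hd0] at hcodim h1
  generalize ringKrullDim (A ⧸ I) = x at hcodim h2
  generalize ringKrullDim (A ⧸ Ideal.span ({a} : Set A)) = y at h1 h2
  induction x using WithBot.recBotCoe with
  | bot => simp at hcodim
  | coe x =>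
    induction x using ENat.recTopCoe with
    | top =>
      have : ((⊤ : ℕ∞) : WithBot ℕ∞) + 2 = ((⊤ : ℕ∞) : WithBot ℕ∞) := rfl
      rw [this] at hcodim
      exact absurd (WithBot.coe_injective hcodim) (by simp)
    | coe k =>
      have hkd : k + 2 = d := by
        have h : (((k + 2 : ℕ) : ℕ∞) : WithBot ℕ∞) = ((d : ℕ∞) : WithBot ℕ∞) := by
          push_cast
          exact hcodim
        exact_mod_cast WithBot.coe_injective h
      have h3 : ((d : ℕ∞) : WithBot ℕ∞) ≤ (((k + 1 : ℕ) : ℕ∞) : WithBot ℕ∞) := by
        refine h1.trans ?_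
        push_cast
        exact add_le_add_left h2 1
      have h4 : d ≤ k + 1 := by exact_mod_cast h3
      omega

lemma main_of_basis (A : Type u) [CommRing A] [IsRegularLocalRing A] (I : Ideal A)
    (hcodim : ringKrullDim (A ⧸ I) + 2 = ringKrullDim A)
    (n m : ℕ) (f : Fin n → A) (hf : Ideal.span (Set.range f) = I) (hn : n = I.spanFinrank)
    (b : Module.Basis (Fin m) A (LinearMap.ker (Fintype.linearCombination A f))) :
    ∃ (r : ℕ) (φ : Matrix (Fin (r + 1)) (Fin r) A),
      Ideal.span (Set.range (sm φ)) = I ∧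
      I.spanFinrank = r + 1 ∧
      Function.Injective φ.mulVecLin ∧
      LinearMap.range φ.mulVecLin = LinearMap.ker (Fintype.linearCombination A (sm φ)) := by
  classical
  let Ψ : Matrix (Fin n) (Fin m) A := Matrix.of fun i j =>
    ((b j : LinearMap.ker (Fintype.linearCombination A f)) : Fin n → A) i
  have hΨw : ∀ w : Fin m → A, Ψ.mulVec w =
      ((∑ j, w j • b j : LinearMap.ker (Fintype.linearCombination A f)) : Fin n → A) := by
    intro w
    funext i
    simp only [Matrix.mulVec, dotProduct, Ψ, Matrix.of_apply, Submodule.coe_sum,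
      Submodule.coe_smul, Finset.sum_apply, Pi.smul_apply, smul_eq_mul]
    refine Finset.sum_congr rfl fun j _ => mul_comm _ _
  have hΨinj : Function.Injective Ψ.mulVecLin := by
    rw [← LinearMap.ker_eq_bot, eq_bot_iff]
    intro w hw
    rw [LinearMap.mem_ker, Matrix.mulVecLin_apply, hΨw] at hw
    have h1 : (∑ j, w j • b j : LinearMap.ker (Fintype.linearCombination A f)) = 0 :=
      Subtype.ext hw
    have h2 := Fintype.linearIndependent_iff.1 b.linearIndependent w h1
    rw [Submodule.mem_bot]
    exact funext h2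
  have hΨ : LinearMap.ker Ψ.mulVecLin = ⊥ := LinearMap.ker_eq_bot.2 hΨinj
  have hex : LinearMap.ker (Fintype.linearCombination A f) = LinearMap.range Ψ.mulVecLin := by
    ext x
    constructor
    · intro hx
      refine ⟨b.repr ⟨x, hx⟩, ?_⟩
      rw [Matrix.mulVecLin_apply, hΨw, b.sum_repr]
    · rintro ⟨w, rfl⟩
      rw [Matrix.mulVecLin_apply, hΨw]
      exact (∑ j, w j • b j : LinearMap.ker (Fintype.linearCombination A f)).2
  have hrange : LinearMap.range (Fintype.linearCombination A f) = I := by
    rw [Fintype.range_linearCombination]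
    exact hf
  have hIne : I ≠ ⊥ := by
    rintro rfl
    have h1 : IsUnit (0 : A) := isUnit_of_le A ⊥ hcodim 0 bot_le
    exact not_isUnit_zero h1
  have hI : LinearMap.range (Fintype.linearCombination A f) ≠ ⊥ := by rw [hrange]; exact hIne
  obtain ⟨hnm, -, -⟩ := Groth.Agent.S12907.result m n Ψ _ hΨ hex hI
  subst hnm
  obtain ⟨a, ha⟩ := hb_factor m Ψ _ hΨinj hex
  have hfa : ∀ i, f i = a * sm Ψ i := by
    intro i
    have := ha (Pi.single i 1)
    rw [Fintype.linearCombination_apply_single, Fintype.linearCombination_apply_single,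
      one_smul, one_smul] at this
    exact this
  have hIa : I ≤ Ideal.span {a} := by
    rw [← hf, Ideal.span_le]
    rintro _ ⟨i, rfl⟩
    rw [hfa]
    exact Ideal.mem_span_singleton.2 (dvd_mul_right _ _)
  obtain ⟨u, rfl⟩ := isUnit_of_le A I hcodim a hIa
  refine ⟨m, Ψ, ?_, hn.symm, hΨinj, ?_⟩
  · rw [← hf]
    apply le_antisymm
    · rw [Ideal.span_le]
      rintro _ ⟨i, rfl⟩
      have : sm Ψ i = (↑u⁻¹ : A) * f i := by
        rw [hfa, ← mul_assoc, Units.inv_mul, one_mul]
      rw [this]
      exact Ideal.mul_mem_left _ _ (Ideal.subset_span ⟨i, rfl⟩)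
    · rw [Ideal.span_le]
      rintro _ ⟨i, rfl⟩
      rw [hfa]
      exact Ideal.mul_mem_left _ _ (Ideal.subset_span ⟨i, rfl⟩)
  · rw [← hex]
    ext v
    rw [LinearMap.mem_ker, LinearMap.mem_ker, ha v]
    constructor
    · intro h
      have := congrArg (fun z => (↑u⁻¹ : A) * z) h
      simpa [← mul_assoc] using this
    · intro h; rw [h, mul_zero]


/-- Let A be a regular local ring and I an ideal such that A/I is a Cohen–Macaulay local ring whose
Krull dimension is dim A − 2. Then for some r there is an (r+1) × r matrix φ with entries in A such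
that, writing f_i for (−1)^i times the determinant of φ with its i-th row removed (i = 0, …, r), the
elements f_0, …, f_r generate I, no family of fewer than r + 1 elements generates I, multiplication
by φ is an injective map A^r → A^{r+1}, and the image of that map is exactly the kernel of the map
A^{r+1} → A sending v to Σ_i v_i f_i; together with A → A/I this is a free resolution 0 → A^r →
A^{r+1} → A → A/I → 0. -/
theorem result
    (A : Type u) [CommRing A] [IsRegularLocalRing A] (I : Ideal A)
    [LocCoh.IsCohenMacaulayLocalRing (A ⧸ I)]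
    (hcodim : ringKrullDim (A ⧸ I) + 2 = ringKrullDim A) :
    ∃ (r : ℕ) (φ : Matrix (Fin (r + 1)) (Fin r) A),
      Ideal.span (Set.range (fun i : Fin (r + 1) => (-1 : A) ^ (i : ℕ) * (φ.submatrix i.succAbove id).det)) = I ∧
      I.spanFinrank = r + 1 ∧
      Function.Injective φ.mulVecLin ∧
      LinearMap.range φ.mulVecLin =
        LinearMap.ker (Fintype.linearCombination A (fun i : Fin (r + 1) => (-1 : A) ^ (i : ℕ) * (φ.submatrix i.succAbove id).det)) := by
  classical
  have hpd := pd_le_two A I hcodim
  obtain ⟨s, hs1, hs2⟩ := Submodule.FG.exists_span_finset_card_eq_spanFinrank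
    (IsNoetherian.noetherian I)
  obtain ⟨n, f, hn, hf⟩ : ∃ (n : ℕ) (f : Fin n → A), n = I.spanFinrank ∧
      Ideal.span (Set.range f) = I := by
    refine ⟨s.card, fun i => (s.equivFin.symm i : A), hs1, ?_⟩
    rw [← hs2]
    congr 1
    ext x
    constructor
    · rintro ⟨i, rfl⟩
      exact (s.equivFin.symm i).2
    · intro hx
      exact ⟨s.equivFin ⟨x, hx⟩, by simp⟩
  haveI := free_ker A I hpd n f hf
  exact main_of_basis A I hcodim n _ f hf hn
    (Module.finBasis A (LinearMap.ker (Fintype.linearCombination A f)))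

end Groth.Agent.S11449
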