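import Groth.Statements.S6313
import Mathlib
import Groth.Agent.Lib.Helper21.TorShift

set_option autoImplicit false
universe u
open CategoryTheory
open CAlg

namespace Groth.Agent.S6313

section helpers
open Groth.Agent.Lib.Helper21.TorShift TensorProduct CategoryTheory

theorem key (R : Type u) [CommRing R] (M : Type u) [AddCommGroup M] [Module R M] (I : Ideal R) :
    Limits.IsZero (((CategoryTheory.Tor (ModuleCat.{u} R) 1).obj (ModuleCat.of R M)).obj
      (ModuleCat.of R (R ⧸ I))) ↔ Function.Injective (LinearMap.lTensor M I.subtype) := by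
  have : Projective (ModuleCat.of R R) := (IsProjective.iff_projective R).1 inferInstance
  exact isZero_tor_one_iff (ModuleCat.of R M) (ModuleCat.ofHom I.subtype) (ModuleCat.ofHom I.mkQ) _
    (shortExact_of I.subtype I.mkQ I.injective_subtype (LinearMap.exact_subtype_mkQ I)
      I.mkQ_surjective)

theorem main (R : Type u) [CommRing R] (M : Type u) [AddCommGroup M] [Module R M] :
    Module.Flat R M ↔ ∀ I : Ideal R, I.FG →
      Limits.IsZero (((CategoryTheory.Tor (ModuleCat.{u} R) 1).obj (ModuleCat.of R M)).obj
        (ModuleCat.of R (R ⧸ I))) := by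
  rw [Module.Flat.iff_lTensor_injective]
  constructor
  · intro h I hI
    exact (key R M I).2 (h hI)
  · intro h I hI
    exact (key R M I).1 (h I hI)

end helpers


/-- For a ring R and an R-module M, flatness of M over R is equivalent to the vanishing of Tor₁ᴿ(M, R/I)
for every finitely generated ideal I ⊆ R. -/
theorem result (R : Type u) [CommRing R] (M : Type u) [AddCommGroup M] [Module R M] : Module.Flat R M ↔ ∀ I : Ideal R, I.FG → Limits.IsZero (((CategoryTheory.Tor (ModuleCat.{u} R) 1).obj (ModuleCat.of R M)).obj (ModuleCat.of R (R ⧸ I))) := by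
  exact main R M

end Groth.Agent.S6313
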