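import Groth.Statements.S11450
import Mathlib
import Groth.Agent.Lib.Helper21.TorLES
import Groth.Agent.S6313

set_option autoImplicit false
universe u
open CategoryTheory
open DefT

namespace Groth.Agent.S11450

section helpers
open Groth.Agent.Lib.Helper21.TorLES CategoryTheory CategoryTheory.Limits

abbrev T1 (A : Type u) [CommRing A] (M N : Type u) [AddCommGroup M] [Module A M]
    [AddCommGroup N] [Module A N] : Prop :=
  Limits.IsZero (((CategoryTheory.Tor (ModuleCat.{u} A) 1).obj (ModuleCat.of A M)).obj
    (ModuleCat.of A N))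

theorem tor_fg (A : Type u) [CommRing A] [IsNoetherianRing A] (M : Type u) [AddCommGroup M]
    [Module A M]
    (h : ∀ p : Ideal A, p.IsPrime → T1 A M (A ⧸ p))
    (N : Type u) [AddCommGroup N] [Module A N] (hN : Module.Finite A N) : T1 A M N := by
  induction hN using IsNoetherianRing.induction_on_isQuotientEquivQuotientPrime with
  | subsingleton N =>
    have : Module.Flat A (ModuleCat.of A N) := by
      change Module.Flat A N
      infer_instance
    exact isZero_tor_succ_of_flat_right 0 (ModuleCat.of A M) (ModuleCat.of A N)
  | quotient N p e =>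
    refine IsZero.of_iso (h p.1 p.2) ?_
    exact ((CategoryTheory.Tor (ModuleCat.{u} A) 1).obj (ModuleCat.of A M)).mapIso e.toModuleIso
  | exact N₁ N₂ N₃ f g hf hg hfg h1 h3 =>
    have hS : (ShortComplex.mk (ModuleCat.ofHom f) (ModuleCat.ofHom g)
        (by ext x; exact hfg.apply_apply_eq_zero x)).ShortExact :=
      ModuleCat.shortComplex_shortExact _ hfg hf hg
    exact isZero_tor_mid_right _ _ _ hS (ModuleCat.of A M) 1 h1 h3

theorem main (A : Type u) [CommRing A]
    [IsNoetherianRing A] (M : Type u) [AddCommGroup M] [Module A M] :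
    Module.Flat A M ↔ ∀ p : Ideal A, p.IsPrime →
      Limits.IsZero (((CategoryTheory.Tor (ModuleCat.{u} A) 1).obj (ModuleCat.of A M)).obj
        (ModuleCat.of A (A ⧸ p))) := by
  constructor
  · intro hM p _
    let P := ProjectiveResolution.of (ModuleCat.of A (A ⧸ p))
    have : Module.Flat A (ModuleCat.of A M) := hM
    refine IsZero.of_iso ?_ (P.isoLeftDerivedObj
      ((MonoidalCategory.tensoringLeft (ModuleCat.{u} A)).obj (ModuleCat.of A M)) 1)
    exact isZero_H_succ_of_flat (ModuleCat.of A M) P 0
  · intro h
    rw [Module.Flat.iff_lTensor_injective']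
    intro I
    rw [← Groth.Agent.S6313.key A M I]
    exact tor_fg A M h (A ⧸ I) inferInstance

end helpers


/-- A module M over a Noetherian commutative ring A is flat if and only if Tor_1^A(M, A/p) vanishes for
every prime ideal p of A. -/
theorem result (A : Type u) [CommRing A]
    [IsNoetherianRing A] (M : Type u) [AddCommGroup M] [Module A M] :
    Module.Flat A M ↔ ∀ p : Ideal A, p.IsPrime →
      Limits.IsZero (((CategoryTheory.Tor (ModuleCat.{u} A) 1).obj (ModuleCat.of A M)).obj (ModuleCat.of A (A ⧸ p))) := by
  exact main A M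

end Groth.Agent.S11450
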