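import Groth.Statements.S9443
import Groth.Agent.Lib.Helper1.RegPS
import Groth.Agent.Lib.Helper1.ArtFunPresent
import Groth.Agent.Lib.Helper1.ArtFunObsPS

set_option autoImplicit false
universe u
open CAlg

namespace Groth.Agent.S9443

/-- A complete regular local ring R with a coefficient field k (a subfield mapping isomorphically onto
the residue field) is k-isomorphic to a power series ring over k in finitely many variables
(existence of an isomorphism only; the number of variables is then the dimension of R). -/
theorem result (R : Type u)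
    [CommRing R] [IsRegularLocalRing R] [IsAdicComplete (IsLocalRing.maximalIdeal R) R]
    (k : Type u) [Field k] [Algebra k R]
    (hk : Function.Bijective (algebraMap k (IsLocalRing.ResidueField R))) :
    ∃ d : ℕ, Nonempty (R ≃ₐ[k] MvPowerSeries (Fin d) k) := by
  classical
  let e : k ≃ₐ[k] IsLocalRing.ResidueField R :=
    AlgEquiv.ofBijective (Algebra.ofId k (IsLocalRing.ResidueField R)) hk
  let res : R →ₐ[k] k := (e.symm : IsLocalRing.ResidueField R →ₐ[k] k).comp
    (IsScalarTower.toAlgHom k R (IsLocalRing.ResidueField R))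
  have hres : Function.Surjective res :=
    e.symm.surjective.comp IsLocalRing.residue_surjective
  let Rc : ArtFun.CRing k k :=
    { carrier := R
      res := res
      res_surjective := hres
      isAdicComplete := inferInstance }
  obtain ⟨d, π, -, hπ, -, hker⟩ :=
    Groth.Agent.Lib.Helper1.ArtFunPresent.exists_presentation'
      Groth.Agent.Lib.Helper1.ArtFunObsPS.hsurj_id Rc
  have hker' : RingHom.ker π ≤ IsLocalRing.maximalIdeal (MvPowerSeries (Fin d) k) ^ 2 := by
    refine hker.trans ?_
    rw [IsLocalRing.maximalIdeal_eq_bot, Ideal.map_bot, sup_bot_eq]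
  have hπ' : Function.Surjective (π : MvPowerSeries (Fin d) k →+* R) := hπ
  have hemb := Groth.Agent.Lib.Helper1.RegBounds.spanFinrank_maximalIdeal_eq_of_ker_le_sq
    (π : MvPowerSeries (Fin d) k →+* R) hπ' hker'
  have hP : ringKrullDim (MvPowerSeries (Fin d) k) =
      ((IsLocalRing.maximalIdeal (MvPowerSeries (Fin d) k)).spanFinrank : WithBot ℕ∞) :=
    (IsRegularLocalRing.spanFinrank_maximalIdeal).symm
  have hR : ringKrullDim R =
      ((IsLocalRing.maximalIdeal (MvPowerSeries (Fin d) k)).spanFinrank : WithBot ℕ∞) := by
    rw [hemb]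
    exact (IsRegularLocalRing.spanFinrank_maximalIdeal).symm
  haveI : IsDomain (MvPowerSeries (Fin d) k) := NoZeroDivisors.to_isDomain _
  have hinj := Groth.Agent.Lib.Helper1.RegPS.injective_of_ringKrullDim_eq
    (π : MvPowerSeries (Fin d) k →+* R) hπ' _ hP hR
  exact ⟨d, ⟨(AlgEquiv.ofBijective π ⟨hinj, hπ⟩).symm⟩⟩

end Groth.Agent.S9443
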