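import Groth.Statements.S11451
import Groth.Agent.S12324
import Groth.Agent.S9443
import Groth.Agent.S0548
import Groth.Agent.Lib.Helper1.PSRing
import Groth.Agent.Lib.Helper1.ArtFunPullback

set_option autoImplicit false
universe u
open DefT

namespace Groth.Agent.S11451

open IsLocalRing ArtFun

section Aux

variable {k : Type u} [Field k] {A : Type u} [CommRing A] [IsLocalRing A] [Algebra k A]

/-- The augmentation of a local algebra with residue field `k`. -/
noncomputable def augm (hres : Function.Surjective (algebraMap k (ResidueField A))) : A →ₐ[k] k :=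
  ((AlgEquiv.ofBijective (Algebra.ofId k (ResidueField A))
    ⟨(algebraMap k (ResidueField A)).injective, hres⟩).symm : ResidueField A →ₐ[k] k).comp
    (IsScalarTower.toAlgHom k A (ResidueField A))

/-- From the lifting property to regularity. -/
theorem regular_of_lift [Algebra.EssFiniteType k A]
    (hres : Function.Surjective (algebraMap k (ResidueField A)))
    (h : ∀ (B' : Type u) [CommRing B'] [IsLocalRing B'] [Algebra k B'] [Module.Finite k B']
        (J : Ideal B'), J ^ 2 = ⊥ → ∀ f : A →ₐ[k] B' ⧸ J,
          ∃ g : A →ₐ[k] B', (Ideal.Quotient.mkₐ k J).comp g = f) :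
    IsRegularLocalRing A := by
  haveI : IsNoetherianRing A := Algebra.EssFiniteType.isNoetherianRing k A
  let res := augm (A := A) hres
  let T : ObsTheory (hR A res) PUnit.{u + 1} :=
    { obs := fun _ _ _ => 0
      obs_eq_zero_iff := fun {C' C} p hp u => by
        refine ⟨fun _ => ?_, fun _ => rfl⟩
        haveI : Module.Finite k C' := Groth.Agent.Lib.Helper1.ArtFunPullback.finite C'
        have hJ2 : RingHom.ker p.toAlgHom ^ 2 = ⊥ := by
          rw [eq_bot_iff, pow_two, ← hp.2]
          exact Ideal.mul_mono_left (Groth.Agent.Lib.Helper1.ArtFunBasic.ker_le_maximalIdeal p)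
        let e : (C' ⧸ RingHom.ker p.toAlgHom) ≃ₐ[k] C :=
          Ideal.quotientKerAlgEquivOfSurjective (f := p.toAlgHom) hp.1
        obtain ⟨g, hg⟩ := h C' (RingHom.ker p.toAlgHom) hJ2
          ((e.symm : C →ₐ[k] _).comp (u : HomSet A res C).1)
        have hpg : p.toAlgHom.comp g = (u : HomSet A res C).1 := by
          apply AlgHom.ext
          intro a
          have := AlgHom.congr_fun hg a
          change Ideal.Quotient.mk _ (g a) = e.symm ((u : HomSet A res C).1 a) at this
          have h2 := congrArg e this
          rw [AlgEquiv.apply_symm_apply] at h2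
          exact h2
        refine ⟨(⟨g, ?_⟩ : HomSet A res C'), Subtype.ext hpg⟩
        rw [← p.res_comp, AlgHom.comp_assoc, hpg]
        exact (u : HomSet A res C).2
      obs_quot := fun p hp K hK hKJ hq u => by
        rw [map_zero] }
  have := Groth.Agent.S12324.result k A res PUnit.{u + 1} T
  exact this.2.2.1 (Module.finrank_zero_of_subsingleton)

/-- From regularity to the lifting property. -/
theorem lift_of_regular [IsAlgClosed k] [IsRegularLocalRing A]
    (hres : Function.Surjective (algebraMap k (ResidueField A)))
    (B' : Type u) [CommRing B'] [IsLocalRing B'] [Algebra k B'] [Module.Finite k B']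
    (J : Ideal B') (hJ2 : J ^ 2 = ⊥) (f : A →ₐ[k] B' ⧸ J) :
    ∃ g : A →ₐ[k] B', (Ideal.Quotient.mkₐ k J).comp g = f := by
  classical
  by_cases hJ : J = ⊤
  · -- the quotient is the zero ring
    haveI : Subsingleton (B' ⧸ J) := by
      rw [hJ]; exact Ideal.Quotient.subsingleton_iff.2 rfl
    exact ⟨(Algebra.ofId k B').comp (augm (A := A) hres), AlgHom.ext fun a => Subsingleton.elim _ _⟩
  · have hJm : J ≤ maximalIdeal B' := le_maximalIdeal hJ
    haveI : Nontrivial (B' ⧸ J) := Ideal.Quotient.nontrivial_iff.2 hJ
    haveI : IsLocalRing (B' ⧸ J) :=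
      IsLocalRing.of_surjective' (Ideal.Quotient.mk J) Ideal.Quotient.mk_surjective
    haveI : IsLocalHom (Ideal.Quotient.mk J) :=
      (Ideal.Quotient.mk_surjective (I := J)).isLocalHom _
    haveI : IsArtinianRing B' := IsArtinianRing.of_finite k B'
    -- `f` maps the maximal ideal into the maximal ideal
    have hfm : ∀ x ∈ maximalIdeal A, f x ∈ maximalIdeal (B' ⧸ J) := by
      intro x hx
      let χ : A →ₐ[k] ResidueField (B' ⧸ J) :=
        (IsScalarTower.toAlgHom k (B' ⧸ J) (ResidueField (B' ⧸ J))).comp f
      haveI : Algebra.IsIntegral k (ResidueField (B' ⧸ J)) := Algebra.IsIntegral.of_finite k _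
      have hbij : Function.Bijective (algebraMap k (ResidueField (B' ⧸ J))) :=
        IsAlgClosed.algebraMap_bijective_of_isIntegral
      have hχs : Function.Surjective χ := fun y => by
        obtain ⟨c, rfl⟩ := hbij.2 y
        exact ⟨algebraMap k A c, χ.commutes c⟩
      have hmax : (RingHom.ker (χ : A →+* ResidueField (B' ⧸ J))).IsMaximal :=
        RingHom.ker_isMaximal_of_surjective _ hχs
      have hker := IsLocalRing.eq_maximalIdeal hmax
      have hx' : x ∈ RingHom.ker (χ : A →+* ResidueField (B' ⧸ J)) := by rw [hker]; exact hx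
      have : residue (B' ⧸ J) (f x) = 0 := hx'
      exact (residue_eq_zero_iff _).1 this
    -- the completion
    haveI hregÂ : IsRegularLocalRing (AdicCompletion (maximalIdeal A) A) :=
      (Groth.Agent.S0548.result A).1 inferInstance
    haveI : IsScalarTower k A (AdicCompletion (maximalIdeal A) A) :=
      IsScalarTower.of_algebraMap_eq (fun _ => rfl)
    have hk' : Function.Bijective
        (algebraMap k (ResidueField (AdicCompletion (maximalIdeal A) A))) := by
      have e : ⇑(algebraMap k (ResidueField (AdicCompletion (maximalIdeal A) A))) =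
          ⇑(ResidueField.map (algebraMap A (AdicCompletion (maximalIdeal A) A))) ∘
            ⇑(algebraMap k (ResidueField A)) := by
        funext c; rfl
      rw [e]
      exact (AdicCompletion.residueField_map_bijective A).comp
        ⟨(algebraMap k (ResidueField A)).injective, hres⟩
    obtain ⟨d, ⟨e⟩⟩ := Groth.Agent.S9443.result (AdicCompletion (maximalIdeal A) A) k hk'
    -- nilpotency
    obtain ⟨N, hN⟩ := (isArtinianRing_iff_isNilpotent_maximalIdeal (B' ⧸ J)).1 inferInstance
    obtain ⟨N', hN'⟩ := (isArtinianRing_iff_isNilpotent_maximalIdeal B').1 inferInstance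
    have hnilC : ∀ y ∈ maximalIdeal (B' ⧸ J), IsNilpotent y := fun y hy =>
      ⟨N, by
        have := Ideal.pow_mem_pow hy N
        rwa [hN, Ideal.zero_eq_bot, Ideal.mem_bot] at this⟩
    have hnilB : ∀ y ∈ maximalIdeal B', IsNilpotent y := fun y hy =>
      ⟨N', by
        have := Ideal.pow_mem_pow hy N'
        rwa [hN', Ideal.zero_eq_bot, Ideal.mem_bot] at this⟩
    have hkill : ∀ a ∈ maximalIdeal A ^ N, f a = 0 := by
      intro a ha
      have h1 : Ideal.map (f : A →+* B' ⧸ J) (maximalIdeal A) ≤ maximalIdeal (B' ⧸ J) := by
        rw [Ideal.map_le_iff_le_comap]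
        exact fun x hx => hfm x hx
      have h2 : (f : A →+* B' ⧸ J) a ∈ Ideal.map (f : A →+* B' ⧸ J) (maximalIdeal A ^ N) :=
        Ideal.mem_map_of_mem _ ha
      rw [Ideal.map_pow] at h2
      have h3 := Ideal.pow_right_mono h1 N h2
      rwa [hN, Ideal.zero_eq_bot, Ideal.mem_bot] at h3
    let fbar : (A ⧸ maximalIdeal A ^ N) →ₐ[k] B' ⧸ J :=
      Ideal.Quotient.liftₐ (maximalIdeal A ^ N) f hkill
    let F : AdicCompletion (maximalIdeal A) A →ₐ[k] B' ⧸ J :=
      fbar.comp ((AdicCompletion.evalₐ (maximalIdeal A) N).restrictScalars k)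
    have hFι : ∀ a : A, F (algebraMap A _ a) = f a := by
      intro a
      change fbar (AdicCompletion.evalₐ (maximalIdeal A) N (AdicCompletion.of _ _ a)) = f a
      rw [AdicCompletion.evalₐ_of]
      rfl
    have hFm : ∀ y ∈ maximalIdeal (AdicCompletion (maximalIdeal A) A),
        F y ∈ maximalIdeal (B' ⧸ J) := by
      have h1 : Ideal.map (algebraMap A (AdicCompletion (maximalIdeal A) A)) (maximalIdeal A) ≤
          Ideal.comap (F : AdicCompletion (maximalIdeal A) A →+* B' ⧸ J)
            (maximalIdeal (B' ⧸ J)) := by
        rw [Ideal.map_le_iff_le_comap]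
        intro a ha
        rw [Ideal.mem_comap, Ideal.mem_comap]
        change F (algebraMap A _ a) ∈ _
        rw [hFι]
        exact hfm a ha
      intro y hy
      rw [AdicCompletion.maximalIdeal_eq_map] at hy
      exact h1 hy
    have htm : ∀ i : Fin d, e.symm (MvPowerSeries.X i) ∈
        maximalIdeal (AdicCompletion (maximalIdeal A) A) := by
      intro i hu
      have := hu.map e
      rw [AlgEquiv.apply_symm_apply] at this
      exact Groth.Agent.Lib.Helper1.PSDecomp.X_mem_maximalIdeal i this
    have hb' : ∀ i : Fin d, ∃ b : B', Ideal.Quotient.mk J b = F (e.symm (MvPowerSeries.X i)) :=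
      fun i => Ideal.Quotient.mk_surjective _
    choose b hb using hb'
    have hbm : ∀ i, b i ∈ maximalIdeal B' := by
      intro i hu
      have h1 := hFm _ (htm i)
      rw [← hb i] at h1
      exact h1 (hu.map _)
    let G : MvPowerSeries (Fin d) k →ₐ[k] B' :=
      Groth.Agent.Lib.Helper1.PSRing.evalNil (Λ := k) b (fun i => hnilB _ (hbm i))
    have hGX : ∀ i, G (MvPowerSeries.X i) = b i :=
      Groth.Agent.Lib.Helper1.PSRing.evalNil_X (Λ := k) b (fun i => hnilB _ (hbm i))
    have hkey : (Ideal.Quotient.mkₐ k J).comp G =
        F.comp (e.symm : MvPowerSeries (Fin d) k →ₐ[k] _) := by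
      apply Groth.Agent.Lib.Helper1.PSRing.algHom_ext_X
      · intro i
        change Ideal.Quotient.mk J (G (MvPowerSeries.X i)) = F (e.symm (MvPowerSeries.X i))
        rw [hGX, hb]
      · intro i
        change IsNilpotent (Ideal.Quotient.mk J (G (MvPowerSeries.X i)))
        rw [hGX, hb]
        exact hnilC _ (hFm _ (htm i))
    refine ⟨(G.comp (e : AdicCompletion (maximalIdeal A) A →ₐ[k] _)).comp
      (IsScalarTower.toAlgHom k A (AdicCompletion (maximalIdeal A) A)), ?_⟩
    apply AlgHom.ext
    intro a
    have := AlgHom.congr_fun hkey (e (algebraMap A _ a))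
    change Ideal.Quotient.mk J (G (e (algebraMap A _ a))) = F (e.symm (e (algebraMap A _ a))) at this
    rw [AlgEquiv.symm_apply_apply, hFι] at this
    exact this

end Aux

/-- Let k be an algebraically closed field and A a local k-algebra essentially of finite type over k
with residue field k. Then regularity of A as a local ring is equivalent to the following: for every
local k-algebra B' of finite dimension over k, every ideal J of B' of square zero and every
k-algebra homomorphism f : A → B'/J, there is a k-algebra homomorphism g : A → B' lifting f. (Local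
k-algebras of finite k-dimension are exactly the local Artin rings finite over k; lifting against
square-zero kernels is equivalent to lifting against nilpotent ones by induction.) -/
theorem result (k : Type u) [Field k] [IsAlgClosed k]
    (A : Type u) [CommRing A] [IsLocalRing A] [Algebra k A] [Algebra.EssFiniteType k A]
    (hres : Function.Surjective (algebraMap k (IsLocalRing.ResidueField A))) :
    IsRegularLocalRing A ↔
      ∀ (B' : Type u) [CommRing B'] [IsLocalRing B'] [Algebra k B'] [Module.Finite k B']
        (J : Ideal B'), J ^ 2 = ⊥ → ∀ f : A →ₐ[k] B' ⧸ J,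
          ∃ g : A →ₐ[k] B', (Ideal.Quotient.mkₐ k J).comp g = f := by
  constructor
  · intro hreg B' _ _ _ _ J hJ2 f
    exact lift_of_regular hres B' J hJ2 f
  · intro h
    exact regular_of_lift hres h

end Groth.Agent.S11451
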