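import Groth.Statements.S11452
import Mathlib
import Groth.Agent.Lib.Helper12.TrivDefD
import Groth.Agent.Lib.Helper5.RegSmoothGlobal

set_option autoImplicit false
universe u
open CategoryTheory AlgebraicGeometry
open DefT

namespace Groth.Agent.S11452

/-- Let k be an algebraically closed field, X an affine scheme of finite type over k whose local rings
are all regular, A a local Artin k-algebra with a k-algebra augmentation e : A → k, and g : X' →
Spec A a flat morphism whose fibre over the k-point Spec k → Spec A given by e is X (with its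
structure map to Spec k). Then there is an isomorphism from X' to the trivial deformation X ×_{Spec
k} Spec A compatible with the projections to Spec A. -/
theorem result (k : Type u) [Field k]
    [IsAlgClosed k] (X : Scheme.{u}) (hX : X ⟶ Spec (CommRingCat.of k)) [IsAffine X]
    [LocallyOfFiniteType hX] (hreg : ∀ x : X, IsRegularLocalRing (X.presheaf.stalk x))
    (A : Type u) [CommRing A] [IsLocalRing A] [IsArtinianRing A] [Algebra k A] (e : A →ₐ[k] k)
    (X' : Scheme.{u}) (g : X' ⟶ Spec (CommRingCat.of A)) [Flat g] (i : X ⟶ X')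
    (hsq : IsPullback i hX g (Spec.map (CommRingCat.ofHom e.toRingHom))) :
    ∃ φ : X' ≅ Limits.pullback hX (Spec.map (CommRingCat.ofHom (algebraMap k A))),
      φ.hom ≫ Limits.pullback.snd hX (Spec.map (CommRingCat.ofHom (algebraMap k A))) = g := by
  have hlN : IsLocallyNoetherian X := LocallyOfFiniteType.isLocallyNoetherian hX
  -- nilpotency of `ker e`
  have hnil : IsNilpotent (RingHom.ker e) := by
    have h1 : IsNilpotent (IsLocalRing.maximalIdeal A) := by
      have := IsArtinianRing.isNilpotent_jacobson_bot (R := A)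
      rwa [IsLocalRing.jacobson_eq_maximalIdeal ⊥ bot_ne_top] at this
    obtain ⟨n, hn⟩ := h1
    refine ⟨n, ?_⟩
    have hle : RingHom.ker e ≤ IsLocalRing.maximalIdeal A :=
      IsLocalRing.le_maximalIdeal (RingHom.ker_ne_top _)
    have := Ideal.pow_right_mono hle n
    rw [hn] at this
    exact le_bot_iff.mp this
  -- formal smoothness of the coordinate ring
  have hsm : RingHom.FormallySmooth
      ((Scheme.ΓSpecIso (CommRingCat.of k)).inv ≫ hX.appTop).hom := by
    letI alg : Algebra k Γ(X, ⊤) :=
      ((Scheme.ΓSpecIso (CommRingCat.of k)).inv ≫ hX.appTop).hom.toAlgebra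
    have hft : Algebra.FiniteType k Γ(X, ⊤) := by
      have h1 : hX.appTop.hom.FiniteType :=
        (HasRingHomProperty.iff_of_isAffine (P := @LocallyOfFiniteType)).mp inferInstance
      have h2 : (Scheme.ΓSpecIso (CommRingCat.of k)).inv.hom.FiniteType :=
        RingHom.FiniteType.of_surjective _
          (ConcreteCategory.bijective_of_isIso (Scheme.ΓSpecIso (CommRingCat.of k)).inv).2
      exact RingHom.FiniteType.comp h1 h2
    have hreg' : IsRegularRing Γ(X, ⊤) := by
      have hU : IsAffineOpen (⊤ : X.Opens) := isAffineOpen_top X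
      have : IsNoetherianRing Γ(X, ⊤) :=
        IsLocallyNoetherian.component_noetherian ⟨⊤, hU⟩
      rw [isRegularRing_iff]
      intro p hp
      have hy : hU.fromSpec ⟨p, hp⟩ ∈ (⊤ : X.Opens) := trivial
      let _ := TopCat.Presheaf.algebra_section_stalk X.presheaf ⟨hU.fromSpec ⟨p, hp⟩, hy⟩
      have loc : IsLocalization p.primeCompl (X.presheaf.stalk (hU.fromSpec ⟨p, hp⟩)) :=
        hU.isLocalization_stalk' ⟨p, hp⟩ hy
      have := hreg (hU.fromSpec ⟨p, hp⟩)
      exact IsRegularLocalRing.of_ringEquiv (IsLocalization.algEquiv p.primeCompl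
        (X.presheaf.stalk (hU.fromSpec ⟨p, hp⟩)) (Localization.AtPrime p)).toRingEquiv
    have hS : Algebra.Smooth k Γ(X, ⊤) :=
      Groth.Agent.Lib.Helper5.RegSmoothCore.smooth_of_isRegularRing k Γ(X, ⊤)
    exact hS.1
  obtain ⟨φ, h1, -⟩ := Groth.Agent.Lib.Helper12.TrivDef.exists_iso_trivial k X hX hsm A e hnil
    X' g i hsq
  exact ⟨φ, h1⟩

end Groth.Agent.S11452
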