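import Groth.Statements.S13133
import Mathlib
import Groth.Agent.Lib.Helper21.FlatKit5

set_option autoImplicit false
universe u v
open CAlg

namespace Groth.Agent.S13133

section helpers
open Groth.Agent.Lib.Helper21.FlatKit

variable {A' : Type u} [CommRing A'] [IsArtinianRing A'] [IsLocalRing A'] (I : Ideal A')
variable {S' : Type v} [CommRing S'] [Algebra A' S']

theorem isNilpotent_of_ne_top (hI : I ≠ ⊤) : IsNilpotent I := by
  obtain ⟨n, hn⟩ := isNilpotent_maximalIdeal (A := A')
  refine ⟨n, ?_⟩
  rw [Ideal.zero_eq_bot, ← le_bot_iff, ← Ideal.zero_eq_bot, ← hn]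
  exact Ideal.pow_right_mono (IsLocalRing.le_maximalIdeal hI) n

theorem top_eq_iff (hI : I ≠ ⊤) (fs : List S') :
    (⊤ : Submodule S' S') = Ideal.ofList fs • ⊤ ↔
      (⊤ : Submodule S' (S' ⧸ ((I.map (algebraMap A' S')) • ⊤ : Submodule S' S'))) =
        Ideal.ofList fs • ⊤ := by
  set P : Submodule S' S' := (I.map (algebraMap A' S')) • ⊤ with hP
  have h1 : (Ideal.ofList fs • ⊤ : Submodule S' (S' ⧸ P)) =
      Submodule.map P.mkQ (Ideal.ofList fs • ⊤ : Submodule S' S') := by
    rw [Submodule.map_smul'', Submodule.map_top, Submodule.range_mkQ]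
  rw [h1]
  constructor
  · intro h
    rw [← h, Submodule.map_top, Submodule.range_mkQ]
  · intro h
    have h' : P ⊔ (Ideal.ofList fs • ⊤ : Submodule S' S') = ⊤ :=
      (Submodule.map_mkQ_eq_top _ _).1 h.symm
    have h2 : ((Ideal.ofList fs • ⊤ : Submodule S' S').restrictScalars A') ⊔
        I • (⊤ : Submodule A' S') = ⊤ := by
      rw [← smul_top_restrictScalars (B := S') S' I, ← hP]
      have := congrArg (Submodule.restrictScalars A') h'
      rw [sup_comm] at this
      rw [Submodule.restrictScalars_sup, Submodule.restrictScalars_top] at this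
      exact this
    have h3 := eq_top_of_sup_smul_of_isNilpotent I (isNilpotent_of_ne_top I hI) _ h2
    symm
    apply Submodule.restrictScalars_injective A'
    exact h3

end helpers



/-- Let A' be an Artinian local ring, I a proper ideal of A', S' a flat A'-algebra and f'_1, …, f'_n
elements of S' with n ≥ 1. A family f'_1, …, f'_n in S' is a regular sequence exactly when its
reduction modulo I·S' is a regular sequence of S'/IS'. (Regular sequences are defined in the
published text over Noetherian rings; this row does not assume S' Noetherian, which the argument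
does not use. The published statement is for a surjection of local Artinian algebras with a fixed
residue field over a ring of Witt vectors; only the Artinian local base and the proper ideal are
used, which is the form taken here.) -/
theorem result
    {A' : Type u} [CommRing A'] [IsArtinianRing A'] [IsLocalRing A'] (I : Ideal A') (hI : I ≠ ⊤)
    {S' : Type v} [CommRing S'] [Algebra A' S'] [Module.Flat A' S'] {n : ℕ} (hn : 1 ≤ n)
    (f' : Fin n → S') :
    RingTheory.Sequence.IsRegular S' (List.ofFn f') ↔
      RingTheory.Sequence.IsRegular (S' ⧸ I.map (algebraMap A' S'))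
        (List.ofFn fun i => Ideal.Quotient.mk (I.map (algebraMap A' S')) (f' i)) := by
  obtain ⟨h1, -⟩ := Groth.Agent.Lib.Helper21.FlatKit.isWeaklyRegular_iff_reduction I hI
    (List.ofFn f') S'
  have hA : RingTheory.Sequence.IsRegular S' (List.ofFn f') ↔
      RingTheory.Sequence.IsRegular
        (S' ⧸ ((I.map (algebraMap A' S')) • ⊤ : Submodule S' S')) (List.ofFn f') := by
    rw [RingTheory.Sequence.isRegular_iff, RingTheory.Sequence.isRegular_iff, h1,
      ne_eq, ne_eq, top_eq_iff I hI]
  rw [hA]
  have htop : ((I.map (algebraMap A' S')) • ⊤ : Submodule S' S') = I.map (algebraMap A' S') :=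
    Ideal.mul_top _
  let e : (S' ⧸ ((I.map (algebraMap A' S')) • ⊤ : Submodule S' S')) ≃+
      (S' ⧸ I.map (algebraMap A' S')) :=
    (Submodule.quotEquivOfEq _ _ htop).toAddEquiv
  apply AddEquiv.isRegular_congr (e := e)
  rw [List.forall₂_iff_get]
  refine ⟨by simp, fun i h₁ h₂ => ?_⟩
  intro x
  obtain ⟨b, rfl⟩ := Submodule.Quotient.mk_surjective _ x
  simp only [List.get_eq_getElem, List.getElem_ofFn]
  rfl

end Groth.Agent.S13133
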