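import Groth.Statements.S11454
import Mathlib
import Groth.Agent.Lib.Helper21.FlatKit5
import Groth.Agent.S13133

set_option autoImplicit false
universe u
open DefT

namespace Groth.Agent.S11454


/-- Let C' be a local Artin ring, J ⊊ C' a proper ideal annihilated by the maximal ideal, C = C'/J, A' a
flat C'-algebra whose reduction modulo the maximal ideal of C' is a Cohen–Macaulay local ring, and A
= A'/JA'. If a'_1, …, a'_r ∈ A' have images in A forming a regular sequence with A/(a_1, …, a_r)
flat over C, then a'_1, …, a'_r is a regular sequence on A' and A'/(a'_1, …, a'_r) is flat over C'.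
(Regular sequences stand in for the exactness of the Koszul complexes in the published statement;
over a Noetherian local ring with the elements in the maximal ideal the two are equivalent.) -/
theorem result (C' : Type u) [CommRing C'] [IsLocalRing C'] [IsArtinianRing C'] (J : Ideal C')
    (hJ : IsLocalRing.maximalIdeal C' * J = ⊥) (hJne : J ≠ ⊤) (A' : Type u) [CommRing A'] [Algebra C' A'] [Module.Flat C' A']
    [LocCoh.IsCohenMacaulayLocalRing (A' ⧸ (IsLocalRing.maximalIdeal C').map (algebraMap C' A'))]
    (r : ℕ) (a' : Fin r → A')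
    (hreg : RingTheory.Sequence.IsRegular (A' ⧸ J.map (algebraMap C' A'))
      (List.ofFn (fun i => Ideal.Quotient.mk (J.map (algebraMap C' A')) (a' i))))
    [Module.Flat (C' ⧸ J) ((A' ⧸ J.map (algebraMap C' A')) ⧸
      Ideal.span (Set.range (fun i => Ideal.Quotient.mk (J.map (algebraMap C' A')) (a' i))))] :
    RingTheory.Sequence.IsRegular A' (List.ofFn a') ∧ Module.Flat C' (A' ⧸ Ideal.span (Set.range a')) := by
  obtain ⟨h1, h2⟩ := Groth.Agent.Lib.Helper21.FlatKit.isWeaklyRegular_iff_reduction J hJne
    (List.ofFn a') A'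
  have hA : RingTheory.Sequence.IsRegular A' (List.ofFn a') ↔
      RingTheory.Sequence.IsRegular
        (A' ⧸ ((J.map (algebraMap C' A')) • ⊤ : Submodule A' A')) (List.ofFn a') := by
    rw [RingTheory.Sequence.isRegular_iff, RingTheory.Sequence.isRegular_iff, h1,
      ne_eq, ne_eq, Groth.Agent.S13133.top_eq_iff J hJne]
  have htop : ((J.map (algebraMap C' A')) • ⊤ : Submodule A' A') = J.map (algebraMap C' A') :=
    Ideal.mul_top _
  let e : (A' ⧸ ((J.map (algebraMap C' A')) • ⊤ : Submodule A' A')) ≃+
      (A' ⧸ J.map (algebraMap C' A')) :=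
    (Submodule.quotEquivOfEq _ _ htop).toAddEquiv
  have hB : RingTheory.Sequence.IsRegular
      (A' ⧸ ((J.map (algebraMap C' A')) • ⊤ : Submodule A' A')) (List.ofFn a') ↔
      RingTheory.Sequence.IsRegular (A' ⧸ J.map (algebraMap C' A'))
        (List.ofFn (fun i => Ideal.Quotient.mk (J.map (algebraMap C' A')) (a' i))) := by
    apply AddEquiv.isRegular_congr (e := e)
    rw [List.forall₂_iff_get]
    refine ⟨by simp, fun i h₁ h₂ => ?_⟩
    intro x
    obtain ⟨b, rfl⟩ := Submodule.Quotient.mk_surjective _ x
    simp only [List.get_eq_getElem, List.getElem_ofFn]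
    rfl
  have hR : RingTheory.Sequence.IsRegular A' (List.ofFn a') := hA.2 (hB.2 hreg)
  refine ⟨hR, ?_⟩
  have hflat := h2 hR.toIsWeaklyRegular
  have hspan : (Ideal.ofList (List.ofFn a') • ⊤ : Submodule A' A') = Ideal.span (Set.range a') := by
    have : Ideal.ofList (List.ofFn a') = Ideal.span (Set.range a') := by
      unfold Ideal.ofList
      congr 1
      ext x
      simp [List.mem_ofFn]
    rw [this]
    exact Ideal.mul_top _
  exact Module.Flat.of_linearEquiv
    ((Submodule.quotEquivOfEq _ _ hspan).restrictScalars C').symm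

end Groth.Agent.S11454
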