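import Groth.Statements.S11456
import Mathlib
import Groth.Agent.Lib.Helper21.FlatKit5
import Groth.Agent.S13133
import Groth.Agent.S13134

set_option autoImplicit false
universe u
open DefT

namespace Groth.Agent.S11456

/-- lifts of a regular sequence modulo a proper ideal of an Artinian local base are regular. -/
theorem isRegular_of_reduction (C' : Type u) [CommRing C'] [IsLocalRing C'] [IsArtinianRing C'] (J : Ideal C')
    (hJne : J ≠ ⊤) (A' : Type u) [CommRing A'] [Algebra C' A'] [Module.Flat C' A']
    (r : ℕ) (a' : Fin r → A')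
    (hreg : RingTheory.Sequence.IsRegular (A' ⧸ J.map (algebraMap C' A'))
      (List.ofFn (fun i => Ideal.Quotient.mk (J.map (algebraMap C' A')) (a' i)))) :
    RingTheory.Sequence.IsRegular A' (List.ofFn a') := by
  obtain ⟨h1, h2⟩ := Groth.Agent.Lib.Helper21.FlatKit.isWeaklyRegular_iff_reduction J hJne
    (List.ofFn a') A'
  have hA : RingTheory.Sequence.IsRegular A' (List.ofFn a') ↔
      RingTheory.Sequence.IsRegular
        (A' ⧸ ((J.map (algebraMap C' A')) • ⊤ : Submodule A' A')) (List.ofFn a') := by
    rw [RingTheory.Sequence.isRegular_iff, RingTheory.Sequence.isRegular_iff, h1,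
      ne_eq, ne_eq, Groth.Agent.S13133.top_eq_iff J hJne]
  have htop : ((J.map (algebraMap C' A')) • ⊤ : Submodule A' A') = J.map (algebraMap C' A') :=
    Ideal.mul_top _
  let e : (A' ⧸ ((J.map (algebraMap C' A')) • ⊤ : Submodule A' A')) ≃+
      (A' ⧸ J.map (algebraMap C' A')) :=
    (Submodule.quotEquivOfEq _ _ htop).toAddEquiv
  have hB : RingTheory.Sequence.IsRegular
      (A' ⧸ ((J.map (algebraMap C' A')) • ⊤ : Submodule A' A')) (List.ofFn a') ↔
      RingTheory.Sequence.IsRegular (A' ⧸ J.map (algebraMap C' A'))
        (List.ofFn (fun i => Ideal.Quotient.mk (J.map (algebraMap C' A')) (a' i))) := by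
    apply AddEquiv.isRegular_congr (e := e)
    rw [List.forall₂_iff_get]
    refine ⟨by simp, fun i h₁ h₂ => ?_⟩
    intro x
    obtain ⟨b, rfl⟩ := Submodule.Quotient.mk_surjective _ x
    simp only [List.get_eq_getElem, List.getElem_ofFn]
    rfl
  exact hA.2 (hB.2 hreg)

/-- an ideal with flat quotient is determined by its reduction, among ideals containing
a given subideal with the same reduction. -/
theorem le_of_flat_quotient_of_map_le (C : Type u) [CommRing C] [IsLocalRing C] [IsArtinianRing C]
    (J : Ideal C) (hJne : J ≠ ⊤)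
    (A : Type u) [CommRing A] [Algebra C A] (I N : Ideal A) [Module.Flat C (A ⧸ I)]
    (hNI : N ≤ I)
    (hmap : I.map (Ideal.Quotient.mk (J.map (algebraMap C A))) ≤
      N.map (Ideal.Quotient.mk (J.map (algebraMap C A)))) : I ≤ N := by
  have hnil : IsNilpotent J := Groth.Agent.S13134.isNilpotent_of_ne_top J hJne
  let g : A →ₗ[C] A ⧸ I := (Ideal.Quotient.mkₐ C I).toLinearMap
  have hg : Function.Surjective g := Ideal.Quotient.mk_surjective
  have hker : LinearMap.ker g = I.restrictScalars C := by
    ext x
    rw [LinearMap.mem_ker, Submodule.restrictScalars_mem]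
    exact Ideal.Quotient.eq_zero_iff_mem
  have key : I.restrictScalars C ≤ N.restrictScalars C ⊔ J • I.restrictScalars C := by
    intro x hx
    have hx' : x ∈ I := hx
    have h1 : Ideal.Quotient.mk (J.map (algebraMap C A)) x ∈
        N.map (Ideal.Quotient.mk (J.map (algebraMap C A))) :=
      hmap (Ideal.mem_map_of_mem _ hx')
    obtain ⟨y, hyN, hyx⟩ := (Ideal.mem_map_iff_of_surjective _ Ideal.Quotient.mk_surjective).1 h1
    have h2 : x - y ∈ J.map (algebraMap C A) := by
      rw [← Ideal.Quotient.eq_zero_iff_mem, map_sub, hyx, sub_self]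
    have h3 : x - y ∈ J • (⊤ : Submodule C A) := by
      rw [Ideal.smul_top_eq_map, Submodule.restrictScalars_mem]
      exact h2
    have h4 : g (x - y) = 0 := by
      rw [← LinearMap.mem_ker, hker, Submodule.restrictScalars_mem]
      exact I.sub_mem hx' (hNI hyN)
    have h5 := Groth.Agent.S13134.mem_smul_of_flat_quotient J g hg (x - y) h4 h3
    rw [hker] at h5
    have : x = y + (x - y) := by ring
    rw [this]
    exact Submodule.add_mem_sup hyN h5
  have := Groth.Agent.S13134.le_of_le_sup_smul_of_isNilpotent J hnil _ _ key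
  exact this


/-- Let C be a local Artin ring with maximal ideal m, A a flat C-algebra such that A₀ = A/mA is a
Cohen–Macaulay local ring, and I ⊆ A an ideal with A/I flat over C whose image in A₀ is generated by
a regular sequence b_1, …, b_r on A₀. Then I is generated by r elements a_1, …, a_r forming a
regular sequence on A (so the Koszul complex on the a_i resolves A/I). -/
theorem result (C : Type u) [CommRing C]
    [IsLocalRing C] [IsArtinianRing C] (A : Type u) [CommRing A] [Algebra C A] [Module.Flat C A]
    [LocCoh.IsCohenMacaulayLocalRing (A ⧸ (IsLocalRing.maximalIdeal C).map (algebraMap C A))]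
    (I : Ideal A) [Module.Flat C (A ⧸ I)] (r : ℕ)
    (b : Fin r → A ⧸ (IsLocalRing.maximalIdeal C).map (algebraMap C A))
    (hb : RingTheory.Sequence.IsRegular (A ⧸ (IsLocalRing.maximalIdeal C).map (algebraMap C A)) (List.ofFn b))
    (hI : I.map (Ideal.Quotient.mk ((IsLocalRing.maximalIdeal C).map (algebraMap C A))) = Ideal.span (Set.range b)) :
    ∃ a : Fin r → A, RingTheory.Sequence.IsRegular A (List.ofFn a) ∧ I = Ideal.span (Set.range a) := by
  have hmne : IsLocalRing.maximalIdeal C ≠ ⊤ := (IsLocalRing.maximalIdeal.isMaximal C).ne_top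
  have hlift : ∀ i, ∃ a ∈ I,
      Ideal.Quotient.mk ((IsLocalRing.maximalIdeal C).map (algebraMap C A)) a = b i := by
    intro i
    have : b i ∈ I.map (Ideal.Quotient.mk ((IsLocalRing.maximalIdeal C).map (algebraMap C A))) := by
      rw [hI]; exact Ideal.subset_span ⟨i, rfl⟩
    exact (Ideal.mem_map_iff_of_surjective _ Ideal.Quotient.mk_surjective).1 this
  choose a haI hab using hlift
  refine ⟨a, ?_, ?_⟩
  · apply isRegular_of_reduction C (IsLocalRing.maximalIdeal C) hmne A r a
    have : (fun i => Ideal.Quotient.mk ((IsLocalRing.maximalIdeal C).map (algebraMap C A)) (a i)) = b :=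
      funext hab
    rw [this]
    exact hb
  · have hNI : Ideal.span (Set.range a) ≤ I := by
      rw [Ideal.span_le]
      rintro _ ⟨i, rfl⟩
      exact haI i
    apply le_antisymm _ hNI
    apply le_of_flat_quotient_of_map_le C (IsLocalRing.maximalIdeal C) hmne A I _ hNI
    rw [hI, Ideal.map_span, ← Set.range_comp]
    have : (Ideal.Quotient.mk ((IsLocalRing.maximalIdeal C).map (algebraMap C A))) ∘ a = b :=
      funext hab
    rw [this]

end Groth.Agent.S11456
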