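import Groth.Statements.S11467
import Groth.Agent.Lib.Helper1.ObsGens
import Mathlib.RingTheory.Ideal.KrullsHeightTheorem

set_option autoImplicit false
universe u
open DefT

namespace Groth.Agent.S11467

/-- Let P be a regular local k-algebra with residue field k, I ⊆ m_P² an ideal (so that dim P is the
embedding dimension of A = P/I), and suppose A has an obstruction theory whose obstruction space is
a finite-dimensional k-vector space V (obstructions in V ⊗ J attached to k-algebra maps A → C'/J for
small extensions of local Artinian k-algebras with residue field k, vanishing exactly when the map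
lifts, functorial in quotients of C'). Then dim A ≥ dim P − dim_k V; and if equality holds, I is
generated by dim P − dim A elements, so A is a local complete intersection in P. -/
theorem result (k : Type u) [Field k]
    (P : Type u) [CommRing P] [IsRegularLocalRing P] [Algebra k P]
    (hres : Function.Surjective (algebraMap k (IsLocalRing.ResidueField P)))
    (I : Ideal P) (hI : I ≤ IsLocalRing.maximalIdeal P ^ 2)
    (V : Type u) [AddCommGroup V] [Module k V] [Module.Finite k V]
    (T : W4bk4hartshdef114.ObsTheory k (P ⧸ I) V) :
    ringKrullDim P ≤ ringKrullDim (P ⧸ I) + (Module.finrank k V : WithBot ℕ∞) ∧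
      (ringKrullDim (P ⧸ I) + (Module.finrank k V : WithBot ℕ∞) = ringKrullDim P →
        ∃ s : Finset P, Ideal.span (s : Set P) = I ∧
          ringKrullDim (P ⧸ I) + (s.card : WithBot ℕ∞) = ringKrullDim P) := by
  classical
  obtain ⟨g, hg⟩ := Groth.Agent.Lib.Helper1.ObsGens.exists_gens hres I hI V T
  set s : Finset P := Finset.univ.image g with hs
  have hsspan : Ideal.span (s : Set P) = I := by
    rw [hs, Finset.coe_image, Finset.coe_univ, Set.image_univ]
    exact hg
  have hscard : s.card ≤ Module.finrank k V := by
    refine Finset.card_image_le.trans ?_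
    rw [Finset.card_univ, Fintype.card_fin]
  have hIm : I ≤ IsLocalRing.maximalIdeal P := hI.trans (Ideal.pow_le_self two_ne_zero)
  have hsj : (s : Set P) ⊆ Ring.jacobson P := by
    intro x hx
    have : x ∈ I := by rw [← hsspan]; exact Ideal.subset_span hx
    rw [← Ideal.jacobson_bot]
    exact (IsLocalRing.maximalIdeal_le_jacobson ⊥) (hIm this)
  have h2' : ringKrullDim P ≤ ringKrullDim (P ⧸ I) + (s.card : WithBot ℕ∞) := by
    have := ringKrullDim_le_ringKrullDim_quotient_add_card s hsj
    rwa [hsspan] at this
  have hcardle : ringKrullDim (P ⧸ I) + (s.card : WithBot ℕ∞) ≤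
      ringKrullDim (P ⧸ I) + (Module.finrank k V : WithBot ℕ∞) := by
    gcongr
  refine ⟨h2'.trans hcardle, fun heq => ⟨s, hsspan, le_antisymm ?_ h2'⟩⟩
  rw [← heq]
  exact hcardle

end Groth.Agent.S11467
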