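import Groth.Statements.S11469
import Mathlib

set_option autoImplicit false
universe u
open scoped TensorProduct
open DefT

namespace Groth.Agent.S11469

section
variable (C' : Type u) [CommRing C'] (J : Ideal C')
    (A' : Type u) [CommRing A'] [Algebra C' A'] (M' : Type u) [AddCommGroup M'] [Module A' M']
  [Module C' M'] [IsScalarTower C' A' M']

/-- the map `M' ⊗ J → M'`. -/
noncomputable def iotaC : M' ⊗[C'] ↥J →ₗ[C'] M' :=
  (TensorProduct.rid C' M').toLinearMap ∘ₗ LinearMap.lTensor M' J.subtype

theorem iotaC_tmul (x : M') (j : J) : iotaC C' J M' (x ⊗ₜ j) = (j : C') • x := by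
  simp [iotaC]

noncomputable def iotaA : M' ⊗[C'] ↥J →ₗ[A'] M' :=
  { toFun := iotaC C' J M'
    map_add' := (iotaC C' J M').map_add
    map_smul' := by
      intro a z
      induction z using TensorProduct.induction_on with
      | zero => simp
      | tmul x j =>
        rw [TensorProduct.smul_tmul', iotaC_tmul, iotaC_tmul, RingHom.id_apply, smul_comm]
      | add z w hz hw =>
        rw [smul_add, map_add, map_add, hz, hw, smul_add] }

theorem iotaA_apply (z : M' ⊗[C'] ↥J) : iotaA C' J A' M' z = iotaC C' J M' z := rfl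

theorem iotaC_injective [Module.Flat C' M'] : Function.Injective (iotaC C' J M') := by
  have h1 : Function.Injective (LinearMap.lTensor M' J.subtype) :=
    Module.Flat.lTensor_preserves_injective_linearMap _ (Submodule.injective_subtype J)
  exact (TensorProduct.rid C' M').injective.comp h1

theorem iotaC_mem (z : M' ⊗[C'] ↥J) :
    iotaC C' J M' z ∈ (J.map (algebraMap C' A')) • (⊤ : Submodule A' M') := by
  induction z using TensorProduct.induction_on with
  | zero => simp
  | tmul x j =>
    rw [iotaC_tmul, ← algebraMap_smul A' (j : C') x]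
    exact Submodule.smul_mem_smul (Ideal.mem_map_of_mem _ j.2) trivial
  | add z w hz hw => rw [map_add]; exact Submodule.add_mem _ hz hw

theorem exists_iotaC_eq (w : M') (hw : w ∈ (J.map (algebraMap C' A')) • (⊤ : Submodule A' M')) :
    ∃ z, iotaC C' J M' z = w := by
  have key : (J.map (algebraMap C' A')) • (⊤ : Submodule A' M') ≤
      LinearMap.range (iotaA C' J A' M') := by
    rw [Submodule.smul_le]
    intro a ha y _
    refine (?_ : ∀ y : M', a • y ∈ LinearMap.range (iotaA C' J A' M')) y
    refine Submodule.span_induction (p := fun a _ => ∀ y : M', a • y ∈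
      LinearMap.range (iotaA C' J A' M')) ?_ ?_ ?_ ?_ ha
    · rintro _ ⟨j, hj, rfl⟩ y
      refine ⟨y ⊗ₜ ⟨j, hj⟩, ?_⟩
      rw [iotaA_apply, iotaC_tmul, algebraMap_smul]
    · intro y; rw [zero_smul]; exact Submodule.zero_mem _
    · intro a b _ _ h1 h2 y
      rw [add_smul]; exact Submodule.add_mem _ (h1 y) (h2 y)
    · intro b a _ h1 y
      rw [smul_eq_mul, mul_smul]
      exact Submodule.smul_mem _ _ (h1 y)
  obtain ⟨z, hz⟩ := key hw
  exact ⟨z, hz⟩

theorem tmul_eq_zero_of_mem [IsLocalRing C'] (hJ : IsLocalRing.maximalIdeal C' * J = ⊥) (n : M')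
    (hn : n ∈ ((IsLocalRing.maximalIdeal C').map (algebraMap C' A')) • (⊤ : Submodule A' M'))
    (j : J) : n ⊗ₜ[C'] j = 0 := by
  refine Submodule.smul_induction_on (p := fun n => n ⊗ₜ[C'] j = 0) hn ?_ ?_
  · intro a ha y _
    refine (?_ : ∀ y : M', (a • y) ⊗ₜ[C'] j = 0) y
    refine Submodule.span_induction (p := fun a _ => ∀ y : M', (a • y) ⊗ₜ[C'] j = 0) ?_ ?_ ?_ ?_ ha
    · rintro _ ⟨c, hc, rfl⟩ y
      rw [algebraMap_smul, TensorProduct.smul_tmul]
      have : c • j = 0 := by
        apply Subtype.ext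
        have : c * (j : C') ∈ IsLocalRing.maximalIdeal C' * J := Ideal.mul_mem_mul hc j.2
        rw [hJ] at this
        exact this
      rw [this, TensorProduct.tmul_zero]
    · intro y; rw [zero_smul, TensorProduct.zero_tmul]
    · intro a b _ _ h1 h2 y
      rw [add_smul, TensorProduct.add_tmul, h1, h2, add_zero]
    · intro b a _ h1 y
      rw [smul_eq_mul, mul_comm, mul_smul]
      exact h1 _
  · intro x y hx hy
    rw [TensorProduct.add_tmul, hx, hy, add_zero]

theorem q_bijective [IsLocalRing C'] (hJ : IsLocalRing.maximalIdeal C' * J = ⊥) :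
    Function.Bijective (LinearMap.rTensor ↥J ((Submodule.mkQ
      (((IsLocalRing.maximalIdeal C').map (algebraMap C' A')) •
        (⊤ : Submodule A' M'))).restrictScalars C')) := by
  set N := ((IsLocalRing.maximalIdeal C').map (algebraMap C' A')) • (⊤ : Submodule A' M') with hN
  refine ⟨?_, LinearMap.rTensor_surjective _ (Submodule.mkQ_surjective N)⟩
  rw [injective_iff_map_eq_zero]
  intro z hz
  have hex : Function.Exact (N.subtype.restrictScalars C') (N.mkQ.restrictScalars C') :=
    LinearMap.exact_subtype_mkQ N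
  have hex2 := rTensor_exact ↥J hex (Submodule.mkQ_surjective N)
  obtain ⟨w, rfl⟩ := (hex2 z).mp hz
  clear hz
  induction w using TensorProduct.induction_on with
  | zero => simp
  | tmul n j =>
    rw [LinearMap.rTensor_tmul]
    exact tmul_eq_zero_of_mem C' J A' M' hJ n.1 n.2 j
  | add x y hx hy => rw [map_add, hx, hy, add_zero]

theorem main [IsLocalRing C'] (hJ : IsLocalRing.maximalIdeal C' * J = ⊥) (hJne : J ≠ ⊤)
    [Module.Flat C' M'] :
    (∀ σ : M' →ₗ[A'] M', (∀ x : M', σ x - x ∈ (J.map (algebraMap C' A')) • (⊤ : Submodule A' M')) →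
      Function.Bijective σ ∧
        ∃! τ : (M' ⧸ ((IsLocalRing.maximalIdeal C').map (algebraMap C' A')) • (⊤ : Submodule A' M')) →ₗ[A'] ((M' ⧸ ((IsLocalRing.maximalIdeal C').map (algebraMap C' A')) • (⊤ : Submodule A' M')) ⊗[C'] ↥J),
          (∀ (x : M') (z : M' ⊗[C'] ↥J), TensorProduct.rid C' M' (LinearMap.lTensor M' (Submodule.subtype J) z) = σ x - x →
            LinearMap.rTensor ↥J ((Submodule.mkQ (((IsLocalRing.maximalIdeal C').map (algebraMap C' A')) • (⊤ : Submodule A' M'))).restrictScalars C') z =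
              τ (Submodule.mkQ _ x))) ∧
    (∀ τ : (M' ⧸ ((IsLocalRing.maximalIdeal C').map (algebraMap C' A')) • (⊤ : Submodule A' M')) →ₗ[A'] ((M' ⧸ ((IsLocalRing.maximalIdeal C').map (algebraMap C' A')) • (⊤ : Submodule A' M')) ⊗[C'] ↥J),
      ∃ σ : M' →ₗ[A'] M', (∀ x : M', σ x - x ∈ (J.map (algebraMap C' A')) • (⊤ : Submodule A' M')) ∧
          (∀ (x : M') (z : M' ⊗[C'] ↥J), TensorProduct.rid C' M' (LinearMap.lTensor M' (Submodule.subtype J) z) = σ x - x →
            LinearMap.rTensor ↥J ((Submodule.mkQ (((IsLocalRing.maximalIdeal C').map (algebraMap C' A')) • (⊤ : Submodule A' M'))).restrictScalars C') z =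
              τ (Submodule.mkQ _ x))) := by
  have hJm : J ≤ IsLocalRing.maximalIdeal C' := IsLocalRing.le_maximalIdeal hJne
  set N := ((IsLocalRing.maximalIdeal C').map (algebraMap C' A')) • (⊤ : Submodule A' M') with hN
  set JM := (J.map (algebraMap C' A')) • (⊤ : Submodule A' M') with hJM
  have hmul : (J.map (algebraMap C' A')) * (J.map (algebraMap C' A')) = ⊥ := by
    rw [← Ideal.map_mul, eq_bot_iff]
    refine (Ideal.map_mono (Ideal.mul_mono_left hJm)).trans ?_
    rw [hJ, Ideal.map_bot]
  have hsq : ∀ a ∈ J.map (algebraMap C' A'), ∀ w ∈ JM, a • w = 0 := by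
    intro a ha w hw
    refine Submodule.smul_induction_on hw ?_ ?_
    · intro b hb y _
      rw [← mul_smul]
      have : a * b ∈ (J.map (algebraMap C' A')) * (J.map (algebraMap C' A')) :=
        Ideal.mul_mem_mul ha hb
      rw [hmul] at this
      rw [this, zero_smul]
    · intro x y hx hy; rw [smul_add, hx, hy, add_zero]
  have hq := q_bijective C' J A' M' hJ
  rw [← hN] at hq
  have hinj := iotaC_injective C' J M'
  let qA : M' ⊗[C'] ↥J →ₗ[A'] (M' ⧸ N) ⊗[C'] ↥J :=
    TensorProduct.AlgebraTensorModule.map N.mkQ LinearMap.id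
  have hqA : ∀ z, qA z = LinearMap.rTensor ↥J (N.mkQ.restrictScalars C') z := by
    intro z
    induction z using TensorProduct.induction_on with
    | zero => simp
    | tmul x j => rfl
    | add x y hx hy => rw [map_add, map_add, hx, hy]
  have hiota : ∀ z : M' ⊗[C'] ↥J, TensorProduct.rid C' M'
      (LinearMap.lTensor M' (Submodule.subtype J) z) = iotaC C' J M' z := fun z => rfl
  have hcJ : ∀ c ∈ IsLocalRing.maximalIdeal C', ∀ j : J, c • j = 0 := by
    intro c hc j
    apply Subtype.ext
    have : c * (j : C') ∈ IsLocalRing.maximalIdeal C' * J := Ideal.mul_mem_mul hc j.2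
    rw [hJ] at this
    exact this
  have killT : ∀ a ∈ (IsLocalRing.maximalIdeal C').map (algebraMap C' A'),
      ∀ t : (M' ⧸ N) ⊗[C'] ↥J, a • t = 0 := by
    intro a ha
    refine Submodule.span_induction (p := fun a _ => ∀ t : (M' ⧸ N) ⊗[C'] ↥J, a • t = 0)
      ?_ ?_ ?_ ?_ ha
    · rintro _ ⟨c, hc, rfl⟩ t
      rw [algebraMap_smul]
      induction t using TensorProduct.induction_on with
      | zero => simp
      | tmul x j => rw [← TensorProduct.tmul_smul, hcJ c hc, TensorProduct.tmul_zero]
      | add x y hx hy => rw [smul_add, hx, hy, add_zero]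
    · intro t; rw [zero_smul]
    · intro a b _ _ h1 h2 t; rw [add_smul, h1, h2, add_zero]
    · intro b a _ h1 t; rw [smul_eq_mul, mul_smul, h1, smul_zero]
  constructor
  · intro σ hσ
    let δ : M' →ₗ[A'] M' := σ - LinearMap.id
    have hδx : ∀ x, δ x = σ x - x := fun x => rfl
    have hδ : ∀ x, δ x ∈ JM := hσ
    have hδ0 : ∀ w ∈ JM, δ w = 0 := by
      intro w hw
      refine Submodule.smul_induction_on hw ?_ ?_
      · intro a ha y _
        rw [map_smul]; exact hsq a ha _ (hδ y)
      · intro x y hx hy; rw [map_add, hx, hy, add_zero]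
    have hσx : ∀ x, σ x = x + δ x := fun x => by rw [hδx]; abel
    refine ⟨?_, ?_⟩
    · rw [Function.bijective_iff_has_inverse]
      refine ⟨fun x => x - δ x, ?_, ?_⟩
      · intro x
        change σ x - δ (σ x) = x
        rw [hσx x, map_add, hδ0 _ (hδ x)]
        abel
      · intro x
        change σ (x - δ x) = x
        rw [hσx, map_sub, hδ0 _ (hδ x)]
        abel
    · have hinjA : Function.Injective (iotaA C' J A' M') := hinj
      let E := LinearEquiv.ofInjective (iotaA C' J A' M') hinjA
      have hmem : ∀ x, δ x ∈ LinearMap.range (iotaA C' J A' M') := by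
        intro x
        obtain ⟨z, hz⟩ := exists_iotaC_eq C' J A' M' (δ x) (hδ x)
        exact ⟨z, hz⟩
      let δ' : M' →ₗ[A'] M' ⊗[C'] ↥J :=
        E.symm.toLinearMap ∘ₗ (δ.codRestrict (LinearMap.range (iotaA C' J A' M')) hmem)
      have hδ' : ∀ x, iotaC C' J M' (δ' x) = δ x := by
        intro x
        have := E.apply_symm_apply ⟨δ x, hmem x⟩
        exact congrArg Subtype.val this
      let τ' : M' →ₗ[A'] (M' ⧸ N) ⊗[C'] ↥J := qA ∘ₗ δ'
      have hker : N ≤ LinearMap.ker τ' := by
        refine Submodule.smul_le.mpr ?_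
        intro a ha y _
        rw [LinearMap.mem_ker, map_smul]
        exact killT a ha _
      let τ := N.liftQ τ' hker
      refine ⟨τ, ?_, ?_⟩
      · intro x z hz
        rw [hiota] at hz
        have hzx : z = δ' x := hinj (hz.trans (hδ' x).symm)
        rw [hzx, ← hqA]
        rfl
      · intro τ₂ hτ₂
        refine LinearMap.ext fun m₀ => ?_
        obtain ⟨x, rfl⟩ := Submodule.mkQ_surjective N m₀
        have h2 := hτ₂ x (δ' x) (by rw [hiota, hδ' x, hδx])
        rw [← h2, ← hqA]
        rfl
  · intro τ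
    have hqAbij : Function.Bijective qA := by
      have : (qA : M' ⊗[C'] ↥J → (M' ⧸ N) ⊗[C'] ↥J) =
          LinearMap.rTensor ↥J (N.mkQ.restrictScalars C') := funext hqA
      rw [this]; exact hq
    let Q := LinearEquiv.ofBijective qA hqAbij
    let σ : M' →ₗ[A'] M' :=
      LinearMap.id + (iotaA C' J A' M') ∘ₗ Q.symm.toLinearMap ∘ₗ τ ∘ₗ N.mkQ
    have hσ : ∀ x, σ x - x = iotaC C' J M' (Q.symm (τ (N.mkQ x))) := by
      intro x
      change x + iotaC C' J M' (Q.symm (τ (N.mkQ x))) - x = _
      abel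
    refine ⟨σ, ?_, ?_⟩
    · intro x
      rw [hσ]
      exact iotaC_mem C' J A' M' _
    · intro x z hz
      rw [hiota, hσ] at hz
      have hzx : z = Q.symm (τ (N.mkQ x)) := hinj hz
      rw [hzx, ← hqA]
      exact Q.apply_symm_apply _

end


/-- Let C' be a local Artin ring with maximal ideal m, J ⊊ C' a proper ideal with mJ = 0, A' a
C'-algebra, M' an A'-module flat over C', and M₀ = M'/mM'. Then (1) every A'-linear endomorphism σ
of M' that is the identity modulo JM' is bijective, and there is exactly one A'-linear τ : M₀ → M₀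
⊗_{C'} J such that, for all x ∈ M' and all z ∈ M' ⊗_{C'} J mapping to σ(x) − x in M', the image of z
in M₀ ⊗_{C'} J is τ applied to the class of x; and (2) every A'-linear τ : M₀ → M₀ ⊗_{C'} J comes in
this way from some such σ. Thus the automorphisms of the extension M' inducing the identity on
M'/JM' correspond to Hom(M₀, M₀ ⊗ J). -/
theorem result (C' : Type u) [CommRing C'] [IsLocalRing C']
    [IsArtinianRing C'] (J : Ideal C') (hJ : IsLocalRing.maximalIdeal C' * J = ⊥) (hJne : J ≠ ⊤)
    (A' : Type u) [CommRing A'] [Algebra C' A'] (M' : Type u) [AddCommGroup M'] [Module A' M'] [Module C' M']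
    [IsScalarTower C' A' M'] [Module.Flat C' M'] :
    (∀ σ : M' →ₗ[A'] M', (∀ x : M', σ x - x ∈ (J.map (algebraMap C' A')) • (⊤ : Submodule A' M')) →
      Function.Bijective σ ∧
        ∃! τ : (M' ⧸ ((IsLocalRing.maximalIdeal C').map (algebraMap C' A')) • (⊤ : Submodule A' M')) →ₗ[A'] ((M' ⧸ ((IsLocalRing.maximalIdeal C').map (algebraMap C' A')) • (⊤ : Submodule A' M')) ⊗[C'] ↥J),
          (∀ (x : M') (z : M' ⊗[C'] ↥J), TensorProduct.rid C' M' (LinearMap.lTensor M' (Submodule.subtype J) z) = σ x - x →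
            LinearMap.rTensor ↥J ((Submodule.mkQ (((IsLocalRing.maximalIdeal C').map (algebraMap C' A')) • (⊤ : Submodule A' M'))).restrictScalars C') z =
              τ (Submodule.mkQ _ x))) ∧
    (∀ τ : (M' ⧸ ((IsLocalRing.maximalIdeal C').map (algebraMap C' A')) • (⊤ : Submodule A' M')) →ₗ[A'] ((M' ⧸ ((IsLocalRing.maximalIdeal C').map (algebraMap C' A')) • (⊤ : Submodule A' M')) ⊗[C'] ↥J),
      ∃ σ : M' →ₗ[A'] M', (∀ x : M', σ x - x ∈ (J.map (algebraMap C' A')) • (⊤ : Submodule A' M')) ∧
          (∀ (x : M') (z : M' ⊗[C'] ↥J), TensorProduct.rid C' M' (LinearMap.lTensor M' (Submodule.subtype J) z) = σ x - x →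
            LinearMap.rTensor ↥J ((Submodule.mkQ (((IsLocalRing.maximalIdeal C').map (algebraMap C' A')) • (⊤ : Submodule A' M'))).restrictScalars C') z =
              τ (Submodule.mkQ _ x))) := by
  exact main C' J A' M' hJ hJne

end Groth.Agent.S11469
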