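import Groth.Statements.S11470
import Mathlib
-- import your own Groth.Agent.* helpers here

set_option autoImplicit false
set_option linter.unusedSectionVars false
set_option linter.style.haveILetI false
set_option linter.unusedVariables false
set_option linter.unusedSimpArgs false
universe u
open Curves

namespace Groth.Agent.S11470

open Polynomial

section
variable (k : Type u) [Field k]

/-- `λ` -/
noncomputable abbrev lam : RatFunc k := RatFunc.X

/-- the `j`-function -/
noncomputable abbrev jj : RatFunc k :=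
  (256 : RatFunc k) * ((RatFunc.X : RatFunc k) ^ 2 - RatFunc.X + 1) ^ 3 /
        ((RatFunc.X : RatFunc k) ^ 2 * ((RatFunc.X : RatFunc k) - 1) ^ 2)

lemma lam_ne_zero : (RatFunc.X : RatFunc k) ≠ 0 := RatFunc.X_ne_zero

lemma poly_ne_zero_of_coeff (p : k[X]) (n : ℕ) (h : p.coeff n ≠ 0) :
    algebraMap k[X] (RatFunc k) p ≠ 0 := by
  intro h0
  have := (RatFunc.algebraMap_injective k) (by rw [h0, map_zero] : algebraMap k[X] (RatFunc k) p = algebraMap k[X] (RatFunc k) 0)
  rw [this] at h
  simp at h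

lemma lam_sub_one_ne_zero : (RatFunc.X : RatFunc k) - 1 ≠ 0 := by
  have := poly_ne_zero_of_coeff k (X - 1 : k[X]) 1 (by simp [Polynomial.coeff_one])
  simpa using this

end


section easy
variable (k : Type u) [Field k]
  (σ τ : RatFunc k ≃ₐ[k] RatFunc k) (hσ : σ RatFunc.X = (RatFunc.X : RatFunc k)⁻¹)
  (hτ : τ RatFunc.X = 1 - (RatFunc.X : RatFunc k))

/-- the ring `B` -/
noncomputable abbrev BB : Subalgebra k (RatFunc k) :=
  Algebra.adjoin k ({RatFunc.X, (RatFunc.X : RatFunc k)⁻¹, ((RatFunc.X : RatFunc k) - 1)⁻¹} : Set (RatFunc k))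

lemma jj_mem_BB : jj k ∈ BB k := by
  have h1 : (RatFunc.X : RatFunc k) ∈ BB k := Algebra.subset_adjoin (by simp)
  have h2 : (RatFunc.X : RatFunc k)⁻¹ ∈ BB k := Algebra.subset_adjoin (by simp)
  have h3 : ((RatFunc.X : RatFunc k) - 1)⁻¹ ∈ BB k := Algebra.subset_adjoin (by simp)
  have e : jj k = (256 : RatFunc k) * ((RatFunc.X : RatFunc k) ^ 2 - RatFunc.X + 1) ^ 3 *
      ((RatFunc.X : RatFunc k)⁻¹ ^ 2 * (((RatFunc.X : RatFunc k) - 1)⁻¹) ^ 2) := by
    unfold jj
    rw [div_eq_mul_inv, mul_inv, inv_pow, inv_pow]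
  rw [e]
  have h256 : (256 : RatFunc k) ∈ BB k := by
    have : (256 : RatFunc k) = algebraMap k (RatFunc k) 256 := (map_ofNat (algebraMap k (RatFunc k)) 256).symm
    rw [this]; exact Subalgebra.algebraMap_mem _ _
  refine Subalgebra.mul_mem _ (Subalgebra.mul_mem _ h256 (Subalgebra.pow_mem _ ?_ 3))
    (Subalgebra.mul_mem _ (Subalgebra.pow_mem _ h2 2) (Subalgebra.pow_mem _ h3 2))
  exact Subalgebra.add_mem _ (Subalgebra.sub_mem _ (Subalgebra.pow_mem _ h1 2) h1) (Subalgebra.one_mem _)

include hσ in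
lemma sigma_jj : σ (jj k) = jj k := by
  have h0 := lam_ne_zero k
  have h1 := lam_sub_one_ne_zero k
  unfold jj
  simp only [map_div₀, map_mul, map_pow, map_sub, map_add, map_one, hσ, map_ofNat]
  have h3 : (1 : RatFunc k) - RatFunc.X ≠ 0 := by
    intro h; apply h1; rw [← neg_sub, h, neg_zero]
  have e1 : (RatFunc.X : RatFunc k)⁻¹ - 1 = (1 - RatFunc.X) / RatFunc.X := by
    field_simp
  have e2 : ((RatFunc.X : RatFunc k)⁻¹) ^ 2 - (RatFunc.X : RatFunc k)⁻¹ + 1 =
      (RatFunc.X ^ 2 - RatFunc.X + 1) / RatFunc.X ^ 2 := by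
    field_simp
    ring
  rw [e1, e2]
  field_simp
  ring

include hτ in
lemma tau_jj : τ (jj k) = jj k := by
  have h0 := lam_ne_zero k
  have h1 := lam_sub_one_ne_zero k
  unfold jj
  simp only [map_div₀, map_mul, map_pow, map_sub, map_add, map_one, hτ, map_ofNat]
  have h2 : (1 : RatFunc k) - RatFunc.X ≠ 0 := by
    intro h; apply h1; rw [← neg_sub, h, neg_zero]
  have h3 : (1 : RatFunc k) - RatFunc.X - 1 ≠ 0 := by
    intro h; apply h0
    have : (1 : RatFunc k) - RatFunc.X - 1 = -RatFunc.X := by ring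
    rw [this, neg_eq_zero] at h; exact h
  field_simp
  ring

end easy

section integral
variable (k : Type u) [Field k] (h2 : (2 : k) ≠ 0)

/-- the subalgebra `k[j]` -/
noncomputable abbrev SS : Subalgebra k (RatFunc k) := Algebra.adjoin k ({jj k} : Set (RatFunc k))

/-- `j / 256` as an element of `k[j]` -/
noncomputable def cc : SS k :=
  algebraMap k (SS k) ((256 : k)⁻¹) * ⟨jj k, Algebra.self_mem_adjoin_singleton k (jj k)⟩

lemma cc_val : ((cc k : SS k) : RatFunc k) = algebraMap k (RatFunc k) ((256 : k)⁻¹) * jj k := rfl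

/-- the monic sextic satisfied by `λ` over `k[j]` -/
noncomputable def qq : (SS k)[X] :=
  (X ^ 2 - X + 1) ^ 3 - C (cc k) * (X ^ 2 * (X - 1) ^ 2)

lemma qq_eq : qq k = X ^ 6 + (C (-3) * X ^ 5 + C (6 - cc k) * X ^ 4 + C (-7 + 2 * cc k) * X ^ 3
    + C (6 - cc k) * X ^ 2 + C (-3) * X + 1) := by
  unfold qq
  simp only [map_sub, map_add, map_mul, map_neg, map_ofNat]
  ring

lemma qq_monic : (qq k).Monic := by
  rw [qq_eq]
  apply Polynomial.monic_X_pow_add
  have : (C (-3) * X ^ 5 + C (6 - cc k) * X ^ 4 + C (-7 + 2 * cc k) * X ^ 3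
    + C (6 - cc k) * X ^ 2 + C (-3) * X + 1 : (SS k)[X]).natDegree ≤ 5 := by
    compute_degree
  exact lt_of_le_of_lt (Polynomial.degree_le_of_natDegree_le this) (by norm_num)

include h2 in
lemma isIntegral_of_eq (x : RatFunc k)
    (h : (256 : RatFunc k) * (x ^ 2 - x + 1) ^ 3 = jj k * (x ^ 2 * (x - 1) ^ 2)) :
    IsIntegral (SS k) x := by
  refine ⟨qq k, qq_monic k, ?_⟩
  have h256 : (256 : k) ≠ 0 := by
    have : (256 : k) = 2 ^ 8 := by norm_num
    rw [this]; exact pow_ne_zero _ h2
  have h256' : algebraMap k (RatFunc k) (256 : k) = 256 := map_ofNat _ 256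
  unfold qq
  simp only [eval₂_sub, eval₂_pow, eval₂_add, eval₂_X, eval₂_one, eval₂_mul, eval₂_C]
  change (x ^ 2 - x + 1) ^ 3 - ((cc k : SS k) : RatFunc k) * (x ^ 2 * (x - 1) ^ 2) = 0
  rw [cc_val, mul_assoc, ← h, ← h256', ← mul_assoc, ← map_mul, inv_mul_cancel₀ h256,
    map_one, one_mul, sub_self]

end integral

section integral2
variable (k : Type u) [Field k] (h2 : (2 : k) ≠ 0)

include h2 in
lemma isIntegral_lam : IsIntegral (SS k) (RatFunc.X : RatFunc k) := by
  apply isIntegral_of_eq k h2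
  have h0 := lam_ne_zero k
  have h1 := lam_sub_one_ne_zero k
  unfold jj
  field_simp

include h2 in
lemma isIntegral_lam_inv : IsIntegral (SS k) (RatFunc.X : RatFunc k)⁻¹ := by
  apply isIntegral_of_eq k h2
  have h0 := lam_ne_zero k
  have h1 := lam_sub_one_ne_zero k
  have h3 : (1 : RatFunc k) - RatFunc.X ≠ 0 := by
    intro h; apply h1; rw [← neg_sub, h, neg_zero]
  have e1 : (RatFunc.X : RatFunc k)⁻¹ - 1 = (1 - RatFunc.X) / RatFunc.X := by
    field_simp
  have e2 : ((RatFunc.X : RatFunc k)⁻¹) ^ 2 - (RatFunc.X : RatFunc k)⁻¹ + 1 =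
      (RatFunc.X ^ 2 - RatFunc.X + 1) / RatFunc.X ^ 2 := by
    field_simp
    ring
  rw [e1, e2]
  unfold jj
  field_simp
  ring

include h2 in
lemma isIntegral_lam_sub_one_inv : IsIntegral (SS k) ((RatFunc.X : RatFunc k) - 1)⁻¹ := by
  have h0 := lam_ne_zero k
  have h1 := lam_sub_one_ne_zero k
  have h3 : (1 : RatFunc k) - RatFunc.X ≠ 0 := by
    intro h; apply h1; rw [← neg_sub, h, neg_zero]
  have key : IsIntegral (SS k) ((1 : RatFunc k) - RatFunc.X)⁻¹ := by
    apply isIntegral_of_eq k h2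
    have e1 : ((1 : RatFunc k) - RatFunc.X)⁻¹ - 1 = RatFunc.X / (1 - RatFunc.X) := by
      field_simp
      ring
    have e2 : (((1 : RatFunc k) - RatFunc.X)⁻¹) ^ 2 - ((1 : RatFunc k) - RatFunc.X)⁻¹ + 1 =
        (RatFunc.X ^ 2 - RatFunc.X + 1) / (1 - RatFunc.X) ^ 2 := by
      field_simp
      ring
    rw [e1, e2]
    unfold jj
    have e3 : ((RatFunc.X : RatFunc k) - 1) ^ 2 = (1 - RatFunc.X) ^ 2 := by ring
    rw [e3]
    field_simp
  have e : ((RatFunc.X : RatFunc k) - 1)⁻¹ = -((1 : RatFunc k) - RatFunc.X)⁻¹ := by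
    rw [← neg_sub, inv_neg]
  rw [e]
  exact key.neg

include h2 in
lemma BB_le_integralClosure :
    BB k ≤ (integralClosure (SS k) (RatFunc k)).restrictScalars k := by
  apply Algebra.adjoin_le
  intro x hx
  rcases hx with rfl | rfl | rfl
  · exact isIntegral_lam k h2
  · exact isIntegral_lam_inv k h2
  · exact isIntegral_lam_sub_one_inv k h2

end integral2

section degree
variable (k : Type u) [Field k] (h2 : (2 : k) ≠ 0)

open IntermediateField
open scoped IntermediateField.algebraAdjoinAdjoin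

lemma natDegree_qq [Nontrivial (SS k)] : (qq k).natDegree = 6 := by
  have : (C (-3) * X ^ 5 + C (6 - cc k) * X ^ 4 + C (-7 + 2 * cc k) * X ^ 3
    + C (6 - cc k) * X ^ 2 + C (-3) * X + 1 : (SS k)[X]).natDegree ≤ 5 := by
    compute_degree
  rw [qq_eq, Polynomial.natDegree_add_eq_left_of_natDegree_lt, natDegree_X_pow]
  rw [natDegree_X_pow]
  exact lt_of_le_of_lt this (by norm_num)

include h2 in
/-- any intermediate field containing `j` has degree at most 6 below `k(λ)` -/
lemma finrank_le_six (E : IntermediateField k (RatFunc k)) (hj : jj k ∈ E) :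
    FiniteDimensional E (RatFunc k) ∧ Module.finrank E (RatFunc k) ≤ 6 := by
  -- `λ` is a root of the image of `qq` in `E[X]`
  have hSE : SS k ≤ E.toSubalgebra := Algebra.adjoin_le (by
    intro x hx; rw [Set.mem_singleton_iff] at hx; rw [hx]; exact hj)
  let φ : SS k →+* E := (Subalgebra.inclusion hSE).toRingHom
  let q' : E[X] := (qq k).map φ
  have hq'm : q'.Monic := (qq_monic k).map φ
  have hq'deg : q'.natDegree = 6 := by
    rw [(qq_monic k).natDegree_map, natDegree_qq]
  have hroot : Polynomial.aeval (RatFunc.X : RatFunc k) q' = 0 := by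
    obtain ⟨-, h0⟩ : ∃ _ : True, Polynomial.eval₂ (algebraMap (SS k) (RatFunc k)) RatFunc.X (qq k) = 0 := by
      refine ⟨trivial, ?_⟩
      have hint := isIntegral_lam k h2
      -- reuse the explicit polynomial
      have h0' := lam_ne_zero k
      have h1' := lam_sub_one_ne_zero k
      have h256 : (256 : k) ≠ 0 := by
        have : (256 : k) = 2 ^ 8 := by norm_num
        rw [this]; exact pow_ne_zero _ h2
      have h256' : algebraMap k (RatFunc k) (256 : k) = 256 := map_ofNat _ 256
      have h : (256 : RatFunc k) * ((RatFunc.X : RatFunc k) ^ 2 - RatFunc.X + 1) ^ 3 =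
          jj k * ((RatFunc.X : RatFunc k) ^ 2 * (RatFunc.X - 1) ^ 2) := by
        unfold jj
        field_simp
      unfold qq
      simp only [eval₂_sub, eval₂_pow, eval₂_add, eval₂_X, eval₂_one, eval₂_mul, eval₂_C]
      change ((RatFunc.X : RatFunc k) ^ 2 - RatFunc.X + 1) ^ 3 -
        ((cc k : SS k) : RatFunc k) * ((RatFunc.X : RatFunc k) ^ 2 * (RatFunc.X - 1) ^ 2) = 0
      rw [cc_val, mul_assoc, ← h, ← h256', ← mul_assoc, ← map_mul, inv_mul_cancel₀ h256,
        map_one, one_mul, sub_self]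
    rw [Polynomial.aeval_def, Polynomial.eval₂_map]
    exact h0
  have hint : IsIntegral E (RatFunc.X : RatFunc k) := ⟨q', hq'm, hroot⟩
  have hfd : FiniteDimensional E E⟮(RatFunc.X : RatFunc k)⟯ := adjoin.finiteDimensional hint
  have e := (RatFunc.IntermediateField.adjoinXEquiv E).toLinearEquiv
  have hfd' : FiniteDimensional E (RatFunc k) := LinearEquiv.finiteDimensional e
  refine ⟨hfd', ?_⟩
  rw [← e.finrank_eq, adjoin.finrank hint]
  have hdvd := minpoly.dvd E (RatFunc.X : RatFunc k) hroot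
  calc (minpoly E (RatFunc.X : RatFunc k)).natDegree ≤ q'.natDegree :=
        Polynomial.natDegree_le_of_dvd hdvd hq'm.ne_zero
    _ = 6 := hq'deg

end degree

section stepB
variable (k : Type u) [Field k] (h2 : (2 : k) ≠ 0)
  (σ τ : RatFunc k ≃ₐ[k] RatFunc k) (hσ : σ RatFunc.X = (RatFunc.X : RatFunc k)⁻¹)
  (hτ : τ RatFunc.X = 1 - (RatFunc.X : RatFunc k))

open IntermediateField

lemma ne1 : (RatFunc.X : RatFunc k) ≠ (RatFunc.X : RatFunc k)⁻¹ := by
  intro h
  have h0 := lam_ne_zero k
  have := poly_ne_zero_of_coeff k (X ^ 2 - 1 : k[X]) 2 (by simp [Polynomial.coeff_one])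
  apply this
  simp only [map_sub, map_pow, RatFunc.algebraMap_X, map_one]
  field_simp at h
  rw [sub_eq_zero]
  linear_combination h

lemma ne2 : (RatFunc.X : RatFunc k) ≠ 1 - (RatFunc.X : RatFunc k) := by
  intro h
  have := poly_ne_zero_of_coeff k (C 2 * X - 1 : k[X]) 0 (by simp [Polynomial.coeff_one])
  apply this
  simp only [map_sub, map_mul, RatFunc.algebraMap_X, map_one, RatFunc.algebraMap_C, map_ofNat]
  linear_combination h

lemma ne3 : (RatFunc.X : RatFunc k) ≠ 1 - (RatFunc.X : RatFunc k)⁻¹ := by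
  intro h
  have h0 := lam_ne_zero k
  have := poly_ne_zero_of_coeff k (X ^ 2 - X + 1 : k[X]) 2 (by simp [Polynomial.coeff_one, Polynomial.coeff_X])
  apply this
  simp only [map_sub, map_add, map_pow, RatFunc.algebraMap_X, map_one]
  field_simp at h
  linear_combination h

lemma ne4 : (RatFunc.X : RatFunc k)⁻¹ ≠ 1 - (RatFunc.X : RatFunc k) := by
  intro h
  have h0 := lam_ne_zero k
  have := poly_ne_zero_of_coeff k (X ^ 2 - X + 1 : k[X]) 2 (by simp [Polynomial.coeff_one, Polynomial.coeff_X])
  apply this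
  simp only [map_sub, map_add, map_pow, RatFunc.algebraMap_X, map_one]
  have h' : (1 : RatFunc k) = RatFunc.X * (1 - RatFunc.X) := by
    rw [← h, mul_inv_cancel₀ h0]
  linear_combination h' 

lemma ne5 : (RatFunc.X : RatFunc k)⁻¹ ≠ 1 - (RatFunc.X : RatFunc k)⁻¹ := by
  intro h
  have h0 := lam_ne_zero k
  have := poly_ne_zero_of_coeff k (X - C 2 : k[X]) 1 (by simp)
  apply this
  simp only [map_sub, RatFunc.algebraMap_X, RatFunc.algebraMap_C, map_ofNat]
  field_simp at h
  linear_combination -h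

lemma ne6 : 1 - (RatFunc.X : RatFunc k) ≠ 1 - (RatFunc.X : RatFunc k)⁻¹ := by
  intro h
  apply ne1 k
  linear_combination -h

/-- the fixed field of an automorphism -/
noncomputable def fixF (s : RatFunc k ≃ₐ[k] RatFunc k) : IntermediateField k (RatFunc k) :=
  Subalgebra.toIntermediateField (AlgHom.equalizer (s : RatFunc k →ₐ[k] RatFunc k) (AlgHom.id k _))
    (by
      intro x hx
      rw [AlgHom.mem_equalizer] at hx ⊢
      simp only [AlgHom.coe_coe, AlgHom.coe_id, id_eq] at hx ⊢
      rw [map_inv₀, hx])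

lemma mem_fixF (s : RatFunc k ≃ₐ[k] RatFunc k) (x : RatFunc k) : x ∈ fixF k s ↔ s x = x := by
  unfold fixF
  change x ∈ AlgHom.equalizer (s : RatFunc k →ₐ[k] RatFunc k) (AlgHom.id k _) ↔ _
  rw [AlgHom.mem_equalizer]
  simp

include h2 hσ hτ in
lemma mem_adjoin_of_fixed (b : RatFunc k) (hσb : σ b = b) (hτb : τ b = b) :
    b ∈ IntermediateField.adjoin k ({jj k} : Set (RatFunc k)) := by
  classical
  set F : IntermediateField k (RatFunc k) := IntermediateField.adjoin k ({jj k} : Set (RatFunc k)) with hF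
  set F' : IntermediateField k (RatFunc k) := IntermediateField.adjoin k ({jj k, b} : Set (RatFunc k)) with hF'
  have hFF' : F ≤ F' := IntermediateField.adjoin.mono _ _ _ (by simp)
  have hjF : jj k ∈ F := IntermediateField.subset_adjoin _ _ (Set.mem_singleton _)
  have hjF' : jj k ∈ F' := hFF' hjF
  have hbF' : b ∈ F' := IntermediateField.subset_adjoin _ _ (by simp)
  obtain ⟨hfdF, hdegF⟩ := finrank_le_six k h2 F hjF
  obtain ⟨hfdF', hdegF'⟩ := finrank_le_six k h2 F' hjF'
  -- σ and τ fix F'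
  have hσF' : F' ≤ fixF k σ := by
    rw [hF', IntermediateField.adjoin_le_iff]
    intro x hx
    rcases hx with rfl | rfl
    · exact (mem_fixF k σ _).2 (sigma_jj k σ hσ)
    · exact (mem_fixF k σ _).2 hσb
  have hτF' : F' ≤ fixF k τ := by
    rw [hF', IntermediateField.adjoin_le_iff]
    intro x hx
    rcases hx with rfl | rfl
    · exact (mem_fixF k τ _).2 (tau_jj k τ hτ)
    · exact (mem_fixF k τ _).2 hτb
  have hσm : σ ∈ F'.fixingSubgroup := by
    rw [IntermediateField.mem_fixingSubgroup_iff]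
    intro x hx; exact (mem_fixF k σ x).1 (hσF' hx)
  have hτm : τ ∈ F'.fixingSubgroup := by
    rw [IntermediateField.mem_fixingSubgroup_iff]
    intro x hx; exact (mem_fixF k τ x).1 (hτF' hx)
  -- four distinct elements
  let f : Fin 4 → F'.fixingSubgroup := ![1, ⟨σ, hσm⟩, ⟨τ, hτm⟩, ⟨σ, hσm⟩ * ⟨τ, hτm⟩]
  have hval : ∀ i, ((f i : F'.fixingSubgroup) : RatFunc k ≃ₐ[k] RatFunc k) RatFunc.X =
      (![(RatFunc.X : RatFunc k), (RatFunc.X : RatFunc k)⁻¹, 1 - RatFunc.X, 1 - (RatFunc.X : RatFunc k)⁻¹] : Fin 4 → RatFunc k) i := by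
    intro i
    fin_cases i
    · rfl
    · exact hσ
    · exact hτ
    · change σ (τ RatFunc.X) = _
      rw [hτ, map_sub, map_one, hσ]
      rfl
  have hinj : Function.Injective f := by
    intro i j hij
    have := congrArg (fun g : F'.fixingSubgroup => (g : RatFunc k ≃ₐ[k] RatFunc k) RatFunc.X) hij
    simp only [hval] at this
    have n1 := ne1 k; have n2 := ne2 k; have n3 := ne3 k
    have n4 := ne4 k; have n5 := ne5 k; have n6 := ne6 k
    fin_cases i <;> fin_cases j <;>
      first
        | rfl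
        | (exfalso; simp only [Matrix.cons_val_zero, Matrix.cons_val_one, Matrix.cons_val] at this;
           first
            | exact n1 this | exact n2 this | exact n3 this | exact n4 this | exact n5 this | exact n6 this
            | exact n1 this.symm | exact n2 this.symm | exact n3 this.symm | exact n4 this.symm
            | exact n5 this.symm | exact n6 this.symm)
  have hcard4 : 4 ≤ Nat.card F'.fixingSubgroup := by
    haveI : Finite F'.fixingSubgroup := Finite.of_equiv _ (IntermediateField.fixingSubgroupEquiv F').toEquiv.symm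
    have := Nat.card_le_card_of_injective f hinj
    simpa using this
  have hcardle : Nat.card F'.fixingSubgroup ≤ Module.finrank F' (RatFunc k) := by
    rw [Nat.card_congr (IntermediateField.fixingSubgroupEquiv F').toEquiv, Nat.card_eq_fintype_card]
    exact AlgEquiv.card_le
  have h4 : 4 ≤ Module.finrank F' (RatFunc k) := hcard4.trans hcardle
  have hmul := IntermediateField.relfinrank_mul_finrank_top hFF' (E := RatFunc k)
  have hrel : IntermediateField.relfinrank F F' = 1 := by
    have hpos : 0 < Module.finrank F (RatFunc k) := Module.finrank_pos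
    rcases Nat.lt_or_ge (IntermediateField.relfinrank F F') 2 with hlt | hge
    · interval_cases hr : IntermediateField.relfinrank F F'
      · rw [zero_mul] at hmul; omega
      · rfl
    · exfalso
      have : 2 * 4 ≤ IntermediateField.relfinrank F F' * Module.finrank F' (RatFunc k) :=
        Nat.mul_le_mul hge h4
      omega
  have hle : F' ≤ F := IntermediateField.relfinrank_eq_one_iff.1 hrel
  exact hle hbF'

end stepB

section stepC
variable (k : Type u) [Field k] (h2 : (2 : k) ≠ 0)

open IntermediateField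
open scoped IntermediateField.algebraAdjoinAdjoin

include h2 in
lemma jj_ne_C : ¬ ∃ c : k, jj k = RatFunc.C c := by
  rintro ⟨c, hc⟩
  have h0 := lam_ne_zero k
  have h1 := lam_sub_one_ne_zero k
  have h256 : (256 : k) ≠ 0 := by
    have : (256 : k) = 2 ^ 8 := by norm_num
    rw [this]; exact pow_ne_zero _ h2
  let r : k[X] := C (-768) * X ^ 5 + C (1536 - c) * X ^ 4 + C (-1792 + 2 * c) * X ^ 3
      + C (1536 - c) * X ^ 2 + C (-768) * X + C 256
  have hr : r.natDegree ≤ 5 := by
    simp only [r]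
    compute_degree
  have hp : (C 256 * (X ^ 2 - X + 1) ^ 3 - C c * (X ^ 2 * (X - 1) ^ 2) : k[X]) =
      C 256 * X ^ 6 + r := by
    simp only [r, map_sub, map_add, map_mul, map_neg, map_ofNat]
    ring
  have hcoeff : (C 256 * (X ^ 2 - X + 1) ^ 3 - C c * (X ^ 2 * (X - 1) ^ 2) : k[X]).coeff 6 ≠ 0 := by
    rw [hp, coeff_add, coeff_C_mul, coeff_X_pow, if_pos rfl, mul_one,
      coeff_eq_zero_of_natDegree_lt (lt_of_le_of_lt hr (by norm_num)), add_zero]
    exact h256
  apply poly_ne_zero_of_coeff k _ 6 hcoeff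
  simp only [map_sub, map_mul, map_pow, map_add, map_one, RatFunc.algebraMap_X,
    RatFunc.algebraMap_C]
  rw [← hc]
  have : RatFunc.C (256 : k) = (256 : RatFunc k) := map_ofNat _ 256
  rw [this]
  unfold jj
  field_simp
  ring

include h2 in
lemma mem_SS_of_integral (b : RatFunc k)
    (hb : b ∈ IntermediateField.adjoin k ({jj k} : Set (RatFunc k)))
    (hint : IsIntegral (SS k) b) : b ∈ SS k := by
  have htr : Transcendental k (jj k) := RatFunc.transcendental_of_ne_C _ (jj_ne_C k h2)
  haveI : UniqueFactorizationMonoid (SS k) := htr.uniqueFactorizationMonoid_adjoin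
  haveI : IsIntegrallyClosed (SS k) := UniqueFactorizationMonoid.instIsIntegrallyClosed
  let F : IntermediateField k (RatFunc k) := IntermediateField.adjoin k ({jj k} : Set (RatFunc k))
  let b' : F := ⟨b, hb⟩
  have hint' : IsIntegral (SS k) b' := by
    have : IsIntegral (SS k) (algebraMap F (RatFunc k) b') := hint
    exact (isIntegral_algebraMap_iff (algebraMap F (RatFunc k)).injective).1 this
  obtain ⟨y, hy⟩ := (IsIntegrallyClosed.isIntegral_iff (R := SS k) (K := F)).1 hint'
  have : (y : RatFunc k) = b := congrArg (fun z : F => (z : RatFunc k)) hy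
  rw [← this]
  exact y.2

end stepC

/-- The algebraic step of its proof: Fix an algebraically closed field k whose characteristic is neither
2 nor 3, let B ⊆ k(λ) be the k-subalgebra generated by λ, λ⁻¹ and (λ - 1)⁻¹ (the coordinate ring of
the λ-line with 0 and 1 removed), and let σ and τ be the k-algebra automorphisms of k(λ) determined
by σ(λ) = λ⁻¹ and τ(λ) = 1 - λ (they generate the group of order six permuting λ, 1/λ, 1-λ, 1/(1-λ),
λ/(λ-1), (λ-1)/λ). Then the elements of B fixed by σ and τ are exactly the elements of the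
k-subalgebra generated by j = 256 (λ² - λ + 1)³ / (λ² (λ - 1)²); in other words the ring of
invariants of B is the polynomial ring k[j]. -/
theorem result (k : Type u) [Field k] [IsAlgClosed k]
    (h2 : (2 : k) ≠ 0) (h3 : (3 : k) ≠ 0)
    (σ τ : RatFunc k ≃ₐ[k] RatFunc k) (hσ : σ RatFunc.X = (RatFunc.X : RatFunc k)⁻¹)
    (hτ : τ RatFunc.X = 1 - (RatFunc.X : RatFunc k)) (b : RatFunc k) :
    (b ∈ Algebra.adjoin k ({RatFunc.X, (RatFunc.X : RatFunc k)⁻¹, ((RatFunc.X : RatFunc k) - 1)⁻¹} : Set (RatFunc k)) ∧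
        σ b = b ∧ τ b = b) ↔
      b ∈ Algebra.adjoin k ({(256 : RatFunc k) * ((RatFunc.X : RatFunc k) ^ 2 - RatFunc.X + 1) ^ 3 /
        ((RatFunc.X : RatFunc k) ^ 2 * ((RatFunc.X : RatFunc k) - 1) ^ 2)} : Set (RatFunc k)) := by
  constructor
  · rintro ⟨hb, hσb, hτb⟩
    have h1 : IsIntegral (SS k) b := BB_le_integralClosure k h2 hb
    have h2' := mem_adjoin_of_fixed k h2 σ τ hσ hτ b hσb hτb
    exact mem_SS_of_integral k h2 b h2' h1
  · intro hb
    have hle : SS k ≤ BB k := Algebra.adjoin_le (by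
      intro x hx; rw [Set.mem_singleton_iff] at hx; rw [hx]; exact jj_mem_BB k)
    refine ⟨hle hb, ?_, ?_⟩
    · have : SS k ≤ AlgHom.equalizer (σ : RatFunc k →ₐ[k] RatFunc k) (AlgHom.id k _) :=
        Algebra.adjoin_le (by
          intro x hx; rw [Set.mem_singleton_iff] at hx; rw [hx]
          exact sigma_jj k σ hσ)
      exact this hb
    · have : SS k ≤ AlgHom.equalizer (τ : RatFunc k →ₐ[k] RatFunc k) (AlgHom.id k _) :=
        Algebra.adjoin_le (by
          intro x hx; rw [Set.mem_singleton_iff] at hx; rw [hx]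
          exact tau_jj k τ hτ)
      exact this hb

end Groth.Agent.S11470
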