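import Groth.Statements.S1148
import Mathlib.RingTheory.LocalRing.ResidueField.Fiber
import Mathlib.RingTheory.Ideal.GoingDown
import Mathlib.RingTheory.Ideal.MinimalPrime.Noetherian
import Mathlib.RingTheory.FiniteStability

set_option autoImplicit false
universe u
open Desc

namespace Groth.Agent.S1148

section aux

variable (A B : Type u) [CommRing A] [CommRing B] [Algebra A B]

lemma under_mem_minimalPrimes [Module.Flat A B] {q : Ideal B} (hq : q ∈ minimalPrimes B) :
    q.under A ∈ minimalPrimes A := by
  have hqp : q.IsPrime := Ideal.minimalPrimes_isPrime hq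
  rw [minimalPrimes_eq_minimals] at hq ⊢
  refine ⟨inferInstanceAs (q.under A).IsPrime, ?_⟩
  intro p' hp' hle
  haveI : p'.IsPrime := hp'
  obtain ⟨P, hPq, hPprime, hPover⟩ :=
    Ideal.exists_ideal_le_liesOver_of_le (p := p') (q := q.under A) q hle
  have : q ≤ P := hq.2 hPprime hPq
  have hPq' : P = q := le_antisymm hPq this
  rw [hPover.over, hPq']

/-- The primes over `p` whose image in the fibre is a minimal prime. -/
def goodPrimes (p : Ideal A) : Set (Ideal B) :=
  {q | ∃ (hp : p.IsPrime) (hq : q ∈ p.primesOver B),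
    (PrimeSpectrum.primesOverOrderIsoFiber A B p ⟨q, hq⟩).asIdeal ∈ minimalPrimes (p.Fiber B)}

lemma finite_goodPrimes [Algebra.FiniteType A B] (p : Ideal A) : (goodPrimes A B p).Finite := by
  by_cases hp : p.IsPrime
  · haveI := hp
    haveI : IsNoetherianRing (p.Fiber B) :=
      Algebra.FiniteType.isNoetherianRing p.ResidueField (p.Fiber B)
    have hfin : {x : PrimeSpectrum (p.Fiber B) | x.asIdeal ∈ minimalPrimes (p.Fiber B)}.Finite :=
      (minimalPrimes.finite_of_isNoetherianRing (p.Fiber B)).preimage
        (fun x _ y _ h => PrimeSpectrum.ext h)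
    refine (hfin.image
      (fun x => ((PrimeSpectrum.primesOverOrderIsoFiber A B p).symm x).1)).subset ?_
    rintro q ⟨_, hq, hmin⟩
    exact ⟨_, hmin, by simp⟩
  · convert Set.finite_empty
    ext q
    simp only [goodPrimes, Set.mem_setOf_eq, Set.mem_empty_iff_false, iff_false]
    rintro ⟨hp', -⟩
    exact hp hp'

lemma mem_goodPrimes [Module.Flat A B] {q : Ideal B} (hq : q ∈ minimalPrimes B) :
    q ∈ goodPrimes A B (q.under A) := by
  have hqp : q.IsPrime := Ideal.minimalPrimes_isPrime hq
  have hp : (q.under A).IsPrime := inferInstance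
  have hqo : q ∈ (q.under A).primesOver B := ⟨hqp, ⟨rfl⟩⟩
  refine ⟨hp, hqo, ?_⟩
  set φ := PrimeSpectrum.primesOverOrderIsoFiber A B (q.under A) with hφ
  rw [minimalPrimes_eq_minimals] at hq ⊢
  refine ⟨(φ ⟨q, hqo⟩).2, ?_⟩
  intro r hr hle
  let y : PrimeSpectrum ((q.under A).Fiber B) := ⟨r, hr⟩
  have h1 : y ≤ φ ⟨q, hqo⟩ := hle
  have h2 : φ.symm y ≤ ⟨q, hqo⟩ := by
    rw [← φ.symm_apply_apply ⟨q, hqo⟩]
    exact φ.symm.monotone h1
  have h3 : (φ.symm y).1 ≤ q := h2
  have h4 : q ≤ (φ.symm y).1 := hq.2 (φ.symm y).2.1 h3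
  have h5 : (⟨q, hqo⟩ : (q.under A).primesOver B) ≤ φ.symm y := h4
  have h6 : φ ⟨q, hqo⟩ ≤ y := by
    rw [← φ.apply_symm_apply y]
    exact φ.monotone h5
  exact h6

lemma finite_minimalPrimes_of_flat [Module.Flat A B] [Algebra.FiniteType A B]
    (h : (minimalPrimes A).Finite) : (minimalPrimes B).Finite := by
  refine (h.biUnion (fun p _ => finite_goodPrimes A B p)).subset ?_
  intro q hq
  exact Set.mem_biUnion (under_mem_minimalPrimes A B hq) (mem_goodPrimes A B hq)

end aux

/-- Affine form (finiteness of irreducible components of quasi-compact opens is fppf local; this is the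
ascent direction for a morphism of affine schemes). Let A → B be a flat ring map of finite
presentation. If Spec A has finitely many irreducible components, then so does Spec B. -/
theorem result (A B : Type u) [CommRing A] [CommRing B] [Algebra A B]
    [Module.Flat A B] [Algebra.FinitePresentation A B] (h : (irreducibleComponents (PrimeSpectrum A)).Finite) :
    (irreducibleComponents (PrimeSpectrum B)).Finite := by
  have hA : (minimalPrimes A).Finite := by
    rw [← Set.finite_coe_iff] at h ⊢
    exact Finite.of_equiv _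
      ((minimalPrimes.equivIrreducibleComponents A).toEquiv.trans OrderDual.ofDual).symm
  have hB := finite_minimalPrimes_of_flat A B hA
  rw [← Set.finite_coe_iff] at hB ⊢
  exact Finite.of_equiv _
    ((minimalPrimes.equivIrreducibleComponents B).toEquiv.trans OrderDual.ofDual)

end Groth.Agent.S1148
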