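import Groth.Statements.S11482
import Groth.Agent.Lib.Helper2.CurveSub
import Groth.Agent.S7637

set_option autoImplicit false
universe u
open CategoryTheory CategoryTheory.Limits AlgebraicGeometry
open Curves

namespace Groth.Agent.S11482

/-- Fix an algebraically closed field k and a nonsingular projective curve X over k of genus g (smooth,
proper, integral, of dimension one, g = dim H¹(X, O_X)) and E a locally free sheaf of rank 2 and
degree d (degree = χ(E) − 2χ(O_X)) that is indecomposable: in any decomposition E ≅ E₁ ⊕ E₂ one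
summand is zero. Then (a) every invertible subsheaf L ⊆ E has 2·deg L ≤ d + 2g − 2, and (b) there is
an invertible subsheaf L ⊆ E with d − 2g ≤ 2·deg L. (The published statement is that indecomposable
bundles of fixed rank and degree form a bounded family; this row states, in rank two, the degree
bounds for invertible subsheaves on which its proof rests.) -/
theorem result (k : Type u) [Field k] [IsAlgClosed k]
    (X : Scheme.{u}) [X.Over (Spec (CommRingCat.of k))] (hX : Curve.IsSmoothProperCurve k X (X ↘ Spec (CommRingCat.of k)))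
    (E : X.Modules) (hE : FlatMod.IsFinLocFreeOfRank 2 E)
    (hind : ∀ (E₁ E₂ : X.Modules), Nonempty (E ≅ E₁ ⊞ E₂) → IsZero E₁ ∨ IsZero E₂) :
    (∀ (L : X.Modules) (ι : L ⟶ E), PicF.IsInvertible L → Mono ι →
        2 * Curv2.deg k X L 1 ≤ Curv2.deg k X E 2 + 2 * (Curv2.genus k X : ℤ) - 2) ∧
      ∃ (L : X.Modules) (ι : L ⟶ E), PicF.IsInvertible L ∧ Mono ι ∧
        Curv2.deg k X E 2 - 2 * (Curv2.genus k X : ℤ) ≤ 2 * Curv2.deg k X L 1 := by
  classical
  obtain ⟨hprop, hsm, hint, hdim⟩ := hX
  haveI := hprop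
  haveI := hsm
  haveI := hint
  haveI : IsLocallyNoetherian X := Groth.Agent.Lib.Helper8.EulerK.isLocallyNoetherian k X
  constructor
  · intro L ι hL hmono
    haveI := hmono
    have hL1 := Groth.Agent.Lib.Helper6.K0Op.isFinLocFreeOfRank_one_of_isInvertible _ hL
    obtain ⟨F', a, i', hi', hai, hF', hdegle, hcok, hdegsum, -⟩ :=
      Groth.Agent.Lib.Helper2.CurveSat.exists_saturation k X hdim hE hL1 ι
    haveI := hi'
    have hcok1 : FlatMod.IsFinLocFreeOfRank 1 (cokernel i') := hcok
    have hdegsum' : Curv2.deg k X F' 1 + Curv2.deg k X (cokernel i') 1 = Curv2.deg k X E 2 := hdegsum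
    have hF'inv := Groth.Agent.Lib.Helper19.BertiniGlue.isInvertible_of_rank_one hF'
    have hcokinv := Groth.Agent.Lib.Helper19.BertiniGlue.isInvertible_of_rank_one hcok1
    let S : ShortComplex X.Modules := ShortComplex.mk i' (cokernel.π i') (cokernel.condition i')
    have hS : S.ShortExact :=
      { exact := ShortComplex.exact_of_g_is_cokernel _ (cokernelIsCokernel i')
        mono_f := hi'
        epi_g := inferInstanceAs (Epi (cokernel.π i')) }
    have hns : ¬ IsSplitEpi S.g := by
      rintro ⟨⟨σ, hσ⟩⟩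
      let sp : S.Splitting := ShortComplex.Splitting.ofExactOfSection S hS.exact σ hσ hS.mono_f
      have e : E ≅ F' ⊞ cokernel i' := sp.isoBinaryBiproduct
      rcases hind _ _ ⟨e⟩ with h | h
      · exact Groth.Agent.Lib.Helper4.CurveVB.not_isZero_of_rank_pos Nat.one_pos hF' h
      · exact Groth.Agent.Lib.Helper4.CurveVB.not_isZero_of_rank_pos Nat.one_pos hcok1 h
    have hb := Groth.Agent.Lib.Helper2.CurveSub.deg_sub_le_of_not_isSplitEpi k X hdim S hS hF'inv hcokinv hns
    have hb' : Curv2.deg k X F' 1 - Curv2.deg k X (cokernel i') 1 ≤ 2 * (Curv2.genus k X : ℤ) - 2 := hb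
    omega
  · obtain ⟨n, hn1, hn2⟩ : ∃ n : ℤ, Curv2.deg k X E 2 - 2 * (Curv2.genus k X : ℤ) ≤ 2 * n ∧
        2 * n ≤ Curv2.deg k X E 2 - 2 * (Curv2.genus k X : ℤ) + 1 :=
      ⟨(Curv2.deg k X E 2 - 2 * (Curv2.genus k X : ℤ) + 1) / 2, by omega, by omega⟩
    obtain ⟨N, hN, hdegN⟩ := Groth.Agent.Lib.Helper2.CurveSub.exists_invertible_of_deg k X hdim n
    obtain ⟨N', hN'i, hN'⟩ := Groth.Agent.Lib.Helper8.InvInverse.exists_isInverseOf hN
    have hdegN' := Groth.Agent.Lib.Helper8.DegGroup.deg_inverse_eq_neg k X hdim.le hN hN'i hN'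
    have hN1 := Groth.Agent.Lib.Helper6.K0Op.isFinLocFreeOfRank_one_of_isInvertible _ hN
    have hN'1 := Groth.Agent.Lib.Helper6.K0Op.isFinLocFreeOfRank_one_of_isInvertible _ hN'i
    have hT := Groth.Agent.S7637.result k X hdim.le 1 2 N' E hN'1 hE
    have hTc : Coh.IsCoh (CohB1.tensorMod N' E) :=
      Groth.Agent.Lib.Helper6.K0Op.isCoh_tensorMod N' E
        (Groth.Agent.Lib.Helper6.K0Op.isCoh_of_isInvertible _ hN'i)
        (Groth.Agent.Lib.Helper8.CurveTensor.isCoh_of_isFinLocFreeOfRank E hE)
    have hχ := Groth.Agent.Lib.Helper8.CurveRR.euler_eq_sub k X hdim.le _ hTc.1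
    have hχO := Groth.Agent.Lib.Helper2.CurveSub.euler_structureModule k X hdim
    have hdegNE : Curv2.deg k X (CohB1.tensorMod N' E) 2 =
        Curv2.euler k X (CohB1.tensorMod N' E) - 2 * Curv2.euler k X (Coh.structureModule X) := by
      unfold Curv2.deg
      push_cast
      ring
    have hT' : Curv2.deg k X (CohB1.tensorMod N' E) 2 =
        Curv2.deg k X E 2 + 2 * Curv2.deg k X N' 1 := by
      have h := hT
      push_cast at h
      rw [one_mul] at h
      exact h
    have hnt : Nontrivial (Coh.HH X (CohB1.tensorMod N' E) 0) := by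
      by_contra hnn
      rw [not_nontrivial_iff_subsingleton] at hnn
      have h0 : Module.finrank k (Coh.HH X (CohB1.tensorMod N' E) 0) = 0 :=
        Module.finrank_zero_of_subsingleton
      rw [h0] at hχ
      push_cast at hχ
      omega
    obtain ⟨φ, hφ⟩ := (Groth.Agent.Lib.Helper2.TensEq.exists_hom_ne_zero_iff hN' E).2 hnt
    refine ⟨N, φ, hN, Groth.Agent.Lib.Helper2.CurveSub.mono_of_ne_zero k X hdim hN1 hE φ hφ, ?_⟩
    omega

end Groth.Agent.S11482
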