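import Groth.Statements.S11493
import Mathlib

set_option autoImplicit false
universe u
open CategoryTheory
open VBPn

namespace Groth.Agent.S11493



open Abelian

theorem forward {A : Type u} [CommRing A] (S : ShortComplex (ModuleCat.{u} A)) (hS : S.ShortExact)
    (hfree : Module.Free A S.X₂) (x : Abelian.Ext S.X₃ S.X₁ 1) :
    ∃ f : S.X₁ ⟶ S.X₁, hS.extClass.comp (Abelian.Ext.mk₀ f) (add_zero 1) = x := by
  haveI : Projective S.X₂ := by
    have : Module.Projective A S.X₂ := inferInstance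
    exact (IsProjective.iff_projective (R := A) S.X₂).mp this
  obtain ⟨x₁, hx₁⟩ := Ext.contravariant_sequence_exact₃ hS S.X₁ x (Ext.eq_zero_of_projective _)
    (add_zero 1)
  obtain ⟨f, rfl⟩ := (Ext.mk₀_bijective _ _).2 x₁
  exact ⟨f, hx₁⟩

/-- Ext¹(M, A) = 0 if the class generates. -/
theorem ext_X₂_eq_zero {A : Type u} [CommRing A] (S : ShortComplex (ModuleCat.{u} A))
    (hS : S.ShortExact) [Projective S.X₁]
    (h : ∀ x : Abelian.Ext S.X₃ S.X₁ 1, ∃ f : S.X₁ ⟶ S.X₁,
      hS.extClass.comp (Abelian.Ext.mk₀ f) (add_zero 1) = x)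
    (y : Abelian.Ext S.X₂ S.X₁ 1) : y = 0 := by
  obtain ⟨x, rfl⟩ := Ext.contravariant_sequence_exact₂ hS S.X₁ y (Ext.eq_zero_of_projective _)
  obtain ⟨f, rfl⟩ := h x
  rw [← Ext.comp_assoc_of_third_deg_zero]
  simp

theorem extend {A : Type u} [CommRing A] (T : ShortComplex (ModuleCat.{u} A)) (hT : T.ShortExact)
    (Y : ModuleCat.{u} A) (hY : ∀ y : Abelian.Ext T.X₃ Y 1, y = 0) (c : T.X₁ ⟶ Y) :
    ∃ c' : T.X₂ ⟶ Y, T.f ≫ c' = c := by
  obtain ⟨x₂, hx₂⟩ := Ext.contravariant_sequence_exact₁ hT Y (Ext.mk₀ c) (add_zero 1) (hY _)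
  obtain ⟨c', rfl⟩ := (Ext.mk₀_bijective _ _).2 x₂
  refine ⟨c', ?_⟩
  rw [Ext.mk₀_comp_mk₀] at hx₂
  exact (Ext.mk₀_bijective _ _).1 hx₂

theorem extend_lin {A : Type u} [CommRing A] {K F : Type u} [AddCommGroup K] [AddCommGroup F]
    [Module A K] [Module A F] (M Y : ModuleCat.{u} A)
    (j : K →ₗ[A] F) (π : F →ₗ[A] M) (hj : Function.Injective j) (hπ : Function.Surjective π)
    (hex : Function.Exact j π)
    (hY : ∀ y : Abelian.Ext M Y 1, y = 0) (c : K →ₗ[A] Y) :
    ∃ c' : F →ₗ[A] Y, c' ∘ₗ j = c := by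
  let T : ShortComplex (ModuleCat.{u} A) :=
    ShortComplex.mk (ModuleCat.ofHom j) (ModuleCat.ofHom π : ModuleCat.of A F ⟶ M) (by
      ext x
      exact hex.apply_apply_eq_zero x)
  have hT : T.ShortExact :=
    { exact := (ShortComplex.ShortExact.moduleCat_exact_iff_function_exact T).mpr hex
      mono_f := (ModuleCat.mono_iff_injective _).mpr hj
      epi_g := (ModuleCat.epi_iff_surjective _).mpr hπ }
  obtain ⟨c', hc'⟩ := extend T hT Y hY (ModuleCat.ofHom c)
  refine ⟨c'.hom, ?_⟩
  have := congrArg ModuleCat.Hom.hom hc'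
  exact this

/-- If all coordinate functionals of a finite free submodule extend, the inclusion has a
retraction. -/
theorem exists_retraction {A : Type u} [CommRing A] {K F : Type u} [AddCommGroup K]
    [AddCommGroup F] [Module A K] [Module A F] [Module.Free A K] [Module.Finite A K]
    (j : K →ₗ[A] F) (h : ∀ c : K →ₗ[A] A, ∃ c' : F →ₗ[A] A, c' ∘ₗ j = c) :
    ∃ r : F →ₗ[A] K, r ∘ₗ j = LinearMap.id := by
  classical
  let b := Module.Free.chooseBasis A K
  choose c' hc' using fun i => h (b.coord i)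
  refine ⟨b.equivFun.symm.toLinearMap ∘ₗ LinearMap.pi c', ?_⟩
  ext x
  simp only [LinearMap.coe_comp, LinearEquiv.coe_coe, Function.comp_apply, LinearMap.id_coe, id_eq]
  have : (LinearMap.pi c') (j x) = b.equivFun x := by
    ext i
    simp only [LinearMap.pi_apply, Module.Basis.equivFun_apply]
    have := LinearMap.congr_fun (hc' i) x
    simpa using this
  rw [this]
  simp

/-- A finitely generated module with a length-one free resolution and `Ext¹(M, A) = 0` is free. -/
theorem free_of_resolution {A : Type u} [CommRing A] [IsNoetherianRing A] [IsLocalRing A]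
    {F : Type u} [AddCommGroup F] [Module A F] [Module.Free A F] [Module.Finite A F]
    (M Y : ModuleCat.{u} A) (e : Y ≃ₗ[A] A) (π : F →ₗ[A] M) (hπ : Function.Surjective π)
    [Module.Free A (LinearMap.ker π)]
    (hM : ∀ y : Abelian.Ext M Y 1, y = 0) : Module.Free A M := by
  haveI : Module.Finite A (LinearMap.ker π) := inferInstance
  have hex : Function.Exact (LinearMap.ker π).subtype π := by
    intro x
    constructor
    · intro hx
      exact ⟨⟨x, hx⟩, rfl⟩
    · rintro ⟨y, rfl⟩
      exact y.2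
  obtain ⟨r, hr⟩ := exists_retraction (LinearMap.ker π).subtype (fun c => by
    obtain ⟨c', hc'⟩ := extend_lin M Y (LinearMap.ker π).subtype π
      (Submodule.subtype_injective _) hπ hex hM (e.symm.toLinearMap ∘ₗ c)
    refine ⟨e.toLinearMap ∘ₗ c', ?_⟩
    rw [LinearMap.comp_assoc, hc']
    ext x
    simp)
  obtain ⟨l, hl⟩ := ((hex.split_tfae' ).out 1 0 rfl rfl).mp ⟨hπ, r, hr⟩ |>.2
  haveI : Module.Projective A M := Module.Projective.of_split l π hl
  haveI : Module.Finite A M := Module.Finite.of_surjective π hπ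
  exact Module.free_of_flat_of_isLocalRing

/-- The length-one resolution of the middle term. -/
theorem backward {A : Type u} [CommRing A] [IsNoetherianRing A] [IsLocalRing A]
    (I : Ideal A) (q : ℕ) (φ : (Fin q → A) →ₗ[A] ↥I) (hφ : Function.Surjective φ)
    (hK : Module.Free A ↥(LinearMap.ker φ))
    (S : ShortComplex (ModuleCat.{u} A)) (hS : S.ShortExact)
    (e₁ : S.X₁ ≅ ModuleCat.of A A) (e₃ : S.X₃ ≅ ModuleCat.of A ↥I)
    (h : ∀ x : Abelian.Ext S.X₃ S.X₁ 1, ∃ f : S.X₁ ⟶ S.X₁,
      hS.extClass.comp (Abelian.Ext.mk₀ f) (add_zero 1) = x) : Module.Free A S.X₂ := by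
  haveI : Projective (ModuleCat.of A A) :=
    (IsProjective.iff_projective (R := A) A).mp inferInstance
  haveI : Projective S.X₁ := Projective.of_iso e₁.symm inferInstance
  have hExt := ext_X₂_eq_zero S hS h
  let l₁ : S.X₁ ≃ₗ[A] A := e₁.toLinearEquiv
  let l₃ : S.X₃ ≃ₗ[A] I := e₃.toLinearEquiv
  have hg : Function.Surjective S.g.hom := hS.moduleCat_surjective_g
  have hf : Function.Injective S.f.hom := hS.moduleCat_injective_f
  have hfg : Function.Exact S.f.hom S.g.hom :=
    (ShortComplex.ShortExact.moduleCat_exact_iff_function_exact S).mp hS.exact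
  obtain ⟨ψ, hψ⟩ := Module.projective_lifting_property S.g.hom (l₃.symm.toLinearMap ∘ₗ φ) hg
  let π : (A × (Fin q → A)) →ₗ[A] S.X₂ := (S.f.hom ∘ₗ l₁.symm.toLinearMap).coprod ψ
  have hψ' : ∀ v, S.g.hom (ψ v) = l₃.symm (φ v) := fun v => LinearMap.congr_fun hψ v
  have hπ : Function.Surjective π := by
    intro m
    obtain ⟨v, hv⟩ := hφ (l₃ (S.g.hom m))
    have : S.g.hom (m - ψ v) = 0 := by
      rw [map_sub, hψ', hv]
      simp
    obtain ⟨a, ha⟩ := (hfg _).mp this
    refine ⟨(l₁ a, v), ?_⟩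
    simp only [π, LinearMap.coprod_apply, LinearMap.coe_comp, LinearEquiv.coe_coe,
      Function.comp_apply, LinearEquiv.symm_apply_apply, ha]
    abel
  -- kernel of π ≃ kernel of φ
  have hmem : ∀ x : LinearMap.ker π, (x : A × (Fin q → A)).2 ∈ LinearMap.ker φ := by
    rintro ⟨⟨a, v⟩, hx⟩
    have hx' : S.f.hom (l₁.symm a) + ψ v = 0 := by simpa [π] using hx
    have := congrArg S.g.hom hx'
    rw [map_add, hψ', hfg.apply_apply_eq_zero, zero_add, map_zero] at this
    simpa using this
  let g : LinearMap.ker π →ₗ[A] LinearMap.ker φ :=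
    LinearMap.codRestrict (LinearMap.ker φ)
      (LinearMap.snd A A (Fin q → A) ∘ₗ (LinearMap.ker π).subtype) hmem
  have hginj : Function.Injective g := by
    rw [← LinearMap.ker_eq_bot, LinearMap.ker_eq_bot']
    rintro ⟨⟨a, v⟩, hx⟩ hgx
    have hv : v = 0 := congrArg Subtype.val hgx
    subst hv
    have hx' : S.f.hom (l₁.symm a) + ψ 0 = 0 := by simpa [π] using hx
    rw [map_zero, add_zero] at hx'
    have : l₁.symm a = 0 := hf (by rw [hx', map_zero])
    have ha : a = 0 := by simpa using this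
    subst ha
    rfl
  have hgsurj : Function.Surjective g := by
    rintro ⟨v, hv⟩
    have : S.g.hom (ψ v) = 0 := by
      rw [hψ', LinearMap.mem_ker.mp hv, map_zero]
    obtain ⟨a, ha⟩ := (hfg _).mp this
    refine ⟨⟨(- l₁ a, v), ?_⟩, rfl⟩
    simp only [LinearMap.mem_ker, π, LinearMap.coprod_apply, LinearMap.coe_comp,
      LinearEquiv.coe_coe, Function.comp_apply, map_neg, LinearEquiv.symm_apply_apply, ha]
    abel
  haveI : Module.Free A (LinearMap.ker π) :=
    Module.Free.of_equiv (LinearEquiv.ofBijective g ⟨hginj, hgsurj⟩).symm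
  exact free_of_resolution S.X₂ S.X₁ l₁ π hπ hExt

/-- Let A be a Noetherian local ring and I an ideal with a free resolution of length 1, 0 → A^p → A^q →
I → 0 (equivalently: a surjection A^q → I with free kernel). Let 0 → A → M → I → 0 be an extension
with class e ∈ Ext^1(I, A). Then M is free if and only if e generates the A-module Ext^1(I, A); the
A-module structure being through End(A) = A, this says every element of Ext^1(I, A) is the composite
of e with an endomorphism of A. -/
theorem result (A : Type u) [CommRing A] [IsNoetherianRing A] [IsLocalRing A]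
    (I : Ideal A)
    (hres : ∃ (q : ℕ) (φ : (Fin q → A) →ₗ[A] ↥I), Function.Surjective φ ∧ Module.Free A ↥(LinearMap.ker φ))
    (S : ShortComplex (ModuleCat.{u} A)) (hS : S.ShortExact)
    (h₁ : Nonempty (S.X₁ ≅ ModuleCat.of A A)) (h₃ : Nonempty (S.X₃ ≅ ModuleCat.of A ↥I)) :
    Module.Free A S.X₂ ↔
      ∀ x : Abelian.Ext S.X₃ S.X₁ 1, ∃ f : S.X₁ ⟶ S.X₁, hS.extClass.comp (Abelian.Ext.mk₀ f) (add_zero 1) = x := by
  obtain ⟨q, φ, hφ, hK⟩ := hres
  exact ⟨fun hfree x => forward S hS hfree x,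
    fun h => backward I q φ hφ hK S hS h₁.some h₃.some h⟩




end Groth.Agent.S11493
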