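import Groth.Statements.S11496
import Groth.Agent.Lib.helper11.GorensteinLocal
import Groth.Agent.S0342
import Groth.Agent.S5790
import Groth.Agent.S5765
import Groth.Agent.Lib.Helper21.DepthKit5

set_option autoImplicit false
universe u
open CategoryTheory
open VBPn

namespace Groth.Agent.S11496

/-- Let A be a regular local ring, M a finitely generated A-module and i ≥ 0. The support of Ext^i_A(M,
A) has dimension at most dim A − i: for every prime ideal p of A such that Ext^i over the
localization A_p of M_p into A_p is nonzero (this Ext group is the localization at p of Ext^i_A(M,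
A)), one has dim(A/p) + i ≤ dim A. The published statement is for coherent analytic sheaves on an
n-dimensional complex manifold; this row is stated for any regular local ring. -/
theorem result (A : Type u) [CommRing A] [IsRegularLocalRing A]
    (M : Type u) [AddCommGroup M] [Module A M] [Module.Finite A M] (i : ℕ) (p : Ideal A) [p.IsPrime]
    (h : Nontrivial (Abelian.Ext
      (ModuleCat.of (Localization.AtPrime p) (LocalizedModule p.primeCompl M))
      (ModuleCat.of (Localization.AtPrime p) (Localization.AtPrime p)) i)) :
    ringKrullDim (A ⧸ p) + (i : WithBot ℕ∞) ≤ ringKrullDim A := by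
  haveI hGor : LocCoh.IsGorensteinLocalRing A := Groth.Agent.S0342.result A
  obtain ⟨n0, hn0⟩ := hGor.exists_hasInjectiveDimensionLT
  have hn1 : HasInjectiveDimensionLT (ModuleCat.of A A) (n0 + 1) :=
    hasInjectiveDimensionLT_of_ge _ n0 (n0 + 1) (by omega)
  have hloc := (Groth.Agent.S5790.result A A n0).mp hn1 ⟨p, inferInstance⟩
  obtain ⟨d, hd⟩ := Groth.Agent.Lib.Helper21.DepthKit.exists_nat_supportDim
    (A := Localization.AtPrime p) (M := Localization.AtPrime p)
  rw [Module.supportDim_self_eq_ringKrullDim] at hd
  have hmain := Groth.Agent.Lib.helper11.GorensteinLocal.gorenstein_main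
    (A := Localization.AtPrime p) ⟨n0 + 1, hloc⟩ d hd
  have hid : i ≤ d := by
    by_contra hlt
    haveI := hmain.1
    have hsub := HasInjectiveDimensionLT.subsingleton
      (ModuleCat.of (Localization.AtPrime p) (Localization.AtPrime p)) (d + 1) i (by omega)
      (ModuleCat.of (Localization.AtPrime p) (LocalizedModule p.primeCompl M))
    exact not_subsingleton_iff_nontrivial.mpr h hsub
  have h1 := Groth.Agent.S5765.result A A p
  have hsupp : (⟨p, inferInstance⟩ : PrimeSpectrum A) ∈ Module.support A A := by
    rw [Module.support_eq_zeroLocus, Module.annihilator_eq_bot.mpr inferInstance]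
    simp
  rw [Groth.Agent.Lib.Helper21.DepthKit.supportDim_quot_smul_top_eq ⟨p, inferInstance⟩ hsupp,
    Module.supportDim_self_eq_ringKrullDim (R := A)] at h1
  have h2 : Module.supportDim (Localization.AtPrime p) (LocalizedModule p.primeCompl A) =
      ringKrullDim (Localization.AtPrime p) :=
    Module.supportDim_self_eq_ringKrullDim (R := Localization.AtPrime p)
  rw [h2, hd] at h1
  calc ringKrullDim (A ⧸ p) + (i : WithBot ℕ∞) ≤ ringKrullDim (A ⧸ p) + (d : WithBot ℕ∞) := by
        gcongr
    _ = (d : WithBot ℕ∞) + ringKrullDim (A ⧸ p) := add_comm _ _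
    _ ≤ ringKrullDim A := h1

end Groth.Agent.S11496
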