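import Groth.Statements.S11497
import Mathlib.Algebra.Homology.DerivedCategory.Ext.ExactSequences
-- import your own Groth.Agent.* helpers here

set_option autoImplicit false
universe w v u
open CategoryTheory
open VBPn

namespace Groth.Agent.S11497

open CategoryTheory.Limits Abelian

variable {C : Type u} [Category.{v} C] [Abelian C]

/-- the short exact sequence `0 → K → B → C → 0` attached to a short complex with epi `g`. -/
lemma se₁ (M : ShortComplex C) [Epi M.g] :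
    (ShortComplex.mk M.iCycles M.g M.iCycles_g).ShortExact where
  exact := ShortComplex.exact_of_f_is_kernel _ M.cyclesIsKernel
  mono_f := (inferInstance : Mono M.iCycles)
  epi_g := (inferInstance : Epi M.g)

/-- the short exact sequence `0 → A → K → E → 0` attached to a short complex with mono `f`. -/
lemma se₂ (M : ShortComplex C) [Mono M.f] :
    (ShortComplex.mk M.toCycles M.homologyπ M.toCycles_comp_homologyπ).ShortExact where
  exact := ShortComplex.exact_of_g_is_cokernel _ M.homologyIsCokernel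
  mono_f := by
    have : Mono (M.toCycles ≫ M.iCycles) := by rw [M.toCycles_i]; infer_instance
    exact mono_of_mono M.toCycles M.iCycles
  epi_g := (inferInstance : Epi M.homologyπ)

variable [HasExt.{w} C]


/-- In an abelian category, let M : A → B → C and M' : A' → B' → C' be monads, i.e. short complexes
whose first map is a monomorphism and whose second map is an epimorphism, with cohomology (homology)
objects E and E'. Suppose Hom(B, A') = 0, Hom(C, B') = 0 and Ext^1(C, A') = Ext^1(B, A') = Ext^1(C,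
B') = Ext^2(C, A') = 0. Then the map sending a morphism of monads M → M' to the induced morphism E →
E' is bijective. The published statement is for monads of vector bundles on a complex manifold X,
with Ext^i(C, A') written H^i(X, C^* ⊗ A'); this row is stated in any abelian category. -/
theorem result {C : Type u} [Category.{v} C] [Abelian C] [HasExt.{w} C]
    (M M' : ShortComplex C) [Mono M.f] [Epi M.g] [Mono M'.f] [Epi M'.g]
    (hBA : ∀ f : M.X₂ ⟶ M'.X₁, f = 0) (hCB : ∀ f : M.X₃ ⟶ M'.X₂, f = 0)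
    (hCA₁ : Subsingleton (Abelian.Ext M.X₃ M'.X₁ 1)) (hBA₁ : Subsingleton (Abelian.Ext M.X₂ M'.X₁ 1))
    (hCB₁ : Subsingleton (Abelian.Ext M.X₃ M'.X₂ 1)) (hCA₂ : Subsingleton (Abelian.Ext M.X₃ M'.X₁ 2)) :
    Function.Bijective (fun φ : M ⟶ M' => ShortComplex.homologyMap φ) := by
  have h₁ := se₁ M
  have h₂' := se₂ M'
  have h₁' := se₁ M'
  have h₂ := se₂ M
  haveI : Mono M'.toCycles := h₂'.mono_f
  -- (F1) Hom(K, A') = 0
  have F1 : ∀ u : M.cycles ⟶ M'.X₁, u = 0 := by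
    intro u
    obtain ⟨x₂, hx₂⟩ := Ext.contravariant_sequence_exact₁ h₁ _ (Ext.mk₀ u) (n₁ := 1) rfl
      (Subsingleton.elim _ _)
    obtain ⟨v, rfl⟩ := (Ext.mk₀_bijective _ _).2 x₂
    rw [hBA v, Ext.mk₀_zero, Ext.comp_zero] at hx₂
    exact (Ext.mk₀_eq_zero_iff u).1 hx₂.symm
  -- (F2) Ext^1(K, A') = 0
  have F2 : ∀ x : Ext M.cycles M'.X₁ 1, x = 0 := by
    intro x
    obtain ⟨x₂, hx₂⟩ := Ext.contravariant_sequence_exact₁ h₁ _ x (n₁ := 2) rfl
      (Subsingleton.elim _ _)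
    rw [Subsingleton.elim x₂ 0, Ext.comp_zero] at hx₂
    exact hx₂.symm
  -- (F3) Hom(K, K') → Hom(K, E') bijective
  have F3s : ∀ w : M.cycles ⟶ M'.homology, ∃ ψ : M.cycles ⟶ M'.cycles, ψ ≫ M'.homologyπ = w := by
    intro w
    obtain ⟨x₂, hx₂⟩ := Ext.covariant_sequence_exact₃ M.cycles h₂' (Ext.mk₀ w) (n₁ := 1) rfl
      (F2 _)
    obtain ⟨ψ, rfl⟩ := (Ext.mk₀_bijective _ _).2 x₂
    refine ⟨ψ, ?_⟩
    have : Ext.mk₀ (ψ ≫ M'.homologyπ) = Ext.mk₀ w := by rw [← Ext.mk₀_comp_mk₀]; exact hx₂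
    exact (Ext.mk₀_bijective _ _).1 this
  have F3i : ∀ ψ₁ ψ₂ : M.cycles ⟶ M'.cycles, ψ₁ ≫ M'.homologyπ = ψ₂ ≫ M'.homologyπ → ψ₁ = ψ₂ := by
    intro ψ₁ ψ₂ h
    have h0 : (ψ₁ - ψ₂) ≫ M'.homologyπ = 0 := by rw [Preadditive.sub_comp, h, sub_self]
    have h1 : h₂'.exact.lift (ψ₁ - ψ₂) h0 ≫ M'.toCycles = ψ₁ - ψ₂ := h₂'.exact.lift_f _ h0
    rw [F1 (h₂'.exact.lift (ψ₁ - ψ₂) h0), zero_comp] at h1
    exact sub_eq_zero.1 h1.symm
  -- (F4) Hom(B, B') → Hom(K, B') bijective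
  have F4s : ∀ t : M.cycles ⟶ M'.X₂, ∃ β : M.X₂ ⟶ M'.X₂, M.iCycles ≫ β = t := by
    intro t
    obtain ⟨x₂, hx₂⟩ := Ext.contravariant_sequence_exact₁ h₁ _ (Ext.mk₀ t) (n₁ := 1) rfl
      (Subsingleton.elim _ _)
    obtain ⟨β, rfl⟩ := (Ext.mk₀_bijective _ _).2 x₂
    refine ⟨β, ?_⟩
    have : Ext.mk₀ (M.iCycles ≫ β) = Ext.mk₀ t := by rw [← Ext.mk₀_comp_mk₀]; exact hx₂
    exact (Ext.mk₀_bijective _ _).1 this
  have F4i : ∀ β₁ β₂ : M.X₂ ⟶ M'.X₂, M.iCycles ≫ β₁ = M.iCycles ≫ β₂ → β₁ = β₂ := by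
    intro β₁ β₂ h
    have h0 : M.iCycles ≫ (β₁ - β₂) = 0 := by rw [Preadditive.comp_sub, h, sub_self]
    haveI : Epi (ShortComplex.mk M.iCycles M.g M.iCycles_g).g := h₁.epi_g
    have h1 : M.g ≫ h₁.exact.desc (β₁ - β₂) h0 = β₁ - β₂ := h₁.exact.g_desc _ h0
    rw [hCB (h₁.exact.desc (β₁ - β₂) h0), comp_zero] at h1
    exact sub_eq_zero.1 h1.symm
  constructor
  · intro φ φ' h
    have h : ShortComplex.homologyMap φ = ShortComplex.homologyMap φ' := h
    have hc : ShortComplex.cyclesMap φ = ShortComplex.cyclesMap φ' := by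
      apply F3i
      rw [← ShortComplex.homologyπ_naturality, ← ShortComplex.homologyπ_naturality, h]
    have h2 : φ.τ₂ = φ'.τ₂ := by
      apply F4i
      rw [← ShortComplex.cyclesMap_i, ← ShortComplex.cyclesMap_i, hc]
    have h1 : φ.τ₁ = φ'.τ₁ := by
      rw [← cancel_mono M'.f, φ.comm₁₂, φ'.comm₁₂, h2]
    have h3 : φ.τ₃ = φ'.τ₃ := by
      rw [← cancel_epi M.g, ← φ.comm₂₃, ← φ'.comm₂₃, h2]
    exact ShortComplex.hom_ext _ _ h1 h2 h3
  · intro e
    obtain ⟨ψ, hψ⟩ := F3s (M.homologyπ ≫ e)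
    obtain ⟨β, hβ⟩ := F4s (ψ ≫ M'.iCycles)
    have hα0 : (M.toCycles ≫ ψ) ≫ M'.homologyπ = 0 := by
      rw [Category.assoc, hψ, M.toCycles_comp_homologyπ_assoc, zero_comp]
    let α : M.X₁ ⟶ M'.X₁ := h₂'.exact.lift (M.toCycles ≫ ψ) hα0
    have hα : α ≫ M'.toCycles = M.toCycles ≫ ψ := h₂'.exact.lift_f _ hα0
    haveI : Epi (ShortComplex.mk M.iCycles M.g M.iCycles_g).g := h₁.epi_g
    have hγ0 : M.iCycles ≫ (β ≫ M'.g) = 0 := by
      rw [← Category.assoc, hβ, Category.assoc, M'.iCycles_g, comp_zero]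
    let γ : M.X₃ ⟶ M'.X₃ := h₁.exact.desc (β ≫ M'.g) hγ0
    have hγ : M.g ≫ γ = β ≫ M'.g := h₁.exact.g_desc _ hγ0
    have c12 : α ≫ M'.f = M.f ≫ β := by
      rw [← M'.toCycles_i, ← Category.assoc, hα, Category.assoc, ← hβ, ← Category.assoc,
        M.toCycles_i]
    let φ : M ⟶ M' := ⟨α, β, γ, c12, hγ.symm⟩
    refine ⟨φ, ?_⟩
    change ShortComplex.homologyMap φ = e
    have hc : ShortComplex.cyclesMap φ = ψ := by
      rw [← cancel_mono M'.iCycles, ShortComplex.cyclesMap_i]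
      exact hβ
    rw [← cancel_epi M.homologyπ, ShortComplex.homologyπ_naturality, hc, hψ]

end Groth.Agent.S11497
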