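import Groth.Statements.S11499
import Mathlib.RingTheory.Localization.BaseChange
import Mathlib.RingTheory.Localization.Integer
import Mathlib.RingTheory.TensorProduct.Finite
import Mathlib.LinearAlgebra.FiniteDimensional.Basic
import Mathlib.LinearAlgebra.Dimension.Free
-- import your own Groth.Agent.* helpers here

set_option autoImplicit false
universe u
open TensorProduct
open VBPn

namespace Groth.Agent.S11499

/-- Let A be an integral domain with fraction field K and M a finitely generated torsion-free A-module
of rank r (K ⊗_A M is r-dimensional over K). Then there is an injective A-linear map M → A^r. The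
published statement is for torsion-free coherent sheaves on a complex manifold, locally near a
point; this row is its statement for one stalk, over any domain. -/
theorem result (A : Type u) [CommRing A] [IsDomain A]
    (M : Type u) [AddCommGroup M] [Module A M] [Module.Finite A M] [NoZeroSMulDivisors A M] (r : ℕ)
    (hr : Module.finrank (FractionRing A) (FractionRing A ⊗[A] M) = r) :
    ∃ f : M →ₗ[A] (Fin r → A), Function.Injective f := by
  classical
  let K := FractionRing A
  have hfin : Module.Finite K (K ⊗[A] M) := inferInstance
  let bK : Module.Basis (Fin r) K (K ⊗[A] M) := Module.finBasisOfFinrankEq K (K ⊗[A] M) hr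
  let ι : M →ₗ[A] K ⊗[A] M := TensorProduct.mk A K M 1
  have hι : Function.Injective ι := by
    rw [injective_iff_map_eq_zero]
    intro m hm
    obtain ⟨c, hc⟩ := (IsLocalizedModule.eq_zero_iff (nonZeroDivisors A) ι).mp hm
    have hc0 : (c : A) ≠ 0 := nonZeroDivisors.coe_ne_zero c
    exact (smul_eq_zero.mp hc).resolve_left hc0
  let g : M →ₗ[A] (Fin r → K) := (bK.equivFun.toLinearMap.restrictScalars A) ∘ₗ ι
  have hg : Function.Injective g := bK.equivFun.injective.comp hι
  obtain ⟨t, ht⟩ := (Module.Finite.fg_top : (⊤ : Submodule A M).FG)
  obtain ⟨b, hb⟩ := IsLocalization.exist_integer_multiples (nonZeroDivisors A)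
    (t ×ˢ (Finset.univ : Finset (Fin r))) (fun p : M × Fin r => g p.1 p.2)
  let φ : (Fin r → A) →ₗ[A] (Fin r → K) := (Algebra.linearMap A K).compLeft (Fin r)
  have hφ : Function.Injective φ := by
    intro x y hxy
    funext i
    exact IsFractionRing.injective A K (congrFun hxy i)
  have hmem : ∀ m : M, (b : A) • g m ∈ LinearMap.range φ := by
    intro m
    have hm : m ∈ Submodule.span A (t : Set M) := by rw [ht]; trivial
    induction hm using Submodule.span_induction with
    | mem x hx =>
      have : ∀ i, ∃ a : A, algebraMap A K a = (b : A) • g x i := fun i =>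
        hb (x, i) (Finset.mk_mem_product hx (Finset.mem_univ i))
      choose a ha using this
      exact ⟨a, funext fun i => by simpa [φ] using ha i⟩
    | zero => simp
    | add x y _ _ hx hy => rw [map_add, smul_add]; exact Submodule.add_mem _ hx hy
    | smul a x _ hx => rw [map_smul, smul_comm]; exact Submodule.smul_mem _ _ hx
  let f : M →ₗ[A] (Fin r → A) :=
    (LinearEquiv.ofInjective φ hφ).symm.toLinearMap ∘ₗ
      LinearMap.codRestrict (LinearMap.range φ) ((b : A) • g) hmem
  refine ⟨f, ?_⟩
  intro x y hxy'
  have hxy : LinearMap.codRestrict (LinearMap.range φ) ((b : A) • g) hmem x =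
      LinearMap.codRestrict (LinearMap.range φ) ((b : A) • g) hmem y :=
    (LinearEquiv.ofInjective φ hφ).symm.injective hxy'
  have h1 := congrArg Subtype.val hxy
  simp only [LinearMap.codRestrict_apply, LinearMap.smul_apply] at h1
  have hb0 : (b : A) ≠ 0 := nonZeroDivisors.coe_ne_zero b
  have h2 : g x = g y := by
    funext i
    have h3 := congrFun h1 i
    simp only [Pi.smul_apply, Algebra.smul_def] at h3
    exact mul_left_cancel₀ ((map_ne_zero_iff _ (IsFractionRing.injective A K)).mpr hb0) h3
  exact hg h2

end Groth.Agent.S11499
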