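import Groth.Statements.S11545
-- import your own Groth.Agent.* helpers here
import Groth.Agent.Lib.Helper6.AdicLift

set_option autoImplicit false
universe u
open AdicRing

namespace Groth.Agent.S11545

open Groth.Agent.Lib.Helper6

section helpers

variable {R : Type u} [CommRing R] {A : Type u} [CommRing A] [Algebra R A]
  {B : Type u} [CommRing B] [Algebra R B] {σ : Type}

/-- the map `A[X_j] → B` extending `φ` with `X_j ↦ b_j`. -/
noncomputable def θ₀ (φ : A →ₐ[R] B) (b : σ → B) : MvPolynomial σ A →ₐ[R] B :=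
  { toRingHom := MvPolynomial.eval₂Hom (φ : A →+* B) b
    commutes' := fun r => by
      simp [MvPolynomial.algebraMap_apply] }

@[simp] lemma θ₀_C (φ : A →ₐ[R] B) (b : σ → B) (a : A) : θ₀ φ b (MvPolynomial.C a) = φ a := by
  change MvPolynomial.eval₂Hom (φ : A →+* B) b (MvPolynomial.C a) = _
  simp

@[simp] lemma θ₀_X (φ : A →ₐ[R] B) (b : σ → B) (j : σ) : θ₀ φ b (MvPolynomial.X j) = b j := by
  change MvPolynomial.eval₂Hom (φ : A →+* B) b (MvPolynomial.X j) = _
  simp

end helpers


/-- Let R be a base ring of class (N) or (V) for the ideal I, A an admissible R-algebra, f_0, ..., f_r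
elements generating an open ideal 𝔞 of A, and A_i = C_i/(f_i-power torsion) the i-th chart algebra
of the formal blowing-up of 𝔞. Let B be an R-algebra complete and separated for the I-adic topology
and φ : A → B an R-algebra homomorphism such that the ideal 𝔞B is generated by φ(f_i), a
non-zero-divisor of B. Then there is exactly one R-algebra homomorphism A_i → B whose composite with
A → A_i is φ. -/
theorem result
    (R : Type u) [CommRing R] (I : Ideal R) (hR : AdicRing.IsBase R I)
    (A : Type u) [CommRing A] [Algebra R A] (hA : AdicRing.Admissible R I A)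
    (r : ℕ) (f : Fin (r + 1) → A) (k : ℕ)
    (hopen : (I ^ k).map (algebraMap R A) ≤ Ideal.span (Set.range f)) (i : Fin (r + 1))
    (B : Type u) [CommRing B] [Algebra R B] [IsAdicComplete (I.map (algebraMap R B)) B]
    (φ : A →ₐ[R] B) (hnzd : φ (f i) ∈ nonZeroDivisors B)
    (hgen : (Ideal.span (Set.range f)).map φ = Ideal.span {φ (f i)}) :
    ∃! ψ : AdicRing.chartAdm I f i →ₐ[R] B,
      ψ.comp (IsScalarTower.toAlgHom R A (AdicRing.chartAdm I f i)) = φ := by
  classical
  -- `I` is finitely generated
  have hIfg : I.FG := by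
    rcases hR.2 with ⟨hN, -⟩ | ⟨-, -, -, t, -, rfl⟩
    · exact IsNoetherian.noetherian I
    · exact ⟨{t}, by simp⟩
  -- the elements `b_j`
  have hb : ∀ j : Fin (r + 1), ∃ c : B, φ (f i) * c = φ (f j) := by
    intro j
    have h1 : φ (f j) ∈ (Ideal.span (Set.range f)).map φ :=
      Ideal.mem_map_of_mem φ (Ideal.subset_span ⟨j, rfl⟩)
    rw [hgen] at h1
    obtain ⟨c, hc⟩ := Ideal.mem_span_singleton'.mp h1
    exact ⟨c, by rw [mul_comm]; exact hc⟩
  choose b hb using hb
  set bσ : {j : Fin (r + 1) // j ≠ i} → B := fun j => b j.1 with hbσ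
  -- the map from the chart algebra
  have hrel : ∀ a ∈ Ideal.span (Set.range fun j : {j : Fin (r + 1) // j ≠ i} =>
      MvPolynomial.C (f i) * MvPolynomial.X j - MvPolynomial.C (f j.1)), θ₀ φ bσ a = 0 := by
    intro a ha
    have hle : Ideal.span (Set.range fun j : {j : Fin (r + 1) // j ≠ i} =>
        MvPolynomial.C (f i) * MvPolynomial.X j - MvPolynomial.C (f j.1)) ≤
        RingHom.ker (θ₀ φ bσ : MvPolynomial {j : Fin (r + 1) // j ≠ i} A →+* B) := by
      rw [Ideal.span_le]
      rintro _ ⟨j, rfl⟩
      change θ₀ φ bσ _ = 0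
      rw [map_sub, map_mul, θ₀_C, θ₀_C, θ₀_X, hbσ, hb, sub_self]
    exact hle ha
  let θ₁ : chartAlg f i →ₐ[R] B := Ideal.Quotient.liftₐ _ (θ₀ φ bσ) hrel
  have hθ₁ : ∀ p, θ₁ (Ideal.Quotient.mk _ p) = θ₀ φ bσ p := fun p => rfl
  let ψ₂ : chartCompl I f i →ₐ[R] B := completionLift I θ₁
  have hψ₂of : ∀ q, ψ₂ (AdicCompletion.of _ _ q) = θ₁ q := completionLift_of I θ₁
  have hψ₂A : ∀ a : A, ψ₂ (algebraMap A (chartCompl I f i) a) = φ a := by
    intro a
    rw [AdicCompletion.algebraMap_apply, hψ₂of]
    change θ₁ (Ideal.Quotient.mk _ (MvPolynomial.C a)) = φ a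
    rw [hθ₁, θ₀_C]
  -- `ψ₂` kills the torsion
  have hT : ∀ x ∈ (⨆ n : ℕ, Submodule.torsionBy (chartCompl I f i) (chartCompl I f i)
      (algebraMap A (chartCompl I f i) (f i) ^ n) : Ideal (chartCompl I f i)), ψ₂ x = 0 := by
    intro x hx
    have hle : (⨆ n : ℕ, Submodule.torsionBy (chartCompl I f i) (chartCompl I f i)
        (algebraMap A (chartCompl I f i) (f i) ^ n) : Ideal (chartCompl I f i)) ≤
        RingHom.ker (ψ₂ : chartCompl I f i →+* B) := by
      apply iSup_le
      intro n y hy
      rw [Submodule.mem_torsionBy_iff, smul_eq_mul] at hy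
      have h1 := congrArg ψ₂ hy
      rw [map_mul, map_pow, hψ₂A, map_zero] at h1
      exact (mul_left_mem_nonZeroDivisors_eq_zero_iff (pow_mem hnzd n)).mp h1
    exact hle hx
  let ψ : chartAdm I f i →ₐ[R] B := Ideal.Quotient.liftₐ _ ψ₂ hT
  have hψmk : ∀ z, ψ (Ideal.Quotient.mk _ z) = ψ₂ z := fun z => rfl
  have halg : ∀ a : A, algebraMap A (chartAdm I f i) a =
      Ideal.Quotient.mk _ (algebraMap A (chartCompl I f i) a) := fun a => rfl
  refine ⟨ψ, ?_, ?_⟩
  · apply AlgHom.ext
    intro a
    change ψ (algebraMap A (chartAdm I f i) a) = φ a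
    rw [halg, hψmk, hψ₂A]
  · intro ψ' hψ'
    have hψ'A : ∀ a : A, ψ' (Ideal.Quotient.mk _ (algebraMap A (chartCompl I f i) a)) = φ a := by
      intro a
      have := congrArg (fun g => g a) hψ'
      exact this
    apply Ideal.Quotient.algHom_ext
    apply completion_algHom_ext I hIfg
    -- agreement on the chart algebra
    have key : (ψ'.comp (Ideal.Quotient.mkₐ R _) : chartCompl I f i →+* B).comp
          ((algebraMap (chartAlg f i) (chartCompl I f i)).comp (Ideal.Quotient.mk _)) =
        (ψ.comp (Ideal.Quotient.mkₐ R _) : chartCompl I f i →+* B).comp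
          ((algebraMap (chartAlg f i) (chartCompl I f i)).comp (Ideal.Quotient.mk _)) := by
      apply MvPolynomial.ringHom_ext
      · intro a
        change ψ' (Ideal.Quotient.mk _ (algebraMap A (chartCompl I f i) a)) =
          ψ (Ideal.Quotient.mk _ (algebraMap A (chartCompl I f i) a))
        rw [hψ'A, hψmk, hψ₂A]
      · intro j
        -- both values `c` satisfy `φ (f i) * c = φ (f j)`
        have hrelQ : (Ideal.Quotient.mk (Ideal.span (Set.range fun j : {j : Fin (r + 1) // j ≠ i} =>
            MvPolynomial.C (f i) * MvPolynomial.X j - MvPolynomial.C (f j.1))))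
            (MvPolynomial.C (f i) * MvPolynomial.X j - MvPolynomial.C (f j.1)) = 0 :=
          Ideal.Quotient.eq_zero_iff_mem.mpr (Ideal.subset_span ⟨j, rfl⟩)
        have hgen' : ∀ γ : chartCompl I f i →+* B,
            (∀ a : A, γ (algebraMap A (chartCompl I f i) a) = φ a) →
            φ (f i) * γ (algebraMap (chartAlg f i) (chartCompl I f i)
              (Ideal.Quotient.mk _ (MvPolynomial.X j))) = φ (f j.1) := by
          intro γ hγ
          have h1 := congrArg (fun z => γ (algebraMap (chartAlg f i) (chartCompl I f i) z)) hrelQ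
          simp only [map_sub, map_mul, map_zero] at h1
          have e1 : ∀ a : A, γ (algebraMap (chartAlg f i) (chartCompl I f i)
              (Ideal.Quotient.mk _ (MvPolynomial.C a))) = φ a := fun a => hγ a
          rw [e1, e1, sub_eq_zero] at h1
          exact h1
        have h1 := hgen' (ψ'.comp (Ideal.Quotient.mkₐ R _) : chartCompl I f i →+* B)
          (fun a => hψ'A a)
        have h2 := hgen' (ψ.comp (Ideal.Quotient.mkₐ R _) : chartCompl I f i →+* B)
          (fun a => by
            change ψ (Ideal.Quotient.mk _ (algebraMap A (chartCompl I f i) a)) = φ a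
            rw [hψmk, hψ₂A])
        have h3 := h1.trans h2.symm
        rw [← sub_eq_zero, ← mul_sub] at h3
        have h4 := (mul_left_mem_nonZeroDivisors_eq_zero_iff hnzd).mp h3
        exact sub_eq_zero.mp h4
    intro q
    obtain ⟨p, rfl⟩ := Ideal.Quotient.mk_surjective q
    exact congrArg (fun g => g p) key

end Groth.Agent.S11545
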