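import Groth.Statements.S11546
import Mathlib.RingTheory.AdicCompletion.AsTensorProduct
import Mathlib.RingTheory.Flat.Stability
import Mathlib.RingTheory.Flat.TorsionFree
import Mathlib.RingTheory.Polynomial.Basic
import Mathlib.RingTheory.KrullDimension.Basic

set_option autoImplicit false
universe u
open AdicRing

namespace Groth.Agent.S11546

/-- In a height-≤1 valuation domain, every nonzero `a` divides a power of any non-unit `t`. -/
lemma exists_pow_eq_mul {R : Type u} [CommRing R] [IsDomain R] [PreValuationRing R]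
    [Ring.KrullDimLE 1 R] {t a : R} (ht : ¬ IsUnit t) (ha : a ≠ 0) :
    ∃ (k : ℕ) (b : R), t ^ k = a * b := by
  haveI : ValuationRing R := {}
  by_cases hau : IsUnit a
  · obtain ⟨u, rfl⟩ := hau
    exact ⟨0, ((u⁻¹ : Rˣ) : R), by simp⟩
  · have hrad : t ∈ (Ideal.span {a}).radical := by
      rw [Ideal.radical_eq_sInf, Ideal.mem_sInf]
      rintro J ⟨haJ, hJ⟩
      have hJne : J ≠ ⊥ := by
        rintro rfl
        exact ha (by simpa using haJ (Ideal.mem_span_singleton_self a))
      have hJmax : J.IsMaximal := hJ.isMaximal_of_ne_bot hJne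
      have : J = IsLocalRing.maximalIdeal R := IsLocalRing.eq_maximalIdeal hJmax
      rw [this]
      exact (IsLocalRing.mem_maximalIdeal t).mpr ht
    obtain ⟨k, hk⟩ := hrad
    obtain ⟨b, hb⟩ := Ideal.mem_span_singleton'.mp hk
    exact ⟨k, b, by rw [← hb, mul_comm]⟩

lemma adic_eq_zero_of_pow_smul_eq_zero {S : Type u} [CommRing S] (c : S)
    (hc : c ∈ nonZeroDivisors S) (k : ℕ) (x : AdicCompletion (Ideal.span {c}) S)
    (h : c ^ k • x = 0) : x = 0 := by
  apply AdicCompletion.ext
  intro n
  rw [AdicCompletion.val_zero]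
  obtain ⟨y, hy⟩ := Submodule.mkQ_surjective _ (x.val (n + k))
  have h1 : (c ^ k • x).val (n + k) = 0 := by rw [h]; rfl
  rw [AdicCompletion.val_smul_apply, ← hy, ← map_smul, Submodule.mkQ_apply,
    Submodule.Quotient.mk_eq_zero, smul_eq_mul] at h1
  simp only [smul_eq_mul, Ideal.mul_top, Ideal.span_singleton_pow,
    Ideal.mem_span_singleton'] at h1
  obtain ⟨z, hz⟩ := h1
  have hyz : y = c ^ n * z := by
    have h2 : c ^ k * y = c ^ k * (c ^ n * z) := by rw [← hz]; ring
    exact (mul_cancel_left_mem_nonZeroDivisors (pow_mem hc k)).mp h2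
  have h3 : x.val n = AdicCompletion.transitionMap (Ideal.span {c}) S (Nat.le_add_right n k)
      (x.val (n + k)) := (x.property (Nat.le_add_right n k)).symm
  rw [h3, ← hy]
  change Submodule.mkQ _ y = 0
  rw [Submodule.mkQ_apply, Submodule.Quotient.mk_eq_zero, hyz]
  simp only [smul_eq_mul, Ideal.mul_top, Ideal.span_singleton_pow, Ideal.mem_span_singleton']
  exact ⟨z, by ring⟩

lemma adic_eq_zero_of_pow_smul_eq_zero' {S : Type u} [CommRing S] (J : Ideal S) (c : S)
    (hJ : J = Ideal.span {c})
    (hc : c ∈ nonZeroDivisors S) (k : ℕ) (x : AdicCompletion J S)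
    (h : c ^ k • x = 0) : x = 0 := by
  subst hJ
  exact adic_eq_zero_of_pow_smul_eq_zero c hc k x h


/-- Let R be a base ring of class (N) or (V) for the ideal I. Then the restricted power series ring
R⟨ζ_1, ..., ζ_n⟩ is flat over R. -/
theorem result
    (R : Type u) [CommRing R] (I : Ideal R) (hR : AdicRing.IsBase R I) (n : ℕ) :
    Module.Flat R (AdicRing.RPow R I n) := by
  obtain ⟨hcomp, (⟨hN, -⟩ | ⟨hD, hV, hK, t, ht0, rfl⟩)⟩ := hR
  · have : Module.Flat (MvPolynomial (Fin n) R) (AdicRing.RPow R I n) := inferInstance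
    exact Module.Flat.trans R (MvPolynomial (Fin n) R) _
  · haveI : ValuationRing R := {}
    -- t is not a unit
    have htu : ¬ IsUnit t := by
      intro hu
      have htop : Ideal.span {t} = ⊤ := Ideal.span_singleton_eq_top.mpr hu
      have hH : IsHausdorff (Ideal.span {t}) R := hcomp.toIsHausdorff
      have : (1 : R) = 0 := by
        apply hH.haus' 1
        intro m
        rw [htop, Ideal.top_pow, SModEq.zero]
        simp
      exact one_ne_zero this
    rw [Module.Flat.flat_iff_torsion_eq_bot_of_isBezout, eq_bot_iff]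
    rintro x ⟨⟨a, ha⟩, hax⟩
    have ha0 : a ≠ 0 := nonZeroDivisors.ne_zero ha
    change a • x = 0 at hax
    obtain ⟨k, b, hkb⟩ := exists_pow_eq_mul htu ha0
    have h1 : t ^ k • x = 0 := by rw [hkb, mul_comm, mul_smul, hax, smul_zero]
    rw [Submodule.mem_bot]
    have hmap : (Ideal.span {t}).map (MvPolynomial.C : R →+* MvPolynomial (Fin n) R)
        = Ideal.span {MvPolynomial.C t} := by
      rw [Ideal.map_span, Set.image_singleton]
    have hC : (MvPolynomial.C t : MvPolynomial (Fin n) R) ∈ nonZeroDivisors _ :=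
      mem_nonZeroDivisors_of_ne_zero (by simpa using ht0)
    refine adic_eq_zero_of_pow_smul_eq_zero' _ (MvPolynomial.C t) hmap hC k x ?_
    have h2 : (MvPolynomial.C t : MvPolynomial (Fin n) R) ^ k • x = t ^ k • x := by
      have := algebraMap_smul (MvPolynomial (Fin n) R) (t ^ k) x
      rw [← this, MvPolynomial.algebraMap_eq, map_pow]
    rw [h2]
    exact h1

end Groth.Agent.S11546
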