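import Groth.Statements.S1156
-- import your own Groth.Agent.* helpers here

set_option autoImplicit false
universe u
open scoped TensorProduct
open Desc

namespace Groth.Agent.S1156

section aux

variable (R A : Type u) [CommRing R] [CommRing A] [Algebra R A]
  (M : Type u) [AddCommGroup M] [Module R M]

/-- The Amitsur differential `x ↦ 1 ⊗ x - (a ⊗ m ↦ a ⊗ 1 ⊗ m) x`. -/
noncomputable def dd : A ⊗[R] M →ₗ[R] A ⊗[R] (A ⊗[R] M) :=
  TensorProduct.mk R A (A ⊗[R] M) 1 - LinearMap.lTensor A (TensorProduct.mk R A M 1)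

/-- The contraction `b ⊗ a ⊗ m ↦ ba ⊗ m`. -/
noncomputable def ss : A ⊗[R] (A ⊗[R] M) →ₗ[R] A ⊗[R] M :=
  LinearMap.rTensor M (LinearMap.mul' R A) ∘ₗ (TensorProduct.assoc R A A M).symm.toLinearMap

lemma ss_tmul (b a : A) (m : M) : ss R A M (b ⊗ₜ (a ⊗ₜ m)) = (b * a) ⊗ₜ m := by
  simp [ss]

lemma homotopy :
    ss R A (A ⊗[R] M) ∘ₗ LinearMap.lTensor A (dd R A M) =
      LinearMap.id - LinearMap.lTensor A (TensorProduct.mk R A M 1) ∘ₗ ss R A M := by
  ext b a m
  simp [dd, ss, TensorProduct.tmul_sub]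

lemma exact_aux [Module.FaithfullyFlat R A] :
    Function.Exact (TensorProduct.mk R A M 1) (dd R A M) := by
  apply Module.FaithfullyFlat.lTensor_reflects_exact R A
  intro y
  constructor
  · intro hy
    refine ⟨ss R A M y, ?_⟩
    have := congrArg (fun φ => φ y) (homotopy R A M)
    simp only [LinearMap.comp_apply, hy, map_zero, LinearMap.sub_apply, LinearMap.id_apply] at this
    exact (sub_eq_zero.mp this.symm).symm
  · rintro ⟨z, rfl⟩
    rw [← LinearMap.comp_apply, ← LinearMap.lTensor_comp]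
    have : dd R A M ∘ₗ TensorProduct.mk R A M 1 = 0 := by
      ext m
      simp [dd]
    rw [this]
    simp

end aux

/-- Exactness of the extended Amitsur complex in degree 0 (injectivity in degree −1 being standard). Let
R → A be faithfully flat and M an R-module. An element x of A ⊗_R M with 1 ⊗ x = (a ⊗ m ↦ a ⊗ 1 ⊗
m)(x) in A ⊗_R A ⊗_R M lies in the image of m ↦ 1 ⊗ m. -/
theorem result (R A : Type u) [CommRing R] [CommRing A] [Algebra R A] [Module.FaithfullyFlat R A]
    (M : Type u) [AddCommGroup M] [Module R M] (x : A ⊗[R] M)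
    (hx : TensorProduct.mk R A (A ⊗[R] M) 1 x = LinearMap.lTensor A (TensorProduct.mk R A M 1) x) :
    x ∈ LinearMap.range (TensorProduct.mk R A M 1) := by
  have h : dd R A M x = 0 := by
    simp only [dd, LinearMap.sub_apply]
    exact sub_eq_zero.mpr hx
  exact ((exact_aux R A M) x).mp h

end Groth.Agent.S1156
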