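import Groth.Statements.S1163
import Groth.Agent.Lib.Helper15.FlatSch

set_option autoImplicit false
open CategoryTheory CategoryTheory.Limits AlgebraicGeometry Opposite
universe u
open Desc

namespace Groth.Agent.S1163

/-- The case P = flat, single fppf cover: Let f : X ⟶ Y and q : Y ⟶ Z be morphisms of schemes, and
suppose there is a flat, surjective morphism g : Y' ⟶ Y locally of finite presentation which factors
through f. If f ≫ q is flat, then q is flat. -/
theorem result {X Y Z Y' : Scheme.{u}} (f : X ⟶ Y) (q : Y ⟶ Z) (g : Y' ⟶ Y) [Flat g] [Surjective g]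
    [LocallyOfFinitePresentation g] (l : Y' ⟶ X) (hl : l ≫ f = g) [Flat (f ≫ q)] : Flat q := by
  subst hl
  have hs : pullback.lift (𝟙 Y') l (Category.id_comp _) ≫ pullback.fst (l ≫ f) f = 𝟙 Y' := pullback.lift_fst _ _ _
  have hfl : Flat (pullback.fst (l ≫ f) f ≫ ((l ≫ f) ≫ q)) := by
    have : pullback.fst (l ≫ f) f ≫ ((l ≫ f) ≫ q) = pullback.snd (l ≫ f) f ≫ (f ≫ q) := by
      rw [← Category.assoc, pullback.condition, Category.assoc]
    rw [this]
    infer_instance
  have : Flat ((l ≫ f) ≫ q) := Groth.Agent.Lib.Helper15.flat_of_section _ _ _ hs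
  exact Groth.Agent.Lib.Helper15.flat_of_flat_comp_of_surjective_flat (l ≫ f) q

end Groth.Agent.S1163
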