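import Groth.Statements.S17763
import Groth.Agent.S0325
import Groth.Agent.Lib.Helper2.LCLes
import Groth.Agent.Lib.Helper2.LCLocMap
import Groth.Agent.Lib.Helper2.LCBaseRes
import Groth.Agent.Lib.Helper2.LCCompare

set_option autoImplicit false
universe u
open LocCoh

namespace Groth.Agent.S17763

section Helpers

open CategoryTheory Groth.Agent.Lib.Helper2 DerCA

variable {R : Type u} [CommRing R] [IsNoetherianRing R] [IsLocalRing R]

theorem dim_away_le (d : ℕ) (hd : ringKrullDim R = d) (b : R)
    (hb : b ∈ IsLocalRing.maximalIdeal R) :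
    ringKrullDim (Localization.Away b) ≤ ((d - 1 : ℕ) : WithBot ℕ∞) := by
  rw [ringKrullDim_le_iff_height_le]
  intro P hP
  rw [← IsLocalization.height_under (Submonoid.powers b) P]
  have hp : (P.under R).IsPrime := Ideal.comap_isPrime _ P
  have hbp : b ∉ P.under R := by
    intro hmem
    have hu : IsUnit (algebraMap R (Localization.Away b) b) :=
      IsLocalization.map_units (Localization.Away b) (⟨b, Submonoid.mem_powers b⟩ : Submonoid.powers b)
    exact hP.ne_top (Ideal.eq_top_of_isUnit_mem _ hmem hu)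
  have hlt : P.under R < IsLocalRing.maximalIdeal R :=
    lt_of_le_of_ne (IsLocalRing.le_maximalIdeal hp.ne_top) (fun h => hbp (h ▸ hb))
  have h1 := Ideal.height_add_one_le_of_lt_of_isPrime hlt
  have hm : (IsLocalRing.maximalIdeal R).height = (d : ℕ∞) := by
    have := IsLocalRing.maximalIdeal_height_eq_ringKrullDim (R := R)
    rw [hd] at this
    exact_mod_cast this
  rw [hm] at h1
  have hne : (P.under R).height ≠ ⊤ := by
    intro htop
    rw [htop] at h1
    simp at h1
  obtain ⟨k, hk⟩ := ENat.ne_top_iff_exists.1 hne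
  rw [← hk] at h1 ⊢
  have h2 : k + 1 ≤ d := by exact_mod_cast h1
  have h3 : k ≤ d - 1 := by omega
  have h4 : (k : ℕ∞) ≤ ((d - 1 : ℕ) : ℕ∞) := Nat.cast_le.2 h3
  have h5 : ((k : ℕ∞) : WithBot ℕ∞) ≤ (((d - 1 : ℕ) : ℕ∞) : WithBot ℕ∞) := WithBot.coe_le_coe.2 h4
  exact h5


/-- top local cohomology of a localization away from a nonunit vanishes. -/
theorem H_loc_subsingleton (d : ℕ) (hd : ringKrullDim R = d) (hd1 : 1 ≤ d) (J : Ideal R) (b : R)
    (hb : b ∈ IsLocalRing.maximalIdeal R) (M : ModuleCat.{u} R) :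
    Subsingleton ((localCohomology J d).obj ((locFunctor (Submonoid.powers b)).obj M)) := by
  haveI : IsNoetherianRing (Localization.Away b) :=
    IsLocalization.isNoetherianRing (Submonoid.powers b) _ inferInstance
  obtain ⟨φ, -⟩ := LCBaseRes.H_res_equiv' (R := R) (R' := Localization.Away b) J
    (LocalizedModule (Submonoid.powers b) M) d
  have hcd := Groth.Agent.S0325.result (Localization.Away b)
    (Ideal.map (algebraMap R (Localization.Away b)) J) (d - 1) (dim_away_le d hd b hb)
  haveI : Subsingleton (LocCoh.H (Ideal.map (algebraMap R (Localization.Away b)) J) d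
      (LocalizedModule (Submonoid.powers b) M)) :=
    hcd (LocalizedModule (Submonoid.powers b) M) d (by omega)
  exact φ.symm.toEquiv.subsingleton

theorem step_surj (d : ℕ) (hd : ringKrullDim R = d) (hd1 : 1 ≤ d) (J : Ideal R) (b : R)
    (hb : b ∈ IsLocalRing.maximalIdeal R) (M : ModuleCat.{u} R) :
    Function.Surjective
      ((Dual2.HmapOfLE (le_sup_left : J ≤ J ⊔ Ideal.span {b}) d).app M).hom := by
  intro x
  have hx : x ∈ LinearMap.range (LCLes.cmp J b M d) := by
    rw [LCLes.mem_range_cmp_iff]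
    haveI := LCLocMap.isLoc J b d M
    haveI := H_loc_subsingleton d hd hd1 J b hb M
    have h0 : ((localCohomology J d).map ((locUnit (Submonoid.powers b)).app M)).hom x = 0 :=
      Subsingleton.elim _ _
    rw [IsLocalizedModule.eq_zero_iff (Submonoid.powers b)] at h0
    obtain ⟨⟨_, n, rfl⟩, hn⟩ := h0
    exact ⟨n, hn⟩
  exact hx

theorem finset_surj (d : ℕ) (hd : ringKrullDim R = d) (hd1 : 1 ≤ d) (I : Ideal R)
    (M : ModuleCat.{u} R) (s : Finset R) (hs : ∀ b ∈ s, b ∈ IsLocalRing.maximalIdeal R) :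
    ∀ (J : Ideal R) (hJ : J = I ⊔ Ideal.span (s : Set R)) (h : I ≤ J),
      Function.Surjective ((Dual2.HmapOfLE h d).app M).hom := by
  classical
  induction s using Finset.induction_on with
  | empty =>
    intro J hJ h
    have hJI : J = I := by
      rw [hJ, Finset.coe_empty, Ideal.span_empty, sup_bot_eq]
    subst hJI
    intro x
    exact ⟨x, LCCompare.HmapOfLE_refl h d x⟩
  | insert b s hb ih =>
    intro J hJ h
    have hs' : ∀ b ∈ s, b ∈ IsLocalRing.maximalIdeal R :=
      fun c hc => hs c (Finset.mem_insert_of_mem hc)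
    have hJ' : J = (I ⊔ Ideal.span (s : Set R)) ⊔ Ideal.span {b} := by
      rw [hJ, Finset.coe_insert, Ideal.span_insert, sup_assoc, sup_comm (Ideal.span {b})]
    subst hJ'
    have h1 := ih hs' (I ⊔ Ideal.span (s : Set R)) rfl le_sup_left
    have h2 := step_surj d hd hd1 (I ⊔ Ideal.span (s : Set R)) b
      (hs b (Finset.mem_insert_self b s)) M
    intro x
    obtain ⟨y, rfl⟩ := h1 x
    obtain ⟨z, rfl⟩ := h2 y
    exact ⟨z, (LCCompare.HmapOfLE_comp _ _ d z).symm⟩


theorem eq_one_of_le_one_of_not_le_zero (x : WithBot ℕ∞) (h1 : x ≤ 1) (h0 : ¬ x ≤ 0) : x = 1 := by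
  induction x using WithBot.recBotCoe with
  | bot => exact absurd bot_le h0
  | coe n =>
    have h1' : n ≤ 1 := by exact_mod_cast h1
    have h0' : ¬ n ≤ 0 := fun h => h0 (by exact_mod_cast h)
    have : n = 1 := le_antisymm h1' (ENat.one_le_iff_ne_zero.2 (fun h => h0' (h ▸ le_rfl)))
    rw [this]
    rfl

theorem exists_prime_dim_one (I : Ideal R) (hI : 0 < ringKrullDim (R ⧸ I)) :
    ∃ p : Ideal R, p.IsPrime ∧ I ≤ p ∧ ringKrullDim (R ⧸ p) = 1 := by
  -- a prime containing `I`, different from the maximal ideal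
  have hq : ∃ q : Ideal R, q.IsPrime ∧ I ≤ q ∧ q ≠ IsLocalRing.maximalIdeal R := by
    by_contra hcon
    push Not at hcon
    have : Ring.KrullDimLE 0 (R ⧸ I) := by
      rw [Ring.krullDimLE_zero_iff]
      intro P hP
      have hsurj : Function.Surjective (Ideal.Quotient.mk I) := Ideal.Quotient.mk_surjective
      have hc : (P.comap (Ideal.Quotient.mk I)).IsPrime := Ideal.comap_isPrime _ P
      have hle : I ≤ P.comap (Ideal.Quotient.mk I) := by
        intro a ha
        rw [Ideal.mem_comap, Ideal.Quotient.eq_zero_iff_mem.2 ha]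
        exact P.zero_mem
      have hmax := hcon _ hc hle
      have hP' : P = (P.comap (Ideal.Quotient.mk I)).map (Ideal.Quotient.mk I) :=
        (Ideal.map_comap_of_surjective _ hsurj P).symm
      rw [hP', hmax]
      rcases Ideal.map_eq_top_or_isMaximal_of_surjective (Ideal.Quotient.mk I) hsurj
        (IsLocalRing.maximalIdeal.isMaximal R) with h | h
      · exfalso
        rw [← hmax, ← hP'] at h
        exact hP.ne_top h
      · exact h
    rw [Ring.krullDimLE_iff] at this
    exact absurd hI (not_lt.2 this)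
  obtain ⟨q, hqp, hIq, hqm⟩ := hq
  -- a maximal such prime
  let S : Set (Ideal R) := {P | P.IsPrime ∧ q ≤ P ∧ P ≠ IsLocalRing.maximalIdeal R}
  have hSne : S.Nonempty := ⟨q, hqp, le_rfl, hqm⟩
  obtain ⟨p, ⟨hpp, hqp', hpm⟩, hmax⟩ :=
    (set_has_maximal_iff_noetherian (R := R) (M := R)).2 inferInstance S hSne
  refine ⟨p, hpp, hIq.trans hqp', ?_⟩
  haveI := hpp
  have hsurj : Function.Surjective (Ideal.Quotient.mk p) := Ideal.Quotient.mk_surjective
  have h1 : Ring.KrullDimLE 1 (R ⧸ p) := by
    rw [Ring.krullDimLE_one_iff_of_noZeroDivisors]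
    intro P hP0 hP
    have hc : (P.comap (Ideal.Quotient.mk p)).IsPrime := Ideal.comap_isPrime _ P
    have hle : p ≤ P.comap (Ideal.Quotient.mk p) := by
      intro a ha
      rw [Ideal.mem_comap, Ideal.Quotient.eq_zero_iff_mem.2 ha]
      exact P.zero_mem
    have hP' : P = (P.comap (Ideal.Quotient.mk p)).map (Ideal.Quotient.mk p) :=
      (Ideal.map_comap_of_surjective _ hsurj P).symm
    have hne : p ≠ P.comap (Ideal.Quotient.mk p) := by
      intro h
      apply hP0
      rw [hP', ← h, Ideal.map_quotient_self]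
    have hlt : p < P.comap (Ideal.Quotient.mk p) := lt_of_le_of_ne hle hne
    have hm : P.comap (Ideal.Quotient.mk p) = IsLocalRing.maximalIdeal R := by
      by_contra hnm
      exact hmax _ ⟨hc, hqp'.trans hle, hnm⟩ hlt
    rw [hP', hm]
    rcases Ideal.map_eq_top_or_isMaximal_of_surjective (Ideal.Quotient.mk p) hsurj
      (IsLocalRing.maximalIdeal.isMaximal R) with h | h
    · exfalso
      rw [← hm, ← hP'] at h
      exact hP.ne_top h
    · exact h
  have h0 : ¬ Ring.KrullDimLE 0 (R ⧸ p) := by
    intro h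
    have hf : IsField (R ⧸ p) := Ring.KrullDimLE.isField_of_isDomain
    have hmaxp : Ideal.IsMaximal p := Ideal.Quotient.maximal_of_isField p hf
    exact hpm (IsLocalRing.eq_maximalIdeal hmaxp)
  rw [Ring.krullDimLE_iff] at h1 h0
  exact eq_one_of_le_one_of_not_le_zero _ (by exact_mod_cast h1) (by exact_mod_cast h0)

end Helpers

/-- Let R be a Noetherian local ring of Krull dimension d. Then the following are equivalent: (1)
H^d_I(R) = 0 for every ideal I of R such that R ⧸ I has positive dimension; (2) H^d_p(R) = 0 for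
every prime ideal p of R such that R ⧸ p has dimension one. -/
theorem result (R : Type u) [CommRing R] [IsNoetherianRing R] [IsLocalRing R] (d : ℕ) (hd : ringKrullDim R = d) : (∀ I : Ideal R, 0 < ringKrullDim (R ⧸ I) → Subsingleton (LocCoh.H I d R)) ↔ (∀ (p : Ideal R) [p.IsPrime], ringKrullDim (R ⧸ p) = 1 → Subsingleton (LocCoh.H p d R)) := by
  constructor
  · intro h p hp hdim
    exact h p (by rw [hdim]; exact zero_lt_one)
  · intro h I hI
    obtain ⟨p, hp, hIp, hdim⟩ := exists_prime_dim_one I hI
    haveI := hp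
    have hsub := h p hdim
    -- `d ≥ 1`
    have hd1 : 1 ≤ d := by
      by_contra hcon
      have hd0 : d = 0 := by omega
      subst hd0
      have hle : ringKrullDim (R ⧸ I) ≤ ringKrullDim R :=
        ringKrullDim_quotient_le I
      rw [hd] at hle
      exact absurd hI (not_lt.2 (by exact_mod_cast hle))
    classical
    obtain ⟨s, hs⟩ := (IsNoetherian.noetherian p : p.FG)
    have hsm : ∀ b ∈ s, b ∈ IsLocalRing.maximalIdeal R := by
      intro b hb
      have hbp : b ∈ p := hs ▸ Ideal.subset_span hb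
      exact IsLocalRing.le_maximalIdeal hp.ne_top hbp
    have hJ : p = I ⊔ Ideal.span (s : Set R) := by
      have : Ideal.span (s : Set R) = p := hs
      rw [this]
      exact (sup_eq_right.2 hIp).symm
    have hsurj := finset_surj d hd hd1 I (ModuleCat.of R R) s hsm p hJ hIp
    refine ⟨fun x y => ?_⟩
    obtain ⟨x', rfl⟩ := hsurj x
    obtain ⟨y', rfl⟩ := hsurj y
    rw [hsub.elim x' y']

end Groth.Agent.S17763
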