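import Groth.Statements.S8926
-- import your own Groth.Agent.* helpers here

set_option autoImplicit false
universe u
open InjHull

namespace Groth.Agent.S8926

open TensorProduct in
lemma map_smul_of_isEpi {R S : Type u} [CommRing R] [CommRing S] [Algebra R S]
    [Algebra.IsEpi R S] {Y E : Type u} [AddCommGroup Y] [Module S Y] [Module R Y]
    [IsScalarTower R S Y] [AddCommGroup E] [Module S E] [Module R E] [IsScalarTower R S E]
    (h : Y →ₗ[R] E) (a : S) (y : Y) : h (a • y) = a • h y := by
  let T : S ⊗[R] S →ₗ[R] E := TensorProduct.lift (LinearMap.mk₂ R (fun a b => a • h (b • y))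
    (by intros; simp [add_smul])
    (by intros; simp [smul_assoc])
    (by intros; simp [add_smul, smul_add])
    (by intro c m n; simp only [smul_assoc, map_smul]; rw [smul_comm]))
  have := congrArg T ((Algebra.isEpi_iff_forall_one_tmul_eq R S).mp inferInstance a)
  simpa [T] using this

/-- Suppose R → S is an epimorphism of rings and E is an S-module whose underlying R-module (via
restriction of scalars) is injective; then E is injective as an S-module as well. -/
theorem result (R S : Type u) [CommRing R] [CommRing S] [Algebra R S] [Algebra.IsEpi R S] (E : Type u) [AddCommGroup E] [Module S E] [Module R E] [IsScalarTower R S E] [Module.Injective R E] : Module.Injective S E := by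
  constructor
  intro X Y _ _ _ _ f hf g
  letI : Module R X := Module.compHom X (algebraMap R S)
  letI : Module R Y := Module.compHom Y (algebraMap R S)
  haveI : IsScalarTower R S X := IsScalarTower.of_algebraMap_smul fun r x => rfl
  haveI : IsScalarTower R S Y := IsScalarTower.of_algebraMap_smul fun r x => rfl
  obtain ⟨h, hh⟩ := Module.Injective.out (f.restrictScalars R) hf (g.restrictScalars R)
  exact ⟨{ toFun := h, map_add' := h.map_add,
           map_smul' := fun a y => map_smul_of_isEpi h a y }, hh⟩

end Groth.Agent.S8926
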