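import Groth.Statements.S1167
import Mathlib
import Groth.Agent.Lib.Helper9.Hilb1
import Groth.Agent.Lib.Helper13.WeilProj
import Groth.Prelude.Def_HilbD

set_option autoImplicit false
open CategoryTheory CategoryTheory.Limits AlgebraicGeometry
universe u
open HilbD

namespace Groth.Agent.S1167

section helpers

open CategoryTheory CategoryTheory.Limits AlgebraicGeometry


open Groth.Agent.Lib.Helper9.Hilb1

variable {X S : Scheme.{u}} (f : X ⟶ S)

/-- `X_{T'} ⟶ X_T` is the base change of `T' ⟶ T` -/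
theorem isPullback_XTmap {T T' : Over S} (g : T' ⟶ T) :
    IsPullback (PicF.XTmap f g) (PicF.XTproj f T') (PicF.XTproj f T) g.left := by
  have hr : IsPullback (pullback.fst f T.hom) (PicF.XTproj f T) f T.hom :=
    IsPullback.of_hasPullback f T.hom
  have ho : IsPullback (PicF.XTmap f g ≫ pullback.fst f T.hom) (PicF.XTproj f T') f
      (g.left ≫ T.hom) := by
    rw [XTmap_fst, Over.w g]
    exact IsPullback.of_hasPullback f T'.hom
  exact IsPullback.of_right ho (XTmap_snd f g) hr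

theorem XTmap_comp {T T' T'' : Over S} (g : T' ⟶ T) (g' : T'' ⟶ T') :
    PicF.XTmap f (g' ≫ g) = PicF.XTmap f g' ≫ PicF.XTmap f g := by
  apply pullback.hom_ext
  · rw [Category.assoc, XTmap_fst, XTmap_fst, XTmap_fst]
  · rw [Category.assoc, XTmap_snd, XTmap_snd, XTmap_snd_assoc, Over.comp_left]

theorem pull_comp {T T' T'' : Over S} (g : T' ⟶ T) (g' : T'' ⟶ T')
    (I : (PicF.XT f T).IdealSheafData) :
    HilbD.pull f (g' ≫ g) I = HilbD.pull f g' (HilbD.pull f g I) := by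
  rw [pull_eq_comap, pull_eq_comap, pull_eq_comap, XTmap_comp, Scheme.IdealSheafData.comap_comp]

theorem XTmap_id (T : Over S) : PicF.XTmap f (𝟙 T) = 𝟙 _ := by
  apply pullback.hom_ext
  · rw [XTmap_fst, Category.id_comp]
  · rw [XTmap_snd, Category.id_comp]; simp

theorem pull_id (T : Over S) (I : (PicF.XT f T).IdealSheafData) : HilbD.pull f (𝟙 T) I = I := by
  rw [pull_eq_comap, XTmap_id, Scheme.IdealSheafData.comap_id]

/-- the base change square of the closed subscheme -/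
theorem isPullback_comap {T T' : Over S} (g : T' ⟶ T) (I : (PicF.XT f T).IdealSheafData) :
    IsPullback ((I.comapIso (PicF.XTmap f g)).hom ≫ pullback.snd (PicF.XTmap f g) I.subschemeι)
      ((I.comap (PicF.XTmap f g)).subschemeι ≫ PicF.XTproj f T')
      (I.subschemeι ≫ PicF.XTproj f T) g.left := by
  set G := PicF.XTmap f g
  let Zf : (I.comap G).subscheme ⟶ I.subscheme := (I.comapIso G).hom ≫ pullback.snd G I.subschemeι
  have hcomm : (I.comap G).subschemeι ≫ G = Zf ≫ I.subschemeι := by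
    change _ = ((I.comapIso G).hom ≫ pullback.snd G I.subschemeι) ≫ I.subschemeι
    rw [Category.assoc, ← pullback.condition, Scheme.IdealSheafData.comapIso_hom_fst_assoc]
  have hL : IsPullback (I.comap G).subschemeι Zf G I.subschemeι :=
    isPullback_of_isClosedImmersion _ _ Zf G hcomm (by
      rw [Scheme.IdealSheafData.ker_subschemeι, Scheme.IdealSheafData.ker_subschemeι])
  exact (hL.paste_horiz (isPullback_XTmap f g).flip).flip

/-- `Hilb^d` is stable under base change -/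
theorem pull_mem (d : ℕ) {T T' : Over S} (g : T' ⟶ T) (I : (PicF.XT f T).IdealSheafData)
    (hI : Mor2.IsFinLocFreeOfDeg d (I.subschemeι ≫ PicF.XTproj f T)) :
    Mor2.IsFinLocFreeOfDeg d ((HilbD.pull f g I).subschemeι ≫ PicF.XTproj f T') := by
  rw [pull_eq_comap]
  have hsq := isPullback_comap f g I
  obtain ⟨⟨h1, h2, h3⟩, h4⟩ := hI
  haveI := h1
  haveI := h2
  haveI := h3
  refine ⟨⟨MorphismProperty.of_isPullback (P := @IsFinite) hsq h1,
    MorphismProperty.of_isPullback (P := @Flat) hsq h2,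
    MorphismProperty.of_isPullback (P := @LocallyOfFinitePresentation) hsq h3⟩, ?_⟩
  intro y
  rw [Scheme.Hom.finrank_of_isPullback _ _ _ _ hsq y, h4]

/-- **the locus where `W₁ ⊆ W₂` is closed** (for `W₁` finite locally free over the base). -/
theorem exists_closed_le (T : Over S) (I₁ I₂ : (PicF.XT f T).IdealSheafData)
    (h1 : Mor2.IsFinLocFree (I₁.subschemeι ≫ PicF.XTproj f T)) :
    ∃ (D : Scheme.{u}) (j : D ⟶ T.left), IsClosedImmersion j ∧
      ∀ (T' : Over S) (g : T' ⟶ T), (∃ z : T'.left ⟶ D, z ≫ j = g.left) ↔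
        I₂.comap (PicF.XTmap f g) ≤ I₁.comap (PicF.XTmap f g) := by
  obtain ⟨hf1, hf2, hf3⟩ := h1
  haveI := hf1
  haveI := hf2
  haveI := hf3
  obtain ⟨D, j, hj, -, hD⟩ := Groth.Agent.Lib.Helper13.WeilProj.exists_closed_of_finite_flat
    (I₁.subschemeι ≫ PicF.XTproj f T) (pullback.fst I₁.subschemeι I₂.subschemeι)
  refine ⟨D, j, hj, ?_⟩
  intro T' g
  obtain ⟨G, hG⟩ : ∃ G, G = PicF.XTmap f g := ⟨_, rfl⟩
  have hsq := isPullback_comap f g I₁
  rw [← hG] at hsq ⊢
  obtain ⟨Zf, hZf⟩ : ∃ Zf, Zf = (I₁.comapIso G).hom ≫ pullback.snd G I₁.subschemeι := ⟨_, rfl⟩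
  rw [← hZf] at hsq
  rw [hD g.left _ _ hsq]
  have hcomm : (I₁.comap G).subschemeι ≫ G = Zf ≫ I₁.subschemeι := by
    rw [hZf, Category.assoc, ← pullback.condition, Scheme.IdealSheafData.comapIso_hom_fst_assoc]
  rw [← Scheme.IdealSheafData.le_map_iff_comap_le, Scheme.IdealSheafData.map, hcomm]
  constructor
  · rintro ⟨w, hw⟩
    have h2 : Zf ≫ I₁.subschemeι = (w ≫ pullback.snd I₁.subschemeι I₂.subschemeι) ≫
        I₂.subschemeι := by
      rw [Category.assoc, ← pullback.condition, ← Category.assoc, hw]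
    rw [h2]
    calc I₂ = I₂.subschemeι.ker := (Scheme.IdealSheafData.ker_subschemeι I₂).symm
      _ ≤ _ := Scheme.Hom.le_ker_comp _ _
  · intro h
    let w' : (I₁.comap G).subscheme ⟶ I₂.subscheme :=
      IsClosedImmersion.lift I₂.subschemeι (Zf ≫ I₁.subschemeι)
        (by rw [Scheme.IdealSheafData.ker_subschemeι]; exact h)
    have hw' : w' ≫ I₂.subschemeι = Zf ≫ I₁.subschemeι := IsClosedImmersion.lift_fac _ _ _
    exact ⟨pullback.lift Zf w' hw'.symm, pullback.lift_fst _ _ _⟩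

/-- **the locus where `W₁ = W₂` is closed.** -/
theorem exists_closed_eq (T : Over S) (I₁ I₂ : (PicF.XT f T).IdealSheafData)
    (h1 : Mor2.IsFinLocFree (I₁.subschemeι ≫ PicF.XTproj f T))
    (h2 : Mor2.IsFinLocFree (I₂.subschemeι ≫ PicF.XTproj f T)) :
    ∃ (D : Scheme.{u}) (j : D ⟶ T.left), IsClosedImmersion j ∧
      ∀ (T' : Over S) (g : T' ⟶ T), (∃ z : T'.left ⟶ D, z ≫ j = g.left) ↔
        HilbD.pull f g I₁ = HilbD.pull f g I₂ := by
  obtain ⟨D₁, j₁, hj₁, hD₁⟩ := exists_closed_le f T I₁ I₂ h1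
  obtain ⟨D₂, j₂, hj₂, hD₂⟩ := exists_closed_le f T I₂ I₁ h2
  refine ⟨pullback j₁ j₂, pullback.fst j₁ j₂ ≫ j₁, inferInstance, ?_⟩
  intro T' g
  rw [pull_eq_comap, pull_eq_comap]
  constructor
  · rintro ⟨z, hz⟩
    apply le_antisymm
    · exact (hD₂ T' g).mp ⟨z ≫ pullback.snd j₁ j₂, by
        rw [Category.assoc, ← pullback.condition, ← Category.assoc, ← hz, Category.assoc]⟩
    · exact (hD₁ T' g).mp ⟨z ≫ pullback.fst j₁ j₂, by rw [Category.assoc, hz]⟩
  · intro h
    obtain ⟨z₁, hz₁⟩ := (hD₁ T' g).mpr h.ge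
    obtain ⟨z₂, hz₂⟩ := (hD₂ T' g).mpr h.le
    exact ⟨pullback.lift z₁ z₂ (by rw [hz₁, hz₂]), by rw [pullback.lift_fst_assoc, hz₁]⟩

theorem main (f : X ⟶ S) [IsSeparated f] (d : ℕ)
    (H : Over S) (Z : HilbD.Obj f d H) (hZ : HilbD.IsUniversal f d H Z) : IsSeparated H.hom := by
  let P : Over S := Over.mk (pullback.fst H.hom H.hom ≫ H.hom)
  let p₁ : P ⟶ H := Over.homMk (pullback.fst H.hom H.hom) rfl
  let p₂ : P ⟶ H := Over.homMk (pullback.snd H.hom H.hom) (by
    change pullback.snd H.hom H.hom ≫ H.hom = pullback.fst H.hom H.hom ≫ H.hom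
    rw [pullback.condition])
  have hI₁ := pull_mem f d p₁ Z.1 Z.2
  have hI₂ := pull_mem f d p₂ Z.1 Z.2
  obtain ⟨D, j, hj, hD⟩ := exists_closed_eq f P (HilbD.pull f p₁ Z.1) (HilbD.pull f p₂ Z.1)
    hI₁.1 hI₂.1
  -- the diagonal
  let Δ : H ⟶ P := Over.homMk (pullback.diagonal H.hom) (by
    change pullback.diagonal H.hom ≫ pullback.fst H.hom H.hom ≫ H.hom = H.hom
    rw [pullback.diagonal_fst_assoc])
  have hΔ₁ : Δ ≫ p₁ = 𝟙 H := by
    apply Over.OverMorphism.ext
    change pullback.diagonal H.hom ≫ pullback.fst H.hom H.hom = 𝟙 _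
    rw [pullback.diagonal_fst]
  have hΔ₂ : Δ ≫ p₂ = 𝟙 H := by
    apply Over.OverMorphism.ext
    change pullback.diagonal H.hom ≫ pullback.snd H.hom H.hom = 𝟙 _
    rw [pullback.diagonal_snd]
  obtain ⟨δ, hδ⟩ := (hD H Δ).mpr (by rw [← pull_comp, ← pull_comp, hΔ₁, hΔ₂])
  -- the inverse
  let q : D ⟶ H.left := j ≫ pullback.fst H.hom H.hom
  have hδq : δ ≫ q = 𝟙 _ := by
    change δ ≫ j ≫ pullback.fst H.hom H.hom = 𝟙 _
    rw [← Category.assoc, hδ]
    change pullback.diagonal H.hom ≫ pullback.fst H.hom H.hom = 𝟙 _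
    rw [pullback.diagonal_fst]
  -- `j ≫ p₁ = j ≫ p₂`
  let Do : Over S := Over.mk (j ≫ P.hom)
  let jo : Do ⟶ P := Over.homMk j rfl
  have hjo : HilbD.pull f jo (HilbD.pull f p₁ Z.1) = HilbD.pull f jo (HilbD.pull f p₂ Z.1) :=
    (hD Do jo).mp ⟨𝟙 _, Category.id_comp _⟩
  rw [← pull_comp, ← pull_comp] at hjo
  have heq : jo ≫ p₁ = jo ≫ p₂ := by
    let Z'' : HilbD.Obj f d Do := ⟨HilbD.pull f (jo ≫ p₁) Z.1, pull_mem f d (jo ≫ p₁) Z.1 Z.2⟩
    obtain ⟨g₀, -, hg₀⟩ := hZ Do Z''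
    rw [hg₀ (jo ≫ p₁) rfl, hg₀ (jo ≫ p₂) hjo.symm]
  have heq' : j ≫ pullback.fst H.hom H.hom = j ≫ pullback.snd H.hom H.hom :=
    congrArg Over.Hom.left heq
  have hqδ : q ≫ δ = 𝟙 _ := by
    rw [← cancel_mono j, Category.assoc, hδ, Category.id_comp]
    change (j ≫ pullback.fst H.hom H.hom) ≫ pullback.diagonal H.hom = j
    apply pullback.hom_ext
    · rw [Category.assoc, pullback.diagonal_fst, Category.comp_id]
    · rw [Category.assoc, pullback.diagonal_snd, Category.comp_id, heq']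
  haveI : IsIso δ := ⟨q, hδq, hqδ⟩
  have hdiag : pullback.diagonal H.hom = δ ≫ j := hδ.symm
  exact ⟨by rw [hdiag]; infer_instance⟩


end helpers

/-- Let f : X → S be a separated morphism of schemes and let (H, Z) represent the Hilbert functor of
points of degree d of X over S (Z the universal object on H). Then H → S is separated. -/
theorem result {X S : Scheme.{u}} (f : X ⟶ S) [IsSeparated f] (d : ℕ)
    (H : Over S) (Z : HilbD.Obj f d H) (hZ : HilbD.IsUniversal f d H Z) : IsSeparated H.hom := by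
  exact main f d H Z hZ

end Groth.Agent.S1167
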