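import Groth.Statements.S1168
import Mathlib
import Groth.Agent.Lib.Helper9.Hilb1
import Groth.Agent.Lib.Helper13.HilbClosed
import Groth.Prelude.Def_HilbD

set_option autoImplicit false
open CategoryTheory CategoryTheory.Limits AlgebraicGeometry
universe u
open HilbD

namespace Groth.Agent.S1168

section helpers

open CategoryTheory CategoryTheory.Limits AlgebraicGeometry


open Groth.Agent.Lib.Helper9.Hilb1 Groth.Agent.Lib.Helper13.HilbClosed

variable {X Y S : Scheme.{u}} (i : X ⟶ Y) (g : Y ⟶ S)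

/-- the base change `X_T ⟶ Y_T` of `i` -/
noncomputable def iT (T : Over S) : PicF.XT (i ≫ g) T ⟶ PicF.XT g T :=
  pullback.map (i ≫ g) T.hom g T.hom i (𝟙 T.left) (𝟙 S) (Category.comp_id _) (by simp)

theorem push_eq (T : Over S) (I : (PicF.XT (i ≫ g) T).IdealSheafData) :
    HilbD.push i g T I = I.map (iT i g T) := rfl

@[reassoc]
theorem iT_fst (T : Over S) : iT i g T ≫ pullback.fst g T.hom = pullback.fst (i ≫ g) T.hom ≫ i := by
  unfold iT; rw [pullback.lift_fst]

@[reassoc]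
theorem iT_snd (T : Over S) : iT i g T ≫ PicF.XTproj g T = PicF.XTproj (i ≫ g) T := by
  unfold iT PicF.XTproj; rw [pullback.lift_snd, Category.comp_id]

theorem isPullback_iT (T : Over S) :
    IsPullback (pullback.fst (i ≫ g) T.hom) (iT i g T) i (pullback.fst g T.hom) := by
  have hB : IsPullback (pullback.fst g T.hom) (pullback.snd g T.hom) g T.hom :=
    IsPullback.of_hasPullback g T.hom
  have hO : IsPullback (pullback.fst (i ≫ g) T.hom) (iT i g T ≫ pullback.snd g T.hom) (i ≫ g)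
      T.hom := by
    have := iT_snd i g T
    unfold PicF.XTproj at this
    rw [this]
    exact IsPullback.of_hasPullback (i ≫ g) T.hom
  exact IsPullback.of_bot hO (iT_fst i g T).symm hB

instance [IsClosedImmersion i] (T : Over S) : IsClosedImmersion (iT i g T) :=
  MorphismProperty.of_isPullback (P := @IsClosedImmersion) (isPullback_iT i g T) inferInstance

theorem iT_natural {T T' : Over S} (t : T' ⟶ T) :
    PicF.XTmap (i ≫ g) t ≫ iT i g T = iT i g T' ≫ PicF.XTmap g t := by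
  apply pullback.hom_ext
  · rw [Category.assoc, Category.assoc, iT_fst, XTmap_fst, XTmap_fst_assoc, iT_fst]
  · have h1 := iT_snd i g T
    have h2 := iT_snd i g T'
    unfold PicF.XTproj at h1 h2
    rw [Category.assoc, Category.assoc, h1, XTmap_snd, XTmap_snd, ← Category.assoc, h2]

theorem isPullback_iT_natural {T T' : Over S} (t : T' ⟶ T) :
    IsPullback (PicF.XTmap (i ≫ g) t) (iT i g T') (iT i g T) (PicF.XTmap g t) := by
  have hR := isPullback_iT i g T
  have hO : IsPullback (PicF.XTmap (i ≫ g) t ≫ pullback.fst (i ≫ g) T.hom) (iT i g T') i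
      (PicF.XTmap g t ≫ pullback.fst g T.hom) := by
    rw [XTmap_fst, XTmap_fst]
    exact isPullback_iT i g T'
  exact IsPullback.of_right hO (iT_natural i g t) hR

theorem ker_iT_comap [IsClosedImmersion i] {T T' : Over S} (t : T' ⟶ T) :
    (iT i g T).ker.comap (PicF.XTmap g t) = (iT i g T').ker := by
  have h := isPullback_iT_natural i g t
  rw [← Scheme.IdealSheafData.ker_fst_of_isClosedImmersion]
  have e1 : h.flip.isoPullback.hom ≫ pullback.fst (PicF.XTmap g t) (iT i g T) = iT i g T' :=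
    h.flip.isoPullback_hom_fst
  rw [← e1, Scheme.Hom.ker_comp_of_isIso]

variable [IsClosedImmersion i]

/-- `FinLocFreeOfDeg` is invariant under precomposition with an isomorphism -/
theorem finLocFreeOfDeg_iso_comp {A B C : Scheme.{u}} (e : A ≅ B) (h : B ⟶ C) (d : ℕ)
    (hh : Mor2.IsFinLocFreeOfDeg d h) : Mor2.IsFinLocFreeOfDeg d (e.hom ≫ h) := by
  obtain ⟨⟨h1, h2, h3⟩, h4⟩ := hh
  haveI := h1
  haveI := h2
  haveI := h3
  refine ⟨⟨inferInstance, inferInstance, inferInstance⟩, ?_⟩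
  intro y
  rw [Scheme.Hom.finrank_comp_left_of_isIso, h4]

theorem push_mem (d : ℕ) (T : Over S) (I : (PicF.XT (i ≫ g) T).IdealSheafData)
    (hI : Mor2.IsFinLocFreeOfDeg d (I.subschemeι ≫ PicF.XTproj (i ≫ g) T)) :
    Mor2.IsFinLocFreeOfDeg d ((HilbD.push i g T I).subschemeι ≫ PicF.XTproj g T) := by
  rw [push_eq]
  obtain ⟨e, he⟩ := exists_iso_map (iT i g T) I
  have h1 : (I.map (iT i g T)).subschemeι ≫ PicF.XTproj g T =
      e.symm.hom ≫ (I.subschemeι ≫ PicF.XTproj (i ≫ g) T) := by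
    rw [Iso.symm_hom, Iso.eq_inv_comp, ← Category.assoc, he, Category.assoc, iT_snd]
  rw [h1]
  exact finLocFreeOfDeg_iso_comp _ _ d hI

theorem mem_of_map_mem (d : ℕ) (T : Over S) (I : (PicF.XT (i ≫ g) T).IdealSheafData)
    (hI : Mor2.IsFinLocFreeOfDeg d ((I.map (iT i g T)).subschemeι ≫ PicF.XTproj g T)) :
    Mor2.IsFinLocFreeOfDeg d (I.subschemeι ≫ PicF.XTproj (i ≫ g) T) := by
  obtain ⟨e, he⟩ := exists_iso_map (iT i g T) I
  have h1 : I.subschemeι ≫ PicF.XTproj (i ≫ g) T =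
      e.hom ≫ ((I.map (iT i g T)).subschemeι ≫ PicF.XTproj g T) := by
    rw [← Category.assoc, he, Category.assoc, iT_snd]
  rw [h1]
  exact finLocFreeOfDeg_iso_comp _ _ d hI

theorem comap_mem (d : ℕ) (T : Over S) (J : (PicF.XT g T).IdealSheafData)
    (hle : (iT i g T).ker ≤ J)
    (hJ : Mor2.IsFinLocFreeOfDeg d (J.subschemeι ≫ PicF.XTproj g T)) :
    Mor2.IsFinLocFreeOfDeg d ((J.comap (iT i g T)).subschemeι ≫ PicF.XTproj (i ≫ g) T) := by
  apply mem_of_map_mem i g d T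
  rw [map_comap_of_le (iT i g T) J hle]
  exact hJ

theorem main (d : ℕ) (H : Over S) (Z : HilbD.Obj g d H) (hZ : HilbD.IsUniversal g d H Z) :
    HilbD.Representable (i ≫ g) d ∧
    ∀ (H' : Over S) (Z' : HilbD.Obj (i ≫ g) d H') (_ : HilbD.IsUniversal (i ≫ g) d H' Z') (m : H' ⟶ H),
      HilbD.pull g m Z.1 = HilbD.push i g H' Z'.1 → IsClosedImmersion m.left := by
  -- the closed subscheme of `H`
  obtain ⟨D, j, hj, hD⟩ := exists_closed_le g H Z.1 (iT i g H).ker Z.2.1
  let H₀ : Over S := Over.mk (j ≫ H.hom)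
  let jo : H₀ ⟶ H := Over.homMk j rfl
  -- factorization criterion
  have hfac : ∀ (T : Over S) (t : T ⟶ H), (∃ t' : T ⟶ H₀, t' ≫ jo = t) ↔
      (iT i g T).ker ≤ HilbD.pull g t Z.1 := by
    intro T t
    rw [pull_eq_comap, ← ker_iT_comap i g t, ← hD T t]
    constructor
    · rintro ⟨t', rfl⟩
      exact ⟨t'.left, rfl⟩
    · rintro ⟨z, hz⟩
      refine ⟨Over.homMk z ?_, ?_⟩
      · change z ≫ j ≫ H.hom = T.hom
        rw [← Category.assoc, hz, Over.w]
      · apply Over.OverMorphism.ext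
        change z ≫ j = t.left
        exact hz
  -- key identities
  have hK2 : ∀ (T : Over S) (t' : T ⟶ H₀), (iT i g T).ker ≤ HilbD.pull g (t' ≫ jo) Z.1 :=
    fun T t' => (hfac T (t' ≫ jo)).mp ⟨t', rfl⟩
  let I₀ : (PicF.XT (i ≫ g) H₀).IdealSheafData := (HilbD.pull g jo Z.1).comap (iT i g H₀)
  have hK1 : ∀ (T : Over S) (t' : T ⟶ H₀),
      HilbD.pull (i ≫ g) t' I₀ = (HilbD.pull g (t' ≫ jo) Z.1).comap (iT i g T) := by
    intro T t'
    simp only [I₀]
    rw [pull_eq_comap, pull_eq_comap, pull_eq_comap, ← Scheme.IdealSheafData.comap_comp,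
      iT_natural, Scheme.IdealSheafData.comap_comp, XTmap_comp, Scheme.IdealSheafData.comap_comp]
  have hK3 : ∀ (T : Over S) (t' : T ⟶ H₀),
      HilbD.push i g T (HilbD.pull (i ≫ g) t' I₀) = HilbD.pull g (t' ≫ jo) Z.1 := by
    intro T t'
    rw [hK1, push_eq, map_comap_of_le (iT i g T) _ (hK2 T t')]
  have hI₀ : Mor2.IsFinLocFreeOfDeg d (I₀.subschemeι ≫ PicF.XTproj (i ≫ g) H₀) := by
    apply comap_mem i g d H₀ _ _ (pull_mem g d jo Z.1 Z.2)
    have := hK2 H₀ (𝟙 _)
    rwa [Category.id_comp] at this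
  let Z₀ : HilbD.Obj (i ≫ g) d H₀ := ⟨I₀, hI₀⟩
  have hjmono : ∀ (T : Over S) (a b : T ⟶ H₀), a ≫ jo = b ≫ jo → a = b := by
    intro T a b hab
    apply Over.OverMorphism.ext
    have := congrArg Over.Hom.left hab
    simp only [Over.comp_left] at this
    exact (cancel_mono j).mp this
  -- universality
  have hU₀ : HilbD.IsUniversal (i ≫ g) d H₀ Z₀ := by
    intro T Z''
    let P'' : HilbD.Obj g d T := ⟨HilbD.push i g T Z''.1, push_mem i g d T Z''.1 Z''.2⟩
    obtain ⟨t, ht, htu⟩ := hZ T P''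
    change HilbD.pull g t Z.1 = HilbD.push i g T Z''.1 at ht
    obtain ⟨t', ht'⟩ := (hfac T t).mpr (by
      rw [ht, push_eq]
      exact Scheme.Hom.le_ker_comp _ _)
    refine ⟨t', ?_, ?_⟩
    · change HilbD.pull (i ≫ g) t' I₀ = Z''.1
      rw [hK1, ht', ht, push_eq, comap_map]
    · intro t'₁ ht'₁
      change HilbD.pull (i ≫ g) t'₁ I₀ = Z''.1 at ht'₁
      apply hjmono
      rw [ht']
      apply htu
      change HilbD.pull g (t'₁ ≫ jo) Z.1 = HilbD.push i g T Z''.1
      rw [← hK3, ht'₁]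
  refine ⟨⟨H₀, Z₀, hU₀⟩, ?_⟩
  intro H' Z' hU' m hm
  -- compare with `H₀`
  obtain ⟨θ, hθ, -⟩ := hU₀ H' Z'
  change HilbD.pull (i ≫ g) θ I₀ = Z'.1 at hθ
  obtain ⟨θ', hθ', -⟩ := hU' H₀ Z₀
  change HilbD.pull (i ≫ g) θ' Z'.1 = I₀ at hθ'
  have h1 : θ ≫ θ' = 𝟙 H' := by
    obtain ⟨u, -, hu⟩ := hU' H' Z'
    rw [hu (θ ≫ θ') (by change HilbD.pull (i ≫ g) (θ ≫ θ') Z'.1 = Z'.1; rw [pull_comp, hθ', hθ]),
      hu (𝟙 H') (by change HilbD.pull (i ≫ g) (𝟙 H') Z'.1 = Z'.1; exact pull_id _ _ _)]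
  have h2 : θ' ≫ θ = 𝟙 H₀ := by
    obtain ⟨u, -, hu⟩ := hU₀ H₀ Z₀
    rw [hu (θ' ≫ θ) (by change HilbD.pull (i ≫ g) (θ' ≫ θ) I₀ = I₀; rw [pull_comp, hθ, hθ']),
      hu (𝟙 H₀) (by change HilbD.pull (i ≫ g) (𝟙 H₀) I₀ = I₀; exact pull_id _ _ _)]
  have hm' : m = θ ≫ jo := by
    let P' : HilbD.Obj g d H' := ⟨HilbD.push i g H' Z'.1, push_mem i g d H' Z'.1 Z'.2⟩
    obtain ⟨u, -, hu⟩ := hZ H' P'
    rw [hu m (by change HilbD.pull g m Z.1 = HilbD.push i g H' Z'.1; exact hm), hu (θ ≫ jo) (by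
      change HilbD.pull g (θ ≫ jo) Z.1 = HilbD.push i g H' Z'.1
      rw [← hK3, hθ])]
  have hθiso : IsIso θ.left := by
    refine ⟨θ'.left, ?_, ?_⟩
    · rw [← Over.comp_left, h1]; rfl
    · rw [← Over.comp_left, h2]; rfl
  rw [hm', Over.comp_left]
  change IsClosedImmersion (θ.left ≫ j)
  infer_instance


end helpers

/-- Let i : X ⟶ Y be a closed immersion of schemes over S (structure morphisms i ≫ g and g) and suppose
(H, Z) represents the degree-d Hilbert functor of points of Y over S. Then the degree-d Hilbert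
functor of points of X over S is representable, and for any representing pair (H', Z') the unique
S-morphism H' ⟶ H classifying the image of Z' in Y ×_S H' is a closed immersion. -/
theorem result {X Y S : Scheme.{u}} (i : X ⟶ Y) [IsClosedImmersion i] (g : Y ⟶ S)
    (d : ℕ) (H : Over S) (Z : HilbD.Obj g d H) (hZ : HilbD.IsUniversal g d H Z) :
    HilbD.Representable (i ≫ g) d ∧
    ∀ (H' : Over S) (Z' : HilbD.Obj (i ≫ g) d H') (_ : HilbD.IsUniversal (i ≫ g) d H' Z') (m : H' ⟶ H),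
      HilbD.pull g m Z.1 = HilbD.push i g H' Z'.1 → IsClosedImmersion m.left := by
  exact main i g d H Z hZ

end Groth.Agent.S1168
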