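import Groth.Statements.S1174
import Groth.Agent.Lib.Helper14.EtAssocFun4

set_option autoImplicit false
open CategoryTheory CategoryTheory.Limits AlgebraicGeometry Opposite
universe u
open Desc

namespace Groth.Agent.S1174

open Groth.Agent.Lib.Helper14.EtAssocFun Groth.Agent.Lib.Helper14.EtQc

variable {S : Scheme.{u}} (F : S.Modules)

/-- the presheaf `U ↦ Γ(U, u^* F)`, lifted one universe up -/
noncomputable def P : S.Etaleᵒᵖ ⥤ AddCommGrpCat.{u + 1} :=
  P₀ F ⋙ AddCommGrpCat.uliftFunctor.{u + 1, u}

/-- comparison with the presheaf of sets `Q` -/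
noncomputable def isoQ : Q F ⋙ uliftFunctor.{u + 1, u} ≅ P F ⋙ forget AddCommGrpCat :=
  NatIso.ofComponents (fun U => Iso.refl _) (by
    intro U V g
    ext ⟨y⟩
    rfl)

theorem isSheaf_P [F.IsQuasicoherent] : Presheaf.IsSheaf S.smallEtaleTopology (P F) := by
  rw [Presheaf.isSheaf_iff_isSheaf_forget _ _ (forget AddCommGrpCat)]
  rw [isSheaf_iff_isSheaf_of_type]
  exact Presieve.isSheaf_iso _ (isoQ F) (Presieve.isSheaf_comp_uliftFunctor _ (isSheaf_Q (F := F)))


/-- Let S be a scheme and F a quasi-coherent O_S-module. Then there is an abelian sheaf on the small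
étale site of S whose group of sections over any étale u : U → S is Γ(U, u^*F), compatibly with the
restriction maps (the functoriality in U is part of the assertion). -/
theorem result {S : Scheme.{u}} (F : S.Modules) [F.IsQuasicoherent] :
    ∃ G : EtCoh.Ab S, EtAssoc.IsAssoc F G := by
  refine ⟨⟨P F, isSheaf_P F⟩, fun U => AddEquiv.refl _, fun U U' g s => ?_⟩
  rfl

end Groth.Agent.S1174
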