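import Groth.Statements.S1177
import Groth.Agent.Lib.Helper29.FPDescentSch
import Groth.Agent.Lib.Helper29.FPFree
import Groth.Agent.Lib.Helper17.ModStalk

set_option autoImplicit false
open CategoryTheory CategoryTheory.Limits AlgebraicGeometry Opposite
universe u
open Desc

namespace Groth.Agent.S1177

open Groth.Agent.Lib.Helper29.FPFree Groth.Agent.Lib.Helper29.FPDescent
open TensorProduct

/-- flatness of the stalk descends along a flat morphism -/
theorem isFlatAt_of_pullback {X X' : Scheme.{u}} (g : X' ⟶ X) [Flat g] (F : X.Modules) [F.IsQuasicoherent]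
    (x' : X') (h : FlatMod.IsFlatAt ((Scheme.Modules.pullback g).obj F) x') : FlatMod.IsFlatAt F (g x') := by
  letI alg : Algebra (X.presheaf.stalk (g x')) (X'.presheaf.stalk x') := (g.stalkMap x').hom.toAlgebra
  obtain ⟨e⟩ := Groth.Agent.Lib.Helper17.ModStalk.nonempty_linearEquiv_stalk_pullback g F x'
  haveI : Module.Flat (X.presheaf.stalk (g x')) (X'.presheaf.stalk x') := Flat.stalkMap g x'
  haveI : IsLocalHom (algebraMap (X.presheaf.stalk (g x')) (X'.presheaf.stalk x')) :=
    g.toLRSHom.prop x'
  haveI : Module.FaithfullyFlat (X.presheaf.stalk (g x')) (X'.presheaf.stalk x') :=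
    Module.FaithfullyFlat.of_flat_of_isLocalHom
  haveI : Module.Flat (X'.presheaf.stalk x') (((Scheme.Modules.pullback g).obj F).presheaf.stalk x') := h
  haveI : Module.Flat (X'.presheaf.stalk x')
      ((X'.presheaf.stalk x') ⊗[X.presheaf.stalk (g x')] (F.presheaf.stalk (g x'))) :=
    Module.Flat.of_linearEquiv e.symm
  exact Module.Flat.of_flat_tensorProduct (X.presheaf.stalk (g x')) (F.presheaf.stalk (g x'))
    (X'.presheaf.stalk x')

/-- Let g : X' ⟶ X be quasi-compact, flat and surjective and F a quasi-coherent O_X-module. If the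
pullback g^*F is a finite locally free O_{X'}-module, then F is finite locally free. -/
theorem result {X X' : Scheme.{u}} (g : X' ⟶ X) [QuasiCompact g] [Flat g] [Surjective g]
    (F : X.Modules) [F.IsQuasicoherent] (h : FlatMod.IsFinLocFree ((Scheme.Modules.pullback g).obj F)) :
    FlatMod.IsFinLocFree F := by
  haveI : SheafOfModules.IsFinitePresentation.{u} (R := X'.ringCatSheaf) ((Scheme.Modules.pullback g).obj F) :=
    isFinitePresentation_of_isFinLocFree _ h
  haveI : SheafOfModules.IsFinitePresentation.{u} (R := X.ringCatSheaf) F :=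
    isFinitePresentation_of_pullback_fpqc g F
  refine isFinLocFree_of_free_stalks F fun x => free_stalk_of_isFlatAt F x ?_
  obtain ⟨x', rfl⟩ := g.surjective x
  refine isFlatAt_of_pullback g F x' ?_
  haveI := free_stalk_of_isFinLocFree _ h x'
  exact (inferInstance : Module.Flat (X'.presheaf.stalk x') (((Scheme.Modules.pullback g).obj F).presheaf.stalk x'))



end Groth.Agent.S1177
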