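import Groth.Statements.S1183
import Groth.Agent.Lib.helper19.FlatHeight
import Groth.Agent.Lib.Helper5.RegSmoothLocal

set_option autoImplicit false
universe u
open Desc

namespace Groth.Agent.S1183

/-- Let A → B be a smooth ring map of Noetherian rings and k a natural number. If A satisfies (R_k) then
so does B; and if moreover A → B is faithfully flat and B satisfies (R_k), then A does. -/
theorem result (A B : Type u) [CommRing A] [CommRing B] [IsNoetherianRing A] [IsNoetherianRing B]
    [Algebra A B] [Algebra.Smooth A B] (k : ℕ) :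
    (LocCoh.HasRk k A → LocCoh.HasRk k B) ∧
    (Module.FaithfullyFlat A B → LocCoh.HasRk k B → LocCoh.HasRk k A) := by
  haveI : Module.Flat A B := inferInstance
  constructor
  · intro hA q hq hqk
    haveI : q.LiesOver (q.under A) := ⟨rfl⟩
    have hle := Groth.Agent.Lib.Helper19.FlatHeight.height_le A B (q.under A) q
    haveI := hA (q.under A) (hle.trans hqk)
    exact Groth.Agent.Lib.Helper5.RegSmooth.regular_of_smooth_of_regular_base A B (q.under A) q
  · intro hff hB p hp hpk
    obtain ⟨⟨Q, hQ⟩, hQp⟩ := PrimeSpectrum.comap_surjective_of_faithfullyFlat (A := A) (B := B)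
      ⟨p, hp⟩
    have hQp' : Q.comap (algebraMap A B) = p := congrArg PrimeSpectrum.asIdeal hQp
    have hpQ : p.map (algebraMap A B) ≤ Q := by
      rw [Ideal.map_le_iff_le_comap, hQp']
    obtain ⟨q, hqmin, hqQ⟩ := Ideal.exists_minimalPrimes_le hpQ
    haveI : q.IsPrime := hqmin.1.1
    haveI := Groth.Agent.Lib.Helper19.FlatHeight.liesOver_of_mem_minimalPrimes A B p q hqmin
    have hht := Groth.Agent.Lib.Helper19.FlatHeight.height_eq_of_mem_minimalPrimes A B p q hqmin
    haveI := hB q (by rw [hht]; exact hpk)
    exact (Groth.Agent.Lib.Helper5.RegSmooth.regular_iff_of_smooth A B p q).mp inferInstance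

end Groth.Agent.S1183
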