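import Groth.Statements.S1191
-- import your own Groth.Agent.* helpers here
import Groth.Agent.Lib.Helper23.AssTensor
import Mathlib.RingTheory.FiniteType
import Mathlib.RingTheory.Ideal.AssociatedPrime.Finiteness

set_option autoImplicit false
universe u
open FlatMor

namespace Groth.Agent.S1191

open TensorProduct in
/-- For a finitely presented algebra S over R, a finitely presented S-module N and a prime q of S over
p, some element of S outside q maps into every associated prime of the fibre module of N over p that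
is not contained in the extension of q to the fibre ring. -/
theorem result {R S : Type u} [CommRing R] [CommRing S] [Algebra R S] [Algebra.FinitePresentation R S]
    (N : Type u) [AddCommGroup N] [Module S N] [Module R N] [IsScalarTower R S N] [Module.FinitePresentation S N]
    (p : Ideal R) [p.IsPrime] (q : Ideal S) [q.IsPrime] [q.LiesOver p] :
    ∃ g : S, g ∉ q ∧ ∀ r ∈ associatedPrimes (p.Fiber S) (FlatCA.fiberMod p S N),
      ¬ r ≤ FlatCA.fiberIdeal p q → (1 : p.ResidueField) ⊗ₜ[R] g ∈ r := by
  classical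
  open Groth.Agent.Lib.Helper23.AssTensor in
  letI : Algebra S (p.Fiber S) := Algebra.TensorProduct.rightAlgebra
  haveI : Algebra.FiniteType p.ResidueField (p.Fiber S) := inferInstance
  haveI : IsNoetherianRing (p.Fiber S) :=
    Algebra.FiniteType.isNoetherianRing p.ResidueField (p.Fiber S)
  haveI : Module.Finite (p.Fiber S) (FlatCA.fiberMod p S N) :=
    inferInstanceAs (Module.Finite (p.Fiber S) ((p.Fiber S) ⊗[S] N))
  have hfin : (associatedPrimes (p.Fiber S) (FlatCA.fiberMod p S N)).Finite :=
    associatedPrimes.finite (p.Fiber S) (FlatCA.fiberMod p S N)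
  have hqF : (FlatCA.fiberIdeal p q).IsPrime := fiberIdeal_isPrime p q
  set T := hfin.toFinset.filter (fun r => ¬ r ≤ FlatCA.fiberIdeal p q) with hT
  have hex : ∀ r : Ideal (p.Fiber S), ∃ x : p.Fiber S,
      r ∈ T → (x ∈ r ∧ x ∉ FlatCA.fiberIdeal p q) := by
    intro r
    by_cases hr : r ∈ T
    · obtain ⟨x, hx, hx'⟩ := SetLike.not_le_iff_exists.mp (Finset.mem_filter.mp hr).2
      exact ⟨x, fun _ => ⟨hx, hx'⟩⟩
    · exact ⟨0, fun h => absurd h hr⟩
  choose xr hxr using hex
  set x := ∏ r ∈ T, xr r with hx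
  have hxnot : x ∉ FlatCA.fiberIdeal p q := by
    rw [hx, hqF.prod_mem_iff]
    rintro ⟨r, hr, hmem⟩
    exact (hxr r hr).2 hmem
  have hxmem : ∀ r ∈ T, x ∈ r := by
    intro r hr
    exact Ideal.mem_of_dvd r (Finset.dvd_prod_of_mem xr hr) (hxr r hr).1
  obtain ⟨a, ha, g, e⟩ := Ideal.Fiber.exists_smul_eq_one_tmul p x
  refine ⟨g, ?_, ?_⟩
  · intro hg
    apply hxnot
    apply mem_of_smul_mem p _ a ha
    rw [e]
    exact Ideal.mem_map_of_mem _ hg
  · intro r hr hnle
    have hrT : r ∈ T := Finset.mem_filter.mpr ⟨hfin.mem_toFinset.mpr hr, hnle⟩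
    rw [← e]
    exact Submodule.smul_of_tower_mem r a (hxmem r hrT)

end Groth.Agent.S1191
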