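import Groth.Statements.S1193
-- import your own Groth.Agent.* helpers here
import Groth.Agent.Lib.Helper23.NzdLoc
import Mathlib.RingTheory.LocalRing.ResidueField.Ideal

set_option autoImplicit false
universe u
open FlatMor

namespace Groth.Agent.S1193

open scoped TensorProduct in
attribute [local instance] Algebra.TensorProduct.rightAlgebra in
/-- over a local base the total ring maps onto the closed fibre ring -/
lemma surj {R S : Type u} [CommRing R] [IsLocalRing R] [CommRing S] [Algebra R S] :
    Function.Surjective (algebraMap S ((IsLocalRing.maximalIdeal R).Fiber S)) := by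
  intro x
  induction x using TensorProduct.induction_on with
  | zero => exact ⟨0, map_zero _⟩
  | tmul k s =>
    obtain ⟨r, rfl⟩ := Ideal.algebraMap_residueField_surjective (IsLocalRing.maximalIdeal R) k
    refine ⟨r • s, ?_⟩
    change (1 : (IsLocalRing.maximalIdeal R).ResidueField) ⊗ₜ[R] (r • s) = _
    rw [TensorProduct.tmul_smul, TensorProduct.smul_tmul', Algebra.smul_def, mul_one]
  | add x y hx hy =>
    obtain ⟨a, rfl⟩ := hx
    obtain ⟨b, rfl⟩ := hy
    exact ⟨a + b, map_add _ _ _⟩


open IsLocalRing in
/-- Let R be a local ring, S an R-algebra whose closed fibre ring is Noetherian and N an S-module whose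
closed fibre module N/𝔪N is finite. Let Σ be the set of elements of S acting injectively on N/𝔪N.
Then a prime of S is disjoint from Σ exactly when it lies inside an associated prime of N/𝔪N (the
primes of the localization at Σ), the localization of S at Σ has finitely many maximal ideals, and
an ideal of that localization is maximal exactly when it is prime and contracts to a maximal member
of the set of associated primes of N/𝔪N. -/
theorem result {R S : Type u} [CommRing R] [IsLocalRing R] [CommRing S] [Algebra R S]
    (N : Type u) [AddCommGroup N] [Module S N] [Module R N] [IsScalarTower R S N]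
    [IsNoetherianRing ((maximalIdeal R).Fiber S)]
    [Module.Finite ((maximalIdeal R).Fiber S) (FlatCA.fiberMod (maximalIdeal R) S N)] :
    (∀ (q : Ideal S) [q.IsPrime], Disjoint (q : Set S) (FlatCA.nzdFiber R S N) ↔
        ∃ q' ∈ associatedPrimes S (FlatCA.fiberMod (maximalIdeal R) S N), q ≤ q') ∧
    {Q : Ideal (Localization (FlatCA.nzdFiber R S N)) | Q.IsMaximal}.Finite ∧
    (∀ Q : Ideal (Localization (FlatCA.nzdFiber R S N)), Q.IsMaximal ↔ (Q.IsPrime ∧
        Maximal (fun r => r ∈ associatedPrimes S (FlatCA.fiberMod (maximalIdeal R) S N))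
          (Q.comap (algebraMap S (Localization (FlatCA.nzdFiber R S N)))))) := by
  letI : Algebra S ((maximalIdeal R).Fiber S) := Algebra.TensorProduct.rightAlgebra
  haveI : IsScalarTower S ((maximalIdeal R).Fiber S) (FlatCA.fiberMod (maximalIdeal R) S N) :=
    inferInstanceAs (IsScalarTower S ((maximalIdeal R).Fiber S)
      (TensorProduct S ((maximalIdeal R).Fiber S) N))
  have hφ : Function.Surjective (algebraMap S ((maximalIdeal R).Fiber S)) := surj
  refine ⟨?_, ?_, ?_⟩
  · intro q _
    exact Groth.Agent.Lib.Helper23.NzdLoc.disjoint_iff (F := (maximalIdeal R).Fiber S)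
      (M := FlatCA.fiberMod (maximalIdeal R) S N) hφ q
  · exact Groth.Agent.Lib.Helper23.NzdLoc.finite_maximal (F := (maximalIdeal R).Fiber S)
      (M := FlatCA.fiberMod (maximalIdeal R) S N) _ hφ
  · intro Q
    exact Groth.Agent.Lib.Helper23.NzdLoc.isMaximal_iff (F := (maximalIdeal R).Fiber S)
      (M := FlatCA.fiberMod (maximalIdeal R) S N) _ hφ Q

end Groth.Agent.S1193
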