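import Groth.Statements.S1198
-- import your own Groth.Agent.* helpers here
import Groth.Agent.Lib.Helper23.ComplProj

set_option autoImplicit false
universe u
open FlatMor

namespace Groth.Agent.S1198

/-- Let R be a Noetherian ring complete with respect to an ideal I and M a flat R-module whose reduction
M/IM is projective over R/I. Then M's I-adic completion is a flat and Mittag-Leffler R-module. -/
theorem result (R : Type u) [CommRing R] [IsNoetherianRing R] (I : Ideal R) [IsAdicComplete I R]
    (M : Type u) [AddCommGroup M] [Module R M] [Module.Flat R M]
    [Module.Projective (R ⧸ I) (M ⧸ (I • ⊤ : Submodule R M))] :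
    Module.Flat R (AdicCompletion I M) ∧ CAlg.IsMittagLeffler R (AdicCompletion I M) := by
  haveI : Module.Projective (R ⧸ I) (TensorProduct R (R ⧸ I) M) :=
    Module.Projective.of_equiv
      (Groth.Agent.Lib.Helper17.LocalFlat.quotLin I (TensorProduct.quotTensorEquivQuotSMul M I)).symm
  exact Groth.Agent.Lib.Helper23.ComplProj.main I M

end Groth.Agent.S1198
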