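import Groth.Statements.S1203
-- import your own Groth.Agent.* helpers here
import Groth.Agent.S1200
import Groth.Agent.S1198
import Groth.Agent.S6338
import Groth.Agent.Lib.Helper23.Kap5

set_option autoImplicit false
universe u
open FlatMor

namespace Groth.Agent.S1203

open scoped Pointwise in
/-- a finite module over a finite type algebra is countably generated over the base -/
lemma cg_of_finiteType {R S : Type u} [CommRing R] [CommRing S] [Algebra R S]
    [Algebra.FiniteType R S] (N : Type u) [AddCommGroup N] [Module S N] [Module R N]
    [IsScalarTower R S N] [Module.Finite S N] : CAlg.IsCountablyGenerated R N := by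
  obtain ⟨n, φ, hφ⟩ := Algebra.FiniteType.iff_quotient_mvPolynomial''.mp
    (inferInstance : Algebra.FiniteType R S)
  obtain ⟨t, ht⟩ := (Module.Finite.fg_top : (⊤ : Submodule S N).FG)
  let b := MvPolynomial.basisMonomials (Fin n) R
  let s : Set S := Set.range (fun m : Fin n →₀ ℕ => φ (b m))
  have hs : Submodule.span R s = ⊤ := by
    have h1 : Submodule.span R (Set.range b) = ⊤ := b.span_eq
    have h2 : s = φ.toLinearMap '' (Set.range b) := by
      rw [← Set.range_comp]; rfl
    rw [h2, ← Submodule.map_span, h1, Submodule.map_top, LinearMap.range_eq_top]
    exact hφ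
  refine ⟨s • (t : Set N), ?_, ?_⟩
  · exact (Set.countable_range _).image2 t.countable_toSet _
  · rw [Submodule.span_smul_of_span_eq_top hs, ht]
    rfl


/-- Let R be a Noetherian ring complete with respect to an ideal I, S a finite type R-algebra and N a
finite S-module which is flat over R, such that N/IN is a projective R/I-module and such that for
every prime q of S, over p in R, whose extension to the fibre ring over p is an associated prime of
the fibre module of N, the ideal IS + q is proper. Then N is a projective R-module. -/
theorem result {R S : Type u} [CommRing R] [CommRing S] [Algebra R S] [IsNoetherianRing R] (I : Ideal R) [IsAdicComplete I R]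
    [Algebra.FiniteType R S]
    (N : Type u) [AddCommGroup N] [Module S N] [Module R N] [IsScalarTower R S N] [Module.Finite S N] [Module.Flat R N]
    [Module.Projective (R ⧸ I) (N ⧸ (I • ⊤ : Submodule R N))]
    (h : ∀ (p : Ideal R) (q : Ideal S) [p.IsPrime] [q.IsPrime] [q.LiesOver p],
      FlatCA.fiberIdeal p q ∈ associatedPrimes (p.Fiber S) (FlatCA.fiberMod p S N) → I.map (algebraMap R S) ⊔ q ≠ ⊤) :
    Module.Projective R N := by
  have : IsNoetherianRing S := Algebra.FiniteType.isNoetherianRing R S
  have hui := Groth.Agent.S1200.result I N h
  obtain ⟨hflat, hML⟩ := Groth.Agent.S1198.result R I N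
  have hui' : CAlgX.UniversallyInjective R (AdicCompletion.of I N) := by
    intro Q _ _
    have h1 := hui Q
    have h2 := LinearMap.rTensor_comp_comm (N := Q) (AdicCompletion.of I N)
    have h3 : Function.Injective ((AdicCompletion.of I N).rTensor Q ∘ₗ
        (TensorProduct.comm R Q N).toLinearMap) := by
      rw [h2]
      exact (TensorProduct.comm R Q (AdicCompletion I N)).injective.comp h1
    intro x y hxy
    have := h3 (a₁ := (TensorProduct.comm R Q N).symm x) (a₂ := (TensorProduct.comm R Q N).symm y)
      (by simpa using hxy)
    exact (TensorProduct.comm R Q N).symm.injective this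
  have hMLN := Groth.Agent.S6338.result R (AdicCompletion.of I N) hui' hML
  exact Groth.Agent.Lib.Helper23.Kap.projective_of_flat_ML_cg hMLN (cg_of_finiteType (R := R) (S := S) N)

end Groth.Agent.S1203
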