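import Groth.Statements.S12057
import Groth.Agent.S4409
import Groth.Agent.Lib.Helper28.PullbackInv
import Groth.Agent.Lib.Helper28.TensorIso
import Groth.Agent.Lib.Helper28.InvGen
import Mathlib
set_option backward.isDefEq.respectTransparency.types false

set_option autoImplicit false
universe u
open CategoryTheory CategoryTheory.Limits AlgebraicGeometry
open FGA

namespace Groth.Agent.S12057
open Opposite TopologicalSpace
open Groth.Agent.Lib.Helper28 Groth.Agent.Lib.Helper28.QCohLoc Groth.Agent.Lib.Helper28.PullbackInv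
  Groth.Agent.Lib.Helper28.GenLocus Groth.Agent.Lib.Helper28.TensorIso


/-- Let f : X ⟶ S be a morphism of schemes such that for every open U of S the induced map from sections
of the structure sheaf of S over U to sections of the structure sheaf of X over the inverse image of
U is bijective. Let L be an invertible module on X which is trivial locally over S: every point of S
has an open neighbourhood U such that the restriction of L to the inverse image of U is isomorphic
to the structure sheaf. Then L is isomorphic to the pullback along f of an invertible module on S.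
(The relative Picard group here is the group of global sections of the first higher direct image of
the sheaf of units, so its elements vanishing are exactly the classes trivial locally over the
base.) -/
theorem result {X S : Scheme.{u}} (f : X ⟶ S)
    (hf : ∀ U : S.Opens, Function.Bijective (f.app U)) (L : X.Modules) (hL : PicF.IsInvertible L)
    (hloc : ∀ s : S, ∃ U : S.Opens, s ∈ U ∧
      Nonempty ((Scheme.Modules.pullback (f ⁻¹ᵁ U).ι).obj L ≅ Coh.structureModule (f ⁻¹ᵁ U))) :
    ∃ N : S.Modules, PicF.IsInvertible N ∧ Nonempty (L ≅ (Scheme.Modules.pullback f).obj N) := by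
  let N := (Scheme.Modules.pushforward f).obj L
  have hgen : ∀ s : S, ∃ (U : S.Opens) (γ : Γ(L, f ⁻¹ᵁ U)), s ∈ U ∧ IsGen L (f ⁻¹ᵁ U) γ := by
    intro s
    obtain ⟨U, hsU, ⟨e⟩⟩ := hloc s
    let e' : L.restrict (f ⁻¹ᵁ U).ι ≅ Coh.structureModule (f ⁻¹ᵁ U) :=
      (Scheme.Modules.restrictFunctorIsoPullback (f ⁻¹ᵁ U).ι).app L ≪≫ e
    obtain ⟨g, hg⟩ := exists_isGen_of_iso L (f ⁻¹ᵁ U) e'
    have htop : (f ⁻¹ᵁ U).ι ''ᵁ ⊤ = f ⁻¹ᵁ U := Scheme.Opens.ι_image_top _
    exact ⟨U, res L (le_of_eq htop.symm) g, hsU, hg.res _⟩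
  have hgenN : ∀ (U : S.Opens) (γ : Γ(L, f ⁻¹ᵁ U)), IsGen L (f ⁻¹ᵁ U) γ →
      IsGen N U (show Γ(N, U) from γ) := by
    intro U γ hγ W hW
    have h1 := hγ (f ⁻¹ᵁ W) (f.preimage_mono hW)
    exact h1.comp (hf W)
  refine ⟨N, ?_, ?_⟩
  · intro s
    obtain ⟨U, γ, hsU, hγ⟩ := hgen s
    refine ⟨U, hsU, ?_⟩
    exact InvGen.nonempty_restrict_iso_of_generator N U (show Γ(N, U) from γ) (fun _ => True)
      (fun V x hx _ => ⟨V, trivial, hx, le_rfl⟩) (fun W hW _ => hgenN U γ hγ W hW)
  · let ε : (Scheme.Modules.pullback f).obj N ⟶ L := (Scheme.Modules.pullbackPushforwardAdjunction f).counit.app L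
    have hiso : IsIso ε := by
      apply isIso_of_bijective_on_basis _
        (fun W => ∃ (U : S.Opens) (γ : Γ(L, f ⁻¹ᵁ U)), IsGen L (f ⁻¹ᵁ U) γ ∧ W ≤ f ⁻¹ᵁ U)
      · intro W₀ x hx
        obtain ⟨U, γ, hsU, hγ⟩ := hgen (f x)
        exact ⟨f ⁻¹ᵁ U ⊓ W₀, ⟨U, γ, hγ, inf_le_left⟩, ⟨hsU, hx⟩, inf_le_right⟩
      · rintro W ⟨U, γ, hγ, hWU⟩
        have hN := hgenN U γ hγ
        have h2 := (isGen_pbs (f := f) hN) W hWU
        have h1 := hγ W hWU
        have key : ∀ c : Γ(X, W), ε.app W ((c • res _ hWU (pbs f N U γ) :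
            Γ((Scheme.Modules.pullback f).obj N, W))) = (c • res L hWU γ : Γ(L, W)) := by
          intro c
          rw [Scheme.Modules.Hom.app_smul, app_res, Groth.Agent.S4409.counit_pbs]
        refine (Function.Bijective.of_comp_iff (ε.app W) h2).1 ?_
        convert h1 using 1
        funext c
        exact key c
    exact ⟨(asIso ε).symm⟩

end Groth.Agent.S12057
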