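import Groth.Statements.S12059
import Groth.Agent.Lib.Helper28.FinQuotAff

set_option autoImplicit false
universe u
open CategoryTheory CategoryTheory.Limits AlgebraicGeometry
open SGA1

namespace Groth.Agent.S12059

/-- Let a finite group G act on a commutative ring A by ring automorphisms σ_g, and let B → A be
injective, G-equivariant for the trivial action on B, with image containing all G-invariants (so B
is the ring of invariants A^G). Let ρ be an action of G on Spec A by scheme automorphisms whose
automorphisms are exactly the maps Spec(σ_g). Then Spec A ⟶ Spec B is a quotient of Spec A by G, and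
the structure sheaf of Spec B is the sheaf of G-invariants of the direct image of the structure
sheaf of Spec A: the map is affine and G-invariant, and for every open U of Spec B the sections of
the structure sheaf of Spec B over U map injectively onto the G-invariant sections of the structure
sheaf of Spec A over the inverse image of U. -/
theorem result (G : Type u) [Group G] [Finite G] (A B : Type u) [CommRing A] [CommRing B]
    [Algebra B A] [MulSemiringAction G A] [SMulCommClass G B A] [Algebra.IsInvariant B A G] [FaithfulSMul B A]
    (ρ : G →* Aut (Spec (CommRingCat.of A)))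
    (hρ : Set.range (fun g : G => (ρ g).hom) =
      Set.range (fun g : G => Spec.map (CommRingCat.ofHom (MulSemiringAction.toRingHom G A g)))) :
    SGA1.IsQuot ρ (Spec.map (CommRingCat.ofHom (algebraMap B A))) := by
  classical
  let φ : CommRingCat.of B ⟶ CommRingCat.of A := CommRingCat.ofHom (algebraMap B A)
  let τ : G → (CommRingCat.of A ⟶ CommRingCat.of A) := fun g =>
    CommRingCat.ofHom (MulSemiringAction.toRingHom G A g)
  have hφτ : ∀ g, φ ≫ τ g = φ := by
    intro g
    ext b
    exact smul_algebraMap g b
  have h1 : ∀ g : G, ∃ g' : G, (ρ g).hom = Spec.map (τ g') := by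
    intro g
    have : (ρ g).hom ∈ Set.range (fun g : G => (ρ g).hom) := ⟨g, rfl⟩
    rw [hρ] at this
    obtain ⟨g', hg'⟩ := this
    exact ⟨g', hg'.symm⟩
  have h2 : ∀ g' : G, ∃ g : G, (ρ g).hom = Spec.map (τ g') := by
    intro g'
    have : Spec.map (τ g') ∈ Set.range (fun g : G => Spec.map (CommRingCat.ofHom (MulSemiringAction.toRingHom G A g))) := ⟨g', rfl⟩
    rw [← hρ] at this
    exact this
  have happ : ∀ {R S : CommRingCat.{u}} (f : R ⟶ S) (s : Γ(Spec R, ⊤)),
      (Scheme.ΓSpecIso S).hom.hom ((Spec.map f).appTop.hom s) = f.hom ((Scheme.ΓSpecIso R).hom.hom s) :=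
    fun f s => congr($(Scheme.ΓSpecIso_naturality f) s)
  have hbij : ∀ R : CommRingCat.{u}, Function.Bijective (Scheme.ΓSpecIso R).hom.hom := fun R =>
    (ConcreteCategory.isIso_iff_bijective _).mp inferInstance
  refine Groth.Agent.Lib.Helper28.FinQuotAff.isQuot_of_isAffine ρ (Spec.map φ) ?_ ?_ ?_
  · intro g
    obtain ⟨g', hg'⟩ := h1 g
    rw [hg', ← Spec.map_comp, hφτ]
  · intro s t hst
    apply (hbij _).1
    apply FaithfulSMul.algebraMap_injective B A
    have := congrArg (Scheme.ΓSpecIso (CommRingCat.of A)).hom.hom hst
    rw [happ, happ] at this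
    exact this
  · intro s hs
    have hinvA : ∀ g' : G, g' • (Scheme.ΓSpecIso (CommRingCat.of A)).hom.hom s =
        (Scheme.ΓSpecIso (CommRingCat.of A)).hom.hom s := by
      intro g'
      obtain ⟨g, hg⟩ := h2 g'
      have := hs g
      rw [hg] at this
      have h3 := happ (τ g') s
      rw [this] at h3
      exact h3.symm
    obtain ⟨b, hb⟩ := Algebra.IsInvariant.isInvariant (A := B) (G := G) _ hinvA
    obtain ⟨t, rfl⟩ := (hbij (CommRingCat.of B)).2 b
    refine ⟨t, ?_⟩
    apply (hbij _).1
    rw [happ]
    exact hb

end Groth.Agent.S12059
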