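import Groth.Statements.S1206
import Mathlib.RingTheory.Ideal.Oka
import Mathlib.RingTheory.LocalRing.MaximalIdeal.Basic
import Mathlib.RingTheory.Finiteness.Basic

set_option autoImplicit false
universe u
open FlatMor

namespace Groth.Agent.S1206

/-- Let A be a local domain which is not a field and 𝒮 a set of finitely generated ideals of A, closed
under products, such that the union of the closed sets V(I), I ∈ 𝒮, is exactly the set of nonzero
primes (every nonzero prime contains a member of 𝒮 and no member is zero). Then the intersection of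
all members of 𝒮 is zero. -/
theorem result (A : Type u) [CommRing A] [IsDomain A] [IsLocalRing A] (hA : ¬ IsField A)
    (𝒮 : Set (Ideal A)) (hfg : ∀ I ∈ 𝒮, I.FG) (hmul : ∀ I ∈ 𝒮, ∀ J ∈ 𝒮, I * J ∈ 𝒮)
    (hne : ∀ I ∈ 𝒮, I ≠ ⊥) (hcov : ∀ (p : Ideal A), p.IsPrime → p ≠ ⊥ → ∃ I ∈ 𝒮, I ≤ p) :
    sInf 𝒮 = ⊥ := by
  rw [eq_bot_iff]
  intro x hx
  rw [Ideal.mem_bot]
  by_contra hx0
  have hxmem : ∀ I ∈ 𝒮, x ∈ I := fun I hI => (Submodule.mem_sInf.mp hx) I hI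
  -- a nonzero element of the maximal ideal
  have hm : IsLocalRing.maximalIdeal A ≠ ⊥ := fun h => hA (IsLocalRing.isField_iff_maximalIdeal_eq.mpr h)
  obtain ⟨g, hgm, hg0⟩ := Submodule.exists_mem_ne_zero_of_ne_bot hm
  obtain ⟨I₀, hI₀, -⟩ := hcov _ (IsLocalRing.maximalIdeal.isMaximal A).isPrime hm
  set f := x * g with hf
  have hf0 : f ≠ 0 := mul_ne_zero hx0 hg0
  have hfm : f ∈ IsLocalRing.maximalIdeal A := Ideal.mul_mem_left _ _ hgm
  have hfmem : ∀ I ∈ 𝒮, f ∈ I := fun I hI => Ideal.mul_mem_right _ _ (hxmem I hI)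
  -- the Oka predicate
  let P : Ideal A → Prop := fun 𝔞 => f ^ 2 ∈ 𝔞 → ∃ I ∈ 𝒮, I ≤ 𝔞
  have hOka : Ideal.IsOka P := by
    refine ⟨fun _ => ⟨I₀, hI₀, le_top⟩, ?_⟩
    intro 𝔞 a h1 h2 hf2
    obtain ⟨I₁, hI₁, h1'⟩ := h1 (Ideal.mem_sup_left hf2)
    obtain ⟨I₂, hI₂, h2'⟩ := h2 (Submodule.mem_colon_span_singleton.mpr (Ideal.mul_mem_right _ _ hf2))
    refine ⟨I₁ * I₂, hmul I₁ hI₁ I₂ hI₂, ?_⟩
    rw [Ideal.mul_le]
    intro r hr s hs
    have hs' := h2' hs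
    rw [Submodule.mem_colon_span_singleton] at hs'
    obtain ⟨y, hy, z, hz, rfl⟩ := Submodule.mem_sup.mp (h1' hr)
    obtain ⟨c, rfl⟩ := Ideal.mem_span_singleton'.mp hz
    rw [add_mul]
    refine 𝔞.add_mem (Ideal.mul_mem_right _ _ hy) ?_
    have : c * a * s = c * (s • a) := by rw [smul_eq_mul]; ring
    rw [this]
    exact Ideal.mul_mem_left _ _ hs'
  have hall : ∀ 𝔞, P 𝔞 := by
    refine hOka.forall_of_forall_prime' ?_ ?_
    · intro C hC hchain 𝔞 h𝔞 hsup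
      have hf2 : f ^ 2 ∈ sSup C := by
        have h𝔞' : ¬ P 𝔞 := hC h𝔞
        have : f ^ 2 ∈ 𝔞 := by
          by_contra h
          exact h𝔞' (fun h' => absurd h' h)
        exact (le_sSup h𝔞) this
      obtain ⟨I, hI, hle⟩ := hsup hf2
      have hcomp := (Submodule.fg_iff_compact I).mp (hfg I hI)
      rw [CompleteLattice.isCompactElement_iff_le_of_directed_sSup_le] at hcomp
      obtain ⟨𝔟, h𝔟, hI𝔟⟩ := hcomp C ⟨𝔞, h𝔞⟩ hchain.directedOn hle
      exact ⟨𝔟, h𝔟, fun _ => ⟨I, hI, hI𝔟⟩⟩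
    · intro 𝔭 h𝔭 hf2
      have h𝔭0 : 𝔭 ≠ ⊥ := by
        rintro rfl
        exact (pow_ne_zero 2 hf0) ((Ideal.mem_bot).mp hf2)
      exact hcov 𝔭 h𝔭 h𝔭0
  obtain ⟨I, hI, hle⟩ := hall (Ideal.span {f ^ 2}) (Ideal.mem_span_singleton_self _)
  obtain ⟨a, ha⟩ := Ideal.mem_span_singleton'.mp (hle (hfmem I hI))
  -- a * f^2 = f, so f is a unit
  have h1 : f * (a * f - 1) = 0 := by
    have : f * (a * f - 1) = a * f ^ 2 - f := by ring
    rw [this, ha, sub_self]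
  have h2 : a * f = 1 := by
    rcases mul_eq_zero.mp h1 with h | h
    · exact absurd h hf0
    · exact sub_eq_zero.mp h
  have hunit : IsUnit f := IsUnit.of_mul_eq_one a (by rw [mul_comm]; exact h2)
  exact (IsLocalRing.mem_maximalIdeal f).mp hfm hunit

end Groth.Agent.S1206
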