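import Groth.Statements.S12066
import Groth.Agent.Lib.Helper15.EtThickGlue
import Groth.Agent.Lib.Helper15.EtThickFin
-- import your own Groth.Agent.* helpers here

set_option autoImplicit false
universe u
open CategoryTheory AlgebraicGeometry
open FSch

namespace Groth.Agent.S12066

section H
namespace W1
open Groth.Agent.Lib.Helper15 Groth.Agent.Lib.Helper15.EtThickGlue

variable (𝔛 : FSch.Sys.{u})

theorem isLift_of_cover (R : FSch.EtCov 𝔛) (n : ℕ) :
    IsLift (𝔛.ι n) ((R.obj.hom : FSch.Hom _ _).app n) (R.obj.left.ι n)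
      ((R.obj.hom : FSch.Hom _ _).app (n + 1)) :=
  ⟨(R.property.2 (n + 1)).2, R.property.1 n⟩

theorem hom_w {R R' : FSch.EtCov 𝔛} (χ : R ⟶ R') (m : ℕ) :
    (χ.hom.left : FSch.Hom _ _).app m ≫ (R'.obj.hom : FSch.Hom _ _).app m =
      (R.obj.hom : FSch.Hom _ _).app m := by
  rw [← FSch.comp_app, Over.w χ.hom]

variable {𝔛} (h𝔛 : 𝔛.IsFormal)
include h𝔛

theorem app_eq {R R' : FSch.EtCov 𝔛} (φ ψ : R ⟶ R')
    (h0 : (φ.hom.left : FSch.Hom _ _).app 0 = (ψ.hom.left : FSch.Hom _ _).app 0) (n : ℕ) :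
    (φ.hom.left : FSch.Hom _ _).app n = (ψ.hom.left : FSch.Hom _ _).app n := by
  induction n with
  | zero => exact h0
  | succ n ih =>
    haveI : IsClosedImmersion (𝔛.ι n) := (h𝔛 n).1
    haveI : Surjective (𝔛.ι n) := ⟨(h𝔛 n).2⟩
    obtain ⟨t, -, ht⟩ := lift_existsUnique (isLift_of_cover 𝔛 R n) (isLift_of_cover 𝔛 R' n)
      ((φ.hom.left : FSch.Hom _ _).app n) (hom_w 𝔛 φ n)
    rw [ht _ ⟨((φ.hom.left : FSch.Hom _ _).comm n).symm, hom_w 𝔛 φ (n + 1)⟩,
      ht _ ⟨by rw [ih]; exact ((ψ.hom.left : FSch.Hom _ _).comm n).symm, hom_w 𝔛 ψ (n + 1)⟩]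

/-- recursive lifting of a level-0 morphism through all levels -/
noncomputable def liftApp {R R' : FSch.EtCov 𝔛} (a : R.obj.left.X 0 ⟶ R'.obj.left.X 0)
    (ha : a ≫ (R'.obj.hom : FSch.Hom _ _).app 0 = (R.obj.hom : FSch.Hom _ _).app 0) :
    ∀ n, {t : R.obj.left.X n ⟶ R'.obj.left.X n //
      t ≫ (R'.obj.hom : FSch.Hom _ _).app n = (R.obj.hom : FSch.Hom _ _).app n}
  | 0 => ⟨a, ha⟩
  | n + 1 =>
    haveI : IsClosedImmersion (𝔛.ι n) := (h𝔛 n).1
    haveI : Surjective (𝔛.ι n) := ⟨(h𝔛 n).2⟩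
    ⟨(lift_existsUnique (isLift_of_cover 𝔛 R n) (isLift_of_cover 𝔛 R' n)
        (liftApp a ha n).1 (liftApp a ha n).2).exists.choose,
      (lift_existsUnique (isLift_of_cover 𝔛 R n) (isLift_of_cover 𝔛 R' n)
        (liftApp a ha n).1 (liftApp a ha n).2).exists.choose_spec.2⟩

theorem liftApp_comm {R R' : FSch.EtCov 𝔛} (a : R.obj.left.X 0 ⟶ R'.obj.left.X 0)
    (ha : a ≫ (R'.obj.hom : FSch.Hom _ _).app 0 = (R.obj.hom : FSch.Hom _ _).app 0) (n : ℕ) :
    (liftApp h𝔛 a ha n).1 ≫ R'.obj.left.ι n = R.obj.left.ι n ≫ (liftApp h𝔛 a ha (n + 1)).1 := by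
  haveI : IsClosedImmersion (𝔛.ι n) := (h𝔛 n).1
  haveI : Surjective (𝔛.ι n) := ⟨(h𝔛 n).2⟩
  exact ((lift_existsUnique (isLift_of_cover 𝔛 R n) (isLift_of_cover 𝔛 R' n)
        (liftApp h𝔛 a ha n).1 (liftApp h𝔛 a ha n).2).exists.choose_spec.1).symm

/-- the lifted morphism of systems -/
noncomputable def liftHom {R R' : FSch.EtCov 𝔛} (a : R.obj.left.X 0 ⟶ R'.obj.left.X 0)
    (ha : a ≫ (R'.obj.hom : FSch.Hom _ _).app 0 = (R.obj.hom : FSch.Hom _ _).app 0) : R ⟶ R' :=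
  ObjectProperty.homMk (Over.homMk (⟨fun n => (liftApp h𝔛 a ha n).1, liftApp_comm h𝔛 a ha⟩ :
    FSch.Hom R.obj.left R'.obj.left) (FSch.Hom.ext (funext fun n => (liftApp h𝔛 a ha n).2)))

theorem full : (FSch.EtCov.level 𝔛 0).Full where
  map_surjective {R R'} a := by
    refine ⟨liftHom h𝔛 a.left (MorphismProperty.Over.w a), ?_⟩
    apply MorphismProperty.Over.Hom.ext
    rfl

theorem faithful : (FSch.EtCov.level 𝔛 0).Faithful where
  map_injective {R R'} φ ψ h := by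
    have h0 : (φ.hom.left : FSch.Hom _ _).app 0 = (ψ.hom.left : FSch.Hom _ _).app 0 :=
      congrArg (fun k => k.left) h
    apply ObjectProperty.hom_ext
    apply Over.OverMorphism.ext
    exact FSch.Hom.ext (funext fun n => app_eq h𝔛 φ ψ h0 n)

omit h𝔛 in
variable (𝔛) in
/-- a finite étale cover of level `n` -/
structure LevelData (n : ℕ) where
  R : Scheme.{u}
  r : R ⟶ 𝔛.X n
  fin : IsFinite r
  et : Etale r

theorem exists_step (n : ℕ) (d : LevelData 𝔛 n) :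
    ∃ (U : Scheme.{u}) (j : d.R ⟶ U) (g : U ⟶ 𝔛.X (n + 1)),
      Etale g ∧ IsPullback j d.r g (𝔛.ι n) := by
  haveI : IsClosedImmersion (𝔛.ι n) := (h𝔛 n).1
  haveI : Surjective (𝔛.ι n) := ⟨(h𝔛 n).2⟩
  haveI : Etale d.r := d.et
  exact exists_lift (𝔛.ι n) d.r

noncomputable def step (n : ℕ) (d : LevelData 𝔛 n) : LevelData 𝔛 (n + 1) where
  R := (exists_step h𝔛 n d).choose
  r := (exists_step h𝔛 n d).choose_spec.choose_spec.choose
  fin := by
    haveI : IsClosedImmersion (𝔛.ι n) := (h𝔛 n).1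
    haveI : Surjective (𝔛.ι n) := ⟨(h𝔛 n).2⟩
    haveI : IsFinite d.r := d.fin
    exact EtThickFin.isFinite_of_isLift (𝔛.ι n) (g₀ := d.r)
      (j := (exists_step h𝔛 n d).choose_spec.choose)
      ⟨(exists_step h𝔛 n d).choose_spec.choose_spec.choose_spec.1,
        (exists_step h𝔛 n d).choose_spec.choose_spec.choose_spec.2⟩
  et := (exists_step h𝔛 n d).choose_spec.choose_spec.choose_spec.1

noncomputable def stepι (n : ℕ) (d : LevelData 𝔛 n) : d.R ⟶ (step h𝔛 n d).R :=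
  (exists_step h𝔛 n d).choose_spec.choose

theorem step_isPullback (n : ℕ) (d : LevelData 𝔛 n) :
    IsPullback (stepι h𝔛 n d) d.r (step h𝔛 n d).r (𝔛.ι n) :=
  (exists_step h𝔛 n d).choose_spec.choose_spec.choose_spec.2

/-- the tower of covers built from a level-0 cover -/
noncomputable def tower (d₀ : LevelData 𝔛 0) : ∀ n, LevelData 𝔛 n :=
  fun n => Nat.rec d₀ (fun n d => step h𝔛 n d) n

noncomputable def towerSys (d₀ : LevelData 𝔛 0) : FSch.Sys.{u} where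
  X n := (tower h𝔛 d₀ n).R
  ι n := stepι h𝔛 n (tower h𝔛 d₀ n)

noncomputable def towerHom (d₀ : LevelData 𝔛 0) : towerSys h𝔛 d₀ ⟶ 𝔛 :=
  (⟨fun n => (tower h𝔛 d₀ n).r, fun n => (step_isPullback h𝔛 n (tower h𝔛 d₀ n)).w.symm⟩ :
    FSch.Hom (towerSys h𝔛 d₀) 𝔛)

theorem towerHom_isEtaleCover (d₀ : LevelData 𝔛 0) : FSch.IsEtaleCover (towerHom h𝔛 d₀) :=
  ⟨fun n => step_isPullback h𝔛 n (tower h𝔛 d₀ n),
    fun n => ⟨(tower h𝔛 d₀ n).fin, (tower h𝔛 d₀ n).et⟩⟩

noncomputable def towerCov (d₀ : LevelData 𝔛 0) : FSch.EtCov 𝔛 :=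
  ⟨Over.mk (towerHom h𝔛 d₀), towerHom_isEtaleCover h𝔛 d₀⟩

theorem essSurj : (FSch.EtCov.level 𝔛 0).EssSurj where
  mem_essImage Y := by
    let d₀ : LevelData 𝔛 0 := ⟨Y.left, Y.hom, Y.prop.1, Y.prop.2⟩
    refine ⟨towerCov h𝔛 d₀, ⟨MorphismProperty.Over.isoMk (Iso.refl _) ?_⟩⟩
    simp only [Iso.refl_hom]
    rfl

theorem main : (FSch.EtCov.level 𝔛 0).IsEquivalence :=
  haveI := full h𝔛
  haveI := faithful h𝔛
  haveI := essSurj h𝔛
  { }

end W1
end H


/-- Let 𝔛 be a locally Noetherian formal scheme with an ideal of definition, presented as the adic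
system of its thickenings X_0 → X_1 → ⋯ (each X_n locally Noetherian). Then the functor "fibre over
X_0", from the category of étale covers of 𝔛 (adic systems R_n → X_n of finite étale covers) to the
category of finite étale covers of the scheme X_0, is an equivalence of categories. -/
theorem result (𝔛 : FSch.Sys.{u}) (h𝔛 : 𝔛.IsLocNoethFormal) :
    (FSch.EtCov.level 𝔛 0).IsEquivalence := by
  exact W1.main h𝔛.1

end Groth.Agent.S12066
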