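import Groth.Statements.S12071
import Mathlib

set_option autoImplicit false
open RootD

namespace Groth.Agent.S12071

/-- Let G be the group generated by two elements x, y subject to x² = y² = 1 (the infinite dihedral
group; here Mathlib's DihedralGroup 0 with x = sr 0 and y = sr 1, so that x y = r 1). Then every
normal subgroup of G containing neither x nor y is generated by an element (x y)^n with n > 0; such
a subgroup is cyclic, generated by r n. (The published statement does not exclude the trivial
subgroup, for which no n > 0 works; this row assumes the subgroup nontrivial.) -/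
theorem result (N : Subgroup (DihedralGroup 0)) [N.Normal]
    (hN : N ≠ ⊥) (hx : DihedralGroup.sr (0 : ZMod 0) ∉ N) (hy : DihedralGroup.sr (1 : ZMod 0) ∉ N) :
    ∃ n : ℕ, 0 < n ∧ N = Subgroup.zpowers (DihedralGroup.r (n : ZMod 0)) := by
  classical
  -- no reflection lies in N
  have hsr : ∀ i : ℤ, DihedralGroup.sr (i : ZMod 0) ∉ N := by
    intro i hi
    -- conjugate by r j
    have hconj : ∀ j : ℤ, DihedralGroup.sr ((i - 2 * j : ℤ) : ZMod 0) ∈ N := by
      intro j
      have := ‹N.Normal›.conj_mem _ hi (DihedralGroup.r (j : ZMod 0))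
      rw [DihedralGroup.r_mul_sr, DihedralGroup.inv_r, DihedralGroup.sr_mul_r] at this
      convert this using 2
      show (i - 2 * j : ℤ) = i - j + -j
      ring
    rcases Int.even_or_odd' i with ⟨k, hk | hk⟩
    · apply hx
      have := hconj k
      rw [hk] at this
      have h1 : ((2 * k - 2 * k : ℤ) : ZMod 0) = 0 := by simp
      rw [h1] at this
      exact this
    · apply hy
      have := hconj k
      rw [hk] at this
      have h1 : ((2 * k + 1 - 2 * k : ℤ) : ZMod 0) = 1 := by
        have : (2 * k + 1 - 2 * k : ℤ) = 1 := by ring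
        rw [this]
      rw [h1] at this
      exact this
  let H : AddSubgroup ℤ :=
    { carrier := {k | DihedralGroup.r (k : ZMod 0) ∈ N}
      zero_mem' := by
        show DihedralGroup.r (0 : ZMod 0) ∈ N
        rw [DihedralGroup.r_zero]; exact N.one_mem
      add_mem' := by
        intro a b ha hb
        show DihedralGroup.r ((a + b : ℤ) : ZMod 0) ∈ N
        have := N.mul_mem ha hb
        rwa [DihedralGroup.r_mul_r] at this
      neg_mem' := by
        intro a ha
        show DihedralGroup.r ((-a : ℤ) : ZMod 0) ∈ N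
        have := N.inv_mem ha
        rwa [DihedralGroup.inv_r] at this }
  have hHmem : ∀ k : ℤ, k ∈ H ↔ DihedralGroup.r (k : ZMod 0) ∈ N := fun k => Iff.rfl
  obtain ⟨a, ha⟩ := Int.subgroup_cyclic H
  have hmemH : ∀ k : ℤ, k ∈ H ↔ a ∣ k := by
    intro k
    rw [ha, AddSubgroup.mem_closure_singleton]
    constructor
    · rintro ⟨m, rfl⟩; exact ⟨m, by simp [mul_comm]⟩
    · rintro ⟨m, rfl⟩; exact ⟨m, by simp [mul_comm]⟩
  have hform : ∀ g ∈ N, ∃ k : ℤ, g = DihedralGroup.r (k : ZMod 0) ∧ a ∣ k := by
    intro g hg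
    cases g with
    | r k => exact ⟨k, rfl, (hmemH k).mp hg⟩
    | sr k => exact absurd hg (hsr k)
  have ha0 : a ≠ 0 := by
    intro h0
    apply hN
    rw [Subgroup.eq_bot_iff_forall]
    intro g hg
    obtain ⟨k, rfl, hk⟩ := hform g hg
    rw [h0, zero_dvd_iff] at hk
    rw [hk]
    exact DihedralGroup.r_zero
  refine ⟨a.natAbs, Int.natAbs_pos.mpr ha0, ?_⟩
  have hna : a ∣ (a.natAbs : ℤ) := by
    rw [Int.dvd_natAbs]
  have hnaN : DihedralGroup.r ((a.natAbs : ℤ) : ZMod 0) ∈ N := (hmemH _).mpr hna
  apply le_antisymm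
  · intro g hg
    obtain ⟨k, rfl, hk⟩ := hform g hg
    have hk' : (a.natAbs : ℤ) ∣ k := by rwa [Int.natAbs_dvd]
    obtain ⟨m, rfl⟩ := hk'
    rw [Subgroup.mem_zpowers_iff]
    refine ⟨m, ?_⟩
    rw [DihedralGroup.r_zpow]
    rfl
  · rw [Subgroup.zpowers_le]
    exact hnaN

end Groth.Agent.S12071
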