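import Groth.Statements.S12076
import Mathlib

set_option autoImplicit false
open RootD

namespace Groth.Agent.S12076

/-- Let Δ be a system of simple roots (a base b of a root pairing P over ℤ) and Γ₀ the subgroup
generated by the roots. Then Γ₀ has a structure of totally ordered group for which the roots > 0 are
exactly the positive roots defined by Δ and for which the height (the additive function with value 1
on each simple root) is monotone. The order is given here by its positive cone C ⊆ Γ₀: 0 ∉ C, C + C
⊆ C, and for every x ≠ 0 exactly one of x, −x lies in C (x < y meaning y − x ∈ C). -/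
theorem result {ι M N : Type*} [AddCommGroup M] [AddCommGroup N]
    (P : RootPairing ι ℤ M N) [Finite ι] (b : P.Base) :
    ∃ C : Set ↥(Submodule.span ℤ (Set.range P.root)),
      0 ∉ C ∧ (∀ x ∈ C, ∀ y ∈ C, x + y ∈ C) ∧ (∀ x, x ≠ 0 → (x ∈ C ∨ -x ∈ C)) ∧ (∀ x ∈ C, -x ∉ C) ∧
      (∀ i : ι, (⟨P.root i, Submodule.subset_span (Set.mem_range_self i)⟩ : ↥(Submodule.span ℤ (Set.range P.root))) ∈ C ↔
        b.IsPos i) ∧
      ∀ φ : ↥(Submodule.span ℤ (Set.range P.root)) →+ ℤ,
        (∀ j ∈ b.support, φ ⟨P.root j, Submodule.subset_span (Set.mem_range_self j)⟩ = 1) →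
        ∀ x y : ↥(Submodule.span ℤ (Set.range P.root)), y - x ∈ C → φ x ≤ φ y := by
  classical
  have : Fintype ι := Fintype.ofFinite ι
  set Γ := ↥(Submodule.span ℤ (Set.range P.root)) with hΓ
  let B : Module.Basis b.support ℤ Γ := b.toWeightBasisInt
  have hB : ∀ j : b.support, (B j : M) = P.root j := fun j => b.coe_toWeightBasisInt_apply j
  let e := Fintype.equivFin b.support
  let E : Γ ≃ₗ[ℤ] (Fin (Fintype.card b.support) → ℤ) := (B.reindex e).equivFun
  let ht : Γ →ₗ[ℤ] ℤ := B.constr ℤ (fun _ => (1 : ℤ))
  have hht : ∀ j : b.support, ht (B j) = 1 := fun j => by simp [ht]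
  -- height of a root
  have hroot : ∀ i : ι,
      ht ⟨P.root i, Submodule.subset_span (Set.mem_range_self i)⟩ = b.height i := by
    intro i
    obtain ⟨f, -, -, hf⟩ := b.exists_root_eq_sum_int i
    rw [b.height_eq_sum hf]
    have hx : (⟨P.root i, Submodule.subset_span (Set.mem_range_self i)⟩ : Γ) =
        ∑ j : b.support, f j • B j := by
      apply Subtype.ext
      rw [Submodule.coe_sum]
      show P.root i = _
      rw [hf, ← Finset.sum_coe_sort b.support (fun j => f j • P.root j)]
      refine Finset.sum_congr rfl (fun j _ => ?_)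
      rw [← hB j]
      rfl
    rw [hx, map_sum]
    simp only [map_smul, hht, smul_eq_mul, mul_one]
    rw [Finset.sum_coe_sort b.support f]
  let C : Set Γ := {x | 0 < ht x ∨ (ht x = 0 ∧ 0 < toLex (E x))}
  have hEneg : ∀ x : Γ, toLex (E (-x)) = - toLex (E x) := by
    intro x; rw [map_neg]; rfl
  have hEadd : ∀ x y : Γ, toLex (E (x + y)) = toLex (E x) + toLex (E y) := by
    intro x y; rw [map_add]; rfl
  refine ⟨C, ?_, ?_, ?_, ?_, ?_, ?_⟩
  · rintro (h | ⟨-, h⟩)
    · simp at h
    · rw [map_zero] at h
      exact lt_irrefl _ h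
  · rintro x hx y hy
    rcases hx with hx | ⟨hx0, hx⟩ <;> rcases hy with hy | ⟨hy0, hy⟩
    · left; rw [map_add]; omega
    · left; rw [map_add]; omega
    · left; rw [map_add]; omega
    · right
      refine ⟨by rw [map_add]; omega, ?_⟩
      rw [hEadd]
      exact add_pos hx hy
  · intro x hx0
    rcases lt_trichotomy (ht x) 0 with h | h | h
    · right; left; rw [map_neg]; omega
    · have hne : toLex (E x) ≠ 0 := by
        intro h0
        apply hx0
        apply E.injective
        rw [map_zero]
        exact h0
      rcases lt_or_gt_of_ne hne with h' | h'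
      · right; right
        refine ⟨by rw [map_neg]; omega, ?_⟩
        rw [hEneg]
        exact neg_pos.mpr h'
      · left; right; exact ⟨h, h'⟩
    · left; left; exact h
  · rintro x hx hnx
    rcases hx with hx | ⟨hx0, hx⟩ <;> rcases hnx with hy | ⟨hy0, hy⟩
    · rw [map_neg] at hy; omega
    · rw [map_neg] at hy0; omega
    · rw [map_neg] at hy; omega
    · rw [hEneg] at hy
      have := neg_pos.mp hy
      exact lt_asymm hx this
  · intro i
    constructor
    · rintro (h | ⟨h0, -⟩)
      · rw [hroot] at h; exact h
      · rw [hroot] at h0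
        exact absurd h0 (b.height_ne_zero i)
    · intro h
      left
      rw [hroot]; exact h
  · intro φ hφ x y hxy
    have hφht : ∀ z : Γ, φ z = ht z := by
      intro z
      have : φ.toIntLinearMap = ht := by
        apply B.ext
        intro j
        rw [hht]
        have := hφ j j.2
        have hj : (⟨P.root j, Submodule.subset_span (Set.mem_range_self (j : ι))⟩ : Γ) = B j :=
          Subtype.ext (hB j).symm
        rw [hj] at this
        exact this
      exact congrArg (fun g => g z) this
    rw [hφht, hφht]
    have h0 : 0 ≤ ht (y - x) := by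
      rcases hxy with h | ⟨h, -⟩
      · exact h.le
      · exact h.ge
    rw [map_sub] at h0
    omega

end Groth.Agent.S12076
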