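import Groth.Statements.S12079
import Mathlib

set_option autoImplicit false
universe u
open TensorProduct
open CAlg

namespace Groth.Agent.S12079

/-- For a finitely presented `R`-module `M`, any `R`-module `N` and a flat `R`-module `L`, the canonical
map `Hom_R(M, N) ⊗_R L → Hom_R(M, N ⊗_R L)` sending `f ⊗ l` to `m ↦ f m ⊗ l` is bijective. -/
theorem result (R : Type u) [CommRing R]
    (M N L : Type u) [AddCommGroup M] [Module R M] [AddCommGroup N] [Module R N] [AddCommGroup L] [Module R L]
    [Module.FinitePresentation R M] [Module.Flat R L] :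
    Function.Bijective (TensorProduct.rTensorHomToHomRTensor (RingHom.id R) M N L) := by
  classical
  obtain ⟨n, m, f, g, hf, hfg⟩ := Module.FinitePresentation.exists_fin' R M
  -- notation
  let T : ∀ (X : Type u) [AddCommGroup X] [Module R X], (X →ₗ[R] N) ⊗[R] L →ₗ[R] X →ₗ[R] N ⊗[R] L :=
    fun X _ _ => TensorProduct.rTensorHomToHomRTensor (RingHom.id R) X N L
  have hTn : Function.Bijective (T (Fin n → R)) := by
    have := (rTensorHomEquivHomRTensor R (Fin n → R) N L).bijective
    convert this using 1
    funext x
    exact (rTensorHomEquivHomRTensor_apply x).symm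
  have hTm : Function.Bijective (T (Fin m → R)) := by
    have := (rTensorHomEquivHomRTensor R (Fin m → R) N L).bijective
    convert this using 1
    funext x
    exact (rTensorHomEquivHomRTensor_apply x).symm
  -- naturality
  have hnat : ∀ (X Y : Type u) [AddCommGroup X] [Module R X] [AddCommGroup Y] [Module R Y]
      (φ : X →ₗ[R] Y) (x : (Y →ₗ[R] N) ⊗[R] L),
      T X ((LinearMap.lcomp R N φ).rTensor L x) = LinearMap.lcomp R (N ⊗[R] L) φ (T Y x) := by
    intro X Y _ _ _ _ φ x
    induction x using TensorProduct.induction_on with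
    | zero => simp
    | tmul a l =>
      ext p
      simp [T, TensorProduct.rTensorHomToHomRTensor_apply]
    | add a b ha hb => simp only [map_add, ha, hb]
  -- exactness
  have hex₁ : Function.Exact (LinearMap.lcomp R N f) (LinearMap.lcomp R N g) :=
    LinearMap.exact_lcomp_of_exact_of_surjective N hfg hf
  have hinj₁ : Function.Injective (LinearMap.lcomp R N f) :=
    LinearMap.lcomp_injective_of_surjective f hf
  have hex₂ : Function.Exact (LinearMap.lcomp R (N ⊗[R] L) f) (LinearMap.lcomp R (N ⊗[R] L) g) :=
    LinearMap.exact_lcomp_of_exact_of_surjective _ hfg hf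
  have hinj₂ : Function.Injective (LinearMap.lcomp R (N ⊗[R] L) f) :=
    LinearMap.lcomp_injective_of_surjective f hf
  have hex₁L : Function.Exact ((LinearMap.lcomp R N f).rTensor L)
      ((LinearMap.lcomp R N g).rTensor L) := Module.Flat.rTensor_exact L hex₁
  have hinj₁L : Function.Injective ((LinearMap.lcomp R N f).rTensor L) :=
    Module.Flat.rTensor_preserves_injective_linearMap _ hinj₁
  change Function.Bijective (T M)
  constructor
  · rw [injective_iff_map_eq_zero]
    intro x hx
    have h1 : T (Fin n → R) ((LinearMap.lcomp R N f).rTensor L x) = 0 := by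
      rw [hnat, hx, map_zero]
    have h2 := (injective_iff_map_eq_zero _).mp hTn.1 _ h1
    exact (injective_iff_map_eq_zero _).mp hinj₁L _ h2
  · intro y
    obtain ⟨z, hz⟩ := hTn.2 (LinearMap.lcomp R (N ⊗[R] L) f y)
    have h1 : T (Fin m → R) ((LinearMap.lcomp R N g).rTensor L z) = 0 := by
      rw [hnat, hz]
      exact hex₂.apply_apply_eq_zero y
    have h2 := (injective_iff_map_eq_zero _).mp hTm.1 _ h1
    obtain ⟨x, hx⟩ := (hex₁L z).mp h2
    refine ⟨x, hinj₂ ?_⟩
    rw [← hnat, hx, hz]

end Groth.Agent.S12079
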