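import Groth.Statements.S12081
-- import your own Groth.Agent.* helpers here

set_option autoImplicit false
universe u
open TensorProduct
open EtAlg

namespace Groth.Agent.S12081

/-- Let `B' = B ×_A A'` be a fibre square of rings with `A' → A` surjective with kernel `I`, let `J =
Ker(B' → B)`, let `D'` be a `B'`-algebra and `C' = D' ⊗_{B'} A'`. Then the ideal `I C'` is, as a
subset of `C'`, the image of the ideal `J D'` under `D' → C'`; that is, the map `J D' → I C'` is
surjective. -/
theorem result (B' B A' A : Type u) [CommRing B'] [CommRing B] [CommRing A'] [CommRing A]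
    [Algebra B' B] [Algebra B' A'] [Algebra B A] [Algebra A' A] [Algebra B' A] [IsScalarTower B' B A] [IsScalarTower B' A' A]
    (hsq : EtMil.IsFibreSquare B' B A' A)
    (D' C' : Type u) [CommRing D'] [CommRing C'] [Algebra B' D'] [Algebra A' C']
    [Algebra D' C'] [Algebra B' C'] [IsScalarTower B' A' C'] [IsScalarTower B' D' C'] [Algebra.IsPushout B' A' D' C'] :
    (algebraMap D' C') '' ((RingHom.ker (algebraMap B' B)).map (algebraMap B' D') : Set D') =
      ((RingHom.ker (algebraMap A' A)).map (algebraMap A' C') : Set C') := by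
  classical
  set J := RingHom.ker (algebraMap B' B) with hJ
  set I := RingHom.ker (algebraMap A' A) with hI
  -- lifting I to J
  have hlift : ∀ i ∈ I, ∃ j ∈ J, algebraMap B' A' j = i := by
    intro i hi
    have hcompat : algebraMap B A 0 = algebraMap A' A i := by
      rw [map_zero]; exact ((RingHom.mem_ker).mp hi).symm
    obtain ⟨j, ⟨hj1, hj2⟩, _⟩ := hsq.2 0 i hcompat
    exact ⟨j, (RingHom.mem_ker).mpr hj1, hj2⟩
  have hJI : ∀ j ∈ J, algebraMap B' A' j ∈ I := by
    intro j hj
    rw [hI, RingHom.mem_ker, ← IsScalarTower.algebraMap_apply B' A' A, IsScalarTower.algebraMap_apply B' B A,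
      (RingHom.mem_ker).mp hj, map_zero]
  set S : Set C' := (algebraMap D' C') '' ((J.map (algebraMap B' D') : Ideal D') : Set D') with hS
  have hS0 : (0 : C') ∈ S := ⟨0, Ideal.zero_mem _, map_zero _⟩
  have hSadd : ∀ x y, x ∈ S → y ∈ S → x + y ∈ S := by
    rintro _ _ ⟨x, hx, rfl⟩ ⟨y, hy, rfl⟩
    exact ⟨x + y, Ideal.add_mem _ hx hy, map_add _ _ _⟩
  have hbc : IsBaseChange A' (IsScalarTower.toAlgHom B' D' C').toLinearMap :=
    Algebra.IsPushout.out
  have hmot : ∀ c : C', ∀ i ∈ I, c * algebraMap A' C' i ∈ S := by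
    intro c
    refine hbc.inductionOn c (fun c => ∀ i ∈ I, c * algebraMap A' C' i ∈ S) ?_ ?_ ?_ ?_
    · intro i _; rw [zero_mul]; exact hS0
    · intro d i hi
      obtain ⟨j, hj, rfl⟩ := hlift i hi
      refine ⟨d * algebraMap B' D' j, Ideal.mul_mem_left _ _ (Ideal.mem_map_of_mem _ hj), ?_⟩
      rw [map_mul, ← IsScalarTower.algebraMap_apply B' D' C', ← IsScalarTower.algebraMap_apply B' A' C']
      rfl
    · intro s n hn i hi
      have := hn (s * i) (Ideal.mul_mem_left _ _ hi)
      rw [map_mul] at this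
      rw [Algebra.smul_def]
      convert this using 1
      ring
    · intro n₁ n₂ h₁ h₂ i hi
      rw [add_mul]
      exact hSadd _ _ (h₁ i hi) (h₂ i hi)
  apply Set.Subset.antisymm
  · rintro _ ⟨y, hy, rfl⟩
    have h1 : algebraMap D' C' y ∈ (J.map (algebraMap B' D')).map (algebraMap D' C') :=
      Ideal.mem_map_of_mem _ hy
    rw [Ideal.map_map, ← IsScalarTower.algebraMap_eq, IsScalarTower.algebraMap_eq B' A' C', ← Ideal.map_map] at h1
    refine Ideal.map_mono ?_ h1
    rw [Ideal.map_le_iff_le_comap]
    intro j hj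
    exact hJI j hj
  · intro x hx
    have hx' : x ∈ Ideal.map (algebraMap A' C') I := hx
    have key : ∀ c : C', c * x ∈ S := by
      unfold Ideal.map at hx'
      refine Submodule.span_induction (p := fun x _ => ∀ c : C', c * x ∈ S) ?_ ?_ ?_ ?_ hx'
      · rintro _ ⟨i, hi, rfl⟩ c
        exact hmot c i hi
      · intro c; rw [mul_zero]; exact hS0
      · intro x y _ _ hx hy c
        rw [mul_add]; exact hSadd _ _ (hx c) (hy c)
      · intro r x _ hx c
        rw [smul_eq_mul, ← mul_assoc]; exact hx _
    have := key 1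
    rwa [one_mul] at this

end Groth.Agent.S12081
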