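import Groth.Statements.S12092
import Groth.Agent.Lib.Helper16.TorLoc3

set_option autoImplicit false
universe u
open CategoryTheory
attribute [local instance] HasDerivedCategory.standard
open DRing

namespace Groth.Agent.S12092

open Groth.Agent.Lib.Helper16 Groth.Agent.Lib.Helper16.TorLoc CategoryTheory.Limits

lemma mk_smul_eq {B : Type u} [CommRing B] (m : Ideal B) [m.IsPrime] (Y : ModuleCat.{u} B)
    (r : B) (y : Y) :
    LocalizedModule.mk (r • y) (1 : m.primeCompl) =
      algebraMap B (Localization.AtPrime m) r • LocalizedModule.mk y (1 : m.primeCompl) := by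
  rw [algebraMap_smul]
  exact (LocalizedModule.mkLinearMap m.primeCompl Y).map_smul r y

lemma mk_add_eq {B : Type u} [CommRing B] (m : Ideal B) [m.IsPrime] (Y : ModuleCat.{u} B)
    (y y' : Y) :
    LocalizedModule.mk (y + y') (1 : m.primeCompl) =
      LocalizedModule.mk y (1 : m.primeCompl) + LocalizedModule.mk y' (1 : m.primeCompl) :=
  (LocalizedModule.mkLinearMap m.primeCompl Y).map_add y y'

/-- the localization map of a module at a prime, as a morphism to a restriction of scalars. -/
noncomputable def locMap {B : Type u} [CommRing B] (m : Ideal B) [m.IsPrime] (Y : ModuleCat.{u} B) :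
    Y ⟶ (ModuleCat.restrictScalars.{u} (algebraMap B (Localization.AtPrime m))).obj
      (ModuleCat.of (Localization.AtPrime m) (LocalizedModule m.primeCompl Y)) :=
  letI : Module B (LocalizedModule m.primeCompl Y) :=
    Module.compHom _ (algebraMap B (Localization.AtPrime m))
  ModuleCat.ofHom
    { toFun := fun y => LocalizedModule.mk y (1 : m.primeCompl)
      map_add' := fun y y' => mk_add_eq m Y y y'
      map_smul' := fun r y => mk_smul_eq m Y r y }

lemma locMap_apply {B : Type u} [CommRing B] (m : Ideal B) [m.IsPrime] (Y : ModuleCat.{u} B)
    (y : Y) : (locMap m Y).hom y = LocalizedModule.mk y (1 : m.primeCompl) := rfl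

/-- a module all of whose base changes to the localizations at maximal ideals vanish is zero. -/
lemma isZero_of_forall_maximal {B : Type u} [CommRing B] (Y : ModuleCat.{u} B)
    (h : ∀ j : MaximalSpectrum B, IsZero ((ModuleCat.extendScalars.{u, u, u}
      (algebraMap B (Localization.AtPrime j.asIdeal))).obj Y)) : IsZero Y := by
  rw [ModuleCat.isZero_iff_subsingleton]
  refine ⟨fun y y' => ?_⟩
  refine Module.eq_of_localization_maximal (R := B) (M := Y)
    (fun P _ => LocalizedModule P.primeCompl Y)
    (fun P _ => LocalizedModule.mkLinearMap P.primeCompl Y) y y' (fun P hP => ?_)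
  have hz := h ⟨P, hP⟩
  have h0 : locMap P Y = 0 := by
    apply ((ModuleCat.extendRestrictScalarsAdj.{u, u, u}
      (algebraMap B (Localization.AtPrime P))).homEquiv _ _).symm.injective
    exact hz.eq_of_src _ _
  have h1 := locMap_apply P Y y
  have h2 := locMap_apply P Y y'
  rw [h0] at h1 h2
  exact (h1.symm.trans h2 : LocalizedModule.mk y (1 : P.primeCompl) = LocalizedModule.mk y' 1)

/-- (3) ⇒ (1): let `A → B` be a ring map and `K•` a complex of `B`-modules. Suppose that for every
maximal ideal `m ⊆ B`, with `p` its inverse image in `A`, the localization `K•_m`, viewed as a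
complex of `A_p`-modules, has tor amplitude in `[a, b]`. Then `K•`, regarded over `A` by restriction
of scalars, has tor amplitude in `[a, b]`. (Tor amplitude in the frozen sense: isomorphic in the
derived category to a complex of flat modules vanishing outside `[a, b]`.) -/
theorem result (A B : Type u) [CommRing A] [CommRing B]
    [Algebra A B] (K : DRing.Cx B) (a b : ℤ)
    (h3 : ∀ (m : Ideal B) [m.IsMaximal],
      DRing.HasTorAmplitudeIn (Localization.AtPrime (m.comap (algebraMap A B))) a b
        (DRing.toD ((DRing.restrictCx (Localization.localRingHom (m.comap (algebraMap A B)) m (algebraMap A B) rfl)).obj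
          (((ModuleCat.extendScalars (algebraMap B (Localization.AtPrime m))).mapHomologicalComplex
            (ComplexShape.up ℤ)).obj K)))) :
    DRing.HasTorAmplitudeIn A a b (DRing.toD ((DRing.restrictCx (algebraMap A B)).obj K)) := by
  refine torAmp_up (algebraMap A B)
    (A' := fun j : MaximalSpectrum B =>
      Localization.AtPrime (j.asIdeal.comap (algebraMap A B)))
    (B' := fun j : MaximalSpectrum B => Localization.AtPrime j.asIdeal)
    (fun j => Localization.localRingHom (j.asIdeal.comap (algebraMap A B)) j.asIdeal
      (algebraMap A B) rfl)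
    (fun j => algebraMap A (Localization.AtPrime (j.asIdeal.comap (algebraMap A B))))
    (fun j => algebraMap B (Localization.AtPrime j.asIdeal))
    (fun j => ?_) (fun j => ?_) (fun j => ?_) isZero_of_forall_maximal K a b (fun j => ?_)
  · ext x
    exact (Localization.localRingHom_to_map _ _ _ rfl x).symm
  · rw [RingHom.flat_algebraMap_iff]
    exact IsLocalization.flat _ (j.asIdeal.comap (algebraMap A B)).primeCompl
  · rw [RingHom.flat_algebraMap_iff]
    exact IsLocalization.flat _ j.asIdeal.primeCompl
  · haveI := j.isMaximal
    exact h3 j.asIdeal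

end Groth.Agent.S12092
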