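import Groth.Statements.S12102
import Mathlib
import Groth.Agent.Lib.Helper8.PC14

set_option autoImplicit false
universe w v u
open CategoryTheory CategoryTheory.Limits
open PCoh

namespace Groth.Agent.S12102

section Aug

variable {C : Type u} [Category.{v} C] [Abelian C]

lemma exactAt_augment_zero (K : ChainComplex C ℕ) {X : C} (f : K.X 0 ⟶ X)
    (w : K.d 1 0 ≫ f = 0) (hf : Epi f) : (K.augment f w).ExactAt 0 := by
  rw [HomologicalComplex.exactAt_iff' _ 1 0 0 (by simp) (by simp)]
  rw [ShortComplex.exact_iff_epi _ ((K.augment f w).shape 0 0 (by simp))]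
  change Epi f
  infer_instance

lemma exactAt_augment_one (K : ChainComplex C ℕ) {X : C} (f : K.X 0 ⟶ X)
    (w : K.d 1 0 ≫ f = 0) (h : (ShortComplex.mk (K.d 1 0) f w).Exact) :
    (K.augment f w).ExactAt 1 := by
  rw [HomologicalComplex.exactAt_iff' _ 2 1 0 (by simp) (by simp)]
  exact h

lemma exactAt_augment_succ_succ (K : ChainComplex C ℕ) {X : C} (f : K.X 0 ⟶ X)
    (w : K.d 1 0 ≫ f = 0) (j : ℕ) (h : K.ExactAt (j + 1)) :
    (K.augment f w).ExactAt (j + 2) := by
  rw [HomologicalComplex.exactAt_iff' _ (j + 3) (j + 2) (j + 1) (by simp) (by simp)]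
  rw [HomologicalComplex.exactAt_iff' _ (j + 2) (j + 1) j (by simp) (by simp)] at h
  exact h

lemma exactAt_truncate (K : ChainComplex C ℕ) (j : ℕ) (h : K.ExactAt (j + 2)) :
    (ChainComplex.truncate.obj K).ExactAt (j + 1) := by
  rw [HomologicalComplex.exactAt_iff' _ (j + 2) (j + 1) j (by simp) (by simp)]
  rw [HomologicalComplex.exactAt_iff' _ (j + 3) (j + 2) (j + 1) (by simp) (by simp)] at h
  exact h

end Aug

section Main

open Groth.Agent.Lib.Helper8.PC7 Groth.Agent.Lib.Helper8.PC11 Groth.Agent.Lib.Helper8.PC14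
open CategoryTheory.Pretriangulated

variable {C : Type u} [Category.{v} C] [Abelian C] [HasDerivedCategory.{w} C]
  (P : ObjectProperty C) [P.IsClosedUnderIsomorphisms] [P.ContainsZero]
  (hsum : ∀ X Y : C, P X → P Y → P (X ⨯ Y))
  (hqs : PCoh.IsQuasiStableUnderKernels P) (hql : PCoh.IsQuasiLiftable P)

/-- the glued complex `⋯ → T₁ → T₀ → E → F` -/
noncomputable def glue (T : ChainComplex C ℕ) {E F : C} (g : T.X 0 ⟶ E) (w : T.d 1 0 ≫ g = 0)
    (π : E ⟶ F) (w' : g ≫ π = 0) : ChainComplex C ℕ :=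
  (T.augment g w).augment π w'

omit [HasDerivedCategory.{w} C] in
lemma epi_d_one_zero (K : ChainComplex C ℕ) (h : K.ExactAt 0) : Epi (K.d 1 0) := by
  rw [HomologicalComplex.exactAt_iff' _ 1 0 0 (by simp) (by simp)] at h
  rw [ShortComplex.exact_iff_epi _ (K.shape 0 0 (by simp))] at h
  exact h

include hsum hqs hql in
theorem exists_complex (n : ℕ) : ∀ (F : C),
    IsNPC P (-(n : ℤ)) ((DerivedCategory.singleFunctor C 0).obj F) →
    ∃ K : ChainComplex C ℕ, Nonempty (K.X 0 ≅ F) ∧ (∀ j : ℕ, j ≤ n → K.ExactAt j) ∧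
        (∀ j : ℕ, n + 1 < j → IsZero (K.X j)) ∧ (∀ j : ℕ, 1 ≤ j → j ≤ n + 1 → P (K.X j)) := by
  induction n with
  | zero =>
    intro F h
    obtain ⟨E, π, hE, hπ⟩ := finiteType_of_npc_single P hqs F (by simpa using h)
    let T : ChainComplex C ℕ := HomologicalComplex.zero
    refine ⟨glue T (0 : T.X 0 ⟶ E) (by simp) π (by simp), ⟨Iso.refl _⟩, ?_, ?_, ?_⟩
    · intro j hj
      obtain rfl : j = 0 := by omega
      exact exactAt_augment_zero _ _ _ hπ
    · intro j hj
      obtain ⟨i, rfl⟩ : ∃ i, j = i + 2 := ⟨j - 2, by omega⟩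
      exact isZero_zero C
    · intro j h1 h2
      obtain rfl : j = 1 := by omega
      exact hE
  | succ n ih =>
    intro F h
    have h0 : IsNPC P 0 ((DerivedCategory.singleFunctor C 0).obj F) := h.mono (by omega)
    obtain ⟨E, π, hE, hπ⟩ := finiteType_of_npc_single P hqs F h0
    let S : ShortComplex C := ShortComplex.mk (kernel.ι π) π (kernel.condition π)
    have hS : S.ShortExact :=
      { exact := ShortComplex.exact_of_f_is_kernel _ (kernelIsKernel π)
        mono_f := by dsimp [S]; infer_instance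
        epi_g := hπ }
    have hker : IsNPC P (-(n : ℤ)) ((DerivedCategory.singleFunctor C 0).obj (kernel π)) := by
      have := (triangle_all hsum hqs hql (-(n : ℤ) - 1) _ hS.singleTriangle_distinguished).2.2
        (npc_single_mem P _ hE)
        (by
          have e : -(n : ℤ) - 1 = -((n + 1 : ℕ) : ℤ) := by push_cast; ring
          rw [e]; exact h)
      simpa using this
    obtain ⟨K', ⟨e'⟩, hex', hz', hP'⟩ := ih (kernel π) hker
    let T := ChainComplex.truncate.obj K'
    let p : T.X 0 ⟶ kernel π := K'.d 1 0 ≫ e'.hom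
    let g : T.X 0 ⟶ E := p ≫ kernel.ι π
    have w : T.d 1 0 ≫ g = 0 := by
      change K'.d 2 1 ≫ (K'.d 1 0 ≫ e'.hom) ≫ kernel.ι π = 0
      rw [Category.assoc, K'.d_comp_d_assoc, zero_comp]
    have w' : g ≫ π = 0 := by
      change (p ≫ kernel.ι π) ≫ π = 0
      rw [Category.assoc, kernel.condition, comp_zero]
    have hepi : Epi (K'.d 1 0) := epi_d_one_zero K' (hex' 0 (by omega))
    have hp : Epi p := (inferInstance : Epi (K'.d 1 0 ≫ e'.hom))
    refine ⟨glue T g w π w', ⟨Iso.refl _⟩, ?_, ?_, ?_⟩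
    · intro j hj
      match j, hj with
      | 0, _ => exact exactAt_augment_zero _ _ _ hπ
      | 1, _ =>
        apply exactAt_augment_one
        rw [ShortComplex.exact_iff_epi_kernel_lift]
        have : kernel.lift π g w' = p := by
          rw [← cancel_mono (kernel.ι π), kernel.lift_ι]
        change Epi (kernel.lift π g w')
        rw [this]
        exact hp
      | 2, hj =>
        apply exactAt_augment_succ_succ _ _ _ 0
        apply exactAt_augment_one
        have h1 := hex' 1 (by omega)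
        rw [HomologicalComplex.exactAt_iff' _ 2 1 0 (by simp) (by simp)] at h1
        let φ : K'.sc' 2 1 0 ⟶ ShortComplex.mk (T.d 1 0) g w :=
          { τ₁ := 𝟙 _
            τ₂ := 𝟙 _
            τ₃ := e'.hom ≫ kernel.ι π
            comm₁₂ := by
              change 𝟙 (K'.X 2) ≫ K'.d 2 1 = K'.d 2 1 ≫ 𝟙 (K'.X 1)
              rw [Category.id_comp, Category.comp_id]
            comm₂₃ := by
              change 𝟙 (K'.X 1) ≫ (K'.d 1 0 ≫ e'.hom) ≫ kernel.ι π =
                K'.d 1 0 ≫ e'.hom ≫ kernel.ι π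
              rw [Category.id_comp, Category.assoc] }
        have i2 : IsIso φ.τ₂ := (inferInstance : IsIso (𝟙 (K'.X 1)))
        have i1 : Epi φ.τ₁ := (inferInstance : Epi (𝟙 (K'.X 2)))
        have i3 : Mono φ.τ₃ := (inferInstance : Mono (e'.hom ≫ kernel.ι π))
        exact (ShortComplex.exact_iff_of_epi_of_isIso_of_mono φ).mp h1
      | j + 3, hj =>
        apply exactAt_augment_succ_succ _ _ _ (j + 1)
        apply exactAt_augment_succ_succ _ _ _ j
        exact exactAt_truncate K' j (hex' (j + 2) (by omega))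
    · intro j hj
      obtain ⟨i, rfl⟩ : ∃ i, j = i + 2 := ⟨j - 2, by omega⟩
      exact hz' (i + 1) (by omega)
    · intro j h1 h2
      match j, h1, h2 with
      | 1, _, _ => exact hE
      | i + 2, _, h2 => exact hP' (i + 1) (by omega) (by omega)

section Fwd

variable (K : ChainComplex C ℕ)

/-- cycles: `Z₀ = K₀`, `Z_{j+1} = ker d` -/
noncomputable def Zc : ℕ → C
  | 0 => K.X 0
  | j + 1 => kernel (K.d (j + 1) j)

/-- the map `K_{j+1} ⟶ Z_j` -/
noncomputable def toZ : ∀ j : ℕ, K.X (j + 1) ⟶ Zc K j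
  | 0 => K.d 1 0
  | j + 1 => kernel.lift (K.d (j + 1) j) (K.d (j + 2) (j + 1)) (K.d_comp_d _ _ _)

omit [HasDerivedCategory.{w} C] in
lemma toZ_zero_comp (j : ℕ) : kernel.ι (K.d (j + 1) j) ≫ toZ K j = 0 := by
  cases j with
  | zero => exact kernel.condition _
  | succ j =>
    change kernel.ι (K.d (j + 2) (j + 1)) ≫
      kernel.lift (K.d (j + 1) j) (K.d (j + 2) (j + 1)) (K.d_comp_d _ _ _) = 0
    rw [← cancel_mono (kernel.ι (K.d (j + 1) j)), Category.assoc, kernel.lift_ι,
      kernel.condition, zero_comp]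

/-- the short complex `Z_{j+1} ⟶ K_{j+1} ⟶ Z_j` -/
noncomputable def spl (j : ℕ) : ShortComplex C :=
  ShortComplex.mk (kernel.ι (K.d (j + 1) j)) (toZ K j) (toZ_zero_comp K j)

omit [HasDerivedCategory.{w} C] in
lemma epi_toZ (j : ℕ) (h : K.ExactAt j) : Epi (toZ K j) := by
  cases j with
  | zero => exact epi_d_one_zero K h
  | succ j =>
    rw [HomologicalComplex.exactAt_iff' K (j + 2) (j + 1) j (by simp) (by simp)] at h
    exact (ShortComplex.exact_iff_epi_kernel_lift _).1 h

omit [HasDerivedCategory.{w} C] in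
lemma spl_shortExact (j : ℕ) (h : K.ExactAt j) : (spl K j).ShortExact where
  exact := by
    cases j with
    | zero => exact ShortComplex.exact_of_f_is_kernel _ (kernelIsKernel (K.d 1 0))
    | succ j =>
      exact ShortComplex.exact_of_f_is_kernel _
        (isKernelOfComp (kernel.ι (K.d (j + 1) j)) (K.d (j + 2) (j + 1))
          (kernelIsKernel (K.d (j + 2) (j + 1))) _ (kernel.lift_ι _ _ _))
  mono_f := by dsimp [spl]; infer_instance
  epi_g := epi_toZ K j h

include hsum hqs hql in
lemma fwd (n : ℕ) (hex : ∀ j : ℕ, j ≤ n → K.ExactAt j)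
    (hP : ∀ j : ℕ, 1 ≤ j → j ≤ n + 1 → P (K.X j)) :
    ∀ m j : ℕ, j + m = n →
      IsNPC P (-(m : ℤ)) ((DerivedCategory.singleFunctor C 0).obj (Zc K j)) := by
  intro m
  induction m with
  | zero =>
    intro j hj
    have hft : PCoh.IsOfFiniteType P (Zc K j) :=
      ⟨K.X (j + 1), toZ K j, hP (j + 1) (by omega) (by omega), epi_toZ K j (hex j (by omega))⟩
    simpa using npc_zero_of_finiteType P hql hsum hqs hft
  | succ m ih =>
    intro j hj
    have h1 := ih (j + 1) (by omega)
    have hS := spl_shortExact K j (hex j (by omega))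
    have h2 := (triangle_all hsum hqs hql (-(m : ℤ) - 1) _ hS.singleTriangle_distinguished).1
      (by
        have e' : -(m : ℤ) - 1 + 1 = -(m : ℤ) := by ring
        rw [e']
        exact h1) (npc_single_mem P _ (hP (j + 1) (by omega) (by omega)))
    have e : -(m : ℤ) - 1 = -((m + 1 : ℕ) : ℤ) := by push_cast; ring
    rw [← e]
    exact h2

end Fwd

end Main


/-- Let C be an abelian category and C₀ a strictly full additive subcategory, quasi-stable under kernels
of epimorphisms and quasi-liftable; let F be an object of C and n a natural number. Then F is of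
n-C₀-finite presentation (there is an exact sequence E_{n+1} → ⋯ → E_1 → F → 0 with all E_j in C₀;
encoded as an ℕ-indexed chain complex K with K_0 ≅ F, exact at the indices 0, …, n, zero beyond
index n + 1, and K_1, …, K_{n+1} in C₀) if and only if F placed in degree 0 is (−n)-pseudo-coherent
(isomorphic in D(C) to a strictly (−n)-pseudo-coherent complex). -/
theorem result {C : Type u} [Category.{v} C] [Abelian C] [HasDerivedCategory.{w} C]
    (P : ObjectProperty C) [P.IsClosedUnderIsomorphisms] [P.ContainsZero] (hsum : ∀ X Y : C, P X → P Y → P (X ⨯ Y))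
    (hqs : PCoh.IsQuasiStableUnderKernels P) (hql : PCoh.IsQuasiLiftable P)
    (F : C) (n : ℕ) :
    (∃ K : ChainComplex C ℕ, Nonempty (K.X 0 ≅ F) ∧ (∀ j : ℕ, j ≤ n → K.ExactAt j) ∧
        (∀ j : ℕ, n + 1 < j → IsZero (K.X j)) ∧ (∀ j : ℕ, 1 ≤ j → j ≤ n + 1 → P (K.X j))) ↔
      (∃ E : CochainComplex C ℤ, PCoh.IsStrictPC P (-(n : ℤ)) E ∧
        Nonempty (DerivedCategory.Q.obj E ≅ (DerivedCategory.singleFunctor C 0).obj F)) := by
  constructor
  · rintro ⟨K, ⟨e⟩, hex, -, hP⟩
    exact Groth.Agent.Lib.Helper8.PC7.IsNPC.of_iso ((DerivedCategory.singleFunctor C 0).mapIso e)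
      (fwd P hsum hqs hql K n hex hP n 0 (by omega))
  · intro h
    exact exists_complex P hsum hqs hql n F h

end Groth.Agent.S12102
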