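import Groth.Statements.S3084
import Groth.Agent.Lib.Helper14.ClosedCompl
import Mathlib.CategoryTheory.Sites.LocallyBijective
import Mathlib.CategoryTheory.Sites.Whiskering

set_option autoImplicit false
universe u
open CategoryTheory
open SGA4

namespace Groth.Agent.S3084

open Groth.Agent.Lib.Helper14.ClosedCompl
open Limits Opposite

section
variable {C : Type u} [SmallCategory C] {J : GrothendieckTopology C}

lemma prod_elt_ext (U X : Sheaf J (Type u)) (c : Cᵒᵖ) (w w' : (U ⨯ X).obj.obj c)
    (h1 : (prod.fst : U ⨯ X ⟶ U).hom.app c w = (prod.fst : U ⨯ X ⟶ U).hom.app c w')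
    (h2 : (prod.snd : U ⨯ X ⟶ X).hom.app c w = (prod.snd : U ⨯ X ⟶ X).hom.app c w') : w = w' := by
  obtain ⟨d⟩ := c
  obtain ⟨k, rfl⟩ := (secEquiv J (U ⨯ X) d).surjective w
  obtain ⟨k', rfl⟩ := (secEquiv J (U ⨯ X) d).surjective w'
  rw [← secEquiv_comp, ← secEquiv_comp] at h1 h2
  congr 1
  apply Limits.prod.hom_ext
  · exact (secEquiv J U d).injective h1
  · exact (secEquiv J X d).injective h2

/-- over a point where `U` has a section, `m` is bijective as soon as `U × m` is an isomorphism -/
lemma bijective_of_star (U : Sheaf J (Type u)) {X Y : Sheaf J (Type u)} (m : X ⟶ Y)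
    (h : IsIso (prod.map (𝟙 U) m)) (c : Cᵒᵖ) (a : U.obj.obj c) :
    Function.Bijective (m.hom.app c) := by
  have hb : Function.Bijective ((prod.map (𝟙 U) m).hom.app c) := by
    have : IsIso ((sheafToPresheaf J (Type u)).map (prod.map (𝟙 U) m)) := inferInstance
    have : IsIso (((sheafToPresheaf J (Type u)).map (prod.map (𝟙 U) m)).app c) := inferInstance
    exact (isIso_iff_bijective _).1 this
  have hf : ∀ w, (prod.fst : U ⨯ Y ⟶ U).hom.app c ((prod.map (𝟙 U) m).hom.app c w) =
      (prod.fst : U ⨯ X ⟶ U).hom.app c w := by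
    intro w
    have := congrArg (fun t : U ⨯ X ⟶ U => t.hom.app c w) (prod.map_fst (𝟙 U) m)
    rw [Category.comp_id] at this
    exact this
  have hs : ∀ w, (prod.snd : U ⨯ Y ⟶ Y).hom.app c ((prod.map (𝟙 U) m).hom.app c w) =
      m.hom.app c ((prod.snd : U ⨯ X ⟶ X).hom.app c w) := by
    intro w
    exact congrArg (fun t : U ⨯ X ⟶ Y => t.hom.app c w) (prod.map_snd (𝟙 U) m)
  constructor
  · intro x x' hxx'
    obtain ⟨w, hw1, hw2⟩ := exists_prod_elt U X c a x
    obtain ⟨w', hw1', hw2'⟩ := exists_prod_elt U X c a x'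
    have : w = w' := by
      apply hb.1
      apply prod_elt_ext
      · rw [hf, hf, hw1, hw1']
      · rw [hs, hs, hw2, hw2', hxx']
    rw [← hw2, ← hw2', this]
  · intro y
    obtain ⟨v, hv1, hv2⟩ := exists_prod_elt U Y c a y
    obtain ⟨w, rfl⟩ := hb.2 v
    exact ⟨_, (hs w).symm.trans hv2⟩


lemma isIso_of (U : Sheaf J (Type u)) {X Y : Sheaf J (Type u)} (m : X ⟶ Y)
    (h1 : IsIso (prod.map (𝟙 U) m)) (h2 : IsIso ((L₀ U).map m)) : IsIso m := by
  have h2' : IsIso ((presheafToSheaf J (Type u)).map ((P U).map m.hom)) := h2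
  have hW : J.W ((P U).map m.hom) := (J.W_iff _).2 h2'
  obtain ⟨hi, hs⟩ := (J.W_iff_isLocallyBijective _).1 hW
  refine (Sheaf.isLocallyBijective_iff_isIso m).1 ⟨?_, ?_⟩
  · constructor
    intro c x x' hxx'
    have hη : ((P U).map m.hom).app c (((η U).app X.obj).app c x) =
        ((P U).map m.hom).app c (((η U).app X.obj).app c x') := by
      funext h
      exact hxx'
    have hS := Presheaf.equalizerSieve_mem J ((P U).map m.hom) _ _ hη
    refine J.superset_covering ?_ hS
    intro d f hf
    change ((P U).obj X.obj).map f.op (((η U).app X.obj).app c x) =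
      ((P U).obj X.obj).map f.op (((η U).app X.obj).app c x') at hf
    change X.obj.map f.op x = X.obj.map f.op x'
    by_cases hd : Emp U (op d)
    · exact congrFun hf hd
    · obtain ⟨a⟩ := not_isEmpty_iff.1 (fun h' => hd h')
      apply (bijective_of_star U m h1 (op d) a).1
      have n1 := ConcreteCategory.congr_hom (m.hom.naturality f.op) x
      have n2 := ConcreteCategory.congr_hom (m.hom.naturality f.op) x'
      exact n1.trans ((congrArg (Y.obj.map f.op) hxx').trans n2.symm)
  · constructor
    intro c y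
    have hS := Presheaf.imageSieve_mem J ((P U).map m.hom) (((η U).app Y.obj).app (op c) y)
    refine J.superset_covering ?_ hS
    intro d f hf
    obtain ⟨φ, hφ⟩ := hf
    change ∃ t, m.hom.app (op d) t = Y.obj.map f.op y
    by_cases hd : Emp U (op d)
    · exact ⟨φ hd, congrFun hφ hd⟩
    · obtain ⟨a⟩ := not_isEmpty_iff.1 (fun h' => hd h')
      exact (bijective_of_star U m h1 (op d) a).2 _

end

open CategoryTheory.Limits in


open CategoryTheory.Limits in
/-- For sheaves of sets on a small site: let U be an open, j^* = (X ↦ U × X over U) the restriction to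
the open subtopos E/U and i^* any left adjoint of the inclusion of the closed complement of U. A
morphism m of E is an isomorphism if and only if both j^*(m) and i^*(m) are isomorphisms. -/
theorem result {C : Type u} [SmallCategory C] (J : GrothendieckTopology C)
    (U : Sheaf J (Type u)) (hU : SGA4.IsOpen U)
    (L : Sheaf J (Type u) ⥤ (SGA4.closedCompl U).FullSubcategory) (adj : L ⊣ (SGA4.closedCompl U).ι)
    {X Y : Sheaf J (Type u)} (m : X ⟶ Y) :
    IsIso m ↔ IsIso ((Over.star U).map m) ∧ IsIso (L.map m) := by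
  constructor
  · intro h
    exact ⟨inferInstance, inferInstance⟩
  · rintro ⟨h1, h2⟩
    have e : L ≅ Lc U := adj.leftAdjointUniq (adjL U)
    have h2' : IsIso ((Lc U).map m) := (NatIso.isIso_map_iff e m).1 h2
    have h2'' : IsIso ((L₀ U).map m) :=
      (inferInstance : IsIso ((SGA4.closedCompl U).ι.map ((Lc U).map m)))
    have h1' : IsIso ((Over.forget U).map ((Over.star U).map m)) := inferInstance
    have h1'' : IsIso (prod.map (𝟙 U) m) := h1'
    exact isIso_of U m h1'' h2''

end Groth.Agent.S3084
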