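import Groth.Statements.S12107
import Groth.Agent.S3084
import Groth.Agent.Lib.Helper14.ClosedCompl
import Mathlib.CategoryTheory.Sites.LocallyBijective
import Mathlib.CategoryTheory.Sites.Whiskering

set_option autoImplicit false
universe u
open CategoryTheory
open SGA4

namespace Groth.Agent.S12107

open Groth.Agent.Lib.Helper14.ClosedCompl
open Limits Opposite

section
variable {C : Type u} [SmallCategory C] {J : GrothendieckTopology C}

/-- sectionwise criterion for `U × m` to be an isomorphism -/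
lemma isIso_star_of_bijective (U : Sheaf J (Type u)) {X Y : Sheaf J (Type u)} (m : X ⟶ Y)
    (h : ∀ (c : Cᵒᵖ) (_ : U.obj.obj c), Function.Bijective (m.hom.app c)) :
    IsIso (prod.map (𝟙 U) m) := by
  have hf : ∀ (c : Cᵒᵖ) w, (prod.fst : U ⨯ Y ⟶ U).hom.app c ((prod.map (𝟙 U) m).hom.app c w) =
      (prod.fst : U ⨯ X ⟶ U).hom.app c w := by
    intro c w
    have := congrArg (fun t : U ⨯ X ⟶ U => t.hom.app c w) (prod.map_fst (𝟙 U) m)
    rw [Category.comp_id] at this
    exact this
  have hs : ∀ (c : Cᵒᵖ) w, (prod.snd : U ⨯ Y ⟶ Y).hom.app c ((prod.map (𝟙 U) m).hom.app c w) =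
      m.hom.app c ((prod.snd : U ⨯ X ⟶ X).hom.app c w) := by
    intro c w
    exact congrArg (fun t : U ⨯ X ⟶ Y => t.hom.app c w) (prod.map_snd (𝟙 U) m)
  have hb : ∀ c : Cᵒᵖ, Function.Bijective ((prod.map (𝟙 U) m).hom.app c) := by
    intro c
    constructor
    · intro w w' hww'
      apply Groth.Agent.S3084.prod_elt_ext
      · rw [← hf, ← hf c w', hww']
      · apply (h c ((prod.fst : U ⨯ X ⟶ U).hom.app c w)).1
        rw [← hs, ← hs, hww']
    · intro v
      obtain ⟨x, hx⟩ := (h c ((prod.fst : U ⨯ Y ⟶ U).hom.app c v)).2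
        ((prod.snd : U ⨯ Y ⟶ Y).hom.app c v)
      obtain ⟨w, hw1, hw2⟩ := exists_prod_elt U X c ((prod.fst : U ⨯ Y ⟶ U).hom.app c v) x
      refine ⟨w, ?_⟩
      apply Groth.Agent.S3084.prod_elt_ext
      · rw [hf, hw1]
      · rw [hs, hw2, hx]
  have h1 : ∀ c : Cᵒᵖ, IsIso (((sheafToPresheaf J (Type u)).map (prod.map (𝟙 U) m)).app c) :=
    fun c => (isIso_iff_bijective _).2 (hb c)
  have h2 : IsIso ((sheafToPresheaf J (Type u)).map (prod.map (𝟙 U) m)) :=
    NatIso.isIso_of_isIso_app _
  exact isIso_of_fully_faithful (sheafToPresheaf J (Type u)) _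

/-- in a cartesian square of sheaves, the base change of a sectionwise bijective map is
sectionwise bijective -/
lemma bijective_fst_of_isPullback {P X Y Z : Sheaf J (Type u)} {fst : P ⟶ X} {snd : P ⟶ Y}
    {f : X ⟶ Z} {g : Y ⟶ Z} (h : IsPullback fst snd f g) (c : Cᵒᵖ)
    (hg : Function.Bijective (g.hom.app c)) : Function.Bijective (fst.hom.app c) := by
  have h' := h.map (sheafToPresheaf J (Type u) ⋙ (evaluation Cᵒᵖ (Type u)).obj c)
  have : IsIso ((sheafToPresheaf J (Type u) ⋙ (evaluation Cᵒᵖ (Type u)).obj c).map g) :=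
    (isIso_iff_bijective _).2 hg
  have := h'.isIso_fst_of_isIso
  exact (isIso_iff_bijective _).1 this

lemma bijective_of_isCl (U : Sheaf J (Type u)) {Z Z' : Sheaf J (Type u)} (hZ : IsCl U Z)
    (hZ' : IsCl U Z') (g : Z ⟶ Z') (c : Cᵒᵖ) (a : U.obj.obj c) :
    Function.Bijective (g.hom.app c) := by
  have := hZ.subsingleton a
  have := hZ'.subsingleton a
  obtain ⟨z⟩ := hZ.nonempty a
  exact ⟨fun _ _ _ => Subsingleton.elim _ _, fun y => ⟨z, Subsingleton.elim _ _⟩⟩

lemma unitL_naturality (U : Sheaf J (Type u)) {X X' : Sheaf J (Type u)} (m : X ⟶ X') :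
    unitL U X ≫ (L₀ U).map m = m ≫ unitL U X' := by
  ext1
  show ((η U).app X.obj ≫ toSheafify J _) ≫ sheafifyMap J ((P U).map m.hom) =
    m.hom ≫ (η U).app X'.obj ≫ toSheafify J _
  rw [Category.assoc, ← toSheafify_naturality, ← Category.assoc, ← Category.assoc]
  congr 1

lemma isIso_L₀_unitL (U : Sheaf J (Type u)) (X : Sheaf J (Type u)) :
    IsIso ((L₀ U).map (unitL U X)) := by
  have h1 : (adjL U).unit.app X = unitL U X := by
    have e1 : (adjL U).homEquiv X ((Lc U).obj X) (𝟙 _) = (adjL U).unit.app X := by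
      rw [Adjunction.homEquiv_unit, CategoryTheory.Functor.map_id]
      exact Category.comp_id _
    rw [← e1]
    have e2 : (adjL U).homEquiv X ((Lc U).obj X) = homEquivL U X ((Lc U).obj X) := by
      unfold adjL
      rw [Adjunction.mkOfHomEquiv_homEquiv]
    rw [e2]
    ext1
    rw [homEquivL_apply]
    show (η U).app X.obj ≫ (sheafificationAdjunction J (Type u)).homEquiv _ _ (𝟙 _) =
      (η U).app X.obj ≫ toSheafify J _
    congr 1
  have h2 : IsIso ((Lc U).map (unitL U X)) := by
    rw [← h1]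
    have h3 : (Lc U).map ((adjL U).unit.app X) ≫ (adjL U).counit.app ((Lc U).obj X) = 𝟙 _ :=
      (adjL U).left_triangle_components X
    have h5 : IsIso ((adjL U).counit) := Adjunction.counit_isIso_of_R_fully_faithful _
    have h4 : IsIso ((adjL U).counit.app ((Lc U).obj X)) :=
      NatIso.isIso_app_of_isIso (adjL U).counit _
    have : IsIso ((Lc U).map ((adjL U).unit.app X) ≫ (adjL U).counit.app ((Lc U).obj X)) := by
      rw [h3]; infer_instance
    exact @IsIso.of_isIso_comp_right _ _ _ _ _ _ _ h4 this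
  exact (inferInstance : IsIso ((SGA4.closedCompl U).ι.map ((Lc U).map (unitL U X))))

/-- the `L₀` version of the statement -/
lemma main (U : Sheaf J (Type u)) {X X' : Sheaf J (Type u)} (m : X ⟶ X') :
    IsPullback m (unitL U X) (unitL U X') ((L₀ U).map m) ↔ IsIso (prod.map (𝟙 U) m) := by
  constructor
  · intro h
    apply isIso_star_of_bijective
    intro c a
    exact bijective_fst_of_isPullback h c
      (bijective_of_isCl U (isCl_L₀ U X) (isCl_L₀ U X') _ c a)
  · intro h
    have sq : CommSq m (unitL U X) (unitL U X') ((L₀ U).map m) := ⟨(unitL_naturality U m).symm⟩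
    let t : X ⟶ pullback (unitL U X') ((L₀ U).map m) := pullback.lift m (unitL U X) sq.w
    have ht1 : t ≫ pullback.fst _ _ = m := pullback.lift_fst _ _ _
    have ht2 : t ≫ pullback.snd _ _ = unitL U X := pullback.lift_snd _ _ _
    have hpb := IsPullback.of_hasPullback (unitL U X') ((L₀ U).map m)
    suffices IsIso t by
      exact IsPullback.of_iso_pullback sq (asIso t) ht1 ht2
    apply Groth.Agent.S3084.isIso_of U
    · -- U × t
      have hfst : IsIso (prod.map (𝟙 U) (pullback.fst (unitL U X') ((L₀ U).map m))) := by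
        apply isIso_star_of_bijective
        intro c a
        exact bijective_fst_of_isPullback hpb c
          (bijective_of_isCl U (isCl_L₀ U X) (isCl_L₀ U X') _ c a)
      have hcomp : prod.map (𝟙 U) t ≫ prod.map (𝟙 U) (pullback.fst (unitL U X') ((L₀ U).map m)) =
          prod.map (𝟙 U) m := by
        rw [prod.map_map, Category.comp_id, ht1]
      have : IsIso (prod.map (𝟙 U) t ≫
          prod.map (𝟙 U) (pullback.fst (unitL U X') ((L₀ U).map m))) := by
        rw [hcomp]; exact h
      exact IsIso.of_isIso_comp_right _ (prod.map (𝟙 U) (pullback.fst (unitL U X') ((L₀ U).map m)))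
    · -- L₀ t
      have hpb' := hpb.map (L₀ U)
      have : IsIso ((L₀ U).map (unitL U X')) := isIso_L₀_unitL U X'
      have hsnd : IsIso ((L₀ U).map (pullback.snd (unitL U X') ((L₀ U).map m))) :=
        hpb'.isIso_snd_of_isIso
      have hcomp : (L₀ U).map t ≫ (L₀ U).map (pullback.snd (unitL U X') ((L₀ U).map m)) =
          (L₀ U).map (unitL U X) := by
        rw [← Functor.map_comp, ht2]
      have : IsIso ((L₀ U).map t ≫ (L₀ U).map (pullback.snd (unitL U X') ((L₀ U).map m))) := by
        rw [hcomp]; exact isIso_L₀_unitL U X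
      exact IsIso.of_isIso_comp_right _ ((L₀ U).map (pullback.snd (unitL U X') ((L₀ U).map m)))

end

open CategoryTheory.Limits in


open CategoryTheory.Limits in
/-- In the topos of sheaves of sets on a small site, let U be an open (a subobject of the final object)
and, for an object X, let X_CU be the pushout of U ← U × X → X along the two projections. For a
morphism m : X ⟶ X' let k : X_CU ⟶ X'_CU be the induced morphism (compatible with the maps from U
and with m). Then the square with sides m, k and the canonical maps X ⟶ X_CU, X' ⟶ X'_CU is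
cartesian if and only if id_U × m : U × X ⟶ U × X' is an isomorphism (that is, m restricts to an
isomorphism over U). -/
theorem result {C : Type u} [SmallCategory C] (J : GrothendieckTopology C)
    (U : Sheaf J (Type u)) (hU : SGA4.IsOpen U) {X X' : Sheaf J (Type u)} (m : X ⟶ X')
    (k : pushout (prod.fst : U ⨯ X ⟶ U) (prod.snd : U ⨯ X ⟶ X) ⟶
      pushout (prod.fst : U ⨯ X' ⟶ U) (prod.snd : U ⨯ X' ⟶ X'))
    (hk₁ : pushout.inl (prod.fst : U ⨯ X ⟶ U) (prod.snd : U ⨯ X ⟶ X) ≫ k =
      pushout.inl (prod.fst : U ⨯ X' ⟶ U) (prod.snd : U ⨯ X' ⟶ X'))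
    (hk₂ : pushout.inr (prod.fst : U ⨯ X ⟶ U) (prod.snd : U ⨯ X ⟶ X) ≫ k =
      m ≫ pushout.inr (prod.fst : U ⨯ X' ⟶ U) (prod.snd : U ⨯ X' ⟶ X')) :
    IsPullback m (pushout.inr (prod.fst : U ⨯ X ⟶ U) (prod.snd : U ⨯ X ⟶ X))
        (pushout.inr (prod.fst : U ⨯ X' ⟶ U) (prod.snd : U ⨯ X' ⟶ X')) k ↔
      IsIso (prod.map (𝟙 U) m) := by
  have hX := isPushout_L₀ hU X
  have hX' := isPushout_L₀ hU X'
  have hcomm : (L₀ U).map m ≫ hX'.isoPushout.hom = hX.isoPushout.hom ≫ k := by
    apply hX.hom_ext
    · rw [← Category.assoc, ← Category.assoc, hX.inl_isoPushout_hom, hk₁,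
        (isCl_L₀ U X').hom_ext (𝟙 U) ((isCl_L₀ U X).fromU ≫ (L₀ U).map m) (isCl_L₀ U X').fromU,
        hX'.inl_isoPushout_hom]
    · rw [← Category.assoc, ← Category.assoc, hX.inr_isoPushout_hom, hk₂, unitL_naturality,
        Category.assoc, hX'.inr_isoPushout_hom]
  rw [← main U m]
  constructor
  · intro h
    exact h.of_iso' (Iso.refl _) (Iso.refl _) hX.isoPushout hX'.isoPushout (by simp)
      (by simp [hX.inr_isoPushout_hom]) (by simp [hX'.inr_isoPushout_hom]) hcomm.symm
  · intro h
    exact h.of_iso (Iso.refl _) (Iso.refl _) hX.isoPushout hX'.isoPushout (by simp)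
      (by simp [hX.inr_isoPushout_hom]) (by simp [hX'.inr_isoPushout_hom]) hcomm

end Groth.Agent.S12107
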