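import Groth.Statements.S12111
import Groth.Agent.Lib.Helper2.Bridge5
import Groth.Agent.Lib.Helper2.Bridge6
import Groth.Agent.Lib.Helper2.Kos12
import Groth.Agent.Lib.Helper6.DevChev
import Groth.Agent.S0022

set_option autoImplicit false
universe u
open CategoryTheory CategoryTheory.Limits AlgebraicGeometry
open Pic13

namespace Groth.Agent.S12111

/-- Let k be an algebraically closed field, i : X ⟶ P^n_k a closed immersion and O_X(1) = i^*O(1). If a
coherent O_X-module F is m-regular (H^q(X, F(m - q)) = 0 for every q ≥ 1) then for every integer n'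
≥ m, F is n'-regular and F(n') is generated by its global sections. (The published statement is for
a projective k-scheme with an ample O_X(1) generated by its sections at the points of the support of
F; this row is the case of a closed subscheme of projective space.) -/
theorem result (k : Type u) [Field k] [IsAlgClosed k] (n : ℕ) {X : Scheme.{u}}
    (i : X ⟶ CohB1.ProjSpace n k) [IsClosedImmersion i] (F : X.Modules) (hF : Coh.IsCoh F) (m : ℤ)
    (h : Pic13.IsMRegular k i F m) (n' : ℤ) (hn' : m ≤ n') :
    Pic13.IsMRegular k i F n' ∧ Curv2.IsGloballyGenerated (Pic13.twistOn k i F n') := by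
  classical
  letI : X.Over (Spec (CommRingCat.of k)) := ⟨i ≫ CohB1.ProjSpace.toSpec n k⟩
  have hi : i ≫ CohB1.ProjSpace.toSpec n k = X ↘ Spec (CommRingCat.of k) := rfl
  haveI : F.IsQuasicoherent := hF.1
  set G := (Scheme.Modules.pushforward i).obj F with hGdef
  have hG : Coh.IsCoh G := Groth.Agent.Lib.Helper6.DevChev.isCoh_push_of_isFinite i F hF
  -- comparison of cohomology groups
  have hcmp : ∀ (d : ℤ) (q : ℕ),
      Subsingleton (Coh.HH X (Pic13.twistOn k i F d) q) ↔
        Subsingleton (Coh.HH (CohB1.ProjSpace n k)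
          (CohB1.tensorMod G (Twist.twistProjSpace n k d)) q) := by
    intro d q
    obtain ⟨e⟩ := Groth.Agent.Lib.Helper2.Bridge5.nonempty_twist_linearEquiv k n i hi F d q
    exact ⟨fun h => @Equiv.subsingleton _ _ e.symm.toEquiv h,
      fun h => @Equiv.subsingleton _ _ e.toEquiv h⟩
  -- regularity of the direct image
  have hGm : Curv2.IsMRegular k n G m := fun q hq _ => (hcmp (m - q) q).1 (h q hq)
  have hGall : ∀ j : ℕ, Curv2.IsMRegular k n G (m + j) := by
    intro j
    induction j with
    | zero => simpa using hGm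
    | succ j ih =>
      have := Groth.Agent.Lib.Helper2.Kos4.isMRegular_succ' G hG (m + j) ih
      rw [show m + ((j + 1 : ℕ) : ℤ) = m + j + 1 by push_cast; ring]
      exact this
  obtain ⟨j, rfl⟩ : ∃ j : ℕ, n' = m + j := ⟨(n' - m).toNat, by omega⟩
  have hGn' := hGall j
  refine ⟨fun q hq => ?_, ?_⟩
  · rw [hcmp]
    by_cases hqn : q ≤ n
    · exact hGn' q hq hqn
    · haveI : Coh.IsQCoh (CohB1.tensorMod G (Twist.twistProjSpace n k (m + j - q))) :=
        (Groth.Agent.Lib.Helper6.K0Op.isCoh_tensorMod _ _ hG
          (Groth.Agent.Lib.Helper6.K0Op.isCoh_of_isInvertible _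
            (Groth.Agent.Lib.Helper2.Bridge5.isInvertible_twist k n _))).1
      exact Groth.Agent.S0022.result n k _ q (by omega)
  · have hgg := Groth.Agent.Lib.Helper2.Kos12.isGloballyGenerated_of_isMRegular G hG (m + j) hGn'
    obtain ⟨ψ⟩ := Groth.Agent.Lib.Helper2.Bridge4.exists_projection_iso i F _
      (Groth.Agent.Lib.Helper2.Bridge5.isInvertible_twist k n (m + j))
    have hgg' : Curv2.IsGloballyGenerated ((Scheme.Modules.pushforward i).obj
        (Pic13.twistOn k i F (m + j))) := by
      obtain ⟨ι, p, hp⟩ := hgg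
      exact ⟨ι, p ≫ ψ.hom, epi_comp _ _⟩
    exact Groth.Agent.Lib.Helper2.Bridge6.isGloballyGenerated_of_push i _
      i.isEmbedding.isInducing hgg'

end Groth.Agent.S12111
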