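import Groth.Statements.S12112
import Groth.Agent.Lib.Helper2.Bridge5
import Groth.Agent.Lib.Helper2.Bridge8
import Groth.Agent.Lib.Helper6.DevChev
import Groth.Agent.S0022
import Groth.Agent.S11296

set_option autoImplicit false
universe u
open CategoryTheory CategoryTheory.Limits AlgebraicGeometry
open Pic13

namespace Groth.Agent.S12112

/-- Let k be an algebraically closed field, i : X ⟶ P^n_k a closed k-immersion, O_X(1) = i^*O(1), and F,
G coherent O_X-modules with a short exact sequence 0 → F(-1) → F → G → 0 and G m-regular. Then (i)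
H^q(X, F(n')) = 0 for q ≥ 2 and n' ≥ m - q; (ii) h^1(F(n' - 1)) ≥ h^1(F(n')) for n' ≥ m - 1, h^1
being the dimension over k; (iii) H^1(X, F(n')) = 0 for n' ≥ (m - 1) + h^1(F(m - 1)); in particular
F is (m + h^1(F(m - 1)))-regular. (The published statement takes F(-1) → F given by a section of
O_X(1); the printed argument uses only the short exact sequence and its twists, so any short exact
sequence of this shape is allowed here.) -/
theorem result (k : Type u) [Field k] [IsAlgClosed k] (n : ℕ) (X : Scheme.{u})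
    [X.Over (Spec (CommRingCat.of k))] (i : X ⟶ CohB1.ProjSpace n k) [IsClosedImmersion i]
    (hi : i ≫ CohB1.ProjSpace.toSpec n k = X ↘ Spec (CommRingCat.of k))
    (F G : X.Modules) (hF : Coh.IsCoh F) (hG : Coh.IsCoh G)
    (f : Pic13.twistOn k i F (-1) ⟶ F) (g : F ⟶ G) (hfg : f ≫ g = 0) (hS : (ShortComplex.mk f g hfg).ShortExact)
    (m : ℤ) (hGm : Pic13.IsMRegular k i G m) :
    (∀ (q : ℕ) (n' : ℤ), 2 ≤ q → m - q ≤ n' → Subsingleton (Coh.HH X (Pic13.twistOn k i F n') q)) ∧
    (∀ n' : ℤ, m - 1 ≤ n' →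
      Module.finrank k (Coh.HH X (Pic13.twistOn k i F n') 1) ≤ Module.finrank k (Coh.HH X (Pic13.twistOn k i F (n' - 1)) 1)) ∧
    (∀ n' : ℤ, (m - 1) + (Module.finrank k (Coh.HH X (Pic13.twistOn k i F (m - 1)) 1) : ℤ) ≤ n' →
      Subsingleton (Coh.HH X (Pic13.twistOn k i F n') 1)) ∧
    Pic13.IsMRegular k i F (m + Module.finrank k (Coh.HH X (Pic13.twistOn k i F (m - 1)) 1)) := by
  classical
  haveI : F.IsQuasicoherent := hF.1
  haveI : G.IsQuasicoherent := hG.1
  set F' := (Scheme.Modules.pushforward i).obj F with hF'def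
  set G' := (Scheme.Modules.pushforward i).obj G with hG'def
  have hF' : Coh.IsCoh F' := Groth.Agent.Lib.Helper6.DevChev.isCoh_push_of_isFinite i F hF
  have hG' : Coh.IsCoh G' := Groth.Agent.Lib.Helper6.DevChev.isCoh_push_of_isFinite i G hG
  -- comparison equivalences
  have eF : ∀ (d : ℤ) (q : ℕ), Nonempty (Coh.HH X (Pic13.twistOn k i F d) q ≃ₗ[k]
      Coh.HH (CohB1.ProjSpace n k) (CohB1.tensorMod F' (Twist.twistProjSpace n k d)) q) :=
    fun d q => Groth.Agent.Lib.Helper2.Bridge5.nonempty_twist_linearEquiv k n i hi F d q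
  have eG : ∀ (d : ℤ) (q : ℕ), Nonempty (Coh.HH X (Pic13.twistOn k i G d) q ≃ₗ[k]
      Coh.HH (CohB1.ProjSpace n k) (CohB1.tensorMod G' (Twist.twistProjSpace n k d)) q) :=
    fun d q => Groth.Agent.Lib.Helper2.Bridge5.nonempty_twist_linearEquiv k n i hi G d q
  have hsub : ∀ (d : ℤ) (q : ℕ), Subsingleton (Coh.HH (CohB1.ProjSpace n k)
      (CohB1.tensorMod F' (Twist.twistProjSpace n k d)) q) →
      Subsingleton (Coh.HH X (Pic13.twistOn k i F d) q) := by
    intro d q h
    obtain ⟨e⟩ := eF d q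
    exact @Equiv.subsingleton _ _ e.toEquiv h
  have hrank : ∀ (d : ℤ) (q : ℕ), Module.finrank k (Coh.HH X (Pic13.twistOn k i F d) q) =
      Module.finrank k (Coh.HH (CohB1.ProjSpace n k)
        (CohB1.tensorMod F' (Twist.twistProjSpace n k d)) q) := by
    intro d q
    obtain ⟨e⟩ := eF d q
    exact e.finrank_eq
  -- the transported monomorphism
  obtain ⟨ι', hmono, ⟨ec⟩⟩ := Groth.Agent.Lib.Helper2.Bridge8.exists_mono_push k n i F G f g hfg hS
  haveI : Mono ι' := hmono
  have hreg : Curv2.IsMRegular k n (cokernel ι') m :=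
    Groth.Agent.Lib.Helper2.Bridge8.isMRegular_of_iso k n ec m
      (Groth.Agent.Lib.Helper2.Bridge8.isMRegular_push k n i hi G m hGm)
  obtain ⟨r1, r2, r3, r4⟩ := Groth.Agent.S11296.result k n F' hF' ι' m hreg
  have hvan : ∀ (d : ℤ) (q : ℕ), n < q → Subsingleton (Coh.HH (CohB1.ProjSpace n k)
      (CohB1.tensorMod F' (Twist.twistProjSpace n k d)) q) := by
    intro d q hq
    haveI : Coh.IsQCoh (CohB1.tensorMod F' (Twist.twistProjSpace n k d)) :=
      (Groth.Agent.Lib.Helper6.K0Op.isCoh_tensorMod _ _ hF'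
        (Groth.Agent.Lib.Helper6.K0Op.isCoh_of_isInvertible _
          (Groth.Agent.Lib.Helper2.Bridge5.isInvertible_twist k n _))).1
    exact Groth.Agent.S0022.result n k _ q hq
  refine ⟨fun q n' hq hn' => hsub _ _ (r1 q n' hq hn'), fun n' hn' => ?_, fun n' hn' => ?_, ?_⟩
  · rw [hrank, hrank]
    exact r2 n' hn'
  · rw [hrank] at hn'
    exact hsub _ _ (r3 n' hn')
  · intro q hq
    rw [hrank]
    apply hsub
    by_cases hqn : q ≤ n
    · exact r4 q hq hqn
    · exact hvan _ q (by omega)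

end Groth.Agent.S12112
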