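import Groth.Statements.S12121
import Mathlib
import Groth.Agent.Lib.Helper21.DepthKit13
import Groth.Agent.Lib.Helper21.DepthKit14
import Groth.Agent.S2668
import Groth.Agent.S2085

set_option autoImplicit false
universe u
open EGA4

namespace Groth.Agent.S12121

open Groth.Agent.Lib.Helper21.DepthKit IsLocalRing Module RingTheory.Sequence

/-- lift a weakly regular sequence in the maximal ideal of `A_p` to a list of elements of `p`. -/
theorem exists_list_lift_atPrime {A : Type u} [CommRing A] (p : Ideal A) [p.IsPrime]
    (rs' : List (Localization.AtPrime p))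
    (hm : ∀ r ∈ rs', r ∈ maximalIdeal (Localization.AtPrime p))
    (X : Type u) [AddCommGroup X] [Module (Localization.AtPrime p) X]
    (hreg : IsWeaklyRegular X rs') :
    ∃ xs : List A, xs.length = rs'.length ∧ (∀ x ∈ xs, x ∈ p) ∧
      IsWeaklyRegular X (xs.map (algebraMap A (Localization.AtPrime p))) := by
  have hc : ∀ r' : Localization.AtPrime p, ∃ a : A, ∃ u : Localization.AtPrime p, IsUnit u ∧
      algebraMap A (Localization.AtPrime p) a = u * r' := by
    intro r'
    obtain ⟨⟨a, s⟩, has⟩ := IsLocalization.surj p.primeCompl r'
    exact ⟨a, algebraMap A _ (s : A), IsLocalization.map_units _ s, by rw [mul_comm]; exact has.symm⟩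
  choose c u hu hcu using hc
  refine ⟨rs'.map c, by simp, ?_, ?_⟩
  · intro x hx
    obtain ⟨r', hr', rfl⟩ := List.mem_map.1 hx
    rw [← IsLocalization.AtPrime.to_map_mem_maximal_iff (Localization.AtPrime p) p, hcu]
    exact Ideal.mul_mem_left _ _ (hm r' hr')
  · refine Groth.Agent.Lib.Helper7.RegSpread.isWeaklyRegular_of_forall₂_unit ?_ X hreg
    rw [List.forall₂_map_right_iff, List.forall₂_map_right_iff, List.forall₂_same]
    intro r' _
    exact ⟨u r', hu r', hcu r'⟩

theorem hasSk_mono {k j : ℕ} (hjk : j ≤ k) {R : Type u} [CommRing R] {X : Type u}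
    [AddCommGroup X] [Module R X] (h : LocCoh.HasSk k R X) : LocCoh.HasSk j R X :=
  fun q _ => le_trans (min_le_min_right _ (by exact_mod_cast hjk)) (h q)


/-- Let A be a Noetherian ring, M a finite A-module (a coherent sheaf on X = Spec A) and k ≥ 1. Then M
has property (S_k) — depth M_p ≥ min(k, dim M_p) at every prime p — if and only if, for every basic
open set D(g) of X, every integer r < k and every M_g-regular sequence f_1, …, f_r in A_g, the
module M_g/(f_1, …, f_r)M_g has no embedded associated primes, i.e. no associated prime of it
strictly contains another one. (The published statement quantifies over all open subsets of a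
locally Noetherian scheme; both sides being local, over an affine scheme the basic open sets
suffice.) -/
theorem result (k : ℕ) (hk : 1 ≤ k) (A : Type u) [CommRing A] [IsNoetherianRing A]
    (M : Type u) [AddCommGroup M] [Module A M] [Module.Finite A M] :
    LocCoh.HasSk k A M ↔
      ∀ (g : A) (rs : List (Localization.Away g)), rs.length < k →
        RingTheory.Sequence.IsWeaklyRegular (LocalizedModule (Submonoid.powers g) M) rs →
        ∀ p ∈ associatedPrimes (Localization.Away g)
            (LocalizedModule (Submonoid.powers g) M ⧸
              (Ideal.ofList rs • (⊤ : Submodule (Localization.Away g) (LocalizedModule (Submonoid.powers g) M)))),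
          ∀ q ∈ associatedPrimes (Localization.Away g)
            (LocalizedModule (Submonoid.powers g) M ⧸
              (Ideal.ofList rs • (⊤ : Submodule (Localization.Away g) (LocalizedModule (Submonoid.powers g) M)))),
            p ≤ q → p = q := by
  constructor
  · intro hSk g rs hlen hreg p hp q hq hpq
    have hSkN : LocCoh.HasSk k (Localization.Away g) (LocalizedModule (Submonoid.powers g) M) :=
      hasSk_of_isLocalization k (Submonoid.powers g)
        (LocalizedModule.mkLinearMap (Submonoid.powers g) M) hSk
    have h1 := Groth.Agent.S2668.result k (Localization.Away g)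
      (LocalizedModule (Submonoid.powers g) M) hSkN rs hreg hlen.le
    have h2 := hasSk_mono (j := 1) (by omega) h1
    have h3 := (Groth.Agent.S2085.result).2 h2
    have hqmin := h3 q hq
    have hp' : p.IsPrime := hp.isPrime
    have hpS : (⟨p, hp'⟩ : PrimeSpectrum (Localization.Away g)) ∈ Module.support _ _ :=
      mem_support_of_mem_associatedPrimes hp
    exact le_antisymm hpq (hqmin.2 ⟨hp', Module.annihilator_le_of_mem_support hpS⟩ hpq)
  · intro H p hp
    by_contra hcon
    rcases subsingleton_or_nontrivial (LocalizedModule p.primeCompl M) with hs | hnt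
    · apply hcon
      rw [depth_of_subsingleton]
      exact le_top
    obtain ⟨d, hd⟩ := exists_nat_supportDim (A := Localization.AtPrime p)
      (M := LocalizedModule p.primeCompl M)
    obtain ⟨e, he⟩ := exists_nat_depth (A := Localization.AtPrime p)
      (M := LocalizedModule p.primeCompl M)
    rw [hd, he, Groth.Agent.S2668.castmin] at hcon
    obtain ⟨rs', hm', hreg', hlen'⟩ := exists_seq_length_eq_depth (A := Localization.AtPrime p)
      (M := LocalizedModule p.primeCompl M)
    obtain ⟨xs, hxl, hxp, hxreg⟩ := exists_list_lift_atPrime p rs' hm' _ hreg'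
    have hxe : xs.length = e := by
      rw [he] at hlen'
      rw [hxl]
      exact_mod_cast hlen'
    obtain ⟨g, hgp, hregg⟩ := exists_isWeaklyRegular_away xs M p hxreg
    have hdisj : Disjoint (Submonoid.powers g : Set A) (p : Set A) := by
      rw [Set.disjoint_left]
      rintro _ ⟨n, rfl⟩ hn
      exact hgp (Ideal.IsPrime.mem_of_pow_mem inferInstance n hn)
    set B := Localization.Away g with hB
    set N := LocalizedModule (Submonoid.powers g) M with hN
    set P : Ideal B := p.map (algebraMap A B) with hP
    haveI hPprime : P.IsPrime :=
      IsLocalization.isPrime_of_isPrime_disjoint (Submonoid.powers g) B p hp hdisj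
    have hPc : p = P.comap (algebraMap A B) :=
      (IsLocalization.comap_map_of_isPrime_disjoint (Submonoid.powers g) B hp hdisj).symm
    have hdN := depth_localization_of_isLocalization' (Submonoid.powers g)
      (LocalizedModule.mkLinearMap (Submonoid.powers g) M) P p hPc
    have hsN := supportDim_localization_of_isLocalization' (Submonoid.powers g)
      (LocalizedModule.mkLinearMap (Submonoid.powers g) M) P p hPc
    rw [he] at hdN
    rw [hd] at hsN
    haveI hntN : Nontrivial (LocalizedModule P.primeCompl N) := by
      by_contra hns
      rw [not_nontrivial_iff_subsingleton] at hns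
      rw [depth_of_subsingleton] at hdN
      exact ENat.coe_ne_top e hdN
    set rs : List B := xs.map (algebraMap A B) with hrs
    have hrsP : ∀ r ∈ rs, r ∈ P := by
      intro r hr
      obtain ⟨x, hx, rfl⟩ := List.mem_map.1 hr
      exact Ideal.mem_map_of_mem _ (hxp x hx)
    have hlen : rs.length < k := by
      rw [hrs, List.length_map, hxe]
      omega
    have hN' := H g rs hlen hregg
    have hmin : ∀ q ∈ associatedPrimes B (N ⧸ (Ideal.ofList rs • (⊤ : Submodule B N))),
        q ∈ (Module.annihilator B (N ⧸ (Ideal.ofList rs • (⊤ : Submodule B N)))).minimalPrimes := by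
      intro q hq
      have hqp : q.IsPrime := hq.isPrime
      have hqS : (⟨q, hqp⟩ : PrimeSpectrum B) ∈ Module.support _ _ :=
        mem_support_of_mem_associatedPrimes hq
      have hann := Module.annihilator_le_of_mem_support hqS
      obtain ⟨q0, hq0min, hq0le⟩ := Ideal.exists_minimalPrimes_le hann
      have hq0 := Module.associatedPrimes.minimalPrimes_annihilator_subset_associatedPrimes B
        (N ⧸ (Ideal.ofList rs • (⊤ : Submodule B N))) hq0min
      have := hN' q0 hq0 q hq hq0le
      rw [← this]
      exact hq0min
    have hS1 := (Groth.Agent.S2085.result).1 hmin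
    have h1 := depth_localization_quot_ofList P rs hrsP hregg
    have h2 := Groth.Agent.S2668.supportDim_localization_quot_ofList P rs hrsP hregg
    have h3 := hS1 P
    rw [← hdN] at h1
    rw [← hsN] at h2
    haveI hntN' : Nontrivial (LocalizedModule P.primeCompl
        (N ⧸ (Ideal.ofList rs • (⊤ : Submodule B N)))) := by
      by_contra hns
      rw [not_nontrivial_iff_subsingleton] at hns
      rw [depth_of_subsingleton, top_add] at h1
      exact ENat.coe_ne_top e h1.symm
    obtain ⟨d', hd'⟩ := exists_nat_supportDim (A := Localization.AtPrime P)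
      (M := LocalizedModule P.primeCompl (N ⧸ (Ideal.ofList rs • (⊤ : Submodule B N))))
    obtain ⟨e', he'⟩ := exists_nat_depth (A := Localization.AtPrime P)
      (M := LocalizedModule P.primeCompl (N ⧸ (Ideal.ofList rs • (⊤ : Submodule B N))))
    rw [hd'] at h2
    rw [he'] at h1
    rw [hd', he'] at h3
    have h1' : e' + rs.length = e := by exact_mod_cast h1
    have h2' : d' + rs.length = d := by exact_mod_cast h2
    have h3' : min 1 d' ≤ e' := (Groth.Agent.S2668.castmin 1 d' e').1 h3
    have hrl : rs.length = e := by rw [hrs, List.length_map, hxe]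
    omega

end Groth.Agent.S12121
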