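import Groth.Statements.S12125
import Groth.Agent.Lib.Helper13.NagataLocal3

set_option autoImplicit false
universe u
open EGA4

namespace Groth.Agent.S12125

/-- Let A be a Noetherian ring. Then every quotient of A by a prime ideal is N-2 (i.e. A is a Nagata
ring) if and only if (1) for every maximal ideal m of A every quotient of A_m by a prime ideal is
N-2, and (2) for every prime p of A, writing B = A/p with fraction field K, for every finite purely
inseparable field extension K' of K and every sub-B-algebra B' of K' which is a finite B-module and
has K' as its fraction field, there is a nonzero element f of B' such that B'_f is an integrally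
closed domain. -/
theorem result (A : Type u) [CommRing A] [IsNoetherianRing A] :
    CAlg.IsNagata A ↔
      ((∀ (m : Ideal A) [m.IsMaximal] (P : Ideal (Localization.AtPrime m)) [P.IsPrime],
          CAlg.IsN2 (Localization.AtPrime m ⧸ P)) ∧
        ∀ (p : Ideal A) [p.IsPrime] (K' : Type u) [Field K'] [Algebra (A ⧸ p) K']
          [Algebra (FractionRing (A ⧸ p)) K'] [IsScalarTower (A ⧸ p) (FractionRing (A ⧸ p)) K']
          [FiniteDimensional (FractionRing (A ⧸ p)) K'] [IsPurelyInseparable (FractionRing (A ⧸ p)) K']
          (B' : Subalgebra (A ⧸ p) K'), Module.Finite (A ⧸ p) B' → IsFractionRing B' K' →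
            ∃ f : B', f ≠ 0 ∧ IsIntegrallyClosed (Localization.Away f)) := by
  constructor
  · intro hN
    refine ⟨fun m _ P _ => ?_, fun p _ K' _ _ _ _ _ _ B' hfin hfrac => ?_⟩
    · haveI : m.IsPrime := Ideal.IsMaximal.isPrime ‹_›
      exact Groth.Agent.Lib.Helper13.NagataLocal.isN2_quotient_localization_of_isNagata hN m P
    · exact Groth.Agent.Lib.Helper13.NagataLocal.exists_isIntegrallyClosed_away_of_isNagata
        hN p K' B' hfin hfrac
  · rintro ⟨h1, h2⟩
    exact Groth.Agent.Lib.Helper13.NagataLocal.isNagata_of_local h1 h2

end Groth.Agent.S12125
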