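import Groth.Statements.S1213
import Groth.Agent.Lib.Helper7.AssFibre

set_option autoImplicit false
universe u
open scoped Classical
open FlatMor

namespace Groth.Agent.S1213

open TensorProduct IsLocalRing in
/-- Let R be a local ring, S an R-algebra and N an S-module which, as an R-module, is an internal direct
sum of finite R-submodules. Then for every R-module M and every prime q of S which is the
annihilator of an element of the S-module N ⊗_R M we have q + 𝔪_R S ≠ S. -/
theorem result {R S : Type u} [CommRing R] [IsLocalRing R] [CommRing S] [Algebra R S]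
    (N : Type u) [AddCommGroup N] [Module S N] [Module R N] [IsScalarTower R S N]
    (ι : Type u) (F : ι → Submodule R N) (hF : DirectSum.IsInternal F) (hfin : ∀ i, Module.Finite R (F i))
    (M : Type u) [AddCommGroup M] [Module R M]
    (q : Ideal S) [q.IsPrime] (hq : q ∈ FlatCA.ass S (N ⊗[R] M)) :
    q ⊔ (maximalIdeal R).map (algebraMap R S) ≠ ⊤ := by
  intro htop
  have h1 : (1 : S) ∈ q ⊔ (IsLocalRing.maximalIdeal R).map (algebraMap R S) :=
    htop ▸ Submodule.mem_top
  rw [Submodule.mem_sup] at h1
  obtain ⟨a, ha, g, hg, hag⟩ := h1
  have ha' : a = 1 - g := by rw [← hag]; ring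
  refine Groth.Agent.Lib.Helper7.AssFibre.not_mem_ass_of_injective N M q hq a ha ?_
  intro w hw
  rw [ha'] at hw
  exact Groth.Agent.Lib.Helper7.AssFibre.one_sub_smul_tensor_injective N ι F hF hfin M g hg w hw

end Groth.Agent.S1213
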