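import Groth.Statements.S12130
import Mathlib
import Groth.Agent.Lib.Helper13.PIDescend
import Groth.Agent.Lib.Helper13.PerfNorm
import Groth.Agent.Lib.Helper13.NormRedIso
import Groth.Agent.Lib.Helper13.NormSmoothBC
import Groth.Agent.Lib.Helper22.PIHomeo
import Groth.Agent.Lib.Helper27.NoethLfp
import Groth.Prelude.Def_Curv2

set_option autoImplicit false
universe u
open Unram17

namespace Groth.Agent.S12130

section helpers
set_option linter.style.haveILetI false
open CategoryTheory CategoryTheory.Limits AlgebraicGeometry TopologicalSpace


open Groth.Agent.Lib.Helper13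

/-- the local rings of the spectrum of a field are integrally closed -/
theorem isIntegrallyClosed_stalk_spec_field (K : Type u) [Field K]
    (x : Spec (CommRingCat.of K)) :
    IsIntegrallyClosed ((Spec (CommRingCat.of K)).presheaf.stalk x) := by
  haveI : x.asIdeal.IsPrime := PrimeSpectrum.isPrime x
  letI k : Algebra K ↑((Spec (CommRingCat.of K)).presheaf.stalk x) :=
    StructureSheaf.stalkAlgebra K x
  haveI : IsLocalization.AtPrime ((Spec (CommRingCat.of K)).presheaf.stalk x) x.asIdeal :=
    StructureSheaf.IsLocalization.to_stalk K x
  exact isIntegrallyClosed_of_isLocalization (R := K)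
    ((Spec (CommRingCat.of K)).presheaf.stalk x) x.asIdeal.primeCompl
    x.asIdeal.primeCompl_le_nonZeroDivisors

section lvl

variable (k : Type u) [Field k] (X : Scheme.{u}) [X.Over (Spec (CommRingCat.of k))]
  [IsIntegral X] [LocallyOfFiniteType (X ↘ Spec (CommRingCat.of k))]
  [QuasiCompact (X ↘ Spec (CommRingCat.of k))]
  (k' : Type u) [Field k'] [Algebra k k'] [IsPurelyInseparable k k']

/-- the reduction of a purely inseparable base change of an integral scheme of finite type is
integral, with the conditions needed to form its normalization -/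
theorem lvl :
    ∃ (_ : IsIntegral (Curv2.bc k X k').nilradical.subscheme)
      (_ : QuasiCompact ((Curv2.bc k X k').nilradical.subscheme.fromSpecStalk
        (genericPoint (Curv2.bc k X k').nilradical.subscheme)))
      (_ : QuasiSeparated ((Curv2.bc k X k').nilradical.subscheme.fromSpecStalk
        (genericPoint (Curv2.bc k X k').nilradical.subscheme))), True := by
  have hhomeo1 := Groth.Agent.Lib.Helper22.PIHomeo.isHomeomorph_bcFst k X k'
  have hhomeo2 := NormRedIso.isHomeomorph_subschemeι_nilradical (Curv2.bc k X k')
  haveI : IsReduced (Curv2.bc k X k').nilradical.subscheme :=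
    Groth.Agent.S8051.isReduced_nilradical_subscheme _
  haveI : IrreducibleSpace ↥(Curv2.bc k X k').nilradical.subscheme := by
    have e := (hhomeo2.homeomorph _).trans (hhomeo1.homeomorph _)
    exact (e.irreducibleSpace_iff).mpr inferInstance
  have hint : IsIntegral (Curv2.bc k X k').nilradical.subscheme :=
    isIntegral_of_irreducibleSpace_of_isReduced _
  haveI : LocallyOfFiniteType (Curv2.bcSnd k X k') := inferInstance
  haveI : IsLocallyNoetherian (Curv2.bc k X k') :=
    LocallyOfFiniteType.isLocallyNoetherian (Curv2.bcSnd k X k')
  haveI : IsLocallyNoetherian (Curv2.bc k X k').nilradical.subscheme :=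
    LocallyOfFiniteType.isLocallyNoetherian
      ((Curv2.bc k X k').nilradical.subschemeι ≫ Curv2.bcSnd k X k')
  exact ⟨hint, inferInstance, inferInstance, trivial⟩

end lvl

theorem main (k : Type u) [Field k]
    (X : Scheme.{u}) [X.Over (Spec (CommRingCat.of k))] [IsIntegral X]
    [LocallyOfFiniteType (X ↘ Spec (CommRingCat.of k))] [QuasiCompact (X ↘ Spec (CommRingCat.of k))]
    (hdim : topologicalKrullDim X ≤ 1) :
    ∃ (k' : Type u) (_ : Field k') (_ : Algebra k k'), FiniteDimensional k k' ∧ IsPurelyInseparable k k' ∧
      ∃ (_ : IsIntegral (Curv2.bc k X k').nilradical.subscheme)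
        (_ : QuasiCompact ((Curv2.bc k X k').nilradical.subscheme.fromSpecStalk
              (genericPoint (Curv2.bc k X k').nilradical.subscheme)))
        (_ : QuasiSeparated ((Curv2.bc k X k').nilradical.subscheme.fromSpecStalk
              (genericPoint (Curv2.bc k X k').nilradical.subscheme))),
        Smooth (Curv2.normalizationι (Curv2.bc k X k').nilradical.subscheme ≫
          (Curv2.bc k X k').nilradical.subschemeι ≫ Curv2.bcSnd k X k') := by
  classical
  -- the perfect closure
  let K₀ : IntermediateField k (AlgebraicClosure k) := perfectClosure k (AlgebraicClosure k)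
  let K : Type u := ↥K₀
  haveI : PerfectField K := perfectClosure.perfectField k (AlgebraicClosure k)
  haveI : IsPurelyInseparable k K := perfectClosure.isPurelyInseparable k (AlgebraicClosure k)
  let F : Finset K → IntermediateField k K := fun s => IntermediateField.adjoin k (s : Set K)
  have hmono : Monotone F := fun s t hst =>
    IntermediateField.adjoin.mono k _ _ (Finset.coe_subset.mpr hst)
  have hmem : ∀ x : K, x ∈ F {x} := fun x =>
    IntermediateField.subset_adjoin k _ (Finset.mem_coe.mpr (Finset.mem_singleton_self x))
  haveI : CompactSpace X :=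
    QuasiCompact.compactSpace_of_compactSpace (X ↘ Spec (CommRingCat.of k))
  haveI : IsLocallyNoetherian X :=
    LocallyOfFiniteType.isLocallyNoetherian (X ↘ Spec (CommRingCat.of k))
  haveI : QuasiSeparatedSpace X := inferInstance
  -- level K
  obtain ⟨hintK, hqcK, hqsK, -⟩ := lvl k X K
  have hdimK : topologicalKrullDim ↥(Curv2.bc k X K) ≤ 1 := by
    rw [IsHomeomorph.topologicalKrullDim_eq _
      (Groth.Agent.Lib.Helper22.PIHomeo.isHomeomorph_bcFst k X K)]
    exact hdim
  haveI : LocallyOfFiniteType (Curv2.bcSnd k X K) := inferInstance
  obtain ⟨hfin, hsm, hsurj, hintY, V, hVne, hcl⟩ :=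
    PerfNorm.props K (Curv2.bc k X K) (Curv2.bcSnd k X K) hdimK
  haveI := hfin
  haveI := hsurj
  haveI := hintY
  haveI : IsLocallyNoetherian (Curv2.bc k X K) :=
    LocallyOfFiniteType.isLocallyNoetherian (Curv2.bcSnd k X K)
  haveI : LocallyOfFinitePresentation
      (Curv2.normalizationι (Curv2.bc k X K).nilradical.subscheme ≫
        (Curv2.bc k X K).nilradical.subschemeι) :=
    Groth.Agent.Lib.Helper27.NoethLfp.locallyOfFinitePresentation_of_isLocallyNoetherian _
  haveI : IrreducibleSpace ↥(Curv2.normalization (Curv2.bc k X K).nilradical.subscheme) :=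
    inferInstance
  -- descend to a finite stage
  obtain ⟨s, Ys, hs, hfs, hsms, hsurjs, hirrs, Vs, hVsne, hcls⟩ :=
    PIDescend.exists_stage k K F hmono hmem X
      (Curv2.normalizationι (Curv2.bc k X K).nilradical.subscheme ≫
        (Curv2.bc k X K).nilradical.subschemeι) hsm V hVne hcl
  haveI := hfs
  haveI := hsurjs
  haveI := hirrs
  haveI : IsPurelyInseparable k (F s) := IsPurelyInseparable.tower_bot k (F s) K
  obtain ⟨hint, hqc, hqs, -⟩ := lvl k X (F s)
  have hn : ∀ y : Ys, IsDomain (Ys.presheaf.stalk y) ∧ IsIntegrallyClosed (Ys.presheaf.stalk y) :=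
    fun y => haveI := hsms
      NormSmoothBC.normal_stalk_of_smooth (hs ≫ Curv2.bcSnd k X (F s))
        (isIntegrallyClosed_stalk_spec_field (F s)) y
  obtain ⟨e, he⟩ := NormRedIso.exists_iso_normalization_red' hs hn Vs hVsne hcls
  have hfd : FiniteDimensional k (F s) := by
    haveI : Finite ((s : Set K)) := s.finite_toSet.to_subtype
    refine IntermediateField.finiteDimensional_adjoin (fun x _ => ?_)
    exact (IsPurelyInseparable.isAlgebraic k K).isIntegral.isIntegral x
  refine ⟨F s, inferInstance, inferInstance, hfd, inferInstance, hint, hqc, hqs, ?_⟩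
  have h1 : Curv2.normalizationι (Curv2.bc k X (F s)).nilradical.subscheme ≫
      (Curv2.bc k X (F s)).nilradical.subschemeι ≫ Curv2.bcSnd k X (F s) =
      e.inv ≫ (hs ≫ Curv2.bcSnd k X (F s)) := by
    rw [← he]
    simp
  rw [h1]
  haveI := hsms
  infer_instance


end helpers

open CategoryTheory AlgebraicGeometry in
/-- Let k be a field and X an integral k-scheme of finite type of dimension ≤ 1. Then there is a finite
purely inseparable field extension k' of k such that the reduced closed subscheme Z = (X_{k'})_red
of the base change X_{k'} is integral and the normalization of Z is smooth over k'. (The published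
statement is for an arbitrary k-scheme of finite type of dimension ≤ 1, with the normalization of a
reduced scheme with finitely many irreducible components; this row states the case X integral, where
Z is integral because X_{k'} → X is a homeomorphism. The instance hypotheses on the morphism from
the generic point inside the existential always hold and only serve to form the normalization.) -/
theorem result (k : Type u) [Field k]
    (X : Scheme.{u}) [X.Over (Spec (CommRingCat.of k))] [IsIntegral X]
    [LocallyOfFiniteType (X ↘ Spec (CommRingCat.of k))] [QuasiCompact (X ↘ Spec (CommRingCat.of k))]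
    (hdim : topologicalKrullDim X ≤ 1) :
    ∃ (k' : Type u) (_ : Field k') (_ : Algebra k k'), FiniteDimensional k k' ∧ IsPurelyInseparable k k' ∧
      ∃ (_ : IsIntegral (Curv2.bc k X k').nilradical.subscheme)
        (_ : QuasiCompact ((Curv2.bc k X k').nilradical.subscheme.fromSpecStalk
              (genericPoint (Curv2.bc k X k').nilradical.subscheme)))
        (_ : QuasiSeparated ((Curv2.bc k X k').nilradical.subscheme.fromSpecStalk
              (genericPoint (Curv2.bc k X k').nilradical.subscheme))),
        Smooth (Curv2.normalizationι (Curv2.bc k X k').nilradical.subscheme ≫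
          (Curv2.bc k X k').nilradical.subschemeι ≫ Curv2.bcSnd k X k') := by
  exact main k X hdim

end Groth.Agent.S12130
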