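import Groth.Statements.S12132
import Groth.Agent.Lib.Helper2.ChiLocal

set_option autoImplicit false
universe u
open AssSch

namespace Groth.Agent.S12132

/-- Let B be a Noetherian local ring (the local ring of X at the generic point z of an irreducible
component Z of the support of F/tF), t an element of its maximal ideal, and M a finite B-module (the
stalk F_z) such that the support of M has positive dimension (Z is not an irreducible component of
Supp F) and M/tM has finite length (z is a maximal point of Supp(F/tF)). Then the length of M/tM is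
at least the sum, over the primes p of B minimal over the annihilator of M (the generic points of
the irreducible components of Supp F through z), of the lengths of the B_p-modules M_p; and the two
are equal if and only if t is a non-zero-divisor on M and for every such p the image of t generates
the maximal ideal of B/p (so that B/p is a discrete valuation ring with uniformizer t). -/
theorem result {B : Type u} [CommRing B] [IsNoetherianRing B]
    [IsLocalRing B] (t : B) (ht : t ∈ IsLocalRing.maximalIdeal B)
    (M : Type u) [AddCommGroup M] [Module B M] [Module.Finite B M]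
    (hdim : 0 < Module.supportDim B M)
    (hfin : Module.length B (M ⧸ (Ideal.span {t} • (⊤ : Submodule B M))) ≠ ⊤) :
    (∑ᶠ p : (Module.annihilator B M).minimalPrimes,
        haveI : p.1.IsPrime := p.2.1.1
        Module.length (Localization.AtPrime p.1) (LocalizedModule p.1.primeCompl M)) ≤
      Module.length B (M ⧸ (Ideal.span {t} • (⊤ : Submodule B M))) ∧
    ((∑ᶠ p : (Module.annihilator B M).minimalPrimes,
        haveI : p.1.IsPrime := p.2.1.1
        Module.length (Localization.AtPrime p.1) (LocalizedModule p.1.primeCompl M)) =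
      Module.length B (M ⧸ (Ideal.span {t} • (⊤ : Submodule B M))) ↔
    IsSMulRegular M t ∧
      ∀ p : (Module.annihilator B M).minimalPrimes,
        Ideal.map (Ideal.Quotient.mk p.1) (IsLocalRing.maximalIdeal B) =
          Ideal.span {Ideal.Quotient.mk p.1 t}) := by
  classical
  have hfin' : Groth.Agent.Lib.Helper2.Snake.a t M ≠ ⊤ := hfin
  haveI : Finite ↥(Module.annihilator B M).minimalPrimes :=
    (Ideal.finite_minimalPrimes_of_isNoetherianRing B (Module.annihilator B M)).to_subtype
  haveI : Fintype ↥(Module.annihilator B M).minimalPrimes := Fintype.ofFinite _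
  obtain ⟨hb, hform⟩ := Groth.Agent.Lib.Helper2.ChiLocal.main_aux t ht M hdim hfin' M
    (le_refl _) hfin'
  set f : (Module.annihilator B M).minimalPrimes → ℕ∞ := fun p =>
    Groth.Agent.Lib.Helper2.LenAt.lenAt ⟨p.1, p.2.1.1⟩ M with hf
  set c : (Module.annihilator B M).minimalPrimes → ℕ∞ := fun p =>
    Groth.Agent.Lib.Helper2.Snake.a t (B ⧸ p.1) with hc
  have hsumf : (∑ᶠ p : (Module.annihilator B M).minimalPrimes,
        haveI : p.1.IsPrime := p.2.1.1
        Module.length (Localization.AtPrime p.1) (LocalizedModule p.1.primeCompl M)) =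
      ∑ p, f p := by
    rw [finsum_eq_sum_of_fintype]
    rfl
  have hform' : Module.length B (M ⧸ (Ideal.span {t} • (⊤ : Submodule B M))) =
      Groth.Agent.Lib.Helper2.Snake.b t M + ∑ p, f p * c p := by
    rw [← finsum_eq_sum_of_fintype]
    exact hform
  rw [hsumf, hform']
  have hpm : ∀ p : (Module.annihilator B M).minimalPrimes, p.1 ≤ IsLocalRing.maximalIdeal B :=
    fun p => IsLocalRing.le_maximalIdeal p.2.1.1.ne_top
  have hc0 : ∀ p, c p ≠ 0 := fun p =>
    Groth.Agent.Lib.Helper2.ChiLocal.a_quot_ne_zero t ht p.1 (hpm p)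
  have hc1 : ∀ p, 1 ≤ c p := fun p => Order.one_le_iff_pos.2 (pos_iff_ne_zero.2 (hc0 p))
  have hf0 : ∀ p, f p ≠ 0 := by
    intro p
    have hp : (⟨p.1, p.2.1.1⟩ : PrimeSpectrum B) ∈ Module.support B M := by
      rw [Module.mem_support_iff_of_finite]
      exact p.2.1.2
    rw [Module.mem_support_iff] at hp
    show Module.length _ _ ≠ 0
    rw [Ne, Module.length_eq_zero_iff, not_subsingleton_iff_nontrivial]
    exact hp
  have hf1 : ∀ p, 1 ≤ f p := fun p => Order.one_le_iff_pos.2 (pos_iff_ne_zero.2 (hf0 p))
  have hle : ∀ p, f p ≤ f p * c p := by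
    intro p
    calc f p = f p * 1 := (mul_one _).symm
      _ ≤ f p * c p := by gcongr; exact hc1 p
  have hsumle : ∑ p, f p ≤ ∑ p, f p * c p := Finset.sum_le_sum (fun p _ => hle p)
  set T := ∑ p, f p * c p with hT
  have hTfin : T ≠ ⊤ := by
    have : T ≤ Groth.Agent.Lib.Helper2.Snake.b t M + T := le_add_self
    rw [← hform'] at this
    exact ne_top_of_le_ne_top hfin this
  refine ⟨hsumle.trans le_add_self, ?_⟩
  constructor
  · intro heq
    have hb0 : Groth.Agent.Lib.Helper2.Snake.b t M = 0 := by
      have h1 : T + Groth.Agent.Lib.Helper2.Snake.b t M ≤ T + 0 := by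
        rw [add_zero, add_comm, ← heq]
        exact hsumle
      exact le_antisymm ((ENat.addLECancellable_of_ne_top hTfin) h1) zero_le
    rw [hb0, zero_add] at heq
    refine ⟨(Groth.Agent.Lib.Helper2.ChiLocal.b_eq_zero_iff t M).1 hb0, ?_⟩
    intro p₀
    rw [← Groth.Agent.Lib.Helper2.ChiLocal.a_quot_eq_one_iff t ht p₀.1 (hpm p₀)]
    by_contra hne
    have h2 : 1 + 1 ≤ c p₀ := by
      have h1lt : 1 < c p₀ := lt_of_le_of_ne (hc1 p₀) (Ne.symm hne)
      exact (ENat.add_one_le_iff (by simp)).2 h1lt
    have hle' : ∀ p, f p + (if p = p₀ then 1 else 0) ≤ f p * c p := by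
      intro p
      split_ifs with hp
      · subst hp
        calc f p + 1 ≤ f p + f p := by gcongr; exact hf1 p
          _ = f p * (1 + 1) := by ring
          _ ≤ f p * c p := by gcongr
      · rw [add_zero]; exact hle p
    have h3 : ∑ p, (f p + (if p = p₀ then (1 : ℕ∞) else 0)) ≤ T := Finset.sum_le_sum (fun p _ => hle' p)
    rw [Finset.sum_add_distrib, Finset.sum_ite_eq' Finset.univ p₀ (fun _ => (1 : ℕ∞)),
      if_pos (Finset.mem_univ _), heq] at h3
    have h4 : T + 1 ≤ T + 0 := by rw [add_zero]; exact h3
    have h5 := (ENat.addLECancellable_of_ne_top hTfin) h4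
    simp at h5
  · rintro ⟨hreg, hall⟩
    have hb0 : Groth.Agent.Lib.Helper2.Snake.b t M = 0 :=
      (Groth.Agent.Lib.Helper2.ChiLocal.b_eq_zero_iff t M).2 hreg
    rw [hb0, zero_add, hT]
    apply Finset.sum_congr rfl
    intro p _
    have : c p = 1 := (Groth.Agent.Lib.Helper2.ChiLocal.a_quot_eq_one_iff t ht p.1 (hpm p)).2 (hall p)
    rw [this, mul_one]

end Groth.Agent.S12132
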