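import Groth.Statements.S12133
import Mathlib

set_option autoImplicit false
universe u
open EGA2

namespace Groth.Agent.S12133

section Aux
open DirectSum

section Graded

variable {R : Type*} [CommRing R] (𝒜 : ℕ → AddSubgroup R) [GradedRing 𝒜]

/-- the graded pieces as `ℤ`-submodules -/
abbrev MM (n : ℕ) : Submodule ℤ R := AddSubgroup.toIntSubmodule (𝒜 n)

lemma mem_MM {n : ℕ} {r : R} : r ∈ MM 𝒜 n ↔ r ∈ 𝒜 n := Iff.rfl

lemma MM_mul_le (a b : ℕ) : MM 𝒜 a * MM 𝒜 b ≤ MM 𝒜 (a + b) := by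
  rw [Submodule.mul_le]
  intro x hx y hy
  exact SetLike.mul_mem_graded (A := 𝒜) ((mem_MM 𝒜).mp hx) ((mem_MM 𝒜).mp hy)

lemma one_le_MM_zero : (1 : Submodule ℤ R) ≤ MM 𝒜 0 := by
  rw [Submodule.one_le]
  exact SetLike.one_mem_graded 𝒜

lemma MM_pow_le (a n : ℕ) : MM 𝒜 a ^ n ≤ MM 𝒜 (n * a) := by
  induction n with
  | zero => simpa using one_le_MM_zero 𝒜
  | succ n ih =>
    rw [pow_succ, Nat.succ_mul]
    exact (mul_le_mul' ih le_rfl).trans (MM_mul_le 𝒜 _ _)

variable {J : Type*} [Fintype J] [DecidableEq J] (x : J → R) (dg : J → ℕ)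

/-- monomials -/
def mon (α : J → ℕ) : R := ∏ j, x j ^ α j

/-- weighted degree -/
def wdeg (α : J → ℕ) : ℕ := ∑ j, α j * dg j

lemma mon_add (α β : J → ℕ) : mon x (α + β) = mon x α * mon x β := by
  simp only [mon, Pi.add_apply, pow_add, Finset.prod_mul_distrib]

lemma wdeg_add (α β : J → ℕ) : wdeg dg (α + β) = wdeg dg α + wdeg dg β := by
  simp only [wdeg, Pi.add_apply, add_mul, Finset.sum_add_distrib]

variable {x dg}

lemma mon_mem (hx : ∀ j, x j ∈ 𝒜 (dg j)) (α : J → ℕ) : mon x α ∈ 𝒜 (wdeg dg α) := by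
  have := SetLike.prod_pow_mem_graded (A := 𝒜) (F := Finset.univ) (i := dg) (g := x) α
    (fun j _ => hx j)
  simpa [mon, wdeg] using this

variable (x dg)

/-- the span of `c * monomial` of weighted degree `N`. -/
def PP (N : ℕ) : Submodule ℤ R :=
  Submodule.span ℤ {r | ∃ c ∈ 𝒜 0, ∃ α : J → ℕ, wdeg dg α = N ∧ r = c * mon x α}

variable {x dg}

lemma PP_le_MM (hx : ∀ j, x j ∈ 𝒜 (dg j)) (N : ℕ) : PP 𝒜 x dg N ≤ MM 𝒜 N := by
  rw [PP, Submodule.span_le]
  rintro _ ⟨c, hc, α, hα, rfl⟩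
  have := SetLike.mul_mem_graded hc (mon_mem 𝒜 hx α)
  rw [zero_add, hα] at this
  exact this

lemma PP_mul_le (a b : ℕ) : PP 𝒜 x dg a * PP 𝒜 x dg b ≤ PP 𝒜 x dg (a + b) := by
  rw [PP, PP, Submodule.span_mul_span, Submodule.span_le]
  rintro _ ⟨_, ⟨c, hc, α, hα, rfl⟩, _, ⟨c', hc', β, hβ, rfl⟩, rfl⟩
  refine Submodule.subset_span ⟨c * c', ?_, α + β, ?_, ?_⟩
  · have := SetLike.mul_mem_graded hc hc'
    rwa [zero_add] at this
  · rw [wdeg_add, hα, hβ]
  · simp only [mon_add]; ring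

/-- If `R` is the sum of the `PP N`, then `MM N = PP N`. -/
lemma MM_eq_PP (hx : ∀ j, x j ∈ 𝒜 (dg j)) (hgen : ∀ r : R, r ∈ ⨆ N, PP 𝒜 x dg N) (N : ℕ) :
    MM 𝒜 N = PP 𝒜 x dg N := by
  apply le_antisymm _ (PP_le_MM 𝒜 hx N)
  intro r hr
  have hle : (⨆ N', PP 𝒜 x dg N') ≤
      (PP 𝒜 x dg N).comap (GradedRing.proj 𝒜 N).toIntLinearMap := by
    apply iSup_le
    intro N' s hs
    rw [Submodule.mem_comap]
    have hs' : s ∈ 𝒜 N' := PP_le_MM 𝒜 hx N' hs
    show GradedRing.proj 𝒜 N s ∈ _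
    rw [GradedRing.proj_apply]
    by_cases h : N' = N
    · subst h
      rw [DirectSum.decompose_of_mem_same 𝒜 hs']
      exact hs
    · rw [DirectSum.decompose_of_mem_ne 𝒜 hs' h]
      exact Submodule.zero_mem _
  have := hle (hgen r)
  rw [Submodule.mem_comap] at this
  have h2 : GradedRing.proj 𝒜 N r = r := by
    rw [GradedRing.proj_apply, DirectSum.decompose_of_mem_same 𝒜 hr]
  have h3 : (GradedRing.proj 𝒜 N).toIntLinearMap r = r := h2
  rwa [h3] at this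


/-- key step: high degree pieces are divisible by the degree-`m` piece. -/
lemma MM_le_mul (hx : ∀ j, x j ∈ 𝒜 (dg j)) (hdg : ∀ j, 0 < dg j)
    (hgen : ∀ r : R, r ∈ ⨆ N, PP 𝒜 x dg N) (N : ℕ)
    (hN : Fintype.card J * (∏ j, dg j) + 1 ≤ N) :
    MM 𝒜 N ≤ MM 𝒜 (∏ j, dg j) * MM 𝒜 (N - ∏ j, dg j) := by
  set m := ∏ j, dg j with hm
  rw [MM_eq_PP 𝒜 hx hgen N, PP, Submodule.span_le]
  rintro _ ⟨c, hc, α, hα, rfl⟩
  -- find j with α j * dg j ≥ m
  have hex : ∃ j, m ≤ α j * dg j := by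
    by_contra hcon
    push_neg at hcon
    have : wdeg dg α ≤ Fintype.card J * m := by
      rw [wdeg]
      calc ∑ j, α j * dg j ≤ ∑ _j : J, m := Finset.sum_le_sum fun j _ => (hcon j).le
        _ = Fintype.card J * m := by simp
    omega
  obtain ⟨j, hj⟩ := hex
  have hdvd : dg j ∣ m := Finset.dvd_prod_of_mem dg (Finset.mem_univ j)
  obtain ⟨q, hq⟩ := hdvd
  have hqα : q ≤ α j := by
    have h1 : dg j * q ≤ dg j * α j := by rw [← hq, mul_comm (dg j) (α j)]; exact hj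
    exact Nat.le_of_mul_le_mul_left h1 (hdg j)
  set α' : J → ℕ := Function.update α j (α j - q) with hα'
  have hsplit : α = Pi.single j q + α' := by
    funext i
    by_cases hi : i = j
    · subst hi; simp [hα']; omega
    · simp [hα', Pi.single_eq_of_ne hi, Function.update_of_ne hi]
  have hmon : mon x α = x j ^ q * mon x α' := by
    conv_lhs => rw [hsplit, mon_add]
    congr 1
    simp only [mon]
    rw [Finset.prod_eq_single j]
    · simp
    · intro i _ hi; simp [Pi.single_eq_of_ne hi]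
    · intro h; exact absurd (Finset.mem_univ j) h
  have hw : wdeg dg α = m + wdeg dg α' := by
    conv_lhs => rw [hsplit, wdeg_add]
    congr 1
    simp only [wdeg]
    rw [Finset.sum_eq_single j]
    · simp [hq, mul_comm]
    · intro i _ hi; simp [Pi.single_eq_of_ne hi]
    · intro h; exact absurd (Finset.mem_univ j) h
  have h1 : x j ^ q ∈ MM 𝒜 m := by
    have := SetLike.pow_mem_graded (A := 𝒜) q (hx j)
    rw [smul_eq_mul, mul_comm, ← hq] at this
    exact this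
  have h2 : c * mon x α' ∈ MM 𝒜 (N - m) := by
    have := SetLike.mul_mem_graded (A := 𝒜) hc (mon_mem 𝒜 hx α')
    rw [zero_add] at this
    have e : wdeg dg α' = N - m := by omega
    rw [e] at this
    exact this
  have : c * mon x α = x j ^ q * (c * mon x α') := by rw [hmon]; ring
  rw [this]
  exact Submodule.mul_mem_mul h1 h2

lemma MM_add_mul_le (hx : ∀ j, x j ∈ 𝒜 (dg j)) (hdg : ∀ j, 0 < dg j)
    (hgen : ∀ r : R, r ∈ ⨆ N, PP 𝒜 x dg N) (d : ℕ)
    (hd : Fintype.card J * (∏ j, dg j) + 1 ≤ d) (t : ℕ) :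
    MM 𝒜 (d + t * ∏ j, dg j) ≤ MM 𝒜 (∏ j, dg j) ^ t * MM 𝒜 d := by
  induction t with
  | zero => simp
  | succ t ih =>
    have h1 := MM_le_mul 𝒜 hx hdg hgen (d + (t + 1) * ∏ j, dg j) (by
      have : 0 ≤ (t + 1) * ∏ j, dg j := Nat.zero_le _
      omega)
    have e : d + (t + 1) * ∏ j, dg j - ∏ j, dg j = d + t * ∏ j, dg j := by
      rw [Nat.succ_mul]; omega
    rw [e] at h1
    refine h1.trans ?_
    rw [pow_succ', mul_assoc]
    exact mul_le_mul' le_rfl ih

/-- (a) -/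
lemma MM_mul_eq_pow (hx : ∀ j, x j ∈ 𝒜 (dg j)) (hdg : ∀ j, 0 < dg j)
    (hgen : ∀ r : R, r ∈ ⨆ N, PP 𝒜 x dg N) (h : ℕ) (hh : Fintype.card J + 1 ≤ h) (n : ℕ) (hn : 0 < n) :
    MM 𝒜 (n * (h * ∏ j, dg j)) = MM 𝒜 (h * ∏ j, dg j) ^ n := by
  set m := ∏ j, dg j with hm
  have hmpos : 0 < m := Finset.prod_pos fun j _ => hdg j
  apply le_antisymm _ (MM_pow_le 𝒜 _ _)
  obtain ⟨n, rfl⟩ : ∃ n', n = n' + 1 := ⟨n - 1, by omega⟩
  have hd : Fintype.card J * m + 1 ≤ h * m := by nlinarith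
  have h1 := MM_add_mul_le 𝒜 hx hdg hgen (h * m) hd (n * h)
  have e : h * m + n * h * m = (n + 1) * (h * m) := by ring
  rw [e] at h1
  refine h1.trans ?_
  rw [pow_succ, pow_mul']
  refine mul_le_mul' (pow_le_pow_left' ?_ n) le_rfl
  exact MM_pow_le 𝒜 m h

/-- (b) -/
lemma MM_eq_mul_span (hx : ∀ j, x j ∈ 𝒜 (dg j)) (hdg : ∀ j, 0 < dg j)
    (hgen : ∀ r : R, r ∈ ⨆ N, PP 𝒜 x dg N) (d : ℕ) :
    ∃ T : Finset R, (↑T : Set R) ⊆ (𝒜 d : Set R) ∧
      MM 𝒜 d = MM 𝒜 0 * Submodule.span ℤ (↑T : Set R) := by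
  classical
  let F : Finset (J → ℕ) :=
    (Fintype.piFinset fun _ : J => Finset.range (d + 1)).filter fun α => wdeg dg α = d
  have hF : ∀ α : J → ℕ, wdeg dg α = d → α ∈ F := by
    intro α hα
    rw [Finset.mem_filter, Fintype.mem_piFinset]
    refine ⟨fun j => ?_, hα⟩
    rw [Finset.mem_range]
    have h1 : α j * dg j ≤ wdeg dg α :=
      Finset.single_le_sum (f := fun j => α j * dg j) (fun _ _ => Nat.zero_le _) (Finset.mem_univ j)
    have h2 : α j ≤ α j * dg j := Nat.le_mul_of_pos_right _ (hdg j)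
    omega
  refine ⟨F.image (mon x), ?_, ?_⟩
  · intro r hr
    rw [Finset.mem_coe, Finset.mem_image] at hr
    obtain ⟨α, hα, rfl⟩ := hr
    have := mon_mem 𝒜 hx α
    rw [(Finset.mem_filter.mp hα).2] at this
    exact this
  · apply le_antisymm
    · rw [MM_eq_PP 𝒜 hx hgen d, PP, Submodule.span_le]
      rintro _ ⟨c, hc, α, hα, rfl⟩
      exact Submodule.mul_mem_mul hc
        (Submodule.subset_span (Finset.mem_coe.mpr (Finset.mem_image_of_mem _ (hF α hα))))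
    · have h1 : Submodule.span ℤ (↑(F.image (mon x)) : Set R) ≤ MM 𝒜 d := by
        rw [Submodule.span_le]
        intro r hr
        rw [Finset.mem_coe, Finset.mem_image] at hr
        obtain ⟨α, hα, rfl⟩ := hr
        have := mon_mem 𝒜 hx α
        rw [(Finset.mem_filter.mp hα).2] at this
        exact this
      refine (mul_le_mul' le_rfl h1).trans ?_
      have := MM_mul_le 𝒜 0 d
      rwa [zero_add] at this


lemma mem_iSup_PP_of_mem_zero {c : R} (hc : c ∈ 𝒜 0) : c ∈ ⨆ N, PP 𝒜 x dg N := by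
  refine (le_iSup (fun N => PP 𝒜 x dg N) 0) (Submodule.subset_span ⟨c, hc, 0, ?_, ?_⟩)
  · simp [wdeg]
  · simp [mon]

lemma mem_iSup_PP_gen (j : J) : x j ∈ ⨆ N, PP 𝒜 x dg N := by
  refine (le_iSup (fun N => PP 𝒜 x dg N) (dg j))
    (Submodule.subset_span ⟨1, SetLike.one_mem_graded 𝒜, Pi.single j 1, ?_, ?_⟩)
  · simp only [wdeg]
    rw [Finset.sum_eq_single j]
    · simp
    · intro i _ hi; simp [Pi.single_eq_of_ne hi]
    · intro h; exact absurd (Finset.mem_univ j) h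
  · simp only [mon, one_mul]
    rw [Finset.prod_eq_single j]
    · simp
    · intro i _ hi; simp [Pi.single_eq_of_ne hi]
    · intro h; exact absurd (Finset.mem_univ j) h

lemma iSup_PP_mul_le :
    (⨆ N, PP 𝒜 x dg N) * (⨆ N, PP 𝒜 x dg N) ≤ ⨆ N, PP 𝒜 x dg N := by
  rw [Submodule.iSup_mul]
  apply iSup_le
  intro a
  rw [Submodule.mul_iSup]
  apply iSup_le
  intro b
  exact (PP_mul_le 𝒜 a b).trans (le_iSup (fun N => PP 𝒜 x dg N) (a + b))

end Graded

section FT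

variable {R : Type*} [CommRing R] (𝒜 : ℕ → AddSubgroup R) [GradedRing 𝒜]
  {B : Type*} [CommRing B] (φ : B →+* R)

/-- the good property of a degree `d`. -/
def Good (d : ℕ) : Prop :=
  (∀ n : ℕ, 0 < n → MM 𝒜 (n * d) = MM 𝒜 d ^ n) ∧
    ∃ T : Finset R, (↑T : Set R) ⊆ (𝒜 d : Set R) ∧
      MM 𝒜 d = MM 𝒜 0 * Submodule.span ℤ (↑T : Set R)

theorem graded_main (hφ0 : ∀ b, φ b ∈ 𝒜 0) (hft : φ.FiniteType) :
    ∃ d₀ : ℕ, 0 < d₀ ∧ ∀ h : ℕ, 0 < h → Good 𝒜 (h * d₀) := by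
  classical
  letI := φ.toAlgebra
  have hft' : Algebra.FiniteType B R := hft
  obtain ⟨Y, hY⟩ := hft'.out
  set D : ℕ := Y.sup (fun y => (DirectSum.decompose 𝒜 y).support.sup id) + 1 with hD
  let J := {y // y ∈ Y} × Fin D
  let x : J → R := fun p => (DirectSum.decompose 𝒜 p.1.1 (p.2.1 + 1) : R)
  let dg : J → ℕ := fun p => p.2.1 + 1
  have hx : ∀ j, x j ∈ 𝒜 (dg j) := fun j => SetLike.coe_mem _
  have hdg : ∀ j, 0 < dg j := fun j => Nat.succ_pos _
  have hgen : ∀ r : R, r ∈ ⨆ N, PP 𝒜 x dg N := by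
    intro r
    have hr : r ∈ Algebra.adjoin B (↑Y : Set R) := by rw [hY]; trivial
    induction hr using Algebra.adjoin_induction with
    | mem y hy =>
      rw [← DirectSum.sum_support_decompose 𝒜 y]
      refine Submodule.sum_mem _ fun n hn => ?_
      rcases Nat.eq_zero_or_pos n with h0 | hpos
      · subst h0
        exact mem_iSup_PP_of_mem_zero 𝒜 (SetLike.coe_mem _)
      · have hnD : n - 1 < D := by
          have h1 : n ≤ (DirectSum.decompose 𝒜 y).support.sup id :=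
            Finset.le_sup (f := id) hn
          have h2 : (DirectSum.decompose 𝒜 y).support.sup id ≤
              Y.sup (fun y => (DirectSum.decompose 𝒜 y).support.sup id) :=
            Finset.le_sup (f := fun y => (DirectSum.decompose 𝒜 y).support.sup id) hy
          omega
        have := mem_iSup_PP_gen 𝒜 (x := x) (dg := dg) (⟨⟨y, hy⟩, ⟨n - 1, hnD⟩⟩ : J)
        have e : x (⟨⟨y, hy⟩, ⟨n - 1, hnD⟩⟩ : J) = (DirectSum.decompose 𝒜 y n : R) := by
          show (DirectSum.decompose 𝒜 y (n - 1 + 1) : R) = _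
          rw [Nat.sub_add_cancel hpos]
        rwa [e] at this
    | algebraMap b => exact mem_iSup_PP_of_mem_zero 𝒜 (hφ0 b)
    | add a b _ _ ha hb => exact Submodule.add_mem _ ha hb
    | mul a b _ _ ha hb => exact iSup_PP_mul_le 𝒜 (Submodule.mul_mem_mul ha hb)
  have hmpos : 0 < ∏ j, dg j := Finset.prod_pos fun j _ => hdg j
  refine ⟨(Fintype.card J + 1) * ∏ j, dg j, Nat.mul_pos (Nat.succ_pos _) hmpos, fun h hh => ?_⟩
  have e : h * ((Fintype.card J + 1) * ∏ j, dg j) = (h * (Fintype.card J + 1)) * ∏ j, dg j := by ring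
  rw [e]
  have hge : Fintype.card J + 1 ≤ h * (Fintype.card J + 1) := Nat.le_mul_of_pos_left _ hh
  exact ⟨fun n hn => MM_mul_eq_pow 𝒜 hx hdg hgen _ hge n hn, MM_eq_mul_span 𝒜 hx hdg hgen _⟩

end FT


open CategoryTheory AlgebraicGeometry Opposite in
theorem main {Y : Scheme.{u}} (𝒮 : RelProj.QCGrAlg Y)
    {ι : Type u} [Finite ι] (U : ι → Y.Opens) (hU : ∀ i, IsAffineOpen (U i))
    (hft : ∀ i, (𝒮.str.app (op (U i))).hom.FiniteType) :
    ∃ d : ℕ, 0 < d ∧ ∀ i,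
      (∀ n : ℕ, 0 < n →
        AddSubgroup.toIntSubmodule (𝒮.deg (U i) (hU i) (n * d)) =
          AddSubgroup.toIntSubmodule (𝒮.deg (U i) (hU i) d) ^ n) ∧
      ∃ T : Finset (𝒮.presheaf.obj (op (U i))),
        (↑T : Set (𝒮.presheaf.obj (op (U i)))) ⊆ (𝒮.deg (U i) (hU i) d : Set (𝒮.presheaf.obj (op (U i)))) ∧
        AddSubgroup.toIntSubmodule (𝒮.deg (U i) (hU i) d) =
          AddSubgroup.toIntSubmodule (𝒮.deg (U i) (hU i) 0) *
            Submodule.span ℤ (↑T : Set (𝒮.presheaf.obj (op (U i)))) := by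
  classical
  haveI : Fintype ι := Fintype.ofFinite ι
  have h1 : ∀ i, ∃ d₀ : ℕ, 0 < d₀ ∧ ∀ h : ℕ, 0 < h → Good (𝒮.deg (U i) (hU i)) (h * d₀) := fun i =>
    graded_main (𝒮.deg (U i) (hU i)) (𝒮.str.app (op (U i))).hom (𝒮.str_mem (U i) (hU i)) (hft i)
  choose d₀ hd₀ hgood using h1
  refine ⟨∏ i, d₀ i, Finset.prod_pos fun i _ => hd₀ i, fun i => ?_⟩
  have e : ∏ i', d₀ i' = (∏ i' ∈ Finset.univ.erase i, d₀ i') * d₀ i :=
    (Finset.prod_erase_mul _ _ (Finset.mem_univ i)).symm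
  rw [e]
  exact hgood i _ (Finset.prod_pos fun i' _ => hd₀ i')


end Aux

open CategoryTheory AlgebraicGeometry Opposite in
/-- Let Y be a scheme, 𝒮 a quasi-coherent positively graded O_Y-algebra, and (U_i) a finite cover of Y
by affine open sets such that each graded ring 𝒮(U_i) is an algebra of finite type over O_Y(U_i).
Then there is an integer d > 0 such that for every i: 𝒮(U_i)_{nd} = (𝒮(U_i)_d)^n for all n > 0 (as
additive subgroups of the ring 𝒮(U_i); that is, 𝒮^{(d)} is generated by 𝒮_d), and 𝒮(U_i)_d is a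
finitely generated module over the degree-zero subring 𝒮(U_i)_0. (The published statement says 𝒮_d
is an O_Y-module of finite type; its proof gives finite generation over 𝒮_0, which is what is stated
here — for 𝒮 = O_Y[x][T] with x of degree 0 and T of degree 1 over an affine Y, 𝒮 is of finite type
but 𝒮_1 = O_Y[x] T is not a finitely generated O_Y-module.) -/
theorem result {Y : Scheme.{u}} (𝒮 : RelProj.QCGrAlg Y)
    {ι : Type u} [Finite ι] (U : ι → Y.Opens) (hU : ∀ i, IsAffineOpen (U i)) (hcov : ⨆ i, U i = ⊤)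
    (hft : ∀ i, (𝒮.str.app (op (U i))).hom.FiniteType) :
    ∃ d : ℕ, 0 < d ∧ ∀ i,
      (∀ n : ℕ, 0 < n →
        AddSubgroup.toIntSubmodule (𝒮.deg (U i) (hU i) (n * d)) =
          AddSubgroup.toIntSubmodule (𝒮.deg (U i) (hU i) d) ^ n) ∧
      ∃ T : Finset (𝒮.presheaf.obj (op (U i))),
        (↑T : Set (𝒮.presheaf.obj (op (U i)))) ⊆ (𝒮.deg (U i) (hU i) d : Set (𝒮.presheaf.obj (op (U i)))) ∧
        AddSubgroup.toIntSubmodule (𝒮.deg (U i) (hU i) d) =
          AddSubgroup.toIntSubmodule (𝒮.deg (U i) (hU i) 0) *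
            Submodule.span ℤ (↑T : Set (𝒮.presheaf.obj (op (U i)))) := by
  exact main 𝒮 U hU hft

end Groth.Agent.S12133
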