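import Groth.Statements.S12137
import Groth.Agent.Lib.Helper28.TrivGr

set_option autoImplicit false
universe u
open CategoryTheory CategoryTheory.Limits AlgebraicGeometry Opposite TopologicalSpace
open scoped HomogeneousIdeal
noncomputable section
open EGA2

namespace Groth.Agent.S12137

open Groth.Agent.Lib.Helper28.TrivGr Groth.Agent.Lib.Helper28.ConeGlue
open HomogeneousLocalization

variable {Y : Scheme.{u}} (𝒜 : RelSpec.QCAlg Y)

/-- a quasi-coherent algebra as a graded algebra concentrated in degree zero -/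
def triv : RelProj.QCGrAlg Y where
  toQCAlg := 𝒜
  deg U _ := trivDeg (𝒜.presheaf.obj (op U))
  graded U _ := inferInstance
  map_mem := by
    intro U V hU hV i d x hx
    by_cases hd : d = 0
    · subst hd
      exact mem_trivDeg_zero _
    · rw [eq_zero_of_mem_trivDeg hd hx, map_zero]
      exact zero_mem _
  str_mem U hU r := mem_trivDeg_zero _

section
variable (Sh : RelProj.QCGrAlg Y) (ι : 𝒜 ⟶ Sh.toQCAlg)
    (hι : ∀ (U : Y.Opens) (hU : IsAffineOpen U) (a : 𝒜.presheaf.obj (op U)), (ι.hom.app (op U)).hom a ∈ Sh.deg U hU 0)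

/-- `ι` as a homomorphism from the trivially graded algebra -/
def ιT : (triv 𝒜).toQCAlg ⟶ Sh.toQCAlg := ι

include hι in
theorem isGradedHom_ιT : RelProj.IsGradedHom (ιT 𝒜 Sh ι) := by
  intro U hU d x hx
  by_cases hd : d = 0
  · subst hd
    exact hι U hU x
  · have hx0 : x = 0 := eq_zero_of_mem_trivDeg hd hx
    rw [hx0]
    change (ι.hom.app (op U)).hom 0 ∈ _
    rw [map_zero]
    exact zero_mem _

end


/-- Let Y be a scheme, 𝒜 a quasi-coherent O_Y-algebra and Ŝ = 𝒜[T], graded with 𝒜 in degree 0 and T in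
degree 1 — presented through a homomorphism of algebras ι : 𝒜 → Ŝ landing in degree 0 and a global
section z of Ŝ of degree 1 such that, over every affine open U, the map 𝒜(U)[X] → Ŝ(U) sending X to
z is bijective — and let p : P → Y with its charts be the relative homogeneous spectrum Proj(Ŝ). For
each affine open U let θ_U : Ŝ(U)_(z) → 𝒜(U) be the ring isomorphism sending ι(a) z^k / z^k to a.
Then there is a unique morphism i : Spec(𝒜) → P which, on the chart Spec 𝒜(U) of Spec(𝒜) over each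
affine open U, is Spec(θ_U) followed by the open immersion of D_+(z|U) into Proj Ŝ(U) and the chart
of P; moreover i is an isomorphism and lies over Y. In particular Proj(O_Y[T]) is Y. -/
theorem result {Y P : Scheme.{u}} (𝒜 : RelSpec.QCAlg Y) (Sh : RelProj.QCGrAlg Y)
    (ι : 𝒜 ⟶ Sh.toQCAlg)
    (hι : ∀ (U : Y.Opens) (hU : IsAffineOpen U) (a : 𝒜.presheaf.obj (op U)), (ι.hom.app (op U)).hom a ∈ Sh.deg U hU 0)
    (z : Sh.presheaf.obj (op ⊤))
    (hz : ∀ (U : Y.Opens) (hU : IsAffineOpen U), (Sh.presheaf.map (homOfLE le_top).op).hom z ∈ Sh.deg U hU 1)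
    (hpoly : ∀ (U : Y.Opens) (hU : IsAffineOpen U),
      Function.Bijective (Polynomial.eval₂RingHom (ι.hom.app (op U)).hom ((Sh.presheaf.map (homOfLE le_top).op).hom z)))
    (p : P ⟶ Y)
    (chart : ∀ (U : Y.Opens) (hU : IsAffineOpen U), (((p ⁻¹ᵁ U : P.Opens) : Scheme.{u}) ≅ Proj (Sh.deg U hU)))
    (hP : RelProj.IsRelProj Sh p chart)
    (θ : ∀ (U : Y.Opens) (hU : IsAffineOpen U),
      CommRingCat.of (HomogeneousLocalization.Away (Sh.deg U hU) ((Sh.presheaf.map (homOfLE le_top).op).hom z)) ⟶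
        𝒜.presheaf.obj (op U))
    (hθ : ∀ (U : Y.Opens) (hU : IsAffineOpen U)
      (q : HomogeneousLocalization.Away (Sh.deg U hU) ((Sh.presheaf.map (homOfLE le_top).op).hom z))
      (k : ℕ) (a : 𝒜.presheaf.obj (op U)),
        q.val = Localization.mk ((ι.hom.app (op U)).hom a * (Sh.presheaf.map (homOfLE le_top).op).hom z ^ k)
          ⟨(Sh.presheaf.map (homOfLE le_top).op).hom z ^ k,
            pow_mem (Submonoid.mem_powers ((Sh.presheaf.map (homOfLE le_top).op).hom z)) k⟩ →
        (θ U hU).hom q = a) :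
    (∃! i : 𝒜.spec ⟶ P, ∀ (U : Y.Opens) (hU : IsAffineOpen U),
        𝒜.ι U hU ≫ i =
          Spec.map (θ U hU) ≫
            Proj.awayι (Sh.deg U hU) ((Sh.presheaf.map (homOfLE le_top).op).hom z) (hz U hU) one_pos ≫
              RelProj.emb p chart U hU) ∧
      ∀ i : 𝒜.spec ⟶ P, (∀ (U : Y.Opens) (hU : IsAffineOpen U),
        𝒜.ι U hU ≫ i =
          Spec.map (θ U hU) ≫
            Proj.awayι (Sh.deg U hU) ((Sh.presheaf.map (homOfLE le_top).op).hom z) (hz U hU) one_pos ≫
              RelProj.emb p chart U hU) →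
        IsIso i ∧ i ≫ p = 𝒜.π := by
  let 𝒮 : RelProj.QCGrAlg Y := triv 𝒜
  have hιT := isGradedHom_ιT 𝒜 Sh ι hι
  have hθ' : ∀ (U : Y.Opens) (hU : IsAffineOpen U)
      (q : HomogeneousLocalization.Away (Sh.deg U hU) (RelCone.restrictTop Sh z U))
      (k : ℕ) (x : 𝒮.presheaf.obj (op U)), x ∈ 𝒮.deg U hU k →
        q.val = Localization.mk (((ιT 𝒜 Sh ι).hom.app (op U)).hom x)
          ⟨RelCone.restrictTop Sh z U ^ k,
            pow_mem (Submonoid.mem_powers (RelCone.restrictTop Sh z U)) k⟩ →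
        (θ U hU).hom q = x := by
    intro U hU q k x hx hq
    by_cases hk : k = 0
    · subst hk
      refine hθ U hU q 0 x ?_
      rw [hq]
      congr 1
      rw [pow_zero, mul_one]
      rfl
    · have hx0 : x = 0 := eq_zero_of_mem_trivDeg hk hx
      subst hx0
      have hq0 : q = 0 := by
        apply HomogeneousLocalization.val_injective
        rw [hq, HomogeneousLocalization.val_zero]
        change Localization.mk ((ι.hom.app (op U)).hom 0) _ = 0
        rw [map_zero, Localization.mk_zero]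
      rw [hq0, map_zero]
      rfl
  refine ⟨existsUnique_coneImm (𝒮 := 𝒮) (ιT 𝒜 Sh ι) hιT z hz hpoly p chart hP θ hθ', fun i hi => ?_⟩
  have ho := isOpenImmersion_i (𝒮 := 𝒮) (ιT 𝒜 Sh ι) hιT z hz hpoly p chart hP θ hθ' i hi
  have hr := range_i (𝒮 := 𝒮) (ιT 𝒜 Sh ι) hιT z hz hpoly p chart θ hθ' i hi ⊤ ?_
  · refine ⟨?_, i_comp_pC (𝒮 := 𝒮) (ιT 𝒜 Sh ι) z hz p chart hP θ hθ' i hi⟩
    rw [isIso_iff_isOpenImmersion_and_surjective]
    refine ⟨ho, ⟨?_⟩⟩
    rw [← Set.range_eq_univ]
    exact hr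
  · intro U hU
    have hD : Proj.basicOpen (Sh.deg U hU) (RelCone.restrictTop Sh z U) = ⊤ := by
      rw [eq_top_iff]
      intro w _
      refine Groth.Agent.Lib.Helper28.ConeRing.z_notMem (RelProj.gradedHomAt (ιT 𝒜 Sh ι) hιT U hU)
        _ (hz U hU) (hpoly U hU) w ?_
      intro hw
      obtain ⟨d, hd, f, hf, hfw⟩ := (Groth.Agent.Lib.Helper28.ProjQ.mem_dom_iff _ w).1 hw
      apply hfw
      have hf0 : f = 0 := eq_zero_of_mem_trivDeg hd.ne' hf
      rw [hf0, map_zero]
      exact zero_mem _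
    rw [hD, top_inf_eq]
    ext w
    constructor
    · intro hw
      exact ⟨⟨w, hw⟩, trivial, rfl⟩
    · rintro ⟨v, -, rfl⟩
      exact v.2

end Groth.Agent.S12137
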