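import Groth.Statements.S12138
import Groth.Agent.Lib.Helper2.BV3
import Groth.Agent.Lib.Helper2.BN3
import Groth.Agent.Lib.Helper2.BC5
import Groth.Agent.Lib.Helper2.GN3
import Groth.Agent.Lib.Helper2.GN4
import Groth.Agent.Lib.Helper2.Cover
import Groth.Agent.Lib.helper11.TFunBC

set_option autoImplicit false
universe u
attribute [local instance] HasDerivedCategory.standard
open Coherent

namespace Groth.Agent.S12138

open AlgebraicGeometry CategoryTheory in
/-- For a complex reduced to one sheaf and affine bases. Let A be a Noetherian ring, X a proper A-scheme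
with structure morphism f, F a coherent O_X-module flat over Spec A, and T^p(M) = H^p(X, f^*(M~) ⊗
F) for A-modules M. Let A' be any commutative A-algebra, X' an A'-scheme with a morphism g' : X' → X
making X' the fibre product X ×_{Spec A} Spec A', F' = g'^* F, and T'^p(M') = H^p(X', f'^*(M'~) ⊗
F') for A'-modules M'. If T^p takes surjections to surjections (resp. injections to injections),
then T'^p does the same. (The converse when Spec A' → Spec A is faithfully flat is a separate
statement; the published statement is for an arbitrary base change of schemes and reduces to this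
affine case.) -/
theorem result (A A' : Type u) [CommRing A] [IsNoetherianRing A]
    [CommRing A'] [Algebra A A'] (X X' : Scheme.{u}) [X.Over (Spec (CommRingCat.of A))]
    [X'.Over (Spec (CommRingCat.of A'))] [IsProper (X ↘ Spec (CommRingCat.of A))] (g' : X' ⟶ X)
    (hsq : IsPullback g' (X' ↘ Spec (CommRingCat.of A')) (X ↘ Spec (CommRingCat.of A))
      (Spec.map (CommRingCat.ofHom (algebraMap A A'))))
    (F : X.Modules) (hF : Coh.IsCoh F) (hfl : FlatMod.IsFlatOver (X ↘ Spec (CommRingCat.of A)) F) (p : ℕ) :
    ((CohIII.tensorAFunctor A F ⋙ CohIII.HAb X p).PreservesEpimorphisms →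
        (CohIII.tensorAFunctor A' ((Scheme.Modules.pullback g').obj F) ⋙ CohIII.HAb X' p).PreservesEpimorphisms) ∧
      ((CohIII.tensorAFunctor A F ⋙ CohIII.HAb X p).PreservesMonomorphisms →
        (CohIII.tensorAFunctor A' ((Scheme.Modules.pullback g').obj F) ⋙ CohIII.HAb X' p).PreservesMonomorphisms) := by
  open Groth.Agent.Lib.Helper2 Groth.Agent.Lib.Helper2.BC3 Groth.Agent.Lib.helper11 in
  haveI : F.IsQuasicoherent := hF.1
  haveI : IsAffineHom g' := MorphismProperty.of_isPullback (P := @IsAffineHom) hsq.flip inferInstance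
  haveI : CompactSpace X := QuasiCompact.compactSpace_of_compactSpace (X ↘ Spec (CommRingCat.of A))
  obtain ⟨t, U, hcov, hU⟩ := Cover.exists_cover (X ↘ Spec (CommRingCat.of A))
  have hflat := BC5.flat_cechA_X A U F hfl hU
  obtain ⟨α⟩ := BN3.nonempty_natIso A F U hcov hU p
  haveI : (BV2.Fp g' F).IsQuasicoherent := inferInstance
  obtain ⟨α'⟩ := BN3.nonempty_natIso A' (BV2.Fp g' F) (BV3.Up g' U) (BV3.iSup_Up g' U hcov)
    (BV3.isAffineOpen_Up g' U hU) p
  obtain ⟨e⟩ := BV3.nonempty_iso_bcCx A A' g' hsq F U hU
  have β := GN4.TFunIso e p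
  constructor
  · intro h
    have h1 := (GN3.preservesEpi_iff α).1 h
    have h2 := TFunBC.preservesEpi_bcCx (algebraMap A A') (cechA A F U) p hflat (p + 1) rfl h1
    have h3 : (CohIII.TFun (cechA A' (BV2.Fp g' F) (BV3.Up g' U)) p).PreservesEpimorphisms :=
      (Functor.PreservesEpimorphisms.iso_iff β).2 h2
    exact (GN3.preservesEpi_iff α').2 h3
  · intro h
    have h1 := (GN3.preservesMono_iff α).1 h
    have h2 := TFunBC.preservesMono_bcCx (algebraMap A A') (cechA A F U) p hflat h1
    have h3 : (CohIII.TFun (cechA A' (BV2.Fp g' F) (BV3.Up g' U)) p).PreservesMonomorphisms :=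
      (Functor.PreservesMonomorphisms.iso_iff β).2 h2
    exact (GN3.preservesMono_iff α').2 h3

end Groth.Agent.S12138
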