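import Groth.Statements.S12140
import Groth.Agent.Lib.Helper28.ProjQRel

set_option autoImplicit false
universe u
open CategoryTheory CategoryTheory.Limits AlgebraicGeometry TopologicalSpace Opposite
open scoped HomogeneousIdeal
noncomputable section
open EGA2

namespace Groth.Agent.S12140

open Groth.Agent.Lib.Helper28
open Groth.Agent.Lib.Helper28.ProjQRel (pairId)

/-- Let φ : 𝒜 → ℬ be a graded homomorphism of quasi-coherent positively graded O_Y-algebras, PA =
Proj(𝒜), PB = Proj(ℬ) with their charts, G(φ) ⊆ PB the open on which the induced morphism is defined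
and Φ = Proj(φ) : G(φ) → PA that morphism (pinned on the standard affine charts of G(φ)). Then Φ is
affine, and for every affine open U of Y the part of G(φ) over U is the image, under the chart of PB
over U, of the open G(φ(U)) of Proj ℬ(U) where the morphism of homogeneous spectra induced by φ(U) :
𝒜(U) → ℬ(U) is defined. -/
theorem result {Y PA PB : Scheme.{u}} (𝒜 ℬ : RelProj.QCGrAlg Y)
    (φ : 𝒜.toQCAlg ⟶ ℬ.toQCAlg) (hφ : RelProj.IsGradedHom φ)
    (pA : PA ⟶ Y) (chartA : ∀ (U : Y.Opens) (hU : IsAffineOpen U), (((pA ⁻¹ᵁ U : PA.Opens) : Scheme.{u}) ≅ Proj (𝒜.deg U hU)))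
    (hA : RelProj.IsRelProj 𝒜 pA chartA)
    (pB : PB ⟶ Y) (chartB : ∀ (U : Y.Opens) (hU : IsAffineOpen U), (((pB ⁻¹ᵁ U : PB.Opens) : Scheme.{u}) ≅ Proj (ℬ.deg U hU)))
    (hB : RelProj.IsRelProj ℬ pB chartB)
    (Φ : ((RelProj.domQ (RelProj.QGrHom.ofHom φ hφ) pB chartB : PB.Opens) : Scheme.{u}) ⟶ PA)
    (hΦ : RelProj.IsProjQMapOn (RelProj.QGrHom.ofHom φ hφ) pA chartA pB chartB
      (RelProj.domQ (RelProj.QGrHom.ofHom φ hφ) pB chartB) Φ) :
    IsAffineHom Φ ∧
      ∀ (U : Y.Opens) (hU : IsAffineOpen U),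
        RelProj.domQ (RelProj.QGrHom.ofHom φ hφ) pB chartB ⊓ pB ⁻¹ᵁ U =
          (RelProj.emb pB chartB U hU) ''ᵁ RelCone.domOpen (RelProj.gradedHomAt φ hφ U hU) := by
  have hv := ProjQRel.glue_of_isProjQMapOn (RelProj.QGrHom.ofHom φ hφ) pA chartA pB chartB Φ hΦ
  refine ⟨ProjQRel.of_chartwise (RelProj.QGrHom.ofHom φ hφ) pA chartA hA pB chartB hB @IsAffineHom Φ hv
    (fun U hU => ProjQ.isAffineHom_vQ _), fun U hU => ?_⟩
  have h1 := ProjQRel.domQ_inf_preimage (RelProj.QGrHom.ofHom φ hφ) pB chartB hB (pairId U hU)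
  have h2 : ProjQRel.D (RelProj.QGrHom.ofHom φ hφ) (pairId U hU) =
      RelCone.domOpen (RelProj.gradedHomAt φ hφ U hU) :=
    congrArg RelCone.domOpen (ProjQRel.φQ_ofHom 𝒜 ℬ φ hφ U hU)
  rw [← h2]
  exact h1

end Groth.Agent.S12140
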