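import Groth.Statements.S12147
-- import your own Groth.Agent.* helpers here

set_option autoImplicit false
universe u
open CategoryTheory CategoryTheory.Limits AlgebraicGeometry TopologicalSpace Opposite
open scoped HomogeneousIdeal
noncomputable section
open EGA2

namespace Groth.Agent.S12147


/-- Let q : X → Y be a morphism, L an invertible O_X-module with 𝒮L = ⊕ L^{⊗n} (whose Proj, with its
charts, is X), v : 𝒯 → 𝒮 a graded homomorphism of quasi-coherent positively graded O_Y-algebras, ψ♭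
= u : 𝒮 → q_*𝒮L a graded q-morphism and ψ'♭ = u' its composite with v. Then the open of definition
G(ψ') of r_{L,ψ'} is contained in the open of definition G(ψ) of r_{L,ψ}; in particular, if r_{L,ψ'}
is everywhere defined then so is r_{L,ψ}. -/
theorem result {Y X P PL : Scheme.{u}} (q : X ⟶ Y)
    (L : X.Modules) (hL : PicF.IsInvertible L) (hLq : Coh.IsQCoh L)
    (𝒮 : RelProj.QCGrAlg Y) (𝒮L : RelProj.QCGrAlg X) (j : L ⟶ 𝒮L.toModule) (hj : RelProj.IsGrSymAlg L 𝒮L j)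
    (u : RelProj.QGrHom q 𝒮 𝒮L)
    (p : P ⟶ Y) (chart : ∀ (U : Y.Opens) (hU : IsAffineOpen U), (((p ⁻¹ᵁ U : P.Opens) : Scheme.{u}) ≅ Proj (𝒮.deg U hU)))
    (hP : RelProj.IsRelProj 𝒮 p chart)
    (pL : PL ⟶ X) (chartL : ∀ (U : X.Opens) (hU : IsAffineOpen U), (((pL ⁻¹ᵁ U : PL.Opens) : Scheme.{u}) ≅ Proj (𝒮L.deg U hU)))
    (hPL : RelProj.IsRelProj 𝒮L pL chartL)
    (𝒯 : RelProj.QCGrAlg Y) (v : 𝒯.toQCAlg ⟶ 𝒮.toQCAlg) (hv : RelProj.IsGradedHom v)
    (u' : RelProj.QGrHom q 𝒯 𝒮L) (hu' : ∀ U : Y.Opens, u'.app U = v.hom.app (op U) ≫ u.app U) :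
    RelProj.domQ u' pL chartL ≤ RelProj.domQ u pL chartL := by
  unfold RelProj.domQ
  apply iSup_mono
  rintro ⟨⟨⟨U, hU⟩, ⟨U', hU'⟩⟩, hle⟩
  apply Scheme.Hom.image_mono
  change RelCone.domOpen (u'.gradedAt U hU U' hU' hle) ≤ RelCone.domOpen (u.gradedAt U hU U' hU' hle)
  intro x hx
  obtain ⟨f, hf, hfx⟩ := (RelCone.mem_domOpen _ x).1 hx
  refine (RelCone.mem_domOpen _ x).2 ?_
  refine ⟨(v.hom.app (op U)).hom f, ?_, ?_⟩
  · have h0 : GradedRing.proj (𝒯.deg U hU) 0 f = 0 := hf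
    change GradedRing.proj (𝒮.deg U hU) 0 ((v.hom.app (op U)).hom f) = 0
    have := GradedRingHom.map_directSumDecompose (𝒯.deg U hU) (𝒮.deg U hU) (RelProj.gradedHomAt v hv U hU) (x := f) (i := 0)
    rw [GradedRing.proj_apply] at h0 ⊢
    rw [h0, map_zero] at this
    exact this.symm
  · convert hfx using 2
    simp only [RelProj.QGrHom.gradedAt_apply, RelSpec.QHom.appLE, hu']
    rfl

end Groth.Agent.S12147
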