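import Groth.Statements.S12148
import Groth.Agent.Lib.Helper28.ProjQComp

set_option autoImplicit false
universe u
open CategoryTheory CategoryTheory.Limits AlgebraicGeometry TopologicalSpace Opposite
open scoped HomogeneousIdeal
noncomputable section
open EGA2

namespace Groth.Agent.S12148

open Groth.Agent.Lib.Helper28

theorem isDominant_of_comp_closedImmersion {X Y Z : Scheme.{u}} (f : X ⟶ Y) (g : Y ⟶ Z)
    [IsClosedImmersion g] (h : IsDominant (f ≫ g)) : IsDominant f := by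
  rw [isDominant_iff, denseRange_iff_closure_range] at h ⊢
  have hg : Topology.IsClosedEmbedding g := g.isClosedEmbedding
  have h1 : Set.range (f ≫ g) = g '' Set.range f := by
    rw [← Set.range_comp]; rfl
  rw [h1, hg.closure_image_eq] at h
  rw [Set.eq_univ_iff_forall]
  intro y
  have hy : g y ∈ g '' closure (Set.range f) := by rw [h]; trivial
  obtain ⟨s, hs, hsy⟩ := hy
  rwa [← hg.injective hsy]

/-- Let q : X → Y be a morphism, L an invertible O_X-module with 𝒮L = ⊕ L^{⊗n} (whose Proj, with its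
charts, is X), v : 𝒯 → 𝒮 a graded homomorphism of quasi-coherent positively graded O_Y-algebras, ψ♭
= u : 𝒮 → q_*𝒮L a graded q-morphism and ψ'♭ = u' its composite with v; let r = r_{L,ψ} : G(ψ) →
Proj(𝒮) and r' = r_{L,ψ'} : G(ψ') → Proj(𝒯) be the associated morphisms. If v is (TN)-surjective
(there is n with v : 𝒯_k → 𝒮_k surjective for every k ≥ n, on sections over affine opens) and r' is
dominant, then r is dominant. -/
theorem result {Y X P PL P' : Scheme.{u}} (q : X ⟶ Y)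
    (L : X.Modules) (hL : PicF.IsInvertible L) (hLq : Coh.IsQCoh L)
    (𝒮 : RelProj.QCGrAlg Y) (𝒮L : RelProj.QCGrAlg X) (j : L ⟶ 𝒮L.toModule) (hj : RelProj.IsGrSymAlg L 𝒮L j)
    (u : RelProj.QGrHom q 𝒮 𝒮L)
    (p : P ⟶ Y) (chart : ∀ (U : Y.Opens) (hU : IsAffineOpen U), (((p ⁻¹ᵁ U : P.Opens) : Scheme.{u}) ≅ Proj (𝒮.deg U hU)))
    (hP : RelProj.IsRelProj 𝒮 p chart)
    (pL : PL ⟶ X) (chartL : ∀ (U : X.Opens) (hU : IsAffineOpen U), (((pL ⁻¹ᵁ U : PL.Opens) : Scheme.{u}) ≅ Proj (𝒮L.deg U hU)))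
    (hPL : RelProj.IsRelProj 𝒮L pL chartL)
    (r : ((RelProj.domQ u pL chartL : PL.Opens) : Scheme.{u}) ⟶ P)
    (hr : RelProj.IsProjQMapOn u p chart pL chartL (RelProj.domQ u pL chartL) r)
    (𝒯 : RelProj.QCGrAlg Y) (v : 𝒯.toQCAlg ⟶ 𝒮.toQCAlg) (hv : RelProj.IsGradedHom v)
    (u' : RelProj.QGrHom q 𝒯 𝒮L) (hu' : ∀ U : Y.Opens, u'.app U = v.hom.app (op U) ≫ u.app U)
    (p' : P' ⟶ Y) (chart' : ∀ (U : Y.Opens) (hU : IsAffineOpen U), (((p' ⁻¹ᵁ U : P'.Opens) : Scheme.{u}) ≅ Proj (𝒯.deg U hU)))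
    (hP' : RelProj.IsRelProj 𝒯 p' chart')
    (r' : ((RelProj.domQ u' pL chartL : PL.Opens) : Scheme.{u}) ⟶ P')
    (hr' : RelProj.IsProjQMapOn u' p' chart' pL chartL (RelProj.domQ u' pL chartL) r')
    (hTN : ∃ n : ℕ, ∀ k, n ≤ k → ∀ (U : Y.Opens) (hU : IsAffineOpen U), ∀ y ∈ 𝒮.deg U hU k,
      ∃ x ∈ 𝒯.deg U hU k, (v.hom.app (op U)).hom x = y) (hdom : IsDominant r') :
    IsDominant r := by
  obtain ⟨rv, i, k, hrv, hi, hk, hcomp, -⟩ :=
    ProjQComp.exists_comp u v hv u' hu' p chart hP p' chart' hP' pL chartL hPL r hr r' hr'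
  have hS := ProjQRel.tnSurj_ofHom 𝒯 𝒮 v hv hTN
  have hvtop : RelProj.domQ (RelProj.QGrHom.ofHom v hv) p chart = ⊤ :=
    ProjQRel.domQ_eq_top_of_forall (RelProj.QGrHom.ofHom v hv) p chart
      (fun U hU => ProjQ.dom_eq_top_of_tnSurj _ (hS U hU))
  have hrvci : IsClosedImmersion rv :=
    ProjQRel.of_chartwise (RelProj.QGrHom.ofHom v hv) p' chart' hP' p chart hP
      @IsClosedImmersion rv hrv (fun U hU => ProjQ.isClosedImmersion_vQ _ (hS U hU))
  have hιv : IsIso (RelProj.domQ (RelProj.QGrHom.ofHom v hv) p chart).ι := by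
    rw [hvtop]; exact (Scheme.topIso P).isIso_hom
  have hk' : IsDominant k := by
    apply isDominant_of_comp_closedImmersion k rv
    rw [hcomp]; exact hdom
  have h2 : IsDominant (i ≫ r) := by
    rw [← hk]; infer_instance
  exact IsDominant.of_comp i r

end Groth.Agent.S12148
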