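import Groth.Statements.S12149
import Groth.Agent.Lib.Helper28.ProjQComp

set_option autoImplicit false
universe u
open CategoryTheory CategoryTheory.Limits AlgebraicGeometry TopologicalSpace Opposite
open scoped HomogeneousIdeal
noncomputable section
open EGA2

namespace Groth.Agent.S12149

open Groth.Agent.Lib.Helper28
open HomogeneousLocalization

theorem isDominant_specMap_of_injective {R S : CommRingCat.{u}} (f : R ⟶ S)
    (hf : Function.Injective f.hom) : IsDominant (Spec.map f) := by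
  rw [isDominant_iff]
  change DenseRange (PrimeSpectrum.comap f.hom)
  rw [PrimeSpectrum.denseRange_comap_iff_ker_le_nilRadical,
    (RingHom.injective_iff_ker_eq_bot f.hom).1 hf]
  exact bot_le

set_option backward.isDefEq.respectTransparency false in
theorem isDominant_vQ {A B : Type u} [CommRing A] [CommRing B] {𝒜 : ℕ → AddSubgroup A}
    {ℬ : ℕ → AddSubgroup B} [GradedRing 𝒜] [GradedRing ℬ] (φ : 𝒜 →+*ᵍ ℬ) (h : ProjQ.TNInj φ) :
    IsDominant (ProjQ.vQ φ) :=
  ProjQ.of_away φ @IsDominant fun _ hi _ hs =>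
    isDominant_specMap_of_injective _ (ProjQ.away_map_injective_of_tnInj φ h hi hs)

/-- Let q : X → Y be a morphism, L an invertible O_X-module with 𝒮L = ⊕ L^{⊗n} (whose Proj, with its
charts, is X), v : 𝒯 → 𝒮 a graded homomorphism of quasi-coherent positively graded O_Y-algebras, ψ♭
= u : 𝒮 → q_*𝒮L a graded q-morphism and ψ'♭ = u' its composite with v; let r = r_{L,ψ} : G(ψ) →
Proj(𝒮) and r' = r_{L,ψ'} : G(ψ') → Proj(𝒯) be the associated morphisms. If v is (TN)-injective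
(there is n with v injective on 𝒯_k for every k ≥ n, on sections over affine opens) and r is
dominant, then r' is dominant. -/
theorem result {Y X P PL P' : Scheme.{u}} (q : X ⟶ Y)
    (L : X.Modules) (hL : PicF.IsInvertible L) (hLq : Coh.IsQCoh L)
    (𝒮 : RelProj.QCGrAlg Y) (𝒮L : RelProj.QCGrAlg X) (j : L ⟶ 𝒮L.toModule) (hj : RelProj.IsGrSymAlg L 𝒮L j)
    (u : RelProj.QGrHom q 𝒮 𝒮L)
    (p : P ⟶ Y) (chart : ∀ (U : Y.Opens) (hU : IsAffineOpen U), (((p ⁻¹ᵁ U : P.Opens) : Scheme.{u}) ≅ Proj (𝒮.deg U hU)))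
    (hP : RelProj.IsRelProj 𝒮 p chart)
    (pL : PL ⟶ X) (chartL : ∀ (U : X.Opens) (hU : IsAffineOpen U), (((pL ⁻¹ᵁ U : PL.Opens) : Scheme.{u}) ≅ Proj (𝒮L.deg U hU)))
    (hPL : RelProj.IsRelProj 𝒮L pL chartL)
    (r : ((RelProj.domQ u pL chartL : PL.Opens) : Scheme.{u}) ⟶ P)
    (hr : RelProj.IsProjQMapOn u p chart pL chartL (RelProj.domQ u pL chartL) r)
    (𝒯 : RelProj.QCGrAlg Y) (v : 𝒯.toQCAlg ⟶ 𝒮.toQCAlg) (hv : RelProj.IsGradedHom v)
    (u' : RelProj.QGrHom q 𝒯 𝒮L) (hu' : ∀ U : Y.Opens, u'.app U = v.hom.app (op U) ≫ u.app U)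
    (p' : P' ⟶ Y) (chart' : ∀ (U : Y.Opens) (hU : IsAffineOpen U), (((p' ⁻¹ᵁ U : P'.Opens) : Scheme.{u}) ≅ Proj (𝒯.deg U hU)))
    (hP' : RelProj.IsRelProj 𝒯 p' chart')
    (r' : ((RelProj.domQ u' pL chartL : PL.Opens) : Scheme.{u}) ⟶ P')
    (hr' : RelProj.IsProjQMapOn u' p' chart' pL chartL (RelProj.domQ u' pL chartL) r')
    (hTN : ∃ n : ℕ, ∀ k, n ≤ k → ∀ (U : Y.Opens) (hU : IsAffineOpen U), ∀ x ∈ 𝒯.deg U hU k,
      (v.hom.app (op U)).hom x = 0 → x = 0) (hdom : IsDominant r) :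
    IsDominant r' := by
  obtain ⟨rv, i, k, hrv, hi, hk, hcomp, hmem⟩ :=
    ProjQComp.exists_comp u v hv u' hu' p chart hP p' chart' hP' pL chartL hPL r hr r' hr'
  have hI := ProjQRel.tnInj_ofHom 𝒯 𝒮 v hv hTN
  have hrvd : IsDominant rv :=
    ProjQRel.of_chartwise (RelProj.QGrHom.ofHom v hv) p' chart' hP' p chart hP
      @IsDominant rv hrv (fun U hU => isDominant_vQ _ (hI U hU))
  have hk' : IsDominant k := by
    rw [isDominant_iff, DenseRange, dense_iff_inter_open]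
    intro O hO hne
    have hO' : IsOpen ((RelProj.domQ (RelProj.QGrHom.ofHom v hv) p chart).ι '' O) :=
      (RelProj.domQ (RelProj.QGrHom.ofHom v hv) p chart).ι.isOpenEmbedding.isOpenMap O hO
    obtain ⟨_, ⟨w, hwO, rfl⟩, z, hz⟩ := (dense_iff_inter_open.1 hdom.denseRange) _ hO' (hne.image _)
    have hzv : r z ∈ RelProj.domQ (RelProj.QGrHom.ofHom v hv) p chart := by
      change r.base z ∈ _
      rw [hz]
      exact w.2
    have hz' := (hmem z).2 hzv
    let z' : ((RelProj.domQ u' pL chartL : PL.Opens) : Scheme.{u}) := ⟨_, hz'⟩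
    have hiz : i z' = z := by
      apply (RelProj.domQ u pL chartL).ι.isOpenEmbedding.injective
      rw [← Scheme.Hom.comp_apply, hi]
      rfl
    have hkz : k z' = w := by
      apply (RelProj.domQ (RelProj.QGrHom.ofHom v hv) p chart).ι.isOpenEmbedding.injective
      rw [← Scheme.Hom.comp_apply, hk, Scheme.Hom.comp_apply, hiz]
      exact hz
    exact ⟨w, hwO, z', hkz⟩
  rw [← hcomp]
  infer_instance

end Groth.Agent.S12149
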