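import Groth.Statements.S12154
import Groth.Agent.Lib.Helper28.ProjQComp

set_option autoImplicit false
universe u
open CategoryTheory CategoryTheory.Limits AlgebraicGeometry TopologicalSpace Opposite
open scoped HomogeneousIdeal
noncomputable section
open EGA2

namespace Groth.Agent.S12154

open Groth.Agent.Lib.Helper28

/-- Let q : X → Y be a morphism, L an invertible O_X-module with 𝒮L = ⊕ L^{⊗n} (whose Proj, with its
charts, is X), v : 𝒯 → 𝒮 a graded homomorphism of quasi-coherent positively graded O_Y-algebras, ψ♭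
= u : 𝒮 → q_*𝒮L a graded q-morphism and ψ'♭ = u' its composite with v; let r = r_{L,ψ} : G(ψ) →
Proj(𝒮) and r' = r_{L,ψ'} : G(ψ') → Proj(𝒯), with r' everywhere defined and v (TN)-surjective (v :
𝒯_k → 𝒮_k surjective for all large k, on sections over affine opens). If r' is an open immersion, so
is r; if r' is a closed immersion, so is r. -/
theorem result {Y X P PL P' : Scheme.{u}} (q : X ⟶ Y)
    (L : X.Modules) (hL : PicF.IsInvertible L) (hLq : Coh.IsQCoh L)
    (𝒮 : RelProj.QCGrAlg Y) (𝒮L : RelProj.QCGrAlg X) (j : L ⟶ 𝒮L.toModule) (hj : RelProj.IsGrSymAlg L 𝒮L j)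
    (u : RelProj.QGrHom q 𝒮 𝒮L)
    (p : P ⟶ Y) (chart : ∀ (U : Y.Opens) (hU : IsAffineOpen U), (((p ⁻¹ᵁ U : P.Opens) : Scheme.{u}) ≅ Proj (𝒮.deg U hU)))
    (hP : RelProj.IsRelProj 𝒮 p chart)
    (pL : PL ⟶ X) (chartL : ∀ (U : X.Opens) (hU : IsAffineOpen U), (((pL ⁻¹ᵁ U : PL.Opens) : Scheme.{u}) ≅ Proj (𝒮L.deg U hU)))
    (hPL : RelProj.IsRelProj 𝒮L pL chartL)
    (r : ((RelProj.domQ u pL chartL : PL.Opens) : Scheme.{u}) ⟶ P)
    (hr : RelProj.IsProjQMapOn u p chart pL chartL (RelProj.domQ u pL chartL) r)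
    (𝒯 : RelProj.QCGrAlg Y) (v : 𝒯.toQCAlg ⟶ 𝒮.toQCAlg) (hv : RelProj.IsGradedHom v)
    (u' : RelProj.QGrHom q 𝒯 𝒮L) (hu' : ∀ U : Y.Opens, u'.app U = v.hom.app (op U) ≫ u.app U)
    (p' : P' ⟶ Y) (chart' : ∀ (U : Y.Opens) (hU : IsAffineOpen U), (((p' ⁻¹ᵁ U : P'.Opens) : Scheme.{u}) ≅ Proj (𝒯.deg U hU)))
    (hP' : RelProj.IsRelProj 𝒯 p' chart')
    (r' : ((RelProj.domQ u' pL chartL : PL.Opens) : Scheme.{u}) ⟶ P')
    (hr' : RelProj.IsProjQMapOn u' p' chart' pL chartL (RelProj.domQ u' pL chartL) r')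
    (hTN : ∃ n : ℕ, ∀ k, n ≤ k → ∀ (U : Y.Opens) (hU : IsAffineOpen U), ∀ y ∈ 𝒮.deg U hU k,
      ∃ x ∈ 𝒯.deg U hU k, (v.hom.app (op U)).hom x = y)
    (hdef : RelProj.domQ u' pL chartL = ⊤) :
    (IsOpenImmersion r' → IsOpenImmersion r) ∧ (IsClosedImmersion r' → IsClosedImmersion r) := by
  have htop : RelProj.domQ u pL chartL = ⊤ :=
    top_unique (hdef ▸ ProjQComp.domQ_comp_le u v hv u' hu' pL chartL)
  obtain ⟨rv, i, k, hrv, hi, hk, hcomp, -⟩ :=
    ProjQComp.exists_comp u v hv u' hu' p chart hP p' chart' hP' pL chartL hPL r hr r' hr'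
  have hS := ProjQRel.tnSurj_ofHom 𝒯 𝒮 v hv hTN
  have hvtop : RelProj.domQ (RelProj.QGrHom.ofHom v hv) p chart = ⊤ :=
    ProjQRel.domQ_eq_top_of_forall (RelProj.QGrHom.ofHom v hv) p chart
      (fun U hU => ProjQ.dom_eq_top_of_tnSurj _ (hS U hU))
  have hrvci : IsClosedImmersion rv :=
    ProjQRel.of_chartwise (RelProj.QGrHom.ofHom v hv) p' chart' hP' p chart hP
      @IsClosedImmersion rv hrv (fun U hU => ProjQ.isClosedImmersion_vQ _ (hS U hU))
  have hmono : Mono rv := inferInstance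
  have hι : IsIso (RelProj.domQ u pL chartL).ι := by
    rw [htop]; exact (Scheme.topIso PL).isIso_hom
  have hι' : IsIso (RelProj.domQ u' pL chartL).ι := by
    rw [hdef]; exact (Scheme.topIso PL).isIso_hom
  have hιv : IsIso (RelProj.domQ (RelProj.QGrHom.ofHom v hv) p chart).ι := by
    rw [hvtop]; exact (Scheme.topIso P).isIso_hom
  have hiso : IsIso i := by
    have h1 : IsIso (i ≫ (RelProj.domQ u pL chartL).ι) := by rw [hi]; exact hι'
    exact IsIso.of_isIso_comp_right i (RelProj.domQ u pL chartL).ι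
  have key : ∀ (Pr : MorphismProperty Scheme.{u}) [Pr.IsStableUnderBaseChange] [Pr.RespectsIso],
      Pr r' → Pr r := by
    intro Pr _ _ hPr
    have h1 : Pr (k ≫ rv) := by rw [hcomp]; exact hPr
    have h2 : Pr k := MorphismProperty.of_postcomp (W := Pr)
      (W' := MorphismProperty.monomorphisms Scheme.{u}) k rv hmono h1
    have h3 : Pr (k ≫ (RelProj.domQ (RelProj.QGrHom.ofHom v hv) p chart).ι) :=
      (Pr.cancel_right_of_respectsIso k _).2 h2
    rw [hk] at h3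
    exact (Pr.cancel_left_of_respectsIso i r).1 h3
  exact ⟨fun h => key @IsOpenImmersion h, fun h => key @IsClosedImmersion h⟩

end Groth.Agent.S12154
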