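import Groth.Statements.S12157
import Groth.Agent.Lib.Helper28.ConeFunct3

set_option autoImplicit false
universe u
open CategoryTheory CategoryTheory.Limits AlgebraicGeometry TopologicalSpace Opposite
open scoped HomogeneousIdeal
noncomputable section
open EGA2

namespace Groth.Agent.S12157

open Groth.Agent.Lib.Helper28.RelProjBC (AffPair cover)
open Groth.Agent.Lib.Helper28.RelProjQ (φQ)
open Groth.Agent.Lib.Helper28.ProjQ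
open Groth.Agent.Lib.Helper28.ProjQRel
open Groth.Agent.Lib.Helper28.ProjQCone
open Groth.Agent.Lib.Helper28.ConeImm
open Groth.Agent.Lib.Helper28.ConeFunct
open Groth.Agent.Lib.Helper28.ConeFunct3


/-- Let q : Y' → Y be a morphism, φ : 𝒮 → q_*𝒮' a graded q-morphism of quasi-coherent positively graded
algebras with 𝒮_0 = O_Y, 𝒮'_0 = O_{Y'}, φ̂ : 𝒮[z] → q_*𝒮'[z] its extension with φ̂(z) = z, Ĉ =
Proj(𝒮[z]), Ĉ' = Proj(𝒮'[z]) the projective cones with pointed cones Ê, Ê', and Φ̂ = Proj(φ̂) :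
G(φ̂) → Ĉ; let Φ = Spec(φ) : C' = Spec(𝒮') → C = Spec(𝒮) be the morphism of affine cones and i : C →
Ĉ, i' : C' → Ĉ' the canonical open immersions. Then i'(C') ⊆ G(φ̂) and the square formed by Φ, i', i
and Φ̂ commutes. -/
theorem result {Y Y' PC PC' : Scheme.{u}} (q : Y' ⟶ Y)
    (𝒮 : RelProj.QCGrAlg Y) (𝒮' : RelProj.QCGrAlg Y') (h0 : RelCone.StrZeroBij 𝒮) (h0' : RelCone.StrZeroBij 𝒮')
    (u : RelProj.QGrHom q 𝒮 𝒮')
    (𝒮h : RelProj.QCGrAlg Y) (ι : 𝒮.toQCAlg ⟶ 𝒮h.toQCAlg) (z : 𝒮h.presheaf.obj (op ⊤))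
    (hz : RelCone.IsPolyOver 𝒮 𝒮h ι z)
    (pC : PC ⟶ Y) (chartC : ∀ (U : Y.Opens) (hU : IsAffineOpen U), (((pC ⁻¹ᵁ U : PC.Opens) : Scheme.{u}) ≅ Proj (𝒮h.deg U hU)))
    (hC : RelProj.IsRelProj 𝒮h pC chartC)
    (𝒮h' : RelProj.QCGrAlg Y') (ι' : 𝒮'.toQCAlg ⟶ 𝒮h'.toQCAlg) (z' : 𝒮h'.presheaf.obj (op ⊤))
    (hz' : RelCone.IsPolyOver 𝒮' 𝒮h' ι' z')
    (pC' : PC' ⟶ Y') (chartC' : ∀ (U : Y'.Opens) (hU : IsAffineOpen U), (((pC' ⁻¹ᵁ U : PC'.Opens) : Scheme.{u}) ≅ Proj (𝒮h'.deg U hU)))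
    (hC' : RelProj.IsRelProj 𝒮h' pC' chartC')
    (uh : RelProj.QGrHom q 𝒮h 𝒮h')
    (huh : ∀ U : Y.Opens, ι.hom.app (op U) ≫ uh.app U = u.app U ≫ ι'.hom.app (op (q ⁻¹ᵁ U)))
    (huhz : (uh.app ⊤).hom z = RelCone.restrictTop 𝒮h' z' (q ⁻¹ᵁ ⊤))
    (Φh : ((RelProj.domQ uh pC' chartC' : PC'.Opens) : Scheme.{u}) ⟶ PC)
    (hΦh : RelProj.IsProjQMapOn uh pC chartC pC' chartC' (RelProj.domQ uh pC' chartC') Φh)
    (Φc : 𝒮'.toQCAlg.spec ⟶ 𝒮.toQCAlg.spec) (hΦc : RelSpec.IsSpecQMap u.toQHom Φc)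
    (i : 𝒮.toQCAlg.spec ⟶ PC) (hi : RelCone.IsConeImm 𝒮 hz pC chartC i)
    (i' : 𝒮'.toQCAlg.spec ⟶ PC') (hi' : RelCone.IsConeImm 𝒮' hz' pC' chartC' i') :
    Set.range i'.base ⊆ ((RelProj.domQ uh pC' chartC' : PC'.Opens) : Set PC') ∧
      ∀ i'' : 𝒮'.toQCAlg.spec ⟶ ((RelProj.domQ uh pC' chartC' : PC'.Opens) : Scheme.{u}),
        i'' ≫ (RelProj.domQ uh pC' chartC').ι = i' → i'' ≫ Φh = Φc ≫ i := by
  constructor
  · rintro _ ⟨c', rfl⟩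
    obtain ⟨t, ht⟩ := cover q (𝒮'.toQCAlg.π c')
    rw [Scheme.Opens.range_ι] at ht
    obtain ⟨x', rfl⟩ := (mem_range_ι_iff 𝒮' t.hU' c').2 ht
    change i' (𝒮'.toQCAlg.ι t.U' t.hU' x') ∈ RelProj.domQ uh pC' chartC'
    rw [i_ι_apply hz' pC' chartC' i' hi' t.U' t.hU' x']
    refine emb_mem_domQ uh pC' chartC' t _ ?_
    change _ ∈ RelCone.domOpen (φQ uh t)
    rw [mem_dom_iff]
    refine ⟨1, one_pos, RelCone.restrictTop 𝒮h z t.U, hz.deg_z t.U t.hU, ?_⟩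
    intro hmem
    have h2 : RelCone.restrictTop 𝒮h' z' t.U' ∈ (ptU hz' t.U' t.hU' x').asHomogeneousIdeal :=
      Eq.mp (congrArg (fun y => y ∈ (ptU hz' t.U' t.hU' x').asHomogeneousIdeal)
        (φQ_uh_z uh huhz t)) hmem
    have h3 : ptU hz' t.U' t.hU' x' ∈ Proj.basicOpen (𝒮h'.deg t.U' t.hU')
        (RelCone.restrictTop 𝒮h' z' t.U') := by
      rw [← Proj.opensRange_awayι _ _ (hz'.deg_z t.U' t.hU') one_pos]
      exact ⟨_, rfl⟩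
    exact (Proj.mem_basicOpen _ _ _).1 h3 h2
  · intro i'' hi''
    refine spec_hom_ext_pairs q 𝒮'.toQCAlg _ _ fun t => ?_
    rw [reassoc_of% (hΦc t.U t.hU t.U' t.hU' t.hle), hi t.U t.hU, ← Category.assoc]
    exact chart_key u hz pC chartC hz' pC' chartC' uh huh Φh hΦh t _ (φQ_uh_z uh huhz t)
      (hz'.deg_z t.U' t.hU') (hz'.awayZToBase t.U' t.hU') (ha0 hz' t.U' t.hU')
      (𝒮'.toQCAlg.ι t.U' t.hU' ≫ i'') (by rw [Category.assoc, hi'', hi' t.U' t.hU'])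

end Groth.Agent.S12157
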