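import Groth.Statements.S12166
import Groth.Agent.Lib.Helper28.ProjQRel

set_option autoImplicit false
universe u
open CategoryTheory CategoryTheory.Limits AlgebraicGeometry TopologicalSpace Opposite
open scoped HomogeneousIdeal
noncomputable section
open EGA2

namespace Groth.Agent.S12166

open Groth.Agent.Lib.Helper28

/-- Let φ : 𝒜 → ℬ be a graded homomorphism of quasi-coherent positively graded O_Y-algebras which is a
(TN)-isomorphism (φ : 𝒜_k → ℬ_k bijective for all large k, on sections over affine opens), PA =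
Proj(𝒜), PB = Proj(ℬ) with their charts. Then Proj(φ) is defined on all of PB and is an isomorphism
PB → PA. -/
theorem result {Y PA PB : Scheme.{u}} (𝒜 ℬ : RelProj.QCGrAlg Y)
    (φ : 𝒜.toQCAlg ⟶ ℬ.toQCAlg) (hφ : RelProj.IsGradedHom φ)
    (hTN : ∃ n : ℕ, ∀ k, n ≤ k → ∀ (U : Y.Opens) (hU : IsAffineOpen U),
      (∀ x ∈ 𝒜.deg U hU k, (φ.hom.app (op U)).hom x = 0 → x = 0) ∧
        ∀ y ∈ ℬ.deg U hU k, ∃ x ∈ 𝒜.deg U hU k, (φ.hom.app (op U)).hom x = y)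
    (pA : PA ⟶ Y) (chartA : ∀ (U : Y.Opens) (hU : IsAffineOpen U), (((pA ⁻¹ᵁ U : PA.Opens) : Scheme.{u}) ≅ Proj (𝒜.deg U hU)))
    (hA : RelProj.IsRelProj 𝒜 pA chartA)
    (pB : PB ⟶ Y) (chartB : ∀ (U : Y.Opens) (hU : IsAffineOpen U), (((pB ⁻¹ᵁ U : PB.Opens) : Scheme.{u}) ≅ Proj (ℬ.deg U hU)))
    (hB : RelProj.IsRelProj ℬ pB chartB) :
    RelProj.domQ (RelProj.QGrHom.ofHom φ hφ) pB chartB = ⊤ ∧
      ∀ h : PB ⟶ PA, RelProj.IsProjQMap (RelProj.QGrHom.ofHom φ hφ) pA chartA pB chartB h → IsIso h := by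
  obtain ⟨n, hn⟩ := hTN
  have hS := ProjQRel.tnSurj_ofHom 𝒜 ℬ φ hφ ⟨n, fun k hk U hU => (hn k hk U hU).2⟩
  have hI := ProjQRel.tnInj_ofHom 𝒜 ℬ φ hφ ⟨n, fun k hk U hU => (hn k hk U hU).1⟩
  refine ⟨ProjQRel.domQ_eq_top_of_forall (RelProj.QGrHom.ofHom φ hφ) pB chartB
    (fun U hU => ProjQ.dom_eq_top_of_tnSurj _ (hS U hU)), fun h hh => ?_⟩
  exact ProjQRel.of_chartwise_total (RelProj.QGrHom.ofHom φ hφ) pA chartA hA pB chartB hB
    (MorphismProperty.isomorphisms Scheme.{u}) h hh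
    (fun U hU => ProjQ.isIso_vQ _ (hS U hU) (hI U hU))

end Groth.Agent.S12166
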