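import Groth.Statements.S12187
import Groth.Agent.S10721
import Mathlib.RingTheory.RingHom.Finite
-- import your own Groth.Agent.* helpers here

set_option autoImplicit false
universe u
open TensorProduct
open EtAlg

namespace Groth.Agent.S12187

theorem tensor_map_finite {R : Type u} [CommRing R] {R' : Type u} [CommRing R'] [Algebra R R']
    {A B : Type u} [CommRing A] [Algebra R A] [CommRing B] [Algebra R B] (φ : A →ₐ[R] B)
    (h : φ.toRingHom.Finite) :
    (Algebra.TensorProduct.map (AlgHom.id R R') φ).toRingHom.Finite := by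
  classical
  letI : Algebra A B := φ.toRingHom.toAlgebra
  have hft : Module.Finite A B := h
  obtain ⟨s, hs⟩ := hft.fg_top
  set G := (Algebra.TensorProduct.map (AlgHom.id R R') φ).toRingHom with hG
  letI : Algebra (R' ⊗[R] A) (R' ⊗[R] B) := G.toAlgebra
  change Module.Finite (R' ⊗[R] A) (R' ⊗[R] B)
  refine ⟨⟨s.image (fun b => (1 : R') ⊗ₜ[R] b), ?_⟩⟩
  rw [eq_top_iff]
  have hone : ∀ (b : B) (r' : R'), (r' ⊗ₜ[R] b) ∈
      Submodule.span (R' ⊗[R] A) ((s.image (fun b => (1 : R') ⊗ₜ[R] b) : Finset (R' ⊗[R] B)) : Set (R' ⊗[R] B)) := by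
    intro b
    have hb : b ∈ Submodule.span A (s : Set B) := by rw [hs]; trivial
    induction hb using Submodule.span_induction with
    | mem x hx =>
      intro r'
      have e : (r' ⊗ₜ[R] x) = (r' ⊗ₜ[R] (1 : A)) • ((1 : R') ⊗ₜ[R] x) := by
        rw [Algebra.smul_def]
        change _ = G _ * _
        simp [hG]
      rw [e]
      apply Submodule.smul_mem
      apply Submodule.subset_span
      rw [Finset.coe_image]
      exact Set.mem_image_of_mem _ hx
    | zero => intro r'; rw [TensorProduct.tmul_zero]; exact zero_mem _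
    | add x y _ _ hx hy =>
      intro r'
      rw [TensorProduct.tmul_add]; exact add_mem (hx r') (hy r')
    | smul a x _ hx =>
      intro r'
      have e : (r' ⊗ₜ[R] (a • x)) = ((1 : R') ⊗ₜ[R] a) • (r' ⊗ₜ[R] x) := by
        rw [Algebra.smul_def, Algebra.smul_def]
        change _ = G _ * _
        simp [hG]
        rfl
      rw [e]
      exact Submodule.smul_mem _ _ (hx r')
  rintro t -
  induction t using TensorProduct.induction_on with
  | zero => exact zero_mem _
  | add x y hx hy => exact add_mem hx hy
  | tmul r' b => exact hone b r'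



theorem exists_finset_mem_range {R : Type u} [CommRing R] {R' : Type u} [CommRing R'] [Algebra R R']
    {B : Type u} [CommRing B] [Algebra R B] (y : R' ⊗[R] B) :
    ∃ T : Finset B, ∀ N₁ : Submodule R B, (T : Set B) ⊆ N₁ →
      y ∈ LinearMap.range (LinearMap.lTensor R' N₁.subtype) := by
  classical
  induction y using TensorProduct.induction_on with
  | zero => exact ⟨∅, fun N₁ _ => zero_mem _⟩
  | tmul r' b =>
    refine ⟨{b}, fun N₁ hN₁ => ?_⟩
    have hb : b ∈ N₁ := hN₁ (by simp)
    exact ⟨r' ⊗ₜ[R] ⟨b, hb⟩, by simp⟩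
  | add x y hx hy =>
    obtain ⟨Tx, hTx⟩ := hx
    obtain ⟨Ty, hTy⟩ := hy
    refine ⟨Tx ∪ Ty, fun N₁ hN₁ => ?_⟩
    rw [Finset.coe_union] at hN₁
    exact add_mem (hTx N₁ (Set.subset_union_left.trans hN₁)) (hTy N₁ (Set.subset_union_right.trans hN₁))

theorem finite_of_glueing {R : Type u} [CommRing R] {R' : Type u} [CommRing R'] [Algebra R R'] {f : R}
    (hq : EtGlue.QuotPowBijective R R' f)
    {A B : Type u} [CommRing A] [Algebra R A] [CommRing B] [Algebra R B] (φ : A →ₐ[R] B)
    (h1 : (Localization.awayMap φ.toRingHom (algebraMap R A f)).Finite)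
    (h2 : (Algebra.TensorProduct.map (AlgHom.id R R') φ).toRingHom.Finite) :
    φ.toRingHom.Finite := by
  classical
  letI : Algebra A B := φ.toRingHom.toAlgebra
  haveI : IsScalarTower R A B := IsScalarTower.of_algebraMap_eq (fun r => (φ.commutes r).symm)
  set fA := algebraMap R A f with hfA
  set fB := φ.toRingHom fA with hfB
  have hfB' : fB = algebraMap R B f := φ.commutes f
  have hfB'' : fB = algebraMap A B fA := rfl
  set g := Localization.awayMap φ.toRingHom fA with hg
  letI : Algebra (Localization.Away fA) (Localization.Away fB) := g.toAlgebra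
  haveI : IsScalarTower A B (Localization.Away fB) := inferInstance
  haveI : IsScalarTower A (Localization.Away fA) (Localization.Away fB) :=
    IsScalarTower.of_algebraMap_eq (fun a => by
      rw [IsScalarTower.algebraMap_apply A B (Localization.Away fB)]
      change algebraMap B (Localization.Away fB) (φ.toRingHom a) = g (algebraMap A (Localization.Away fA) a)
      rw [hg]
      exact (IsLocalization.map_eq _ _).symm)
  haveI : IsLocalization ((Submonoid.powers fA).map (algebraMap A B)) (Localization.Away fB) := by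
    rw [Submonoid.map_powers]
    change IsLocalization (Submonoid.powers fB) (Localization.Away fB)
    infer_instance
  have hft1 : Module.Finite (Localization.Away fA) (Localization.Away fB) := h1
  obtain ⟨s, hs⟩ := hft1.fg_top
  set G := (Algebra.TensorProduct.map (AlgHom.id R R') φ).toRingHom with hG
  letI : Algebra (R' ⊗[R] A) (R' ⊗[R] B) := G.toAlgebra
  have hft2 : Module.Finite (R' ⊗[R] A) (R' ⊗[R] B) := h2
  obtain ⟨s2, hs2⟩ := hft2.fg_top
  choose Tof hTof using (exists_finset_mem_range (R := R) (R' := R') (B := B))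
  set T : Finset B := IsLocalization.finsetIntegerMultiple ((Submonoid.powers fA).map (algebraMap A B)) s ∪
    s2.biUnion Tof with hT
  set N₀ : Submodule A B := Submodule.span A (T : Set B) with hN₀
  have hTN₀ : (T : Set B) ⊆ N₀ := Submodule.subset_span
  -- torsion claim
  have htorsB : ∀ b : B, ∃ n : ℕ, fB ^ n * b ∈ N₀ := by
    intro b
    have hx : algebraMap B (Localization.Away fB) b ∈
        Submodule.span (Localization.Away fA) (s : Set (Localization.Away fB)) := by
      rw [hs]; trivial
    obtain ⟨⟨t, k, rfl⟩, ht⟩ := multiple_mem_span_of_mem_localization_span (Submonoid.powers fA)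
      (Localization.Away fA) (s : Set (Localization.Away fB)) _ hx
    have ht' : algebraMap B (Localization.Away fB) (fB ^ k * b) ∈
        Submodule.span A (s : Set (Localization.Away fB)) := by
      convert ht using 1
      rw [Submonoid.smul_def, Algebra.smul_def, IsScalarTower.algebraMap_apply A B (Localization.Away fB),
        map_mul, map_pow (algebraMap A B), hfB'']
    obtain ⟨⟨m, j, rfl⟩, hm⟩ := IsLocalization.smul_mem_finsetIntegerMultiple_span (M := Submonoid.powers fA)
      (S' := Localization.Away fB) (x := fB ^ k * b) (s := s) ht'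
    refine ⟨j + k, ?_⟩
    have hm' : fB ^ j * (fB ^ k * b) ∈ N₀ := by
      have h3 : Submodule.span A (IsLocalization.finsetIntegerMultiple
          ((Submonoid.powers fA).map (algebraMap A B)) s : Set B) ≤ N₀ := by
        apply Submodule.span_mono
        rw [hT, Finset.coe_union]
        exact Set.subset_union_left
      have h4 := h3 hm
      rw [Submonoid.smul_def, Algebra.smul_def, map_pow, ← hfB''] at h4
      exact h4
    rw [pow_add, mul_assoc]
    exact hm'
  set N : Submodule R B := N₀.restrictScalars R with hN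
  have hmemN : ∀ b : B, b ∈ N ↔ b ∈ N₀ := fun b => Iff.rfl
  have hTN : (T : Set B) ⊆ N := hTN₀
  have htors : ∀ x : B ⧸ N, ∃ n : ℕ, f ^ n • x = 0 := by
    intro x
    obtain ⟨b, rfl⟩ := Submodule.Quotient.mk_surjective N x
    obtain ⟨n, hn⟩ := htorsB b
    refine ⟨n, ?_⟩
    rw [← Submodule.Quotient.mk_smul, Submodule.Quotient.mk_eq_zero, hmemN, Algebra.smul_def, map_pow,
      ← hfB']
    exact hn
  set ι := LinearMap.lTensor R' N.subtype with hι
  -- the range of ι is stable under the action of R' ⊗ A
  have hstab1 : ∀ (r' : R') (a : A) (u : R' ⊗[R] N), ∃ v, G (r' ⊗ₜ[R] a) * ι u = ι v := by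
    intro r' a u
    induction u using TensorProduct.induction_on with
    | zero => exact ⟨0, by simp⟩
    | tmul x n =>
      refine ⟨(r' * x) ⊗ₜ[R] ⟨a • (n : B), ?_⟩, ?_⟩
      · rw [hmemN]; exact Submodule.smul_mem _ _ n.2
      · simp only [hι, hG, LinearMap.lTensor_tmul, Submodule.subtype_apply, AlgHom.toRingHom_eq_coe,
          RingHom.coe_coe, Algebra.TensorProduct.map_tmul, AlgHom.coe_id, id_eq,
          Algebra.TensorProduct.tmul_mul_tmul]
        rw [Algebra.smul_def]
        rfl
    | add x y hx hy =>
      obtain ⟨vx, hvx⟩ := hx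
      obtain ⟨vy, hvy⟩ := hy
      exact ⟨vx + vy, by rw [map_add, map_add, mul_add, hvx, hvy]⟩
  have hstab : ∀ (c : R' ⊗[R] A) (u : R' ⊗[R] N), ∃ v, G c * ι u = ι v := by
    intro c u
    induction c using TensorProduct.induction_on with
    | zero => exact ⟨0, by simp⟩
    | tmul r' a => exact hstab1 r' a u
    | add x y hx hy =>
      obtain ⟨vx, hvx⟩ := hx
      obtain ⟨vy, hvy⟩ := hy
      exact ⟨vx + vy, by rw [map_add, map_add, add_mul, hvx, hvy]⟩
  have hall : ∀ t : R' ⊗[R] B, t ∈ LinearMap.range ι := by
    intro t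
    have ht : t ∈ Submodule.span (R' ⊗[R] A) (s2 : Set (R' ⊗[R] B)) := by rw [hs2]; trivial
    induction ht using Submodule.span_induction with
    | mem y hy =>
      apply hTof y N
      intro b hb
      apply hTN
      rw [hT, Finset.coe_union]
      right
      rw [Finset.coe_biUnion]
      exact Set.mem_biUnion hy hb
    | zero => exact zero_mem _
    | add x y _ _ hx hy => exact add_mem hx hy
    | smul c x _ hx =>
      obtain ⟨u, rfl⟩ := hx
      obtain ⟨v, hv⟩ := hstab c u
      refine ⟨v, ?_⟩
      rw [← hv, Algebra.smul_def]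
      rfl
  have hzero : ∀ b : B, ((1 : R') ⊗ₜ[R] (Submodule.Quotient.mk b : B ⧸ N)) = 0 := by
    intro b
    obtain ⟨u, hu⟩ := hall ((1 : R') ⊗ₜ[R] b)
    have hcomp : ∀ u : R' ⊗[R] N, LinearMap.lTensor R' N.mkQ (ι u) = 0 := by
      intro u
      induction u using TensorProduct.induction_on with
      | zero => simp
      | tmul r' n =>
        have e1 : ι (r' ⊗ₜ[R] n) = r' ⊗ₜ[R] (n : B) := by simp [hι]
        rw [e1, LinearMap.lTensor_tmul]
        have e2 : N.mkQ (n : B) = 0 := by
          rw [Submodule.mkQ_apply, Submodule.Quotient.mk_eq_zero]; exact n.2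
        rw [e2, TensorProduct.tmul_zero]
      | add x y hx hy => rw [map_add, map_add, hx, hy, add_zero]
    have h3 := hcomp u
    rw [hu, LinearMap.lTensor_tmul] at h3
    exact h3
  change Module.Finite A B
  refine ⟨⟨T, ?_⟩⟩
  rw [eq_top_iff]
  rintro b -
  have hb := Groth.Agent.S10721.eq_zero_of_one_tmul_eq_zero hq htors _ (hzero b)
  rw [Submodule.Quotient.mk_eq_zero] at hb
  exact hb

/-- Glueing along a glueing pair detects finite morphisms of affine schemes, stated for coordinate
rings. Let (R → R', f) be a glueing pair and φ : A → B a homomorphism of R-algebras with A and B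
glueable as R-modules. Then φ is finite exactly when both induced maps A_f → B_f and R' ⊗_R A → R'
⊗_R B are finite. -/
theorem result (R : Type u) [CommRing R] (R' : Type u) [CommRing R'] [Algebra R R'] (f : R)
    (hRR' : EtGlue.IsGlueingPair R R' f) (A B : Type u) [CommRing A] [Algebra R A] [CommRing B] [Algebra R B]
    (hA : EtGlue.IsGlueable R R' f A) (hB : EtGlue.IsGlueable R R' f B) (φ : A →ₐ[R] B) :
    φ.toRingHom.Finite ↔ (Localization.awayMap φ.toRingHom (algebraMap R A f)).Finite ∧
      (Algebra.TensorProduct.map (AlgHom.id R R') φ).toRingHom.Finite := by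
  constructor
  · intro h
    exact ⟨RingHom.localization_away_map_finite A B _ _ φ.toRingHom (algebraMap R A f) h,
      tensor_map_finite φ h⟩
  · rintro ⟨h1, h2⟩
    exact finite_of_glueing hRR'.1 φ h1 h2

end Groth.Agent.S12187
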