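import Groth.Statements.S12193
import Groth.Agent.Lib.Helper3.SchImRed

set_option autoImplicit false
universe u
open CategoryTheory CategoryTheory.Limits AlgebraicGeometry
open AlgSp

namespace Groth.Agent.S12193

/-- Let X be a reduced algebraic space over S, f : X → Y a morphism of algebraic spaces over S, and Z →
Y the scheme theoretic image of f. Then forming the scheme theoretic image commutes with etale base
change: for every etale morphism V → Y of algebraic spaces and cartesian squares X ×_Y V, Z ×_Y V,
the closed subspace Z ×_Y V → V is the scheme theoretic image of X ×_Y V → V. -/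
theorem result {S : Scheme.{u}} {X Y Z V XV ZV : AlgSp.Space S} (f : X ⟶ Y)
    (i : Z ⟶ Y) (hX : AlgSp.IsReducedSp X.obj) (hZ : AlgSp.IsSchImage f.hom i.hom) (b : V ⟶ Y)
    (hb : AlgSp.IsEtaleMor b.hom) (f₁ : XV ⟶ X) (fV : XV ⟶ V) (i₁ : ZV ⟶ Z) (iV : ZV ⟶ V)
    (sqX : IsPullback f₁.hom fV.hom f.hom b.hom) (sqZ : IsPullback i₁.hom iV.hom i.hom b.hom) :
    AlgSp.IsSchImage fV.hom iV.hom := by
  open Groth.Agent.Lib.Helper3 Groth.Agent.Lib.Helper3.SchIm in
  obtain ⟨hcl, hr, hred⟩ := Groth.Agent.S9966.result f i hX hZ
  have hf₁ : AlgSp.IsEtaleMor f₁.hom :=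
    isEtaleMor_of_isPullback V.property Y.property X.property XV.property sqX.flip hb
  have hi₁ : AlgSp.IsEtaleMor i₁.hom :=
    isEtaleMor_of_isPullback V.property Y.property Z.property ZV.property sqZ.flip hb
  have hXV : AlgSp.IsReducedSp XV.obj := isReducedSp_of_isEtaleMor XV.property f₁.hom hf₁ hX
  have hZV : AlgSp.IsReducedSp ZV.obj := isReducedSp_of_isEtaleMor ZV.property i₁.hom hi₁ hred
  have hclV : AlgSp.RepWith @IsClosedImmersion iV.hom := MorphismProperty.of_isPullback sqZ hcl
  apply isSchImage_of_isRedInduced fV iV hXV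
  refine ⟨hclV, ?_, hZV⟩
  have h1 : Set.range (AlgSp.Points.map iV.hom) =
      AlgSp.Points.map b.hom ⁻¹' (Set.range (AlgSp.Points.map i.hom)) := by
    have := Points.preimage_image_of_isPullback sqZ Set.univ
    rw [Set.image_univ, Set.preimage_univ, Set.image_univ] at this
    exact this.symm
  have h2 : Set.range (AlgSp.Points.map fV.hom) =
      AlgSp.Points.map b.hom ⁻¹' (Set.range (AlgSp.Points.map f.hom)) := by
    have := Points.preimage_image_of_isPullback sqX Set.univ
    rw [Set.image_univ, Set.preimage_univ, Set.image_univ] at this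
    exact this.symm
  rw [h1, hr, h2]
  exact (isOpenMap_map_of_isEtaleMor V.property Y.property hb).preimage_closure_eq_closure_preimage
    (AlgSp.Points.continuous_map _) _

end Groth.Agent.S12193
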