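import Groth.Statements.S12195
import Groth.Agent.Lib.Helper15.AlgSpFormal2
-- import your own Groth.Agent.* helpers here

set_option autoImplicit false
universe u
open CategoryTheory CategoryTheory.Limits AlgebraicGeometry
open AlgSp

namespace Groth.Agent.S12195

section H
namespace W65
open Groth.Agent.Lib.Helper15.AlgSpFormal Groth.Agent.Lib.Helper15.AlgSpFormal2
open Groth.Agent.Lib.Helper9.AlgSpFU Groth.Agent.Lib.Helper9.AlgSpGlue Groth.Agent.Lib.Helper9.AlgSpFE
set_option backward.isDefEq.respectTransparency.types false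

variable {S : Scheme.{u}}

/-- existence of lifts along a square-zero closed immersion into an affine scheme, for a
formally smooth map of sheaves -/
theorem exists_of_affine_sqZero {F G : Sp S} (f : F ⟶ G) (hf : IsFormallySmoothMor f)
    {V W : Over S} (hV : IsAffine V.left) (s : W ⟶ V)
    (hs : IsClosedImmersion s.left) (hK : sqZero s.left)
    (top₀ : (yon S).obj W ⟶ F) (bot₀ : (yon S).obj V ⟶ G) (w : top₀ ≫ f = (yon S).map s ≫ bot₀) :
    ∃ l : (yon S).obj V ⟶ F, (yon S).map s ≫ l = top₀ ∧ l ≫ f = bot₀ := by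
  obtain ⟨A, _, I, hI, str, E', E, hE⟩ := exists_infSq_data hV s hs hK
  have e1 : E.inv ≫ s = (Over.homMk (Spec.map (CommRingCat.ofHom (Ideal.Quotient.mk I))) rfl :
      Over.mk (Spec.map (CommRingCat.ofHom (Ideal.Quotient.mk I)) ≫ str) ⟶ Over.mk str) ≫
      E'.inv := by
    rw [Iso.inv_comp_eq, ← Category.assoc, hE, Category.assoc, Iso.hom_inv_id, Category.comp_id]
  let sq : InfSq f :=
    { A := A
      I := I
      sq_zero := hI
      str := str
      top := (yon S).map E.inv ≫ top₀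
      bot := (yon S).map E'.inv ≫ bot₀
      comm := by
        calc ((yon S).map E.inv ≫ top₀) ≫ f
            = (yon S).map (E.inv ≫ s) ≫ bot₀ := by
              rw [Category.assoc, w, Functor.map_comp, Category.assoc]
          _ = _ := by rw [e1, Functor.map_comp, Category.assoc] }
  have e1' : E.inv ≫ s = sq.j ≫ E'.inv := e1
  obtain ⟨l₀, hl1, hl2⟩ := hf sq
  change (yon S).map sq.j ≫ l₀ = (yon S).map E.inv ≫ top₀ at hl1
  change l₀ ≫ f = (yon S).map E'.inv ≫ bot₀ at hl2
  have hiso : IsIso ((yon S).map E'.inv) := inferInstance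
  have hiso2 : IsIso ((yon S).map E.inv) := inferInstance
  have hEE : (yon S).map E'.hom ≫ (yon S).map E'.inv = 𝟙 _ := by
    rw [← Functor.map_comp, Iso.hom_inv_id, CategoryTheory.Functor.map_id]
  have hEE2 : (yon S).map E'.inv ≫ (yon S).map E'.hom = 𝟙 _ := by
    rw [← Functor.map_comp, Iso.inv_hom_id, CategoryTheory.Functor.map_id]
  refine ⟨(yon S).map E'.hom ≫ l₀, ?_, ?_⟩
  · rw [← cancel_epi ((yon S).map E.inv), ← hl1, ← Category.assoc, ← Category.assoc,
      ← Functor.map_comp, e1', Functor.map_comp, Category.assoc, Category.assoc,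
      ← Category.assoc ((yon S).map E'.inv), hEE2, Category.id_comp]
  · rw [Category.assoc, hl2, ← Category.assoc, hEE, Category.id_comp]

theorem main {F G H : AlgSp.Sp S} (a : F ⟶ G)
    (b : G ⟶ H) (ha : AlgSp.RepWith @Etale a) (ha' : AlgSp.RepWith @Surjective a)
    (hab : AlgSp.IsFormallySmoothMor (a ≫ b)) (sq : AlgSp.InfSq b) (t : ↥sq.ptT'.left) :
    ∃ (U' : Over S) (g : U' ⟶ sq.ptT') (l : (AlgSp.yon S).obj U' ⟶ G),
      IsAffine U'.left ∧ Etale g.left ∧ (∃ u : ↥U'.left, g.left u = t) ∧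
        l ≫ b = (AlgSp.yon S).map g ≫ sq.bot ∧
          ∀ (V : Over S) (p : V ⟶ sq.ptT) (q : V ⟶ U'), p ≫ sq.j = q ≫ g →
            (AlgSp.yon S).map q ≫ l = (AlgSp.yon S).map p ≫ sq.top := by
  have hrep : Representable a := ha.rep
  let P₀ : Over S := hrep.pullback sq.top
  let p₀ : P₀ ⟶ sq.ptT := hrep.snd sq.top
  let q₀ : (yon S).obj P₀ ⟶ F := hrep.fst sq.top
  have hpb₀ : IsPullback q₀ ((yon S).map p₀) a sq.top := hrep.isPullback sq.top
  have hp₀e : Etale p₀.left := ha.2 _ _ _ hpb₀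
  have hp₀s : Surjective p₀.left := ha'.2 _ _ _ hpb₀
  obtain ⟨y₀, hy₀⟩ := Groth.Agent.S1487.surjective_SpecMap_mk sq.I sq.sq_zero t
  obtain ⟨x, hxy⟩ := hp₀s.surj y₀
  obtain ⟨U, u, W₀, s, c, hUaff, hue, hc, hpb, hx⟩ :=
    Groth.Agent.Lib.Helper15.EtaleLiftSch.exists_etale_lift_nhd sq.I sq.sq_zero p₀.left x
  let UO : Over S := Over.mk (u ≫ sq.str)
  let uO : UO ⟶ sq.ptT' := Over.homMk u rfl
  let WO : Over S := Over.mk (c ≫ P₀.hom)
  let cO : WO ⟶ P₀ := Over.homMk c rfl
  have hsw : s ≫ UO.hom = WO.hom := by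
    change s ≫ u ≫ sq.str = c ≫ P₀.hom
    rw [← Category.assoc, hpb.w, Category.assoc, Category.assoc]
    congr 1
    exact Over.w p₀
  let sO : WO ⟶ UO := Over.homMk s hsw
  have hcommO : sO ≫ uO = (cO ≫ p₀) ≫ sq.j := by
    ext
    exact hpb.w
  have hpbO : IsPullback sO (cO ≫ p₀) uO sq.j := IsPullback.of_map (Over.forget S) hcommO hpb
  have hpbY : IsPullback ((yon S).map (cO ≫ p₀)) ((yon S).map sO)
      ((yon S).map sq.j) ((yon S).map uO) := (hpbO.map (yon S)).flip
  have hUO : IsAffine UO.left := hUaff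
  have hsK : IsClosedImmersion sO.left ∧ sqZero sO.left :=
    sqZero_of_isPullback sq.I sq.sq_zero u s (c ≫ p₀.left) hpb
  have w : ((yon S).map cO ≫ q₀) ≫ (a ≫ b) = (yon S).map sO ≫ ((yon S).map uO ≫ sq.bot) := by
    rw [Category.assoc, ← Category.assoc q₀, hpb₀.w, Category.assoc, sq.comm,
      ← Category.assoc, ← Category.assoc, ← Functor.map_comp, ← Functor.map_comp,
      ← Category.assoc, ← Functor.map_comp, hcommO]
  obtain ⟨m, hm1, hm2⟩ := exists_of_affine_sqZero (a ≫ b) hab hUO sO hsK.1 hsK.2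
    ((yon S).map cO ≫ q₀) ((yon S).map uO ≫ sq.bot) w
  have hlift : IsLift b ((yon S).map sq.j) sq.top sq.bot ((yon S).map uO) (m ≫ a) := by
    refine (isLift_iff_of_isPullback hpbY (m ≫ a)).2 ⟨?_, ?_⟩
    · rw [← Category.assoc, hm1, Category.assoc, hpb₀.w, Functor.map_comp, Category.assoc]
    · rw [Category.assoc, hm2]
  refine ⟨UO, uO, m ≫ a, hUO, hue, ?_, hlift.1, ?_⟩
  · obtain ⟨w₀, hw₀⟩ := hx
    refine ⟨s w₀, ?_⟩
    change (s ≫ u) w₀ = t
    rw [hpb.w]
    change Spec.map _ (p₀.left (c w₀)) = t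
    rw [hw₀, hxy, hy₀]
  · intro V p q hpq
    exact hlift.2 V ((yon S).map p) q (by rw [← Functor.map_comp, ← Functor.map_comp, hpq])

end W65
end H


/-- Let a : F ⟶ G be a representable, surjective and etale morphism of fppf sheaves on (Sch/S) and b : G
⟶ H a morphism such that a ≫ b is formally smooth. Consider a solid infinitesimal lifting square for
b: a square-zero thickening T = Spec (A/I) ⊂ T' = Spec A of affine schemes over S, a morphism T ⟶ G
and a morphism T' ⟶ H making the square commute. Then for every point t of T' there exist an affine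
scheme U', an etale morphism U' ⟶ T' whose image contains t, and a morphism U' ⟶ G lying over T' ⟶ H
whose restriction to T ×_{T'} U' agrees with the given T ⟶ G (stated for every scheme V mapping
compatibly to T and U'). (The published statement is for transformations of arbitrary presheaves of
sets on (Sch/S)_fppf; this row takes fppf sheaves, the case of algebraic spaces.) -/
theorem result {S : Scheme.{u}} {F G H : AlgSp.Sp S} (a : F ⟶ G)
    (b : G ⟶ H) (ha : AlgSp.RepWith @Etale a) (ha' : AlgSp.RepWith @Surjective a)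
    (hab : AlgSp.IsFormallySmoothMor (a ≫ b)) (sq : AlgSp.InfSq b) (t : ↥sq.ptT'.left) :
    ∃ (U' : Over S) (g : U' ⟶ sq.ptT') (l : (AlgSp.yon S).obj U' ⟶ G),
      IsAffine U'.left ∧ Etale g.left ∧ (∃ u : ↥U'.left, g.left u = t) ∧
        l ≫ b = (AlgSp.yon S).map g ≫ sq.bot ∧
          ∀ (V : Over S) (p : V ⟶ sq.ptT) (q : V ⟶ U'), p ≫ sq.j = q ≫ g →
            (AlgSp.yon S).map q ≫ l = (AlgSp.yon S).map p ≫ sq.top := by
  exact W65.main a b ha ha' hab sq t

end Groth.Agent.S12195
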