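import Groth.Statements.S12199
import Groth.Agent.S10312
import Groth.Agent.S10313
import Groth.Agent.Lib.Helper15.GrpLocus
import Groth.Agent.Lib.Helper3.AlgSpQC
-- import your own Groth.Agent.* helpers here

set_option autoImplicit false
universe u
open CategoryTheory CategoryTheory.Limits AlgebraicGeometry MonoidalCategory MonObj
open AlgSp

namespace Groth.Agent.S12199

section H
namespace W1
open Groth.Agent.Lib.Helper3 Groth.Agent.Lib.Helper15
set_option backward.isDefEq.respectTransparency.types false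

theorem main (S : Scheme.{u}) (B : AlgSp.Sp S) (hB : AlgSp.IsAlgSpace B)
    (G : Over B) [GrpObj G] (hG : AlgSp.IsAlgSpace G.left) (hlft : AlgSp.LocP @LocallyOfFiniteType G.hom) :
    (AlgSp.LocP (@LocallyOfFiniteType ⊓ @FormallyUnramified) G.hom ↔
        ∀ b : AlgSp.Points B, AlgSp.HasAtMor
          (fun U _ h u => ∃ W : U.Opens, u ∈ W ∧ LocallyOfFiniteType (W.ι ≫ h) ∧ FormallyUnramified (W.ι ≫ h))
          G.hom (AlgSp.Points.map (η[G]).left b)) ∧
    (AlgSp.LocP (@LocallyQuasiFinite ⊓ @LocallyOfFiniteType) G.hom ↔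
        ∀ b : AlgSp.Points B, AlgSp.HasAtMor
          (fun U _ h u => ∃ W : U.Opens, u ∈ W ∧ LocallyQuasiFinite (W.ι ≫ h) ∧ LocallyOfFiniteType (W.ι ≫ h))
          G.hom (AlgSp.Points.map (η[G]).left b)) := by
  let GX : AlgSp.Space S := ⟨G.left, hG⟩
  let BX : AlgSp.Space S := ⟨B, hB⟩
  let fX : GX ⟶ BX := ObjectProperty.homMk G.hom
  have sqid : IsPullback (𝟙 G.left) G.hom G.hom (𝟙 B) := IsPullback.of_horiz_isIso ⟨by simp⟩
  constructor
  · have hP := isEtLocal_unramified.{u}
    have hbc : ∀ {Y'' X'' : Sp S}, IsAlgSpace Y'' → IsAlgSpace X'' → ∀ (g : Y'' ⟶ B) (b : X'' ⟶ G.left)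
        (f'' : X'' ⟶ Y''), IsPullback b f'' G.hom g → ∀ x'' : Points X'',
        Points.map b x'' ∈ {x | HasAtMor (NbhdQ (@LocallyOfFiniteType ⊓ @FormallyUnramified)) G.hom x} ↔
          HasAtMor (NbhdQ (@LocallyOfFiniteType ⊓ @FormallyUnramified)) f'' x'' := by
      intro Y'' X'' hY'' hX'' g b f'' sq x''
      have h := (Groth.Agent.S10312.result fX fX (𝟙 BX) (Category.comp_id _) hlft
        (ObjectProperty.homMk g : (⟨Y'', hY''⟩ : AlgSp.Space S) ⟶ BX)
        (ObjectProperty.homMk g : (⟨Y'', hY''⟩ : AlgSp.Space S) ⟶ BX) (𝟙 _)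
        (IsPullback.of_vert_isIso ⟨by simp⟩)
        (ObjectProperty.homMk b : (⟨X'', hX''⟩ : AlgSp.Space S) ⟶ GX)
        (ObjectProperty.homMk f'') sq).2
      exact (Set.ext_iff.1 h x'').symm
    have key := GrpLocus.locP_iff_forall_mem B hB G hG
      (NbhdQ (@LocallyOfFiniteType ⊓ @FormallyUnramified))
      {x | HasAtMor (NbhdQ (@LocallyOfFiniteType ⊓ @FormallyUnramified)) G.hom x} hbc
      (@LocallyOfFiniteType ⊓ @FormallyUnramified)
      (fun {X'' Y''} hX'' hY'' f'' => ⟨fun h x'' => hasAtMor_of_locP hP hX'' hY'' f'' h x'',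
        fun h => locP_of_forall_hasAtMor hP hX'' hY'' f'' h⟩)
      hB hG (𝟙 B) (𝟙 G.left) G.hom sqid
    rw [key]
    refine forall_congr' fun y => ?_
    rw [Points.map_id]
    exact Iff.rfl
  · have hP := isEtLocal_locallyQuasiFinite.{u}
    obtain ⟨X', j, hj, -, -, hbc0⟩ := Groth.Agent.S10313.result fX hlft
    have hbc : ∀ {Y'' X'' : Sp S}, IsAlgSpace Y'' → IsAlgSpace X'' → ∀ (g : Y'' ⟶ B) (b : X'' ⟶ G.left)
        (f'' : X'' ⟶ Y''), IsPullback b f'' G.hom g → ∀ x'' : Points X'',
        Points.map b x'' ∈ Set.range (Points.map j.hom) ↔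
          HasAtMor (NbhdQ (@LocallyQuasiFinite ⊓ @LocallyOfFiniteType)) f'' x'' := by
      intro Y'' X'' hY'' hX'' g b f'' sq x''
      exact hbc0 ⟨Y'', hY''⟩ ⟨X'', hX''⟩ (ObjectProperty.homMk g) (ObjectProperty.homMk b)
        (ObjectProperty.homMk f'') sq x''
    have key := GrpLocus.locP_iff_forall_mem B hB G hG
      (NbhdQ (@LocallyQuasiFinite ⊓ @LocallyOfFiniteType))
      (Set.range (Points.map j.hom)) hbc
      (@LocallyQuasiFinite ⊓ @LocallyOfFiniteType)
      (fun {X'' Y''} hX'' hY'' f'' => ⟨fun h x'' => hasAtMor_of_locP hP hX'' hY'' f'' h x'',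
        fun h => locP_of_forall_hasAtMor hP hX'' hY'' f'' h⟩)
      hB hG (𝟙 B) (𝟙 G.left) G.hom sqid
    rw [key]
    refine forall_congr' fun y => ?_
    rw [Points.map_id]
    have := hbc hB hG (𝟙 B) (𝟙 G.left) G.hom sqid (Points.map (η[G]).left y)
    rw [Points.map_id] at this
    exact this

end W1
end H


/-- Let B be an algebraic space over S and G a group algebraic space over B with unit section e : B → G,
and suppose G is locally of finite type over B. Under this assumption, G → B is unramified exactly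
when it is unramified at e(b) for every point b of |B|, and G → B is locally quasi-finite exactly
when it is quasi-finite at e(b) for every point b of |B|. Here 'unramified (resp. quasi-finite) at a
point' is the some-chart-diagram form: there are etale charts of G and B and a compatible morphism
of schemes which is unramified (resp. locally quasi-finite of finite type) on an open neighbourhood
of a point over e(b). -/
theorem result (S : Scheme.{u}) (B : AlgSp.Sp S) (hB : AlgSp.IsAlgSpace B)
    (G : Over B) [GrpObj G] (hG : AlgSp.IsAlgSpace G.left) (hlft : AlgSp.LocP @LocallyOfFiniteType G.hom) :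
    (AlgSp.LocP (@LocallyOfFiniteType ⊓ @FormallyUnramified) G.hom ↔
        ∀ b : AlgSp.Points B, AlgSp.HasAtMor
          (fun U _ h u => ∃ W : U.Opens, u ∈ W ∧ LocallyOfFiniteType (W.ι ≫ h) ∧ FormallyUnramified (W.ι ≫ h))
          G.hom (AlgSp.Points.map (η[G]).left b)) ∧
    (AlgSp.LocP (@LocallyQuasiFinite ⊓ @LocallyOfFiniteType) G.hom ↔
        ∀ b : AlgSp.Points B, AlgSp.HasAtMor
          (fun U _ h u => ∃ W : U.Opens, u ∈ W ∧ LocallyQuasiFinite (W.ι ≫ h) ∧ LocallyOfFiniteType (W.ι ≫ h))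
          G.hom (AlgSp.Points.map (η[G]).left b)) := by
  exact W1.main S B hB G hG hlft

end Groth.Agent.S12199
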