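import Groth.Statements.S12205
import Mathlib
import Groth.Agent.Lib.Helper21.TorLES

set_option autoImplicit false
universe u
open CategoryTheory
open scoped TensorProduct
open CAlg

namespace Groth.Agent.S12205

section helpers
open Groth.Agent.Lib.Helper21.TorLES CategoryTheory CategoryTheory.Limits TensorProduct

/-- Flat base change gives injectivity after restricting scalars. -/
lemma rTensor_injective_of_flat_baseChange {R A : Type*} [CommRing R] [CommRing A] [Algebra R A]
    (M : Type*) [AddCommGroup M] [Module R M] [Module.Flat A (A ⊗[R] M)]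
    {K F : Type*} [AddCommGroup K] [Module A K] [Module R K] [IsScalarTower R A K]
    [AddCommGroup F] [Module A F] [Module R F] [IsScalarTower R A F]
    (ι : K →ₗ[A] F) (hι : Function.Injective ι) :
    Function.Injective (LinearMap.rTensor M (ι.restrictScalars R)) := by
  have htop : Function.Injective (LinearMap.rTensor (A ⊗[R] M) ι) :=
    Module.Flat.rTensor_preserves_injective_linearMap ι hι
  let eK := TensorProduct.AlgebraTensorModule.cancelBaseChange R A A K M
  let eF := TensorProduct.AlgebraTensorModule.cancelBaseChange R A A F M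
  have hsq : ∀ z, eF (LinearMap.rTensor (A ⊗[R] M) ι z) =
      LinearMap.rTensor M (ι.restrictScalars R) (eK z) := by
    intro z
    induction z using TensorProduct.induction_on with
    | zero => simp
    | tmul k y =>
      induction y using TensorProduct.induction_on with
      | zero => simp
      | tmul a m => simp [eK, eF]
      | add y₁ y₂ h₁ h₂ =>
        rw [TensorProduct.tmul_add, map_add, map_add, map_add, map_add, h₁, h₂]
    | add z₁ z₂ h₁ h₂ => rw [map_add, map_add, map_add, map_add, h₁, h₂]
  intro x y hxy
  obtain ⟨x', rfl⟩ := eK.surjective x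
  obtain ⟨y', rfl⟩ := eK.surjective y
  rw [← hsq, ← hsq] at hxy
  exact congrArg eK (htop (eF.injective hxy))

/-- Direct sums preserve injectivity after tensoring. -/
lemma rTensor_mapRange_injective {R : Type*} [CommRing R] (M : Type*) [AddCommGroup M] [Module R M]
    {P Q : Type*} [AddCommGroup P] [Module R P] [AddCommGroup Q] [Module R Q]
    (f : P →ₗ[R] Q) (hf : Function.Injective (LinearMap.rTensor M f)) (J : Type*) :
    Function.Injective (LinearMap.rTensor M (Finsupp.mapRange.linearMap (α := J) f)) := by
  classical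
  let eP := TensorProduct.finsuppLeft R R P M J
  let eQ := TensorProduct.finsuppLeft R R Q M J
  have hsq : eQ.toLinearMap ∘ₗ LinearMap.rTensor M (Finsupp.mapRange.linearMap (α := J) f) =
      Finsupp.mapRange.linearMap (α := J) (LinearMap.rTensor M f) ∘ₗ eP.toLinearMap := by
    apply TensorProduct.ext'
    intro p n
    induction p using Finsupp.induction_linear with
    | zero => simp
    | add p₁ p₂ h₁ h₂ =>
      rw [TensorProduct.add_tmul, map_add, map_add, h₁, h₂]
    | single j x =>
      simp [eP, eQ, TensorProduct.finsuppLeft_apply_tmul]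
  have hinj : Function.Injective (Finsupp.mapRange.linearMap (α := J) (LinearMap.rTensor M f)) :=
    Finsupp.mapRange_injective _ (map_zero _) hf
  intro x y hxy
  apply eP.injective
  apply hinj
  have := congrArg eQ hxy
  have h1 := LinearMap.congr_fun hsq x
  have h2 := LinearMap.congr_fun hsq y
  simp only [LinearMap.comp_apply, LinearEquiv.coe_coe] at h1 h2
  rw [← h1, ← h2]
  exact this

abbrev T1 (R : Type u) [CommRing R] (N M : Type u) [AddCommGroup N] [Module R N]
    [AddCommGroup M] [Module R M] : Prop :=
  Limits.IsZero (((CategoryTheory.Tor (ModuleCat.{u} R) 1).obj (ModuleCat.of R N)).obj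
    (ModuleCat.of R M))

lemma shortExact_of {R : Type u} [CommRing R] {K P N : Type u} [AddCommGroup K] [Module R K]
    [AddCommGroup P] [Module R P] [AddCommGroup N] [Module R N]
    (i : K →ₗ[R] P) (q : P →ₗ[R] N) (hi : Function.Injective i) (hex : Function.Exact i q)
    (hq : Function.Surjective q) :
    (ShortComplex.mk (ModuleCat.ofHom i) (ModuleCat.ofHom q)
      (by ext x; exact hex.apply_apply_eq_zero x)).ShortExact :=
  ModuleCat.shortComplex_shortExact _ hex hi hq

/-- Lemma A. -/
lemma rTensor_subtype_injective (R : Type u) [CommRing R] (I : Ideal R) (M : Type u)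
    [AddCommGroup M] [Module R M] (h : T1 R (R ⧸ I) M) :
    Function.Injective (LinearMap.rTensor M I.subtype) := by
  have hS := shortExact_of I.subtype I.mkQ I.injective_subtype (LinearMap.exact_subtype_mkQ I)
    I.mkQ_surjective
  have : Module.Flat R (ModuleCat.of R R) := by
    change Module.Flat R R
    infer_instance
  exact (isZero_tor_one_iff_of_flat _ _ _ hS (ModuleCat.of R M)).1 h

/-- Lemma C. -/
lemma T1_finsupp (R : Type u) [CommRing R] (I : Ideal R) (M : Type u)
    [AddCommGroup M] [Module R M] (h : T1 R (R ⧸ I) M) (J : Type u) :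
    T1 R (J →₀ (R ⧸ I)) M := by
  let f : (J →₀ I) →ₗ[R] (J →₀ R) := Finsupp.mapRange.linearMap I.subtype
  let g : (J →₀ R) →ₗ[R] (J →₀ (R ⧸ I)) := Finsupp.mapRange.linearMap I.mkQ
  have hf : Function.Injective f :=
    Finsupp.mapRange_injective _ (map_zero _) I.injective_subtype
  have hg : Function.Surjective g :=
    Finsupp.mapRange_surjective _ (map_zero _) I.mkQ_surjective
  have hex : Function.Exact f g := by
    intro y
    have hr : Set.range f = {y | ∀ j, y j ∈ Set.range I.subtype} :=
      Finsupp.range_mapRange _ (map_zero _)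
    rw [hr]
    constructor
    · intro hy j
      have : g y j = 0 := by rw [hy]; rfl
      have h2 : I.mkQ (y j) = 0 := this
      rw [Submodule.mkQ_apply, Submodule.Quotient.mk_eq_zero] at h2
      exact ⟨⟨y j, h2⟩, rfl⟩
    · intro hy
      ext j
      obtain ⟨x, hx⟩ := hy j
      change I.mkQ (y j) = 0
      rw [← hx, Submodule.mkQ_apply, Submodule.Quotient.mk_eq_zero]
      exact x.2
  have hS := shortExact_of f g hf hex hg
  have : Module.Flat R (ModuleCat.of R (J →₀ R)) := by
    change Module.Flat R (J →₀ R)
    infer_instance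
  refine (isZero_tor_one_iff_of_flat _ _ _ hS (ModuleCat.of R M)).2 ?_
  exact rTensor_mapRange_injective M I.subtype (rTensor_subtype_injective R I M h) J

/-- Lemma E: modules over `R ⧸ I`. -/
lemma T1_of_module_quot (R : Type u) [CommRing R] (I : Ideal R) (M : Type u)
    [AddCommGroup M] [Module R M] [Module.Flat (R ⧸ I) ((R ⧸ I) ⊗[R] M)]
    (h : T1 R (R ⧸ I) M) (N : Type u) [AddCommGroup N] [Module R N]
    [Module (R ⧸ I) N] [IsScalarTower R (R ⧸ I) N] : T1 R N M := by
  let π : (N →₀ (R ⧸ I)) →ₗ[R ⧸ I] N := Finsupp.linearCombination (R ⧸ I) (id : N → N)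
  have hπ : Function.Surjective π := Finsupp.linearCombination_id_surjective (R ⧸ I) N
  let K : Submodule (R ⧸ I) (N →₀ (R ⧸ I)) := LinearMap.ker π
  let ι : K →ₗ[R ⧸ I] (N →₀ (R ⧸ I)) := K.subtype
  have hι : Function.Injective ι := K.injective_subtype
  let ιR : K →ₗ[R] (N →₀ (R ⧸ I)) := ι.restrictScalars R
  let πR : (N →₀ (R ⧸ I)) →ₗ[R] N := π.restrictScalars R
  have hex : Function.Exact ιR πR := by
    intro y
    constructor
    · intro hy
      exact ⟨⟨y, hy⟩, rfl⟩
    · rintro ⟨x, rfl⟩
      exact x.2
  have hιR : Function.Injective ιR := hι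
  have hπR : Function.Surjective πR := hπ
  have hS := shortExact_of (R := R) (K := K) (P := (N →₀ R ⧸ I)) (N := N) ιR πR hιR hex hπR
  have hF := T1_finsupp R I M h N
  have hinj := rTensor_injective_of_flat_baseChange (R := R) (A := R ⧸ I) M (K := K)
    (F := (N →₀ R ⧸ I)) ι hι
  have key := isZero_tor_one_iff_of_isZero _ _ _ hS (ModuleCat.of R M) hF
  exact key.2 hinj

/-- Lemma E': modules killed by `I`. -/
lemma T1_of_killed (R : Type u) [CommRing R] (I : Ideal R) (M : Type u)
    [AddCommGroup M] [Module R M] [Module.Flat (R ⧸ I) ((R ⧸ I) ⊗[R] M)]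
    (h : T1 R (R ⧸ I) M) (N : Type u) [AddCommGroup N] [Module R N]
    (hN : ∀ a : R, a ∈ I → ∀ x : N, a • x = 0) : T1 R N M := by
  have htors : Module.IsTorsionBySet R N (I : Set R) := by
    intro x a
    exact hN a.1 a.2 x
  let _ : Module (R ⧸ I) N := htors.module
  have hst : IsScalarTower R (R ⧸ I) N := htors.isScalarTower
  exact T1_of_module_quot R I M h N

theorem main (R : Type u) [CommRing R] (I : Ideal R) (M : Type u)
    [AddCommGroup M] [Module R M] [Module.Flat (R ⧸ I) ((R ⧸ I) ⊗[R] M)]
    (h : T1 R (R ⧸ I) M) (m : ℕ) :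
    ∀ (N : Type u) [AddCommGroup N] [Module R N],
      (∀ a : R, a ∈ I ^ m → ∀ x : N, a • x = 0) → T1 R N M := by
  induction m with
  | zero =>
    intro N _ _ hN
    have hsub : Subsingleton N := by
      refine ⟨fun x y => ?_⟩
      have h1 := hN 1 (by simp) x
      have h2 := hN 1 (by simp) y
      rw [one_smul] at h1 h2
      rw [h1, h2]
    have : Module.Flat R (ModuleCat.of R N) := by
      change Module.Flat R N
      infer_instance
    let P := ProjectiveResolution.of (ModuleCat.of R M)
    refine IsZero.of_iso ?_ (P.isoLeftDerivedObj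
      ((MonoidalCategory.tensoringLeft (ModuleCat.{u} R)).obj (ModuleCat.of R N)) 1)
    exact isZero_H_succ_of_flat (ModuleCat.of R N) P 0
  | succ m ih =>
    intro N _ _ hN
    let N₁ : Submodule R N := I • (⊤ : Submodule R N)
    have h1 : T1 R N₁ M := by
      apply ih
      intro a ha x
      obtain ⟨x, hx⟩ := x
      apply Subtype.ext
      rw [Submodule.coe_smul, Submodule.coe_zero]
      change a • x = 0
      refine Submodule.smul_induction_on hx ?_ ?_
      · intro b hb y _
        rw [smul_smul]
        exact hN _ (by rw [pow_succ]; exact Ideal.mul_mem_mul ha hb) y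
      · intro y z hy hz
        rw [smul_add, hy, hz, add_zero]
    have h3 : T1 R (N ⧸ N₁) M := by
      apply T1_of_killed R I M h
      intro a ha x
      obtain ⟨y, rfl⟩ := Submodule.mkQ_surjective _ x
      rw [← map_smul, Submodule.mkQ_apply, Submodule.Quotient.mk_eq_zero]
      exact Submodule.smul_mem_smul ha Submodule.mem_top
    have hS := shortExact_of N₁.subtype N₁.mkQ N₁.injective_subtype
      (LinearMap.exact_subtype_mkQ N₁) N₁.mkQ_surjective
    exact isZero_tor_mid _ _ _ hS (ModuleCat.of R M) 1 h1 h3

end helpers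


/-- Let I be an ideal of a commutative ring R and M an R-module such that M/IM is flat over R/I and
Tor_1^R(R/I, M) = 0. Then Tor_1^R(N, M) = 0 for every R-module N annihilated by I^m for some m ≥ 0.
Here Tor_1^R(N, M) is the first left derived functor of N ⊗_R − evaluated at M. -/
theorem result (R : Type u) [CommRing R] (I : Ideal R) (M : Type u)
    [AddCommGroup M] [Module R M] [Module.Flat (R ⧸ I) ((R ⧸ I) ⊗[R] M)]
    (h : Limits.IsZero (((CategoryTheory.Tor (ModuleCat.{u} R) 1).obj (ModuleCat.of R (R ⧸ I))).obj (ModuleCat.of R M)))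
    (N : Type u) [AddCommGroup N] [Module R N] (m : ℕ) (hN : ∀ a : R, a ∈ I ^ m → ∀ x : N, a • x = 0) :
    Limits.IsZero (((CategoryTheory.Tor (ModuleCat.{u} R) 1).obj (ModuleCat.of R N)).obj (ModuleCat.of R M)) := by
  exact main R I M h m N hN

end Groth.Agent.S12205
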