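import Groth.Statements.S12206
-- import your own Groth.Agent.* helpers here

set_option autoImplicit false
universe u
open CAlg

namespace Groth.Agent.S12206

section helpers
variable {R : Type u} [CommRing R] {N M : Type u}
  [AddCommGroup N] [Module R N] [AddCommGroup M] [Module R M]

theorem fp_sub (hM : ∀ P : Submodule R M, P.FG → Module.FinitePresentation R P)
    (Q : Submodule R M) (P : Submodule R Q) (hP : P.FG) : Module.FinitePresentation R P := by
  have h1 : (P.map Q.subtype).FG := hP.map _
  have := hM _ h1
  exact Module.FinitePresentation.of_equiv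
    (Submodule.equivMapOfInjective Q.subtype Q.injective_subtype P).symm

theorem ker_fg [Module.Finite R N]
    (hM : ∀ P : Submodule R M, P.FG → Module.FinitePresentation R P) (φ : N →ₗ[R] M) :
    (LinearMap.ker φ).FG := by
  have h1 : (LinearMap.range φ).FG := by
    rw [LinearMap.range_eq_map]
    exact Module.Finite.fg_top.map φ
  have := hM _ h1
  have h2 := Module.FinitePresentation.fg_ker φ.rangeRestrict φ.surjective_rangeRestrict
  rwa [LinearMap.ker_rangeRestrict] at h2

theorem fp_quot (hM : ∀ P : Submodule R M, P.FG → Module.FinitePresentation R P)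
    (Q : Submodule R M) (hQ : Q.FG) (P : Submodule R (M ⧸ Q)) (hP : P.FG) :
    Module.FinitePresentation R P := by
  set P' := P.comap Q.mkQ with hP'
  have hQP' : Q ≤ P' := by
    intro x hx
    rw [hP', Submodule.mem_comap, Submodule.mkQ_apply, (Submodule.Quotient.mk_eq_zero Q).mpr hx]
    exact P.zero_mem
  have h1 : P'.FG := by
    apply Submodule.fg_of_fg_map_of_fg_inf_ker Q.mkQ
    · rw [Submodule.map_comap_eq_of_surjective Q.mkQ_surjective]
      exact hP
    · rw [Submodule.ker_mkQ, inf_eq_right.mpr hQP']
      exact hQ
  have := hM _ h1
  let l : P' →ₗ[R] P := Q.mkQ.restrict (fun x hx => hx)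
  have hl : Function.Surjective l := by
    rintro ⟨y, hy⟩
    obtain ⟨x, rfl⟩ := Q.mkQ_surjective y
    exact ⟨⟨x, hy⟩, rfl⟩
  have hker : (LinearMap.ker l).FG := by
    apply Submodule.fg_of_fg_map_injective P'.subtype P'.injective_subtype
    have : (LinearMap.ker l).map P'.subtype = Q := by
      ext x
      simp only [Submodule.mem_map, LinearMap.mem_ker, Submodule.subtype_apply, Subtype.exists,
        exists_and_right, exists_eq_right]
      constructor
      · rintro ⟨hx, h⟩
        have := congrArg Subtype.val h
        simpa [l] using this
      · intro hx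
        refine ⟨hQP' hx, ?_⟩
        apply Subtype.ext
        simpa [l] using hx
    rw [this]
    exact hQ
  exact Module.finitePresentation_of_surjective l hl hker

end helpers

/-- Let φ : N → M be a linear map from a finite R-module N to a coherent R-module M, where coherent
means finitely generated with every finitely generated submodule finitely presented. Then the kernel
of φ is finitely generated, and the image of φ and the cokernel M/φ(N) are coherent. -/
theorem result (R : Type u) [CommRing R] {N M : Type u}
    [AddCommGroup N] [Module R N] [AddCommGroup M] [Module R M] [Module.Finite R N]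
    (hM : Module.Finite R M ∧ ∀ P : Submodule R M, P.FG → Module.FinitePresentation R P)
    (φ : N →ₗ[R] M) :
    (LinearMap.ker φ).FG ∧
    (Module.Finite R (LinearMap.range φ) ∧
      ∀ P : Submodule R (LinearMap.range φ), P.FG → Module.FinitePresentation R P) ∧
    (Module.Finite R (M ⧸ LinearMap.range φ) ∧
      ∀ P : Submodule R (M ⧸ LinearMap.range φ), P.FG → Module.FinitePresentation R P) := by
  have := hM.1
  have hr : (LinearMap.range φ).FG := by
    rw [LinearMap.range_eq_map]
    exact Module.Finite.fg_top.map φ
  refine ⟨ker_fg hM.2 φ, ⟨Module.Finite.range φ, fun P hP => fp_sub hM.2 _ P hP⟩,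
    ⟨inferInstance, fun P hP => fp_quot hM.2 _ hr P hP⟩⟩

end Groth.Agent.S12206
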