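import Groth.Statements.S12209
import Mathlib.RingTheory.Flat.EquationalCriterion
import Mathlib.Order.Directed

set_option autoImplicit false
universe u
open CAlg

namespace Groth.Agent.S12209

/-- Let (R_i) be a system of commutative rings over a nonempty directed preorder, with colimit R, and
let M be an R-module which is flat as an R_i-module for every i (the R_i-module structure being
restriction of scalars along R_i → R). Then M is flat as an R-module. -/
theorem result {ι : Type u} [Preorder ι] [Nonempty ι] [IsDirectedOrder ι]
    (G : ι → Type u) [∀ i, CommRing (G i)] (f : ∀ i j, i ≤ j → G i →+* G j)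
    [DirectedSystem G fun i j h => f i j h]
    (M : Type u) [AddCommGroup M] [Module (Ring.DirectLimit G fun i j h => f i j h) M]
    (hflat : ∀ i, letI : Module (G i) M := Module.compHom M (Ring.DirectLimit.of G (fun i j h => f i j h) i);
      Module.Flat (G i) M) :
    Module.Flat (Ring.DirectLimit G fun i j h => f i j h) M := by
  classical
  apply Module.Flat.of_forall_isTrivialRelation
  intro l a x hax
  -- descend the coefficients to a common stage
  have hex : ∀ t : Fin l, ∃ i, ∃ b : G i, Ring.DirectLimit.of G (fun i j h => f i j h) i b = a t :=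
    fun t => Ring.DirectLimit.exists_of (a t)
  choose idx b hb using hex
  obtain ⟨i₀, hi₀⟩ := Finset.exists_le (Finset.univ.image idx)
  have hle : ∀ t, idx t ≤ i₀ := fun t => hi₀ _ (Finset.mem_image_of_mem _ (Finset.mem_univ t))
  let b' : Fin l → G i₀ := fun t => f (idx t) i₀ (hle t) (b t)
  have hb' : ∀ t, Ring.DirectLimit.of G (fun i j h => f i j h) i₀ (b' t) = a t := by
    intro t
    simp only [b']
    rw [Ring.DirectLimit.of_f, hb]
  let _ : Module (G i₀) M := Module.compHom M (Ring.DirectLimit.of G (fun i j h => f i j h) i₀)
  have : Module.Flat (G i₀) M := hflat i₀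
  have hsmul : ∀ (r : G i₀) (m : M),
      r • m = Ring.DirectLimit.of G (fun i j h => f i j h) i₀ r • m := fun _ _ => rfl
  have hrel : ∑ t, b' t • x t = 0 := by
    simp_rw [hsmul, hb']
    exact hax
  obtain ⟨k, c, y, hxy, hc⟩ := Module.Flat.isTrivialRelation_of_sum_smul_eq_zero hrel
  refine ⟨k, fun t j => Ring.DirectLimit.of G (fun i j h => f i j h) i₀ (c t j), y, ?_, ?_⟩
  · intro t
    rw [hxy t]
    simp_rw [hsmul]
  · intro j
    simp_rw [← hb', ← map_mul, ← map_sum, hc j, map_zero]

end Groth.Agent.S12209
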