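import Groth.Statements.S12226
import Groth.Agent.Lib.Helper7.ModHartogsConv

set_option autoImplicit false
universe u
open CategoryTheory CategoryTheory.Limits AlgebraicGeometry TopologicalSpace
open LocCoh

namespace Groth.Agent.S12226

open Groth.Agent.Lib.Helper28.QCohLoc in
/-- a restriction map between equal opens is bijective -/
theorem bijective_map_of_eq {X : Scheme.{u}} (M : X.Modules) {V W : X.Opens} (h : W ≤ V)
    (e : W = V) : Function.Bijective (M.presheaf.map (homOfLE h).op) := by
  subst e
  have : (homOfLE h).op = 𝟙 (Opposite.op W) := rfl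
  rw [this, M.presheaf.map_id]
  exact Function.bijective_id

theorem image_preimage_ι {X : Scheme.{u}} (U V : X.Opens) : U.ι ''ᵁ (U.ι ⁻¹ᵁ V) = V ⊓ U := by
  rw [Scheme.Hom.image_preimage_eq_opensRange_inf, Scheme.Opens.opensRange_ι, inf_comm]

open Groth.Agent.Lib.Helper28.QCohLoc in
/-- the unit `G → j_* j^* G` is an isomorphism when `G` satisfies Hartogs along `U`. -/
theorem isIso_unit_of_bijective {X : Scheme.{u}} (U : X.Opens) (G : X.Modules)
    (hbij : ∀ V : X.Opens, Function.Bijective (res G (inf_le_left : V ⊓ U ≤ V))) :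
    IsIso ((Scheme.Modules.restrictAdjunction U.ι).unit.app G) := by
  rw [Scheme.Modules.Hom.isIso_iff_isIso_app]
  intro V
  rw [Scheme.Modules.restrictAdjunction_unit_app_app]
  rw [ConcreteCategory.isIso_iff_bijective]
  have key : ∀ (W : X.Opens) (hW : W ≤ V) (e : W = V ⊓ U),
      Function.Bijective (G.presheaf.map (homOfLE hW).op) := by
    intro W hW e
    subst e
    exact hbij V
  exact key _ _ (image_preimage_ι U V)


/-- Let j : U → X be the inclusion of an open subscheme of a Noetherian scheme X and F a coherent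
O_X-module such that F' = j_*(F|_U) is coherent. Then (a) for every point x of X outside U the stalk
F'_x has depth at least 2 over O_{X,x}, and (b) F → F' is the unique map with these properties: for
every coherent O_X-module G and every map φ : F → G whose restriction to U is an isomorphism and
such that depth(G_x) ≥ 2 for all x outside U, there is exactly one map ψ : G → F' whose composite
with φ is the canonical map F → j_*(F|_U), and this ψ is an isomorphism. (The compatibility of this
construction with flat base change is not part of this statement.) -/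
theorem result (X : Scheme.{u}) [IsNoetherian X] (U : X.Opens)
    (F : X.Modules) (hF : Coh.IsCoh F) (hF' : Coh.IsCoh ((Coh.push U.ι).obj (F.restrict U.ι))) :
    (∀ x : ↥X, x ∉ U → (2 : ℕ∞) ≤ LocCoh.depth (X.presheaf.stalk x)
        (((Coh.push U.ι).obj (F.restrict U.ι)).presheaf.stalk x)) ∧
    ∀ (G : X.Modules) (hG : Coh.IsCoh G) (φ : F ⟶ G),
      IsIso ((Scheme.Modules.restrictFunctor U.ι).map φ) →
      (∀ x : ↥X, x ∉ U → (2 : ℕ∞) ≤ LocCoh.depth (X.presheaf.stalk x) (G.presheaf.stalk x)) →
        (∃! ψ : G ⟶ (Coh.push U.ι).obj (F.restrict U.ι),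
            φ ≫ ψ = (Scheme.Modules.restrictAdjunction U.ι).unit.app F) ∧
          ∀ ψ : G ⟶ (Coh.push U.ι).obj (F.restrict U.ι),
            φ ≫ ψ = (Scheme.Modules.restrictAdjunction U.ι).unit.app F → IsIso ψ := by
  haveI : F.IsQuasicoherent := hF.1
  haveI : SheafOfModules.IsFiniteType.{u} (R := X.ringCatSheaf) F := hF.2
  haveI : ((Coh.push U.ι).obj (F.restrict U.ι)).IsQuasicoherent := hF'.1
  haveI : SheafOfModules.IsFiniteType.{u} (R := X.ringCatSheaf)
    ((Coh.push U.ι).obj (F.restrict U.ι)) := hF'.2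
  constructor
  · intro x hx
    apply Groth.Agent.Lib.Helper7.ModHartogs.two_le_depth_stalk_of_bijective _ U _ x hx
    intro V
    have e : U.ι ''ᵁ (U.ι ⁻¹ᵁ (V ⊓ U)) = U.ι ''ᵁ (U.ι ⁻¹ᵁ V) := by
      rw [image_preimage_ι, image_preimage_ι, inf_assoc, inf_idem]
    have hle : U.ι ''ᵁ (U.ι ⁻¹ᵁ (V ⊓ U)) ≤ U.ι ''ᵁ (U.ι ⁻¹ᵁ V) := le_of_eq e
    exact bijective_map_of_eq F hle e
  · intro G hG φ hφ hdepth
    haveI : G.IsQuasicoherent := hG.1
    haveI : SheafOfModules.IsFiniteType.{u} (R := X.ringCatSheaf) G := hG.2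
    haveI := hφ
    let adj := Scheme.Modules.restrictAdjunction U.ι
    haveI hunit : IsIso (adj.unit.app G) :=
      isIso_unit_of_bijective U G
        (Groth.Agent.Lib.Helper7.ModHartogs.bijective_res_of_depth G U hdepth)
    let ψ₀ : G ⟶ (Coh.push U.ι).obj (F.restrict U.ι) :=
      adj.unit.app G ≫ (Scheme.Modules.pushforward U.ι).map (inv ((Scheme.Modules.restrictFunctor U.ι).map φ))
    have hψ₀ : φ ≫ ψ₀ = adj.unit.app F := by
      have hnat := adj.unit.naturality φ
      simp only [Functor.id_obj, Functor.id_map, Functor.comp_obj, Functor.comp_map] at hnat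
      show φ ≫ adj.unit.app G ≫ _ = _
      rw [← Category.assoc, hnat, Category.assoc, ← Functor.map_comp, IsIso.hom_inv_id,
        CategoryTheory.Functor.map_id, Category.comp_id]
    have huniq : ∀ ψ : G ⟶ (Coh.push U.ι).obj (F.restrict U.ι),
        φ ≫ ψ = adj.unit.app F → ψ = ψ₀ := by
      intro ψ hψ
      have h1 : (Scheme.Modules.restrictFunctor U.ι).map φ ≫
          (adj.homEquiv G (F.restrict U.ι)).symm ψ = 𝟙 _ := by
        rw [← Adjunction.homEquiv_naturality_left_symm, hψ, Equiv.symm_apply_eq,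
          Adjunction.homEquiv_unit, CategoryTheory.Functor.map_id]
        exact (Category.comp_id _).symm
      have h3 : (adj.homEquiv _ _).symm ψ = inv ((Scheme.Modules.restrictFunctor U.ι).map φ) :=
        (IsIso.eq_inv_of_hom_inv_id h1)
      have h4 : ψ = adj.homEquiv _ _ (inv ((Scheme.Modules.restrictFunctor U.ι).map φ)) := by
        rw [← h3, Equiv.apply_symm_apply]
      rw [h4, Adjunction.homEquiv_unit]
    refine ⟨⟨ψ₀, hψ₀, fun ψ hψ => huniq ψ hψ⟩, fun ψ hψ => ?_⟩
    rw [huniq ψ hψ]
    infer_instance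

end Groth.Agent.S12226
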