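import Groth.Statements.S12227
import Mathlib.Algebra.Homology.DerivedCategory.Fractions

set_option autoImplicit false
universe w v u
open CategoryTheory CategoryTheory.Limits
open CohDer

namespace Groth.Agent.S12227

/-- Full faithfulness of K⁻(A)[Qis⁻¹] → D⁻(A), written in terms of roofs. Let A be an abelian category
and K, L complexes which are zero above some degree, viewed in the homotopy category. Then every
morphism Qh(K) → Qh(L) in the derived category is Qh(s)⁻¹ ≫ Qh(f) for some quasi-isomorphism s : K'
→ K and map f : K' → L of K(A) with K' again zero above some degree; and two maps f₁, f₂ : K → L of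
K(A) become equal in D(A) only if s ≫ f₁ = s ≫ f₂ for some quasi-isomorphism s : K' → K with K' zero
above some degree. (That the kernel of K⁻(A) → D(A) consists of the acyclic complexes and that the
essential image is D⁻(A) are separate statements.) -/
theorem result {A : Type u} [Category.{v} A] [Abelian A] [HasDerivedCategory.{w} A]
    (K L : HomotopyCategory A (ComplexShape.up ℤ)) (a b : ℤ) [CochainComplex.IsStrictlyLE K.as a] [CochainComplex.IsStrictlyLE L.as b] :
    (∀ φ : DerivedCategory.Qh.obj K ⟶ DerivedCategory.Qh.obj L,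
      ∃ (K' : HomotopyCategory A (ComplexShape.up ℤ)) (n : ℤ) (_ : CochainComplex.IsStrictlyLE K'.as n) (s : K' ⟶ K) (f : K' ⟶ L),
        HomotopyCategory.quasiIso A (ComplexShape.up ℤ) s ∧ DerivedCategory.Qh.map s ≫ φ = DerivedCategory.Qh.map f) ∧
    (∀ f₁ f₂ : K ⟶ L, DerivedCategory.Qh.map f₁ = DerivedCategory.Qh.map f₂ →
      ∃ (K' : HomotopyCategory A (ComplexShape.up ℤ)) (n : ℤ) (_ : CochainComplex.IsStrictlyLE K'.as n) (s : K' ⟶ K),
        HomotopyCategory.quasiIso A (ComplexShape.up ℤ) s ∧ s ≫ f₁ = s ≫ f₂) := by
  obtain ⟨K, rfl⟩ := HomotopyCategory.quotient_obj_surjective K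
  obtain ⟨L, rfl⟩ := HomotopyCategory.quotient_obj_surjective L
  have hK : CochainComplex.IsStrictlyLE K a :=
    (inferInstance : CochainComplex.IsStrictlyLE ((HomotopyCategory.quotient A (ComplexShape.up ℤ)).obj K).as a)
  have key : ∀ (X' : CochainComplex A ℤ) (s : X' ⟶ K), QuasiIso s →
      HomotopyCategory.quasiIso A (ComplexShape.up ℤ)
        ((HomotopyCategory.quotient _ _).map (CochainComplex.ιTruncLE X' a ≫ s)) := by
    intro X' s hs
    rw [HomotopyCategory.quotient_map_mem_quasiIso_iff, HomologicalComplex.mem_quasiIso_iff,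
      ← CochainComplex.ιTruncLE_naturality]
    have : QuasiIso (CochainComplex.truncLEMap s a) := by
      rw [CochainComplex.quasiIso_truncLEMap_iff]
      infer_instance
    infer_instance
  constructor
  · intro φ
    have ⟨φ', hφ'⟩ := Localization.exists_rightFraction DerivedCategory.Qh
      (HomotopyCategory.quasiIso A _) φ
    obtain ⟨X', s, hs, g, rfl⟩ := φ'.cases
    obtain ⟨X', rfl⟩ := HomotopyCategory.quotient_obj_surjective X'
    obtain ⟨s, rfl⟩ := (HomotopyCategory.quotient _ _).map_surjective s
    obtain ⟨g, rfl⟩ := (HomotopyCategory.quotient _ _).map_surjective g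
    have hs' : QuasiIso s := by
      rwa [HomotopyCategory.quotient_map_mem_quasiIso_iff,
        HomologicalComplex.mem_quasiIso_iff] at hs
    refine ⟨(HomotopyCategory.quotient _ _).obj (CochainComplex.truncLE X' a), a,
      (inferInstance : (CochainComplex.truncLE X' a).IsStrictlyLE a),
      (HomotopyCategory.quotient _ _).map (CochainComplex.ιTruncLE X' a ≫ s),
      (HomotopyCategory.quotient _ _).map (CochainComplex.ιTruncLE X' a ≫ g), key X' s hs', ?_⟩
    rw [hφ']
    simp only [Functor.map_comp, Category.assoc]
    congr 1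
    exact (MorphismProperty.RightFraction.mk _ hs _).map_s_comp_map _ _
  · intro f₁ f₂ h
    rw [MorphismProperty.map_eq_iff_precomp DerivedCategory.Qh
      (HomotopyCategory.quasiIso A (ComplexShape.up ℤ))] at h
    obtain ⟨X', s, hs, fac⟩ := h
    obtain ⟨X', rfl⟩ := HomotopyCategory.quotient_obj_surjective X'
    obtain ⟨s, rfl⟩ := (HomotopyCategory.quotient _ _).map_surjective s
    have hs' : QuasiIso s := by
      rwa [HomotopyCategory.quotient_map_mem_quasiIso_iff,
        HomologicalComplex.mem_quasiIso_iff] at hs
    refine ⟨(HomotopyCategory.quotient _ _).obj (CochainComplex.truncLE X' a), a,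
      (inferInstance : (CochainComplex.truncLE X' a).IsStrictlyLE a),
      (HomotopyCategory.quotient _ _).map (CochainComplex.ιTruncLE X' a ≫ s), key X' s hs', ?_⟩
    simp only [Functor.map_comp, Category.assoc, fac]

end Groth.Agent.S12227
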