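import Groth.Statements.S12228
import Mathlib.Algebra.Homology.DerivedCategory.Fractions
import Mathlib.Algebra.Homology.HomotopyCategory.Plus

set_option autoImplicit false
universe w v u
open CategoryTheory CategoryTheory.Limits
open CohDer

namespace Groth.Agent.S12228

set_option backward.isDefEq.respectTransparency.types false in
lemma part1 {A : Type u} [Category.{v} A] [Abelian A] [HasDerivedCategory.{w} A]
    {X Y : CochainComplex A ℤ} (a b : ℤ)
    [X.IsStrictlyLE b] [Y.IsStrictlyGE a] [Y.IsStrictlyLE b]
    (f : DerivedCategory.Qh.obj ((HomotopyCategory.quotient _ _).obj X) ⟶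
      DerivedCategory.Qh.obj ((HomotopyCategory.quotient _ _).obj Y)) :
    ∃ (Y' : CochainComplex A ℤ) (_ : Y'.IsStrictlyGE a) (_ : Y'.IsStrictlyLE b)
    (g : X ⟶ Y') (s : Y ⟶ Y') (_ : QuasiIso s),
      f ≫ DerivedCategory.Qh.map ((HomotopyCategory.quotient _ _).map s) =
        DerivedCategory.Qh.map ((HomotopyCategory.quotient _ _).map g) := by
  obtain ⟨Y', h1, h2, g, s, hs, fac⟩ :=
    DerivedCategory.left_fac_of_isStrictlyLE_of_isStrictlyGE (X := X) (Y := Y) a b f
  refine ⟨Y', h1, h2, g, s, ?_, ?_⟩
  · rwa [DerivedCategory.isIso_Q_map_iff_quasiIso] at hs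
  · rw [fac]
    change (DerivedCategory.Q.map g ≫ inv (DerivedCategory.Q.map s)) ≫ DerivedCategory.Q.map s =
      DerivedCategory.Q.map g
    simp

lemma isStrictlyLE_mappingCone {A : Type u} [Category.{v} A] [Abelian A]
    {K L : CochainComplex A ℤ} (f : K ⟶ L) (n : ℤ) [K.IsStrictlyLE n] [L.IsStrictlyLE n] :
    (CochainComplex.mappingCone f).IsStrictlyLE n := by
  rw [CochainComplex.isStrictlyLE_iff]
  intro i hi
  simp only [CochainComplex.mappingCone.isZero_X_iff]
  exact ⟨K.isZero_of_isStrictlyLE n _, L.isZero_of_isStrictlyLE n _⟩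

lemma part2 {A : Type u} [Category.{v} A] [Abelian A] [HasDerivedCategory.{w} A]
    {K L : CochainComplex A ℤ} (a' B : ℤ)
    [K.IsStrictlyLE B] [L.IsStrictlyGE a'] [L.IsStrictlyLE B]
    (d : (HomotopyCategory.quotient A (ComplexShape.up ℤ)).obj K ⟶
      (HomotopyCategory.quotient A (ComplexShape.up ℤ)).obj L)
    (hd : DerivedCategory.Qh.map d = 0) :
    ∃ (L' : CochainComplex A ℤ) (_ : L'.IsStrictlyGE a') (_ : L'.IsStrictlyLE B)
      (t : L ⟶ L') (_ : QuasiIso t),
      d ≫ (HomotopyCategory.quotient A (ComplexShape.up ℤ)).map t = 0 := by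
  have hd' : DerivedCategory.Qh.map d = DerivedCategory.Qh.map 0 := by simpa using hd
  rw [MorphismProperty.map_eq_iff_precomp DerivedCategory.Qh
    (HomotopyCategory.quasiIso A (ComplexShape.up ℤ))] at hd'
  obtain ⟨X', s, hs, fac⟩ := hd'
  obtain ⟨X', rfl⟩ := HomotopyCategory.quotient_obj_surjective X'
  obtain ⟨s, rfl⟩ := (HomotopyCategory.quotient _ _).map_surjective s
  have hs' : QuasiIso s := by
    rwa [HomotopyCategory.quotient_map_mem_quasiIso_iff,
      HomologicalComplex.mem_quasiIso_iff] at hs
  let s' : CochainComplex.truncLE X' B ⟶ K := CochainComplex.ιTruncLE X' B ≫ s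
  have hs'q : QuasiIso s' := by
    dsimp only [s']
    rw [← CochainComplex.ιTruncLE_naturality]
    have : QuasiIso (CochainComplex.truncLEMap s B) := by
      rw [CochainComplex.quasiIso_truncLEMap_iff]
      infer_instance
    infer_instance
  have fac' : (HomotopyCategory.quotient _ _).map s' ≫ d = 0 := by
    simp [s', fac]
  have hT := HomotopyCategory.mappingCone_triangleh_distinguished s'
  obtain ⟨w, hw⟩ := Pretriangulated.Triangle.yoneda_exact₂ _ hT d fac'
  obtain ⟨w, rfl⟩ := (HomotopyCategory.quotient _ _).map_surjective w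
  have hC : HomotopyCategory.subcategoryAcyclic A
      ((HomotopyCategory.quotient _ _).obj (CochainComplex.mappingCone s')) := by
    have := (HomotopyCategory.subcategoryAcyclic A).trW_iff_of_distinguished _ hT
    rw [← HomotopyCategory.quasiIso_eq_trW_subcategoryAcyclic] at this
    refine this.1 ?_
    change HomotopyCategory.quasiIso A (ComplexShape.up ℤ) ((HomotopyCategory.quotient _ _).map s')
    rwa [HomotopyCategory.quotient_map_mem_quasiIso_iff, HomologicalComplex.mem_quasiIso_iff]
  have hT2 := HomotopyCategory.mappingCone_triangleh_distinguished w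
  have ht : QuasiIso (CochainComplex.mappingCone.inr w) := by
    have := (HomotopyCategory.subcategoryAcyclic A).trW_iff_of_distinguished' _ hT2
    rw [← HomotopyCategory.quasiIso_eq_trW_subcategoryAcyclic] at this
    have h2 := this.2 hC
    change HomotopyCategory.quasiIso A (ComplexShape.up ℤ)
      ((HomotopyCategory.quotient _ _).map (CochainComplex.mappingCone.inr w)) at h2
    rwa [HomotopyCategory.quotient_map_mem_quasiIso_iff, HomologicalComplex.mem_quasiIso_iff] at h2
  have hwt : (HomotopyCategory.quotient _ _).map w ≫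
      (HomotopyCategory.quotient _ _).map (CochainComplex.mappingCone.inr w) = 0 :=
    Pretriangulated.comp_distTriang_mor_zero₁₂ _ hT2
  have : (CochainComplex.mappingCone s').IsStrictlyLE B := isStrictlyLE_mappingCone s' B
  have : CochainComplex.IsStrictlyLE (CochainComplex.mappingCone.triangle s').obj₃ B :=
    isStrictlyLE_mappingCone s' B
  have : (CochainComplex.mappingCone w).IsStrictlyLE B := isStrictlyLE_mappingCone w B
  refine ⟨(CochainComplex.mappingCone w).truncGE a', inferInstance, inferInstance,
    CochainComplex.mappingCone.inr w ≫ CochainComplex.πTruncGE _ a', ?_, ?_⟩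
  · rw [← CochainComplex.πTruncGE_naturality]
    have : QuasiIso (CochainComplex.truncGEMap (CochainComplex.mappingCone.inr w) a') := by
      rw [CochainComplex.quasiIso_truncGEMap_iff]
      infer_instance
    infer_instance
  · rw [hw, Functor.map_comp]
    change (_ ≫ (HomotopyCategory.quotient _ _).map w) ≫ _ = 0
    rw [Category.assoc, reassoc_of% hwt]
    simp

/-- Full faithfulness of Kᵇ(A)[Qis⁻¹] → Dᵇ(A), written in terms of roofs. Let A be an abelian category
and K, L bounded complexes (zero outside a finite range of degrees), viewed in the homotopy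
category. Then every morphism Qh(K) → Qh(L) in the derived category is Qh(f) ≫ Qh(t)⁻¹ for some map
f : K → L' and quasi-isomorphism t : L → L' of K(A) with L' again bounded; and two maps f₁, f₂ : K →
L of K(A) become equal in D(A) only if f₁ ≫ t = f₂ ≫ t for some quasi-isomorphism t : L → L' with L'
bounded. -/
theorem result {A : Type u} [Category.{v} A] [Abelian A] [HasDerivedCategory.{w} A]
    (K L : HomotopyCategory A (ComplexShape.up ℤ)) (a b a' b' : ℤ) [CochainComplex.IsStrictlyGE K.as a] [CochainComplex.IsStrictlyLE K.as b]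
    [CochainComplex.IsStrictlyGE L.as a'] [CochainComplex.IsStrictlyLE L.as b'] :
    (∀ φ : DerivedCategory.Qh.obj K ⟶ DerivedCategory.Qh.obj L,
      ∃ (L' : HomotopyCategory A (ComplexShape.up ℤ)) (m n : ℤ) (_ : CochainComplex.IsStrictlyGE L'.as m) (_ : CochainComplex.IsStrictlyLE L'.as n) (f : K ⟶ L') (t : L ⟶ L'),
        HomotopyCategory.quasiIso A (ComplexShape.up ℤ) t ∧ φ ≫ DerivedCategory.Qh.map t = DerivedCategory.Qh.map f) ∧
    (∀ f₁ f₂ : K ⟶ L, DerivedCategory.Qh.map f₁ = DerivedCategory.Qh.map f₂ →
      ∃ (L' : HomotopyCategory A (ComplexShape.up ℤ)) (m n : ℤ) (_ : CochainComplex.IsStrictlyGE L'.as m) (_ : CochainComplex.IsStrictlyLE L'.as n) (t : L ⟶ L'),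
        HomotopyCategory.quasiIso A (ComplexShape.up ℤ) t ∧ f₁ ≫ t = f₂ ≫ t) := by
  obtain ⟨K, rfl⟩ := HomotopyCategory.quotient_obj_surjective K
  obtain ⟨L, rfl⟩ := HomotopyCategory.quotient_obj_surjective L
  have hKa : CochainComplex.IsStrictlyGE K a :=
    (inferInstance : CochainComplex.IsStrictlyGE ((HomotopyCategory.quotient A (ComplexShape.up ℤ)).obj K).as a)
  have hKb : CochainComplex.IsStrictlyLE K b :=
    (inferInstance : CochainComplex.IsStrictlyLE ((HomotopyCategory.quotient A (ComplexShape.up ℤ)).obj K).as b)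
  have hLa : CochainComplex.IsStrictlyGE L a' :=
    (inferInstance : CochainComplex.IsStrictlyGE ((HomotopyCategory.quotient A (ComplexShape.up ℤ)).obj L).as a')
  have hLb : CochainComplex.IsStrictlyLE L b' :=
    (inferInstance : CochainComplex.IsStrictlyLE ((HomotopyCategory.quotient A (ComplexShape.up ℤ)).obj L).as b')
  have hKB : CochainComplex.IsStrictlyLE K (max b b') :=
    CochainComplex.isStrictlyLE_of_le K b _ (le_max_left _ _)
  have hLB : CochainComplex.IsStrictlyLE L (max b b') :=
    CochainComplex.isStrictlyLE_of_le L b' _ (le_max_right _ _)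
  constructor
  · intro φ
    obtain ⟨Y', h1, h2, g, s, hs, fac⟩ :=
      part1 (X := K) (Y := L) a' (max b b') φ
    refine ⟨(HomotopyCategory.quotient _ _).obj Y', a', max b b', h1, h2,
      (HomotopyCategory.quotient _ _).map g, (HomotopyCategory.quotient _ _).map s, ?_, fac⟩
    rwa [HomotopyCategory.quotient_map_mem_quasiIso_iff, HomologicalComplex.mem_quasiIso_iff]
  · intro f₁ f₂ h
    obtain ⟨L', h1, h2, t, ht, fac⟩ := part2 (K := K) (L := L) a' (max b b') (f₁ - f₂)
      (by rw [Functor.map_sub, h, sub_self])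
    refine ⟨(HomotopyCategory.quotient _ _).obj L', a', max b b', h1, h2,
      (HomotopyCategory.quotient _ _).map t, ?_, ?_⟩
    · rwa [HomotopyCategory.quotient_map_mem_quasiIso_iff, HomologicalComplex.mem_quasiIso_iff]
    · rwa [Preadditive.sub_comp, sub_eq_zero] at fac

end Groth.Agent.S12228
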