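import Groth.Statements.S1223
-- import your own Groth.Agent.* helpers here
import Groth.Agent.Lib.Helper23.FiberIdeal
import Mathlib.RingTheory.IsTensorProduct
import Mathlib.AlgebraicGeometry.Pullbacks
import Mathlib.AlgebraicGeometry.Properties
import Mathlib.RingTheory.Ideal.GoingDown
import Mathlib.RingTheory.Flat.Stability

set_option autoImplicit false
universe u
open FlatMor

namespace Groth.Agent.S1223

open scoped TensorProduct
open CategoryTheory AlgebraicGeometry

attribute [local instance] Algebra.TensorProduct.rightAlgebra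

/-- the fibre rings of a base change of a map with geometrically integral fibres are domains -/
lemma isDomain_fiber {A B A' B' : Type u} [CommRing A] [CommRing B] [CommRing A'] [CommRing B']
    [Algebra A B] [Algebra A A'] [Algebra B B'] [Algebra A' B'] [Algebra A B']
    [IsScalarTower A B B'] [IsScalarTower A A' B'] (hpo : Algebra.IsPushout A B A' B')
    (h : FlatCA.GeomIntegralFibres A B) (s : Ideal A') [s.IsPrime] : IsDomain (s.Fiber B') := by
  have sq1 := CommRingCat.isPushout_of_isPushout A B A' B'
  have sq2 := CommRingCat.isPushout_of_isPushout A' B' s.ResidueField (s.Fiber B')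
  have sq := sq1.paste_vert sq2
  have hpb := isPullback_SpecMap_of_isPushout _ _ _ _ sq
  have := h.geometrically_isIntegral _ _ _ hpb
  exact (affine_isIntegral_iff _).mp this


/-- the only associated prime of a domain is zero -/
lemma ass_domain {D : Type u} [CommRing D] [IsDomain D] {I : Ideal D}
    (hI : I ∈ associatedPrimes D D) : I = ⊥ := by
  obtain ⟨hprime, x, hx⟩ := hI
  have hx0 : x ≠ 0 := by
    rintro rfl
    apply hprime.ne_top
    rw [hx, eq_top_iff]
    intro r _
    apply Ideal.le_radical
    rw [Submodule.mem_colon_singleton]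
    simp
  rw [hx, eq_bot_iff]
  intro r hr
  obtain ⟨n, hn⟩ := hr
  rw [Submodule.mem_colon_singleton, Submodule.mem_bot, smul_eq_mul] at hn
  rcases mul_eq_zero.mp hn with h | h
  · exact (Submodule.mem_bot D).mpr (IsReduced.eq_zero _ ⟨n, h⟩)
  · exact absurd h hx0

/-- the fibre module of a base change of the ring itself is the fibre ring -/
noncomputable def fiberModEquiv {B B' A' N' : Type u} [CommRing B] [CommRing B'] [CommRing A']
    [Algebra B B'] [Algebra A' B'] [AddCommGroup N'] [Module B' N'] [Module B N']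
    [IsScalarTower B B' N'] (f : B →ₗ[B] N') (hf : IsBaseChange B' f)
    (t' : Ideal A') [t'.IsPrime] :
    FlatCA.fiberMod t' B' N' ≃ₗ[t'.Fiber B'] t'.Fiber B' :=
  (TensorProduct.AlgebraTensorModule.congr (LinearEquiv.refl (t'.Fiber B') (t'.Fiber B'))
    (hf.equiv.symm ≪≫ₗ TensorProduct.AlgebraTensorModule.rid B B' B')) ≪≫ₗ
    TensorProduct.AlgebraTensorModule.rid B' (t'.Fiber B') (t'.Fiber B')


/-- Ring form, X = Spec B affine: a finite type, flat A-algebra B with geometrically integral fibres is
universally pure relative to Spec A. -/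
theorem result {A B : Type u} [CommRing A] [CommRing B] [Algebra A B] [Algebra.FiniteType A B] [Module.Flat A B]
    (h : FlatCA.GeomIntegralFibres A B) : FlatCA.IsUnivPure A B B := by
  intro p _ A' B' N' _ _ _ _ _ _ _ _ _ _ _ _ _ _ f t' t _ _ P _ himp
  obtain ⟨hpo, hbc, hle, htp, hPt', hass, hno⟩ := himp
  have hd1 := isDomain_fiber hpo h t'
  have hd2 := isDomain_fiber hpo h t
  have hbot : FlatCA.fiberIdeal t' P = ⊥ := by
    apply ass_domain
    rw [← LinearEquiv.AssociatedPrimes.eq (fiberModEquiv f hbc t')]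
    exact hass
  have hPle : ∀ (Q' : Ideal B') [Q'.IsPrime] [Q'.LiesOver t'], P ≤ Q' := by
    intro Q' _ _ s hs
    apply Groth.Agent.Lib.Helper23.FiberIdeal.mem_of_one_tmul_mem_fiberIdeal t' Q'
    have : ((1 : t'.ResidueField) ⊗ₜ[A'] s : t'.Fiber B') ∈ FlatCA.fiberIdeal t' P :=
      Ideal.mem_map_of_mem _ hs
    rw [hbot] at this
    rw [(Submodule.mem_bot _).mp this]
    exact zero_mem _
  obtain ⟨q0⟩ : Nonempty (PrimeSpectrum (t.Fiber B')) := inferInstance
  let Q0 := (PrimeSpectrum.primesOverOrderIsoFiber A' B' t).symm q0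
  have hQ0 := Q0.2
  have hQ0p : Q0.1.IsPrime := hQ0.1
  have hQ0o : Q0.1.LiesOver t := hQ0.2
  have hfl : Module.Flat A' B' :=
    Module.Flat.isBaseChange (R := A) (M := B) (S := A') B' hpo.symm.out
  obtain ⟨Q', hQ'le, hQ'prime, hQ'over⟩ :=
    Ideal.exists_ideal_le_liesOver_of_le (p := t') (q := t) Q0.1 hle
  exact hno Q0.1 ((hPle Q').trans hQ'le) hQ0o

end Groth.Agent.S1223
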