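import Groth.Statements.S12233
import Groth.Agent.Lib.Helper2.TorBaseChange
import Groth.Agent.Lib.Helper2.LocalCrit

set_option autoImplicit false
universe u
open scoped TensorProduct
open CAlg

namespace Groth.Agent.S12233

/-- Let R → S, R → R', S → S' and R' → S' be local homomorphisms of Noetherian local rings forming a
commutative square, I ⊊ R an ideal, M a finite S-module, I' = IR' and M' = M ⊗_S S' (given through a
base-change map f : M → M'). Assume (1) S' is a localization of S ⊗_R R' via the induced map, (2)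
M/IM is flat over R/I, and (3) the map Tor_1^R(M, R/I) → Tor_1^{R'}(M', R'/I') is zero — with
Tor_1(−, R/I) computed as the kernel of I ⊗_R M → M, this says that every element of that kernel
goes to zero under the natural map I ⊗_R M → I' ⊗_{R'} M'. Then M' is flat over R'. -/
theorem result
    (R S R' S' : Type u) [CommRing R] [CommRing S] [CommRing R'] [CommRing S']
    [IsLocalRing R] [IsLocalRing S] [IsLocalRing R'] [IsLocalRing S']
    [IsNoetherianRing R] [IsNoetherianRing S] [IsNoetherianRing R'] [IsNoetherianRing S']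
    [Algebra R S] [Algebra R R'] [Algebra S S'] [Algebra R' S'] [Algebra R S']
    [IsScalarTower R S S'] [IsScalarTower R R' S']
    [IsLocalHom (algebraMap R S)] [IsLocalHom (algebraMap R R')] [IsLocalHom (algebraMap S S')]
    [IsLocalHom (algebraMap R' S')]
    (I : Ideal R) (hI : I ≠ ⊤) (M : Type u) [AddCommGroup M] [Module S M] [Module R M] [IsScalarTower R S M]
    [Module.Finite S M]
    (M' : Type u) [AddCommGroup M'] [Module S' M'] [Module R' M'] [IsScalarTower R' S' M']
    [Module S M'] [IsScalarTower S S' M'] [Module R M'] [IsScalarTower R R' M'] [IsScalarTower R S M']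
    (f : M →ₗ[S] M') (hf : IsBaseChange S' f)
    (h1 : ∃ W : Submonoid (S ⊗[R] R'),
      letI : Algebra (S ⊗[R] R') S' :=
        (Algebra.TensorProduct.lift (IsScalarTower.toAlgHom R S S') (IsScalarTower.toAlgHom R R' S')
          (fun s r => Commute.all _ _)).toRingHom.toAlgebra;
      IsLocalization W S')
    (h2 : Module.Flat (R ⧸ I) ((R ⧸ I) ⊗[R] M))
    (h3 : ∀ x : ↥I ⊗[R] M, (Submodule.subtype I).rTensor M x = 0 →
      (TensorProduct.mapOfCompatibleSMul R' R R ↥(I.map (algebraMap R R')) M')
        ((TensorProduct.map (Algebra.idealMap R' I) (f.restrictScalars R)) x) = 0) :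
    Module.Flat R' M' := by
  classical
  obtain ⟨W, hW⟩ := h1
  letI algT : Algebra (S ⊗[R] R') S' :=
    (Algebra.TensorProduct.lift (IsScalarTower.toAlgHom R S S') (IsScalarTower.toAlgHom R R' S')
      (fun s r => Commute.all _ _)).toRingHom.toAlgebra
  haveI : IsLocalization W S' := hW
  letI algR' : Algebra R' (S ⊗[R] R') := Algebra.TensorProduct.rightAlgebra
  haveI towR' : IsScalarTower R' (S ⊗[R] R') S' := IsScalarTower.of_algebraMap_eq fun r' => by
    show _ = (Algebra.TensorProduct.lift (IsScalarTower.toAlgHom R S S')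
      (IsScalarTower.toAlgHom R R' S') (fun s r => Commute.all _ _)) ((1 : S) ⊗ₜ[R] r')
    simp
  haveI towS : IsScalarTower S (S ⊗[R] R') S' := IsScalarTower.of_algebraMap_eq fun s => by
    show _ = (Algebra.TensorProduct.lift (IsScalarTower.toAlgHom R S S')
      (IsScalarTower.toAlgHom R R' S') (fun s r => Commute.all _ _)) (s ⊗ₜ[R] (1 : R'))
    simp
  haveI flatT : Module.Flat (S ⊗[R] R') S' := IsLocalization.flat S' W
  -- the module `N = T ⊗[S] M`
  let g₀ : M →ₗ[R] (S ⊗[R] R') ⊗[S] M :=
    (TensorProduct.mk S (S ⊗[R] R') M 1).restrictScalars R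
  have hg₀ : IsBaseChange R' g₀ := by
    refine IsBaseChange.of_equiv (Algebra.IsPushout.cancelBaseChange R R' S (S ⊗[R] R') M).symm ?_
    intro m
    rw [Algebra.IsPushout.cancelBaseChange_symm_tmul, map_one]
    rfl
  -- `P = S' ⊗[T] N ≃ M'`
  let e : S' ⊗[S ⊗[R] R'] ((S ⊗[R] R') ⊗[S] M) ≃ₗ[S'] M' :=
    (TensorProduct.AlgebraTensorModule.cancelBaseChange S (S ⊗[R] R') S' S' M) ≪≫ₗ hf.equiv
  have he : ∀ m : M, e ((1 : S') ⊗ₜ[S ⊗[R] R'] g₀ m) = f m := by
    intro m
    show hf.equiv (TensorProduct.AlgebraTensorModule.cancelBaseChange S (S ⊗[R] R') S' S' M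
      ((1 : S') ⊗ₜ[S ⊗[R] R'] ((1 : S ⊗[R] R') ⊗ₜ[S] m))) = f m
    rw [TensorProduct.AlgebraTensorModule.cancelBaseChange_tmul, one_smul,
      IsBaseChange.equiv_tmul, one_smul]
  let eR : S' ⊗[S ⊗[R] R'] ((S ⊗[R] R') ⊗[S] M) ≃ₗ[R'] M' := e.restrictScalars R'
  have heR : ∀ m : M, eR.symm (f m) = (1 : S') ⊗ₜ[S ⊗[R] R'] g₀ m := by
    intro m
    rw [LinearEquiv.symm_apply_eq]
    exact (he m).symm
  -- the comparison map `ϑ`
  let ϑ : M ⊗[R] I →+ (S' ⊗[S ⊗[R] R'] ((S ⊗[R] R') ⊗[S] M)) ⊗[R'] (I.map (algebraMap R R')) :=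
    (LinearMap.rTensor (I.map (algebraMap R R')) eR.symm.toLinearMap).toAddMonoidHom.comp
      ((TensorProduct.comm R' (I.map (algebraMap R R')) M').toLinearMap.toAddMonoidHom.comp
        ((TensorProduct.mapOfCompatibleSMul R' R R ↥(I.map (algebraMap R R')) M').toAddMonoidHom.comp
          ((TensorProduct.map (Algebra.idealMap R' I) (f.restrictScalars R)).toAddMonoidHom.comp
            (TensorProduct.comm R M I).toLinearMap.toAddMonoidHom)))
  have hϑ : ∀ (m : M) (i : I), ϑ (m ⊗ₜ i) =
      ((1 : S') ⊗ₜ[S ⊗[R] R'] g₀ m) ⊗ₜ[R'] (Algebra.idealMap R' I i) := by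
    intro m i
    show (LinearMap.rTensor (I.map (algebraMap R R')) eR.symm.toLinearMap)
      ((TensorProduct.comm R' (I.map (algebraMap R R')) M')
        ((TensorProduct.mapOfCompatibleSMul R' R R ↥(I.map (algebraMap R R')) M')
          ((TensorProduct.map (Algebra.idealMap R' I) (f.restrictScalars R))
            ((TensorProduct.comm R M I) (m ⊗ₜ i))))) = _
    rw [TensorProduct.comm_tmul, TensorProduct.map_tmul, TensorProduct.mapOfCompatibleSMul_tmul,
      TensorProduct.comm_tmul, LinearMap.rTensor_tmul]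
    show (eR.symm (f m)) ⊗ₜ[R'] _ = _
    rw [heR]
  have hker : ∀ κ : M ⊗[R] I, I.subtype.lTensor M κ = 0 → ϑ κ = 0 := by
    intro κ hκ
    have h3' := h3 (TensorProduct.comm R M I κ) (by
      have : ∀ z : M ⊗[R] I, (Submodule.subtype I).rTensor M (TensorProduct.comm R M I z) =
          TensorProduct.comm R M R (I.subtype.lTensor M z) := by
        intro z
        induction z with
        | zero => simp
        | add a b ha hb => simp only [map_add, ha, hb]
        | tmul m i => rfl
      rw [this, hκ, map_zero])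
    show (LinearMap.rTensor (I.map (algebraMap R R')) eR.symm.toLinearMap)
      ((TensorProduct.comm R' (I.map (algebraMap R R')) M')
        ((TensorProduct.mapOfCompatibleSMul R' R R ↥(I.map (algebraMap R R')) M')
          ((TensorProduct.map (Algebra.idealMap R' I) (f.restrictScalars R))
            ((TensorProduct.comm R M I) κ)))) = 0
    rw [h3', map_zero, map_zero]
  have hB := Groth.Agent.Lib.Helper2.TorBaseChange.lTensor_map_injective (T := S ⊗[R] R')
    (S' := S') I g₀ hg₀ ϑ hϑ hker
  have hA := Groth.Agent.Lib.Helper2.TorBaseChange.flat_quotient (T := S ⊗[R] R')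
    (S' := S') I g₀ hg₀
  -- transfer to `M'`
  haveI hA' : Module.Flat (R' ⧸ I.map (algebraMap R R'))
      ((R' ⧸ I.map (algebraMap R R')) ⊗[R'] M') :=
    Module.Flat.of_linearEquiv (TensorProduct.AlgebraTensorModule.congr
      (LinearEquiv.refl (R' ⧸ I.map (algebraMap R R')) (R' ⧸ I.map (algebraMap R R')))
      eR.symm)
  have hB' : Function.Injective ((I.map (algebraMap R R')).subtype.lTensor M') := by
    have hnat : ∀ z : (S' ⊗[S ⊗[R] R'] ((S ⊗[R] R') ⊗[S] M)) ⊗[R'] (I.map (algebraMap R R')),
        (I.map (algebraMap R R')).subtype.lTensor M'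
          (eR.toLinearMap.rTensor (I.map (algebraMap R R')) z) =
        eR.toLinearMap.rTensor R' ((I.map (algebraMap R R')).subtype.lTensor _ z) := by
      intro z
      induction z with
      | zero => simp
      | add a b ha hb => simp only [map_add, ha, hb]
      | tmul p i => rfl
    intro a b hab
    obtain ⟨a', rfl⟩ := (LinearEquiv.rTensor (I.map (algebraMap R R')) eR).surjective a
    obtain ⟨b', rfl⟩ := (LinearEquiv.rTensor (I.map (algebraMap R R')) eR).surjective b
    have hab' : (I.map (algebraMap R R')).subtype.lTensor M'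
          (eR.toLinearMap.rTensor (I.map (algebraMap R R')) a') =
        (I.map (algebraMap R R')).subtype.lTensor M'
          (eR.toLinearMap.rTensor (I.map (algebraMap R R')) b') := hab
    rw [hnat, hnat] at hab'
    have := hB ((LinearEquiv.rTensor R' eR).injective hab')
    rw [this]
  haveI : Module.Finite S' M' := Module.Finite.equiv hf.equiv
  have hJ : (I.map (algebraMap R R')).map (algebraMap R' S') ≤ Ideal.jacobson ⊥ := by
    rw [IsLocalRing.jacobson_eq_maximalIdeal ⊥ bot_ne_top]
    have h1 : I ≤ IsLocalRing.maximalIdeal R := IsLocalRing.le_maximalIdeal hI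
    have h2 : (IsLocalRing.maximalIdeal R).map (algebraMap R R') ≤ IsLocalRing.maximalIdeal R' :=
      ((IsLocalRing.local_hom_TFAE (algebraMap R R')).out 0 2).mp ‹_›
    have h3 : (IsLocalRing.maximalIdeal R').map (algebraMap R' S') ≤ IsLocalRing.maximalIdeal S' :=
      ((IsLocalRing.local_hom_TFAE (algebraMap R' S')).out 0 2).mp ‹_›
    exact (Ideal.map_mono ((Ideal.map_mono h1).trans h2)).trans h3
  exact Groth.Agent.Lib.Helper2.LocalCrit.flat_of_injective_of_flat_quotient (S := S')
    (I.map (algebraMap R R')) hJ hB'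

end Groth.Agent.S12233
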