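import Groth.Statements.S12235
import Mathlib
import Groth.Agent.Lib.Helper13.PerfNorm
import Groth.Agent.Lib.Helper13.NormSmoothBC
import Groth.Agent.Lib.Helper4.MaxOpen
import Groth.Agent.Lib.Helper15.GeomDesc
import Groth.Agent.Lib.Helper6.GeomH0
import Groth.Agent.Lib.Helper16.RS6
import Groth.Agent.S0034
import Groth.Agent.S0223
import Groth.Prelude.Def_Curv2

set_option autoImplicit false
universe u
open CategoryTheory CategoryTheory.Limits AlgebraicGeometry
open Curves

namespace Groth.Agent.S12235

section helpers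
set_option linter.style.haveILetI false
open CategoryTheory CategoryTheory.Limits AlgebraicGeometry TopologicalSpace


open Groth.Agent.Lib.Helper13

/-- the local rings of the spectrum of a field are integrally closed -/
theorem isIntegrallyClosed_stalk_spec_field (K : Type u) [Field K]
    (x : Spec (CommRingCat.of K)) :
    IsIntegrallyClosed ((Spec (CommRingCat.of K)).presheaf.stalk x) := by
  haveI : x.asIdeal.IsPrime := PrimeSpectrum.isPrime x
  letI k : Algebra K ↑((Spec (CommRingCat.of K)).presheaf.stalk x) :=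
    StructureSheaf.stalkAlgebra K x
  haveI : IsLocalization.AtPrime ((Spec (CommRingCat.of K)).presheaf.stalk x) x.asIdeal :=
    StructureSheaf.IsLocalization.to_stalk K x
  exact isIntegrallyClosed_of_isLocalization (R := K)
    ((Spec (CommRingCat.of K)).presheaf.stalk x) x.asIdeal.primeCompl
    x.asIdeal.primeCompl_le_nonZeroDivisors

/-- density criterion via a flat map to an integral scheme -/
theorem dense_of_flat {Y' Y : Scheme.{u}} [IsIntegral Y] (p : Y' ⟶ Y) [Flat p]
    (T : Y'.Opens) (hηT : ∀ y' : Y', p y' = genericPoint Y → y' ∈ T) : Dense (T : Set Y') := by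
  rw [dense_iff_inter_open]
  intro O hO ⟨y, hy⟩
  have hsp : genericPoint Y ⤳ p y := (genericPoint_spec Y).specializes (Set.mem_univ _)
  obtain ⟨y', hy'y, hy'⟩ := (Flat.generalizingMap p) hsp
  exact ⟨y', hy'y.mem_open hO hy, hηT y' hy'⟩

/-- flat base change of the cohomology of the structure sheaf along a field extension
(helper8 `PaSmooth.finrank_HH_baseChange`) -/
theorem finrank_HH_baseChange (k : Type u) [Field k] (X : Scheme.{u}) [X.Over (Spec (CommRingCat.of k))]
    [CompactSpace X] [QuasiSeparatedSpace X]
    (k' : Type u) [Field k'] [Algebra k k'] (X' : Scheme.{u}) [X'.Over (Spec (CommRingCat.of k'))]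
    (g : X' ⟶ X)
    (hpb : IsPullback g (X' ↘ Spec (CommRingCat.of k')) (X ↘ Spec (CommRingCat.of k))
      (Spec.map (CommRingCat.ofHom (algebraMap k k')))) (i : ℕ) :
    Module.finrank k' (Coh.HH X' (Coh.structureModule X') i) =
      Module.finrank k (Coh.HH X (Coh.structureModule X) i) := by
  obtain ⟨e⟩ := Groth.Agent.S0034.result k k' X X' g hpb (Coh.structureModule X) i
  have e2 := Groth.Agent.S0223.hhCongr k' X' (Groth.Agent.Lib.Helper16.RS.pullbackUnitIso g) i
  rw [← (e ≪≫ₗ e2).finrank_eq, Module.finrank_baseChange]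

/-- `H⁰(Y, O) = K` for `Y` proper and smooth over `K` with irreducible geometric fibre -/
theorem finrank_H0_of_smooth (K : Type u) [Field K] (Y : Scheme.{u})
    [Y.Over (Spec (CommRingCat.of K))] [IsProper (Y ↘ Spec (CommRingCat.of K))]
    [Smooth (Y ↘ Spec (CommRingCat.of K))]
    (hirr : IrreducibleSpace ↥(pullback (Y ↘ Spec (CommRingCat.of K))
      (Spec.map (CommRingCat.ofHom (algebraMap K (AlgebraicClosure K)))))) :
    Module.finrank K (Coh.HH Y (Coh.structureModule Y) 0) = 1 := by
  let Kb := AlgebraicClosure K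
  let j : Spec (CommRingCat.of Kb) ⟶ Spec (CommRingCat.of K) :=
    Spec.map (CommRingCat.ofHom (algebraMap K Kb))
  let f := Y ↘ Spec (CommRingCat.of K)
  let Y' := pullback f j
  letI : Y'.Over (Spec (CommRingCat.of Kb)) := ⟨pullback.snd f j⟩
  let g : Y' ⟶ Y := pullback.fst f j
  have hpb : IsPullback g (Y' ↘ Spec (CommRingCat.of Kb)) f j := IsPullback.of_hasPullback f j
  haveI : IsProper (Y' ↘ Spec (CommRingCat.of Kb)) := by
    show IsProper (pullback.snd f j)
    infer_instance
  haveI : Smooth (pullback.snd f j) := inferInstance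
  haveI : IsReduced Y' := by
    haveI : ∀ y : Y', _root_.IsReduced (Y'.presheaf.stalk y) := fun y => by
      haveI := (NormSmoothBC.normal_stalk_of_smooth (pullback.snd f j)
        (isIntegrallyClosed_stalk_spec_field Kb) y).1
      infer_instance
    exact isReduced_of_isReduced_stalk Y'
  haveI : IrreducibleSpace Y' := hirr
  haveI : ConnectedSpace Y' := inferInstance
  haveI : CompactSpace Y := QuasiCompact.compactSpace_of_compactSpace f
  haveI : QuasiSeparatedSpace Y := quasiSeparatedSpace_of_quasiSeparated f
  rw [← finrank_HH_baseChange K Y Kb Y' g hpb 0]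
  exact Groth.Agent.Lib.Helper6.GeomH0.finrank_HH_zero_eq_one Kb Y'


/-- the base change square of a morphism over `S` along `j : S' ⟶ S` -/
theorem isPullback_map {Y W S S' : Scheme.{u}} (h : Y ⟶ W) (str : W ⟶ S) (j : S' ⟶ S)
    (f : Y ⟶ S) (hf : h ≫ str = f) :
    IsPullback (pullback.map f j str j h (𝟙 _) (𝟙 _) (by rw [Category.comp_id, hf]) (by simp))
      (pullback.fst f j) (pullback.fst str j) h := by
  have hfst : pullback.map f j str j h (𝟙 _) (𝟙 _) (by rw [Category.comp_id, hf]) (by simp) ≫
      pullback.fst str j = pullback.fst f j ≫ h := pullback.lift_fst _ _ _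
  have hsnd : pullback.map f j str j h (𝟙 _) (𝟙 _) (by rw [Category.comp_id, hf]) (by simp) ≫
      pullback.snd str j = pullback.snd f j :=
    (pullback.lift_snd _ _ _).trans (Category.comp_id _)
  have sq0 : IsPullback (pullback.fst f j)
      (pullback.map f j str j h (𝟙 _) (𝟙 _) (by rw [Category.comp_id, hf]) (by simp)) h
      (pullback.fst str j) := by
    refine IsPullback.of_bot ?_ hfst.symm (IsPullback.of_hasPullback str j)
    rw [hsnd, hf]
    exact IsPullback.of_hasPullback f j
  exact sq0.flip

/-- irreducibility of a flat base change of a scheme birational onto its image -/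
theorem irreducibleSpace_of_isPullback {Y W Y' W' : Scheme.{u}} [IsIntegral Y]
    (h : Y ⟶ W) [Surjective h] (V : W.Opens) (hV : (V : Set W).Nonempty)
    (hcl : IsClosedImmersion (h ∣_ V))
    (h' : Y' ⟶ W') (p : Y' ⟶ Y) (q : W' ⟶ W) (sq : IsPullback h' p q h)
    [Flat p] [Surjective q] [IrreducibleSpace W'] : IrreducibleSpace Y' := by
  let U : W'.Opens := q ⁻¹ᵁ V
  have hclU : IsClosedImmersion (h' ∣_ U) :=
    Groth.Agent.Lib.Helper4.MaxOpen.P_restrict_of_isPullback @IsClosedImmersion sq V U le_rfl hcl
  haveI : Surjective h' := MorphismProperty.of_isPullback (P := @Surjective) sq.flip inferInstance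
  have hUne : (U : Set W').Nonempty := by
    obtain ⟨v, hv⟩ := hV
    obtain ⟨w, rfl⟩ := q.surjective v
    exact ⟨w, hv⟩
  have hUirr : IsIrreducible (U : Set W') :=
    ⟨hUne, (IrreducibleSpace.isIrreducible_univ W').isPreirreducible.open_subset U.isOpen
      (Set.subset_univ _)⟩
  haveI : IrreducibleSpace ↥(U : Set W') := Subtype.irreducibleSpace hUirr
  -- `h' ∣_ U` is a homeomorphism
  have hsurjU : Function.Surjective (h' ∣_ U) := by
    rintro ⟨w, hw⟩
    obtain ⟨y, rfl⟩ := h'.surjective w
    exact ⟨⟨y, hw⟩, Subtype.ext (morphismRestrict_base_coe h' U ⟨y, hw⟩)⟩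
  have hhomeo : IsHomeomorph (h' ∣_ U) :=
    isHomeomorph_iff_continuous_isClosedMap_bijective.mpr
      ⟨(h' ∣_ U).continuous, (h' ∣_ U).isClosedEmbedding.isClosedMap,
        (h' ∣_ U).isClosedEmbedding.injective, hsurjU⟩
  haveI : IrreducibleSpace ↥((h' ⁻¹ᵁ U : Y'.Opens) : Set Y') := by
    have e := hhomeo.homeomorph (h' ∣_ U)
    exact (e.irreducibleSpace_iff).mpr (inferInstanceAs (IrreducibleSpace ↥(U : Set W')))
  have hTirr : IsIrreducible ((h' ⁻¹ᵁ U : Y'.Opens) : Set Y') :=
    IsIrreducible.of_subtype (s := ((h' ⁻¹ᵁ U : Y'.Opens) : Set Y'))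
  -- density
  have hηV : h (genericPoint Y) ∈ V := by
    obtain ⟨v, hv⟩ := hV
    obtain ⟨y, rfl⟩ := h.surjective v
    have hsp : genericPoint Y ⤳ y := (genericPoint_spec Y).specializes (Set.mem_univ _)
    exact (hsp.map h.continuous).mem_open V.isOpen hv
  have hdense : Dense ((h' ⁻¹ᵁ U : Y'.Opens) : Set Y') := by
    refine dense_of_flat p (h' ⁻¹ᵁ U) ?_
    intro y' hy'
    show q (h' y') ∈ V
    have e : (h' ≫ q) y' = (p ≫ h) y' := by rw [sq.w]
    rw [Scheme.Hom.comp_apply, Scheme.Hom.comp_apply, hy'] at e
    rw [e]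
    exact hηV
  have h2 := hTirr.closure
  rw [hdense.closure_eq] at h2
  exact (irreducibleSpace_def Y').mpr h2

theorem main (k : Type u) [Field k] (X : Scheme.{u})
    [X.Over (Spec (CommRingCat.of k))] [IsIntegral X] [IsProper (X ↘ (Spec (CommRingCat.of k)))]
    [GeometricallyIrreducible (X ↘ (Spec (CommRingCat.of k)))] (hdim : topologicalKrullDim X = 1)
    (K : Type u) [Field K] [Algebra k K] [IsIntegral ((Curv2.bc k X K).nilradical).subscheme]
    [QuasiCompact ((((Curv2.bc k X K).nilradical).subscheme).fromSpecStalk (genericPoint ((Curv2.bc k X K).nilradical).subscheme))]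
    [QuasiSeparated ((((Curv2.bc k X K).nilradical).subscheme).fromSpecStalk (genericPoint ((Curv2.bc k X K).nilradical).subscheme))]
    (hsm : Smooth (Curv2.normalizationι ((Curv2.bc k X K).nilradical).subscheme ≫ ((Curv2.bc k X K).nilradical).subschemeι ≫ Curv2.bcSnd k X K)) :
    letI : (Curv2.normalization ((Curv2.bc k X K).nilradical).subscheme).Over (Spec (CommRingCat.of K)) := ⟨(Curv2.normalizationι ((Curv2.bc k X K).nilradical).subscheme ≫ ((Curv2.bc k X K).nilradical).subschemeι ≫ Curv2.bcSnd k X K)⟩
    Module.finrank K (Coh.HH (Curv2.normalization ((Curv2.bc k X K).nilradical).subscheme) (Coh.structureModule (Curv2.normalization ((Curv2.bc k X K).nilradical).subscheme)) 0) = 1 := by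
  letI : (Curv2.normalization ((Curv2.bc k X K).nilradical).subscheme).Over (Spec (CommRingCat.of K)) := ⟨(Curv2.normalizationι ((Curv2.bc k X K).nilradical).subscheme ≫ ((Curv2.bc k X K).nilradical).subschemeι ≫ Curv2.bcSnd k X K)⟩
  haveI : LocallyOfFiniteType (Curv2.bcSnd k X K) := inferInstance
  haveI : IsProper (Curv2.bcSnd k X K) := inferInstance
  obtain ⟨hfin, hsurj, hintY, V, hVne, hcl⟩ :=
    PerfNorm.props_gen K (Curv2.bc k X K) (Curv2.bcSnd k X K)
  haveI := hfin
  haveI := hsurj
  haveI := hintY
  let h := Curv2.normalizationι ((Curv2.bc k X K).nilradical).subscheme ≫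
    ((Curv2.bc k X K).nilradical).subschemeι
  let f := Curv2.normalizationι ((Curv2.bc k X K).nilradical).subscheme ≫
    ((Curv2.bc k X K).nilradical).subschemeι ≫ Curv2.bcSnd k X K
  have hf : h ≫ Curv2.bcSnd k X K = f := Category.assoc _ _ _
  haveI : IsProper f := by
    rw [← hf]
    infer_instance
  haveI : Smooth f := hsm
  let j : Spec (CommRingCat.of (AlgebraicClosure K)) ⟶ Spec (CommRingCat.of K) :=
    Spec.map (CommRingCat.ofHom (algebraMap K (AlgebraicClosure K)))
  have sq := isPullback_map h (Curv2.bcSnd k X K) j f hf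
  haveI : Surjective j :=
    Groth.Agent.Lib.Helper15.GeomDesc.surjective_specMap_field (algebraMap K (AlgebraicClosure K))
  haveI : Flat j := by
    rw [Flat.SpecMap_iff]
    exact RingHom.flat_algebraMap_iff.mpr inferInstance
  haveI : GeometricallyIrreducible (Curv2.bcSnd k X K) := inferInstance
  haveI : IrreducibleSpace ↥(pullback (Curv2.bcSnd k X K) j) :=
    GeometricallyIrreducible.geometrically_irreducibleSpace (f := Curv2.bcSnd k X K) j
      (pullback.fst _ _) (pullback.snd _ _) (IsPullback.of_hasPullback _ _)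
  have hirr : IrreducibleSpace ↥(pullback f j) :=
    irreducibleSpace_of_isPullback h V hVne hcl _ (pullback.fst f j)
      (pullback.fst (Curv2.bcSnd k X K) j) sq
  haveI hprop : IsProper (Curv2.normalization ((Curv2.bc k X K).nilradical).subscheme ↘
      Spec (CommRingCat.of K)) := ‹IsProper f›
  haveI hsmo : Smooth (Curv2.normalization ((Curv2.bc k X K).nilradical).subscheme ↘
      Spec (CommRingCat.of K)) := hsm
  exact finrank_H0_of_smooth K _ hirr


end helpers

/-- Let k be a field, X a proper geometrically irreducible curve over k (proper over k, integral, of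
dimension one), K/k a field extension and Y_K the normalization of the reduction of X_K (that
reduction is integral). If Y_K is smooth over K then H^0(Y_K, O) = K: the global functions of Y_K
form a one-dimensional K-vector space. (Stated for proper X; the instance hypotheses on (X_K)_red
always hold.) -/
theorem result (k : Type u) [Field k] (X : Scheme.{u})
    [X.Over (Spec (CommRingCat.of k))] [IsIntegral X] [IsProper (X ↘ (Spec (CommRingCat.of k)))]
    [GeometricallyIrreducible (X ↘ (Spec (CommRingCat.of k)))] (hdim : topologicalKrullDim X = 1)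
    (K : Type u) [Field K] [Algebra k K] [IsIntegral ((Curv2.bc k X K).nilradical).subscheme]
    [QuasiCompact ((((Curv2.bc k X K).nilradical).subscheme).fromSpecStalk (genericPoint ((Curv2.bc k X K).nilradical).subscheme))]
    [QuasiSeparated ((((Curv2.bc k X K).nilradical).subscheme).fromSpecStalk (genericPoint ((Curv2.bc k X K).nilradical).subscheme))]
    (hsm : Smooth (Curv2.normalizationι ((Curv2.bc k X K).nilradical).subscheme ≫ ((Curv2.bc k X K).nilradical).subschemeι ≫ Curv2.bcSnd k X K)) :
    letI : (Curv2.normalization ((Curv2.bc k X K).nilradical).subscheme).Over (Spec (CommRingCat.of K)) := ⟨(Curv2.normalizationι ((Curv2.bc k X K).nilradical).subscheme ≫ ((Curv2.bc k X K).nilradical).subschemeι ≫ Curv2.bcSnd k X K)⟩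
    Module.finrank K (Coh.HH (Curv2.normalization ((Curv2.bc k X K).nilradical).subscheme) (Coh.structureModule (Curv2.normalization ((Curv2.bc k X K).nilradical).subscheme)) 0) = 1 := by
  exact main k X hdim K hsm

end Groth.Agent.S12235
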