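import Groth.Statements.S12236
import Groth.Agent.Lib.Helper12.IndEtPieces
import Groth.Agent.Lib.Helper12.HensStruct

set_option autoImplicit false
universe u
open Hensel

namespace Groth.Agent.S12236

/-- Let R be a local ring and R^h a henselization of R, characterised by its universal property
(henselian local, local structure map, initial among local homomorphisms from R to henselian local
rings). Then R^h is ind-étale over R: the R-algebra R^h is a filtered colimit, in the category of
R-algebras, of étale R-algebras. -/
theorem result (R : Type u) [CommRing R] [IsLocalRing R]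
    (Rh : Type u) [CommRing Rh] [IsLocalRing Rh] [Algebra R Rh] [IsLocalHom (algebraMap R Rh)]
    [Hensel.IsHenselization R Rh] : EtPBC.IsIndEtale R Rh := by
  apply Groth.Agent.Lib.Helper12.IndEtPieces.isIndEtale_of_pieces
  intro s
  obtain ⟨i, ψ, hinj, hloc, hr⟩ := Groth.Agent.Lib.Helper12.HensStruct.exists_nbhd_range R Rh s
  exact ⟨⟨i.n, i.I, i.etale, RingHom.ker i.π, inferInstance, ψ, hinj, hloc⟩, hr⟩

end Groth.Agent.S12236
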