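import Groth.Statements.S1224
-- import your own Groth.Agent.* helpers here
import Groth.Agent.Lib.Helper23.FiberIdeal
import Mathlib.RingTheory.IsTensorProduct
import Mathlib.RingTheory.IntegralClosure.IsIntegralClosure.Basic

set_option autoImplicit false
universe u
open FlatMor

namespace Groth.Agent.S1224

open Groth.Agent.Lib.Helper23.FiberIdeal in
open scoped TensorProduct in
attribute [local instance] Algebra.TensorProduct.rightAlgebra in
/-- the annihilator of the module lies in every prime whose fibre ideal is associated -/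
lemma ann_le {B B' A' N N' : Type u} [CommRing B] [CommRing B'] [CommRing A'] [Algebra B B']
    [Algebra A' B'] [AddCommGroup N] [Module B N] [AddCommGroup N'] [Module B' N'] [Module B N']
    [IsScalarTower B B' N'] (f : N →ₗ[B] N') (hf : IsBaseChange B' f)
    (t' : Ideal A') [t'.IsPrime] (P : Ideal B') [P.IsPrime] [P.LiesOver t']
    (hass : FlatCA.fiberIdeal t' P ∈ associatedPrimes (t'.Fiber B') (FlatCA.fiberMod t' B' N')) :
    (Module.annihilator B N).map (algebraMap B B') ≤ P := by
  rw [Ideal.map_le_iff_le_comap]
  intro b hb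
  rw [Ideal.mem_comap]
  apply mem_of_one_tmul_mem_fiberIdeal t' P
  apply IsAssociatedPrime.annihilator_le hass
  rw [Submodule.mem_annihilator]
  intro z _
  have hkill : ∀ n' : N', (algebraMap B B' b) • n' = 0 := by
    intro n'
    induction n' using hf.inductionOn with
    | zero => simp
    | tmul n =>
      rw [algebraMap_smul, ← f.map_smul, Module.mem_annihilator.mp hb n, map_zero]
    | smul s n ih => rw [smul_comm, ih, smul_zero]
    | add n₁ n₂ h₁ h₂ => rw [smul_add, h₁, h₂, add_zero]
  have key : ∀ w : (t'.Fiber B') ⊗[B'] N',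
      ((1 : t'.ResidueField) ⊗ₜ[A'] (algebraMap B B' b) : t'.Fiber B') • w = 0 := by
    intro w
    induction w using TensorProduct.induction_on with
    | zero => simp
    | tmul x n' =>
      rw [TensorProduct.smul_tmul', smul_eq_mul]
      have : ((1 : t'.ResidueField) ⊗ₜ[A'] (algebraMap B B' b) : t'.Fiber B') * x
          = (algebraMap B B' b) • x := by
        rw [Algebra.smul_def]; rfl
      rw [this, TensorProduct.smul_tmul, hkill, TensorProduct.tmul_zero]
    | add x y hx hy => rw [smul_add, hx, hy, add_zero]
  exact key z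

/-- finiteness of the quotient passes to the base change -/
lemma finite_quot {A B A' B' : Type u} [CommRing A] [CommRing B] [CommRing A'] [CommRing B']
    [Algebra A B] [Algebra A A'] [Algebra B B'] [Algebra A' B'] [Algebra A B']
    [IsScalarTower A B B'] [IsScalarTower A A' B'] (hpo : Algebra.IsPushout A B A' B')
    (I : Ideal B) [Module.Finite A (B ⧸ I)] :
    Module.Finite A' (B' ⧸ I.map (algebraMap B B')) := by
  classical
  have hbc : IsBaseChange A' (IsScalarTower.toAlgHom A B B').toLinearMap := hpo.symm.out
  obtain ⟨s, hs⟩ := (Module.Finite.fg_top : (⊤ : Submodule A (B ⧸ I)).FG)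
  let ψ : (B ⧸ I) →+* (B' ⧸ I.map (algebraMap B B')) :=
    Ideal.quotientMap _ (algebraMap B B') Ideal.le_comap_map
  refine ⟨⟨s.image ψ, ?_⟩⟩
  set T : Submodule A' (B' ⧸ I.map (algebraMap B B')) :=
    Submodule.span A' ((s.image ψ : Finset _) : Set _) with hT
  have h1 : ∀ x : B ⧸ I, ψ x ∈ T := by
    intro x
    have hx : x ∈ Submodule.span A ((s : Set (B ⧸ I))) := by rw [hs]; trivial
    induction hx using Submodule.span_induction with
    | mem y hy =>
      apply Submodule.subset_span
      simp only [Finset.coe_image]
      exact ⟨y, hy, rfl⟩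
    | zero => simp
    | add y z _ _ hy hz => rw [map_add]; exact T.add_mem hy hz
    | smul a y _ hy =>
      have : ψ (a • y) = (algebraMap A A' a) • ψ y := by
        obtain ⟨y, rfl⟩ := Ideal.Quotient.mk_surjective y
        rw [Algebra.smul_def, Algebra.smul_def, map_mul]
        congr 1
        rw [IsScalarTower.algebraMap_apply A B (B ⧸ I), Ideal.Quotient.algebraMap_eq]
        simp only [ψ, Ideal.quotientMap_mk]
        rw [IsScalarTower.algebraMap_apply A' B' (B' ⧸ _), Ideal.Quotient.algebraMap_eq,
          ← IsScalarTower.algebraMap_apply A B B', ← IsScalarTower.algebraMap_apply A A' B']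
      rw [this]
      exact T.smul_mem _ hy
  rw [eq_top_iff]
  rintro x -
  obtain ⟨x, rfl⟩ := Ideal.Quotient.mk_surjective x
  induction x using hbc.inductionOn with
  | zero => simp
  | tmul b =>
    have := h1 (Ideal.Quotient.mk I b)
    simpa [ψ] using this
  | smul a' n ih =>
    have : Ideal.Quotient.mk (I.map (algebraMap B B')) (a' • n)
        = a' • Ideal.Quotient.mk (I.map (algebraMap B B')) n := rfl
    rw [this]
    exact T.smul_mem _ ih
  | add n₁ n₂ h₁ h₂ => rw [map_add]; exact T.add_mem h₁ h₂


/-- Ring form, X = Spec B affine, where proper support means finite support: let B be a finite type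
A-algebra and N a finite B-module such that B modulo the annihilator of N is finite over A. Then N
is universally pure relative to Spec A. -/
theorem result {A B : Type u} [CommRing A] [CommRing B] [Algebra A B] [Algebra.FiniteType A B]
    (N : Type u) [AddCommGroup N] [Module B N] [Module A N] [IsScalarTower A B N] [Module.Finite B N]
    [Module.Finite A (B ⧸ Module.annihilator B N)] : FlatCA.IsUnivPure A B N := by
  intro p _ A' B' N' _ _ _ _ _ _ _ _ _ _ _ _ _ _ f t' t _ _ P _ himp
  obtain ⟨hpo, hbc, hle, htp, hPt', hass, hno⟩ := himp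
  have hIP := ann_le f hbc t' P hass
  have := finite_quot hpo (Module.annihilator B N)
  set I' := (Module.annihilator B N).map (algebraMap B B') with hI'
  have : Algebra.IsIntegral A' (B' ⧸ I') := Algebra.IsIntegral.of_finite A' (B' ⧸ I')
  -- the image of `P` in the quotient
  have hPbar : (P.map (Ideal.Quotient.mk I')).IsPrime :=
    Ideal.map_isPrime_of_surjective Ideal.Quotient.mk_surjective (by rwa [Ideal.mk_ker])
  have hcomapP : (P.map (Ideal.Quotient.mk I')).comap (Ideal.Quotient.mk I') = P := by
    rw [Ideal.comap_map_of_surjective _ Ideal.Quotient.mk_surjective, ← RingHom.ker_eq_comap_bot,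
      Ideal.mk_ker, sup_eq_left.mpr hIP]
  have hcomap : (P.map (Ideal.Quotient.mk I')).comap (algebraMap A' (B' ⧸ I')) ≤ t := by
    rw [IsScalarTower.algebraMap_eq A' B' (B' ⧸ I'), ← Ideal.comap_comap,
      Ideal.Quotient.algebraMap_eq, hcomapP,
      show Ideal.comap (algebraMap A' B') P = t' from hPt'.over.symm]
    exact hle
  obtain ⟨Q, hQge, hQprime, hQt⟩ :=
    Ideal.exists_ideal_over_prime_of_isIntegral_of_isPrime t (P.map (Ideal.Quotient.mk I')) hcomap
  refine hno (Q.comap (Ideal.Quotient.mk I')) ?_ ⟨?_⟩
  · rw [← hcomapP]; exact Ideal.comap_mono hQge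
  · rw [← hQt, IsScalarTower.algebraMap_eq A' B' (B' ⧸ I'), ← Ideal.comap_comap,
      Ideal.Quotient.algebraMap_eq]

end Groth.Agent.S1224
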