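import Groth.Statements.S12240
import Mathlib
import Groth.Agent.Lib.Helper13.NormRedIso
import Groth.Agent.Lib.Helper13.NormSmoothBC
import Groth.Agent.Lib.Helper13.NormFT
import Groth.Agent.Lib.Helper4.MaxOpen
import Groth.Agent.Lib.Helper15.GeomDesc
import Groth.Prelude.Def_Curv2

set_option autoImplicit false
universe u
open CategoryTheory CategoryTheory.Limits AlgebraicGeometry
open Curves

namespace Groth.Agent.S12240

section helpers
set_option linter.style.haveILetI false
open CategoryTheory CategoryTheory.Limits AlgebraicGeometry TopologicalSpace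


open Groth.Agent.Lib.Helper13

/-- the local rings of the spectrum of a field are integrally closed -/
theorem isIntegrallyClosed_stalk_spec_field (K : Type u) [Field K]
    (x : Spec (CommRingCat.of K)) :
    IsIntegrallyClosed ((Spec (CommRingCat.of K)).presheaf.stalk x) := by
  haveI : x.asIdeal.IsPrime := PrimeSpectrum.isPrime x
  letI k : Algebra K ↑((Spec (CommRingCat.of K)).presheaf.stalk x) :=
    StructureSheaf.stalkAlgebra K x
  haveI : IsLocalization.AtPrime ((Spec (CommRingCat.of K)).presheaf.stalk x) x.asIdeal :=
    StructureSheaf.IsLocalization.to_stalk K x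
  exact isIntegrallyClosed_of_isLocalization (R := K)
    ((Spec (CommRingCat.of K)).presheaf.stalk x) x.asIdeal.primeCompl
    x.asIdeal.primeCompl_le_nonZeroDivisors

/-- density criterion via a flat map to an integral scheme -/
theorem dense_of_flat {Y' Y : Scheme.{u}} [IsIntegral Y] (p : Y' ⟶ Y) [Flat p]
    (T : Y'.Opens) (hηT : ∀ y' : Y', p y' = genericPoint Y → y' ∈ T) : Dense (T : Set Y') := by
  rw [dense_iff_inter_open]
  intro O hO ⟨y, hy⟩
  have hsp : genericPoint Y ⤳ p y := (genericPoint_spec Y).specializes (Set.mem_univ _)
  obtain ⟨y', hy'y, hy'⟩ := (Flat.generalizingMap p) hsp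
  exact ⟨y', hy'y.mem_open hO hy, hηT y' hy'⟩

theorem main (K : Type u) [Field K] (X : Scheme.{u})
    [X.Over (Spec (CommRingCat.of K))] [IsIntegral X] [IsProper (X ↘ (Spec (CommRingCat.of K)))]
    [GeometricallyIrreducible (X ↘ (Spec (CommRingCat.of K)))] (hdim : topologicalKrullDim X = 1)
    [QuasiCompact (X.fromSpecStalk (genericPoint X))] [QuasiSeparated (X.fromSpecStalk (genericPoint X))]
    (hsm : Smooth (Curv2.normalizationι X ≫ (X ↘ (Spec (CommRingCat.of K)))))
    (Ω : Type u) [Field Ω] [Algebra K Ω]
    [IsIntegral ((Curv2.bc K X Ω).nilradical).subscheme]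
    [QuasiCompact ((((Curv2.bc K X Ω).nilradical).subscheme).fromSpecStalk (genericPoint ((Curv2.bc K X Ω).nilradical).subscheme))]
    [QuasiSeparated ((((Curv2.bc K X Ω).nilradical).subscheme).fromSpecStalk (genericPoint ((Curv2.bc K X Ω).nilradical).subscheme))] :
    ∃ e : Limits.pullback (Curv2.normalizationι X ≫ (X ↘ (Spec (CommRingCat.of K))))
          (Spec.map (CommRingCat.ofHom (algebraMap K Ω))) ≅
        Curv2.normalization ((Curv2.bc K X Ω).nilradical).subscheme,
      e.hom ≫ Curv2.normalizationι ((Curv2.bc K X Ω).nilradical).subscheme ≫ ((Curv2.bc K X Ω).nilradical).subschemeι =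
        Limits.pullback.map (Curv2.normalizationι X ≫ (X ↘ (Spec (CommRingCat.of K))))
          (Spec.map (CommRingCat.ofHom (algebraMap K Ω))) (X ↘ (Spec (CommRingCat.of K)))
          (Spec.map (CommRingCat.ofHom (algebraMap K Ω))) (Curv2.normalizationι X) (𝟙 _) (𝟙 _)
          (Category.comp_id _) ((Category.comp_id _).trans (Category.id_comp _).symm) := by
  -- notation
  let str : X ⟶ Spec (CommRingCat.of K) := X ↘ Spec (CommRingCat.of K)
  let φ : Spec (CommRingCat.of Ω) ⟶ Spec (CommRingCat.of K) :=
    Spec.map (CommRingCat.ofHom (algebraMap K Ω))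
  let ν : Curv2.normalization X ⟶ X := Curv2.normalizationι X
  let h : pullback (ν ≫ str) φ ⟶ pullback str φ :=
    pullback.map (ν ≫ str) φ str φ ν (𝟙 _) (𝟙 _)
      (Category.comp_id _) ((Category.comp_id _).trans (Category.id_comp _).symm)
  have hfst : h ≫ pullback.fst str φ = pullback.fst (ν ≫ str) φ ≫ ν := pullback.lift_fst _ _ _
  have hsnd : h ≫ pullback.snd str φ = pullback.snd (ν ≫ str) φ :=
    (pullback.lift_snd _ _ _).trans (Category.comp_id _)
  -- the base change square
  have sq0 : IsPullback (pullback.fst (ν ≫ str) φ) h ν (pullback.fst str φ) := by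
    refine IsPullback.of_bot ?_ hfst.symm (IsPullback.of_hasPullback str φ)
    rw [hsnd]
    exact IsPullback.of_hasPullback (ν ≫ str) φ
  have sq : IsPullback h (pullback.fst (ν ≫ str) φ) (pullback.fst str φ) ν := sq0.flip
  -- integrality and surjectivity
  haveI : IsIntegralHom ν := by
    show IsIntegralHom (X.fromSpecStalk (genericPoint X)).fromNormalization
    infer_instance
  haveI : IsIntegralHom h := MorphismProperty.of_isPullback (P := @IsIntegralHom) sq0 inferInstance
  haveI : Surjective ν := ⟨Normalization.surjective_fromNormalization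
    (Field.toIsField X.functionField) _ (NormDimOne.hgη_fromSpecStalk X)⟩
  haveI : Surjective h := MorphismProperty.of_isPullback (P := @Surjective) sq0 inferInstance
  -- normality of the base change
  haveI : Smooth (ν ≫ str) := hsm
  haveI : Smooth (pullback.snd (ν ≫ str) φ) := inferInstance
  have hn : ∀ y : ↥(pullback (ν ≫ str) φ),
      IsDomain ((pullback (ν ≫ str) φ).presheaf.stalk y) ∧
        IsIntegrallyClosed ((pullback (ν ≫ str) φ).presheaf.stalk y) := fun y =>
    NormSmoothBC.normal_stalk_of_smooth (pullback.snd (ν ≫ str) φ)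
      (isIntegrallyClosed_stalk_spec_field Ω) y
  -- the normal open
  obtain ⟨V, hVne, hV⟩ := NormFT.exists_normal_open K str
  have hisoV : IsIso (ν ∣_ V) := NormIso.isIso_morphismRestrict_normalization X V hV
  let U : (pullback str φ).Opens := pullback.fst str φ ⁻¹ᵁ V
  have hisoU : IsIso (h ∣_ U) :=
    Groth.Agent.Lib.Helper4.MaxOpen.P_restrict_of_isPullback
      (MorphismProperty.isomorphisms Scheme.{u}) sq V U le_rfl hisoV
  haveI : Surjective φ :=
    Groth.Agent.Lib.Helper15.GeomDesc.surjective_specMap_field (algebraMap K Ω)
  haveI : Surjective (pullback.fst str φ) := inferInstance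
  have hUne : (U : Set ↥(pullback str φ)).Nonempty := by
    obtain ⟨x, hx⟩ := hVne
    obtain ⟨w, rfl⟩ := (pullback.fst str φ).surjective x
    exact ⟨w, hx⟩
  -- density
  haveI : IsIntegral (Curv2.normalization X) := NormDimOne.isIntegral_normalization X
  haveI : Flat φ := by
    rw [Flat.SpecMap_iff]
    exact RingHom.flat_algebraMap_iff.mpr inferInstance
  haveI : Flat (pullback.fst (ν ≫ str) φ) := inferInstance
  have hdense : Dense ((h ⁻¹ᵁ U : (pullback (ν ≫ str) φ).Opens) : Set ↥(pullback (ν ≫ str) φ)) := by
    refine dense_of_flat (pullback.fst (ν ≫ str) φ) (h ⁻¹ᵁ U) ?_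
    intro y' hy'
    show (h y') ∈ U
    show (pullback.fst str φ) (h y') ∈ V
    rw [← Scheme.Hom.comp_apply, hfst, Scheme.Hom.comp_apply, hy']
    have : ν (genericPoint (Curv2.normalization X)) = genericPoint X :=
      NormIso.fromNormalization_genericPoint' X
    rw [this]
    exact ((genericPoint_spec X).mem_open_set_iff V.isOpen).mpr
      (by obtain ⟨x, hx⟩ := hVne; exact ⟨x, Set.mem_univ _, hx⟩)
  haveI : IsClosedImmersion (h ∣_ U) := by
    haveI := hisoU
    infer_instance
  exact NormRedIso.exists_iso_normalization_red (W := pullback str φ) h hn U hUne hdense inferInstance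


end helpers

/-- Stated over the field where the nonsingular projective model is already smooth. Let K be a field and
X a proper geometrically irreducible curve over K (proper over K, integral, of dimension one) whose
normalization Y = X^ν is smooth over K. Then for every field extension Ω of K the base change Y_Ω,
together with its map to X_Ω, is the normalization of the reduction (X_Ω)_red: there is an
isomorphism from Y_Ω to the normalization of (X_Ω)_red whose composite with the normalization map
and the closed immersion (X_Ω)_red → X_Ω is the base change Y_Ω → X_Ω of Y → X. (Applied to the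
reduction of the base change of a geometrically irreducible proper curve to a field over which its
nonsingular projective model becomes smooth, this says that the smooth model is compatible with all
further field extensions; the instance hypotheses on (X_Ω)_red — integrality and the two conditions
needed to form the normalization — always hold.) -/
theorem result (K : Type u) [Field K] (X : Scheme.{u})
    [X.Over (Spec (CommRingCat.of K))] [IsIntegral X] [IsProper (X ↘ (Spec (CommRingCat.of K)))]
    [GeometricallyIrreducible (X ↘ (Spec (CommRingCat.of K)))] (hdim : topologicalKrullDim X = 1)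
    [QuasiCompact (X.fromSpecStalk (genericPoint X))] [QuasiSeparated (X.fromSpecStalk (genericPoint X))]
    (hsm : Smooth (Curv2.normalizationι X ≫ (X ↘ (Spec (CommRingCat.of K)))))
    (Ω : Type u) [Field Ω] [Algebra K Ω]
    [IsIntegral ((Curv2.bc K X Ω).nilradical).subscheme]
    [QuasiCompact ((((Curv2.bc K X Ω).nilradical).subscheme).fromSpecStalk (genericPoint ((Curv2.bc K X Ω).nilradical).subscheme))]
    [QuasiSeparated ((((Curv2.bc K X Ω).nilradical).subscheme).fromSpecStalk (genericPoint ((Curv2.bc K X Ω).nilradical).subscheme))] :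
    ∃ e : Limits.pullback (Curv2.normalizationι X ≫ (X ↘ (Spec (CommRingCat.of K))))
          (Spec.map (CommRingCat.ofHom (algebraMap K Ω))) ≅
        Curv2.normalization ((Curv2.bc K X Ω).nilradical).subscheme,
      e.hom ≫ Curv2.normalizationι ((Curv2.bc K X Ω).nilradical).subscheme ≫ ((Curv2.bc K X Ω).nilradical).subschemeι =
        Limits.pullback.map (Curv2.normalizationι X ≫ (X ↘ (Spec (CommRingCat.of K))))
          (Spec.map (CommRingCat.ofHom (algebraMap K Ω))) (X ↘ (Spec (CommRingCat.of K)))
          (Spec.map (CommRingCat.ofHom (algebraMap K Ω))) (Curv2.normalizationι X) (𝟙 _) (𝟙 _)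
          (Category.comp_id _) ((Category.comp_id _).trans (Category.id_comp _).symm) := by
  exact main K X hdim hsm Ω

end Groth.Agent.S12240
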