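import Groth.Statements.S15131
import Groth.Agent.Lib.Helper1.ArtFunAction

set_option autoImplicit false
universe u v
open CategoryTheory
open ArtFun

namespace Groth.Agent.S15131

section helpers
open ArtFun.Art Groth.Agent.Lib.Helper1.ArtFunBasic Groth.Agent.Lib.Helper1.ArtFunFib
  Groth.Agent.Lib.Helper1.ArtFunTangent Groth.Agent.Lib.Helper1.ArtFunAction

variable {k : Type u} [Field k] (F : ArtFun.Art k k ⥤ Type v)

theorem subsingleton_step (h1 : ArtFun.Hbar F) (h2 : ArtFun.Heps F)
    (ht : Subsingleton (ArtFun.TangentSpace F)) {A B : Art k k} (μ : B ⟶ A) (hμ : IsSmallExt μ)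
    (hA : Subsingleton (F.obj A)) : Subsingleton (F.obj B) := by
  obtain ⟨d⟩ := nonempty_smallData hμ
  refine ⟨fun x y => ?_⟩
  have hxy : F.map μ x = F.map μ y := Subsingleton.elim _ _
  obtain ⟨z, hz⟩ := h1 _ _ _ _ d.sq hμ ⟨(x, y), hxy⟩
  have hz1 : F.map (tFst B) z = x := congrArg (fun w => w.1.1) hz
  have hz2 : F.map d.act z = y := congrArg (fun w => w.1.2) hz
  have hinj := (h2 _ _ (tObj_isFibreProd B)).1
  have hzz : z = F.map (tSec B) x := by
    apply hinj
    apply Subtype.ext
    apply Prod.ext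
    · change F.map (tFst B) z = F.map (tFst B) (F.map (tSec B) x)
      rw [hz1, ← Groth.Agent.Lib.Helper1.ArtFunFib.map_comp_apply, tSec_tFst, Groth.Agent.Lib.Helper1.ArtFunFib.map_id_apply]
    · exact ht.elim _ _
  rw [← hz2, hzz, ← Groth.Agent.Lib.Helper1.ArtFunFib.map_comp_apply, d.sec_act, Groth.Agent.Lib.Helper1.ArtFunFib.map_id_apply]

theorem subsingleton_of_surjective (h1 : ArtFun.Hbar F) (h2 : ArtFun.Heps F)
    (ht : Subsingleton (ArtFun.TangentSpace F)) ⦃A B : Art k k⦄ (f : B ⟶ A)
    (hf : Function.Surjective f) : Subsingleton (F.obj A) → Subsingleton (F.obj B) := by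
  refine surjective_induction_smallExt
    (fun A B (f : B ⟶ A) => Subsingleton (F.obj A) → Subsingleton (F.obj B)) ?_ ?_ ?_ f hf
  · intro A B e he hA
    refine ⟨fun x y => ?_⟩
    have := hA.elim (F.map e x) (F.map e y)
    have h2 := congrArg (F.map (inv e)) this
    rwa [← Groth.Agent.Lib.Helper1.ArtFunFib.map_comp_apply,
      ← Groth.Agent.Lib.Helper1.ArtFunFib.map_comp_apply, IsIso.hom_inv_id,
      Groth.Agent.Lib.Helper1.ArtFunFib.map_id_apply,
      Groth.Agent.Lib.Helper1.ArtFunFib.map_id_apply] at h2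
  · intro A B p hp hA
    exact subsingleton_step F h1 h2 ht p hp hA
  · intro A B C p q hp hq hA
    exact hp (hq hA)

end helpers

/-- Let k be a field and F a functor on local Artinian k-algebras with residue field k with F(k) a
single point, satisfying (H1) (the comparison map of A₁ ×_A A₂ is surjective when A₂ → A is a small
extension) and (H2) (it is bijective when A = k and A₂ = k[ε]). If the tangent space F(k[ε]) is a
single point then F is the one-point functor: every F(A) has exactly one element. (The converse is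
clear.) -/
theorem result
    {k : Type u} [Field k] (F : ArtFun.Art k k ⥤ Type v)
    (h0 : ArtFun.H0 F) (h1 : ArtFun.Hbar F) (h2 : ArtFun.Heps F)
    (ht : Subsingleton (ArtFun.TangentSpace F)) (A : ArtFun.Art k k) :
    Nonempty (F.obj A) ∧ Subsingleton (F.obj A) := by
  refine ⟨?_, subsingleton_of_surjective F h1 h2 ht (ArtFun.Art.toBase A) A.res_surjective h0.2⟩
  obtain ⟨x0⟩ := h0.1
  let g : ArtFun.Art.base k k ⟶ A :=
    ⟨Algebra.ofId k A, AlgHom.ext fun c => A.res.commutes c⟩
  exact ⟨F.map g x0⟩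

end Groth.Agent.S15131
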