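import Groth.Statements.S12249
import Groth.Agent.S15131
import Groth.Agent.Lib.Helper1.ArtFunVersal

set_option autoImplicit false
universe u v
open CategoryTheory
open Deform

namespace Groth.Agent.S12249

/-- Let k be an algebraically closed field and F a set-valued functor on local Artinian k-algebras with
residue field k such that F(k) is a single point. If F has a semiuniversal formal element and its
tangent space F(k[ε]) is reduced to one element, then F(A) consists of exactly one element for every
A: F is the constant one-point functor h_k. -/
theorem result
    {k : Type u} [Field k] [IsAlgClosed k]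
    (F : ArtFun.Art k k ⥤ Type v) (h0 : ArtFun.H0 F) (hF : ArtFun.HasHull F)
    (ht : Subsingleton (ArtFun.TangentSpace F)) (A : ArtFun.Art k k) :
    Nonempty (F.obj A) ∧ Subsingleton (F.obj A) := by
  obtain ⟨P⟩ := hF
  have hsurj := Groth.Agent.Lib.Helper1.ArtFunVersal.surjective_app_of_isVersal h0 P.family
    P.miniversal.1
  have h1 : ArtFun.Hbar F := Groth.Agent.Lib.Helper1.ArtFunCond.hbar_of_s1 F
    (Groth.Agent.Lib.Helper1.ArtFunVersal.s1_of_isVersal h0 P.family P.miniversal.1)
  have h2 : ArtFun.Heps F :=
    Groth.Agent.Lib.Helper5.ArtFunLift.heps_of_isMiniversal P.family P.miniversal hsurj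
  exact Groth.Agent.S15131.result F h0 h1 h2 ht A

end Groth.Agent.S12249
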