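import Groth.Statements.S12257
import Mathlib.CategoryTheory.Limits.Types.Pullbacks
import Mathlib.CategoryTheory.Limits.FunctorCategory.Basic
import Mathlib.CategoryTheory.Limits.Shapes.Pullback.IsPullback.Basic
-- import your own Groth.Agent.* helpers here

set_option autoImplicit false
universe u v
open CategoryTheory CategoryTheory.Limits
open Deform

namespace Groth.Agent.S12257

open CategoryTheory in
theorem smooth_snd {Λ : Type u} {k : Type u} [CommRing Λ] [Field k] [Algebra Λ k]
    {F G G' : ArtFun.Art Λ k ⥤ Type v} (φ : F ⟶ G) (ψ : G' ⟶ G) (hφ : ArtFun.IsSmooth φ) :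
    ArtFun.IsSmooth (Limits.pullback.snd φ ψ) := by
  have hpb : ∀ A : ArtFun.Art Λ k, IsPullback ((Limits.pullback.fst φ ψ).app A)
      ((Limits.pullback.snd φ ψ).app A) (φ.app A) (ψ.app A) := fun A =>
    Functor.map_isPullback ((evaluation _ _).obj A) (IsPullback.of_hasPullback φ ψ)
  intro B A μ hμ y
  obtain ⟨⟨x, gB⟩, hxy⟩ := y
  have hxy' : (Limits.pullback.snd φ ψ).app A x = G'.map μ gB := hxy
  -- the F(A)-component
  set fA := (Limits.pullback.fst φ ψ).app A x with hfA
  have h1 : φ.app A fA = G.map μ (ψ.app B gB) := by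
    have := ConcreteCategory.congr_hom ((hpb A).w) x
    simp only [types_comp_apply] at this
    rw [hfA, this, hxy']
    exact NatTrans.naturality_apply ψ μ gB
  obtain ⟨fB, hfB⟩ := hφ μ hμ ⟨(fA, ψ.app B gB), h1⟩
  have hfB1 : F.map μ fB = fA := congrArg (fun t => t.1.1) hfB
  have hfB2 : φ.app B fB = ψ.app B gB := congrArg (fun t => t.1.2) hfB
  obtain ⟨z, hz1, hz2⟩ := Limits.Types.exists_of_isPullback (hpb B) fB gB hfB2
  refine ⟨z, Subtype.ext (Prod.ext ?_ hz2)⟩
  show (Limits.pullback φ ψ).map μ z = x
  apply Limits.Types.ext_of_isPullback (hpb A)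
  · rw [← hfA, ← hfB1, ← hz1]
    exact NatTrans.naturality_apply (Limits.pullback.fst φ ψ) μ z
  · rw [hxy', ← hz2]
    exact NatTrans.naturality_apply (Limits.pullback.snd φ ψ) μ z

/-- Let k be an algebraically closed field, Λ a complete local Noetherian k-algebra with residue field
k, and F, G, H set-valued functors on local Artinian Λ-algebras with residue field k, each with
one-point value at k. If F → G is a smooth morphism of functors and H → G is any morphism, then the
second projection F ×_G H → H of the fibre product of functors is smooth. -/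
theorem result
    {k Λ : Type u} [Field k] [IsAlgClosed k] [CommRing Λ] [IsLocalRing Λ] [IsNoetherianRing Λ]
    [IsAdicComplete (IsLocalRing.maximalIdeal Λ) Λ] [Algebra k Λ] [Algebra Λ k] [IsScalarTower k Λ k]
    {F G H : ArtFun.Art Λ k ⥤ Type v} (η : F ⟶ G) (θ : H ⟶ G)
    (hF : ArtFun.H0 F) (hG : ArtFun.H0 G) (hH : ArtFun.H0 H) (hη : ArtFun.IsSmooth η) :
    ArtFun.IsSmooth (pullback.snd η θ) :=
  smooth_snd η θ hη


end Groth.Agent.S12257
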