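import Groth.Statements.S12258
import Mathlib.CategoryTheory.Limits.Types.Products
import Mathlib.CategoryTheory.ConcreteCategory.EpiMono
import Mathlib.CategoryTheory.Limits.FunctorCategory.Basic
import Mathlib.CategoryTheory.Limits.Preserves.Shapes.BinaryProducts

set_option autoImplicit false
universe u v
open CategoryTheory CategoryTheory.Limits
open Deform

namespace Groth.Agent.S12258

section aux
universe w u'
variable {C : Type u'} [Category.{w} C] (F G : C ⥤ Type v) (A : C)

noncomputable def prodObjIso : (F ⨯ G).obj A ≅ (F.obj A × G.obj A : Type v) :=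
  (PreservesLimitPair.iso ((evaluation C (Type v)).obj A) F G) ≪≫
    Types.binaryProductIso (F.obj A) (G.obj A)

theorem prodObjIso_hom_fst (x : (F ⨯ G).obj A) :
    ((prodObjIso F G A).hom x).1 = (prod.fst : F ⨯ G ⟶ F).app A x := by
  have h : (prodObjIso F G A).hom ≫ (↾Prod.fst : (F.obj A × G.obj A : Type v) ⟶ F.obj A) =
      (prod.fst : F ⨯ G ⟶ F).app A := by
    unfold prodObjIso
    rw [Iso.trans_hom, Category.assoc, Types.binaryProductIso_hom_comp_fst,
      PreservesLimitPair.iso_hom]
    exact prodComparison_fst ((evaluation C (Type v)).obj A) F G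
  exact ConcreteCategory.congr_hom h x

theorem prodObjIso_hom_snd (x : (F ⨯ G).obj A) :
    ((prodObjIso F G A).hom x).2 = (prod.snd : F ⨯ G ⟶ G).app A x := by
  have h : (prodObjIso F G A).hom ≫ (↾Prod.snd : (F.obj A × G.obj A : Type v) ⟶ G.obj A) =
      (prod.snd : F ⨯ G ⟶ G).app A := by
    unfold prodObjIso
    rw [Iso.trans_hom, Category.assoc, Types.binaryProductIso_hom_comp_snd,
      PreservesLimitPair.iso_hom]
    exact prodComparison_snd ((evaluation C (Type v)).obj A) F G
  exact ConcreteCategory.congr_hom h x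

theorem prodObjIso_bijective : Function.Bijective (prodObjIso F G A).hom :=
  ConcreteCategory.bijective_of_isIso _

end aux

/-- Let k be an algebraically closed field, Λ a complete local Noetherian k-algebra with residue field
k, and F, G set-valued functors on local Artinian Λ-algebras with residue field k, each with
one-point value at k. If F and G are smooth functors, i.e. F(B) → F(A) and G(B) → G(A) are
surjective for every surjection B → A, then the product functor F × G is smooth. -/
theorem result
    {k Λ : Type u} [Field k] [IsAlgClosed k] [CommRing Λ] [IsLocalRing Λ] [IsNoetherianRing Λ]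
    [IsAdicComplete (IsLocalRing.maximalIdeal Λ) Λ] [Algebra k Λ] [Algebra Λ k] [IsScalarTower k Λ k]
    {F G : ArtFun.Art Λ k ⥤ Type v}
    (hF : ArtFun.H0 F) (hG : ArtFun.H0 G) (sF : ArtFun.IsSmoothFunctor F) (sG : ArtFun.IsSmoothFunctor G) :
    ArtFun.IsSmoothFunctor (F ⨯ G) := by
  intro B A μ hμ y
  obtain ⟨a', ha'⟩ := sF μ hμ ((prod.fst : F ⨯ G ⟶ F).app A y)
  obtain ⟨b', hb'⟩ := sG μ hμ ((prod.snd : F ⨯ G ⟶ G).app A y)
  obtain ⟨x, hx⟩ := (prodObjIso_bijective F G B).2 (a', b')
  refine ⟨x, ?_⟩
  apply (prodObjIso_bijective F G A).1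
  have hx1 : (prod.fst : F ⨯ G ⟶ F).app B x = a' := by
    rw [← prodObjIso_hom_fst, hx]
  have hx2 : (prod.snd : F ⨯ G ⟶ G).app B x = b' := by
    rw [← prodObjIso_hom_snd, hx]
  refine Prod.ext ?_ ?_
  · rw [prodObjIso_hom_fst, prodObjIso_hom_fst, NatTrans.naturality_apply, hx1, ha']
  · rw [prodObjIso_hom_snd, prodObjIso_hom_snd, NatTrans.naturality_apply, hx2, hb']

end Groth.Agent.S12258
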