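import Groth.Statements.S12263
import Mathlib
import Groth.Agent.Lib.Helper12.TrivDefG
import Groth.Agent.Lib.Helper12.TrivDefI

set_option autoImplicit false
universe u
open CategoryTheory CategoryTheory.Limits AlgebraicGeometry
open Deform

namespace Groth.Agent.S12263

open CategoryTheory AlgebraicGeometry Limits in
theorem aux {k : Type u} [Field k] (B₀ : Type u) [CommRing B₀] [Algebra k B₀]
    (hT : ∀ E : Exal.Ext k B₀ B₀, E.IsTrivial) (A : ArtFun.Art k k)
    (ξ : ArtFun.DefSch (Spec (CommRingCat.of B₀)) (Spec.map (CommRingCat.ofHom (algebraMap k B₀))) A)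
    (e : A →ₐ[k] k) (he : e = A.res) (hnil : IsNilpotent (RingHom.ker e))
    (hsq : IsPullback ξ.i (Spec.map (CommRingCat.ofHom (algebraMap k B₀))) ξ.f
      (Spec.map (CommRingCat.ofHom e.toRingHom)))
    (haff : IsAffine ξ.total) :
    Nonempty (ξ.Iso (ArtFun.DefSch.trivial (Spec (CommRingCat.of B₀))
      (Spec.map (CommRingCat.ofHom (algebraMap k B₀))) inferInstance A)) := by
  classical
  haveI : Flat ξ.f := ξ.flat
  let X : Scheme.{u} := Spec (CommRingCat.of B₀)
  let x : X ⟶ Spec (CommRingCat.of k) := Spec.map (CommRingCat.ofHom (algebraMap k B₀))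
  set gA := (Scheme.ΓSpecIso (CommRingCat.of A)).inv ≫ ξ.f.appTop with hgA
  set hk := (Scheme.ΓSpecIso (CommRingCat.of k)).inv ≫ x.appTop with hhk
  have hpo' := Groth.Agent.Lib.Helper12.TrivDef.isPushout_ring e hsq
  have hw : ∀ a : A, ξ.i.appTop.hom (gA.hom a) = hk.hom (e a) := by
    intro a
    have := congrArg (fun f => f.hom a) hpo'.w
    exact this
  have hkB : hk ≫ (Scheme.ΓSpecIso (CommRingCat.of B₀)).hom =
      CommRingCat.ofHom (algebraMap k B₀) := by
    rw [hhk, Category.assoc]
    show (Scheme.ΓSpecIso (CommRingCat.of k)).inv ≫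
      (Spec.map (CommRingCat.ofHom (algebraMap k B₀))).appTop ≫
        (Scheme.ΓSpecIso (CommRingCat.of B₀)).hom = _
    rw [Scheme.ΓSpecIso_naturality, Iso.inv_hom_id_assoc]
  have hkB' : ∀ c : k, (Scheme.ΓSpecIso (CommRingCat.of B₀)).hom.hom (hk.hom c) =
      algebraMap k B₀ c := by
    intro c
    have := congrArg (fun f => f.hom c) hkB
    exact this
  letI algAB : Algebra A Γ(ξ.total, ⊤) := gA.hom.toAlgebra
  letI algkB : Algebra k Γ(ξ.total, ⊤) := (gA.hom.comp (algebraMap k A)).toAlgebra
  haveI : IsScalarTower k A Γ(ξ.total, ⊤) := IsScalarTower.of_algebraMap_eq' rfl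
  haveI : Module.Flat A Γ(ξ.total, ⊤) :=
    Groth.Agent.Lib.Helper12.TrivDef.flat_ring (g := ξ.f)
  have hπc : ∀ a : A, (Scheme.ΓSpecIso (CommRingCat.of B₀)).hom.hom
      (ξ.i.appTop.hom (gA.hom a)) = algebraMap k B₀ (e a) := by
    intro a
    rw [hw, hkB']
  let π₀ : Γ(ξ.total, ⊤) →ₐ[k] B₀ :=
    { (ξ.i.appTop ≫ (Scheme.ΓSpecIso (CommRingCat.of B₀)).hom).hom with
      commutes' := fun c => by
        have h1 := hπc (algebraMap k A c)
        rw [AlgHom.commutes] at h1
        exact h1 }
  have hπ₀ : Function.Surjective π₀ := by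
    have h1 := Groth.Agent.Lib.Helper12.TrivDef.surjective_ring e hsq
    have h2 := (ConcreteCategory.bijective_of_isIso
      (Scheme.ΓSpecIso (CommRingCat.of B₀)).hom).2
    exact h2.comp h1
  have hcomm : ∀ a, π₀ (algebraMap A Γ(ξ.total, ⊤) a) = algebraMap k B₀ (e a) := hπc
  have hker : RingHom.ker π₀ ≤ (RingHom.ker e).map (algebraMap A Γ(ξ.total, ⊤)) := by
    have h1 := Groth.Agent.Lib.Helper12.TrivDef.ker_ring e hsq
    refine le_trans ?_ h1
    intro b hb
    have h2 : (Scheme.ΓSpecIso (CommRingCat.of B₀)).hom.hom (ξ.i.appTop.hom b) = 0 := hb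
    have h3 := (ConcreteCategory.bijective_of_isIso
      (Scheme.ΓSpecIso (CommRingCat.of B₀)).hom).1
    rw [RingHom.mem_ker]
    apply h3
    rw [h2]
    exact (map_zero _).symm
  obtain ⟨σ₀, hσ₀⟩ := Groth.Agent.Lib.Helper12.TrivDef.exists_section_of_T1 hT e π₀ hπ₀ hcomm hker
  let σ' : Γ(X, ⊤) ⟶ Γ(ξ.total, ⊤) :=
    (Scheme.ΓSpecIso (CommRingCat.of B₀)).hom ≫ CommRingCat.ofHom σ₀.toRingHom
  have hσ' : σ' ≫ ξ.i.appTop = 𝟙 _ := by
    refine CommRingCat.hom_ext (RingHom.ext fun b => ?_)
    have h3 := (ConcreteCategory.bijective_of_isIso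
      (Scheme.ΓSpecIso (CommRingCat.of B₀)).hom).1
    apply h3
    exact hσ₀ ((Scheme.ΓSpecIso (CommRingCat.of B₀)).hom.hom b)
  have hσk : hk ≫ σ' = CommRingCat.ofHom (algebraMap k A) ≫ gA := by
    refine CommRingCat.hom_ext (RingHom.ext fun c => ?_)
    show σ₀ ((Scheme.ΓSpecIso (CommRingCat.of B₀)).hom.hom (hk.hom c)) = gA.hom (algebraMap k A c)
    rw [hkB']
    exact σ₀.commutes c
  obtain ⟨φ, h1, h2⟩ := Groth.Agent.Lib.Helper12.TrivDef.exists_iso_of_section e hnil hsq σ' hσ' hσk
  have hfst : ξ.i ≫ φ.hom ≫ pullback.fst x (Spec.map (CommRingCat.ofHom (algebraMap k A))) = 𝟙 X := by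
    rw [h2, ← Scheme.isoSpec_hom_naturality_assoc, ← Spec.map_comp_assoc, hσ', Spec.map_id,
      Category.id_comp, Iso.hom_inv_id]
  have hsnd : ξ.i ≫ φ.hom ≫ pullback.snd x (Spec.map (CommRingCat.ofHom (algebraMap k A))) =
      x ≫ Spec.map (CommRingCat.ofHom A.res.toRingHom) := by
    rw [h1]
    rw [he] at hsq
    exact hsq.w
  refine ⟨⟨φ, h1, ?_⟩⟩
  apply pullback.hom_ext
  · refine Eq.trans ?_ (ArtFun.DefSch.baseChange_i_fst
      (ArtFun.DefSch.self (Spec (CommRingCat.of B₀))
        (Spec.map (CommRingCat.ofHom (algebraMap k B₀))) inferInstance) (ArtFun.Art.ofBase A)).symm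
    exact (Category.assoc _ _ _).trans hfst
  · refine Eq.trans ?_ (ArtFun.DefSch.baseChange_i_f
      (ArtFun.DefSch.self (Spec (CommRingCat.of B₀))
        (Spec.map (CommRingCat.ofHom (algebraMap k B₀))) inferInstance) (ArtFun.Art.ofBase A)).symm
    exact (Category.assoc _ _ _).trans hsnd

/-- Let k be an algebraically closed field and B₀ a finitely generated commutative k-algebra. Suppose
T^1_{B₀} = 0 in the form: every k-algebra extension of B₀ by the B₀-module B₀ (square-zero kernel)
is trivial. Then B₀ is rigid: every deformation of Spec B₀ over a local Artinian k-algebra A with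
residue field k (a scheme flat over Spec A together with a cartesian square exhibiting Spec B₀ as
the fibre over the closed point) is isomorphic, over Spec A and under Spec B₀, to the product
deformation Spec B₀ ×_k Spec A. (The published statement is for a k-algebra B₀, Noetherian by the
standing convention; this row takes B₀ finitely generated over k, the case covered by the results on
algebraic schemes that its proof cites. It also asserts a semiuniversal formal element when T^1_{B₀}
is finite-dimensional, in particular for isolated singularities; those clauses are instances of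
results on all algebraic schemes and are not repeated here. The first-order deformations of B₀
correspond to the k-algebra extensions of B₀ by B₀, the trivial deformation to the trivial
extension.) -/
theorem result
    {k : Type u} [Field k] [IsAlgClosed k] (B₀ : Type u) [CommRing B₀] [Algebra k B₀] [Algebra.FiniteType k B₀]
    (hT : ∀ E : Exal.Ext k B₀ B₀, E.IsTrivial) (A : ArtFun.Art k k)
    (ξ : ArtFun.DefSch (Spec (CommRingCat.of B₀)) (Spec.map (CommRingCat.ofHom (algebraMap k B₀))) A) :
    Nonempty (ξ.Iso (ArtFun.DefSch.trivial (Spec (CommRingCat.of B₀))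
      (Spec.map (CommRingCat.ofHom (algebraMap k B₀))) inferInstance A)) := by
  classical
  let e : A →ₐ[k] k := A.res
  have hnil : IsNilpotent (RingHom.ker e) := by
    have h1 : IsNilpotent (IsLocalRing.maximalIdeal A) := by
      have := IsArtinianRing.isNilpotent_jacobson_bot (R := A)
      rwa [IsLocalRing.jacobson_eq_maximalIdeal ⊥ bot_ne_top] at this
    obtain ⟨n, hn⟩ := h1
    refine ⟨n, ?_⟩
    have hle : RingHom.ker e ≤ IsLocalRing.maximalIdeal A :=
      IsLocalRing.le_maximalIdeal (RingHom.ker_ne_top _)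
    have := Ideal.pow_right_mono hle n
    rw [hn] at this
    exact le_bot_iff.mp this
  have hsq : CategoryTheory.IsPullback ξ.i
      (AlgebraicGeometry.Spec.map (CommRingCat.ofHom (algebraMap k B₀))) ξ.f
      (AlgebraicGeometry.Spec.map (CommRingCat.ofHom e.toRingHom)) := ξ.isPullback
  haveI : AlgebraicGeometry.Flat ξ.f := ξ.flat
  have haff : AlgebraicGeometry.IsAffine ξ.total :=
    Groth.Agent.Lib.Helper12.TrivDef.isAffine_of_isPullback e hnil hsq
  exact Groth.Agent.S12263.aux B₀ hT A ξ e rfl hnil hsq haff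

end Groth.Agent.S12263
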