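import Groth.Statements.S1227
import Mathlib

set_option autoImplicit false
universe u
open FlatMor

namespace Groth.Agent.S1227

open TensorProduct in
/-- Let u be a surjective linear map from a projective A-module M to an A-module N. Then there is an
ideal I of A such that for every A-algebra B, the base change u ⊗ 1 from B ⊗ M to B ⊗ N is bijective
if and only if the image of I in B is zero. -/
theorem result {A : Type u} [CommRing A] {M N : Type u} [AddCommGroup M] [Module A M] [Module.Projective A M]
    [AddCommGroup N] [Module A N] (u : M →ₗ[A] N) (hu : Function.Surjective u) :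
    ∃ I : Ideal A, ∀ (B : Type u) [CommRing B] [Algebra A B],
      Function.Bijective (u.baseChange B) ↔ I.map (algebraMap A B) = ⊥ := by
  classical
  obtain ⟨s, hs⟩ := Module.projective_def'.1 (inferInstance : Module.Projective A M)
  refine ⟨Ideal.span {a | ∃ k ∈ LinearMap.ker u, ∃ m : M, a = s k m}, fun B _ _ => ?_⟩
  have hk : ∀ k : M, k = ∑ m ∈ (s k).support, (s k m) • m := by
    intro k
    have := LinearMap.congr_fun hs k
    simp only [LinearMap.coe_comp, Function.comp_apply, Finsupp.linearCombination_apply,
      Finsupp.sum, id_eq, LinearMap.id_coe] at this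
    exact this.symm
  have hmap : (Ideal.span {a | ∃ k ∈ LinearMap.ker u, ∃ m : M, a = s k m}).map (algebraMap A B) = ⊥
      ↔ ∀ k ∈ LinearMap.ker u, ∀ m : M, algebraMap A B (s k m) = 0 := by
    rw [Ideal.map_span, Ideal.span_eq_bot]
    constructor
    · intro h k hk m; exact h _ ⟨_, ⟨k, hk, m, rfl⟩, rfl⟩
    · rintro h _ ⟨_, ⟨k, hk, m, rfl⟩, rfl⟩; exact h k hk m
  rw [hmap]
  constructor
  · intro hbij k hk m
    have h1 : (1 : B) ⊗ₜ[A] k = 0 := by
      apply hbij.1
      rw [LinearMap.baseChange_tmul, map_zero, (LinearMap.mem_ker.1 hk), TensorProduct.tmul_zero]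
    have h2 := congrArg (fun x => TensorProduct.rid A B
      (LinearMap.lTensor B ((Finsupp.lapply m) ∘ₗ s) x)) h1
    simp only [LinearMap.lTensor_tmul, LinearMap.coe_comp, Function.comp_apply,
      Finsupp.lapply_apply, TensorProduct.rid_tmul, map_zero] at h2
    rw [Algebra.algebraMap_eq_smul_one]; exact h2
  · intro h
    refine ⟨?_, ?_⟩
    · have hex : Function.Exact (LinearMap.lTensor B (LinearMap.ker u).subtype)
          (LinearMap.lTensor B u) :=
        lTensor_exact B (LinearMap.exact_subtype_ker_map u) hu
      have hzero : LinearMap.lTensor B (LinearMap.ker u).subtype = 0 := by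
        apply TensorProduct.ext'
        intro b k
        rw [LinearMap.lTensor_tmul, LinearMap.zero_apply, Submodule.subtype_apply, hk (k : M),
          TensorProduct.tmul_sum]
        refine Finset.sum_eq_zero (fun m _ => ?_)
        rw [← TensorProduct.smul_tmul, Algebra.smul_def, h _ k.2 m, zero_mul,
          TensorProduct.zero_tmul]
      rw [← LinearMap.ker_eq_bot, LinearMap.ker_eq_bot']
      intro x hx
      have hx' : LinearMap.lTensor B u x = 0 := hx
      obtain ⟨y, rfl⟩ := (hex x).1 hx'
      rw [hzero, LinearMap.zero_apply]
    · have : Function.Surjective (LinearMap.lTensor B u) := LinearMap.lTensor_surjective B hu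
      exact this

end Groth.Agent.S1227
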