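import Groth.Statements.S12284
-- import your own Groth.Agent.* helpers here
import Mathlib.Algebra.Module.SnakeLemma
import Mathlib.Algebra.Module.Projective
import Mathlib.RingTheory.Extension.Cotangent.Basic

set_option autoImplicit false
universe u w m
open scoped TensorProduct
open DefT

namespace Groth.Agent.S12284


open CotT

noncomputable section Helpers

variable {A B : Type u} [CommRing A] [CommRing B] [Algebra A B] {ι σ : Type w}
  (P : Algebra.Presentation A B ι σ)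

instance instProjL0 : Module.Projective B (L0 P) :=
  Module.Projective.of_basis P.toGenerators.cotangentSpaceBasis

instance instProjL1 : Module.Projective B (L1 P) :=
  Module.Projective.of_basis (L1basis P)

variable {M' M M'' : Type m} [AddCommGroup M'] [Module B M'] [AddCommGroup M] [Module B M]
  [AddCommGroup M''] [Module B M'']
  (f : M' →ₗ[B] M) (g : M →ₗ[B] M'') (hf : Function.Injective f) (hg : Function.Surjective g)
  (hfg : Function.Exact f g)

include hfg in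
theorem g_comp_f : g ∘ₗ f = 0 := hfg.linearMap_comp_eq_zero

include hf hfg in
theorem exists_factor {L : Type*} [AddCommGroup L] [Module B L] (φ : L →ₗ[B] M)
    (h : g ∘ₗ φ = 0) : ∃ φ' : L →ₗ[B] M', f ∘ₗ φ' = φ := by
  have hx : ∀ x, φ x ∈ LinearMap.range f := fun x => (hfg (φ x)).1 (LinearMap.congr_fun h x)
  refine ⟨(LinearEquiv.ofInjective f hf).symm.toLinearMap ∘ₗ
    (LinearMap.codRestrict (LinearMap.range f) φ hx), ?_⟩
  ext x
  have := (LinearEquiv.ofInjective f hf).apply_symm_apply ⟨φ x, hx x⟩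
  exact congrArg Subtype.val this

include hf in
theorem comp_left_cancel {L : Type*} [AddCommGroup L] [Module B L] (φ₁ φ₂ : L →ₗ[B] M')
    (h : f ∘ₗ φ₁ = f ∘ₗ φ₂) : φ₁ = φ₂ :=
  LinearMap.ext fun x => hf (LinearMap.congr_fun h x)

theorem T0map_coe {N N' : Type m} [AddCommGroup N] [Module B N] [AddCommGroup N'] [Module B N']
    (u : N →ₗ[B] N') (φ : T0 P N) :
    ((T0map P u φ : T0 P N') : L0 P →ₗ[B] N') = u ∘ₗ (φ : L0 P →ₗ[B] N) := rfl

theorem cocycles1Map_coe {N N' : Type m} [AddCommGroup N] [Module B N] [AddCommGroup N'] [Module B N']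
    (u : N →ₗ[B] N') (c : cocycles1 P N) :
    ((cocycles1Map P u c : cocycles1 P N') : L1 P →ₗ[B] N') = u ∘ₗ (c : L1 P →ₗ[B] N) := rfl

theorem mem_T0 {N : Type m} [AddCommGroup N] [Module B N] (φ : L0 P →ₗ[B] N) :
    φ ∈ LinearMap.ker (d1Star P N) ↔ φ ∘ₗ d1 P = 0 := by
  rw [LinearMap.mem_ker, d1Star_apply]

theorem mem_Z1 {N : Type m} [AddCommGroup N] [Module B N] (c : L1 P →ₗ[B] N) :
    c ∈ cocycles1 P N ↔ c ∘ₗ d2 P = 0 := by
  rw [LinearMap.mem_ker, d2Star_apply]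

include hf in
theorem T0map_injective : Function.Injective (T0map P f) := by
  intro φ₁ φ₂ h
  apply Subtype.ext
  apply comp_left_cancel f hf
  rw [← T0map_coe, ← T0map_coe, h]

include hf hfg in
theorem exact_T0 : Function.Exact (T0map P f) (T0map P g) := by
  intro φ
  constructor
  · intro h
    have h0 : g ∘ₗ (φ : L0 P →ₗ[B] M) = 0 := by
      rw [← T0map_coe, h]; rfl
    obtain ⟨φ', hφ'⟩ := exists_factor f g hf hfg _ h0
    have hmem : φ' ∈ LinearMap.ker (d1Star P M') := by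
      rw [mem_T0]
      apply comp_left_cancel f hf
      rw [← LinearMap.comp_assoc, hφ', LinearMap.comp_zero]
      exact (mem_T0 P _).1 φ.2
    exact ⟨⟨φ', hmem⟩, Subtype.ext hφ'⟩
  · rintro ⟨φ', rfl⟩
    apply Subtype.ext
    rw [T0map_coe, T0map_coe, ← LinearMap.comp_assoc, g_comp_f f g hfg, LinearMap.zero_comp]
    rfl

theorem T1map_mk {N N' : Type m} [AddCommGroup N] [Module B N] [AddCommGroup N'] [Module B N']
    (u : N →ₗ[B] N') (c : cocycles1 P N) :
    T1map P u (Submodule.Quotient.mk c) = Submodule.Quotient.mk (cocycles1Map P u c) := rfl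

theorem T2map_mk {N N' : Type m} [AddCommGroup N] [Module B N] [AddCommGroup N'] [Module B N']
    (u : N →ₗ[B] N') (φ : L2 P →ₗ[B] N) :
    T2map P u (Submodule.Quotient.mk φ) = Submodule.Quotient.mk (u ∘ₗ φ) := rfl

theorem mk_T1_eq_zero {N : Type m} [AddCommGroup N] [Module B N] (c : cocycles1 P N) :
    (Submodule.Quotient.mk c : T1 P N) = 0 ↔ ∃ ψ : L0 P →ₗ[B] N, ψ ∘ₗ d1 P = (c : L1 P →ₗ[B] N) := by
  rw [Submodule.Quotient.mk_eq_zero, Submodule.mem_comap, LinearMap.mem_range]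
  rfl

theorem mk_T2_eq_zero {N : Type m} [AddCommGroup N] [Module B N] (φ : L2 P →ₗ[B] N) :
    (Submodule.Quotient.mk φ : T2 P N) = 0 ↔ ∃ ψ : L1 P →ₗ[B] N, ψ ∘ₗ d2 P = φ := by
  rw [Submodule.Quotient.mk_eq_zero, LinearMap.mem_range]
  rfl

include hf hg hfg in
theorem exact_T1 : Function.Exact (T1map P f) (T1map P g) := by
  intro x
  obtain ⟨c, rfl⟩ := Submodule.Quotient.mk_surjective _ x
  constructor
  · intro h
    rw [T1map_mk, mk_T1_eq_zero, cocycles1Map_coe] at h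
    obtain ⟨ψ'', hψ''⟩ := h
    obtain ⟨ψ, hψ⟩ := Module.projective_lifting_property g ψ'' hg
    have h0 : g ∘ₗ ((c : L1 P →ₗ[B] M) - ψ ∘ₗ d1 P) = 0 := by
      rw [LinearMap.comp_sub, ← LinearMap.comp_assoc, hψ, hψ'', sub_self]
    obtain ⟨c', hc'⟩ := exists_factor f g hf hfg _ h0
    have hmem : c' ∈ cocycles1 P M' := by
      rw [mem_Z1]
      apply comp_left_cancel f hf
      rw [← LinearMap.comp_assoc, hc', LinearMap.comp_zero, LinearMap.sub_comp,
        (mem_Z1 P _).1 c.2, LinearMap.comp_assoc, d1_comp_d2, LinearMap.comp_zero, sub_self]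
    refine ⟨Submodule.Quotient.mk ⟨c', hmem⟩, ?_⟩
    rw [T1map_mk, ← sub_eq_zero, ← Submodule.Quotient.mk_sub, mk_T1_eq_zero]
    refine ⟨-ψ, ?_⟩
    change (-ψ) ∘ₗ d1 P = f ∘ₗ c' - (c : L1 P →ₗ[B] M)
    rw [hc', LinearMap.neg_comp]
    abel
  · rintro ⟨y, hy⟩
    rw [← hy]
    obtain ⟨c', rfl⟩ := Submodule.Quotient.mk_surjective _ y
    rw [T1map_mk, T1map_mk, mk_T1_eq_zero]
    refine ⟨0, ?_⟩
    rw [cocycles1Map_coe, cocycles1Map_coe, ← LinearMap.comp_assoc, g_comp_f f g hfg,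
      LinearMap.zero_comp, LinearMap.zero_comp]

include hf hg hfg in
theorem exact_T2 : Function.Exact (T2map P f) (T2map P g) := by
  intro x
  obtain ⟨φ, rfl⟩ := Submodule.Quotient.mk_surjective _ x
  constructor
  · intro h
    rw [T2map_mk, mk_T2_eq_zero] at h
    obtain ⟨ψ'', hψ''⟩ := h
    obtain ⟨ψ, hψ⟩ := Module.projective_lifting_property g ψ'' hg
    have h0 : g ∘ₗ (φ - ψ ∘ₗ d2 P) = 0 := by
      rw [LinearMap.comp_sub, ← LinearMap.comp_assoc, hψ, hψ'', sub_self]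
    obtain ⟨φ', hφ'⟩ := exists_factor f g hf hfg _ h0
    refine ⟨Submodule.Quotient.mk φ', ?_⟩
    rw [T2map_mk, ← sub_eq_zero, ← Submodule.Quotient.mk_sub, mk_T2_eq_zero]
    refine ⟨-ψ, ?_⟩
    rw [hφ', LinearMap.neg_comp]
    abel
  · rintro ⟨y, hy⟩
    rw [← hy]
    obtain ⟨φ', rfl⟩ := Submodule.Quotient.mk_surjective _ y
    rw [T2map_mk, T2map_mk, mk_T2_eq_zero]
    refine ⟨0, ?_⟩
    rw [← LinearMap.comp_assoc, g_comp_f f g hfg, LinearMap.zero_comp, LinearMap.zero_comp]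

section Snake

variable {L : Type*} [AddCommGroup L] [Module B L]

include hf hfg in
theorem exact_llcomp :
    Function.Exact (LinearMap.llcomp B L M' M f : (L →ₗ[B] M') →ₗ[B] (L →ₗ[B] M))
      (LinearMap.llcomp B L M M'' g : (L →ₗ[B] M) →ₗ[B] (L →ₗ[B] M'')) := by
  intro ψ
  constructor
  · intro h
    obtain ⟨ψ', hψ'⟩ := exists_factor f g hf hfg ψ h
    exact ⟨ψ', hψ'⟩
  · rintro ⟨ψ', rfl⟩
    change (g ∘ₗ (f ∘ₗ ψ') : L →ₗ[B] M'') = 0
    rw [← LinearMap.comp_assoc, g_comp_f f g hfg, LinearMap.zero_comp]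

include hg in
theorem llcomp_surjective [Module.Projective B L] :
    Function.Surjective (LinearMap.llcomp B L M M'' g : (L →ₗ[B] M) →ₗ[B] (L →ₗ[B] M'')) := by
  intro ψ''
  obtain ⟨ψ, hψ⟩ := Module.projective_lifting_property g ψ'' hg
  exact ⟨ψ, (hψ : (g ∘ₗ ψ : L →ₗ[B] M'') = ψ'')⟩

include hf in
theorem llcomp_injective : Function.Injective (LinearMap.llcomp B L M' M f : (L →ₗ[B] M') →ₗ[B] (L →ₗ[B] M)) := by
  intro φ₁ φ₂ h
  exact comp_left_cancel f hf φ₁ φ₂ (h : (f ∘ₗ φ₁ : L →ₗ[B] M) = f ∘ₗ φ₂)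

/-- `d₁*` with values in the cocycles. -/
def d1Z (N : Type m) [AddCommGroup N] [Module B N] : (L0 P →ₗ[B] N) →ₗ[B] cocycles1 P N :=
  LinearMap.codRestrict _ (d1Star P N) (fun ψ => by
    rw [LinearMap.mem_ker, ← LinearMap.comp_apply, d2Star_comp_d1Star, LinearMap.zero_apply])

theorem d1Z_coe {N : Type m} [AddCommGroup N] [Module B N] (ψ : L0 P →ₗ[B] N) :
    ((d1Z P N ψ : cocycles1 P N) : L1 P →ₗ[B] N) = ψ ∘ₗ d1 P := rfl

include hf hfg in
theorem exact_cocycles1Map : Function.Exact (cocycles1Map P f) (cocycles1Map P g) := by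
  intro c
  constructor
  · intro h
    have h0 : g ∘ₗ (c : L1 P →ₗ[B] M) = 0 := by
      rw [← cocycles1Map_coe, h]; rfl
    obtain ⟨c', hc'⟩ := exists_factor f g hf hfg _ h0
    have hmem : c' ∈ cocycles1 P M' := by
      rw [mem_Z1]
      apply comp_left_cancel f hf
      rw [← LinearMap.comp_assoc, hc', LinearMap.comp_zero]
      exact (mem_Z1 P _).1 c.2
    exact ⟨⟨c', hmem⟩, Subtype.ext hc'⟩
  · rintro ⟨c', rfl⟩
    apply Subtype.ext
    rw [cocycles1Map_coe, cocycles1Map_coe, ← LinearMap.comp_assoc, g_comp_f f g hfg,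
      LinearMap.zero_comp]
    rfl

include hf in
theorem cocycles1Map_injective : Function.Injective (cocycles1Map P f) := by
  intro c₁ c₂ h
  apply Subtype.ext
  apply comp_left_cancel f hf
  rw [← cocycles1Map_coe, ← cocycles1Map_coe, h]

theorem exact_subtype_d1Z (N : Type m) [AddCommGroup N] [Module B N] :
    Function.Exact (LinearMap.ker (d1Star P N)).subtype (d1Z P N) := by
  intro ψ
  rw [Submodule.coe_subtype, Subtype.range_coe_subtype]
  constructor
  · intro h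
    exact (mem_T0 P ψ).2 (by rw [← d1Z_coe, h]; rfl)
  · intro h
    exact Subtype.ext ((mem_T0 P ψ).1 h)

theorem exact_d1Z_mkQ (N : Type m) [AddCommGroup N] [Module B N] :
    Function.Exact (d1Z P N) (coboundaries1 P N).mkQ := by
  intro c
  rw [Submodule.mkQ_apply, mk_T1_eq_zero]
  constructor
  · rintro ⟨ψ, hψ⟩
    exact ⟨ψ, Subtype.ext hψ⟩
  · rintro ⟨ψ, rfl⟩
    exact ⟨ψ, rfl⟩

/-- `Hom(L₁, N)` modulo coboundaries. -/
abbrev H1q (N : Type m) [AddCommGroup N] [Module B N] : Type _ :=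
  (L1 P →ₗ[B] N) ⧸ LinearMap.range (d1Star P N)

/-- `d₂*` on `Hom(L₁, N)` modulo coboundaries. -/
def d2Q (N : Type m) [AddCommGroup N] [Module B N] : H1q P N →ₗ[B] (L2 P →ₗ[B] N) :=
  Submodule.liftQ _ (d2Star P N) (by
    rintro _ ⟨ψ, rfl⟩
    rw [LinearMap.mem_ker, ← LinearMap.comp_apply, d2Star_comp_d1Star, LinearMap.zero_apply])

theorem d2Q_mk {N : Type m} [AddCommGroup N] [Module B N] (φ : L1 P →ₗ[B] N) :
    d2Q P N (Submodule.Quotient.mk φ) = φ ∘ₗ d2 P := rfl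

/-- Functoriality of `H1q`. -/
def H1qMap {N N' : Type m} [AddCommGroup N] [Module B N] [AddCommGroup N'] [Module B N']
    (u : N →ₗ[B] N') : H1q P N →ₗ[B] H1q P N' :=
  Submodule.mapQ _ _ (LinearMap.llcomp B (L1 P) N N' u : (L1 P →ₗ[B] N) →ₗ[B] (L1 P →ₗ[B] N')) (by
    rintro _ ⟨ψ, rfl⟩
    exact ⟨u ∘ₗ ψ, by rw [d1Star_apply, LinearMap.comp_assoc]; rfl⟩)

theorem H1qMap_mk {N N' : Type m} [AddCommGroup N] [Module B N] [AddCommGroup N'] [Module B N']
    (u : N →ₗ[B] N') (φ : L1 P →ₗ[B] N) :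
    H1qMap P u (Submodule.Quotient.mk φ) = Submodule.Quotient.mk (u ∘ₗ φ) := rfl

theorem mk_H1q_eq_zero {N : Type m} [AddCommGroup N] [Module B N] (φ : L1 P →ₗ[B] N) :
    (Submodule.Quotient.mk φ : H1q P N) = 0 ↔ ∃ ψ : L0 P →ₗ[B] N, ψ ∘ₗ d1 P = φ := by
  rw [Submodule.Quotient.mk_eq_zero, LinearMap.mem_range]
  rfl

/-- `T¹ → Hom(L₁, N)/B¹`. -/
def incl1 (N : Type m) [AddCommGroup N] [Module B N] : T1 P N →ₗ[B] H1q P N :=
  Submodule.mapQ _ _ (cocycles1 P N).subtype le_rfl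

theorem incl1_mk {N : Type m} [AddCommGroup N] [Module B N] (c : cocycles1 P N) :
    incl1 P N (Submodule.Quotient.mk c) = Submodule.Quotient.mk (c : L1 P →ₗ[B] N) := rfl

theorem incl1_injective (N : Type m) [AddCommGroup N] [Module B N] :
    Function.Injective (incl1 P N) := by
  rw [← LinearMap.ker_eq_bot, LinearMap.ker_eq_bot']
  intro x hx
  obtain ⟨c, rfl⟩ := Submodule.Quotient.mk_surjective _ x
  rw [incl1_mk, mk_H1q_eq_zero] at hx
  exact (mk_T1_eq_zero P c).2 hx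

theorem exact_incl1_d2Q (N : Type m) [AddCommGroup N] [Module B N] :
    Function.Exact (incl1 P N) (d2Q P N) := by
  intro y
  constructor
  · intro h
    obtain ⟨φ, rfl⟩ := Submodule.Quotient.mk_surjective _ y
    rw [d2Q_mk] at h
    exact ⟨Submodule.Quotient.mk ⟨φ, (mem_Z1 P φ).2 h⟩, rfl⟩
  · rintro ⟨x, rfl⟩
    obtain ⟨c, rfl⟩ := Submodule.Quotient.mk_surjective _ x
    rw [incl1_mk, d2Q_mk]
    exact (mem_Z1 P _).1 c.2

theorem exact_d2Q_mkQ (N : Type m) [AddCommGroup N] [Module B N] :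
    Function.Exact (d2Q P N) (LinearMap.range (d2Star P N)).mkQ := by
  intro e
  rw [Submodule.mkQ_apply, mk_T2_eq_zero]
  constructor
  · rintro ⟨ψ, hψ⟩
    exact ⟨Submodule.Quotient.mk ψ, hψ⟩
  · rintro ⟨y, rfl⟩
    obtain ⟨ψ, rfl⟩ := Submodule.Quotient.mk_surjective _ y
    exact ⟨ψ, rfl⟩

include hf hg hfg in
theorem exact_H1qMap : Function.Exact (H1qMap P f) (H1qMap P g) := by
  intro x
  constructor
  · intro h
    obtain ⟨φ, rfl⟩ := Submodule.Quotient.mk_surjective _ x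
    rw [H1qMap_mk, mk_H1q_eq_zero] at h
    obtain ⟨ψ'', hψ''⟩ := h
    obtain ⟨ψ, hψ⟩ := Module.projective_lifting_property g ψ'' hg
    have h0 : g ∘ₗ (φ - ψ ∘ₗ d1 P) = 0 := by
      rw [LinearMap.comp_sub, ← LinearMap.comp_assoc, hψ, hψ'', sub_self]
    obtain ⟨φ', hφ'⟩ := exists_factor f g hf hfg _ h0
    refine ⟨Submodule.Quotient.mk φ', ?_⟩
    rw [H1qMap_mk, ← sub_eq_zero, ← Submodule.Quotient.mk_sub, mk_H1q_eq_zero]
    refine ⟨-ψ, ?_⟩
    rw [hφ', LinearMap.neg_comp]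
    abel
  · rintro ⟨y, rfl⟩
    obtain ⟨φ', rfl⟩ := Submodule.Quotient.mk_surjective _ y
    rw [H1qMap_mk, H1qMap_mk, mk_H1q_eq_zero]
    refine ⟨0, ?_⟩
    rw [← LinearMap.comp_assoc, g_comp_f f g hfg, LinearMap.zero_comp, LinearMap.zero_comp]

include hg in
theorem H1qMap_surjective : Function.Surjective (H1qMap P g) := by
  intro y
  obtain ⟨φ'', rfl⟩ := Submodule.Quotient.mk_surjective _ y
  obtain ⟨φ, hφ⟩ := Module.projective_lifting_property g φ'' hg
  exact ⟨Submodule.Quotient.mk φ, by rw [H1qMap_mk, hφ]⟩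

end Snake

end Helpers

/-- Let A → B be a ring homomorphism, P a presentation of B over A with cotangent complex L₂ → L₁ → L₀,
and 0 → M' → M → M'' → 0 a short exact sequence of B-modules (f : M' → M injective, g : M → M''
surjective, image of f = kernel of g). Write T^i(N) for the i-th cohomology of Hom_B(L•, N) and
T^i(f), T^i(g) for the maps induced by composition. Then T^0(f) is injective, the sequences T^i(M')
→ T^i(M) → T^i(M'') are exact for i = 0, 1, 2, and there are B-linear connecting maps δ₀ : T^0(M'')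
→ T^1(M') and δ₁ : T^1(M'') → T^2(M') such that the nine-term sequence 0 → T^0(M') → T^0(M) →
T^0(M'') → T^1(M') → T^1(M) → T^1(M'') → T^2(M') → T^2(M) → T^2(M'') is exact. (The connecting maps
are asserted to exist with this exactness; the text does not single them out otherwise.) -/
theorem result
    (A B : Type u) [CommRing A] [CommRing B] [Algebra A B] (ι σ : Type w)
    (P : Algebra.Presentation A B ι σ)
    (M' M M'' : Type m) [AddCommGroup M'] [Module B M'] [AddCommGroup M] [Module B M] [AddCommGroup M''] [Module B M'']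
    (f : M' →ₗ[B] M) (g : M →ₗ[B] M'') (hf : Function.Injective f) (hg : Function.Surjective g)
    (hfg : Function.Exact f g) :
    Function.Injective (CotT.T0map P f) ∧ Function.Exact (CotT.T0map P f) (CotT.T0map P g) ∧
      Function.Exact (CotT.T1map P f) (CotT.T1map P g) ∧ Function.Exact (CotT.T2map P f) (CotT.T2map P g) ∧
      ∃ (δ₀ : CotT.T0 P M'' →ₗ[B] CotT.T1 P M') (δ₁ : CotT.T1 P M'' →ₗ[B] CotT.T2 P M'),
        Function.Exact (CotT.T0map P g) δ₀ ∧ Function.Exact δ₀ (CotT.T1map P f) ∧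
        Function.Exact (CotT.T1map P g) δ₁ ∧ Function.Exact δ₁ (CotT.T2map P f) := by
  refine ⟨T0map_injective P f hf, exact_T0 P f g hf hfg, exact_T1 P f g hf hg hfg,
    exact_T2 P f g hf hg hfg, ?_⟩
  -- first connecting map
  let f₁₀ : (CotT.L0 P →ₗ[B] M') →ₗ[B] (CotT.L0 P →ₗ[B] M) := LinearMap.llcomp B (CotT.L0 P) M' M f
  let f₂₀ : (CotT.L0 P →ₗ[B] M) →ₗ[B] (CotT.L0 P →ₗ[B] M'') := LinearMap.llcomp B (CotT.L0 P) M M'' g
  have h₁₀ : (CotT.cocycles1Map P f).comp (d1Z P M') = (d1Z P M).comp f₁₀ :=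
    LinearMap.ext fun ψ => Subtype.ext rfl
  have h₂₀ : (CotT.cocycles1Map P g).comp (d1Z P M) = (d1Z P M'').comp f₂₀ :=
    LinearMap.ext fun ψ => Subtype.ext rfl
  have hex₀ : Function.Exact f₁₀ f₂₀ := exact_llcomp f g hf hfg
  have hexZ : Function.Exact (CotT.cocycles1Map P f) (CotT.cocycles1Map P g) :=
    exact_cocycles1Map P f g hf hfg
  have hsurj₀ : Function.Surjective f₂₀ := llcomp_surjective g hg
  have hinjZ : Function.Injective (CotT.cocycles1Map P f) := cocycles1Map_injective P f hf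
  let δ₀ : CotT.T0 P M'' →ₗ[B] CotT.T1 P M' :=
    SnakeLemma.δ' (d1Z P M') (d1Z P M) (d1Z P M'') f₁₀ f₂₀ hex₀ (CotT.cocycles1Map P f)
      (CotT.cocycles1Map P g) hexZ h₁₀ h₂₀ (LinearMap.ker (CotT.d1Star P M'')).subtype
      (exact_subtype_d1Z P M'') (CotT.coboundaries1 P M').mkQ (exact_d1Z_mkQ P M') hsurj₀ hinjZ
  have e1 : Function.Exact (CotT.T0map P g) δ₀ :=
    SnakeLemma.exact_δ'_right (d1Z P M') (d1Z P M) (d1Z P M'') f₁₀ f₂₀ hex₀ (CotT.cocycles1Map P f)
      (CotT.cocycles1Map P g) hexZ h₁₀ h₂₀ (LinearMap.ker (CotT.d1Star P M)).subtype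
      (exact_subtype_d1Z P M) (LinearMap.ker (CotT.d1Star P M'')).subtype
      (exact_subtype_d1Z P M'') (CotT.coboundaries1 P M').mkQ (exact_d1Z_mkQ P M') hsurj₀ hinjZ
      (CotT.T0map P g) (LinearMap.ext fun ψ => rfl) Subtype.val_injective
  have e2 : Function.Exact δ₀ (CotT.T1map P f) :=
    SnakeLemma.exact_δ'_left (d1Z P M') (d1Z P M) (d1Z P M'') f₁₀ f₂₀ hex₀ (CotT.cocycles1Map P f)
      (CotT.cocycles1Map P g) hexZ h₁₀ h₂₀ (LinearMap.ker (CotT.d1Star P M'')).subtype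
      (exact_subtype_d1Z P M'') (CotT.coboundaries1 P M').mkQ (exact_d1Z_mkQ P M')
      (CotT.coboundaries1 P M).mkQ (exact_d1Z_mkQ P M) hsurj₀ hinjZ
      (CotT.T1map P f) (LinearMap.ext fun c => rfl) (Submodule.mkQ_surjective _)
  -- second connecting map
  let g₁₂ : (CotT.L2 P →ₗ[B] M') →ₗ[B] (CotT.L2 P →ₗ[B] M) := LinearMap.llcomp B (CotT.L2 P) M' M f
  let g₂₂ : (CotT.L2 P →ₗ[B] M) →ₗ[B] (CotT.L2 P →ₗ[B] M'') := LinearMap.llcomp B (CotT.L2 P) M M'' g
  have k₁ : g₁₂.comp (d2Q P M') = (d2Q P M).comp (H1qMap P f) :=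
    Submodule.linearMap_qext _ (LinearMap.ext fun ψ => rfl)
  have k₂ : g₂₂.comp (d2Q P M) = (d2Q P M'').comp (H1qMap P g) :=
    Submodule.linearMap_qext _ (LinearMap.ext fun ψ => rfl)
  have hexH : Function.Exact (H1qMap P f) (H1qMap P g) := exact_H1qMap P f g hf hg hfg
  have hex₂ : Function.Exact g₁₂ g₂₂ := exact_llcomp f g hf hfg
  have hsurjH : Function.Surjective (H1qMap P g) := H1qMap_surjective P g hg
  have hinj₂ : Function.Injective g₁₂ := llcomp_injective f hf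
  let δ₁ : CotT.T1 P M'' →ₗ[B] CotT.T2 P M' :=
    SnakeLemma.δ' (d2Q P M') (d2Q P M) (d2Q P M'') (H1qMap P f) (H1qMap P g) hexH g₁₂ g₂₂ hex₂ k₁ k₂
      (incl1 P M'') (exact_incl1_d2Q P M'') (LinearMap.range (CotT.d2Star P M')).mkQ
      (exact_d2Q_mkQ P M') hsurjH hinj₂
  have e3 : Function.Exact (CotT.T1map P g) δ₁ :=
    SnakeLemma.exact_δ'_right (d2Q P M') (d2Q P M) (d2Q P M'') (H1qMap P f) (H1qMap P g) hexH g₁₂ g₂₂
      hex₂ k₁ k₂ (incl1 P M) (exact_incl1_d2Q P M) (incl1 P M'') (exact_incl1_d2Q P M'')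
      (LinearMap.range (CotT.d2Star P M')).mkQ (exact_d2Q_mkQ P M') hsurjH hinj₂
      (CotT.T1map P g) (Submodule.linearMap_qext _ (LinearMap.ext fun c => rfl)) (incl1_injective P M'')
  have e4 : Function.Exact δ₁ (CotT.T2map P f) :=
    SnakeLemma.exact_δ'_left (d2Q P M') (d2Q P M) (d2Q P M'') (H1qMap P f) (H1qMap P g) hexH g₁₂ g₂₂
      hex₂ k₁ k₂ (incl1 P M'') (exact_incl1_d2Q P M'')
      (LinearMap.range (CotT.d2Star P M')).mkQ (exact_d2Q_mkQ P M')
      (LinearMap.range (CotT.d2Star P M)).mkQ (exact_d2Q_mkQ P M) hsurjH hinj₂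
      (CotT.T2map P f) (LinearMap.ext fun e => rfl) (Submodule.mkQ_surjective _)
  exact ⟨δ₀, δ₁, e1, e2, e3, e4⟩

end Groth.Agent.S12284
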