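import Groth.Statements.S12287
import Groth.Agent.Lib.Helper1.CotT01
import Groth.Agent.Lib.Helper1.CotJoin

set_option autoImplicit false
universe u w m
open scoped TensorProduct
open DefT

namespace Groth.Agent.S12287

open MvPolynomial

lemma aeval_equiv {A B : Type u} [CommRing A] [CommRing B] [Algebra A B] {κ : Type u}
    (e : MvPolynomial κ A ≃ₐ[A] B) (p : MvPolynomial κ A) :
    aeval (fun k => e (X k)) p = e p := by
  have := MvPolynomial.aeval_unique (e : MvPolynomial κ A →ₐ[A] B)
  exact (AlgHom.congr_fun this p).symm

/-- generators of a polynomial algebra. -/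
noncomputable def polyGen {A B : Type u} [CommRing A] [CommRing B] [Algebra A B] {κ : Type u}
    (e : MvPolynomial κ A ≃ₐ[A] B) : Algebra.Generators A B κ :=
  Algebra.Generators.ofSurjective (fun k => e (X k)) (fun b =>
    ⟨e.symm b, by rw [aeval_equiv, AlgEquiv.apply_symm_apply]⟩)

lemma polyGen_ker {A B : Type u} [CommRing A] [CommRing B] [Algebra A B] {κ : Type u}
    (e : MvPolynomial κ A ≃ₐ[A] B) : (polyGen e).ker = ⊥ := by
  rw [eq_bot_iff]
  intro p hp
  have hp' : algebraMap (polyGen e).Ring B p = 0 := hp
  rw [Algebra.Generators.algebraMap_apply] at hp'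
  change aeval (fun k => e (X k)) p = 0 at hp'
  rw [aeval_equiv] at hp'
  rw [Ideal.mem_bot]
  exact e.injective (hp'.trans (map_zero e).symm)

/-- the presentation of a polynomial algebra with no relations. -/
noncomputable def polyPres {A B : Type u} [CommRing A] [CommRing B] [Algebra A B] {κ : Type u}
    (e : MvPolynomial κ A ≃ₐ[A] B) : Algebra.Presentation A B κ PEmpty.{u + 1} where
  toGenerators := polyGen e
  relation := PEmpty.elim
  span_range_relation_eq_ker := by
    have h1 : Set.range (PEmpty.elim : PEmpty.{u + 1} → (polyGen e).Ring) = ∅ :=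
      Set.range_eq_empty _
    rw [h1, Ideal.span_empty, polyGen_ker]

theorem mainAux
    (A B : Type u) [CommRing A] [CommRing B] [Algebra A B] (κ : Type u) (e : MvPolynomial κ A ≃ₐ[A] B)
    (M : Type u) [AddCommGroup M] [Module B M] :
    Subsingleton (CotT.T1 (CotT.canon A B) M) ∧ Subsingleton (CotT.T2 (CotT.canon A B) M) := by
  have hF : Subsingleton (CotT.relMod (polyPres e)) := by
    unfold CotT.relMod
    infer_instance
  have hL1 : Subsingleton (CotT.L1 (polyPres e)) := by
    unfold CotT.L1
    infer_instance
  have hQ : Subsingleton (CotT.relKer (polyPres e)) := by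
    infer_instance
  have hL2 : Subsingleton (CotT.L2 (polyPres e)) := by
    unfold CotT.L2
    infer_instance
  have hT1 : Subsingleton (CotT.T1 (polyPres e) M) := by
    unfold CotT.T1
    infer_instance
  have hT2 : Subsingleton (CotT.T2 (polyPres e) M) := by
    unfold CotT.T2
    infer_instance
  obtain ⟨e1⟩ := Groth.Agent.Lib.Helper1.CotT01.nonempty_T1_equiv (polyPres e) (CotT.canon A B) M
  obtain ⟨e2⟩ := Groth.Agent.Lib.Helper1.CotJoin.nonempty_T2_equiv_presentations (polyPres e)
    (CotT.canon A B) M
  exact ⟨e1.symm.toEquiv.subsingleton, e2.symm.toEquiv.subsingleton⟩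

/-- Let B be an A-algebra that is isomorphic over A to a polynomial ring A[x_j] in some set of
variables. Then for every B-module M the modules T^1(B/A, M) and T^2(B/A, M), computed from the
choice-free presentation of B over A (every element of B a variable, every element of the kernel a
relation), are zero. -/
theorem result
    (A B : Type u) [CommRing A] [CommRing B] [Algebra A B] (κ : Type u) (e : MvPolynomial κ A ≃ₐ[A] B)
    (M : Type u) [AddCommGroup M] [Module B M] :
    Subsingleton (CotT.T1 (CotT.canon A B) M) ∧ Subsingleton (CotT.T2 (CotT.canon A B) M) := by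
  exact mainAux A B κ e M

end Groth.Agent.S12287
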