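import Groth.Statements.S12290
import Groth.Agent.Lib.Helper5.CotSmooth
import Groth.Agent.Lib.Helper5.CotSmoothT1

set_option autoImplicit false
universe u w m
open scoped TensorProduct
open DefT

namespace Groth.Agent.S12290

/-- Let k be an algebraically closed field and B a finitely generated k-algebra, X = Spec B. Then X is
nonsingular (localizing B at any prime ideal gives a regular local ring) exactly when T^1(B/k, M)
vanishes for every B-module M; and when X is nonsingular, T^2(B/k, M) vanishes too, for every
B-module M. Here T^1, T^2 are computed from the choice-free presentation of B over k. -/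
theorem result
    (k B : Type u) [Field k] [IsAlgClosed k] [CommRing B] [Algebra k B] [Algebra.FiniteType k B] :
    ((∀ (p : Ideal B) [p.IsPrime], IsRegularLocalRing (Localization.AtPrime p)) ↔
      ∀ (M : Type u) [AddCommGroup M] [Module B M], Subsingleton (CotT.T1 (CotT.canon k B) M)) ∧
    ((∀ (p : Ideal B) [p.IsPrime], IsRegularLocalRing (Localization.AtPrime p)) →
      ∀ (M : Type u) [AddCommGroup M] [Module B M], Subsingleton (CotT.T2 (CotT.canon k B) M)) := by
  have hnoeth : IsNoetherianRing B := Algebra.FiniteType.isNoetherianRing k B
  have hfp : Algebra.FinitePresentation k B :=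
    Algebra.FinitePresentation.of_finiteType.mp inferInstance
  have hiff : (∀ (p : Ideal B) [p.IsPrime], IsRegularLocalRing (Localization.AtPrime p)) ↔
      IsRegularRing B := (isRegularRing_iff (R := B)).symm
  refine ⟨?_, ?_⟩
  · rw [hiff, ← Lib.Helper5.CotSyz.formallySmooth_iff_T1]
    constructor
    · intro h
      have hsm : Algebra.Smooth k B := Lib.Helper5.RegSmoothCore.smooth_of_isRegularRing k B
      infer_instance
    · intro h
      have hsm : Algebra.Smooth k B := ⟨h, hfp⟩
      exact Lib.Helper5.RegSmooth.isRegularRing_of_smooth k B
  · intro h M _ _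
    have hreg : IsRegularRing B := hiff.1 h
    exact Lib.Helper5.CotSyz.subsingleton_T2_canon_of_regular k B M

end Groth.Agent.S12290
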