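import Groth.Statements.S12292
import Groth.Agent.S12289
import Groth.Agent.Lib.Helper1.ExalPresT1

set_option autoImplicit false
universe u w m
open scoped TensorProduct
open DefT

namespace Groth.Agent.S12292

theorem mainAux
    (A B : Type u) [CommRing A] [CommRing B] [Algebra A B] (M : Type u) [AddCommGroup M] [Module B M] :
    ∃ e : Exal.Exalcom A B M ≃ CotT.T1 (CotT.canon A B) M, e 0 = 0 := by
  let P := CotT.canon A B
  let Q : Algebra.Extension.{u} A B := P.toExtension
  letI : Module Q.Ring M := Module.compHom M (algebraMap Q.Ring B)
  haveI : IsScalarTower Q.Ring B M := IsScalarTower.of_compHom Q.Ring B M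
  letI : Module A M := Module.compHom M (algebraMap A B)
  haveI : IsScalarTower A Q.Ring M := ⟨fun a r x => by
    change algebraMap Q.Ring B (a • r) • x = algebraMap A B a • (algebraMap Q.Ring B r • x)
    rw [Algebra.smul_def, map_mul, ← IsScalarTower.algebraMap_apply, mul_smul]⟩
  obtain ⟨-, hker, hsurj⟩ := Groth.Agent.S12289.result A B B (CotT.CanonRels A B) P M
  refine Groth.Agent.Lib.Helper1.ExalPresT1.classify Q Q.algebraMap_surjective ?_
    (CotT.homToT1 P M) hsurj hker
  intro X
  let g : MvPolynomial B A →ₐ[A] X.E :=
    MvPolynomial.aeval (fun b => Function.surjInv X.isExtension.proj_surjective b)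
  have h2 : X.proj.comp g = MvPolynomial.aeval P.val := by
    apply MvPolynomial.algHom_ext
    intro b
    rw [AlgHom.comp_apply, MvPolynomial.aeval_X, MvPolynomial.aeval_X]
    exact Function.surjInv_eq X.isExtension.proj_surjective b
  refine ⟨g, fun r => ?_⟩
  have h1 : algebraMap Q.Ring B r = MvPolynomial.aeval P.val r := CotT.algebraMap_toExtension P r
  rw [h1]
  exact AlgHom.congr_fun h2 r

/-- Let A → B be a ring homomorphism and M a B-module. The equivalence classes of extensions of B by M
as A-algebras (surjections of A-algebras B' → B whose kernel is an ideal of square zero identified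
with M, two extensions being equivalent when there is an isomorphism compatible with the identities
of B and M) are in bijection with T^1(B/A, M), computed from the choice-free presentation, the class
of the trivial extension B ⊕ M corresponding to zero. (The published statement calls the
correspondence natural; this row asserts the existence of a bijection taking the trivial class to
zero.) -/
theorem result
    (A B : Type u) [CommRing A] [CommRing B] [Algebra A B] (M : Type u) [AddCommGroup M] [Module B M] :
    ∃ e : Exal.Exalcom A B M ≃ CotT.T1 (CotT.canon A B) M, e 0 = 0 := by
  exact mainAux A B M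

end Groth.Agent.S12292
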