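import Groth.Statements.S12295
import Groth.Agent.Lib.Helper1.CotRel

set_option autoImplicit false
universe u w m
open scoped TensorProduct
open DefT

namespace Groth.Agent.S12295

open MvPolynomial Groth.Agent.Lib.Helper1.CotRel

/-- Let k be a commutative ring, B a k-algebra and P a presentation of B over k with polynomial ring R =
k[x_i] (any set of variables), so that B = R/I; let P' be a presentation of B over R with no
polynomial variables (R itself mapping onto B, with chosen generators of I), and M a B-module. Then
T^2(B/R, M), computed from P', and T^2(B/k, M), computed from P, are isomorphic B-modules.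
(Existence of a B-linear isomorphism only; the published statement has finitely many variables over
a field and notes that any base ring works.) -/
theorem result
    (k B : Type u) [CommRing k] [CommRing B] [Algebra k B] (ι σ ι' σ' : Type w)
    (P : Algebra.Presentation k B ι σ) [IsEmpty ι']
    (P' : Algebra.Presentation P.toExtension.Ring B ι' σ')
    (M : Type m) [AddCommGroup M] [Module B M] :
    Nonempty (CotT.T2 P' M ≃ₗ[B] CotT.T2 P M) := by
  have hC : ∀ r : P.toExtension.Ring,
      algebraMap P'.toExtension.Ring B (C r : MvPolynomial ι' P.toExtension.Ring) =
        algebraMap P.toExtension.Ring B r := by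
    intro r
    rw [CotT.algebraMap_toExtension]
    exact aeval_C _ r
  refine nonempty_T2_equiv_of_ringEquiv P' P M
    ((isEmptyRingEquiv P.toExtension.Ring ι' : MvPolynomial ι' P.toExtension.Ring ≃+* _).toRingHom)
    (C : P.toExtension.Ring →+* MvPolynomial ι' P.toExtension.Ring) ?_ ?_ ?_ ?_
  · intro q
    have hq : q = C (isEmptyRingEquiv P.toExtension.Ring ι' q) := by
      rw [← isEmptyRingEquiv_symm_apply, RingEquiv.symm_apply_apply]
    conv_rhs => rw [hq]
    exact (hC _).symm
  · exact hC
  · intro q
    change C (isEmptyRingEquiv P.toExtension.Ring ι' q) = q
    rw [← isEmptyRingEquiv_symm_apply, RingEquiv.symm_apply_apply]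
  · intro r
    change isEmptyRingEquiv P.toExtension.Ring ι' (C r) = r
    rw [← isEmptyRingEquiv_symm_apply, RingEquiv.apply_symm_apply]

end Groth.Agent.S12295
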