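import Groth.Statements.S12299
import Groth.Agent.Lib.Helper1.ArtFunDer
import Groth.Agent.Lib.Helper1.ArtFunHullStep
import Mathlib.LinearAlgebra.Dual.Lemmas

set_option autoImplicit false
universe u v
open CategoryTheory
open ArtFun

namespace Groth.Agent.S12299

open ArtFun.Art

section Aux

variable {k : Type u} [Field k] (T : Art k k)

/-- The nilpotent part of an element. -/
noncomputable def nilPart : T.carrier →ₗ[k] T.carrier :=
  LinearMap.id - (Algebra.linearMap k T.carrier) ∘ₗ T.res.toLinearMap

lemma nilPart_apply (t : T.carrier) : nilPart T t = t - algebraMap k T.carrier (T.res t) := rfl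

lemma nilPart_mem (t : T.carrier) : nilPart T t ∈ IsLocalRing.maximalIdeal T.carrier := by
  rw [T.mem_maximalIdeal_iff, nilPart_apply, map_sub, AlgHom.commutes]
  exact sub_self _

lemma nilPart_of_mem {t : T.carrier} (ht : T.res t = 0) : nilPart T t = t := by
  rw [nilPart_apply, ht, map_zero, sub_zero]

/-- A linear functional gives a derivation when the maximal ideal has square zero. -/
noncomputable def derOfDual (hsq : IsLocalRing.maximalIdeal T.carrier ^ 2 = ⊥)
    (l : Module.Dual k T.carrier) :
    letI : Algebra T.carrier k := T.res.toRingHom.toAlgebra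
    Derivation k T.carrier k :=
  letI : Algebra T.carrier k := T.res.toRingHom.toAlgebra
  haveI : IsScalarTower k T.carrier k :=
    IsScalarTower.of_algebraMap_eq (fun c => (T.res.commutes c).symm)
  Derivation.mk' (l ∘ₗ nilPart T) (fun a b => by
    have hab : nilPart T a * nilPart T b = 0 := by
      have := Ideal.mul_mem_mul (nilPart_mem T a) (nilPart_mem T b)
      rwa [← pow_two, hsq, Ideal.mem_bot] at this
    have e : nilPart T (a * b) = T.res a • nilPart T b + T.res b • nilPart T a := by
      rw [nilPart_apply, nilPart_apply, nilPart_apply] at *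
      rw [Algebra.smul_def, Algebra.smul_def, map_mul, map_mul]
      have h0 : (a - algebraMap k T.carrier (T.res a)) * (b - algebraMap k T.carrier (T.res b)) = 0 :=
        hab
      linear_combination h0
    change l (nilPart T (a * b)) = a • l (nilPart T b) + b • l (nilPart T a)
    rw [e, map_add, map_smul, map_smul]
    rfl)

end Aux

/-- Let k be an algebraically closed field, F a set-valued functor on local Artinian k-algebras with
residue field k, and (R, ξ) a miniversal family for F, with R a complete local Noetherian k-algebra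
with residue field k: the morphism h_R → F has the lifting property along surjections and is
bijective on the dual numbers. Let S be a complete local Noetherian k-algebra with residue field k
and g₁, g₂ : R → S two k-algebra maps compatible with the augmentations along which ξ induces the
same formal family over S (the same compatible sequence in the F(S/m^(n+1))). Then g₁ and g₂ induce
the same map R → S/m_S², so the map R/m_R² → S/m_S² attached to a formal family over S is well
defined. (Coefficient rings are taken Noetherian here.) -/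
theorem result
    {k : Type u} [Field k] [IsAlgClosed k] {F : ArtFun.Art k k ⥤ Type v}
    (R : ArtFun.CRing k k) (ξ : ArtFun.Family R.carrier R.res F) (hξ : ArtFun.IsMiniversal ξ)
    (S : ArtFun.CRing k k) (g₁ g₂ : R.carrier →ₐ[k] S.carrier)
    (hg₁ : S.res.comp g₁ = R.res) (hg₂ : S.res.comp g₂ = R.res)
    (h : (ξ.along g₁ hg₁).toFormalElt = (ξ.along g₂ hg₂).toFormalElt) :
    (S.truncHom 1).1.comp g₁ = (S.truncHom 1).1.comp g₂ := by
  classical
  let T := S.trunc 1
  let u₁ : HomSet R.carrier R.res T :=
    ⟨(S.truncHom 1).1.comp g₁, by rw [← AlgHom.comp_assoc, (S.truncHom 1).2, hg₁]⟩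
  let u₂ : HomSet R.carrier R.res T :=
    ⟨(S.truncHom 1).1.comp g₂, by rw [← AlgHom.comp_assoc, (S.truncHom 1).2, hg₂]⟩
  have hu : ξ.app T u₁ = ξ.app T u₂ := congrArg (fun w : FormalElt F S => w.elt 1) h
  -- the maximal ideal of T has square zero
  have hsq : IsLocalRing.maximalIdeal T.carrier ^ 2 = ⊥ := by
    rw [eq_bot_iff]
    refine (Ideal.pow_right_mono (S.maximalIdeal_quot_le 1) 2).trans ?_
    rw [← Ideal.map_pow]
    intro x hx
    obtain ⟨y, hy, rfl⟩ := (Ideal.mem_map_iff_of_surjective _ Ideal.Quotient.mk_surjective).1 hx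
    have h0 : Ideal.Quotient.mk (S.mpow 1) y = 0 := Ideal.Quotient.eq_zero_iff_mem.2 hy
    rw [h0]
    exact Submodule.zero_mem _
  letI : Algebra T.carrier k := T.res.toRingHom.toAlgebra
  haveI : IsScalarTower k T.carrier k :=
    IsScalarTower.of_algebraMap_eq (fun c => (T.res.commutes c).symm)
  have hresT : ∀ t : T.carrier, algebraMap T.carrier k t = T.res t := fun _ => rfl
  have hD : ∀ (D : Derivation k T.carrier k) (r : R.carrier), D (u₁.1 r) = D (u₂.1 r) := by
    intro D r
    let πD : T ⟶ dual k k :=
      Art.homMk (Groth.Agent.Lib.Helper1.ArtFunDer.derHom hresT D).1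
        (Groth.Agent.Lib.Helper1.ArtFunDer.derHom hresT D).2
    have h1 : ξ.app (dual k k) (HomSet.map πD u₁) = ξ.app (dual k k) (HomSet.map πD u₂) := by
      rw [ξ.natural, ξ.natural, hu]
    have h2 := hξ.2.1 h1
    have h3 := congrArg (fun w : HomSet R.carrier R.res (dual k k) =>
      TrivSqZeroExt.snd (w.1 r : TrivSqZeroExt k k)) h2
    exact h3
  apply AlgHom.ext
  intro r
  change u₁.1 r = u₂.1 r
  rw [← sub_eq_zero]
  have hres0 : T.res (u₁.1 r - u₂.1 r) = 0 := by
    rw [map_sub, Groth.Agent.Lib.Helper1.ArtFunHullStep.res_homSet u₁,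
      Groth.Agent.Lib.Helper1.ArtFunHullStep.res_homSet u₂, sub_self]
  rw [← Module.forall_dual_apply_eq_zero_iff k]
  intro l
  have := hD (derOfDual T hsq l) r
  have e : l (nilPart T (u₁.1 r - u₂.1 r)) = 0 := by
    rw [map_sub, map_sub, sub_eq_zero]
    exact this
  rwa [nilPart_of_mem T hres0] at e

end Groth.Agent.S12299
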