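import Groth.Statements.S12305
import Groth.Agent.S12283
import Groth.Agent.S12289
import Groth.Agent.Lib.helper10.SplitUpTo

set_option autoImplicit false
universe u
open CotT

namespace Groth.Agent.S12305

/-- Let k be an algebraically closed field, A a finitely generated k-algebra which is a domain, smooth
over k and of Krull dimension one (the coordinate ring of a nonsingular affine curve T), t ∈ A an
element generating a maximal ideal (a point 0 of T), and B a finitely generated flat A-algebra (an
affine flat family X = Spec B over T). Then the following are equivalent: (i) B is smooth over A at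
every prime of B not containing t, that is, every fibre of X over a point of T other than 0 is
smooth; (ii) there is an integer n₀ such that t^(n₀) annihilates the cotangent module T¹(B/A, M),
computed from the choice-free presentation of B over A, for every finitely generated B-module M. -/
theorem result
    {k : Type u} [Field k] [IsAlgClosed k] (A B : Type u) [CommRing A] [CommRing B] [IsDomain A]
    [Algebra k A] [Algebra.FiniteType k A] [Algebra.Smooth k A] (hdim : ringKrullDim A = 1)
    (t : A) (ht : (Ideal.span {t}).IsMaximal)
    [Algebra A B] [Algebra.FiniteType A B] [Module.Flat A B] :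
    (∀ q : PrimeSpectrum B, algebraMap A B t ∉ q.asIdeal → q ∈ Algebra.smoothLocus A B) ↔
    ∃ n₀ : ℕ, ∀ (M : Type u) [AddCommGroup M] [Module B M] [Module.Finite B M],
      ∀ x : CotT.T1 (CotT.canon A B) M, (algebraMap A B t) ^ n₀ • x = 0 := by
  classical
  have hA : IsNoetherianRing A := Algebra.FiniteType.isNoetherianRing k A
  have hfp : Algebra.FinitePresentation A B :=
    Algebra.FinitePresentation.of_finiteType.mp inferInstance
  let P₀ := Algebra.Presentation.ofFinitePresentation A B
  let P : Algebra.Presentation A B
      (ULift.{u} (Fin (Algebra.Presentation.ofFinitePresentationVars A B)))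
      (ULift.{u} (Fin (Algebra.Presentation.ofFinitePresentationRels A B))) :=
    P₀.reindex Equiv.ulift Equiv.ulift
  let d := P.toExtension.cotangentComplex
  let π := P.toExtension.toKaehler
  have hex : Function.Exact d π := P.toExtension.exact_cotangentComplex_toKaehler
  have hπ : Function.Surjective π := P.toExtension.toKaehler_surjective
  have hfin : Module.Finite B P.toExtension.Cotangent :=
    Algebra.Extension.Cotangent.finite P.fg_ker
  have hfree : Module.Free B P.toExtension.CotangentSpace := .of_basis P.cotangentSpaceBasis
  have hfin' : Module.Finite B P.toExtension.CotangentSpace := .of_basis P.cotangentSpaceBasis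
  set u := algebraMap A B t with hu
  have key := Groth.Agent.Lib.helper10.SplitUpTo.forall_iff_exists_pow_mem d π hex hπ u
  have lhs : (∀ q : PrimeSpectrum B, u ∉ q.asIdeal → q ∈ Algebra.smoothLocus A B) ↔
      (∀ q : PrimeSpectrum B, u ∉ q.asIdeal →
        q ∉ Module.support B (LinearMap.ker d) ∧ q ∈ Module.freeLocus B (Ω[B⁄A])) := by
    refine forall_congr' fun q => imp_congr_right fun _ => ?_
    rw [Algebra.smoothLocus_eq_compl_support_inter, Set.mem_inter_iff, Set.mem_compl_iff]
    have e : LinearMap.ker d ≃ₗ[B] Algebra.H1Cotangent A B := P.equivH1Cotangent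
    rw [e.support_eq]
  rw [lhs, key]
  constructor
  · rintro ⟨m, r, hr⟩
    refine ⟨m, fun M _ _ _ x => ?_⟩
    obtain ⟨-, ⟨e⟩, -⟩ := Groth.Agent.S12283.result A B _ _ _ _ (CotT.canon A B) P M
    obtain ⟨-, hker, hsurj⟩ := Groth.Agent.S12289.result A B _ _ P M
    apply e.injective
    rw [map_smul, map_zero]
    obtain ⟨φ, hφ⟩ := hsurj (e x)
    rw [← hφ, ← map_smul, ← LinearMap.mem_ker, hker]
    refine ⟨φ ∘ₗ r, ?_⟩
    rw [LinearMap.lcomp_apply', LinearMap.comp_assoc, hr, LinearMap.comp_smul, LinearMap.comp_id]
  · rintro ⟨n₀, h⟩
    refine ⟨n₀, ?_⟩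
    obtain ⟨-, ⟨e⟩, -⟩ := Groth.Agent.S12283.result A B _ _ _ _ (CotT.canon A B) P
      P.toExtension.Cotangent
    obtain ⟨-, hker, hsurj⟩ := Groth.Agent.S12289.result A B _ _ P P.toExtension.Cotangent
    have h0 := h P.toExtension.Cotangent (e.symm (CotT.homToT1 P _ LinearMap.id))
    rw [← map_smul, e.symm.map_eq_zero_iff, ← map_smul, ← LinearMap.mem_ker, hker] at h0
    obtain ⟨r, hr⟩ := h0
    refine ⟨r, ?_⟩
    rw [LinearMap.lcomp_apply'] at hr
    exact hr

end Groth.Agent.S12305
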