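import Groth.Statements.S12306
import Groth.Agent.S12305
import Groth.Agent.S12283
import Groth.Agent.S12289
import Groth.Agent.S12292
import Groth.Agent.Lib.helper10.RigidPrelim
import Groth.Agent.Lib.helper10.RigidFT
import Groth.Agent.Lib.helper10.TrivConcrete
import Groth.Agent.Lib.helper10.CotRetract
import Groth.Agent.Lib.helper10.BCRetract

set_option autoImplicit false
universe u
open CotT

namespace Groth.Agent.S12306

open Groth.Agent.Lib.helper10 TensorProduct Algebra

attribute [local instance] Algebra.TensorProduct.rightAlgebra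

/-- Let k be an algebraically closed field and B₀ a finitely generated k-algebra which is not smooth
over k and is rigid, in the sense that the cotangent module T¹(B₀/k, B₀) (from the choice-free
presentation) vanishes. Let A be a finitely generated k-algebra which is a domain, smooth over k of
Krull dimension one, t ∈ A an element generating a maximal ideal, and B a finitely generated flat
A-algebra, a k-algebra compatibly with A, whose fibre B/tB is k-isomorphic to B₀. Then this family
does not smooth Spec B₀: there is a prime of B not containing t at which B is not smooth over A.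
(The published statement asserts that a singular rigid scheme admits no smoothing by any flat
family; this row states it for flat families with affine total space over an affine nonsingular
curve whose point is cut out by one equation.) -/
theorem result
    {k : Type u} [Field k] [IsAlgClosed k] (B₀ : Type u) [CommRing B₀] [Algebra k B₀] [Algebra.FiniteType k B₀]
    (hsing : ¬ Algebra.Smooth k B₀) (hrigid : Subsingleton (CotT.T1 (CotT.canon k B₀) B₀))
    (A B : Type u) [CommRing A] [CommRing B] [IsDomain A] [Algebra k A] [Algebra.FiniteType k A]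
    [Algebra.Smooth k A] (hdim : ringKrullDim A = 1) (t : A) (ht : (Ideal.span {t}).IsMaximal)
    [Algebra A B] [Algebra.FiniteType A B] [Module.Flat A B] [Algebra k B] [IsScalarTower k A B]
    (e : (B ⧸ Ideal.span {algebraMap A B t}) ≃ₐ[k] B₀) :
    ∃ q : PrimeSpectrum B, algebraMap A B t ∉ q.asIdeal ∧ q ∉ Algebra.smoothLocus A B := by
  classical
  by_contra hcon
  have hsm : ∀ q : PrimeSpectrum B, algebraMap A B t ∉ q.asIdeal →
      q ∈ Algebra.smoothLocus A B := by
    intro q hq
    by_contra h
    exact hcon ⟨q, hq, h⟩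
  obtain ⟨n₀, hn₀⟩ := (Groth.Agent.S12305.result (k := k) A B hdim t ht).mp hsm
  -- a finite presentation
  have hA : IsNoetherianRing A := Algebra.FiniteType.isNoetherianRing k A
  have hfp : Algebra.FinitePresentation A B :=
    Algebra.FinitePresentation.of_finiteType.mp inferInstance
  let P : Algebra.Presentation A B
      (ULift.{u} (Fin (Algebra.Presentation.ofFinitePresentationVars A B)))
      (ULift.{u} (Fin (Algebra.Presentation.ofFinitePresentationRels A B))) :=
    (Algebra.Presentation.ofFinitePresentation A B).reindex Equiv.ulift Equiv.ulift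
  have hfin : Module.Finite B P.toExtension.Cotangent :=
    Algebra.Extension.Cotangent.finite P.fg_ker
  obtain ⟨r, hr⟩ : ∃ r : P.toExtension.CotangentSpace →ₗ[B] P.toExtension.Cotangent,
      ∀ y, r (P.toExtension.cotangentComplex y) = (algebraMap A B t) ^ n₀ • y := by
    obtain ⟨-, ⟨eT⟩, -⟩ := Groth.Agent.S12283.result A B _ _ _ _ (CotT.canon A B) P
      P.toExtension.Cotangent
    obtain ⟨-, hker, hsurj⟩ := Groth.Agent.S12289.result A B _ _ P P.toExtension.Cotangent
    have h0 := hn₀ P.toExtension.Cotangent (eT.symm (CotT.homToT1 P _ LinearMap.id))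
    rw [← map_smul, eT.symm.map_eq_zero_iff, ← map_smul, ← LinearMap.mem_ker, hker] at h0
    obtain ⟨r, hr⟩ := h0
    refine ⟨r, fun y => ?_⟩
    rw [LinearMap.lcomp_apply'] at hr
    have := LinearMap.congr_fun hr y
    simpa using this
  -- preliminary facts
  have ht0 : t ≠ 0 := RigidPrelim.ne_zero_of_dim t hdim ht
  have hk := RigidPrelim.algebraMap_quot_surjective (k := k) t ht
  have hτreg : IsSMulRegular B (algebraMap A B t) := by
    have h1 : IsSMulRegular A t := (IsRegular.of_ne_zero ht0).left.isSMulRegular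
    exact IsSMulRegular.of_flat h1
  -- rigidity
  have htriv : ∀ X : Exal.Ext k B₀ B₀, X.IsTrivial := by
    obtain ⟨eE, -⟩ := Groth.Agent.S12292.result k B₀ B₀
    have : Subsingleton (Exal.Exalcom k B₀ B₀) := eE.subsingleton
    exact RigidFT.isTrivial_of_subsingleton this
  -- formal triviality
  obtain ⟨s₁, hs₁⟩ := RigidFT.exists_lift (algebraMap A B t) hτreg e htriv (n₀ + 1) (by omega)
  obtain ⟨s₃, Ψ, hΨ⟩ := TrivConcrete.exists_section_and_retract t (n₀ + 1) (by omega) hk hτreg e
    s₁ hs₁
  -- instances
  let An := A ⧸ Ideal.span {t ^ (n₀ + 1)}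
  let S := An ⊗[A] B
  letI algB₀S : Algebra B₀ S := s₃.toRingHom.toAlgebra
  haveI tow1 : IsScalarTower k B₀ S :=
    IsScalarTower.of_algebraMap_eq (fun c => (s₃.commutes c).symm)
  letI algSS' : Algebra S (An ⊗[k] B₀) := Ψ.toRingHom.toAlgebra
  haveI tow2 : IsScalarTower An S (An ⊗[k] B₀) := ⟨fun a s x => by
    change Ψ (a • s) * x = a • (Ψ s * x)
    rw [map_smul, smul_mul_assoc]⟩
  haveI tow3 : IsScalarTower B₀ S (An ⊗[k] B₀) :=
    IsScalarTower.of_algebraMap_eq (fun b => (hΨ b).symm)
  -- extensions
  let P₀g := Algebra.Generators.self k B₀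
  let P₀ := P₀g.toExtension
  let Qg := P.toGenerators.baseChange An
  let Q := Qg.toExtension
  obtain ⟨r', hr'⟩ := BCRetract.exists_retraction P An r ((algebraMap A B t) ^ n₀) hr
  let α₁ : P₀.Hom Q := (Algebra.Generators.defaultHom P₀g Qg).toExtensionHom
  let P₀' := P₀.baseChange (T := An)
  let fβ : Qg.Ring →ₐ[An] P₀'.Ring :=
    MvPolynomial.aeval (fun i => P₀'.σ (algebraMap S (An ⊗[k] B₀) (Qg.val i)))
  have hβ : ∀ x : Qg.Ring, algebraMap P₀'.Ring (An ⊗[k] B₀) (fβ x) =
      algebraMap S (An ⊗[k] B₀) (algebraMap Qg.Ring S x) := by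
    intro x
    induction x using MvPolynomial.induction_on with
    | C a =>
      rw [show fβ (MvPolynomial.C a) = algebraMap An P₀'.Ring a from MvPolynomial.aeval_C _ a,
        ← IsScalarTower.algebraMap_apply An P₀'.Ring (An ⊗[k] B₀),
        show algebraMap Qg.Ring S (MvPolynomial.C a) = algebraMap An S a from by
          rw [Qg.algebraMap_apply, MvPolynomial.aeval_C],
        ← IsScalarTower.algebraMap_apply An S (An ⊗[k] B₀)]
    | add p q hp hq => rw [map_add, map_add, map_add, map_add, hp, hq]
    | mul_X p i hp =>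
      rw [map_mul, map_mul, map_mul, map_mul, hp]
      congr 1
      rw [show fβ (MvPolynomial.X i) = P₀'.σ (algebraMap S (An ⊗[k] B₀) (Qg.val i)) from
        MvPolynomial.aeval_X _ i, Algebra.Extension.algebraMap_σ, Qg.algebraMap_apply,
        MvPolynomial.aeval_X]
  let β : Q.Hom P₀' :=
    { toRingHom := fβ.toRingHom
      toRingHom_algebraMap := fun x => fβ.commutes x
      algebraMap_toRingHom := fun x => hβ x }
  -- the functional
  let θ₀ : An := Ideal.Quotient.mk _ (t ^ n₀)
  have hθ₀ : θ₀ ≠ 0 := by
    intro h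
    exact RigidPrelim.pow_notMem t ht ht0 n₀ ((Ideal.Quotient.eq_zero_iff_mem).mp h)
  obtain ⟨c, hc⟩ : ∃ c : An →ₗ[k] k, c θ₀ = 1 := by
    obtain ⟨c₀, hc₀⟩ : ∃ c₀ : Module.Dual k An, c₀ θ₀ ≠ 0 := by
      by_contra h
      push Not at h
      exact hθ₀ ((Module.forall_dual_apply_eq_zero_iff k θ₀).mp h)
    exact ⟨(c₀ θ₀)⁻¹ • c₀, by simp [hc₀]⟩
  have hr'' : ∀ y, r' (Q.cotangentComplex y) = (algebraMap An S θ₀) • y := by
    intro y
    rw [hr']
    congr 1
    change _ = θ₀ ⊗ₜ[A] (1 : B)
    rw [show θ₀ = (t ^ n₀) • (1 : An) from by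
      rw [Algebra.smul_def, mul_one]; rfl, TensorProduct.smul_tmul, Algebra.smul_def, mul_one,
      map_pow]
  obtain ⟨l, hl⟩ := CotRetract.exists_retraction P₀ Q α₁ β r' θ₀ hr'' c hc
  haveI : Algebra.FormallySmooth k P₀.Ring :=
    inferInstanceAs (Algebra.FormallySmooth k (MvPolynomial B₀ k))
  have hFS : Algebra.FormallySmooth k B₀ :=
    (Algebra.Extension.formallySmooth_iff_split_injection P₀).mpr ⟨l, hl⟩
  have hFP : Algebra.FinitePresentation k B₀ :=
    Algebra.FinitePresentation.of_finiteType.mp inferInstance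
  exact hsing ⟨hFS, hFP⟩

end Groth.Agent.S12306
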