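import Groth.Statements.S1231
import Groth.Agent.Lib.helper19.FlatEt

set_option autoImplicit false
universe u
open FlatMor

namespace Groth.Agent.S1231

/-- Let R → T be an étale ring map, C a T-algebra, N a C-module and q a prime of C. Then the
localization N_q is flat over R if and only if it is flat over T. In particular N is flat over R if
and only if it is flat over T. -/
theorem result {R T C : Type u} [CommRing R] [CommRing T] [CommRing C] [Algebra R T] [Algebra.Etale R T]
    [Algebra T C] [Algebra R C] [IsScalarTower R T C]
    (N : Type u) [AddCommGroup N] [Module C N] [Module T N] [Module R N] [IsScalarTower T C N] [IsScalarTower R C N] [IsScalarTower R T N]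
    (q : Ideal C) [q.IsPrime] :
    (FlatCA.FlatAt R q N ↔ FlatCA.FlatAt T q N) ∧ (Module.Flat R N ↔ Module.Flat T N) := by
  haveI : Algebra.EssFiniteType R T := inferInstance
  haveI : Algebra.FormallyUnramified R T := inferInstance
  haveI : Module.Flat R T := inferInstance
  refine ⟨?_, Helper19.FlatEt.flat_iff N⟩
  haveI : IsScalarTower R T (LocalizedModule q.primeCompl N) := by
    refine IsScalarTower.of_algebraMap_smul fun r x => ?_
    induction x using LocalizedModule.induction_on with
    | h n s =>
      rw [LocalizedModule.smul'_mk, LocalizedModule.smul'_mk, algebraMap_smul]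
  exact Helper19.FlatEt.flat_iff (LocalizedModule q.primeCompl N)

end Groth.Agent.S1231
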