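import Groth.Statements.S12314
import Mathlib.Tactic
-- import your own Groth.Agent.* helpers here

set_option autoImplicit false
universe u
open CategoryTheory CategoryTheory.Limits AlgebraicGeometry MonObj
open SGA7

namespace Groth.Agent.S12314

-- galois action commutes with postcomposition
theorem galAct_comp {K Ω : Type u} [Field K] [Field Ω] [Algebra K Ω]
    {A B : Over (Spec (CommRingCat.of K))} (τ : Ω ≃ₐ[K] Ω) (x : SGA7.Pts Ω A) (f : A ⟶ B) :
    SGA7.galAct τ (x ≫ f) = SGA7.galAct τ x ≫ f := by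
  unfold SGA7.galAct
  rw [Category.assoc]

-- torsion-freeness in additive groups: if n • x = 0 and l^k • x = 0 with n < l^a, l prime, then l^a • x = 0
theorem lpow_smul_eq_zero {M : Type*} [AddCommGroup M] {l : ℕ} (hl : l.Prime) {n k a : ℕ} (hn : 0 < n)
    (hna : n < l ^ a) (x : M) (h1 : n • x = 0) (h2 : (l ^ k) • x = 0) : (l ^ a) • x = 0 := by
  have hg : (Nat.gcd n (l ^ k)) • x = 0 := by
    have := Nat.gcd_eq_gcd_ab n (l ^ k)
    have h3 : ((Nat.gcd n (l ^ k) : ℕ) : ℤ) • x = 0 := by
      rw [this, add_smul, mul_smul, mul_smul]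
      rw [natCast_zsmul, natCast_zsmul]
      rw [smul_comm, h1, smul_zero, zero_add, smul_comm, h2, smul_zero]
    rwa [natCast_zsmul] at h3
  obtain ⟨j, hj, hjeq⟩ := (Nat.dvd_prime_pow hl).mp (Nat.gcd_dvd_right n (l ^ k))
  have hjn : l ^ j ∣ n := hjeq ▸ Nat.gcd_dvd_left n (l ^ k)
  have hja : j ≤ a := by
    by_contra hc
    push Not at hc
    have : l ^ a ≤ l ^ j := Nat.pow_le_pow_right hl.pos hc.le
    have := Nat.le_of_dvd hn hjn
    omega
  rw [hjeq] at hg
  obtain ⟨d, rfl⟩ := Nat.exists_eq_add_of_le hja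
  rw [pow_add, mul_comm, mul_smul, hg, smul_zero]

section
variable {S : Scheme.{u}} {A B : Over S} [GrpObj A] [IsCommMonObj A] [GrpObj B] [IsCommMonObj B]
  {l : ℕ} {T : Over S}

theorem compat_iter (z : AbDual.TateMod A l T) (a m : ℕ) :
    (l ^ a) • (z : ℕ → Additive (T ⟶ A)) (m + a) = (z : ℕ → Additive (T ⟶ A)) m := by
  induction a with
  | zero => simp
  | succ a ih =>
    rw [pow_succ, mul_smul, ← add_assoc, AbDual.TateMod.compat, ih]

theorem comp_id_pow (x : T ⟶ A) (n : ℕ) : x ≫ (𝟙 A) ^ n = x ^ n := by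
  rw [MonObj.comp_pow, Category.comp_id]

theorem tate_inj (hl : l.Prime) (u : A ⟶ B) [IsMonHom u] (v : B ⟶ A) [IsMonHom v] (n : ℕ) (hn : 0 < n)
    (huv : u ≫ v = (𝟙 A) ^ n) (z : AbDual.TateMod A l T)
    (hz : AbDual.tateMap (l := l) (T := T) u z = 0) : z = 0 := by
  have h1 : ∀ m, n • (z : ℕ → Additive (T ⟶ A)) m = 0 := by
    intro m
    have h2 : ((z : ℕ → Additive (T ⟶ A)) m).toMul ≫ u = 1 := by
      have := congrArg (fun w => (AbDual.TateMod.component B l T m w).toMul) hz
      exact this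
    have h3 : ((z : ℕ → Additive (T ⟶ A)) m).toMul ≫ u ≫ v = 1 := by
      rw [← Category.assoc, h2, MonObj.one_comp]
    rw [huv, comp_id_pow] at h3
    exact congrArg Additive.ofMul h3
  apply AbDual.TateMod.ext
  intro m
  rw [← compat_iter z n m]
  exact lpow_smul_eq_zero hl hn (Nat.lt_pow_self hl.one_lt) _ (h1 _) (z.torsion _)

theorem tate_comp (u : A ⟶ B) [IsMonHom u] (v : B ⟶ A) [IsMonHom v] (n : ℕ)
    (hvu : v ≫ u = (𝟙 B) ^ n) (y : AbDual.TateMod B l T) :
    AbDual.tateMap (l := l) (T := T) u (AbDual.tateMap (l := l) (T := T) v y) = n • y := by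
  apply AbDual.TateMod.ext
  intro m
  change Additive.ofMul ((((y : ℕ → Additive (T ⟶ B)) m).toMul ≫ v) ≫ u) = _
  rw [Category.assoc, hvu, comp_id_pow]
  rfl

end



/-- Let R be a henselian discrete valuation ring with fraction field K and residue field k, Ω a
separable closure of K, W a valuation subring of Ω lying over R, A and C abelian varieties over K
(proper, geometrically integral commutative group schemes), and u : C → A an isogeny, in the form:
there are a homomorphism v : A → C and an integer n > 0 with v ∘ u = n and u ∘ v = n. Let ℓ be a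
prime invertible in k and consider the ℓ-adic Tate modules of the Ω-points of C and A; call an
element fixed when all its components are fixed by the inertia group at W (for such ℓ the fixed part
is the inertia invariants). Then T_ℓ(u) maps the fixed part of T_ℓ(C) into the fixed part of T_ℓ(A)
and induces an isogeny between them: T_ℓ(u) is injective, and n times every fixed element of T_ℓ(A)
is the image of a fixed element of T_ℓ(C). (The case of a prime equal to the residue characteristic,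
where the fixed part is defined through the Néron model, is not stated.) -/
theorem result (R K Ω : Type u) [CommRing R] [IsDomain R] [IsDiscreteValuationRing R] [HenselianLocalRing R]
    [Field K] [Algebra R K] [IsFractionRing R K] [Field Ω] [Algebra K Ω] [IsSepClosure K Ω]
    (W : ValuationSubring Ω) (hW : SGA7.LiesOver K R W)
    (A C : Over (Spec (CommRingCat.of K))) [GrpObj A] [IsCommMonObj A] [IsProper A.hom] [GeometricallyIntegral A.hom]
    [GrpObj C] [IsCommMonObj C] [IsProper C.hom] [GeometricallyIntegral C.hom]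
    (u : C ⟶ A) [IsMonHom u] (v : A ⟶ C) [IsMonHom v] (n : ℕ) (hn : 0 < n)
    (huv : u ≫ v = (𝟙 C) ^ n) (hvu : v ≫ u = (𝟙 A) ^ n)
    (l : ℕ) (hl : l.Prime) (hlp : (l : IsLocalRing.ResidueField R) ≠ 0) :
    (∀ z : AbDual.TateMod C l (SGA7.pt Ω),
      (∀ (τ : Ω ≃ₐ[K] Ω) (m : ℕ), SGA7.IsInertia W τ →
        SGA7.galAct τ (AbDual.TateMod.component C l (SGA7.pt Ω) m z).toMul =
          (AbDual.TateMod.component C l (SGA7.pt Ω) m z).toMul) →
      (∀ (τ : Ω ≃ₐ[K] Ω) (m : ℕ), SGA7.IsInertia W τ →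
        SGA7.galAct τ (AbDual.TateMod.component A l (SGA7.pt Ω) m (AbDual.tateMap u z)).toMul =
          (AbDual.TateMod.component A l (SGA7.pt Ω) m (AbDual.tateMap u z)).toMul)) ∧
    (∀ z : AbDual.TateMod C l (SGA7.pt Ω), AbDual.tateMap (l := l) (T := SGA7.pt Ω) u z = 0 → z = 0) ∧
    (∀ y : AbDual.TateMod A l (SGA7.pt Ω),
      (∀ (τ : Ω ≃ₐ[K] Ω) (m : ℕ), SGA7.IsInertia W τ →
        SGA7.galAct τ (AbDual.TateMod.component A l (SGA7.pt Ω) m y).toMul =
          (AbDual.TateMod.component A l (SGA7.pt Ω) m y).toMul) →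
      ∃ z : AbDual.TateMod C l (SGA7.pt Ω),
        (∀ (τ : Ω ≃ₐ[K] Ω) (m : ℕ), SGA7.IsInertia W τ →
        SGA7.galAct τ (AbDual.TateMod.component C l (SGA7.pt Ω) m z).toMul =
          (AbDual.TateMod.component C l (SGA7.pt Ω) m z).toMul) ∧
        AbDual.tateMap (l := l) (T := SGA7.pt Ω) u z = n • y) := by
  have fixed_map : ∀ {P Q : Over (Spec (CommRingCat.of K))} [GrpObj P] [IsCommMonObj P] [GrpObj Q]
      [IsCommMonObj Q] (f : P ⟶ Q) [IsMonHom f] (z : AbDual.TateMod P l (SGA7.pt Ω)),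
      (∀ (τ : Ω ≃ₐ[K] Ω) (m : ℕ), SGA7.IsInertia W τ →
        SGA7.galAct τ (AbDual.TateMod.component P l (SGA7.pt Ω) m z).toMul =
          (AbDual.TateMod.component P l (SGA7.pt Ω) m z).toMul) →
      (∀ (τ : Ω ≃ₐ[K] Ω) (m : ℕ), SGA7.IsInertia W τ →
        SGA7.galAct τ (AbDual.TateMod.component Q l (SGA7.pt Ω) m (AbDual.tateMap f z)).toMul =
          (AbDual.TateMod.component Q l (SGA7.pt Ω) m (AbDual.tateMap f z)).toMul) := by
    intro P Q _ _ _ _ f _ z hz τ m hτ
    rw [AbDual.tateMap_component, galAct_comp, hz τ m hτ]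
  refine ⟨fun z hz => fixed_map u z hz, ?_, ?_⟩
  · intro z hz
    exact tate_inj hl u v n hn huv z hz
  · intro y hy
    exact ⟨AbDual.tateMap v y, fixed_map v y hy, tate_comp u v n hvu y⟩

end Groth.Agent.S12314
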