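import Groth.Statements.S12316
import Groth.Agent.Lib.Helper1.ArtFunAction
import Groth.Agent.S12717

set_option autoImplicit false
universe u v
open CategoryTheory
open SGA7

namespace Groth.Agent.S12316

/-- Suppose Λ is a Noetherian local ring, complete for its maximal ideal, whose residue field is k (so Λ
→ k is surjective), and work with functors defined on the category of local Artinian Λ-algebras
having residue field k. Take morphisms φ : F → G and ψ : G → H of such functors. Assume that each of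
F(k), G(k), H(k) consists of a single point; that for G the comparison map on fibre products A₁ ×_A
A₂ is surjective as soon as A₂ → A is surjective, and is bijective for products of the form A' ×_k
k[ε]; that for H the comparison map is bijective on every fibre product A₁ ×_A A₂ with A₂ → A
surjective; and that the induced map on tangent spaces G(k[ε]) → H(k[ε]) coming from ψ is injective.
Under these assumptions, φ ≫ ψ is smooth if and only if both φ and ψ are smooth. (The published
statement is for functors of cofibred groupoids with G semi-homogeneous and H homogeneous; this row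
is the case of set-valued functors.) -/
theorem result (Λ k : Type u) [CommRing Λ] [IsLocalRing Λ] [IsNoetherianRing Λ]
    [IsAdicComplete (IsLocalRing.maximalIdeal Λ) Λ] [Field k] [Algebra Λ k]
    (hk : Function.Surjective (algebraMap Λ k))
    {F G H : ArtFun.Art Λ k ⥤ Type v} (φ : F ⟶ G) (ψ : G ⟶ H)
    (hF : ArtFun.H0 F) (hG : ArtFun.H0 G ∧ ArtFun.S1 G ∧ ArtFun.Heps G) (hH0 : ArtFun.H0 H)
    (hH : ∀ ⦃B A A' A'' : ArtFun.Art Λ k⦄ (p' : B ⟶ A') (p'' : B ⟶ A'') (f' : A' ⟶ A) (f'' : A'' ⟶ A)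
      (h : ArtFun.Art.IsFibreProd p' p'' f' f''), Function.Surjective f'' → Function.Bijective (ArtFun.cmp H h))
    (hψ : Function.Injective (ArtFun.TangentSpace.map ψ)) :
    ArtFun.IsSmooth (φ ≫ ψ) ↔ (ArtFun.IsSmooth φ ∧ ArtFun.IsSmooth ψ) := by
  haveI : Module.Finite Λ k := Module.Finite.of_surjective (Algebra.linearMap Λ k) hk
  obtain ⟨hG0, hG1, hG2⟩ := hG
  haveI := hG0.2
  haveI := hH0.2
  haveI := hF.2
  have key : ∀ ⦃B A : ArtFun.Art Λ k⦄ (μ : B ⟶ A), ArtFun.Art.IsSmallExt μ → ∀ y₁ y₂ : G.obj B,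
      G.map μ y₁ = G.map μ y₂ → ψ.app B y₁ = ψ.app B y₂ → y₁ = y₂ := by
    intro B A μ hμ y₁ y₂ hμy hψy
    obtain ⟨d⟩ := Groth.Agent.Lib.Helper1.ArtFunAction.nonempty_smallData hμ
    obtain ⟨Y, hY⟩ := hG1 (Groth.Agent.Lib.Helper1.ArtFunTangent.tFst B) d.act μ μ d.sq hμ.1
      ⟨(y₁, y₂), hμy⟩
    have hY1 : G.map (Groth.Agent.Lib.Helper1.ArtFunTangent.tFst B) Y = y₁ :=
      congrArg (fun t => t.1.1) hY
    have hY2 : G.map d.act Y = y₂ := congrArg (fun t => t.1.2) hY
    have hHb := hH (Groth.Agent.Lib.Helper1.ArtFunTangent.tFst B) d.act μ μ d.sq hμ.1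
    have e1 : ψ.app _ Y = H.map (Groth.Agent.Lib.Helper1.ArtFunTangent.tSec B) (ψ.app B y₁) := by
      apply hHb.1
      apply Subtype.ext
      apply Prod.ext
      · change H.map (Groth.Agent.Lib.Helper1.ArtFunTangent.tFst B) (ψ.app _ Y) =
          H.map (Groth.Agent.Lib.Helper1.ArtFunTangent.tFst B)
            (H.map (Groth.Agent.Lib.Helper1.ArtFunTangent.tSec B) (ψ.app B y₁))
        rw [← Groth.Agent.Lib.Helper1.ArtFunFib.map_comp_apply,
          Groth.Agent.Lib.Helper1.ArtFunTangent.tSec_tFst,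
          Groth.Agent.Lib.Helper1.ArtFunFib.map_id_apply,
          ← Groth.Agent.Lib.Helper1.ArtFunCond.naturality_apply, hY1]
      · change H.map d.act (ψ.app _ Y) =
          H.map d.act (H.map (Groth.Agent.Lib.Helper1.ArtFunTangent.tSec B) (ψ.app B y₁))
        rw [← Groth.Agent.Lib.Helper1.ArtFunFib.map_comp_apply, d.sec_act,
          Groth.Agent.Lib.Helper1.ArtFunFib.map_id_apply,
          ← Groth.Agent.Lib.Helper1.ArtFunCond.naturality_apply, hY2, hψy]
    -- the tangent component vanishes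
    have e2 : G.map (Groth.Agent.Lib.Helper1.ArtFunTangent.tSnd B) Y =
        G.map (Groth.Agent.Lib.Helper1.ArtFunTangent.tSnd B)
          (G.map (Groth.Agent.Lib.Helper1.ArtFunTangent.tSec B) y₁) := by
      apply hψ
      change ψ.app _ (G.map (Groth.Agent.Lib.Helper1.ArtFunTangent.tSnd B) Y) =
        ψ.app _ (G.map (Groth.Agent.Lib.Helper1.ArtFunTangent.tSnd B)
          (G.map (Groth.Agent.Lib.Helper1.ArtFunTangent.tSec B) y₁))
      rw [Groth.Agent.Lib.Helper1.ArtFunCond.naturality_apply, e1,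
        Groth.Agent.Lib.Helper1.ArtFunCond.naturality_apply,
        Groth.Agent.Lib.Helper1.ArtFunCond.naturality_apply]
    have hGb := hG2 (Groth.Agent.Lib.Helper1.ArtFunTangent.tFst B)
      (Groth.Agent.Lib.Helper1.ArtFunTangent.tSnd B)
      (Groth.Agent.Lib.Helper1.ArtFunTangent.tObj_isFibreProd B)
    have e3 : Y = G.map (Groth.Agent.Lib.Helper1.ArtFunTangent.tSec B) y₁ := by
      apply hGb.1
      apply Subtype.ext
      apply Prod.ext
      · change G.map (Groth.Agent.Lib.Helper1.ArtFunTangent.tFst B) Y =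
          G.map (Groth.Agent.Lib.Helper1.ArtFunTangent.tFst B)
            (G.map (Groth.Agent.Lib.Helper1.ArtFunTangent.tSec B) y₁)
        rw [← Groth.Agent.Lib.Helper1.ArtFunFib.map_comp_apply,
          Groth.Agent.Lib.Helper1.ArtFunTangent.tSec_tFst,
          Groth.Agent.Lib.Helper1.ArtFunFib.map_id_apply, hY1]
      · exact e2
    rw [← hY2, e3, ← Groth.Agent.Lib.Helper1.ArtFunFib.map_comp_apply, d.sec_act,
      Groth.Agent.Lib.Helper1.ArtFunFib.map_id_apply]
  constructor
  · intro hs
    have hφ : ArtFun.IsSmooth φ := by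
      apply Groth.Agent.S12717.result
      intro B A μ hμ
      rintro ⟨⟨w, y⟩, hwy⟩
      have hwy' : φ.app A w = G.map μ y := hwy
      obtain ⟨w', hw'⟩ := hs μ hμ.1 ⟨(w, ψ.app B y), by
        change ψ.app A (φ.app A w) = H.map μ (ψ.app B y)
        rw [hwy', Groth.Agent.Lib.Helper1.ArtFunCond.naturality_apply]⟩
      have hw1 : F.map μ w' = w := congrArg (fun t => t.1.1) hw'
      have hw2 : ψ.app B (φ.app B w') = ψ.app B y := congrArg (fun t => t.1.2) hw'
      refine ⟨w', ?_⟩
      apply Subtype.ext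
      apply Prod.ext
      · exact hw1
      · change φ.app B w' = y
        apply key μ hμ _ _ _ hw2
        rw [← Groth.Agent.Lib.Helper1.ArtFunCond.naturality_apply, hw1, hwy']
    refine ⟨hφ, ?_⟩
    -- φ is surjective on every object
    have hφs : ∀ A : ArtFun.Art Λ k, Function.Surjective (φ.app A) := by
      intro A x
      obtain ⟨w₀⟩ := hF.1
      obtain ⟨w, hw⟩ := hφ (ArtFun.Art.toBase A) A.res_surjective ⟨(w₀, x), Subsingleton.elim _ _⟩
      exact ⟨w, congrArg (fun t => t.1.2) hw⟩
    intro B A μ hμ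
    rintro ⟨⟨x, z⟩, hxz⟩
    have hxz' : ψ.app A x = H.map μ z := hxz
    obtain ⟨w, rfl⟩ := hφs A x
    obtain ⟨w', hw'⟩ := hs μ hμ ⟨(w, z), hxz'⟩
    have hw1 : F.map μ w' = w := congrArg (fun t => t.1.1) hw'
    have hw2 : ψ.app B (φ.app B w') = z := congrArg (fun t => t.1.2) hw'
    refine ⟨φ.app B w', ?_⟩
    apply Subtype.ext
    apply Prod.ext
    · change G.map μ (φ.app B w') = φ.app A w
      rw [← Groth.Agent.Lib.Helper1.ArtFunCond.naturality_apply, hw1]
    · exact hw2
  · rintro ⟨h1, h2⟩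
    intro B A μ hμ
    rintro ⟨⟨w, z⟩, hwz⟩
    have hwz' : ψ.app A (φ.app A w) = H.map μ z := hwz
    obtain ⟨y, hy⟩ := h2 μ hμ ⟨(φ.app A w, z), hwz'⟩
    have hy1 : G.map μ y = φ.app A w := congrArg (fun t => t.1.1) hy
    have hy2 : ψ.app B y = z := congrArg (fun t => t.1.2) hy
    obtain ⟨w', hw'⟩ := h1 μ hμ ⟨(w, y), hy1.symm⟩
    have hw1 : F.map μ w' = w := congrArg (fun t => t.1.1) hw'
    have hw2 : φ.app B w' = y := congrArg (fun t => t.1.2) hw'
    refine ⟨w', ?_⟩
    apply Subtype.ext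
    apply Prod.ext
    · exact hw1
    · change ψ.app B (φ.app B w') = z
      rw [hw2, hy2]

end Groth.Agent.S12316
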