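import Groth.Statements.S12320
import Groth.Agent.Lib.Helper1.ArtFunAction
import Groth.Agent.Lib.Helper1.ArtFunMinimal

set_option autoImplicit false
universe u v
open CategoryTheory
open SGA7

namespace Groth.Agent.S12320

theorem isSmallExt_toBase_dual (Λ k : Type u) [CommRing Λ] [Field k] [Algebra Λ k] :
    ArtFun.Art.IsSmallExt (ArtFun.Art.toBase (ArtFun.Art.dual Λ k)) := by
  have hker : RingHom.ker (ArtFun.Art.toBase (ArtFun.Art.dual Λ k)).toAlgHom =
      IsLocalRing.maximalIdeal (ArtFun.Art.dual Λ k) := by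
    ext x
    rw [ArtFun.Art.mem_maximalIdeal_iff, RingHom.mem_ker]
    rfl
  let ε : ArtFun.Art.dual Λ k := (TrivSqZeroExt.inr (1 : k) : TrivSqZeroExt k k)
  have hε : ε ∈ IsLocalRing.maximalIdeal (ArtFun.Art.dual Λ k) := by
    rw [ArtFun.Art.mem_maximalIdeal_iff]
    change TrivSqZeroExt.fst (TrivSqZeroExt.inr (1 : k) : TrivSqZeroExt k k) = 0
    rw [TrivSqZeroExt.fst_inr]
  have hε0 : ε ≠ 0 := by
    intro h
    have := congrArg (fun x : TrivSqZeroExt k k => TrivSqZeroExt.snd x) h
    change (1 : k) = 0 at this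
    exact one_ne_zero this
  have hspan : IsLocalRing.maximalIdeal (ArtFun.Art.dual Λ k) = Ideal.span {ε} := by
    apply le_antisymm
    · intro x hx
      rw [ArtFun.Art.mem_maximalIdeal_iff] at hx
      have hx' : TrivSqZeroExt.fst (x : TrivSqZeroExt k k) = 0 := hx
      rw [Ideal.mem_span_singleton']
      refine ⟨(TrivSqZeroExt.inl (TrivSqZeroExt.snd (x : TrivSqZeroExt k k)) : TrivSqZeroExt k k), ?_⟩
      refine TrivSqZeroExt.ext ?_ ?_
      · refine (TrivSqZeroExt.fst_mul _ _).trans ?_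
        rw [TrivSqZeroExt.fst_inr, mul_zero, hx']
      · refine (TrivSqZeroExt.snd_mul _ _).trans ?_
        change TrivSqZeroExt.snd (x : TrivSqZeroExt k k) • (1 : k) + MulOpposite.op (0 : k) • (0 : k) = _
        simp
    · rw [Ideal.span_le]
      intro z hz
      rw [Set.mem_singleton_iff] at hz
      rw [hz]; exact hε
  refine ⟨(ArtFun.Art.dual Λ k).res_surjective, ?_, ?_, ?_⟩
  · rw [hker]
    intro h
    rw [h, Ideal.mem_bot] at hε
    exact hε0 hε
  · rw [hker, hspan]
    exact ⟨⟨ε, rfl⟩⟩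
  · rw [hker]
    have := Groth.Agent.Lib.Helper1.ArtFunMinimal.dual_maximalIdeal_sq (Λ := Λ) (k := k)
    rw [pow_succ, pow_one] at this
    exact this

/-- Suppose Λ is a Noetherian local ring, complete for its maximal ideal, whose residue field is k (so
that Λ → k is onto), and work with functors defined on the category of local Artinian Λ-algebras
having residue field k. Take such a functor F for which F(k) is a singleton, for which the
comparison map F(A₁ ×_A A₂) → F(A₁) ×_{F(A)} F(A₂) is surjective as soon as A₂ → A is surjective,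
and for which this map is bijective in the case A' ×_k k[ε]. Call an element a ∈ F(R) versal for
small prolongations of the base point when, given any object R₀ whose augmentation R₀ → k is a small
extension and any b ∈ F(R₀), some morphism R → R₀ sends a to b. Assume a ∈ F(R) has this versality
property, that π₁ : R₁ → R is a small extension together with a₁ ∈ F(R₁) whose image is a, and that
g : R' → R is a morphism together with a' ∈ F(R') whose image is a. Then a morphism f : R' → R₁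
satisfying f ≫ π₁ = g and sending a' to a₁ exists exactly when some morphism f : R' → R₁ satisfying
f ≫ π₁ = g exists at all. (The published statement concerns semi-homogeneous cofibred groupoids;
this row treats only the set-valued functor case.) -/
theorem result (Λ k : Type u) [CommRing Λ] [IsLocalRing Λ] [IsNoetherianRing Λ]
    [IsAdicComplete (IsLocalRing.maximalIdeal Λ) Λ] [Field k] [Algebra Λ k]
    (hk : Function.Surjective (algebraMap Λ k))
    (F : ArtFun.Art Λ k ⥤ Type v) (hF : ArtFun.H0 F ∧ ArtFun.S1 F ∧ ArtFun.Heps F)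
    {R R₁ R' : ArtFun.Art Λ k} (π₁ : R₁ ⟶ R) (hπ : ArtFun.Art.IsSmallExt π₁) (g : R' ⟶ R)
    (a : F.obj R) (a₁ : F.obj R₁) (a' : F.obj R') (h₁ : F.map π₁ a₁ = a) (h' : F.map g a' = a)
    (hvers : ∀ (R₀ : ArtFun.Art Λ k), ArtFun.Art.IsSmallExt (ArtFun.Art.toBase R₀) →
      ∀ b : F.obj R₀, ∃ φ : R ⟶ R₀, F.map φ a = b) :
    (∃ f : R' ⟶ R₁, f ≫ π₁ = g ∧ F.map f a' = a₁) ↔ (∃ f : R' ⟶ R₁, f ≫ π₁ = g) := by
  haveI : Module.Finite Λ k := Module.Finite.of_surjective (Algebra.linearMap Λ k) hk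
  obtain ⟨hF0, hF1, hF2⟩ := hF
  constructor
  · rintro ⟨f, hf, -⟩
    exact ⟨f, hf⟩
  · rintro ⟨f₀, hf₀⟩
    obtain ⟨d⟩ := Groth.Agent.Lib.Helper1.ArtFunAction.nonempty_smallData hπ
    have hlie : F.map π₁ (F.map f₀ a') = F.map π₁ a₁ := by
      rw [← Groth.Agent.Lib.Helper1.ArtFunFib.map_comp_apply, hf₀, h', h₁]
    obtain ⟨Y, hY⟩ := hF1 (Groth.Agent.Lib.Helper1.ArtFunTangent.tFst R₁) d.act π₁ π₁ d.sq hπ.1
      ⟨(F.map f₀ a', a₁), hlie⟩
    have hY1 : F.map (Groth.Agent.Lib.Helper1.ArtFunTangent.tFst R₁) Y = F.map f₀ a' :=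
      congrArg (fun t => t.1.1) hY
    have hY2 : F.map d.act Y = a₁ := congrArg (fun t => t.1.2) hY
    obtain ⟨φ, hφ⟩ := hvers (ArtFun.Art.dual Λ k) (isSmallExt_toBase_dual Λ k)
      (F.map (Groth.Agent.Lib.Helper1.ArtFunTangent.tSnd R₁) Y)
    obtain ⟨l, hl1, hl2⟩ := Groth.Agent.Lib.Helper1.ArtFunTangent.exists_lift
      (Groth.Agent.Lib.Helper1.ArtFunTangent.tObj_isFibreProd R₁) f₀ (g ≫ φ)
      (by rw [ArtFun.Art.eq_toBase (f₀ ≫ _), ArtFun.Art.eq_toBase ((g ≫ φ) ≫ _)])
    have hHb := hF2 (Groth.Agent.Lib.Helper1.ArtFunTangent.tFst R₁)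
      (Groth.Agent.Lib.Helper1.ArtFunTangent.tSnd R₁)
      (Groth.Agent.Lib.Helper1.ArtFunTangent.tObj_isFibreProd R₁)
    have hlY : F.map l a' = Y := by
      apply hHb.1
      apply Subtype.ext
      apply Prod.ext
      · change F.map (Groth.Agent.Lib.Helper1.ArtFunTangent.tFst R₁) (F.map l a') =
          F.map (Groth.Agent.Lib.Helper1.ArtFunTangent.tFst R₁) Y
        rw [← Groth.Agent.Lib.Helper1.ArtFunFib.map_comp_apply, hl1, hY1]
      · change F.map (Groth.Agent.Lib.Helper1.ArtFunTangent.tSnd R₁) (F.map l a') =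
          F.map (Groth.Agent.Lib.Helper1.ArtFunTangent.tSnd R₁) Y
        rw [← Groth.Agent.Lib.Helper1.ArtFunFib.map_comp_apply, hl2,
          Groth.Agent.Lib.Helper1.ArtFunFib.map_comp_apply, h', hφ]
    refine ⟨l ≫ d.act, ?_, ?_⟩
    · rw [Category.assoc, d.act_comp, ← Category.assoc, hl1, hf₀]
    · rw [Groth.Agent.Lib.Helper1.ArtFunFib.map_comp_apply, hlY, hY2]

end Groth.Agent.S12320
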