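import Groth.Statements.S12321
import Groth.Agent.Lib.Helper1.HullStep2
import Groth.Agent.Lib.Helper1.ArtFunPresent
import Groth.Agent.Lib.Helper1.ArtFunHull
import Groth.Agent.S12712
import Groth.Agent.S12320

set_option autoImplicit false
universe u v
open CategoryTheory
open SGA7

namespace Groth.Agent.S12321

open ArtFun ArtFun.Art Groth.Agent.Lib.Helper1.ArtFunBasic Groth.Agent.Lib.Helper1.ArtFunHullStep
  Groth.Agent.Lib.Helper1.PSRing in

/-- Suppose Λ is a Noetherian local ring that is complete, and k is its residue field, so the map Λ → k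
is surjective. We look at functors on the category of local Artinian Λ-algebras whose residue field
is k. Take such a functor F for which F(k) is a single point, the comparison map F(A₁ ×_A A₂) →
F(A₁) ×_{F(A)} F(A₂) is surjective whenever A₂ → A is surjective, and this map is bijective for A'
×_k k[ε]. Call an element a ∈ F(R) versal for small prolongations of the base point when, for each
object R₀ whose augmentation R₀ → k is a small extension and each b ∈ F(R₀), some morphism R → R₀
sends a to b. Assume a ∈ F(R) has this property. Then one can find an object R', a morphism q : R' →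
R and an element a' ∈ F(R') whose image is a, satisfying the following. First, q is surjective and
the maximal ideal annihilates its kernel. Second, q induces an isomorphism m_{R'}/(m_{R'}² + m_Λ R')
→ m_R/(m_R² + m_Λ R) between relative cotangent spaces (only injectivity is stated; surjectivity
comes for free). Third, a' is versal for small prolongations of a: given any small extension π₁ : R₁
→ R and any a₁ ∈ F(R₁) with image a, there is f : R' → R₁ satisfying f ≫ π₁ = q and sending a' to
a₁. (The published statement concerns semi-homogeneous cofibred groupoids; this row treats the case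
of set-valued functors.) -/
theorem result (Λ k : Type u) [CommRing Λ] [IsLocalRing Λ] [IsNoetherianRing Λ]
    [IsAdicComplete (IsLocalRing.maximalIdeal Λ) Λ] [Field k] [Algebra Λ k]
    (hk : Function.Surjective (algebraMap Λ k))
    (F : ArtFun.Art Λ k ⥤ Type v) (hF : ArtFun.H0 F ∧ ArtFun.S1 F ∧ ArtFun.Heps F)
    (R : ArtFun.Art Λ k) (a : F.obj R)
    (hvers : ∀ (R₀ : ArtFun.Art Λ k), ArtFun.Art.IsSmallExt (ArtFun.Art.toBase R₀) →
      ∀ b : F.obj R₀, ∃ φ : R ⟶ R₀, F.map φ a = b) :
    ∃ (R' : ArtFun.Art Λ k) (q : R' ⟶ R) (a' : F.obj R'), F.map q a' = a ∧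
      ArtFun.Art.IsSemismallExt q ∧
      (∀ x' : R', x' ∈ IsLocalRing.maximalIdeal (R' : Type u) →
        q x' ∈ (IsLocalRing.maximalIdeal (R : Type u)) ^ 2 ⊔ (IsLocalRing.maximalIdeal Λ).map (algebraMap Λ R) →
        x' ∈ (IsLocalRing.maximalIdeal (R' : Type u)) ^ 2 ⊔ (IsLocalRing.maximalIdeal Λ).map (algebraMap Λ R')) ∧
      ∀ (R₁ : ArtFun.Art Λ k) (π₁ : R₁ ⟶ R), ArtFun.Art.IsSmallExt π₁ →
        ∀ a₁ : F.obj R₁, F.map π₁ a₁ = a → ∃ f : R' ⟶ R₁, f ≫ π₁ = q ∧ F.map f a' = a₁ := by
  haveI : Module.Finite Λ k := Module.Finite.of_surjective (Algebra.linearMap Λ k) hk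
  have hF' := hF
  obtain ⟨hF0, hF1, hF2⟩ := hF
  -- R as a coefficient ring
  obtain ⟨N, hN⟩ := exists_pow_maximalIdeal_eq_bot R
  let Rc : CRing Λ k :=
    { carrier := R.carrier
      isNoetherianRing := inferInstance
      res := R.res
      res_surjective := R.res_surjective
      isAdicComplete := Groth.Agent.S12712.isAdicComplete_of_pow_eq_bot _ N hN }
  obtain ⟨d, π, hπres, hπs, -, hπker⟩ :=
    Groth.Agent.Lib.Helper1.ArtFunPresent.exists_presentation' hk Rc
  let S : CRing Λ k := psRing hk d
  have hfree := psRing_isFreeOn hk d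
  let w : HomSet S.carrier S.res R := ⟨π, hπres⟩
  have hw : Function.Surjective w.1 := hπs
  obtain ⟨R', w', a', q, hw', hqw, hqa, hsemi, hmin⟩ :=
    Groth.Agent.Lib.Helper1.HullStep2.exists_step' S hF1 w hw a
  have hqw' : ∀ s, q (w'.1 s) = w.1 s :=
    fun s => congrArg (fun g : HomSet S.carrier S.res R => g.1 s) hqw
  have hqs : Function.Surjective q := by
    intro x
    obtain ⟨s, rfl⟩ := hw x
    exact ⟨w'.1 s, hqw' s⟩
  have hmemS : ∀ s : S.carrier, w'.1 s ∈ IsLocalRing.maximalIdeal R' →
      s ∈ IsLocalRing.maximalIdeal S.carrier := by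
    intro s hs
    rw [S.mem_maximalIdeal_iff, ← res_homSet w' s, ← Art.mem_maximalIdeal_iff]
    exact hs
  refine ⟨R', q, a', hqa, ⟨hqs, ?_⟩, ?_, ?_⟩
  · rw [eq_bot_iff, Ideal.mul_le]
    intro b hb c hc
    obtain ⟨s, rfl⟩ := hw' b
    obtain ⟨t, rfl⟩ := hw' c
    have hs := hmemS s hb
    have ht : t ∈ RingHom.ker w.1 := by
      rw [RingHom.mem_ker, ← hqw']
      exact hc
    rw [Ideal.mem_bot, ← map_mul, ← RingHom.mem_ker]
    exact hsemi (Ideal.mul_mem_mul hs ht)
  · intro x' hx' hqx'
    obtain ⟨s, rfl⟩ := hw' x'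
    have hs := hmemS s hx'
    set T : Ideal S.carrier := IsLocalRing.maximalIdeal S.carrier ^ 2 ⊔
      Ideal.map MvPowerSeries.C (IsLocalRing.maximalIdeal Λ) with hT
    -- images of T
    have hvC : ∀ (A : Art Λ k) (v : HomSet S.carrier S.res A) (l : Λ),
        v.1 (MvPowerSeries.C l) = algebraMap Λ A l := by
      intro A v l
      rw [MvPowerSeries.c_eq_algebraMap]
      exact v.1.commutes l
    have hC : ∀ (A : Art Λ k) (v : HomSet S.carrier S.res A),
        Ideal.map v.1 (Ideal.map MvPowerSeries.C (IsLocalRing.maximalIdeal Λ)) =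
          Ideal.map (algebraMap Λ A) (IsLocalRing.maximalIdeal Λ) := by
      intro A v
      apply le_antisymm
      · refine Ideal.map_le_iff_le_comap.2 (Ideal.map_le_iff_le_comap.2 (fun l hl => ?_))
        have h1 : algebraMap Λ A l ∈ Ideal.map (algebraMap Λ A) (IsLocalRing.maximalIdeal Λ) :=
          Ideal.mem_map_of_mem _ hl
        rw [← hvC A v l] at h1
        exact h1
      · refine Ideal.map_le_iff_le_comap.2 (fun l hl => ?_)
        have h1 : v.1 (MvPowerSeries.C l) ∈
            Ideal.map v.1 (Ideal.map MvPowerSeries.C (IsLocalRing.maximalIdeal Λ)) :=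
          Ideal.mem_map_of_mem _ (Ideal.mem_map_of_mem _ hl)
        rw [hvC A v l] at h1
        exact h1
    have hmapT : ∀ (A : Art Λ k) (v : HomSet S.carrier S.res A), ∀ s ∈ T,
        v.1 s ∈ (IsLocalRing.maximalIdeal (A : Type u)) ^ 2 ⊔
          (IsLocalRing.maximalIdeal Λ).map (algebraMap Λ A) := by
      intro A v s hs
      have : Ideal.map v.1 T ≤ (IsLocalRing.maximalIdeal (A : Type u)) ^ 2 ⊔
          (IsLocalRing.maximalIdeal Λ).map (algebraMap Λ A) := by
        rw [hT, Ideal.map_sup, Ideal.map_pow]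
        refine sup_le_sup (Ideal.pow_right_mono ?_ 2) (hC A v).le
        rw [Ideal.map_le_iff_le_comap]
        intro t ht
        exact Groth.Agent.Lib.Helper1.ArtFunCRing.homSet_mem_maximalIdeal S v ht
      exact this (Ideal.mem_map_of_mem _ hs)
    have hsT : s ∈ T := by
      have hTR : Ideal.map w.1 T = (IsLocalRing.maximalIdeal (R : Type u)) ^ 2 ⊔
          (IsLocalRing.maximalIdeal Λ).map (algebraMap Λ R) := by
        have hmapn : Ideal.map w.1 (IsLocalRing.maximalIdeal S.carrier) =
            IsLocalRing.maximalIdeal (R : Type u) := by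
          apply le_antisymm
          · rw [Ideal.map_le_iff_le_comap]
            intro t ht
            exact Groth.Agent.Lib.Helper1.ArtFunCRing.homSet_mem_maximalIdeal S w ht
          · intro x hx
            obtain ⟨t, rfl⟩ := hw x
            have ht : t ∈ IsLocalRing.maximalIdeal S.carrier := by
              rw [S.mem_maximalIdeal_iff, ← res_homSet w t, ← Art.mem_maximalIdeal_iff]
              exact hx
            exact Ideal.mem_map_of_mem _ ht
        rw [hT, Ideal.map_sup, Ideal.map_pow, hmapn]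
        exact congrArg (fun J => IsLocalRing.maximalIdeal (R : Type u) ^ 2 ⊔ J) (hC R w)
      have h1 : w.1 s ∈ Ideal.map w.1 T := by
        rw [hTR, ← hqw']
        exact hqx'
      obtain ⟨s₁, hs₁T, hs₁⟩ := (Ideal.mem_map_iff_of_surjective w.1 hw).1 h1
      have h2 : s - s₁ ∈ T := hπker (by
        rw [RingHom.mem_ker]
        exact (map_sub w.1 s s₁).trans (sub_eq_zero.2 hs₁.symm))
      have := T.add_mem h2 hs₁T
      rwa [sub_add_cancel] at this
    exact hmapT R' w' s hsT
  · intro R₁ π₁ hπ₁ a₁ ha₁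
    apply (Groth.Agent.S12320.result Λ k hk F hF' π₁ hπ₁ q a a₁ a' ha₁ hqa hvers).2
    obtain ⟨v, hv⟩ := Groth.Agent.Lib.Helper1.ArtFunHull.exists_lift_of_isFreeOn hfree π₁ hπ₁.1 w
    rcases surjective_or_ker_le π₁ hπ₁ w hw v hv with hvs | hker
    · have hle := hmin R₁ π₁ v a₁ hπ₁.2.2.2 hvs hv ha₁
      obtain ⟨τ, hτ⟩ := exists_factor w' hw' v hle
      refine ⟨τ, ?_⟩
      apply hom_ext_of_surjective w' hw'
      rw [Groth.Agent.Lib.Helper1.ArtFunVersalCrit.homSet_map_comp, hτ, hv, hqw]
    · obtain ⟨τ₀, hτ₀⟩ := exists_factor w hw v hker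
      have hid : τ₀ ≫ π₁ = 𝟙 R := by
        apply hom_ext_of_surjective w hw
        rw [Groth.Agent.Lib.Helper1.ArtFunVersalCrit.homSet_map_comp, hτ₀, hv,
          Groth.Agent.Lib.Helper1.ArtFunVersalCrit.homSet_map_id]
      exact ⟨q ≫ τ₀, by rw [Category.assoc, hid, Category.comp_id]⟩

end Groth.Agent.S12321
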