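import Groth.Statements.S12419
import Groth.Agent.Lib.Helper2.ArtinDescent

set_option autoImplicit false
universe u
open TensorProduct
open CAlg

namespace Groth.Agent.S12419

/-- Let A → B be a local homomorphism of Noetherian local rings, m the maximal ideal of A, and φ : A →
A' a ring homomorphism to a semi-local Noetherian ring A' with Jacobson radical r', such that
φ⁻¹(r') = m and such that every power m^n contains φ⁻¹(r'^N) for some N. Then B is flat over A if
and only if A' ⊗_A B is flat over A'. (Given φ⁻¹(r') = m, the condition on powers says that the
m-adic topology of A is induced by the r'-adic topology of A', equivalently that the induced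
homomorphism of adic completions is injective, which is how the published statement phrases this
hypothesis.) -/
theorem result (A B A' : Type u) [CommRing A] [CommRing B]
    [CommRing A'] [IsNoetherianRing A] [IsLocalRing A] [IsNoetherianRing B] [IsLocalRing B]
    [Algebra A B] [IsLocalHom (algebraMap A B)] [IsNoetherianRing A'] [Finite (MaximalSpectrum A')]
    [Algebra A A']
    (hrad : (Ideal.jacobson (⊥ : Ideal A')).comap (algebraMap A A') = IsLocalRing.maximalIdeal A)
    (htop : ∀ n : ℕ, ∃ N : ℕ,
      ((Ideal.jacobson (⊥ : Ideal A')) ^ N).comap (algebraMap A A') ≤ (IsLocalRing.maximalIdeal A) ^ n) :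
    Module.Flat A B ↔ Module.Flat A' (A' ⊗[A] B) := by
  constructor
  · intro h
    infer_instance
  · intro h
    refine Lib.Helper2.ArtinDescent.flat_of_flat_baseChange
      (fun N : ℕ => (Ideal.jacobson (⊥ : Ideal A')) ^ N) ?_ ?_
    · intro N
      refine ⟨N, ?_⟩
      have h1 : IsLocalRing.maximalIdeal A ≤
          (Ideal.jacobson (⊥ : Ideal A')).comap (algebraMap A A') := hrad.ge
      exact (Ideal.pow_right_mono h1 N).trans (Ideal.le_comap_pow _ N)
    · intro n
      obtain ⟨N, hN⟩ := htop n
      exact ⟨N, hN⟩

end Groth.Agent.S12419
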