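import Groth.Statements.S12424
import Groth.Agent.Lib.Helper1.CubicKPlane

set_option autoImplicit false
universe u
open Cubic

namespace Groth.Agent.S12424

open Groth.Agent.Lib.Helper1.CubicK Module Submodule MvPolynomial

theorem smooth_of_poly {k : Type u} [Field k] [CharZero k]
    (f : MvPolynomial (Fin 4) k) (hf : f.IsHomogeneous 3)
    (hsm : ∀ v : Fin 4 → k, v ≠ 0 → MvPolynomial.eval v f = 0 →
      ∃ i : Fin 4, MvPolynomial.eval v (MvPolynomial.pderiv i f) ≠ 0) :
    (symTriOf f hf).Smooth := by
  intro v hv hFv
  have hFv' : MvPolynomial.eval v f = 0 := by rw [← symTriOf_diag f hf v]; exact hFv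
  obtain ⟨i, hi⟩ := hsm v hv hFv'
  refine ⟨Pi.single i 1, ?_⟩
  intro h0
  apply hi
  have := symTriOf_pderiv f hf (Pi.single i 1) v
  rw [(symTriOf f hf).s13, (symTriOf f hf).s12] at this
  rw [h0, mul_zero] at this
  rw [← this]
  simp [Pi.single_apply]

theorem eval_aeval_matrix43 {k : Type u} [Field k] (A : Matrix (Fin 4) (Fin 3) k)
    (f : MvPolynomial (Fin 4) k) (y : Fin 3 → k) :
    eval y (aeval (fun i : Fin 4 => ∑ j : Fin 3, C (A i j) * X j) f) = eval (A.mulVec y) f := by
  induction f using MvPolynomial.induction_on with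
  | C a => simp
  | add p q hp hq => rw [map_add, map_add, hp, hq, map_add]
  | mul_X p i hp =>
    simp only [map_mul, hp, aeval_X, eval_X, map_sum, eval_C]
    rfl

/-- Let k be an algebraically closed field of characteristic zero and S = V_+(f) ⊂ P^3_k a smooth cubic
surface, f a nonzero homogeneous cubic in four variables with the Jacobian condition at every
nonzero zero. For every hyperplane H of P^3_k the scheme-theoretic intersection S ∩ H is reduced;
concretely, for every 4 × 3 matrix A of rank 3 over k (a linear parametrisation of H), the ternary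
cubic obtained from f by substituting X_i ↦ Σ_j A_{ij} Y_j is squarefree. -/
theorem result (k : Type u) [Field k] [IsAlgClosed k] [CharZero k]
    (f : MvPolynomial (Fin 4) k) (hf : f.IsHomogeneous 3) (hf0 : f ≠ 0)
    (hsm : ∀ v : Fin 4 → k, v ≠ 0 → MvPolynomial.eval v f = 0 →
      ∃ i : Fin 4, MvPolynomial.eval v (MvPolynomial.pderiv i f) ≠ 0)
    (A : Matrix (Fin 4) (Fin 3) k) (hA : A.rank = 3) :
    Squarefree (MvPolynomial.aeval (fun i : Fin 4 => ∑ j : Fin 3, MvPolynomial.C (A i j) * MvPolynomial.X j) f) := by
  set g := MvPolynomial.aeval (fun i : Fin 4 => ∑ j : Fin 3, MvPolynomial.C (A i j) * MvPolynomial.X j) f with hgdef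
  set S := symTriOf f hf with hS
  have hs : S.Smooth := smooth_of_poly f hf hsm
  have hFg : ∀ y : Fin 3 → k, S.F (A.mulVec y) = eval y g := by
    intro y
    rw [hgdef, eval_aeval_matrix43]
    exact symTriOf_diag f hf _
  have hghom : g.IsHomogeneous 3 := by
    have := hf.aeval (S := k) (n := 1) (fun i : Fin 4 => ∑ j : Fin 3, C (A i j) * X j) (by
      intro i
      apply IsHomogeneous.sum
      intro j _
      exact (isHomogeneous_X k j).C_mul _)
    rw [one_mul] at this
    exact this
  have hg0 : g ≠ 0 := by
    intro h0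
    apply S.no_double_line hs A hA (fun _ => 1) (fun h => by simpa using congrFun h 0) 0
    intro y
    rw [hFg, h0]
    simp
  intro p hp
  obtain ⟨r, hr⟩ := hp
  by_contra hnu
  have hp0 : p ≠ 0 := by
    rintro rfl
    apply hg0
    rw [hr]; ring
  have hr0 : r ≠ 0 := by
    rintro rfl
    apply hg0
    rw [hr]; ring
  have hdeg : p.totalDegree + p.totalDegree + r.totalDegree = 3 := by
    rw [← totalDegree_mul_of_isDomain hp0 hp0, ← totalDegree_mul_of_isDomain (mul_ne_zero hp0 hp0) hr0,
      ← hr]
    exact hghom.totalDegree hg0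
  have hpd0 : p.totalDegree ≠ 0 := by
    intro h0
    rw [totalDegree_eq_zero_iff_eq_C] at h0
    apply hnu
    rw [h0]
    apply IsUnit.map
    rw [isUnit_iff_ne_zero]
    intro hc
    apply hp0
    rw [h0, hc, map_zero]
  have hpd1 : p.totalDegree = 1 := by omega
  -- decompose p
  have hdec : p = C (coeff 0 p) + homogeneousComponent 1 p := by
    have := sum_homogeneousComponent (φ := p)
    rw [hpd1, Finset.sum_range_succ, Finset.sum_range_one, homogeneousComponent_zero] at this
    exact this.symm
  have hl : homogeneousComponent 1 p ∈ homogeneousSubmodule (Fin 3) k 1 :=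
    homogeneousComponent_isHomogeneous 1 p
  rw [homogeneousSubmodule_one_eq_span_X, Submodule.mem_span_range_iff_exists_fun] at hl
  obtain ⟨a, ha⟩ := hl
  have hevp : ∀ y : Fin 3 → k, eval y p = coeff 0 p + ∑ i, a i * y i := by
    intro y
    conv_lhs => rw [hdec, ← ha]
    simp [smul_eval]
  have ha0 : a ≠ 0 := by
    rintro rfl
    apply hpd0
    rw [totalDegree_eq_zero_iff_eq_C]
    rw [hdec, ← ha]
    simp
  have hevg : ∀ y : Fin 3 → k, eval y g = (coeff 0 p + ∑ i, a i * y i) ^ 2 * eval y r := by
    intro y
    rw [hr, map_mul, map_mul, hevp]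
    ring
  have hc0 : coeff 0 p = 0 := by
    by_contra hc
    -- g vanishes wherever the linear part does not
    have hvan : ∀ y : Fin 3 → k, eval y (g * ∑ i, C (a i) * X i) = 0 := by
      intro y
      rw [map_mul]
      by_cases hly : ∑ i, a i * y i = 0
      · have : eval y (∑ i, C (a i) * X i) = ∑ i, a i * y i := by simp
        rw [this, hly, mul_zero]
      · have ht : -(coeff 0 p) / (∑ i, a i * y i) ≠ 0 :=
          div_ne_zero (neg_ne_zero.mpr hc) hly
        have e1 : eval ((-(coeff 0 p) / (∑ i, a i * y i)) • y) g = 0 := by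
          rw [hevg]
          have : coeff 0 p + ∑ i, a i * ((-(coeff 0 p) / (∑ i, a i * y i)) • y) i = 0 := by
            have e : ∑ i, a i * ((-(coeff 0 p) / (∑ i, a i * y i)) • y) i =
                (-(coeff 0 p) / (∑ i, a i * y i)) * ∑ i, a i * y i := by
              rw [Finset.mul_sum]
              apply Finset.sum_congr rfl
              intro i _
              simp only [Pi.smul_apply, smul_eq_mul]
              ring
            rw [e, div_mul_cancel₀ _ hly]
            ring
          rw [this]
          ring
        have e2 : eval ((-(coeff 0 p) / (∑ i, a i * y i)) • y) g =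
            (-(coeff 0 p) / (∑ i, a i * y i)) ^ 3 * eval y g := by
          rw [← hFg, ← hFg, Matrix.mulVec_smul, S.F_smul]
        rw [e2] at e1
        have : eval y g = 0 := (mul_eq_zero.mp e1).resolve_left (pow_ne_zero 3 ht)
        rw [this, zero_mul]
    have hzero : g * ∑ i, C (a i) * X i = 0 := by
      apply MvPolynomial.funext
      intro y
      rw [hvan y, map_zero]
    have hl0 : ∑ i, C (a i) * X i = (0 : MvPolynomial (Fin 3) k) :=
      (mul_eq_zero.mp hzero).resolve_left hg0
    apply ha0
    funext i
    have := congrArg (eval (Pi.single i (1 : k))) hl0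
    simpa [Pi.single_apply] using this
  apply S.no_double_line hs A hA a ha0 r
  intro y
  rw [hFg, hevg, hc0, zero_add]

end Groth.Agent.S12424
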