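import Groth.Statements.S12434
import Groth.Agent.Lib.Helper23.GrothInj.Decomp
import Groth.Agent.Lib.Helper23.NoethObj.CoprodInj

set_option autoImplicit false
universe u
open CategoryTheory CategoryTheory.Limits AlgebraicGeometry
open Coherent

namespace Groth.Agent.S12434

/-- On a locally Noetherian scheme X every injective O_X-module (injective object of the category of all
O_X-modules) is isomorphic to a direct sum of indecomposable injective O_X-modules — a coproduct of
a family of injective modules J_i, each nonzero and such that in any decomposition J_i ≅ A ⊞ B one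
of A, B is zero. (The published statement also asserts uniqueness of the decomposition, not restated
here.) -/
theorem result {X : Scheme.{u}} [IsLocallyNoetherian X]
    (I : X.Modules) (hI : Injective I) :
    ∃ (ι : Type u) (J : ι → X.Modules), (∀ i, Injective (J i)) ∧ (∀ i, ¬ IsZero (J i)) ∧
      (∀ i (A B : X.Modules), Nonempty (J i ≅ A ⊞ B) → IsZero A ∨ IsZero B) ∧ Nonempty (I ≅ ∐ J) := by
  classical
  haveI := hI
  open Groth.Agent.Lib.Helper23.NoethObj Groth.Agent.Lib.Helper23.CIProj Groth.Agent.Lib.Helper26 in
  have hcov : BaerMod.Covers (J := Opens.grothendieckTopology X)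
      ({W | IsNoetherian W.toScheme} : Set X.Opens) := by
    intro U
    refine ⟨⟨fun W _ => W ∈ ({W | IsNoetherian W.toScheme} : Set X.Opens), ?_⟩, ?_, ?_⟩
    · intro Y Z f hY g
      exact isNoetherian_of_le (leOfHom g) hY
    · intro x hx
      obtain ⟨V, hV, hxV, hVU⟩ := TopologicalSpace.Opens.isBasis_iff_nbhd.1 X.isBasis_affineOpens hx
      exact ⟨V, homOfLE hVU, isNoetherian_of_isAffineOpen hV, hxV⟩
    · intro W a ha
      exact ha
  open Groth.Agent.Lib.Helper23.NoethObj Groth.Agent.Lib.Helper23.CIProj Groth.Agent.Lib.Helper26 in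
  have hgen : ∀ {A B : X.Modules} (g : A ⟶ B),
      (∀ (G : X.Modules), IsNoetherianObject G → ∀ f : G ⟶ A, f ≫ g = 0) → g = 0 := by
    intro A B g h
    refine BaerMod.eq_zero_of_forall (O := X.sheaf) hcov g ?_
    intro V hV f
    let V' : X.Opens := V
    haveI : IsNoetherian V'.toScheme := hV
    exact h (freeU V') (isNoetherianObject_freeU V') f
  have hinj : ∀ (J : Type u) (F : J → X.Modules), (∀ j, Injective (F j)) → Injective (∐ F) := by
    intro J F hF
    exact Groth.Agent.Lib.Helper23.NoethObj.injective_coproduct F hF
      (c := Cofan.mk (∐ F) (Sigma.ι F)) (coproductIsCoproduct F)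
  exact Groth.Agent.Lib.Helper23.GrothInj.exists_decomposition.{u} hgen hinj I


end Groth.Agent.S12434
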