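import Groth.Statements.S12452
import Groth.Agent.Lib.Helper9.ShB6

set_option autoImplicit false
universe u
open CategoryTheory TopologicalSpace Opposite
open ShSp

namespace Groth.Agent.S12452

theorem map_refl {X : TopCat.{u}} (F : TopCat.Presheaf (Type u) X) {U : Opens X}
    (h : U ≤ U) (s : F.obj (op U)) : F.map (homOfLE h).op s = s := by
  have : (homOfLE h).op = 𝟙 (op U) := rfl
  rw [this]
  simp

/-- For sheaves of sets, let f : X → Y be a continuous map, F a sheaf of sets on X, G a sheaf of sets on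
Y, and B_X, B_Y bases for the topologies of X and Y. Suppose given, for every V in B_Y and U in B_X
with U ⊆ f⁻¹V, a map φ_V^U : G(V) → F(U), compatibly with restrictions. Then there is exactly one
morphism of sheaves ψ : G → f_*F (an f-map G → F) such that G(V) → F(f⁻¹V) → F(U) equals φ_V^U for
every such pair. -/
theorem result {X Y : TopCat.{u}} (f : X ⟶ Y) (F : X.Sheaf (Type u)) (G : Y.Sheaf (Type u))
    {BX : Set (Opens X)} (hBX : Opens.IsBasis BX) {BY : Set (Opens Y)} (hBY : Opens.IsBasis BY)
    (φ : ∀ (V : BY) (U : BX), (U : Opens X) ≤ (Opens.map f).obj V →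
      (G.presheaf.obj (op (V : Opens Y)) → F.presheaf.obj (op (U : Opens X))))
    (hφ : ∀ (V V' : BY) (U U' : BX) (hUV : (U : Opens X) ≤ (Opens.map f).obj V)
      (hU'V' : (U' : Opens X) ≤ (Opens.map f).obj V') (hV : (V' : Opens Y) ≤ V) (hU : (U' : Opens X) ≤ U)
      (s : G.presheaf.obj (op (V : Opens Y))),
      F.presheaf.map (homOfLE hU).op (φ V U hUV s) = φ V' U' hU'V' (G.presheaf.map (homOfLE hV).op s)) :
    ∃! ψ : G ⟶ (TopCat.Sheaf.pushforward (Type u) f).obj F,
      ∀ (V : BY) (U : BX) (hUV : (U : Opens X) ≤ (Opens.map f).obj V) (s : G.presheaf.obj (op (V : Opens Y))),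
        F.presheaf.map (homOfLE hUV).op (ψ.1.app (op (V : Opens Y)) s) = φ V U hUV s := by
  -- step A: glue over each basis member of Y
  have hA : ∀ (V : BY) (s : G.presheaf.obj (op (V : Opens Y))),
      ∃! t : F.presheaf.obj (op ((Opens.map f).obj (V : Opens Y))),
        ∀ (U : BX) (hU : (U : Opens X) ≤ (Opens.map f).obj V),
          F.presheaf.map (homOfLE hU).op t = φ V U hU s := by
    intro V s
    refine Groth.Agent.Lib.Helper9.ShB6.existsUnique_of_basis F hBX _
      (fun U hU => φ V U hU s) ?_
    intro U U' hU hU' h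
    have := hφ V V U U' hU hU' le_rfl h s
    rw [this]
    congr 1
    exact map_refl G.presheaf _ s
  choose θ hθ hθu using hA
  -- step B: naturality on the basis
  have hB : ∀ (V V' : BY) (hV : (V' : Opens Y) ≤ V) (s : G.presheaf.obj (op (V : Opens Y))),
      ((TopCat.Sheaf.pushforward (Type u) f).obj F).presheaf.map (homOfLE hV).op (θ V s) =
        θ V' (G.presheaf.map (homOfLE hV).op s) := by
    intro V V' hV s
    apply hθu V'
    intro U hU
    have e1 : F.presheaf.map (homOfLE hU).op
        (((TopCat.Sheaf.pushforward (Type u) f).obj F).presheaf.map (homOfLE hV).op (θ V s)) =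
        F.presheaf.map (homOfLE (hU.trans ((Opens.map f).monotone hV))).op (θ V s) := by
      show F.presheaf.map (homOfLE hU).op (F.presheaf.map ((Opens.map f).map (homOfLE hV)).op _) = _
      exact Groth.Agent.Lib.Helper9.ShB6.map_map' F.presheaf _ _ _
    rw [e1, hθ V s U]
    have := hφ V V' U U (hU.trans ((Opens.map f).monotone hV)) hU hV le_rfl s
    rw [← this]
    exact (map_refl F.presheaf _ _).symm
  obtain ⟨ψ₀, hψ₀, hψu⟩ := Groth.Agent.Lib.Helper9.ShB6.existsUnique_extend' hBY G.presheaf
    ((TopCat.Sheaf.pushforward (Type u) f).obj F) θ hB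
  refine ⟨⟨ψ₀⟩, ?_, ?_⟩
  · intro V U hUV s
    show F.presheaf.map (homOfLE hUV).op (ψ₀.app (op (V : Opens Y)) s) = _
    rw [hψ₀ V s]
    exact hθ V s U hUV
  · intro ψ' hψ'
    have : ψ'.1 = ψ₀ := by
      apply hψu
      intro V s
      exact hθu V s _ (fun U hU => hψ' V U hU s)
    cases ψ'
    cases this
    rfl

end Groth.Agent.S12452
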