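import Groth.Statements.S12456
import Mathlib
import Groth.Prelude.Def_Omega3
import Groth.Agent.Lib.Helper15.UnivThick
-- import your own Groth.Agent.* helpers here

set_option autoImplicit false
universe u
open CategoryTheory AlgebraicGeometry
open OmegaSh

namespace Groth.Agent.S12456

section H
namespace W1
open CategoryTheory CategoryTheory.Limits AlgebraicGeometry Opposite
open Groth.Agent.Lib.Helper15
set_option backward.isDefEq.respectTransparency.types false

theorem fo_inclusion {Y : Scheme.{u}} (I L : Y.IdealSheafData) (hL : L ≤ I) (hLI : L = I * I) :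
    MoreMor.IsFirstOrderThickening (Scheme.IdealSheafData.inclusion hL) := by
  subst hLI
  exact UnivThick.isFirstOrderThickening_inclusion I

theorem main {X : Scheme.{u}} (U : X.Opens) (I : (U : Scheme.{u}).IdealSheafData)
    (h : I ^ 2 ≤ I) :
    OmegaSh.IsUnivThickening (I.subschemeι ≫ U.ι) (Scheme.IdealSheafData.inclusion h)
      ((I ^ 2).subschemeι ≫ U.ι) := by
  refine ⟨fo_inclusion I (I ^ 2) h (pow_two I), ?_, ?_⟩
  · rw [Scheme.IdealSheafData.inclusion_subschemeι_assoc]
  · intro T T' j b a hj hcomm
    have hrange : Set.range b ⊆ Set.range U.ι := by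
      rintro _ ⟨t', rfl⟩
      obtain ⟨t, rfl⟩ := hj.1.2.surj t'
      rw [← Scheme.Hom.comp_apply, hcomm]
      exact ⟨_, rfl⟩
    set bU := IsOpenImmersion.lift U.ι b hrange with hbU
    have hbU1 : bU ≫ U.ι = b := IsOpenImmersion.lift_fac _ _ _
    have hjb : j ≫ bU = a ≫ I.subschemeι := by
      rw [← cancel_mono U.ι, Category.assoc, hbU1, hcomm, Category.assoc]
    have h1 : I ≤ j.ker.map bU := by
      rw [Scheme.IdealSheafData.map_ker, hjb]
      have := Scheme.Hom.le_ker_comp a I.subschemeι
      rwa [Scheme.IdealSheafData.ker_subschemeι] at this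
    have h2 : I ^ 2 ≤ bU.ker := by
      rw [pow_two]
      refine (UnivThick.mul_mono' h1 h1).trans ((UnivThick.map_mul_le _ _ _).trans ?_)
      rw [hj.2, Scheme.IdealSheafData.map_bot]
    have h3 : (I ^ 2).subschemeι.ker ≤ bU.ker := by
      rw [Scheme.IdealSheafData.ker_subschemeι]; exact h2
    set a' := IsClosedImmersion.lift (I ^ 2).subschemeι bU h3 with ha'
    have ha'1 : a' ≫ (I ^ 2).subschemeι = bU := IsClosedImmersion.lift_fac _ _ _
    refine ⟨a', ⟨?_, ?_⟩, ?_⟩
    · rw [← cancel_mono (I ^ 2).subschemeι, Category.assoc, ha'1, hjb, Category.assoc,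
        Scheme.IdealSheafData.inclusion_subschemeι]
    · rw [← Category.assoc, ha'1, hbU1]
    · rintro a'' ⟨-, k2⟩
      rw [← cancel_mono ((I ^ 2).subschemeι ≫ U.ι), k2, ← Category.assoc, ha'1, hbU1]

end W1
end H


/-- Let i : Z → X be an immersion, written as the closed subscheme of an open U ⊆ X cut out by an ideal
sheaf I followed by the inclusion of U. Then the first order infinitesimal neighbourhood of Z in X —
the closed subscheme of U cut out by I² — together with Z ⊂ V(I²) and V(I²) → U → X is a universal
first order thickening of Z over X. (The inequality I² ≤ I is carried as an argument h; it always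
holds.) -/
theorem result {X : Scheme.{u}} (U : X.Opens) (I : (U : Scheme.{u}).IdealSheafData)
    (h : I ^ 2 ≤ I) :
    OmegaSh.IsUnivThickening (I.subschemeι ≫ U.ι) (Scheme.IdealSheafData.inclusion h)
      ((I ^ 2).subschemeι ≫ U.ι) := by
  exact W1.main U I h

end Groth.Agent.S12456
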