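import Groth.Statements.S12463
import Groth.Agent.S7655
import Groth.Agent.S7651
import Groth.Agent.Lib.Helper14.BranchEq

set_option autoImplicit false
universe u
open Variety

namespace Groth.Agent.S12463

open Helper14 IsLocalRing Groth.Agent.S7655

section Sep
variable {A : Type u} [CommRing A] [IsLocalRing A] [IsSepClosed (ResidueField A)]
  {S : Type u} [CommRing S] [Algebra A S] [Module.Finite A S]

lemma subsingleton_embOver (Ω : Type u) [Field Ω] [Algebra (ResidueField A) Ω]
    (n : MaximalSpectrum S) : Subsingleton (EmbOver (A := A) Ω n) := by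
  haveI := n.isMaximal
  letI : Field (S ⧸ n.asIdeal) := Ideal.Quotient.field n.asIdeal
  have hker : ∀ a ∈ maximalIdeal A, algebraMap A (S ⧸ n.asIdeal) a = 0 := by
    intro a ha
    rw [← comap_eq_maximalIdeal (A := A) n.asIdeal, Ideal.mem_comap] at ha
    exact Ideal.Quotient.eq_zero_iff_mem.2 ha
  let g : ResidueField A →+* S ⧸ n.asIdeal :=
    Ideal.Quotient.lift (maximalIdeal A) (algebraMap A (S ⧸ n.asIdeal)) hker
  letI : Algebra (ResidueField A) (S ⧸ n.asIdeal) := g.toAlgebra
  haveI : IsScalarTower A (ResidueField A) (S ⧸ n.asIdeal) :=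
    IsScalarTower.of_algebraMap_eq (fun a => rfl)
  haveI : Module.Finite (ResidueField A) (S ⧸ n.asIdeal) :=
    Module.Finite.of_restrictScalars_finite A _ _
  haveI : Algebra.IsAlgebraic (ResidueField A) (S ⧸ n.asIdeal) := Algebra.IsAlgebraic.of_finite _ _
  haveI : IsPurelyInseparable (ResidueField A) (S ⧸ n.asIdeal) := inferInstance
  constructor
  intro σ τ
  apply Subtype.ext
  apply IsPurelyInseparable.injective_comp_algebraMap (ResidueField A) (S ⧸ n.asIdeal) Ω
  ext x
  obtain ⟨a, rfl⟩ := residue_surjective x
  exact (RingHom.congr_fun σ.2 a).trans (RingHom.congr_fun τ.2 a).symm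

end Sep

section DVR
variable (A : Type u) [CommRing A] [IsLocalRing A] [IsReduced A]

lemma dvr (hN : CAlg.IsNagata A) (hdim : ringKrullDim A = 1)
    (m' : MaximalSpectrum (integralClosure A (FractionRing A))) :
    ∃ _ : IsDomain (Localization.AtPrime m'.asIdeal),
      IsDiscreteValuationRing (Localization.AtPrime m'.asIdeal) := by
  haveI := hN.1
  obtain ⟨hfin, hloc, -⟩ := Groth.Agent.S7652.result A hN hdim
  haveI := hfin
  haveI := m'.isMaximal
  obtain ⟨hdom, hic⟩ := hloc ⟨m'.asIdeal, m'.isMaximal.isPrime⟩
  refine ⟨hdom, ?_⟩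
  haveI := hdom
  haveI : IsNoetherianRing (integralClosure A (FractionRing A)) :=
    Algebra.FiniteType.isNoetherianRing A _
  haveI : IsNoetherianRing (Localization.AtPrime m'.asIdeal) :=
    IsLocalization.isNoetherianRing m'.asIdeal.primeCompl _ inferInstance
  -- a parameter
  obtain ⟨t, htm, ht⟩ := Groth.Agent.S7651.exists_param A hdim
  have htn : t ∈ nonZeroDivisors A :=
    Groth.Agent.S7651.nzd_of_param A hdim t htm ht (Or.inr inferInstance)
  set R := Localization.AtPrime m'.asIdeal with hR
  set τ : R := algebraMap (integralClosure A (FractionRing A)) R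
    (algebraMap A (integralClosure A (FractionRing A)) t) with hτ
  have hτm : τ ∈ maximalIdeal R := by
    rw [hτ, IsLocalization.AtPrime.to_map_mem_maximal_iff R m'.asIdeal]
    have : t ∈ m'.asIdeal.comap (algebraMap A (integralClosure A (FractionRing A))) := by
      rw [comap_eq_maximalIdeal]; exact htm
    exact this
  have hτ0 : τ ≠ 0 := by
    intro h
    obtain ⟨⟨s, hs⟩, hst⟩ := (IsLocalization.map_eq_zero_iff m'.asIdeal.primeCompl R _).1 h
    have hs0 : s = 0 := by
      apply Subtype.ext
      have h1 : (s : FractionRing A) * algebraMap A (FractionRing A) t = 0 :=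
        congrArg Subtype.val hst
      have hu : IsUnit (algebraMap A (FractionRing A) t) :=
        IsLocalization.map_units _ (⟨t, htn⟩ : nonZeroDivisors A)
      exact hu.mul_left_eq_zero.1 h1
    exact hs (hs0 ▸ m'.asIdeal.zero_mem)
  have hmax0 : maximalIdeal R ≠ ⊥ := by
    intro h
    rw [h] at hτm
    exact hτ0 hτm
  have hnf : ¬ IsField R := fun hf => hmax0 (isField_iff_maximalIdeal_eq.1 hf)
  refine ((IsDiscreteValuationRing.TFAE R hnf).out 0 3).2 ?_
  refine ⟨hic, maximalIdeal R, ⟨hmax0, inferInstance⟩, ?_⟩
  rintro P ⟨hP0, hPp⟩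
  haveI := hPp
  set p := P.comap (algebraMap (integralClosure A (FractionRing A)) R) with hp
  haveI : p.IsPrime := Ideal.comap_isPrime _ _
  have hPmap : P = p.map (algebraMap (integralClosure A (FractionRing A)) R) :=
    (IsLocalization.map_under m'.asIdeal.primeCompl R P).symm
  have hple : p ≤ m'.asIdeal := by
    have h1 := Ideal.comap_mono (f := algebraMap (integralClosure A (FractionRing A)) R)
      (le_maximalIdeal hPp.ne_top)
    have h2 : (maximalIdeal R).comap (algebraMap (integralClosure A (FractionRing A)) R) =
        m'.asIdeal := IsLocalization.AtPrime.under_maximalIdeal R m'.asIdeal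
    rwa [h2] at h1
  set q := p.comap (algebraMap A (integralClosure A (FractionRing A))) with hq
  by_cases hqm : q = maximalIdeal A
  · have hpmax : p.IsMaximal :=
      Ideal.isMaximal_of_isIntegral_of_isMaximal_comap p
        (by show q.IsMaximal; rw [hqm]; exact maximalIdeal.isMaximal A)
    have : p = m'.asIdeal := hpmax.eq_of_le m'.isMaximal.ne_top hple
    rw [hPmap, this, IsLocalization.AtPrime.map_eq_maximalIdeal]
  · exfalso
    set p0 := (⊥ : Ideal R).comap (algebraMap (integralClosure A (FractionRing A)) R) with hp0
    haveI : (⊥ : Ideal R).IsPrime := Ideal.isPrime_bot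
    haveI : p0.IsPrime := Ideal.comap_isPrime _ _
    have hp0le : p0 ≤ p := Ideal.comap_mono bot_le
    have hp0ne : p0 ≠ p := by
      intro h
      apply hP0
      rw [hPmap, ← h, hp0]
      exact IsLocalization.map_under m'.asIdeal.primeCompl R ⊥
    obtain ⟨x, hxp, hxp0⟩ := SetLike.exists_of_lt (lt_of_le_of_ne hp0le hp0ne)
    have hlt : p0.comap (algebraMap A (integralClosure A (FractionRing A))) < q :=
      Ideal.comap_lt_comap_of_integral_mem_sdiff hp0le ⟨hxp, hxp0⟩
        (Algebra.IsIntegral.isIntegral x)
    haveI : Ring.KrullDimLE 1 A := Ring.krullDimLE_iff.2 hdim.le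
    haveI : q.IsPrime := Ideal.comap_isPrime _ _
    rcases Ring.krullDimLE_one_iff.1 ‹_› q inferInstance with hmin | hmax
    · have hle := hmin.2 ⟨(inferInstance :
        (p0.comap (algebraMap A (integralClosure A (FractionRing A)))).IsPrime), bot_le⟩ hlt.le
      exact not_le_of_gt hlt hle
    · exact hqm (eq_maximalIdeal hmax)

end DVR


/-- Let (A, m) be a strictly henselian reduced Nagata local ring of dimension one with δ-invariant equal
to the number of geometric branches minus one, and A' the integral closure of A in its total ring of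
fractions. Then A is a wedge of discrete valuation rings: for every maximal ideal m' of A' the
localization A'_{m'} is a discrete valuation ring whose residue field is the image of A, and A
consists exactly of the elements of A' congruent to an element of A modulo every maximal ideal of A'
(the displayed inclusion; the reverse inclusion is trivial). (The inequality δ ≥ branches − 1 of the
published statement holds for every reduced Nagata local ring of dimension one and is not restated.) -/
theorem result (A : Type u) [CommRing A] [HenselianLocalRing A]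
    [IsSepClosed (IsLocalRing.ResidueField A)] [IsReduced A] (hN : CAlg.IsNagata A) (hdim : ringKrullDim A = 1)
    (heq : Curv2.deltaInv A + 1 = Brnch.numGeomBranches A) :
    (∀ m' : MaximalSpectrum ↥(integralClosure A (FractionRing A)),
        (∃ _ : IsDomain (Localization.AtPrime m'.asIdeal), IsDiscreteValuationRing (Localization.AtPrime m'.asIdeal)) ∧
        Function.Surjective (⇑(IsLocalRing.residue (Localization.AtPrime m'.asIdeal)) ∘
          ⇑(algebraMap ↥(integralClosure A (FractionRing A)) (Localization.AtPrime m'.asIdeal)) ∘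
          ⇑(algebraMap A ↥(integralClosure A (FractionRing A))))) ∧
    ∀ a' : ↥(integralClosure A (FractionRing A)),
      (∃ a : A, ∀ m' : MaximalSpectrum ↥(integralClosure A (FractionRing A)),
          a' - algebraMap A _ a ∈ m'.asIdeal) →
      a' ∈ (algebraMap A ↥(integralClosure A (FractionRing A))).range := by
  haveI := hN.1
  have hfinmin : (minimalPrimes A).Finite := minimalPrimes.finite_of_isNoetherianRing A
  obtain ⟨hA', hloc, hδ⟩ := Groth.Agent.S7652.result A hN hdim
  haveI : Module.Finite A (CAlg2.normRed A) := Module.Finite.equiv (normLin A)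
  unfold Brnch.numGeomBranches at heq
  rw [if_pos hfinmin, deltaInv_eq] at heq
  rw [deltaInv_eq] at hδ
  obtain ⟨h1, h2⟩ := eq_consequences (A := A) (S := CAlg2.normRed A)
    (AlgebraicClosure (ResidueField A)) hδ
    (fun n => (ENat.card_le_one_iff_subsingleton _).2 (subsingleton_embOver _ n)) heq.le
  set e : integralClosure A (FractionRing A) ≃+* CAlg2.normRed A :=
    normalizationEquivOfRingEquiv (redEquiv A) with he_def
  have he : ∀ a : A, e (algebraMap A (integralClosure A (FractionRing A)) a) =
      algebraMap A (CAlg2.normRed A) a := fun a => normLin_algebraMap A a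
  have key1 : ∀ (n₀ : MaximalSpectrum (integralClosure A (FractionRing A)))
      (x : integralClosure A (FractionRing A)),
      ∃ a : A, x - algebraMap A (integralClosure A (FractionRing A)) a ∈ n₀.asIdeal := by
    intro n₀ x
    haveI := n₀.isMaximal
    let n : MaximalSpectrum (CAlg2.normRed A) :=
      ⟨n₀.asIdeal.comap (e.symm : CAlg2.normRed A →+* integralClosure A (FractionRing A)),
        Ideal.comap_isMaximal_of_surjective _ e.symm.surjective⟩
    haveI := n.isMaximal
    obtain ⟨a, ha⟩ := exists_sub_mem_of_length_eq_one (A := A) n.asIdeal (h1 n) (e x)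
    refine ⟨a, ?_⟩
    have h3 : e.symm (e x - algebraMap A (CAlg2.normRed A) a) ∈ n₀.asIdeal := ha
    rwa [map_sub, e.symm_apply_apply, ← he, e.symm_apply_apply] at h3
  refine ⟨fun m' => ⟨dvr A hN hdim m', ?_⟩, ?_⟩
  · intro y
    haveI := m'.isMaximal
    obtain ⟨x, rfl⟩ := Ideal.algebraMap_residueField_surjective m'.asIdeal y
    obtain ⟨a, ha⟩ := key1 m' x
    refine ⟨a, ?_⟩
    have h3 := (Ideal.algebraMap_residueField_eq_zero (I := m'.asIdeal)).2 ha
    rw [map_sub, sub_eq_zero] at h3
    rw [h3]
    rfl
  · rintro a' ⟨a, ha⟩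
    have h3 : e (a' - algebraMap A _ a) ∈
        LinearMap.range (Algebra.linearMap A (CAlg2.normRed A)) := by
      apply h2
      intro n
      haveI := n.isMaximal
      let n₀ : MaximalSpectrum (integralClosure A (FractionRing A)) :=
        ⟨n.asIdeal.comap (e : integralClosure A (FractionRing A) →+* CAlg2.normRed A),
          Ideal.comap_isMaximal_of_surjective _ e.surjective⟩
      exact ha n₀
    obtain ⟨b, hb⟩ := h3
    refine ⟨a + b, ?_⟩
    apply e.injective
    rw [map_add, map_add, he, he]
    have hb' : algebraMap A (CAlg2.normRed A) b = e a' - algebraMap A (CAlg2.normRed A) a := by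
      rw [← he a, ← map_sub]; exact hb
    rw [hb']; ring

end Groth.Agent.S12463
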