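import Groth.Statements.S12470
import Groth.Agent.Lib.Helper28.VAProd

set_option autoImplicit false
universe u
open CategoryTheory CategoryTheory.Limits AlgebraicGeometry TopologicalSpace Opposite
open scoped HomogeneousIdeal
open EGA2

namespace Groth.Agent.S12470

/-- Let q : X → Y be a morphism of schemes and L, L' invertible O_X-modules which are both very ample
relative to q (isomorphic to the inverse image of O(1) along a Y-immersion of X into the projective
bundle P(E) of a quasi-coherent O_Y-module E). Then L ⊗ L' is very ample relative to q. -/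
theorem result {X Y : Scheme.{u}} (q : X ⟶ Y) (L L' : X.Modules)
    (hL : PicF.IsInvertible L) (hL' : PicF.IsInvertible L')
    (hva : RelProj.IsRelVeryAmple q L) (hva' : RelProj.IsRelVeryAmple q L') :
    RelProj.IsRelVeryAmple q (CohB1.tensorMod L L') := by
  classical
  have h1 := Groth.Agent.Lib.Helper28.VAProd.isRelVeryAmple_extTensor q q (pullback.fst q q) (pullback.snd q q)
    (IsPullback.of_hasPullback q q) L L' hL hL' hva hva'
  have h2 := Groth.Agent.Lib.Helper28.VAProd.isRelVeryAmple_comp_immersion (pullback.diagonal q)
    (pullback.fst q q ≫ q) _ h1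
  have e : pullback.diagonal q ≫ pullback.fst q q ≫ q = q := by
    rw [← Category.assoc, pullback.diagonal_fst, Category.id_comp]
  rw [e] at h2
  have hI₁ := Groth.Agent.Lib.Helper28.PullbackInv.isInvertible_pullback (pullback.fst q q) hL
  have hI₂ := Groth.Agent.Lib.Helper28.PullbackInv.isInvertible_pullback (pullback.snd q q) hL'
  obtain ⟨ψ, -⟩ := Groth.Agent.Lib.Helper28.PullbackInv.exists_pullback_tensorMod_iso (pullback.diagonal q) hI₁ hI₂
  have e₁ : (Scheme.Modules.pullback (pullback.diagonal q)).obj ((Scheme.Modules.pullback (pullback.fst q q)).obj L) ≅ L :=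
    (Scheme.Modules.pullbackComp (pullback.diagonal q) (pullback.fst q q)).app L ≪≫
      (Scheme.Modules.pullbackCongr (pullback.diagonal_fst q)).app L ≪≫ (Scheme.Modules.pullbackId X).app L
  have e₂ : (Scheme.Modules.pullback (pullback.diagonal q)).obj ((Scheme.Modules.pullback (pullback.snd q q)).obj L') ≅ L' :=
    (Scheme.Modules.pullbackComp (pullback.diagonal q) (pullback.snd q q)).app L' ≪≫
      (Scheme.Modules.pullbackCongr (pullback.diagonal_snd q)).app L' ≪≫ (Scheme.Modules.pullbackId X).app L'
  exact Groth.Agent.Lib.Helper28.PnVA.isRelVeryAmple_of_iso q (ψ ≪≫ PicGrp.tensorModIso e₁ e₂) h2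

end Groth.Agent.S12470
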