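import Groth.Statements.S12472
import Groth.Agent.Lib.Helper28.PEInv
import Groth.Agent.Lib.Helper28.SymGrAlg
import Groth.Agent.Lib.Helper28.RelProjExists
import Groth.Agent.Lib.Helper28.RelTwistEx3
import Groth.Agent.Lib.Helper28.ProjSymLine
import Groth.Agent.Lib.Helper28.InvQC

set_option autoImplicit false
universe u
open CategoryTheory CategoryTheory.Limits AlgebraicGeometry TopologicalSpace Opposite
open scoped HomogeneousIdeal
open EGA2

namespace Groth.Agent.S12472

/-- Let Y be a scheme and L an invertible O_Y-module. Then L is very ample relative to the identity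
morphism of Y: there are a quasi-coherent O_Y-module E and a Y-immersion i of Y into the projective
bundle P(E) with L isomorphic to i^*O_{P(E)}(1). -/
theorem result (Y : Scheme.{u}) (L : Y.Modules) (hL : PicF.IsInvertible L) :
    RelProj.IsRelVeryAmple (𝟙 Y) L := by
  classical
  haveI : L.IsQuasicoherent := Groth.Agent.Lib.Helper28.InvQC.isQuasicoherent_of_isInvertible L hL
  have hQC := Groth.Agent.Lib.Helper28.SymAlg.isQC_symPre_of_isQuasicoherent L
  have hS := Groth.Agent.Lib.Helper28.SymAlg.isGrSymAlg L hQC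
  have hP := Groth.Agent.Lib.Helper28.RelProjExists.isRelProj (Groth.Agent.Lib.Helper28.SymAlg.grSymAlg L hQC)
  have hO := Groth.Agent.Lib.Helper28.RelTwistEx.isRelTwist hP 1
  haveI hiso : IsIso (Groth.Agent.Lib.Helper28.RelProjExists.p (Groth.Agent.Lib.Helper28.SymAlg.grSymAlg L hQC)) :=
    Groth.Agent.Lib.Helper28.SymAlg.isIso_proj_symLine hL hS _ _ hP
  have hO' : RelProj.IsRelTwist (Groth.Agent.Lib.Helper28.SymAlg.grSymAlg L hQC)
      (Groth.Agent.Lib.Helper28.RelProjExists.p (Groth.Agent.Lib.Helper28.SymAlg.grSymAlg L hQC))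
      (Groth.Agent.Lib.Helper28.RelProjExists.chart (Groth.Agent.Lib.Helper28.SymAlg.grSymAlg L hQC))
      ((1 : ℕ) : ℤ) _ _ := hO
  obtain ⟨τ⟩ := Groth.Agent.Lib.Helper28.RLPsiV.nonempty_pullback_iso_O1 hS hP hO' hL
  refine ⟨L, ‹L.IsQuasicoherent›, Groth.Agent.Lib.Helper28.SymAlg.grSymAlg L hQC,
    Groth.Agent.Lib.Helper28.SymAlg.grJ L hQC, hS, _, _, _, hP, _, _, hO,
    inv (Groth.Agent.Lib.Helper28.RelProjExists.p (Groth.Agent.Lib.Helper28.SymAlg.grSymAlg L hQC)),
    inferInstance, IsIso.inv_hom_id _, ⟨?_⟩⟩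
  exact ((Scheme.Modules.pullbackId Y).app L).symm ≪≫
    ((Scheme.Modules.pullbackCongr (IsIso.inv_hom_id
      (Groth.Agent.Lib.Helper28.RelProjExists.p (Groth.Agent.Lib.Helper28.SymAlg.grSymAlg L hQC))).symm).app L) ≪≫
    ((Scheme.Modules.pullbackComp _ _).app L).symm ≪≫
    (Scheme.Modules.pullback _).mapIso τ

end Groth.Agent.S12472
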