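import Groth.Statements.S12475
import Groth.Agent.S12474
import Groth.Agent.Lib.Helper28.VAProd

set_option autoImplicit false
universe u
open CategoryTheory CategoryTheory.Limits AlgebraicGeometry TopologicalSpace Opposite
open scoped HomogeneousIdeal
open EGA2

namespace Groth.Agent.S12475

/-- Let Y₁ → S and Y₂ → S be schemes over S, f₁ : X₁ → Y₁ and f₂ : X₂ → Y₂ morphisms (so that X₁, X₂ are
S-schemes through them), P with projections p₁, p₂ a fibre product X₁ ×_S X₂, Q with projections q₁,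
q₂ a fibre product Y₁ ×_S Y₂, and h : P → Q the morphism f₁ ×_S f₂, that is, the one with h ≫ q₁ =
p₁ ≫ f₁ and h ≫ q₂ = p₂ ≫ f₂. If L₁ is an invertible O_{X₁}-module very ample relative to f₁ and L₂
an invertible O_{X₂}-module very ample relative to f₂ (each isomorphic to the inverse image of O(1)
along an immersion over the base into the projective bundle of a quasi-coherent module on the base),
then the external tensor product p₁^*L₁ ⊗ p₂^*L₂ is very ample relative to h. -/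
theorem result {S X₁ X₂ Y₁ Y₂ P Q : Scheme.{u}} (y₁ : Y₁ ⟶ S) (y₂ : Y₂ ⟶ S)
    (f₁ : X₁ ⟶ Y₁) (f₂ : X₂ ⟶ Y₂) (p₁ : P ⟶ X₁) (p₂ : P ⟶ X₂) (hP : IsPullback p₁ p₂ (f₁ ≫ y₁) (f₂ ≫ y₂))
    (q₁ : Q ⟶ Y₁) (q₂ : Q ⟶ Y₂) (hQ : IsPullback q₁ q₂ y₁ y₂) (h : P ⟶ Q)
    (hh₁ : h ≫ q₁ = p₁ ≫ f₁) (hh₂ : h ≫ q₂ = p₂ ≫ f₂)
    (L₁ : X₁.Modules) (hL₁ : PicF.IsInvertible L₁) (hva₁ : RelProj.IsRelVeryAmple f₁ L₁)
    (L₂ : X₂.Modules) (hL₂ : PicF.IsInvertible L₂) (hva₂ : RelProj.IsRelVeryAmple f₂ L₂) :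
    RelProj.IsRelVeryAmple h
      (CohB1.tensorMod ((Scheme.Modules.pullback p₁).obj L₁) ((Scheme.Modules.pullback p₂).obj L₂)) := by
  classical
  -- base change both morphisms to Q
  have Sq1 : IsPullback (pullback.fst f₁ q₁) (pullback.snd f₁ q₁) f₁ q₁ := IsPullback.of_hasPullback f₁ q₁
  have Sq2 : IsPullback (pullback.fst f₂ q₂) (pullback.snd f₂ q₂) f₂ q₂ := IsPullback.of_hasPullback f₂ q₂
  have hva₁' := Groth.Agent.S12474.result f₁ q₁ _ _ Sq1 L₁ hL₁ hva₁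
  have hva₂' := Groth.Agent.S12474.result f₂ q₂ _ _ Sq2 L₂ hL₂ hva₂
  have hb1f : pullback.lift p₁ h hh₁.symm ≫ pullback.fst f₁ q₁ = p₁ := pullback.lift_fst _ _ _
  have hb1s : pullback.lift p₁ h hh₁.symm ≫ pullback.snd f₁ q₁ = h := pullback.lift_snd _ _ _
  have hb2f : pullback.lift p₂ h hh₂.symm ≫ pullback.fst f₂ q₂ = p₂ := pullback.lift_fst _ _ _
  have hb2s : pullback.lift p₂ h hh₂.symm ≫ pullback.snd f₂ q₂ = h := pullback.lift_snd _ _ _
  -- P is the fibre product of the two base changes over Q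
  have hA : IsPullback (pullback.snd f₁ q₁ ≫ q₂) (pullback.fst f₁ q₁) y₂ (f₁ ≫ y₁) :=
    IsPullback.paste_horiz Sq1.flip hQ.flip
  have hB : IsPullback (pullback.lift p₁ h hh₁.symm) p₂ (pullback.snd f₁ q₁ ≫ q₂) f₂ := by
    refine IsPullback.of_right (h₁₂ := pullback.fst f₁ q₁) (h₂₂ := y₂) (v₁₃ := f₁ ≫ y₁) ?_ ?_ hA.flip
    · rw [hb1f]; exact hP
    · rw [← Category.assoc, hb1s, hh₂]
  have hC : IsPullback (pullback.lift p₂ h hh₂.symm) (pullback.lift p₁ h hh₁.symm)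
      (pullback.snd f₂ q₂) (pullback.snd f₁ q₁) := by
    refine IsPullback.of_right (h₁₂ := pullback.fst f₂ q₂) (h₂₂ := q₂) (v₁₃ := f₂) ?_ ?_ Sq2
    · rw [hb2f]; exact hB.flip
    · rw [hb2s, hb1s]
  have hW := hC.flip
  have hI₁ := Groth.Agent.Lib.Helper28.PullbackInv.isInvertible_pullback (f := pullback.fst f₁ q₁) hL₁
  have hI₂ := Groth.Agent.Lib.Helper28.PullbackInv.isInvertible_pullback (f := pullback.fst f₂ q₂) hL₂
  have hva := Groth.Agent.Lib.Helper28.VAProd.isRelVeryAmple_extTensor _ _ _ _ hW _ _ hI₁ hI₂ hva₁' hva₂'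
  rw [hb1s] at hva
  have e₁ : (Scheme.Modules.pullback (pullback.lift p₁ h hh₁.symm)).obj
      ((Scheme.Modules.pullback (pullback.fst f₁ q₁)).obj L₁) ≅ (Scheme.Modules.pullback p₁).obj L₁ :=
    (Scheme.Modules.pullbackComp _ _).app L₁ ≪≫ (Scheme.Modules.pullbackCongr hb1f).app L₁
  have e₂ : (Scheme.Modules.pullback (pullback.lift p₂ h hh₂.symm)).obj
      ((Scheme.Modules.pullback (pullback.fst f₂ q₂)).obj L₂) ≅ (Scheme.Modules.pullback p₂).obj L₂ :=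
    (Scheme.Modules.pullbackComp _ _).app L₂ ≪≫ (Scheme.Modules.pullbackCongr hb2f).app L₂
  exact Groth.Agent.Lib.Helper28.PnVA.isRelVeryAmple_of_iso h
    (PicGrp.tensorModIso e₁ e₂) hva

end Groth.Agent.S12475
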