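import Groth.Statements.S12476
import Groth.Agent.Lib.Helper28.PEPull2
import Groth.Agent.Lib.Helper28.SymGrAlg
import Groth.Agent.Lib.Helper28.RelProjExists
import Groth.Agent.Lib.Helper28.RelTwistEx3
import Groth.Agent.Lib.Helper28.SymAlgProjBC
import Groth.Agent.Lib.Helper17.ModPullback

set_option autoImplicit false
universe u
open CategoryTheory CategoryTheory.Limits AlgebraicGeometry TopologicalSpace Opposite
open scoped HomogeneousIdeal
open EGA2

namespace Groth.Agent.S12476

/-- Let f : X → Y and g : Y → Z be morphisms of schemes and L an invertible O_X-module which is very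
ample relative to the composite X → Y → Z (isomorphic to the inverse image of O(1) along a
Z-immersion of X into the projective bundle of a quasi-coherent O_Z-module). Then L is very ample
relative to f. -/
theorem result {X Y Z : Scheme.{u}} (f : X ⟶ Y) (g : Y ⟶ Z) (L : X.Modules)
    (hL : PicF.IsInvertible L) (hva : RelProj.IsRelVeryAmple (f ≫ g) L) : RelProj.IsRelVeryAmple f L := by
  classical
  obtain ⟨E, hE, 𝒮, j, hS, P, p, chart, hP, O1, lam, hO, i, himm, hip, ⟨isoL⟩⟩ := hva
  have : E.IsQuasicoherent := hE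
  have hE' : ((Scheme.Modules.pullback g).obj E).IsQuasicoherent :=
    Groth.Agent.Lib.Helper17.ModPullback.isQuasicoherent_pullback g E
  have hQC := Groth.Agent.Lib.Helper28.SymAlg.isQC_symPre_of_isQuasicoherent ((Scheme.Modules.pullback g).obj E)
  have hS' := Groth.Agent.Lib.Helper28.SymAlg.isGrSymAlg ((Scheme.Modules.pullback g).obj E) hQC
  have hP' := Groth.Agent.Lib.Helper28.RelProjExists.isRelProj
    (Groth.Agent.Lib.Helper28.SymAlg.grSymAlg ((Scheme.Modules.pullback g).obj E) hQC)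
  have hO' := Groth.Agent.Lib.Helper28.RelTwistEx.isRelTwist hP' 1
  have hO'' : RelProj.IsRelTwist (Groth.Agent.Lib.Helper28.SymAlg.grSymAlg ((Scheme.Modules.pullback g).obj E) hQC)
      (Groth.Agent.Lib.Helper28.RelProjExists.p (Groth.Agent.Lib.Helper28.SymAlg.grSymAlg ((Scheme.Modules.pullback g).obj E) hQC))
      (Groth.Agent.Lib.Helper28.RelProjExists.chart (Groth.Agent.Lib.Helper28.SymAlg.grSymAlg ((Scheme.Modules.pullback g).obj E) hQC))
      ((1 : ℕ) : ℤ) _ _ := hO'
  have hO1 : RelProj.IsRelTwist 𝒮 p chart ((1 : ℕ) : ℤ) O1 lam := hO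
  -- the morphism `P(g^*E) ⟶ P(E)`
  obtain ⟨h, hh⟩ := Groth.Agent.Lib.Helper28.RelProjQ.exists_isProjQMap
    (Groth.Agent.Lib.Helper28.SymAlg.grQHom g hS hS') p chart hP _ _ hP'
    (Groth.Agent.Lib.Helper28.SymAlg.isQBaseChange_grQHom g hS hS')
  have hpb : IsPullback h _ p g := Groth.Agent.Lib.Helper28.RelProjQ.isPullback_of_isProjQMap
    (Groth.Agent.Lib.Helper28.SymAlg.grQHom g hS hS') p chart hP _ _ hP'
    (Groth.Agent.Lib.Helper28.SymAlg.isQBaseChange_grQHom g hS hS') h hh
  obtain ⟨τ⟩ := Groth.Agent.Lib.Helper28.RLPsiV.nonempty_pullback_iso_of_isGrSymAlg hS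
    (Groth.Agent.Lib.Helper28.SymAlg.grQHom g hS hS') hP hP' hO1 hO'' h hh
  -- the immersion `X ⟶ P(g^*E)`
  have hw : i ≫ p = f ≫ g := hip
  let i' : X ⟶ _ := hpb.lift i f hw
  have hi'1 : i' ≫ h = i := hpb.lift_fst _ _ _
  have hi'2 : i' ≫ _ = f := hpb.lift_snd _ _ _
  have himm' : IsImmersion i' := by
    have : IsImmersion (i' ≫ h) := by rw [hi'1]; exact himm
    exact IsImmersion.of_comp i' h
  refine ⟨(Scheme.Modules.pullback g).obj E, hE', _, _, hS', _, _, _, hP', _, _, hO', i', himm', hi'2, ⟨?_⟩⟩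
  exact isoL ≪≫
    ((Scheme.Modules.pullbackCongr hi'1.symm).app O1) ≪≫
    ((Scheme.Modules.pullbackComp i' h).app O1).symm ≪≫
    (Scheme.Modules.pullback i').mapIso τ

end Groth.Agent.S12476
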