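import Groth.Statements.S12482
import Mathlib.RingTheory.Regular.RegularSequence
import Mathlib.RingTheory.Ideal.Cotangent
import Mathlib.Tactic.LinearCombination
import Mathlib.Tactic.Ring

set_option autoImplicit false
universe u
open Dual

namespace Groth.Agent.S12482

section

variable {A : Type u} [CommRing A] {p : ℕ} (x : Fin p → A)

/-- the ideal generated by the first `k` elements -/
def Jk (k : ℕ) : Ideal A := Ideal.span (x '' {j : Fin p | (j : ℕ) < k})

lemma Jk_mono {k l : ℕ} (h : k ≤ l) : Jk x k ≤ Jk x l :=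
  Ideal.span_mono (Set.image_mono fun j (hj : (j : ℕ) < k) => lt_of_lt_of_le hj h)

lemma x_mem_Jk (i : Fin p) {k : ℕ} (h : (i : ℕ) < k) : x i ∈ Jk x k :=
  Ideal.subset_span ⟨i, h, rfl⟩

lemma Jk_top : Jk x p = Ideal.span (Set.range x) := by
  unfold Jk
  congr 1
  ext y
  constructor
  · rintro ⟨j, -, rfl⟩; exact ⟨j, rfl⟩
  · rintro ⟨j, rfl⟩; exact ⟨j, j.2, rfl⟩

lemma ofList_take (k : ℕ) : Ideal.ofList ((List.ofFn x).take k) = Jk x k := by
  unfold Jk Ideal.ofList
  congr 1
  ext y
  simp only [Set.mem_image]
  constructor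
  · intro hy
    obtain ⟨n, hn, rfl⟩ := List.mem_iff_getElem.mp hy
    rw [List.length_take, List.length_ofFn] at hn
    rw [List.getElem_take, List.getElem_ofFn]
    exact ⟨⟨n, by omega⟩, by simp; omega, rfl⟩
  · rintro ⟨j, hj, rfl⟩
    have hj' : (j : ℕ) < k := hj
    apply List.mem_iff_getElem.mpr
    refine ⟨j, ?_, ?_⟩
    · rw [List.length_take, List.length_ofFn]
      have := j.2
      omega
    · rw [List.getElem_take, List.getElem_ofFn]

lemma reg_of_weaklyRegular (hreg : RingTheory.Sequence.IsWeaklyRegular A (List.ofFn x))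
    (i : Fin p) (m : A) (hm : x i * m ∈ Jk x i) : m ∈ Jk x i := by
  have h := hreg.regular_mod_prev i (by rw [List.length_ofFn]; exact i.2)
  rw [List.getElem_ofFn, ofList_take] at h
  have hz : x i • (Submodule.Quotient.mk m : A ⧸ (Jk x i • ⊤ : Submodule A A)) =
      x i • (Submodule.Quotient.mk 0 : A ⧸ (Jk x i • ⊤ : Submodule A A)) := by
    rw [← Submodule.Quotient.mk_smul, ← Submodule.Quotient.mk_smul, Submodule.Quotient.eq,
      smul_zero, sub_zero, smul_eq_mul]
    change x i * m ∈ Jk x i * ⊤
    rw [Ideal.mul_top]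
    exact hm
  have := h hz
  rw [Submodule.Quotient.eq, sub_zero] at this
  change m ∈ Jk x i * ⊤ at this
  rwa [Ideal.mul_top] at this

end


section

variable {A : Type u} [CommRing A] {p : ℕ} (x : Fin p → A)

lemma syz (hreg : ∀ (i : Fin p) (m : A), x i * m ∈ Jk x i → m ∈ Jk x i) :
    ∀ k : ℕ, k ≤ p → ∀ a : Fin p → A,
      ∑ i ∈ Finset.univ.filter (fun i : Fin p => (i : ℕ) < k), a i * x i = 0 →
      ∀ i : Fin p, (i : ℕ) < k → a i ∈ Jk x k := by
  classical
  intro k
  induction k with
  | zero => intro _ a _ i hi; exact absurd hi (Nat.not_lt_zero _)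
  | succ k ih =>
    intro hk a hsum i hi
    let ik : Fin p := ⟨k, by omega⟩
    have hfilter : Finset.univ.filter (fun i : Fin p => (i : ℕ) < k + 1) =
        insert ik (Finset.univ.filter (fun i : Fin p => (i : ℕ) < k)) := by
      ext j
      simp only [Finset.mem_filter, Finset.mem_univ, true_and, Finset.mem_insert, Fin.ext_iff, ik]
      omega
    have hnot : ik ∉ Finset.univ.filter (fun i : Fin p => (i : ℕ) < k) := by
      simp [ik]
    rw [hfilter, Finset.sum_insert hnot] at hsum
    -- a_k ∈ J_k
    have hrest : ∑ i ∈ Finset.univ.filter (fun i : Fin p => (i : ℕ) < k), a i * x i ∈ Jk x k :=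
      Ideal.sum_mem _ fun j hj => Ideal.mul_mem_left _ _
        (x_mem_Jk x j (by simpa using hj))
    have hak : a ik ∈ Jk x k := by
      apply hreg ik
      show x ik * a ik ∈ Jk x k
      have : x ik * a ik = -∑ i ∈ Finset.univ.filter (fun i : Fin p => (i : ℕ) < k), a i * x i := by
        linear_combination hsum
      rw [this]
      exact (Jk x k).neg_mem hrest
    -- write a_k as a combination
    obtain ⟨l, hl, hlsum⟩ := (Finsupp.mem_span_image_iff_linearCombination A).mp hak
    rw [Finsupp.linearCombination_apply, Finsupp.sum_fintype _ _ (by simp)] at hlsum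
    have hl0 : ∀ j : Fin p, ¬ (j : ℕ) < k → l j = 0 := by
      intro j hj
      by_contra h
      exact hj (hl (Finsupp.mem_support_iff.mpr h))
    have hlsum' : ∑ j ∈ Finset.univ.filter (fun i : Fin p => (i : ℕ) < k), l j * x j = a ik := by
      rw [← hlsum, Finset.sum_filter]
      refine Finset.sum_congr rfl fun j _ => ?_
      by_cases hj : (j : ℕ) < k
      · simp [hj]
      · simp [hj, hl0 j hj]
    have key : ∑ j ∈ Finset.univ.filter (fun i : Fin p => (i : ℕ) < k),
        (a j + l j * x ik) * x j = 0 := by
      have : ∑ j ∈ Finset.univ.filter (fun i : Fin p => (i : ℕ) < k), (a j + l j * x ik) * x j =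
          ∑ j ∈ Finset.univ.filter (fun i : Fin p => (i : ℕ) < k), a j * x j +
            x ik * ∑ j ∈ Finset.univ.filter (fun i : Fin p => (i : ℕ) < k), l j * x j := by
        rw [Finset.mul_sum, ← Finset.sum_add_distrib]
        refine Finset.sum_congr rfl fun j _ => ?_
        ring
      rw [this, hlsum']
      linear_combination hsum
    have ih' := ih (by omega) (fun j => a j + l j * x ik) key
    by_cases hik : (i : ℕ) < k
    · have h1 := Jk_mono x (Nat.le_succ k) (ih' i hik)
      have h2 : l i * x ik ∈ Jk x (k + 1) :=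
        Ideal.mul_mem_left _ _ (x_mem_Jk x ik (by simp [ik]))
      have : a i = (a i + l i * x ik) - l i * x ik := by ring
      rw [this]
      exact (Jk x (k + 1)).sub_mem h1 h2
    · have : i = ik := Fin.ext (by simp [ik]; omega)
      rw [this]
      exact Jk_mono x (Nat.le_succ k) hak

end


section

variable {A : Type u} [CommRing A] {p : ℕ} (x : Fin p → A)

lemma mk_smul_cot (J : Ideal A) (a : A) (m : J.Cotangent) :
    (Ideal.Quotient.mk J a) • m = a • m := by
  rw [← Ideal.Quotient.algebraMap_eq, algebraMap_smul]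

/-- elements of `J²` are combinations of the `x i` with coefficients in `J`. -/
lemma mem_sq_iff (y : A) (hy : y ∈ Ideal.span (Set.range x) ^ 2) :
    ∃ b : Fin p → A, (∀ i, b i ∈ Ideal.span (Set.range x)) ∧ y = ∑ i, b i * x i := by
  rw [pow_two] at hy
  have : y ∈ Ideal.span (Set.range x) • (Submodule.span A (Set.range x)) := hy
  rw [Submodule.mem_ideal_smul_span_iff_exists_sum] at this
  obtain ⟨c, hc, hsum⟩ := this
  refine ⟨fun i => c i, hc, ?_⟩
  rw [← hsum, Finsupp.sum_fintype _ _ (by simp)]
  rfl

end


/-- Let `A` be a commutative ring, `x_1, …, x_p` a sequence of elements of `A` such that each `x_i` is a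
non-zero-divisor on `A/(x_1, …, x_{i-1})`, and `J` the ideal generated by the `x_i`. Then `J/J²` is
a free `(A/J)`-module with basis the classes of the `x_i`: there is a basis of `J/J²` over `A/J`,
indexed by `1, …, p`, whose `i`-th vector is the class of `x_i`. (The other assertions of the
published statement, on the Koszul complex and on Ext and Tor against `A/J`, are stated separately.) -/
theorem result (A : Type u) [CommRing A] (p : ℕ) (x : Fin p → A)
    (hreg : RingTheory.Sequence.IsWeaklyRegular A (List.ofFn x)) :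
    ∃ b : Module.Basis (Fin p) (A ⧸ Ideal.span (Set.range x)) (Ideal.span (Set.range x)).Cotangent,
      ∀ i, b i = (Ideal.span (Set.range x)).toCotangent ⟨x i, Ideal.subset_span (Set.mem_range_self i)⟩ := by
  classical
  set J := Ideal.span (Set.range x) with hJ
  let v : Fin p → J.Cotangent := fun i => J.toCotangent ⟨x i, Ideal.subset_span (Set.mem_range_self i)⟩
  have hli : LinearIndependent (A ⧸ J) v := by
    rw [Fintype.linearIndependent_iff]
    intro g hg i
    choose a ha using fun i => Ideal.Quotient.mk_surjective (g i)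
    have h1 : ∑ i, g i • v i = J.toCotangent ⟨∑ i, a i * x i,
        J.sum_mem fun i _ => J.mul_mem_left _ (Ideal.subset_span (Set.mem_range_self i))⟩ := by
      have : (⟨∑ i, a i * x i,
        J.sum_mem fun i _ => J.mul_mem_left _ (Ideal.subset_span (Set.mem_range_self i))⟩ : J) =
          ∑ i, a i • (⟨x i, Ideal.subset_span (Set.mem_range_self i)⟩ : J) := by
        ext
        simp
      rw [this, map_sum]
      refine Finset.sum_congr rfl fun i _ => ?_
      rw [← ha i, mk_smul_cot, map_smul]
    rw [h1, Ideal.toCotangent_eq_zero] at hg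
    obtain ⟨b, hb, hsum⟩ := mem_sq_iff x _ hg
    have hsyz := syz x (reg_of_weaklyRegular x hreg) p le_rfl (fun i => a i - b i) (by
      have : Finset.univ.filter (fun i : Fin p => (i : ℕ) < p) = Finset.univ := by
        ext j; simp
      rw [this]
      simp only [sub_mul, Finset.sum_sub_distrib]
      change ∑ i, a i * x i = ∑ i, b i * x i at hsum
      rw [hsum, sub_self]) i i.2
    rw [Jk_top] at hsyz
    rw [← ha i, Ideal.Quotient.eq_zero_iff_mem]
    have : a i = (a i - b i) + b i := by ring
    rw [this]
    exact J.add_mem hsyz (hb i)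
  have hsp : ⊤ ≤ Submodule.span (A ⧸ J) (Set.range v) := by
    rintro m -
    obtain ⟨⟨y, hy⟩, rfl⟩ := J.toCotangent_surjective m
    have hy' : y ∈ Submodule.span A (Set.range x) := hy
    rw [Submodule.mem_span_range_iff_exists_fun] at hy'
    obtain ⟨c, hc⟩ := hy'
    have : J.toCotangent ⟨y, hy⟩ = ∑ i, (Ideal.Quotient.mk J (c i)) • v i := by
      have h2 : (⟨y, hy⟩ : J) = ∑ i, c i • (⟨x i, Ideal.subset_span (Set.mem_range_self i)⟩ : J) := by
        ext
        simp [← hc]
      rw [h2, map_sum]
      refine Finset.sum_congr rfl fun i _ => ?_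
      rw [mk_smul_cot, map_smul]
    rw [this]
    exact Submodule.sum_mem _ fun i _ => Submodule.smul_mem _ _ (Submodule.subset_span ⟨i, rfl⟩)
  exact ⟨Module.Basis.mk hli hsp, fun i => by rw [Module.Basis.mk_apply]⟩

end Groth.Agent.S12482
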