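import Groth.Statements.S12491
import Groth.Agent.Lib.helper11.GlDimRegular
import Groth.Agent.Lib.Helper5.SerreLoc

set_option autoImplicit false
universe u
open VBPn

namespace Groth.Agent.S12491

open CategoryTheory

section general

variable (R : Type u) [CommRing R]

lemma pd_sub {P : Type u} [AddCommGroup P] [Module R P] [Module.Projective R P]
    (Z : Submodule R P) (n : ℕ)
    (h : HasProjectiveDimensionLT (ModuleCat.of R (P ⧸ Z)) (n + 2)) :
    HasProjectiveDimensionLT (ModuleCat.of R Z) (n + 1) := by
  let S := (Submodule.mkQ Z).shortComplexKer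
  have hS : S.ShortExact := LinearMap.shortExact_shortComplexKer (Submodule.mkQ_surjective Z)
  have proj : Projective S.X₂ := (IsProjective.iff_projective (R := R) P).1 inferInstance
  haveI h1 : HasProjectiveDimensionLT (ModuleCat.of R (LinearMap.ker (Submodule.mkQ Z))) (n + 1) :=
    (hS.hasProjectiveDimensionLT_X₃_iff n proj).mp h
  exact hasProjectiveDimensionLT_of_iso
    (LinearEquiv.ofEq _ _ (Submodule.ker_mkQ Z)).toModuleIso (n + 1)

lemma pd_congr {M M' : Type u} [AddCommGroup M] [Module R M] [AddCommGroup M'] [Module R M']
    (e : M ≃ₗ[R] M') (n : ℕ) (h : HasProjectiveDimensionLT (ModuleCat.of R M) n) :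
    HasProjectiveDimensionLT (ModuleCat.of R M') n :=
  hasProjectiveDimensionLT_of_iso e.toModuleIso n

variable (N : ℕ → Type u) [∀ i, AddCommGroup (N i)] [∀ i, Module R (N i)]
  (d : ∀ i, N i →ₗ[R] N (i + 1)) (hinj : Function.Injective (d 0))
include hinj

lemma Q : ∀ i : ℕ, (∀ j, 1 ≤ j → j ≤ i + 1 → Module.Projective R (N j)) →
    (∀ j, j < i → LinearMap.range (d j) = LinearMap.ker (d (j + 1))) → ∀ t, 1 ≤ t →
    HasProjectiveDimensionLT (ModuleCat.of R (N (i + 1) ⧸ LinearMap.range (d i))) (t + i + 1) →
    HasProjectiveDimensionLT (ModuleCat.of R (N 0)) t := by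
  intro i
  induction i with
  | zero =>
    intro hproj _ t ht h
    haveI := hproj 1 le_rfl le_rfl
    obtain ⟨t, rfl⟩ : ∃ t', t = t' + 1 := ⟨t - 1, by omega⟩
    have h1 := pd_sub R (LinearMap.range (d 0)) t h
    exact pd_congr R (LinearEquiv.ofInjective (d 0) hinj).symm _ h1
  | succ i ih =>
    intro hproj hex t ht h
    haveI := hproj (i + 1 + 1) (by omega) le_rfl
    have h1 := pd_sub R (LinearMap.range (d (i + 1))) (t + i) (by
      have : t + (i + 1) + 1 = t + i + 2 := by omega
      rw [← this]; exact h)
    have h2 := pd_congr R (LinearMap.quotKerEquivRange (d (i + 1))).symm _ h1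
    have h3 := pd_congr R (Submodule.quotEquivOfEq _ _ (hex i (by omega)).symm) _ h2
    exact ih (fun j hj1 hj2 => hproj j hj1 (by omega)) (fun j hj => hex j (by omega)) t ht h3

theorem projective_of_syzygy (k : ℕ)
    (hgl : ∀ M : ModuleCat.{u} R, HasProjectiveDimensionLT M (k + 1))
    (hproj : ∀ i, 1 ≤ i → i ≤ k → Module.Projective R (N i))
    (hex : ∀ i, i + 1 < k → LinearMap.range (d i) = LinearMap.ker (d (i + 1))) :
    Module.Projective R (N 0) := by
  rw [IsProjective.iff_projective, projective_iff_hasProjectiveDimensionLT_one]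
  cases k with
  | zero => exact hgl _
  | succ k =>
    exact Q R N d hinj k (fun j h1 h2 => hproj j h1 h2) (fun j hj => hex j (by omega)) 1 le_rfl
      (by
        have : 1 + k + 1 = k + 1 + 1 := by omega
        rw [this]; exact hgl _)

end general


/-- Let A be a regular local ring, k ≥ 0, and N_0, N_1, … A-modules with N_0 finitely generated and N_1,
…, N_k finitely generated and free, with linear maps d_i : N_i → N_{i+1} such that d_0 is injective
and the sequence 0 → N_0 → N_1 → ⋯ → N_k is exact. Then for every prime ideal p of A of height at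
most k the localization of N_0 at p is a free module over A_p. The published statement is for a
coherent analytic sheaf on a complex manifold that is locally a k-th syzygy sheaf and says its set
of non-free stalks has codimension greater than k; this row is the statement at one stalk, over any
regular local ring. -/
theorem result (A : Type u) [CommRing A] [IsRegularLocalRing A]
    (k : ℕ) (N : ℕ → Type u) [∀ i, AddCommGroup (N i)] [∀ i, Module A (N i)] [Module.Finite A (N 0)]
    (hfree : ∀ i, 1 ≤ i → i ≤ k → Module.Free A (N i) ∧ Module.Finite A (N i))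
    (d : ∀ i, N i →ₗ[A] N (i + 1)) (hinj : Function.Injective (d 0))
    (hex : ∀ i, i + 1 < k → LinearMap.range (d i) = LinearMap.ker (d (i + 1)))
    (p : Ideal A) [p.IsPrime] (hp : p.height ≤ k) :
    Module.Free (Localization.AtPrime p) (LocalizedModule p.primeCompl (N 0)) := by
  haveI : IsRegularLocalRing (Localization.AtPrime p) :=
    Groth.Agent.Lib.Helper5.SerreLoc.localization_regular A p
  have hdim : ringKrullDim (Localization.AtPrime p) = p.height :=
    IsLocalization.AtPrime.ringKrullDim_eq_height p (Localization.AtPrime p)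
  obtain ⟨h, hh⟩ : ∃ h : ℕ, p.height = h := by
    cases hc : p.height with
    | top => rw [hc] at hp; simp at hp
    | coe h => exact ⟨h, rfl⟩
  rw [hh] at hdim hp
  have hhk : h ≤ k := by exact_mod_cast hp
  have hgl : ∀ M : ModuleCat.{u} (Localization.AtPrime p), HasProjectiveDimensionLT M (k + 1) := by
    intro M
    haveI := Groth.Agent.Lib.helper11.GlDimRegular.hasProjectiveDimensionLT_of_isRegularLocalRing
      h hdim M
    exact hasProjectiveDimensionLT_of_ge M (h + 1) (k + 1) (by omega)
  have hproj : ∀ i, 1 ≤ i → i ≤ k → Module.Projective (Localization.AtPrime p)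
      (LocalizedModule p.primeCompl (N i)) := by
    intro i h1 h2
    haveI := (hfree i h1 h2).1
    haveI : Module.Free (Localization.AtPrime p) (LocalizedModule p.primeCompl (N i)) :=
      Module.free_of_isLocalizedModule p.primeCompl
        (LocalizedModule.mkLinearMap p.primeCompl (N i))
    infer_instance
  have hex' : ∀ i, i + 1 < k →
      LinearMap.range (LocalizedModule.map p.primeCompl (d i)) =
        LinearMap.ker (LocalizedModule.map p.primeCompl (d (i + 1))) := by
    intro i hi
    have ex : Function.Exact (d i) (d (i + 1)) := by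
      rw [LinearMap.exact_iff]
      exact (hex i hi).symm
    have ex' := LocalizedModule.map_exact p.primeCompl (d i) (d (i + 1)) ex
    ext y
    rw [LinearMap.mem_ker]
    constructor
    · rintro ⟨x, rfl⟩
      exact (ex' _).2 ⟨x, rfl⟩
    · intro hy
      obtain ⟨x, hx⟩ := (ex' y).1 hy
      exact ⟨x, hx⟩
  haveI : Module.Projective (Localization.AtPrime p) (LocalizedModule p.primeCompl (N 0)) :=
    projective_of_syzygy (Localization.AtPrime p) (fun i => LocalizedModule p.primeCompl (N i))
      (fun i => LocalizedModule.map p.primeCompl (d i))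
      (LocalizedModule.map_injective p.primeCompl (d 0) hinj) k hgl hproj hex'
  haveI : Module.Flat (Localization.AtPrime p) (LocalizedModule p.primeCompl (N 0)) :=
    Module.Flat.of_projective
  exact Module.free_of_flat_of_isLocalRing

end Groth.Agent.S12491
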