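import Groth.Statements.S12498
import Mathlib.RingTheory.Flat.EquationalCriterion

set_option autoImplicit false
universe u
open Deform

namespace Groth.Agent.S12498

/-- Let k be an algebraically closed field, A a local Artinian k-algebra with residue field k, and t a
nonzero element of the maximal ideal m_A annihilated by m_A, so that A → A/tA is a small extension.
Let B be a flat A-algebra (a deformation over A of its closed fibre B_0 = B/m_A B), and σ an
A-algebra automorphism of B/tB inducing the identity on B_0. Fix an A-algebra automorphism τ of B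
inducing σ (so τ induces the identity on B_0). Then the A-algebra automorphisms η of B inducing σ
correspond bijectively to the k-derivations d of B_0 through the rule η = τ + t·d, meaning η(b) =
τ(b) + t b′ for all b ∈ B and all b′ ∈ B lifting d applied to the image of b in B_0: every such η
determines a unique d, and every d comes from some such η. (The published statement phrases the
conclusion as a free and transitive action of Der_k(B_0, B_0) on the nonempty set of lifts of σ; the
condition that σ induces the identity on B_0 is expressed here through the chosen lift τ.) -/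
theorem result
    {k : Type u} [Field k] [IsAlgClosed k]
    {A : Type u} [CommRing A] [Algebra k A] [IsLocalRing A] [IsArtinianRing A]
    (hres : ∀ a : A, ∃ c : k, a - algebraMap k A c ∈ IsLocalRing.maximalIdeal A)
    (t : A) (ht : t ∈ IsLocalRing.maximalIdeal A) (ht0 : t ≠ 0)
    (htm : ∀ a ∈ IsLocalRing.maximalIdeal A, a * t = 0)
    {B : Type u} [CommRing B] [Algebra A B] [Module.Flat A B] [Algebra k B] [IsScalarTower k A B]
    (σ : (B ⧸ Ideal.span {algebraMap A B t}) ≃ₐ[A] (B ⧸ Ideal.span {algebraMap A B t}))
    (τ : B ≃ₐ[A] B)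
    (hτ : ∀ b : B, Ideal.Quotient.mk (Ideal.span {algebraMap A B t}) (τ b) =
      σ (Ideal.Quotient.mk (Ideal.span {algebraMap A B t}) b))
    (hτ0 : ∀ b : B, τ b - b ∈ (IsLocalRing.maximalIdeal A).map (algebraMap A B)) :
    (∀ η : B ≃ₐ[A] B, (∀ b : B, Ideal.Quotient.mk (Ideal.span {algebraMap A B t}) (η b) =
        σ (Ideal.Quotient.mk (Ideal.span {algebraMap A B t}) b)) →
      ∃! d : Derivation k (B ⧸ (IsLocalRing.maximalIdeal A).map (algebraMap A B))
          (B ⧸ (IsLocalRing.maximalIdeal A).map (algebraMap A B)),
        ∀ b b' : B, Ideal.Quotient.mk ((IsLocalRing.maximalIdeal A).map (algebraMap A B)) b' =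
            d (Ideal.Quotient.mk ((IsLocalRing.maximalIdeal A).map (algebraMap A B)) b) →
          η b = τ b + algebraMap A B t * b') ∧
    (∀ d : Derivation k (B ⧸ (IsLocalRing.maximalIdeal A).map (algebraMap A B))
        (B ⧸ (IsLocalRing.maximalIdeal A).map (algebraMap A B)),
      ∃ η : B ≃ₐ[A] B, (∀ b : B, Ideal.Quotient.mk (Ideal.span {algebraMap A B t}) (η b) =
          σ (Ideal.Quotient.mk (Ideal.span {algebraMap A B t}) b)) ∧
        ∀ b b' : B, Ideal.Quotient.mk ((IsLocalRing.maximalIdeal A).map (algebraMap A B)) b' =
            d (Ideal.Quotient.mk ((IsLocalRing.maximalIdeal A).map (algebraMap A B)) b) →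
          η b = τ b + algebraMap A B t * b') := by
  classical
  set mB : Ideal B := (IsLocalRing.maximalIdeal A).map (algebraMap A B) with hmB
  set tB : B := algebraMap A B t with htB
  -- t kills mB
  have hmt : ∀ x ∈ mB, tB * x = 0 := by
    intro x hx
    refine Submodule.span_induction ?_ ?_ ?_ ?_ hx
    · rintro _ ⟨a, ha, rfl⟩
      rw [htB, ← map_mul, mul_comm, htm a ha, map_zero]
    · exact mul_zero _
    · intro u v _ _ hu hv
      rw [mul_add, hu, hv, add_zero]
    · intro r u _ hu
      rw [smul_eq_mul, mul_left_comm, hu, mul_zero]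
  -- flatness: the annihilator of t in B is mB
  have hflat : ∀ b : B, tB * b = 0 → b ∈ mB := by
    intro b hb
    have h0 : ∑ i : Fin 1, (fun _ : Fin 1 => t) i • (fun _ : Fin 1 => b) i = 0 := by
      rw [Fin.sum_univ_one, Algebra.smul_def]; exact hb
    obtain ⟨n, a, y, hxy, ha⟩ := Module.Flat.isTrivialRelation_of_sum_smul_eq_zero h0
    have hb' : b = ∑ j, a 0 j • y j := hxy 0
    rw [hb']
    refine Ideal.sum_mem _ (fun j _ => ?_)
    rw [Algebra.smul_def]
    refine Ideal.mul_mem_right _ _ (Ideal.mem_map_of_mem _ ?_)
    have haj : t * a 0 j = 0 := by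
      have := ha j
      rw [Fin.sum_univ_one] at this
      exact this
    by_contra hnm
    have hu : IsUnit (a 0 j) := by
      by_contra hnu
      exact hnm ((IsLocalRing.mem_maximalIdeal _).2 hnu)
    exact ht0 (by
      obtain ⟨w, hw⟩ := hu.exists_right_inv
      calc t = t * (a 0 j * w) := by rw [hw, mul_one]
        _ = (t * a 0 j) * w := by ring
        _ = 0 := by rw [haj, zero_mul])
  have htmem : tB ∈ mB := Ideal.mem_map_of_mem _ ht
  have hcancel : ∀ u v : B, tB * u = tB * v →
      Ideal.Quotient.mk mB u = Ideal.Quotient.mk mB v := by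
    intro u v h
    rw [Ideal.Quotient.eq]
    exact hflat _ (by rw [mul_sub, h, sub_self])
  have hcongr : ∀ u v : B, Ideal.Quotient.mk mB u = Ideal.Quotient.mk mB v →
      tB * u = tB * v := by
    intro u v h
    have := hmt _ (Ideal.Quotient.eq.1 h)
    rw [mul_sub] at this; exact sub_eq_zero.1 this
  have htτ : ∀ b, tB * τ b = tB * b := fun b => hcongr _ _ (Ideal.Quotient.eq.2 (hτ0 b))
  have htt : tB * tB = 0 := hmt tB htmem
  have hπ : Function.Surjective (Ideal.Quotient.mk mB) := Ideal.Quotient.mk_surjective
  let s : B ⧸ mB → B := Function.surjInv hπ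
  have hs : ∀ x, Ideal.Quotient.mk mB (s x) = x := Function.surjInv_eq hπ
  have hπk : ∀ (r : k) (b : B), Ideal.Quotient.mk mB (r • b) = r • Ideal.Quotient.mk mB b :=
    fun r b => map_smul (Ideal.Quotient.mkₐ k mB) r b
  have hπalg : ∀ a : A, ∃ r : k, Ideal.Quotient.mk mB (algebraMap A B a) =
      algebraMap k (B ⧸ mB) r := by
    intro a
    obtain ⟨r, hr⟩ := hres a
    refine ⟨r, ?_⟩
    have h1 : algebraMap A B a - algebraMap A B (algebraMap k A r) ∈ mB := by
      rw [← map_sub]; exact Ideal.mem_map_of_mem _ hr
    rw [Ideal.Quotient.eq.2 h1, ← IsScalarTower.algebraMap_apply k A B]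
    rfl
  refine ⟨?_, ?_⟩
  · intro η hη
    have hδ : ∀ b, ∃ c, η b - τ b = tB * c := by
      intro b
      have : η b - τ b ∈ Ideal.span {tB} := by rw [← Ideal.Quotient.eq, hη, hτ]
      obtain ⟨c, hc⟩ := Ideal.mem_span_singleton'.1 this
      exact ⟨c, by rw [← hc, mul_comm]⟩
    choose c hc using hδ
    have hδm : ∀ b ∈ mB, η b - τ b = 0 := by
      intro b hb
      have hP : ∀ r : B, η (r * b) - τ (r * b) = 0 := by
        refine Submodule.span_induction (p := fun u _ => ∀ r : B, η (r * u) - τ (r * u) = 0)
          ?_ ?_ ?_ ?_ hb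
        · rintro _ ⟨a, ha, rfl⟩ r
          rw [mul_comm, ← Algebra.smul_def, map_smul, map_smul, ← smul_sub, hc, Algebra.smul_def,
            ← mul_assoc, htB, ← map_mul, htm a ha, map_zero, zero_mul]
        · intro r
          rw [mul_zero, map_zero, map_zero, sub_self]
        · intro u v _ _ hu hv r
          rw [mul_add, map_add, map_add]
          linear_combination hu r + hv r
        · intro r' u _ hu r
          rw [smul_eq_mul, ← mul_assoc]
          exact hu (r * r')
      have := hP 1
      rwa [one_mul] at this
    have hc_well : ∀ b b', Ideal.Quotient.mk mB b = Ideal.Quotient.mk mB b' →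
        Ideal.Quotient.mk mB (c b) = Ideal.Quotient.mk mB (c b') := by
      intro b b' h
      apply hcancel
      rw [← hc, ← hc]
      have := hδm (b - b') (Ideal.Quotient.eq.1 h)
      rw [map_sub, map_sub] at this
      linear_combination this
    have htη : ∀ b, tB * η b = tB * b := by
      intro b
      apply hcongr
      rw [Ideal.Quotient.eq]
      have h1 : η b - τ b ∈ mB := by rw [hc]; exact Ideal.mul_mem_right _ _ htmem
      have := add_mem h1 (hτ0 b)
      rwa [sub_add_sub_cancel] at this
    have hc_mul : ∀ b b', Ideal.Quotient.mk mB (c (b * b')) =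
        Ideal.Quotient.mk mB (c b) * Ideal.Quotient.mk mB b' +
          Ideal.Quotient.mk mB b * Ideal.Quotient.mk mB (c b') := by
      intro b b'
      rw [← map_mul, ← map_mul, ← map_add]
      apply hcancel
      rw [← hc, map_mul, map_mul]
      have h1 := hc b
      have h2 := hc b'
      have h3 := htη b'
      have h4 := htτ b
      linear_combination (η b') * h1 + (τ b) * h2 + (c b) * h3 + (c b') * h4
    have hc_add : ∀ b b', Ideal.Quotient.mk mB (c (b + b')) =
        Ideal.Quotient.mk mB (c b) + Ideal.Quotient.mk mB (c b') := by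
      intro b b'
      rw [← map_add]
      apply hcancel
      rw [← hc, mul_add, ← hc, ← hc, map_add, map_add]
      ring
    have hc_smul : ∀ (r : k) b, Ideal.Quotient.mk mB (c (r • b)) =
        r • Ideal.Quotient.mk mB (c b) := by
      intro r b
      rw [← hπk]
      apply hcancel
      rw [← hc, mul_smul_comm, ← hc, ← IsScalarTower.algebraMap_smul A r b, map_smul, map_smul,
        IsScalarTower.algebraMap_smul, IsScalarTower.algebraMap_smul, smul_sub]
    let dlin : (B ⧸ mB) →ₗ[k] (B ⧸ mB) :=
      { toFun := fun x => Ideal.Quotient.mk mB (c (s x))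
        map_add' := fun x y => by
          rw [← hc_add]
          apply hc_well
          rw [map_add, hs, hs, hs]
        map_smul' := fun r x => by
          rw [RingHom.id_apply, ← hc_smul]
          apply hc_well
          rw [hπk, hs, hs] }
    have hdlin : ∀ x, dlin x = Ideal.Quotient.mk mB (c (s x)) := fun x => rfl
    let d : Derivation k (B ⧸ mB) (B ⧸ mB) := Derivation.mk' dlin (fun x y => by
      rw [hdlin, hdlin, hdlin, smul_eq_mul, smul_eq_mul,
        hc_well (s (x * y)) (s x * s y) (by rw [map_mul, hs, hs, hs]), hc_mul, hs, hs]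
      ring)
    have hd : ∀ b, d (Ideal.Quotient.mk mB b) = Ideal.Quotient.mk mB (c b) := fun b =>
      hc_well _ _ (hs _)
    refine ⟨d, ?_, ?_⟩
    · intro b b' h
      rw [hd] at h
      rw [hcongr _ _ h, ← hc]
      ring
    · intro d' hd'
      apply Derivation.ext
      intro x
      have h1 := hd' (s x) (s (d' x)) (by rw [hs, hs])
      have h2 : tB * s (d' x) = tB * c (s x) := by
        rw [← hc, h1]; ring
      have h3 := hcancel _ _ h2
      rw [hs] at h3
      exact h3
  · intro d
    let e : B → B := fun b => tB * s (d (Ideal.Quotient.mk mB b))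
    have he : ∀ b b', Ideal.Quotient.mk mB b' = d (Ideal.Quotient.mk mB b) → e b = tB * b' :=
      fun b b' h => hcongr _ _ (by rw [hs, h])
    have he_add : ∀ b c, e (b + c) = e b + e c := by
      intro b c
      rw [he (b + c) (s (d (Ideal.Quotient.mk mB b)) + s (d (Ideal.Quotient.mk mB c)))
        (by rw [map_add, map_add, map_add, hs, hs]), mul_add]
    have he_mul : ∀ b c, e (b * c) = τ b * e c + e b * τ c := by
      intro b c
      rw [he (b * c) (b * s (d (Ideal.Quotient.mk mB c)) + c * s (d (Ideal.Quotient.mk mB b)))
        (by rw [map_add, map_mul, map_mul, hs, hs, map_mul, d.leibniz, smul_eq_mul, smul_eq_mul])]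
      have h1 := htτ b
      have h2 := htτ c
      change _ = τ b * (tB * s (d (Ideal.Quotient.mk mB c))) +
        tB * s (d (Ideal.Quotient.mk mB b)) * τ c
      linear_combination (-(s (d (Ideal.Quotient.mk mB c)))) * h1 -
        (s (d (Ideal.Quotient.mk mB b))) * h2
    have he_alg : ∀ a : A, e (algebraMap A B a) = 0 := by
      intro a
      obtain ⟨r, hr⟩ := hπalg a
      rw [he (algebraMap A B a) 0 (by rw [hr, d.map_algebraMap, map_zero]), mul_zero]
    have hee : ∀ b c, e b * e c = 0 := by
      intro b c
      change tB * _ * (tB * _) = 0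
      calc tB * s (d (Ideal.Quotient.mk mB b)) * (tB * s (d (Ideal.Quotient.mk mB c)))
          = (tB * tB) * (s (d (Ideal.Quotient.mk mB b)) * s (d (Ideal.Quotient.mk mB c))) := by
            ring
        _ = 0 := by rw [htt, zero_mul]
    have he_one : e 1 = 0 := by
      have := he_alg 1
      rwa [map_one] at this
    let ηhom : B →ₐ[A] B :=
      { toFun := fun b => τ b + e b
        map_one' := by rw [map_one, he_one, add_zero]
        map_mul' := fun b c => by
          rw [map_mul, he_mul]
          have := hee b c
          linear_combination (-1 : B) * this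
        map_zero' := by
          have := he_alg 0
          rw [map_zero] at this
          rw [map_zero, this, add_zero]
        map_add' := fun b c => by rw [map_add, he_add]; ring
        commutes' := fun a => by rw [τ.commutes, he_alg, add_zero] }
    have hηhom : ∀ b, ηhom b = τ b + e b := fun b => rfl
    have hπe : ∀ b, Ideal.Quotient.mk mB (e b) = 0 := fun b =>
      Ideal.Quotient.eq_zero_iff_mem.2 (Ideal.mul_mem_right _ _ htmem)
    have hπτ : ∀ b, Ideal.Quotient.mk mB (τ b) = Ideal.Quotient.mk mB b := fun b =>
      Ideal.Quotient.eq.2 (hτ0 b)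
    have hπη : ∀ b, Ideal.Quotient.mk mB (ηhom b) = Ideal.Quotient.mk mB b := fun b => by
      rw [hηhom, map_add, hπe, add_zero, hπτ]
    have he_congr : ∀ b c, Ideal.Quotient.mk mB b = Ideal.Quotient.mk mB c → e b = e c :=
      fun b c h => by change tB * _ = tB * _; rw [h]
    have hbij : Function.Bijective ηhom := by
      constructor
      · rw [injective_iff_map_eq_zero]
        intro b hb
        have h1 : Ideal.Quotient.mk mB b = Ideal.Quotient.mk mB 0 := by
          rw [← hπη, hb]
        have h2 : e b = 0 := by
          rw [he_congr b 0 h1]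
          have := he_alg 0
          rwa [map_zero] at this
        rw [hηhom, h2, add_zero] at hb
        exact (map_eq_zero_iff τ τ.injective).1 hb
      · intro c
        refine ⟨τ.symm (c - e c), ?_⟩
        rw [hηhom, τ.apply_symm_apply]
        have h1 : Ideal.Quotient.mk mB (τ.symm (c - e c)) = Ideal.Quotient.mk mB c := by
          rw [← hπτ, τ.apply_symm_apply, map_sub, hπe, sub_zero]
        rw [he_congr _ _ h1]
        ring
    refine ⟨AlgEquiv.ofBijective ηhom hbij, ?_, ?_⟩
    · intro b
      change Ideal.Quotient.mk _ (τ b + e b) = _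
      rw [map_add, hτ]
      have : Ideal.Quotient.mk (Ideal.span {tB}) (e b) = 0 :=
        Ideal.Quotient.eq_zero_iff_mem.2
          (Ideal.mul_mem_right _ _ (Ideal.mem_span_singleton_self tB))
      rw [this, add_zero]
    · intro b b' h
      change τ b + e b = _
      rw [he b b' h]

end Groth.Agent.S12498
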