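import Groth.Statements.S12524
import Mathlib
-- import your own Groth.Agent.* helpers here

set_option autoImplicit false
universe u v
open CAlg

namespace Groth.Agent.S12524

open IsLocalRing in
/-- Let `A` be a complete discrete valuation ring with maximal ideal `m`, containing a field `K` such
that `K → A → A/m` is bijective (a coefficient field), and let `x` be any generator of `m`. Then the
`K`-algebra map `K[X] → A`, `X ↦ x`, extends to a bijective `K`-algebra map `φ : K⟦X⟧ → A`,
characterised by `φ(∑ aᵢ Xⁱ) ≡ ∑_{i<n} aᵢ xⁱ (mod mⁿ)` for every `n`. -/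
theorem result (K : Type u) (A : Type v) [Field K]
    [CommRing A] [IsDomain A] [IsDiscreteValuationRing A] [Algebra K A]
    [IsAdicComplete (maximalIdeal A) A]
    (hK : Function.Bijective ((residue A).comp (algebraMap K A)))
    (x : A) (hx : maximalIdeal A = Ideal.span {x}) :
    ∃ φ : PowerSeries K →ₐ[K] A, φ PowerSeries.X = x ∧ Function.Bijective φ ∧
      ∀ (f : PowerSeries K) (n : ℕ),
        φ f - (Finset.range n).sum (fun i => algebraMap K A (PowerSeries.coeff i f) * x ^ i) ∈
          maximalIdeal A ^ n := by
  classical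
  let _ : WithIdeal A := ⟨maximalIdeal A⟩
  let _ : UniformSpace K := ⊥
  have : DiscreteTopology K := ⟨rfl⟩
  have : IsUniformAddGroup K := inferInstance
  have : IsTopologicalSemiring K := inferInstance
  have : ContinuousSMul K A := ⟨by
    rw [continuous_prod_of_discrete_left]
    intro c
    simp_rw [Algebra.smul_def]
    exact continuous_const.mul continuous_id⟩
  have hadic : IsAdic (maximalIdeal A) := rfl
  have hc := (IsAdic.isAdicComplete_iff (R := A) (I := maximalIdeal A) hadic).mp inferInstance
  have := hc.1
  have := hc.2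
  have hxm : x ∈ maximalIdeal A := by
    rw [hx]; exact Ideal.mem_span_singleton_self x
  have hxn : PowerSeries.HasEval x := WithIdeal.isTopologicallyNilpotent_of_mem hxm
  have hpow : ∀ n, maximalIdeal A ^ n = Ideal.span {x ^ n} := by
    intro n; rw [hx, Ideal.span_singleton_pow]
  have hx0 : x ≠ 0 := by
    intro h0
    apply IsDiscreteValuationRing.not_a_field A
    rw [hx, h0, Ideal.span_singleton_eq_bot]
  -- the congruence
  have hcong : ∀ (f : PowerSeries K) (n : ℕ),
      PowerSeries.aeval hxn f -
        (Finset.range n).sum (fun i => algebraMap K A (PowerSeries.coeff i f) * x ^ i) ∈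
          maximalIdeal A ^ n := by
    intro f n
    have hs := (PowerSeries.hasSum_aeval hxn f).tendsto_sum_nat
    have hs' : ∀ i, ∃ N, ∀ m, N ≤ m →
        (Finset.range m).sum (fun d => PowerSeries.coeff d f • x ^ d) - PowerSeries.aeval hxn f ∈
          maximalIdeal A ^ i := by
      simpa [(hadic.hasBasis_nhds _).tendsto_right_iff, sub_eq_neg_add] using hs
    obtain ⟨N, hN⟩ := hs' n
    have h1 := hN (max N n) (le_max_left _ _)
    have h2 : (Finset.range (max N n)).sum (fun d => PowerSeries.coeff d f • x ^ d) -
        (Finset.range n).sum (fun i => algebraMap K A (PowerSeries.coeff i f) * x ^ i) ∈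
          maximalIdeal A ^ n := by
      rw [← Finset.sum_range_add_sum_Ico _ (le_max_right N n)]
      simp_rw [Algebra.smul_def]
      rw [add_sub_cancel_left]
      refine Ideal.sum_mem _ fun i hi => ?_
      refine Ideal.mul_mem_left _ _ ?_
      exact Ideal.pow_le_pow_right (Finset.mem_Ico.mp hi).1 (Ideal.pow_mem_pow hxm i)
    have := Ideal.sub_mem _ h2 h1
    rwa [sub_sub_sub_cancel_left] at this
  refine ⟨PowerSeries.aeval hxn, ?_, ⟨?_, ?_⟩, hcong⟩
  · rw [PowerSeries.coe_aeval, PowerSeries.eval₂_X]
  · -- injective
    rw [injective_iff_map_eq_zero]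
    intro f hf
    by_contra hne
    obtain ⟨n, hn, hmin⟩ : ∃ n, PowerSeries.coeff n f ≠ 0 ∧ ∀ i < n, PowerSeries.coeff i f = 0 := by
      have hex : ∃ n, PowerSeries.coeff n f ≠ 0 := by
        by_contra hall
        push Not at hall
        exact hne (PowerSeries.ext hall)
      exact ⟨Nat.find hex, Nat.find_spec hex, fun i hi => not_not.mp (Nat.find_min hex hi)⟩
    have h1 := hcong f (n + 1)
    rw [hf, zero_sub, neg_mem_iff, Finset.sum_range_succ,
      Finset.sum_eq_zero (fun i hi => by rw [hmin i (Finset.mem_range.mp hi), map_zero, zero_mul]),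
      zero_add, hpow, Ideal.mem_span_singleton'] at h1
    obtain ⟨b, hb⟩ := h1
    rw [pow_succ, ← mul_assoc, mul_comm _ (x ^ n)] at hb
    have hb' : b * x = algebraMap K A (PowerSeries.coeff n f) :=
      mul_left_cancel₀ (pow_ne_zero n hx0) (by rw [← mul_assoc]; exact hb.trans (mul_comm _ _))
    have hmem : algebraMap K A (PowerSeries.coeff n f) ∈ maximalIdeal A := by
      rw [← hb', hx]
      exact Ideal.mul_mem_left _ _ (Ideal.mem_span_singleton_self x)
    have hres : ((residue A).comp (algebraMap K A)) (PowerSeries.coeff n f) = 0 := by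
      rw [RingHom.comp_apply]
      exact (residue_eq_zero_iff _).mpr hmem
    exact hn (hK.1 (hres.trans (map_zero _).symm))
  · -- surjective
    intro y
    obtain ⟨c, hcdef⟩ : ∃ c : A → K, ∀ z, residue A (algebraMap K A (c z)) = residue A z := by
      refine ⟨fun z => (hK.2 (residue A z)).choose, fun z => ?_⟩
      exact (hK.2 (residue A z)).choose_spec
    have hstep : ∀ z : A, ∃ b, z - algebraMap K A (c z) = x * b := by
      intro z
      have : z - algebraMap K A (c z) ∈ maximalIdeal A := by
        rw [← residue_eq_zero_iff, map_sub, hcdef, sub_self]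
      rw [hx, Ideal.mem_span_singleton'] at this
      obtain ⟨b, hb⟩ := this
      exact ⟨b, by rw [← hb, mul_comm]⟩
    choose nxt hnxt using hstep
    obtain ⟨ys, hys⟩ : ∃ ys : ℕ → A, ys = fun n => nxt^[n] y := ⟨_, rfl⟩
    have hys0 : ys 0 = y := by rw [hys]; rfl
    have hyss : ∀ n, ys (n + 1) = nxt (ys n) := by
      intro n; rw [hys]; exact Function.iterate_succ_apply' nxt n y
    have hrec : ∀ n, y - (Finset.range n).sum (fun i => algebraMap K A (c (ys i)) * x ^ i) =
        x ^ n * ys n := by
      intro n
      induction n with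
      | zero => simp [hys0]
      | succ n ih =>
        rw [Finset.sum_range_succ, ← sub_sub, ih, hyss, pow_succ, mul_assoc, ← hnxt]
        ring
    refine ⟨PowerSeries.mk fun i => c (ys i), ?_⟩
    have hH : IsHausdorff (maximalIdeal A) A := inferInstance
    rw [← sub_eq_zero]
    apply hH.haus'
    intro n
    rw [SModEq.zero, smul_eq_mul, Ideal.mul_top]
    have h1 := hcong (PowerSeries.mk fun i => c (ys i)) n
    simp only [PowerSeries.coeff_mk] at h1
    have h2 : y - (Finset.range n).sum (fun i => algebraMap K A (c (ys i)) * x ^ i) ∈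
        maximalIdeal A ^ n := by
      rw [hrec, hpow]
      exact Ideal.mul_mem_right _ _ (Ideal.mem_span_singleton_self _)
    have := Ideal.sub_mem _ h1 h2
    rwa [sub_sub_sub_cancel_right] at this

end Groth.Agent.S12524
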