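import Groth.Statements.S12532
import Groth.Agent.Lib.Helper18.FF.Semilocal
open Groth.Agent.Lib.Helper18.FF

set_option autoImplicit false
open FunFld

namespace Groth.Agent.S12532

/-- Over an algebraically closed field `k`, let `φ = (φ₀, …, φₙ)`, `n ≥ 1`, be a birational projective
map of the function field `K/k` and `P` a place with image point `a = φ(P)`. Then for some `N`,
every `z ∈ K` with `ord_Q z ≥ N` at all places `Q` over `a` belongs to the local ring `O_a` of `φ`
at `P` (quotients of polynomials in the ratios `φᵢ/φⱼ` with denominator a unit at `P`). (The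
published statement asserts that each nonzero ideal of `O_a` includes some nonzero ideal of the
integral closure `R_a`, with `R_a/I` finite-dimensional; this row states the inclusion the printed
proof establishes, from which those follow.) -/
theorem result (k K : Type*) [Field k] [IsAlgClosed k] [Field K] [Algebra k K]
    (hK : FunFld.IsFunctionField k K) {n : ℕ} (hn : 1 ≤ n)
    (φ : Fin (n + 1) → K) (hφ : LinearIndependent k φ)
    (hbir : IntermediateField.adjoin k (Set.range fun i => φ i / φ 0) = ⊤) (P : FunFld.Place k K) :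
    ∃ N : ℕ, ∀ z : K, (∀ Q : FunFld.Place k K, FunFld.SameImage φ P Q → Q.1 z ≤ WithZero.exp (-(N : ℤ))) →
      FunFld.InLocRing φ P z := by
  classical
  obtain ⟨j, hjmax⟩ := Finite.exists_max (fun i => P.1 (φ i))
  have hj0 : φ j ≠ 0 := hφ.ne_zero j
  obtain ⟨f, hfA, hf0, hf⟩ := conductor_chart hK hn φ hφ hbir j
  refine ⟨∑ Q ∈ (FunFld.div k f).support, (FunFld.div k f Q).natAbs, fun z hz => ?_⟩
  have hbound : ∀ Q : FunFld.Place k K,
      Q.ord f ≤ ((∑ Q ∈ (FunFld.div k f).support, (FunFld.div k f Q).natAbs : ℕ) : ℤ) := by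
    intro Q
    by_cases hQ : Q ∈ (FunFld.div k f).support
    · have h1 := Finset.single_le_sum (f := fun Q => (FunFld.div k f Q).natAbs)
        (fun _ _ => Nat.zero_le _) hQ
      have h2 : (FunFld.div k f Q) ≤ ((FunFld.div k f Q).natAbs : ℤ) := Int.le_natAbs
      rw [div_apply hK] at h2
      have h3 : (((FunFld.div k f Q).natAbs : ℕ) : ℤ) ≤
          ((∑ Q ∈ (FunFld.div k f).support, (FunFld.div k f Q).natAbs : ℕ) : ℤ) := by
        exact_mod_cast h1
      rw [div_apply hK] at h3
      exact h2.trans h3
    · have h1 : FunFld.div k f Q = 0 := Finsupp.notMem_support_iff.mp hQ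
      rw [div_apply hK] at h1
      rw [h1]
      exact Int.natCast_nonneg _
  obtain ⟨σ, hσA, hσP, hmem⟩ := hf P hjmax (z / f) (by
    intro Q hQ
    have h1 := hz Q hQ
    rw [map_div₀, val_eq_exp_neg_ord Q hf0]
    rw [div_le_iff₀ (zero_lt_iff.mpr WithZero.exp_ne_zero), one_mul]
    refine h1.trans ?_
    rw [WithZero.exp_le_exp]
    have := hbound Q
    omega)
  have heq : f * σ * (z / f) = σ * z := by
    field_simp
  rw [heq] at hmem
  exact ⟨j, hj0, hjmax, σ * z, hmem, σ, hσA, hσP, mul_comm _ _⟩

end Groth.Agent.S12532
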