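import Groth.Statements.S12545
import Groth.Agent.Lib.Helper5.GitMu

set_option autoImplicit false
universe u
open TensorProduct LaurentPolynomial
open GIT

namespace Groth.Agent.S12545

/-- Let a commutative bialgebra A over a field k coact linearly on affine ι-space, let λ be a
one-parameter subgroup (a bialgebra map to the Laurent polynomial ring) and v ≠ 0 a vector; write
μ(v, λ) = m when t^m · (v moved by λ(t)) extends to the affine line with non-zero value at t = 0.
Then v moved by λ(t) has no limit as t → 0 exactly when μ(v, λ) > 0, has a limit different from the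
origin exactly when μ(v, λ) = 0, and tends to the origin exactly when μ(v, λ) < 0. -/
theorem result (k : Type u) [Field k] (A : Type u) [CommRing A] [Bialgebra k A]
    (ι : Type u) [Fintype ι] [HopfRep.Comod k A (MvPolynomial ι k)] [GLin.IsCoactAlg k A (MvPolynomial ι k)]
    (hlin : GLin.IsLinear k A ι) (lam : A →ₐc[k] k[T;T⁻¹]) (v : ι → k) (hv : v ≠ 0) :
    (¬ GLin.HasLimit k A lam (GLin.vecPt k ι v) ↔ ∃ m : ℤ, GLin.IsMu k A lam v m ∧ 0 < m) ∧
      ((GLin.HasLimit k A lam (GLin.vecPt k ι v) ∧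
          ¬ GLin.IsLimit k A lam (GLin.vecPt k ι v) (GLin.vecPt k ι (fun _ => (0 : k)))) ↔
        GLin.IsMu k A lam v 0) ∧
      (GLin.IsLimit k A lam (GLin.vecPt k ι v) (GLin.vecPt k ι (fun _ => (0 : k))) ↔
        ∃ m : ℤ, GLin.IsMu k A lam v m ∧ m < 0) := by
  obtain ⟨μ, hμ⟩ := Lib.Helper5.GitMu.exists_isMuFam _
    (Lib.Helper5.GitMu.exists_cfam_ne_zero (A := A) lam hv)
  have huniq : ∀ m, GLin.IsMu k A lam v m ↔ m = μ := by
    intro m
    rw [Lib.Helper5.GitMu.isMu_iff]
    constructor
    · intro h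
      exact Lib.Helper5.GitMu.isMuFam_unique h hμ
    · rintro rfl
      exact hμ
  rw [Lib.Helper5.GitMu.hasLimit_iff, Lib.Helper5.GitMu.isLimit_zero_iff]
  refine ⟨?_, ?_, ?_⟩
  · rw [Lib.Helper5.GitMu.hasLimFam_iff hμ]
    constructor
    · intro h
      exact ⟨μ, (huniq μ).mpr rfl, by omega⟩
    · rintro ⟨m, hm, hpos⟩
      rw [(huniq m).mp hm] at hpos
      omega
  · rw [Lib.Helper5.GitMu.isMuFam_zero_iff hμ, huniq]
    exact eq_comm
  · rw [Lib.Helper5.GitMu.limZeroFam_iff hμ]
    constructor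
    · intro h
      exact ⟨μ, (huniq μ).mpr rfl, h⟩
    · rintro ⟨m, hm, hneg⟩
      rw [(huniq m).mp hm] at hneg
      exact hneg

end Groth.Agent.S12545
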