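import Groth.Statements.S12550
import Mathlib.LinearAlgebra.FiniteDimensional.Lemmas
-- import your own Groth.Agent.* helpers here

set_option autoImplicit false
universe u
open GIT

namespace Groth.Agent.S12550

/-- Let V be a finite-dimensional vector space over a field K and x_0, …, x_m non-zero vectors, a
configuration of m + 1 points of the projective space P(V). If for every subspace L with 0 ≠ L ≠ V
the number of indices i with x_i ∈ L, multiplied by dim V, is less than dim L · (m + 1) (the
configuration is stable), then no two proper subspaces L', L'' with L' ∩ L'' = 0 contain between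
them all the x_i. -/
theorem result (K : Type u) [Field K]
    (V : Type u) [AddCommGroup V] [Module K V] [FiniteDimensional K V]
    (m : ℕ) (x : Fin (m + 1) → V) (hx : ∀ i, x i ≠ 0)
    (hst : ∀ L : Submodule K V, L ≠ ⊥ → L ≠ ⊤ →
      Set.ncard {i : Fin (m + 1) | x i ∈ L} * Module.finrank K V < Module.finrank K L * (m + 1)) :
    ¬ ∃ L' L'' : Submodule K V, L' ≠ ⊤ ∧ L'' ≠ ⊤ ∧ Disjoint L' L'' ∧ ∀ i, x i ∈ L' ∨ x i ∈ L'' := by
  rintro ⟨L', L'', hL', hL'', hdisj, hcov⟩
  -- helper: if all x i ∈ L with L ≠ ⊤ then contradiction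
  have hall : ∀ L : Submodule K V, L ≠ ⊤ → (∀ i, x i ∈ L) → False := by
    intro L hL hx'
    have hLbot : L ≠ ⊥ := by
      intro h
      have := hx' 0
      rw [h, Submodule.mem_bot] at this
      exact hx 0 this
    have h1 := hst L hLbot hL
    have h2 : {i : Fin (m + 1) | x i ∈ L} = Set.univ := by
      ext i; simp [hx' i]
    rw [h2, Set.ncard_univ, Nat.card_fin] at h1
    have h3 : Module.finrank K L ≤ Module.finrank K V := Submodule.finrank_le L
    nlinarith
  by_cases hb' : L' = ⊥
  · refine hall L'' hL'' fun i => ?_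
    rcases hcov i with h | h
    · rw [hb', Submodule.mem_bot] at h
      exact absurd h (hx i)
    · exact h
  by_cases hb'' : L'' = ⊥
  · refine hall L' hL' fun i => ?_
    rcases hcov i with h | h
    · exact h
    · rw [hb'', Submodule.mem_bot] at h
      exact absurd h (hx i)
  have h1 := hst L' hb' hL'
  have h2 := hst L'' hb'' hL''
  have h3 : Module.finrank K L' + Module.finrank K L'' ≤ Module.finrank K V :=
    Submodule.finrank_add_finrank_le_of_disjoint hdisj
  have h4 : m + 1 ≤ Set.ncard {i : Fin (m + 1) | x i ∈ L'} + Set.ncard {i : Fin (m + 1) | x i ∈ L''} := by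
    have hU : {i : Fin (m + 1) | x i ∈ L'} ∪ {i : Fin (m + 1) | x i ∈ L''} = Set.univ := by
      ext i
      simp only [Set.mem_union, Set.mem_ofPred_eq, Set.mem_univ, iff_true]
      exact hcov i
    have := Set.ncard_union_le {i : Fin (m + 1) | x i ∈ L'} {i : Fin (m + 1) | x i ∈ L''}
    rw [hU, Set.ncard_univ, Nat.card_fin] at this
    exact this
  nlinarith

end Groth.Agent.S12550
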