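import Groth.Statements.S12555
-- import your own Groth.Agent.* helpers here
import Groth.Agent.Lib.Helper26.ComodReynolds2

set_option autoImplicit false
universe u
open TensorProduct
open GIT

namespace Groth.Agent.S12555

/-- Let k be a field, G = Spec A a linearly reductive affine group (A a commutative Hopf algebra whose
finite-dimensional comodules are all semisimple) and V a representation of G of any dimension (an
A-comodule). Then there is exactly one linear map E : V → V commuting with the coaction, with E ∘ E
= E, and with E x = x exactly for the invariant vectors x. -/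
theorem result (k : Type u) [Field k] (A : Type u) [CommRing A] [HopfAlgebra k A]
    (hG : HopfRep.IsLinearlyReductive k A) (V : Type u) [AddCommGroup V] [Module k V] [HopfRep.Comod k A V] :
    ∃! E : V →ₗ[k] V, Hoch.IsComodHom A E ∧ E ∘ₗ E = E ∧ ∀ x : V, E x = x ↔ x ∈ HopfRep.fixedPts k A V := by
  obtain ⟨I, hI, hI1⟩ := Groth.Agent.Lib.Helper26.Comod.exists_isIntegral hG
  obtain ⟨E, h1, h2, h3⟩ := Groth.Agent.Lib.Helper26.Comod.exists_isReynolds hG V
  refine ⟨E, ⟨h1, h2, h3⟩, ?_⟩
  rintro E' ⟨h1', h2', h3'⟩
  rw [Groth.Agent.Lib.Helper26.Comod.eq_reyn_of_isReynolds hI hI1 E h1 h2 h3,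
    Groth.Agent.Lib.Helper26.Comod.eq_reyn_of_isReynolds hI hI1 E' h1' h2' h3']

end Groth.Agent.S12555
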