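import Groth.Statements.S12557
-- import your own Groth.Agent.* helpers here
import Groth.Agent.Lib.Helper26.ComodIntegral
import Groth.Agent.Lib.Helper23.Reynolds

set_option autoImplicit false
universe u
open TensorProduct
open GIT

namespace Groth.Agent.S12557

/-- Let k be a field, G = Spec A a linearly reductive affine group (A a commutative Hopf algebra whose
finite-dimensional comodules are all semisimple) acting on the affine scheme Spec R, R_0 ⊆ R the
ring of invariants, and (𝔄_i) a family of ideals of R each stable under the coaction. Then the sum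
of the 𝔄_i meets R_0 in the sum of the intersections 𝔄_i ∩ R_0. -/
theorem result (k : Type u) [Field k] (A : Type u) [CommRing A] [HopfAlgebra k A]
    (hG : HopfRep.IsLinearlyReductive k A)
    (R : Type u) [CommRing R] [Algebra k R] [HopfRep.Comod k A R] [GLin.IsCoactAlg k A R]
    (ι : Type u) (𝔄 : ι → Ideal R) (h𝔄 : ∀ i, HopfRep.IsSubcomod (k := k) (A := A) ((𝔄 i).restrictScalars k)) :
    (⨆ i, (𝔄 i).restrictScalars k) ⊓ Subalgebra.toSubmodule (GLin.invariants k A R) =
      ⨆ i, ((𝔄 i).restrictScalars k ⊓ Subalgebra.toSubmodule (GLin.invariants k A R)) := by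
  obtain ⟨α, hα, hα1⟩ := Groth.Agent.Lib.Helper26.Comod.exists_comodHom_unit hG R
  apply le_antisymm
  · rintro x ⟨hx1, hx2⟩
    have hE : ∀ y ∈ ⨆ i, (𝔄 i).restrictScalars k, TameAct.reynolds k A R R α y ∈
        ⨆ i, ((𝔄 i).restrictScalars k ⊓ Subalgebra.toSubmodule (GLin.invariants k A R)) := by
      intro y hy
      induction hy using Submodule.iSup_induction' with
      | mem i y hy =>
        apply Submodule.mem_iSup_of_mem i
        exact ⟨Groth.Agent.Lib.Helper23.reynolds_mem_of_isSubcomod (𝔄 i) (h𝔄 i) y hy,
          Groth.Agent.Lib.Helper23.reynolds_mem_invariants hα y⟩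
      | zero => rw [map_zero]; exact Submodule.zero_mem _
      | add y z _ _ hy hz => rw [map_add]; exact Submodule.add_mem _ hy hz
    have := hE x hx1
    rwa [Groth.Agent.Lib.Helper23.reynolds_of_mem_invariants hα1 x hx2] at this
  · exact le_inf (iSup_mono fun i => inf_le_left) (iSup_le fun i => inf_le_right)

end Groth.Agent.S12557
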