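import Groth.Statements.S13787
import Mathlib.Algebra.Polynomial.Laurent

set_option autoImplicit false
universe u
open CAlg

namespace Groth.Agent.S13787

open LaurentPolynomial

section laurent
variable (A : Type*) [CommRing A]

/-- `T e` as a unit, as a homomorphism from `ℤ` -/
noncomputable def Tunit : Multiplicative ℤ →* (A[T;T⁻¹])ˣ where
  toFun e := ⟨T e.toAdd, T (-e.toAdd), by rw [← T_add]; simp, by rw [← T_add]; simp⟩
  map_one' := by ext; simp
  map_mul' a b := by
    ext : 1
    exact T_add (R := A) a.toAdd b.toAdd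

theorem Tunit_zpow (e : ℤ) : (Tunit A (Multiplicative.ofAdd 1)) ^ e = Tunit A (Multiplicative.ofAdd e) := by
  rw [← map_zpow, ← ofAdd_zsmul, smul_eq_mul, mul_one]

theorem Tunit_val (e : ℤ) : ((Tunit A (Multiplicative.ofAdd e) : (A[T;T⁻¹])ˣ) : A[T;T⁻¹]) = T e := rfl

theorem T_injective [Nontrivial A] : Function.Injective (T : ℤ → A[T;T⁻¹]) := by
  intro a b h
  have := congrArg (fun f : A[T;T⁻¹] => f.coeff b) h
  simp only [T_apply] at this
  by_contra hne
  simp [hne] at this

end laurent


/-- Let A be a nonzero commutative ring and n ≥ 1, let det be the determinant of the generic n × n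
matrix in the polynomial ring A[X] in its n² entries, and let A[X, 1/det] be the localization at det
(the coordinate ring of GL_n over A). The homomorphism Aˣ × ℤ → (A[X, 1/det])ˣ sending (a, e) to a ·
det^e is injective. (The published statement takes the exponent in the group of locally constant
ℤ-valued functions on Spec A, which also covers A = 0; with integer exponents as here, A must be
nonzero and n ≥ 1.) -/
theorem result (A : Type u) [CommRing A] [Nontrivial A] (n : ℕ) (hn : 0 < n) :
    Function.Injective (fun p : Aˣ × ℤ =>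
        Units.map (algebraMap A (Localization.Away (Matrix.mvPolynomialX (Fin n) (Fin n) A).det)).toMonoidHom p.1 *
          (IsLocalization.Away.algebraMap_isUnit (S := Localization.Away (Matrix.mvPolynomialX (Fin n) (Fin n) A).det)
            (Matrix.mvPolynomialX (Fin n) (Fin n) A).det).unit ^ p.2) := by
  classical
  set d := (Matrix.mvPolynomialX (Fin n) (Fin n) A).det with hd
  -- φ₁ : evaluation at the identity matrix
  let g₁ : MvPolynomial (Fin n × Fin n) A →+* A :=
    MvPolynomial.eval (fun p => (1 : Matrix (Fin n) (Fin n) A) p.1 p.2)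
  have hg₁ : g₁ d = 1 := by
    rw [hd, RingHom.map_det, Matrix.mvPolynomialX_mapMatrix_eval, Matrix.det_one]
  let φ₁ : Localization.Away d →+* A :=
    IsLocalization.Away.lift d (g := g₁) (by rw [hg₁]; exact isUnit_one)
  -- φ₂ : evaluation at diag(T,1,…,1)
  let M : Matrix (Fin n) (Fin n) A[T;T⁻¹] :=
    Matrix.diagonal (fun i => if i = ⟨0, hn⟩ then T 1 else 1)
  let g₂ : MvPolynomial (Fin n × Fin n) A →+* A[T;T⁻¹] :=
    (MvPolynomial.aeval (fun p : Fin n × Fin n => M p.1 p.2)).toRingHom
  have hg₂ : g₂ d = T 1 := by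
    rw [hd, RingHom.map_det]
    have : g₂.mapMatrix (Matrix.mvPolynomialX (Fin n) (Fin n) A) = M :=
      Matrix.mvPolynomialX_mapMatrix_aeval A M
    rw [this, Matrix.det_diagonal, Finset.prod_ite_eq' Finset.univ (⟨0, hn⟩ : Fin n)]
    simp
  let φ₂ : Localization.Away d →+* A[T;T⁻¹] :=
    IsLocalization.Away.lift d (g := g₂) (by rw [hg₂]; exact isUnit_T 1)
  set u := (IsLocalization.Away.algebraMap_isUnit (S := Localization.Away d) d).unit with hu
  have hu₁ : Units.map φ₁.toMonoidHom u = 1 := by
    ext
    change φ₁ (algebraMap _ _ d) = 1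
    rw [IsLocalization.Away.lift_eq, hg₁]
  have hu₂ : Units.map φ₂.toMonoidHom u = Tunit A (Multiplicative.ofAdd 1) := by
    ext : 1
    change φ₂ (algebraMap _ _ d) = T 1
    rw [IsLocalization.Away.lift_eq, hg₂]
  have ha₁ : ∀ a : Aˣ, Units.map φ₁.toMonoidHom
      (Units.map (algebraMap A (Localization.Away d)).toMonoidHom a) = a := by
    intro a
    ext
    change φ₁ (algebraMap A (Localization.Away d) a) = a
    rw [IsScalarTower.algebraMap_apply A (MvPolynomial (Fin n × Fin n) A) (Localization.Away d),
      IsLocalization.Away.lift_eq]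
    simp [g₁]
  rintro ⟨a, e⟩ ⟨a', e'⟩ h
  simp only at h
  have h1 := congrArg (Units.map φ₁.toMonoidHom) h
  rw [map_mul, map_mul, map_zpow, map_zpow, hu₁, one_zpow, one_zpow, mul_one, mul_one, ha₁, ha₁] at h1
  subst h1
  have h2 := mul_left_cancel h
  have h3 := congrArg (Units.map φ₂.toMonoidHom) h2
  rw [map_zpow, map_zpow, hu₂, Tunit_zpow, Tunit_zpow] at h3
  have h4 := congrArg (fun x : (A[T;T⁻¹])ˣ => (x : A[T;T⁻¹])) h3
  simp only [Tunit_val] at h4
  rw [T_injective A h4]

end Groth.Agent.S13787
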