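import Groth.Statements.S13788
import Mathlib
import Groth.Agent.S13785
import Groth.Agent.S13787
import Groth.Agent.Lib.Helper4.GenericDet
-- import your own Groth.Agent.* helpers here

set_option autoImplicit false
set_option linter.unusedSectionVars false
set_option linter.style.haveILetI false
set_option linter.unusedVariables false
universe u
open CAlg

namespace Groth.Agent.S13788

open MvPolynomial

section basics
variable (A : Type u) [CommRing A] (n : ℕ)

/-- the generic determinant -/
noncomputable abbrev dd : MvPolynomial (Fin n × Fin n) A := (Matrix.mvPolynomialX (Fin n) (Fin n) A).det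

variable {A} in
lemma map_dd {B : Type u} [CommRing B] (f : A →+* B) : MvPolynomial.map f (dd A n) = dd B n := by
  unfold dd
  rw [RingHom.map_det]
  congr 1
  ext i j : 2
  simp

/-- evaluation at the identity matrix -/
noncomputable def ev1 : MvPolynomial (Fin n × Fin n) A →+* A :=
  MvPolynomial.eval (fun p => (1 : Matrix (Fin n) (Fin n) A) p.1 p.2)

lemma ev1_dd : ev1 A n (dd A n) = 1 := by
  unfold ev1 dd
  rw [RingHom.map_det, Matrix.mvPolynomialX_mapMatrix_eval, Matrix.det_one]

lemma ev1_C (a : A) : ev1 A n (C a) = a := by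
  simp [ev1]

variable {A} in
lemma ev1_map {B : Type u} [CommRing B] (f : A →+* B) (P : MvPolynomial (Fin n × Fin n) A) :
    ev1 B n (MvPolynomial.map f P) = f (ev1 A n P) := by
  unfold ev1
  rw [MvPolynomial.eval_map, MvPolynomial.eval, MvPolynomial.coe_eval₂Hom,
    MvPolynomial.eval₂_comp_left f]
  congr 1
  ext p
  simp [Matrix.one_apply]

/-- evaluation at the scalar matrix `X • 1` -/
noncomputable def sc : MvPolynomial (Fin n × Fin n) A →+* Polynomial A :=
  (MvPolynomial.aeval (fun p : Fin n × Fin n =>
    (Matrix.diagonal (fun _ : Fin n => (Polynomial.X : Polynomial A))) p.1 p.2)).toRingHom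

lemma sc_dd : sc A n (dd A n) = Polynomial.X ^ n := by
  unfold sc dd
  rw [RingHom.map_det]
  have : (MvPolynomial.aeval (fun p : Fin n × Fin n =>
      (Matrix.diagonal (fun _ : Fin n => (Polynomial.X : Polynomial A))) p.1 p.2)).toRingHom.mapMatrix
      (Matrix.mvPolynomialX (Fin n) (Fin n) A) =
      Matrix.diagonal (fun _ : Fin n => (Polynomial.X : Polynomial A)) :=
    Matrix.mvPolynomialX_mapMatrix_aeval A _
  rw [this, Matrix.det_diagonal]
  simp

lemma sc_C (a : A) : sc A n (C a) = Polynomial.C a := by
  simp [sc]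

variable {A} in
lemma sc_map {B : Type u} [CommRing B] (f : A →+* B) (P : MvPolynomial (Fin n × Fin n) A) :
    sc B n (MvPolynomial.map f P) = Polynomial.map f (sc A n P) := by
  induction P using MvPolynomial.induction_on with
  | C a => simp [sc]
  | add p q hp hq => simp only [map_add, hp, hq, Polynomial.map_add]
  | mul_X p i hp =>
    simp only [map_mul, hp, Polynomial.map_mul, MvPolynomial.map_X]
    congr 1
    simp only [sc, AlgHom.toRingHom_eq_coe, RingHom.coe_coe, aeval_X, Matrix.diagonal_apply]
    split_ifs <;> simp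

end basics

section field
variable (κ : Type u) [Field κ] (n : ℕ) (hn : 0 < n)

include hn in
lemma field_factor (P Q : MvPolynomial (Fin n × Fin n) κ) (N : ℕ) (h : P * Q = dd κ n ^ N) :
    ∃ i ≤ N, P = C (ev1 κ n P) * dd κ n ^ i := by
  have hirr : Irreducible (dd κ n) := Groth.Agent.Lib.Helper4.GenericDet.main κ n hn
  have hprime : Prime (dd κ n) := hirr.prime
  have hdvd : P ∣ dd κ n ^ N := ⟨Q, h.symm⟩
  obtain ⟨i, hi, hass⟩ := (dvd_prime_pow hprime N).1 hdvd
  obtain ⟨w, hw⟩ := hass
  obtain ⟨r, hr, hwr⟩ := (MvPolynomial.isUnit_iff_eq_C_of_isReduced (P := (w : MvPolynomial (Fin n × Fin n) κ))).1 w.isUnit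
  rw [hwr] at hw
  have h1 : ev1 κ n P * r = 1 := by
    have := congrArg (ev1 κ n) hw
    rw [map_mul, ev1_C, map_pow, ev1_dd, one_pow] at this
    exact this
  refine ⟨i, hi, ?_⟩
  rw [← hw, mul_comm P, ← mul_assoc, ← C_mul, h1, C_1, one_mul]

end field


section key
variable (A : Type u) [CommRing A] [Nontrivial A] [IsReduced A]
  (hconn : ∀ e : A, IsIdempotentElem e → e = 0 ∨ e = 1) (n : ℕ) (hn : 0 < n)

lemma eq_zero_of_mem_primes (x : A) (h : ∀ (p : Ideal A) [p.IsPrime], x ∈ p) : x = 0 := by
  have : IsNilpotent x := nilpotent_iff_mem_prime.2 fun J hJ => @h J hJ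
  exact this.eq_zero

lemma mv_eq_zero_of_map (P : MvPolynomial (Fin n × Fin n) A)
    (h : ∀ (p : Ideal A) [p.IsPrime], MvPolynomial.map (algebraMap A p.ResidueField) P = 0) :
    P = 0 := by
  ext m
  rw [coeff_zero]
  apply eq_zero_of_mem_primes
  intro p _
  have := congrArg (coeff m) (h p)
  rw [coeff_map, coeff_zero, Ideal.algebraMap_residueField_eq_zero] at this
  exact this

include hconn hn in
lemma key (P Q : MvPolynomial (Fin n × Fin n) A) (N : ℕ) (h : P * Q = dd A n ^ N) :
    ∃ i ≤ N, P = C (ev1 A n P) * dd A n ^ i := by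
  classical
  set a := ev1 A n P with ha
  set b := ev1 A n Q with hb
  have hab : a * b = 1 := by
    have := congrArg (ev1 A n) h
    rw [map_mul, map_pow, ev1_dd, one_pow] at this
    exact this
  -- per-prime factorisation
  have hF : ∀ (p : Ideal A) [p.IsPrime], ∃ i ≤ N,
      MvPolynomial.map (algebraMap A p.ResidueField) P =
        C (algebraMap A p.ResidueField a) * dd p.ResidueField n ^ i := by
    intro p _
    have h' := congrArg (MvPolynomial.map (algebraMap A p.ResidueField)) h
    rw [map_mul, map_pow, map_dd] at h'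
    obtain ⟨i, hi, hP⟩ := field_factor p.ResidueField n hn _ _ N h'
    refine ⟨i, hi, ?_⟩
    rw [ev1_map] at hP
    exact hP
  choose ip hip hPp using hF
  have hane : ∀ (p : Ideal A) [p.IsPrime], algebraMap A p.ResidueField a ≠ 0 := by
    intro p _ h0
    have := congrArg (algebraMap A p.ResidueField) hab
    rw [map_mul, h0, zero_mul, map_one] at this
    exact zero_ne_one this
  -- coefficients of `sc P`
  have hcoeff : ∀ (p : Ideal A) [p.IsPrime] (e : ℕ),
      algebraMap A p.ResidueField ((sc A n P).coeff e) =
        if e = n * ip p then algebraMap A p.ResidueField a else 0 := by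
    intro p _ e
    have h1 := congrArg (sc p.ResidueField n) (hPp p)
    rw [sc_map, map_mul, sc_C, map_pow, sc_dd, ← pow_mul] at h1
    have h2 := congrArg (fun f => Polynomial.coeff f e) h1
    simp only [Polynomial.coeff_map, Polynomial.coeff_C_mul, Polynomial.coeff_X_pow] at h2
    rw [h2]
    split_ifs <;> simp
  -- a base point
  obtain ⟨p0, hp0⟩ := Ideal.exists_maximal A
  haveI : p0.IsPrime := hp0.isPrime
  set e0 := n * ip p0 with he0
  set α := (sc A n P).coeff e0 with hα
  have hα0 : α * (α - a) = 0 := by
    apply eq_zero_of_mem_primes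
    intro p _
    rw [← Ideal.algebraMap_residueField_eq_zero, map_mul, map_sub, hcoeff p e0]
    split_ifs <;> simp
  have hidem : IsIdempotentElem (b * α) := by
    unfold IsIdempotentElem
    have : α * α = α * a := by
      have := hα0; rw [mul_sub, sub_eq_zero] at this; exact this
    calc b * α * (b * α) = b * b * (α * α) := by ring
      _ = b * b * (α * a) := by rw [this]
      _ = b * α * (a * b) := by ring
      _ = b * α := by rw [hab, mul_one]
  have hαa : α = a := by
    rcases hconn _ hidem with h0 | h1
    · exfalso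
      have hα00 : α = 0 := by
        calc α = a * b * α := by rw [hab, one_mul]
          _ = a * (b * α) := by ring
          _ = 0 := by rw [h0, mul_zero]
      have := hcoeff p0 e0
      rw [if_pos he0, ← hα, hα00, map_zero] at this
      exact hane p0 this.symm
    · calc α = a * b * α := by rw [hab, one_mul]
        _ = a * (b * α) := by ring
        _ = a := by rw [h1, mul_one]
  have hconst : ∀ (p : Ideal A) [p.IsPrime], ip p = ip p0 := by
    intro p _
    have := hcoeff p e0
    rw [← hα, hαa] at this
    by_cases hc : e0 = n * ip p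
    · exact (Nat.eq_of_mul_eq_mul_left hn hc).symm
    · rw [if_neg hc] at this
      exact absurd this (hane p)
  refine ⟨ip p0, hip p0, ?_⟩
  rw [← sub_eq_zero]
  apply mv_eq_zero_of_map
  intro p _
  rw [map_sub, map_mul, map_pow, map_dd, map_C, hPp p, hconst p, sub_self]

end key

open scoped LaurentPolynomial in

/-- Units of GL_n: let A be a nonzero commutative ring whose only idempotents are 0 and 1, let n ≥ 1,
let det be the determinant of the generic n × n matrix in the polynomial ring A[X] in its n²
entries, and let A[X, 1/det] be the coordinate ring of GL_n over A. The homomorphism Aˣ × ℤ → (A[X,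
1/det])ˣ, (a, e) ↦ a · det^e, is bijective if and only if A is reduced. (The published statement
allows Spec A disconnected, with exponents locally constant ℤ-valued functions on Spec A; this row
is the connected case, to which the published proof reduces.) -/
theorem result (A : Type u) [CommRing A] [Nontrivial A]
    (hconn : ∀ e : A, IsIdempotentElem e → e = 0 ∨ e = 1) (n : ℕ) (hn : 0 < n) :
    Function.Bijective (fun p : Aˣ × ℤ =>
        Units.map (algebraMap A (Localization.Away (Matrix.mvPolynomialX (Fin n) (Fin n) A).det)).toMonoidHom p.1 *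
          (IsLocalization.Away.algebraMap_isUnit (S := Localization.Away (Matrix.mvPolynomialX (Fin n) (Fin n) A).det)
            (Matrix.mvPolynomialX (Fin n) (Fin n) A).det).unit ^ p.2) ↔ IsReduced A := by
  classical
  set d := (Matrix.mvPolynomialX (Fin n) (Fin n) A).det with hd
  set u := (IsLocalization.Away.algebraMap_isUnit (S := Localization.Away d) d).unit with hu
  have hu_val : (u : Localization.Away d) = algebraMap _ _ d := rfl
  constructor
  · -- bijective ⇒ reduced
    rintro ⟨-, hsurj⟩
    refine ⟨fun ε hε => ?_⟩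
    -- evaluation at diag(T,1,…,1)
    let M : Matrix (Fin n) (Fin n) A[T;T⁻¹] :=
      Matrix.diagonal (fun i => if i = ⟨0, hn⟩ then LaurentPolynomial.T 1 else 1)
    let g₂ : MvPolynomial (Fin n × Fin n) A →+* A[T;T⁻¹] :=
      (MvPolynomial.aeval (fun p : Fin n × Fin n => M p.1 p.2)).toRingHom
    have hg₂ : g₂ d = LaurentPolynomial.T 1 := by
      rw [hd, RingHom.map_det]
      have : g₂.mapMatrix (Matrix.mvPolynomialX (Fin n) (Fin n) A) = M :=
        Matrix.mvPolynomialX_mapMatrix_aeval A M
      rw [this, Matrix.det_diagonal, Finset.prod_ite_eq' Finset.univ (⟨0, hn⟩ : Fin n)]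
      simp
    let φ₂ : Localization.Away d →+* A[T;T⁻¹] :=
      IsLocalization.Away.lift d (g := g₂) (by rw [hg₂]; exact LaurentPolynomial.isUnit_T 1)
    have hu₂ : Units.map φ₂.toMonoidHom u = Groth.Agent.S13787.Tunit A (Multiplicative.ofAdd 1) := by
      ext : 1
      change φ₂ (algebraMap _ _ d) = LaurentPolynomial.T 1
      rw [IsLocalization.Away.lift_eq, hg₂]
    -- the unit `1 + ε X₀₀`
    set w : MvPolynomial (Fin n × Fin n) A := 1 + MvPolynomial.C ε * MvPolynomial.X (⟨0, hn⟩, ⟨0, hn⟩) with hw
    have hwU : IsUnit w := by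
      have : IsNilpotent (MvPolynomial.C ε * MvPolynomial.X (⟨0, hn⟩, ⟨0, hn⟩) : MvPolynomial (Fin n × Fin n) A) :=
        (Commute.all _ _).isNilpotent_mul_right (hε.map MvPolynomial.C)
      exact this.isUnit_one_add
    obtain ⟨⟨a, e⟩, hae⟩ := hsurj (Units.map (algebraMap _ (Localization.Away d)).toMonoidHom hwU.unit)
    simp only at hae
    have h1 := congrArg (fun x => ((Units.map φ₂.toMonoidHom x : (A[T;T⁻¹])ˣ) : A[T;T⁻¹])) hae
    simp only [map_mul, map_zpow, hu₂, Groth.Agent.S13787.Tunit_zpow, Units.val_mul,
      Groth.Agent.S13787.Tunit_val] at h1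
    have h2 : ((Units.map φ₂.toMonoidHom
        (Units.map (algebraMap A (Localization.Away d)).toMonoidHom a) : (A[T;T⁻¹])ˣ) : A[T;T⁻¹]) =
        LaurentPolynomial.C (a : A) := by
      change φ₂ (algebraMap A (Localization.Away d) a) = _
      rw [IsScalarTower.algebraMap_apply A (MvPolynomial (Fin n × Fin n) A) (Localization.Away d),
        IsLocalization.Away.lift_eq]
      simp [g₂]
    have h3 : ((Units.map φ₂.toMonoidHom
        (Units.map (algebraMap _ (Localization.Away d)).toMonoidHom hwU.unit) : (A[T;T⁻¹])ˣ) : A[T;T⁻¹]) =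
        1 + LaurentPolynomial.C ε * LaurentPolynomial.T 1 := by
      change φ₂ (algebraMap _ (Localization.Away d) w) = _
      rw [IsLocalization.Away.lift_eq, hw]
      simp [g₂, M]
    rw [h2, h3] at h1
    -- compare coefficients
    have c0 := congrArg (fun f : A[T;T⁻¹] => f.coeff 0) h1
    have c1 := congrArg (fun f : A[T;T⁻¹] => f.coeff 1) h1
    simp only [← LaurentPolynomial.single_eq_C_mul_T] at c0 c1
    simp only [AddMonoidAlgebra.coeff_add, AddMonoidAlgebra.coeff_single, AddMonoidAlgebra.one_def,
      Finsupp.add_apply, Finsupp.single_apply] at c0 c1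
    simp only [if_true, one_ne_zero, zero_ne_one, if_false, add_zero, zero_add] at c0 c1
    by_cases he : e = 0
    · subst he
      rw [if_neg (by norm_num)] at c1
      exact c1.symm
    · rw [if_neg he] at c0
      exact absurd c0 zero_ne_one
  · -- reduced ⇒ bijective
    intro hred
    refine ⟨Groth.Agent.S13787.result A n hn, ?_⟩
    intro v
    have hdnz : ∀ m : ℕ, d ^ m ∈ nonZeroDivisors (MvPolynomial (Fin n × Fin n) A) :=
      fun m => pow_mem (Groth.Agent.S13785.result A n) m
    obtain ⟨⟨P, ⟨_, k, rfl⟩⟩, hP⟩ := IsLocalization.surj (Submonoid.powers d) (v : Localization.Away d)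
    obtain ⟨⟨Q, ⟨_, l, rfl⟩⟩, hQ⟩ := IsLocalization.surj (Submonoid.powers d)
      ((v⁻¹ : (Localization.Away d)ˣ) : Localization.Away d)
    simp only at hP hQ
    have hPQ : algebraMap _ (Localization.Away d) (P * Q) = algebraMap _ (Localization.Away d) (d ^ (k + l)) := by
      rw [map_mul, ← hP, ← hQ, pow_add, map_mul]
      have : (v : Localization.Away d) * ((v⁻¹ : (Localization.Away d)ˣ) : Localization.Away d) = 1 := by
        rw [← Units.val_mul, mul_inv_cancel, Units.val_one]
      calc (v : Localization.Away d) * algebraMap _ _ (d ^ k) * (((v⁻¹ : (Localization.Away d)ˣ) : Localization.Away d) * algebraMap _ _ (d ^ l))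
          = ((v : Localization.Away d) * ((v⁻¹ : (Localization.Away d)ˣ) : Localization.Away d)) * (algebraMap _ _ (d ^ k) * algebraMap _ _ (d ^ l)) := by ring
        _ = algebraMap _ _ (d ^ k) * algebraMap _ _ (d ^ l) := by rw [this, one_mul]
    rw [IsLocalization.eq_iff_exists (Submonoid.powers d)] at hPQ
    obtain ⟨⟨_, m, rfl⟩, hc⟩ := hPQ
    simp only at hc
    have hPQ' : P * Q = d ^ (k + l) := by
      have h0 : (P * Q - d ^ (k + l)) * d ^ m = 0 := by
        rw [sub_mul, mul_comm _ (d ^ m), mul_comm _ (d ^ m), hc, sub_self]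
      have := (mem_nonZeroDivisors_iff_right.1 (hdnz m)) _ h0
      exact sub_eq_zero.1 this
    obtain ⟨i, hi, hPi⟩ := key A hconn n hn P Q (k + l) hPQ'
    have hab : ev1 A n P * ev1 A n Q = 1 := by
      have := congrArg (ev1 A n) hPQ'
      rw [map_mul, map_pow, ev1_dd, one_pow] at this
      exact this
    let aU : Aˣ := Units.mkOfMulEqOne _ _ hab
    refine ⟨(aU, (i : ℤ) - k), ?_⟩
    simp only
    have hmain : v * u ^ k = Units.map (algebraMap A (Localization.Away d)).toMonoidHom aU * u ^ i := by
      ext : 1
      rw [Units.val_mul, Units.val_mul, Units.val_pow_eq_pow_val, Units.val_pow_eq_pow_val, hu_val,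
        ← map_pow, hP, hPi, map_mul, map_pow]
      congr 1
    rw [zpow_sub, zpow_natCast, zpow_natCast, ← mul_assoc, ← hmain, mul_inv_cancel_right]

end Groth.Agent.S13788
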