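import Groth.Statements.S12581
import Groth.Agent.Lib.Helper18.Tate.WeilDiff2
open Groth.Agent.Lib.Helper18.Tate

set_option autoImplicit false
universe u v w
open FunFld

namespace Groth.Agent.S12581

/-- For a geometric function field of one variable `K/k` and a nonzero differential `ω = u dv`, the
functional `α ↦ ∑_P Res_P(α_P ω)` on repartitions is a nonzero Weil differential whose divisor is
`[ω] = ∑_P v_P(ω) P`, `v_P(ω)` being the order of `u · dv/dt` in a local parameter `t`; stated
through Laurent expansions over `k` at every place (all places separable). (That `[ω]` is then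
canonical of degree `2g - 2` is the definition of canonical divisors together with Riemann–Roch.
That every Weil differential is of this form is not stated here.) -/
theorem result (k : Type u) (K : Type v) [Field k] [Field K] [Algebra k K] (hK : FunFld.IsFunctionField k K) (hg : FunFld.IsGeometric k K)
    (F : FunFld.Place k K → Type w) [∀ P, Field (F P)] [∀ P, Algebra k (F P)] [∀ P, FiniteDimensional k (F P)]
    (φ : ∀ P, K →ₐ[k] LaurentSeries (F P)) (hφ : ∀ P, LocRes.IsExpansionAt P.1 (φ P))
    (u v : K) (hu : u ≠ 0) (hv : KaehlerDifferential.D k K v ≠ 0) :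
    ∃ ω : Module.Dual k (FunFld.adele k K),
      (∀ a : FunFld.adele k K, (Function.support fun P => LocRes.locRes (φ P) ((a : FunFld.Place k K → K) P * u) v).Finite ∧
        ω a = ∑ᶠ P, LocRes.locRes (φ P) ((a : FunFld.Place k K → K) P * u) v) ∧
      FunFld.IsWeil ω ∧ ω ≠ 0 ∧
      (Function.support fun P => LocRes.ordDiff (φ P) u v).Finite ∧
      ∀ C : FunFld.Divisor k K, (∀ P, C P = LocRes.ordDiff (φ P) u v) → FunFld.IsDivOf ω C := by
  have hne : ∀ P, LocRes.vDiff (φ P) u v ≠ 0 := fun P =>
    vDiff_ne_zero_of_D_ne_zero hK hg P (φ P) (hφ P) hu hv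
  have htr : ∀ P, ∃ b : F P, Algebra.trace k (F P) b ≠ 0 := by
    intro P
    haveI : Algebra.IsSeparable k (F P) :=
      Groth.Agent.Lib.Helper24.FFExt.isSeparable_of_isExpansionAt hK hg P (φ P) (hφ P)
    obtain ⟨b, hb⟩ := Algebra.trace_surjective k (F P) 1
    exact ⟨b, by rw [hb]; exact one_ne_zero⟩
  have hfin := finite_support_ordDiff' F φ hK hφ u v hne htr
  refine ⟨weilOf' F φ hK hφ u v, fun a => ⟨finite_support_locRes_adele' F φ hK hφ u v a.2, rfl⟩,
    isWeil_weilOf' F φ hK hφ u v hne, weilOf'_ne_zero F φ hK hφ u v hne htr, hfin, fun C hC => ?_⟩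
  have e : weilOf' F φ hK hφ u v = weilOf F φ hφ u v hne hfin := rfl
  rw [e]
  exact isDivOf_weilOf F φ hK hφ u v hne hfin htr C hC

end Groth.Agent.S12581
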