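import Groth.Statements.S12582
import Groth.Agent.Lib.Helper18.Tate.WeilDiff2
open Groth.Agent.Lib.Helper18.Tate

set_option autoImplicit false
universe u v w
open FunFld

namespace Groth.Agent.S12582

/-- For a geometric function field of one variable `K/k` of genus `g`, the space `Ω_K(0)` of regular
differential forms (non-negative order at every place) has dimension `g` over `k`; written as the
space of `y ∈ K` with `y dx` regular, for a fixed `x` with `dx ≠ 0`, orders read through Laurent
expansions over `k` at every place (all places separable). -/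
theorem result (k : Type u) (K : Type v) [Field k] [Field K] [Algebra k K] (hK : FunFld.IsFunctionField k K) (hg : FunFld.IsGeometric k K)
    (F : FunFld.Place k K → Type w) [∀ P, Field (F P)] [∀ P, Algebra k (F P)] [∀ P, FiniteDimensional k (F P)]
    (φ : ∀ P, K →ₐ[k] LaurentSeries (F P)) (hφ : ∀ P, LocRes.IsExpansionAt P.1 (φ P))
    (x : K) (hx : KaehlerDifferential.D k K x ≠ 0) :
    Module.finrank k (Submodule.span k {y : K | ∀ P, LocRes.vDiff (φ P) y x ≤ 1}) = FunFld.genus k K := by
  classical
  have hne : ∀ P, LocRes.vDiff (φ P) 1 x ≠ 0 := fun P =>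
    vDiff_ne_zero_of_D_ne_zero hK hg P (φ P) (hφ P) one_ne_zero hx
  have htr : ∀ P, ∃ b : F P, Algebra.trace k (F P) b ≠ 0 := by
    intro P
    haveI : Algebra.IsSeparable k (F P) :=
      Groth.Agent.Lib.Helper24.FFExt.isSeparable_of_isExpansionAt hK hg P (φ P) (hφ P)
    obtain ⟨b, hb⟩ := Algebra.trace_surjective k (F P) 1
    exact ⟨b, by rw [hb]; exact one_ne_zero⟩
  have hfin := finite_support_ordDiff' F φ hK hφ 1 x hne htr
  obtain ⟨C, hCdef⟩ : ∃ C : FunFld.Divisor k K, C = Finsupp.ofSupportFinite _ hfin := ⟨_, rfl⟩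
  have hCP : ∀ P, C P = LocRes.ordDiff (φ P) 1 x := fun P => by rw [hCdef]; rfl
  have hC : FunFld.IsCanonical k K C := isCanonical_of_ordDiff F φ hK hφ 1 x hne hfin htr C hCP
  have hset : {y : K | ∀ P, LocRes.vDiff (φ P) y x ≤ 1} = (FunFld.L C : Set K) := by
    ext y
    simp only [Set.mem_setOf_eq, SetLike.mem_coe]
    constructor
    · intro h P
      have h1 := h P
      have e : y = y * 1 := (mul_one y).symm
      rw [e, vDiff_mul_left (hφ P), vDiff_eq_exp_neg_ordDiff (hne P), ← hCP P] at h1
      calc P.1 y = P.1 y * WithZero.exp (-C P) * WithZero.exp (C P) := by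
            rw [mul_assoc, ← WithZero.exp_add, neg_add_cancel, WithZero.exp_zero, mul_one]
        _ ≤ 1 * WithZero.exp (C P) := mul_le_mul' h1 le_rfl
        _ = WithZero.exp (C P) := one_mul _
    · intro h P
      have h1 := h P
      have e : y = y * 1 := (mul_one y).symm
      rw [e, vDiff_mul_left (hφ P), vDiff_eq_exp_neg_ordDiff (hne P), ← hCP P]
      calc P.1 y * WithZero.exp (-C P) ≤ WithZero.exp (C P) * WithZero.exp (-C P) :=
            mul_le_mul' h1 le_rfl
        _ = 1 := by rw [← WithZero.exp_add, add_neg_cancel, WithZero.exp_zero]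
  rw [hset, Submodule.span_eq]
  exact Groth.Agent.Lib.Helper18.FF.ell_canonical hK hC

end Groth.Agent.S12582
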