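import Groth.Statements.S12596
import Mathlib.LinearAlgebra.Matrix.NonsingularInverse
import Mathlib.LinearAlgebra.Matrix.ToLin

set_option autoImplicit false
open FunFld

namespace Groth.Agent.S12596

section Helpers

variable {k K : Type*} [Field k] [Field K] [Algebra k K]

/-- `hasseD H m` commutes with `k`-linear combinations. -/
lemma hasseD_sum_smul (H : K →ₐ[k] PowerSeries K) (m : ℕ) {ι : Type*} (s : Finset ι)
    (a : ι → k) (y : ι → K) :
    LocRes.hasseD H m (∑ j ∈ s, a j • y j) = ∑ j ∈ s, algebraMap k K (a j) * LocRes.hasseD H m (y j) := by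
  simp only [LocRes.hasseD_apply, map_sum]
  refine Finset.sum_congr rfl fun j _ => ?_
  rw [Algebra.smul_def, map_mul, AlgHom.commutes, PowerSeries.algebraMap_apply,
    PowerSeries.coeff_C_mul]

lemma tau_sum_smul (τ : K →ₐ[k] K) {ι : Type*} (s : Finset ι)
    (a : ι → k) (y : ι → K) :
    τ (∑ j ∈ s, a j • y j) = ∑ j ∈ s, algebraMap k K (a j) * τ (y j) := by
  simp only [map_sum]
  refine Finset.sum_congr rfl fun j _ => ?_
  rw [Algebra.smul_def, map_mul, AlgHom.commutes]

end Helpers


/-- Over an algebraically closed constant field, replacing a projective map `φ` by `Aφ` for an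
invertible matrix `A` over `k` does not change the `τ`-order sequence, and multiplies every
generalized Wronskian determinant `det [τ(φ) | D^(I₁) φ | ⋯ | D^(Iₙ) φ]` (Hasse derivatives taken
with `H`) by `det A`. -/
theorem result
    (k K : Type*) [Field k] [IsAlgClosed k] [Field K] [Algebra k K]
    (hK : FunFld.IsFunctionField k K) {n : ℕ} (φ : Fin (n + 1) → K) (hφ : LinearIndependent k φ)
    (τ : K →ₐ[k] K) (s : K) (H : K →ₐ[k] PowerSeries K) (hH : LocRes.IsHasseFamily s H)
    (A : Matrix (Fin (n + 1)) (Fin (n + 1)) k) (hA : A.det ≠ 0)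
    (φ' : Fin (n + 1) → K) (hφ' : ∀ i, φ' i = ∑ j, A i j • φ j) :
    (∀ J : Fin n → ℕ, FunFld.IsOrders K (FunFld.hcol τ H φ') J ↔ FunFld.IsOrders K (FunFld.hcol τ H φ) J) ∧
    ∀ I : Fin n → ℕ, (FunFld.wrMat τ H φ' I).det = algebraMap k K A.det * (FunFld.wrMat τ H φ I).det := by
  classical
  set AK : Matrix (Fin (n + 1)) (Fin (n + 1)) K := A.map (algebraMap k K) with hAK
  have hdetAK : AK.det = algebraMap k K A.det := by
    rw [hAK, ← RingHom.mapMatrix_apply, ← RingHom.map_det]
  have hAKunit : IsUnit AK.det := by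
    rw [hdetAK]; exact (isUnit_iff_ne_zero.mpr ((map_ne_zero _).mpr hA))
  -- columns transform by AK
  have hcol : ∀ j, FunFld.hcol τ H φ' j = AK.mulVec (FunFld.hcol τ H φ j) := by
    intro j
    funext i
    cases j with
    | zero =>
      change τ (φ' i) = _
      rw [hφ' i, tau_sum_smul]
      rfl
    | succ m =>
      change LocRes.hasseD H m (φ' i) = _
      rw [hφ' i, hasseD_sum_smul]
      rfl
  -- the linear equivalence
  let L : (Fin (n + 1) → K) →ₗ[K] (Fin (n + 1) → K) := Matrix.toLin' AK
  have hLinj : Function.Injective L := by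
    apply Matrix.mulVec_injective_of_isUnit
    exact (Matrix.isUnit_iff_isUnit_det AK).mpr hAKunit
  have hcol' : ∀ j, FunFld.hcol τ H φ' j = L (FunFld.hcol τ H φ j) := fun j => hcol j
  have hjump : ∀ j, FunFld.IsJump K (FunFld.hcol τ H φ') j ↔ FunFld.IsJump K (FunFld.hcol τ H φ) j := by
    intro j
    unfold FunFld.IsJump
    have himg : FunFld.hcol τ H φ' '' Set.Iio j = L '' (FunFld.hcol τ H φ '' Set.Iio j) := by
      rw [Set.image_image]
      exact Set.image_congr fun m _ => hcol' m
    rw [himg, ← Submodule.map_span, hcol' j]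
    constructor
    · intro h hmem
      exact h (Submodule.mem_map_of_mem hmem)
    · intro h hmem
      obtain ⟨y, hy, hyeq⟩ := Submodule.mem_map.mp hmem
      rw [hLinj hyeq] at hy
      exact h hy
  refine ⟨fun J => ?_, fun I => ?_⟩
  · unfold FunFld.IsOrders
    simp only [hjump]
  · have hmat : FunFld.wrMat τ H φ' I = AK * FunFld.wrMat τ H φ I := by
      ext i c
      rw [Matrix.mul_apply]
      refine Fin.cases ?_ (fun l => ?_) c
      · change τ (φ' i) = _
        rw [hφ' i, tau_sum_smul]
        rfl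
      · change LocRes.hasseD H (I l) (φ' i) = _
        rw [hφ' i, hasseD_sum_smul]
        rfl
    rw [hmat, Matrix.det_mul, hdetAK]

end Groth.Agent.S12596
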