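import Groth.Statements.S12599
import Groth.Agent.Lib.Helper18.Hasse.Taylor
open Groth.Agent.Lib.Helper18.Hasse Groth.Agent.Lib.Helper18.FF

set_option autoImplicit false
open FunFld

namespace Groth.Agent.S12599

/-- Over an algebraically closed constant field, for a place `P` with local parameter `t`, and a
linearly independent tuple `φ = (φ₀, …, φₙ)` of functions integral at `P`, the matrix of values at
`P` of the Hasse derivatives `D_t^(j)(φᵢ)`, `j = 0, 1, …`, has rank `n + 1`: its rows are linearly
independent over the residue field. -/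
theorem result
    (k K : Type*) [Field k] [IsAlgClosed k] [Field K] [Algebra k K]
    (hK : FunFld.IsFunctionField k K) {n : ℕ} (φ : Fin (n + 1) → K) (hφ : LinearIndependent k φ)
    (P : FunFld.Place k K) (hint : ∀ i, P.1 (φ i) ≤ 1) (t : K) (ht : P.1 t = WithZero.exp (-1))
    (Ht : K →ₐ[k] PowerSeries K) (hHt : LocRes.IsHasseFamily t Ht) :
    LinearIndependent (IsLocalRing.ResidueField P.O)
      (fun i : Fin (n + 1) => fun j : ℕ => FunFld.evalP P (LocRes.hasseD Ht j (φ i))) := by
  classical
  have hdeg := deg_eq_one_of_isAlgClosed hK P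
  rw [Fintype.linearIndependent_iff]
  intro g hg
  -- lift the coefficients to constants
  have hlift : ∀ i, ∃ a : k, g i = FunFld.evalP P (algebraMap k K a) := by
    intro i
    obtain ⟨z, hz, hzg⟩ := res_surjective P (g i)
    obtain ⟨a, ha⟩ := exists_const_sub_lt_one hK hdeg hz
    refine ⟨a, ?_⟩
    rw [← hzg, ← evalP_of_le P hz]
    exact evalP_congr P hz ha
  choose a ha using hlift
  have hD : ∀ i j, P.1 (LocRes.hasseD Ht j (φ i)) ≤ 1 := fun i j =>
    hasseD_val_le_one hK P ht hHt (hint i) j
  obtain ⟨y, hy⟩ : ∃ y : K, y = ∑ i, a i • φ i := ⟨_, rfl⟩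
  have hyle : P.1 y ≤ 1 := by
    rw [hy]
    exact P.1.map_sum_le fun i _ => (val_smul_le P (a i) (φ i)).trans (hint i)
  have hy0 : y = 0 := by
    refine eq_zero_of_forall_hasseD_lt hK P ht hHt hyle fun j => ?_
    have hjle := hasseD_val_le_one hK P ht hHt hyle j
    rw [← evalP_eq_zero_iff P hjle, hy, hasseD_sum]
    have h1 : ∀ i, P.1 (LocRes.hasseD Ht j (a i • φ i)) ≤ 1 := by
      intro i
      rw [hasseD_smul]
      exact (val_smul_le P (a i) _).trans (hD i j)
    rw [evalP_sum P _ _ h1]
    have h2 := congrFun hg j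
    simp only [Finset.sum_apply, Pi.smul_apply, smul_eq_mul, Pi.zero_apply] at h2
    rw [← h2]
    refine Finset.sum_congr rfl fun i _ => ?_
    rw [hasseD_smul, Algebra.smul_def, evalP_mul P (P.2.1 (a i)) (hD i j), ha i]
  intro i
  have h3 : ∑ i, a i • φ i = 0 := by rw [← hy, hy0]
  have h4 := (Fintype.linearIndependent_iff.mp hφ) a h3 i
  rw [ha i, h4, map_zero]
  exact (evalP_eq_zero_iff P (by rw [map_zero]; exact zero_le')).mpr (by rw [map_zero]; exact zero_lt_one)

end Groth.Agent.S12599
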