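import Groth.Statements.S12602
import Groth.Agent.Lib.Helper18.Hasse.Exchange

set_option autoImplicit false
open FunFld

namespace Groth.Agent.S12602

/-- Over an algebraically closed constant field, for a birational projective map `φ = (φ₀, …, φₙ)`, `n ≥
1`, with orders `j₁ < ⋯ < jₙ`, and `τ ≠ 1`, the `τ`-orders of `φ` are `(0, j₁, …, j_{m-1}, j_{m+1},
…, jₙ)` for some `m`: the jump indices of `[τ(φ) | D^(0) φ | D^(1) φ | ⋯]` after the leading column
are `0` and the `jₗ` with `l ≠ m`. -/
theorem result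
    (k K : Type*) [Field k] [IsAlgClosed k] [Field K] [Algebra k K]
    (hK : FunFld.IsFunctionField k K) {n : ℕ} (hn : 0 < n) (φ : Fin (n + 1) → K) (hφ : LinearIndependent k φ)
    (h0 : φ 0 ≠ 0) (hbir : IntermediateField.adjoin k (Set.range fun i => φ i / φ 0) = ⊤)
    (τ : K →ₐ[k] K) (hτ : τ ≠ AlgHom.id k K) (s : K) (H : K →ₐ[k] PowerSeries K) (hH : LocRes.IsHasseFamily s H)
    (J : Fin n → ℕ) (hJ : FunFld.IsOrders K (FunFld.hcol (AlgHom.id k K) H φ) J) :
    ∃ m : Fin n, ∀ j : ℕ,
      FunFld.IsJump K (FunFld.hcol τ H φ) (j + 1) ↔ (j = 0 ∨ ∃ l, l ≠ m ∧ J l = j) := by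
  classical
  -- the fixed field of `τ`
  let E : IntermediateField k K :=
    { carrier := {z | τ z = z}
      mul_mem' := by
        intro a b ha hb
        simp only [Set.mem_setOf_eq] at ha hb ⊢
        rw [map_mul, ha, hb]
      one_mem' := by
        simp only [Set.mem_setOf_eq]
        exact map_one τ
      add_mem' := by
        intro a b ha hb
        simp only [Set.mem_setOf_eq] at ha hb ⊢
        rw [map_add, ha, hb]
      zero_mem' := by
        simp only [Set.mem_setOf_eq]
        exact map_zero τ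
      algebraMap_mem' := by
        intro c
        simp only [Set.mem_setOf_eq]
        exact τ.commutes c
      inv_mem' := by
        intro a ha
        simp only [Set.mem_setOf_eq] at ha ⊢
        rw [map_inv₀, ha] }
  have hfix : ∀ a : K, a ≠ 0 → (∀ i, τ (φ i) = a * φ i) → False := by
    intro a ha h
    apply hτ
    have hle : IntermediateField.adjoin k (Set.range fun i => φ i / φ 0) ≤ E := by
      rw [IntermediateField.adjoin_le_iff]
      rintro _ ⟨i, rfl⟩
      show τ (φ i / φ 0) = φ i / φ 0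
      rw [map_div₀, h i, h 0, mul_div_mul_left _ _ ha]
    rw [hbir] at hle
    ext z
    exact hle (IntermediateField.mem_top (x := z))
  have hfin : Module.finrank K (Fin (n + 1) → K) = n + 1 := Module.finrank_fin_fun K
  have hc01 : FunFld.hcol (AlgHom.id k K) H φ 0 = FunFld.hcol (AlgHom.id k K) H φ 1 := by
    funext i
    show (AlgHom.id k K) (φ i) = LocRes.hasseD H 0 (φ i)
    rw [LocRes.hasseD_apply, PowerSeries.coeff_zero_eq_constantCoeff_apply, hH.2]
    rfl
  have hτ0 : τ (φ 0) ≠ 0 := (map_ne_zero τ).mpr h0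
  have hv : FunFld.hcol τ H φ 0 ∉
      Submodule.span K {FunFld.hcol (AlgHom.id k K) H φ 0} := by
    intro hmem
    obtain ⟨a, ha⟩ := Submodule.mem_span_singleton.mp hmem
    have h : ∀ i, τ (φ i) = a * φ i := fun i => (congrFun ha i).symm
    refine hfix a ?_ h
    rintro rfl
    apply hτ0
    rw [h 0, zero_mul]
  have hw : FunFld.hcol (AlgHom.id k K) H φ 0 ∉ Submodule.span K {FunFld.hcol τ H φ 0} := by
    intro hmem
    obtain ⟨a, ha⟩ := Submodule.mem_span_singleton.mp hmem
    have h : ∀ i, φ i = a * τ (φ i) := fun i => (congrFun ha i).symm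
    have ha0 : a ≠ 0 := by
      rintro rfl
      apply h0
      rw [h 0, zero_mul]
    refine hfix a⁻¹ (inv_ne_zero ha0) fun i => ?_
    rw [h i, ← mul_assoc, inv_mul_cancel₀ ha0, one_mul, ← h i]
  exact Groth.Agent.Lib.Helper18.Hasse.exchange_orders hfin
    (FunFld.hcol (AlgHom.id k K) H φ) (FunFld.hcol τ H φ) hc01 (fun _ => rfl) hv hw J hJ

end Groth.Agent.S12602
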