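import Groth.Statements.S12608
import Groth.Agent.Lib.Helper18.Hasse.WDiv
open Groth.Agent.Lib.Helper18.Hasse Groth.Agent.Lib.Helper18.FF

set_option autoImplicit false
open FunFld

namespace Groth.Agent.S12608

/-- Over an algebraically closed constant field, let `φ = (φ₀, …, φₙ)` be an effective projective map
normalized at the place `P`, `t` a local parameter at `P`, `j₁, …, jₙ` the orders of `φ` and `j'₁,
…, j'ₙ` the orders of `φ` at `P`. Then `jₗ ≤ j'ₗ` for all `l`, and the following are equivalent: all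
`j'ₗ = jₗ`; the Wronskian `w_t(φ)` does not vanish at `P`; the Weierstrass divisor `W(φ)` has
coefficient `0` at `P` (the divisor of `dt` in it read through a family of Laurent expansions). -/
theorem result
    (k K : Type*) [Field k] [IsAlgClosed k] [Field K] [Algebra k K]
    (hK : FunFld.IsFunctionField k K) (P : FunFld.Place k K) {n : ℕ} (φ : Fin (n + 1) → K) (hφ : LinearIndependent k φ)
    (heff : (1 : K) ∈ Submodule.span k (Set.range φ)) (hnorm : ∀ i, P.1 (φ i) ≤ 1)
    (t : K) (ht : P.1 t = WithZero.exp (-1))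
    (Ht : K →ₐ[k] PowerSeries K) (hHt : LocRes.IsHasseFamily t Ht)
    (J : Fin n → ℕ) (hJ : FunFld.IsOrders K (FunFld.hcol (AlgHom.id k K) Ht φ) J)
    (J' : Fin n → ℕ) (hJ' : FunFld.IsOrders (IsLocalRing.ResidueField P.O) (FunFld.hcolAt P Ht φ) J')
    (Φ : FunFld.Place k K → (K →ₐ[k] LaurentSeries k))
    (hΦ : ∀ P : FunFld.Place k K, LocRes.IsExpansionAt P.1 (Φ P)) :
    (∀ l, J l ≤ J' l) ∧
    ((∀ l, J' l = J l) ↔ FunFld.evalP P (FunFld.wrMat (AlgHom.id k K) Ht φ J).det ≠ 0) ∧
    ((∀ l, J' l = J l) ↔ FunFld.wDiv (AlgHom.id k K) Ht Φ t φ J P = 0) := by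
  classical
  have hid : FunFld.IsFixedPt (AlgHom.id k K) P := fun z hz => hz
  have hc01 : FunFld.hcol (AlgHom.id k K) Ht φ 1 = FunFld.hcol (AlgHom.id k K) Ht φ 0 := by
    funext i
    change LocRes.hasseD Ht 0 (φ i) = φ i
    exact hasseD_zero hHt _
  have hJpos : ∀ l, 0 < J l := by
    intro l
    by_contra h
    have h0 : J l = 0 := by omega
    have hjump := (hJ.2 (J l)).mp ⟨l, rfl⟩
    rw [h0] at hjump
    apply hjump
    rw [zero_add, hc01]
    exact Submodule.subset_span ⟨0, by simp, rfl⟩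
  have hJ'pos : ∀ l, 0 < J' l := fun l =>
    ((isJump_hcolAt_succ_iff hK P ht hHt φ hnorm _).mp ((hJ'.2 _).mp ⟨l, rfl⟩)).1
  -- Part 1
  have hW' := wr_local hK P ht hHt (AlgHom.id k K) hid φ hφ heff hnorm J' hJ' J'
  have hdet' : P.1 (FunFld.wrMat (AlgHom.id k K) Ht φ J').det = 1 := by
    have := (hW'.2 (Or.inl hJ'pos)).mpr (by
      rw [det_binomMat_self J' hJ'.1]
      exact one_ne_zero)
    simpa using this
  have hdet'ne : (FunFld.wrMat (AlgHom.id k K) Ht φ J').det ≠ 0 := by
    intro h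
    rw [h, map_zero] at hdet'
    exact zero_ne_one hdet'
  have hle : ∀ l, J l ≤ J' l :=
    orders_le_of_linearIndependent _ J hJ J' hJ'.1
      (linearIndependent_of_det_wrMat_ne_zero _ Ht φ J' hdet'ne)
  have hW := wr_local hK P ht hHt (AlgHom.id k K) hid φ hφ heff hnorm J' hJ' J
  obtain ⟨S, hSdef⟩ : ∃ S : ℤ, S = ∑ l, ((J' l : ℤ) - J l) := ⟨_, rfl⟩
  rw [← hSdef] at hW
  have hS : 0 ≤ S := by
    rw [hSdef]
    exact Finset.sum_nonneg fun l _ => by
      have := hle l
      omega
  have hSzero : S = 0 ↔ ∀ l, J' l = J l := by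
    rw [hSdef, Finset.sum_eq_zero_iff_of_nonneg (fun l _ => by
      have := hle l
      omega)]
    constructor
    · intro h l
      have := h l (Finset.mem_univ l)
      omega
    · intro h l _
      rw [h l]
      simp
  have hdetle : P.1 (FunFld.wrMat (AlgHom.id k K) Ht φ J).det ≤ 1 := by
    refine hW.1.trans ?_
    rw [← WithZero.exp_zero, WithZero.exp_le_exp]
    omega
  have key : (∀ l, J' l = J l) ↔ P.1 (FunFld.wrMat (AlgHom.id k K) Ht φ J).det = 1 := by
    constructor
    · intro h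
      have hJJ : J' = J := funext h
      have := (hW.2 (Or.inl hJpos)).mpr (by
        rw [hJJ, det_binomMat_self J hJ.1]
        exact one_ne_zero)
      rw [this, hSzero.mpr h]
      simp
    · intro h
      have h1 := hW.1
      rw [h, ← WithZero.exp_zero, WithZero.exp_le_exp] at h1
      exact hSzero.mp (by omega)
  refine ⟨hle, ?_, ?_⟩
  · rw [key, Ne, evalP_eq_zero_iff P hdetle]
    constructor
    · intro h
      rw [h]
      exact lt_irrefl _
    · intro h
      exact le_antisymm hdetle (not_lt.mp h)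
  · rw [wDiv_apply_local hK P ht hHt _ hid φ heff hnorm J Φ (hΦ P), key]
    have hdetne := det_wrMat_ne_zero_of_isOrders (AlgHom.id k K) Ht φ hφ J hJ
    rw [val_eq_exp_neg_ord P hdetne, ← WithZero.exp_zero, WithZero.exp_injective.eq_iff]
    omega

end Groth.Agent.S12608
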