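import Groth.Statements.S12610
import Groth.Agent.Lib.Helper18.Hasse.WDivInv
import Groth.Agent.Lib.Helper18.Hasse.Classical
import Groth.Agent.S12595
open Groth.Agent.Lib.Helper18.Hasse Groth.Agent.Lib.Helper18.FF

set_option autoImplicit false
open FunFld

namespace Groth.Agent.S12610

/-- Over an algebraically closed constant field, for a birational projective map `φ`, a `k`-endomorphism
`τ ≠ 1` and a place `P` fixed by `τ`, the place `P` is a Weierstrass point of `φ` with respect to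
`τ`: the Weierstrass divisor `W(φ, τ) = [w_s(φ, τ)] + [τ(φ)] + n[φ] + j(φ, τ)[ds]` has positive
coefficient at `P` (the divisor of `ds` read through a family of Laurent expansions). -/
theorem result
    (k K : Type*) [Field k] [IsAlgClosed k] [Field K] [Algebra k K]
    (hK : FunFld.IsFunctionField k K) {n : ℕ} (φ : Fin (n + 1) → K) (hφ : LinearIndependent k φ)
    (h0 : φ 0 ≠ 0) (hbir : IntermediateField.adjoin k (Set.range fun i => φ i / φ 0) = ⊤)
    (τ : K →ₐ[k] K) (hτ : τ ≠ AlgHom.id k K) (P : FunFld.Place k K) (hP : FunFld.IsFixedPt τ P)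
    (s : K) (H : K →ₐ[k] PowerSeries K) (hH : LocRes.IsHasseFamily s H)
    (J : Fin n → ℕ) (hJ : FunFld.IsOrders K (FunFld.hcol τ H φ) J)
    (Φ : FunFld.Place k K → (K →ₐ[k] LaurentSeries k))
    (hΦ : ∀ P : FunFld.Place k K, LocRes.IsExpansionAt P.1 (Φ P)) :
    0 < FunFld.wDiv τ H Φ s φ J P := by
  classical
  obtain ⟨t, Ht, ht, hHt⟩ := exists_local_hasse hK hH P
  obtain ⟨y, hy0, hψli, hψeff, hψnorm⟩ := exists_normalize P φ hφ
  have hψ : ∀ i, (y • φ) i = y * ∑ j, (1 : Matrix (Fin (n + 1)) (Fin (n + 1)) k) i j • φ j := by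
    intro i
    rw [Pi.smul_apply, smul_eq_mul]
    congr 1
    rw [Finset.sum_eq_single i]
    · rw [Matrix.one_apply_eq, one_smul]
    · intro j _ hj
      rw [Matrix.one_apply_ne hj.symm, zero_smul]
    · intro h
      exact absurd (Finset.mem_univ _) h
  have hinv := wDiv_eq_of_equiv hK φ hφ τ hH hHt J hJ 1 (by rw [Matrix.det_one]; exact one_ne_zero)
    y hy0 (y • φ) hψ Φ hΦ
  rw [← hinv, wDiv_apply_local hK P ht hHt τ hP (y • φ) hψeff hψnorm J Φ (hΦ P)]
  have hJ1 : FunFld.IsOrders K (FunFld.hcol τ Ht φ) J := ((change_main hK hH hHt φ τ).1 J).mpr hJ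
  have hJ2 : FunFld.IsOrders K (FunFld.hcol τ Ht (y • φ)) J :=
    ((scale_main φ τ Ht hHt.2 y hy0).1 J).mpr hJ1
  obtain ⟨J', hJ'⟩ := exists_isOrders_hcolAt hK P ht hHt (y • φ) hψli hψeff hψnorm
  have hJ'pos : ∀ l, 0 < J' l := fun l =>
    ((isJump_hcolAt_succ_iff hK P ht hHt (y • φ) hψnorm _).mp ((hJ'.2 _).mp ⟨l, rfl⟩)).1
  -- `J ≤ J'`
  have hW' := wr_local hK P ht hHt τ hP (y • φ) hψli hψeff hψnorm J' hJ' J'
  have hdet' : (FunFld.wrMat τ Ht (y • φ) J').det ≠ 0 := by
    intro h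
    have h1 := (hW'.2 (Or.inl hJ'pos)).mpr (by
      rw [det_binomMat_self J' hJ'.1]
      exact one_ne_zero)
    rw [h, map_zero] at h1
    exact WithZero.exp_ne_zero h1.symm
  have hle : ∀ l, J l ≤ J' l :=
    orders_le_of_linearIndependent _ J hJ2 J' hJ'.1
      (linearIndependent_of_det_wrMat_ne_zero τ Ht (y • φ) J' hdet')
  -- the first `τ`-order is `0`
  have hjump : FunFld.IsJump K (FunFld.hcol τ H φ) 1 := by
    by_contra hcon
    exact hτ ((Groth.Agent.S12595.result k K hK φ h0 hbir τ s H hH).mp hcon)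
  obtain ⟨l0, hl0⟩ := (hJ.2 0).mpr hjump
  -- lower bound
  have hW := wr_local hK P ht hHt τ hP (y • φ) hψli hψeff hψnorm J' hJ' J
  have hdetne := det_wrMat_ne_zero_of_isOrders τ Ht (y • φ) hψli J hJ2
  have h1 := hW.1
  rw [val_eq_exp_neg_ord P hdetne, WithZero.exp_le_exp] at h1
  have h2 : (1 : ℤ) ≤ ∑ l, ((J' l : ℤ) - J l) := by
    have h3 : ((J' l0 : ℤ) - J l0) ≤ ∑ l, ((J' l : ℤ) - J l) :=
      Finset.single_le_sum (f := fun l => ((J' l : ℤ) - J l)) (fun l _ => by
        have := hle l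
        omega) (Finset.mem_univ l0)
    have h4 := hJ'pos l0
    rw [hl0] at h3
    omega
  omega

end Groth.Agent.S12610
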