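import Groth.Statements.S12611
import Groth.Agent.Lib.Helper18.Hasse.Classical
open Groth.Agent.Lib.Helper18.Hasse Groth.Agent.Lib.Helper18.FF

set_option autoImplicit false
open FunFld

namespace Groth.Agent.S12611

/-- Over an algebraically closed constant field of characteristic `0` or greater than `deg φ`, a
birational projective map `φ = (φ₀, …, φₙ)` is classical: its orders are `(1, 2, …, n)`, and for a
`k`-endomorphism `τ ≠ 1` its `τ`-orders are `(0, 1, …, n-1)`. (The published statement has no
fixed-point hypothesis for `τ ≠ 1` and is false without one: on a smooth plane cubic in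
characteristic `0`, pulling back along multiplication by `-2` gives `τ`-orders `(0, 2)`. This row
assumes `τ` has a strong fixed point — a place whose maximal ideal `τ` maps into its square — which
is what the proof uses, through the equality criterion for Wronskian orders at such a point.) -/
theorem result
    (k K : Type*) [Field k] [IsAlgClosed k] [Field K] [Algebra k K]
    (hK : FunFld.IsFunctionField k K) {n : ℕ} (φ : Fin (n + 1) → K) (hφ : LinearIndependent k φ)
    (h0 : φ 0 ≠ 0) (hbir : IntermediateField.adjoin k (Set.range fun i => φ i / φ 0) = ⊤)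
    (hchar : ringChar k = 0 ∨ (FunFld.mapDiv k φ).deg < ringChar k)
    (τ : K →ₐ[k] K) (s : K) (H : K →ₐ[k] PowerSeries K) (hH : LocRes.IsHasseFamily s H) :
    (τ = AlgHom.id k K → FunFld.IsOrders K (FunFld.hcol τ H φ) (fun l : Fin n => (l : ℕ) + 1)) ∧
    (τ ≠ AlgHom.id k K → (∃ P : FunFld.Place k K, FunFld.IsStrongFixedPt τ P) →
      FunFld.IsOrders K (FunFld.hcol τ H φ) (fun l : Fin n => (l : ℕ))) := by
  classical
  obtain ⟨N, hNdef⟩ : ∃ N : ℕ, N = ((FunFld.mapDiv k φ).deg).toNat := ⟨_, rfl⟩
  have hN : ∀ d : ℕ, 0 < d → d ≤ N → (d : k) ≠ 0 := by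
    intro d hd hdN h
    have hdvd : ringChar k ∣ d := (ringChar.spec k d).mp h
    rcases hchar with h0 | hlt
    · rw [h0] at hdvd
      have := Nat.eq_zero_of_zero_dvd hdvd
      omega
    · have h1 := Nat.le_of_dvd hd hdvd
      have h2 : (d : ℤ) ≤ (FunFld.mapDiv k φ).deg := by
        rw [hNdef] at hdN
        omega
      have h3 : ((ringChar k : ℕ) : ℤ) ≤ d := by exact_mod_cast h1
      omega
  have hbound : ∀ (J' : Fin n → ℕ), (∀ l, (J' l : ℤ) ≤ (FunFld.mapDiv k φ).deg) →
      ∀ l, J' l ≤ N := by
    intro J' h l
    rw [hNdef]
    have := h l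
    omega
  constructor
  · intro hτ
    subst hτ
    obtain ⟨J, hJ⟩ := exists_isOrders_hcol hK φ hφ (AlgHom.id k K) hH
    haveI := infinite_places hK
    obtain ⟨P⟩ : Nonempty (FunFld.Place k K) := inferInstance
    have hP : FunFld.IsFixedPt (AlgHom.id k K) P := fun z hz => hz
    have hI : StrictMono (fun l : Fin n => (l : ℕ) + 1) := by
      intro a b hab
      have : a.val < b.val := hab
      simp only
      omega
    have hle := orders_le_of_local hK (AlgHom.id k K) P hP hH φ hφ _ hI
      (Or.inl fun l => Nat.succ_pos _) (by
        intro J' hJ'mono hJ'pos hJ'le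
        have hdet := det_choose_ne_zero (F := k) (expo J') (expo_strictMono J' hJ'mono hJ'pos)
          (N := N) (by
            intro i
            induction i using Fin.cases with
            | zero => exact Nat.zero_le _
            | succ l => exact hbound J' hJ'le l) hN
        rw [Matrix.det_succ_row_zero, Fin.sum_univ_succ] at hdet
        have hz : ∀ s : Fin n, (Matrix.of fun i j : Fin (n + 1) =>
            (((expo J' i).choose j : ℕ) : k)) 0 s.succ = 0 := by
          intro s
          simp [expo]
        have h00 : (Matrix.of fun i j : Fin (n + 1) =>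
            (((expo J' i).choose j : ℕ) : k)) 0 0 = 1 := by
          simp [expo]
        simp only [hz, mul_zero, zero_mul, Finset.sum_const_zero, add_zero, Fin.val_zero,
          pow_zero, one_mul, h00, Fin.succAbove_zero] at hdet
        have hsub : (Matrix.of fun i j : Fin (n + 1) =>
            (((expo J' i).choose j : ℕ) : k)).submatrix Fin.succ Fin.succ =
            FunFld.binomMat k J' (fun l : Fin n => (l : ℕ) + 1) := by
          ext l s
          simp [FunFld.binomMat, expo]
        rw [hsub] at hdet
        exact hdet) J hJ
    have hc01 : FunFld.hcol (AlgHom.id k K) H φ 1 = FunFld.hcol (AlgHom.id k K) H φ 0 := by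
      funext i
      change LocRes.hasseD H 0 (φ i) = φ i
      exact hasseD_zero hH _
    have hJpos : ∀ l, 1 ≤ J l := by
      intro l
      by_contra h
      have h0 : J l = 0 := by omega
      have hjump := (hJ.2 (J l)).mp ⟨l, rfl⟩
      rw [h0] at hjump
      apply hjump
      rw [zero_add, hc01]
      exact Submodule.subset_span ⟨0, by simp, rfl⟩
    have hge := strictMono_fin_add_le J hJ.1 1 hJpos
    have hJeq : J = fun l : Fin n => (l : ℕ) + 1 := by
      funext l
      have := hle l
      have := hge l
      omega
    rw [← hJeq]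
    exact hJ
  · intro _ hex
    obtain ⟨P, hstrong⟩ := hex
    obtain ⟨J, hJ⟩ := exists_isOrders_hcol hK φ hφ τ hH
    have hI : StrictMono (fun l : Fin n => (l : ℕ)) := fun a b hab => hab
    have hle := orders_le_of_local hK τ P (isFixedPt_of_isStrongFixedPt hstrong) hH φ hφ _ hI
      (Or.inr hstrong) (by
        intro J' hJ'mono hJ'pos hJ'le
        exact det_choose_ne_zero (F := k) J' hJ'mono (N := N) (hbound J' hJ'le) hN) J hJ
    have hge := strictMono_fin_add_le J hJ.1 0 (fun l => Nat.zero_le _)
    have hJeq : J = fun l : Fin n => (l : ℕ) := by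
      funext l
      have := hle l
      have := hge l
      omega
    rw [← hJeq]
    exact hJ

end Groth.Agent.S12611
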