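import Groth.Statements.S12616
import Groth.Agent.Lib.Helper18.FF.AdjointChange
import Groth.Agent.S12612

set_option autoImplicit false
open FunFld

namespace Groth.Agent.S12616

/-- Over an algebraically closed constant field, the adjoint divisor `Δ(φ) = (e - 3)[φ] - [dx/f̂_y]` of
an effective plane map `φ = (1 : x : y)` of degree `e`, with a homogeneous relation `f` of the same
degree `e` satisfying `f(1, x, y) = 0`, depends only on the equivalence class of `φ`: it is
unchanged under a change of projective coordinates `X = AX'`, with `x' = u₁/u₀`, `y' = u₂/u₀`, `u =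
A⁻¹(1, x, y)ᵗ`, `f'(X') = f(AX')`. Here `dx ≠ 0`, both `f̂_y` and `f̂'_{y'}` are nonzero, and
divisors of differentials are read through a family of Laurent expansions. (The published statement
takes `f` to be the minimal relation of `x` and `y` for a plane model `K = k(x, y)`, where the
degree of the map equals the degree of `f`; this row assumes only that `f` is homogeneous of degree
equal to the degree of the map, which is all the change-of-coordinates computation uses — when the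
two degrees differ the two sides differ by a multiple of the divisor of `u₀`.) -/
theorem result
    (k K : Type*) [Field k] [IsAlgClosed k] [Field K] [Algebra k K]
    (hK : FunFld.IsFunctionField k K) (f : MvPolynomial (Fin 3) k) (e : ℕ) (hf : f.IsHomogeneous e)
    (x y : K) (hfxy : MvPolynomial.aeval ![(1 : K), x, y] f = 0)
    (hdx : KaehlerDifferential.D k K x ≠ 0)
    (he : (FunFld.mapDiv k ![(1 : K), x, y]).deg = e)
    (A : Matrix (Fin 3) (Fin 3) k) (hA : A.det ≠ 0)
    (u : Fin 3 → K) (hu : ∀ i, ∑ j, algebraMap k K (A i j) * u j = ![(1 : K), x, y] i)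
    (hu0 : u 0 ≠ 0)
    (hfy : (MvPolynomial.aeval ![(1 : K), x, y] (MvPolynomial.pderiv 2 f)) ≠ 0)
    (hfy' : (MvPolynomial.aeval ![(1 : K), u 1 / u 0, u 2 / u 0] (MvPolynomial.pderiv 2 (MvPolynomial.aeval (fun i : Fin 3 => ∑ j, MvPolynomial.C (A i j) * MvPolynomial.X j) f))) ≠ 0)
    (Φ : FunFld.Place k K → (K →ₐ[k] LaurentSeries k))
    (hΦ : ∀ P : FunFld.Place k K, LocRes.IsExpansionAt P.1 (Φ P)) :
    ((FunFld.mapDiv k ![(1 : K), x, y]).deg - 3) • FunFld.mapDiv k ![(1 : K), x, y] -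
        FunFld.divDiff Φ (MvPolynomial.aeval ![(1 : K), x, y] (MvPolynomial.pderiv 2 f))⁻¹ x =
      ((FunFld.mapDiv k ![(1 : K), u 1 / u 0, u 2 / u 0]).deg - 3) •
          FunFld.mapDiv k ![(1 : K), u 1 / u 0, u 2 / u 0] -
        FunFld.divDiff Φ (MvPolynomial.aeval ![(1 : K), u 1 / u 0, u 2 / u 0] (MvPolynomial.pderiv 2 (MvPolynomial.aeval (fun i : Fin 3 => ∑ j, MvPolynomial.C (A i j) * MvPolynomial.X j) f)))⁻¹ (u 1 / u 0) := by
  classical
  have hres := Groth.Agent.S12612.result k K f e hf x y hfxy A hA u hu hu0 hfy hfy'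
  set a : K := (MvPolynomial.aeval ![(1 : K), x, y] (MvPolynomial.pderiv 2 f))⁻¹ with ha_def
  set a' : K := (MvPolynomial.aeval ![(1 : K), u 1 / u 0, u 2 / u 0] (MvPolynomial.pderiv 2 (MvPolynomial.aeval (fun i : Fin 3 => ∑ j, MvPolynomial.C (A i j) * MvPolynomial.X j) f)))⁻¹ with ha'_def
  have ha : a ≠ 0 := inv_ne_zero hfy
  have ha' : a' ≠ 0 := inv_ne_zero hfy'
  set g : K := algebraMap k K A.det * (u 0)⁻¹ ^ ((e : ℤ) - 3) with hg_def
  have hc : algebraMap k K A.det ≠ 0 := (map_ne_zero _).mpr hA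
  have hz : (u 0)⁻¹ ^ ((e : ℤ) - 3) ≠ 0 := zpow_ne_zero _ (inv_ne_zero hu0)
  have hg : g ≠ 0 := mul_ne_zero hc hz
  have hdx' : KaehlerDifferential.D k K (u 1 / u 0) ≠ 0 := by
    intro h0
    rw [h0, smul_zero] at hres
    exact (smul_ne_zero ha hdx) hres
  have hgK := Groth.Agent.Lib.Helper24.FFExt.isGeometric_of_perfectField hK
  -- pointwise comparison of the maps
  have hmap := Groth.Agent.Lib.Helper18.FF.mapDiv_coord_change hK x y A hA u hu hu0
  have hmapdiv : FunFld.mapDiv k ![(1 : K), x, y] =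
      FunFld.mapDiv k ![(1 : K), u 1 / u 0, u 2 / u 0] - FunFld.div k (u 0) := by
    ext P
    rw [Finsupp.sub_apply, Groth.Agent.Lib.Helper18.FF.div_apply hK, hmap P]
  have hdeg : (FunFld.mapDiv k ![(1 : K), u 1 / u 0, u 2 / u 0]).deg =
      (FunFld.mapDiv k ![(1 : K), x, y]).deg := by
    rw [hmapdiv, Groth.Agent.Lib.Helper18.FF.deg_sub,
      Groth.Agent.Lib.Helper18.FF.deg_div_eq_zero hK, sub_zero]
  rw [hdeg, he]
  ext P
  rw [Finsupp.sub_apply, Finsupp.sub_apply, Finsupp.smul_apply, Finsupp.smul_apply,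
    Groth.Agent.Lib.Helper18.FF.divDiff_apply' hK Φ hΦ ha hdx P,
    Groth.Agent.Lib.Helper18.FF.divDiff_apply' hK Φ hΦ ha' hdx' P, hmap P]
  have h1 : LocRes.ordDiff (Φ P) a x = LocRes.ordDiff (Φ P) (g * a') (u 1 / u 0) :=
    Groth.Agent.Lib.Helper18.FF.ordDiff_congr hK P (Φ P) ha hres
  have hne : LocRes.vDiff (Φ P) a' (u 1 / u 0) ≠ 0 :=
    Groth.Agent.Lib.Helper18.Tate.vDiff_ne_zero_of_D_ne_zero hK hgK P (Φ P) (hΦ P) ha' hdx'
  rw [h1, Groth.Agent.Lib.Helper18.FF.ordDiff_mul_left P (Φ P) (hΦ P) hg hne]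
  have h2 : P.ord g = -(((e : ℤ) - 3) * P.ord (u 0)) := by
    rw [hg_def, Groth.Agent.Lib.Helper18.FF.ord_mul P hc hz,
      Groth.Agent.Lib.Helper18.FF.ord_algebraMap, zero_add]
    unfold FunFld.Place.ord
    rw [map_zpow₀, map_inv₀, WithZero.log_zpow, WithZero.log_inv]
    ring
  rw [h2]
  simp only [smul_eq_mul]
  ring

end Groth.Agent.S12616
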