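import Groth.Statements.S12617
import Groth.Agent.Lib.Helper18.Hasse.Adapted
import Groth.Agent.Lib.Helper18.FF.LocRing
open Groth.Agent.Lib.Helper18.Hasse Groth.Agent.Lib.Helper18.FF

set_option autoImplicit false
open FunFld

namespace Groth.Agent.S12617

/-- Over an algebraically closed constant field, if the effective projective map `φ = (φ₀, …, φₙ)`, `n ≥
1`, normalized at `P`, is nonsingular at `P`, then its first order at `P` is `1`. -/
theorem result
    (k K : Type*) [Field k] [IsAlgClosed k] [Field K] [Algebra k K]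
    (hK : FunFld.IsFunctionField k K) (P : FunFld.Place k K) {n : ℕ} (hn : 0 < n) (φ : Fin (n + 1) → K)
    (hφ : LinearIndependent k φ)
    (heff : (1 : K) ∈ Submodule.span k (Set.range φ)) (hnorm : ∀ i, P.1 (φ i) ≤ 1) (hns : FunFld.IsNonsingularAt φ P)
    (t : K) (ht : P.1 t = WithZero.exp (-1))
    (Ht : K →ₐ[k] PowerSeries K) (hHt : LocRes.IsHasseFamily t Ht)
    (J' : Fin n → ℕ) (hJ' : FunFld.IsOrders (IsLocalRing.ResidueField P.O) (FunFld.hcolAt P Ht φ) J') :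
    J' ⟨0, hn⟩ = 1 := by
  obtain ⟨t0, ht0⟩ := exists_uniformizer P
  have ht0le : P.1 t0 ≤ 1 := by
    rw [ht0, ← WithZero.exp_zero, WithZero.exp_le_exp]
    norm_num
  obtain ⟨f, hfV, hf⟩ := (exists_uniformizer_inLocRing_iff hK φ P heff hnorm).mp
    ⟨t0, hns t0 ht0le, ht0⟩
  have hjump : FunFld.IsJump (IsLocalRing.ResidueField P.O) (FunFld.hcolAt P Ht φ) (1 + 1) :=
    (isJump_hcolAt_succ_iff hK P ht hHt φ hnorm 1).mpr ⟨Nat.one_pos, f, hfV, by simpa using hf⟩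
  obtain ⟨l0, hl0⟩ := (hJ'.2 1).mpr hjump
  have h1 : J' ⟨0, hn⟩ ≤ J' l0 := hJ'.1.monotone (Fin.le_def.mpr (Nat.zero_le _))
  have h2 : 0 < J' ⟨0, hn⟩ :=
    ((isJump_hcolAt_succ_iff hK P ht hHt φ hnorm _).mp ((hJ'.2 _).mp ⟨⟨0, hn⟩, rfl⟩)).1
  omega

end Groth.Agent.S12617
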