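import Groth.Statements.S12620
import Mathlib
-- import your own Groth.Agent.* helpers here

set_option autoImplicit false
universe u v w
open LocRes

namespace Groth.Agent.S12620


open HahnSeries in
lemma val_eq_exp_neg_order {F : Type*} [Field F] (g : LaurentSeries F) (hg0 : g ≠ 0) :
    Valued.v g = WithZero.exp (-g.order) := by
  have h1 : Valued.v g ≤ WithZero.exp (-g.order) := by
    rw [LaurentSeries.valuation_le_iff_coeff_lt_eq_zero]
    intro n hn
    exact HahnSeries.coeff_eq_zero_of_lt_order hn
  have h2 : ¬ Valued.v g ≤ WithZero.exp (-(g.order + 1) : ℤ) := by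
    rw [LaurentSeries.valuation_le_iff_coeff_lt_eq_zero]
    intro h
    exact hg0 (HahnSeries.coeff_order_eq_zero.mp (h g.order (by omega)))
  have hv0 : Valued.v g ≠ 0 := (Valuation.ne_zero_iff _).mpr hg0
  rw [← WithZero.exp_log hv0] at h1 h2 ⊢
  rw [WithZero.exp_le_exp] at h1 h2
  congr 1
  omega


/-- Let `K` be a field with a valuation `w` into `ℤ ∪ {0}` and `φ : K → F((X))` a `k`-algebra expansion
at `w` in a local parameter (valuation-compatible, valuation ring onto the coefficient field `F`,
`w` normalised). Then for every nonzero `f` the residue of the logarithmic differential `f⁻¹ df`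
read through `φ` — the `X⁻¹`-coefficient of `φ(f)⁻¹ · (φ f)′` — is the order of `f` at `w` (the
integer `n` with `w f = exp (-n)`), viewed in `F`. (The published statement is for a complete field
with a perfect coefficient field and its intrinsic residue; read through an expansion neither
completeness nor perfectness plays a role.) -/
theorem result {k : Type u} {K : Type v} {F : Type w} [CommRing k] [Field K] [Field F]
    [Algebra k K] [Algebra k F]
    (w : Valuation K (WithZero (Multiplicative ℤ))) (φ : K →ₐ[k] LaurentSeries F)
    (hφ : LocRes.IsExpansionAt w φ) (f : K) (hf : f ≠ 0) :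
    LocRes.resExp φ f⁻¹ f = ((-WithZero.log (w f) : ℤ) : F) := by
  have hg0 : φ f ≠ 0 := (map_ne_zero φ).mpr hf
  have hw : w f = WithZero.exp (-(φ f).order) := by
    rw [← hφ.1 f, val_eq_exp_neg_order _ hg0]
  rw [hw, WithZero.log_exp, neg_neg]
  generalize hg : φ f = g at hg0
  have hgu : (HahnSeries.single g.order (1 : F) : LaurentSeries F) *
      ((g.powerSeriesPart : PowerSeries F) : LaurentSeries F) = g :=
    g.single_order_mul_powerSeriesPart
  generalize hm : g.order = m at hgu
  have hu0 : PowerSeries.constantCoeff g.powerSeriesPart ≠ 0 := by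
    rw [← PowerSeries.coeff_zero_eq_constantCoeff_apply, LaurentSeries.powerSeriesPart_coeff]
    simpa using fun h => hg0 (HahnSeries.coeff_order_eq_zero.mp h)
  generalize g.powerSeriesPart = u at hgu hu0
  have huinv : (u : LaurentSeries F) * ((u⁻¹ : PowerSeries F) : LaurentSeries F) = 1 := by
    rw [← PowerSeries.coe_mul, PowerSeries.mul_inv_cancel _ hu0, PowerSeries.coe_one]
  have hss : ∀ (a b : ℤ) (r s : F), (HahnSeries.single a r : LaurentSeries F) * HahnSeries.single b s =
      HahnSeries.single (a + b) (r * s) := fun a b r s => HahnSeries.single_mul_single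
  have hginv : g⁻¹ = HahnSeries.single (-m) (1 : F) * ((u⁻¹ : PowerSeries F) : LaurentSeries F) := by
    apply inv_eq_of_mul_eq_one_right
    rw [← hgu]
    calc (HahnSeries.single m (1 : F) : LaurentSeries F) * (u : LaurentSeries F) *
          (HahnSeries.single (-m) (1 : F) * ((u⁻¹ : PowerSeries F) : LaurentSeries F))
        = (HahnSeries.single m (1 : F) * HahnSeries.single (-m) (1 : F)) *
          ((u : LaurentSeries F) * ((u⁻¹ : PowerSeries F) : LaurentSeries F)) := by ring
      _ = 1 := by rw [huinv, hss]; simp
  have hDg : LocRes.D F g = HahnSeries.single m (1 : F) * LocRes.D F (u : LaurentSeries F) +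
      HahnSeries.single (m - 1) (m • (1 : F)) * (u : LaurentSeries F) := by
    rw [← hgu]; exact LocRes.derivative_single_mul F m 1 _
  have hprod : g⁻¹ * LocRes.D F g =
      ((u⁻¹ * PowerSeries.derivative F u : PowerSeries F) : LaurentSeries F) +
        HahnSeries.single (-1) (m : F) := by
    rw [hginv, hDg, LocRes.D_coe, PowerSeries.coe_mul]
    calc HahnSeries.single (-m) (1 : F) * ((u⁻¹ : PowerSeries F) : LaurentSeries F) *
          (HahnSeries.single m (1 : F) * ((PowerSeries.derivative F u : PowerSeries F) : LaurentSeries F) +
            HahnSeries.single (m - 1) (m • (1 : F)) * (u : LaurentSeries F))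
        = (HahnSeries.single (-m) (1 : F) * HahnSeries.single m (1 : F)) *
            (((u⁻¹ : PowerSeries F) : LaurentSeries F) *
              ((PowerSeries.derivative F u : PowerSeries F) : LaurentSeries F)) +
          (HahnSeries.single (-m) (1 : F) * HahnSeries.single (m - 1) (m • (1 : F))) *
            ((u : LaurentSeries F) * ((u⁻¹ : PowerSeries F) : LaurentSeries F)) := by ring
      _ = _ := by
        rw [huinv, hss, hss, mul_one]
        have e1 : (-m + m : ℤ) = 0 := by ring
        have e2 : (-m + (m - 1) : ℤ) = -1 := by ring
        rw [e1, e2]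
        simp
  rw [LocRes.resExp, map_inv₀, hg, hprod, LocRes.res_apply, HahnSeries.coeff_add,
    PowerSeries.coeff_coe]
  simp


end Groth.Agent.S12620
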