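import Groth.Statements.S12625
import Groth.Agent.Lib.Helper18.PDiff.Sigma

set_option autoImplicit false
universe u v
open CAlg

namespace Groth.Agent.S12625

/-- For a perfect field `K` of characteristic `p > 0` and a commutative `K`-algebra `A`, put `δ_i(x) =
x^(p^i - 1) dx` in `Ω_{A/K}` and let the subsets `Σ^i ⊆ Ω_{A/K}` be given by `Σ^0 = {0}` and
`Σ^(i+1) = {δ_i(x) + σ | x ∈ A, σ ∈ Σ^i}`; then `Σ^i` equals the additive subgroup of `Ω_{A/K}`
generated by all `δ_j(x)` with `j < i` and `x ∈ A`. -/
theorem result (K : Type u) (A : Type v) [Field K] [PerfectField K] (p : ℕ) [Fact p.Prime] [CharP K p]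
    [CommRing A] [Algebra K A] (i : ℕ) :
    W4bk4bump814p2.sigma K A p i =
      (AddSubgroup.closure (⋃ j ∈ Finset.range i, Set.range (W4bk4bump814p2.delta K A p j)) :
        Set (Ω[A⁄K])) := by
  apply Set.Subset.antisymm
  · intro ω hω
    obtain ⟨z, rfl⟩ := Groth.Agent.Lib.Helper18.PDiff.exists_of_mem_sigma K A p i ω hω
    refine AddSubgroup.sum_mem _ fun j hj => AddSubgroup.subset_closure ?_
    simp only [Set.mem_iUnion, Set.mem_range, exists_prop]
    exact ⟨j, hj, z j, rfl⟩
  · have hle : AddSubgroup.closure (⋃ j ∈ Finset.range i, Set.range (W4bk4bump814p2.delta K A p j)) ≤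
        { carrier := W4bk4bump814p2.sigma K A p i
          add_mem' := fun {a b} ha hb =>
            Groth.Agent.Lib.Helper18.PDiff.add_mem_sigma K A p i a b ha hb
          zero_mem' := Groth.Agent.Lib.Helper18.PDiff.zero_mem_sigma K A p i
          neg_mem' := fun {a} ha => Groth.Agent.Lib.Helper18.PDiff.neg_mem_sigma K A p i a ha } := by
      rw [AddSubgroup.closure_le]
      intro ω hω
      simp only [Set.mem_iUnion, Set.mem_range, exists_prop] at hω
      obtain ⟨j, hj, x, rfl⟩ := hω
      exact Groth.Agent.Lib.Helper18.PDiff.delta_mem_sigma K A p i j (Finset.mem_range.mp hj) x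
    exact hle

end Groth.Agent.S12625
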