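import Groth.Statements.S12628
import Groth.Agent.Lib.Helper18.Tate.WeilDiff3
import Groth.Agent.Lib.Helper18.FF.Weil4
open Groth.Agent.Lib.Helper18.Tate

set_option autoImplicit false
universe u v w
open FunFld

namespace Groth.Agent.S12628

/-- Let `K/k` be a geometric function field of one variable all of whose places carry a Laurent
expansion over `k` in a local parameter (valuation-compatible, valuation ring onto a
finite-dimensional coefficient field, normalised — so every place is separable), and let `v ∈ K`
have `dv ≠ 0`. Then every Weil differential — a `k`-linear form on the repartition space vanishing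
on some `A(D) + K` — is of the form `a ↦ ∑_P Res_P(a_P · u dv)` for exactly one `u ∈ K`, the local
residue being the trace to `k` of the `X⁻¹`-coefficient read through the expansion; i.e. the residue
pairing maps the Kähler differentials ONTO the Weil differentials. (The published statement is over
an algebraically closed field, where every place is rational; this row is the form for any constant
field under the stated separability of all places.) -/
theorem result (k : Type u) (K : Type v) [Field k] [Field K] [Algebra k K]
    (hK : FunFld.IsFunctionField k K) (hg : FunFld.IsGeometric k K)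
    (F : FunFld.Place k K → Type w) [∀ P, Field (F P)] [∀ P, Algebra k (F P)] [∀ P, FiniteDimensional k (F P)]
    (φ : ∀ P, K →ₐ[k] LaurentSeries (F P)) (hφ : ∀ P, LocRes.IsExpansionAt P.1 (φ P))
    (v : K) (hv : KaehlerDifferential.D k K v ≠ 0)
    (ω : Module.Dual k (FunFld.adele k K)) (hω : FunFld.IsWeil ω) :
    ∃! u : K, ∀ a : FunFld.adele k K,
      (Function.support fun P => LocRes.locRes (φ P) ((a : FunFld.Place k K → K) P * u) v).Finite ∧
        ω a = ∑ᶠ P, LocRes.locRes (φ P) ((a : FunFld.Place k K → K) P * u) v := by
  classical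
  obtain ⟨C, hCP, hdiv⟩ := exists_canonical_ordDiff F φ hK hg hφ hv
  have h0 : weilOf' F φ hK hφ 1 v ≠ 0 := Groth.Agent.Lib.Helper18.FF.isDivOf_ne_zero hK hdiv
  obtain ⟨x, hx⟩ := Groth.Agent.Lib.Helper18.FF.exists_smulW_eq hK
    (Groth.Agent.Lib.Helper18.FF.isDivOf_isWeil hdiv) h0 hω
  rw [smulW_weilOf', mul_one] at hx
  refine ⟨x, fun a => ⟨finite_support_locRes_adele' F φ hK hφ x v a.2, ?_⟩, ?_⟩
  · rw [← hx]
    rfl
  · intro u' hu'
    have h1 : weilOf' F φ hK hφ u' v = ω := by
      refine LinearMap.ext fun a => ?_
      rw [(hu' a).2]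
      rfl
    have h2 : Groth.Agent.Lib.Helper18.FF.smulWₗ hK (weilOf' F φ hK hφ 1 v) u' =
        Groth.Agent.Lib.Helper18.FF.smulWₗ hK (weilOf' F φ hK hφ 1 v) x := by
      show Groth.Agent.Lib.Helper18.FF.smulW hK u' _ = Groth.Agent.Lib.Helper18.FF.smulW hK x _
      rw [smulW_weilOf', smulW_weilOf', mul_one, mul_one, h1, hx]
    exact Groth.Agent.Lib.Helper18.FF.smulW_injective hK h0 h2

end Groth.Agent.S12628
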