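import Groth.Statements.S12631
import Groth.Agent.Lib.Helper18.Tate.WeilDiff3
open Groth.Agent.Lib.Helper18.Tate

set_option autoImplicit false
universe u v w
open FunFld

namespace Groth.Agent.S12631

/-- Let `K/k` be a geometric function field of one variable of genus one all of whose places carry a
Laurent expansion over `k` in a local parameter (so every place is separable), and `v ∈ K` with `dv
≠ 0`. Then there is a nonzero `u ∈ K` whose differential `u dv` has divisor zero — the order of
`φ_P(u) · (φ_P v)′` is `0` at every place `P` — and such a `u` is unique up to a factor from `k`.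
(The published statement concerns elliptic curves over algebraically closed fields; this row is the
form for any constant field under the stated separability of all places.) -/
theorem result (k : Type u) (K : Type v) [Field k] [Field K] [Algebra k K]
    (hK : FunFld.IsFunctionField k K) (hg : FunFld.IsGeometric k K) (h1 : FunFld.genus k K = 1)
    (F : FunFld.Place k K → Type w) [∀ P, Field (F P)] [∀ P, Algebra k (F P)] [∀ P, FiniteDimensional k (F P)]
    (φ : ∀ P, K →ₐ[k] LaurentSeries (F P)) (hφ : ∀ P, LocRes.IsExpansionAt P.1 (φ P))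
    (v : K) (hv : KaehlerDifferential.D k K v ≠ 0) :
    (∃ u : K, u ≠ 0 ∧ ∀ P, LocRes.vDiff (φ P) u v = 1) ∧
      ∀ u u' : K, u ≠ 0 → (∀ P, LocRes.vDiff (φ P) u v = 1) → (∀ P, LocRes.vDiff (φ P) u' v = 1) →
        ∃ c : k, u' = c • u := by
  classical
  obtain ⟨C, hCP, hdiv⟩ := exists_canonical_ordDiff F φ hK hg hφ hv
  have hC : FunFld.IsCanonical k K C :=
    ⟨_, Groth.Agent.Lib.Helper18.FF.isDivOf_ne_zero hK hdiv, hdiv⟩
  have hell : Module.finrank k (FunFld.L C) = 1 := by
    have := Groth.Agent.Lib.Helper18.FF.ell_canonical hK hC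
    rw [h1] at this
    exact this
  have hdeg : C.deg = 0 := by
    rw [Groth.Agent.Lib.Helper18.FF.deg_canonical hK hC, h1]
    norm_num
  have key : ∀ y : K, y ≠ 0 → y ∈ FunFld.L C → ∀ P, LocRes.vDiff (φ P) y v = 1 := by
    intro y hy hyL P
    have h2 := (Groth.Agent.Lib.Helper18.FF.mem_L_iff_div hK C hy).mp hyL
    have h3 : C + FunFld.div k y = 0 :=
      Groth.Agent.Lib.Helper18.FF.eq_zero_of_nonneg_of_deg_le hK h2 (by
        rw [Groth.Agent.Lib.Helper18.FF.deg_add, Groth.Agent.Lib.Helper18.FF.deg_div_eq_zero hK,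
          hdeg, add_zero])
    have h4 : C P + P.ord y = 0 := by
      have := congrArg (fun D : FunFld.Divisor k K => D P) h3
      simpa [Groth.Agent.Lib.Helper18.FF.div_apply hK] using this
    rw [vDiff_eq_mul F φ hK hg hφ hv hCP, Groth.Agent.Lib.Helper18.FF.val_eq_exp_neg_ord P hy,
      ← WithZero.exp_add, ← WithZero.exp_zero]
    congr 1
    omega
  have conv : ∀ y : K, (∀ P, LocRes.vDiff (φ P) y v = 1) → y ∈ FunFld.L C := by
    intro y h
    have := (vDiff_le_iff_mem_L F φ hK hg hφ hv hCP 0 y).mp (fun P => by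
      rw [h P]
      simp)
    simpa using this
  constructor
  · haveI := Groth.Agent.Lib.Helper18.FF.finiteDimensional_L hK C
    have hpos : 0 < Module.finrank k (FunFld.L C) := by omega
    obtain ⟨y, hy⟩ := Module.finrank_pos_iff_exists_ne_zero.mp hpos
    have hy0 : (y : K) ≠ 0 := fun h => hy (Subtype.ext h)
    exact ⟨y, hy0, key y hy0 y.2⟩
  · intro u u' hu hU hU'
    have huL := conv u hU
    have hu'L := conv u' hU'
    have hne : (⟨u, huL⟩ : FunFld.L C) ≠ 0 := fun h => hu (congrArg Subtype.val h)
    obtain ⟨c, hc⟩ := (finrank_eq_one_iff_of_nonzero' (⟨u, huL⟩ : FunFld.L C) hne).mp hell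
      ⟨u', hu'L⟩
    exact ⟨c, (congrArg Subtype.val hc).symm⟩

end Groth.Agent.S12631
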