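import Groth.Statements.S1265
import Mathlib
import Groth.Agent.Lib.Helper21.FlatKit2

set_option autoImplicit false
universe u
open FlatMor

namespace Groth.Agent.S1265

open TensorProduct Function Groth.Agent.Lib.Helper21.FlatKit

section Local

open IsLocalRing

variable (R : Type u) [CommRing R] [IsLocalRing R] [IsArtinianRing R]
  (M : Type u) [AddCommGroup M] [Module R M]

/-- minimal free cover over an Artinian local ring -/
theorem exists_cover : ∃ (ι : Type u) (π : (ι →₀ R) →ₗ[R] M), Surjective π ∧
    ∀ f ∈ LinearMap.ker π, ∀ i, f i ∈ maximalIdeal R := by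
  classical
  set m := maximalIdeal R with hm
  letI := Ideal.Quotient.field m
  let V := M ⧸ (m • ⊤ : Submodule R M)
  let b := Module.Free.chooseBasis (R ⧸ m) V
  let ι := Module.Free.ChooseBasisIndex (R ⧸ m) V
  have hx : ∀ i : ι, ∃ x : M, (Submodule.Quotient.mk x : V) = b i :=
    fun i => Submodule.Quotient.mk_surjective _ (b i)
  choose x hx using hx
  have key : ∀ c : ι →₀ R, (Submodule.Quotient.mk (Finsupp.linearCombination R x c) : V) =
      Finsupp.linearCombination (R ⧸ m) b
        (c.mapRange (Ideal.Quotient.mk m) (map_zero _)) := by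
    intro c
    induction c using Finsupp.induction_linear with
    | zero => simp
    | add f g hf hg =>
      rw [map_add, Submodule.Quotient.mk_add, hf, hg,
        Finsupp.mapRange_add (f := Ideal.Quotient.mk m) (map_add _), map_add]
    | single i a =>
      rw [Finsupp.linearCombination_single, Finsupp.mapRange_single,
        Finsupp.linearCombination_single, Submodule.Quotient.mk_smul, hx]
      rfl
  refine ⟨ι, Finsupp.linearCombination R x, ?_, ?_⟩
  · rw [← LinearMap.range_eq_top]
    apply eq_top_of_sup_smul_of_isNilpotent m isNilpotent_maximalIdeal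
    rw [eq_top_iff]
    rintro n -
    obtain ⟨c, hc⟩ := Finsupp.mapRange_surjective (Ideal.Quotient.mk m) (map_zero _)
      Ideal.Quotient.mk_surjective (b.repr (Submodule.Quotient.mk n : V))
    have h1 : (Submodule.Quotient.mk (Finsupp.linearCombination R x c) : V)
        = Submodule.Quotient.mk n := by
      rw [key c, hc, b.linearCombination_repr]
    have h2 : n - Finsupp.linearCombination R x c ∈ (m • ⊤ : Submodule R M) := by
      rw [← Submodule.Quotient.mk_eq_zero, Submodule.Quotient.mk_sub, h1, sub_self]
    have : n = Finsupp.linearCombination R x c + (n - Finsupp.linearCombination R x c) := by abel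
    rw [this]
    exact Submodule.add_mem_sup ⟨c, rfl⟩ h2
  · intro f hf i
    have h0 : Finsupp.linearCombination R x f = 0 := hf
    have h1 := key f
    rw [h0, Submodule.Quotient.mk_zero] at h1
    have h2 := linearIndependent_iff.1 b.linearIndependent _ h1.symm
    have h3 : Ideal.Quotient.mk m (f i) = 0 := by
      have := DFunLike.congr_fun h2 i
      simpa using this
    exact Ideal.Quotient.eq_zero_iff_mem.1 h3

end Local

theorem tmul_eq_zero_of_mem_smul {S : Type*} [CommRing S] (J : Ideal S) {X : Type*} [AddCommGroup X]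
    [Module S X] (q : S ⧸ J) (x : X) (hx : x ∈ J • (⊤ : Submodule S X)) :
    q ⊗ₜ[S] x = 0 := by
  refine Submodule.smul_induction_on hx (fun j hj y _ => ?_) (fun a b ha hb => ?_)
  · rw [← TensorProduct.smul_tmul]
    obtain ⟨a, rfl⟩ := Ideal.Quotient.mk_surjective q
    have : j • (Ideal.Quotient.mk J a) = Ideal.Quotient.mk J (j * a) := rfl
    rw [this, Ideal.Quotient.eq_zero_iff_mem.2 (J.mul_mem_right a hj), zero_tmul]
  · rw [tmul_add, ha, hb, add_zero]

theorem tmul_mem_smul_top {R R' : Type*} [CommRing R] [CommRing R'] [Algebra R R'] {ι F : Type*}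
    [AddCommGroup F] [Module R F] (b : Module.Basis ι R F)
    (m : Ideal R) (f : F) (hf : ∀ i, b.repr f i ∈ m) (a : R') :
    a ⊗ₜ[R] f ∈ (m.map (algebraMap R R')) • (⊤ : Submodule R' (R' ⊗[R] F)) := by
  classical
  rw [← b.linearCombination_repr f, Finsupp.linearCombination_apply, Finsupp.sum, tmul_sum]
  refine Submodule.sum_mem _ fun i _ => ?_
  rw [tmul_smul, ← algebraMap_smul R' (b.repr f i)]
  exact Submodule.smul_mem_smul (Ideal.mem_map_of_mem _ (hf i)) Submodule.mem_top

theorem one_tmul_eq_zero_iff' {R R' : Type*} [CommRing R] [CommRing R'] [Algebra R R'] {ι F : Type*}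
    [AddCommGroup F] [Module R F] (b : Module.Basis ι R F)
    (f : F) : (1 : R') ⊗ₜ[R] f = 0 ↔ ∀ i, algebraMap R R' (b.repr f i) = 0 := by
  classical
  let B := Algebra.TensorProduct.basis R' b
  have h1 : B.repr ((1 : R') ⊗ₜ[R] f) = (b.repr f).mapRange (algebraMap R R') (map_zero _) := by
    rw [Algebra.TensorProduct.basis_repr_tmul, one_smul]
  rw [← B.repr.map_eq_zero_iff, h1]
  constructor
  · intro h i
    have := DFunLike.congr_fun h i
    simpa using this
  · intro h
    ext i
    simpa using h i

theorem injective_of_flat_of_ker_le {S : Type*} [CommRing S] (J : Ideal S) (hJ : IsNilpotent J)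
    {X Y : Type*} [AddCommGroup X] [Module S X] [AddCommGroup Y] [Module S Y] [Module.Flat S Y]
    (p : X →ₗ[S] Y) (hp : Surjective p)
    (h : ∀ z ∈ LinearMap.ker p, z ∈ J • (⊤ : Submodule S X)) : Injective p := by
  set K' := LinearMap.ker p with hK'
  have hKi : Injective (K'.subtype.lTensor (S ⧸ J)) :=
    LinearMap.lTensor_injective_of_exact_of_flat p hp K'.subtype
      K'.injective_subtype (LinearMap.exact_subtype_ker_map p) (S ⧸ J)
  have hsub : Subsingleton ((S ⧸ J) ⊗[S] K') := by
    have h0 : ∀ w, K'.subtype.lTensor (S ⧸ J) w = 0 := by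
      intro w
      induction w using TensorProduct.induction_on with
      | zero => simp
      | tmul q k =>
        rw [LinearMap.lTensor_tmul]
        exact tmul_eq_zero_of_mem_smul J q _ (h k k.2)
      | add a b ha hb => rw [map_add, ha, hb, add_zero]
    exact ⟨fun a b => hKi (by rw [h0, h0])⟩
  have hK'sub : Subsingleton K' := subsingleton_of_tensor_quotient J hJ hsub
  have hK'bot : K' = ⊥ := (Submodule.subsingleton_iff_eq_bot).1 hK'sub
  exact LinearMap.ker_eq_bot.1 hK'bot

theorem core {R : Type u} [CommRing R] (m : Ideal R) (hm : IsNilpotent m) {ι F M : Type u}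
    [AddCommGroup F] [Module R F] [AddCommGroup M] [Module R M] (b : Module.Basis ι R F)
    (π : F →ₗ[R] M) (hπ : Surjective π) (hK : ∀ f ∈ LinearMap.ker π, ∀ i, b.repr f i ∈ m)
    (R' : Type u) [CommRing R'] [Algebra R R'] :
    Module.Flat R' (R' ⊗[R] M) ↔
      (Ideal.span {a | ∃ f ∈ LinearMap.ker π, ∃ i, b.repr f i = a}).map (algebraMap R R') = ⊥ := by
  classical
  set p' : R' ⊗[R] F →ₗ[R'] R' ⊗[R] M := π.baseChange R' with hp'
  have hp's : Surjective p' := by
    have := LinearMap.lTensor_surjective R' hπ
    intro z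
    obtain ⟨w, hw⟩ := this z
    exact ⟨w, by rw [hp', ← hw]; rfl⟩
  have hexact : ∀ z, p' z = 0 →
      ∃ w : R' ⊗[R] LinearMap.ker π, (LinearMap.ker π).subtype.lTensor R' w = z := by
    intro z hz
    have h1 : (π.lTensor R') z = 0 := hz
    exact (lTensor_exact R' (LinearMap.exact_subtype_ker_map π) hπ z).1 h1
  have hinj_to_I : Injective p' → Ideal.map (algebraMap R R')
      (Ideal.span {a | ∃ f ∈ LinearMap.ker π, ∃ i, b.repr f i = a}) = ⊥ := by
    intro hinj
    rw [Ideal.map_span, Ideal.span_eq_bot]
    rintro _ ⟨_, ⟨f, hf, i, rfl⟩, rfl⟩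
    have h1 : p' ((1 : R') ⊗ₜ[R] f) = 0 := by
      rw [hp', LinearMap.baseChange_tmul]
      have : π f = 0 := hf
      rw [this, tmul_zero]
    have h2 : (1 : R') ⊗ₜ[R] f = 0 := hinj (by rw [h1, map_zero])
    exact (one_tmul_eq_zero_iff' b f).1 h2 i
  constructor
  · intro hflat
    apply hinj_to_I
    set J := m.map (algebraMap R R') with hJdef
    have hJ : IsNilpotent J := by
      obtain ⟨n, hn⟩ := hm
      refine ⟨n, ?_⟩
      rw [hJdef, ← Ideal.map_pow, hn]
      simp
    have hK'J : ∀ z ∈ LinearMap.ker p', z ∈ J • (⊤ : Submodule R' (R' ⊗[R] F)) := by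
      intro z hz
      obtain ⟨w, rfl⟩ := hexact z hz
      clear hz
      induction w using TensorProduct.induction_on with
      | zero => simp
      | tmul a k =>
        rw [LinearMap.lTensor_tmul]
        exact tmul_mem_smul_top b m _ (hK _ k.2) a
      | add a b ha hb =>
        rw [map_add]
        exact Submodule.add_mem _ ha hb
    exact injective_of_flat_of_ker_le J hJ p' hp's hK'J
  · intro hI
    have hinj : Injective p' := by
      rw [← LinearMap.ker_eq_bot, eq_bot_iff]
      intro z hz
      obtain ⟨w, rfl⟩ := hexact z hz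
      rw [Submodule.mem_bot]
      clear hz
      induction w using TensorProduct.induction_on with
      | zero => simp
      | tmul a k =>
        rw [LinearMap.lTensor_tmul]
        have h1 : (1 : R') ⊗ₜ[R] ((LinearMap.ker π).subtype k) = 0 := by
          rw [one_tmul_eq_zero_iff' b]
          intro i
          have : algebraMap R R' (b.repr k.1 i) ∈ Ideal.map (algebraMap R R')
              (Ideal.span {a | ∃ f ∈ LinearMap.ker π, ∃ i, b.repr f i = a}) :=
            Ideal.mem_map_of_mem _ (Ideal.subset_span ⟨k.1, k.2, i, rfl⟩)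
          rw [hI] at this
          exact this
        have h2 : a ⊗ₜ[R] ((LinearMap.ker π).subtype k) =
            a • ((1 : R') ⊗ₜ[R] ((LinearMap.ker π).subtype k)) := by
          rw [TensorProduct.smul_tmul', smul_eq_mul, mul_one]
        rw [h2, h1, smul_zero]
      | add a b ha hb => rw [map_add, ha, hb, add_zero]
    have : Module.Free R' (R' ⊗[R] F) := Module.Free.of_basis (Algebra.TensorProduct.basis R' b)
    exact Module.Flat.of_linearEquiv (LinearEquiv.ofBijective p' ⟨hinj, hp's⟩).symm

section Local2

open IsLocalRing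

variable (R : Type u) [CommRing R] [IsLocalRing R] [IsArtinianRing R]
  (M : Type u) [AddCommGroup M] [Module R M]

theorem local_main : ∃ I : Ideal R, ∀ (R' : Type u) [CommRing R'] [Algebra R R'],
    Module.Flat R' (R' ⊗[R] M) ↔ I.map (algebraMap R R') = ⊥ := by
  classical
  obtain ⟨ι, π, hπ, hK⟩ := exists_cover R M
  refine ⟨Ideal.span {a | ∃ f ∈ LinearMap.ker π,
    ∃ i, (Finsupp.basisSingleOne (R := R) (ι := ι)).repr f i = a}, ?_⟩
  intro R' _ _
  exact core (maximalIdeal R) isNilpotent_maximalIdeal Finsupp.basisSingleOne π hπ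
    (fun f hf i => by simpa using hK f hf i) R'

end Local2

section Global

variable (A : Type u) [CommRing A] (N : Type u) [AddCommGroup N] [Module A N]

theorem flat_localization_iff (A' : Type u) [CommRing A'] [Algebra A A'] (q' : Ideal A')
    [q'.IsPrime] (I : Ideal (Localization.AtPrime (q'.comap (algebraMap A A'))))
    (hI : ∀ (R' : Type u) [CommRing R']
      [Algebra (Localization.AtPrime (q'.comap (algebraMap A A'))) R'],
      Module.Flat R' (R' ⊗[Localization.AtPrime (q'.comap (algebraMap A A'))]
        (Localization.AtPrime (q'.comap (algebraMap A A')) ⊗[A] N)) ↔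
          I.map (algebraMap _ R') = ⊥) :
    Module.Flat (Localization.AtPrime q') (Localization.AtPrime q' ⊗[A'] (A' ⊗[A] N)) ↔
      I.map (Localization.localRingHom (q'.comap (algebraMap A A')) q' (algebraMap A A') rfl)
        = ⊥ := by
  set p := q'.comap (algebraMap A A') with hp
  letI : Algebra (Localization.AtPrime p) (Localization.AtPrime q') :=
    (Localization.localRingHom p q' (algebraMap A A') rfl).toAlgebra
  haveI : IsScalarTower A (Localization.AtPrime p) (Localization.AtPrime q') :=
    IsScalarTower.of_algebraMap_eq (fun x => by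
      rw [RingHom.algebraMap_toAlgebra, Localization.localRingHom_to_map,
        IsScalarTower.algebraMap_apply A A' (Localization.AtPrime q')])
  have e : Localization.AtPrime q' ⊗[Localization.AtPrime p] (Localization.AtPrime p ⊗[A] N)
      ≃ₗ[Localization.AtPrime q'] Localization.AtPrime q' ⊗[A'] (A' ⊗[A] N) :=
    (TensorProduct.AlgebraTensorModule.cancelBaseChange A (Localization.AtPrime p)
      (Localization.AtPrime q') (Localization.AtPrime q') N) ≪≫ₗ
    (TensorProduct.AlgebraTensorModule.cancelBaseChange A A'
      (Localization.AtPrime q') (Localization.AtPrime q') N).symm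
  have h1 := hI (Localization.AtPrime q')
  rw [RingHom.algebraMap_toAlgebra] at h1
  rw [← h1]
  exact ⟨fun h => Module.Flat.of_linearEquiv e, fun h => Module.Flat.of_linearEquiv e.symm⟩

variable [IsArtinianRing A]

theorem global_main : ∃ I : Ideal A, ∀ (A' : Type u) [CommRing A'] [Algebra A A'],
    Module.Flat A' (A' ⊗[A] N) ↔ I.map (algebraMap A A') = ⊥ := by
  classical
  have hloc : ∀ q : PrimeSpectrum A, ∃ I : Ideal (Localization.AtPrime q.asIdeal),
      ∀ (R' : Type u) [CommRing R'] [Algebra (Localization.AtPrime q.asIdeal) R'],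
      Module.Flat R' (R' ⊗[Localization.AtPrime q.asIdeal]
        (Localization.AtPrime q.asIdeal ⊗[A] N)) ↔
        I.map (algebraMap _ R') = ⊥ := fun q => local_main _ _
  choose Iq hIq using hloc
  set I : Ideal A := ⨅ q, (Iq q).comap (algebraMap A (Localization.AtPrime q.asIdeal)) with hIdef
  refine ⟨I, ?_⟩
  intro A' _ _
  have ha : ∀ (q : PrimeSpectrum A) (a : A), a ∈ I →
      algebraMap A (Localization.AtPrime q.asIdeal) a ∈ Iq q := by
    intro q a ha
    exact (Ideal.mem_iInf.1 ha) q
  have hb : ∀ (q : PrimeSpectrum A) (y : Localization.AtPrime q.asIdeal), y ∈ Iq q →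
      ∃ a ∈ I, algebraMap A (Localization.AtPrime q.asIdeal) a = y := by
    intro q y hy
    obtain ⟨r, hr⟩ := PrimeSpectrum.toPiLocalization_bijective.2 (Pi.single q y)
    have hr2 : ∀ q2 : PrimeSpectrum A, algebraMap A (Localization.AtPrime q2.asIdeal) r =
        (Pi.single q y : PrimeSpectrum.PiLocalization A) q2 := by
      intro q2
      rw [← hr]
      rfl
    refine ⟨r, ?_, ?_⟩
    · rw [hIdef, Ideal.mem_iInf]
      intro q2
      rw [Ideal.mem_comap, hr2 q2]
      by_cases h : q2 = q
      · subst h
        rw [Pi.single_eq_same]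
        exact hy
      · rw [Pi.single_eq_of_ne h]
        exact zero_mem _
    · rw [hr2 q, Pi.single_eq_same]
  constructor
  · intro hflat
    rw [eq_bot_iff, Ideal.map_le_iff_le_comap]
    intro a ha'
    rw [Ideal.mem_comap, Ideal.mem_bot]
    apply eq_zero_of_localization
    intro q' hq'
    haveI := hq'.isPrime
    have hfl : Module.Flat (Localization.AtPrime q')
        (Localization.AtPrime q' ⊗[A'] (A' ⊗[A] N)) := inferInstance
    have h1 := (flat_localization_iff A N A' q'
      (Iq ⟨q'.comap (algebraMap A A'), inferInstance⟩)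
        (hIq ⟨q'.comap (algebraMap A A'), inferInstance⟩)).1 hfl
    have h2 := ha ⟨q'.comap (algebraMap A A'), inferInstance⟩ a ha'
    have h3 : Localization.localRingHom _ q' (algebraMap A A') rfl (algebraMap A _ a) ∈
        (⊥ : Ideal (Localization.AtPrime q')) := by
      rw [← h1]
      exact Ideal.mem_map_of_mem _ h2
    rw [Ideal.mem_bot, Localization.localRingHom_to_map] at h3
    exact h3
  · intro hI
    refine Module.flat_of_isLocalized_maximal A' (A' ⊗[A] N)
      (fun P _ => Localization.AtPrime P ⊗[A'] (A' ⊗[A] N))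
      (fun P _ => TensorProduct.mk A' (Localization.AtPrime P) (A' ⊗[A] N) 1) ?_
    intro q' hq'
    haveI := hq'.isPrime
    have hfl : Module.Flat (Localization.AtPrime q')
        (Localization.AtPrime q' ⊗[A'] (A' ⊗[A] N)) := by
      rw [flat_localization_iff A N A' q' (Iq ⟨q'.comap (algebraMap A A'), inferInstance⟩)
        (hIq ⟨q'.comap (algebraMap A A'), inferInstance⟩)]
      rw [eq_bot_iff, Ideal.map_le_iff_le_comap]
      intro y hy
      obtain ⟨a, haI, rfl⟩ := hb ⟨q'.comap (algebraMap A A'), inferInstance⟩ y hy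
      rw [Ideal.mem_comap, Ideal.mem_bot, Localization.localRingHom_to_map]
      have : algebraMap A A' a = 0 := by
        have : algebraMap A A' a ∈ I.map (algebraMap A A') := Ideal.mem_map_of_mem _ haI
        rw [hI] at this
        exact this
      rw [this, map_zero]
    exact Module.Flat.trans A' (Localization.AtPrime q') _

end Global


/-- Ring form, stated for X = Spec B affine: let A be an Artinian ring, B an A-algebra and N a B-module.
Then there is an ideal I of A such that for every A-algebra A', with B' = B ⊗_A A' and N' the base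
change of N (any models), N' is flat over A' if and only if IA' = 0. -/
theorem result {A B : Type u} [CommRing A] [IsArtinianRing A] [CommRing B] [Algebra A B]
    (N : Type u) [AddCommGroup N] [Module B N] [Module A N] [IsScalarTower A B N] :
    ∃ I : Ideal A, ∀ (A' B' N' : Type u) [CommRing A'] [CommRing B'] [Algebra A A'] [Algebra B B'] [Algebra A' B'] [Algebra A B']
      [IsScalarTower A B B'] [IsScalarTower A A' B'] [Algebra.IsPushout A B A' B']
      [AddCommGroup N'] [Module B' N'] [Module B N'] [IsScalarTower B B' N'] [Module A' N'] [IsScalarTower A' B' N']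
      (f : N →ₗ[B] N'), IsBaseChange B' f →
      (Module.Flat A' N' ↔ I.map (algebraMap A A') = ⊥) := by
  obtain ⟨I, hI⟩ := global_main A N
  refine ⟨I, ?_⟩
  intro A' B' N' _ _ _ _ _ _ _ _ _ _ _ _ _ _ _ f hf
  rw [← hI A']
  have : Algebra.IsPushout A A' B B' := Algebra.IsPushout.symm inferInstance
  let e1 : B' ⊗[B] N ≃ₗ[B'] N' := hf.equiv
  let e2 : B' ⊗[B] N ≃ₗ[A'] A' ⊗[A] N := Algebra.IsPushout.cancelBaseChange A A' B B' N
  let e : N' ≃ₗ[A'] A' ⊗[A] N := (e1.restrictScalars A').symm ≪≫ₗ e2
  exact ⟨fun h => Module.Flat.of_linearEquiv e.symm, fun h => Module.Flat.of_linearEquiv e⟩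

end Groth.Agent.S1265
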