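import Groth.Statements.S1267
import Mathlib
import Groth.Agent.Lib.Helper17.LocalFlat
import Groth.Agent.Lib.Helper2.LocalCrit
import Groth.Agent.Lib.Helper21.NFlatKit3
import Groth.Agent.Lib.Helper21.DepthKit12

set_option autoImplicit false
universe u
open FlatMor

namespace Groth.Agent.S1267

open TensorProduct Function

section G

variable {R : Type u} [CommRing R] (𝔞 : Ideal R) (X : Type u) [AddCommGroup X] [Module R X]

/-- elements of the kernel of `X ⊗ 𝔞 → X ⊗ R` are killed locally where `X` is flat -/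
theorem exists_smul_eq_zero (P : Ideal R) [P.IsPrime]
    [Module.Flat R (LocalizedModule P.primeCompl X)]
    (z : X ⊗[R] 𝔞) (hz : (𝔞.subtype.lTensor X) z = 0) : ∃ s : R, s ∉ P ∧ s • z = 0 := by
  let g := LocalizedModule.mkLinearMap P.primeCompl X
  let G' := TensorProduct.AlgebraTensorModule.rTensor R 𝔞 g
  have hG' : G' z = 0 := by
    have hinj : Injective (𝔞.subtype.lTensor (LocalizedModule P.primeCompl X)) :=
      Module.Flat.lTensor_preserves_injective_linearMap _ 𝔞.injective_subtype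
    apply hinj
    rw [map_zero]
    have h1 : (𝔞.subtype.lTensor (LocalizedModule P.primeCompl X)) (G' z) =
        (g.rTensor R) ((𝔞.subtype.lTensor X) z) := by
      have : (𝔞.subtype.lTensor (LocalizedModule P.primeCompl X)) ∘ₗ (g.rTensor 𝔞) =
          (g.rTensor R) ∘ₗ (𝔞.subtype.lTensor X) := by
        rw [LinearMap.lTensor_comp_rTensor, LinearMap.rTensor_comp_lTensor]
      exact LinearMap.congr_fun this z
    rw [h1, hz, map_zero]
  obtain ⟨s, hs⟩ := (IsLocalizedModule.eq_zero_iff P.primeCompl G').1 hG'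
  exact ⟨s.1, s.2, hs⟩

/-- an element of `X ⊗ (ι → Q)` (finite `ι`) is zero if all its components are -/
theorem eq_zero_of_proj {ι : Type*} [Fintype ι] [DecidableEq ι] (Q : Type*) [AddCommGroup Q]
    [Module R Q] (w : X ⊗[R] (ι → Q))
    (h : ∀ i, ((LinearMap.proj i : (ι → Q) →ₗ[R] Q).lTensor X) w = 0) : w = 0 := by
  have hid : (LinearMap.id : (ι → Q) →ₗ[R] (ι → Q)) =
      ∑ i, (LinearMap.single R (fun _ => Q) i) ∘ₗ (LinearMap.proj i) := by
    ext x j
    simp [LinearMap.sum_apply, Finset.sum_apply, Pi.single_apply]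
  have h1 : w = (LinearMap.id.lTensor X) w := by simp
  rw [h1, hid]
  have h2 : (LinearMap.lTensor X (∑ i, (LinearMap.single R (fun _ => Q) i) ∘ₗ
      (LinearMap.proj i : (ι → Q) →ₗ[R] Q))) =
      ∑ i, (LinearMap.lTensor X ((LinearMap.single R (fun _ => Q) i) ∘ₗ
        (LinearMap.proj i : (ι → Q) →ₗ[R] Q))) := map_sum (LinearMap.lTensorHom X) _ _
  rw [h2, LinearMap.sum_apply]
  refine Finset.sum_eq_zero fun i _ => ?_
  rw [LinearMap.lTensor_comp, LinearMap.comp_apply, h i, map_zero]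

theorem flat_of_sq_zero (h2 : 𝔞 ^ 2 = ⊥)
    [Module.Flat (R ⧸ 𝔞) ((R ⧸ 𝔞) ⊗[R] X)] (fs : Finset R)
    (hloc : ∀ (P : Ideal R) [P.IsPrime], (∃ f ∈ fs, f ∉ P) →
      Module.Flat R (LocalizedModule P.primeCompl X))
    (hinj : ∀ x ∈ 𝔞, (∀ f ∈ fs, ∃ n : ℕ, f ^ n * x = 0) → x = 0) : Module.Flat R X := by
  classical
  have hnil : IsNilpotent 𝔞 := ⟨2, h2⟩
  apply Groth.Agent.Lib.Helper17.LocalFlat.flat_of_nilpotent X hnil
  rw [← LinearMap.lTensor_inj_iff_rTensor_inj, injective_iff_map_eq_zero]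
  intro z hz
  -- step 1
  have h1 : ∀ f ∈ fs, ∃ n : ℕ, f ^ n • z = 0 := by
    intro f hf
    by_contra hcon
    push_neg at hcon
    let J : Ideal R := LinearMap.ker (LinearMap.toSpanSingleton R (X ⊗[R] 𝔞) z)
    have hJ : ∀ r, r ∈ J ↔ r • z = 0 := fun r => by
      simp [J, LinearMap.mem_ker, LinearMap.toSpanSingleton_apply]
    have hdisj : Disjoint (J : Set R) (Submonoid.powers f : Set R) := by
      rw [Set.disjoint_left]
      rintro r hr ⟨n, rfl⟩
      exact hcon n ((hJ _).1 hr)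
    obtain ⟨P, hP, hJP, hPf⟩ := Ideal.exists_le_prime_disjoint J (Submonoid.powers f) hdisj
    have hfP : f ∉ P := fun h =>
      Set.disjoint_left.1 hPf h (Submonoid.mem_powers f)
    haveI := hloc P ⟨f, hf, hfP⟩
    obtain ⟨s, hsP, hs⟩ := exists_smul_eq_zero 𝔞 X P z hz
    exact hsP (hJP ((hJ s).2 hs))
  choose! n hn using h1
  -- step 2
  let φ : 𝔞 →ₗ[R] (fs → 𝔞) := LinearMap.pi (fun f => (f.1 ^ n f.1) • LinearMap.id)
  have hφ : Injective φ := by
    rw [injective_iff_map_eq_zero]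
    intro x hx
    apply Subtype.ext
    apply hinj x.1 x.2
    intro f hf
    refine ⟨n f, ?_⟩
    have := congrFun hx ⟨f, hf⟩
    have h3 : (f ^ n f) • x = 0 := this
    have := congrArg Subtype.val h3
    simpa using this
  -- step 3: module structure over R ⧸ 𝔞
  have htors : Module.IsTorsionBySet R 𝔞 (𝔞 : Set R) := by
    intro x a
    apply Subtype.ext
    have : (a : R) * (x : R) ∈ 𝔞 ^ 2 := by
      rw [pow_two]
      exact Ideal.mul_mem_mul a.2 x.2
    rw [h2] at this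
    simpa using this
  letI : Module (R ⧸ 𝔞) 𝔞 := htors.module
  haveI : IsScalarTower R (R ⧸ 𝔞) 𝔞 := htors.isScalarTower
  let φ' : 𝔞 →ₗ[R ⧸ 𝔞] (fs → 𝔞) := φ.extendScalarsOfSurjective Ideal.Quotient.mk_surjective
  have hφ' : Injective φ' := hφ
  have hinjT : Injective (φ.lTensor X) :=
    Groth.Agent.Lib.Helper2.LocalCrit.lTensor_injective_of_flat_baseChange (R := R) (A := R ⧸ 𝔞)
      (M := X) φ' hφ'
  -- step 4
  apply hinjT
  rw [map_zero]
  apply eq_zero_of_proj X 𝔞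
  intro f
  rw [← LinearMap.comp_apply, ← LinearMap.lTensor_comp]
  have : (LinearMap.proj f : (fs → 𝔞) →ₗ[R] 𝔞) ∘ₗ φ = (f.1 ^ n f.1) • LinearMap.id := by
    ext x
    rfl
  rw [this, LinearMap.lTensor_smul, LinearMap.smul_apply, LinearMap.lTensor_id, LinearMap.id_apply]
  exact hn f.1 f.2

end G

section L

variable {A : Type u} [CommRing A] (J : Ideal A) (M : Type u) [AddCommGroup M] [Module A M]

/-- localization of `M/JM` at a prime of `A/J` is flat over `A/J` if `M_p` is flat over `A`. -/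
theorem flat_localization_quot (P : Ideal (A ⧸ J)) [P.IsPrime]
    (h : Module.Flat A (LocalizedModule (P.comap (algebraMap A (A ⧸ J))).primeCompl M)) :
    Module.Flat (A ⧸ J) (LocalizedModule P.primeCompl (M ⧸ (J • ⊤ : Submodule A M))) := by
  set p := P.comap (algebraMap A (A ⧸ J)) with hp
  let X := M ⧸ (J • ⊤ : Submodule A M)
  let Mp := LocalizedModule p.primeCompl M
  let g₀ : M →ₗ[A] Mp := LocalizedModule.mkLinearMap p.primeCompl M
  let g₁ : M ⊗[A] (A ⧸ J) →ₗ[A] Mp ⊗[A] (A ⧸ J) :=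
    TensorProduct.AlgebraTensorModule.rTensor A (A ⧸ J) g₀
  let e₁ : M ⊗[A] (A ⧸ J) ≃ₗ[A] X := TensorProduct.tensorQuotEquivQuotSMul M J
  let g₁' : X →ₗ[A] Mp ⊗[A] (A ⧸ J) := g₁ ∘ₗ e₁.symm.toLinearMap
  haveI : IsLocalizedModule p.primeCompl g₁' := IsLocalizedModule.of_linearEquiv_right _ _ _
  let g₂ : X →ₗ[A] LocalizedModule P.primeCompl X :=
    (LocalizedModule.mkLinearMap P.primeCompl X).restrictScalars A
  haveI : IsLocalizedModule p.primeCompl g₂ :=
    Groth.Agent.Lib.Helper21.DepthKit.isLocalizedModule_comap (N := X)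
      Ideal.Quotient.mk_surjective P
  let e₂ : LocalizedModule P.primeCompl X ≃ₗ[A] Mp ⊗[A] (A ⧸ J) :=
    IsLocalizedModule.linearEquiv p.primeCompl g₂ g₁'
  let e₃ : LocalizedModule P.primeCompl X ≃ₗ[A] (A ⧸ J) ⊗[A] Mp :=
    e₂ ≪≫ₗ TensorProduct.comm A Mp (A ⧸ J)
  let e₄ : LocalizedModule P.primeCompl X ≃ₗ[A ⧸ J] (A ⧸ J) ⊗[A] Mp :=
    e₃.extendScalarsOfSurjective Ideal.Quotient.mk_surjective
  exact Module.Flat.of_linearEquiv e₄

end L


/-- Let A be a local ring, I an ideal, U a quasi-compact open subset of Spec A and M an A-module such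
that M/IM is flat over A/I and M_p is flat over A for all p in U. Let I₂ be the kernel of I → Γ(U,
I/I²), that is the set of x ∈ I such that for every p ∈ U some s outside p has s·x ∈ I². Then M/I₂M
is flat over A/I₂. -/
theorem result {A : Type u} [CommRing A] [IsLocalRing A] (I : Ideal A)
    (U : Set (PrimeSpectrum A)) (hU : IsOpen U) (hUc : IsCompact U)
    (M : Type u) [AddCommGroup M] [Module A M]
    [Module.Flat (A ⧸ I) (M ⧸ (I • ⊤ : Submodule A M))]
    (hflat : ∀ p ∈ U, Module.Flat A (LocalizedModule p.asIdeal.primeCompl M))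
    (I₂ : Ideal A) (hI₂ : ∀ x : A, x ∈ I₂ ↔ x ∈ I ∧ ∀ p ∈ U, ∃ s : A, s ∉ p.asIdeal ∧ s * x ∈ I ^ 2) :
    Module.Flat (A ⧸ I₂) (M ⧸ (I₂ • ⊤ : Submodule A M)) := by
  classical
  obtain ⟨t, ht⟩ := PrimeSpectrum.isCompact_isOpen_iff.1 ⟨hUc, hU⟩
  have hUmem : ∀ p : PrimeSpectrum A, p ∈ U ↔ ∃ f ∈ t, f ∉ p.asIdeal := by
    intro p
    rw [← ht]
    simp [PrimeSpectrum.mem_zeroLocus, Set.not_subset]
  have hI₂I : I₂ ≤ I := fun x hx => ((hI₂ x).1 hx).1
  have hsq : I ^ 2 ≤ I₂ := fun x hx => (hI₂ x).2 ⟨Ideal.pow_le_self two_ne_zero hx,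
    fun p _ => ⟨1, (p.asIdeal.ne_top_iff_one).1 p.2.ne_top, by simpa using hx⟩⟩
  set 𝔞 : Ideal (A ⧸ I₂) := I.map (Ideal.Quotient.mk I₂) with h𝔞
  have h2 : 𝔞 ^ 2 = ⊥ := by
    rw [h𝔞, ← Ideal.map_pow, eq_bot_iff, Ideal.map_le_iff_le_comap]
    intro x hx
    rw [Ideal.mem_comap, Ideal.mem_bot, Ideal.Quotient.eq_zero_iff_mem]
    exact hsq hx
  have hcomap : 𝔞.comap (Ideal.Quotient.mk I₂) = I := by
    rw [h𝔞, Ideal.comap_map_of_surjective _ Ideal.Quotient.mk_surjective,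
      ← RingHom.ker_eq_comap_bot, Ideal.mk_ker, sup_eq_left]
    exact hI₂I
  haveI : Module.Flat ((A ⧸ I₂) ⧸ 𝔞)
      (((A ⧸ I₂) ⧸ 𝔞) ⊗[A ⧸ I₂] (M ⧸ (I₂ • ⊤ : Submodule A M))) := by
    apply Groth.Agent.Lib.Helper21.NFlatKit.flat_tensor_quot_of_flat_quot M I₂ 𝔞
    rw [hcomap]
    infer_instance
  apply flat_of_sq_zero 𝔞 _ h2 (t.image (Ideal.Quotient.mk I₂))
  · rintro P _ ⟨f, hf, hfP⟩
    apply flat_localization_quot
    apply hflat ⟨P.comap (algebraMap A (A ⧸ I₂)), inferInstance⟩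
    rw [hUmem]
    obtain ⟨f0, hf0, rfl⟩ := Finset.mem_image.1 hf
    exact ⟨f0, hf0, hfP⟩
  · intro x hx hfs
    obtain ⟨x0, rfl⟩ := Ideal.Quotient.mk_surjective x
    have hx0 : x0 ∈ I := by
      have : x0 ∈ 𝔞.comap (Ideal.Quotient.mk I₂) := hx
      rwa [hcomap] at this
    rw [Ideal.Quotient.eq_zero_iff_mem, hI₂]
    refine ⟨hx0, fun p hp => ?_⟩
    obtain ⟨f, hft, hfp⟩ := (hUmem p).1 hp
    obtain ⟨n, hn⟩ := hfs _ (Finset.mem_image_of_mem _ hft)
    have h3 : f ^ n * x0 ∈ I₂ := by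
      rw [← Ideal.Quotient.eq_zero_iff_mem, map_mul, map_pow]
      exact hn
    obtain ⟨s, hs, hsx⟩ := ((hI₂ _).1 h3).2 p hp
    refine ⟨s * f ^ n, ?_, by rwa [mul_assoc]⟩
    exact p.asIdeal.primeCompl.mul_mem hs (p.asIdeal.primeCompl.pow_mem hfp n)

end Groth.Agent.S1267
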