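import Groth.Statements.S12707
import Mathlib

set_option autoImplicit false
universe u v
open CategoryTheory
open ArtFun ArtFun.Art

namespace Groth.Agent.S12707

section helpers
open CategoryTheory ArtFun

variable {Λ : Type u} {k : Type u} [CommRing Λ] [Field k] [Algebra Λ k]

lemma nontrivial_quot (B : Art Λ k) (J : Ideal B) (hJ : J ≤ IsLocalRing.maximalIdeal B) :
    Nontrivial (B ⧸ J) := by
  rw [Ideal.Quotient.nontrivial_iff]
  intro h
  have h1 : (1 : B) ∈ IsLocalRing.maximalIdeal B := hJ (h ▸ Submodule.mem_top)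
  exact (IsLocalRing.maximalIdeal.isMaximal B).ne_top ((Ideal.eq_top_iff_one _).2 h1)

lemma isLocalRing_quot (B : Art Λ k) (J : Ideal B) (hJ : J ≤ IsLocalRing.maximalIdeal B) :
    IsLocalRing (B ⧸ J) :=
  haveI : Nontrivial (B ⧸ J) := nontrivial_quot B J hJ
  IsLocalRing.of_surjective' (Ideal.Quotient.mk J) Ideal.Quotient.mk_surjective

lemma isArtinianRing_quot (B : Art Λ k) (J : Ideal B) : IsArtinianRing (B ⧸ J) :=
  Function.Surjective.isArtinianRing (f := Ideal.Quotient.mk J) Ideal.Quotient.mk_surjective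

/-- The quotient object. -/
noncomputable def Q (B : Art Λ k) (J : Ideal B) (hJ : J ≤ IsLocalRing.maximalIdeal B) : Art Λ k :=
  { carrier := B ⧸ J
    commRing := inferInstance
    algebra := inferInstance
    isLocalRing := isLocalRing_quot B J hJ
    isArtinianRing := isArtinianRing_quot B J
    res := Ideal.Quotient.liftₐ J B.res (fun a ha => (B.mem_maximalIdeal_iff a).1 (hJ ha))
    res_surjective := fun x => by
      obtain ⟨b, hb⟩ := B.res_surjective x
      exact ⟨Ideal.Quotient.mk J b, hb⟩ }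

noncomputable def proj (B : Art Λ k) (J : Ideal B) (hJ : J ≤ IsLocalRing.maximalIdeal B) :
    B ⟶ Q B J hJ :=
  Art.homMk (Ideal.Quotient.mkₐ Λ J) (AlgHom.ext fun _ => rfl)

lemma proj_surjective (B : Art Λ k) (J : Ideal B) (hJ : J ≤ IsLocalRing.maximalIdeal B) :
    Function.Surjective (proj B J hJ) := Ideal.Quotient.mk_surjective

lemma proj_eq_zero_iff (B : Art Λ k) (J : Ideal B) (hJ : J ≤ IsLocalRing.maximalIdeal B) (b : B) :
    (proj B J hJ) b = 0 ↔ b ∈ J := Ideal.Quotient.eq_zero_iff_mem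

noncomputable def liftQ (B : Art Λ k) (J : Ideal B) (hJ : J ≤ IsLocalRing.maximalIdeal B)
    {A : Art Λ k} (φ : B ⟶ A) (h : ∀ a ∈ J, φ a = 0) : Q B J hJ ⟶ A :=
  Art.homMk (Ideal.Quotient.liftₐ J φ.toAlgHom h) (by
    apply AlgHom.ext
    intro x
    obtain ⟨b, rfl⟩ := Ideal.Quotient.mk_surjective x
    exact Art.res_app φ b)

lemma liftQ_apply (B : Art Λ k) (J : Ideal B) (hJ : J ≤ IsLocalRing.maximalIdeal B)
    {A : Art Λ k} (φ : B ⟶ A) (h : ∀ a ∈ J, φ a = 0) (b : B) :
    (liftQ B J hJ φ h) (proj B J hJ b) = φ b := rfl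

lemma hom_ext_Q (B : Art Λ k) (J : Ideal B) (hJ : J ≤ IsLocalRing.maximalIdeal B)
    {A : Art Λ k} (u v : Q B J hJ ⟶ A) (h : ∀ b : B, u (proj B J hJ b) = v (proj B J hJ b)) :
    u = v := by
  apply Art.hom_ext
  apply AlgHom.ext
  intro x
  obtain ⟨b, rfl⟩ := proj_surjective B J hJ x
  exact h b

lemma isIso_of_bijective {A B : Art Λ k} (f : B ⟶ A) (h : Function.Bijective f) : IsIso f := by
  let e : B ≃ₐ[Λ] A := AlgEquiv.ofBijective f.toAlgHom h
  have he : ∀ b, e b = f b := fun b => rfl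
  refine ⟨⟨Art.homMk (e.symm : A →ₐ[Λ] B) ?_, ?_, ?_⟩⟩
  · apply AlgHom.ext
    intro a
    obtain ⟨b, rfl⟩ := h.2 a
    change B.res (e.symm (f b)) = A.res (f b)
    rw [← he, e.symm_apply_apply, he, Art.res_app]
  · apply Art.hom_ext
    apply AlgHom.ext
    intro b
    change e.symm (f b) = b
    rw [← he, e.symm_apply_apply]
  · apply Art.hom_ext
    apply AlgHom.ext
    intro a
    change f (e.symm a) = a
    rw [← he, e.apply_symm_apply]

lemma mem_max_Q (B : Art Λ k) (J : Ideal B) (hJ : J ≤ IsLocalRing.maximalIdeal B) (b : B) :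
    (proj B J hJ) b ∈ IsLocalRing.maximalIdeal (Q B J hJ) ↔
      b ∈ IsLocalRing.maximalIdeal B := by
  rw [Art.mem_maximalIdeal_iff, Art.mem_maximalIdeal_iff, Art.res_app]

lemma exists_socle_elt (B : Art Λ k) (J K : Ideal B) (hKJ : ¬ K ≤ J) :
    ∃ x ∈ K, x ∉ J ∧ ∀ a ∈ IsLocalRing.maximalIdeal B, a * x ∈ J := by
  set m := IsLocalRing.maximalIdeal B with hm
  have hnil : ∃ n, m ^ n * K ≤ J := by
    have h1 : IsNilpotent (Ideal.jacobson (⊥ : Ideal B)) := IsArtinianRing.isNilpotent_jacobson_bot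
    rw [IsLocalRing.jacobson_eq_maximalIdeal _ bot_ne_top] at h1
    obtain ⟨n, hn⟩ := h1
    refine ⟨n, ?_⟩
    rw [← hm] at hn
    rw [hn, Ideal.zero_eq_bot, Ideal.bot_mul]
    exact bot_le
  classical
  have hn0 : Nat.find hnil ≠ 0 := by
    intro h0
    have := Nat.find_spec hnil
    rw [h0, pow_zero, Ideal.one_eq_top, Ideal.top_mul] at this
    exact hKJ this
  obtain ⟨n, hn⟩ := Nat.exists_eq_succ_of_ne_zero hn0
  have hnot : ¬ m ^ n * K ≤ J := Nat.find_min hnil (by omega)
  obtain ⟨x, hx, hxJ⟩ := SetLike.not_le_iff_exists.1 hnot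
  have hxK : x ∈ K := Ideal.mul_le_right hx
  refine ⟨x, hxK, hxJ, ?_⟩
  intro a ha
  have h1 : m ^ (n + 1) * K ≤ J := by
    have := Nat.find_spec hnil
    rwa [hn] at this
  apply h1
  rw [pow_succ', mul_assoc]
  exact Ideal.mul_mem_mul ha hx

theorem main (B : Art Λ k)
    (P : ∀ ⦃A B : ArtFun.Art Λ k⦄, (B ⟶ A) → Prop)
    (hiso : ∀ ⦃A B : ArtFun.Art Λ k⦄ (e : B ⟶ A), IsIso e → P e)
    (hsmall : ∀ ⦃A B : ArtFun.Art Λ k⦄ (p : B ⟶ A), ArtFun.Art.IsSmallExt p → P p)
    (hcomp : ∀ ⦃A B C : ArtFun.Art Λ k⦄ (p : C ⟶ B) (q : B ⟶ A), P p → P q → P (p ≫ q))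
    (J : Ideal B) :
    ∀ (hJ : J ≤ IsLocalRing.maximalIdeal B) (A : Art Λ k) (f : Q B J hJ ⟶ A),
      Function.Surjective f → P f := by
  induction J using WellFoundedGT.induction with
  | ind J IH =>
  intro hJ A f hf
  let π := proj B J hJ
  have hπ : Function.Surjective π := proj_surjective B J hJ
  -- K = kernel of B → A
  let φ : B ⟶ A := π ≫ f
  have hφ : ∀ b, φ b = f (π b) := fun b => rfl
  let K : Ideal B := RingHom.ker φ.toAlgHom
  have hK : ∀ b, b ∈ K ↔ f (π b) = 0 := fun b => Iff.rfl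
  have hJK : J ≤ K := by
    intro a ha
    rw [hK, (proj_eq_zero_iff B J hJ a).2 ha]
    exact map_zero f.toAlgHom
  have hKm : K ≤ IsLocalRing.maximalIdeal B := by
    intro a ha
    rw [Art.mem_maximalIdeal_iff, ← Art.res_app φ a]
    have : φ a = 0 := ha
    rw [this, map_zero]
  by_cases hKJ : K ≤ J
  · -- f is injective, hence iso
    apply hiso
    apply isIso_of_bijective
    refine ⟨?_, hf⟩
    intro x y hxy
    obtain ⟨a, rfl⟩ := hπ x
    obtain ⟨b, rfl⟩ := hπ y
    have h1 : a - b ∈ J := by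
      apply hKJ
      rw [hK]
      have : π (a - b) = π a - π b := map_sub π.toAlgHom a b
      rw [this]
      have : f (π a - π b) = f (π a) - f (π b) := map_sub f.toAlgHom _ _
      rw [this]
      exact sub_eq_zero.2 hxy
    have h2 : π (a - b) = 0 := (proj_eq_zero_iff B J hJ _).2 h1
    have h3 : π (a - b) = π a - π b := map_sub π.toAlgHom a b
    rw [h3] at h2
    exact sub_eq_zero.1 h2
  · obtain ⟨x, hxK, hxJ, hmx⟩ := exists_socle_elt B J K hKJ
    -- J' 
    set J' : Ideal B := J ⊔ Ideal.span {x} with hJ'def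
    have hxJ' : x ∈ J' := Ideal.mem_sup_right (Ideal.subset_span rfl)
    have hJJ' : J < J' := lt_of_le_of_ne le_sup_left (fun e => hxJ (e ▸ hxJ'))
    have hJ'K : J' ≤ K := sup_le hJK ((Ideal.span_singleton_le_iff_mem _).2 hxK)
    have hJ'm : J' ≤ IsLocalRing.maximalIdeal B := hJ'K.trans hKm
    let π' := proj B J' hJ'm
    -- p
    let p : Q B J hJ ⟶ Q B J' hJ'm := liftQ B J hJ π' (by
      intro a ha
      exact (proj_eq_zero_iff B J' hJ'm a).2 (hJJ'.le ha))
    have hp : ∀ b, p (π b) = π' b := fun b => rfl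
    let g : Q B J' hJ'm ⟶ A := liftQ B J' hJ'm φ (fun a ha => hJ'K ha)
    have hg : ∀ b, g (π' b) = f (π b) := fun b => rfl
    have hpg : p ≫ g = f := by
      apply hom_ext_Q
      intro b
      rfl
    have hgsurj : Function.Surjective g := by
      intro a
      obtain ⟨y, rfl⟩ := hf a
      obtain ⟨b, rfl⟩ := hπ y
      exact ⟨π' b, rfl⟩
    have hPg : P g := IH J' hJJ' hJ'm A g hgsurj
    have hker : RingHom.ker p.toAlgHom = Ideal.span {π x} := by
      apply le_antisymm
      · intro y hy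
        obtain ⟨b, rfl⟩ := hπ y
        have hb : b ∈ J' := (proj_eq_zero_iff B J' hJ'm b).1 hy
        obtain ⟨j, hj, z, hz, rfl⟩ := Submodule.mem_sup.1 hb
        obtain ⟨c, rfl⟩ := Ideal.mem_span_singleton'.1 hz
        have e1 : π (j + c * x) = π j + π c * π x := by
          rw [← map_mul π.toAlgHom, ← map_add π.toAlgHom]
        rw [e1, (proj_eq_zero_iff B J hJ j).2 hj, zero_add]
        exact Ideal.mul_mem_left _ _ (Ideal.subset_span rfl)
      · rw [Ideal.span_singleton_le_iff_mem]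
        exact (proj_eq_zero_iff B J' hJ'm x).2 hxJ'
    have hPp : P p := by
      apply hsmall
      refine ⟨?_, ?_, ?_, ?_⟩
      · intro y
        obtain ⟨b, rfl⟩ := proj_surjective B J' hJ'm y
        exact ⟨π b, rfl⟩
      · rw [hker]
        intro h
        rw [Ideal.span_singleton_eq_bot] at h
        exact hxJ ((proj_eq_zero_iff B J hJ x).1 h)
      · rw [hker]
        exact ⟨⟨_, rfl⟩⟩
      · rw [hker, eq_bot_iff, Ideal.mul_le]
        intro y hy z hz
        obtain ⟨b, rfl⟩ := hπ y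
        rw [mem_max_Q] at hy
        obtain ⟨c, rfl⟩ := Ideal.mem_span_singleton'.1 hz
        rw [Ideal.mem_bot]
        have e1 : π b * (c * π x) = c * π (b * x) := by
          have : π (b * x) = π b * π x := map_mul π.toAlgHom b x
          rw [this]; ring
        rw [e1, (proj_eq_zero_iff B J hJ _).2 (hmx b hy), mul_zero]
    rw [← hpg]
    exact hcomp p g hPp hPg

theorem final
    (P : ∀ ⦃A B : ArtFun.Art Λ k⦄, (B ⟶ A) → Prop)
    (hiso : ∀ ⦃A B : ArtFun.Art Λ k⦄ (e : B ⟶ A), IsIso e → P e)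
    (hsmall : ∀ ⦃A B : ArtFun.Art Λ k⦄ (p : B ⟶ A), ArtFun.Art.IsSmallExt p → P p)
    (hcomp : ∀ ⦃A B C : ArtFun.Art Λ k⦄ (p : C ⟶ B) (q : B ⟶ A), P p → P q → P (p ≫ q))
    ⦃A B : ArtFun.Art Λ k⦄ (f : B ⟶ A) (hf : Function.Surjective f) : P f := by
  have h0 : (⊥ : Ideal B) ≤ IsLocalRing.maximalIdeal B := bot_le
  let π := proj B ⊥ h0
  have hπ : Function.Bijective π := by
    refine ⟨?_, proj_surjective B ⊥ h0⟩
    intro a b hab
    have h3 : π (a - b) = π a - π b := map_sub π.toAlgHom a b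
    have : π (a - b) = 0 := by rw [h3]; exact sub_eq_zero.2 hab
    have := (proj_eq_zero_iff B ⊥ h0 _).1 this
    exact sub_eq_zero.1 this
  let g : Q B ⊥ h0 ⟶ A := liftQ B ⊥ h0 f (by
    intro a ha
    rw [Ideal.mem_bot] at ha
    rw [ha]; exact map_zero f.toAlgHom)
  have hpg : π ≫ g = f := by
    apply Art.hom_ext
    apply AlgHom.ext
    intro b
    rfl
  have hgsurj : Function.Surjective g := by
    intro a
    obtain ⟨b, rfl⟩ := hf a
    exact ⟨π b, rfl⟩
  rw [← hpg]
  exact hcomp π g (hiso π (isIso_of_bijective π hπ)) (main B P hiso hsmall hcomp ⊥ h0 A g hgsurj)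

end helpers


/-- In the category of Artinian local Λ-algebras with residue field k (Λ Noetherian, Λ → k finite),
every surjective morphism is a composite of small extensions. Stated as the equivalent induction
principle: a property of morphisms that holds for isomorphisms and for small extensions and is
stable under composition holds for every surjective morphism. -/
theorem result {Λ : Type u} {k : Type u} [CommRing Λ] [Field k] [Algebra Λ k]
    [IsNoetherianRing Λ] [Module.Finite Λ k]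
    (P : ∀ ⦃A B : ArtFun.Art Λ k⦄, (B ⟶ A) → Prop)
    (hiso : ∀ ⦃A B : ArtFun.Art Λ k⦄ (e : B ⟶ A), IsIso e → P e)
    (hsmall : ∀ ⦃A B : ArtFun.Art Λ k⦄ (p : B ⟶ A), ArtFun.Art.IsSmallExt p → P p)
    (hcomp : ∀ ⦃A B C : ArtFun.Art Λ k⦄ (p : C ⟶ B) (q : B ⟶ A), P p → P q → P (p ≫ q))
    ⦃A B : ArtFun.Art Λ k⦄ (f : B ⟶ A) (hf : Function.Surjective f) : P f := by
  exact final P hiso hsmall hcomp f hf

end Groth.Agent.S12707
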