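import Groth.Statements.S12708
import Mathlib.RingTheory.LocalRing.Length

set_option autoImplicit false
universe u v
open CategoryTheory
open ArtFun

namespace Groth.Agent.S12708

open IsLocalRing LinearMap Module Submodule

section
variable {Λ : Type u} {k : Type u} [CommRing Λ] [Field k] [Algebra Λ k]
    (A : Type u) [CommRing A] [Algebra Λ A] [IsLocalRing A] [Algebra A k] [IsScalarTower Λ A k]
    (hres : Function.Surjective (algebraMap A k))
    {M : Type v} [AddCommGroup M] [Module A M] [Module Λ M] [IsScalarTower Λ A M]

include hres in
theorem covBy_length {p q : Submodule A M} (h : p ⋖ q) :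
    Module.length Λ q = Module.length Λ p + Module.length Λ k := by
  let f : p →ₗ[A] q := inclusion h.le
  have key : IsSimpleModule A (q ⧸ LinearMap.range f) := by
    rwa [range_inclusion, ← covBy_iff_quot_is_simple h.le]
  obtain ⟨m, hm, ⟨e⟩⟩ := isSimpleModule_iff_quot_maximal.mp key
  rw [eq_maximalIdeal hm] at e
  -- `A ⧸ m ≃ k`
  have hker : LinearMap.ker (Algebra.linearMap A k) = maximalIdeal A := by
    have hmax : (RingHom.ker (algebraMap A k)).IsMaximal :=
      RingHom.ker_isMaximal_of_surjective _ hres
    have := eq_maximalIdeal hmax
    rw [← this]
    rfl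
  let e2 : (A ⧸ maximalIdeal A) ≃ₗ[A] k :=
    (Submodule.quotEquivOfEq _ _ hker.symm).trans
      ((Algebra.linearMap A k).quotKerEquivOfSurjective hres)
  let g : q →ₗ[A] k := (e.trans e2).toLinearMap.comp (LinearMap.range f).mkQ
  have h1 : Function.Injective f := inclusion_injective _
  have h2 : Function.Surjective g := (e.trans e2).surjective.comp (LinearMap.range f).mkQ_surjective
  have h3 : Function.Exact f g :=
    LinearMap.exact_iff.mpr (((e.trans e2).ker_comp (LinearMap.range f).mkQ).trans
      (LinearMap.range f).ker_mkQ)
  exact length_eq_add_of_exact (f.restrictScalars Λ) (g.restrictScalars Λ)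
    (by simpa) (by simpa) (by simpa)

end


/-- For Λ Noetherian with a finite map to a field k, A a local Λ-algebra whose residue field is k
(through a surjective Λ-algebra map A → k) and M an A-module, the length of M over Λ equals the
degree of k over the image of Λ times the length of M over A. The degree is written as the length of
k as a Λ-module, which is the same number; lengths are in ℕ∞. -/
theorem result {Λ : Type u} {k : Type u} [CommRing Λ] [Field k] [Algebra Λ k]
    [IsNoetherianRing Λ] [Module.Finite Λ k]
    (A : Type u) [CommRing A] [Algebra Λ A] [IsLocalRing A] [Algebra A k] [IsScalarTower Λ A k]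
    (hres : Function.Surjective (algebraMap A k))
    (M : Type v) [AddCommGroup M] [Module A M] [Module Λ M] [IsScalarTower Λ A M] :
    Module.length Λ k * Module.length A M = Module.length Λ M := by
  by_cases h : IsFiniteLength A M
  · obtain ⟨s, hs_bot, hs_top⟩ := isFiniteLength_iff_exists_compositionSeries.mp h
    rw [← length_compositionSeries s hs_bot hs_top]
    suffices ∀ i, Module.length Λ (s i) = Module.length Λ k * i by
      rw [← Fin.val_last s.length, ← this, ← RelSeries.last, hs_top]
      exact length_top
    intro i
    induction i using Fin.induction with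
    | zero => rw [← RelSeries.head, hs_bot]; simp
    | succ i hi =>
      have := covBy_length (Λ := Λ) A hres (s.step i)
      rw [this, hi]
      simp [mul_add]
  · have : ¬ IsFiniteLength Λ M := by
      contrapose! h
      rw [isFiniteLength_iff_isNoetherian_isArtinian] at h ⊢
      exact h.imp (isNoetherian_of_tower Λ) (isArtinian_of_tower Λ)
    rw [← length_ne_top_iff, not_ne_iff] at h this
    have ne : Module.length Λ k ≠ 0 := by
      simpa [pos_iff_ne_zero] using (Module.length_pos (R := Λ) (M := k))
    rw [h, this, ENat.mul_top ne]

end Groth.Agent.S12708
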