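import Groth.Statements.S12713
import Groth.Agent.Lib.Helper1.ArtFunHullStep

set_option autoImplicit false
universe u v
open CategoryTheory
open ArtFun ArtFun.Art

namespace Groth.Agent.S12713

open ArtFun ArtFun.Art Groth.Agent.Lib.Helper1.ArtFunHullStep Groth.Agent.Lib.Helper1.ArtFunVersalCrit

/-- A small extension f : B → A in the category of Artinian local Λ-algebras with residue field k is not
an essential surjection (some morphism g : C → B is non-surjective although the composite C → A is
surjective) if and only if f has a section A → B in the category. -/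
theorem result {Λ : Type u} {k : Type u} [CommRing Λ] [Field k] [Algebra Λ k]
    [IsNoetherianRing Λ] [Module.Finite Λ k]
    {A B : ArtFun.Art Λ k} (f : B ⟶ A) (hf : ArtFun.Art.IsSmallExt f) :
    (∃ (C : ArtFun.Art Λ k) (g : C ⟶ B), Function.Surjective (g ≫ f) ∧ ¬ Function.Surjective g) ↔
      ∃ s : A ⟶ B, s ≫ f = 𝟙 A := by
  constructor
  · rintro ⟨C, g, hgf, hg⟩
    let v : HomSet C C.res B := ⟨g.toAlgHom, g.res_comp⟩
    let w : HomSet C C.res A := ⟨(g ≫ f).toAlgHom, (g ≫ f).res_comp⟩
    have hv : HomSet.map f v = w := rfl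
    rcases surjective_or_ker_le f hf w hgf v hv with hs | hk
    · exact absurd hs hg
    · obtain ⟨s, hs⟩ := exists_factor w hgf v hk
      refine ⟨s, ?_⟩
      apply hom_ext_of_surjective w hgf
      rw [homSet_map_comp, hs, hv, homSet_map_id]
  · rintro ⟨s, hs⟩
    refine ⟨A, s, by rw [hs]; exact Function.surjective_id, ?_⟩
    intro hsurj
    apply hf.2.1
    rw [eq_bot_iff]
    intro b hb
    rw [RingHom.mem_ker] at hb
    obtain ⟨a, rfl⟩ := hsurj b
    have h1 : f (s a) = a := congrArg (fun t : A ⟶ A => t.toAlgHom a) hs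
    have hb' : f (s a) = 0 := hb
    rw [h1] at hb'
    rw [Ideal.mem_bot, hb']
    exact map_zero s.toAlgHom

end Groth.Agent.S12713
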