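import Groth.Statements.S12714
import Groth.Agent.Lib.Helper1.ArtFunSurj

set_option autoImplicit false
universe u v
open CategoryTheory
open ArtFun ArtFun.CRing

namespace Groth.Agent.S12714

/-- For a morphism f : R → S of complete local Noetherian Λ-algebras with residue field k (compatible
with the augmentations to k), the following are equivalent: (1) f is surjective; (2) m_R/m_R² →
m_S/m_S² is surjective, written as f(m_R)S + m_S² = m_S; (3) the map of cotangent spaces relative to
Λ is surjective, written as m_Λ S + f(m_R)S + m_S² = m_S with m_Λ the kernel of Λ → k. -/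
theorem result {Λ : Type u} {k : Type u} [CommRing Λ] [Field k] [Algebra Λ k]
    [IsNoetherianRing Λ] [Module.Finite Λ k]
    (R S : ArtFun.CRing Λ k) (f : R.carrier →ₐ[Λ] S.carrier) (hf : S.res.comp f = R.res) :
    List.TFAE [Function.Surjective f,
      Ideal.map f (IsLocalRing.maximalIdeal R.carrier) ⊔ IsLocalRing.maximalIdeal S.carrier ^ 2 =
        IsLocalRing.maximalIdeal S.carrier,
      Ideal.map (algebraMap Λ S.carrier) (RingHom.ker (algebraMap Λ k)) ⊔
        Ideal.map f (IsLocalRing.maximalIdeal R.carrier) ⊔ IsLocalRing.maximalIdeal S.carrier ^ 2 =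
        IsLocalRing.maximalIdeal S.carrier] := by
  have hfr : ∀ r : R.carrier, S.res (f r) = R.res r := fun r => by rw [← hf]; rfl
  have hmaple : Ideal.map f (IsLocalRing.maximalIdeal R.carrier) ≤
      IsLocalRing.maximalIdeal S.carrier := by
    rw [Ideal.map_le_iff_le_comap]
    intro r hr
    rw [Ideal.mem_comap, CRing.mem_maximalIdeal_iff, hfr, ← CRing.mem_maximalIdeal_iff]
    exact hr
  have hΛle : Ideal.map (algebraMap Λ S.carrier) (RingHom.ker (algebraMap Λ k)) ≤
      Ideal.map f (IsLocalRing.maximalIdeal R.carrier) := by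
    rw [Ideal.map_le_iff_le_comap]
    intro l hl
    rw [Ideal.mem_comap, ← f.commutes l]
    apply Ideal.mem_map_of_mem
    rw [CRing.mem_maximalIdeal_iff, R.res.commutes]
    exact hl
  tfae_have 1 → 2 := by
    intro hs
    apply le_antisymm (sup_le hmaple (Ideal.pow_le_self two_ne_zero))
    intro s hs'
    obtain ⟨r, rfl⟩ := hs s
    apply Ideal.mem_sup_left
    apply Ideal.mem_map_of_mem
    rw [CRing.mem_maximalIdeal_iff, ← hfr, ← CRing.mem_maximalIdeal_iff]
    exact hs'
  tfae_have 2 → 3 := by
    intro h
    rw [sup_eq_right.2 hΛle]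
    exact h
  tfae_have 3 → 1 := by
    intro h
    rw [sup_eq_right.2 hΛle] at h
    haveI : IsAdicComplete (IsLocalRing.maximalIdeal R.carrier) R.carrier := R.isAdicComplete
    have : Function.Surjective (f : R.carrier →+* S.carrier) := by
      apply Groth.Agent.Lib.Helper1.ArtFunSurj.surjective_of_map_sup_sq (f : R.carrier →+* S.carrier) ?_ h
      intro s
      obtain ⟨r, hr⟩ := R.res_surjective (S.res s)
      exact ⟨r, by rw [CRing.mem_maximalIdeal_iff, map_sub]; erw [hfr, hr, sub_self]⟩
    exact this
  tfae_finish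

end Groth.Agent.S12714
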