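import Groth.Statements.S12725
import Groth.Agent.Lib.Helper1.ArtFunTszeObj
import Mathlib

set_option autoImplicit false
universe u v
open CategoryTheory
open ArtFun

namespace Groth.Agent.S12725

section Aux

open ArtFun.Art Groth.Agent.Lib.Helper1.ArtFunBasic Groth.Agent.Lib.Helper1.ArtFunFib
  Groth.Agent.Lib.Helper1.ArtFunTszeObj

variable {Λ : Type u} {k : Type u} [CommRing Λ] [Field k] [Algebra Λ k]
variable {F : ArtFun.Art Λ k ⥤ Type v}

lemma initMap_surjective (j : ℕ) : Function.Surjective (initMap (Λ := Λ) (k := k) j) := by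
  intro x
  refine ⟨(x.fst, Fin.snoc (α := fun _ => k) x.snd 0), ?_⟩
  refine TrivSqZeroExt.ext rfl (funext fun i => ?_)
  change Fin.snoc (α := fun _ => k) x.snd 0 (Fin.castSucc i) = x.snd i
  rw [Fin.snoc_castSucc]

/-- the square `B = B₀ ×_k D`. -/
theorem top_square {B A : Art Λ k} (j : ℕ) (p' : B ⟶ A) (p'' : B ⟶ tszeObj Λ k (j + 1))
    (h : IsFibreProd p' p'' (toBase A) (toBase (tszeObj Λ k (j + 1)))) :
    IsFibreProd (midMk p' p'' (initMap j)) (p'' ≫ prj (j + 1) (Fin.last j))
      (toBase (mid p' p'' (initMap j))) (toBase (dual Λ k)) where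
  w := by rw [eq_toBase (midMk p' p'' (initMap j) ≫ toBase _), eq_toBase ((p'' ≫ prj (j + 1) (Fin.last j)) ≫ toBase _)]
  inj b₁ b₂ h₁ h₂ := by
    rw [midMk_eq_iff] at h₁
    refine h.inj b₁ b₂ h₁.1 ?_
    exact (isFibreProd_snoc (Λ := Λ) (k := k) j).inj _ _ h₁.2 h₂
  surj x y hxy := by
    obtain ⟨b, rfl⟩ := midMk_surjective p' p'' (initMap j) x
    -- residues
    have hres : (tszeObj Λ k j).res (initMap j (p'' b)) = (dual Λ k).res y := by
      have h1 : (dual Λ k).res y = (mid p' p'' (initMap j)).res (midMk p' p'' (initMap j) b) :=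
        hxy.symm
      rw [h1, res_app, res_app, res_app]
    obtain ⟨e, he1, he2⟩ := (isFibreProd_snoc (Λ := Λ) (k := k) j).surj (initMap j (p'' b)) y hres
    have hres2 : (toBase A) (p' b) = (toBase (tszeObj Λ k (j + 1))) e := by
      change A.res (p' b) = (tszeObj Λ k (j + 1)).res e
      rw [res_app, ← res_app (initMap j) e, he1, res_app, res_app]
    obtain ⟨b', hb1, hb2⟩ := h.surj (p' b) e hres2
    refine ⟨b', ?_, ?_⟩
    · rw [midMk_eq_iff]
      refine ⟨hb1, ?_⟩
      rw [hb2, he1]
    · change prj (j + 1) (Fin.last j) (p'' b') = y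
      rw [hb2, he2]

theorem tsze_bij (hF : Heps F) (j : ℕ) : ∀ {B A : Art Λ k} (p' : B ⟶ A) (p'' : B ⟶ tszeObj Λ k j)
    (h : IsFibreProd p' p'' (toBase A) (toBase (tszeObj Λ k j))), Function.Bijective (cmp F h) := by
  induction j with
  | zero =>
    intro B A p' p'' h
    haveI : IsIso (toBase (tszeObj Λ k 0)) := by
      apply isIso_of_bijective
      constructor
      · intro x y hxy
        have h1 : x.fst = y.fst := hxy
        exact TrivSqZeroExt.ext h1 (Subsingleton.elim _ _)
      · intro a
        exact ⟨TrivSqZeroExt.inl a, rfl⟩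
    exact cmp_bijective_of_isIso F h
  | succ j ih =>
    intro B A p' p'' h
    have e1 : toBase (tszeObj Λ k (j + 1)) = initMap j ≫ toBase (tszeObj Λ k j) :=
      (eq_toBase _).symm
    have h' : IsFibreProd p' p'' (toBase A) (initMap j ≫ toBase (tszeObj Λ k j)) := e1 ▸ h
    have h0 := mid_isFibreProd h' (initMap_surjective j)
    have ih0 := ih _ _ h0
    have ht := top_square j p' p'' h
    have hb1 := hF _ _ ht
    have hb2 := hF _ _ (isFibreProd_snoc (Λ := Λ) (k := k) j)
    constructor
    · intro z₁ z₂ hz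
      have hz1 : F.map p' z₁ = F.map p' z₂ := congrArg (fun t => t.1.1) hz
      have hz2 : F.map p'' z₁ = F.map p'' z₂ := congrArg (fun t => t.1.2) hz
      apply hb1.1
      apply FibProd.ext
      · change F.map (midMk p' p'' (initMap j)) z₁ = F.map (midMk p' p'' (initMap j)) z₂
        apply ih0.1
        apply FibProd.ext
        · change F.map (midFst p' p'' (initMap j)) (F.map (midMk p' p'' (initMap j)) z₁) =
            F.map (midFst p' p'' (initMap j)) (F.map (midMk p' p'' (initMap j)) z₂)
          rw [← map_comp_apply, ← map_comp_apply, midMk_midFst]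
          exact hz1
        · change F.map (midSnd p' p'' (initMap j)) (F.map (midMk p' p'' (initMap j)) z₁) =
            F.map (midSnd p' p'' (initMap j)) (F.map (midMk p' p'' (initMap j)) z₂)
          rw [← map_comp_apply, ← map_comp_apply, midMk_midSnd, map_comp_apply, map_comp_apply, hz2]
      · change F.map (p'' ≫ prj (j + 1) (Fin.last j)) z₁ = F.map (p'' ≫ prj (j + 1) (Fin.last j)) z₂
        rw [map_comp_apply, map_comp_apply, hz2]
    · rintro ⟨⟨a, e⟩, hae⟩
      have hae' : F.map (toBase A) a = F.map (toBase (tszeObj Λ k (j + 1))) e := hae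
      -- element of F(B₀)
      have hc0 : F.map (toBase A) a =
          F.map (toBase (tszeObj Λ k j)) (F.map (initMap j) e) := by
        rw [hae', ← map_comp_apply, ← e1]
      obtain ⟨x₀, hx₀⟩ := ih0.2 ⟨(a, F.map (initMap j) e), hc0⟩
      have hx₀1 : F.map (midFst p' p'' (initMap j)) x₀ = a := congrArg (fun t => t.1.1) hx₀
      have hx₀2 : F.map (midSnd p' p'' (initMap j)) x₀ = F.map (initMap j) e :=
        congrArg (fun t => t.1.2) hx₀
      have hc1 : F.map (toBase (mid p' p'' (initMap j))) x₀ =
          F.map (toBase (dual Λ k)) (F.map (prj (j + 1) (Fin.last j)) e) := by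
        have e2 : toBase (mid p' p'' (initMap j)) = midFst p' p'' (initMap j) ≫ toBase A :=
          (eq_toBase _).symm
        have e3 : toBase (tszeObj Λ k (j + 1)) = prj (j + 1) (Fin.last j) ≫ toBase (dual Λ k) :=
          (eq_toBase _).symm
        rw [e2, map_comp_apply, hx₀1, hae', e3, map_comp_apply]
      obtain ⟨z, hz⟩ := hb1.2 ⟨(x₀, F.map (prj (j + 1) (Fin.last j)) e), hc1⟩
      have hz1 : F.map (midMk p' p'' (initMap j)) z = x₀ := congrArg (fun t => t.1.1) hz
      have hz2 : F.map (p'' ≫ prj (j + 1) (Fin.last j)) z = F.map (prj (j + 1) (Fin.last j)) e :=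
        congrArg (fun t => t.1.2) hz
      refine ⟨z, ?_⟩
      apply FibProd.ext
      · change F.map p' z = a
        rw [← midMk_midFst p' p'' (initMap j), map_comp_apply, hz1, hx₀1]
      · change F.map p'' z = e
        apply hb2.1
        apply FibProd.ext
        · change F.map (initMap j) (F.map p'' z) = F.map (initMap j) e
          rw [← map_comp_apply, ← midMk_midSnd p' p'' (initMap j), map_comp_apply, hz1, hx₀2]
        · change F.map (prj (j + 1) (Fin.last j)) (F.map p'' z) = F.map (prj (j + 1) (Fin.last j)) e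
          rw [← map_comp_apply, hz2]

theorem exists_bij_tsze (E : Art Λ k) (σ : base Λ k ⟶ E)
    (hE : IsLocalRing.maximalIdeal E ^ 2 = ⊥) :
    ∃ (j : ℕ) (θ : tszeObj Λ k j ⟶ E), Function.Bijective θ := by
  classical
  let s : k →ₐ[Λ] E := σ.toAlgHom
  have hσ : ∀ c : k, E.res (s c) = c := fun c => by
    change (E.res.comp σ.toAlgHom) c = c
    rw [σ.res_comp]
    rfl
  have hmm : ∀ x y : E, x ∈ IsLocalRing.maximalIdeal E → y ∈ IsLocalRing.maximalIdeal E →
      x * y = 0 := by
    intro x y hx hy
    have : x * y ∈ IsLocalRing.maximalIdeal E ^ 2 := by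
      rw [pow_two]; exact Ideal.mul_mem_mul hx hy
    rwa [hE, Ideal.mem_bot] at this
  have hdec : ∀ x : E, x - s (E.res x) ∈ IsLocalRing.maximalIdeal E := by
    intro x
    rw [mem_maximalIdeal_iff, map_sub, hσ, sub_self]
  letI modK : Module k E := Module.compHom E (s : k →+* E)
  have hsmul : ∀ (c : k) (x : E), c • x = s c * x := fun c x => rfl
  have hmul : ∀ (c y : E), y ∈ IsLocalRing.maximalIdeal E → c * y = (E.res c) • y := by
    intro c y hy
    rw [hsmul]
    have := hmm _ _ (hdec c) hy
    rw [sub_mul, sub_eq_zero] at this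
    exact this
  let W : Submodule k E :=
    { carrier := IsLocalRing.maximalIdeal E
      add_mem' := fun ha hb => Ideal.add_mem _ ha hb
      zero_mem' := Ideal.zero_mem _
      smul_mem' := fun c x hx => by
        change c • x ∈ IsLocalRing.maximalIdeal E
        rw [hsmul]
        exact Ideal.mul_mem_left _ _ hx }
  have hWmem : ∀ x : E, x ∈ W ↔ x ∈ IsLocalRing.maximalIdeal E := fun x => Iff.rfl
  have hWfg : W.FG := by
    obtain ⟨S, hS⟩ := (IsNoetherian.noetherian (IsLocalRing.maximalIdeal E) :
      (IsLocalRing.maximalIdeal E).FG)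
    have h1 : Submodule.span k (S : Set E) ≤ W := by
      rw [Submodule.span_le]
      intro s hs
      change s ∈ IsLocalRing.maximalIdeal E
      rw [← hS]
      exact Submodule.subset_span hs
    refine ⟨S, le_antisymm h1 ?_⟩
    intro x hx
    have hx' : x ∈ Submodule.span E (S : Set E) := by rw [hS]; exact hx
    induction hx' using Submodule.span_induction with
    | mem y hy => exact Submodule.subset_span hy
    | zero => exact Submodule.zero_mem _
    | add y z _ _ hy hz =>
      exact Submodule.add_mem _ (hy (by rw [hWmem, ← hS]; assumption))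
        (hz (by rw [hWmem, ← hS]; assumption))
    | smul c y hy' hy =>
      have hyS : y ∈ Submodule.span k (S : Set E) := hy (by rw [hWmem, ← hS]; exact hy')
      rw [smul_eq_mul, hmul c y (h1 hyS)]
      exact Submodule.smul_mem _ _ hyS
  haveI : Module.Finite k W := Module.Finite.iff_fg.2 hWfg
  let b := Module.finBasis k W
  let g : (Fin (Module.finrank k W) → k) →ₗ[k] E := W.subtype ∘ₗ b.equivFun.symm.toLinearMap
  have hgm : ∀ x, g x ∈ IsLocalRing.maximalIdeal E := fun x => (b.equivFun.symm x).2
  let ψ : TrivSqZeroExt k (Fin (Module.finrank k W) → k) →ₐ[Λ] E :=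
    { toFun := fun x => s x.fst + g x.snd
      map_one' := by
        change s 1 + g 0 = 1
        rw [map_one, map_zero, add_zero]
      map_mul' := fun x y => by
        change s (x.fst * y.fst) + g (x.fst • y.snd + MulOpposite.op y.fst • x.snd) =
          (s x.fst + g x.snd) * (s y.fst + g y.snd)
        rw [op_smul_eq_smul, map_add, map_smul, map_smul, hsmul, hsmul, map_mul]
        have := hmm _ _ (hgm x.snd) (hgm y.snd)
        linear_combination (-1 : E) * this
      map_zero' := by
        change s 0 + g 0 = 0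
        rw [map_zero, map_zero, add_zero]
      map_add' := fun x y => by
        change s (x.fst + y.fst) + g (x.snd + y.snd) =
          (s x.fst + g x.snd) + (s y.fst + g y.snd)
        rw [map_add, map_add]
        abel
      commutes' := fun r => by
        change s (algebraMap Λ k r) + g 0 = algebraMap Λ E r
        rw [map_zero, add_zero, AlgHom.commutes] }
  have hψ : ∀ x, ψ x = s x.fst + g x.snd := fun x => rfl
  have hresg : ∀ x, E.res (g x) = 0 := fun x => (mem_maximalIdeal_iff E _).1 (hgm x)
  refine ⟨Module.finrank k W, ⟨ψ, ?_⟩, ?_, ?_⟩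
  · apply AlgHom.ext
    intro (x : TrivSqZeroExt k (Fin (Module.finrank k W) → k))
    change E.res (ψ x) = x.fst
    rw [hψ, map_add, hσ, hresg, add_zero]
  · intro (x : TrivSqZeroExt k (Fin (Module.finrank k W) → k))
      (y : TrivSqZeroExt k (Fin (Module.finrank k W) → k)) hxy
    change ψ x = ψ y at hxy
    have h1 : x.fst = y.fst := by
      have := congrArg E.res hxy
      rwa [hψ, hψ, map_add, map_add, hσ, hσ, hresg, hresg, add_zero, add_zero] at this
    rw [hψ, hψ, h1, add_left_cancel_iff] at hxy
    have h2 : b.equivFun.symm x.snd = b.equivFun.symm y.snd := Subtype.ext hxy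
    exact TrivSqZeroExt.ext h1 (b.equivFun.symm.injective h2)
  · intro x
    refine ⟨((E.res x, b.equivFun ⟨x - s (E.res x), hdec x⟩) :
      TrivSqZeroExt k (Fin (Module.finrank k W) → k)), ?_⟩
    change s (E.res x) + ((b.equivFun.symm (b.equivFun ⟨x - s (E.res x), hdec x⟩) : W) : E) = x
    rw [LinearEquiv.symm_apply_apply]
    change s (E.res x) + (x - s (E.res x)) = x
    ring

theorem main (hF : Heps F) {E : Art Λ k} (hσ : Nonempty (base Λ k ⟶ E))
    (hE : IsLocalRing.maximalIdeal E ^ 2 = ⊥)
    ⦃B A : Art Λ k⦄ (p' : B ⟶ A) (p'' : B ⟶ E)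
    (h : IsFibreProd p' p'' (toBase A) (toBase E)) :
    Function.Bijective (cmp F h) := by
  obtain ⟨σ⟩ := hσ
  obtain ⟨j, θ', hθ'⟩ := exists_bij_tsze E σ hE
  haveI : IsIso θ' := isIso_of_bijective θ' hθ'
  let θ : E ⟶ tszeObj Λ k j := inv θ'
  have hθ : Function.Bijective θ := bijective_of_isIso θ
  have h2 : IsFibreProd p' (p'' ≫ θ) (toBase A) (toBase (tszeObj Λ k j)) :=
    { w := by rw [eq_toBase (p' ≫ toBase A), eq_toBase ((p'' ≫ θ) ≫ toBase _)]
      inj := fun b₁ b₂ h₁ h₂ => h.inj b₁ b₂ h₁ (hθ.1 h₂)
      surj := fun a e' hae => by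
        obtain ⟨e, rfl⟩ := hθ.2 e'
        have : toBase A a = toBase E e := by
          change A.res a = E.res e
          have h3 : A.res a = (tszeObj Λ k j).res (θ e) := hae
          rw [h3, res_app]
        obtain ⟨b, hb1, hb2⟩ := h.surj a e this
        exact ⟨b, hb1, by change θ (p'' b) = θ e; rw [hb2]⟩ }
  have hb := tsze_bij hF j p' (p'' ≫ θ) h2
  have hFθ : Function.Injective (F.map θ) := by
    intro x y hxy
    have := congrArg (F.map θ') hxy
    rwa [← map_comp_apply, ← map_comp_apply, IsIso.inv_hom_id, map_id_apply, map_id_apply] at this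
  constructor
  · intro z₁ z₂ hz
    apply hb.1
    apply FibProd.ext
    · exact congrArg (fun t => t.1.1) hz
    · change F.map (p'' ≫ θ) z₁ = F.map (p'' ≫ θ) z₂
      rw [map_comp_apply, map_comp_apply]
      exact congrArg (F.map θ) (congrArg (fun t => t.1.2) hz)
  · rintro ⟨⟨a, e⟩, hae⟩
    have hae' : F.map (toBase A) a = F.map (toBase E) e := hae
    have hc : F.map (toBase A) a = F.map (toBase (tszeObj Λ k j)) (F.map θ e) := by
      rw [← map_comp_apply, eq_toBase (θ ≫ toBase _)]
      exact hae'
    obtain ⟨z, hz⟩ := hb.2 ⟨(a, F.map θ e), hc⟩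
    refine ⟨z, ?_⟩
    apply FibProd.ext
    · exact congrArg (fun t => t.1.1) hz
    · change F.map p'' z = e
      apply hFθ
      have := congrArg (fun t => t.1.2) hz
      change F.map (p'' ≫ θ) z = F.map θ e at this
      rwa [map_comp_apply] at this


end Aux

/-- For functors, if F satisfies (S2) (bijectivity of F(A ×_k k[ε]) → F(A) ×_{F(k)} F(k[ε])), then for
every object E which is a square-zero extension k ⊕ V of k by a finite-dimensional vector space —
equivalently, m_E² = 0 and the augmentation E → k has a section in the category — and every fibre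
product square B = A ×_k E, the map F(B) → F(A) ×_{F(k)} F(E) is bijective. -/
theorem result {Λ : Type u} {k : Type u} [CommRing Λ] [Field k] [Algebra Λ k]
    [IsNoetherianRing Λ] [Module.Finite Λ k]
    {F : ArtFun.Art Λ k ⥤ Type v} (hF : ArtFun.Heps F)
    {E : ArtFun.Art Λ k} (hσ : Nonempty (ArtFun.Art.base Λ k ⟶ E))
    (hE : IsLocalRing.maximalIdeal E ^ 2 = ⊥)
    ⦃B A : ArtFun.Art Λ k⦄ (p' : B ⟶ A) (p'' : B ⟶ E)
    (h : ArtFun.Art.IsFibreProd p' p'' (ArtFun.Art.toBase A) (ArtFun.Art.toBase E)) :
    Function.Bijective (ArtFun.cmp F h) := by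
  exact main hF hσ hE p' p'' h

end Groth.Agent.S12725
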