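import Groth.Statements.S12734
import Groth.Agent.Lib.Helper1.ArtFunGenProrep

set_option autoImplicit false
universe u v
open CategoryTheory
open ArtFun

namespace Groth.Agent.S12734

/-- A functor F on Artinian local Λ-algebras with residue field k is prorepresentable if and only if (a)
F(k) is a point and F satisfies (RS): F(A₁ ×_A A₂) → F(A₁) ×_{F(A)} F(A₂) is bijective whenever A₂ →
A is surjective; (b) its tangent space is finite-dimensional; and (c) the map from morphisms k →
k[ε] of the category (the Λ-derivations of k) to the tangent space, σ ↦ F(σ)(x₀), is injective.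
Condition (c) is empty when k is separable over the image of Λ in k. -/
theorem result {Λ : Type u} {k : Type u} [CommRing Λ] [Field k] [Algebra Λ k]
    [IsNoetherianRing Λ] [Module.Finite Λ k]
    (F : ArtFun.Art Λ k ⥤ Type v) [ArtFun.TangentStr F] :
    ArtFun.IsProrepresentable F ↔
      ((ArtFun.H0 F ∧ (∀ ⦃B A A' A'' : ArtFun.Art Λ k⦄ (p' : B ⟶ A') (p'' : B ⟶ A'') (f' : A' ⟶ A) (f'' : A'' ⟶ A)
        (h : ArtFun.Art.IsFibreProd p' p'' f' f''), Function.Surjective f'' → Function.Bijective (ArtFun.cmp F h))) ∧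
        ArtFun.Hfin F ∧
        ∀ x₀ : F.obj (ArtFun.Art.base Λ k),
          Function.Injective (fun σ : ArtFun.Art.base Λ k ⟶ ArtFun.Art.dual Λ k => F.map σ x₀)) := by
  constructor
  · intro h
    have hfin := Groth.Agent.Lib.Helper1.ArtFunSchlessinger.hfin_of_isProrepresentable h
    obtain ⟨P⟩ := h
    have hl := Groth.Agent.Lib.Helper1.ArtFunSchlessinger.isLeftExact_of_isUniversal P.family P.universal
    refine ⟨⟨Groth.Agent.Lib.Helper1.ArtFunProrep.h0_of_isUniversal P.family P.universal,
      fun _ _ _ _ p' p'' f' f'' h _ => hl p' p'' f' f'' h⟩, hfin, ?_⟩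
    intro x₀ σ₁ σ₂ hσ
    obtain ⟨φb, rfl⟩ := (P.universal (Art.base Λ k)).2 x₀
    have h1 : F.map σ₁ (P.family.app _ φb) = F.map σ₂ (P.family.app _ φb) := hσ
    rw [← P.family.natural, ← P.family.natural] at h1
    have h2 := (P.universal (Art.dual Λ k)).1 h1
    apply Art.hom_ext
    apply AlgHom.ext
    intro c
    have hφb : φb.1 = P.ring.res := φb.2
    obtain ⟨a, ha⟩ := P.ring.res_surjective c
    have h3 : σ₁.toAlgHom (φb.1 a) = σ₂.toAlgHom (φb.1 a) :=
      congrArg (fun g : HomSet P.ring.carrier P.ring.res (Art.dual Λ k) => g.1 a) h2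
    rw [hφb] at h3
    rw [← ha]
    exact h3
  · rintro ⟨⟨h0, hF⟩, h3, hc⟩
    exact Groth.Agent.Lib.Helper1.ArtFunGenProrep.isProrepresentable_of_rs h0 hF h3 hc

end Groth.Agent.S12734
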