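import Groth.Statements.S12737
import Groth.Agent.Lib.Helper1.ArtFunGenFree

set_option autoImplicit false
universe u v
open CategoryTheory
open ArtFun

namespace Groth.Agent.S12737

/-- For Λ Noetherian with a finite map to the field k there is a complete local Noetherian Λ-algebra R
with residue field k whose functor h_R on Artinian local Λ-algebras with residue field k is smooth.
(The published lemma moreover pins the cotangent data of R — the first homology of the naive
cotangent complex of k over Λ equals m_R/m_R² and Ω_{R/Λ} ⊗ k = Ω_{k/Λ}; only the existence of a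
smooth R is stated here.) -/
theorem result {Λ : Type u} {k : Type u} [CommRing Λ] [Field k] [Algebra Λ k]
    [IsNoetherianRing Λ] [Module.Finite Λ k] :
    ∃ R : ArtFun.CRing Λ k, ArtFun.IsSmoothFunctor (ArtFun.hR R.carrier R.res) := by
  obtain ⟨n, α, hα⟩ := Groth.Agent.Lib.Helper1.ArtFunGenFree.exists_surjective_polyRes (Λ := Λ) (k := k)
  obtain ⟨G⟩ := Groth.Agent.Lib.Helper1.ArtFunCompl.nonempty_gens (MvPolynomial (Fin n) Λ)
    (Groth.Agent.Lib.Helper1.ArtFunGenFree.polyRes α)
  refine ⟨G.ring hα, ?_⟩
  intro B A μ hμ φ
  exact G.exists_lift hα (Groth.Agent.Lib.Helper1.ArtFunGenFree.poly_exists_lift α) μ hμ φ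

end Groth.Agent.S12737
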