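import Groth.Statements.S12746
import Groth.Agent.Lib.Helper1.ArtFunCond
import Mathlib.CategoryTheory.Limits.Types.Pullbacks
import Mathlib.CategoryTheory.Limits.Shapes.Pullback.IsPullback.Basic
import Mathlib.CategoryTheory.Limits.FunctorCategory.Basic

set_option autoImplicit false
universe u v
open CategoryTheory
open ArtFun

namespace Groth.Agent.S12746

open CategoryTheory.Limits Groth.Agent.Lib.Helper1.ArtFunFib Groth.Agent.Lib.Helper1.ArtFunCond

theorem evalPullback {Λ : Type u} {k : Type u} [CommRing Λ] [Field k] [Algebra Λ k]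
    {F G H : ArtFun.Art Λ k ⥤ Type v} (f : H ⟶ F) (g : G ⟶ F) (A : ArtFun.Art Λ k) :
    IsPullback ((pullback.fst f g).app A) ((pullback.snd f g).app A) (f.app A) (g.app A) :=
  (IsPullback.of_hasPullback f g).map ((evaluation _ _).obj A)

/-- For functors, if F, G, H are functors on Artinian local Λ-algebras with residue field k satisfying
(RS) and f : H → F, g : G → F are morphisms, then the fibre product functor H ×_F G satisfies (RS). -/
theorem result {Λ : Type u} {k : Type u} [CommRing Λ] [Field k] [Algebra Λ k]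
    [IsNoetherianRing Λ] [Module.Finite Λ k]
    {F G H : ArtFun.Art Λ k ⥤ Type v} (f : H ⟶ F) (g : G ⟶ F)
    (hF : (∀ ⦃B A A' A'' : ArtFun.Art Λ k⦄ (p' : B ⟶ A') (p'' : B ⟶ A'') (f' : A' ⟶ A) (f'' : A'' ⟶ A)
        (h : ArtFun.Art.IsFibreProd p' p'' f' f''), Function.Surjective f'' → Function.Bijective (ArtFun.cmp F h))) (hG : (∀ ⦃B A A' A'' : ArtFun.Art Λ k⦄ (p' : B ⟶ A') (p'' : B ⟶ A'') (f' : A' ⟶ A) (f'' : A'' ⟶ A)
        (h : ArtFun.Art.IsFibreProd p' p'' f' f''), Function.Surjective f'' → Function.Bijective (ArtFun.cmp G h))) (hH : (∀ ⦃B A A' A'' : ArtFun.Art Λ k⦄ (p' : B ⟶ A') (p'' : B ⟶ A'') (f' : A' ⟶ A) (f'' : A'' ⟶ A)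
        (h : ArtFun.Art.IsFibreProd p' p'' f' f''), Function.Surjective f'' → Function.Bijective (ArtFun.cmp H h))) :
    (∀ ⦃B A A' A'' : ArtFun.Art Λ k⦄ (p' : B ⟶ A') (p'' : B ⟶ A'') (f' : A' ⟶ A) (f'' : A'' ⟶ A)
        (h : ArtFun.Art.IsFibreProd p' p'' f' f''), Function.Surjective f'' → Function.Bijective (ArtFun.cmp (CategoryTheory.Limits.pullback f g) h)) := by
  intro B A A' A'' p' p'' f' f'' h hs
  set P := pullback f g with hP
  let π₁ : P ⟶ H := pullback.fst f g
  let π₂ : P ⟶ G := pullback.snd f g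
  have nat₁ : ∀ {X Y : Art Λ k} (m : X ⟶ Y) (z : P.obj X), π₁.app Y (P.map m z) = H.map m (π₁.app X z) :=
    fun m z => naturality_apply π₁ m z
  have nat₂ : ∀ {X Y : Art Λ k} (m : X ⟶ Y) (z : P.obj X), π₂.app Y (P.map m z) = G.map m (π₂.app X z) :=
    fun m z => naturality_apply π₂ m z
  constructor
  · intro z z' hz
    have hza : P.map p' z = P.map p' z' := congrArg (fun t => t.1.1) hz
    have hzb : P.map p'' z = P.map p'' z' := congrArg (fun t => t.1.2) hz
    apply Types.ext_of_isPullback (evalPullback f g B)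
    · apply (hH p' p'' f' f'' h hs).1
      apply FibProd.ext
      · change H.map p' (π₁.app B z) = H.map p' (π₁.app B z')
        rw [← nat₁, ← nat₁, hza]
      · change H.map p'' (π₁.app B z) = H.map p'' (π₁.app B z')
        rw [← nat₁, ← nat₁, hzb]
    · apply (hG p' p'' f' f'' h hs).1
      apply FibProd.ext
      · change G.map p' (π₂.app B z) = G.map p' (π₂.app B z')
        rw [← nat₂, ← nat₂, hza]
      · change G.map p'' (π₂.app B z) = G.map p'' (π₂.app B z')
        rw [← nat₂, ← nat₂, hzb]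
  · rintro ⟨⟨x', x''⟩, hx⟩
    have hx' : P.map f' x' = P.map f'' x'' := hx
    obtain ⟨zh, hzh⟩ := (hH p' p'' f' f'' h hs).2 ⟨(π₁.app A' x', π₁.app A'' x''), by
      change H.map f' (π₁.app A' x') = H.map f'' (π₁.app A'' x'')
      rw [← nat₁, ← nat₁, hx']⟩
    obtain ⟨zg, hzg⟩ := (hG p' p'' f' f'' h hs).2 ⟨(π₂.app A' x', π₂.app A'' x''), by
      change G.map f' (π₂.app A' x') = G.map f'' (π₂.app A'' x'')
      rw [← nat₂, ← nat₂, hx']⟩
    have hzh1 : H.map p' zh = π₁.app A' x' := congrArg (fun t => t.1.1) hzh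
    have hzh2 : H.map p'' zh = π₁.app A'' x'' := congrArg (fun t => t.1.2) hzh
    have hzg1 : G.map p' zg = π₂.app A' x' := congrArg (fun t => t.1.1) hzg
    have hzg2 : G.map p'' zg = π₂.app A'' x'' := congrArg (fun t => t.1.2) hzg
    have cond : ∀ (X : Art Λ k) (t : P.obj X), f.app X (π₁.app X t) = g.app X (π₂.app X t) := by
      intro X t
      have := (evalPullback f g X).w
      exact ConcreteCategory.congr_hom this t
    have hfg : f.app B zh = g.app B zg := by
      apply (hF p' p'' f' f'' h hs).1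
      apply FibProd.ext
      · change F.map p' (f.app B zh) = F.map p' (g.app B zg)
        rw [← naturality_apply f, ← naturality_apply g, hzh1, hzg1, cond]
      · change F.map p'' (f.app B zh) = F.map p'' (g.app B zg)
        rw [← naturality_apply f, ← naturality_apply g, hzh2, hzg2, cond]
    obtain ⟨z, hz1, hz2⟩ := Types.exists_of_isPullback (evalPullback f g B) zh zg hfg
    refine ⟨z, ?_⟩
    apply FibProd.ext
    · change P.map p' z = x'
      apply Types.ext_of_isPullback (evalPullback f g A')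
      · change π₁.app A' (P.map p' z) = π₁.app A' x'
        rw [nat₁, ← hzh1]; exact congrArg _ hz1
      · change π₂.app A' (P.map p' z) = π₂.app A' x'
        rw [nat₂, ← hzg1]; exact congrArg _ hz2
    · change P.map p'' z = x''
      apply Types.ext_of_isPullback (evalPullback f g A'')
      · change π₁.app A'' (P.map p'' z) = π₁.app A'' x''
        rw [nat₁, ← hzh2]; exact congrArg _ hz1
      · change π₂.app A'' (P.map p'' z) = π₂.app A'' x''
        rw [nat₂, ← hzg2]; exact congrArg _ hz2

end Groth.Agent.S12746
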