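import Groth.Statements.S12747
import Groth.Agent.Lib.Helper1.ArtFunFree
import Mathlib.CategoryTheory.Limits.Types.Pullbacks
import Mathlib.CategoryTheory.Limits.Shapes.Pullback.IsPullback.Basic
import Mathlib.CategoryTheory.Limits.FunctorCategory.Basic

set_option autoImplicit false
universe u v
open CategoryTheory
open ArtFun

namespace Groth.Agent.S12747

section helpers
open CategoryTheory.Limits Groth.Agent.Lib.Helper1.ArtFunFib Groth.Agent.Lib.Helper1.ArtFunCond
  Groth.Agent.Lib.Helper1.ArtFunFree Groth.Agent.Lib.Helper1.ArtFunAction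

theorem evalPullback {Λ : Type u} {k : Type u} [CommRing Λ] [Field k] [Algebra Λ k]
    {F G H : ArtFun.Art Λ k ⥤ Type v} (f : H ⟶ F) (g : G ⟶ F) (A : ArtFun.Art Λ k) :
    IsPullback ((pullback.fst f g).app A) ((pullback.snd f g).app A) (f.app A) (g.app A) :=
  (IsPullback.of_hasPullback f g).map ((evaluation _ _).obj A)

theorem main {Λ : Type u} {k : Type u} [CommRing Λ] [Field k] [Algebra Λ k]
    [IsNoetherianRing Λ] [Module.Finite Λ k]
    {F G H₁ H₂ : ArtFun.Art Λ k ⥤ Type v} (p₁ : H₁ ⟶ G) (p₂ : H₂ ⟶ G) (q : G ⟶ F)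
    (hF : RS F) (hG : RS G)
    (hq : Function.Injective (ArtFun.TangentSpace.map q))
    (m : pullback p₁ p₂ ⟶ pullback (p₁ ≫ q) (p₂ ≫ q))
    (hm1 : m ≫ pullback.fst (p₁ ≫ q) (p₂ ≫ q) = pullback.fst p₁ p₂)
    (hm2 : m ≫ pullback.snd (p₁ ≫ q) (p₂ ≫ q) = pullback.snd p₁ p₂) :
    ArtFun.IsSmooth m := by
  let P := pullback p₁ p₂
  let Q := pullback (p₁ ≫ q) (p₂ ≫ q)
  let π₁ : P ⟶ H₁ := pullback.fst p₁ p₂
  let π₂ : P ⟶ H₂ := pullback.snd p₁ p₂
  let ρ₁ : Q ⟶ H₁ := pullback.fst (p₁ ≫ q) (p₂ ≫ q)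
  let ρ₂ : Q ⟶ H₂ := pullback.snd (p₁ ≫ q) (p₂ ≫ q)
  have hm1' : ∀ (X : Art Λ k) (z : P.obj X), ρ₁.app X (m.app X z) = π₁.app X z := by
    intro X z
    have := congrArg (fun t => t.app X) hm1
    exact ConcreteCategory.congr_hom this z
  have hm2' : ∀ (X : Art Λ k) (z : P.obj X), ρ₂.app X (m.app X z) = π₂.app X z := by
    intro X z
    have := congrArg (fun t => t.app X) hm2
    exact ConcreteCategory.congr_hom this z
  apply isSmooth_of_smallExt
  intro B A μ hμ
  rintro ⟨⟨zA, zB⟩, hz⟩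
  have hz' : m.app A zA = Q.map μ zB := hz
  -- components
  have condQ : (p₁ ≫ q).app B (ρ₁.app B zB) = (p₂ ≫ q).app B (ρ₂.app B zB) :=
    ConcreteCategory.congr_hom (evalPullback (p₁ ≫ q) (p₂ ≫ q) B).w zB
  have condP : p₁.app A (π₁.app A zA) = p₂.app A (π₂.app A zA) :=
    ConcreteCategory.congr_hom (evalPullback p₁ p₂ A).w zA
  have e1 : H₁.map μ (ρ₁.app B zB) = π₁.app A zA := by
    rw [← naturality_apply, ← hz', hm1']
  have e2 : H₂.map μ (ρ₂.app B zB) = π₂.app A zA := by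
    rw [← naturality_apply, ← hz', hm2']
  have hgg : p₁.app B (ρ₁.app B zB) = p₂.app B (ρ₂.app B zB) := by
    apply eq_of_map_eq_of_app_eq hG hF q hq μ hμ
    · rw [← naturality_apply p₁ μ, ← naturality_apply p₂ μ, e1, e2, condP]
    · exact condQ
  obtain ⟨z, hz1, hz2⟩ := Types.exists_of_isPullback (evalPullback p₁ p₂ B) _ _ hgg
  refine ⟨z, ?_⟩
  apply Subtype.ext
  apply Prod.ext
  · change P.map μ z = zA
    apply Types.ext_of_isPullback (evalPullback p₁ p₂ A)
    · change π₁.app A (P.map μ z) = π₁.app A zA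
      rw [naturality_apply, ← e1]; exact congrArg _ hz1
    · change π₂.app A (P.map μ z) = π₂.app A zA
      rw [naturality_apply, ← e2]; exact congrArg _ hz2
  · change m.app B z = zB
    apply Types.ext_of_isPullback (evalPullback (p₁ ≫ q) (p₂ ≫ q) B)
    · change ρ₁.app B (m.app B z) = ρ₁.app B zB
      rw [hm1']; exact hz1
    · change ρ₂.app B (m.app B z) = ρ₂.app B zB
      rw [hm2']; exact hz2

end helpers

/-- For functors, let H₁ → G, H₂ → G and q : G → F be morphisms of functors on Artinian local Λ-algebras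
with residue field k where F and G are deformation functors (value at k a point, condition (RS)) and
q is injective on tangent spaces. Then the induced morphism H₁ ×_G H₂ → H₁ ×_F H₂ is smooth. (The
published statement also assumes that infinitesimal automorphisms of G map onto those of F; for
functors that condition is empty.) -/
theorem result {Λ : Type u} {k : Type u} [CommRing Λ] [Field k] [Algebra Λ k]
    [IsNoetherianRing Λ] [Module.Finite Λ k]
    {F G H₁ H₂ : ArtFun.Art Λ k ⥤ Type v} (p₁ : H₁ ⟶ G) (p₂ : H₂ ⟶ G) (q : G ⟶ F)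
    (hF0 : ArtFun.H0 F) (hF : (∀ ⦃B A A' A'' : ArtFun.Art Λ k⦄ (p' : B ⟶ A') (p'' : B ⟶ A'') (f' : A' ⟶ A) (f'' : A'' ⟶ A)
        (h : ArtFun.Art.IsFibreProd p' p'' f' f''), Function.Surjective f'' → Function.Bijective (ArtFun.cmp F h)))
    (hG0 : ArtFun.H0 G) (hG : (∀ ⦃B A A' A'' : ArtFun.Art Λ k⦄ (p' : B ⟶ A') (p'' : B ⟶ A'') (f' : A' ⟶ A) (f'' : A'' ⟶ A)
        (h : ArtFun.Art.IsFibreProd p' p'' f' f''), Function.Surjective f'' → Function.Bijective (ArtFun.cmp G h)))
    (hq : Function.Injective (ArtFun.TangentSpace.map q)) :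
    ArtFun.IsSmooth (CategoryTheory.Limits.pullback.map p₁ p₂ (p₁ ≫ q) (p₂ ≫ q) (𝟙 H₁) (𝟙 H₂) q
      (CategoryTheory.Category.id_comp _).symm (CategoryTheory.Category.id_comp _).symm) := by
  exact main p₁ p₂ q hF hG hq _ ((Limits.pullback.lift_fst _ _ _).trans (Category.comp_id _))
    ((Limits.pullback.lift_snd _ _ _).trans (Category.comp_id _))

end Groth.Agent.S12747
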