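import Groth.Statements.S12748
import Groth.Agent.Lib.Helper1.PSRing
import Groth.Agent.Lib.Helper1.ArtFunSurj

set_option autoImplicit false
universe u v
open CategoryTheory
open ArtFun ArtFun.CRing

namespace Groth.Agent.S12748

/-- Let R' → R be a morphism of complete local Noetherian Λ-algebras with residue field k with an
R'-algebra retraction ρ : R → R', so that R = R' ⊕ I for the ideal I = ker ρ; let x₁, …, x_r ∈ I map
to a basis of I/m_R I and let φ : R'[[X₁, …, X_r]] → R be an R'-algebra map sending X_i to x_i. If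
for all large n the induced map R'[[X]]/m^n → R/m_R^n has a left inverse — a Λ-algebra map g_n : R →
R'[[X]]/m^n with g_n ∘ φ equal to the quotient map — then φ is an isomorphism. -/
theorem result {Λ : Type u} {k : Type u} [CommRing Λ] [Field k] [Algebra Λ k]
    [IsNoetherianRing Λ] [Module.Finite Λ k]
    (R' R : ArtFun.CRing Λ k) [Algebra R'.carrier R.carrier] [IsScalarTower Λ R'.carrier R.carrier]
    (hc : R.res.comp (IsScalarTower.toAlgHom Λ R'.carrier R.carrier) = R'.res)
    (ρ : R.carrier →ₐ[R'.carrier] R'.carrier)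
    (r : ℕ) (x : Fin r → R.carrier) (hxI : ∀ i, ρ (x i) = 0)
    (hspan : Ideal.span (Set.range x) ⊔ IsLocalRing.maximalIdeal R.carrier * RingHom.ker ρ = RingHom.ker ρ)
    (hli : ∀ c : Fin r → R.carrier, (∑ i, c i * x i) ∈ IsLocalRing.maximalIdeal R.carrier * RingHom.ker ρ →
      ∀ i, c i ∈ IsLocalRing.maximalIdeal R.carrier)
    (φ : MvPowerSeries (Fin r) R'.carrier →ₐ[R'.carrier] R.carrier) (hφ : ∀ i, φ (MvPowerSeries.X i) = x i)
    (hinv : ∃ N : ℕ, ∀ n, N ≤ n →
      ∃ g : R.carrier →ₐ[Λ] (MvPowerSeries (Fin r) R'.carrier ⧸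
          IsLocalRing.maximalIdeal (MvPowerSeries (Fin r) R'.carrier) ^ n),
        ∀ s, g (φ s) = Ideal.Quotient.mk _ s) :
    Function.Bijective φ := by
  classical
  haveI : IsAdicComplete (IsLocalRing.maximalIdeal R'.carrier) R'.carrier := R'.isAdicComplete
  haveI : IsPrecomplete (IsLocalRing.maximalIdeal (MvPowerSeries (Fin r) R'.carrier))
      (MvPowerSeries (Fin r) R'.carrier) := Groth.Agent.Lib.Helper1.PSDecomp.isPrecomplete
  set T := MvPowerSeries (Fin r) R'.carrier with hT
  -- basic facts
  have hkerρ : RingHom.ker ρ ≤ IsLocalRing.maximalIdeal R.carrier := by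
    apply IsLocalRing.le_maximalIdeal
    intro h
    have : (1 : R.carrier) ∈ RingHom.ker ρ := h ▸ Submodule.mem_top
    rw [RingHom.mem_ker, map_one] at this
    exact one_ne_zero this
  have hρalg : ∀ a : R'.carrier, ρ (algebraMap R'.carrier R.carrier a) = a := fun a => by
    rw [AlgHom.commutes]; rfl
  have hresalg : ∀ a : R'.carrier, R.res (algebraMap R'.carrier R.carrier a) = R'.res a := fun a =>
    congrArg (fun g : R'.carrier →ₐ[Λ] k => g a) hc
  have halgmem : ∀ a : R'.carrier, a ∈ IsLocalRing.maximalIdeal R'.carrier →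
      algebraMap R'.carrier R.carrier a ∈ IsLocalRing.maximalIdeal R.carrier := by
    intro a ha
    rw [R.mem_maximalIdeal_iff, hresalg, ← R'.mem_maximalIdeal_iff]
    exact ha
  have hsub : ∀ s : R.carrier, s - algebraMap R'.carrier R.carrier (ρ s) ∈ RingHom.ker ρ := by
    intro s
    rw [RingHom.mem_ker, map_sub, hρalg, sub_self]
  have hρmem : ∀ s : R.carrier, s ∈ IsLocalRing.maximalIdeal R.carrier →
      ρ s ∈ IsLocalRing.maximalIdeal R'.carrier := by
    intro s hs
    rw [R'.mem_maximalIdeal_iff, ← hresalg, ← R.mem_maximalIdeal_iff]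
    have := Ideal.sub_mem _ hs (hkerρ (hsub s))
    rwa [sub_sub_cancel] at this
  have hφC : ∀ a : R'.carrier, φ (MvPowerSeries.C a) = algebraMap R'.carrier R.carrier a := by
    intro a
    rw [MvPowerSeries.c_eq_algebraMap, AlgHom.commutes]
  have hxm : ∀ i, x i ∈ IsLocalRing.maximalIdeal R.carrier := fun i =>
    hkerρ (by rw [RingHom.mem_ker]; exact hxI i)
  constructor
  · -- injective
    rw [injective_iff_map_eq_zero]
    intro s hs
    obtain ⟨N, hN⟩ := hinv
    have hmem : ∀ n, s ∈ IsLocalRing.maximalIdeal T ^ n := by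
      intro n
      obtain ⟨g, hg⟩ := hN (max N n) (le_max_left _ _)
      have := hg s
      rw [hs, map_zero] at this
      exact Ideal.pow_le_pow_right (le_max_right N n) (Ideal.Quotient.eq_zero_iff_mem.1 this.symm)
    have hbot := Ideal.iInf_pow_eq_bot_of_isLocalRing (IsLocalRing.maximalIdeal T)
      (IsLocalRing.maximalIdeal.isMaximal T).ne_top
    have : s ∈ ⨅ n, IsLocalRing.maximalIdeal T ^ n := (Ideal.mem_iInf).2 hmem
    rwa [hbot, Ideal.mem_bot] at this
  · -- surjective
    have hφm : Ideal.map (φ : T →+* R.carrier) (IsLocalRing.maximalIdeal T) ≤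
        IsLocalRing.maximalIdeal R.carrier := by
      rw [Ideal.map_le_iff_le_comap]
      intro t ht
      rw [Ideal.mem_comap]
      rw [Groth.Agent.Lib.Helper1.PSDecomp.mem_maximalIdeal_iff] at ht
      have hd := Groth.Agent.Lib.Helper1.PSDecomp.decomp t
      change φ t ∈ _
      rw [hd, map_add, map_sum]
      apply Ideal.add_mem
      · rw [hφC]
        exact halgmem _ ht
      · apply Ideal.sum_mem
        intro i _
        rw [map_mul, hφ]
        exact Ideal.mul_mem_right _ _ (hxm i)
    apply Groth.Agent.Lib.Helper1.ArtFunSurj.surjective_of_map_sup_sq (φ : T →+* R.carrier)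
    · intro s
      refine ⟨MvPowerSeries.C (ρ s), ?_⟩
      change s - φ (MvPowerSeries.C (ρ s)) ∈ _
      rw [hφC]
      exact hkerρ (hsub s)
    · apply le_antisymm
      · exact sup_le hφm (Ideal.pow_le_self two_ne_zero)
      · intro s hs
        have h1 : algebraMap R'.carrier R.carrier (ρ s) ∈
            Ideal.map (φ : T →+* R.carrier) (IsLocalRing.maximalIdeal T) := by
          rw [← hφC]
          exact Ideal.mem_map_of_mem _ (Groth.Agent.Lib.Helper1.PSDecomp.C_mem_maximalIdeal (hρmem s hs))
        have h2 : s - algebraMap R'.carrier R.carrier (ρ s) ∈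
            Ideal.map (φ : T →+* R.carrier) (IsLocalRing.maximalIdeal T) ⊔
              IsLocalRing.maximalIdeal R.carrier ^ 2 := by
          have := hsub s
          rw [← hspan] at this
          have hle : Ideal.span (Set.range x) ⊔ IsLocalRing.maximalIdeal R.carrier * RingHom.ker ρ ≤
              Ideal.map (φ : T →+* R.carrier) (IsLocalRing.maximalIdeal T) ⊔
                IsLocalRing.maximalIdeal R.carrier ^ 2 := by
            apply sup_le_sup
            · rw [Ideal.span_le]
              rintro _ ⟨i, rfl⟩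
              rw [← hφ i]
              exact Ideal.mem_map_of_mem _ (Groth.Agent.Lib.Helper1.PSDecomp.X_mem_maximalIdeal i)
            · rw [pow_two]
              exact Ideal.mul_mono_right hkerρ
          exact hle this
        have := Ideal.add_mem _ (Ideal.mem_sup_left h1) h2
        rwa [add_sub_cancel] at this

end Groth.Agent.S12748
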