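import Groth.Statements.S12749
import Groth.Agent.Lib.Helper1.TangentCons
import Groth.Agent.Lib.Helper1.ArtFunGenHull
import Groth.Agent.Lib.Helper1.ArtFunVersal
import Groth.Agent.Lib.Helper1.ArtFunDer
import Groth.Agent.S12715
import Groth.Agent.S12757
import Groth.Agent.S12758

set_option autoImplicit false
universe u v
open CategoryTheory
open ArtFun

namespace Groth.Agent.S12749

/-- For functors, suppose k admits no nonzero Λ-derivation into itself (that is, k is separable over the
image of Λ in k). Let F be a functor on Artinian local Λ-algebras with residue field k with F(k) a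
point which satisfies (S2), and let ξ be a minimal versal family of F over a complete local
Noetherian R with residue field k: ξ is versal, and every morphism of such coefficient rings R' → R
along which some formal element of F over R' pushes forward to the formal element of ξ is
surjective. Then ξ is a hull of F: it is moreover bijective on tangent spaces. (The published
statement, for arbitrary k, concludes that the tangent map of the minimal versal family is bijective
on orbits under the Λ-derivations of k; when k has no nonzero Λ-derivation into itself the orbits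
are points and this is plain bijectivity, which is the case stated here.) -/
theorem result {Λ : Type u} {k : Type u} [CommRing Λ] [Field k] [Algebra Λ k]
    [IsNoetherianRing Λ] [Module.Finite Λ k]
    (hk : Subsingleton (Derivation Λ k k))
    {F : ArtFun.Art Λ k ⥤ Type v} (h0 : ArtFun.H0 F) (h2 : ArtFun.Heps F)
    {R : ArtFun.CRing Λ k} (ξ : ArtFun.Family R.carrier R.res F) (hξ : ξ.IsMinimalVersal) :
    ArtFun.IsMiniversal ξ := by
  letI T : TangentStr F := Groth.Agent.Lib.Helper1.TangentCons.tangentStr h0 h2
  have h1 : S1 F := Groth.Agent.Lib.Helper1.ArtFunVersal.s1_of_isVersal h0 ξ hξ.1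
  have hsurj := Groth.Agent.Lib.Helper1.ArtFunVersal.surjective_app_of_isVersal h0 ξ hξ.1
  letI : Algebra R.carrier k := R.res.toRingHom.toAlgebra
  haveI : IsScalarTower Λ R.carrier k :=
    IsScalarTower.of_algebraMap_eq (fun l => (R.res.commutes l).symm)
  have hres : ∀ a, algebraMap R.carrier k a = R.res a := fun _ => rfl
  haveI : IsAdicComplete (IsLocalRing.maximalIdeal R.carrier) R.carrier := R.isAdicComplete
  haveI : Module.Finite k (Derivation Λ R.carrier k) :=
    Groth.Agent.S12715.result R.carrier R.res_surjective
  have h3 : Hfin F := Module.Finite.of_surjective (Groth.Agent.Lib.Helper1.ArtFunDer.tangentLin hres ξ)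
    (Groth.Agent.Lib.Helper1.ArtFunDer.tangentLin_surjective hres ξ (hsurj _))
  obtain ⟨P⟩ := Groth.Agent.Lib.Helper1.ArtFunGenHull.hasHull hk h0 h1 h2 h3
  have hP := Groth.Agent.S12757.result h0 P
  obtain ⟨e, he, hee⟩ := Groth.Agent.S12758.result h0 P.family ξ hP hξ
  have hfam := Groth.Agent.Lib.Helper1.ArtFunCRing.family_app_eq_of_toFormalElt_eq R _ _ hee
  refine ⟨hξ.1, ?_⟩
  have hbij := P.miniversal.2
  constructor
  · intro ψ ψ' h
    rw [← hfam, ← hfam] at h
    have h' := hbij.1 h
    have h'' : ψ.1.comp (e : P.ring.carrier →ₐ[Λ] R.carrier) =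
        ψ'.1.comp (e : P.ring.carrier →ₐ[Λ] R.carrier) := congrArg Subtype.val h'
    apply Subtype.ext
    apply AlgHom.ext
    intro r
    have := congrArg (fun g : P.ring.carrier →ₐ[Λ] (Art.dual Λ k) => g (e.symm r)) h''
    simpa using this
  · intro y
    obtain ⟨ψ, hψ⟩ := hbij.2 y
    refine ⟨⟨ψ.1.comp (e.symm : R.carrier →ₐ[Λ] P.ring.carrier), ?_⟩, ?_⟩
    · rw [← AlgHom.comp_assoc, ψ.2, ← he]
      apply AlgHom.ext
      intro r
      simp
    · rw [← hfam, ← hψ]
      refine congrArg (P.family.app (Art.dual Λ k)) (Subtype.ext (AlgHom.ext fun r => ?_))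
      change ψ.1 (e.symm (e r)) = ψ.1 r
      simp

end Groth.Agent.S12749
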