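import Groth.Statements.S12750
import Groth.Agent.Lib.Helper1.ArtFunPullback
import Groth.Agent.S12709

set_option autoImplicit false
universe u v
open CategoryTheory
open ArtFun ArtFun.Art

namespace Groth.Agent.S12750

open Groth.Agent.Lib.Helper1.ArtFunBasic Groth.Agent.Lib.Helper1.ArtFunPullback in
theorem surjective_iff_comp_quot {Λ : Type u} {k : Type u} [CommRing Λ] [Field k] [Algebra Λ k]
    [IsNoetherianRing Λ] [Module.Finite Λ k] {C B B' : ArtFun.Art Λ k} (g : C ⟶ B)
    (qB : B ⟶ B') (hqB : Function.Surjective qB)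
    (hkB : RingHom.ker qB.toAlgHom = Ideal.map (algebraMap Λ B) (RingHom.ker (algebraMap Λ k)) ⊔ IsLocalRing.maximalIdeal B ^ 2) :
    Function.Surjective g ↔ Function.Surjective (g ≫ qB) := by
  constructor
  · intro hg
    exact hqB.comp hg
  · intro hgq
    apply ((Groth.Agent.S12709.result g).out 2 0).1
    apply le_antisymm
    · refine sup_le (sup_le ?_ ?_) ?_
      · rw [Ideal.map_le_iff_le_comap]
        intro l hl
        rw [Ideal.mem_comap, mem_maximalIdeal_iff, AlgHom.commutes]
        exact hl
      · rw [Ideal.map_le_iff_le_comap]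
        intro c hc
        rw [Ideal.mem_comap, mem_maximalIdeal_iff]
        change B.res (g c) = 0
        rw [res_app g c]
        exact (mem_maximalIdeal_iff C c).1 hc
      · exact Ideal.pow_le_self two_ne_zero
    · intro b hb
      obtain ⟨c, hc⟩ := hgq (qB b)
      have hc' : qB (g c) = qB b := hc
      have hcm : c ∈ IsLocalRing.maximalIdeal C := by
        rw [mem_maximalIdeal_iff, ← res_app g c, ← res_app qB (g c)]
        change B'.res (qB (g c)) = 0
        rw [hc', res_app qB b]
        exact (mem_maximalIdeal_iff B b).1 hb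
      have hker : b - g c ∈ RingHom.ker qB.toAlgHom := by
        rw [RingHom.mem_ker, map_sub, sub_eq_zero]
        exact hc'.symm
      rw [hkB] at hker
      have hb' : b = g c + (b - g c) := by ring
      rw [hb']
      obtain ⟨u, hu, v, hv, huv⟩ := Submodule.mem_sup.1 hker
      rw [← huv]
      have h1 : g c ∈ Ideal.map g.toAlgHom (IsLocalRing.maximalIdeal C) :=
        Ideal.mem_map_of_mem _ hcm
      have : g c + (u + v) = (u + g c) + v := by ring
      rw [this]
      exact Ideal.add_mem _ (Ideal.mem_sup_left (Ideal.add_mem _ (Ideal.mem_sup_left hu)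
        (Ideal.mem_sup_right h1))) (Ideal.mem_sup_right hv)

open Groth.Agent.Lib.Helper1.ArtFunBasic Groth.Agent.Lib.Helper1.ArtFunPullback in

/-- (1) ⇔ (3): let f : B → A be a morphism in the category of Artinian local Λ-algebras with residue
field k, and let q_B : B → B', q_A : A → A' be the quotients by m_Λ B + m_B² and m_Λ A + m_A² (m_Λ
the kernel of Λ → k), realised as surjective morphisms with these kernels, with f' : B' → A' the
induced morphism. Then f is an essential surjection — surjective, and every morphism g into B whose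
composite with f is surjective is itself surjective — if and only if f' is. (The intermediate
equivalence with the map B/m_B² → A/m_A² is the special case Λ-structure trivialised and follows by
applying this one twice.) -/
theorem result {Λ : Type u} {k : Type u} [CommRing Λ] [Field k] [Algebra Λ k]
    [IsNoetherianRing Λ] [Module.Finite Λ k]
    {A B A' B' : ArtFun.Art Λ k} (f : B ⟶ A)
    (qB : B ⟶ B') (hqB : Function.Surjective qB)
    (hkB : RingHom.ker qB.toAlgHom = Ideal.map (algebraMap Λ B) (RingHom.ker (algebraMap Λ k)) ⊔ IsLocalRing.maximalIdeal B ^ 2)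
    (qA : A ⟶ A') (hqA : Function.Surjective qA)
    (hkA : RingHom.ker qA.toAlgHom = Ideal.map (algebraMap Λ A) (RingHom.ker (algebraMap Λ k)) ⊔ IsLocalRing.maximalIdeal A ^ 2)
    (f' : B' ⟶ A') (hf' : qB ≫ f' = f ≫ qA) :
    (Function.Surjective f ∧ ∀ (C : ArtFun.Art Λ k) (g : C ⟶ B), Function.Surjective (g ≫ f) → Function.Surjective g) ↔ (Function.Surjective f' ∧ ∀ (C : ArtFun.Art Λ k) (g : C ⟶ B'), Function.Surjective (g ≫ f') → Function.Surjective g) := by
  have hfun : ∀ b, f' (qB b) = qA (f b) := fun b =>
    congrArg (fun t : B ⟶ A' => t.toAlgHom b) hf'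
  constructor
  · rintro ⟨hf, hess⟩
    have hf's : Function.Surjective f' := by
      intro a'
      obtain ⟨a, rfl⟩ := hqA a'
      obtain ⟨b, rfl⟩ := hf a
      exact ⟨qB b, hfun b⟩
    refine ⟨hf's, ?_⟩
    intro C g' hg'
    have hfp := pb_isFibreProd g' qB hqB
    set P := pbObj g' qB hqB
    set p₁ : P ⟶ C := pbFst g' qB hqB
    set p₂ : P ⟶ B := pbSnd g' qB hqB
    have hp₁ : Function.Surjective p₁ := by
      intro c
      obtain ⟨b, hb⟩ := hqB (g' c)
      obtain ⟨x, hx, -⟩ := hfp.surj c b hb.symm
      exact ⟨x, hx⟩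
    have h1 : Function.Surjective (p₂ ≫ f) := by
      rw [surjective_iff_comp_quot (p₂ ≫ f) qA hqA hkA]
      have e : (p₂ ≫ f) ≫ qA = p₁ ≫ (g' ≫ f') := by
        rw [Category.assoc, ← hf', ← Category.assoc, ← hfp.w, Category.assoc]
      rw [e]
      exact hg'.comp hp₁
    have h2 : Function.Surjective p₂ := hess P p₂ h1
    intro b'
    obtain ⟨b, rfl⟩ := hqB b'
    obtain ⟨x, rfl⟩ := h2 b
    exact ⟨p₁ x, hfp.w_apply x⟩
  · rintro ⟨hf's, hess⟩
    have hfs : Function.Surjective f := by
      rw [surjective_iff_comp_quot f qA hqA hkA, ← hf']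
      exact hf's.comp hqB
    refine ⟨hfs, ?_⟩
    intro C g hg
    rw [surjective_iff_comp_quot g qB hqB hkB]
    apply hess C (g ≫ qB)
    rw [Category.assoc, hf', ← Category.assoc]
    exact hqA.comp hg

end Groth.Agent.S12750
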