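import Groth.Statements.S12753
import Groth.Agent.Lib.Helper1.SepDer

set_option autoImplicit false
universe u v
open CategoryTheory
open ArtFun ArtFun.Art

namespace Groth.Agent.S12753

open Groth.Agent.Lib.Helper1.ArtEssential Groth.Agent.Lib.Helper1.SepDer

/-- Suppose k is separable over the image of Λ → k. A morphism f : B → A in the category of Artinian
local Λ-algebras with residue field k is an essential surjection (surjective, and any morphism g
into B with g followed by f surjective is surjective) if and only if the map of cotangent spaces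
relative to Λ, m_B/(m_Λ B + m_B²) → m_A/(m_Λ A + m_A²), is an isomorphism; surjectivity and
injectivity are written out in terms of ideals, m_Λ being the kernel of Λ → k. -/
theorem result {Λ : Type u} {k : Type u} [CommRing Λ] [Field k] [Algebra Λ k]
    [IsNoetherianRing Λ] [Module.Finite Λ k]
    [Algebra.IsSeparable (↥(algebraMap Λ k).range) k]
    {A B : ArtFun.Art Λ k} (f : B ⟶ A) :
    (Function.Surjective f ∧ ∀ (C : ArtFun.Art Λ k) (g : C ⟶ B), Function.Surjective (g ≫ f) → Function.Surjective g) ↔
      (Ideal.map (algebraMap Λ A) (RingHom.ker (algebraMap Λ k)) ⊔ Ideal.map f.toAlgHom (IsLocalRing.maximalIdeal B) ⊔ IsLocalRing.maximalIdeal A ^ 2 =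
          IsLocalRing.maximalIdeal A ∧
        ∀ b ∈ IsLocalRing.maximalIdeal B, f b ∈ Ideal.map (algebraMap Λ A) (RingHom.ker (algebraMap Λ k)) ⊔ IsLocalRing.maximalIdeal A ^ 2 →
          b ∈ Ideal.map (algebraMap Λ B) (RingHom.ker (algebraMap Λ k)) ⊔ IsLocalRing.maximalIdeal B ^ 2) := by
  have hsurj_iff : ∀ {X Y : ArtFun.Art Λ k} (g : X ⟶ Y), Function.Surjective g ↔
      Ideal.map (algebraMap Λ Y) (RingHom.ker (algebraMap Λ k)) ⊔
        Ideal.map g.toAlgHom (IsLocalRing.maximalIdeal X) ⊔
        IsLocalRing.maximalIdeal Y ^ 2 = IsLocalRing.maximalIdeal Y :=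
    fun g => (Groth.Agent.S12709.result g).out 0 2
  have hIm : ∀ X : ArtFun.Art Λ k, Ideal.map (algebraMap Λ X) (RingHom.ker (algebraMap Λ k)) ⊔
      IsLocalRing.maximalIdeal X ^ 2 ≤ IsLocalRing.maximalIdeal X := by
    intro X
    refine sup_le ?_ (Ideal.pow_le_self two_ne_zero)
    rw [Ideal.map_le_iff_le_comap]
    intro l hl
    rw [Ideal.mem_comap, mem_maximalIdeal_iff, AlgHom.commutes]
    exact hl
  constructor
  · rintro ⟨hf, hess⟩
    refine ⟨(hsurj_iff f).1 hf, ?_⟩
    intro b hb hfb
    have hmA : IsLocalRing.maximalIdeal A ≤ Ideal.map f.toAlgHom (IsLocalRing.maximalIdeal B) := by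
      intro a ha
      obtain ⟨b, rfl⟩ := hf a
      refine Ideal.mem_map_of_mem f.toAlgHom ?_
      rw [mem_maximalIdeal_iff] at ha ⊢
      rw [← res_app f b]
      exact ha
    have hle : Ideal.map (algebraMap Λ A) (RingHom.ker (algebraMap Λ k)) ⊔
        IsLocalRing.maximalIdeal A ^ 2 ≤
        Ideal.map f.toAlgHom (Ideal.map (algebraMap Λ B) (RingHom.ker (algebraMap Λ k)) ⊔
          IsLocalRing.maximalIdeal B ^ 2) := by
      refine sup_le ?_ ?_
      · rw [Ideal.map_le_iff_le_comap]
        intro l hl
        rw [Ideal.mem_comap]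
        have : algebraMap Λ A l = f.toAlgHom (algebraMap Λ B l) := (f.toAlgHom.commutes l).symm
        rw [this]
        exact Ideal.mem_map_of_mem _ (Ideal.mem_sup_left (Ideal.mem_map_of_mem _ hl))
      · refine le_trans (Ideal.pow_right_mono hmA 2) ?_
        rw [← Ideal.map_pow]
        exact Ideal.map_mono le_sup_right
    obtain ⟨b', hb', hbb'⟩ := (Ideal.mem_map_iff_of_surjective f.toAlgHom hf).1 (hle hfb)
    by_contra hcon
    have hj : b - b' ∈ IsLocalRing.maximalIdeal B := sub_mem hb (hIm B hb')
    have hj' : b - b' ∉ Ideal.map (algebraMap Λ B) (RingHom.ker (algebraMap Λ k)) ⊔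
        IsLocalRing.maximalIdeal B ^ 2 := fun h => hcon (by
      have := add_mem h hb'
      rwa [sub_add_cancel] at this)
    obtain ⟨D, hD⟩ := exists_der_ne_zero B (b - b') hj hj'
    have h0 : f (b - b') = 0 := by
      rw [map_sub]
      exact sub_eq_zero.2 hbb'.symm
    exact hD (((isEssential_iff_der f).1 ⟨hf, hess⟩).2 D (b - b') h0)
  · rintro ⟨h3, hinj⟩
    have hf : Function.Surjective f := (hsurj_iff f).2 h3
    refine ⟨hf, ?_⟩
    intro C g hgf
    rw [hsurj_iff g]
    apply le_antisymm
    · refine sup_le (sup_le ?_ ?_) (Ideal.pow_le_self two_ne_zero)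
      · exact le_trans le_sup_left (hIm B)
      · rw [Ideal.map_le_iff_le_comap]
        intro c hc
        rw [Ideal.mem_comap]
        rw [mem_maximalIdeal_iff] at hc ⊢
        change B.res (g c) = 0
        rw [res_app g c]
        exact hc
    · intro b hb
      obtain ⟨c, hc⟩ := hgf (f b)
      have hc' : f (g c) = f b := hc
      have hcm : c ∈ IsLocalRing.maximalIdeal C := by
        rw [mem_maximalIdeal_iff] at hb ⊢
        rw [← res_app g c, ← res_app f (g c), hc', res_app f b]
        exact hb
      have hgcm : g c ∈ IsLocalRing.maximalIdeal B := by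
        rw [mem_maximalIdeal_iff] at hcm ⊢
        rw [res_app g c]
        exact hcm
      have h1 := hinj (b - g c) (sub_mem hb hgcm) (by
        rw [map_sub, hc', sub_self]
        exact zero_mem _)
      have h2 : g c ∈ Ideal.map g.toAlgHom (IsLocalRing.maximalIdeal C) :=
        Ideal.mem_map_of_mem g.toAlgHom hcm
      have hle1 : Ideal.map (algebraMap Λ B) (RingHom.ker (algebraMap Λ k)) ⊔
          IsLocalRing.maximalIdeal B ^ 2 ≤
          Ideal.map (algebraMap Λ B) (RingHom.ker (algebraMap Λ k)) ⊔
            Ideal.map g.toAlgHom (IsLocalRing.maximalIdeal C) ⊔ IsLocalRing.maximalIdeal B ^ 2 :=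
        sup_le (le_sup_of_le_left le_sup_left) le_sup_right
      have := add_mem (hle1 h1) (Ideal.mem_sup_left (Ideal.mem_sup_right h2) :
        g c ∈ Ideal.map (algebraMap Λ B) (RingHom.ker (algebraMap Λ k)) ⊔
            Ideal.map g.toAlgHom (IsLocalRing.maximalIdeal C) ⊔ IsLocalRing.maximalIdeal B ^ 2)
      rwa [sub_add_cancel] at this

end Groth.Agent.S12753
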