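import Groth.Statements.S6284
import Mathlib.RingTheory.LocalRing.Module
import Mathlib.RingTheory.Spectrum.Prime.Module
import Mathlib.RingTheory.Flat.FaithfullyFlat.Basic
import Mathlib.RingTheory.LocalRing.ResidueField.Ideal

set_option autoImplicit false
universe u
open scoped TensorProduct
open CAlg

namespace Groth.Agent.S6284

open TensorProduct

theorem lemmaL (R : Type u) [CommRing R] (K : Type u) [Field K] [Algebra R K]
    (M : Type u) [AddCommGroup M] [Module R M] [Module.Finite R M] (p : PrimeSpectrum R)
    (hp : RingHom.ker (algebraMap R K) = p.asIdeal) :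
    Nontrivial (K ⊗[R] M) ↔ p ∈ Module.support R M := by
  constructor
  · intro hnt
    by_contra hns
    rw [Module.mem_support_iff_of_finite] at hns
    obtain ⟨s, hsA, hsp⟩ := Set.not_subset.mp hns
    have ha : algebraMap R K s ≠ 0 := by
      intro h0
      apply hsp
      rw [SetLike.mem_coe, ← hp, RingHom.mem_ker]
      exact h0
    have : Subsingleton (K ⊗[R] M) := by
      refine ⟨fun x y => ?_⟩
      have h0 : ∀ z : K ⊗[R] M, z = 0 := by
        intro z
        induction z using TensorProduct.induction_on with
        | zero => rfl
        | tmul k m =>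
          have : k = s • (k * (algebraMap R K s)⁻¹) := by
            rw [Algebra.smul_def]
            field_simp
          rw [this, TensorProduct.smul_tmul, Module.mem_annihilator.mp hsA m, tmul_zero]
        | add a b ha hb => rw [ha, hb, add_zero]
      rw [h0 x, h0 y]
    exact not_subsingleton _ this
  · intro hps
    have hnt : Nontrivial (p.asIdeal.ResidueField ⊗[R] M) :=
      (Module.mem_support_iff_nontrivial_residueField_tensorProduct p).mp hps
    have hf₁ : p.asIdeal ≤ RingHom.ker (algebraMap R K) := hp.ge
    have hf₂ : p.asIdeal.primeCompl ≤ (IsUnit.submonoid K).comap (algebraMap R K) := by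
      intro r hr
      change IsUnit (algebraMap R K r)
      rw [isUnit_iff_ne_zero]
      intro h0
      apply hr
      rw [SetLike.mem_coe, ← hp, RingHom.mem_ker]
      exact h0
    letI : Algebra p.asIdeal.ResidueField K :=
      (Ideal.ResidueField.lift p.asIdeal (algebraMap R K) hf₁ hf₂).toAlgebra
    have : IsScalarTower R p.asIdeal.ResidueField K := by
      apply IsScalarTower.of_algebraMap_eq
      intro r
      rw [RingHom.algebraMap_toAlgebra, Ideal.ResidueField.lift_algebraMap]
    have h1 : Nontrivial (K ⊗[p.asIdeal.ResidueField] (p.asIdeal.ResidueField ⊗[R] M)) :=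
      inferInstance
    exact (AlgebraTensorModule.cancelBaseChange R p.asIdeal.ResidueField K K M).symm.toEquiv.nontrivial

/-- Let R → R' be a ring map and M a finite R-module. Then the support of R' ⊗_R M is the inverse image
of the support of M under Spec(R') → Spec(R). -/
theorem result {R R' : Type u} [CommRing R] [CommRing R'] [Algebra R R'] (M : Type u) [AddCommGroup M] [Module R M] [Module.Finite R M] : Module.support R' (R' ⊗[R] M) = PrimeSpectrum.comap (algebraMap R R') ⁻¹' Module.support R M := by
  ext q
  rw [Set.mem_preimage, Module.mem_support_iff_nontrivial_residueField_tensorProduct,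
    ← lemmaL R q.asIdeal.ResidueField M (PrimeSpectrum.comap (algebraMap R R') q)]
  · exact (AlgebraTensorModule.cancelBaseChange R R' q.asIdeal.ResidueField
      q.asIdeal.ResidueField M).toEquiv.nontrivial_congr
  · ext r
    rw [RingHom.mem_ker, IsScalarTower.algebraMap_apply R R' q.asIdeal.ResidueField,
      PrimeSpectrum.comap_asIdeal, Ideal.mem_comap, ← Ideal.algebraMap_residueField_eq_zero]

end Groth.Agent.S6284
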