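import Groth.Statements.S1276
-- import your own Groth.Agent.* helpers here
import Groth.Agent.S6284
import Mathlib.RingTheory.FiniteType
import Mathlib.RingTheory.Finiteness.Ideal

set_option autoImplicit false
universe u
open FlatMor

namespace Groth.Agent.S1276

/-- Let B be a finite type A-algebra, N a finite B-module and p a prime of A. Then there is a finitely
generated ideal J of B annihilating N (so N is a module on the finitely presented closed subscheme
V(J) of Spec B) such that a point of the fibre Spec(κ(p) ⊗ B) lies in V(J) if and only if it lies in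
the support of the fibre module of N. -/
theorem result {A B : Type u} [CommRing A] [CommRing B] [Algebra A B] [Algebra.FiniteType A B]
    (N : Type u) [AddCommGroup N] [Module B N] [Module A N] [IsScalarTower A B N] [Module.Finite B N] (p : Ideal A) [p.IsPrime] :
    ∃ J : Ideal B, J.FG ∧ J ≤ Module.annihilator B N ∧
      ∀ x : PrimeSpectrum (p.Fiber B), FlatCA.fiberIdeal p J ≤ x.asIdeal ↔ x ∈ Module.support (p.Fiber B) (FlatCA.fiberMod p B N) := by
  classical
  letI : Algebra B (p.Fiber B) := Algebra.TensorProduct.rightAlgebra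
  haveI : Algebra.FiniteType p.ResidueField (p.Fiber B) := inferInstance
  haveI : IsNoetherianRing (p.Fiber B) :=
    Algebra.FiniteType.isNoetherianRing p.ResidueField (p.Fiber B)
  set f : B →+* p.Fiber B := algebraMap B (p.Fiber B) with hf
  set Ann := Module.annihilator B N with hAnn
  have hfg : (Submodule.span (p.Fiber B) (f '' (Ann : Set B))).FG :=
    IsNoetherian.noetherian _
  obtain ⟨s', hs'sub, hs'eq⟩ := (Submodule.fg_span_iff_fg_span_finset_subset _).mp hfg
  have hpre : ∀ y : p.Fiber B, ∃ b : B, y ∈ s' → (b ∈ Ann ∧ f b = y) := by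
    intro y
    by_cases hy : y ∈ s'
    · obtain ⟨b, hb, hby⟩ := hs'sub hy
      exact ⟨b, fun _ => ⟨hb, hby⟩⟩
    · exact ⟨0, fun h => absurd h hy⟩
  choose g hg using hpre
  set T : Finset B := s'.image g with hT
  have hTAnn : ∀ b ∈ T, b ∈ Ann := by
    intro b hb
    obtain ⟨y, hy, rfl⟩ := Finset.mem_image.mp hb
    exact (hg y hy).1
  have himage : f '' (T : Set B) = (s' : Set (p.Fiber B)) := by
    ext y
    constructor
    · rintro ⟨b, hb, rfl⟩
      obtain ⟨y', hy', rfl⟩ := Finset.mem_image.mp (Finset.mem_coe.mp hb)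
      rw [(hg y' hy').2]
      exact hy'
    · intro hy
      exact ⟨g y, Finset.mem_coe.mpr (Finset.mem_image_of_mem g hy), (hg y hy).2⟩
  refine ⟨Ideal.span (T : Set B), ⟨T, rfl⟩, Ideal.span_le.mpr hTAnn, ?_⟩
  have hfib : FlatCA.fiberIdeal p (Ideal.span (T : Set B)) = Ann.map f := by
    have h1 : FlatCA.fiberIdeal p (Ideal.span (T : Set B)) = (Ideal.span (T : Set B)).map f := rfl
    rw [h1, Ideal.map_span, himage]
    change Submodule.span (p.Fiber B) (s' : Set (p.Fiber B)) = Ideal.span (f '' (Ann : Set B))
    exact hs'eq.symm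
  intro x
  rw [hfib, Ideal.map_le_iff_le_comap]
  have hsupp := Groth.Agent.S6284.result (R := B) (R' := p.Fiber B) N
  have hx : x ∈ Module.support (p.Fiber B) (FlatCA.fiberMod p B N) ↔
      PrimeSpectrum.comap (algebraMap B (p.Fiber B)) x ∈ Module.support B N := by
    change x ∈ Module.support (p.Fiber B) (TensorProduct B (p.Fiber B) N) ↔ _
    rw [hsupp]
    rfl
  rw [hx, Module.mem_support_iff_of_finite]
  rfl

end Groth.Agent.S1276
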