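import Groth.Statements.S1277
import Groth.Agent.Lib.Helper21.FlatLocal6

set_option autoImplicit false
universe u
open FlatMor

namespace Groth.Agent.S1277
open TensorProduct Groth.Agent.Lib.Helper21.FlatLocal

section FF
variable {A' R R' : Type u} [CommRing A'] [CommRing R] [CommRing R'] [Algebra A' R] [Algebra R R']
  [Algebra A' R'] [IsScalarTower A' R R'] [Module.FaithfullyFlat R R']
  (E : Type u) [AddCommGroup E] [Module R E] [Module A' E] [IsScalarTower A' R E]

/-- Faithfully flat descent of flatness over a smaller base: `R' ⊗_R E` is `A'`-flat iff `E` is. -/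
theorem flat_tensor_iff_of_faithfullyFlat :
    Module.Flat A' (R' ⊗[R] E) ↔ Module.Flat A' E := by
  rw [Module.Flat.iff_lTensor_preserves_injective_linearMap,
    Module.Flat.iff_lTensor_preserves_injective_linearMap]
  refine forall_congr' fun X' => forall_congr' fun X => forall_congr' fun _ => forall_congr' fun _ =>
    forall_congr' fun _ => forall_congr' fun _ => forall_congr' fun ι => forall_congr' fun _ => ?_
  let u : E ⊗[A'] X' →ₗ[R] E ⊗[A'] X := AlgebraTensorModule.lTensor R E ι
  have hu : Function.Injective (u.lTensor R') ↔ Function.Injective u :=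
    Module.FaithfullyFlat.lTensor_injective_iff_injective R R' u
  let α : ∀ (Y : Type u) [AddCommGroup Y] [Module A' Y],
      (R' ⊗[R] E) ⊗[A'] Y ≃ₗ[R'] R' ⊗[R] (E ⊗[A'] Y) := fun Y _ _ =>
    AlgebraTensorModule.assoc A' R R' R' E Y
  have hcomm : ∀ z, α X (ι.lTensor (R' ⊗[R] E) z) = u.lTensor R' (α X' z) := by
    intro z
    induction z using TensorProduct.induction_on with
    | zero => simp
    | add a b ha hb => simp only [map_add, ha, hb]
    | tmul a x =>
      induction a using TensorProduct.induction_on with
      | zero => simp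
      | add a b ha hb => simp only [add_tmul, map_add, ha, hb]
      | tmul r e => simp [α, u]
  have h1 : Function.Injective (ι.lTensor (R' ⊗[R] E)) ↔
      Function.Injective (u.lTensor R') := by
    constructor
    · intro h a b hab
      have : (α X').symm a = (α X').symm b := by
        apply h
        apply (α X).injective
        rw [hcomm, hcomm]; simpa using hab
      exact (α X').symm.injective this
    · intro h a b hab
      apply (α X').injective
      apply h
      rw [← hcomm, ← hcomm, hab]
  rw [h1, hu]
  rfl

end FF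

section LocBC

variable {A' B' C' : Type u} [CommRing A'] [CommRing B'] [CommRing C'] [Algebra A' B'] [Algebra B' C']
  [Algebra A' C'] [IsScalarTower A' B' C'] [Module.Flat B' C']
  {M' N' : Type u} [AddCommGroup M'] [Module B' M'] [Module A' M'] [IsScalarTower A' B' M']
  [AddCommGroup N'] [Module C' N'] [Module B' N'] [Module A' N'] [IsScalarTower B' C' N']
  [IsScalarTower A' C' N'] [IsScalarTower A' B' N']

attribute [local instance] Localization.AtPrime.algebraOfLiesOver
attribute [local instance] moduleLoc

theorem flat_localized_iff_of_isBaseChange (h : M' →ₗ[B'] N') (hh : IsBaseChange C' h)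
    (q : Ideal B') [q.IsPrime] (r : Ideal C') [r.IsPrime] [r.LiesOver q] :
    Module.Flat A' (LocalizedModule q.primeCompl M') ↔
      Module.Flat A' (LocalizedModule r.primeCompl N') := by
  haveI : Module.FaithfullyFlat (Localization.AtPrime q) (Localization.AtPrime r) :=
    Module.FaithfullyFlat.of_flat_of_isLocalHom
  let f1 : M' →ₗ[B'] LocalizedModule q.primeCompl M' := LocalizedModule.mkLinearMap q.primeCompl M'
  let f2 : N' →ₗ[C'] LocalizedModule r.primeCompl N' := LocalizedModule.mkLinearMap r.primeCompl N'
  have hf1 : IsBaseChange (Localization.AtPrime q) f1 :=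
    IsLocalizedModule.isBaseChange q.primeCompl (Localization.AtPrime q) f1
  have hf2 : IsBaseChange (Localization.AtPrime r) f2 :=
    IsLocalizedModule.isBaseChange r.primeCompl (Localization.AtPrime r) f2
  have hcomp : IsBaseChange (Localization.AtPrime r) ((f2.restrictScalars B') ∘ₗ h) :=
    IsBaseChange.comp hh hf2
  let g : LocalizedModule q.primeCompl M' →ₗ[Localization.AtPrime q] LocalizedModule r.primeCompl N' :=
    hf1.lift ((f2.restrictScalars B') ∘ₗ h)
  have hg : IsBaseChange (Localization.AtPrime r) g := by
    refine IsBaseChange.of_comp hf1 ?_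
    rw [hf1.lift_comp]
    exact hcomp
  rw [← flat_tensor_iff_of_faithfullyFlat (A' := A') (R := Localization.AtPrime q)
    (R' := Localization.AtPrime r) (LocalizedModule q.primeCompl M')]
  exact ⟨fun _ => Module.Flat.of_linearEquiv (hg.equiv.restrictScalars A').symm,
    fun _ => Module.Flat.of_linearEquiv (hg.equiv.restrictScalars A')⟩


theorem core_flat (h : M' →ₗ[B'] N') (hh : IsBaseChange C' h) (IB : Ideal B') (IC : Ideal C')
    (h1 : ∀ r : Ideal C', r.IsPrime → IC ≤ r → IB ≤ r.comap (algebraMap B' C'))
    (h3 : ∀ q : Ideal B', q.IsPrime → IB ≤ q →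
      ∃ r : Ideal C', r.IsPrime ∧ IC ≤ r ∧ r.comap (algebraMap B' C') = q) :
    (∀ (q : Ideal B') [q.IsPrime], IB ≤ q → Module.Flat A' (LocalizedModule q.primeCompl M')) ↔
    (∀ (r : Ideal C') [r.IsPrime], IC ≤ r → Module.Flat A' (LocalizedModule r.primeCompl N')) := by
  constructor
  · intro H r hr hIC
    haveI : r.LiesOver (r.comap (algebraMap B' C')) := ⟨rfl⟩
    exact (flat_localized_iff_of_isBaseChange h hh (r.comap (algebraMap B' C')) r).1
      (H _ (h1 r hr hIC))
  · intro H q hq hIB
    obtain ⟨r, hr, hIC, hrq⟩ := h3 q hq hIB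
    haveI := hr
    haveI : r.LiesOver q := ⟨hrq.symm⟩
    exact (flat_localized_iff_of_isBaseChange h hh q r).2 (H r hIC)

end LocBC

section H3
open IsLocalRing
variable {B C B' C' : Type u} [CommRing B] [IsLocalRing B] [CommRing C] [IsLocalRing C] [Algebra B C]
  [IsLocalHom (algebraMap B C)] [CommRing B'] [CommRing C'] [Algebra B B'] [Algebra C C'] [Algebra B' C']
  [Algebra B C'] [IsScalarTower B C C'] [IsScalarTower B B' C'] [Algebra.IsPushout B C B' C']

/-- Over a prime `q ⊇ 𝔪_B B'` there is a prime of `C' = C ⊗_B B'` containing `𝔪_C C'`. -/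
theorem exists_prime_over (q : Ideal B') [q.IsPrime]
    (hq : (maximalIdeal B).map (algebraMap B B') ≤ q) :
    ∃ r : Ideal C', r.IsPrime ∧ (maximalIdeal C).map (algebraMap C C') ≤ r ∧
      r.comap (algebraMap B' C') = q := by
  classical
  let k := q.ResidueField
  let ρ : ResidueField B →+* k := Ideal.Quotient.lift (maximalIdeal B)
    ((algebraMap B' k).comp (algebraMap B B')) (fun b hb => by
      have : algebraMap B B' b ∈ q := hq (Ideal.mem_map_of_mem _ hb)
      simpa [k, Ideal.algebraMap_residueField_eq_zero] using this)
  letI : Algebra (ResidueField B) k := ρ.toAlgebra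
  let D := ResidueField C ⊗[ResidueField B] k
  haveI : Nontrivial D :=
    Algebra.TensorProduct.nontrivial_of_algebraMap_injective_of_flat_left (ResidueField B)
      (ResidueField C) k (RingHom.injective _)
  letI algBD : Algebra B D := ((algebraMap (ResidueField B) D).comp (algebraMap B (ResidueField B))).toAlgebra
  let f : C →ₐ[B] D :=
    { toRingHom := (Algebra.TensorProduct.includeLeftRingHom).comp (algebraMap C (ResidueField C))
      commutes' := fun b => by
        change (algebraMap C (ResidueField C) (algebraMap B C b)) ⊗ₜ[ResidueField B] (1 : k) =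
          algebraMap (ResidueField B) D (algebraMap B (ResidueField B) b)
        rw [Algebra.TensorProduct.algebraMap_apply]
        rfl }
  let g : B' →ₐ[B] D :=
    { toRingHom := (Algebra.TensorProduct.includeRight (R := ResidueField B) (A := ResidueField C)
        (B := k)).toRingHom.comp (algebraMap B' k)
      commutes' := fun b => by
        change (Algebra.TensorProduct.includeRight (R := ResidueField B) (A := ResidueField C)
          (B := k)) (algebraMap B' k (algebraMap B B' b)) =
          algebraMap (ResidueField B) D (algebraMap B (ResidueField B) b)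
        rw [← AlgHom.commutes (Algebra.TensorProduct.includeRight (R := ResidueField B)
          (A := ResidueField C) (B := k))]
        rfl }
  let ψ : C' →ₐ[B] D := Algebra.pushoutDesc C' f g (fun x y => mul_comm _ _)
  obtain ⟨𝔪, h𝔪⟩ := Ideal.exists_maximal D
  refine ⟨𝔪.comap ψ.toRingHom, Ideal.comap_isPrime _ _, ?_, ?_⟩
  · rw [Ideal.map_le_iff_le_comap]
    intro c hc
    change ψ (algebraMap C C' c) ∈ 𝔪
    rw [Algebra.pushoutDesc_left]
    change (algebraMap C (ResidueField C) c) ⊗ₜ[ResidueField B] (1 : k) ∈ 𝔪
    have : algebraMap C (ResidueField C) c = 0 := (IsLocalRing.residue_eq_zero_iff c).2 hc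
    rw [this, zero_tmul]
    exact 𝔪.zero_mem
  · ext b'
    change ψ (algebraMap B' C' b') ∈ 𝔪 ↔ b' ∈ q
    rw [Algebra.pushoutDesc_right]
    let incl := (Algebra.TensorProduct.includeRight (R := ResidueField B) (A := ResidueField C) (B := k))
    change incl (algebraMap B' k b') ∈ 𝔪 ↔ b' ∈ q
    have hbot : 𝔪.comap incl.toRingHom = ⊥ := by
      haveI : (𝔪.comap incl.toRingHom).IsPrime := Ideal.comap_isPrime _ _
      exact Ideal.eq_bot_of_prime _
    have : incl (algebraMap B' k b') ∈ 𝔪 ↔ algebraMap B' k b' ∈ 𝔪.comap incl.toRingHom := Iff.rfl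
    rw [this, hbot, Ideal.mem_bot, Ideal.algebraMap_residueField_eq_zero]

end H3


open IsLocalRing in
/-- Let A be a local ring, A → B a local homomorphism of local rings, B → C a flat local homomorphism of
local rings, M a B-module and N = M ⊗_B C. For every local homomorphism of local rings A → A', with
base changes B' = B ⊗_A A', M', C' = C ⊗_A A', N' (any models): M' is flat over A' at every prime of
B' containing 𝔪_{A'}B' + 𝔪_B B' if and only if N' is flat over A' at every prime of C' containing
𝔪_{A'}C' + 𝔪_C C'. -/
theorem result {A B C : Type u} [CommRing A] [IsLocalRing A] [CommRing B] [IsLocalRing B] [CommRing C] [IsLocalRing C]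
    [Algebra A B] [IsLocalHom (algebraMap A B)] [Algebra B C] [IsLocalHom (algebraMap B C)] [Algebra A C] [IsScalarTower A B C] [Module.Flat B C]
    (M : Type u) [AddCommGroup M] [Module B M] (N : Type u) [AddCommGroup N] [Module C N] [Module B N] [IsScalarTower B C N]
    (g : M →ₗ[B] N) (hg : IsBaseChange C g)
    (A' : Type u) [CommRing A'] [IsLocalRing A'] [Algebra A A'] [IsLocalHom (algebraMap A A')]
    (B' M' : Type u) [CommRing B'] [Algebra B B'] [Algebra A' B'] [Algebra A B'] [IsScalarTower A B B'] [IsScalarTower A A' B']
        [Algebra.IsPushout A B A' B']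
        [AddCommGroup M'] [Module B' M'] [Module B M'] [IsScalarTower B B' M'] [Module A' M'] [IsScalarTower A' B' M']
        (fB : M →ₗ[B] M') (hfB : IsBaseChange B' fB)
    (C' N' : Type u) [CommRing C'] [Algebra C C'] [Algebra A' C'] [Algebra A C'] [IsScalarTower A C C'] [IsScalarTower A A' C']
        [Algebra.IsPushout A C A' C']
        [AddCommGroup N'] [Module C' N'] [Module C N'] [IsScalarTower C C' N'] [Module A' N'] [IsScalarTower A' C' N']
        (fC : N →ₗ[C] N') (hfC : IsBaseChange C' fC) :
    FlatCA.FlatAboveClosedPoints B A' B' M' ↔ FlatCA.FlatAboveClosedPoints C A' C' N' := by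
  classical
  let φ : B' →ₐ[A] C' := Algebra.pushoutDesc B'
    ((IsScalarTower.toAlgHom A C C').comp (IsScalarTower.toAlgHom A B C))
    (IsScalarTower.toAlgHom A A' C') (fun x y => mul_comm _ _)
  have hφB : ∀ b : B, φ (algebraMap B B' b) = algebraMap C C' (algebraMap B C b) := fun b => by
    simp [φ]
  have hφA' : ∀ a : A', φ (algebraMap A' B' a) = algebraMap A' C' a := fun a => by
    simp [φ]
  letI algB'C' : Algebra B' C' := φ.toRingHom.toAlgebra
  letI algBC' : Algebra B C' := ((algebraMap C C').comp (algebraMap B C)).toAlgebra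
  haveI : IsScalarTower B C C' := IsScalarTower.of_algebraMap_eq (fun x => rfl)
  haveI : IsScalarTower B B' C' := IsScalarTower.of_algebraMap_eq (fun x => (hφB x).symm)
  haveI : IsScalarTower A' B' C' := IsScalarTower.of_algebraMap_eq (fun x => (hφA' x).symm)
  haveI : IsScalarTower A B' C' := IsScalarTower.of_algebraMap_eq (fun x => (φ.commutes x).symm)
  haveI hPO : Algebra.IsPushout B C B' C' :=
    (Algebra.IsPushout.comp_iff A B A' B' (T := C) (T' := C')).1 inferInstance
  haveI hPO' : Algebra.IsPushout B B' C C' := hPO.symm
  haveI : Module.Flat B' C' := Module.Flat.isBaseChange (R := B) (S := B') (M := C) C' hPO'.out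
  letI modB'N' : Module B' N' := Module.compHom N' (algebraMap B' C')
  haveI : IsScalarTower B' C' N' := IsScalarTower.of_algebraMap_smul (fun r x => rfl)
  haveI : IsScalarTower A' B' N' := IsScalarTower.of_algebraMap_smul (fun a x => by
    change (algebraMap B' C' (algebraMap A' B' a)) • x = a • x
    rw [← IsScalarTower.algebraMap_apply, algebraMap_smul])
  letI modBN' : Module B N' := Module.compHom N' (algebraMap B C')
  haveI : IsScalarTower B C' N' := IsScalarTower.of_algebraMap_smul (fun r x => rfl)
  haveI : IsScalarTower B C N' := IsScalarTower.of_algebraMap_smul (fun b x => by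
    change algebraMap B C b • x = algebraMap B C' b • x
    rw [IsScalarTower.algebraMap_apply B C C', algebraMap_smul C' (algebraMap B C b) x])
  haveI : IsScalarTower B B' N' := IsScalarTower.of_algebraMap_smul (fun b x => by
    change algebraMap B' C' (algebraMap B B' b) • x = algebraMap B C' b • x
    rw [← IsScalarTower.algebraMap_apply])
  have hcomp : IsBaseChange C' ((fC.restrictScalars B).comp g) := IsBaseChange.comp hg hfC
  let h : M' →ₗ[B'] N' := hfB.lift ((fC.restrictScalars B).comp g)
  have hh : IsBaseChange C' h := by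
    refine IsBaseChange.of_comp hfB ?_
    rw [hfB.lift_comp]
    exact hcomp
  set IB : Ideal B' := (maximalIdeal A').map (algebraMap A' B') ⊔ (maximalIdeal B).map (algebraMap B B')
    with hIB
  set IC : Ideal C' := (maximalIdeal A').map (algebraMap A' C') ⊔ (maximalIdeal C).map (algebraMap C C')
    with hIC
  unfold FlatCA.FlatAboveClosedPoints FlatCA.FlatAt
  refine core_flat h hh IB IC ?_ ?_
  · intro r hr hICr
    rw [hIB, sup_le_iff, Ideal.map_le_iff_le_comap, Ideal.map_le_iff_le_comap]
    rw [hIC, sup_le_iff, Ideal.map_le_iff_le_comap, Ideal.map_le_iff_le_comap] at hICr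
    constructor
    · intro a ha
      change algebraMap B' C' (algebraMap A' B' a) ∈ r
      rw [← IsScalarTower.algebraMap_apply]
      exact hICr.1 ha
    · intro b hb
      change algebraMap B' C' (algebraMap B B' b) ∈ r
      rw [← IsScalarTower.algebraMap_apply, IsScalarTower.algebraMap_apply B C C']
      exact hICr.2 (map_nonunit (algebraMap B C) b hb)
  · intro q hq hIBq
    rw [hIB, sup_le_iff] at hIBq
    obtain ⟨r, hr, hmC, hrq⟩ := exists_prime_over (B := B) (C := C) (B' := B') (C' := C') q hIBq.2
    refine ⟨r, hr, ?_, hrq⟩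
    rw [hIC, sup_le_iff]
    refine ⟨?_, hmC⟩
    rw [Ideal.map_le_iff_le_comap]
    intro a ha
    have : algebraMap A' B' a ∈ q := hIBq.1 (Ideal.mem_map_of_mem _ ha)
    rw [← hrq] at this
    change algebraMap B' C' (algebraMap A' B' a) ∈ r at this
    rwa [← IsScalarTower.algebraMap_apply] at this

end Groth.Agent.S1277
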