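import Groth.Statements.S1278
import Groth.Agent.Lib.Helper21.FlatLocal6
import Groth.Agent.Lib.Helper21.DepthKit13

set_option autoImplicit false
universe u
open FlatMor

namespace Groth.Agent.S1278
open Groth.Agent.Lib.Helper21

section LL
variable {R : Type u} [CommRing R] {M M1 M2 : Type u} [AddCommGroup M] [Module R M]
  [AddCommGroup M1] [Module R M1] [AddCommGroup M2] [Module R M2]

/-- Localization in stages: if `f1 : M → M1` is the localization at `S`, `f2 : M → M2` the one at `S' ≥ S`,
and `g ∘ f1 = f2`, then `g` is a localization at `S'`. -/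
theorem isLocalizedModule_of_comp (S S' : Submonoid R) (hSS : S ≤ S') (f1 : M →ₗ[R] M1) (f2 : M →ₗ[R] M2)
    [IsLocalizedModule S f1] [IsLocalizedModule S' f2] (g : M1 →ₗ[R] M2) (hg : g ∘ₗ f1 = f2) :
    IsLocalizedModule S' g := by
  have hg' : ∀ m, g (f1 m) = f2 m := fun m => by rw [← hg]; rfl
  refine ⟨fun s => IsLocalizedModule.map_units f2 s, fun y => ?_, @fun x₁ x₂ h => ?_⟩
  · obtain ⟨⟨m, s⟩, hms⟩ := IsLocalizedModule.surj S' f2 y
    exact ⟨⟨f1 m, s⟩, by rw [hg']; exact hms⟩
  · obtain ⟨⟨m₁, s₁⟩, h₁⟩ := IsLocalizedModule.surj S f1 x₁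
    obtain ⟨⟨m₂, s₂⟩, h₂⟩ := IsLocalizedModule.surj S f1 x₂
    have h₁' : (s₁ : R) • x₁ = f1 m₁ := h₁
    have h₂' : (s₂ : R) • x₂ = f1 m₂ := h₂
    have e : f2 ((s₂ : R) • m₁) = f2 ((s₁ : R) • m₂) := by
      rw [map_smul, map_smul, ← hg', ← hg', ← h₁', ← h₂', map_smul, map_smul, h, smul_comm]
    obtain ⟨c, hc⟩ := IsLocalizedModule.exists_of_eq (S := S') (f := f2) e
    refine ⟨c * ⟨s₁, hSS s₁.2⟩ * ⟨s₂, hSS s₂.2⟩, ?_⟩
    have hc' : (c : R) • (s₂ : R) • m₁ = (c : R) • (s₁ : R) • m₂ := hc
    change ((c : R) * (s₁ : R) * (s₂ : R)) • x₁ = ((c : R) * (s₁ : R) * (s₂ : R)) • x₂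
    have e1 : ((c : R) * (s₁ : R) * (s₂ : R)) • x₁ = f1 ((c : R) • (s₂ : R) • m₁) := by
      rw [map_smul, map_smul, ← h₁', smul_smul, smul_smul]
      congr 1; ring
    have e2 : ((c : R) * (s₁ : R) * (s₂ : R)) • x₂ = f1 ((c : R) • (s₁ : R) • m₂) := by
      rw [map_smul, map_smul, ← h₂', smul_smul, smul_smul]
    rw [e1, e2, hc']

end LL

section Core
open Groth.Agent.Lib.Helper21.FlatLocal Groth.Agent.Lib.Helper21.DepthKit

variable {A' C' : Type u} [CommRing A'] [CommRing C'] [Algebra A' C']
  {P P1 P2 : Type u} [AddCommGroup P] [Module C' P] [Module A' P] [IsScalarTower A' C' P]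
  [AddCommGroup P1] [Module C' P1] [Module A' P1] [IsScalarTower A' C' P1]
  [AddCommGroup P2] [Module C' P2] [Module A' P2] [IsScalarTower A' C' P2]

/-- Flatness passes to the localization at a larger submonoid. -/
theorem flat_of_le (S S' : Submonoid C') (hSS : S ≤ S') (f1 : P →ₗ[C'] P1) (f2 : P →ₗ[C'] P2)
    [IsLocalizedModule S f1] [IsLocalizedModule S' f2] [Module.Flat A' P1] : Module.Flat A' P2 := by
  have hu : ∀ x : S, IsUnit ((algebraMap C' (Module.End C' P2)) x) := fun x =>
    IsLocalizedModule.map_units f2 ⟨x.1, hSS x.2⟩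
  let g : P1 →ₗ[C'] P2 := IsLocalizedModule.lift S f1 f2 hu
  have hg : g ∘ₗ f1 = f2 := IsLocalizedModule.lift_comp S f1 f2 hu
  haveI := isLocalizedModule_of_comp S S' hSS f1 f2 g hg
  exact flat_of_isLocalizedModule S' g

end Core

section Core2
open Groth.Agent.Lib.Helper21.FlatLocal Groth.Agent.Lib.Helper21.DepthKit

variable {A' B' C' : Type u} [CommRing A'] [CommRing B'] [CommRing C'] [Algebra A' B'] [Algebra B' C']
  [Algebra A' C'] [IsScalarTower A' B' C']
  (P : Type u) [AddCommGroup P] [Module C' P] [Module B' P] [Module A' P] [IsScalarTower B' C' P]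
  [IsScalarTower A' C' P] [IsScalarTower A' B' P]

/-- `P_q` (localization of the `B'`-module `P`) is `A'`-flat iff `P_T` is, `T` the image of `B' ∖ q`. -/
theorem flat_localized_iff (q : Ideal B') [q.IsPrime] :
    Module.Flat A' (LocalizedModule q.primeCompl P) ↔
      Module.Flat A' (LocalizedModule (Algebra.algebraMapSubmonoid C' q.primeCompl) P) := by
  set T := Algebra.algebraMapSubmonoid C' q.primeCompl with hT
  let fT : P →ₗ[C'] LocalizedModule T P := LocalizedModule.mkLinearMap T P
  haveI : IsLocalizedModule q.primeCompl (fT.restrictScalars B') :=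
    IsLocalizedModule.restrictScalars q.primeCompl fT
  let e : LocalizedModule q.primeCompl P ≃ₗ[B'] LocalizedModule T P :=
    IsLocalizedModule.iso q.primeCompl (fT.restrictScalars B')
  exact ⟨fun h => Module.Flat.of_linearEquiv (e.restrictScalars A').symm,
    fun h => Module.Flat.of_linearEquiv (e.restrictScalars A')⟩

theorem flat_at_of_comap (r : Ideal C') [r.IsPrime]
    (h : Module.Flat A' (LocalizedModule (r.comap (algebraMap B' C')).primeCompl P)) :
    Module.Flat A' (LocalizedModule r.primeCompl P) := by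
  set q := r.comap (algebraMap B' C') with hq
  rw [flat_localized_iff (C' := C')] at h
  have hle : Algebra.algebraMapSubmonoid C' q.primeCompl ≤ r.primeCompl := by
    rintro x ⟨b, hb, rfl⟩
    exact hb
  haveI := h
  exact flat_of_le (Algebra.algebraMapSubmonoid C' q.primeCompl) r.primeCompl hle
    (LocalizedModule.mkLinearMap (Algebra.algebraMapSubmonoid C' q.primeCompl) P)
    (LocalizedModule.mkLinearMap r.primeCompl P)

theorem flat_at_of_forall_over [Algebra.IsIntegral B' C'] (q : Ideal B') [q.IsPrime]
    (H : ∀ (r : Ideal C') [r.IsPrime], r.comap (algebraMap B' C') = q →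
      Module.Flat A' (LocalizedModule r.primeCompl P)) :
    Module.Flat A' (LocalizedModule q.primeCompl P) := by
  rw [flat_localized_iff (C' := C')]
  set T := Algebra.algebraMapSubmonoid C' q.primeCompl with hT
  let fT : P →ₗ[C'] LocalizedModule T P := LocalizedModule.mkLinearMap T P
  refine Module.flat_of_isLocalized_maximal (Localization T) (LocalizedModule T P)
    (fun 𝔓 _ => LocalizedModule 𝔓.primeCompl (LocalizedModule T P))
    (fun 𝔓 _ => LocalizedModule.mkLinearMap 𝔓.primeCompl (LocalizedModule T P)) ?_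
  intro 𝔓 h𝔓
  set r := 𝔓.comap (algebraMap C' (Localization T)) with hr
  haveI := isLocalizedModule_comp_atPrime T fT 𝔓
  have hrq : r.comap (algebraMap B' C') ≤ q := by
    intro b hb
    by_contra hbq
    have : algebraMap B' C' b ∈ T := ⟨b, hbq, rfl⟩
    exact mem_primeCompl_comap_of_mem T 𝔓 this hb
  obtain ⟨r', hr', hr'p, hr'q⟩ := Ideal.exists_ideal_over_prime_of_isIntegral_of_isPrime q r hrq
  haveI := hr'p
  haveI := H r' hr'q
  have hle : r'.primeCompl ≤ r.primeCompl := fun x hx hxr => hx (hr' hxr)
  exact flat_of_le r'.primeCompl r.primeCompl hle (LocalizedModule.mkLinearMap r'.primeCompl P)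
    (((LocalizedModule.mkLinearMap 𝔓.primeCompl (LocalizedModule T P)).restrictScalars C') ∘ₗ fT)

theorem core [Algebra.IsIntegral B' C'] (IB : Ideal B') (IC : Ideal C')
    (h1 : ∀ r : Ideal C', r.IsPrime → IC ≤ r → IB ≤ r.comap (algebraMap B' C'))
    (h2 : ∀ r : Ideal C', r.IsPrime → IB ≤ r.comap (algebraMap B' C') → IC ≤ r) :
    (∀ (q : Ideal B') [q.IsPrime], IB ≤ q → Module.Flat A' (LocalizedModule q.primeCompl P)) ↔
    (∀ (r : Ideal C') [r.IsPrime], IC ≤ r → Module.Flat A' (LocalizedModule r.primeCompl P)) := by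
  constructor
  · intro H r hr hIC
    exact flat_at_of_comap P r (H _ (h1 r hr hIC))
  · intro H q hq hIB
    refine flat_at_of_forall_over P q (fun r hr hrq => H r (h2 r hr ?_))
    rw [hrq]; exact hIB

end Core2



open IsLocalRing in
/-- Let A be a local ring and B → C a finite local homomorphism of local A-algebras (A → B local), and N
a C-module, viewed also as a B-module. For every local homomorphism of local rings A → A', with base
changes B', C' of B, C and base changes M' (of N over B') and N' (of N over C'): M' is flat over A'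
at every prime of B' containing 𝔪_{A'}B' + 𝔪_B B' if and only if N' is flat over A' at every prime
of C' containing 𝔪_{A'}C' + 𝔪_C C'. -/
theorem result {A B C : Type u} [CommRing A] [IsLocalRing A] [CommRing B] [IsLocalRing B] [CommRing C] [IsLocalRing C]
    [Algebra A B] [IsLocalHom (algebraMap A B)] [Algebra B C] [IsLocalHom (algebraMap B C)] [Algebra A C] [IsScalarTower A B C] [Module.Finite B C]
    (N : Type u) [AddCommGroup N] [Module C N] [Module B N] [IsScalarTower B C N]
    (A' : Type u) [CommRing A'] [IsLocalRing A'] [Algebra A A'] [IsLocalHom (algebraMap A A')]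
    (B' M' : Type u) [CommRing B'] [Algebra B B'] [Algebra A' B'] [Algebra A B'] [IsScalarTower A B B'] [IsScalarTower A A' B']
        [Algebra.IsPushout A B A' B']
        [AddCommGroup M'] [Module B' M'] [Module B M'] [IsScalarTower B B' M'] [Module A' M'] [IsScalarTower A' B' M']
        (fB : N →ₗ[B] M') (hfB : IsBaseChange B' fB)
    (C' N' : Type u) [CommRing C'] [Algebra C C'] [Algebra A' C'] [Algebra A C'] [IsScalarTower A C C'] [IsScalarTower A A' C']
        [Algebra.IsPushout A C A' C']
        [AddCommGroup N'] [Module C' N'] [Module C N'] [IsScalarTower C C' N'] [Module A' N'] [IsScalarTower A' C' N']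
        (fC : N →ₗ[C] N') (hfC : IsBaseChange C' fC) :
    FlatCA.FlatAboveClosedPoints B A' B' M' ↔ FlatCA.FlatAboveClosedPoints C A' C' N' := by
  classical
  -- the induced map `B' → C'`
  let φ : B' →ₐ[A] C' := Algebra.pushoutDesc B'
    ((IsScalarTower.toAlgHom A C C').comp (IsScalarTower.toAlgHom A B C))
    (IsScalarTower.toAlgHom A A' C') (fun x y => mul_comm _ _)
  have hφB : ∀ b : B, φ (algebraMap B B' b) = algebraMap C C' (algebraMap B C b) := fun b => by
    simp [φ]
  have hφA' : ∀ a : A', φ (algebraMap A' B' a) = algebraMap A' C' a := fun a => by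
    simp [φ]
  letI algB'C' : Algebra B' C' := φ.toRingHom.toAlgebra
  letI algBC' : Algebra B C' := ((algebraMap C C').comp (algebraMap B C)).toAlgebra
  haveI : IsScalarTower B C C' := IsScalarTower.of_algebraMap_eq (fun x => rfl)
  haveI : IsScalarTower B B' C' := IsScalarTower.of_algebraMap_eq (fun x => (hφB x).symm)
  haveI : IsScalarTower A' B' C' := IsScalarTower.of_algebraMap_eq (fun x => (hφA' x).symm)
  haveI : IsScalarTower A B' C' := IsScalarTower.of_algebraMap_eq (fun x => (φ.commutes x).symm)
  have hPO : Algebra.IsPushout B C B' C' := (Algebra.IsPushout.comp_iff A B A' B' (T := C) (T' := C')).1 inferInstance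
  haveI hPO' : Algebra.IsPushout B B' C C' := hPO.symm
  haveI : Algebra.IsIntegral B' C' := Algebra.IsPushout.isIntegral' (R := B) (S := C) (A := B') (SA := C')
  letI modB'N' : Module B' N' := Module.compHom N' (algebraMap B' C')
  haveI : IsScalarTower B' C' N' := IsScalarTower.of_algebraMap_smul (fun r x => rfl)
  haveI : IsScalarTower A' B' N' := IsScalarTower.of_algebraMap_smul (fun a x => by
    change (algebraMap B' C' (algebraMap A' B' a)) • x = a • x
    rw [← IsScalarTower.algebraMap_apply, algebraMap_smul])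
  let e : M' ≃ₗ[B'] N' := hfB.equiv.symm ≪≫ₗ (Algebra.IsPushout.cancelBaseChange B B' C C' N).symm ≪≫ₗ
    (hfC.equiv.restrictScalars B')
  set IB : Ideal B' := (maximalIdeal A').map (algebraMap A' B') ⊔ (maximalIdeal B).map (algebraMap B B')
    with hIB
  set IC : Ideal C' := (maximalIdeal A').map (algebraMap A' C') ⊔ (maximalIdeal C).map (algebraMap C C')
    with hIC
  have step1 : FlatCA.FlatAboveClosedPoints B A' B' M' ↔
      (∀ (q : Ideal B') [q.IsPrime], IB ≤ q → Module.Flat A' (LocalizedModule q.primeCompl N')) := by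
    unfold FlatCA.FlatAboveClosedPoints FlatCA.FlatAt
    refine forall_congr' fun q => forall_congr' fun hq => forall_congr' fun _ => ?_
    let eq : LocalizedModule q.primeCompl M' ≃ₗ[B'] LocalizedModule q.primeCompl N' :=
      IsLocalizedModule.iso q.primeCompl ((LocalizedModule.mkLinearMap q.primeCompl N') ∘ₗ e.toLinearMap)
    exact ⟨fun h => Module.Flat.of_linearEquiv (eq.restrictScalars A').symm,
      fun h => Module.Flat.of_linearEquiv (eq.restrictScalars A')⟩
  rw [step1]
  unfold FlatCA.FlatAboveClosedPoints FlatCA.FlatAt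
  refine core N' IB IC ?_ ?_
  · intro r hr hICr
    rw [hIB, sup_le_iff, Ideal.map_le_iff_le_comap, Ideal.map_le_iff_le_comap]
    rw [hIC, sup_le_iff, Ideal.map_le_iff_le_comap, Ideal.map_le_iff_le_comap] at hICr
    constructor
    · intro a ha
      change algebraMap B' C' (algebraMap A' B' a) ∈ r
      rw [← IsScalarTower.algebraMap_apply]
      exact hICr.1 ha
    · intro b hb
      change algebraMap B' C' (algebraMap B B' b) ∈ r
      rw [← IsScalarTower.algebraMap_apply, IsScalarTower.algebraMap_apply B C C']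
      exact hICr.2 (map_nonunit (algebraMap B C) b hb)
  · intro r hr hIBr
    rw [hIB, sup_le_iff, Ideal.map_le_iff_le_comap, Ideal.map_le_iff_le_comap] at hIBr
    rw [hIC, sup_le_iff, Ideal.map_le_iff_le_comap, Ideal.map_le_iff_le_comap]
    constructor
    · intro a ha
      have := hIBr.1 ha
      change algebraMap B' C' (algebraMap A' B' a) ∈ r at this
      rwa [← IsScalarTower.algebraMap_apply] at this
    · intro c hc
      have hrad : c ∈ ((maximalIdeal B).map (algebraMap B C)).radical := by
        rw [Ideal.radical_eq_sInf, Ideal.mem_sInf]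
        rintro p ⟨hp, hpp⟩
        haveI := hpp
        have hcomap : p.comap (algebraMap B C) = maximalIdeal B := by
          have h1 : maximalIdeal B ≤ p.comap (algebraMap B C) := Ideal.map_le_iff_le_comap.1 hp
          exact ((IsLocalRing.maximalIdeal.isMaximal B).eq_of_le
            (Ideal.comap_ne_top _ hpp.ne_top) h1).symm
        have hpmax : p.IsMaximal := Ideal.isMaximal_of_isIntegral_of_isMaximal_comap p
          (hcomap ▸ IsLocalRing.maximalIdeal.isMaximal B)
        rw [IsLocalRing.eq_maximalIdeal hpmax]; exact hc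
      obtain ⟨n, hn⟩ := hrad
      have hle : (maximalIdeal B).map (algebraMap B C) ≤ r.comap (algebraMap C C') := by
        rw [Ideal.map_le_iff_le_comap]
        intro b hb
        have := hIBr.2 hb
        change algebraMap B' C' (algebraMap B B' b) ∈ r at this
        rw [← IsScalarTower.algebraMap_apply, IsScalarTower.algebraMap_apply B C C'] at this
        exact this
      have : algebraMap C C' (c ^ n) ∈ r := hle hn
      rw [map_pow] at this
      exact hr.mem_of_pow_mem n this

end Groth.Agent.S1278
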