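import Groth.Statements.S12782
-- import your own Groth.Agent.* helpers here
import Groth.Agent.Lib.Helper27.RepWithKit


set_option autoImplicit false
open CategoryTheory AlgebraicGeometry
universe u
open AlgSt

namespace Groth.Agent.S12782

/-- Consider a 2-commutative square of 1-morphisms of categories fibred in groupoids over `(Sch/S)` with
vertical arrows `f' : 𝒳' ⟶ 𝒴'`, `f : 𝒳 ⟶ 𝒴` and horizontal arrows equivalences over `(Sch/S)`. Then
`f` is representable by algebraic spaces with property `P` if and only if `f'` is. (The published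
statement assumes `P` stable under base change and fppf local on the base; this row holds for every
property `P`.) -/
theorem result {S : Scheme.{u}} {𝒳 𝒴 𝒳' 𝒴' : AlgSt.Cat S}
    (h𝒳 : FibCat.IsFibGrpd 𝒳.p) (h𝒴 : FibCat.IsFibGrpd 𝒴.p) (h𝒳' : FibCat.IsFibGrpd 𝒳'.p) (h𝒴' : FibCat.IsFibGrpd 𝒴'.p)
    (P : MorphismProperty (AlgSp.Sp S)) (f : 𝒳 ⥤ᵇ 𝒴) (f' : 𝒳' ⥤ᵇ 𝒴') (a : 𝒳' ⥤ᵇ 𝒳) (b : 𝒴' ⥤ᵇ 𝒴)
    (ha : FibCat.IsEquivOver a) (hb : FibCat.IsEquivOver b) (e : BasedFunctor.comp f' b ≅ BasedFunctor.comp a f) :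
    AlgSt.RepByAlgSpWith P f ↔ AlgSt.RepByAlgSpWith P f' := by
  constructor
  · intro hf U G'
    let D : Groth.Agent.Lib.Helper27.FpKit.MapData (BasedFunctor.comp G' b) f G' f'
        (BasedFunctor.id _) a b :=
      { e₁ := fun _ => Iso.refl _
        n₁ := fun α => (Category.comp_id _).trans (Category.id_comp _).symm
        l₁ := fun _ => Groth.Agent.Lib.Helper27.FpKit.Vert.id _
        e₂ := fun x' => ((BasedNatTrans.forgetful _ _).mapIso e).app x'
        n₂ := fun β => e.hom.toNatTrans.naturality β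
        l₂ := fun x' => Groth.Agent.Lib.Helper27.FpKit.Vert.app e.hom x' }
    exact Groth.Agent.Lib.Helper27.RepWithKit.transport' P
      (Groth.Agent.Lib.Helper27.FpKit.fpMap D)
      (Groth.Agent.Lib.Helper27.FpKit.isEquivOver_fpMap D
        (Groth.Agent.Lib.Helper27.FpKit.isEquivOver_id _) ha hb)
      (FibCat.fpFst G' f') (FibCat.fpFst (BasedFunctor.comp G' b) f)
      (fun t => ⟨Iso.refl _, Groth.Agent.Lib.Helper27.FpKit.Vert.id _⟩)
      (hf U (BasedFunctor.comp G' b))
  · intro hf' U G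
    obtain ⟨b', hb', -, ⟨ε⟩⟩ := Groth.Agent.Lib.Helper27.FpKit.exists_inverse b hb
    let D : Groth.Agent.Lib.Helper27.FpKit.MapData G f (BasedFunctor.comp G b') f'
        (BasedFunctor.id _) a b :=
      { e₁ := fun s => ((BasedNatTrans.forgetful _ _).mapIso ε).app (G.toFunctor.obj s)
        n₁ := fun α => ε.hom.toNatTrans.naturality (G.toFunctor.map α)
        l₁ := fun s => Groth.Agent.Lib.Helper27.FpKit.Vert.app ε.hom _
        e₂ := fun x' => ((BasedNatTrans.forgetful _ _).mapIso e).app x'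
        n₂ := fun β => e.hom.toNatTrans.naturality β
        l₂ := fun x' => Groth.Agent.Lib.Helper27.FpKit.Vert.app e.hom x' }
    exact Groth.Agent.Lib.Helper27.RepWithKit.transport P
      (Groth.Agent.Lib.Helper27.FpKit.fpMap D)
      (Groth.Agent.Lib.Helper27.FpKit.isEquivOver_fpMap D
        (Groth.Agent.Lib.Helper27.FpKit.isEquivOver_id _) ha hb)
      (FibCat.fpFst (BasedFunctor.comp G b') f') (FibCat.fpFst G f)
      (fun t => ⟨Iso.refl _, Groth.Agent.Lib.Helper27.FpKit.Vert.id _⟩)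
      (hf' U (BasedFunctor.comp G b'))

end Groth.Agent.S12782
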