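import Groth.Statements.S12803
import Groth.Agent.S12801

set_option autoImplicit false
open CategoryTheory
universe v₂ u₂ v u
open Stk

namespace Groth.Agent.S12803

/-- Let `p : 𝒳 ⥤ C` make `𝒳` fibred in groupoids over `C`, let `J` be a topology on `C` and `x` an
object of `𝒳`. The functor `𝒳/x ⥤ C/p(x)` induced by `p` is an equivalence of categories, and it
identifies the localisation at `x` of the topology on `𝒳` inherited from `J` with the localisation
of `J` at `p x`: a sieve on an object of `𝒳/x` covers if and only if its image covers. -/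
theorem result {C : Type u} [Category.{v} C] {𝒳 : Type u₂} [Category.{v₂} 𝒳] (p : 𝒳 ⥤ C)
    (hp : FibCat.IsFibGrpd p) (J : GrothendieckTopology C) (x : 𝒳) :
    (Over.post p : Over x ⥤ Over (p.obj x)).IsEquivalence ∧
      ∀ (a : Over x) (S : Sieve a), S ∈ (p.restrictedTopology J).over x a ↔
        S.functorPushforward (Over.post p) ∈ (J.over (p.obj x)) ((Over.post p).obj a) := by
  constructor
  · have hfaith : (Over.post p : Over x ⥤ Over (p.obj x)).Faithful := by
      refine ⟨fun {a b} f g hfg => ?_⟩
      have := hp.isStronglyCartesian b.hom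
      have h1 : p.map f.left = p.map g.left := congrArg CommaMorphism.left hfg
      apply Over.OverMorphism.ext
      have hf' : p.map a.hom = p.map f.left ≫ p.map b.hom := by
        rw [← p.map_comp, Over.w]
      have hf : p.IsHomLift (p.map f.left) f.left := inferInstance
      have hg : p.IsHomLift (p.map f.left) g.left := by rw [h1]; infer_instance
      rw [Functor.IsStronglyCartesian.map_uniq p (p.map b.hom) b.hom hf' a.hom f.left (Over.w f),
        Functor.IsStronglyCartesian.map_uniq p (p.map b.hom) b.hom hf' a.hom g.left (Over.w g)]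
    have hfull : (Over.post p : Over x ⥤ Over (p.obj x)).Full := by
      refine ⟨fun {a b} g => ?_⟩
      let φa : a.left ⟶ x := a.hom
      let φb : b.left ⟶ x := b.hom
      have := hp.isStronglyCartesian φb
      let γ : p.obj a.left ⟶ p.obj b.left := g.left
      have hg' : p.map φa = γ ≫ p.map φb := (Over.w g).symm
      obtain ⟨χ, ⟨hχ1, hχ2⟩, -⟩ := Functor.IsStronglyCartesian.universal_property p (p.map φb) φb
        γ (p.map φa) hg' φa
      refine ⟨Over.homMk χ hχ2, ?_⟩
      apply Over.OverMorphism.ext
      exact (IsHomLift.eq_of_isHomLift p γ χ).symm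
    have hess : (Over.post p : Over x ⥤ Over (p.obj x)).EssSurj := by
      refine ⟨fun b => ?_⟩
      obtain ⟨y, φ, hφ⟩ := hp.exists_lift (x := x) b.hom
      have hy : p.obj y = b.left := IsHomLift.domain_eq p b.hom φ
      refine ⟨Over.mk φ, ⟨Over.isoMk (eqToIso hy) ?_⟩⟩
      have := IsHomLift.fac' p b.hom φ
      change eqToHom hy ≫ b.hom = p.map φ
      rw [this]; simp
    exact { }
  · intro a S
    rw [GrothendieckTopology.mem_over_iff, GrothendieckTopology.mem_over_iff,
      Sieve.overEquiv_functorPushforward_post]
    exact Groth.Agent.S12801.result p hp J _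

end Groth.Agent.S12803
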