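import Groth.Statements.S12806
-- import your own Groth.Agent.* helpers here
import Groth.Agent.Lib.Helper27.FpKit
import Groth.Agent.Lib.Helper27.ReprDiag


set_option autoImplicit false
open CategoryTheory
universe v u
open FibCat

namespace Groth.Agent.S12806

/-- Let `𝒮` be fibred in groupoids over `C`, `U` an object of `C` and `x, y : C/U ⟶ 𝒮` two functors over
`C` (objects over `U` in 2-Yoneda form), with `e` the 2-isomorphism identifying their composites
with the structure functor. Then the 2-fibre product over `C` of `(x, y) : C/U ⟶ 𝒮 ×_C 𝒮` with the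
diagonal `𝒮 ⟶ 𝒮 ×_C 𝒮` is fibred in setoids over `C/U` through its first projection. (The published
statement is for a fibred category with `x`, `y` the functors given by chosen pullbacks; this row is
the case of a category fibred in groupoids, where every functor over `C` out of `C/U` is of that
kind.) -/
theorem result {C : Type u} [Category.{v} C] {𝒮 : BasedCategory.{v, max u v} C} (h𝒮 : FibCat.IsFibGrpd 𝒮.p)
    (U : C) (x y : FibCat.overCat U ⥤ᵇ 𝒮)
    (e : BasedFunctor.comp x (FibCat.toSelf 𝒮) ≅ BasedFunctor.comp y (FibCat.toSelf 𝒮)) :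
    FibCat.IsFibSetoid (FibCat.fpFst (FibCat.fpLift x y e) (FibCat.diag (FibCat.toSelf 𝒮))).toFunctor := by
  refine ⟨Groth.Agent.Lib.Helper16.FpFibGrpd.isFibGrpd_fpFst h𝒮
    (Groth.Agent.Lib.Helper27.FpFib.isFibGrpd_fp _ _ h𝒮 h𝒮
      Groth.Agent.Lib.Helper27.ReprDiag.isFibGrpd_selfOver) _ _, fun s => ?_⟩
  rw [Groth.Agent.Lib.Helper27.StackFp.thin_iff]
  intro t t' Φ Ψ hΦ hΨ
  have h1 : Φ.hom.fst = Ψ.hom.fst := by
    have a1 := IsHomLift.fac' (FibCat.fpFst (FibCat.fpLift x y e)
      (FibCat.diag (FibCat.toSelf 𝒮))).toFunctor (𝟙 s) Φ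
    have a2 := IsHomLift.fac' (FibCat.fpFst (FibCat.fpLift x y e)
      (FibCat.diag (FibCat.toSelf 𝒮))).toFunctor (𝟙 s) Ψ
    exact a1.trans a2.symm
  have w1 := Groth.Agent.Lib.Helper27.FpKit.hom_w Φ
  have w2 := Groth.Agent.Lib.Helper27.FpKit.hom_w Ψ
  rw [h1] at w1
  have h2 : (FibCat.diag (FibCat.toSelf 𝒮)).toFunctor.map Φ.hom.snd =
      (FibCat.diag (FibCat.toSelf 𝒮)).toFunctor.map Ψ.hom.snd :=
    (cancel_epi t.obj.iso.hom).1 (w1.symm.trans w2)
  have h3 : Φ.hom.snd = Ψ.hom.snd := congrArg (fun m => m.hom.fst) h2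
  exact Groth.Agent.Lib.Helper27.StackFp.hom_ext' h1 h3

end Groth.Agent.S12806
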