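import Groth.Statements.S12826
-- import your own Groth.Agent.* helpers here
import Groth.Agent.Lib.Helper27.StPointsUniv3


set_option autoImplicit false
universe u
open CategoryTheory AlgebraicGeometry
open AlgSt

namespace Groth.Agent.S12826

/-- For a morphism `f : 𝒳 ⟶ 𝒴` of algebraic stacks over `S` that is representable by algebraic spaces,
every base change of `f` to a scheme is universally open as a morphism of algebraic spaces exactly
when, for each morphism of algebraic stacks `𝒵 ⟶ 𝒴`, the induced map on points `|𝒵 ×_𝒴 𝒳| → |𝒵|` is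
open. -/
theorem result {S : Scheme.{u}} {𝒳 𝒴 : AlgSt.Cat S}
    (h𝒳 : AlgSt.IsAlgStack Scheme.fppfPrecoverage 𝒳) (h𝒴 : AlgSt.IsAlgStack Scheme.fppfPrecoverage 𝒴) (f : 𝒳 ⥤ᵇ 𝒴) (hf : AlgSt.RepByAlgSp1 f) :
    AlgSt.RepByAlgSpWith AlgSp.IsUnivOpenMor f ↔ AlgSt.IsUnivOpen Scheme.fppfPrecoverage f := by
  exact ⟨fun h 𝒵 h𝒵 g => Groth.Agent.Lib.Helper27.StPoints.isOpenMap_fpFst_of_univ h𝒳 h𝒴 h𝒵 f g h,
    fun h => Groth.Agent.Lib.Helper27.StPoints.univOpen_of_points h𝒳 h𝒴 f hf h⟩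

end Groth.Agent.S12826
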