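import Groth.Statements.S12831
import Groth.Agent.Lib.Helper27.StPointsUniv3
import Groth.Agent.Lib.Helper27.FpFib
import Groth.Agent.Lib.Helper27.DiagCancel
import Groth.Agent.Lib.Helper27.DiagRepWith
-- import your own Groth.Agent.* helpers here

set_option autoImplicit false
set_option backward.isDefEq.respectTransparency false
set_option backward.isDefEq.respectTransparency.types false
universe u
open CategoryTheory AlgebraicGeometry
open AlgSt

namespace Groth.Agent.S12831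

open Groth.Agent.Lib.Helper27 FibCat

theorem map_fst_diag {S : Scheme.{u}} {𝒜 ℬ : AlgSt.Cat S} (k : 𝒜 ⥤ᵇ ℬ) (u : AlgSt.Points 𝒜) :
    AlgSt.Points.map (fpFst k k) (AlgSt.Points.map (diag k) u) = u := by
  rw [← PointsKit.map_comp]
  exact (PointsKit.map_congr _ (BasedFunctor.id 𝒜) (fun a => ⟨𝟙 _⟩) u).trans (PointsKit.map_id u)

theorem map_snd_diag {S : Scheme.{u}} {𝒜 ℬ : AlgSt.Cat S} (k : 𝒜 ⥤ᵇ ℬ) (u : AlgSt.Points 𝒜) :
    AlgSt.Points.map (fpSnd k k) (AlgSt.Points.map (diag k) u) = u := by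
  rw [← PointsKit.map_comp]
  exact (PointsKit.map_congr _ (BasedFunctor.id 𝒜) (fun a => ⟨𝟙 _⟩) u).trans (PointsKit.map_id u)

/-- (1) ⇔ (2): a morphism `f : 𝒳 ⟶ 𝒴` of algebraic stacks over `S` is universally injective (every base
change to an algebraic stack is injective on points) if and only if its diagonal `𝒳 ⟶ 𝒳 ×_𝒴 𝒳` is
surjective on points. -/
theorem result {S : Scheme.{u}} {𝒳 𝒴 : AlgSt.Cat S}
    (h𝒳 : AlgSt.IsAlgStack Scheme.fppfPrecoverage 𝒳) (h𝒴 : AlgSt.IsAlgStack Scheme.fppfPrecoverage 𝒴) (f : 𝒳 ⥤ᵇ 𝒴) :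
    AlgSt.IsUnivInjective Scheme.fppfPrecoverage f ↔ AlgSt.IsSurjective (FibCat.diag f) := by
  constructor
  · intro hf t
    have hinj := hf 𝒳 h𝒳 f
    refine ⟨AlgSt.Points.map (fpFst f f) t, ?_⟩
    apply hinj
    exact map_fst_diag f _
  · intro hΔ 𝒵 h𝒵 g w₁ w₂ hw
    have hX := h𝒳.isStack.1
    have hY := h𝒴.isStack.1
    have hZ := h𝒵.isStack.1
    have hXX : FibCat.IsFibGrpd (fp f f).p := FpFib.isFibGrpd_fp f f hX hX hY
    have h1 : AlgSt.RepByAlgSp1 (diag f) :=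
      DiagCancel.repByAlgSp1_diag hX hY h𝒳.diag h𝒴.diag f
    have h2 : AlgSt.RepByAlgSpWith AlgSp.IsSurjectiveMor (diag f) :=
      StPoints.rep_of_isSurjective hX hXX (diag f) h1 hΔ
    have h3 : AlgSt.RepByAlgSpWith AlgSp.IsSurjectiveMor (diag (fpFst g f)) :=
      DiagRepWith.repByAlgSpWith_diag_fpFst _ f g h2
    have hP : FibCat.IsFibGrpd (fp g f).p := FpFib.isFibGrpd_fp g f hZ hX hY
    have hPP : FibCat.IsFibGrpd (fp (fpFst g f) (fpFst g f)).p :=
      FpFib.isFibGrpd_fp _ _ hP hP hZ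
    have h4 : AlgSt.IsSurjective (diag (fpFst g f)) :=
      StPoints.isSurjective_of_rep hP hPP _ h3
    obtain ⟨v, hv₁, hv₂⟩ := StPoints.exists_points_fp hP hZ hP (fpFst g f) (fpFst g f) w₁ w₂ hw
    obtain ⟨u, rfl⟩ := h4 v
    rw [← hv₁, ← hv₂, map_fst_diag, map_snd_diag]

end Groth.Agent.S12831
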