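import Groth.Statements.S12837
import Groth.Agent.Lib.Helper9.Tors1
import Groth.Agent.Lib.Helper9.FpqcLoc2

set_option autoImplicit false
universe u
open CategoryTheory AlgebraicGeometry
open NonAbH1

namespace Groth.Agent.S12837

/-- Let `G` be a group scheme over `S` which is flat and locally of finite presentation over `S`, acting
on an `S`-scheme `X`. If `X` is a principal homogeneous space under `G` — a pseudo-torsor which
acquires sections on the members of some fpqc covering family of `S` — then `X` is a `G`-torsor for
the fppf topology: it acquires sections on the members of some fppf covering family of `S`. (The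
published statement is the equivalence of the stack of fppf torsors with the stack of principal
homogeneous spaces for a group algebraic space `G` flat and locally of finite presentation over an
algebraic space `B`, torsors being algebraic spaces; this row is its content for `B = S`, `G` a
scheme and a torsor that is a scheme, the other inclusion being the comparison of the two
topologies.) -/
theorem result {S : Scheme.{u}}
    (G X : Over S) [GrpObj G] [Flat G.hom] [LocallyOfFinitePresentation G.hom] (a : AlgGrp.Action G X)
    (h : NonAbH1.IsTorsorFor Scheme.fpqcPrecoverage a) :
    NonAbH1.IsTorsorFor Scheme.fppfPrecoverage a := by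
  have hfl := Groth.Agent.Lib.Helper9.FpqcLoc.descendsAlong_flat_fpqc.{u}
  have hsurj : Surjective G.hom := Groth.Agent.Lib.Helper9.Tors.surjective_hom G
  have h1 : Surjective X.hom :=
    Groth.Agent.Lib.Helper9.Tors.prop_hom_of_isTorsorFor_fpqc (P := @Surjective) a h hsurj
  have h2 : Flat X.hom :=
    Groth.Agent.Lib.Helper9.Tors.prop_hom_of_isTorsorFor_fpqc (P := @Flat) a h inferInstance
  have h3 : LocallyOfFinitePresentation X.hom :=
    Groth.Agent.Lib.Helper9.Tors.prop_hom_of_isTorsorFor_fpqc (P := @LocallyOfFinitePresentation) a h
      inferInstance
  refine ⟨h.1, Presieve.singleton X.hom, Scheme.Hom.singleton_mem_fppfPrecoverage X.hom, ?_⟩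
  rintro S' f ⟨⟩
  exact ⟨𝟙 _, Category.id_comp _⟩

end Groth.Agent.S12837
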