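import Groth.Statements.S12838
-- import your own Groth.Agent.* helpers here

set_option autoImplicit false
universe u
open CategoryTheory AlgebraicGeometry
open AlgSt

namespace Groth.Agent.S12838

open MonoidalCategory CartesianMonoidalCategory MonObj GrpObj

section
variable {S : Scheme.{u}} {G : Over S} [GrpObj G]

lemma act_one {X : Over S} (a : AlgGrp.Action G X) {T : Over S} (x : T ⟶ X) :
    lift (1 : T ⟶ G) x ≫ a.act = x := by
  have h := congrArg (fun q => lift (toUnit T) x ≫ q) a.one_act
  simp only [lift_whiskerRight_assoc, lift_leftUnitor_hom] at h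
  rw [Hom.one_def]; exact h

lemma act_mul {X : Over S} (a : AlgGrp.Action G X) {T : Over S} (g h : T ⟶ G) (x : T ⟶ X) :
    lift (g * h) x ≫ a.act = lift g (lift h x ≫ a.act) ≫ a.act := by
  have e := congrArg (fun q => lift (lift g h) x ≫ q) a.mul_act
  simp only [lift_whiskerRight_assoc, lift_lift_associator_hom_assoc, lift_whiskerLeft_assoc] at e
  rw [Hom.mul_def]; exact e

lemma lift_leftMul {T W : Over S} (γ : W ⟶ G) (p : W ⟶ G ⊗ T) :
    lift γ p ≫ (AlgSt.leftMul G T).act = lift (γ * (p ≫ fst G T)) (p ≫ snd G T) := by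
  simp only [AlgSt.leftMul, comp_lift, comp_mul, lift_fst, lift_snd_assoc]

end


open MonoidalCategory CartesianMonoidalCategory MonObj GrpObj in
/-- Let `G` be a group scheme over `S` acting on an `S`-scheme `X`, `f : T ⟶ T'` a morphism of
`S`-schemes, `x` a `T`-point and `x'` a `T'`-point of `X`. In the quotient category `[X/G]` (scheme
torsors for the fppf topology with an equivariant morphism to `X`) the canonical functor `X ⟶ [X/G]`
sends `x` to the trivial torsor `G ×_S T ⟶ T`, with `G` acting by left multiplication on the first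
factor and the equivariant morphism `(h, t) ↦ h · x(t)`, and likewise for `x'`. The morphisms from
the image of `x` to the image of `x'` lying over `f` are exactly the maps `(h, t) ↦ (h · g(t),
f(t))` for those `T`-points `g` of `G` with `g · (x' ∘ f) = x`: every morphism over `f` is of this
form, and every such `g` defines one. -/
theorem result (S : Scheme.{u}) (G : Over S) [GrpObj G] (X : Over S)
    (aX : AlgGrp.Action G X) (T T' : Over S) (f : T ⟶ T') (x : T ⟶ X) (x' : T' ⟶ X) :
    (∀ h : (AlgSt.quotMap Scheme.fppfPrecoverage G aX).obj ((AlgSt.ofOverCat X).obj (Over.mk x)) ⟶ (AlgSt.quotMap Scheme.fppfPrecoverage G aX).obj ((AlgSt.ofOverCat X).obj (Over.mk x')),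
        h.base = f → ∃ g : T ⟶ G, lift g (f ≫ x') ≫ aX.act = x ∧
          h.top = lift (fst G T * (snd G T ≫ g)) (snd G T ≫ f)) ∧
    (∀ g : T ⟶ G, lift g (f ≫ x') ≫ aX.act = x →
        ∃ h : (AlgSt.quotMap Scheme.fppfPrecoverage G aX).obj ((AlgSt.ofOverCat X).obj (Over.mk x)) ⟶ (AlgSt.quotMap Scheme.fppfPrecoverage G aX).obj ((AlgSt.ofOverCat X).obj (Over.mk x')),
          h.base = f ∧ h.top = lift (fst G T * (snd G T ≫ g)) (snd G T ≫ f)) := by
  constructor
  · intro h hf
    obtain ⟨top, htop⟩ : ∃ top : G ⊗ T ⟶ G ⊗ T', top = h.top := ⟨h.top, rfl⟩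
    have hsnd : top ≫ snd G T' = snd G T ≫ f := by
      have := h.cart.w
      rw [hf] at this
      rw [htop]
      exact this
    have hw : top ≫ ((G ◁ x') ≫ aX.act) = (G ◁ x) ≫ aX.act := by
      rw [htop]; exact h.wφ
    have heq : (AlgSt.leftMul G T).act ≫ top = (G ◁ top) ≫ (AlgSt.leftMul G T').act := by
      rw [htop]; exact h.eqv
    rw [← htop]
    clear htop hf h
    let e : T ⟶ G ⊗ T := lift (1 : T ⟶ G) (𝟙 T)
    have he : e ≫ snd G T = 𝟙 T := lift_snd _ _
    refine ⟨e ≫ top ≫ fst G T', ?_, ?_⟩
    · have h1 : e ≫ top ≫ ((G ◁ x') ≫ aX.act) = e ≫ (G ◁ x) ≫ aX.act := by rw [hw]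
      have h2 : e ≫ (G ◁ x) ≫ aX.act = x := by
        rw [lift_whiskerLeft_assoc, Category.id_comp, act_one]
      rw [h2] at h1
      have h3 : e ≫ top = lift (e ≫ top ≫ fst G T') f := by
        apply CartesianMonoidalCategory.hom_ext
        · simp
        · rw [lift_snd, Category.assoc, hsnd, ← Category.assoc, he, Category.id_comp]
      rw [← Category.assoc, h3, lift_whiskerLeft_assoc] at h1
      exact h1
    · have h1 : lift (fst G T) (snd G T ≫ e) ≫ (AlgSt.leftMul G T).act ≫ top =
          lift (fst G T) (snd G T ≫ e) ≫ (G ◁ top) ≫ (AlgSt.leftMul G T').act := by rw [heq]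
      rw [← Category.assoc, lift_leftMul, lift_whiskerLeft_assoc, lift_leftMul] at h1
      have h4 : lift (fst G T * ((snd G T ≫ e) ≫ fst G T)) ((snd G T ≫ e) ≫ snd G T) = 𝟙 _ := by
        apply CartesianMonoidalCategory.hom_ext
        · simp [e]
        · simp [e]
      rw [h4, Category.id_comp] at h1
      refine h1.trans ?_
      have h5 : ((snd G T ≫ e) ≫ top) ≫ snd G T' = snd G T ≫ f := by
        rw [Category.assoc, Category.assoc, hsnd, ← Category.assoc e, he, Category.id_comp]
      rw [h5]
      simp only [Category.assoc]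
  · intro g hg
    let top : G ⊗ T ⟶ G ⊗ T' := lift (fst G T * (snd G T ≫ g)) (snd G T ≫ f)
    refine ⟨{ base := f, top := top, eqv := ?_, cart := ?_, wφ := ?_ }, rfl, rfl⟩
    · change (AlgSt.leftMul G T).act ≫ top = (G ◁ top) ≫ (AlgSt.leftMul G T').act
      apply CartesianMonoidalCategory.hom_ext
      · simp only [top, AlgSt.leftMul, Category.assoc, comp_lift, comp_mul, lift_fst, lift_snd,
          lift_snd_assoc, whiskerLeft_fst, whiskerLeft_snd_assoc]
        rw [_root_.mul_assoc]
      · simp only [top, AlgSt.leftMul, Category.assoc, comp_lift, lift_fst, lift_snd,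
          lift_snd_assoc, whiskerLeft_fst, whiskerLeft_snd_assoc]
    · change IsPullback top (snd G T) (snd G T') f
      let σ : G ⊗ T ≅ G ⊗ T :=
        { hom := lift (fst G T * (snd G T ≫ g)) (snd G T)
          inv := lift (fst G T * (snd G T ≫ g)⁻¹) (snd G T)
          hom_inv_id := by
            simp only [comp_lift, comp_mul, comp_inv, lift_fst, lift_snd, lift_snd_assoc,
              mul_inv_cancel_right, lift_fst_snd]
          inv_hom_id := by
            simp only [comp_lift, comp_mul, lift_fst, lift_snd, lift_snd_assoc,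
              inv_mul_cancel_right, lift_fst_snd] }
      refine (AlgSt.isPullback_whiskerLeft (G := G) f).of_iso σ.symm (Iso.refl _) (Iso.refl _)
        (Iso.refl _) ?_ ?_ (by simp) (by simp)
      · rw [Iso.refl_hom, Category.comp_id, Iso.symm_hom, Iso.eq_inv_comp]
        apply CartesianMonoidalCategory.hom_ext
        · simp only [σ, top, Category.assoc, whiskerLeft_fst, lift_fst]
        · simp only [σ, top, Category.assoc, whiskerLeft_snd, lift_snd, lift_snd_assoc]
      · rw [Iso.refl_hom, Category.comp_id, Iso.symm_hom, Iso.eq_inv_comp]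
        simp only [σ, lift_snd]
    · change top ≫ ((G ◁ x') ≫ aX.act) = (G ◁ x) ≫ aX.act
      have h1 : top ≫ (G ◁ x') = lift (fst G T * (snd G T ≫ g)) (snd G T ≫ f ≫ x') := by
        simp only [top, lift_whiskerLeft, Category.assoc]
      rw [← Category.assoc, h1, act_mul]
      have h2 : lift (snd G T ≫ g) (snd G T ≫ f ≫ x') = snd G T ≫ lift g (f ≫ x') := by
        rw [comp_lift]
      rw [h2, Category.assoc, hg]
      have h3 : G ◁ x = lift (fst G T) (snd G T ≫ x) := by
        apply CartesianMonoidalCategory.hom_ext <;> simp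
      rw [h3]

end Groth.Agent.S12838
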