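import Groth.Statements.S12839
-- import your own Groth.Agent.* helpers here

set_option autoImplicit false
universe u
open CategoryTheory AlgebraicGeometry
open AlgSt

namespace Groth.Agent.S12839

open MonoidalCategory CartesianMonoidalCategory MonObj GrpObj

section
variable {S : Scheme.{u}} {G : Over S} [GrpObj G]

lemma act_mul {X : Over S} (a : AlgGrp.Action G X) {T : Over S} (g h : T ⟶ G) (x : T ⟶ X) :
    lift (g * h) x ≫ a.act = lift g (lift h x ≫ a.act) ≫ a.act := by
  have e := congrArg (fun q => lift (lift g h) x ≫ q) a.mul_act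
  simp only [lift_whiskerRight_assoc, lift_lift_associator_hom_assoc, lift_whiskerLeft_assoc] at e
  rw [Hom.mul_def]; exact e

end


/-- Let `G` be a group scheme over `S` acting on an `S`-scheme `X` and let `A` be an object of the
quotient category `[X/G]` over the `S`-scheme `T` — a `G`-torsor `P ⟶ T` for the fppf topology which
is a scheme, with an equivariant `P ⟶ X`. Then there is an fppf covering family of `T` such that for
every member `f : T' ⟶ T` there are a `T'`-point `x` of `X` and a morphism of `[X/G]` lying over `f`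
from the image of `x` under the canonical functor `X ⟶ [X/G]` (the trivial torsor `G ×_S T'` with
`(h, t) ↦ h · x(t)`) to `A`: every object is, fppf-locally on its base, isomorphic to a trivial one. -/
theorem result (S : Scheme.{u}) (G : Over S) [GrpObj G] (X : Over S)
    (aX : AlgGrp.Action G X) (A : AlgSt.QuotObj Scheme.fppfPrecoverage G aX) :
    ∃ (R : Presieve A.base.left) (_ : R ∈ Scheme.fppfPrecoverage A.base.left),
      ∀ ⦃T' : Scheme.{u}⦄ (f : T' ⟶ A.base.left), R f →
        ∃ (x : Over.mk (f ≫ A.base.hom) ⟶ X)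
          (h : (AlgSt.quotMap Scheme.fppfPrecoverage G aX).obj ((AlgSt.ofOverCat X).obj (Over.mk x)) ⟶ A),
          h.base = Over.homMk f rfl := by
  obtain ⟨R, hR, hsec⟩ := A.loc
  refine ⟨R, hR, ?_⟩
  intro T' f hf
  obtain ⟨s, hs⟩ := hsec f hf
  have hs' : s ≫ A.π.left = f := hs
  have hw : s ≫ A.P.hom = f ≫ A.base.hom := by
    rw [← hs', Category.assoc, Over.w A.π]
  let T'o : Over S := Over.mk (f ≫ A.base.hom)
  let s' : T'o ⟶ A.P := Over.homMk s hw
  have hsπ : s' ≫ A.π = Over.homMk f rfl := by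
    ext
    exact hs'
  refine ⟨s' ≫ A.φ, { base := Over.homMk f rfl, top := (G ◁ s') ≫ A.act.act, eqv := ?_, cart := ?_, wφ := ?_ }, rfl⟩
  · change (AlgSt.leftMul G T'o).act ≫ (G ◁ s') ≫ A.act.act = (G ◁ ((G ◁ s') ≫ A.act.act)) ≫ A.act.act
    have h1 : (AlgSt.leftMul G T'o).act ≫ (G ◁ s') =
        lift (fst G (G ⊗ T'o) * (snd G (G ⊗ T'o) ≫ fst G T'o)) (snd G (G ⊗ T'o) ≫ snd G T'o ≫ s') := by
      simp only [AlgSt.leftMul, lift_whiskerLeft, Category.assoc]
    rw [← Category.assoc, h1, act_mul]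
    have h2 : G ◁ ((G ◁ s') ≫ A.act.act) =
        lift (fst G (G ⊗ T'o)) (snd G (G ⊗ T'o) ≫ (G ◁ s') ≫ A.act.act) := by
      apply CartesianMonoidalCategory.hom_ext <;> simp
    have h3 : snd G (G ⊗ T'o) ≫ (G ◁ s') =
        lift (snd G (G ⊗ T'o) ≫ fst G T'o) (snd G (G ⊗ T'o) ≫ snd G T'o ≫ s') := by
      apply CartesianMonoidalCategory.hom_ext <;> simp
    have h3' : snd G (G ⊗ T'o) ≫ (G ◁ s') ≫ A.act.act =
        lift (snd G (G ⊗ T'o) ≫ fst G T'o) (snd G (G ⊗ T'o) ≫ snd G T'o ≫ s') ≫ A.act.act := by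
      rw [← Category.assoc, h3]
    rw [h2, h3']
  · have := (AlgSt.isPullback_whiskerLeft (G := G) s').paste_horiz A.cart
    rw [hsπ] at this
    exact this
  · change ((G ◁ s') ≫ A.act.act) ≫ A.φ = (G ◁ (s' ≫ A.φ)) ≫ aX.act
    rw [Category.assoc, A.eqv, MonoidalCategory.whiskerLeft_comp, Category.assoc]

end Groth.Agent.S12839
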