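import Groth.Statements.S12843
-- import your own Groth.Agent.* helpers here
import Groth.Agent.Lib.Helper27.Descent3


set_option autoImplicit false
open CategoryTheory AlgebraicGeometry
universe u
open AlgSt

namespace Groth.Agent.S12843

/-- Let `P` be a property of morphisms of algebraic spaces over `S` which is stable under base change
and fppf local on the base, `f : 𝒳 ⟶ 𝒴` a 1-morphism of algebraic stacks over `S` that is
representable by algebraic spaces, and `z : 𝒵 ⟶ 𝒴` a 1-morphism of algebraic stacks, representable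
by algebraic spaces, that is flat, surjective and locally of finite presentation. Then `f` has `P`
if and only if the base change `𝒵 ×_𝒴 𝒳 ⟶ 𝒵` has `P`. (Stability under base change is asked for
every pullback square of fppf sheaves whose four corners are algebraic spaces.) -/
theorem result {S : Scheme.{u}} {𝒳 𝒴 𝒵 : AlgSt.Cat S}
    (h𝒳 : AlgSt.IsAlgStack Scheme.fppfPrecoverage 𝒳) (h𝒴 : AlgSt.IsAlgStack Scheme.fppfPrecoverage 𝒴) (h𝒵 : AlgSt.IsAlgStack Scheme.fppfPrecoverage 𝒵)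
    (P : MorphismProperty (AlgSp.Sp S))
    (hPb : ∀ ⦃X₁ Y₁ X₂ Y₂ : AlgSp.Sp S⦄, AlgSp.IsAlgSpace X₁ → AlgSp.IsAlgSpace Y₁ → AlgSp.IsAlgSpace X₂ →
      AlgSp.IsAlgSpace Y₂ → ∀ (a : X₁ ⟶ Y₁) (b : Y₂ ⟶ Y₁) (a' : X₂ ⟶ Y₂) (b' : X₂ ⟶ X₁),
      IsPullback b' a' a b → P a → P a')
    (hP : AlgSp.IsLocalOnBase AlgSp.IsFppfCover P)
    (f : 𝒳 ⥤ᵇ 𝒴) (hf : AlgSt.RepByAlgSp1 f) (z : 𝒵 ⥤ᵇ 𝒴)
    (hz₁ : AlgSt.RepByAlgSpWith (AlgSp.LocP @Flat) z)
    (hz₂ : AlgSt.RepByAlgSpWith (AlgSp.LocP @LocallyOfFinitePresentation) z)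
    (hz₃ : AlgSt.RepByAlgSpWith AlgSp.IsSurjectiveMor z) :
    AlgSt.RepByAlgSpWith P f ↔ AlgSt.RepByAlgSpWith P (FibCat.fpFst z f) := by
  constructor
  · intro h
    exact Groth.Agent.Lib.Helper27.RepWithGeneral.repByAlgSpWith_fpFst P f z h
  · intro h
    refine Groth.Agent.Lib.Helper27.Descent.descent_cover P hP f hf z hz₁ hz₂ hz₃ (fun G g => ?_)
    obtain ⟨X'', e₀, he₀, hP₀⟩ := Groth.Agent.Lib.Helper27.RepWithComp.from_space P hP
      (Groth.Agent.Lib.Helper27.FpFib.isFibGrpd_fp z f h𝒵.isStack.1 h𝒳.isStack.1 h𝒴.isStack.1)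
      h𝒵.isStack.1 (FibCat.fpFst z f) h G g
    refine ⟨X'', BasedFunctor.comp e₀ (Groth.Agent.Lib.Helper27.FpKit.pasteL f z g),
      Groth.Agent.Lib.Helper27.FpKit.isEquivOver_comp _ _ he₀
        (Groth.Agent.Lib.Helper27.FpKit.isEquivOver_pasteL f z g), ?_⟩
    have h0 : Groth.Agent.Lib.Helper27.PshKit.pshMapOf (BasedFunctor.comp
        (BasedFunctor.comp e₀ (Groth.Agent.Lib.Helper27.FpKit.pasteL f z g))
        (FibCat.fpFst (BasedFunctor.comp g z) f)) =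
        Groth.Agent.Lib.Helper27.PshKit.pshMapOf (BasedFunctor.comp e₀
          (FibCat.fpFst g (FibCat.fpFst z f))) := by
      apply Groth.Agent.Lib.Helper27.PshKit.pshMapOf_congr
      intro t
      exact ⟨𝟙 _, Groth.Agent.Lib.Helper27.FpKit.Vert.id _⟩
    rw [h0]
    exact hP₀

end Groth.Agent.S12843
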