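import Groth.Statements.S12846
-- import your own Groth.Agent.* helpers here
import Groth.Agent.Lib.Helper27.SmoothLoc


set_option autoImplicit false
open CategoryTheory AlgebraicGeometry
universe u
open AlgSt

namespace Groth.Agent.S12846

/-- (1) ⇔ (2): suppose `P`, a property of schemes, is local for the smooth topology (for every jointly
surjective family of smooth morphisms `V_i ⟶ U`, `U` has `P` if and only if every `V_i` has `P`) and
`𝒳` an algebraic stack over `S`. Then every scheme `U` admitting a smooth `U ⟶ 𝒳` has `P` if and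
only if some scheme `U` admitting a surjective smooth `U ⟶ 𝒳` has `P`. -/
theorem result {S : Scheme.{u}} {𝒳 : AlgSt.Cat S}
    (h𝒳 : AlgSt.IsAlgStack Scheme.fppfPrecoverage 𝒳) (P : Scheme.{u} → Prop)
    (hP : ∀ (U : Scheme.{u}) (R : Presieve U), R ∈ Scheme.precoverage @Smooth U →
      (P U ↔ ∀ ⦃V : Scheme.{u}⦄ (g : V ⟶ U), R g → P V)) :
    AlgSt.SmoothLocally P 𝒳 ↔
      ∃ (U : Over S) (x : FibCat.overCat U ⥤ᵇ 𝒳),
        AlgSt.RepByAlgSpWith (AlgSp.LocP @Smooth) x ∧ AlgSt.RepByAlgSpWith AlgSp.IsSurjectiveMor x ∧ P U.left := by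
  constructor
  · intro h
    obtain ⟨U, x, hx₁, hx₂⟩ := h𝒳.atlas
    exact ⟨U, x, hx₁, hx₂, h U x hx₁⟩
  · rintro ⟨U, x, hx₁, hx₂, hPU⟩ U' x' hx'₁
    obtain ⟨T, τ₁, τ₂, hs₁, hj₁, hs₂⟩ :=
      Groth.Agent.Lib.Helper27.SmoothLoc.exists_common_chart x hx₁ hx₂ x' hx'₁
    have hPT : P T.left := by
      let X : Bool → Scheme.{u} := fun b => cond b T.left U.left
      let fam : ∀ b, X b ⟶ U.left := fun b => match b with
        | true => τ₂.left
        | false => 𝟙 _
      have hR : Presieve.ofArrows X fam ∈ Scheme.precoverage @Smooth U.left := by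
        rw [Scheme.ofArrows_mem_precoverage_iff]
        refine ⟨fun u => ⟨false, u, rfl⟩, fun b => ?_⟩
        cases b
        · exact (inferInstance : Smooth (𝟙 U.left))
        · exact hs₂
      exact (hP U.left _ hR).1 hPU (fam true) (Presieve.ofArrows.mk true)
    have hR' : Presieve.singleton τ₁.left ∈ Scheme.precoverage @Smooth U'.left := by
      rw [Scheme.singleton_mem_precoverage_iff]
      exact ⟨hj₁, hs₁⟩
    refine (hP U'.left _ hR').2 ?_
    intro V g hg
    cases hg
    exact hPT

end Groth.Agent.S12846
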