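import Groth.Statements.S12848
import Groth.Agent.Lib.Helper27.StPoints
import Groth.Agent.Lib.Helper27.MonoFull
-- import your own Groth.Agent.* helpers here

set_option autoImplicit false
set_option backward.isDefEq.respectTransparency false
set_option backward.isDefEq.respectTransparency.types false
open CategoryTheory AlgebraicGeometry
universe u
open AlgSt

namespace Groth.Agent.S12848

open Groth.Agent.Lib.Helper27 FibCat Groth.Agent.Lib.Helper27.FpKit Groth.Agent.Lib.Helper16.FpFibGrpd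

/-- A monomorphism `f : 𝒳 ⟶ 𝒴` of algebraic stacks over `S` induces an injective map `|𝒳| → |𝒴|` on
points. -/
theorem result {S : Scheme.{u}} {𝒳 𝒴 : AlgSt.Cat S}
    (h𝒳 : AlgSt.IsAlgStack Scheme.fppfPrecoverage 𝒳) (h𝒴 : AlgSt.IsAlgStack Scheme.fppfPrecoverage 𝒴) (f : 𝒳 ⥤ᵇ 𝒴) (hf : AlgSt.IsMono f) :
    Function.Injective (AlgSt.Points.map f) := by
  have hX := h𝒳.isStack.1
  have hY := h𝒴.isStack.1
  obtain ⟨hfull, -⟩ := MonoFull.full_faithful_of_isMono hX hY f hf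
  intro x y hxy
  obtain ⟨p, rfl⟩ := AlgSt.Points.mk_surjective x
  obtain ⟨q, rfl⟩ := AlgSt.Points.mk_surjective y
  rw [AlgSt.Points.map_mk, AlgSt.Points.map_mk, StPoints.mk_eq_mk_iff hY] at hxy
  obtain ⟨r, a, b, -⟩ := hxy
  obtain ⟨da, hda⟩ : ∃ da : Over.mk r.str ⟶ Over.mk p.str,
    da = StPoints.base (p := r) (q := p.map f) a := ⟨_, rfl⟩
  obtain ⟨db, hdb⟩ : ∃ db : Over.mk r.str ⟶ Over.mk q.str,
    db = StPoints.base (p := r) (q := q.map f) b := ⟨_, rfl⟩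
  have ha : 𝒴.p.IsHomLift da a := by
    rw [hda]
    exact StPoints.base_lift (p := r) (q := p.map f) a
  have hb : 𝒴.p.IsHomLift db b := by
    rw [hdb]
    exact StPoints.base_lift (p := r) (q := q.map f) b
  obtain ⟨p', φ, hφ⟩ := FibGrpd.exists_lift' 𝒳.p hX p.lies da
  obtain ⟨q', ψ, hψ⟩ := FibGrpd.exists_lift' 𝒳.p hX q.lies db
  have h1 : 𝒴.p.IsHomLift da (f.map φ) := inferInstance
  have h2 : 𝒴.p.IsHomLift db (f.map ψ) := inferInstance
  obtain ⟨e₁, he₁, -⟩ := StPoints.exists_vert_iso hY da a (f.map φ)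
  obtain ⟨e₂, he₂, -⟩ := StPoints.exists_vert_iso hY db b (f.map ψ)
  obtain ⟨m, hm⟩ := f.toFunctor.map_surjective (e₁.inv ≫ e₂.hom)
  have hp' : 𝒳.p.obj p' = Over.mk r.str := IsHomLift.domain_eq 𝒳.p da φ
  rw [StPoints.mk_eq_mk_iff hX]
  exact ⟨⟨r.K, r.str, p', hp'⟩, φ, m ≫ ψ, trivial⟩

end Groth.Agent.S12848
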