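import Groth.Statements.S12854
-- import your own Groth.Agent.* helpers here
import Groth.Agent.Lib.Helper27.SmoothLocP


set_option autoImplicit false
open CategoryTheory AlgebraicGeometry
universe u
open AlgSt

namespace Groth.Agent.S12854

/-- Suppose `P`, a property of schemes, is local for the smooth topology (for every jointly surjective
family of smooth morphisms `V_i ⟶ U`, `U` has `P` if and only if every `V_i` has `P`) and `U` a
scheme over `S`. Then every scheme admitting a smooth morphism to (the algebraic stack of) `U` has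
`P` if and only if `U` has `P`. -/
theorem result {S : Scheme.{u}} (U : Over S) (P : Scheme.{u} → Prop)
    (hP : ∀ (U : Scheme.{u}) (R : Presieve U), R ∈ Scheme.precoverage @Smooth U →
      (P U ↔ ∀ ⦃V : Scheme.{u}⦄ (g : V ⟶ U), R g → P V)) :
    AlgSt.SmoothLocally P (AlgSt.ofSch U) ↔ P U.left := by
  have h1 := Groth.Agent.Lib.Helper27.SmoothLocP.smoothLocally_ofSp_iff hP
    ⟨(AlgSp.yon S).obj U, AlgSp.IsAlgSpace.yon_obj U⟩
  refine h1.trans ⟨?_, fun h => ⟨U, 𝟙 _, AlgSp.repWith_id @Etale U, AlgSp.repWith_id @Surjective U, h⟩⟩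
  rintro ⟨W, p, hpe, hps, hW⟩
  obtain ⟨q, rfl⟩ := (AlgSp.yon S).map_surjective p
  have hq : Etale q.left := (AlgSp.repWith_yon_map_iff @Etale q).1 hpe
  have hqs : Surjective q.left := (AlgSp.repWith_yon_map_iff @Surjective q).1 hps
  exact Groth.Agent.Lib.Helper27.SmoothLocP.of_surj hP q.left inferInstance hqs.surj hW

end Groth.Agent.S12854
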