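import Groth.Statements.S12857
-- import your own Groth.Agent.* helpers here
import Groth.Agent.Lib.Helper27.QcStack


set_option autoImplicit false
open CategoryTheory AlgebraicGeometry
universe u
open AlgSt

namespace Groth.Agent.S12857

/-- (2) ⇔ (3): an algebraic stack `𝒳` over `S` admits a surjective smooth morphism from an affine scheme
if and only if it admits one from a quasi-compact scheme. -/
theorem result {S : Scheme.{u}} {𝒳 : AlgSt.Cat S}
    (h𝒳 : AlgSt.IsAlgStack Scheme.fppfPrecoverage 𝒳) :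
    AlgSt.IsQuasiCompact 𝒳 ↔
      ∃ (U : Over S) (x : FibCat.overCat U ⥤ᵇ 𝒳), CompactSpace ↥U.left ∧
        AlgSt.RepByAlgSpWith (AlgSp.LocP @Smooth) x ∧ AlgSt.RepByAlgSpWith AlgSp.IsSurjectiveMor x := by
  constructor
  · rintro ⟨U, x, hU, hx₁, hx₂⟩
    have hc : CompactSpace ↥U.left := by
      have : IsAffine U.left := hU
      infer_instance
    exact ⟨U, x, hc, hx₁, hx₂⟩
  · rintro ⟨U, x, hU, hx₁, hx₂⟩
    exact Groth.Agent.Lib.Helper27.QcStack.isQuasiCompact_of_space
      ⟨(AlgSp.yon S).obj U, AlgSp.IsAlgSpace.yon_obj U⟩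
      (Groth.Agent.Lib.Helper3.isQuasiCompactSp_yon hU) (BasedFunctor.comp (AlgSt.toOverCat U) x)
      (Groth.Agent.Lib.Helper27.LocQOver.repByAlgSpWith_equiv_comp _ (AlgSt.toOverCat U)
        (Groth.Agent.Lib.Helper27.PshRep.isEquivOver_toOverCat U) x hx₁)
      (Groth.Agent.Lib.Helper27.LocQOver.repByAlgSpWith_equiv_comp _ (AlgSt.toOverCat U)
        (Groth.Agent.Lib.Helper27.PshRep.isEquivOver_toOverCat U) x hx₂)

end Groth.Agent.S12857
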