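import Groth.Statements.S12889
import Groth.Agent.Lib.Helper6.ExtSuppSS

set_option autoImplicit false
universe u
open CategoryTheory CategoryTheory.Limits
open ModSite

namespace Groth.Agent.S12889

/-- On a small ringed site (C, J, O) with O commutative, let U be an object with Z the closed complement
of the open it generates, and M an O-module. There is an E₂ spectral sequence of abelian groups with
E₂^{p,q} ≅ H^p(C, ℋ^q_Z(M)) for p, q ≥ 0 (and 0 otherwise), bounded, abutting with finite
filtrations to H^n_Z(M) (n ≥ 0; 0 for n < 0); here ℋ^q_Z are the right derived functors of sections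
with support on O-modules, H^p(C, -) is the cohomology of the site with values in the underlying
abelian sheaf, and H^n_Z(M) are the Ext groups out of ℤ/ℤ_U into the underlying abelian sheaf.
(Existence only: the E₂ identifications and the abutment are some isomorphisms. The direct image
along the localisation at U and injective resolutions of O-modules are the stated instance
hypotheses, both true.) -/
theorem result {C : Type u} [SmallCategory C] {J : GrothendieckTopology C}
    (O : Sheaf J CommRingCat.{u}) (U : C) (M : ModSite.Mod O)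
    [ModSite.HasPushOver O U] [HasInjectiveResolutions (ModSite.Mod O)] :
    ∃ (E : E₂CohomologicalSpectralSequence AddCommGrpCat.{u})
      (a : SpSeq.Abutment E (fun n : ℤ =>
        if 0 ≤ n then AddCommGrpCat.of (ModSite.HZ U M n.toNat) else AddCommGrpCat.of PUnit.{u + 1})),
      (∀ n : ℤ, a.IsFinite n) ∧ SpSeq.IsBounded E ∧
      ∀ p q : ℤ, Nonempty ((E.page 2 le_rfl).X (p, q) ≅
        (if 0 ≤ p ∧ 0 ≤ q then AddCommGrpCat.of (ModSite.HC O ((ModSite.HZsh O U q.toNat).obj M) p.toNat)
          else AddCommGrpCat.of PUnit.{u + 1})) := by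
  haveI : EnoughInjectives (ModSite.Mod O) :=
    Groth.Agent.Lib.Helper8.SheafModGroth.enoughInjectives J (ModSite.ringSh O)
  haveI : HasExt.{u} (ModSite.Mod O) := hasExt_of_enoughInjectives _
  refine Groth.Agent.Lib.Helper6.GrothSS.exists_spectralSequence' (ModSite.sectOn O U)
    (Groth.Agent.Lib.Helper6.ExtRDNat.G (ModSite.unit O)) ?_ M _ ?_ ?_ _ ?_ ?_
  · intro Q hQ q hq
    obtain ⟨k, rfl⟩ : ∃ k, q = k + 1 := ⟨q - 1, by omega⟩
    haveI : Injective ((ModSite.sectOn O U).obj Q) :=
      Groth.Agent.Lib.Helper6.QuotExact.injective_sectOn Q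
    exact Functor.isZero_rightDerived_obj_injective_succ _ k _
  · intro n
    simp only [Int.natCast_nonneg, if_true, Int.toNat_natCast]
    obtain ⟨e'⟩ := Groth.Agent.Lib.Helper6.ExtSuppSS.nonempty_rightDerived_iso_HZ O U M n
    exact ⟨(Groth.Agent.Lib.Helper6.GrothSS.rightDerivedIsoOfIso
      (Groth.Agent.Lib.Helper6.ExtSuppSS.homSectIso O U (ModSite.unit O)) n).app M ≪≫ e'⟩
  · intro n hn
    rw [if_neg (by omega)]
    exact AddCommGrpCat.isZero_of_subsingleton _
  · intro p q
    simp only [Int.natCast_nonneg, and_self, if_true, Int.toNat_natCast]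
    obtain ⟨e⟩ := Groth.Agent.Lib.Helper6.ExtRDNat.nonempty_rightDerived_coyoneda_iso
      (ModSite.unit O) p
    obtain ⟨e'⟩ := Groth.Agent.Lib.Helper6.ModAbCoh.nonempty_ext_addEquiv (ModSite.ringSh O)
      ((ModSite.HZsh O U q).obj M) p
    exact ⟨e.app _ ≪≫
      AddEquiv.toAddCommGrpIso (X := AddCommGrpCat.of _) (Y := AddCommGrpCat.of _) e'⟩
  · intro p q h
    rw [if_neg h]
    exact AddCommGrpCat.isZero_of_subsingleton _

end Groth.Agent.S12889
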