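import Groth.Statements.S12890
import Groth.Agent.Lib.Helper6.SubtermUnit
import Groth.Agent.Lib.Helper6.RDSes
import Groth.Agent.Lib.Helper6.RDCompExact
import Groth.Agent.Lib.Helper6.GrothSS
import Groth.Agent.Lib.Helper1.RestrExact

set_option autoImplicit false
universe u
open CategoryTheory CategoryTheory.Limits
open ModSite

namespace Groth.Agent.S12890

/-- On a small ringed site (C, J, O) with O commutative, let U be a subterminal object (every object has
at most one morphism to U), Z its closed complement and j_{U*} the direct image of modules along the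
localisation C/U → C. Then ℋ^1_Z is isomorphic to the cokernel of the unit M → j_{U*}(M|_U) (so that
0 → ℋ^0_Z(M) → M → j_{U*}(M|_U) → ℋ^1_Z(M) → 0 is exact), and for every q ≥ 1 the functor ℋ^{q+1}_Z
is isomorphic to M ↦ R^q j_{U*}(M|_U). (Existence of isomorphisms of functors only. The direct image
j_{U*} with its additivity and injective resolutions of modules on C and on C/U are the stated
instance hypotheses, all true.) -/
theorem result {C : Type u} [SmallCategory C] {J : GrothendieckTopology C}
    (O : Sheaf J CommRingCat.{u}) (U : C)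
    (hU : ∀ V : C, Subsingleton (V ⟶ U)) [ModSite.HasPushOver O U] [(ModSite.pushOver O U).Additive]
    [HasInjectiveResolutions (ModSite.Mod O)] [HasInjectiveResolutions (ModSite.Mod (O.over U))] :
    Nonempty (ModSite.HZsh O U 1 ≅ cokernel (ModSite.restrPushOverAdj O U).unit) ∧
      ∀ q : ℕ, 1 ≤ q →
        Nonempty (ModSite.HZsh O U (q + 1) ≅ ModSite.restr O U ⋙ (ModSite.pushOver O U).rightDerived q) := by
  classical
  have hw : ModSite.sectOnι O U ≫ (ModSite.restrPushOverAdj O U).unit = 0 := by
    ext X : 2
    exact kernel.condition _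
  have hses : ∀ I : ModSite.Mod O, Injective I →
      (Groth.Agent.Lib.Helper6.RDSes.sc (ModSite.sectOnι O U)
        (ModSite.restrPushOverAdj O U).unit hw I).ShortExact := by
    intro I hI
    haveI := hI
    haveI : Epi ((ModSite.restrPushOverAdj O U).unit.app I) :=
      Groth.Agent.Lib.Helper6.SubtermUnit.epi_unit_app_of_injective O U hU I
    haveI : Mono ((ModSite.sectOnι O U).app I) :=
      inferInstanceAs (Mono (kernel.ι ((ModSite.restrPushOverAdj O U).unit.app I)))
    refine ShortComplex.ShortExact.mk' ?_ ‹_› ‹_›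
    exact ShortComplex.exact_of_f_is_kernel _ (kernelIsKernel _)
  have hB : ∀ (X : ModSite.Mod O) (n : ℕ),
      IsZero (((𝟭 (ModSite.Mod O)).rightDerived (n + 1)).obj X) :=
    fun X n => Groth.Agent.Lib.Helper6.RDSes.isZero_rightDerived_id X n
  haveI : PreservesFiniteLimits (ModSite.pushOver O U) :=
    (ModSite.restrPushOverAdj O U).rightAdjoint_preservesLimits.{0, 0}.preservesFiniteLimits
  haveI : PreservesFiniteLimits (ModSite.restr O U ⋙ ModSite.pushOver O U) := inferInstance
  refine ⟨Groth.Agent.Lib.Helper6.RDSes.nonempty_iso_cokernel (ModSite.sectOnι O U)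
    (ModSite.restrPushOverAdj O U).unit hw hses hB, ?_⟩
  intro q hq
  obtain ⟨e1⟩ := Groth.Agent.Lib.Helper6.RDSes.nonempty_iso (ModSite.sectOnι O U)
    (ModSite.restrPushOverAdj O U).unit hw hses hB q hq
  haveI : EnoughInjectives (ModSite.Mod O) :=
    Groth.Agent.Lib.Helper6.GrothSS.enoughInjectives_of_hasInjectiveResolutions
  haveI : EnoughInjectives (ModSite.Mod (O.over U)) :=
    Groth.Agent.Lib.Helper6.GrothSS.enoughInjectives_of_hasInjectiveResolutions
  obtain ⟨e2⟩ := Groth.Agent.Lib.Helper6.RDCompExact.nonempty_rightDerived_comp_iso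
    (ModSite.restr O U) (ModSite.pushOver O U) q
  exact ⟨e1.symm ≪≫ e2⟩

end Groth.Agent.S12890
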