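import Groth.Statements.S12898
import Groth.Agent.Lib.Helper16.AbsDer
import Groth.Agent.Lib.Helper16.KPR4
import Groth.Agent.Lib.Helper16.LDer2
import Groth.Agent.Lib.Helper6.DerivedAdj
-- import your own Groth.Agent.* helpers here

set_option autoImplicit false
universe u
open CategoryTheory CategoryTheory.Limits
attribute [local instance] HasDerivedCategory.standard
open DRing

namespace Groth.Agent.S12898

open DerivedCategory CategoryTheory.Functor


/-- Let φ : R → A be a map of commutative rings. The derived base change functor D(R) → D(A), E ↦ E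
⊗^L_R A (the total left derived functor of extension of scalars, whose existence is the stated
instance hypothesis, true), is left adjoint to the restriction functor D(A) → D(R). (Existence of an
adjunction only.) -/
theorem result {R A : Type u} [CommRing R] [CommRing A] (φ : R →+* A)
    [DRing.HasLBaseChange φ] :
    Nonempty (DRing.LBaseChange φ ⊣ DRing.restrictD φ) := by
  let W₁ := HomotopyCategory.quasiIso (ModuleCat.{u} R) (ComplexShape.up ℤ)
  let W₂ := HomotopyCategory.quasiIso (ModuleCat.{u} A) (ComplexShape.up ℤ)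
  let G := (ModuleCat.extendScalars.{u, u, u} φ).mapHomotopyCategory (ComplexShape.up ℤ)
  let F := (ModuleCat.restrictScalars.{u} φ).mapHomotopyCategory (ComplexShape.up ℤ)
  let adj : G ⊣ F := Groth.Agent.Lib.Helper6.DerivedAdj.adjH
    (ModuleCat.extendRestrictScalarsAdj.{u, u, u} φ) (ComplexShape.up ℤ)
  let α : Qh ⋙ DRing.LBaseChange φ ⟶ G ⋙ Qh :=
    (DRing.baseChangeKh φ).totalLeftDerivedCounit Qh W₁
  let eβ : Qh ⋙ DRing.restrictD φ ≅ F ⋙ Qh :=
    (ModuleCat.restrictScalars.{u} φ).mapDerivedCategoryFactorsh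
  let β : F ⋙ Qh ⟶ Qh ⋙ DRing.restrictD φ := eβ.inv
  have hinv : W₂.IsInvertedBy (F ⋙ Qh) :=
    (MorphismProperty.IsInvertedBy.iff_of_iso W₂ eβ).1
      (MorphismProperty.IsInvertedBy.of_comp W₂ Qh (Localization.inverts Qh W₂) _)
  haveI : (DRing.restrictD φ).IsRightDerivedFunctor β W₂ :=
    (isRightDerivedFunctor_iff_of_inverts _ β hinv).2 inferInstance
  haveI : (DRing.LBaseChange φ ⋙ DRing.restrictD φ).IsLeftDerivedFunctor
      ((Functor.associator _ _ _).inv ≫ whiskerRight α (DRing.restrictD φ)) W₁ := by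
    refine Groth.Agent.Lib.Helper16.AbsDer.isLeftDerivedFunctor_of_isIso _ _ _ ?_ ?_
    · intro Y
      obtain ⟨P, hP, -, ⟨e⟩⟩ := Groth.Agent.Lib.Helper16.KPR.exists_kprojective_module Y
      exact ⟨P, hP, ⟨e⟩⟩
    · intro P _
      haveI := Groth.Agent.Lib.Helper16.LDer.isIso_counit_of_isKProjective φ P
      simp only [NatTrans.comp_app, Functor.associator_inv_app, whiskerRight_app, Category.id_comp]
      infer_instance
  haveI : (DRing.restrictD φ ⋙ DRing.LBaseChange φ).IsRightDerivedFunctor
      (whiskerRight β (DRing.LBaseChange φ) ≫ (Functor.associator _ _ _).hom) W₂ := by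
    refine (isRightDerivedFunctor_iff_of_inverts _ _ ?_).2 inferInstance
    exact MorphismProperty.IsInvertedBy.of_comp W₂ (F ⋙ Qh) hinv _
  exact ⟨adj.derived W₁ W₂ α β⟩

end Groth.Agent.S12898
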