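import Groth.Statements.S12909
import Mathlib
import Groth.Agent.Lib.Helper21.FFR

set_option autoImplicit false
universe u
open CAlgX

namespace Groth.Agent.S12909

section helpers
open Helper21.FFR IsLocalRing

variable {R : Type u} [CommRing R]

/-- the image of `z` in the localization at `P = ann z` is nonzero and killed by the maximal ideal -/
lemma local_data (P : Ideal R) [P.IsPrime] (z : R) (hP : ∀ a, a ∈ P ↔ a * z = 0) :
    algebraMap R (Localization.AtPrime P) z ≠ 0 ∧
      ∀ t ∈ maximalIdeal (Localization.AtPrime P),
        t * algebraMap R (Localization.AtPrime P) z = 0 := by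
  constructor
  · intro h
    obtain ⟨m, hm⟩ := (IsLocalization.map_eq_zero_iff P.primeCompl (Localization.AtPrime P) z).mp h
    exact m.2 ((hP m).mpr hm)
  · intro t ht
    rw [← Localization.AtPrime.map_eq_maximalIdeal, Ideal.map] at ht
    induction ht using Submodule.span_induction with
    | mem x hx =>
      obtain ⟨a, ha, rfl⟩ := hx
      rw [← map_mul, (hP a).mp ha, map_zero]
    | zero => rw [zero_mul]
    | add a b _ _ h1 h2 => rw [add_mul, h1, h2, add_zero]
    | smul c a _ h1 => rw [smul_eq_mul, mul_assoc, h1, mul_zero]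

lemma local_free (P : Ideal R) [P.IsPrime] (z : R) (hP : ∀ a, a ∈ P ↔ a * z = 0)
    (I : Ideal R) (e : ℕ) (χ : ℤ) (h : HasFFR R e χ I) :
    Module.Free (Localization.AtPrime P) (LocalizedModule P.primeCompl I) ∧
      Module.Finite (Localization.AtPrime P) (LocalizedModule P.primeCompl I) ∧
      (Module.finrank (Localization.AtPrime P) (LocalizedModule P.primeCompl I) : ℤ) = χ := by
  obtain ⟨hy0, hy⟩ := local_data P z hP
  have h1 := hasFFR_localize P.primeCompl e χ I (LocalizedModule P.primeCompl I)
    (LocalizedModule.mkLinearMap P.primeCompl I) h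
  exact free_of_hasFFR _ hy0 hy e χ _ h1

end helpers

open Helper21.FFR in

/-- Let R be a Noetherian ring and I a nonzero ideal with a finite free resolution 0 → R^{n_e} → … →
R^{n_1} → R^{n_0} → I → 0 with e ≥ 1: the map R^{n_{i+1}} → R^{n_i} is the matrix A_i, the map π :
R^{n_0} → R is linear with image I, the kernel of π is the image of A_0, the kernel of A_i is the
image of A_{i+1} for 0 ≤ i ≤ e - 2, and A_{e-1} is injective. Then I contains a non-zero-divisor of
R. (The hypothesis that I is nonzero is implicit in the published statement: the zero ideal of a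
domain has a finite free resolution and contains no non-zero-divisor.) -/
theorem result {R : Type u} [CommRing R] [IsNoetherianRing R]
    (e : ℕ) (he : 1 ≤ e) (n : ℕ → ℕ) (A : (i : ℕ) → Matrix (Fin (n i)) (Fin (n (i + 1))) R)
    (π : (Fin (n 0) → R) →ₗ[R] R) (hI : LinearMap.range π ≠ ⊥)
    (h0 : LinearMap.ker π = LinearMap.range (A 0).mulVecLin)
    (hA : ∀ i, i + 2 ≤ e → LinearMap.ker (A i).mulVecLin = LinearMap.range (A (i + 1)).mulVecLin)
    (hlast : LinearMap.ker (A (e - 1)).mulVecLin = ⊥) :
    ∃ x : R, x ∈ LinearMap.range π ∧ x ∈ nonZeroDivisors R := by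
  classical
  by_contra hcon
  push Not at hcon
  have hnt : Nontrivial R := by
    by_contra h
    rw [not_nontrivial_iff_subsingleton] at h
    exact hI (Subsingleton.elim _ _)
  obtain ⟨χ, hFFR⟩ := hasFFR_range_of_matrices e he n A π h0 hA hlast
  set I : Ideal R := LinearMap.range π with hIdef
  have hdisj : Disjoint (I : Set R) (nonZeroDivisors R) := by
    rw [Set.disjoint_left]; intro x hx hx'; exact hcon x hx hx'
  obtain ⟨P, hPass, hIP⟩ : ∃ P ∈ associatedPrimes R R, I ≤ P :=
    (I.subset_union_prime_finite (associatedPrimes.finite ..) (f := id) 0 0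
      fun _ h _ _ ↦ h.1).1 <|
    biUnion_associatedPrimes_eq_compl_nonZeroDivisors R ▸ hdisj.subset_compl_right
  rw [AssociatedPrimes.mem_iff, isAssociatedPrime_iff] at hPass
  obtain ⟨hprime, z, hPz⟩ := hPass
  have hP : ∀ a, a ∈ P ↔ a * z = 0 := by
    intro a; rw [hPz, Submodule.mem_colon_singleton]; simp
  obtain ⟨hfree, hfin, hrank⟩ := local_free P z hP I e χ hFFR
  by_cases hχ : χ = 0
  · apply hI
    rw [eq_bot_iff]
    intro i hi
    rw [Submodule.mem_bot]
    by_contra hi0
    obtain ⟨Q, hQass, hQ⟩ := exists_le_isAssociatedPrime_of_isNoetherianRing R i hi0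
    rw [isAssociatedPrime_iff] at hQass
    obtain ⟨hQprime, z', hQz⟩ := hQass
    have hQ' : ∀ a, a ∈ Q ↔ a * z' = 0 := by
      intro a; rw [hQz, Submodule.mem_colon_singleton]; simp
    obtain ⟨hfree', hfin', hrank'⟩ := local_free Q z' hQ' I e χ hFFR
    rw [hχ] at hrank'
    have hsub : Subsingleton (LocalizedModule Q.primeCompl I) :=
      (Module.finrank_eq_zero_iff_of_free (Localization.AtPrime Q) _).mp (by exact_mod_cast hrank')
    have h1 : LocalizedModule.mkLinearMap Q.primeCompl I ⟨i, hi⟩ = 0 := Subsingleton.elim _ _
    obtain ⟨s, hs⟩ := (IsLocalizedModule.eq_zero_iff Q.primeCompl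
      (LocalizedModule.mkLinearMap Q.primeCompl I)).mp h1
    have h2 : (s : R) * i = 0 := by
      have := congrArg Subtype.val hs
      simpa [Submonoid.smul_def] using this
    exact s.2 (hQ (by rw [Submodule.mem_colon_singleton]; simpa using h2))
  · obtain ⟨hy0, -⟩ := local_data P z hP
    apply hy0
    have hrank0 : Module.finrank (Localization.AtPrime P) (LocalizedModule P.primeCompl I) ≠ 0 := by
      intro h; apply hχ; rw [← hrank, h]; rfl
    let b := Module.Free.chooseBasis (Localization.AtPrime P) (LocalizedModule P.primeCompl I)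
    have hne : Nonempty (Module.Free.ChooseBasisIndex (Localization.AtPrime P)
        (LocalizedModule P.primeCompl I)) := by
      by_contra hemp
      rw [not_nonempty_iff] at hemp
      apply hrank0
      rw [Module.finrank_eq_card_chooseBasisIndex]
      exact Fintype.card_eq_zero
    obtain ⟨i0⟩ := hne
    have hkill : ∀ x : LocalizedModule P.primeCompl I,
        algebraMap R (Localization.AtPrime P) z • x = 0 := by
      intro x
      induction x using LocalizedModule.induction_on with
      | h m s =>
        rw [algebraMap_smul, LocalizedModule.smul'_mk]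
        have : z • m = 0 := by
          ext
          simp only [Submodule.coe_smul, smul_eq_mul, ZeroMemClass.coe_zero]
          rw [mul_comm]
          exact (hP _).mp (hIP m.2)
        rw [this, LocalizedModule.zero_mk]
    have h3 := hkill (b i0)
    have h4 : b.repr (algebraMap R (Localization.AtPrime P) z • b i0) i0 = 0 := by
      rw [h3]; simp
    rw [map_smul, Finsupp.smul_apply, b.repr_self, Finsupp.single_eq_same, smul_eq_mul,
      mul_one] at h4
    exact h4

end Groth.Agent.S12909
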