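import Groth.Statements.S12914
import Mathlib
import Groth.Agent.Lib.Helper21.PtsResD
import Groth.Agent.Lib.Helper21.GrSyzMin

set_option autoImplicit false
universe u
open CAlgX

namespace Groth.Agent.S12914

section helpers
open GrSyz MvPolynomial DirectSum Groth.Agent.Lib.Helper21.HBurch Groth.Agent.Lib.Helper21.GrQuot
  Groth.Agent.Lib.Helper21.PtsRes

lemma spanFinrank_span_range_le {R : Type u} [CommRing R] {n : ℕ} (g : Fin n → R) :
    (Ideal.span (Set.range g)).spanFinrank ≤ n := by
  classical
  refine (Submodule.spanFinrank_span_le_ncard_of_finite (Set.finite_range g)).trans ?_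
  have : Set.range g = ↑(Finset.univ.image g) := by simp
  rw [this, Set.ncard_coe_finset]
  exact (Finset.card_image_le).trans (by simp)

end helpers


/-- Let k be a field, Z a finite set of nonzero vectors in k^3, regarded as points of the projective
plane, and I the homogeneous vanishing ideal of Z in k[x_0, x_1, x_2]: a polynomial belongs to I
exactly when every one of its homogeneous components vanishes at every vector of Z. If Z lies on a
curve of degree d, that is I contains a nonzero homogeneous form of degree d, then I is generated by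
at most d + 1 elements. -/
theorem result (k : Type u) [Field k]
    (Z : Finset (Fin 3 → k)) (hZ : ∀ p ∈ Z, p ≠ 0) (I : Ideal (MvPolynomial (Fin 3) k))
    (hI : ∀ f : MvPolynomial (Fin 3) k, f ∈ I ↔
      ∀ p ∈ Z, ∀ j : ℕ, MvPolynomial.eval p (MvPolynomial.homogeneousComponent j f) = 0)
    (d : ℕ) (hf : ∃ f ∈ I, MvPolynomial.IsHomogeneous f d ∧ f ≠ 0) :
    Submodule.spanFinrank I ≤ d + 1 := by
  open GrSyz MvPolynomial DirectSum Groth.Agent.Lib.Helper21.HBurch Groth.Agent.Lib.Helper21.GrQuot
    Groth.Agent.Lib.Helper21.PtsRes in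
  classical
  by_cases hZne : Z.Nonempty
  · have hIhom := isHomogeneous_I (r := 2) Z I hI
    letI : DirectSum.Decomposition (piece (stdGr k (Fin 3)) I) :=
      decomposition (stdGr k (Fin 3)) I hIhom
    haveI : SetLike.GradedSMul (stdGr k (Fin 3)) (piece (stdGr k (Fin 3)) I) :=
      gradedSMul (stdGr k (Fin 3)) I
    obtain ⟨F, hF⟩ := Groth.Agent.Lib.Helper21.GrSyzMin.exists_minimal_freeRes
      (irrel (stdGr k (Fin 3))).toIdeal
      (Groth.Agent.Lib.Helper21.GrSyzMin.isUnit_decompose_zero k (Fin 3))
      (piece (stdGr k (Fin 3)) I)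
    obtain ⟨t, h1, h2, b0, hlen, hIspan, hgdeg, htle, hall⟩ :=
      structure_thm Z hZ hZne I hI (Submodule.mkQ I) (Submodule.mkQ_surjective I)
        (mkQ_isGr (stdGr k (Fin 3)) I) (Submodule.ker_mkQ I) F hF
    obtain ⟨f, hfI, hfh, hf0⟩ := hf
    obtain ⟨j, hj⟩ := exists_deg_le (r := 2) (fun j => F.d 0 b0 j) (F.deg 1) hgdeg
      (mem_stdGr_of_isHomogeneous hfh) hf0 (hIspan ▸ hfI)
    have h3 := htle j
    have h4 : t ≤ d := by exact_mod_cast h3.trans hj
    rw [hIspan]
    refine (spanFinrank_span_range_le _).trans ?_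
    omega
  · rw [Finset.not_nonempty_iff_eq_empty] at hZne
    have hItop : I = ⊤ := by
      rw [Ideal.eq_top_iff_one, hI]
      intro p hp
      rw [hZne] at hp
      exact absurd hp (Finset.notMem_empty p)
    have h1 : I = Ideal.span (Set.range (fun _ : Fin 1 => (1 : MvPolynomial (Fin 3) k))) := by
      rw [hItop]
      symm
      rw [Ideal.eq_top_iff_one]
      exact Ideal.subset_span ⟨0, rfl⟩
    rw [h1]
    refine (spanFinrank_span_range_le _).trans ?_
    omega

end Groth.Agent.S12914
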