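import Groth.Statements.S12916
import Mathlib

set_option autoImplicit false
set_option linter.style.haveILetI false
universe u
open CAlgX

namespace Groth.Agent.S12916

section helpers
open MvPolynomial

/-- (copied from Helper22's `DimOneCoker`) A finite module over a Noetherian ring with
zero-dimensional support has finite length. -/
theorem isFiniteLength_of_supportDim_le_zero {R : Type u} [CommRing R] [IsNoetherianRing R]
    {N : Type u} [AddCommGroup N] [Module R N] [Module.Finite R N]
    (h : Module.supportDim R N ≤ 0) : IsFiniteLength R N := by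
  have hdim : ringKrullDim (R ⧸ Module.annihilator R N) ≤ 0 := by
    rw [← Module.supportDim_eq_ringKrullDim_quotient_annihilator]; exact h
  haveI : Ring.KrullDimLE 0 (R ⧸ Module.annihilator R N) := Ring.krullDimLE_iff.mpr hdim
  haveI : IsArtinianRing (R ⧸ Module.annihilator R N) := isArtinianRing_iff_krullDimLE_zero.mpr this
  have htors : Module.IsTorsionBySet R N (Module.annihilator R N) :=
    Module.isTorsionBySet_annihilator R N
  letI : Module (R ⧸ Module.annihilator R N) N := htors.module
  haveI : IsScalarTower R (R ⧸ Module.annihilator R N) N := htors.isScalarTower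
  haveI : Module.Finite (R ⧸ Module.annihilator R N) N :=
    Module.Finite.of_restrictScalars_finite R (R ⧸ Module.annihilator R N) N
  haveI : IsArtinian (R ⧸ Module.annihilator R N) N := inferInstance
  haveI : IsArtinian R N :=
    isArtinian_of_surjective_algebraMap (S := R) (R := R ⧸ Module.annihilator R N)
      Ideal.Quotient.mk_surjective
  rw [isFiniteLength_iff_isNoetherian_isArtinian]
  exact ⟨inferInstance, inferInstance⟩

variable (k : Type u) [Field k] (σ : Type) [Finite σ]

omit [Finite σ] in
lemma idealOfVars_eq_ker : idealOfVars σ k = RingHom.ker (constantCoeff : MvPolynomial σ k →+* k) := by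
  ext p
  have := mem_pow_idealOfVars_iff' (σ := σ) (R := k) 1 p
  rw [pow_one] at this
  rw [this, RingHom.mem_ker, constantCoeff_eq]
  constructor
  · intro h
    exact h 0 (by simp)
  · intro h x hx
    have : x = 0 := by
      have : x.degree = 0 := by omega
      exact (Finsupp.degree_eq_zero_iff x).mp this
    rw [this]; exact h

instance idealOfVars_isMaximal : (idealOfVars σ k).IsMaximal := by
  rw [idealOfVars_eq_ker]
  exact RingHom.ker_isMaximal_of_surjective _ (fun c => ⟨C c, by simp⟩)

lemma exists_homogeneous_avoid [Infinite k] (n d : ℕ)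
    (Ps : Finset (Ideal (MvPolynomial (Fin (n + 1)) k)))
    (hP : ∀ P ∈ Ps, P.IsPrime ∧ ¬ P.IsMaximal) :
    ∃ f : MvPolynomial (Fin (n + 1)) k, f.IsHomogeneous d ∧ f ≠ 0 ∧ ∀ P ∈ Ps, f ∉ P := by
  classical
  let E := homogeneousSubmodule (Fin (n + 1)) k d
  let W : Ideal (MvPolynomial (Fin (n + 1)) k) → Subspace k E :=
    fun P => Submodule.comap E.subtype (P.restrictScalars k)
  let s : Finset (Subspace k E) := insert ⊥ (Ps.image W)
  have hX : ∀ i, (X i ^ d : MvPolynomial (Fin (n + 1)) k) ∈ E := fun i =>
    (mem_homogeneousSubmodule _ _).mpr (isHomogeneous_X_pow i d)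
  have hs : ⊤ ∉ s := by
    rw [Finset.mem_insert, Finset.mem_image]
    rintro (h | ⟨P, hP', h⟩)
    · have h1 : (⟨X 0 ^ d, hX 0⟩ : E) ∈ (⊥ : Subspace k E) := h ▸ Submodule.mem_top
      rw [Submodule.mem_bot] at h1
      have h2 := congrArg Subtype.val h1
      simp only [ZeroMemClass.coe_zero] at h2
      exact pow_ne_zero d (X_ne_zero (0 : Fin (n + 1))) h2
    · obtain ⟨hprime, hnmax⟩ := hP P hP'
      apply hnmax
      have hle : idealOfVars (Fin (n + 1)) k ≤ P := by
        rw [Ideal.span_le]
        rintro _ ⟨i, rfl⟩
        have h1 : (⟨X i ^ d, hX i⟩ : E) ∈ W P := h ▸ Submodule.mem_top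
        exact hprime.mem_of_pow_mem d h1
      rw [← (idealOfVars_isMaximal k _).eq_of_le hprime.ne_top hle]
      infer_instance
  have hne := Subspace.biUnion_ne_univ_of_top_notMem hs
  obtain ⟨e, he⟩ : ∃ e : E, e ∉ ⋃ p ∈ s, (p : Set E) := by
    by_contra hcon
    push Not at hcon
    exact hne (Set.eq_univ_of_forall hcon)
  simp only [Set.mem_iUnion, not_exists] at he
  refine ⟨e.1, (mem_homogeneousSubmodule _ _).mp e.2, ?_, ?_⟩
  · intro h0
    apply he ⊥ (Finset.mem_insert_self _ _)
    rw [SetLike.mem_coe, Submodule.mem_bot]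
    exact Subtype.ext h0
  · intro P hP' hfP
    exact he (W P) (Finset.mem_insert_of_mem (Finset.mem_image_of_mem W hP')) hfP

lemma supportDim_torsionBy_le_zero {S : Type u} [CommRing S] [IsNoetherianRing S]
    (M : Type u) [AddCommGroup M] [Module S M] [Module.Finite S M] (f : S)
    (hf : ∀ P ∈ associatedPrimes S M, ¬ P.IsMaximal → f ∉ P) :
    Module.supportDim S ↥(Submodule.torsionBy S M f) ≤ 0 := by
  set N := Submodule.torsionBy S M f with hN
  have hmax : ∀ q ∈ Module.support S N, q.asIdeal.IsMaximal := by
    intro q hq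
    by_contra hqmax
    rw [Module.support_eq_zeroLocus, PrimeSpectrum.mem_zeroLocus, SetLike.coe_subset_coe] at hq
    obtain ⟨q', hq'min, hq'le⟩ := Ideal.exists_minimalPrimes_le hq
    have hq'ass : q' ∈ associatedPrimes S N :=
      Module.associatedPrimes.minimalPrimes_annihilator_subset_associatedPrimes S N hq'min
    have hq'assM : q' ∈ associatedPrimes S M :=
      associatedPrimes.subset_of_injective (f := N.subtype) N.injective_subtype hq'ass
    have hq'nmax : ¬ q'.IsMaximal := by
      intro h
      apply hqmax
      rw [← h.eq_of_le q.2.ne_top hq'le]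
      exact h
    have hfq' := hf q' hq'assM hq'nmax
    obtain ⟨_, x, hx⟩ := (isAssociatedPrime_iff.mp hq'ass)
    apply hfq'
    rw [hx, Submodule.mem_colon_singleton, Submodule.mem_bot]
    apply Subtype.ext
    have h3 : (x : M) ∈ Submodule.torsionBy S M f := x.2
    rw [Submodule.mem_torsionBy_iff] at h3
    simp [h3]
  unfold Module.supportDim
  rw [Order.krullDim_nonpos_iff_forall_isMax]
  intro x y hxy
  have h1 : x.1.asIdeal ≤ y.1.asIdeal := hxy
  have h2 := (hmax x.1 x.2).eq_of_le y.1.2.ne_top h1
  exact le_of_eq (Subtype.ext (PrimeSpectrum.ext h2.symm))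

end helpers


/-- Let k be an infinite field, S = k[x_0, …, x_r], M a finitely generated S-module and d a natural
number. Then some nonzero homogeneous polynomial f of degree d is quasi-regular on M: the submodule
(0 :_M f) of elements of M annihilated by f has finite length. (The published statement assumes M
graded; this row assumes only that M is finitely generated.) -/
theorem result (k : Type u) [Field k] [Infinite k] (r d : ℕ)
    (M : Type u) [AddCommGroup M] [Module (MvPolynomial (Fin (r + 1)) k) M] [Module.Finite (MvPolynomial (Fin (r + 1)) k) M] :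
    ∃ f : MvPolynomial (Fin (r + 1)) k, f.IsHomogeneous d ∧ f ≠ 0 ∧
      IsFiniteLength (MvPolynomial (Fin (r + 1)) k) ↥(Submodule.torsionBy (MvPolynomial (Fin (r + 1)) k) M f) := by
  classical
  have hfin := associatedPrimes.finite (MvPolynomial (Fin (r + 1)) k) M
  obtain ⟨f, hfh, hf0, hfP⟩ := exists_homogeneous_avoid k r d
    (hfin.toFinset.filter (fun P => ¬ P.IsMaximal)) (by
      intro P hP
      rw [Finset.mem_filter, Set.Finite.mem_toFinset] at hP
      exact ⟨hP.1.isPrime, hP.2⟩)
  refine ⟨f, hfh, hf0, ?_⟩
  apply isFiniteLength_of_supportDim_le_zero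
  apply supportDim_torsionBy_le_zero
  intro P hP hPmax
  apply hfP
  rw [Finset.mem_filter, Set.Finite.mem_toFinset]
  exact ⟨hP, hPmax⟩

end Groth.Agent.S12916
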