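import Groth.Statements.S12917
import Mathlib
import Groth.Agent.Lib.Helper21.PtsResD
import Groth.Agent.Lib.Helper21.GrSyzMin

set_option autoImplicit false
universe u
open CAlgX

namespace Groth.Agent.S12917


/-- Let k be a field, Z a finite set of nonzero vectors in k^3, regarded as points of the projective
plane, and I the homogeneous vanishing ideal of Z in S = k[x_0, x_1, x_2]: a polynomial belongs to I
exactly when each of its homogeneous components vanishes at every vector of Z. Then I has a free
resolution of length one: for some t there are a (t+1) × t matrix Ψ over S, injective as a map S^t →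
S^{t+1}, and an S-linear map π : S^{t+1} → S with ker π = im Ψ and im π = I. (The published
statement speaks of the minimal free resolution of I having length 1; stated here as the existence
of such a resolution.) -/
theorem result (k : Type u) [Field k]
    (Z : Finset (Fin 3 → k)) (hZ : ∀ p ∈ Z, p ≠ 0) (I : Ideal (MvPolynomial (Fin 3) k))
    (hI : ∀ f : MvPolynomial (Fin 3) k, f ∈ I ↔
      ∀ p ∈ Z, ∀ j : ℕ, MvPolynomial.eval p (MvPolynomial.homogeneousComponent j f) = 0) :
    ∃ (t : ℕ) (Ψ : Matrix (Fin (t + 1)) (Fin t) (MvPolynomial (Fin 3) k)) (π : (Fin (t + 1) → MvPolynomial (Fin 3) k) →ₗ[MvPolynomial (Fin 3) k] MvPolynomial (Fin 3) k),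
      LinearMap.ker Ψ.mulVecLin = ⊥ ∧ LinearMap.ker π = LinearMap.range Ψ.mulVecLin ∧ LinearMap.range π = I := by
  open GrSyz MvPolynomial DirectSum Groth.Agent.Lib.Helper21.HBurch Groth.Agent.Lib.Helper21.GrQuot
    Groth.Agent.Lib.Helper21.PtsRes in
  classical
  by_cases hZne : Z.Nonempty
  · have hIhom := isHomogeneous_I (r := 2) Z I hI
    letI : DirectSum.Decomposition (piece (stdGr k (Fin 3)) I) :=
      decomposition (stdGr k (Fin 3)) I hIhom
    haveI : SetLike.GradedSMul (stdGr k (Fin 3)) (piece (stdGr k (Fin 3)) I) :=
      gradedSMul (stdGr k (Fin 3)) I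
    obtain ⟨F, hF⟩ := Groth.Agent.Lib.Helper21.GrSyzMin.exists_minimal_freeRes
      (irrel (stdGr k (Fin 3))).toIdeal
      (Groth.Agent.Lib.Helper21.GrSyzMin.isUnit_decompose_zero k (Fin 3))
      (piece (stdGr k (Fin 3)) I)
    obtain ⟨t, h1, h2, b0, hlen, hIspan, hgdeg, htle, hall⟩ :=
      structure_thm Z hZ hZne I hI (Submodule.mkQ I) (Submodule.mkQ_surjective I)
        (mkQ_isGr (stdGr k (Fin 3)) I) (Submodule.ker_mkQ I) F hF
    set g : Fin (t + 1) → MvPolynomial (Fin 3) k := fun p => F.d 0 b0 (Fin.cast h1.symm p) with hg
    refine ⟨t, NN F t h1 h2, Fintype.linearCombination (MvPolynomial (Fin 3) k) g, ?_, ?_, ?_⟩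
    · exact LinearMap.ker_eq_bot.mpr (NN_injective F hlen t h1 h2)
    · -- exactness in the middle
      have hπ' : ∀ v : Fin (t + 1) → MvPolynomial (Fin 3) k,
          Fintype.linearCombination (MvPolynomial (Fin 3) k) g v =
            (F.dLin 0 (fun j => v (Fin.cast h1 j))) b0 := by
        intro v
        rw [Fintype.linearCombination_apply, Matrix.mulVecLin_apply]
        change _ = ∑ j, F.d 0 b0 j * v (Fin.cast h1 j)
        refine Fintype.sum_equiv (finCongr h1.symm) _ _ (fun p => ?_)
        simp [hg, mul_comm]
      ext v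
      rw [LinearMap.mem_ker, hπ']
      constructor
      · intro hv
        have hker : (fun j => v (Fin.cast h1 j)) ∈ LinearMap.ker (F.dLin 0) := by
          rw [LinearMap.mem_ker]
          funext a
          rw [hall a]
          exact hv
        rw [F.exact_succ 0] at hker
        obtain ⟨w, hw⟩ := hker
        refine ⟨fun q => w (Fin.cast h2.symm q), ?_⟩
        funext p
        rw [Matrix.mulVecLin_apply, NN_mulVec]
        have := congrFun hw (Fin.cast h1.symm p)
        rw [Matrix.mulVecLin_apply] at this
        simpa using this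
      · rintro ⟨w, rfl⟩
        have hmem : F.dLin 1 (fun b => w (Fin.cast h2 b)) ∈ LinearMap.ker (F.dLin 0) := by
          rw [F.exact_succ 0]; exact LinearMap.mem_range_self _ _
        rw [LinearMap.mem_ker] at hmem
        have := congrFun hmem b0
        rw [Pi.zero_apply] at this
        rw [← this]
        have hfun : (fun j => (NN F t h1 h2).mulVecLin w (Fin.cast h1 j)) =
            (F.dLin 1) fun b => w (Fin.cast h2 b) := by
          funext j
          rw [Matrix.mulVecLin_apply, NN_mulVec, Matrix.mulVecLin_apply]
          simp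
        rw [hfun]
    · rw [Fintype.range_linearCombination, hIspan]
      congr 1
      ext x
      constructor
      · rintro ⟨p, rfl⟩
        exact ⟨Fin.cast h1.symm p, rfl⟩
      · rintro ⟨j, rfl⟩
        exact ⟨Fin.cast h1 j, by simp [hg]⟩
  · rw [Finset.not_nonempty_iff_eq_empty] at hZne
    have hItop : I = ⊤ := by
      rw [Ideal.eq_top_iff_one, hI]
      intro p hp
      rw [hZne] at hp
      exact absurd hp (Finset.notMem_empty p)
    refine ⟨0, 0, LinearMap.proj 0, ?_, ?_, ?_⟩
    · rw [eq_bot_iff]
      intro v _
      rw [Submodule.mem_bot]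
      funext q
      exact Fin.elim0 q
    · ext v
      rw [LinearMap.mem_ker, LinearMap.proj_apply]
      constructor
      · intro hv
        refine ⟨0, ?_⟩
        funext p
        rw [Fin.fin_one_eq_zero p]
        simp [hv]
      · rintro ⟨w, rfl⟩
        simp
    · rw [hItop, LinearMap.range_eq_top]
      intro s
      exact ⟨fun _ => s, rfl⟩

end Groth.Agent.S12917
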