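import Groth.Statements.S12918
import Groth.Agent.Lib.Helper25.HopfInt
-- import your own Groth.Agent.* helpers here

set_option autoImplicit false
universe u v w
open HopfRep

namespace Groth.Agent.S12918

open Groth.Agent.Lib.Helper25.HopfInt TensorProduct

section
variable {k : Type u} [CommRing k] {A : Type v} [CommRing A] [HopfAlgebra k A]
  {V : Type w} [AddCommGroup V] [Module k V] [HopfRep.Comod k A V]

/-- a map `P : V ⊗ A → V` compatible with the diagonal coaction gives, after the antipode twist,
a comodule map from the induced comodule -/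
theorem coact_comp_of_diag (P : V ⊗[k] A →ₗ[k] V)
    (hP : HopfRep.Comod.coact (k := k) (A := A) (V := V) ∘ₗ P = P.rTensor A ∘ₗ diag V) :
    HopfRep.Comod.coact (k := k) (A := A) (V := V) ∘ₗ (P ∘ₗ twist V (HopfAlgebra.antipode k (A := A))) =
      (P ∘ₗ twist V (HopfAlgebra.antipode k (A := A))).rTensor A ∘ₗ Hoch.Ind.coactAux k A V := by
  have hsurj : Function.Surjective (twist V (LinearMap.id : A →ₗ[k] A)) := fun x =>
    ⟨twist V (HopfAlgebra.antipode k (A := A)) x, LinearMap.congr_fun twist_id_twist_antipode x⟩
  rw [← LinearMap.cancel_right hsurj]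
  have e1 : (HopfRep.Comod.coact (k := k) (A := A) (V := V) ∘ₗ
      (P ∘ₗ twist V (HopfAlgebra.antipode k (A := A)))) ∘ₗ twist V LinearMap.id =
      HopfRep.Comod.coact (k := k) (A := A) (V := V) ∘ₗ P := by
    rw [LinearMap.comp_assoc, LinearMap.comp_assoc, twist_antipode_twist_id, LinearMap.comp_id]
  have e2 : ((P ∘ₗ twist V (HopfAlgebra.antipode k (A := A))).rTensor A ∘ₗ
      Hoch.Ind.coactAux k A V) ∘ₗ twist V LinearMap.id = P.rTensor A ∘ₗ diag V := by
    rw [LinearMap.comp_assoc, ← twist_id_rTensor_comp_diag, ← LinearMap.comp_assoc,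
      ← LinearMap.rTensor_comp, LinearMap.comp_assoc, twist_antipode_twist_id, LinearMap.comp_id]
  rw [e1, e2, hP]

theorem twist_antipode_coact (v : V) :
    twist V (HopfAlgebra.antipode k (A := A)) (HopfRep.Comod.coact (k := k) (A := A) v) =
      v ⊗ₜ[k] (1 : A) := by
  have := twist_lTensor_coact (V := V) (HopfAlgebra.antipode k (A := A)) LinearMap.id v
  rw [LinearMap.lTensor_id, LinearMap.id_apply] at this
  rw [this]
  have h2 : LinearMap.mul' k A ∘ₗ TensorProduct.map (HopfAlgebra.antipode k (A := A)) LinearMap.id ∘ₗ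
      CoalgebraStruct.comul (R := k) (A := A) =
      Algebra.linearMap k A ∘ₗ CoalgebraStruct.counit (R := k) (A := A) := by
    have := HopfAlgebra.mul_antipode_rTensor_comul (R := k) (A := A)
    simpa [LinearMap.rTensor] using this
  rw [h2, LinearMap.lTensor_comp, LinearMap.comp_apply, counit_apply]
  simp

end

/-- Let `k` be a commutative ring, `A` a commutative Hopf algebra over `k`, flat as a `k`-module and `B`
a commutative `k`-algebra with a coaction `ρ : B → B ⊗ A` that is an algebra map (an action of the
affine group scheme `Spec A` on `Spec B`). Then the action admits a total integral — a comodule map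
`α : A → B`, for the regular coaction on `A`, with `α 1 = 1` — if and only if `ρ` has a left inverse
`B ⊗ A → B` which is a comodule map for the coaction `id ⊗ Δ` on `B ⊗ A`. -/
theorem result
    (k : Type u) [CommRing k] (A : Type v) [CommRing A] [HopfAlgebra k A] [Module.Flat k A]
    (B : Type w) [CommRing B] [Algebra k B] [HopfRep.Comod k A B] [GLin.IsCoactAlg k A B] :
    (∃ α : A →ₗ[k] B, Hoch.IsComodHom A α ∧ α 1 = 1) ↔
      ∃ lam : Hoch.Ind k A B →ₗ[k] B, Hoch.IsComodHom A lam ∧ lam ∘ₗ Hoch.toInd k A B = LinearMap.id := by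
  constructor
  · rintro ⟨α, hα, h1⟩
    -- `P (b ⊗ a) = b * α a`
    let P : B ⊗[k] A →ₗ[k] B := LinearMap.mul' k B ∘ₗ α.lTensor B
    have hPt : ∀ b a, P (b ⊗ₜ a) = b * α a := fun b a => by simp [P]
    have hα' : ∀ a, HopfRep.Comod.coact (k := k) (A := A) (α a) =
        α.rTensor A (CoalgebraStruct.comul (R := k) a) := fun a => LinearMap.congr_fun hα a
    have aux : ∀ (z : B ⊗[k] A) (u : A ⊗[k] A),
        P.rTensor A (LinearMap.lTensor (B ⊗[k] A) (LinearMap.mul' k A)
          (TensorProduct.tensorTensorTensorComm k B A A A (z ⊗ₜ[k] u))) = z * α.rTensor A u := by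
      intro z u
      induction z using TensorProduct.induction_on with
      | zero => simp
      | tmul b c =>
        induction u using TensorProduct.induction_on with
        | zero => simp
        | tmul a' a'' => simp [hPt]
        | add x y hx hy => simp only [TensorProduct.tmul_add, map_add, hx, hy, mul_add]
      | add x y hx hy => simp only [TensorProduct.add_tmul, map_add, hx, hy, add_mul]
    have hP : HopfRep.Comod.coact (k := k) (A := A) (V := B) ∘ₗ P = P.rTensor A ∘ₗ diag B := by
      refine TensorProduct.ext' fun b a => ?_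
      change HopfRep.Comod.coact (k := k) (A := A) (P (b ⊗ₜ[k] a)) =
        P.rTensor A (diag B (b ⊗ₜ[k] a))
      rw [diag_tmul, aux, hPt, GLin.IsCoactAlg.coact_mul, hα']
    refine ⟨(P ∘ₗ twist B (HopfAlgebra.antipode k (A := A))) ∘ₗ (Hoch.Ind.equiv k A B).symm.toLinearMap,
      ?_, ?_⟩
    · exact coact_comp_of_diag P hP
    · apply LinearMap.ext
      intro b
      change P (twist B (HopfAlgebra.antipode k (A := A)) (HopfRep.Comod.coact (k := k) (A := A) b)) = b
      rw [twist_antipode_coact, hPt, h1, mul_one]
  · rintro ⟨lam, hlam, hl⟩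
    let lam' : B ⊗[k] A →ₗ[k] B := lam ∘ₗ (Hoch.Ind.equiv k A B).toLinearMap
    have hlam' : ∀ x : B ⊗[k] A, HopfRep.Comod.coact (k := k) (A := A) (lam' x) =
        lam'.rTensor A ((TensorProduct.assoc k B A A).symm
          (LinearMap.lTensor B (CoalgebraStruct.comul (R := k) (A := A)) x)) :=
      fun x => LinearMap.congr_fun hlam (Hoch.Ind.equiv k A B x)
    have hl' : ∀ b : B, lam' (HopfRep.Comod.coact (k := k) (A := A) b) = b :=
      fun b => LinearMap.congr_fun hl b
    let α : A →ₗ[k] B := lam' ∘ₗ TensorProduct.mk k B A 1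
    have hαt : ∀ a, α a = lam' ((1 : B) ⊗ₜ[k] a) := fun a => rfl
    refine ⟨α, ?_, ?_⟩
    · apply LinearMap.ext
      intro a
      change HopfRep.Comod.coact (k := k) (A := A) (α a) =
        α.rTensor A (CoalgebraStruct.comul (R := k) a)
      rw [hαt, hlam', LinearMap.lTensor_tmul]
      generalize CoalgebraStruct.comul (R := k) a = u
      induction u using TensorProduct.induction_on with
      | zero => simp
      | tmul c d => simp [hαt]
      | add x y hx hy => simp only [TensorProduct.tmul_add, map_add, hx, hy]
    · rw [hαt]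
      have := hl' 1
      rw [GLin.IsCoactAlg.coact_one (k := k) (A := A) (R := B), Algebra.TensorProduct.one_def] at this
      exact this

end Groth.Agent.S12918
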