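import Groth.Statements.S12923
import Groth.Agent.Lib.Helper23.Reynolds
import Mathlib.RingTheory.Spectrum.Prime.RingHom

set_option autoImplicit false
universe u v w
open HopfRep

namespace Groth.Agent.S12923

/-- Let `k` be a commutative ring, `A` a commutative Hopf algebra over `k`, flat as a `k`-module, `B` a
commutative `k`-algebra with a coaction of `A` that is an algebra map and admits a total integral (a
comodule map `α : A → B` with `α 1 = 1`), `C = B^A`, and `b` an ideal of `B` which is a subcomodule
(a closed subscheme of `Spec B` stable under the action). Then the image of `V(b)` under `Spec B →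
Spec C` is the closed set `V(b ∩ C)`. (The published statement assumes only that taking invariants
is exact on `(B, A)`-modules; a total integral, assumed here, gives that exactness.) -/
theorem result
    (k : Type u) [CommRing k] (A : Type v) [CommRing A] [HopfAlgebra k A] [Module.Flat k A]
    (B : Type w) [CommRing B] [Algebra k B] [HopfRep.Comod k A B] [GLin.IsCoactAlg k A B]
    (htame : ∃ α : A →ₗ[k] B, Hoch.IsComodHom A α ∧ α 1 = 1)
    (b : Ideal B) (hb : HopfRep.IsSubcomod (k := k) (A := A) (b.restrictScalars k)) :
    PrimeSpectrum.comap (algebraMap (GLin.invariants k A B) B) '' PrimeSpectrum.zeroLocus (b : Set B) =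
      PrimeSpectrum.zeroLocus ((b.comap (algebraMap (GLin.invariants k A B) B) : Ideal (GLin.invariants k A B)) : Set (GLin.invariants k A B)) := by
  obtain ⟨α, hα, hα1⟩ := htame
  apply Set.Subset.antisymm
  · rintro _ ⟨q, hq, rfl⟩
    rw [PrimeSpectrum.mem_zeroLocus] at hq ⊢
    intro x hx
    exact hq hx
  · intro p hp
    rw [PrimeSpectrum.mem_zeroLocus] at hp
    set f := algebraMap (GLin.invariants k A B) B with hf
    have key : (b ⊔ p.asIdeal.map f).comap f ≤ p.asIdeal := by
      intro x hx
      obtain ⟨y, hy, y', hy', hxy⟩ := Submodule.mem_sup.mp (Ideal.mem_comap.mp hx)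
      obtain ⟨z₂, hz₂, e₂⟩ := Groth.Agent.Lib.Helper23.exists_reynolds_eq_of_mem_map hα _ y' hy'
      have hRy := Groth.Agent.Lib.Helper23.reynolds_mem_of_isSubcomod (α := α) b hb y hy
      have hRy' := Groth.Agent.Lib.Helper23.reynolds_mem_invariants hα y
      have hz₁ : (⟨_, hRy'⟩ : GLin.invariants k A B) ∈ p.asIdeal := hp hRy
      have hx' := Groth.Agent.Lib.Helper23.reynolds_of_mem_invariants hα1 _ x.2
      have : (x : B) = ((⟨_, hRy'⟩ + z₂ : GLin.invariants k A B) : B) := by
        have hxy' : y + y' = (x : B) := hxy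
        rw [← hx', ← hxy', map_add, e₂]
        rfl
      rw [Subtype.ext this]
      exact p.asIdeal.add_mem hz₁ hz₂
    obtain ⟨q, hq₁, hq₂, hq₃⟩ := Ideal.exists_le_prime_disjoint _ _
      (Ideal.disjoint_map_primeCompl_iff_comap_le.mpr key)
    refine ⟨⟨q, hq₁⟩, ?_, ?_⟩
    · rw [PrimeSpectrum.mem_zeroLocus]
      exact fun x hx => hq₂ (Ideal.mem_sup_left hx)
    · apply PrimeSpectrum.ext
      exact le_antisymm (Ideal.disjoint_map_primeCompl_iff_comap_le.mp hq₃)
        (Ideal.map_le_iff_le_comap.mp (le_sup_right.trans hq₂))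

end Groth.Agent.S12923
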