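import Groth.Statements.S12926
import Mathlib.LinearAlgebra.Projection

set_option autoImplicit false
universe u v
open HopfRep

namespace Groth.Agent.S12926

/-- Let `k` be a commutative ring and `A` a commutative bialgebra over `k`, flat as a `k`-module. If the
submodule `k · 1` of the regular comodule `A` has a complement `H` which is a subcomodule — the case
used when `A` is cosemisimple, i.e. every subcomodule of every comodule is a direct summand as a
comodule — then the trivial action of `Spec A` on `Spec k` is tame: there is a comodule map `α : A →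
k`, for the regular coaction on `A` and the trivial coaction `r ↦ r ⊗ 1` on `k`, with `α 1 = 1`. -/
theorem result
    (k : Type u) [CommRing k] (A : Type v) [CommRing A] [Bialgebra k A] [Module.Flat k A]
    (H : Submodule k A) (hH : HopfRep.IsSubcomod (k := k) (A := A) H)
    (hc : IsCompl (Submodule.span k {(1 : A)}) H) :
    ∃ α : A →ₗ[k] k, @Hoch.IsComodHom k _ A _ _ _ A _ _ _ k _ _ (HopfRep.Comod.trivial k A k) α ∧ α 1 = 1 := by
  classical
  let π := Submodule.linearProjOfIsCompl (Submodule.span k {(1 : A)}) H hc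
  let α : A →ₗ[k] k := CoalgebraStruct.counit (R := k) (A := A) ∘ₗ
    (Submodule.span k {(1 : A)}).subtype ∘ₗ π
  have h1mem : (1 : A) ∈ Submodule.span k {(1 : A)} := Submodule.mem_span_singleton_self 1
  have hα1 : α 1 = 1 := by
    have : π 1 = ⟨1, h1mem⟩ := Submodule.linearProjOfIsCompl_apply_left hc ⟨1, h1mem⟩
    simp only [α, LinearMap.comp_apply, this, Submodule.subtype_apply]
    exact Bialgebra.counit_one
  have hαH : ∀ h ∈ H, α h = 0 := by
    intro h hh
    have : π h = 0 := Submodule.linearProjOfIsCompl_apply_right hc ⟨h, hh⟩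
    simp [α, this]
  refine ⟨α, ?_, hα1⟩
  change ((TensorProduct.mk k k A).flip 1) ∘ₗ α =
    α.rTensor A ∘ₗ CoalgebraStruct.comul (R := k) (A := A)
  have hcomp : α ∘ₗ H.subtype = 0 := by
    ext h; exact hαH h h.2
  apply LinearMap.ext
  intro a
  have ha : a ∈ Submodule.span k {(1 : A)} ⊔ H := by rw [hc.sup_eq_top]; trivial
  obtain ⟨x, hx, h, hh, rfl⟩ := Submodule.mem_sup.mp ha
  obtain ⟨c, rfl⟩ := Submodule.mem_span_singleton.mp hx
  have e1 : (((TensorProduct.mk k k A).flip 1) ∘ₗ α) (1 : A) =
      (α.rTensor A ∘ₗ CoalgebraStruct.comul (R := k) (A := A)) (1 : A) := by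
    change (α 1) ⊗ₜ[k] (1 : A) = α.rTensor A (CoalgebraStruct.comul (R := k) (1 : A))
    rw [Bialgebra.comul_one, Algebra.TensorProduct.one_def, LinearMap.rTensor_tmul]
  have e2 : (((TensorProduct.mk k k A).flip 1) ∘ₗ α) h =
      (α.rTensor A ∘ₗ CoalgebraStruct.comul (R := k) (A := A)) h := by
    obtain ⟨z, hz⟩ := hH h hh
    change (α h) ⊗ₜ[k] (1 : A) = α.rTensor A (CoalgebraStruct.comul (R := k) (A := A) h)
    have hz' : LinearMap.rTensor A H.subtype z = CoalgebraStruct.comul (R := k) (A := A) h := hz
    rw [hαH h hh, TensorProduct.zero_tmul, ← hz', ← LinearMap.comp_apply, ← LinearMap.rTensor_comp,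
      hcomp, LinearMap.rTensor_zero, LinearMap.zero_apply]
  rw [map_add, map_add, map_smul, map_smul, e1, e2]

end Groth.Agent.S12926
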