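import Groth.Statements.S12928
import Groth.Agent.Lib.Helper25.HomComodP
-- import your own Groth.Agent.* helpers here

set_option autoImplicit false
universe u
open HopfRep

namespace Groth.Agent.S12928

open Groth.Agent.Lib.Helper25.HomCP Groth.Agent.Lib.Helper25

open TensorProduct in
theorem hmSMul_self {k : Type u} [CommRing k] {A : Type u} [CommRing A] [Bialgebra k A]
    {B : Type u} [CommRing B] [Algebra k B] (z w : B ⊗[k] A) :
    TameAct.hmSMul k A B B z w = z * w := by
  induction z using TensorProduct.induction_on with
  | zero => simp
  | tmul b a =>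
    induction w using TensorProduct.induction_on with
    | zero => simp
    | tmul b' a' => simp
    | add w₁ w₂ h₁ h₂ => simp only [map_add, mul_add, h₁, h₂]
  | add z₁ z₂ h₁ h₂ => simp only [map_add, LinearMap.add_apply, add_mul, h₁, h₂]

/-- Let `k` be a commutative ring, `A` a commutative Hopf algebra over `k` which is finite locally free
(finite projective, in particular flat) as a `k`-module, `B` a commutative `k`-algebra with a
coaction of `A` that is an algebra map, and `C = B^A` the ring of invariants; assume `C` Noetherian
and `B` finite and flat over `C`. If taking invariants is exact on `(B, A)`-modules — for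
`B`-modules `M`, `N` with compatible `A`-coactions (in the universe of `k`, `A`, `B`) every
surjective `B`-linear comodule map `M → N` maps `M^A` onto `N^A` — then the action is tame: there is
a comodule map `α : A → B` with `α 1 = 1`. Together with the converse (a total integral makes
invariants exact) this says that tameness of the action is the exactness of invariants. (The
published statement does not assume `B` finite over `C`; its proof uses that finiteness, which is
assumed here.) -/
theorem result
    (k : Type u) [CommRing k] (A : Type u) [CommRing A] [HopfAlgebra k A] [Module.Flat k A]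
    [Module.Finite k A] [Module.Projective k A]
    (B : Type u) [CommRing B] [Algebra k B] [HopfRep.Comod k A B] [GLin.IsCoactAlg k A B]
    [IsNoetherianRing (GLin.invariants k A B)] [Module.Finite (GLin.invariants k A B) B] [Module.Flat (GLin.invariants k A B) B]
    (hexact : ∀ (M N : Type u) [AddCommGroup M] [Module k M] [Module B M] [IsScalarTower k B M]
      [HopfRep.Comod k A M] [TameAct.IsHopfMod k A B M]
      [AddCommGroup N] [Module k N] [Module B N] [IsScalarTower k B N]
      [HopfRep.Comod k A N] [TameAct.IsHopfMod k A B N] (f : M →ₗ[B] N),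
      Hoch.IsComodHom A (f.restrictScalars k) → Function.Surjective f →
      ∀ n ∈ HopfRep.fixedPts k A N, ∃ m ∈ HopfRep.fixedPts k A M, f m = n) :
    ∃ α : A →ₗ[k] B, Hoch.IsComodHom A α ∧ α 1 = 1 := by
  let cM : HopfRep.Comod k A (A →ₗ[k] B) := homComod (k := k) (A := A) A B
  have hM : TameAct.IsHopfMod k A B (A →ₗ[k] B) := isHopfMod_hom (k := k) (A := A) A B
  have hBB : TameAct.IsHopfMod k A B B := ⟨fun b m => by
    rw [hmSMul_self, smul_eq_mul, GLin.IsCoactAlg.coact_mul]⟩
  let f : (A →ₗ[k] B) →ₗ[B] B :=
    { toFun := fun φ => φ 1
      map_add' := fun φ ψ => rfl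
      map_smul' := fun b φ => rfl }
  have h1A : HopfRep.Comod.coact (k := k) (A := A) (1 : A) = TensorProduct.tmul k (1 : A) (1 : A) :=
    Bialgebra.comul_one
  have hf : Hoch.IsComodHom A (f.restrictScalars k) := by
    apply LinearMap.ext
    intro φ
    exact coact_apply_fixed (k := k) (A := A) (Q := A) (X := B) h1A φ
  have hsurj : Function.Surjective f := by
    intro b
    refine ⟨(LinearMap.toSpanSingleton k B b) ∘ₗ (CoalgebraStruct.counit (R := k) (A := A)), ?_⟩
    show (LinearMap.toSpanSingleton k B b) (CoalgebraStruct.counit (R := k) (A := A) 1) = b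
    rw [Bialgebra.counit_one, LinearMap.toSpanSingleton_apply, one_smul]
  have h1 : (1 : B) ∈ HopfRep.fixedPts k A B := by
    show HopfRep.Comod.coact (k := k) (A := A) (1 : B) = TensorProduct.tmul k (1 : B) (1 : A)
    rw [GLin.IsCoactAlg.coact_one, Algebra.TensorProduct.one_def]
  obtain ⟨α, hα, hα1⟩ := hexact (A →ₗ[k] B) B f hf hsurj 1 h1
  exact ⟨α, (mem_fixedPts_homComod_iff α).mp hα, hα1⟩

end Groth.Agent.S12928
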