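import Groth.Statements.S12929
-- import your own Groth.Agent.* helpers here

set_option autoImplicit false
universe u v w w'
open HopfRep

namespace Groth.Agent.S12929

section
open TensorProduct
variable {k : Type u} [CommRing k] {A : Type v} [CommRing A] [HopfAlgebra k A]
variable {M : Type w} [AddCommGroup M] [Module k M]
variable {N : Type w'} [AddCommGroup N] [Module k N]

theorem assoc_symm_rTensor (h : M →ₗ[k] N) (m : M) (w : A ⊗[k] A) :
    (TensorProduct.assoc k N A A).symm (h m ⊗ₜ[k] w) =
      LinearMap.rTensor A (LinearMap.rTensor A h) ((TensorProduct.assoc k M A A).symm (m ⊗ₜ[k] w)) := by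
  induction w using TensorProduct.induction_on with
  | zero => simp
  | tmul x y => simp
  | add x y hx hy => simp only [TensorProduct.tmul_add, map_add, hx, hy]

theorem coactAux_rTensor (h : M →ₗ[k] N) (y : M ⊗[k] A) :
    Hoch.Ind.coactAux k A N (LinearMap.rTensor A h y) =
      LinearMap.rTensor A (LinearMap.rTensor A h)
        ((TensorProduct.assoc k M A A).symm
          (LinearMap.lTensor M (CoalgebraStruct.comul (R := k) (A := A)) y)) := by
  induction y using TensorProduct.induction_on with
  | zero => simp
  | tmul m a =>
    rw [LinearMap.rTensor_tmul, Hoch.Ind.coactAux_tmul, LinearMap.lTensor_tmul, assoc_symm_rTensor]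
  | add x y hx hy => simp only [map_add, hx, hy]

theorem counit_assoc_symm (n : N) (w : A ⊗[k] A) :
    LinearMap.rTensor A ((TensorProduct.rid k N).toLinearMap ∘ₗ
        LinearMap.lTensor N (CoalgebraStruct.counit (R := k) (A := A)))
      ((TensorProduct.assoc k N A A).symm (n ⊗ₜ[k] w)) =
      n ⊗ₜ[k] (TensorProduct.lid k A
        (LinearMap.rTensor A (CoalgebraStruct.counit (R := k) (A := A)) w)) := by
  induction w using TensorProduct.induction_on with
  | zero => simp
  | tmul x y => simp [TensorProduct.smul_tmul]
  | add x y hx hy => simp only [TensorProduct.tmul_add, map_add, hx, hy]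

theorem counit_coactAux (z : N ⊗[k] A) :
    LinearMap.rTensor A ((TensorProduct.rid k N).toLinearMap ∘ₗ
        LinearMap.lTensor N (CoalgebraStruct.counit (R := k) (A := A)))
      (Hoch.Ind.coactAux k A N z) = z := by
  induction z using TensorProduct.induction_on with
  | zero => simp
  | tmul n a =>
    rw [Hoch.Ind.coactAux_tmul, counit_assoc_symm, Coalgebra.rTensor_counit_comul,
      TensorProduct.lid_tmul, one_smul]
  | add x y hx hy => simp only [map_add, hx, hy]

end


/-- Let `k` be a commutative ring, `A` a commutative Hopf algebra over `k`, `M` a right `A`-comodule and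
`N` a `k`-module; give `N ⊗ A` the coaction `id ⊗ Δ`. Then for every `k`-linear map `h : M → N` the
composite `(h ⊗ id_A) ∘ ρ_M : M → N ⊗ A` is a comodule map, and every comodule map `f : M → N ⊗ A`
is of this form for exactly one `h` (which is `(id_N ⊗ ε) ∘ f`): comodule maps `M → N ⊗ A`
correspond bijectively to linear maps `M → N`. -/
theorem result
    (k : Type u) [CommRing k] (A : Type v) [CommRing A] [HopfAlgebra k A]
    (M : Type w) [AddCommGroup M] [Module k M] [HopfRep.Comod k A M]
    (N : Type w') [AddCommGroup N] [Module k N] :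
    (∀ h : M →ₗ[k] N, Hoch.IsComodHom A
        ((Hoch.Ind.equiv k A N).toLinearMap ∘ₗ h.rTensor A ∘ₗ HopfRep.Comod.coact (k := k) (A := A))) ∧
      ∀ f : M →ₗ[k] Hoch.Ind k A N, Hoch.IsComodHom A f →
        ∃! h : M →ₗ[k] N,
          f = (Hoch.Ind.equiv k A N).toLinearMap ∘ₗ h.rTensor A ∘ₗ HopfRep.Comod.coact (k := k) (A := A) := by
  constructor
  · intro h
    apply LinearMap.ext
    intro m
    change Hoch.Ind.coactAux k A N (LinearMap.rTensor A h (HopfRep.Comod.coact (k := k) (A := A) m)) =
      LinearMap.rTensor A (LinearMap.rTensor A h ∘ₗ HopfRep.Comod.coact (k := k) (A := A))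
        (HopfRep.Comod.coact (k := k) (A := A) m)
    have hco := LinearMap.congr_fun (HopfRep.Comod.coassoc (k := k) (A := A) (V := M)) m
    simp only [LinearMap.comp_apply, LinearEquiv.coe_coe] at hco
    rw [coactAux_rTensor, ← hco, LinearEquiv.symm_apply_apply, LinearMap.rTensor_comp,
      LinearMap.comp_apply]
  · intro f hf
    have hf' : ∀ m, Hoch.Ind.coactAux k A N (f m) =
        LinearMap.rTensor A f (HopfRep.Comod.coact (k := k) (A := A) m) :=
      fun m => LinearMap.congr_fun hf m
    let c' : TensorProduct k N A →ₗ[k] N := (TensorProduct.rid k N).toLinearMap ∘ₗ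
        LinearMap.lTensor N (CoalgebraStruct.counit (R := k) (A := A))
    let c : Hoch.Ind k A N →ₗ[k] N := c'
    refine ⟨c ∘ₗ f, ?_, ?_⟩
    · apply LinearMap.ext
      intro m
      change f m = LinearMap.rTensor A (c ∘ₗ f) (HopfRep.Comod.coact (k := k) (A := A) m)
      rw [LinearMap.rTensor_comp, LinearMap.comp_apply, ← hf' m]
      exact (counit_coactAux (f m)).symm
    · intro h' hh'
      apply LinearMap.ext
      intro m
      have h1 : f m = LinearMap.rTensor A h' (HopfRep.Comod.coact (k := k) (A := A) m) :=
        LinearMap.congr_fun hh' m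
      have hcu := LinearMap.congr_fun (HopfRep.Comod.counit_comp (k := k) (A := A) (V := M)) m
      simp only [LinearMap.comp_apply, LinearMap.flip_apply, TensorProduct.mk_apply] at hcu
      change h' m = c' (f m)
      rw [h1]
      have h2 : ∀ y : TensorProduct k M A, c' (LinearMap.rTensor A h' y) =
          h' (TensorProduct.rid k M (LinearMap.lTensor M (CoalgebraStruct.counit (R := k) (A := A)) y)) := by
        intro y
        induction y using TensorProduct.induction_on with
        | zero => simp
        | tmul m a => simp [c']
        | add x y hx hy => simp only [map_add, hx, hy]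
      rw [h2, hcu, TensorProduct.rid_tmul, one_smul]

end Groth.Agent.S12929
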