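import Groth.Statements.S12932
import Groth.Agent.Lib.Helper28.TameTrace

set_option autoImplicit false
universe u v
open scoped BigOperators
open InvTh

open Groth.Agent.Lib.Helper28

namespace Groth.Agent.S12932

/-- Let `B` be a commutative ring with an action of a finite group `Γ` by ring automorphisms, and call a
prime ideal `P` of `B` tame when the order of its inertia group `{γ | γ • x - x ∈ P for all x}` is
not divisible by the characteristic of `B/P` (its ramification group is trivial). Then every prime
of `B` is tame if and only if the trace `b ↦ Σ_γ γ • b`, which takes values in the invariant ring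
`B^Γ` and is `B^Γ`-linear, is onto `B^Γ` — equivalently, some element of `B` has trace `1`. -/
theorem result
    (B : Type u) [CommRing B] (Γ : Type v) [Group Γ] [Fintype Γ] [MulSemiringAction Γ B] :
    (∃ b : B, ∑ γ : Γ, γ • b = 1) ↔
      ∀ P : Ideal B, P.IsPrime → ((Nat.card (P.inertia Γ) : ℕ) : B ⧸ P) ≠ 0 := by
  constructor
  · rintro ⟨b, hb⟩ P hP
    haveI := hP
    exact TameTrace.tame_of_trace B Γ hb P
  · exact TameTrace.trace_of_tame B Γ

end Groth.Agent.S12932
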