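import Groth.Statements.S12933
import Mathlib.RingTheory.Flat.Equalizer
-- import your own Groth.Agent.* helpers here

set_option autoImplicit false
universe u v w w'
open TensorProduct
open InvTh

namespace Groth.Agent.S12933

/-- Let `R` be a commutative ring, `B` a commutative `R`-algebra with an action of a finite group `Γ` by
`R`-algebra automorphisms, and `R'` a flat commutative `R`-algebra; let `Γ` act on `R' ⊗_R B`
through the factor `B`. Then an element of `R' ⊗_R B` is fixed by every element of `Γ` if and only
if it lies in the `R'`-submodule spanned by the tensors `1 ⊗ b` with `b ∈ B^Γ`: taking invariants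
commutes with flat base change (the map `R' ⊗_R B^Γ → R' ⊗_R B` being moreover injective by
flatness). -/
theorem result
    (R : Type u) [CommRing R] (B : Type v) [CommRing B] [Algebra R B]
    (Γ : Type w) [Group Γ] [Finite Γ] [MulSemiringAction Γ B] [SMulCommClass Γ R B]
    (R' : Type w') [CommRing R'] [Algebra R R'] [Module.Flat R R']
    (x : R' ⊗[R] B) :
    (∀ γ : Γ, Algebra.TensorProduct.map (AlgHom.id R R') (MulSemiringAction.toAlgHom R B γ) x = x) ↔
      x ∈ Submodule.span R' ((fun b : B => (1 : R') ⊗ₜ[R] b) '' {b : B | ∀ γ : Γ, γ • b = b}) := by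
  classical
  have := Fintype.ofFinite Γ
  -- the action as linear maps
  let act : Γ → (B →ₗ[R] B) := fun γ => (MulSemiringAction.toAlgHom R B γ).toLinearMap
  have hmap : ∀ (γ : Γ) (z : R' ⊗[R] B),
      Algebra.TensorProduct.map (AlgHom.id R R') (MulSemiringAction.toAlgHom R B γ) z =
        TensorProduct.AlgebraTensorModule.lTensor R' R' (act γ) z := by
    intro γ z
    induction z using TensorProduct.induction_on with
    | zero => simp
    | tmul r b => simp [act]
    | add z₁ z₂ h₁ h₂ => rw [map_add, map_add, h₁, h₂]
  let φ : B →ₗ[R] (Γ → B) := LinearMap.pi fun γ => act γ - LinearMap.id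
  have hkerφ : ∀ b : B, b ∈ LinearMap.ker φ ↔ ∀ γ : Γ, γ • b = b := by
    intro b
    rw [LinearMap.mem_ker]
    constructor
    · intro h γ
      have := congr_fun h γ
      simpa [φ, act, sub_eq_zero] using this
    · intro h
      funext γ
      simp [φ, act, h γ]
  constructor
  · intro hx
    have h1 : x ∈ LinearMap.ker (TensorProduct.AlgebraTensorModule.lTensor R' R' φ) := by
      rw [LinearMap.mem_ker]
      set z := TensorProduct.AlgebraTensorModule.lTensor R' R' φ x with hz
      have hcomp : ∀ γ : Γ, TensorProduct.AlgebraTensorModule.lTensor R' R'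
          (LinearMap.proj (R := R) (φ := fun _ : Γ => B) γ) z = 0 := by
        intro γ
        have : (TensorProduct.AlgebraTensorModule.lTensor R' R'
            (LinearMap.proj (R := R) (φ := fun _ : Γ => B) γ)) ∘ₗ
            (TensorProduct.AlgebraTensorModule.lTensor R' R' φ) =
            TensorProduct.AlgebraTensorModule.lTensor R' R' (act γ) - LinearMap.id := by
          ext b
          simp [φ, TensorProduct.tmul_sub]
        have h2 := LinearMap.congr_fun this x
        simp only [LinearMap.comp_apply, LinearMap.sub_apply, LinearMap.id_apply] at h2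
        rw [hz, h2, ← hmap, hx γ, sub_self]
      have hid : ∀ z : R' ⊗[R] (Γ → B), z = ∑ γ : Γ, TensorProduct.AlgebraTensorModule.lTensor R' R'
          (LinearMap.single R (fun _ : Γ => B) γ)
          (TensorProduct.AlgebraTensorModule.lTensor R' R'
            (LinearMap.proj (R := R) (φ := fun _ : Γ => B) γ) z) := by
        intro z
        induction z using TensorProduct.induction_on with
        | zero => simp
        | tmul r g =>
          simp only [TensorProduct.AlgebraTensorModule.lTensor_tmul, LinearMap.coe_proj,
            Function.eval, LinearMap.coe_single]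
          rw [← TensorProduct.tmul_sum, Finset.univ_sum_single]
        | add z₁ z₂ h₁ h₂ =>
          simp only [map_add, Finset.sum_add_distrib]
          rw [← h₁, ← h₂]
      rw [hid z]
      refine Finset.sum_eq_zero fun γ _ => ?_
      rw [hcomp γ, map_zero]
    rw [Module.Flat.ker_lTensor_eq] at h1
    obtain ⟨y, rfl⟩ := h1
    clear hx
    induction y using TensorProduct.induction_on with
    | zero => simp
    | tmul r b =>
      rw [TensorProduct.AlgebraTensorModule.lTensor_tmul]
      have : r ⊗ₜ[R] ((LinearMap.ker φ).subtype b) = r • ((1 : R') ⊗ₜ[R] (b : B)) := by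
        rw [TensorProduct.smul_tmul', smul_eq_mul, mul_one]; rfl
      rw [this]
      exact Submodule.smul_mem _ _ (Submodule.subset_span ⟨b.1, (hkerφ b.1).1 b.2, rfl⟩)
    | add y₁ y₂ h₁ h₂ =>
      rw [map_add]
      exact Submodule.add_mem _ h₁ h₂
  · intro hx γ
    rw [hmap]
    induction hx using Submodule.span_induction with
    | mem z hz =>
      obtain ⟨b, hb, rfl⟩ := hz
      rw [TensorProduct.AlgebraTensorModule.lTensor_tmul]
      show (1 : R') ⊗ₜ[R] (γ • b) = _
      rw [hb γ]
    | zero => simp
    | add z₁ z₂ _ _ h₁ h₂ => rw [map_add, h₁, h₂]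
    | smul r z _ h => rw [map_smul, h]

end Groth.Agent.S12933
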