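import Groth.Statements.S12936
import Mathlib
-- import your own Groth.Agent.* helpers here

set_option autoImplicit false
universe u v
open InvTh

namespace Groth.Agent.S12936

/-- Let `B` be a commutative ring with an action of a finite group `Γ` by ring automorphisms and `P` a
maximal ideal of `B`, with decomposition group `D_P = {γ | γP = P}` and decomposition ring `D =
B^{D_P}`. Then `D = B^Γ + (P ∩ D)`: every element of `B` fixed by `D_P` is congruent modulo `P` to a
`Γ`-invariant element. Hence the residue field of `D` at `P ∩ D` is that of `B^Γ` at `P ∩ B^Γ`; for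
an arbitrary prime `P` the same equality of residue fields follows by localising at `P ∩ B^Γ`. (The
published statement prints this residue field as `k(P)`; the proof establishes the equality with the
residue field of `B^Γ` stated here.) -/
theorem result
    (B : Type u) [CommRing B] (Γ : Type v) [Group Γ] [Finite Γ] [MulSemiringAction Γ B]
    (P : Ideal B) [P.IsMaximal] (x : B)
    (hx : ∀ γ : Γ, (∀ y : B, y ∈ P ↔ γ • y ∈ P) → γ • x = x) :
    ∃ c : B, (∀ γ : Γ, γ • c = c) ∧ x - c ∈ P := by
  classical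
  haveI : Fintype Γ := Fintype.ofFinite Γ
  -- the decomposition group
  let D : Subgroup Γ :=
    { carrier := {γ | ∀ y : B, y ∈ P ↔ γ • y ∈ P}
      mul_mem' := by
        intro a b ha hb y
        rw [mul_smul, ← ha, ← hb]
      one_mem' := by intro y; rw [one_smul]
      inv_mem' := by
        intro a ha y
        have := ha (a⁻¹ • y)
        rw [smul_inv_smul] at this
        exact this.symm }
  have hD_mem : ∀ γ, γ ∈ D ↔ ∀ y : B, y ∈ P ↔ γ • y ∈ P := fun γ => Iff.rfl
  -- conjugate ideals
  let Q : Γ → Ideal B := fun γ => Ideal.comap (MulSemiringAction.toRingHom Γ B γ) P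
  have hQ_mem : ∀ γ y, y ∈ Q γ ↔ γ • y ∈ P := fun γ y => Iff.rfl
  have hQ_max : ∀ γ, (Q γ).IsMaximal := fun γ =>
    Ideal.comap_isMaximal_of_surjective _ (MulAction.surjective γ)
  have hQ_ne : ∀ γ, γ ∉ D → ¬ (Q γ ≤ P) := by
    intro γ hγ hle
    have heq : Q γ = P := (hQ_max γ).eq_of_le (Ideal.IsMaximal.ne_top inferInstance) hle
    apply hγ
    intro y
    rw [← hQ_mem, heq]
  -- CRT element
  let J : Ideal B := (Finset.univ.filter (fun γ => γ ∉ D)).inf Q
  have hJP : ¬ (J ≤ P) := by
    intro hle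
    obtain ⟨γ, hγ, hle'⟩ := (Ideal.IsPrime.inf_le' (Ideal.IsMaximal.isPrime inferInstance)).mp hle
    exact hQ_ne γ (Finset.mem_filter.mp hγ).2 hle'
  have hsup : P ⊔ J = ⊤ := by
    by_contra hne
    have := (Ideal.IsMaximal.eq_of_le (inferInstance : P.IsMaximal) hne le_sup_left)
    exact hJP (this ▸ le_sup_right)
  obtain ⟨a, ha, z, hz, haz⟩ := Submodule.mem_sup.mp (hsup ▸ Submodule.mem_top : (1 : B) ∈ P ⊔ J)
  have hzQ : ∀ γ, γ ∉ D → z ∈ Q γ := by
    intro γ hγ
    have : J ≤ Q γ := Finset.inf_le (Finset.mem_filter.mpr ⟨Finset.mem_univ _, hγ⟩)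
    exact this hz
  have hz1 : Ideal.Quotient.mk P z = 1 := by
    rw [← map_one (Ideal.Quotient.mk P), ← haz, map_add, Ideal.Quotient.eq_zero_iff_mem.mpr ha,
      zero_add]
  -- D-invariant version
  let z' : B := ∏ δ : D, (δ : Γ) • z
  have hz'_inv : ∀ δ' : D, (δ' : Γ) • z' = z' := by
    intro δ'
    simp only [z', Finset.smul_prod', smul_smul]
    exact Fintype.prod_equiv (Equiv.mulLeft δ') _ _ (fun δ => rfl)
  have hmkD : ∀ (δ : D) (b : B), Ideal.Quotient.mk P b = 1 → Ideal.Quotient.mk P ((δ : Γ) • b) = 1 := by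
    intro δ b hb
    rw [← map_one (Ideal.Quotient.mk P), Ideal.Quotient.eq] at hb ⊢
    have := (δ.2 (b - 1)).mp hb
    rwa [smul_sub, smul_one] at this
  have hz'1 : Ideal.Quotient.mk P z' = 1 := by
    simp only [z', map_prod]
    exact Finset.prod_eq_one (fun δ _ => hmkD δ z hz1)
  have hz'Q : ∀ γ, γ ∉ D → z' ∈ Q γ := by
    intro γ hγ
    have h1 : ((1 : D) : Γ) • z ∈ Q γ := by rw [Subgroup.coe_one, one_smul]; exact hzQ γ hγ
    exact Ideal.prod_mem (Q γ) (Finset.mem_univ (1 : D)) h1
  -- y
  let y : B := x * z'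
  have hy_inv : ∀ δ : Γ, δ ∈ D → δ • y = y := by
    intro δ hδ
    simp only [y, smul_mul']
    rw [hx δ hδ, hz'_inv ⟨δ, hδ⟩]
  have hyx : Ideal.Quotient.mk P y = Ideal.Quotient.mk P x := by
    simp only [y, map_mul, hz'1, mul_one]
  have hyP : ∀ γ, γ ∉ D → γ • y ∈ P := by
    intro γ hγ
    simp only [y, smul_mul']
    exact P.mul_mem_left _ ((hQ_mem γ z').mp (hz'Q γ hγ))
  -- coset sum
  let φ : Γ ⧸ D → B := fun q => Quotient.liftOn' q (fun γ => γ • y) (by
    intro a b hab
    rw [QuotientGroup.leftRel_apply] at hab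
    have := hy_inv _ hab
    calc a • y = a • ((a⁻¹ * b) • y) := by rw [this]
      _ = b • y := by rw [smul_smul, mul_inv_cancel_left])
  have hφ_mk : ∀ γ : Γ, φ (QuotientGroup.mk γ) = γ • y := fun γ => rfl
  let c : B := ∑ q : Γ ⧸ D, φ q
  refine ⟨c, ?_, ?_⟩
  · intro σ
    simp only [c, Finset.smul_sum]
    refine Fintype.sum_equiv (MulAction.toPerm σ) _ _ ?_
    intro q
    induction q using QuotientGroup.induction_on with
    | H γ =>
      rw [hφ_mk, MulAction.toPerm_apply]
      show σ • γ • y = φ (QuotientGroup.mk (σ * γ))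
      rw [hφ_mk, mul_smul]
  · rw [← Ideal.Quotient.eq]
    simp only [c]
    rw [← Finset.add_sum_erase _ _ (Finset.mem_univ (QuotientGroup.mk 1 : Γ ⧸ D)), map_add, hφ_mk,
      one_smul, hyx]
    have : Ideal.Quotient.mk P (∑ q ∈ Finset.univ.erase (QuotientGroup.mk 1 : Γ ⧸ D), φ q) = 0 := by
      rw [Ideal.Quotient.eq_zero_iff_mem]
      apply Ideal.sum_mem
      intro q hq
      have hq1 : q ≠ QuotientGroup.mk 1 := (Finset.mem_erase.mp hq).1
      induction q using QuotientGroup.induction_on with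
      | H γ =>
        rw [hφ_mk]
        apply hyP
        intro hγ
        apply hq1
        rw [QuotientGroup.eq]
        simpa using D.inv_mem hγ
    rw [this, add_zero]

end Groth.Agent.S12936
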