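import Groth.Statements.S12946
-- import your own Groth.Agent.* helpers here
import Groth.Agent.Lib.Helper3.AlgSpLocP5


set_option autoImplicit false
universe u
open CategoryTheory AlgebraicGeometry
open AlgSt

namespace Groth.Agent.S12946

/-- A DM morphism of algebraic stacks is quasi-DM (an unramified morphism of algebraic spaces being
locally quasi-finite). -/
theorem result
    (S : Scheme.{u}) (𝒳 : AlgSt.Cat S) (𝒴 : AlgSt.Cat S)
    (h𝒳 : AlgSt.IsAlgStack Scheme.fppfPrecoverage 𝒳)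
    (h𝒴 : AlgSt.IsAlgStack Scheme.fppfPrecoverage 𝒴)
    (f : 𝒳 ⥤ᵇ 𝒴) :
    AlgSt.IsDMMor f → AlgSt.IsQuasiDMMor f := by
  intro hf U y
  obtain ⟨F, e, he, h⟩ := hf U y
  refine ⟨F, e, he, Groth.Agent.Lib.Helper3.locP_mono ?_ h⟩
  intro A B k hk
  have := hk.1
  have := hk.2
  exact ⟨Groth.Agent.Lib.Helper3.locallyQuasiFinite_of_unramified k, hk.1⟩

end Groth.Agent.S12946
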