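import Groth.Statements.S12953
-- import your own Groth.Agent.* helpers here
import Groth.Agent.Lib.Helper27.DiagComp
import Groth.Agent.S10536
import Groth.Agent.Lib.Helper3.AlgSpProper


set_option autoImplicit false
universe u
open CategoryTheory AlgebraicGeometry
open AlgSt

namespace Groth.Agent.S12953

/-- The composition of two separated morphisms of algebraic stacks is separated (separated: the diagonal
is representable by algebraic spaces and proper). -/
theorem result
    (S : Scheme.{u}) (𝒳 : AlgSt.Cat S) (𝒴 : AlgSt.Cat S) (𝒵 : AlgSt.Cat S)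
    (h𝒳 : AlgSt.IsAlgStack Scheme.fppfPrecoverage 𝒳)
    (h𝒴 : AlgSt.IsAlgStack Scheme.fppfPrecoverage 𝒴)
    (h𝒵 : AlgSt.IsAlgStack Scheme.fppfPrecoverage 𝒵)
    (f : 𝒳 ⥤ᵇ 𝒴) (g : 𝒴 ⥤ᵇ 𝒵) :
    AlgSt.IsSeparatedMor f → AlgSt.IsSeparatedMor g → AlgSt.IsSeparatedMor (BasedFunctor.comp f g) := by
  intro hf hg
  refine Groth.Agent.Lib.Helper27.DiagComp.repByAlgSpWith_diag_comp f g _
    (Groth.Agent.Lib.Helper27.RepWithComp.compHyp_of_fppf _ ?_
      (Groth.Agent.Lib.Helper27.RepWithComp.isLocalOnBase_fppf_of_fpqc _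
        (Groth.Agent.S10536.result S)))
    h𝒳.isStack.1 h𝒴.isStack.1 hf hg
  intro X Y Z hX hY hZ a b ha hb
  exact Groth.Agent.Lib.Helper3.isProperMor_comp hX hY hZ ha hb

end Groth.Agent.S12953
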