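import Groth.Statements.S12955
-- import your own Groth.Agent.* helpers here
import Groth.Agent.Lib.Helper27.DiagComp
import Groth.Agent.S10519
import Groth.Agent.S10520
import Groth.Agent.Lib.Helper3.AlgSpProper


set_option autoImplicit false
universe u
open CategoryTheory AlgebraicGeometry
open AlgSt

namespace Groth.Agent.S12955

/-- The composition of two quasi-separated morphisms of algebraic stacks is quasi-separated
(quasi-separated: the diagonal is representable by algebraic spaces and quasi-compact and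
quasi-separated). -/
theorem result
    (S : Scheme.{u}) (𝒳 : AlgSt.Cat S) (𝒴 : AlgSt.Cat S) (𝒵 : AlgSt.Cat S)
    (h𝒳 : AlgSt.IsAlgStack Scheme.fppfPrecoverage 𝒳)
    (h𝒴 : AlgSt.IsAlgStack Scheme.fppfPrecoverage 𝒴)
    (h𝒵 : AlgSt.IsAlgStack Scheme.fppfPrecoverage 𝒵)
    (f : 𝒳 ⥤ᵇ 𝒴) (g : 𝒴 ⥤ᵇ 𝒵) :
    AlgSt.IsQuasiSeparatedMor f → AlgSt.IsQuasiSeparatedMor g → AlgSt.IsQuasiSeparatedMor (BasedFunctor.comp f g) := by
  intro hf hg
  refine Groth.Agent.Lib.Helper27.DiagComp.repByAlgSpWith_diag_comp f g _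
    (Groth.Agent.Lib.Helper27.RepWithComp.compHyp_of_fppf _ ?_
      (Groth.Agent.Lib.Helper27.RepWithComp.isLocalOnBase_fppf_of_fpqc _ ?_))
    h𝒳.isStack.1 h𝒴.isStack.1 hf hg
  · intro X Y Z hX hY hZ a b ha hb
    refine ⟨Groth.Agent.Lib.Helper3.isQuasiCompactMor_comp hY hZ.diag ha.1 hb.1, ?_⟩
    have h1 : (AlgSp.RepWith (S := S) @QuasiCompact).diagonal a := ha.2
    have h2 : (AlgSp.RepWith (S := S) @QuasiCompact).diagonal b := hb.2
    exact MorphismProperty.comp_mem (AlgSp.RepWith (S := S) @QuasiCompact).diagonal a b h1 h2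
  · intro ι Y Yi g hY hYi hcov X f hX Xi p q hXi sq
    have h1 := Groth.Agent.S10519.result S Yi g hY hYi hcov f hX Xi p q hXi sq
    have h2 := Groth.Agent.S10520.result S Yi g hY hYi hcov f hX Xi p q hXi sq
    constructor
    · intro h i
      exact ⟨h1.1 h.1 i, h2.1 h.2 i⟩
    · intro h
      exact ⟨h1.2 fun i => (h i).1, h2.2 fun i => (h i).2⟩

end Groth.Agent.S12955
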