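import Groth.Statements.S12969
-- import your own Groth.Agent.* helpers here
import Groth.Agent.Lib.Helper27.DiagProp
import Groth.Agent.S10543


set_option autoImplicit false
universe u
open CategoryTheory AlgebraicGeometry
open AlgSt

namespace Groth.Agent.S12969

/-- Let 𝒳 be an algebraic stack and W → 𝒳 a surjective, flat, locally finitely presented morphism from
an algebraic space which is moreover unramified. Then 𝒳 is DM over the base scheme: its diagonal
over the base is unramified. (The published statement concludes DM over the integers; this row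
concludes it over the base scheme, which is equivalent for algebraic stacks.) -/
theorem result
    (S : Scheme.{u}) (𝒳 : AlgSt.Cat S)
    (h𝒳 : AlgSt.IsAlgStack Scheme.fppfPrecoverage 𝒳)
    (W : AlgSp.Space S) (w : AlgSt.ofSp W.obj ⥤ᵇ 𝒳)
    (hw₁ : AlgSt.RepByAlgSpWith (AlgSp.LocP @Flat) w)
    (hw₂ : AlgSt.RepByAlgSpWith (AlgSp.LocP @LocallyOfFinitePresentation) w)
    (hw₃ : AlgSt.RepByAlgSpWith AlgSp.IsSurjectiveMor w)
    (hw₄ : AlgSt.RepByAlgSpWith (AlgSp.LocP (@LocallyOfFiniteType ⊓ @FormallyUnramified)) w) :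
    AlgSt.IsDMOver 𝒳 := by
  exact Groth.Agent.Lib.Helper27.DiagProp.prop_diag_toSelf _
    (Groth.Agent.Lib.Helper27.RepWithComp.compHyp_locP Groth.Agent.Lib.Helper3.isEtLocal_unramified)
    (Groth.Agent.Lib.Helper27.RepWithComp.isLocalOnBase_fppf_of_fpqc _ (Groth.Agent.S10543.result S))
    (fun k hk => Groth.Agent.Lib.Helper27.DiagRep.isDMMor_of_repByAlgSp1 k hk)
    h𝒳.isStack.1 h𝒳.diag (Stk.isFibGrpd_ofPsh (P := W.obj.obj))
    ⟨W, BasedFunctor.id _, Groth.Agent.Lib.Helper27.FpKit.isEquivOver_id _⟩ w hw₁ hw₂ hw₃ hw₄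

end Groth.Agent.S12969
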