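import Groth.Statements.S12974
-- import your own Groth.Agent.* helpers here
import Groth.Agent.Lib.Helper27.InertiaDM


set_option autoImplicit false
universe u
open CategoryTheory AlgebraicGeometry
open AlgSt

namespace Groth.Agent.S12974

/-- For a morphism f : 𝒳 → 𝒴 of algebraic stacks, the relative inertia 𝓘_{𝒳/𝒴} → 𝒳 is unramified if and
only if f is DM. -/
theorem result
    (S : Scheme.{u}) (𝒳 : AlgSt.Cat S) (𝒴 : AlgSt.Cat S)
    (h𝒳 : AlgSt.IsAlgStack Scheme.fppfPrecoverage 𝒳)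
    (h𝒴 : AlgSt.IsAlgStack Scheme.fppfPrecoverage 𝒴)
    (f : 𝒳 ⥤ᵇ 𝒴) :
    AlgSt.RepByAlgSpWith (AlgSp.LocP (@LocallyOfFiniteType ⊓ @FormallyUnramified)) (FibCat.inertiaToBase f) ↔
      AlgSt.IsDMMor f := by
  constructor
  · intro h
    have h1 := Groth.Agent.Lib.Helper27.InertiaDM.openImm_diag_of_unram (FibCat.inertiaToBase f) h
    have h2 := Groth.Agent.Lib.Helper27.InertiaSep.neutral_of_diag_toBase f _ h1
    have h3 := Groth.Agent.Lib.Helper27.InertiaSep.diag_diag_of_neutral f _ h2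
    exact Groth.Agent.Lib.Helper27.InertiaDM.unram_of_openImm_diag (FibCat.diag f)
      (Groth.Agent.Lib.Helper27.DiagLft.lft_diag_of_algStack h𝒳 h𝒴.isStack.1 h𝒴.diag f) h3
  · intro h
    exact Groth.Agent.Lib.Helper27.InertiaSep.inertiaToBase_of_diag f _ h

end Groth.Agent.S12974
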