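import Groth.Statements.S12980
-- import your own Groth.Agent.* helpers here
import Groth.Agent.Lib.Helper27.SepDiag


set_option autoImplicit false
universe u
open CategoryTheory AlgebraicGeometry
open AlgSt

namespace Groth.Agent.S12980

/-- A morphism f of algebraic stacks is quasi-separated if and only if its first and second diagonals
are both quasi-compact (as morphisms representable by algebraic spaces). -/
theorem result
    (S : Scheme.{u}) (𝒳 : AlgSt.Cat S) (𝒴 : AlgSt.Cat S)
    (h𝒳 : AlgSt.IsAlgStack Scheme.fppfPrecoverage 𝒳)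
    (h𝒴 : AlgSt.IsAlgStack Scheme.fppfPrecoverage 𝒴)
    (f : 𝒳 ⥤ᵇ 𝒴) :
    AlgSt.IsQuasiSeparatedMor f ↔
      AlgSt.RepByAlgSpWith AlgSp.IsQuasiCompactMor (FibCat.diag f) ∧
        AlgSt.RepByAlgSpWith AlgSp.IsQuasiCompactMor (FibCat.diag (FibCat.diag f)) := by
  constructor
  · intro h
    exact ⟨Groth.Agent.Lib.Helper27.SepDiag.repByAlgSpWith_mono (FibCat.diag f)
        (fun _ _ g hg => hg.1) h,
      Groth.Agent.Lib.Helper27.SepDiag.qc_diag_of_qs (FibCat.diag f)
        (Groth.Agent.Lib.Helper27.SepDiag.repByAlgSpWith_mono (FibCat.diag f)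
          (fun _ _ g hg => hg.2) h)⟩
  · rintro ⟨h1, h2⟩
    have hd : AlgSt.RepByAlgSp1 (FibCat.diag f) :=
      Groth.Agent.Lib.Helper27.DiagRep.repByAlgSp1_of_with (FibCat.diag f) h1
    exact Groth.Agent.Lib.Helper27.SepDiag.repByAlgSpWith_inf (FibCat.diag f) _ _
      (Groth.Agent.Lib.Helper27.RepWithComp.isLocalOnBase_fppf_of_fpqc _
        (Groth.Agent.S10520.result S)) h1
      (Groth.Agent.Lib.Helper27.SepDiag.qs_of_qc_diag (FibCat.diag f) hd h2)

end Groth.Agent.S12980
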