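import Groth.Statements.S12988
-- import your own Groth.Agent.* helpers here
import Groth.Agent.Lib.Helper27.QcProd
import Groth.Agent.Lib.Helper27.ImmNoeth2


set_option autoImplicit false
universe u
open CategoryTheory AlgebraicGeometry
open AlgSt

namespace Groth.Agent.S12988

/-- Over a quasi-separated base scheme, a 2-fibre product of algebraic stacks that are quasi-compact and
quasi-separated over the base scheme is quasi-compact and quasi-separated over the base scheme. (The
published statement is about stacks quasi-compact and quasi-separated over the integers and puts no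
condition on the base scheme; this row assumes the base scheme quasi-separated and uses
quasi-separatedness over it. Without quasi-separatedness of the base the quasi-compactness
conclusion fails: for the base glued from two copies of infinite-dimensional affine space along the
complement of the origin, the two copies are quasi-compact and quasi-separated over the base while
their fibre product over the base is that complement, which is not quasi-compact.) -/
theorem result
    (S : Scheme.{u}) [QuasiSeparatedSpace S] (𝒳 : AlgSt.Cat S) (𝒴 : AlgSt.Cat S) (𝒵 : AlgSt.Cat S)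
    (h𝒳 : AlgSt.IsAlgStack Scheme.fppfPrecoverage 𝒳)
    (h𝒴 : AlgSt.IsAlgStack Scheme.fppfPrecoverage 𝒴)
    (h𝒵 : AlgSt.IsAlgStack Scheme.fppfPrecoverage 𝒵)
    (a : 𝒳 ⥤ᵇ 𝒴) (b : 𝒵 ⥤ᵇ 𝒴) :
    AlgSt.IsQuasiCompact 𝒳 → AlgSt.IsQuasiSeparatedOver 𝒳 →
      AlgSt.IsQuasiCompact 𝒴 → AlgSt.IsQuasiSeparatedOver 𝒴 →
      AlgSt.IsQuasiCompact 𝒵 → AlgSt.IsQuasiSeparatedOver 𝒵 →
      AlgSt.IsQuasiCompact (FibCat.fp a b) ∧ AlgSt.IsQuasiSeparatedOver (FibCat.fp a b) := by
  intro h𝒳q h𝒳s h𝒴q h𝒴s h𝒵q h𝒵s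
  have hself := Groth.Agent.Lib.Helper27.AlgStackRep.isAlgStack_selfOver (S := S)
  have hfs := Groth.Agent.Lib.Helper27.ReprDiag.isFibGrpd_selfOver (C := Over S)
  constructor
  · let t := FibCat.toSelf 𝒴
    let c := Groth.Agent.Lib.Helper27.CompareDiag.cmp a b t
      (Groth.Agent.Lib.Helper27.AlgStackFp.eT a b t)
    have hc : AlgSt.RepByAlgSpWith AlgSp.IsQuasiCompactMor c :=
      Groth.Agent.Lib.Helper27.CompareDiag.repByAlgSpWith_cmp a b t _
        (Groth.Agent.Lib.Helper27.AlgStackFp.heT a b t) _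
        (Groth.Agent.Lib.Helper27.SepDiag.repByAlgSpWith_mono (FibCat.diag t)
          (fun _ _ _ h => h.1) h𝒴s)
    have hP : AlgSt.IsAlgStack Scheme.fppfPrecoverage
        (FibCat.fp (BasedFunctor.comp a t) (BasedFunctor.comp b t)) :=
      Groth.Agent.Lib.Helper27.AlgStackFp.isAlgStack_fp _ _ hself.isStack hself.diag h𝒳 h𝒵
    have hPq : AlgSt.IsQuasiCompact (FibCat.fp (BasedFunctor.comp a t) (BasedFunctor.comp b t)) :=
      Groth.Agent.Lib.Helper27.QcProd.isQuasiCompact_prod h𝒳.isStack.1 h𝒳q h𝒵q _ _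
    exact Groth.Agent.Lib.Helper27.ImmNoeth.isQuasiCompact_of_isQuasiCompactMor hP hPq c
      (Groth.Agent.Lib.Helper27.QcStack.isQuasiCompactMor_of_repByAlgSpWith c hc)
  · have hb : AlgSt.IsQuasiSeparatedMor b := by
      refine Groth.Agent.Lib.Helper27.DiagCancel.isQuasiSeparatedMor_of_comp b (FibCat.toSelf 𝒴)
        h𝒵.isStack.1 h𝒴.isStack.1 hfs ?_
        (Groth.Agent.Lib.Helper27.SepDiag.repByAlgSpWith_mono (FibCat.diag (FibCat.toSelf 𝒴))
          (fun _ _ _ h => h.2) h𝒴s)
      rw [Groth.Agent.Lib.Helper27.DiagCancel.comp_toSelf]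
      exact h𝒵s
    have h1 := Groth.Agent.Lib.Helper27.DiagRepWith.repByAlgSpWith_diag_fpFst _ b a hb
    have h2 := Groth.Agent.Lib.Helper27.DiagComp.repByAlgSpWith_diag_comp (FibCat.fpFst a b)
      (FibCat.toSelf 𝒳) _ Groth.Agent.Lib.Helper27.DiagCancel.compHyp_qcqs
      (Groth.Agent.Lib.Helper27.FpFib.isFibGrpd_fp a b h𝒳.isStack.1 h𝒵.isStack.1 h𝒴.isStack.1)
      h𝒳.isStack.1 h1 h𝒳s
    rw [Groth.Agent.Lib.Helper27.DiagCancel.comp_toSelf] at h2
    exact h2

end Groth.Agent.S12988
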