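import Groth.Statements.S12992
-- import your own Groth.Agent.* helpers here
import Groth.Agent.Lib.Helper27.LocQSpace
import Groth.Agent.S10566


set_option autoImplicit false
universe u
open CategoryTheory AlgebraicGeometry
open AlgSt

namespace Groth.Agent.S12992

/-- Let P be smooth local on the source-and-target and a : F → G a morphism of algebraic spaces. Then
the associated functor of categories over the base has P read on smooth scheme charts if and only if
a has P. -/
theorem result
    (S : Scheme.{u}) (P : MorphismProperty (AlgSp.Sp S)) (hP : AlgSp.IsSmoothLocalST P)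
    (F G : AlgSp.Space S) (a : F ⟶ G) :
    AlgSt.LocQ P (AlgSt.ofSpMap a.hom) ↔ P a.hom := by
  constructor
  · intro hf
    obtain ⟨U, V, x, y, h, α, hx₁, hx₂, hy₁, hPh⟩ :=
      Groth.Agent.Lib.Helper27.LocQSpace.space_charts_of_locQ (AlgSt.ofSpMap a.hom) P hf
    have hA : ∀ (R : MorphismProperty (AlgSp.Sp S)) {X Y : AlgSp.Space S}
        (k : AlgSt.ofSp X.obj ⥤ᵇ AlgSt.ofSp Y.obj), AlgSt.RepByAlgSpWith R k →
        AlgSt.RepByAlgSpWith R (AlgSt.ofSpMap
          (ObjectProperty.homMk (Groth.Agent.Lib.Helper27.PshKit.pshMapOf k) : X.obj ⟶ Y.obj)) :=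
      fun R X Y k hR =>
        Groth.Agent.Lib.Helper27.RepWithGeneral.repByAlgSpWith_of_equiv R k _
          (BasedFunctor.id _) (BasedFunctor.id _) (Groth.Agent.Lib.Helper27.FpKit.isEquivOver_id _)
          (Groth.Agent.Lib.Helper27.FpKit.isEquivOver_id _)
          (Groth.Agent.Lib.Helper27.PshKit.τIso k) hR
    have hx₁' := Groth.Agent.Lib.Helper27.LocQSpace.prop_of_repByAlgSpWith _
      (Groth.Agent.Lib.Helper27.RepWithComp.compHyp_locP Groth.Agent.Lib.Helper3.isEtLocal_smooth)
      U.property F.property _ (hA _ x hx₁)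
    have hx₂' := Groth.Agent.Lib.Helper27.LocQSpace.prop_of_repByAlgSpWith _
      Groth.Agent.Lib.Helper27.DiagLft.compHyp_isSurjectiveMor
      U.property F.property _ (hA _ x hx₂)
    have hy₁' := Groth.Agent.Lib.Helper27.LocQSpace.prop_of_repByAlgSpWith _
      (Groth.Agent.Lib.Helper27.RepWithComp.compHyp_locP Groth.Agent.Lib.Helper3.isEtLocal_smooth)
      V.property G.property _ (hA _ y hy₁)
    have e : Groth.Agent.Lib.Helper27.PshKit.pshMapOf x ≫ a.hom.hom =
        h.hom.hom ≫ Groth.Agent.Lib.Helper27.PshKit.pshMapOf y := by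
      have h1 := Groth.Agent.Lib.Helper27.PshKit.pshMapOf_congr _ _
        (fun t => ⟨α.hom.toNatTrans.app t, Groth.Agent.Lib.Helper27.FpKit.Vert.app α.hom t⟩)
      rw [Groth.Agent.Lib.Helper27.PshKit.pshMapOf_comp,
        Groth.Agent.Lib.Helper27.PshKit.pshMapOf_comp,
        Groth.Agent.Lib.Helper27.PshKit.pshMapOf_ofPshMap,
        Groth.Agent.Lib.Helper27.PshKit.pshMapOf_ofPshMap] at h1
      exact h1
    refine ((Groth.Agent.S10566.result hP a).1).2 ⟨U, V,
      ObjectProperty.homMk (ObjectProperty.homMk (Groth.Agent.Lib.Helper27.PshKit.pshMapOf x)),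
      ObjectProperty.homMk (ObjectProperty.homMk (Groth.Agent.Lib.Helper27.PshKit.pshMapOf y)),
      h, hx₁', hy₁', hx₂', ?_, hPh⟩
    apply ObjectProperty.hom_ext
    apply ObjectProperty.hom_ext
    exact e
  · intro ha
    have hid : ∀ (R : MorphismProperty (AlgSp.Sp S)) (Qs : MorphismProperty Scheme.{u})
        [Qs.IsStableUnderBaseChange] [Qs.IsMultiplicative]
        (hQ : ∀ ⦃X Y : AlgSp.Sp S⦄ (k : X ⟶ Y), AlgSp.RepWith Qs k → R k) (X : AlgSp.Space S),
        AlgSt.RepByAlgSpWith R (BasedFunctor.id (AlgSt.ofSp X.obj)) :=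
      fun R Qs _ _ hQ X =>
        Groth.Agent.Lib.Helper27.LocQSpace.repByAlgSpWith_ofSpMap_of_repWith Qs R hQ X.property
          X.property (𝟙 X.obj) ((AlgSp.RepWith (S := S) Qs).id_mem X.obj)
    exact Groth.Agent.Lib.Helper27.LocQSpace.locQ_of_space_charts (AlgSt.ofSpMap a.hom) P hP F G
      (BasedFunctor.id _) (BasedFunctor.id _) a (Iso.refl _)
      (hid _ @Etale Groth.Agent.Lib.Helper27.LocQSpace.smooth_of_etale F)
      (hid _ @Surjective Groth.Agent.Lib.Helper27.LocQSpace.surj_of_surj F)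
      (hid _ @Etale Groth.Agent.Lib.Helper27.LocQSpace.smooth_of_etale G) ha

end Groth.Agent.S12992
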