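import Groth.Statements.S12997
-- import your own Groth.Agent.* helpers here
import Groth.Agent.Lib.Helper27.LocQChart


set_option autoImplicit false
universe u
open CategoryTheory AlgebraicGeometry
open AlgSt

namespace Groth.Agent.S12997

/-- An open immersion of algebraic stacks is locally of finite presentation. -/
theorem result
    (S : Scheme.{u}) (𝒳 : AlgSt.Cat S) (𝒴 : AlgSt.Cat S)
    (h𝒳 : AlgSt.IsAlgStack Scheme.fppfPrecoverage 𝒳)
    (h𝒴 : AlgSt.IsAlgStack Scheme.fppfPrecoverage 𝒴)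
    (f : 𝒳 ⥤ᵇ 𝒴) :
    AlgSt.IsOpenImm f → AlgSt.LocQ (AlgSp.LocP @LocallyOfFinitePresentation) f := by
  intro hf
  obtain ⟨V, y, hy₁, hy₂⟩ := h𝒴.atlas
  refine Groth.Agent.Lib.Helper27.LocQChart.locQ_of_repWith @IsOpenImmersion _ ?_ f y hy₁ hy₂ hf
  intro U' V' h hh
  have : IsOpenImmersion h.left := hh
  exact Groth.Agent.Lib.Helper3.locP_of_repWith Groth.Agent.Lib.Helper3.isEtLocal_locallyOfFinitePresentation _
    ((AlgSp.repWith_yon_map_iff @LocallyOfFinitePresentation h).2 inferInstance)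

end Groth.Agent.S12997
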