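import Groth.Statements.S12998
-- import your own Groth.Agent.* helpers here
import Groth.Agent.Lib.Helper27.SmoothLoc
import Groth.Agent.Lib.Helper3.NoethDescent


set_option autoImplicit false
universe u
open CategoryTheory AlgebraicGeometry
open AlgSt

namespace Groth.Agent.S12998

/-- For a morphism of algebraic stacks f : 𝒳 → 𝒴 that is locally of finite type, local Noetherianity of
𝒴 implies local Noetherianity of 𝒳 (locally Noetherian: every scheme smooth over the stack is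
locally Noetherian). -/
theorem result
    (S : Scheme.{u}) (𝒳 : AlgSt.Cat S) (𝒴 : AlgSt.Cat S)
    (h𝒳 : AlgSt.IsAlgStack Scheme.fppfPrecoverage 𝒳)
    (h𝒴 : AlgSt.IsAlgStack Scheme.fppfPrecoverage 𝒴)
    (f : 𝒳 ⥤ᵇ 𝒴) :
    AlgSt.LocQ (AlgSp.LocP @LocallyOfFiniteType) f → AlgSt.SmoothLocally (fun T ↦ IsLocallyNoetherian T) 𝒴 → AlgSt.SmoothLocally (fun T ↦ IsLocallyNoetherian T) 𝒳 := by
  intro hf h𝒴N U' x' hx'₁
  obtain ⟨U, V, x, y, h, α, hx₁, hx₂, hy₁, hPh⟩ := hf
  have hV : IsLocallyNoetherian V.left := h𝒴N V y hy₁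
  have hl : LocallyOfFiniteType h.left := AlgSp.locP_yon_map hPh
  have hU : IsLocallyNoetherian U.left := LocallyOfFiniteType.isLocallyNoetherian h.left
  obtain ⟨T, τ₁, τ₂, hs₁, hj₁, hs₂⟩ :=
    Groth.Agent.Lib.Helper27.SmoothLoc.exists_common_chart x hx₁ hx₂ x' hx'₁
  have hT : IsLocallyNoetherian T.left := LocallyOfFiniteType.isLocallyNoetherian τ₂.left
  have : Surjective τ₁.left := ⟨hj₁⟩
  exact Groth.Agent.Lib.Helper3.isLocallyNoetherian_of_flat_lfp_surjective τ₁.left

end Groth.Agent.S12998
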