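import Groth.Statements.S13002
-- import your own Groth.Agent.* helpers here
import Groth.Agent.Lib.Helper27.LocQTriple
import Groth.Agent.Lib.Helper27.SmLocP


set_option autoImplicit false
universe u
open CategoryTheory AlgebraicGeometry
open AlgSt

namespace Groth.Agent.S13002

/-- If f : 𝒳 → 𝒴 and g : 𝒴 → 𝒵 are morphisms of algebraic stacks whose composite is locally of finite
type, then f itself is locally of finite type. -/
theorem result
    (S : Scheme.{u}) (𝒳 : AlgSt.Cat S) (𝒴 : AlgSt.Cat S) (𝒵 : AlgSt.Cat S)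
    (h𝒳 : AlgSt.IsAlgStack Scheme.fppfPrecoverage 𝒳)
    (h𝒴 : AlgSt.IsAlgStack Scheme.fppfPrecoverage 𝒴)
    (h𝒵 : AlgSt.IsAlgStack Scheme.fppfPrecoverage 𝒵)
    (f : 𝒳 ⥤ᵇ 𝒴) (g : 𝒴 ⥤ᵇ 𝒵) :
    AlgSt.LocQ (AlgSp.LocP @LocallyOfFiniteType) (BasedFunctor.comp f g) → AlgSt.LocQ (AlgSp.LocP @LocallyOfFiniteType) f := by
  intro H
  open Groth.Agent.Lib.Helper27 Groth.Agent.Lib.Helper3 in
  obtain ⟨U, V, W, x, y, z, h, k, α, β, hx₁, hx₂, hy₁, hy₂, hz₁, hc₂, hPhk⟩ :=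
    LocQTriple.exists_triple_chart _ SmLocP.isSmoothLocalST_locP_lft h𝒳 h𝒴 h𝒵 f g H
  refine ⟨U, V, x, y, h, α, hx₁, hx₂, hy₁, ?_⟩
  have h1 : LocallyOfFiniteType (h ≫ k).left := AlgSp.locP_yon_map hPhk
  rw [Over.comp_left] at h1
  have h2 : LocallyOfFiniteType h.left := locallyOfFiniteType_of_comp h.left k.left
  exact Groth.Agent.Lib.Helper3.locP_of_repWith Groth.Agent.Lib.Helper3.isEtLocal_locallyOfFiniteType _
    ((AlgSp.repWith_yon_map_iff _ h).2 h2)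

end Groth.Agent.S13002
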