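import Groth.Statements.S13016
-- import your own Groth.Agent.* helpers here
import Groth.Agent.Lib.Helper27.DiagCancel


set_option autoImplicit false
universe u
open CategoryTheory AlgebraicGeometry
open AlgSt

namespace Groth.Agent.S13016

/-- In a 2-commutative triangle of algebraic stacks f : 𝒳 → 𝒴, a : 𝒳 → 𝒵, b : 𝒴 → 𝒵 with b ∘ f
2-isomorphic to a, if a is affine and the diagonal of b is affine then f is affine. -/
theorem result
    (S : Scheme.{u}) (𝒳 : AlgSt.Cat S) (𝒴 : AlgSt.Cat S) (𝒵 : AlgSt.Cat S)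
    (h𝒳 : AlgSt.IsAlgStack Scheme.fppfPrecoverage 𝒳)
    (h𝒴 : AlgSt.IsAlgStack Scheme.fppfPrecoverage 𝒴)
    (h𝒵 : AlgSt.IsAlgStack Scheme.fppfPrecoverage 𝒵)
    (f : 𝒳 ⥤ᵇ 𝒴) (a : 𝒳 ⥤ᵇ 𝒵) (b : 𝒴 ⥤ᵇ 𝒵) (e : BasedFunctor.comp f b ≅ a) :
    AlgSt.RepByAlgSpWith AlgSp.IsAffineMor a → AlgSt.RepByAlgSpWith AlgSp.IsAffineMor (FibCat.diag b) → AlgSt.RepByAlgSpWith AlgSp.IsAffineMor f := by
  intro ha hΔ
  have h1 : AlgSt.RepByAlgSpWith AlgSp.IsAffineMor (BasedFunctor.comp f b) := by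
    refine Groth.Agent.Lib.Helper27.RepWithGeneral.repByAlgSpWith_of_equiv AlgSp.IsAffineMor a
      (BasedFunctor.comp f b) (BasedFunctor.id _) (BasedFunctor.id _)
      (Groth.Agent.Lib.Helper27.FpKit.isEquivOver_id _)
      (Groth.Agent.Lib.Helper27.FpKit.isEquivOver_id _) ?_ ha
    exact e
  exact Groth.Agent.Lib.Helper27.DiagCancel.repByAlgSpWith_of_comp _
    Groth.Agent.Lib.Helper27.RepWithComp.compHyp_isAffineMor
    h𝒳.isStack.1 h𝒴.isStack.1 h𝒵.isStack.1 f b h1 hΔ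

end Groth.Agent.S13016
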