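import Groth.Statements.S13019
import Groth.Agent.Lib.Helper27.StPointsTop3
-- import your own Groth.Agent.* helpers here

set_option autoImplicit false
universe u
open CategoryTheory AlgebraicGeometry
open AlgSt

namespace Groth.Agent.S13019

open Groth.Agent.Lib.Helper27

/-- If 𝒳 is a locally Noetherian algebraic stack then its space of points is a locally Noetherian
topological space: every point has an open neighbourhood which is a Noetherian topological space. -/
theorem result
    (S : Scheme.{u}) (𝒳 : AlgSt.Cat S)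
    (h𝒳 : AlgSt.IsAlgStack Scheme.fppfPrecoverage 𝒳) :
    AlgSt.SmoothLocally (fun T ↦ IsLocallyNoetherian T) 𝒳 → ∀ x : AlgSt.Points 𝒳, ∃ U : Set (AlgSt.Points 𝒳), IsOpen U ∧ x ∈ U ∧ TopologicalSpace.NoetherianSpace U := by
  intro hLN x
  obtain ⟨Y, y, hy₁, hy₂⟩ := h𝒳.atlas
  have hYLN : IsLocallyNoetherian Y.left := hLN Y y hy₁
  have hsurj := StPoints.ofChart_surjective h𝒳.isStack.1 y hy₂
  have hcont := StPoints.continuous_ofChart h𝒳 y
  have hopen := StPoints.isOpenMap_ofChart_of_smooth h𝒳.isStack.1 y hy₁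
  obtain ⟨y₀, rfl⟩ := hsurj x
  obtain ⟨V, hV, hyV, -⟩ := exists_isAffineOpen_mem_and_subset (x := y₀) (U := ⊤) trivial
  have hNR : IsNoetherianRing Γ(Y.left, V) := IsLocallyNoetherian.component_noetherian ⟨V, hV⟩
  have hNS : TopologicalSpace.NoetherianSpace V := noetherianSpace_of_isAffineOpen V hV
  refine ⟨AlgSt.Points.ofChart y '' (V : Set ↥Y.left), hopen _ V.2, ⟨y₀, hyV, rfl⟩, ?_⟩
  have h1 : AlgSt.Points.ofChart y '' (V : Set ↥Y.left) =
      Set.range (fun v : V => AlgSt.Points.ofChart y v.1) := by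
    ext p
    constructor
    · rintro ⟨v, hv, rfl⟩
      exact ⟨⟨v, hv⟩, rfl⟩
    · rintro ⟨v, rfl⟩
      exact ⟨v.1, v.2, rfl⟩
  rw [h1]
  exact @TopologicalSpace.NoetherianSpace.range _ _ _ _ hNS _ (hcont.comp continuous_subtype_val)

end Groth.Agent.S13019
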