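import Groth.Statements.S13020
import Groth.Agent.Lib.Helper27.StPointsTop3
-- import your own Groth.Agent.* helpers here

set_option autoImplicit false
universe u
open CategoryTheory AlgebraicGeometry
open AlgSt

namespace Groth.Agent.S13020

open Groth.Agent.Lib.Helper27

/-- If 𝒳 is a quasi-compact locally Noetherian algebraic stack then its space of points is a Noetherian
topological space. -/
theorem result
    (S : Scheme.{u}) (𝒳 : AlgSt.Cat S)
    (h𝒳 : AlgSt.IsAlgStack Scheme.fppfPrecoverage 𝒳) :
    AlgSt.IsQuasiCompact 𝒳 → AlgSt.SmoothLocally (fun T ↦ IsLocallyNoetherian T) 𝒳 → TopologicalSpace.NoetherianSpace (AlgSt.Points 𝒳) := by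
  rintro ⟨U, x, hU, hx₁, hx₂⟩ hLN
  have hULN : IsLocallyNoetherian U.left := hLN U x hx₁
  have hUa : IsAffine U.left := hU
  have hsurj := StPoints.ofChart_surjective h𝒳.isStack.1 x hx₂
  have hcont := StPoints.continuous_ofChart h𝒳 x
  have hN : IsNoetherian U.left := { }
  have hNS : TopologicalSpace.NoetherianSpace U.left := inferInstance
  exact TopologicalSpace.noetherianSpace_of_surjective _ hcont hsurj

end Groth.Agent.S13020
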