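import Groth.Statements.S13021
import Groth.Agent.Lib.Helper27.StPointsTop3
import Groth.Agent.Lib.Helper25.TopChart
-- import your own Groth.Agent.* helpers here

set_option autoImplicit false
universe u
open CategoryTheory AlgebraicGeometry
open AlgSt

namespace Groth.Agent.S13021

open Groth.Agent.Lib.Helper27 Groth.Agent.Lib.Helper25.TopChart

/-- The space of points of a locally Noetherian algebraic stack is quasi-sober: every irreducible closed
subset has a generic point. -/
theorem result
    (S : Scheme.{u}) (𝒳 : AlgSt.Cat S)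
    (h𝒳 : AlgSt.IsAlgStack Scheme.fppfPrecoverage 𝒳) :
    AlgSt.SmoothLocally (fun T ↦ IsLocallyNoetherian T) 𝒳 → QuasiSober (AlgSt.Points 𝒳) := by
  intro hLN
  obtain ⟨Y, y, hy₁, hy₂⟩ := h𝒳.atlas
  have hYLN : IsLocallyNoetherian Y.left := hLN Y y hy₁
  have hsurj := StPoints.ofChart_surjective h𝒳.isStack.1 y hy₂
  have hcont := StPoints.continuous_ofChart h𝒳 y
  have hopen := StPoints.isOpenMap_ofChart_of_smooth h𝒳.isStack.1 y hy₁
  apply quasiSober_of_open_charts
  intro x
  obtain ⟨y₀, rfl⟩ := hsurj x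
  obtain ⟨V, hV, hyV, -⟩ := exists_isAffineOpen_mem_and_subset (x := y₀) (U := ⊤) trivial
  have hNR : IsNoetherianRing Γ(Y.left, V) := IsLocallyNoetherian.component_noetherian ⟨V, hV⟩
  have hNS : TopologicalSpace.NoetherianSpace V := noetherianSpace_of_isAffineOpen V hV
  have hQS : QuasiSober V := V.2.isOpenEmbedding_subtypeVal.quasiSober
  exact ⟨V, inferInstance, hNS, hQS, fun v => AlgSt.Points.ofChart y v.1,
    hcont.comp continuous_subtype_val, hopen.comp V.2.isOpenMap_subtype_val, ⟨⟨y₀, hyV⟩, rfl⟩⟩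

end Groth.Agent.S13021
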