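import Groth.Statements.S13041
import Mathlib.RingTheory.Flat.Basic
import Mathlib.RingTheory.Localization.FractionRing
-- import your own Groth.Agent.* helpers here

set_option autoImplicit false
universe u
open MaxMod

namespace Groth.Agent.S13041

/-- Let R be a domain with fraction field K, let A → B be a homomorphism of commutative R-algebras that
are flat over R, with B module-finite over A, such that the induced map K ⊗_R A → K ⊗_R B is
bijective. If the A-linear map Hom_A(B, A) → A evaluating at 1 is surjective, then A → B is
bijective. (The published statement concerns a finite morphism of flat schemes over a discrete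
valuation ring, with locally free relative dualizing sheaves, that is an isomorphism over a
schematically dense open and whose trace map on dualizing sheaves is surjective; this row is the
statement about rings to which the printed proof reduces it and which that proof establishes, and
the argument uses only that R is a domain.) -/
theorem result
    (R K A B : Type u) [CommRing R] [IsDomain R] [Field K] [Algebra R K] [IsFractionRing R K]
    [CommRing A] [CommRing B] [Algebra R A] [Algebra R B] [Algebra A B] [IsScalarTower R A B]
    [Module.Flat R A] [Module.Flat R B] [Module.Finite A B]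
    (hK : Function.Bijective
      (Algebra.TensorProduct.map (AlgHom.id R K) (IsScalarTower.toAlgHom R A B)))
    (htr : Function.Surjective (fun u : B →ₗ[A] A => u 1)) :
    Function.Bijective (algebraMap A B) := by
  open TensorProduct in
  obtain ⟨u, hu⟩ := htr 1
  have hu : u 1 = 1 := hu
  have hu' : ∀ a : A, u (algebraMap A B a) = a := by
    intro a
    rw [Algebra.algebraMap_eq_smul_one, map_smul, hu, smul_eq_mul, mul_one]
  refine ⟨Function.LeftInverse.injective hu', ?_⟩
  -- injectivity of B → K ⊗ B
  have hinjB : Function.Injective (fun b : B => (1 : K) ⊗ₜ[R] b) := by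
    have h1 := Module.Flat.rTensor_preserves_injective_linearMap (M := B) (Algebra.linearMap R K)
      (IsFractionRing.injective R K)
    have h2 : (fun b : B => (1 : K) ⊗ₜ[R] b) =
        (Algebra.linearMap R K).rTensor B ∘ (TensorProduct.lid R B).symm := by
      funext b
      simp
    rw [h2]
    exact h1.comp (TensorProduct.lid R B).symm.injective
  -- clearing denominators in K ⊗ A
  have hclear : ∀ y : K ⊗[R] A, ∃ r : R, r ≠ 0 ∧ ∃ a : A, r • y = (1 : K) ⊗ₜ[R] a := by
    intro y
    induction y using TensorProduct.induction_on with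
    | zero => exact ⟨1, one_ne_zero, 0, by simp⟩
    | tmul k a =>
      obtain ⟨n, d, hd, rfl⟩ := IsFractionRing.div_surjective (A := R) k
      have hd0 : d ≠ 0 := nonZeroDivisors.ne_zero hd
      refine ⟨d, hd0, n • a, ?_⟩
      rw [TensorProduct.smul_tmul', TensorProduct.tmul_smul, TensorProduct.smul_tmul']
      congr 1
      rw [Algebra.smul_def, Algebra.smul_def, mul_one]
      have : algebraMap R K d ≠ 0 := by
        rw [Ne, map_eq_zero_iff _ (IsFractionRing.injective R K)]; exact hd0
      exact mul_div_cancel₀ _ this
    | add y₁ y₂ h₁ h₂ =>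
      obtain ⟨r₁, hr₁, a₁, h₁⟩ := h₁
      obtain ⟨r₂, hr₂, a₂, h₂⟩ := h₂
      refine ⟨r₁ * r₂, mul_ne_zero hr₁ hr₂, r₂ • a₁ + r₁ • a₂, ?_⟩
      have e1 : (r₁ * r₂) • y₁ = (1 : K) ⊗ₜ[R] (r₂ • a₁) := by
        rw [mul_comm, mul_smul, h₁, TensorProduct.tmul_smul]
      have e2 : (r₁ * r₂) • y₂ = (1 : K) ⊗ₜ[R] (r₁ • a₂) := by
        rw [mul_smul, h₂, TensorProduct.tmul_smul]
      rw [smul_add, e1, e2, TensorProduct.tmul_add]
  intro b
  refine ⟨u b, ?_⟩
  set x := b - algebraMap A B (u b) with hx
  have hux : u x = 0 := by rw [hx, map_sub, hu', sub_self]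
  suffices x = 0 by rw [hx, sub_eq_zero] at this; exact this.symm
  obtain ⟨y, hy⟩ := hK.2 ((1 : K) ⊗ₜ[R] x)
  obtain ⟨r, hr, a, hra⟩ := hclear y
  have h3 : (1 : K) ⊗ₜ[R] (r • x) = (1 : K) ⊗ₜ[R] (algebraMap A B a) := by
    have := congrArg (Algebra.TensorProduct.map (AlgHom.id R K) (IsScalarTower.toAlgHom R A B)) hra
    rw [map_smul, hy] at this
    simpa [TensorProduct.tmul_smul] using this
  have h4 : r • x = algebraMap A B a := hinjB h3
  have h5 : a = 0 := by
    have := congrArg u h4
    rw [← algebraMap_smul A r x, map_smul, hux, smul_zero, hu'] at this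
    exact this.symm
  rw [h5, map_zero] at h4
  -- r • x = 0 → x = 0
  apply hinjB
  show (1 : K) ⊗ₜ[R] x = (1 : K) ⊗ₜ[R] (0 : B)
  rw [TensorProduct.tmul_zero]
  have h6 : (algebraMap R K r) • ((1 : K) ⊗ₜ[R] x) = 0 := by
    rw [TensorProduct.smul_tmul', smul_eq_mul, mul_one, ← mul_one (algebraMap R K r),
      ← Algebra.smul_def, ← TensorProduct.smul_tmul', ← TensorProduct.tmul_smul, h4, TensorProduct.tmul_zero]
  have hrK : algebraMap R K r ≠ 0 := by
    rw [Ne, map_eq_zero_iff _ (IsFractionRing.injective R K)]; exact hr
  exact (smul_eq_zero.1 h6).resolve_left hrK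

end Groth.Agent.S13041
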