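import Groth.Statements.S13046
import Groth.Agent.Lib.Helper16.PiLTensor
-- import your own Groth.Agent.* helpers here

set_option autoImplicit false
universe u
open FrobAlg

namespace Groth.Agent.S13046

open W4c1imperftorsors TensorProduct Groth.Agent.Lib.Helper16

theorem mem_prePerf_iff (p : ℕ) [Fact p.Prime] (R : Type u) [CommRing R] [CharP R p]
    (A : Type u) [CommRing A] [Algebra R A] [CharP A p] (x : Π j : ℕ, Twist p R A j) :
    x ∈ prePerf p R A ↔ ∀ j, relFrob p R A j (x (j + 1)) = x j := by
  unfold prePerf
  rw [Algebra.mem_iInf]
  rfl


open TensorProduct in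
/-- Let p be a prime, R a commutative ring of characteristic p and A a commutative R-algebra of
characteristic p, with Frobenius twists A^{p^i/R} = R ⊗_{F^i,R} A, relative Frobenius maps F_i :
A^{p^{i+1}/R} → A^{p^i/R} and preperfection A^{p^∞/R} = lim_i A^{p^i/R} ⊆ Π_i A^{p^i/R}. For every
finitely generated projective R-module M, a sequence y ∈ Π_i (M ⊗_R A^{p^i/R}) lies in the image of
the natural map M ⊗_R A^{p^∞/R} → Π_i (M ⊗_R A^{p^i/R}), m ⊗ x ↦ (m ⊗ x_i)_i, if and only if (M ⊗
F_i)(y_{i+1}) = y_i for all i: the image is exactly the module of compatible sequences. Together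
with the injectivity of that map, which holds for every projective M, this says that the base change
map M ⊗_R lim_i A^{p^i/R} → lim_i (M ⊗_R A^{p^i/R}) is an isomorphism. (The published statement is
phrased for a finite locally free R-algebra R′ in place of M and identifies the target with the
preperfection of A ⊗_R R′ over R′; the printed argument is the module statement given here, and that
identification is not part of this row; the injectivity half is stated separately for all projective
M.) -/
theorem result
    (p : ℕ) [Fact p.Prime] (R : Type u) [CommRing R] [CharP R p]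
    (A : Type u) [CommRing A] [Algebra R A] [CharP A p]
    (M : Type u) [AddCommGroup M] [Module R M] [Module.Finite R M] [Module.Projective R M]
    (y : Π i : ℕ, M ⊗[R] W4c1imperftorsors.Twist p R A i) :
    y ∈ LinearMap.range
        (LinearMap.pi fun i : ℕ =>
        LinearMap.lTensor M
          (((Pi.evalAlgHom R (fun k => W4c1imperftorsors.Twist p R A k) i).comp
            (W4c1imperftorsors.prePerf p R A).val).toLinearMap) :
        M ⊗[R] ↥(W4c1imperftorsors.prePerf p R A) →ₗ[R] (Π i : ℕ, M ⊗[R] W4c1imperftorsors.Twist p R A i)) ↔
      ∀ i : ℕ, LinearMap.lTensor M (W4c1imperftorsors.relFrob p R A i).toLinearMap (y (i + 1)) = y i := by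
  constructor
  · rintro ⟨t, rfl⟩ i
    simp only [LinearMap.pi_apply]
    rw [← LinearMap.comp_apply, ← LinearMap.lTensor_comp]
    congr 2
    ext x
    exact (mem_prePerf_iff p R A x.1).mp x.2 i
  · intro hy
    obtain ⟨t, ht⟩ := exists_of_compatible_projective (M := M)
      (fun i : ℕ => (((Pi.evalAlgHom R (fun k => W4c1imperftorsors.Twist p R A k) i).comp
            (W4c1imperftorsors.prePerf p R A).val).toLinearMap))
      (fun i => (W4c1imperftorsors.relFrob p R A i).toLinearMap)
      (by
        intro c hc
        exact ⟨⟨c, (mem_prePerf_iff p R A c).mpr hc⟩, fun i => rfl⟩)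
      y hy
    exact ⟨t, funext ht⟩

end Groth.Agent.S13046
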