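import Groth.Statements.S13047
import Mathlib
-- import your own Groth.Agent.* helpers here

set_option autoImplicit false
set_option linter.unusedSectionVars false
universe u
open FrobAlg

namespace Groth.Agent.S13047

open Polynomial TensorProduct W4c1imperftorsors

section lin

variable {R : Type u} [CommRing R] (u v : R)

/-- linear functional on polynomials given by values on monomials -/
noncomputable def LL {M : Type*} [AddCommGroup M] [Module R M] (e : ℕ → M) : R[X] →ₗ[R] M :=
  Polynomial.lsum (fun k => LinearMap.toSpanSingleton R M (e k))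

lemma LL_monomial {M : Type*} [AddCommGroup M] [Module R M] (e : ℕ → M) (k : ℕ) (a : R) :
    LL e (monomial k a) = a • e k := by
  unfold LL
  rw [Polynomial.lsum_apply, Polynomial.sum_monomial_index]
  · rfl
  · simp

lemma LL_kill {M : Type*} [AddCommGroup M] [Module R M] (e : ℕ → M)
    (h1 : ∀ k, u • e (k + 1) = 0) (h2 : ∀ k, e (k + 2) = (v ^ 2) • e k) :
    ∀ x ∈ Ideal.span {(C u * X : R[X]), X ^ 2 - C (v ^ 2)}, LL e x = 0 := by
  have key : ∀ x ∈ Ideal.span {(C u * X : R[X]), X ^ 2 - C (v ^ 2)}, ∀ g : R[X], LL e (g * x) = 0 := by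
    intro x hx
    induction hx using Submodule.span_induction with
    | mem x hx =>
      have hlin : ∀ y : R[X], (∀ k a, LL e (monomial k a * y) = 0) → ∀ g : R[X], LL e (g * y) = 0 := by
        intro y hy g
        induction g using Polynomial.induction_on' with
        | add p q hp hq => rw [add_mul, map_add, hp, hq, add_zero]
        | monomial k a => exact hy k a
      rcases hx with rfl | hx
      · apply hlin
        intro k a
        rw [← monomial_zero_left, ← monomial_one_one_eq_X, monomial_mul_monomial, monomial_mul_monomial,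
          LL_monomial, mul_one, zero_add, mul_smul, h1, smul_zero]
      · rw [Set.mem_singleton_iff] at hx
        subst hx
        apply hlin
        intro k a
        rw [mul_sub, map_sub, ← monomial_zero_left, ← monomial_one_right_eq_X_pow, monomial_mul_monomial,
          monomial_mul_monomial, LL_monomial, LL_monomial, mul_one, add_zero, h2, mul_smul, sub_self]
    | zero => intro g; rw [mul_zero, map_zero]
    | add x y _ _ hx hy => intro g; rw [mul_add, map_add, hx, hy, add_zero]
    | smul a x _ hx => intro g; rw [smul_eq_mul, ← mul_assoc]; exact hx _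
  intro x hx
  have := key x hx 1
  rwa [one_mul] at this


/-- the ideal -/
noncomputable abbrev II : Ideal R[X] := Ideal.span {(C u * X : R[X]), X ^ 2 - C (v ^ 2)}

noncomputable def liftB {M : Type*} [AddCommGroup M] [Module R M] (e : ℕ → M)
    (h1 : ∀ k, u • e (k + 1) = 0) (h2 : ∀ k, e (k + 2) = (v ^ 2) • e k) :
    (R[X] ⧸ II u v) →ₗ[R] M :=
  (Submodule.liftQ ((II u v).restrictScalars R) (LL e)
    (fun x hx => LinearMap.mem_ker.2 (LL_kill u v e h1 h2 x hx))).comp
    (Submodule.Quotient.restrictScalarsEquiv R (II u v)).symm.toLinearMap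

lemma liftB_mk {M : Type*} [AddCommGroup M] [Module R M] (e : ℕ → M)
    (h1 : ∀ k, u • e (k + 1) = 0) (h2 : ∀ k, e (k + 2) = (v ^ 2) • e k) (f : R[X]) :
    liftB u v e h1 h2 (Ideal.Quotient.mk (II u v) f) = LL e f := by
  unfold liftB
  rfl

/-- even coordinates -/
noncomputable def eE : ℕ → R := fun k => if Even k then v ^ k else 0

/-- odd coordinates -/
noncomputable def eD : ℕ → R ⧸ Ideal.span {u} :=
  fun k => if Odd k then Ideal.Quotient.mk _ (v ^ (k - 1)) else 0

lemma eE_h1 (huv : u * v = 0) (k : ℕ) : u • eE v (k + 1) = 0 := by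
  unfold eE
  split_ifs
  · rw [smul_eq_mul, pow_succ, mul_comm (v ^ k), ← mul_assoc, huv, zero_mul]
  · rw [smul_zero]

lemma eE_h2 (k : ℕ) : eE v (k + 2) = (v ^ 2) • eE v k := by
  unfold eE
  have : Even (k + 2) ↔ Even k := by
    rw [Nat.even_add]; simp
  simp only [this]
  split_ifs
  · rw [smul_eq_mul, pow_add, mul_comm]
  · rw [smul_zero]

lemma eD_h1 (k : ℕ) : u • eD u v (k + 1) = 0 := by
  rw [Algebra.smul_def, Ideal.Quotient.algebraMap_eq,
    Ideal.Quotient.eq_zero_iff_mem.2 (Ideal.mem_span_singleton_self u), zero_mul]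

lemma eD_h2 (k : ℕ) : eD u v (k + 2) = (v ^ 2) • eD u v k := by
  unfold eD
  have : Odd (k + 2) ↔ Odd k := by
    rw [Nat.odd_add]; simp
  simp only [this]
  split_ifs with h
  · obtain ⟨m, rfl⟩ := h
    rw [Algebra.smul_def, Ideal.Quotient.algebraMap_eq, ← map_mul, ← pow_add]
    congr 2
    omega
  · rw [smul_zero]

noncomputable def epsB (huv : u * v = 0) : (R[X] ⧸ II u v) →ₗ[R] R :=
  liftB u v (eE v) (eE_h1 u v huv) (eE_h2 v)

noncomputable def delB : (R[X] ⧸ II u v) →ₗ[R] (R ⧸ Ideal.span {u}) :=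
  liftB u v (eD u v) (eD_h1 u v) (eD_h2 u v)

lemma epsB_one (huv : u * v = 0) : epsB u v huv 1 = 1 := by
  have : (1 : R[X] ⧸ II u v) = Ideal.Quotient.mk (II u v) (monomial 0 1) := by
    rw [monomial_zero_left, C_1, map_one]
  rw [this, epsB, liftB_mk, LL_monomial, one_smul, eE]
  simp

lemma epsB_alpha (huv : u * v = 0) : epsB u v huv (Ideal.Quotient.mk (II u v) X) = 0 := by
  rw [← monomial_one_one_eq_X, epsB, liftB_mk, LL_monomial, one_smul, eE]
  simp

lemma delB_one : delB u v 1 = 0 := by
  have : (1 : R[X] ⧸ II u v) = Ideal.Quotient.mk (II u v) (monomial 0 1) := by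
    rw [monomial_zero_left, C_1, map_one]
  rw [this, delB, liftB_mk, LL_monomial, one_smul, eD]
  simp

lemma delB_alpha : delB u v (Ideal.Quotient.mk (II u v) X) = 1 := by
  rw [← monomial_one_one_eq_X, delB, liftB_mk, LL_monomial, one_smul, eD]
  simp

end lin


section twist

variable (p : ℕ) [Fact p.Prime] (R : Type u) [CommRing R] [CharP R p]
  (A : Type u) [CommRing A] [Algebra R A]

noncomputable def coord (i : ℕ) {T : Type u} [CommRing T] (ι : R →+* T) (ψ : A →+ T)
    (hψ : ∀ (s : R) (b : A), ψ (s • b) = ι (s ^ p ^ i) * ψ b) : Twist p R A i →+ T :=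
  TensorProduct.liftAddHom
    (((AddMonoidHom.mul (R := T)).comp ι.toAddMonoidHom).compl₂
      (ψ.comp (aEquiv p R A i).toAddMonoidHom))
    (by
      intro s r b
      show ι (s • r) * ψ (aEquiv p R A i b) = ι r * ψ (aEquiv p R A i (s • b))
      have h1 : s • r = (srcEquiv p R i s) ^ p ^ i * r := by
        rw [Algebra.smul_def, algebraMap_src]
      have h2 : aEquiv p R A i (s • b) = (srcEquiv p R i s) • (aEquiv p R A i b) := by
        rw [Algebra.smul_def, algebraMap_aSrc, map_mul, RingEquiv.apply_symm_apply,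
          ← Algebra.smul_def]
      rw [h1, h2, hψ, map_mul]
      ring)

lemma coord_tmul (i : ℕ) {T : Type u} [CommRing T] (ι : R →+* T) (ψ : A →+ T)
    (hψ : ∀ (s : R) (b : A), ψ (s • b) = ι (s ^ p ^ i) * ψ b) (r : R) (b : ASrc p R A i) :
    coord p R A i ι ψ hψ (r ⊗ₜ[Src p R i] b) = ι r * ψ (aEquiv p R A i b) := by
  unfold coord
  rw [TensorProduct.liftAddHom_tmul]
  rfl


lemma relFrob_tmul [CharP A p] (i : ℕ) (r : R) (b : ASrc p R A (i + 1)) :
    relFrob p R A i (r ⊗ₜ[Src p R (i + 1)] b)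
      = r ⊗ₜ[Src p R i] ((aEquiv p R A i).symm ((aEquiv p R A (i + 1) b) ^ p)) := by
  show relFrobAux p R A i (r ⊗ₜ[Src p R (i + 1)] b) = _
  unfold relFrobAux
  rw [Algebra.TensorProduct.lift_tmul]
  show (algebraMap R (Twist p R A i) r) *
    ((1 : R) ⊗ₜ[Src p R i] ((aEquiv p R A i).symm (frobenius A p (aEquiv p R A (i + 1) b)))) = _
  rw [Algebra.TensorProduct.algebraMap_apply, Algebra.algebraMap_self, RingHom.id_apply,
    Algebra.TensorProduct.tmul_mul_tmul, mul_one, one_mul, frobenius_def]

end twist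

section main

variable (p : ℕ) [Fact p.Prime] (R : Type u) [CommRing R] [CharP R p] (u v : R)

/-- the class of `X` -/
noncomputable def al : R[X] ⧸ II u v := Ideal.Quotient.mk (II u v) X

lemma al_sq : al R u v ^ 2 = algebraMap R (R[X] ⧸ II u v) (v ^ 2) := by
  unfold al
  rw [← map_pow, ← Ideal.Quotient.mk_algebraMap, Ideal.Quotient.eq]
  exact Ideal.subset_span (by simp)

lemma u_al : algebraMap R (R[X] ⧸ II u v) u * al R u v = 0 := by
  unfold al
  rw [← Ideal.Quotient.mk_algebraMap, ← map_mul, Ideal.Quotient.eq_zero_iff_mem]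
  exact Ideal.subset_span (by simp)

lemma al_pow_exists (n : ℕ) : ∃ c0 c1 : R, al R u v ^ n
    = algebraMap R (R[X] ⧸ II u v) c0 + algebraMap R (R[X] ⧸ II u v) c1 * al R u v := by
  induction n with
  | zero => exact ⟨1, 0, by simp⟩
  | succ n ih =>
    obtain ⟨c0, c1, h⟩ := ih
    refine ⟨c1 * v ^ 2, c0, ?_⟩
    rw [pow_succ, h, add_mul, mul_assoc, ← pow_two, al_sq, map_mul]
    ring

lemma exists_decomp (b : R[X] ⧸ II u v) : ∃ b0 b1 : R,
    b = algebraMap R (R[X] ⧸ II u v) b0 + algebraMap R (R[X] ⧸ II u v) b1 * al R u v := by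
  obtain ⟨f, rfl⟩ := Ideal.Quotient.mk_surjective b
  induction f using Polynomial.induction_on' with
  | add f g hf hg =>
    obtain ⟨b0, b1, h⟩ := hf
    obtain ⟨b0', b1', h'⟩ := hg
    refine ⟨b0 + b0', b1 + b1', ?_⟩
    rw [map_add, h, h', map_add, map_add]
    ring
  | monomial n a =>
    obtain ⟨c0, c1, h⟩ := al_pow_exists R u v n
    refine ⟨a * c0, a * c1, ?_⟩
    have : Ideal.Quotient.mk (II u v) (monomial n a)
        = algebraMap R (R[X] ⧸ II u v) a * al R u v ^ n := by
      rw [← C_mul_X_pow_eq_monomial, map_mul, map_pow, ← Ideal.Quotient.mk_algebraMap]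
      rfl
    rw [this, h, map_mul, map_mul]
    ring

lemma al_pow_p (hp : p ≠ 2) : al R u v ^ p
    = algebraMap R (R[X] ⧸ II u v) (v ^ (p - 1)) * al R u v := by
  have hodd : Odd p := (Fact.out : p.Prime).odd_of_ne_two hp
  obtain ⟨m, hm⟩ := hodd
  rw [hm, pow_succ, pow_mul, al_sq, ← map_pow, ← pow_mul]
  congr 3

end main

section coords

variable (p : ℕ) [Fact p.Prime] (R : Type u) [CommRing R] [CharP R p] (u v : R)
  [CharP (R[X] ⧸ II u v) p]

/-- `α` in the `i`-th copy -/
noncomputable def alS (i : ℕ) : ASrc p R (R[X] ⧸ II u v) i :=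
  (aEquiv p R (R[X] ⧸ II u v) i).symm (al R u v)

noncomputable def EE (huv : u * v = 0) (i : ℕ) : Twist p R (R[X] ⧸ II u v) i →+ R :=
  coord p R (R[X] ⧸ II u v) i (RingHom.id R)
    ((iterateFrobenius R p i).toAddMonoidHom.comp (epsB u v huv).toAddMonoidHom)
    (by
      intro s b
      show iterateFrobenius R p i (epsB u v huv (s • b)) = s ^ p ^ i * iterateFrobenius R p i (epsB u v huv b)
      rw [map_smul, smul_eq_mul, map_mul, iterateFrobenius_def])

/-- Frobenius power from `R/u` to `R/u^(p^i)` -/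
noncomputable def Phi (i : ℕ) : R ⧸ Ideal.span {u} →+* R ⧸ Ideal.span {u ^ p ^ i} :=
  Ideal.Quotient.lift (Ideal.span {u})
    ((Ideal.Quotient.mk (Ideal.span {u ^ p ^ i})).comp (iterateFrobenius R p i))
    (by
      intro a ha
      obtain ⟨w, rfl⟩ := Ideal.mem_span_singleton'.1 ha
      rw [RingHom.comp_apply, iterateFrobenius_def, mul_pow, Ideal.Quotient.eq_zero_iff_mem]
      exact Ideal.mul_mem_left _ _ (Ideal.mem_span_singleton_self _))

lemma Phi_mk (i : ℕ) (a : R) : Phi p R u i (Ideal.Quotient.mk _ a) = Ideal.Quotient.mk _ (a ^ p ^ i) := by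
  unfold Phi
  rw [Ideal.Quotient.lift_mk, RingHom.comp_apply, iterateFrobenius_def]

noncomputable def DD (i : ℕ) : Twist p R (R[X] ⧸ II u v) i →+ R ⧸ Ideal.span {u ^ p ^ i} :=
  coord p R (R[X] ⧸ II u v) i (Ideal.Quotient.mk (Ideal.span {u ^ p ^ i}))
    ((Phi p R u i).toAddMonoidHom.comp (delB u v).toAddMonoidHom)
    (by
      intro s b
      show Phi p R u i (delB u v (s • b)) = Ideal.Quotient.mk _ (s ^ p ^ i) * Phi p R u i (delB u v b)
      rw [map_smul, Algebra.smul_def, Ideal.Quotient.algebraMap_eq, map_mul, Phi_mk])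

lemma EE_apply (huv : u * v = 0) (i : ℕ) (a c : R) :
    EE p R u v huv i (a ⊗ₜ[Src p R i] 1 + c ⊗ₜ[Src p R i] alS p R u v i) = a := by
  unfold EE
  rw [map_add, coord_tmul, coord_tmul]
  show a * iterateFrobenius R p i (epsB u v huv (aEquiv p R _ i 1)) +
    c * iterateFrobenius R p i (epsB u v huv (aEquiv p R _ i (alS p R u v i))) = a
  rw [map_one, epsB_one, map_one, mul_one]
  unfold alS
  rw [RingEquiv.apply_symm_apply]
  unfold al
  rw [epsB_alpha, map_zero, mul_zero, add_zero]

lemma DD_apply (i : ℕ) (a c : R) :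
    DD p R u v i (a ⊗ₜ[Src p R i] 1 + c ⊗ₜ[Src p R i] alS p R u v i) = Ideal.Quotient.mk _ c := by
  unfold DD
  rw [map_add, coord_tmul, coord_tmul]
  show Ideal.Quotient.mk _ a * Phi p R u i (delB u v (aEquiv p R _ i 1)) +
    Ideal.Quotient.mk _ c * Phi p R u i (delB u v (aEquiv p R _ i (alS p R u v i))) = _
  rw [map_one, delB_one, map_zero, mul_zero, zero_add]
  unfold alS
  rw [RingEquiv.apply_symm_apply]
  unfold al
  rw [delB_alpha, map_one, mul_one]

lemma exists_rep (i : ℕ) (x : Twist p R (R[X] ⧸ II u v) i) : ∃ a c : R,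
    x = a ⊗ₜ[Src p R i] 1 + c ⊗ₜ[Src p R i] alS p R u v i := by
  induction x using TensorProduct.induction_on with
  | zero => exact ⟨0, 0, by rw [zero_tmul, zero_tmul, add_zero]⟩
  | tmul r b =>
    obtain ⟨b0, b1, h⟩ := exists_decomp R u v (aEquiv p R _ i b)
    refine ⟨b0 ^ p ^ i * r, b1 ^ p ^ i * r, ?_⟩
    have hb : b = ((srcEquiv p R i).symm b0) • (1 : ASrc p R (R[X] ⧸ II u v) i)
        + ((srcEquiv p R i).symm b1) • alS p R u v i := by
      apply (aEquiv p R (R[X] ⧸ II u v) i).injective
      rw [h, map_add, Algebra.smul_def, Algebra.smul_def, algebraMap_aSrc, algebraMap_aSrc,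
        map_mul, map_mul, RingEquiv.apply_symm_apply, RingEquiv.apply_symm_apply, map_one, mul_one,
        RingEquiv.apply_symm_apply, RingEquiv.apply_symm_apply]
      unfold alS
      rw [RingEquiv.apply_symm_apply]
    have h0 : (b0 ^ p ^ i * r) = ((srcEquiv p R i).symm b0) • r := by
      rw [Algebra.smul_def, algebraMap_src, RingEquiv.apply_symm_apply]
    have h1 : (b1 ^ p ^ i * r) = ((srcEquiv p R i).symm b1) • r := by
      rw [Algebra.smul_def, algebraMap_src, RingEquiv.apply_symm_apply]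
    rw [h0, h1, TensorProduct.smul_tmul, TensorProduct.smul_tmul, ← tmul_add, ← hb]
  | add x y hx hy =>
    obtain ⟨a, c, rfl⟩ := hx
    obtain ⟨a', c', rfl⟩ := hy
    refine ⟨a + a', c + c', ?_⟩
    rw [add_tmul, add_tmul]
    abel

lemma relFrob_rep (hp : p ≠ 2) (i : ℕ) (a c : R) :
    relFrob p R (R[X] ⧸ II u v) i
      (a ⊗ₜ[Src p R (i + 1)] 1 + c ⊗ₜ[Src p R (i + 1)] alS p R u v (i + 1))
      = a ⊗ₜ[Src p R i] 1 + ((v ^ (p - 1)) ^ p ^ i * c) ⊗ₜ[Src p R i] alS p R u v i := by
  rw [map_add, relFrob_tmul, relFrob_tmul, map_one, one_pow, map_one]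
  congr 1
  have h1 : (aEquiv p R (R[X] ⧸ II u v) i).symm
      ((aEquiv p R (R[X] ⧸ II u v) (i + 1) (alS p R u v (i + 1))) ^ p)
      = ((srcEquiv p R i).symm (v ^ (p - 1))) • alS p R u v i := by
    apply (aEquiv p R (R[X] ⧸ II u v) i).injective
    rw [RingEquiv.apply_symm_apply, Algebra.smul_def, algebraMap_aSrc, map_mul,
      RingEquiv.apply_symm_apply, RingEquiv.apply_symm_apply]
    unfold alS
    rw [RingEquiv.apply_symm_apply, RingEquiv.apply_symm_apply, al_pow_p p R u v hp]
  have h2 : ((v ^ (p - 1)) ^ p ^ i * c) = ((srcEquiv p R i).symm (v ^ (p - 1))) • c := by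
    rw [Algebra.smul_def, algebraMap_src, RingEquiv.apply_symm_apply]
  rw [h1, h2, TensorProduct.smul_tmul]

end coords

section final

variable (p : ℕ) [Fact p.Prime] (R : Type u) [CommRing R] [CharP R p] (u v : R)
  [CharP (R[X] ⧸ II u v) p]

lemma EE_one (huv : u * v = 0) (i : ℕ) (a : R) :
    EE p R u v huv i (a ⊗ₜ[Src p R i] 1) = a := by
  have := EE_apply p R u v huv i a 0
  rwa [zero_tmul, add_zero] at this

lemma tmul_al_eq_zero (i : ℕ) (c : R) (hc : c ∈ Ideal.span {u ^ p ^ i}) :
    c ⊗ₜ[Src p R i] alS p R u v i = 0 := by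
  obtain ⟨w, rfl⟩ := Ideal.mem_span_singleton'.1 hc
  have h0 : w * u ^ p ^ i = ((srcEquiv p R i).symm u) • w := by
    rw [Algebra.smul_def, algebraMap_src, RingEquiv.apply_symm_apply, mul_comm]
  have h1 : ((srcEquiv p R i).symm u) • alS p R u v i = 0 := by
    apply (aEquiv p R (R[X] ⧸ II u v) i).injective
    rw [Algebra.smul_def, algebraMap_aSrc, map_mul, RingEquiv.apply_symm_apply,
      RingEquiv.apply_symm_apply, map_zero]
    unfold alS
    rw [RingEquiv.apply_symm_apply, u_al]
  rw [h0, TensorProduct.smul_tmul, h1, tmul_zero]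

lemma mem_prePerf (x : Π j : ℕ, Twist p R (R[X] ⧸ II u v) j) :
    x ∈ prePerf p R (R[X] ⧸ II u v) ↔
      ∀ j, relFrob p R (R[X] ⧸ II u v) j (x (j + 1)) = x j := by
  unfold prePerf
  rw [Algebra.mem_iInf]
  refine forall_congr' fun j => ?_
  rw [AlgHom.mem_equalizer]
  rfl

lemma algebraMap_prePerf_apply (a : R) (j : ℕ) :
    ((algebraMap R (prePerf p R (R[X] ⧸ II u v)) a : prePerf p R (R[X] ⧸ II u v)) :
      Π j : ℕ, Twist p R (R[X] ⧸ II u v) j) j = a ⊗ₜ[Src p R j] 1 := by
  rw [Subalgebra.coe_algebraMap, Pi.algebraMap_apply, Algebra.TensorProduct.algebraMap_apply,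
    Algebra.algebraMap_self, RingHom.id_apply]

end final

open Polynomial in
/-- Let p be an odd prime, R a commutative ring of characteristic p and u, v ∈ R with uv = 0, such that
for every N ≥ 1 an element of R lying in (v^n) + (u^N) for all n lies in (u^N) (v-adic separatedness
of R/(u^N)). Let B = R[α]/(uα, α² − v²), an R-algebra of characteristic p, with Frobenius twists
B^{p^i/R} = R ⊗_{F^i,R} B and preperfection B^{p^∞/R} = lim_i B^{p^i/R} along the relative Frobenius
maps. Then the structure map R → B^{p^∞/R} is bijective: the preperfection of B is R. (The published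
statement is for R = F_p[[u, v]]/(uv), where B arises as the preperfection of R[x, y, 1/(x − y)]/(xy
− u), so that the second preperfection of that algebra is R although the first is not perfect; the
printed computation uses only the hypotheses listed here, which that R satisfies.) -/
theorem result
    (p : ℕ) [Fact p.Prime] (hp : p ≠ 2) (R : Type u) [CommRing R] [CharP R p]
    (u v : R) (huv : u * v = 0)
    (hsep : ∀ N : ℕ, 1 ≤ N → ∀ g : R,
      (∀ n : ℕ, g ∈ Ideal.span {v ^ n} ⊔ Ideal.span {u ^ N}) → g ∈ Ideal.span {u ^ N})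
    [CharP (R[X] ⧸ Ideal.span {(C u * X : R[X]), X ^ 2 - C (v ^ 2)}) p] :
    Function.Bijective
      (algebraMap R ↥(W4c1imperftorsors.prePerf p R
        (R[X] ⧸ Ideal.span {(C u * X : R[X]), X ^ 2 - C (v ^ 2)}))) := by
  have hp1 : 1 < p := (Fact.out : p.Prime).one_lt
  constructor
  · intro a a' h
    have h1 := congrArg (fun x : prePerf p R (R[X] ⧸ II u v) =>
      EE p R u v huv 0 ((x : Π j : ℕ, Twist p R (R[X] ⧸ II u v) j) 0)) h
    simp only [algebraMap_prePerf_apply, EE_one] at h1
    exact h1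
  · intro x
    have hx := (mem_prePerf p R u v x.1).1 x.2
    -- key claim
    have key : ∀ n i (a c : R), x.1 i = a ⊗ₜ[Src p R i] 1 + c ⊗ₜ[Src p R i] alS p R u v i →
        c ∈ Ideal.span {v ^ n} ⊔ Ideal.span {u ^ p ^ i} := by
      intro n
      induction n with
      | zero =>
        intro i a c _
        rw [pow_zero, Ideal.span_singleton_one, top_sup_eq]
        exact Submodule.mem_top
      | succ n ih =>
        intro i a c hac
        obtain ⟨a', c', h'⟩ := exists_rep p R u v (i + 1) (x.1 (i + 1))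
        have hc' := ih (i + 1) a' c' h'
        have hcomp := hx i
        rw [h', relFrob_rep p R u v hp, hac] at hcomp
        have hD := congrArg (DD p R u v i) hcomp
        rw [DD_apply, DD_apply, Ideal.Quotient.eq, Ideal.mem_span_singleton'] at hD
        obtain ⟨t, ht⟩ := hD
        obtain ⟨y, hy, z, hz, hyz⟩ := Submodule.mem_sup.1 hc'
        obtain ⟨y', rfl⟩ := Ideal.mem_span_singleton'.1 hy
        obtain ⟨z', rfl⟩ := Ideal.mem_span_singleton'.1 hz
        have hexp : 1 ≤ (p - 1) * p ^ i := Nat.one_le_iff_ne_zero.2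
          (Nat.mul_ne_zero (by omega) (pow_ne_zero _ (by omega)))
        have hc : c = (y' * v ^ ((p - 1) * p ^ i - 1)) * v ^ (n + 1)
            + ((v ^ (p - 1)) ^ p ^ i * z' * u ^ (p ^ i * (p - 1)) - t) * u ^ p ^ i := by
          have e1 : (v ^ (p - 1)) ^ p ^ i = v ^ ((p - 1) * p ^ i - 1) * v := by
            rw [← pow_mul, ← pow_succ, Nat.sub_add_cancel hexp]
          have e2 : u ^ p ^ (i + 1) = u ^ (p ^ i * (p - 1)) * u ^ p ^ i := by
            rw [← pow_add, pow_succ]
            congr 1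
            have : p = (p - 1) + 1 := by omega
            nth_rewrite 2 [this]
            ring
          have e3 : c = (v ^ (p - 1)) ^ p ^ i * c' - t * u ^ p ^ i := by
            rw [ht]; ring
          rw [e3, ← hyz, e2]
          linear_combination (y' * v ^ n) * e1
        rw [hc]
        exact Submodule.add_mem_sup (Ideal.mul_mem_left _ _ (Ideal.mem_span_singleton_self _))
          (Ideal.mul_mem_left _ _ (Ideal.mem_span_singleton_self _))
    choose a c hac using fun i => exists_rep p R u v i (x.1 i)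
    have hci : ∀ i, c i ∈ Ideal.span {u ^ p ^ i} := fun i =>
      hsep (p ^ i) (Nat.one_le_pow _ _ (by omega)) (c i) (fun n => key n i (a i) (c i) (hac i))
    have hxi : ∀ i, x.1 i = a i ⊗ₜ[Src p R i] 1 := by
      intro i
      rw [hac i, tmul_al_eq_zero p R u v i (c i) (hci i), add_zero]
    have hstep : ∀ i, a (i + 1) = a i := by
      intro i
      have h1 := hx i
      rw [hxi (i + 1), hxi i, relFrob_tmul, map_one, one_pow, map_one] at h1
      have h2 := congrArg (EE p R u v huv i) h1
      rwa [EE_one, EE_one] at h2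
    have hconst : ∀ i, a i = a 0 := by
      intro i
      induction i with
      | zero => rfl
      | succ i ih => rw [hstep, ih]
    refine ⟨a 0, ?_⟩
    apply Subtype.ext
    funext j
    rw [algebraMap_prePerf_apply, hxi j, hconst j]

end Groth.Agent.S13047
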