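import Groth.Statements.S13048
import Mathlib

set_option autoImplicit false
universe u
open FrobAlg

namespace Groth.Agent.S13048

section aux

-- universe u declared in template

section
variable (p : ℕ) [Fact p.Prime] (k : Type u) [Field k] [IsAlgClosed k] [CharP k p]
    (A : Type u) [CommRing A] [Algebra k A] [Algebra.FiniteType k A] [Nontrivial A]

theorem stepA (x : A) (hx : ∀ n : ℕ, ∃ a : A, a ^ p ^ n = x) (m : Ideal A) [hm : m.IsMaximal] :
    ∃ c : k, ∃ s : A, s ∉ m ∧ s * (x - algebraMap k A c) = 0 := by
  haveI : CharP A p := charP_of_injective_algebraMap (algebraMap k A).injective p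
  haveI : IsNoetherianRing A := Algebra.FiniteType.isNoetherianRing k A
  letI : Field (A ⧸ m) := Ideal.Quotient.field m
  haveI : Module.Finite k (A ⧸ m) := finite_of_finite_type_of_isJacobsonRing k (A ⧸ m)
  haveI : Algebra.IsIntegral k (A ⧸ m) := Algebra.IsIntegral.of_finite k (A ⧸ m)
  obtain ⟨c, hc⟩ := (IsAlgClosed.algebraMap_bijective_of_isIntegral (k := k) (K := A ⧸ m)).2
    (Ideal.Quotient.mk m x)
  have hxc : x - algebraMap k A c ∈ m := by
    rw [← Ideal.Quotient.eq, ← hc]
    rfl
  have hp1 : 1 < p := (Fact.out : p.Prime).one_lt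
  have hmem : ∀ n : ℕ, x - algebraMap k A c ∈ m ^ n := by
    intro n
    obtain ⟨a, ha⟩ := hx n
    obtain ⟨z, hz⟩ := IsAlgClosed.exists_pow_nat_eq c (n := p ^ n) (pow_pos (by omega) n)
    have e : x - algebraMap k A c = (a - algebraMap k A z) ^ p ^ n := by
      rw [sub_pow_char_pow, ha, ← map_pow, hz]
    have hin : a - algebraMap k A z ∈ m := by
      apply hm.isPrime.mem_of_pow_mem (p ^ n)
      rw [← e]; exact hxc
    rw [e]
    exact Ideal.pow_le_pow_right (Nat.lt_pow_self hp1).le (Ideal.pow_mem_pow hin _)
  have hinf : x - algebraMap k A c ∈ (⨅ i : ℕ, m ^ i • ⊤ : Submodule A A) := by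
    rw [Submodule.mem_iInf]
    intro i
    have : (m ^ i • ⊤ : Submodule A A) = m ^ i := by
      rw [smul_eq_mul, Ideal.mul_top]
    rw [this]
    exact hmem i
  obtain ⟨r, hr⟩ := (Ideal.mem_iInf_smul_pow_eq_bot_iff m (x - algebraMap k A c)).mp hinf
  refine ⟨c, 1 - r, ?_, ?_⟩
  · intro h
    apply hm.ne_top
    rw [Ideal.eq_top_iff_one]
    have := m.add_mem h r.2
    simpa using this
  · rw [sub_mul, one_mul, ← smul_eq_mul (r : A), hr, sub_self]

theorem main (hconn : ∀ e : A, IsIdempotentElem e → e = 0 ∨ e = 1)
    (x : A) (hx : ∀ n : ℕ, ∃ a : A, a ^ p ^ n = x) :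
    x ∈ (algebraMap k A).range := by
  obtain ⟨m0, hm0⟩ := Ideal.exists_maximal A
  obtain ⟨c0, s0, hs0, hs0'⟩ := stepA p k A x hx m0
  let I : Ideal A := (Ideal.span {x - algebraMap k A c0}).annihilator
  have hI : ∀ a, a ∈ I ↔ a * (x - algebraMap k A c0) = 0 := by
    intro a
    show a ∈ (Ideal.span {x - algebraMap k A c0}).annihilator ↔ _
    rw [Submodule.mem_annihilator_span_singleton, smul_eq_mul]
  let T : Set A := {a | ∃ c : k, c ≠ c0 ∧ a * (x - algebraMap k A c) = 0}
  let I' : Ideal A := Ideal.span T
  have hprod : ∀ a ∈ I, ∀ b ∈ I', a * b = 0 := by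
    intro a ha b hb
    refine Submodule.span_induction (p := fun b _ => a * b = 0) ?_ ?_ ?_ ?_ hb
    · rintro b ⟨c, hc, hb⟩
      have hu : IsUnit (algebraMap k A (c - c0)) :=
        (IsUnit.mk0 _ (sub_ne_zero.mpr hc)).map (algebraMap k A)
      have : a * b * algebraMap k A (c - c0) = 0 := by
        have e : algebraMap k A (c - c0) = (x - algebraMap k A c0) - (x - algebraMap k A c) := by
          rw [map_sub]; ring
        rw [e, mul_sub]
        have h1 : a * b * (x - algebraMap k A c0) = b * (a * (x - algebraMap k A c0)) := by ring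
        have h2 : a * b * (x - algebraMap k A c) = a * (b * (x - algebraMap k A c)) := by ring
        rw [h1, h2, (hI a).mp ha, hb, mul_zero, mul_zero, sub_zero]
      exact (hu.mul_left_eq_zero).mp this
    · simp
    · intro u v _ _ hu hv
      rw [mul_add, hu, hv, add_zero]
    · intro r u _ hu
      rw [smul_eq_mul, mul_left_comm, hu, mul_zero]
  have hs0I : s0 ∈ I := (hI s0).mpr hs0'
  have hI'm0 : I' ≤ m0 := by
    intro b hb
    have := hprod s0 hs0I b hb
    have h2 : s0 * b ∈ m0 := by rw [this]; exact m0.zero_mem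
    exact (hm0.isPrime.mem_or_mem h2).resolve_left hs0
  have hsup : I ⊔ I' = ⊤ := by
    by_contra hne
    obtain ⟨m, hm, hle⟩ := Ideal.exists_le_maximal _ hne
    obtain ⟨c, s, hs, hs'⟩ := stepA p k A x hx m
    apply hs
    apply hle
    by_cases hc : c = c0
    · subst hc
      exact Ideal.mem_sup_left ((hI s).mpr hs')
    · exact Ideal.mem_sup_right (Ideal.subset_span ⟨c, hc, hs'⟩)
  have h1 : (1 : A) ∈ I ⊔ I' := by rw [hsup]; trivial
  obtain ⟨a, ha, b, hb, hab⟩ := Submodule.mem_sup.mp h1
  have hidem : IsIdempotentElem a := by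
    show a * a = a
    have : a * (a + b) = a := by rw [hab, mul_one]
    rw [mul_add, hprod a ha b hb, add_zero] at this
    exact this
  rcases hconn a hidem with h0 | h1'
  · exfalso
    apply hm0.ne_top
    rw [Ideal.eq_top_iff_one]
    rw [h0, zero_add] at hab
    rw [← hab]
    exact hI'm0 hb
  · rw [h1'] at ha
    have := (hI 1).mp ha
    rw [one_mul, sub_eq_zero] at this
    exact ⟨c0, this.symm⟩
end

end aux

/-- Let k be an algebraically closed field of characteristic p > 0 and let A be a reduced finitely
generated commutative k-algebra with connected spectrum (A ≠ 0 and 0, 1 are its only idempotents).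
If x ∈ A is a p^n-th power in A for every n ≥ 0, then x lies in the image of k; that is, ⋂_n A^{p^n}
= k. (The published statement is: for an artinian local ring R of characteristic p and a flat
R-algebra A of finite type, the maps A^ét → O(π₀(A)) → A^{p^∞/R} from the largest étale subalgebra
to the preperfection are isomorphisms. This row is the case R = k algebraically closed and A reduced
with connected spectrum, where A^ét = k and the preperfection is ⋂_n A^{p^n}; the printed proof
reduces to this case and its last step proves it.) -/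
theorem result
    (p : ℕ) [Fact p.Prime] (k : Type u) [Field k] [IsAlgClosed k] [CharP k p]
    (A : Type u) [CommRing A] [Algebra k A] [Algebra.FiniteType k A] [IsReduced A] [Nontrivial A]
    (hconn : ∀ e : A, IsIdempotentElem e → e = 0 ∨ e = 1)
    (x : A) (hx : ∀ n : ℕ, ∃ a : A, a ^ p ^ n = x) :
    x ∈ (algebraMap k A).range := by
  exact main p k A hconn x hx

end Groth.Agent.S13048
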