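import Groth.Statements.S13049
-- import your own Groth.Agent.* helpers here

set_option autoImplicit false
universe u
open FrobAlg

namespace Groth.Agent.S13049

/-- Let p be a prime and A a commutative ring of characteristic p whose nilradical N satisfies x^(p^e) =
0 for all x ∈ N and some fixed e (for instance A Noetherian). Then the map between the inverse-limit
perfections along the absolute Frobenius, lim (⋯ → A → A) → lim (⋯ → A/N → A/N), induced by the
projection A → A/N, is bijective. (The published argument takes A of finite type over a field, where
the nilradical is finitely generated; this row assumes only that the nilradical is killed by one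
fixed iterate of Frobenius, which is all that argument uses.) -/
theorem result
    (p : ℕ) [Fact p.Prime] (A : Type u) [CommRing A] [CharP A p]
    [CharP (A ⧸ nilradical A) p] (e : ℕ) (he : ∀ x ∈ nilradical A, x ^ p ^ e = 0) :
    Function.Bijective (Perfection.map p (Ideal.Quotient.mk (nilradical A))) := by
  have hpp : ∀ (g : Perfection A p) (m n : ℕ),
      Perfection.coeff A p (m + n) g ^ p ^ n = Perfection.coeff A p m g :=
    fun g m n => Perfection.coeffMonoidHom_pow_p_pow' g m n
  have hpp' : ∀ (g : Perfection (A ⧸ nilradical A) p) (m n : ℕ),
      Perfection.coeff (A ⧸ nilradical A) p (m + n) g ^ p ^ n =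
        Perfection.coeff (A ⧸ nilradical A) p m g :=
    fun g m n => Perfection.coeffMonoidHom_pow_p_pow' g m n
  have hkill : ∀ x y : A, Ideal.Quotient.mk (nilradical A) x = Ideal.Quotient.mk (nilradical A) y →
      x ^ p ^ e = y ^ p ^ e := by
    intro x y hxy
    have h1 : x - y ∈ nilradical A := (Ideal.Quotient.eq).mp hxy
    have h2 := he _ h1
    rw [sub_pow_char_pow, sub_eq_zero] at h2
    exact h2
  constructor
  · intro f g hfg
    apply Perfection.ext
    intro n
    have h1 : Ideal.Quotient.mk (nilradical A) (Perfection.coeff A p (n + e) f) =
        Ideal.Quotient.mk (nilradical A) (Perfection.coeff A p (n + e) g) := by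
      have := congrArg (Perfection.coeff (A ⧸ nilradical A) p (n + e)) hfg
      simpa only [Perfection.coeff_map] using this
    have h2 := hkill _ _ h1
    rw [hpp, hpp] at h2
    exact h2
  · intro g
    choose a ha using fun n : ℕ =>
      Ideal.Quotient.mk_surjective (Perfection.coeff (A ⧸ nilradical A) p n g)
    refine ⟨⟨fun n => a (n + e) ^ p ^ e, fun n => ?_⟩, ?_⟩
    · have h1 : Ideal.Quotient.mk (nilradical A) (a (n + 1 + e) ^ p) =
          Ideal.Quotient.mk (nilradical A) (a (n + e)) := by
        rw [map_pow, ha, ha]
        have : n + 1 + e = n + e + 1 := by ring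
        rw [this]
        exact Perfection.coeff_pow_p' g (n + e)
      have h2 := hkill _ _ h1
      rw [← pow_mul, mul_comm, pow_mul]
      exact h2
    · apply Perfection.ext
      intro n
      rw [Perfection.coeff_map, Perfection.coeff_mk, map_pow, ha]
      exact hpp' g n e

end Groth.Agent.S13049
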