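import Groth.Statements.S13052
import Groth.Agent.Lib.Helper18.PtCount.Partition
open Groth.Agent.Lib.Helper18.PtCount

set_option autoImplicit false
universe u
open CategoryTheory AlgebraicGeometry
open Zeta

namespace Groth.Agent.S13052

/-- If X is a scheme of finite type over a finite field k, Y ↪ X a closed subscheme and U = X ∖ Y its
open complement, then Z(X, t) = Z(Y, t) · Z(U, t). Here Y is any scheme with a closed immersion into
X whose image is the complement of U (its scheme structure plays no role), and Y, U are k-schemes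
through X. -/
theorem result {k : Type u} [Field k] [Finite k]
    {X Y : Scheme.{u}} (f : X ⟶ Spec (CommRingCat.of k)) [LocallyOfFiniteType f] [QuasiCompact f]
    (U : X.Opens) (i : Y ⟶ X) [IsClosedImmersion i] (hY : Set.range i.base = (U : Set X)ᶜ) :
    Zeta.zetaFun f = Zeta.zetaFun (i ≫ f) * Zeta.zetaFun (U.ι ≫ f) := by
  classical
  let Y' : ULift.{u} Bool → Scheme.{u} := fun b => cond b.down Y U.toScheme
  let g' : ∀ b, Y' b ⟶ X := fun b =>
    match b with
    | ⟨true⟩ => i
    | ⟨false⟩ => U.ι
  haveI : ∀ b, IsImmersion (g' b) := by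
    rintro ⟨b⟩
    cases b
    · show IsImmersion U.ι
      infer_instance
    · show IsImmersion i
      infer_instance
  have hrange_t : Set.range (g' ⟨true⟩).base = (U : Set X)ᶜ := hY
  have hrange_f : Set.range (g' ⟨false⟩).base = (U : Set X) := by
    show Set.range U.ι.base = (U : Set X)
    exact Scheme.Opens.range_ι U
  have hpart : ∀ x : X, IsClosed ({x} : Set X) → ∃! b, x ∈ Set.range (g' b).base := by
    intro x _
    by_cases hx : x ∈ (U : Set X)
    · refine ⟨⟨false⟩, by show x ∈ Set.range (g' ⟨false⟩).base; rw [hrange_f]; exact hx, ?_⟩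
      rintro ⟨b⟩ hb
      cases b
      · rfl
      · rw [hrange_t] at hb
        exact absurd hx hb
    · refine ⟨⟨true⟩, by show x ∈ Set.range (g' ⟨true⟩).base; rw [hrange_t]; exact hx, ?_⟩
      rintro ⟨b⟩ hb
      cases b
      · rw [hrange_f] at hb
        exact absurd hb hx
      · rfl
  have h1 := zetaFun_partition f Y' g' hpart
  rw [h1, ← Equiv.ulift.symm.prod_comp, Fintype.prod_bool]
  rfl

end Groth.Agent.S13052
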