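import Groth.Statements.S13055
import Groth.Agent.Lib.Helper24.PS.LogODE

set_option autoImplicit false
universe u
open CategoryTheory AlgebraicGeometry
open Zeta

namespace Groth.Agent.S13055

/-- Let X be a scheme of finite type over a finite field k with q elements and P = a_d y^d + ⋯ + a_0 ∈
ℤ[y] with N_m = P(q^m) for every m ≥ 1 (X is of polynomial count). Then Z(X, t) = ∏_{i = 0}^{d} (1 −
q^i t)^{−a_i}; stated cleared of denominators, with the factors of positive exponent moved to the
left. -/
theorem result {k : Type u} [Field k] [Finite k] {X : Scheme.{u}}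
    (f : X ⟶ Spec (CommRingCat.of k)) [LocallyOfFiniteType f] [QuasiCompact f] (P : Polynomial ℤ)
    (hP : ∀ m : ℕ, 1 ≤ m → (Zeta.nPts f m : ℤ) = P.eval ((Nat.card k : ℤ) ^ m)) :
    Zeta.zetaFun f * ∏ i ∈ Finset.range (P.natDegree + 1),
        (1 - PowerSeries.C ((Nat.card k : ℚ) ^ i) * PowerSeries.X) ^ (P.coeff i).toNat =
      ∏ i ∈ Finset.range (P.natDegree + 1),
        (1 - PowerSeries.C ((Nat.card k : ℚ) ^ i) * PowerSeries.X) ^ (-P.coeff i).toNat := by
  have key := Groth.Agent.Lib.Helper24.PS.exp_subst_mul_prod_eq (A := ℚ) (Nat.card k : ℚ) P.natDegree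
    (fun i => P.coeff i) (fun m => (Zeta.nPts f m : ℚ)) (by
      intro m hm
      have h1 := hP m hm
      rw [Polynomial.eval_eq_sum_range] at h1
      have h2 : ((Zeta.nPts f m : ℤ) : ℚ) = ((∑ i ∈ Finset.range (P.natDegree + 1),
          P.coeff i * ((Nat.card k : ℤ) ^ m) ^ i : ℤ) : ℚ) := by rw [h1]
      push_cast at h2
      rw [h2]
      refine Finset.sum_congr rfl fun i _ => ?_
      rw [← pow_mul, ← pow_mul, Nat.mul_comm m i])
  exact key

end Groth.Agent.S13055
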