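import Groth.Statements.S13059
import Mathlib
-- import your own Groth.Agent.* helpers here

set_option autoImplicit false
universe u
open Zeta

namespace Groth.Agent.S13059

/-- Let B : V × W → K be a perfect pairing of finite-dimensional vector spaces over a field K, c ∈ K
nonzero, and f, g endomorphisms of V, W with B(f v, g w) = c · B(v, w) for all v, w. Then det(Id − t
g) = (−1)^r c^r t^r det(f)^{−1} det(Id − c^{−1} t^{−1} f) with r the common dimension; stated
cleared of denominators as det(f) · det(Id − t g) = (−1)^r c^r · det(t Id − c^{−1} f) in K[t],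
det(Id − t g) being the reverse of the characteristic polynomial of g. -/
theorem result (K : Type u) [Field K] (V W : Type u)
    [AddCommGroup V] [Module K V] [FiniteDimensional K V] [AddCommGroup W] [Module K W]
    [FiniteDimensional K W] (B : V →ₗ[K] W →ₗ[K] K) [B.IsPerfPair] (f : V →ₗ[K] V) (g : W →ₗ[K] W)
    (c : K) (hc : c ≠ 0) (hfg : ∀ (v : V) (w : W), B (f v) (g w) = c * B v w) :
    LinearMap.det f • (LinearMap.charpoly g).reverse =
      ((-1) ^ Module.finrank K W * c ^ Module.finrank K W) • (c⁻¹ • f).charpoly := by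
  classical
  obtain ⟨r, hr⟩ : ∃ r, r = Module.finrank K W := ⟨_, rfl⟩
  obtain ⟨bW⟩ : Nonempty (Module.Basis (Fin r) K W) := ⟨(Module.finBasis K W).reindex (finCongr hr.symm)⟩
  obtain ⟨bV, hbV⟩ : ∃ bV : Module.Basis (Fin r) K V, ∀ i, B (bV i) = bW.dualBasis i := by
    refine ⟨bW.dualBasis.map B.toPerfPair.symm, fun i => ?_⟩
    rw [Module.Basis.map_apply]
    exact LinearMap.apply_symm_toPerfPair_self B _
  have hB1 : LinearMap.toMatrix₂ bV bW B = 1 := by
    ext i j
    rw [LinearMap.toMatrix₂_apply, Matrix.one_apply, hbV]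
    simp [Finsupp.single_apply, eq_comm]
  have hcomp : B.compl₁₂ f g = c • B := by
    ext v w
    simp [hfg]
  obtain ⟨F, hF⟩ : ∃ F, F = LinearMap.toMatrix bV bV f := ⟨_, rfl⟩
  obtain ⟨G, hG⟩ : ∃ G, G = LinearMap.toMatrix bW bW g := ⟨_, rfl⟩
  have hmat : F.transpose * G = c • (1 : Matrix (Fin r) (Fin r) K) := by
    have := LinearMap.toMatrix₂_compl₁₂ bV bW bV bW B f g
    rw [hcomp, hB1, Matrix.mul_one, map_smul, hB1] at this
    rw [hF, hG, ← this]
  have h1 : LinearMap.det f = F.det := by rw [hF, LinearMap.det_toMatrix]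
  have h2 : g.charpoly = G.charpoly := by rw [hG, LinearMap.charpoly_toMatrix]
  have h3 : (c⁻¹ • f).charpoly = (c⁻¹ • F).charpoly := by
    rw [hF, ← map_smul, LinearMap.charpoly_toMatrix]
  rw [h1, h2, h3, Matrix.reverse_charpoly, Matrix.charpolyRev, Matrix.charpoly, Matrix.charmatrix,
    Polynomial.smul_eq_C_mul, Polynomial.smul_eq_C_mul, ← hr]
  have hmat' : (F.map Polynomial.C).transpose * G.map Polynomial.C =
      Polynomial.C c • (1 : Matrix (Fin r) (Fin r) (Polynomial K)) := by
    have := congrArg (fun M => M.map (Polynomial.C : K →+* Polynomial K)) hmat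
    simp only [Matrix.map_mul, Matrix.transpose_map] at this
    rw [this]
    ext i j
    by_cases hij : i = j <;> simp [Matrix.one_apply, Matrix.smul_apply, hij]
  have hL : Polynomial.C F.det = ((F.map Polynomial.C).transpose).det := by
    rw [Matrix.det_transpose, ← RingHom.mapMatrix_apply, ← RingHom.map_det]
  have hR : Polynomial.C ((-1) ^ r * c ^ r) = (-Polynomial.C c) ^ Fintype.card (Fin r) := by
    rw [Fintype.card_fin, neg_pow (Polynomial.C c), map_mul, map_pow, map_pow, map_neg, map_one]
  rw [hL, ← Matrix.det_mul, hR, ← Matrix.det_smul, Matrix.mul_sub, Matrix.mul_one,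
    Matrix.mul_smul, hmat', ← Matrix.det_transpose]
  congr 1
  ext i j
  simp only [Matrix.transpose_apply, Matrix.sub_apply, Matrix.map_apply, Matrix.smul_apply,
    Matrix.one_apply, Matrix.scalar_apply, Matrix.diagonal_apply, RingHom.mapMatrix_apply,
    smul_eq_mul]
  by_cases hij : i = j
  · subst hij
    simp only [if_true, mul_one, map_mul, mul_sub]
    rw [neg_mul, neg_mul, sub_neg_eq_add, ← mul_assoc, ← map_mul, mul_inv_cancel₀ hc, map_one,
      one_mul]
    ring
  · simp only [if_neg hij, if_neg (Ne.symm hij), mul_zero, sub_zero, zero_sub, map_mul, mul_neg,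
      neg_mul, neg_neg]
    rw [← mul_assoc, ← map_mul, mul_inv_cancel₀ hc, map_one, one_mul]

end Groth.Agent.S13059
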