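import Groth.Statements.S1306
import Mathlib.AlgebraicGeometry.Morphisms.QuasiSeparated
import Mathlib.AlgebraicGeometry.Morphisms.Separated
import Mathlib.AlgebraicGeometry.Morphisms.ClosedImmersion

set_option autoImplicit false
universe u
open FlatMor

namespace Groth.Agent.S1306

set_option backward.isDefEq.respectTransparency.types false in
open AlgebraicGeometry CategoryTheory Limits in
/-- For a morphism of thickenings, that is a commutative square whose horizontal maps are thickenings
(closed immersions that are surjective on points), the morphism between the thin schemes is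
quasi-separated if and only if the morphism between the thick ones is. -/
theorem result {X X' S S' : Scheme.{u}} (iX : X ⟶ X') (iS : S ⟶ S') (f : X ⟶ S) (f' : X' ⟶ S')
    (hX : MoreMor.IsThickening iX) (hS : MoreMor.IsThickening iS) (w : iX ≫ f' = f ≫ iS) :
    QuasiSeparated f ↔ QuasiSeparated f' := by
  have : IsClosedImmersion iX := hX.1
  have : IsClosedImmersion iS := hS.1
  have : Surjective iX := hX.2
  constructor
  · intro hf
    rw [HasAffineProperty.eq_targetAffineLocally (P := @QuasiSeparated)
      (Q := fun X _ _ _ ↦ QuasiSeparatedSpace X)]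
    intro V'
    show QuasiSeparatedSpace (f' ⁻¹ᵁ V'.1)
    refine (isQuasiSeparated_iff_quasiSeparatedSpace _ (f' ⁻¹ᵁ V'.1).2).mp ?_
    have h1 : IsQuasiSeparated (iS ⁻¹ᵁ V'.1 : Set S) :=
      iS.isQuasiSeparated_preimage V'.2.isQuasiSeparated
    have h2 : IsQuasiSeparated (f ⁻¹ᵁ (iS ⁻¹ᵁ V'.1) : Set X) :=
      f.isQuasiSeparated_preimage h1
    have h3 := h2.image_of_isEmbedding iX.isClosedEmbedding.isEmbedding
    have heq : (f' ⁻¹ᵁ V'.1 : Set X') = iX '' (f ⁻¹ᵁ (iS ⁻¹ᵁ V'.1) : Set X) := by
      ext y
      constructor
      · intro hy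
        obtain ⟨x, rfl⟩ := iX.surjective y
        refine ⟨x, ?_, rfl⟩
        have : iS (f x) = f' (iX x) := by
          rw [← Scheme.Hom.comp_apply, ← Scheme.Hom.comp_apply, w]
        show iS (f x) ∈ V'.1
        rw [this]; exact hy
      · rintro ⟨x, hx, rfl⟩
        have : iS (f x) = f' (iX x) := by
          rw [← Scheme.Hom.comp_apply, ← Scheme.Hom.comp_apply, w]
        show f' (iX x) ∈ V'.1
        rw [← this]; exact hx
    show IsQuasiSeparated (f' ⁻¹ᵁ V'.1 : Set X')
    rw [heq]
    exact h3
  · intro hf'
    have : QuasiSeparated (iX ≫ f') := inferInstance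
    rw [w] at this
    exact QuasiSeparated.of_comp f iS

end Groth.Agent.S1306
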