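import Groth.Statements.S13060
-- import your own Groth.Agent.* helpers here

set_option autoImplicit false
universe u v w x
open TensorProduct
open Zeta

namespace Groth.Agent.S13060

/-- Let k be a field, V and W vector spaces over k and G a group acting on V by k-linear automorphisms;
for the induced action on V ⊗_k W (trivial on W) one has (V ⊗_k W)^G = V^G ⊗_k W, i.e. the
invariants of V ⊗ W are the image of V^G ⊗ W → V ⊗ W. -/
theorem result {k : Type u} [Field k] {G : Type v} [Group G]
    {V : Type w} {W : Type x} [AddCommGroup V] [Module k V] [AddCommGroup W] [Module k W]
    (ρ : Representation k G V) :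
    (ρ.tprod (Representation.trivial k G W)).invariants =
      LinearMap.range (TensorProduct.map ρ.invariants.subtype (LinearMap.id : W →ₗ[k] W)) := by
  classical
  set b := Module.Basis.ofVectorSpace k W with hb
  set e := TensorProduct.equivFinsuppOfBasisRight (M := V) b with he
  have hcomm : ∀ (g : G) (t : V ⊗[k] W) i,
      e ((ρ.tprod (Representation.trivial k G W)) g t) i = ρ g (e t i) := by
    intro g t i
    induction t using TensorProduct.induction_on with
    | zero => simp
    | tmul v w =>
      rw [Representation.tprod_apply, TensorProduct.map_tmul, he,
        TensorProduct.equivFinsuppOfBasisRight_apply_tmul_apply,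
        TensorProduct.equivFinsuppOfBasisRight_apply_tmul_apply]
      simp
    | add x y hx hy =>
      rw [map_add, map_add, Finsupp.add_apply, hx, hy, map_add e, Finsupp.add_apply, map_add]
  apply le_antisymm
  · intro t ht
    rw [Representation.mem_invariants] at ht
    have hcoef : ∀ i, e t i ∈ ρ.invariants := by
      intro i
      rw [Representation.mem_invariants]
      intro g
      rw [← hcomm g t i, ht g]
    have ht' : t = (e t).sum fun i m => m ⊗ₜ[k] b i := by
      rw [← TensorProduct.equivFinsuppOfBasisRight_symm_apply, ← he, LinearEquiv.symm_apply_apply]
    rw [ht']
    refine Submodule.sum_mem _ ?_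
    intro i _
    exact ⟨(⟨e t i, hcoef i⟩ : ρ.invariants) ⊗ₜ[k] b i, by simp⟩
  · rintro _ ⟨x, rfl⟩
    rw [Representation.mem_invariants]
    intro g
    induction x using TensorProduct.induction_on with
    | zero => simp
    | tmul v w =>
      rw [TensorProduct.map_tmul, Representation.tprod_apply, TensorProduct.map_tmul]
      have := v.2
      rw [Representation.mem_invariants] at this
      simp [this g]
    | add x y hx hy =>
      rw [map_add, map_add, hx, hy]

end Groth.Agent.S13060
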