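import Groth.Statements.S13061
import Mathlib
-- import your own Groth.Agent.* helpers here

set_option autoImplicit false
universe u v w
open Zeta

namespace Groth.Agent.S13061

/-- Let A be a commutative algebra over a field k, G a finite group acting on A by k-algebra
automorphisms and I ⊆ A an ideal preserved by G. If p^n is the largest power of p = char(k) dividing
|G| (with p^n = 1 when char(k) = 0), then for every G-invariant b ∈ A/I the power b^{p^n} lies in
the image of A^G → (A/I)^G. (The published statement takes A finitely generated over k, which the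
proof does not use.) -/
theorem result {k : Type u} [Field k]
    {A : Type v} [CommRing A] [Algebra k A] {G : Type w} [Group G] [Finite G]
    [MulSemiringAction G A] [SMulCommClass G k A] (I : Ideal A)
    (hI : ∀ (g : G) (a : A), a ∈ I → g • a ∈ I) (u : A) (hu : ∀ g : G, g • u - u ∈ I) :
    ∃ a : A, (∀ g : G, g • a = a) ∧
      Ideal.Quotient.mk I a =
        Ideal.Quotient.mk I u ^ (ringChar k ^ (Nat.card G).factorization (ringChar k)) := by
  classical
  haveI := Fintype.ofFinite G
  set p := ringChar k with hp_def
  set N := Nat.card G with hN_def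
  set j := p ^ N.factorization p with hj
  have hNpos : 0 < N := Nat.card_pos
  have hc : ((N.choose j : ℕ) : k) ≠ 0 := by
    rcases CharP.char_is_prime_or_zero k p with hp | hp
    · haveI : Fact p.Prime := ⟨hp⟩
      obtain ⟨m, hm⟩ : p ^ N.factorization p ∣ N := Nat.ordProj_dvd N p
      have hpm : ¬ p ∣ m := by
        have h1 := Nat.not_dvd_ordCompl hp hNpos.ne'
        have h2 : N / p ^ N.factorization p = m :=
          Nat.div_eq_of_eq_mul_right (pow_pos hp.pos _) hm
        rwa [h2] at h1
      rw [Ne, CharP.cast_eq_zero_iff k p]
      intro hdvd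
      have h1 : N.choose j ≡ m [MOD p] := by
        have := Choose.choose_pow_mul_pow_mul_modEq_choose_nat (p := p) (k := N.factorization p)
          (a := m) (b := 1)
        rw [mul_one, ← hm, Nat.choose_one_right] at this
        exact this
      exact hpm ((Nat.modEq_zero_iff_dvd.mp (h1.symm.trans (Nat.modEq_zero_iff_dvd.mpr hdvd))))
    · have hj1 : j = 1 := by
        rw [hj, hp]; simp
      rw [hj1, Nat.choose_one_right]
      haveI : CharP k 0 := by
        have := ringChar.charP k
        rwa [← hp_def, hp] at this
      haveI : CharZero k := CharP.charP_to_charZero k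
      exact Nat.cast_ne_zero.mpr hNpos.ne'
  set a' : A := ∑ S ∈ (Finset.univ : Finset G).powersetCard j, ∏ g ∈ S, g • u with ha'
  refine ⟨algebraMap k A ((N.choose j : k)⁻¹) * a', ?_, ?_⟩
  · intro g
    rw [smul_mul', smul_algebraMap]
    congr 1
    rw [ha', Finset.smul_sum]
    refine Finset.sum_equiv (Equiv.finsetCongr (Equiv.mulLeft g)) ?_ ?_
    · intro S
      simp only [Finset.mem_powersetCard_univ, Equiv.finsetCongr_apply, Finset.card_map]
    · intro S _
      rw [Finset.smul_prod', Equiv.finsetCongr_apply, Finset.prod_map]
      apply Finset.prod_congr rfl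
      intro x _
      rw [smul_smul]
      rfl
  · have hmk : ∀ g : G, Ideal.Quotient.mk I (g • u) = Ideal.Quotient.mk I u := fun g =>
      Ideal.Quotient.eq.mpr (hu g)
    rw [map_mul, ha', map_sum]
    have : ∀ S ∈ (Finset.univ : Finset G).powersetCard j,
        Ideal.Quotient.mk I (∏ g ∈ S, g • u) = Ideal.Quotient.mk I u ^ j := by
      intro S hS
      rw [map_prod]
      simp only [hmk, Finset.prod_const]
      rw [(Finset.mem_powersetCard_univ.mp hS)]
    rw [Finset.sum_congr rfl this, Finset.sum_const, Finset.card_powersetCard, Finset.card_univ,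
      ← Nat.card_eq_fintype_card, nsmul_eq_mul, ← mul_assoc]
    have h1 : Ideal.Quotient.mk I (algebraMap k A ((N.choose j : k)⁻¹)) * ((N.choose j : ℕ) : A ⧸ I) = 1 := by
      have e1 : ((N.choose j : ℕ) : A ⧸ I) = Ideal.Quotient.mk I (algebraMap k A ((N.choose j : ℕ) : k)) := by
        rw [map_natCast, map_natCast]
      rw [e1, ← map_mul, ← map_mul, inv_mul_cancel₀ hc, map_one, map_one]
    rw [h1, one_mul]

end Groth.Agent.S13061
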