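import Groth.Statements.S13065
import Mathlib
-- import your own Groth.Agent.* helpers here

set_option autoImplicit false
universe u
open Zeta

namespace Groth.Agent.S13065

open Finset in
theorem sum_pow_all {K : Type*} [Field K] [Fintype K] [DecidableEq K] (e : ℕ) :
    ∑ x : K, x ^ e = if 0 < e ∧ (Fintype.card K - 1) ∣ e then -1 else 0 := by
  by_cases he : e = 0
  · subst he
    simp [FiniteField.cast_card_eq_zero]
  · let φ : Kˣ ↪ K := ⟨fun x ↦ x, Units.val_injective⟩
    have hmap : univ.map φ = univ \ {0} := by
      ext x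
      simpa only [mem_map, mem_univ, Function.Embedding.coeFn_mk, true_and, mem_sdiff,
        mem_singleton, φ] using! isUnit_iff_ne_zero
    have h1 : ∑ x : K, x ^ e = ∑ x : Kˣ, (x ^ e : K) := by
      calc ∑ x : K, x ^ e = ∑ x ∈ univ \ {(0 : K)}, x ^ e := by
            rw [← sum_sdiff ({0} : Finset K).subset_univ, sum_singleton, zero_pow he, add_zero]
        _ = ∑ x : Kˣ, (x ^ e : K) := by simp [φ, ← hmap, univ.sum_map φ]
    rw [h1, FiniteField.sum_pow_units]
    simp [Nat.pos_of_ne_zero he]

/-- Let k be a finite field with q elements and characteristic p, n ≥ 2, and f ∈ k[x_0, …, x_n]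
homogeneous of degree n + 1, defining the hypersurface Z ⊂ P^n_k. Then #Z(F_q) ≢ 1 (mod p) if and
only if the coefficient of (x_0 ⋯ x_n)^{q−1} in f^{q−1} is nonzero. Stated through the affine count:
#Z(F_q) ≡ 1 (mod p) exactly when p divides the number of zeros of f in k^{n+1} (as (q − 1) #Z(F_q) +
1 is that number). -/
theorem result {k : Type u} [Field k] [Finite k] (p : ℕ)
    [CharP k p] (n : ℕ) (hn : 2 ≤ n) (f : MvPolynomial (Fin (n + 1)) k)
    (hf : f.IsHomogeneous (n + 1)) :
    p ∣ Nat.card {a : Fin (n + 1) → k // MvPolynomial.eval a f = 0} ↔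
      MvPolynomial.coeff (Finsupp.equivFunOnFinite.symm fun _ : Fin (n + 1) => Nat.card k - 1)
        (f ^ (Nat.card k - 1)) = 0 := by
  classical
  haveI : Fintype k := Fintype.ofFinite k
  have hqc : Nat.card k = Fintype.card k := Nat.card_eq_fintype_card
  rw [hqc]
  set q := Fintype.card k with hq
  have hq2 : 2 ≤ q := Fintype.one_lt_card
  have hq1 : 0 < q - 1 := by omega
  have hS : ∀ e : ℕ, ∑ x : k, x ^ e = if 0 < e ∧ (q - 1) ∣ e then -1 else 0 :=
    fun e => sum_pow_all e
  set F := f ^ (q - 1) with hF
  have hFhom : F.IsHomogeneous ((n + 1) * (q - 1)) := hf.pow (q - 1)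
  -- the count in `k`
  have hcount : ((Nat.card {a : Fin (n + 1) → k // MvPolynomial.eval a f = 0} : ℕ) : k) =
      ∑ a : Fin (n + 1) → k, (1 - MvPolynomial.eval a F) := by
    rw [Nat.card_eq_fintype_card, Fintype.card_subtype, Finset.card_eq_sum_ones,
      Finset.sum_filter]
    push_cast
    refine Finset.sum_congr rfl fun a _ => ?_
    split_ifs with h
    · rw [hF, map_pow, h, zero_pow (by omega), sub_zero]
    · rw [hF, map_pow, FiniteField.pow_card_sub_one_eq_one _ h, sub_self]
  have hsum1 : ∑ a : Fin (n + 1) → k, (1 - MvPolynomial.eval a F) =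
      - ∑ a : Fin (n + 1) → k, MvPolynomial.eval a F := by
    rw [Finset.sum_sub_distrib]
    simp [FiniteField.cast_card_eq_zero]
  -- the sum of the values of `F`
  have hsum2 : ∑ a : Fin (n + 1) → k, MvPolynomial.eval a F =
      (-1) ^ (n + 1) * MvPolynomial.coeff
        (Finsupp.equivFunOnFinite.symm fun _ : Fin (n + 1) => q - 1) F := by
    set d₀ : Fin (n + 1) →₀ ℕ := Finsupp.equivFunOnFinite.symm fun _ : Fin (n + 1) => q - 1
      with hd₀
    have hterm : ∀ d : Fin (n + 1) →₀ ℕ, d ∈ F.support →
        ∑ x : Fin (n + 1) → k, F.coeff d * ∏ i, x i ^ d i =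
          if d = d₀ then (-1) ^ (n + 1) * F.coeff d₀ else 0 := by
      intro d hd
      rw [← Finset.mul_sum, ← Fintype.prod_sum (fun i (y : k) => y ^ d i)]
      simp only [hS]
      split_ifs with hdd
      · subst hdd
        have hd₀i : ∀ i : Fin (n + 1), d₀ i = q - 1 := fun i => rfl
        have : ∀ i : Fin (n + 1),
            (if 0 < d₀ i ∧ q - 1 ∣ d₀ i then (-1 : k) else 0) = -1 := by
          intro i
          rw [if_pos]
          rw [hd₀i]; exact ⟨hq1, dvd_rfl⟩
        rw [Finset.prod_congr rfl (fun i _ => this i), Finset.prod_const, Finset.card_univ,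
          Fintype.card_fin]
        ring
      · -- some coordinate kills the product
        have hdeg : (n + 1) * (q - 1) = ∑ i, d i := by
          rw [hFhom.degree_eq_sum_deg_support hd]
          exact Finset.sum_subset (Finset.subset_univ _) fun i _ hi => by
            simpa using hi
        by_cases hall : ∀ i, (0 < d i ∧ q - 1 ∣ d i)
        · exfalso
          apply hdd
          have hge : ∀ i, q - 1 ≤ d i := fun i => Nat.le_of_dvd (hall i).1 (hall i).2
          have heq : ∀ i, d i = q - 1 := by
            by_contra hne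
            rw [not_forall] at hne
            obtain ⟨j, hj⟩ := hne
            have hlt : ∑ i : Fin (n + 1), (q - 1) < ∑ i, d i :=
              Finset.sum_lt_sum (fun i _ => hge i) ⟨j, Finset.mem_univ _, lt_of_le_of_ne (hge j) (Ne.symm hj)⟩
            simp only [Finset.sum_const, Finset.card_univ, Fintype.card_fin, smul_eq_mul] at hlt
            omega
          ext i
          simp [hd₀, heq i]
        · rw [not_forall] at hall
          obtain ⟨j, hj⟩ := hall
          rw [Finset.prod_eq_zero (Finset.mem_univ j), mul_zero]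
          rw [if_neg hj]
    calc ∑ a : Fin (n + 1) → k, MvPolynomial.eval a F
        = ∑ x : Fin (n + 1) → k, ∑ d ∈ F.support, F.coeff d * ∏ i, x i ^ d i := by
          simp only [MvPolynomial.eval_eq']
      _ = ∑ d ∈ F.support, ∑ x : Fin (n + 1) → k, F.coeff d * ∏ i, x i ^ d i := Finset.sum_comm
      _ = ∑ d ∈ F.support, if d = d₀ then (-1) ^ (n + 1) * F.coeff d₀ else 0 :=
          Finset.sum_congr rfl hterm
      _ = (-1) ^ (n + 1) * F.coeff d₀ := by
          rw [Finset.sum_ite_eq']
          split_ifs with h
          · rfl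
          · rw [MvPolynomial.notMem_support_iff.mp h, mul_zero]
  rw [← CharP.cast_eq_zero_iff k p, hcount, hsum1, hsum2, neg_eq_zero, mul_eq_zero]
  constructor
  · rintro (h | h)
    · exact absurd h (pow_ne_zero _ (neg_ne_zero.mpr one_ne_zero))
    · exact h
  · exact fun h => Or.inr h

end Groth.Agent.S13065
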