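import Groth.Statements.S1307
import Mathlib.AlgebraicGeometry.Morphisms.UniversallyInjective
import Mathlib.AlgebraicGeometry.PullbackCarrier
import Mathlib.AlgebraicGeometry.Morphisms.ClosedImmersion

set_option autoImplicit false
universe u
open FlatMor

namespace Groth.Agent.S1307

open AlgebraicGeometry CategoryTheory Limits MorphismProperty in
lemma universallyInjective_of_comp_surjective {X Y Z : Scheme.{u}} (f : X ⟶ Y) (g : Y ⟶ Z)
    [UniversallyInjective (f ≫ g)] [Surjective f] : UniversallyInjective g := by
  constructor
  intro X' Y' i₁ i₂ f' H
  have hinj : Function.Injective (pullback.fst i₁ f ≫ f') :=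
    UniversallyInjective.universally_injective _ _ _
      ((IsPullback.of_hasPullback i₁ f).paste_horiz H)
  have hsurj : Function.Surjective (pullback.fst i₁ f) := (pullback.fst i₁ f).surjective
  intro a b hab
  obtain ⟨a', rfl⟩ := hsurj a
  obtain ⟨b', rfl⟩ := hsurj b
  congr 1
  apply hinj
  simpa using hab

open AlgebraicGeometry CategoryTheory Limits in
lemma universallyInjective_of_comp {X Y Z : Scheme.{u}} (f : X ⟶ Y) (g : Y ⟶ Z)
    [UniversallyInjective (f ≫ g)] : UniversallyInjective f := by
  have h := ((tfae_universallyInjective (f ≫ g)).out 0 1).mp ‹UniversallyInjective (f ≫ g)›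
  refine ((tfae_universallyInjective f).out 0 1).mpr ?_
  intro K _ g₁ g₂ hg
  apply h K
  simp only [← Category.assoc]
  simp only at hg
  rw [hg]


open AlgebraicGeometry CategoryTheory Limits in
/-- For a morphism of thickenings, that is a commutative square whose horizontal maps are thickenings
(closed immersions that are surjective on points), the morphism between the thin schemes is
universally injective if and only if the morphism between the thick ones is. -/
theorem result {X X' S S' : Scheme.{u}} (iX : X ⟶ X') (iS : S ⟶ S') (f : X ⟶ S) (f' : X' ⟶ S')
    (hX : MoreMor.IsThickening iX) (hS : MoreMor.IsThickening iS) (w : iX ≫ f' = f ≫ iS) :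
    UniversallyInjective f ↔ UniversallyInjective f' := by
  have : IsClosedImmersion iX := hX.1
  have : IsClosedImmersion iS := hS.1
  have : Surjective iX := hX.2
  constructor
  · intro hf
    have : UniversallyInjective (iX ≫ f') := by
      rw [w]
      exact MorphismProperty.comp_mem @UniversallyInjective f iS hf inferInstance
    exact universallyInjective_of_comp_surjective iX f'
  · intro hf'
    have : UniversallyInjective (f ≫ iS) := by
      rw [← w]
      exact MorphismProperty.comp_mem @UniversallyInjective iX f' inferInstance hf'
    exact universallyInjective_of_comp f iS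

end Groth.Agent.S1307
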