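import Groth.Statements.S13070
import Groth.Agent.Lib.Helper18.ArithCount.Scheme
open Groth.Agent.Lib.Helper18.ArithCount

set_option autoImplicit false
universe u
open CategoryTheory AlgebraicGeometry
open Zeta

namespace Groth.Agent.S13070

/-- For an arithmetic scheme X (of finite type over ℤ) of dimension r there are c_X > 0 and p₀ such that
#X(F_{p^m}) ≤ c_X p^{m(r−1)} for all primes p ≥ p₀ and m ≥ 1, and #X(F_{p^m}) ≤ c_X p^{mr} for p <
p₀ and m ≥ 1. Here #X(F) is the number of morphisms Spec F → X, and the dimension is only assumed ≤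
r. -/
theorem result {X : Scheme.{u}}
    (f : X ⟶ Spec (CommRingCat.of (ULift.{u} ℤ))) [LocallyOfFiniteType f] [QuasiCompact f] (r : ℕ)
    (hr : topologicalKrullDim X ≤ r) :
    ∃ (c : ℝ) (p₀ : ℕ), 0 < c ∧ ∀ (p m : ℕ), p.Prime → 1 ≤ m →
      ∀ (F : Type u) [Field F], Nat.card F = p ^ m →
        (p₀ ≤ p → (Nat.card (Spec (CommRingCat.of F) ⟶ X) : ℝ) ≤
            c * (p : ℝ) ^ ((m : ℝ) * ((r : ℝ) - 1))) ∧
        (p < p₀ → (Nat.card (Spec (CommRingCat.of F) ⟶ X) : ℝ) ≤ c * (p : ℝ) ^ ((m : ℝ) * r)) := by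
  classical
  haveI : CompactSpace X := QuasiCompact.compactSpace_of_compactSpace f
  have hf : f = Limits.IsTerminal.from specULiftZIsTerminal X := specULiftZIsTerminal.hom_ext _ _
  haveI : LocallyOfFiniteType (Limits.IsTerminal.from specULiftZIsTerminal X) := hf ▸ inferInstance
  obtain ⟨C, P, hCP⟩ := exists_card_points_le X r hr
  refine ⟨(C : ℝ) + 1, P, by positivity, fun p m hp hm F _ hcard => ?_⟩
  haveI : Finite F := Nat.finite_of_card_ne_zero (by rw [hcard]; exact pow_ne_zero _ hp.ne_zero)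
  haveI : Fintype F := Fintype.ofFinite F
  have hp0 : ((p : ℕ) : F) = 0 := by
    have h1 : ((Fintype.card F : ℕ) : F) = 0 := Nat.cast_card_eq_zero F
    rw [← Nat.card_eq_fintype_card, hcard, Nat.cast_pow] at h1
    exact pow_eq_zero_iff (by omega) |>.mp h1
  obtain ⟨-, h2, h3⟩ := hCP F
  have hpR : (0 : ℝ) < p := by exact_mod_cast hp.pos
  have hq : ((Nat.card F : ℕ) : ℝ) = (p : ℝ) ^ m := by rw [hcard]; push_cast; rfl
  have hqpos : (0 : ℝ) < (p : ℝ) ^ m := pow_pos hpR m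
  constructor
  · intro hPp
    have h4 := h3 p hp hPp hp0
    have h5 : (Nat.card (Spec (CommRingCat.of F) ⟶ X) : ℝ) * (p : ℝ) ^ m ≤
        (C : ℝ) * ((p : ℝ) ^ m) ^ r := by
      rw [← hq]
      exact_mod_cast h4
    have h6 : (p : ℝ) ^ ((m : ℝ) * ((r : ℝ) - 1)) = ((p : ℝ) ^ m) ^ r / (p : ℝ) ^ m := by
      rw [Real.rpow_mul hpR.le, Real.rpow_natCast, Real.rpow_sub hqpos, Real.rpow_natCast,
        Real.rpow_one]
    rw [h6, ← mul_div_assoc, le_div_iff₀ hqpos]
    refine h5.trans ?_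
    have : (0 : ℝ) ≤ ((p : ℝ) ^ m) ^ r := by positivity
    nlinarith
  · intro _
    have h5 : (Nat.card (Spec (CommRingCat.of F) ⟶ X) : ℝ) ≤ (C : ℝ) * ((p : ℝ) ^ m) ^ r := by
      rw [← hq]
      exact_mod_cast h2
    have h6 : (p : ℝ) ^ ((m : ℝ) * (r : ℝ)) = ((p : ℝ) ^ m) ^ r := by
      rw [Real.rpow_mul hpR.le, Real.rpow_natCast, Real.rpow_natCast]
    rw [h6]
    refine h5.trans ?_
    have : (0 : ℝ) ≤ ((p : ℝ) ^ m) ^ r := by positivity
    nlinarith

end Groth.Agent.S13070
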