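import Groth.Statements.S13072
import Groth.Agent.Lib.Helper18.FrobStable.Main

set_option autoImplicit false
universe u
open CategoryTheory AlgebraicGeometry Limits
open Zeta

namespace Groth.Agent.S13072

/-- Case r = 1, to which the general case reduces by passing to X ×_k F_{q^r}. Let X be a variety over k
= F_q, k̄ an algebraic closure and F = Frob_{X,q} × id the induced endomorphism of X_{k̄}. A closed
subset W ⊆ X_{k̄} is of the form Y_{k̄} for a closed Y ⊆ X (i.e. W = π⁻¹(Y), π the projection) if
and only if F(W) ⊆ W. Stated for schemes of finite type over k; F_X is pinned as the endomorphism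
that is the identity on points and the q-th power on sections, F by F ≫ pr_1 = pr_1 ≫ F_X and F ≫
pr_2 = pr_2. -/
theorem result {k : Type u} [Field k] [Finite k]
    {X : Scheme.{u}} (f : X ⟶ Spec (CommRingCat.of k)) [LocallyOfFiniteType f] [QuasiCompact f]
    (FX : X ⟶ X) (hFb : FX.base = 𝟙 _) (hle : ∀ U : X.Opens, U ≤ FX ⁻¹ᵁ U)
    (hFapp : ∀ (U : X.Opens) (s : Γ(X, U)), (FX.appLE U U (hle U)).hom s = s ^ Nat.card k)
    (F : FinFr.ext (AlgebraicClosure k) f ⟶ FinFr.ext (AlgebraicClosure k) f)
    (hF1 : F ≫ FinFr.extπ (AlgebraicClosure k) f = FinFr.extπ (AlgebraicClosure k) f ≫ FX)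
    (hF2 : F ≫ FinFr.extStr (AlgebraicClosure k) f = FinFr.extStr (AlgebraicClosure k) f)
    (W : Set ↑(FinFr.ext (AlgebraicClosure k) f)) (hW : IsClosed W) :
    (∃ Y : Set X, IsClosed Y ∧ (FinFr.extπ (AlgebraicClosure k) f).base ⁻¹' Y = W) ↔
      F.base '' W ⊆ W := by
  classical
  letI : Fintype k := Fintype.ofFinite k
  constructor
  · rintro ⟨Y, hY, rfl⟩
    rintro _ ⟨t, ht, rfl⟩
    show (FinFr.extπ (AlgebraicClosure k) f).base (F.base t) ∈ Y
    have h1 : (FinFr.extπ (AlgebraicClosure k) f).base (F.base t) =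
        FX.base ((FinFr.extπ (AlgebraicClosure k) f).base t) := by
      rw [← Scheme.Hom.comp_apply, hF1, Scheme.Hom.comp_apply]
    have h2 : FX.base ((FinFr.extπ (AlgebraicClosure k) f).base t) =
        (FinFr.extπ (AlgebraicClosure k) f).base t := by
      rw [hFb]; rfl
    rw [h1, h2]
    exact ht
  · intro hFW
    exact Groth.Agent.Lib.Helper18.FrobStable.exists_closed_of_frob_stable
      (K := AlgebraicClosure k) f FX hle
      (fun U s => by rw [hFapp, Nat.card_eq_fintype_card]) F hF1 hF2 W hW hFW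

end Groth.Agent.S13072
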