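import Groth.Statements.S13075
import Mathlib.RingTheory.PowerSeries.Log
import Mathlib.RingTheory.PowerSeries.Derivative
-- import your own Groth.Agent.* helpers here

set_option autoImplicit false
open Zeta

namespace Groth.Agent.S13075


open PowerSeries in
theorem mk_log_eq : (PowerSeries.mk fun m : ℕ => if m = 0 then (0 : ℚ) else (-1) ^ (m + 1) / (m : ℚ))
    = PowerSeries.log ℚ := by
  ext n
  simp [PowerSeries.coeff_log]

open PowerSeries in
theorem geom_mul : (PowerSeries.mk fun n : ℕ => ((-1 : ℚ) ^ n)) * (1 + PowerSeries.X) = 1 := by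
  ext n
  rw [mul_add, mul_one, map_add]
  cases n with
  | zero => simp
  | succ n =>
    rw [PowerSeries.coeff_succ_mul_X, PowerSeries.coeff_mk, PowerSeries.coeff_mk,
      PowerSeries.coeff_one]
    simp [pow_succ]

open PowerSeries in
theorem log_subst_exp : PowerSeries.subst (PowerSeries.exp ℚ - 1) (PowerSeries.log ℚ) =
    PowerSeries.X := by
  have hg : PowerSeries.HasSubst (PowerSeries.exp ℚ - 1) := PowerSeries.HasSubst.exp_sub_one
  apply PowerSeries.derivative.ext
  · rw [PowerSeries.derivative_subst hg, PowerSeries.deriv_log, PowerSeries.derivative_X, map_sub,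
      PowerSeries.derivative_exp]
    have h1 : (d⁄dX ℚ) (1 : PowerSeries ℚ) = 0 := by
      rw [← map_one (PowerSeries.C (R := ℚ))]
      exact PowerSeries.derivative_C
    rw [h1, sub_zero]
    have h2 := congrArg (PowerSeries.subst (PowerSeries.exp ℚ - 1)) geom_mul
    rw [PowerSeries.subst_mul hg, PowerSeries.subst_add hg, PowerSeries.subst_X hg] at h2
    have h3 : PowerSeries.subst (PowerSeries.exp ℚ - 1) (1 : PowerSeries ℚ) = 1 := by
      rw [← PowerSeries.coe_substAlgHom hg, map_one]
    rw [h3] at h2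
    simpa using h2
  · rw [PowerSeries.constantCoeff_X]
    have hc0 : MvPowerSeries.constantCoeff (PowerSeries.exp ℚ - 1) = 0 := by
      have : PowerSeries.constantCoeff (PowerSeries.exp ℚ - 1) = 0 := by
        simp [PowerSeries.constantCoeff_exp]
      exact this
    exact PowerSeries.constantCoeff_subst_eq_zero hc0 _ PowerSeries.constantCoeff_log

/-- For the formal power series exp(t) = ∑_{m ≥ 0} t^m / m! and log(1 + t) = ∑_{m ≥ 1} (−1)^{m+1} t^m /
m over ℚ, log(exp(u)) = u and exp(log(1 + u)) = 1 + u for every u ∈ tℚ⟦t⟧; stated for u = t (the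
general case is obtained by substitution): substituting exp(t) − 1 into log(1 + ·) gives t, and
substituting log(1 + t) into exp gives 1 + t. -/
theorem result :
    PowerSeries.subst (PowerSeries.exp ℚ - 1)
        (PowerSeries.mk fun m : ℕ => if m = 0 then (0 : ℚ) else (-1) ^ (m + 1) / (m : ℚ)) =
      PowerSeries.X ∧
    PowerSeries.subst (PowerSeries.mk fun m : ℕ => if m = 0 then (0 : ℚ) else (-1) ^ (m + 1) / (m : ℚ))
        (PowerSeries.exp ℚ) = 1 + PowerSeries.X := by
  rw [mk_log_eq]
  refine ⟨log_subst_exp, ?_⟩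
  have hP0 : PowerSeries.constantCoeff (PowerSeries.exp ℚ - 1) = 0 := by
    simp [PowerSeries.constantCoeff_exp]
  have hc1 : PowerSeries.coeff 1 (PowerSeries.exp ℚ - 1) = 1 := by
    simp [PowerSeries.coeff_exp]
  have : Invertible (PowerSeries.coeff 1 (PowerSeries.exp ℚ - 1)) := by
    rw [hc1]
    exact invertibleOne
  have hg : PowerSeries.HasSubst (PowerSeries.exp ℚ - 1) := PowerSeries.HasSubst.exp_sub_one
  have hQ : PowerSeries.HasSubst (PowerSeries.exp ℚ - 1).substInv :=
    PowerSeries.HasSubst.substInv _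
  have hr := PowerSeries.subst_substInv_right (PowerSeries.exp ℚ - 1) hP0
  have hlog : PowerSeries.log ℚ = (PowerSeries.exp ℚ - 1).substInv := by
    have h1 := PowerSeries.subst_comp_subst_apply hg hQ (PowerSeries.log ℚ)
    rw [log_subst_exp, PowerSeries.subst_X hQ, hr] at h1
    rw [h1]
    exact (PowerSeries.X_subst _).symm
  rw [hlog]
  have h2 : PowerSeries.subst (PowerSeries.exp ℚ - 1).substInv (PowerSeries.exp ℚ) =
      PowerSeries.subst (PowerSeries.exp ℚ - 1).substInv ((PowerSeries.exp ℚ - 1) + 1) := by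
    congr 1
    ring
  rw [h2, PowerSeries.subst_add hQ, hr, ← PowerSeries.coe_substAlgHom hQ, map_one, add_comm]

end Groth.Agent.S13075
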