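import Groth.Statements.S1308
-- import your own Groth.Agent.* helpers here

set_option autoImplicit false
universe u
open FlatMor

namespace Groth.Agent.S1308

open AlgebraicGeometry CategoryTheory Limits MorphismProperty in
lemma universallyOpen_of_comp_surjective {X Y Z : Scheme.{u}} (f : X ⟶ Y) (g : Y ⟶ Z)
    [UniversallyOpen (f ≫ g)] [Surjective f] : UniversallyOpen g := by
  constructor
  intro X' Y' i₁ i₂ f' H
  have := UniversallyOpen.universally_isOpenMap _ _ _
    ((IsPullback.of_hasPullback i₁ f).paste_horiz H)
  exact IsOpenMap.of_comp (Scheme.Hom.continuous _)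
    (MorphismProperty.pullback_fst (P := @Surjective) _ _ ‹_›).1 this

open AlgebraicGeometry CategoryTheory Limits MorphismProperty in
lemma universallyOpen_of_thickening {X X' : Scheme.{u}} (i : X ⟶ X')
    (h : MoreMor.IsThickening i) : UniversallyOpen i := by
  obtain ⟨h1, h2⟩ := h
  rw [UniversallyOpen.eq]
  intro Y Y' i₁ i₂ f' hf
  have : IsClosedImmersion f' := MorphismProperty.of_isPullback hf.flip h1
  have : Surjective f' := MorphismProperty.of_isPullback hf.flip h2
  exact (isHomeomorph_iff_isEmbedding_surjective.mpr
    ⟨f'.isClosedEmbedding.isEmbedding, f'.surjective⟩).isOpenMap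


open AlgebraicGeometry CategoryTheory Limits in
/-- For a morphism of thickenings, that is a commutative square whose horizontal maps are thickenings
(closed immersions that are surjective on points), the morphism between the thin schemes is
universally open if and only if the morphism between the thick ones is. -/
theorem result {X X' S S' : Scheme.{u}} (iX : X ⟶ X') (iS : S ⟶ S') (f : X ⟶ S) (f' : X' ⟶ S')
    (hX : MoreMor.IsThickening iX) (hS : MoreMor.IsThickening iS) (w : iX ≫ f' = f ≫ iS) :
    UniversallyOpen f ↔ UniversallyOpen f' := by
  have hX' := universallyOpen_of_thickening iX hX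
  have hS' := universallyOpen_of_thickening iS hS
  have : Surjective iX := hX.2
  have : Mono iS := by have := hS.1; infer_instance
  constructor
  · intro hf
    have : UniversallyOpen (iX ≫ f') := by rw [w]; infer_instance
    exact universallyOpen_of_comp_surjective iX f'
  · intro hf'
    have : UniversallyOpen (f ≫ iS) := by rw [← w]; infer_instance
    exact MorphismProperty.of_postcomp (W := @UniversallyOpen)
      (W' := MorphismProperty.monomorphisms Scheme) f iS ‹Mono iS› this

end Groth.Agent.S1308
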