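import Groth.Statements.S13081
import Groth.Agent.Lib.Helper28.FinQuotProps
import Groth.Agent.Lib.Helper28.QuotGlue
import Groth.Agent.Lib.Helper28.FinQuotDesc

set_option autoImplicit false
universe u
open CategoryTheory AlgebraicGeometry Limits
open Zeta

open Groth.Agent.Lib.Helper28 TopologicalSpace

namespace Groth.Agent.S13081

/-- Let G be a finite group acting by algebraic automorphisms over k on a scheme X of finite type over k
admitting a quotient X → X/G, and H a normal subgroup of G. Then X/H carries an induced action of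
G/H and its quotient by this action is X/G: the induced morphism r : X/H → X/G is a quotient of X/H
by G/H. The induced action ρ̄ is pinned by p_H ≫ ρ̄(ḡ) = ρ(g) ≫ p_H and r by p_H ≫ r = p. -/
theorem result {k : Type u} [Field k] {G : Type u} [Group G]
    [Finite G] {X XG XH : Scheme.{u}} (fX : X ⟶ Spec (CommRingCat.of k)) [LocallyOfFiniteType fX]
    [QuasiCompact fX] (ρ : G →* Aut X) (hρ : ∀ g, (ρ g).hom ≫ fX = fX) (p : X ⟶ XG)
    (hP : SGA1.IsQuot ρ p) (H : Subgroup G) [H.Normal] (pH : X ⟶ XH)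
    (hPH : SGA1.IsQuot (ρ.comp H.subtype) pH) (ρbar : G ⧸ H →* Aut XH)
    (hρbar : ∀ g : G, pH ≫ (ρbar (QuotientGroup.mk g)).hom = (ρ g).hom ≫ pH)
    (r : XH ⟶ XG) (hr : pH ≫ r = p) :
    SGA1.IsQuot ρbar r := by
  subst hr
  have : Epi pH := FinQuot.epi (ρ.comp H.subtype) pH hPH
  have hinv : ∀ q : G ⧸ H, (ρbar q).hom ≫ r = r := by
    intro q
    obtain ⟨g, rfl⟩ := QuotientGroup.mk_surjective q
    rw [← cancel_epi pH, ← Category.assoc, hρbar g, Category.assoc, hP.inv g]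
  refine ⟨?_, hinv, ?_, ?_⟩
  · rw [isAffineHom_iff]
    intro U hU
    apply FinQuot.isAffineOpen_of_preimage (ρ.comp H.subtype) pH hPH
    have := hP.affine.isAffine_preimage U hU
    exact this
  · intro U
    have h1 : ∀ a, ((pH ≫ r).app U).hom a = (pH.app (r ⁻¹ᵁ U)).hom ((r.app U).hom a) :=
      fun a => rfl
    intro a b hab
    apply hP.injective U
    rw [h1, h1, hab]
  · intro U s
    constructor
    · rintro ⟨a, rfl⟩
      exact QuotGlue.isInv_app ρbar r hinv U a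
    · intro hs
      have hinjH := hPH.injective (r ⁻¹ᵁ U)
      have key : ∀ g : G,
          ((ρ g).hom.appLE ((pH ≫ r) ⁻¹ᵁ U) ((pH ≫ r) ⁻¹ᵁ U)
            (SGA1.preimage_le_of_inv ρ (pH ≫ r) hP.inv g U)).hom ((pH.app (r ⁻¹ᵁ U)).hom s)
            = (pH.app (r ⁻¹ᵁ U)).hom s := by
        intro g
        have hle1 : pH ⁻¹ᵁ (r ⁻¹ᵁ U) ≤ (ρ g).hom ⁻¹ᵁ (pH ⁻¹ᵁ (r ⁻¹ᵁ U)) :=
          SGA1.preimage_le_of_inv ρ (pH ≫ r) hP.inv g U
        have e1 := Scheme.Hom.appLE_comp_appLE (ρ g).hom pH (r ⁻¹ᵁ U) (pH ⁻¹ᵁ (r ⁻¹ᵁ U))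
          (pH ⁻¹ᵁ (r ⁻¹ᵁ U)) le_rfl hle1
        have e2 := Scheme.Hom.appLE_comp_appLE pH (ρbar (QuotientGroup.mk g)).hom (r ⁻¹ᵁ U)
          (r ⁻¹ᵁ U) (pH ⁻¹ᵁ (r ⁻¹ᵁ U))
          (SGA1.preimage_le_of_inv ρbar r hinv (QuotientGroup.mk g) U) le_rfl
        have e3 := QuotGlue.appLE_congr' (hρbar g) (r ⁻¹ᵁ U) (pH ⁻¹ᵁ (r ⁻¹ᵁ U))
          (by
            rw [Scheme.Hom.comp_preimage]
            intro x hx
            exact SGA1.preimage_le_of_inv ρbar r hinv (QuotientGroup.mk g) U hx)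
          (by
            rw [Scheme.Hom.comp_preimage]
            exact hle1)
        have e4 := e2.trans (e3.trans e1.symm)
        rw [Scheme.Hom.appLE_eq_app] at e4
        have e5 := congrArg (fun φ => φ.hom s) e4
        simp only [CommRingCat.hom_comp, RingHom.comp_apply] at e5
        exact e5.symm.trans (congrArg _ (hs (QuotientGroup.mk g)))
      have hmem := (hP.range_iff U ((pH.app (r ⁻¹ᵁ U)).hom s)).2 key
      obtain ⟨a, ha⟩ := hmem
      refine ⟨a, hinjH ?_⟩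
      exact ha

end Groth.Agent.S13081
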