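import Groth.Statements.S13087
import Groth.Agent.Lib.Helper14.RegSeq

set_option autoImplicit false
universe u
open Lie3Mod

namespace Groth.Agent.S13087

open MvPolynomial Groth.Agent.Lib.Helper14.Buchberger

set_option linter.unusedSimpArgs false
set_option linter.unusedTactic false
set_option linter.unreachableTactic false

section
variable (A : Type u) [CommRing A]

def lmvL : Fin 3 → Fin 9 → ℕ :=
  ![![1,0,0,0,0,0,0,0,0], ![0,1,0,0,0,0,0,0,0], ![0,0,0,1,0,0,0,0,0]]

def tailL : Fin 3 → List (ℤ × (Fin 9 → ℕ)) :=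
  ![[(-1, ![0,0,0,0,0,0,0,0,1])], [(1, ![0,0,0,0,0,1,0,0,0])], [(1, ![0,0,0,0,0,0,0,1,0])]]

noncomputable def gLs : Fin 3 → MvPolynomial (Fin 9) A := ![Lie3Mod.L1 A, Lie3Mod.L2 A, Lie3Mod.L3 A]

lemma hgLs : ∀ i, gLs A i = mon (lmvL i) + evalTerms (tailL i) := by
  intro i
  fin_cases i <;>
  · simp [gLs, Lie3Mod.L1, Lie3Mod.L2, Lie3Mod.L3, lmvL, tailL, evalTerms, mon_eq_prod,
      Fin.prod_univ_succ]
    try ring

set_option maxRecDepth 100000 in
lemma htailL : ∀ i, ∀ t ∈ tailL i, LexLt t.2 (lmvL i) := by decide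

set_option maxRecDepth 100000 in
lemma hdisjL : ∀ i j, i ≠ j → ∀ x, lmvL i x = 0 ∨ lmvL j x = 0 := by decide

set_option maxRecDepth 100000 in
lemma h0L : ∀ i, ∃ x, lmvL i x ≠ 0 := by decide

def lmvQ : Fin 3 → Fin 9 → ℕ :=
  ![![1,0,0,1,0,0,0,0,0], ![0,1,0,0,1,0,0,0,0], ![0,0,1,0,0,1,0,0,0]]

def tailQ : Fin 3 → List (ℤ × (Fin 9 → ℕ)) :=
  ![[(1, ![1,0,0,0,0,0,1,0,0]), (1, ![0,0,0,0,1,0,0,0,1]), (1, ![0,0,0,0,0,1,0,1,0])],
    [(-1, ![0,1,0,0,0,0,0,1,0]), (-1, ![0,0,0,1,0,1,0,0,0]), (1, ![0,0,0,0,0,0,1,0,1])],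
    [(1, ![0,0,1,0,0,0,0,0,1]), (-1, ![0,0,0,1,0,0,0,1,0]), (-1, ![0,0,0,0,1,0,1,0,0])]]

noncomputable def q1 : MvPolynomial (Fin 9) A := X 0 * X 3 + X 0 * X 6 + X 4 * X 8 + X 5 * X 7
noncomputable def q2 : MvPolynomial (Fin 9) A := X 1 * X 4 - X 1 * X 7 - X 3 * X 5 + X 6 * X 8
noncomputable def q3 : MvPolynomial (Fin 9) A := X 2 * X 5 + X 2 * X 8 - X 3 * X 7 - X 4 * X 6

noncomputable def gQs : Fin 3 → MvPolynomial (Fin 9) A := ![q1 A, q2 A, q3 A]

lemma hgQs : ∀ i, gQs A i = mon (lmvQ i) + evalTerms (tailQ i) := by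
  intro i
  fin_cases i <;>
  · simp [gQs, q1, q2, q3, lmvQ, tailQ, evalTerms, mon_eq_prod, Fin.prod_univ_succ]
    try ring

set_option maxRecDepth 100000 in
lemma htailQ : ∀ i, ∀ t ∈ tailQ i, LexLt t.2 (lmvQ i) := by decide

set_option maxRecDepth 100000 in
lemma hdisjQ : ∀ i j, i ≠ j → ∀ x, lmvQ i x = 0 ∨ lmvQ j x = 0 := by decide

set_option maxRecDepth 100000 in
lemma h0Q : ∀ i, ∃ x, lmvQ i x ≠ 0 := by decide

/-- coordinate change -/
noncomputable def theta : MvPolynomial (Fin 9) A →ₐ[A] MvPolynomial (Fin 9) A :=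
  aeval ![X 7, X 6, X 2, X 8, X 1, X 3, -X 0, X 5, X 4]

/-- inverse coordinate change -/
noncomputable def theta' : MvPolynomial (Fin 9) A →ₐ[A] MvPolynomial (Fin 9) A :=
  aeval ![-X 6, X 4, X 2, X 5, X 8, X 7, X 1, X 0, X 3]

lemma theta'_theta (x : MvPolynomial (Fin 9) A) : theta' A (theta A x) = x := by
  have : (theta' A).comp (theta A) = AlgHom.id A _ := by
    apply MvPolynomial.algHom_ext
    intro i
    fin_cases i <;> simp [theta, theta']
  exact AlgHom.congr_fun this x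

lemma theta_theta' (x : MvPolynomial (Fin 9) A) : theta A (theta' A x) = x := by
  have : (theta A).comp (theta' A) = AlgHom.id A _ := by
    apply MvPolynomial.algHom_ext
    intro i
    fin_cases i <;> simp [theta, theta']
  exact AlgHom.congr_fun this x

noncomputable def thetaEquiv : MvPolynomial (Fin 9) A ≃ₐ[A] MvPolynomial (Fin 9) A :=
  AlgEquiv.ofAlgHom (theta A) (theta' A)
    (AlgHom.ext (theta_theta' A)) (AlgHom.ext (theta'_theta A))

lemma theta_Q1 : theta A (Lie3Mod.Q1 A) = q1 A := by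
  simp only [theta, Lie3Mod.Q1, q1, map_add, map_sub, map_mul, map_neg, aeval_X]
  simp
  try ring

lemma theta_Q2 : theta A (Lie3Mod.Q2 A) = q2 A := by
  simp only [theta, Lie3Mod.Q2, q2, map_add, map_sub, map_mul, map_neg, aeval_X]
  simp
  try ring

lemma theta_Q3 : theta A (Lie3Mod.Q3 A) = q3 A := by
  simp only [theta, Lie3Mod.Q3, q3, map_add, map_sub, map_mul, map_neg, aeval_X]
  simp
  try ring

end


/-- Let A be a nontrivial commutative ring and D = A[a,b,c,d,e,f,g,h,i] the polynomial ring in nine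
variables. Then the linear forms a − i, b + f, d + h form a regular sequence on D, and so do the
three Jacobi polynomials Q1 = ah + di − fg − bg, Q2 = ie + bd − fh − ae, Q3 = hc + dc − af − bi
(each term is a non-zero-divisor on the quotient of D by the preceding terms, and the quotient by
all three is non-zero). (The published statement is made with a regular base ring in force; the
printed argument does not use that hypothesis, and the statement is given here over every nontrivial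
commutative base ring.) -/
theorem result (A : Type u) [CommRing A] [Nontrivial A] :
    RingTheory.Sequence.IsRegular (Lie3Mod.D A) [Lie3Mod.L1 A, Lie3Mod.L2 A, Lie3Mod.L3 A] ∧
      RingTheory.Sequence.IsRegular (Lie3Mod.D A) [Lie3Mod.Q1 A, Lie3Mod.Q2 A, Lie3Mod.Q3 A] := by
  constructor
  · have h := isRegular_ofFn_of_data lmvL tailL (gLs A) (hgLs A) htailL hdisjL h0L
    have e : List.ofFn (gLs A) = [Lie3Mod.L1 A, Lie3Mod.L2 A, Lie3Mod.L3 A] := by
      simp [gLs, List.ofFn_succ]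
    rw [e] at h
    exact h
  · have h := isRegular_ofFn_of_data lmvQ tailQ (gQs A) (hgQs A) htailQ hdisjQ h0Q
    have e : List.ofFn (gQs A) = [q1 A, q2 A, q3 A] := by
      simp [gQs, List.ofFn_succ]
    rw [e] at h
    refine (AddEquiv.isRegular_congr (e := (thetaEquiv A).toAddEquiv) ?_).mpr h
    refine List.Forall₂.cons ?_ (List.Forall₂.cons ?_ (List.Forall₂.cons ?_ List.Forall₂.nil))
    · intro x
      change theta A (Lie3Mod.Q1 A • x) = q1 A • theta A x
      rw [smul_eq_mul, map_mul, theta_Q1, smul_eq_mul]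
    · intro x
      change theta A (Lie3Mod.Q2 A • x) = q2 A • theta A x
      rw [smul_eq_mul, map_mul, theta_Q2, smul_eq_mul]
    · intro x
      change theta A (Lie3Mod.Q3 A • x) = q3 A • theta A x
      rw [smul_eq_mul, map_mul, theta_Q3, smul_eq_mul]

end Groth.Agent.S13087
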