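import Groth.Statements.S13093
import Groth.Agent.Lib.Helper14.Lie3Prime

set_option autoImplicit false
universe u
open Lie3Mod

namespace Groth.Agent.S13093

open Groth.Agent.Lib.Helper14.Lie3


/-- Let k be an algebraically closed field and D = k[a,b,c,d,e,f,g,h,i]. Then the ideal J = (Q1, Q2, Q3,
det M) (Q1 = ah + di − fg − bg, Q2 = ie + bd − fh − ae, Q3 = hc + dc − af − bi, det M = −ch² + gbf +
ei² − gec + hbi − ihf) is minimal among the prime ideals of D containing the Jacobi ideal I = (Q1,
Q2, Q3). (The published statement is made with a regular base ring in force; primality of J is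
established there over an algebraically closed field, which is the case stated here.) -/
theorem result (k : Type u) [Field k] [IsAlgClosed k] :
    Lie3Mod.idJ k ∈ (Lie3Mod.idI k).minimalPrimes := by
  refine ⟨⟨idJ_isPrime k, idI_le_idJ k⟩, ?_⟩
  rintro P ⟨hP, hIP⟩ hPJ
  have h1 : detM k * L1 k ∈ P := hIP (detM_mul_L1_mem k)
  rcases hP.mem_or_mem h1 with h | h
  · rw [idJ, Ideal.span_le]
    intro x hx
    simp only [Set.mem_insert_iff, Set.mem_singleton_iff] at hx
    rcases hx with rfl | rfl | rfl | rfl
    · exact hIP (Q1_mem_idI k)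
    · exact hIP (Q2_mem_idI k)
    · exact hIP (Q3_mem_idI k)
    · exact h
  · exact absurd (hPJ h) (L1_notMem_idJ k)

end Groth.Agent.S13093
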