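import Groth.Statements.S13094
import Groth.Agent.Lib.Helper14.Lie3Basic

set_option autoImplicit false
open Lie3Mod

namespace Groth.Agent.S13094

open Groth.Agent.Lib.Helper14.Lie3


/-- The second component of the moduli scheme of based three-dimensional Lie algebras is flat over the
integers: the ring Z[a,b,c,d,e,f,g,h,i]/J, where J = (Q1, Q2, Q3, det M) with Q1 = ah + di − fg −
bg, Q2 = ie + bd − fh − ae, Q3 = hc + dc − af − bi and det M = −ch² + gbf + ei² − gec + hbi − ihf,
is a flat Z-module. -/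
theorem result :
    Module.Flat ℤ (Lie3Mod.D ℤ ⧸ Lie3Mod.idJ ℤ) := by
  have : Module.IsTorsionFree ℤ (D ℤ ⧸ idJ ℤ) := by
    constructor
    intro r hr x y hxy
    obtain ⟨x, rfl⟩ := Ideal.Quotient.mk_surjective x
    obtain ⟨y, rfl⟩ := Ideal.Quotient.mk_surjective y
    have h1 : r • (x - y) ∈ idJ ℤ := by
      rw [← Ideal.Quotient.eq_zero_iff_mem]
      have e : (Ideal.Quotient.mk (idJ ℤ)) (r • (x - y)) =
          r • (Ideal.Quotient.mk (idJ ℤ)) x - r • (Ideal.Quotient.mk (idJ ℤ)) y := by
        rw [smul_sub, map_sub]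
        rfl
      rw [e]
      exact sub_eq_zero.mpr hxy
    have h2 := mem_idJ_of_smul_mem ℤ r (fun b hb => hr.left (by simpa using hb)) h1
    exact Ideal.Quotient.eq.mpr h2
  infer_instance

end Groth.Agent.S13094
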