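import Groth.Statements.S13105
import Mathlib
import Groth.Agent.Lib.Helper25.JacobianCot
import Groth.Agent.Lib.Helper14.Lie3Prime
import Groth.Agent.S2680
import Groth.Agent.Lib.Helper7.DimTrdeg
-- import your own Groth.Agent.* helpers here

set_option autoImplicit false
set_option linter.unusedSectionVars false
set_option linter.style.haveILetI false
universe u
open Lie3Mod

namespace Groth.Agent.S13105

open MvPolynomial Lie3Mod
open Groth.Agent.Lib.Helper25.JacobianCot

section
variable (k : Type u) [Field k] (t : k)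

/-- the point -/
def pt : Fin 9 → k := ![0, 1, 0, 0, 0, t, 0, 0, 0]

/-- generators -/
noncomputable def FJ : Fin 4 → MvPolynomial (Fin 9) k := ![Q1 k, Q2 k, Q3 k, detM k]

lemma idJ_eq : idJ k = Ideal.span (Set.range (FJ k)) := by
  unfold idJ FJ
  congr 1
  ext x
  simp only [Set.mem_insert_iff, Set.mem_singleton_iff, Set.mem_range, Fin.exists_fin_succ,
    Matrix.cons_val_zero, Matrix.cons_val_succ]
  simp [eq_comm]

lemma N_pt : N (pt k t) = Ideal.span
    ({X 0, X 1 - 1, X 2, X 3, X 4, X 5 - C t, X 6, X 7, X 8} : Set (D k)) := by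
  unfold N
  congr 1
  ext x
  simp only [Set.mem_insert_iff, Set.mem_singleton_iff, Set.mem_range, Fin.exists_fin_succ, pt]
  simp [eq_comm]

lemma eval_FJ (i : Fin 4) : eval (pt k t) (FJ k i) = 0 := by
  fin_cases i <;> simp [FJ, pt, Q1, Q2, Q3, detM]

lemma idJ_le_N : idJ k ≤ N (pt k t) := by
  rw [idJ_eq, Ideal.span_le, ← ker_eval_eq_N]
  rintro _ ⟨i, rfl⟩
  exact eval_FJ k t i

/-- general form of the cotangent computation, for an ideal propositionally equal to a span. -/
lemma cot_aux (n r : ℕ) (F : Fin r → MvPolynomial (Fin n) k) (a : Fin n → k)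
    (I : Ideal (MvPolynomial (Fin n) k)) (hI : I = Ideal.span (Set.range F))
    (𝔪 : Ideal (MvPolynomial (Fin n) k ⧸ I)) [𝔪.IsMaximal]
    (h𝔪 : 𝔪.comap (Ideal.Quotient.mk I) = RingHom.ker (MvPolynomial.eval a)) :
    Module.finrank (IsLocalRing.ResidueField (Localization.AtPrime 𝔪))
        (IsLocalRing.CotangentSpace (Localization.AtPrime 𝔪)) +
      Module.finrank k (W k n r F a) = n := by
  subst hI
  rw [finrank_residue_eq k n r F a 𝔪 h𝔪]
  exact finrank_k_cot k n r F a 𝔪 h𝔪

/-- three independent vectors in the row space -/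
lemma three_le_finrank_W : 3 ≤ Module.finrank k (W k 9 4 (FJ k) (pt k t)) := by
  classical
  set a := pt k t with ha
  have hr : ∀ i, dA a (FJ k i) ∈ W k 9 4 (FJ k) a := fun i => Submodule.subset_span ⟨i, rfl⟩
  let v : Fin 3 → (Fin 9 → k) := ![dA a (FJ k 0) + dA a (FJ k 3), dA a (FJ k 1), dA a (FJ k 2)]
  have hv : ∀ i, v i ∈ W k 9 4 (FJ k) a := by
    intro i
    fin_cases i
    · exact add_mem (hr 0) (hr 3)
    · exact hr 1
    · exact hr 2
  have hli : LinearIndependent k v := by
    rw [Fintype.linearIndependent_iff]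
    intro g hg
    have h6 := congrFun hg 6
    have h3 := congrFun hg 3
    have h8 := congrFun hg 8
    simp only [Fin.sum_univ_three, Pi.add_apply, Pi.smul_apply, Pi.zero_apply, smul_eq_mul] at h6 h3 h8
    simp [v, dA_apply, FJ, Q1, Q2, Q3, detM, a, pt, pderiv_X] at h6 h3 h8
    have h0 : g 0 = 0 := by
      rcases h6 with h | h
      · exact h
      · exfalso
        have : (-1 : k) = 0 := by rw [← h]; ring
        exact neg_ne_zero.2 one_ne_zero this
    intro i
    fin_cases i
    · exact h0
    · exact h3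
    · exact h8
  have h1 : Module.finrank k (Submodule.span k (Set.range v)) = 3 := by
    rw [finrank_span_eq_card hli]; simp
  have h2 : Submodule.span k (Set.range v) ≤ W k 9 4 (FJ k) a :=
    Submodule.span_le.2 (by rintro _ ⟨i, rfl⟩; exact hv i)
  calc 3 = Module.finrank k (Submodule.span k (Set.range v)) := h1.symm
    _ ≤ Module.finrank k (W k 9 4 (FJ k) a) := Submodule.finrank_mono h2

/-- the six free coordinates -/
def e6 : Fin 6 → Fin 9 := fun i => ⟨i.1 + 3, by omega⟩

lemma e6_injective : Function.Injective e6 := by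
  intro i j h
  simp only [e6, Fin.mk.injEq] at h
  exact Fin.ext (by omega)

lemma e6_mem (i : Fin 6) : e6 i ∈ Groth.Agent.Lib.Helper14.Lie3.RS := by
  fin_cases i <;> simp [e6, Groth.Agent.Lib.Helper14.Lie3.RS]

open Groth.Agent.Lib.Helper14 in
lemma algIndep : AlgebraicIndependent k
    (fun i : Fin 6 => Ideal.Quotient.mk (idJ k) (Lie3GBe.theta' k (X (e6 i)))) := by
  rw [algebraicIndependent_iff_injective_aeval]
  have hcomp : (aeval (fun i : Fin 6 => Ideal.Quotient.mk (idJ k) (Lie3GBe.theta' k (X (e6 i)))) :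
      MvPolynomial (Fin 6) k →ₐ[k] (D k ⧸ idJ k)) =
      ((Ideal.Quotient.mkₐ k (idJ k)).comp (Lie3GBe.theta' k)).comp (rename e6) := by
    apply MvPolynomial.algHom_ext
    intro i
    simp
  rw [hcomp]
  rw [injective_iff_map_eq_zero]
  intro p hp
  simp only [AlgHom.comp_apply, Ideal.Quotient.mkₐ_eq_mk, Ideal.Quotient.eq_zero_iff_mem] at hp
  rw [Lie3.idJ_eq_comap, Ideal.mem_comap, Lie3GBe.theta_theta'] at hp
  have hs : rename e6 p ∈ supported k Lie3.RS := by
    rw [MvPolynomial.mem_supported]
    intro x hx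
    have := MvPolynomial.vars_rename e6 p hx
    simp only [Finset.mem_image] at this
    obtain ⟨i, -, rfl⟩ := this
    exact e6_mem i
  have h0 := Lie3.eq_zero_of_mem_J'_of_supported k hp hs
  exact (rename_injective e6 e6_injective) (by rw [h0, map_zero])

instance : IsDomain (D k ⧸ idJ k) :=
  (Ideal.Quotient.isDomain_iff_prime _).2 (Groth.Agent.Lib.Helper14.Lie3.idJ_isPrime k)

lemma six_le_dim : ((6 : ℕ∞) : WithBot ℕ∞) ≤ ringKrullDim (D k ⧸ idJ k) := by
  have := Groth.Agent.Lib.Helper7.DimTrdeg.le_ringKrullDim_of_algebraicIndependent_of_isDomain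
    (k := k) _ (algIndep k)
  exact_mod_cast this

end

open MvPolynomial in
/-- Let k be a field, t ∈ k, D = k[a,b,c,d,e,f,g,h,i] and J = (Q1, Q2, Q3, det M) with Q1 = ah + di − fg
− bg, Q2 = ie + bd − fh − ae, Q3 = hc + dc − af − bi, det M = −ch² + gbf + ei² − gec + hbi − ihf.
The maximal ideal (a, b − 1, c, d, e, f − t, g, h, i) of D contains J (it is the point given by the
Lie algebra with [x,y] = y, [x,z] = t z, [y,z] = 0), and the localization of D/J at the
corresponding prime is a regular local ring of Krull dimension 6: the scheme Spec(D/J) has a smooth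
k-rational point. -/
theorem result (k : Type u) [Field k] (t : k)
    (P : Ideal (Lie3Mod.D k ⧸ Lie3Mod.idJ k)) [P.IsPrime]
    (hP : P = Ideal.map (Ideal.Quotient.mk (Lie3Mod.idJ k))
      (Ideal.span ({X 0, X 1 - 1, X 2, X 3, X 4, X 5 - C t, X 6, X 7, X 8} : Set (Lie3Mod.D k)))) :
    IsRegularLocalRing (Localization.AtPrime P) ∧ ringKrullDim (Localization.AtPrime P) = 6 := by
  rw [← N_pt] at hP
  have hcomap : P.comap (Ideal.Quotient.mk (idJ k)) = RingHom.ker (eval (pt k t)) := by
    rw [hP, Ideal.comap_map_of_surjective _ Ideal.Quotient.mk_surjective,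
      ← RingHom.ker_eq_comap_bot, Ideal.mk_ker, ker_eval_eq_N, sup_eq_left]
    exact idJ_le_N k t
  have hmax : P.IsMaximal := by
    have hNmax : (N (pt k t)).IsMaximal := by
      rw [← ker_eval_eq_N]
      exact RingHom.ker_isMaximal_of_surjective _ (fun c => ⟨C c, eval_C c⟩)
    rcases Ideal.map_eq_top_or_isMaximal_of_surjective (Ideal.Quotient.mk (idJ k))
      Ideal.Quotient.mk_surjective hNmax with h | h
    · exact absurd (hP.trans h) (Ideal.IsPrime.ne_top inferInstance)
    · rw [hP]; exact h
  have hcot := cot_aux k 9 4 (FJ k) (pt k t) (idJ k) (idJ_eq k) P hcomap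
  have h3 := three_le_finrank_W k t
  obtain ⟨n, -, hn, hloc⟩ := Groth.Agent.S2680.result k (D k ⧸ idJ k)
  have hdimP : ringKrullDim (Localization.AtPrime P) = n := hloc P
  have h6n : 6 ≤ n := by
    have := six_le_dim k
    rw [hn] at this
    exact_mod_cast this
  have : IsNoetherianRing (Localization.AtPrime P) :=
    IsLocalization.isNoetherianRing P.primeCompl _ inferInstance
  have hle := ringKrullDim_le_spanFinrank_maximalIdeal (R := Localization.AtPrime P)
  rw [IsLocalRing.spanFinrank_maximalIdeal_eq_finrank_cotangentSpace (Localization.AtPrime P), hdimP] at hle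
  have hle' : n ≤ Module.finrank (IsLocalRing.ResidueField (Localization.AtPrime P))
        (IsLocalRing.CotangentSpace (Localization.AtPrime P)) := by exact_mod_cast hle
  have hn6 : n = 6 := by omega
  have hc6 : Module.finrank (IsLocalRing.ResidueField (Localization.AtPrime P))
        (IsLocalRing.CotangentSpace (Localization.AtPrime P)) = 6 := by omega
  refine ⟨?_, ?_⟩
  · rw [IsRegularLocalRing.iff_finrank_cotangentSpace, hc6, hdimP, hn6]
  · rw [hdimP, hn6]
    rfl

end Groth.Agent.S13105
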