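import Groth.Statements.S13121
import Mathlib.Algebra.MvPolynomial.Expand
import Mathlib.Algebra.MvPolynomial.Rename
import Mathlib.Algebra.CharP.Two
import Mathlib.Tactic

set_option autoImplicit false
universe u
open KumFam

namespace Groth.Agent.S13121

section Helpers

open MvPolynomial

variable {R : Type u} [CommRing R]

/-- monomials in two variables -/
theorem mono (a b : ℕ) (r : R) :
    (monomial (Finsupp.single (0 : Fin 2) a + Finsupp.single (1 : Fin 2) b) r :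
      MvPolynomial (Fin 2) R) = C r * X 0 ^ a * X 1 ^ b := by
  rw [monomial_eq, Finsupp.prod_add_index' (by simp) (by intros; rw [pow_add]),
    Finsupp.prod_single_index (h := fun n e => (X n : MvPolynomial (Fin 2) R) ^ e) (pow_zero _),
    Finsupp.prod_single_index (h := fun n e => (X n : MvPolynomial (Fin 2) R) ^ e) (pow_zero _)]
  ring

theorem sapply0 (a b : ℕ) :
    (Finsupp.single (0 : Fin 2) a + Finsupp.single (1 : Fin 2) b) 0 = a := by
  simp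

theorem sapply1 (a b : ℕ) :
    (Finsupp.single (0 : Fin 2) a + Finsupp.single (1 : Fin 2) b) 1 = b := by
  simp

/-- vanishing of a coefficient of `expand 2 B * monomial` by parity -/
theorem coeff_expand_mul_monomial_eq_zero (B : MvPolynomial (Fin 2) R) (s m : Fin 2 →₀ ℕ) (r : R)
    (i : Fin 2) (hodd : s i ≤ m i → ¬ 2 ∣ (m i - s i)) :
    coeff m (expand 2 B * monomial s r) = 0 := by
  classical
  rw [coeff_mul_monomial']
  split_ifs with hle
  · rw [coeff_expand_of_not_dvd (i := i), zero_mul]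
    rw [Finsupp.tsub_apply]
    exact hodd (hle i)
  · rfl


/-- the polynomial `g` -/
noncomputable def g (l0 l2 l4 s0 s2 s4 τ : R) : MvPolynomial (Fin 2) R :=
  (C s0 * X 1 ^ 4 + C s2 * X 1 ^ 2 + C s4) * X 0 ^ 3 +
    (C l0 * X 0 ^ 4 + C l2 * X 0 ^ 2 + C l4) * X 1 ^ 3 + C τ * X 0 ^ 3 * X 1 ^ 3

theorem g_eq (l0 l2 l4 s0 s2 s4 τ : R) : g l0 l2 l4 s0 s2 s4 τ =
    monomial (Finsupp.single (0 : Fin 2) 3 + Finsupp.single (1 : Fin 2) 4) s0 +
    monomial (Finsupp.single (0 : Fin 2) 3 + Finsupp.single (1 : Fin 2) 2) s2 +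
    monomial (Finsupp.single (0 : Fin 2) 3 + Finsupp.single (1 : Fin 2) 0) s4 +
    monomial (Finsupp.single (0 : Fin 2) 4 + Finsupp.single (1 : Fin 2) 3) l0 +
    monomial (Finsupp.single (0 : Fin 2) 2 + Finsupp.single (1 : Fin 2) 3) l2 +
    monomial (Finsupp.single (0 : Fin 2) 0 + Finsupp.single (1 : Fin 2) 3) l4 +
    monomial (Finsupp.single (0 : Fin 2) 3 + Finsupp.single (1 : Fin 2) 3) τ := by
  simp only [mono, g]
  ring

theorem key (l0 l2 l4 s0 s2 s4 τ : R) (hτ : IsUnit τ) (A B : MvPolynomial (Fin 2) R)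
    (h : expand 2 A + expand 2 B * g l0 l2 l4 s0 s2 s4 τ = 0) : A = 0 ∧ B = 0 := by
  classical
  have hB : B = 0 := by
    ext k
    have hk := congrArg (coeff (2 • k + (Finsupp.single (0 : Fin 2) 3 + Finsupp.single (1 : Fin 2) 3))) h
    have hm0 : (2 • k + (Finsupp.single (0 : Fin 2) 3 + Finsupp.single (1 : Fin 2) 3) :
        Fin 2 →₀ ℕ) 0 = 2 * k 0 + 3 := by
      rw [Finsupp.add_apply, sapply0, Finsupp.smul_apply, smul_eq_mul]
    have hm1 : (2 • k + (Finsupp.single (0 : Fin 2) 3 + Finsupp.single (1 : Fin 2) 3) :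
        Fin 2 →₀ ℕ) 1 = 2 * k 1 + 3 := by
      rw [Finsupp.add_apply, sapply1, Finsupp.smul_apply, smul_eq_mul]
    rw [g_eq, coeff_add, coeff_zero, mul_add, mul_add, mul_add, mul_add, mul_add, mul_add,
      coeff_add, coeff_add, coeff_add, coeff_add, coeff_add, coeff_add,
      coeff_expand_of_not_dvd A (i := 0) (by rw [hm0]; omega),
      coeff_expand_mul_monomial_eq_zero B _ _ s0 1 (by rw [hm1, sapply1]; omega),
      coeff_expand_mul_monomial_eq_zero B _ _ s2 1 (by rw [hm1, sapply1]; omega),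
      coeff_expand_mul_monomial_eq_zero B _ _ s4 1 (by rw [hm1, sapply1]; omega),
      coeff_expand_mul_monomial_eq_zero B _ _ l0 0 (by rw [hm0, sapply0]; omega),
      coeff_expand_mul_monomial_eq_zero B _ _ l2 0 (by rw [hm0, sapply0]; omega),
      coeff_expand_mul_monomial_eq_zero B _ _ l4 0 (by rw [hm0, sapply0]; omega),
      coeff_mul_monomial', if_pos (le_add_self), add_tsub_cancel_right,
      coeff_expand_smul 2 (by norm_num)] at hk
    simp only [zero_add] at hk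
    rw [coeff_zero]
    exact (hτ.mul_left_eq_zero).mp hk
  subst hB
  rw [map_zero, zero_mul, add_zero] at h
  exact ⟨(expand_eq_zero (by norm_num)).mp h, rfl⟩


/-- the inclusion `R[a,b] → R[a,b,c]` -/
noncomputable def inc : MvPolynomial (Fin 2) R →ₐ[R] MvPolynomial (Fin 3) R :=
  rename Fin.castSucc

theorem inc_X0 : inc (X 0 : MvPolynomial (Fin 2) R) = X 0 := by
  simp [inc]

theorem inc_X1 : inc (X 1 : MvPolynomial (Fin 2) R) = X 1 := by
  simp only [inc, rename_X]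
  rfl

/-- the tail of the equation, in two variables -/
noncomputable def h2 (l0 l2 l4 s0 s2 s4 τ : R) : MvPolynomial (Fin 2) R :=
  C (s0 ^ 2) * X 0 ^ 3 * X 1 ^ 4 + C (s2 ^ 2) * X 0 ^ 3 * X 1 ^ 2 +
    C (s4 ^ 2) * X 0 ^ 3 + C (l0 ^ 2) * X 0 ^ 4 * X 1 ^ 3 + C (l2 ^ 2) * X 0 ^ 2 * X 1 ^ 3 +
    C (l4 ^ 2) * X 1 ^ 3 + C (τ ^ 2) * X 0 ^ 3 * X 1 ^ 3

/-- the equation -/
noncomputable def Q (l0 l2 l4 s0 s2 s4 τ : R) : MvPolynomial (Fin 3) R :=
  X 2 ^ 2 + C (s0 ^ 2) * X 0 ^ 3 * X 1 ^ 4 + C (s2 ^ 2) * X 0 ^ 3 * X 1 ^ 2 +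
    C (s4 ^ 2) * X 0 ^ 3 + C (l0 ^ 2) * X 0 ^ 4 * X 1 ^ 3 + C (l2 ^ 2) * X 0 ^ 2 * X 1 ^ 3 +
    C (l4 ^ 2) * X 1 ^ 3 + C (τ ^ 2) * X 0 ^ 3 * X 1 ^ 3

theorem Q_eq (l0 l2 l4 s0 s2 s4 τ : R) :
    Q l0 l2 l4 s0 s2 s4 τ = X 2 ^ 2 + inc (h2 l0 l2 l4 s0 s2 s4 τ) := by
  have hC : ∀ r : R, inc (C r : MvPolynomial (Fin 2) R) = C r := fun r => by simp [inc]
  simp only [Q, h2, map_add, map_mul, map_pow, inc_X0, inc_X1, hC]
  ring

/-- division by the monic (in `c`) polynomial `Q` -/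
theorem division (l0 l2 l4 s0 s2 s4 τ : R) (F : MvPolynomial (Fin 3) R) :
    ∃ (q : MvPolynomial (Fin 3) R) (A B : MvPolynomial (Fin 2) R),
      F = Q l0 l2 l4 s0 s2 s4 τ * q + inc A + inc B * X 2 := by
  induction F using MvPolynomial.induction_on with
  | C r =>
    refine ⟨0, C r, 0, ?_⟩
    simp [inc]
  | add F G hF hG =>
    obtain ⟨q, A, B, hF⟩ := hF
    obtain ⟨q', A', B', hG⟩ := hG
    refine ⟨q + q', A + A', B + B', ?_⟩
    rw [hF, hG, map_add, map_add]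
    ring
  | mul_X F i hF =>
    obtain ⟨q, A, B, hF⟩ := hF
    obtain rfl | rfl | rfl : i = 0 ∨ i = 1 ∨ i = 2 := by
      fin_cases i <;> simp
    · refine ⟨q * X 0, A * X 0, B * X 0, ?_⟩
      rw [hF, map_mul, map_mul, inc_X0]
      ring
    · refine ⟨q * X 1, A * X 1, B * X 1, ?_⟩
      rw [hF, map_mul, map_mul, inc_X1]
      ring
    · refine ⟨q * X 2 + inc B, -(B * h2 l0 l2 l4 s0 s2 s4 τ), A, ?_⟩
      rw [hF, map_neg, map_mul, Q_eq]
      ring

end Helpers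

open MvPolynomial in
/-- Let R be a commutative ring of characteristic 2 and l0, l2, l4, s0, s2, s4, τ ∈ R with τ a unit. In
R[u, v] (u = X 0, v = X 1) put g = (s0 v⁴ + s2 v² + s4) u³ + (l0 u⁴ + l2 u² + l4) v³ + τ u³ v³. Then
the kernel of the R-algebra homomorphism R[a, b, c] → R[u, v] (a = X 0, b = X 1, c = X 2) with a ↦
u², b ↦ v², c ↦ g is the ideal generated by c² + s0² a³ b⁴ + s2² a³ b² + s4² a³ + l0² a⁴ b³ + l2² a²
b³ + l4² b³ + τ² a³ b³; its image is the subalgebra R[u², v², g], which is therefore presented by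
this one equation. -/
theorem result (R : Type u) [CommRing R] [CharP R 2]
    (l0 l2 l4 s0 s2 s4 τ : R) (hτ : IsUnit τ) :
    RingHom.ker (MvPolynomial.aeval (R := R) (S₁ := MvPolynomial (Fin 2) R)
        ![X 0 ^ 2, X 1 ^ 2,
          (C s0 * X 1 ^ 4 + C s2 * X 1 ^ 2 + C s4) * X 0 ^ 3 +
            (C l0 * X 0 ^ 4 + C l2 * X 0 ^ 2 + C l4) * X 1 ^ 3 +
            C τ * X 0 ^ 3 * X 1 ^ 3]) =
      Ideal.span {(X 2 ^ 2 + C (s0 ^ 2) * X 0 ^ 3 * X 1 ^ 4 + C (s2 ^ 2) * X 0 ^ 3 * X 1 ^ 2 +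
        C (s4 ^ 2) * X 0 ^ 3 + C (l0 ^ 2) * X 0 ^ 4 * X 1 ^ 3 + C (l2 ^ 2) * X 0 ^ 2 * X 1 ^ 3 +
        C (l4 ^ 2) * X 1 ^ 3 + C (τ ^ 2) * X 0 ^ 3 * X 1 ^ 3 : MvPolynomial (Fin 3) R)} := by
  change RingHom.ker (MvPolynomial.aeval (R := R) (S₁ := MvPolynomial (Fin 2) R)
      ![X 0 ^ 2, X 1 ^ 2, g l0 l2 l4 s0 s2 s4 τ]) = Ideal.span {Q l0 l2 l4 s0 s2 s4 τ}
  have hφX2 : MvPolynomial.aeval (R := R) (S₁ := MvPolynomial (Fin 2) R)
      ![X 0 ^ 2, X 1 ^ 2, g l0 l2 l4 s0 s2 s4 τ] (X 2) = g l0 l2 l4 s0 s2 s4 τ := by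
    rw [MvPolynomial.aeval_X]
    rfl
  have hcomp : (MvPolynomial.aeval (R := R) (S₁ := MvPolynomial (Fin 2) R)
      ![X 0 ^ 2, X 1 ^ 2, g l0 l2 l4 s0 s2 s4 τ]).comp inc = MvPolynomial.expand 2 := by
    apply MvPolynomial.algHom_ext
    intro i
    obtain rfl | rfl : i = 0 ∨ i = 1 := by fin_cases i <;> simp
    · rw [AlgHom.comp_apply, inc_X0, MvPolynomial.aeval_X, MvPolynomial.expand_X]
      rfl
    · rw [AlgHom.comp_apply, inc_X1, MvPolynomial.aeval_X, MvPolynomial.expand_X]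
      rfl
  have hφinc : ∀ A : MvPolynomial (Fin 2) R, MvPolynomial.aeval (R := R)
      (S₁ := MvPolynomial (Fin 2) R) ![X 0 ^ 2, X 1 ^ 2, g l0 l2 l4 s0 s2 s4 τ] (inc A) =
      MvPolynomial.expand 2 A := fun A => congrArg (fun f => f A) hcomp
  have hg2 : g l0 l2 l4 s0 s2 s4 τ ^ 2 = MvPolynomial.expand 2 (h2 l0 l2 l4 s0 s2 s4 τ) := by
    unfold g h2
    simp only [map_add, map_mul, map_pow, MvPolynomial.expand_X, MvPolynomial.expand_C,
      CharTwo.add_sq, mul_pow]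
    ring
  have hφQ : MvPolynomial.aeval (R := R) (S₁ := MvPolynomial (Fin 2) R)
      ![X 0 ^ 2, X 1 ^ 2, g l0 l2 l4 s0 s2 s4 τ] (Q l0 l2 l4 s0 s2 s4 τ) = 0 := by
    rw [Q_eq, map_add, map_pow, hφX2, hφinc, hg2]
    exact CharTwo.add_self_eq_zero _
  apply le_antisymm
  · intro F hF
    rw [RingHom.mem_ker] at hF
    obtain ⟨q, A, B, rfl⟩ := division l0 l2 l4 s0 s2 s4 τ F
    rw [map_add, map_add, map_mul, map_mul, hφQ, zero_mul, zero_add, hφinc, hφinc, hφX2] at hF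
    obtain ⟨rfl, rfl⟩ := key l0 l2 l4 s0 s2 s4 τ hτ A B hF
    simp only [map_zero, zero_mul, add_zero]
    exact Ideal.mul_mem_right _ _ (Ideal.subset_span rfl)
  · rw [Ideal.span_le]
    intro x hx
    rw [Set.mem_singleton_iff] at hx
    subst hx
    exact hφQ

end Groth.Agent.S13121
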