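import Groth.Statements.S13120
import Groth.Agent.S13121
import Mathlib.Algebra.MvPolynomial.Derivation
import Mathlib.Algebra.MvPolynomial.Division

set_option autoImplicit false
universe u
open KumFam

namespace Groth.Agent.S13120

section Helpers

open MvPolynomial Groth.Agent.S13121

variable {R : Type u} [CommRing R]

/-- a derivation in characteristic two kills `expand 2` of anything -/
theorem deriv_expand [CharP R 2] (D : Derivation R (MvPolynomial (Fin 2) R) (MvPolynomial (Fin 2) R))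
    (α : MvPolynomial (Fin 2) R) : D (expand 2 α) = 0 := by
  induction α using MvPolynomial.induction_on with
  | C r =>
    rw [expand_C]
    exact D.map_algebraMap r
  | add p q hp hq => rw [map_add, map_add, hp, hq, add_zero]
  | mul_X p i hp =>
    rw [map_mul, expand_X, Derivation.leibniz, hp, smul_zero, add_zero, Derivation.leibniz_pow,
      CharTwo.two_nsmul, smul_zero]

/-- decomposition into parity components -/
theorem decomp (a : MvPolynomial (Fin 2) R) :
    ∃ α00 α10 α01 α11 : MvPolynomial (Fin 2) R,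
      a = expand 2 α00 + expand 2 α10 * X 0 + expand 2 α01 * X 1 + expand 2 α11 * (X 0 * X 1) := by
  induction a using MvPolynomial.induction_on with
  | C r => exact ⟨C r, 0, 0, 0, by simp⟩
  | add p q hp hq =>
    obtain ⟨a1, a2, a3, a4, rfl⟩ := hp
    obtain ⟨b1, b2, b3, b4, rfl⟩ := hq
    exact ⟨a1 + b1, a2 + b2, a3 + b3, a4 + b4, by simp only [map_add]; ring⟩
  | mul_X p i hp =>
    obtain ⟨a1, a2, a3, a4, rfl⟩ := hp
    obtain rfl | rfl : i = 0 ∨ i = 1 := by fin_cases i <;> simp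
    · exact ⟨a2 * X 0, a1, a4 * X 0, a3, by simp only [map_mul, expand_X]; ring⟩
    · exact ⟨a3 * X 1, a4 * X 1, a1, a2, by simp only [map_mul, expand_X]; ring⟩

/-- exponent vectors in two variables -/
noncomputable abbrev sv (a b : ℕ) : Fin 2 →₀ ℕ := Finsupp.single (0 : Fin 2) a + Finsupp.single (1 : Fin 2) b

theorem coeff_same (α : MvPolynomial (Fin 2) R) (k s : Fin 2 →₀ ℕ) (r : R) :
    coeff (2 • k + s) (expand 2 α * monomial s r) = coeff k α * r := by
  classical
  rw [coeff_mul_monomial', if_pos le_add_self, add_tsub_cancel_right,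
    coeff_expand_smul 2 (by norm_num)]

/-- the normalised form of the parity decomposition -/
theorem norm_eq (α00 α10 α01 α11 : MvPolynomial (Fin 2) R) :
    expand 2 α00 + expand 2 α10 * X 0 + expand 2 α01 * X 1 + expand 2 α11 * (X 0 * X 1) =
      expand 2 α00 * monomial (sv 0 0) 1 + expand 2 α10 * monomial (sv 1 0) 1 +
        expand 2 α01 * monomial (sv 0 1) 1 + expand 2 α11 * monomial (sv 1 1) 1 := by
  simp only [sv, mono, C_1, one_mul, pow_zero, pow_one, mul_one]

theorem m0 (k : Fin 2 →₀ ℕ) (a b : ℕ) : (2 • k + sv a b) 0 = 2 * k 0 + a := by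
  rw [Finsupp.add_apply, sapply0, Finsupp.smul_apply, smul_eq_mul]

theorem m1 (k : Fin 2 →₀ ℕ) (a b : ℕ) : (2 • k + sv a b) 1 = 2 * k 1 + b := by
  rw [Finsupp.add_apply, sapply1, Finsupp.smul_apply, smul_eq_mul]

theorem coeff10 (α00 α10 α01 α11 : MvPolynomial (Fin 2) R) (k : Fin 2 →₀ ℕ) :
    coeff (2 • k + sv 1 0)
      (expand 2 α00 + expand 2 α10 * X 0 + expand 2 α01 * X 1 + expand 2 α11 * (X 0 * X 1)) =
      coeff k α10 := by
  rw [norm_eq, coeff_add, coeff_add, coeff_add, coeff_same,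
    coeff_expand_mul_monomial_eq_zero α00 _ _ 1 0 (by rw [m0, sapply0]; omega),
    coeff_expand_mul_monomial_eq_zero α01 _ _ 1 0 (by rw [m0, sapply0]; omega),
    coeff_expand_mul_monomial_eq_zero α11 _ _ 1 1 (by rw [m1, sapply1]; omega)]
  simp

theorem coeff01 (α00 α10 α01 α11 : MvPolynomial (Fin 2) R) (k : Fin 2 →₀ ℕ) :
    coeff (2 • k + sv 0 1)
      (expand 2 α00 + expand 2 α10 * X 0 + expand 2 α01 * X 1 + expand 2 α11 * (X 0 * X 1)) =
      coeff k α01 := by
  rw [norm_eq, coeff_add, coeff_add, coeff_add, coeff_same,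
    coeff_expand_mul_monomial_eq_zero α00 _ _ 1 1 (by rw [m1, sapply1]; omega),
    coeff_expand_mul_monomial_eq_zero α10 _ _ 1 1 (by rw [m1, sapply1]; omega),
    coeff_expand_mul_monomial_eq_zero α11 _ _ 1 0 (by rw [m0, sapply0]; omega)]
  simp

theorem coeff11 (α00 α10 α01 α11 : MvPolynomial (Fin 2) R) (k : Fin 2 →₀ ℕ) :
    coeff (2 • k + sv 1 1)
      (expand 2 α00 + expand 2 α10 * X 0 + expand 2 α01 * X 1 + expand 2 α11 * (X 0 * X 1)) =
      coeff k α11 := by
  rw [norm_eq, coeff_add, coeff_add, coeff_add, coeff_same,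
    coeff_expand_mul_monomial_eq_zero α00 _ _ 1 0 (by rw [m0, sapply0]; omega),
    coeff_expand_mul_monomial_eq_zero α10 _ _ 1 1 (by rw [m1, sapply1]; omega),
    coeff_expand_mul_monomial_eq_zero α01 _ _ 1 0 (by rw [m0, sapply0]; omega)]
  simp

/-- elements of `R[u², u³, v², v³]` have no terms of degree one in `u` or in `v` -/
theorem adjoin_coeff (a : MvPolynomial (Fin 2) R)
    (ha : a ∈ Algebra.adjoin R
      ({X 0 ^ 2, X 0 ^ 3, X 1 ^ 2, X 1 ^ 3} : Set (MvPolynomial (Fin 2) R))) :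
    ∀ m : Fin 2 →₀ ℕ, (m 0 = 1 ∨ m 1 = 1) → coeff m a = 0 := by
  classical
  induction ha using Algebra.adjoin_induction with
  | mem x hx =>
    intro m hm
    rcases hx with rfl | rfl | rfl | rfl
    · rw [coeff_X_pow, if_neg]
      rintro rfl
      simp at hm
    · rw [coeff_X_pow, if_neg]
      rintro rfl
      simp at hm
    · rw [coeff_X_pow, if_neg]
      rintro rfl
      simp at hm
    · rw [coeff_X_pow, if_neg]
      rintro rfl
      simp at hm
  | algebraMap r =>
    intro m hm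
    rw [MvPolynomial.algebraMap_eq, coeff_C, if_neg]
    rintro rfl
    simp at hm
  | add x y hx hy ihx ihy =>
    intro m hm
    rw [coeff_add, ihx m hm, ihy m hm, add_zero]
  | mul x y hx hy ihx ihy =>
    intro m hm
    rw [coeff_mul]
    apply Finset.sum_eq_zero
    rintro ⟨p, q⟩ hpq
    rw [Finset.mem_antidiagonal] at hpq
    simp only at hpq
    have h0 : p 0 + q 0 = m 0 := by rw [← hpq]; rfl
    have h1 : p 1 + q 1 = m 1 := by rw [← hpq]; rfl
    rcases hm with hm | hm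
    · have : p 0 = 1 ∨ q 0 = 1 := by omega
      rcases this with h | h
      · rw [ihx p (Or.inl h), zero_mul]
      · rw [ihy q (Or.inl h), mul_zero]
    · have : p 1 = 1 ∨ q 1 = 1 := by omega
      rcases this with h | h
      · rw [ihx p (Or.inr h), zero_mul]
      · rw [ihy q (Or.inr h), mul_zero]

/-- `u v` is a non-zero-divisor -/
theorem mul_X0X1_cancel (p : MvPolynomial (Fin 2) R) (h : p * (X 0 * X 1) = 0) : p = 0 := by
  classical
  ext k
  have h1 := congrArg (coeff (k + sv 1 1)) h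
  have h2 : (X 0 * X 1 : MvPolynomial (Fin 2) R) = monomial (sv 1 1) 1 := by
    simp only [sv, mono, C_1, one_mul, pow_one]
  rw [h2, coeff_mul_monomial', if_pos le_add_self, add_tsub_cancel_right, mul_one, coeff_zero] at h1
  rw [h1, coeff_zero]

/-- a polynomial whose coefficients vanish off multiples of `uv` is divisible by `uv` -/
theorem exists_mul_X0X1 (p : MvPolynomial (Fin 2) R)
    (h : ∀ k : Fin 2 →₀ ℕ, (k 0 = 0 ∨ k 1 = 0) → coeff k p = 0) :
    ∃ γ : MvPolynomial (Fin 2) R, p = γ * (X 0 * X 1) := by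
  classical
  have h2 : (X 0 * X 1 : MvPolynomial (Fin 2) R) = monomial (sv 1 1) 1 := by
    simp only [sv, mono, C_1, one_mul, pow_one]
  have hmod : p.modMonomial (sv 1 1) = 0 := by
    ext k
    by_cases hk : sv 1 1 ≤ k
    · rw [coeff_modMonomial_of_le _ hk, coeff_zero]
    · rw [coeff_modMonomial_of_not_le _ hk, coeff_zero]
      apply h
      by_contra hcon
      push Not at hcon
      apply hk
      intro i
      obtain rfl | rfl : i = 0 ∨ i = 1 := by fin_cases i <;> simp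
      · rw [sapply0]; omega
      · rw [sapply1]; omega
  refine ⟨p.divMonomial (sv 1 1), ?_⟩
  have := divMonomial_add_modMonomial p (sv 1 1)
  rw [hmod, add_zero] at this
  rw [h2, mul_comm]
  exact this.symm

/-- `expand 2` of anything lies in `R[u², v², g]` -/
theorem expand_mem (S : Set (MvPolynomial (Fin 2) R)) (h0 : X 0 ^ 2 ∈ S) (h1 : X 1 ^ 2 ∈ S)
    (α : MvPolynomial (Fin 2) R) : expand 2 α ∈ Algebra.adjoin R S := by
  induction α using MvPolynomial.induction_on with
  | C r =>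
    rw [expand_C]
    exact Subalgebra.algebraMap_mem _ r
  | add p q hp hq =>
    rw [map_add]
    exact Subalgebra.add_mem _ hp hq
  | mul_X p i hp =>
    rw [map_mul, expand_X]
    refine Subalgebra.mul_mem _ hp (Algebra.subset_adjoin ?_)
    obtain rfl | rfl : i = 0 ∨ i = 1 := by fin_cases i <;> simp
    · exact h0
    · exact h1

theorem kernel_iff [CharP R 2] (l0 l2 l4 s0 s2 s4 τ : R) (hτ : IsUnit τ)
    (D : Derivation R (MvPolynomial (Fin 2) R) (MvPolynomial (Fin 2) R))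
    (hDu : D (X 0) = X 1 ^ 2 * (C l0 * X 0 ^ 4 + C τ * X 0 ^ 3 + C l2 * X 0 ^ 2 + C l4))
    (hDv : D (X 1) = X 0 ^ 2 * (C s0 * X 1 ^ 4 + C τ * X 1 ^ 3 + C s2 * X 1 ^ 2 + C s4))
    (a : MvPolynomial (Fin 2) R)
    (ha : a ∈ Algebra.adjoin R
      ({X 0 ^ 2, X 0 ^ 3, X 1 ^ 2, X 1 ^ 3} : Set (MvPolynomial (Fin 2) R))) :
    D a = 0 ↔ a ∈ Algebra.adjoin R
      ({X 0 ^ 2, X 1 ^ 2, g l0 l2 l4 s0 s2 s4 τ} : Set (MvPolynomial (Fin 2) R)) := by
  classical
  have hC : ∀ r : R, D (C r) = 0 := fun r => D.map_algebraMap r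
  have h2 : (2 : MvPolynomial (Fin 2) R) = 0 := CharTwo.two_eq_zero
  constructor
  · intro hD
    obtain ⟨α00, α10, α01, α11, rfl⟩ := decomp a
    have hDa : D (expand 2 α00 + expand 2 α10 * X 0 + expand 2 α01 * X 1 +
          expand 2 α11 * (X 0 * X 1)) =
        expand 2 (α10 * X 1 * (C l0 * X 0 ^ 2 + C l2 * X 0 + C l4) +
            α01 * X 0 * (C s0 * X 1 ^ 2 + C s2 * X 1 + C s4)) +
          expand 2 (C τ * α10 * X 0 * X 1 + α11 * X 0 * (C s0 * X 1 ^ 2 + C s2 * X 1 + C s4)) * X 0 +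
          expand 2 (C τ * α01 * X 0 * X 1 + α11 * X 1 * (C l0 * X 0 ^ 2 + C l2 * X 0 + C l4)) * X 1 +
          expand 2 0 * (X 0 * X 1) := by
      simp only [map_add, Derivation.leibniz, deriv_expand, hDu, hDv, smul_eq_mul, map_mul, map_pow,
        expand_X, expand_C, map_zero, add_zero, zero_add, zero_mul]
      linear_combination (C τ * expand 2 α11 * X 0 ^ 3 * X 1 ^ 3) * h2
    have hβ10 : C τ * α10 * X 0 * X 1 + α11 * X 0 * (C s0 * X 1 ^ 2 + C s2 * X 1 + C s4) = 0 := by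
      ext k
      rw [← coeff10 _ _ _ (0 : MvPolynomial (Fin 2) R) k, ← hDa, hD, coeff_zero, coeff_zero]
    have hβ01 : C τ * α01 * X 0 * X 1 + α11 * X 1 * (C l0 * X 0 ^ 2 + C l2 * X 0 + C l4) = 0 := by
      ext k
      rw [← coeff01 _ _ _ (0 : MvPolynomial (Fin 2) R) k, ← hDa, hD, coeff_zero, coeff_zero]
    obtain ⟨γ, hγ⟩ : ∃ γ : MvPolynomial (Fin 2) R, α11 = γ * (X 0 * X 1) := by
      apply exists_mul_X0X1
      intro k hk
      rw [← coeff11 α00 α10 α01 α11 k]
      apply adjoin_coeff _ ha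
      rw [m0, m1]
      omega
    obtain ⟨t, rfl⟩ := hτ
    have e10 : C (t : R) * α10 + γ * X 0 * (C s0 * X 1 ^ 2 + C s2 * X 1 + C s4) = 0 := by
      apply mul_X0X1_cancel
      rw [hγ] at hβ10
      linear_combination hβ10
    have e01 : C (t : R) * α01 + γ * X 1 * (C l0 * X 0 ^ 2 + C l2 * X 0 + C l4) = 0 := by
      apply mul_X0X1_cancel
      rw [hγ] at hβ01
      linear_combination hβ01
    have htt : (C (t : R) : MvPolynomial (Fin 2) R) * C ((t⁻¹ : Rˣ) : R) = 1 := by
      rw [← C_mul, Units.mul_inv, C_1]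
    have hα10 : α10 = C ((t⁻¹ : Rˣ) : R) * γ * X 0 * (C s0 * X 1 ^ 2 + C s2 * X 1 + C s4) := by
      linear_combination (C ((t⁻¹ : Rˣ) : R)) * e10 - α10 * htt -
        (C ((t⁻¹ : Rˣ) : R) * γ * X 0 * (C s0 * X 1 ^ 2 + C s2 * X 1 + C s4)) * h2
    have hα01 : α01 = C ((t⁻¹ : Rˣ) : R) * γ * X 1 * (C l0 * X 0 ^ 2 + C l2 * X 0 + C l4) := by
      linear_combination (C ((t⁻¹ : Rˣ) : R)) * e01 - α01 * htt -
        (C ((t⁻¹ : Rˣ) : R) * γ * X 1 * (C l0 * X 0 ^ 2 + C l2 * X 0 + C l4)) * h2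
    have hα11 : α11 = C (t : R) * (C ((t⁻¹ : Rˣ) : R) * γ) * X 0 * X 1 := by
      rw [hγ]
      linear_combination (-(γ * X 0 * X 1)) * htt
    have key : expand 2 α00 + expand 2 α10 * X 0 + expand 2 α01 * X 1 + expand 2 α11 * (X 0 * X 1) =
        expand 2 α00 + expand 2 (C ((t⁻¹ : Rˣ) : R) * γ) * g l0 l2 l4 s0 s2 s4 (t : R) := by
      rw [hα10, hα01, hα11]
      unfold g
      simp only [map_add, map_mul, map_pow, expand_X, expand_C]
      ring
    rw [key]
    refine Subalgebra.add_mem _ (expand_mem _ (by simp) (by simp) _)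
      (Subalgebra.mul_mem _ (expand_mem _ (by simp) (by simp) _) (Algebra.subset_adjoin (by simp)))
  · intro ha'
    clear ha
    induction ha' using Algebra.adjoin_induction with
    | mem x hx =>
      rcases hx with rfl | rfl | rfl
      · rw [Derivation.leibniz_pow, CharTwo.two_nsmul]
      · rw [Derivation.leibniz_pow, CharTwo.two_nsmul]
      · unfold Groth.Agent.S13121.g
        simp only [map_add, Derivation.leibniz, Derivation.leibniz_pow, hC, hDu, hDv, smul_eq_mul,
          nsmul_eq_mul, add_zero, mul_zero]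
        have h3 : ((3 : ℕ) : MvPolynomial (Fin 2) R) = 1 := by
          push_cast
          linear_combination h2
        have h4 : ((4 : ℕ) : MvPolynomial (Fin 2) R) = 0 := by
          push_cast
          linear_combination 2 * h2
        have h2' : ((2 : ℕ) : MvPolynomial (Fin 2) R) = 0 := by
          push_cast
          exact h2
        rw [h3, h4, h2']
        simp only [Nat.reduceSub]
        linear_combination (X 0 ^ 2 * X 1 ^ 2 *
          ((C s0 * X 1 ^ 4 + C s2 * X 1 ^ 2 + C s4) * (C l0 * X 0 ^ 4 + C l2 * X 0 ^ 2 + C l4) +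
            (C s0 * X 1 ^ 4 + C s2 * X 1 ^ 2 + C s4) * C τ * X 0 ^ 3 +
            (C l0 * X 0 ^ 4 + C l2 * X 0 ^ 2 + C l4) * C τ * X 1 ^ 3 +
            C τ ^ 2 * X 0 ^ 3 * X 1 ^ 3)) * h2
    | algebraMap r => exact D.map_algebraMap r
    | add x y hx hy ihx ihy => rw [map_add, ihx, ihy, add_zero]
    | mul x y hx hy ihx ihy => rw [Derivation.leibniz, ihx, ihy, smul_zero, smul_zero, add_zero]

end Helpers

open MvPolynomial in
/-- Let R be a commutative ring of characteristic 2 and l0, l2, l4, s0, s2, s4, τ ∈ R with τ a unit.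
Inside R[u, v] (u = X 0, v = X 1) let A = R[u², u³, v², v³] be the coordinate ring of the product of
two cuspidal curves, and let D be the R-derivation of R[u, v] with D(u) = v²(l0 u⁴ + τ u³ + l2 u² +
l4) and D(v) = u²(s0 v⁴ + τ v³ + s2 v² + s4); D is u²v² times the rational vector field (l0 u² + τ u
+ l2 + l4 u⁻²) ∂_u + (s0 v² + τ v + s2 + s4 v⁻²) ∂_v, which maps A into itself, and u²v² is a
non-zero-divisor, so the kernel of that vector field on A is the set of a ∈ A with D(a) = 0. Then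
for a ∈ A: D(a) = 0 if and only if a ∈ R[u², v², g], where g = (s0 v⁴ + s2 v² + s4) u³ + (l0 u⁴ + l2
u² + l4) v³ + τ u³ v³. (The published statement identifies this kernel with the ring of invariants
of the corresponding action of the group scheme of square roots of unity; this row states the kernel
computation that is actually carried out.) -/
theorem result (R : Type u) [CommRing R] [CharP R 2]
    (l0 l2 l4 s0 s2 s4 τ : R) (hτ : IsUnit τ) (a : MvPolynomial (Fin 2) R)
    (ha : a ∈ Algebra.adjoin R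
      ({X 0 ^ 2, X 0 ^ 3, X 1 ^ 2, X 1 ^ 3} : Set (MvPolynomial (Fin 2) R))) :
    MvPolynomial.mkDerivation R
        (![X 1 ^ 2 * (C l0 * X 0 ^ 4 + C τ * X 0 ^ 3 + C l2 * X 0 ^ 2 + C l4),
          X 0 ^ 2 * (C s0 * X 1 ^ 4 + C τ * X 1 ^ 3 + C s2 * X 1 ^ 2 + C s4)] :
          Fin 2 → MvPolynomial (Fin 2) R) a = 0 ↔
      a ∈ Algebra.adjoin R
        ({X 0 ^ 2, X 1 ^ 2,
          (C s0 * X 1 ^ 4 + C s2 * X 1 ^ 2 + C s4) * X 0 ^ 3 +
            (C l0 * X 0 ^ 4 + C l2 * X 0 ^ 2 + C l4) * X 1 ^ 3 +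
            C τ * X 0 ^ 3 * X 1 ^ 3} : Set (MvPolynomial (Fin 2) R)) := by
  classical
  have hDu : MvPolynomial.mkDerivation R
      (![X 1 ^ 2 * (C l0 * X 0 ^ 4 + C τ * X 0 ^ 3 + C l2 * X 0 ^ 2 + C l4),
        X 0 ^ 2 * (C s0 * X 1 ^ 4 + C τ * X 1 ^ 3 + C s2 * X 1 ^ 2 + C s4)] :
        Fin 2 → MvPolynomial (Fin 2) R) (X 0) =
      X 1 ^ 2 * (C l0 * X 0 ^ 4 + C τ * X 0 ^ 3 + C l2 * X 0 ^ 2 + C l4) := by
    rw [MvPolynomial.mkDerivation_X]; rfl
  have hDv : MvPolynomial.mkDerivation R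
      (![X 1 ^ 2 * (C l0 * X 0 ^ 4 + C τ * X 0 ^ 3 + C l2 * X 0 ^ 2 + C l4),
        X 0 ^ 2 * (C s0 * X 1 ^ 4 + C τ * X 1 ^ 3 + C s2 * X 1 ^ 2 + C s4)] :
        Fin 2 → MvPolynomial (Fin 2) R) (X 1) =
      X 0 ^ 2 * (C s0 * X 1 ^ 4 + C τ * X 1 ^ 3 + C s2 * X 1 ^ 2 + C s4) := by
    rw [MvPolynomial.mkDerivation_X]; rfl
  exact kernel_iff l0 l2 l4 s0 s2 s4 τ hτ _ hDu hDv a ha

end Groth.Agent.S13120
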