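import Groth.Statements.S13122
import Groth.Agent.Lib.Helper13.Parity2
-- import your own Groth.Agent.* helpers here

set_option autoImplicit false
universe u
open KumFam

namespace Groth.Agent.S13122

open MvPolynomial in
/-- Let R be a commutative ring of characteristic 2 and l0, l2, l4, s0, s2, s4, τ ∈ R with τ a unit. On
R[x, y] (x = X 0, y = X 1; the coordinates u⁻¹, v⁻¹ of the smooth chart of the product of two
cuspidal curves) let D be the R-derivation with D(x) = l4 x⁴ + l2 x² + τ x + l0 and D(y) = s4 y⁴ +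
s2 y² + τ y + s0, and put h = (s4 y⁴ + s2 y² + s0) x + (l4 x⁴ + l2 x² + l0) y + τ x y. Then: (1) for
p ∈ R[x, y], D(p) = 0 if and only if p lies in the image of the R-algebra homomorphism R[a, b, c] →
R[x, y] (a = X 0, b = X 1, c = X 2) with a ↦ x², b ↦ y², c ↦ h; (2) the kernel of that homomorphism
is the ideal generated by c² + τ² a b + (s4² b⁴ + s2² b² + s0²) a + (l4² a⁴ + l2² a² + l0²) b. (The
published statement asserts that the ring of invariants of the action of the group scheme of square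
roots of unity given by this vector field is R[a, b, c] modulo this equation, by the same
computation as on the other chart; this row pins the generator h and states the kernel computation.) -/
theorem result (R : Type u) [CommRing R]
    [CharP R 2] (l0 l2 l4 s0 s2 s4 τ : R) (hτ : IsUnit τ) :
    (∀ p : MvPolynomial (Fin 2) R,
      MvPolynomial.mkDerivation R
          (![C l4 * X 0 ^ 4 + C l2 * X 0 ^ 2 + C τ * X 0 + C l0,
            C s4 * X 1 ^ 4 + C s2 * X 1 ^ 2 + C τ * X 1 + C s0] :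
            Fin 2 → MvPolynomial (Fin 2) R) p = 0 ↔
        p ∈ (MvPolynomial.aeval (R := R) (S₁ := MvPolynomial (Fin 2) R)
          ![X 0 ^ 2, X 1 ^ 2,
            (C s4 * X 1 ^ 4 + C s2 * X 1 ^ 2 + C s0) * X 0 +
              (C l4 * X 0 ^ 4 + C l2 * X 0 ^ 2 + C l0) * X 1 + C τ * X 0 * X 1]).range) ∧
    RingHom.ker (MvPolynomial.aeval (R := R) (S₁ := MvPolynomial (Fin 2) R)
        ![X 0 ^ 2, X 1 ^ 2,
          (C s4 * X 1 ^ 4 + C s2 * X 1 ^ 2 + C s0) * X 0 +
            (C l4 * X 0 ^ 4 + C l2 * X 0 ^ 2 + C l0) * X 1 + C τ * X 0 * X 1]) =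
      Ideal.span {(X 2 ^ 2 + C (τ ^ 2) * X 0 * X 1 +
        (C (s4 ^ 2) * X 1 ^ 4 + C (s2 ^ 2) * X 1 ^ 2 + C (s0 ^ 2)) * X 0 +
        (C (l4 ^ 2) * X 0 ^ 4 + C (l2 ^ 2) * X 0 ^ 2 + C (l0 ^ 2)) * X 1 : MvPolynomial (Fin 3) R)} := by
  obtain ⟨τ', hτ'⟩ := hτ.exists_right_inv
  -- abbreviations
  set A₀ : MvPolynomial (Fin 2) R := C l4 * X 0 ^ 2 + C l2 * X 0 + C l0 with hA₀
  set B₀ : MvPolynomial (Fin 2) R := C s4 * X 1 ^ 2 + C s2 * X 1 + C s0 with hB₀
  set h : MvPolynomial (Fin 2) R := (C s4 * X 1 ^ 4 + C s2 * X 1 ^ 2 + C s0) * X 0 +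
              (C l4 * X 0 ^ 4 + C l2 * X 0 ^ 2 + C l0) * X 1 + C τ * X 0 * X 1 with hh
  set D := MvPolynomial.mkDerivation R
          (![C l4 * X 0 ^ 4 + C l2 * X 0 ^ 2 + C τ * X 0 + C l0,
            C s4 * X 1 ^ 4 + C s2 * X 1 ^ 2 + C τ * X 1 + C s0] :
            Fin 2 → MvPolynomial (Fin 2) R) with hD
  have hDx : D (X 0) = expand 2 A₀ + X 0 * expand 2 (C τ) := by
    rw [hD, mkDerivation_X, hA₀]
    simp only [Matrix.cons_val_zero, map_add, map_mul, map_pow, expand_C, expand_X]; ring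
  have hDy : D (X 1) = expand 2 B₀ + X 1 * expand 2 (C τ) := by
    rw [hD, mkDerivation_X, hB₀]
    simp only [Matrix.cons_val_one, Matrix.cons_val_zero, map_add, map_mul, map_pow, expand_C,
      expand_X]; ring
  have hhdec : h = Groth.Agent.Lib.Helper13.Parity2.dec 0 B₀ A₀ (C τ) := by
    rw [hh, hA₀, hB₀]
    simp only [Groth.Agent.Lib.Helper13.Parity2.dec, map_add, map_mul, map_pow, expand_C, expand_X,
      map_zero]; ring
  have hDh : D h = 0 := by
    rw [hhdec, Groth.Agent.Lib.Helper13.Parity2.deriv_dec' D hDx hDy]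
    have e1 : B₀ * A₀ + A₀ * B₀ = 0 := by
      rw [mul_comm A₀ B₀]; exact Groth.Agent.Lib.Helper13.Parity2.add_self₂ _
    have e2 : B₀ * C τ + C τ * B₀ = 0 := by
      rw [mul_comm (C τ) B₀]; exact Groth.Agent.Lib.Helper13.Parity2.add_self₂ _
    have e3 : A₀ * C τ + C τ * A₀ = 0 := by
      rw [mul_comm (C τ) A₀]; exact Groth.Agent.Lib.Helper13.Parity2.add_self₂ _
    rw [e1, e2, e3]
    simp [Groth.Agent.Lib.Helper13.Parity2.dec]
  refine ⟨fun p => ⟨fun hp => ?_, ?_⟩, ?_⟩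
  · obtain ⟨q₀₀, q₁₀, q₀₁, q₁₁, rfl⟩ := Groth.Agent.Lib.Helper13.Parity2.exists_dec p
    rw [Groth.Agent.Lib.Helper13.Parity2.deriv_dec' D hDx hDy] at hp
    obtain ⟨-, h2, h3, -⟩ := Groth.Agent.Lib.Helper13.Parity2.dec_eq_zero hp
    have hττ : (C τ * C τ' : MvPolynomial (Fin 2) R) = 1 := by rw [← C_mul, hτ', C_1]
    have hq10 : q₁₀ = C τ' * q₁₁ * B₀ := by
      have : q₁₀ * C τ = q₁₁ * B₀ := by
        have := Groth.Agent.Lib.Helper13.Parity2.add_self₂ (q₁₁ * B₀)
        linear_combination h2 - this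
      calc q₁₀ = q₁₀ * (C τ * C τ') := by rw [hττ, mul_one]
        _ = (q₁₀ * C τ) * C τ' := by ring
        _ = _ := by rw [this]; ring
    have hq01 : q₀₁ = C τ' * q₁₁ * A₀ := by
      have : q₀₁ * C τ = q₁₁ * A₀ := by
        have := Groth.Agent.Lib.Helper13.Parity2.add_self₂ (q₁₁ * A₀)
        linear_combination h3 - this
      calc q₀₁ = q₀₁ * (C τ * C τ') := by rw [hττ, mul_one]
        _ = (q₀₁ * C τ) * C τ' := by ring
        _ = _ := by rw [this]; ring
    refine ⟨Groth.Agent.Lib.Helper13.Parity2.incl q₀₀ +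
      Groth.Agent.Lib.Helper13.Parity2.incl (C τ' * q₁₁) * X 2, ?_⟩
    have hφc : (aeval (R := R) (S₁ := MvPolynomial (Fin 2) R) ![X 0 ^ 2, X 1 ^ 2, h]) (X 2) = h := by
      simp
    change (aeval (R := R) (S₁ := MvPolynomial (Fin 2) R) ![X 0 ^ 2, X 1 ^ 2, h]) _ = _
    rw [map_add, map_mul, hφc, Groth.Agent.Lib.Helper13.Parity2.aeval_incl,
      Groth.Agent.Lib.Helper13.Parity2.aeval_incl, hhdec, hq10, hq01]
    simp only [Groth.Agent.Lib.Helper13.Parity2.dec, map_mul, map_zero]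
    have e : expand 2 q₁₁ = expand 2 (C τ * C τ') * expand 2 q₁₁ := by rw [hττ, map_one, one_mul]
    rw [map_mul] at e
    linear_combination (- X 0 * X 1) * e
  · rintro ⟨P, rfl⟩
    refine Groth.Agent.Lib.Helper13.Parity2.deriv_aeval_eq_zero D _ (fun i => ?_) P
    fin_cases i
    · have := Groth.Agent.Lib.Helper13.Parity2.deriv_expand D (X 0)
      rwa [expand_X] at this
    · have := Groth.Agent.Lib.Helper13.Parity2.deriv_expand D (X 1)
      rwa [expand_X] at this
    · exact hDh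
  · have key := Groth.Agent.Lib.Helper13.Parity2.ker_aeval_eq_span (R := R)
      (α := B₀) (β := A₀) (γ := C τ)
      (G := C (τ ^ 2) * X 0 * X 1 +
        (C (s4 ^ 2) * X 1 ^ 4 + C (s2 ^ 2) * X 1 ^ 2 + C (s0 ^ 2)) * X 0 +
        (C (l4 ^ 2) * X 0 ^ 4 + C (l2 ^ 2) * X 0 ^ 2 + C (l0 ^ 2)) * X 1)
      (hτ.map C).isRegular.left (h := h)
      (by rw [hhdec]; simp [Groth.Agent.Lib.Helper13.Parity2.dec])
      (by
        rw [hh]
        simp only [CharTwo.add_sq, mul_pow, map_add, map_mul, map_pow, expand_C, expand_X, C_pow]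
        ring)
    rw [key]
    congr 2
    simp only [Groth.Agent.Lib.Helper13.Parity2.incl, map_add, map_mul, map_pow, aeval_C, aeval_X,
      Matrix.cons_val_zero, Matrix.cons_val_one, algebraMap_eq]
    ring

end Groth.Agent.S13122
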