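import Groth.Statements.S13124

set_option autoImplicit false
universe u v w
open KumFam TensorProduct

namespace Groth.Agent.S13124

theorem mem_inv_of_mul {k : Type u} [CommRing k]
    {A : Type v} [CommRing A] [Bialgebra k A] [Module.Flat k A]
    {R : Type w} [CommRing R] [Algebra k R] [IsDomain R]
    [HopfRep.Comod k A R] [GLin.IsCoactAlg k A R]
    {r a b : R} (ha : a ∈ GLin.invariants k A R) (hb : b ∈ GLin.invariants k A R)
    (hb0 : b ≠ 0) (h : r * b = a) : r ∈ GLin.invariants k A R := by
  rw [GLin.mem_invariants_iff] at ha hb ⊢
  have h1 : HopfRep.Comod.coact (k := k) (A := A) r * (b ⊗ₜ[k] (1 : A)) =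
      (r ⊗ₜ[k] (1 : A)) * (b ⊗ₜ[k] (1 : A)) := by
    rw [← hb, ← GLin.IsCoactAlg.coact_mul, h, ha, hb, Algebra.TensorProduct.tmul_mul_tmul, h,
      one_mul]
  have hinj : Function.Injective (LinearMap.rTensor A (LinearMap.mulRight k b)) := by
    apply Module.Flat.rTensor_preserves_injective_linearMap
    intro x y hxy
    simpa [hb0] using hxy
  have hm : ∀ z : R ⊗[k] A, LinearMap.rTensor A (LinearMap.mulRight k b) z = z * (b ⊗ₜ[k] (1 : A)) := by
    intro z
    induction z using TensorProduct.induction_on with
    | zero => simp
    | tmul x y => simp [Algebra.TensorProduct.tmul_mul_tmul]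
    | add x y hx hy => rw [map_add, hx, hy, add_mul]
  apply hinj
  rw [hm, hm, h1]

/-- Let k be a commutative ring, A a commutative k-bialgebra that is flat over k, and R a commutative
k-algebra which is an integrally closed domain, with a coaction R → R ⊗ A that is an algebra
homomorphism. Then the ring of invariants (the elements f with coaction f ⊗ 1) is an integrally
closed domain. (The published statement is for a finite group scheme acting on a normal scheme whose
quotient is, locally, the spectrum of the ring of invariants; this row is the affine integral case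
and allows any commutative bialgebra flat over k, flatness being automatic over a field.) -/
theorem result (k : Type u) [CommRing k]
    (A : Type v) [CommRing A] [Bialgebra k A] [Module.Flat k A]
    (R : Type w) [CommRing R] [Algebra k R] [IsDomain R] [IsIntegrallyClosed R]
    [HopfRep.Comod k A R] [GLin.IsCoactAlg k A R] :
    IsIntegrallyClosed (GLin.invariants k A R) := by
  set S := GLin.invariants k A R with hS
  let KS := FractionRing S
  let KR := FractionRing R
  have hinj : Function.Injective (algebraMap S KR) := by
    rw [IsScalarTower.algebraMap_eq S R KR]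
    exact (IsFractionRing.injective R KR).comp Subtype.val_injective
  let φ : KS →ₐ[S] KR := IsFractionRing.liftAlgHom (K := KS) (g := Algebra.ofId S KR) hinj
  rw [isIntegrallyClosed_iff KS]
  intro x hx
  have h1 : IsIntegral S (φ x) := hx.map φ
  have h2 : IsIntegral R (φ x) := h1.tower_top
  obtain ⟨r, hr⟩ := (isIntegrallyClosed_iff KR).mp inferInstance h2
  obtain ⟨a, b, hb, hab⟩ := IsFractionRing.div_surjective (A := S) x
  have hb0 : b ≠ 0 := nonZeroDivisors.ne_zero hb
  have hbK : algebraMap S KS b ≠ 0 := by
    simpa using (IsFractionRing.injective S KS).ne hb0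
  have hxb : x * algebraMap S KS b = algebraMap S KS a := by
    rw [← hab, div_mul_cancel₀ _ hbK]
  have h3 : φ x * algebraMap S KR b = algebraMap S KR a := by
    have := congrArg φ hxb
    rwa [map_mul, AlgHom.commutes, AlgHom.commutes] at this
  have h4 : r * (b : R) = (a : R) := by
    apply IsFractionRing.injective R KR
    rw [map_mul, hr]
    exact h3
  have hbR : (b : R) ≠ 0 := fun h => hb0 (Subtype.ext h)
  have hrS : r ∈ S := mem_inv_of_mul a.2 b.2 hbR h4
  refine ⟨⟨r, hrS⟩, ?_⟩
  apply mul_right_cancel₀ hbK
  rw [hxb, ← map_mul]
  congr 1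
  exact Subtype.ext h4

end Groth.Agent.S13124
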