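import Groth.Statements.S13125
-- import your own Groth.Agent.* helpers here

set_option autoImplicit false
universe u v
open KumFam

namespace Groth.Agent.S13125

open DirectSum

section
variable {ι : Type*} [DecidableEq ι] {A B : Type*} [AddCommGroup A] [AddCommGroup B]
  (𝒜 : ι → AddSubgroup A) (ℬ : ι → AddSubgroup B) (π : A →+ B)
  (h : ∀ i, (𝒜 i).map π ≤ ℬ i)

/-- restriction of `π` to the graded pieces -/
def r (i : ι) : 𝒜 i →+ ℬ i where
  toFun x := ⟨π x.1, h i ⟨x.1, x.2, rfl⟩⟩
  map_zero' := Subtype.ext (map_zero π)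
  map_add' x y := Subtype.ext (map_add π x.1 y.1)

theorem coe_map (z : ⨁ i, 𝒜 i) :
    DirectSum.coeAddMonoidHom ℬ (DirectSum.map (r 𝒜 ℬ π h) z) =
      π (DirectSum.coeAddMonoidHom 𝒜 z) := by
  induction z using DirectSum.induction_on with
  | zero => simp
  | of i x =>
    rw [DirectSum.map_of, DirectSum.coeAddMonoidHom_of, DirectSum.coeAddMonoidHom_of]
    rfl
  | add x y hx hy => rw [map_add, map_add, hx, hy, map_add, map_add]

end

/-- Let A be a commutative ring graded by an additive monoid ι (an abelian group in the published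
statement) through additive subgroups 𝒜 i, and I an ideal of A. Then I is a homogeneous ideal if and
only if A/I carries a structure of ι-graded ring ℬ for which the quotient map sends 𝒜 i into ℬ i for
all i. -/
theorem result (ι : Type u) [DecidableEq ι] [AddMonoid ι]
    (A : Type v) [CommRing A] (𝒜 : ι → AddSubgroup A) [GradedRing 𝒜] (I : Ideal A) :
    I.IsHomogeneous 𝒜 ↔
      ∃ ℬ : ι → AddSubgroup (A ⧸ I), Nonempty (GradedRing ℬ) ∧
        ∀ i : ι, (𝒜 i).map (Ideal.Quotient.mk I : A →+ A ⧸ I) ≤ ℬ i := by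
  constructor
  · intro hI
    let π : A →+ A ⧸ I := (Ideal.Quotient.mk I : A →+ A ⧸ I)
    let ℬ : ι → AddSubgroup (A ⧸ I) := fun i => (𝒜 i).map π
    have hle : ∀ i, (𝒜 i).map π ≤ ℬ i := fun i => le_rfl
    refine ⟨ℬ, ⟨?_⟩, hle⟩
    let D : A →+ ⨁ i, ℬ i :=
      (DirectSum.map (r 𝒜 ℬ π hle)).comp (DirectSum.decomposeAddEquiv 𝒜).toAddMonoidHom
    have hD : ∀ a, D a = DirectSum.map (r 𝒜 ℬ π hle) (DirectSum.decompose 𝒜 a) := fun a => rfl
    have hker : ∀ a ∈ I, D a = 0 := by
      intro a ha
      rw [hD]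
      ext i
      rw [DirectSum.map_apply]
      change π (DirectSum.decompose 𝒜 a i : A) = 0
      exact Ideal.Quotient.eq_zero_iff_mem.mpr (hI i ha)
    have hwd : ∀ a b : A, Ideal.Quotient.mk I a = Ideal.Quotient.mk I b → D a = D b := by
      intro a b hab
      rw [← sub_eq_zero, ← map_sub]
      exact hker _ (Ideal.Quotient.eq.mp hab)
    let dec : A ⧸ I → ⨁ i, ℬ i := fun y => D (Function.surjInv Ideal.Quotient.mk_surjective y)
    have hdec : ∀ a, dec (Ideal.Quotient.mk I a) = D a := fun a =>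
      hwd _ _ (Function.surjInv_eq Ideal.Quotient.mk_surjective _)
    have hcoe : ∀ a, DirectSum.coeAddMonoidHom ℬ (D a) = Ideal.Quotient.mk I a := by
      intro a
      have e2 : DirectSum.coeAddMonoidHom 𝒜 (DirectSum.decompose 𝒜 a) = a :=
        DirectSum.Decomposition.left_inv (ℳ := 𝒜) a
      rw [hD, coe_map, e2]
      rfl
    have hadd : ∀ y₁ y₂, dec (y₁ + y₂) = dec y₁ + dec y₂ := by
      intro y₁ y₂
      obtain ⟨a, rfl⟩ := Ideal.Quotient.mk_surjective y₁
      obtain ⟨b, rfl⟩ := Ideal.Quotient.mk_surjective y₂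
      rw [← map_add, hdec, hdec, hdec, map_add]
    exact
      { one_mem := ⟨1, SetLike.GradedOne.one_mem, map_one (Ideal.Quotient.mk I)⟩
        mul_mem := by
          rintro i j _ _ ⟨a, ha, rfl⟩ ⟨b, hb, rfl⟩
          exact ⟨a * b, SetLike.GradedMul.mul_mem ha hb, map_mul (Ideal.Quotient.mk I) _ _⟩
        decompose' := dec
        left_inv := by
          intro y
          obtain ⟨a, rfl⟩ := Ideal.Quotient.mk_surjective y
          rw [hdec, hcoe]
        right_inv := by
          intro z
          induction z using DirectSum.induction_on with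
          | zero =>
            rw [map_zero, ← map_zero (Ideal.Quotient.mk I), hdec, map_zero]
          | of i b =>
            obtain ⟨b, a, ha, rfl⟩ := b
            rw [DirectSum.coeAddMonoidHom_of]
            change dec (Ideal.Quotient.mk I a) = _
            rw [hdec, hD, DirectSum.decompose_of_mem 𝒜 ha, DirectSum.map_of]
            rfl
          | add x y hx hy => rw [map_add, hadd, hx, hy] }
  · rintro ⟨ℬ, ⟨hG⟩, hle⟩
    intro i x hx
    let π : A →+ A ⧸ I := (Ideal.Quotient.mk I : A →+ A ⧸ I)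
    have h1 : DirectSum.decompose ℬ (π x) =
        DirectSum.map (r 𝒜 ℬ π hle) (DirectSum.decompose 𝒜 x) := by
      have e1 := coe_map 𝒜 ℬ π hle (DirectSum.decompose 𝒜 x)
      have e2 : DirectSum.coeAddMonoidHom 𝒜 (DirectSum.decompose 𝒜 x) = x :=
        DirectSum.Decomposition.left_inv (ℳ := 𝒜) x
      rw [e2] at e1
      rw [← e1]
      exact DirectSum.Decomposition.right_inv (ℳ := ℬ) _
    have h2 : π x = 0 := Ideal.Quotient.eq_zero_iff_mem.mpr hx
    rw [h2, DirectSum.decompose_zero] at h1
    have h3 := congrArg (fun z => ((z i : ℬ i) : A ⧸ I)) h1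
    simp only [DirectSum.zero_apply, ZeroMemClass.coe_zero, DirectSum.map_apply] at h3
    exact Ideal.Quotient.eq_zero_iff_mem.mp h3.symm

end Groth.Agent.S13125
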