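import Groth.Statements.S13126
import Mathlib
-- import your own Groth.Agent.* helpers here

set_option autoImplicit false
universe u
open KumFam

namespace Groth.Agent.S13126

open Polynomial in
/-- Let R be a commutative ring, n a natural number which is a unit in R, and ζ ∈ R with ζ^n = 1 and 1 −
ζ^i a unit for 0 < i < n (a primitive n-th root of unity in the fibrewise sense: the powers ζ^0, …,
ζ^(n−1) are roots of X^n − 1 with pairwise unit differences; over an integral domain in which n is a
unit this is the same as ζ having multiplicative order n). Then the R-algebra homomorphism R[X] →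
(Fin n → R) sending a polynomial to its values at ζ^0, …, ζ^(n−1) is surjective and its kernel is
the ideal generated by X^n − 1; hence R[X]/(X^n − 1) ≅ R^n as R-algebras, i.e. the scheme of n-th
roots of unity over Spec R is the disjoint union of n copies of Spec R. (The published statement
asks that R contain a primitive n-th root of unity without defining the term; its Chinese-remainder
argument uses that the ideals (X − ζ^i), i < n, are pairwise comaximal, which is the unit-difference
condition taken as the hypothesis here, whereas under the reading 'ζ has multiplicative order n'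
alone the surjectivity fails over a product of two fields. The published statement also asserts that
the isomorphism respects the group-scheme structures of the n-th roots of unity and of the constant
group ℤ/n; this row does not state that.) -/
theorem result (R : Type u) [CommRing R]
    (n : ℕ) (hn : IsUnit (n : R)) (ζ : R) (hζ : ζ ^ n = 1)
    (hprim : ∀ i : ℕ, 0 < i → i < n → IsUnit (1 - ζ ^ i)) :
    Function.Surjective (AlgHom.pi (fun i : Fin n => Polynomial.aeval (R := R) (ζ ^ (i : ℕ)))) ∧
      RingHom.ker (AlgHom.pi (fun i : Fin n => Polynomial.aeval (R := R) (ζ ^ (i : ℕ)))) =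
        Ideal.span {(X ^ n - 1 : R[X])} := by
  classical
  rcases subsingleton_or_nontrivial R with hsub | hnt
  · refine ⟨fun y => ⟨0, Subsingleton.elim _ _⟩, ?_⟩
    ext f
    have h0 : f = 0 := Subsingleton.elim _ _
    subst h0
    simp
  have hnpos : 0 < n := by
    rcases Nat.eq_zero_or_pos n with h0 | hpos
    · subst h0
      simp at hn
    · exact hpos
  have hζu : IsUnit ζ := IsUnit.of_pow_eq_one hζ hnpos.ne'
  have hdiff : ∀ i j : Fin n, i ≠ j → IsUnit (ζ ^ (i : ℕ) - ζ ^ (j : ℕ)) := by
    intro i j hij
    rcases lt_or_gt_of_ne (Fin.val_ne_of_ne hij) with h | h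
    · have hE : ζ ^ (i : ℕ) - ζ ^ (j : ℕ) = ζ ^ (i : ℕ) * (1 - ζ ^ ((j : ℕ) - i)) := by
        rw [mul_sub, mul_one, ← pow_add, Nat.add_sub_cancel' h.le]
      rw [hE]
      exact (hζu.pow _).mul (hprim _ (Nat.sub_pos_of_lt h) (by have := j.2; omega))
    · have hE : ζ ^ (i : ℕ) - ζ ^ (j : ℕ) = -(ζ ^ (j : ℕ) * (1 - ζ ^ ((i : ℕ) - j))) := by
        rw [mul_sub, mul_one, ← pow_add, Nat.add_sub_cancel' h.le]; ring
      rw [hE]
      exact ((hζu.pow _).mul (hprim _ (Nat.sub_pos_of_lt h) (by have := i.2; omega))).neg
  have hcop : ∀ i j : Fin n, i ≠ j →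
      IsCoprime (X - C (ζ ^ (i : ℕ)) : R[X]) (X - C (ζ ^ (j : ℕ))) := by
    intro i j hij
    obtain ⟨c, hc⟩ := (hdiff i j hij).exists_left_inv
    refine ⟨-C c, C c, ?_⟩
    have hE : -C c * (X - C (ζ ^ (i : ℕ))) + C c * (X - C (ζ ^ (j : ℕ))) =
        C (c * (ζ ^ (i : ℕ) - ζ ^ (j : ℕ))) := by
      simp only [map_mul, map_sub]; ring
    rw [hE, hc, map_one]
  have hker : RingHom.ker (AlgHom.pi (fun i : Fin n => Polynomial.aeval (R := R) (ζ ^ (i : ℕ)))) =
      ⨅ i : Fin n, Ideal.span {(X - C (ζ ^ (i : ℕ)) : R[X])} := by
    ext f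
    simp only [RingHom.mem_ker, Ideal.mem_iInf, Ideal.mem_span_singleton,
      Polynomial.dvd_iff_isRoot, IsRoot.def]
    constructor
    · intro h i
      have := congrFun h i
      simpa [Polynomial.aeval_def] using this
    · intro h
      funext i
      simpa [Polynomial.aeval_def] using h i
  constructor
  · intro y
    have hpair : Pairwise (Function.onFun IsCoprime fun i : Fin n =>
        Ideal.span {(X - C (ζ ^ (i : ℕ)) : R[X])}) :=
      fun i j hij => (Ideal.isCoprime_span_singleton_iff _ _).2 (hcop i j hij)
    obtain ⟨r, hr⟩ := Ideal.exists_forall_sub_mem_ideal hpair (fun i => C (y i))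
    refine ⟨r, ?_⟩
    funext i
    have h1 := hr i
    rw [Ideal.mem_span_singleton, Polynomial.dvd_iff_isRoot, IsRoot.def] at h1
    simp only [eval_sub, eval_C] at h1
    show Polynomial.aeval (ζ ^ (i : ℕ)) r = y i
    rw [Polynomial.aeval_def, Polynomial.eval₂_eq_eval_map]
    simpa [sub_eq_zero] using h1
  · rw [hker, Ideal.iInf_span_singleton hcop]
    congr 2
    have hmon : (∏ i : Fin n, (X - C (ζ ^ (i : ℕ)) : R[X])).Monic :=
      Polynomial.monic_prod_of_monic _ _ (fun i _ => Polynomial.monic_X_sub_C _)
    have hdeg : (∏ i : Fin n, (X - C (ζ ^ (i : ℕ)) : R[X])).natDegree = n := by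
      rw [Polynomial.natDegree_prod_of_monic _ _ (fun i _ => Polynomial.monic_X_sub_C _),
        Finset.sum_congr rfl (fun i _ => Polynomial.natDegree_X_sub_C _)]
      simp
    have hmem : (X ^ n - 1 : R[X]) ∈
        ⨅ i : Fin n, Ideal.span {(X - C (ζ ^ (i : ℕ)) : R[X])} := by
      simp only [Ideal.mem_iInf, Ideal.mem_span_singleton, Polynomial.dvd_iff_isRoot, IsRoot.def]
      intro i
      simp only [eval_sub, eval_pow, eval_X, eval_one]
      rw [← pow_mul, mul_comm, pow_mul, hζ, one_pow, sub_self]
    rw [Ideal.iInf_span_singleton hcop, Ideal.mem_span_singleton] at hmem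
    have hmon2 : (X ^ n - 1 : R[X]).Monic := by
      have := Polynomial.monic_X_pow_sub_C (1 : R) hnpos.ne'
      simpa using this
    have hdeg2 : (X ^ n - 1 : R[X]).natDegree = n := by
      have := Polynomial.natDegree_X_pow_sub_C (R := R) (n := n) (r := 1)
      simpa using this
    exact (Polynomial.eq_of_monic_of_dvd_of_natDegree_le hmon hmon2 hmem
      (by rw [hdeg, hdeg2])).symm

end Groth.Agent.S13126
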