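import Groth.Statements.S13127
-- import your own Groth.Agent.* helpers here
import Groth.Agent.Lib.Helper27.PowerSeriesAut
import Groth.Agent.Lib.Helper27.CubeRoot
import Mathlib.Tactic.LinearCombination
import Mathlib.Algebra.CharP.Defs

set_option autoImplicit false
universe u
open KumFam

namespace Groth.Agent.S13127

open MvPowerSeries in
/-- Let R be a commutative ring of characteristic 2 and l0, l2, l4, s0, s2, s4, τ, lam, sig ∈ R with l4,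
s4, lam, sig units, and let κ₁, κ₂ ∈ R satisfy s4² κ₁³ = sig² and l4² κ₂³ = lam² (cube roots of
sig²/s4² and lam²/l4²). In the power series ring R[[a, b, c]] (a = X 0, b = X 1, c = X 2) put F = c²
+ s0² a³ b⁴ + s2² a³ b² + s4² a³ + l0² a⁴ b³ + l2² a² b³ + l4² b³ + τ² a³ b³ and F₀ = c² + sig² a³ +
lam² b³. Then some R-algebra automorphism of R[[a, b, c]] maps F to F₀; consequently R[[a, b,
c]]/(F) ≅ R[[a, b, c]]/(F₀). (In the published statement lam, sig are the representatives in the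
ground field of the residues of l4, s4 at a rational point, so that F₀ is the equation of the
special fibre made constant; this row takes them to be arbitrary units.) -/
theorem result (R : Type u) [CommRing R] [CharP R 2]
    (l0 l2 l4 s0 s2 s4 τ lam sig κ₁ κ₂ : R) (hl4 : IsUnit l4) (hs4 : IsUnit s4) (hlam : IsUnit lam)
    (hsig : IsUnit sig) (h₁ : s4 ^ 2 * κ₁ ^ 3 = sig ^ 2) (h₂ : l4 ^ 2 * κ₂ ^ 3 = lam ^ 2) :
    ∃ φ : MvPowerSeries (Fin 3) R ≃ₐ[R] MvPowerSeries (Fin 3) R,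
      φ ((X 2 ^ 2 + C (s0 ^ 2) * X 0 ^ 3 * X 1 ^ 4 + C (s2 ^ 2) * X 0 ^ 3 * X 1 ^ 2 +
          C (s4 ^ 2) * X 0 ^ 3 + C (l0 ^ 2) * X 0 ^ 4 * X 1 ^ 3 + C (l2 ^ 2) * X 0 ^ 2 * X 1 ^ 3 +
          C (l4 ^ 2) * X 1 ^ 3 + C (τ ^ 2) * X 0 ^ 3 * X 1 ^ 3 : MvPowerSeries (Fin 3) R)) =
        (X 2 ^ 2 + C (sig ^ 2) * X 0 ^ 3 + C (lam ^ 2) * X 1 ^ 3 : MvPowerSeries (Fin 3) R) := by
  classical
  have h2R : (2 : R) = 0 := by
    have := CharP.cast_eq_zero R 2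
    simpa using this
  -- inverses of the units
  obtain ⟨sigi, hsigi⟩ : ∃ x : R, sig * x = 1 := ⟨↑hsig.unit⁻¹, by simp⟩
  obtain ⟨lami, hlami⟩ : ∃ x : R, lam * x = 1 := ⟨↑hlam.unit⁻¹, by simp⟩
  obtain ⟨κ₁i, hκ₁i⟩ : ∃ x : R, κ₁ * x = 1 :=
    ⟨κ₁ ^ 2 * s4 ^ 2 * sigi ^ 2, by linear_combination (sigi ^ 2) * h₁ + (sig * sigi + 1) * hsigi⟩
  obtain ⟨κ₂i, hκ₂i⟩ : ∃ x : R, κ₂ * x = 1 :=
    ⟨κ₂ ^ 2 * l4 ^ 2 * lami ^ 2, by linear_combination (lami ^ 2) * h₂ + (lam * lami + 1) * hlami⟩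
  have hκ₁iu : IsUnit κ₁i := IsUnit.of_mul_eq_one κ₁ (by rw [mul_comm]; exact hκ₁i)
  have hκ₂iu : IsUnit κ₂i := IsUnit.of_mul_eq_one κ₂ (by rw [mul_comm]; exact hκ₂i)
  have hk1 : sigi ^ 2 * s4 ^ 2 = κ₁i ^ 3 := by
    linear_combination (-(sigi ^ 2 * s4 ^ 2 * ((κ₁ * κ₁i) ^ 2 + κ₁ * κ₁i + 1))) * hκ₁i +
      (sigi ^ 2 * κ₁i ^ 3) * h₁ + ((sig * sigi + 1) * κ₁i ^ 3) * hsigi
  have hk2 : lami ^ 2 * l4 ^ 2 = κ₂i ^ 3 := by
    linear_combination (-(lami ^ 2 * l4 ^ 2 * ((κ₂ * κ₂i) ^ 2 + κ₂ * κ₂i + 1))) * hκ₂i +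
      (lami ^ 2 * κ₂i ^ 3) * h₂ + ((lam * lami + 1) * κ₂i ^ 3) * hlami
  -- Step 1: cube root of u(b)/sig² in R⟦b, c⟧
  let e := MvPowerSeries.finSuccEquiv R 2
  have heX1 : e (X 1) = PowerSeries.C (X 0) := by
    simpa using MvPowerSeries.finSuccEquiv_X_succ (R := R) (0 : Fin 2)
  obtain ⟨US, hUS0, hUS3⟩ := Groth.Agent.Lib.Helper27.exists_cube_eq h2R
    (C (sigi ^ 2) * (C (s4 ^ 2) + C (s2 ^ 2) * X 0 ^ 2 + C (τ ^ 2) * X 0 ^ 3 +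
      C (s0 ^ 2) * X 0 ^ 4) : MvPowerSeries (Fin 2) R) κ₁i hκ₁iu (by simp [hk1])
  have hUSu : IsUnit US := MvPowerSeries.isUnit_iff_constantCoeff.mpr (by rw [hUS0]; exact hκ₁iu)
  obtain ⟨USi, hUSi⟩ : ∃ x : MvPowerSeries (Fin 2) R, US * x = 1 := ⟨↑hUSu.unit⁻¹, by simp⟩
  set U : MvPowerSeries (Fin 3) R := e.symm (PowerSeries.C US) with hUdef
  set Ui : MvPowerSeries (Fin 3) R := e.symm (PowerSeries.C USi) with hUidef
  have hUUi : U * Ui = 1 := by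
    rw [hUdef, hUidef, ← map_mul, ← map_mul, hUSi, map_one, map_one]
  have hUc : IsUnit (MvPowerSeries.constantCoeff U) := by
    rw [hUdef, Groth.Agent.Lib.Helper27.constantCoeff_finSuccEquiv_symm_C, hUS0]; exact hκ₁iu
  have hU3 : U ^ 3 = C (sigi ^ 2) * (C (s4 ^ 2) + C (s2 ^ 2) * X 1 ^ 2 + C (τ ^ 2) * X 1 ^ 3 +
      C (s0 ^ 2) * X 1 ^ 4) := by
    apply e.injective
    rw [hUdef, map_pow, AlgEquiv.apply_symm_apply, ← map_pow, hUS3]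
    simp only [map_add, map_mul, map_pow, heX1, e, MvPowerSeries.finSuccEquiv_C]
  let ψA := Groth.Agent.Lib.Helper27.scaleAut0 (n := 2) U hUc
  have hψAUi : ψA Ui = Ui := Groth.Agent.Lib.Helper27.scaleAut0_fix U hUc USi
  -- Step 2: cube root of v'/lam²
  set v' : MvPowerSeries (Fin 3) R :=
    C (l4 ^ 2) + C (l2 ^ 2) * X 0 ^ 2 * Ui ^ 2 + C (l0 ^ 2) * X 0 ^ 4 * Ui ^ 4 with hv'def
  obtain ⟨W, hW0, hW3⟩ := Groth.Agent.Lib.Helper27.exists_cube_eq h2R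
    (C (lami ^ 2) * v') κ₂i hκ₂iu (by simp [hv'def, hk2])
  have hWc : IsUnit (MvPowerSeries.constantCoeff W) := by rw [hW0]; exact hκ₂iu
  let ψB := Groth.Agent.Lib.Helper27.scaleAut (n := 2) 1 W hWc
  refine ⟨(ψB.trans ψA).symm, ?_⟩
  rw [AlgEquiv.symm_apply_eq, AlgEquiv.trans_apply]
  have hlamC : (C lam : MvPowerSeries (Fin 3) R) * C lami = 1 := by
    rw [← map_mul, hlami, map_one]
  have hsigC : (C sig : MvPowerSeries (Fin 3) R) * C sigi = 1 := by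
    rw [← map_mul, hsigi, map_one]
  have eB : ψB (X 2 ^ 2 + C (sig ^ 2) * X 0 ^ 3 + C (lam ^ 2) * X 1 ^ 3) =
      X 2 ^ 2 + C (sig ^ 2) * X 0 ^ 3 + X 1 ^ 3 * v' := by
    have : ψB (X 2 ^ 2 + C (sig ^ 2) * X 0 ^ 3 + C (lam ^ 2) * X 1 ^ 3) =
        X 2 ^ 2 + C (sig ^ 2) * X 0 ^ 3 + C (lam ^ 2) * (X 1 * W) ^ 3 := by
      simp only [ψB, map_add, map_mul, map_pow, Groth.Agent.Lib.Helper27.algEquiv_C,
        Groth.Agent.Lib.Helper27.scaleAut_X_self,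
        Groth.Agent.Lib.Helper27.scaleAut_X_ne 1 W hWc 0 (by decide),
        Groth.Agent.Lib.Helper27.scaleAut_X_ne 1 W hWc 2 (by decide)]
    rw [this, mul_pow, hW3]
    simp only [map_pow]
    linear_combination (X 1 ^ 3 * v' * (C lam * C lami + 1)) * hlamC
  rw [eB]
  have eA : ψA (X 2 ^ 2 + C (sig ^ 2) * X 0 ^ 3 + X 1 ^ 3 * v') =
      X 2 ^ 2 + C (sig ^ 2) * (X 0 * U) ^ 3 + X 1 ^ 3 *
        (C (l4 ^ 2) + C (l2 ^ 2) * (X 0 * U) ^ 2 * Ui ^ 2 + C (l0 ^ 2) * (X 0 * U) ^ 4 * Ui ^ 4) := by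
    simp only [ψA, hv'def, map_add, map_mul, map_pow, Groth.Agent.Lib.Helper27.algEquiv_C,
      Groth.Agent.Lib.Helper27.scaleAut0_X_zero,
      Groth.Agent.Lib.Helper27.scaleAut0_X_ne U hUc 1 (by decide),
      Groth.Agent.Lib.Helper27.scaleAut0_X_ne U hUc 2 (by decide)]
    rw [show Groth.Agent.Lib.Helper27.scaleAut0 U hUc Ui = Ui from hψAUi]
  rw [eA]
  simp only [map_pow] at hU3 ⊢
  linear_combination (-(C sig ^ 2 * X 0 ^ 3)) * hU3 -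
    (X 0 ^ 3 * (C s4 ^ 2 + C s2 ^ 2 * X 1 ^ 2 + C τ ^ 2 * X 1 ^ 3 + C s0 ^ 2 * X 1 ^ 4) *
      (C sig * C sigi + 1)) * hsigC -
    (X 1 ^ 3 * C l2 ^ 2 * X 0 ^ 2 * (U * Ui + 1)) * hUUi -
    (X 1 ^ 3 * C l0 ^ 2 * X 0 ^ 4 * ((U * Ui) ^ 3 + (U * Ui) ^ 2 + U * Ui + 1)) * hUUi

end Groth.Agent.S13127
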