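import Groth.Statements.S13128
-- import your own Groth.Agent.* helpers here
import Groth.Agent.Lib.Helper27.PowerSeriesAut
import Mathlib.Tactic.LinearCombination
import Mathlib.Algebra.CharP.Defs

set_option autoImplicit false
universe u
open KumFam

namespace Groth.Agent.S13128

open MvPowerSeries Groth.Agent.Lib.Helper27 in
lemma algEquiv_C {R : Type*} [CommRing R] {σ : Type*}
    (ψ : MvPowerSeries σ R ≃ₐ[R] MvPowerSeries σ R) (r : R) : ψ (C r) = C r := by
  have := ψ.commutes r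
  simpa [MvPowerSeries.algebraMap_apply] using this

open MvPowerSeries in
/-- Let R be a commutative ring of characteristic 2, l0, l2, l4, s0, s2, s4, τ ∈ R with τ a unit, and α,
β ∈ R with l4² α⁴ + l2² α² + τ² α + l0² = 0 and s4² β⁴ + s2² β² + τ² β + s0² = 0. In characteristic
2 these relations give τ² α = (l4 α² + l2 α + l0)² and τ² β = (s4 β² + s2 β + s0)², so α = α′² and β
= β′² with α′ = (l4 α² + l2 α + l0)/τ and β′ = (s4 β² + s2 β + s0)/τ. In R[[a, b, c]] (a = X 0, b =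
X 1, c = X 2) put h = c² + τ² a b + (s4² b⁴ + s2² b²) a + (l4² a⁴ + l2² a²) b + l4² β a⁴ + l2² β a²
+ s4² α b⁴ + s2² α b²; this is the chart equation c² + τ² a b + (s4² b⁴ + s2² b² + s0²) a + (l4² a⁴
+ l2² a² + l0²) b after the substitution a ↦ a + α, b ↦ b + β, c ↦ c + τ α′ β′, which moves the
point (α, β, τ α′ β′) of that surface, where all partial derivatives vanish, to the origin. Then
some R-algebra automorphism of R[[a, b, c]] maps h to c² + a b; consequently R[[a, b, c]]/(h) ≅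
R[[a, b, c]]/(c² + a b), the completed local ring of an ordinary double point, constant over R. (The
published statement translates only a and b, so that its h carries the additional constant term τ² α
β; with that term h is a unit of R[[a, b, c]] whenever τ α β is a unit, for instance c² + a b + 1
over the field with two elements with l0 = s0 = τ = α = β = 1 and l2 = l4 = s2 = s4 = 0, and no ring
automorphism carries a unit to c² + a b. The published proof begins by shifting c by a polynomial in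
a, b whose constant term is τ α′ β′, a substitution of the polynomial ring which removes the term τ²
α β, and the rest of its argument takes place in R[[a, b, c]]; this row states the result for the
fully translated equation, which is what that argument proves.) -/
theorem result (R : Type u) [CommRing R] [CharP R 2]
    (l0 l2 l4 s0 s2 s4 τ α β : R) (hτ : IsUnit τ)
    (hα : l4 ^ 2 * α ^ 4 + l2 ^ 2 * α ^ 2 + τ ^ 2 * α + l0 ^ 2 = 0)
    (hβ : s4 ^ 2 * β ^ 4 + s2 ^ 2 * β ^ 2 + τ ^ 2 * β + s0 ^ 2 = 0) :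
    ∃ φ : MvPowerSeries (Fin 3) R ≃ₐ[R] MvPowerSeries (Fin 3) R,
      φ ((X 2 ^ 2 + C (τ ^ 2) * X 0 * X 1 + (C (s4 ^ 2) * X 1 ^ 4 + C (s2 ^ 2) * X 1 ^ 2) * X 0 +
          (C (l4 ^ 2) * X 0 ^ 4 + C (l2 ^ 2) * X 0 ^ 2) * X 1 + C (l4 ^ 2 * β) * X 0 ^ 4 +
          C (l2 ^ 2 * β) * X 0 ^ 2 + C (s4 ^ 2 * α) * X 1 ^ 4 + C (s2 ^ 2 * α) * X 1 ^ 2 :
          MvPowerSeries (Fin 3) R)) =
        (X 2 ^ 2 + X 0 * X 1 : MvPowerSeries (Fin 3) R) := by
  classical
  -- characteristic two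
  have h2R : (2 : R) = 0 := by
    have := CharP.cast_eq_zero R 2
    simpa using this
  have h2M : (2 : MvPowerSeries (Fin 3) R) = 0 := by
    rw [← map_ofNat (C (σ := Fin 3) (R := R)) 2, h2R, map_zero]
  -- square roots of α and β
  obtain ⟨t, ht⟩ : ∃ t : R, τ * t = 1 := ⟨↑hτ.unit⁻¹, by simp⟩
  set α' : R := t * (l4 * α ^ 2 + l2 * α + l0) with hα'def
  set β' : R := t * (s4 * β ^ 2 + s2 * β + s0) with hβ'def
  have hα' : α' ^ 2 = α := by
    rw [hα'def]
    linear_combination (t ^ 2) * hα - (τ * t + 1) * α * ht +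
      (t ^ 2 * (l4 * l2 * α ^ 3 + l4 * l0 * α ^ 2 + l2 * l0 * α) - α) * h2R
  have hβ' : β' ^ 2 = β := by
    rw [hβ'def]
    linear_combination (t ^ 2) * hβ - (τ * t + 1) * β * ht +
      (t ^ 2 * (s4 * s2 * β ^ 3 + s4 * s0 * β ^ 2 + s2 * s0 * β) - β) * h2R
  -- the unit E
  set E : MvPowerSeries (Fin 3) R :=
    C (τ ^ 2) + C (s4 ^ 2) * X 1 ^ 3 + C (s2 ^ 2) * X 1 + C (l4 ^ 2) * X 0 ^ 3 + C (l2 ^ 2) * X 0
    with hEdef
  have hE : IsUnit (MvPowerSeries.constantCoeff E) := by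
    simp [hEdef, hτ.pow 2]
  -- the shift g
  set g : MvPowerSeries (Fin 3) R :=
    C β' * (C l4 * X 0 ^ 2 + C l2 * X 0) + C α' * (C s4 * X 1 ^ 2 + C s2 * X 1) with hgdef
  have hg0 : MvPowerSeries.constantCoeff g = 0 := by simp [hgdef]
  have h02 : (0 : Fin 3) ≠ 2 := by decide
  have h12 : (1 : Fin 3) ≠ 2 := by decide
  have hsub : ∀ w : MvPowerSeries (Fin 3) R, MvPowerSeries.constantCoeff w = 0 →
      subst (Function.update X 2 w) g = g := by
    intro w hw
    have ha := Groth.Agent.Lib.Helper27.hasSubst_update_X (2 : Fin 3) w hw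
    simp only [hgdef, subst_add ha, subst_mul ha, subst_pow ha, subst_C, subst_X ha,
      Function.update_of_ne h02, Function.update_of_ne h12]
  let ψc := Groth.Agent.Lib.Helper27.shiftAut (2 : Fin 3) g hg0 (hsub _ (by simp [hg0])) (hsub _ (by simp [hg0]))
  let ψa := Groth.Agent.Lib.Helper27.scaleAut0 (n := 2) E hE
  refine ⟨(ψa.trans ψc).symm, ?_⟩
  rw [AlgEquiv.symm_apply_eq, AlgEquiv.trans_apply]
  have e1 : ψa (X 2 ^ 2 + X 0 * X 1) = X 2 ^ 2 + X 0 * E * X 1 := by
    simp only [ψa, map_add, map_mul, map_pow, Groth.Agent.Lib.Helper27.scaleAut0_X_zero,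
      Groth.Agent.Lib.Helper27.scaleAut0_X_ne E hE 2 (by decide), Groth.Agent.Lib.Helper27.scaleAut0_X_ne E hE 1 (by decide)]
  have e2 : ψc E = E := by
    simp only [ψc, hEdef, map_add, map_mul, map_pow, algEquiv_C,
      Groth.Agent.Lib.Helper27.shiftAut_X_ne _ _ _ _ _ 0 h02, Groth.Agent.Lib.Helper27.shiftAut_X_ne _ _ _ _ _ 1 h12]
  have e3 : ψc (X 2 ^ 2 + X 0 * E * X 1) = (X 2 + g) ^ 2 + X 0 * E * X 1 := by
    simp only [map_add, map_mul, map_pow, e2]
    simp only [ψc, Groth.Agent.Lib.Helper27.shiftAut_X_self, Groth.Agent.Lib.Helper27.shiftAut_X_ne _ _ _ _ _ 0 h02, Groth.Agent.Lib.Helper27.shiftAut_X_ne _ _ _ _ _ 1 h12]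
  rw [e1, e3]
  have hCα : (C α' : MvPowerSeries (Fin 3) R) ^ 2 = C α := by rw [← map_pow, hα']
  have hCβ : (C β' : MvPowerSeries (Fin 3) R) ^ 2 = C β := by rw [← map_pow, hβ']
  simp only [hEdef, hgdef, map_mul, map_pow]
  linear_combination
    (-(X 2 * (C β' * (C l4 * X 0 ^ 2 + C l2 * X 0) + C α' * (C s4 * X 1 ^ 2 + C s2 * X 1)) +
      C β' * C α' * (C l4 * X 0 ^ 2 + C l2 * X 0) * (C s4 * X 1 ^ 2 + C s2 * X 1) +
      C β' ^ 2 * C l4 * C l2 * X 0 ^ 3 + C α' ^ 2 * C s4 * C s2 * X 1 ^ 3)) * h2M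
    - (C l4 ^ 2 * X 0 ^ 4 + C l2 ^ 2 * X 0 ^ 2) * hCβ
    - (C s4 ^ 2 * X 1 ^ 4 + C s2 ^ 2 * X 1 ^ 2) * hCα

end Groth.Agent.S13128
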