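import Groth.Statements.S13130
import Mathlib.RingTheory.IntegralClosure.IsIntegralClosure.Basic
import Mathlib.GroupTheory.OrderOfElement

set_option autoImplicit false
universe u v
open KumFam

namespace Groth.Agent.S13130

/-- Let R be a nontrivial commutative ring and M a commutative group, with group algebra R[M], the
coordinate ring of the diagonalizable group scheme D(M) over Spec R. Then D(M) is integral over Spec
R, i.e. R[M] is an integral R-algebra, if and only if M is a torsion group. (The published statement
is over an arbitrary base scheme; the question is local and this row is the affine form, with R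
nontrivial so that the elements of M are R-linearly independent.) -/
theorem result (R : Type u) [CommRing R] [Nontrivial R]
    (M : Type v) [CommGroup M] :
    Algebra.IsIntegral R (MonoidAlgebra R M) ↔ IsMulTorsion M := by
  classical
  constructor
  · intro h g
    by_contra hg
    have hinj : Function.Injective (fun n : ℕ => g ^ n) :=
      injective_pow_iff_not_isOfFinOrder.mpr hg
    obtain ⟨p, hp, hp0⟩ := h.isIntegral (MonoidAlgebra.of R M g)
    rw [← Polynomial.aeval_def, Polynomial.aeval_eq_sum_range] at hp0
    have hc := congrArg (fun x : MonoidAlgebra R M => x.coeff (g ^ p.natDegree)) hp0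
    simp only [MonoidAlgebra.coeff_sum, MonoidAlgebra.coeff_zero, Finsupp.coe_zero,
      Pi.zero_apply, Finsupp.coe_finsetSum, Finset.sum_apply] at hc
    have hterm : ∀ i : ℕ, (p.coeff i • MonoidAlgebra.of R M g ^ i).coeff (g ^ p.natDegree) =
        if i = p.natDegree then p.coeff i else 0 := by
      intro i
      rw [← map_pow, MonoidAlgebra.of_apply, MonoidAlgebra.coeff_smul, Finsupp.smul_apply,
        MonoidAlgebra.coeff_single, Finsupp.single_apply, smul_eq_mul]
      by_cases hi : i = p.natDegree
      · subst hi; simp
      · have : g ^ i ≠ g ^ p.natDegree := fun h' => hi (hinj h')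
        simp [hi, this]
    simp only [hterm] at hc
    rw [Finset.sum_ite_eq' ] at hc
    simp only [Finset.mem_range, Nat.lt_succ_self, if_true] at hc
    rw [Polynomial.coeff_natDegree, hp.leadingCoeff] at hc
    exact one_ne_zero hc
  · intro h
    constructor
    intro x
    induction x using MonoidAlgebra.induction_on with
    | of m =>
      obtain ⟨n, hn, hmn⟩ := (h m).exists_pow_eq_one
      apply IsIntegral.of_pow hn
      rw [← map_pow, hmn, map_one]
      exact isIntegral_one
    | add x y hx hy => exact hx.add hy
    | smul r x hx => exact hx.smul r

end Groth.Agent.S13130
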