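import Groth.Statements.S13131
-- import your own Groth.Agent.* helpers here

set_option autoImplicit false
universe u
open CategoryTheory CategoryTheory.Limits AlgebraicGeometry
open KumFam

namespace Groth.Agent.S13131

variable {S : Scheme.{u}} {M : Type u} {T : Scheme.{u}}

/-- index function -/
noncomputable def idx (S : Scheme.{u}) (M : Type u) (x : (∐ (fun _ : M => S) : Scheme.{u})) : M :=
  ((sigmaMk (fun _ : M => S)).symm x).1

lemma idx_ι (m : M) (s : S) : idx S M ((Sigma.ι (fun _ : M => S) m).base s) = m := by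
  unfold idx
  have := sigmaMk_mk (fun _ : M => S) m s
  rw [← this, Homeomorph.symm_apply_apply]

lemma idx_eq_iff (x : (∐ (fun _ : M => S) : Scheme.{u})) (m : M) :
    idx S M x = m ↔ x ∈ Set.range (Sigma.ι (fun _ : M => S) m).base := by
  constructor
  · intro h
    obtain ⟨⟨i, s⟩, rfl⟩ := (sigmaMk (fun _ : M => S)).surjective x
    have : i = m := by
      have h2 := idx_ι (S := S) i s
      rw [← sigmaMk_mk] at h2
      exact h2.symm.trans h
    subst this
    exact ⟨s, (sigmaMk_mk _ _ _).symm⟩
  · rintro ⟨s, rfl⟩; exact idx_ι m s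

lemma idx_locConst : IsLocallyConstant (idx S M) := by
  rw [IsLocallyConstant.iff_isOpen_fiber]
  intro m
  have : idx S M ⁻¹' {m} = Set.range (Sigma.ι (fun _ : M => S) m).base := by
    ext x
    simp only [Set.mem_preimage, Set.mem_singleton_iff]
    exact idx_eq_iff x m
  rw [this]
  exact (Sigma.ι (fun _ : M => S) m).isOpenEmbedding.isOpen_range

/-- The open fibre of a locally constant function. -/
def fib (φ : LocallyConstant T M) (m : M) : T.Opens :=
  ⟨φ ⁻¹' {m}, φ.isLocallyConstant.isOpen_fiber m⟩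

lemma nonempty_isColimit (φ : LocallyConstant T M) :
    Nonempty (IsColimit <| Cofan.mk T (fun m => (fib φ m).ι)) := by
  apply nonempty_isColimit_cofanMk_of
  · rw [eq_top_iff]
    intro t _
    simp only [Scheme.Opens.opensRange_ι]
    rw [TopologicalSpace.Opens.mem_iSup]
    exact ⟨φ t, rfl⟩
  · intro m m' h
    simp only [Function.onFun, Scheme.Opens.opensRange_ι]
    rw [disjoint_iff]
    ext t
    simp only [TopologicalSpace.Opens.coe_inf, Set.mem_inter_iff, SetLike.mem_coe,
      TopologicalSpace.Opens.coe_bot, Set.mem_empty_iff_false, iff_false, not_and]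
    intro h1 h2
    exact h (h1.symm.trans h2)

/-- the inverse construction -/
noncomputable def inv (p : T ⟶ S) (φ : LocallyConstant T M) : T ⟶ ∐ (fun _ : M => S) :=
  Cofan.IsColimit.desc (nonempty_isColimit φ).some
    (fun m => (fib φ m).ι ≫ p ≫ Sigma.ι (fun _ : M => S) m)

lemma ι_inv (p : T ⟶ S) (φ : LocallyConstant T M) (m : M) :
    (fib φ m).ι ≫ inv p φ = (fib φ m).ι ≫ p ≫ Sigma.ι (fun _ : M => S) m :=
  Cofan.IsColimit.fac (nonempty_isColimit φ).some _ m

lemma hom_ext_fib (φ : LocallyConstant T M) {Y : Scheme.{u}} (f g : T ⟶ Y)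
    (h : ∀ m, (fib φ m).ι ≫ f = (fib φ m).ι ≫ g) : f = g :=
  Cofan.IsColimit.hom_ext (nonempty_isColimit φ).some f g h

lemma inv_desc (p : T ⟶ S) (φ : LocallyConstant T M) :
    inv p φ ≫ Sigma.desc (fun _ : M => 𝟙 S) = p := by
  apply hom_ext_fib φ
  intro m
  rw [reassoc_of% (ι_inv p φ m)]
  simp

lemma idx_inv (p : T ⟶ S) (φ : LocallyConstant T M) (t : T) :
    idx S M ((inv p φ).base t) = φ t := by
  have ht : t ∈ fib φ (φ t) := rfl
  have h1 : (fib φ (φ t)).ι.base ⟨t, ht⟩ = t := rfl
  have h2 := congrArg (fun f => f.base ⟨t, ht⟩) (ι_inv p φ (φ t))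
  simp only [Scheme.Hom.comp_base, TopCat.comp_app] at h2
  rw [h1] at h2
  rw [h2]
  exact idx_ι _ _

/-- the locally constant function attached to a morphism -/
noncomputable def toLC (f : T ⟶ ∐ (fun _ : M => S)) : LocallyConstant T M :=
  ⟨fun t => idx S M (f.base t), idx_locConst.comp_continuous f.base.hom.continuous⟩

lemma inv_toLC (p : T ⟶ S) (f : T ⟶ ∐ (fun _ : M => S))
    (hf : f ≫ Sigma.desc (fun _ : M => 𝟙 S) = p) : inv p (toLC f) = f := by
  apply hom_ext_fib (toLC f)
  intro m
  rw [ι_inv]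
  have hr : Set.range ((fib (toLC f) m).ι ≫ f).base ⊆ Set.range (Sigma.ι (fun _ : M => S) m).base := by
    rintro _ ⟨⟨t, ht⟩, rfl⟩
    have : idx S M (f.base t) = m := ht
    rw [idx_eq_iff] at this
    exact this
  obtain ⟨g, hg⟩ : ∃ g : (fib (toLC f) m).toScheme ⟶ S,
      g ≫ Sigma.ι (fun _ : M => S) m = (fib (toLC f) m).ι ≫ f :=
    ⟨_, IsOpenImmersion.lift_fac (Sigma.ι (fun _ : M => S) m) ((fib (toLC f) m).ι ≫ f) hr⟩
  have h2 : g = (fib (toLC f) m).ι ≫ p := by
    rw [← hf, ← Category.assoc, ← hg]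
    simp
  rw [← hg, h2, Category.assoc]

/-- Let S be a scheme, M a set and p : T → S a scheme over S. The S-morphisms T → ∐_{m ∈ M} S (the
constant S-scheme on M, with its structure map the codiagonal) are in bijection with the locally
constant maps T → M, a morphism f corresponding to the function sending t to the index of the copy
of S containing f(t). (In the published statement M is a group and ∐_M S the constant group scheme;
the group structures play no role in this description of T-points.) -/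
theorem result (S : Scheme.{u}) (M : Type u)
    (T : Scheme.{u}) (p : T ⟶ S) :
    ∃ e : {f : T ⟶ ∐ (fun _ : M => S) // f ≫ Sigma.desc (fun _ : M => 𝟙 S) = p} ≃
        LocallyConstant T M,
      ∀ (f : {f : T ⟶ ∐ (fun _ : M => S) // f ≫ Sigma.desc (fun _ : M => 𝟙 S) = p}) (t : T),
        e f t = ((sigmaMk (fun _ : M => S)).symm (f.1.base t)).1 := by
  refine ⟨⟨fun f => toLC f.1, fun φ => ⟨inv p φ, inv_desc p φ⟩, ?_, ?_⟩, ?_⟩
  · rintro ⟨f, hf⟩
    exact Subtype.ext (inv_toLC p f hf)
  · intro φ
    ext t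
    exact idx_inv p φ t
  · intro f t
    rfl

end Groth.Agent.S13131
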