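import Groth.Statements.S13132
import Mathlib
import Groth.Agent.Lib.Helper21.FlatKit4

set_option autoImplicit false
universe u v
open CAlg

namespace Groth.Agent.S13132

section helpers
open TensorProduct Function

theorem mem_nzd_iff_injective (R : Type*) [CommRing R] (x : R) :
    x ∈ nonZeroDivisors R ↔ Injective (fun y : R => x * y) := by
  rw [← isRegular_iff_mem_nonZeroDivisors, Commute.isRegular_iff (fun b => Commute.all x b)]
  rfl

variable {A' : Type u} [CommRing A'] {S' : Type v} [CommRing S'] [Algebra A' S']

theorem lTensor_mulLeft_injective_iff (I : Ideal A') (f' : S') :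
    Injective ((LinearMap.mulLeft A' f').lTensor (A' ⧸ I)) ↔
      Ideal.Quotient.mk (I.map (algebraMap A' S')) f' ∈
        nonZeroDivisors (S' ⧸ I.map (algebraMap A' S')) := by
  rw [mem_nzd_iff_injective]
  let e := Algebra.TensorProduct.quotIdealMapEquivQuotTensor S' I
  have hcomm : ∀ y : S' ⧸ I.map (algebraMap A' S'),
      e (Ideal.Quotient.mk (I.map (algebraMap A' S')) f' * y) =
        (LinearMap.mulLeft A' f').lTensor (A' ⧸ I) (e y) := by
    intro y
    obtain ⟨b, rfl⟩ := Ideal.Quotient.mk_surjective y
    rw [← map_mul]
    show e (Ideal.Quotient.mk _ (f' * b)) = _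
    rfl
  constructor
  · intro h y₁ y₂ hy
    apply e.injective
    apply h
    rw [← hcomm, ← hcomm]
    exact congrArg e hy
  · intro h z₁ z₂ hz
    obtain ⟨y₁, rfl⟩ := e.surjective z₁
    obtain ⟨y₂, rfl⟩ := e.surjective z₂
    rw [← hcomm, ← hcomm] at hz
    exact congrArg e (h (e.injective hz))

end helpers



/-- Let A' be an Artinian local ring, I a proper ideal of A' and S' a flat A'-algebra. An element f' of
S' is a non-zero-divisor exactly when its image in S'/IS' is one; and when f' is a non-zero-divisor,
the quotient S'/(f') is flat over A'. (The published statement is for local Artinian algebras with a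
fixed residue field over a ring of Witt vectors and a surjection between two of them; the argument
uses only that A' is Artinian local and I is a proper ideal, which is the form taken here.) -/
theorem result
    {A' : Type u} [CommRing A'] [IsArtinianRing A'] [IsLocalRing A'] (I : Ideal A') (hI : I ≠ ⊤)
    {S' : Type v} [CommRing S'] [Algebra A' S'] [Module.Flat A' S'] (f' : S') :
    (f' ∈ nonZeroDivisors S' ↔
      Ideal.Quotient.mk (I.map (algebraMap A' S')) f' ∈ nonZeroDivisors (S' ⧸ I.map (algebraMap A' S'))) ∧
    (f' ∈ nonZeroDivisors S' → Module.Flat A' (S' ⧸ Ideal.span {f'})) := by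
  obtain ⟨h1, h2⟩ := Groth.Agent.Lib.Helper21.FlatKit.endo_injective_iff I hI (LinearMap.mulLeft A' f')
  have h0 : f' ∈ nonZeroDivisors S' ↔ Function.Injective (LinearMap.mulLeft A' f') :=
    mem_nzd_iff_injective S' f'
  refine ⟨?_, fun hf => ?_⟩
  · rw [h0, h1, lTensor_mulLeft_injective_iff]
  · have hfl := h2 (h0.1 hf)
    have hrange : LinearMap.range (LinearMap.mulLeft A' f') =
        (Ideal.span {f'}).restrictScalars A' := by
      ext x
      simp only [LinearMap.mem_range, LinearMap.mulLeft_apply, Submodule.restrictScalars_mem,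
        Ideal.mem_span_singleton']
      constructor
      · rintro ⟨y, rfl⟩; exact ⟨y, mul_comm _ _⟩
      · rintro ⟨y, rfl⟩; exact ⟨y, mul_comm _ _⟩
    exact Module.Flat.of_linearEquiv
      (((Submodule.quotEquivOfEq _ _ hrange).trans
        (Submodule.Quotient.restrictScalarsEquiv A' (Ideal.span {f'}))).symm)

end Groth.Agent.S13132
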