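import Groth.Statements.S13135
import Mathlib
import Groth.Agent.Lib.Helper21.FlatKit5

set_option autoImplicit false
universe u
open CAlg

namespace Groth.Agent.S13135


/-- Let A' be an Artinian local ring, I a proper ideal, A = A'/I and f_1, …, f_m a regular sequence in
A[x_1, …, x_n]. For every choice of lifts f'_1, …, f'_m in A'[x_1, …, x_n] the quotient A'[x]/(f'_1,
…, f'_m) is flat over A' (so it is a flat lifting of A[x]/(f_1, …, f_m)). (The published statement
is for a surjection of local Artinian algebras with a fixed residue field over a ring of Witt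
vectors; only the Artinian local base and the proper ideal are used, which is the form taken here.) -/
theorem result
    {A' : Type u} [CommRing A'] [IsArtinianRing A'] [IsLocalRing A'] (I : Ideal A') (hI : I ≠ ⊤)
    {n m : ℕ} (f : Fin m → MvPolynomial (Fin n) (A' ⧸ I))
    (hreg : RingTheory.Sequence.IsRegular (MvPolynomial (Fin n) (A' ⧸ I)) (List.ofFn f))
    (f' : Fin m → MvPolynomial (Fin n) A') (hf' : ∀ i, MvPolynomial.map (Ideal.Quotient.mk I) (f' i) = f i) :
    Module.Flat A' (MvPolynomial (Fin n) A' ⧸ Ideal.span (Set.range f')) := by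
  let B := MvPolynomial (Fin n) A'
  obtain ⟨h1, h2⟩ := Groth.Agent.Lib.Helper21.FlatKit.isWeaklyRegular_iff_reduction I hI
    (List.ofFn f') B
  set 𝔦 : Ideal B := I.map (algebraMap A' B) with h𝔦
  have h𝔦C : 𝔦 = Ideal.map MvPolynomial.C I := rfl
  have htop : (𝔦 • ⊤ : Submodule B B) = Ideal.map MvPolynomial.C I := by
    rw [h𝔦C]
    exact Ideal.mul_top _
  let Φ := MvPolynomial.quotientEquivQuotientMvPolynomial (σ := Fin n) I
  let e : (B ⧸ (𝔦 • ⊤ : Submodule B B)) ≃+ MvPolynomial (Fin n) (A' ⧸ I) :=
    (Submodule.quotEquivOfEq _ _ htop).toAddEquiv.trans Φ.symm.toAddEquiv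
  have he : ∀ b : B, e (Submodule.Quotient.mk b) = MvPolynomial.map (Ideal.Quotient.mk I) b := by
    intro b
    show Φ.symm (Ideal.Quotient.mk (Ideal.map MvPolynomial.C I) b) = _
    show (Ideal.Quotient.lift (Ideal.map MvPolynomial.C I)
      (MvPolynomial.eval₂Hom (MvPolynomial.C.comp (Ideal.Quotient.mk I)) MvPolynomial.X)
        (fun _ ha => MvPolynomial.eval₂_C_mk_eq_zero ha))
      (Ideal.Quotient.mk (Ideal.map MvPolynomial.C I) b) = _
    rw [Ideal.Quotient.lift_mk]
    congr 1
    apply MvPolynomial.ringHom_ext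
    · intro a; simp
    · intro i; simp
  have hrel : List.Forall₂ (fun (r : B) (s : MvPolynomial (Fin n) (A' ⧸ I)) =>
      ∀ x, e (r • x) = s • e x) (List.ofFn f') (List.ofFn f) := by
    rw [List.forall₂_iff_get]
    refine ⟨by simp, fun i h₁ h₂ => ?_⟩
    intro x
    obtain ⟨b, rfl⟩ := Submodule.Quotient.mk_surjective _ x
    rw [← Submodule.Quotient.mk_smul, he, he, smul_eq_mul, map_mul, smul_eq_mul]
    congr 1
    simp only [List.get_eq_getElem, List.getElem_ofFn]
    exact hf' _
  have hw : RingTheory.Sequence.IsWeaklyRegular (B ⧸ (𝔦 • ⊤ : Submodule B B)) (List.ofFn f') :=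
    (AddEquiv.isWeaklyRegular_congr hrel).2 hreg.toIsWeaklyRegular
  have hflat := h2 (h1.2 hw)
  have hspan : (Ideal.ofList (List.ofFn f') • ⊤ : Submodule B B) = Ideal.span (Set.range f') := by
    have : Ideal.ofList (List.ofFn f') = Ideal.span (Set.range f') := by
      unfold Ideal.ofList
      congr 1
      ext x
      simp [List.mem_ofFn]
    rw [this]
    exact Ideal.mul_top _
  exact Module.Flat.of_linearEquiv
    ((Submodule.quotEquivOfEq _ _ hspan).restrictScalars A').symm

end Groth.Agent.S13135
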