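import Groth.Statements.S13138
import Mathlib
import Groth.Agent.Lib.Helper25.W2Lift
import Groth.Agent.Lib.Helper25.W2Coeff
import Groth.Agent.Lib.Helper25.W2PolyFrob
-- import your own Groth.Agent.* helpers here

set_option autoImplicit false
set_option linter.unusedSectionVars false
set_option linter.style.haveILetI false
universe u
open scoped BigOperators
open FrobAlg

namespace Groth.Agent.S13138

open Groth.Agent.Lib.Helper26.W2Flat Groth.Agent.Lib.Helper25.W2Lift
  Groth.Agent.Lib.Helper25.W2Coeff Groth.Agent.Lib.Helper25.W2PolyFrob Finset MvPolynomial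

/-- flatness of the quotient gives `(p) ∩ J = p J` -/
lemma inf_le_mul_of_flat (p : ℕ) [Fact p.Prime] (k : Type u) [Field k] [CharP k p] [PerfectRing k p]
    {n : ℕ} (J : Ideal (MvPolynomial (Fin n) (FrobAlg.W2 p k)))
    (hflat : ((Ideal.Quotient.mk J).comp
      (MvPolynomial.C : FrobAlg.W2 p k →+* MvPolynomial (Fin n) (FrobAlg.W2 p k))).Flat)
    (x : MvPolynomial (Fin n) (FrobAlg.W2 p k))
    (hx1 : x ∈ Ideal.span {(p : MvPolynomial (Fin n) (FrobAlg.W2 p k))}) (hx2 : x ∈ J) :
    x ∈ Ideal.span {(p : MvPolynomial (Fin n) (FrobAlg.W2 p k))} * J := by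
  have key := (@w2_flat_iff p _ k _ _ _ (MvPolynomial (Fin n) (FrobAlg.W2 p k) ⧸ J) _
    (RingHom.toAlgebra ((Ideal.Quotient.mk J).comp MvPolynomial.C)).toModule).1 hflat
  obtain ⟨b, rfl⟩ := Ideal.mem_span_singleton'.mp hx1
  have h0 : ((Ideal.Quotient.mk J).comp MvPolynomial.C) (p : FrobAlg.W2 p k) *
      (Ideal.Quotient.mk J b) = 0 := by
    rw [map_natCast, ← map_natCast (Ideal.Quotient.mk J), ← map_mul, mul_comm]
    exact Ideal.Quotient.eq_zero_iff_mem.mpr hx2
  obtain ⟨m', hm'⟩ := key _ h0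
  obtain ⟨b', rfl⟩ := Ideal.Quotient.mk_surjective m'
  have hm'' : Ideal.Quotient.mk J b = ((Ideal.Quotient.mk J).comp MvPolynomial.C)
      (p : FrobAlg.W2 p k) * Ideal.Quotient.mk J b' := hm'
  rw [map_natCast, ← map_natCast (Ideal.Quotient.mk J), ← map_mul, Ideal.Quotient.eq] at hm''
  have : b * (p : MvPolynomial (Fin n) (FrobAlg.W2 p k)) =
      (p : MvPolynomial (Fin n) (FrobAlg.W2 p k)) *
        (b - (p : MvPolynomial (Fin n) (FrobAlg.W2 p k)) * b') := by
    rw [mul_sub, ← mul_assoc, p_mul_p_poly, zero_mul, sub_zero, mul_comm]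
  rw [this]
  exact Ideal.mul_mem_mul (Ideal.mem_span_singleton_self _) hm''

lemma res_surjective (p : ℕ) [Fact p.Prime] (k : Type u) [CommRing k] :
    Function.Surjective (FrobAlg.res p k) := fun a =>
  ⟨WittVector.truncate 2 (WittVector.teichmuller p a), by
    rw [FrobAlg.res_truncate]; exact WittVector.teichmuller_coeff_zero p a⟩

/-- two polynomials with the same image modulo `(p, J)` differ by an element of `J + (p)` -/
lemma exists_of_quot_eq (p : ℕ) [Fact p.Prime] (k : Type u) [Field k] [CharP k p] [PerfectRing k p]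
    {n : ℕ} (J : Ideal (MvPolynomial (Fin n) (FrobAlg.W2 p k)))
    (y x : MvPolynomial (Fin n) (FrobAlg.W2 p k))
    (h : Ideal.Quotient.mk (J.map (MvPolynomial.map (FrobAlg.res p k)))
        (MvPolynomial.map (FrobAlg.res p k) y) =
      Ideal.Quotient.mk (J.map (MvPolynomial.map (FrobAlg.res p k)))
        (MvPolynomial.map (FrobAlg.res p k) x)) :
    ∃ g : MvPolynomial (Fin n) (FrobAlg.W2 p k),
      Ideal.Quotient.mk J y =
        Ideal.Quotient.mk J (x - (p : MvPolynomial (Fin n) (FrobAlg.W2 p k)) * g) := by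
  rw [Ideal.Quotient.eq, ← map_sub, Ideal.mem_map_iff_of_surjective _
    (MvPolynomial.map_surjective _ (res_surjective p k))] at h
  obtain ⟨j, hj, hjy⟩ := h
  have hker : y - x - j ∈ RingHom.ker (MvPolynomial.map (FrobAlg.res p k) :
      MvPolynomial (Fin n) (FrobAlg.W2 p k) →+* MvPolynomial (Fin n) k) := by
    rw [RingHom.mem_ker, map_sub, hjy, sub_self]
  rw [ker_map_res] at hker
  obtain ⟨g, hg⟩ := Ideal.mem_span_singleton.1 hker
  refine ⟨-g, ?_⟩
  rw [Ideal.Quotient.eq]
  have : y - (x - (p : MvPolynomial (Fin n) (FrobAlg.W2 p k)) * -g) = j := by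
    linear_combination hg
  rw [this]
  exact hj

/-- Let k be a perfect field of characteristic p, R' = W₂(k)[x_1, …, x_n], f'_1, …, f'_m ∈ R' with
reductions f_1, …, f_m ∈ R = k[x_1, …, x_n], J' = (f'_1, …, f'_m), J = (f_1, …, f_m), and assume B'
= R'/J' is flat over W₂(k), so that it is a flat lifting of B = R/J. The Frobenius of B lifts to B'
— there is a ring endomorphism of B' semilinear for the Witt-vector Frobenius σ₂ of W₂(k) and
reducing to the p-th power map of B — if and only if there are h_1, …, h_n ∈ R' with F'(f'_i) −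
f'_i^p − p·Σ_j (∂f'_i/∂x_j)^p h_j ∈ pJ' for every i, where F' is the standard Frobenius lift of R'
(σ₂ on coefficients, x_j ↦ x_j^p). Since multiplication by p identifies R with pR', this is the
congruence P(f'_i) ≡ Σ_j (∂f_i/∂x_j)^p h_j modulo J for the Frobenius residues P(f'_i) = (F'(f'_i) −
f'_i^p)/p. -/
theorem result
    (p : ℕ) [Fact p.Prime] (k : Type u) [Field k] [CharP k p] [PerfectRing k p]
    {n m : ℕ} (f' : Fin m → MvPolynomial (Fin n) (FrobAlg.W2 p k))
    (hflat : ((Ideal.Quotient.mk (Ideal.span (Set.range f'))).comp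
      (MvPolynomial.C : FrobAlg.W2 p k →+* MvPolynomial (Fin n) (FrobAlg.W2 p k))).Flat) :
    (∃ Φ : (MvPolynomial (Fin n) (FrobAlg.W2 p k) ⧸ Ideal.span (Set.range f')) →+*
        (MvPolynomial (Fin n) (FrobAlg.W2 p k) ⧸ Ideal.span (Set.range f')),
      Φ.comp ((Ideal.Quotient.mk (Ideal.span (Set.range f'))).comp MvPolynomial.C) =
        ((Ideal.Quotient.mk (Ideal.span (Set.range f'))).comp MvPolynomial.C).comp (FrobAlg.sigma p k) ∧
      ∀ b, Ideal.quotientMap ((Ideal.span (Set.range f')).map (MvPolynomial.map (FrobAlg.res p k)))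
          (MvPolynomial.map (FrobAlg.res p k)) Ideal.le_comap_map (Φ b) =
        (Ideal.quotientMap ((Ideal.span (Set.range f')).map (MvPolynomial.map (FrobAlg.res p k)))
          (MvPolynomial.map (FrobAlg.res p k)) Ideal.le_comap_map b) ^ p) ↔
    ∃ h : Fin n → MvPolynomial (Fin n) (FrobAlg.W2 p k), ∀ i,
      FrobAlg.polyFrob p k (Fin n) (f' i) - f' i ^ p
        - (p : MvPolynomial (Fin n) (FrobAlg.W2 p k)) * ∑ j, MvPolynomial.pderiv j (f' i) ^ p * h j
        ∈ Ideal.span {(p : MvPolynomial (Fin n) (FrobAlg.W2 p k))} * Ideal.span (Set.range f') := by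
  have hp0 : p ≠ 0 := (Fact.out : p.Prime).ne_zero
  have hfJ : ∀ i, f' i ∈ Ideal.span (Set.range f') := fun i => Ideal.subset_span ⟨i, rfl⟩
  constructor
  · rintro ⟨Φ, hΦ1, hΦ2⟩
    -- `Φ (x_j) = x_j^p - p h_j`
    have hex : ∀ j : Fin n, ∃ g : MvPolynomial (Fin n) (FrobAlg.W2 p k),
        Φ (Ideal.Quotient.mk _ (X j)) = Ideal.Quotient.mk _
          (X j ^ p - (p : MvPolynomial (Fin n) (FrobAlg.W2 p k)) * g) := by
      intro j
      obtain ⟨y, hy⟩ := Ideal.Quotient.mk_surjective (Φ (Ideal.Quotient.mk _ (X j)))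
      have h1 := hΦ2 (Ideal.Quotient.mk _ (X j))
      rw [← hy, Ideal.quotientMap_mk, Ideal.quotientMap_mk, ← map_pow, ← map_pow] at h1
      obtain ⟨g, hg⟩ := exists_of_quot_eq p k _ y (X j ^ p) h1
      exact ⟨g, hy ▸ hg⟩
    choose h hh using hex
    refine ⟨h, fun i => ?_⟩
    have hcomp : Φ.comp (Ideal.Quotient.mk (Ideal.span (Set.range f'))) =
        (Ideal.Quotient.mk (Ideal.span (Set.range f'))).comp (Psi p k h) := by
      apply MvPolynomial.ringHom_ext
      · intro a
        have := congrArg (fun F => F a) hΦ1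
        simp only [RingHom.comp_apply] at this
        rw [RingHom.comp_apply, RingHom.comp_apply, this, Psi_C]
      · intro j
        rw [RingHom.comp_apply, RingHom.comp_apply, hh, Psi_X]
    have hmem : Psi p k h (f' i) ∈ Ideal.span (Set.range f') := by
      rw [← Ideal.Quotient.eq_zero_iff_mem, ← RingHom.comp_apply, ← hcomp, RingHom.comp_apply,
        Ideal.Quotient.eq_zero_iff_mem.2 (hfJ i), map_zero]
    rw [Psi_eq] at hmem
    apply inf_le_mul_of_flat p k _ hflat
    · have h1 := polyFrob_sub_pow_mem p k (f' i)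
      exact Ideal.sub_mem _ h1 (Ideal.mul_mem_right _ _ (Ideal.mem_span_singleton_self _))
    · have h2 : f' i ^ p ∈ Ideal.span (Set.range f') := Ideal.pow_mem_of_mem _ (hfJ i) p
        (Nat.pos_of_ne_zero hp0)
      have := Ideal.sub_mem _ hmem h2
      unfold DD at this
      convert this using 1
      ring
  · rintro ⟨h, hh⟩
    have hle : Ideal.span (Set.range f') ≤ (Ideal.span (Set.range f')).comap (Psi p k h) := by
      rw [Ideal.span_le]
      rintro _ ⟨i, rfl⟩
      rw [SetLike.mem_coe, Ideal.mem_comap, Psi_eq]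
      have h1 : FrobAlg.polyFrob p k (Fin n) (f' i) - f' i ^ p
        - (p : MvPolynomial (Fin n) (FrobAlg.W2 p k)) * ∑ j, MvPolynomial.pderiv j (f' i) ^ p * h j
        ∈ Ideal.span (Set.range f') :=
        (Ideal.mul_le_inf (I := Ideal.span {(p : MvPolynomial (Fin n) (FrobAlg.W2 p k))})
          (J := Ideal.span (Set.range f')) (hh i)).2
      have h2 : f' i ^ p ∈ Ideal.span (Set.range f') := Ideal.pow_mem_of_mem _ (hfJ i) p
        (Nat.pos_of_ne_zero hp0)
      have := Ideal.add_mem _ h1 h2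
      unfold DD
      convert this using 1
      ring
    refine ⟨Ideal.quotientMap (Ideal.span (Set.range f')) (Psi p k h) hle, ?_, ?_⟩
    · apply RingHom.ext
      intro a
      rw [RingHom.comp_apply, RingHom.comp_apply, RingHom.comp_apply, RingHom.comp_apply,
        Ideal.quotientMap_mk, Psi_C]
    · intro b
      obtain ⟨g, rfl⟩ := Ideal.Quotient.mk_surjective b
      rw [Ideal.quotientMap_mk, Ideal.quotientMap_mk, Ideal.quotientMap_mk, map_res_Psi, map_pow]

end Groth.Agent.S13138
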