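import Groth.Statements.S13139
import Mathlib
import Groth.Agent.Lib.Helper25.W2Lift
import Groth.Agent.Lib.Helper25.W2Coeff
import Groth.Agent.Lib.Helper25.W2PolyFrob
import Groth.Agent.S13138
-- import your own Groth.Agent.* helpers here

set_option autoImplicit false
set_option linter.unusedSectionVars false
set_option linter.style.haveILetI false
universe u
open scoped BigOperators
open FrobAlg

namespace Groth.Agent.S13139

open Groth.Agent.Lib.Helper26.W2Flat Groth.Agent.Lib.Helper25.W2Lift
  Groth.Agent.Lib.Helper25.W2Coeff Groth.Agent.Lib.Helper25.W2PolyFrob Finset MvPolynomial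

section
variable (p : ℕ) [hp : Fact p.Prime] (k : Type u) [Field k] [CharP k p] [PerfectRing k p] {n m : ℕ}

local notation "RR" => MvPolynomial (Fin n) (FrobAlg.W2 p k)
local notation "mr" => (MvPolynomial.map (FrobAlg.res p k) :
  MvPolynomial (Fin n) (FrobAlg.W2 p k) →+* MvPolynomial (Fin n) k)

lemma mr_surjective : Function.Surjective (mr : RR → MvPolynomial (Fin n) k) :=
  MvPolynomial.map_surjective _ (Groth.Agent.S13138.res_surjective p k)

lemma ofList_ofFn {S : Type*} [CommRing S] (g : Fin m → S) :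
    Ideal.ofList (List.ofFn g) = Ideal.span (Set.range g) := by
  unfold Ideal.ofList
  congr 1
  ext x
  simp [List.mem_ofFn]

lemma map_take_ofFn (f : Fin m → MvPolynomial (Fin n) k) (f' : Fin m → RR)
    (hf : ∀ i, mr (f' i) = f i) (i : ℕ) :
    Ideal.map mr (Ideal.ofList ((List.ofFn f').take i)) = Ideal.ofList ((List.ofFn f).take i) := by
  rw [Ideal.map_ofList, List.map_take, List.map_ofFn]
  congr 3
  funext j
  exact hf j

/-- key flatness claim: if `p x ∈ (f'_j : j < i)` then `x ∈ (f'_j : j < i) + (p)` -/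
lemma reg_claim (f : Fin m → MvPolynomial (Fin n) k) (f' : Fin m → RR)
    (hf : ∀ i, mr (f' i) = f i)
    (hreg : RingTheory.Sequence.IsWeaklyRegular (MvPolynomial (Fin n) k) (List.ofFn f)) :
    ∀ i ≤ m, ∀ x : RR, (p : RR) * x ∈ Ideal.ofList ((List.ofFn f').take i) →
      ∃ a ∈ Ideal.ofList ((List.ofFn f').take i), ∃ y, x = a + (p : RR) * y := by
  intro i
  induction i with
  | zero =>
    intro _ x hx
    rw [List.take_zero, Ideal.ofList_nil, Ideal.mem_bot] at hx
    have hfl : Module.Flat (FrobAlg.W2 p k) RR := inferInstance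
    obtain ⟨y, hy⟩ := (w2_flat_iff p k RR).1 hfl x (by
      rw [Algebra.smul_def, MvPolynomial.algebraMap_eq, map_natCast]; exact hx)
    refine ⟨0, Ideal.zero_mem _, y, ?_⟩
    rw [hy, Algebra.smul_def, MvPolynomial.algebraMap_eq, map_natCast, zero_add]
  | succ i ih =>
    intro hi x hx
    have him : i < m := hi
    have hlen : i < (List.ofFn f').length := by rw [List.length_ofFn]; exact him
    have hlen' : i < (List.ofFn f).length := by rw [List.length_ofFn]; exact him
    have htake : (List.ofFn f').take (i + 1) = (List.ofFn f').take i ++ [f' ⟨i, him⟩] := by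
      rw [List.take_succ_eq_append_getElem hlen, List.getElem_ofFn]
    rw [htake, Ideal.ofList_append, Ideal.ofList_singleton] at hx ⊢
    obtain ⟨a, ha, z, hz, hsum⟩ := Submodule.mem_sup.1 hx
    obtain ⟨c, rfl⟩ := Ideal.mem_span_singleton'.1 hz
    -- reduce mod p
    have h1 : mr a + mr c * f ⟨i, him⟩ = 0 := by
      have := congrArg mr hsum
      rw [map_add, map_mul, hf, map_mul, map_natCast, CharP.cast_eq_zero, zero_mul] at this
      exact this
    have ha' : mr a ∈ Ideal.ofList ((List.ofFn f).take i) := by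
      rw [← map_take_ofFn p k f f' hf i]
      exact Ideal.mem_map_of_mem _ ha
    have hreg_i := hreg.regular_mod_prev i hlen'
    have hc : mr c ∈ Ideal.ofList ((List.ofFn f).take i) := by
      have h2 : f ⟨i, him⟩ * mr c ∈ Ideal.ofList ((List.ofFn f).take i) := by
        have : f ⟨i, him⟩ * mr c = -(mr a) := by linear_combination h1
        rw [this]
        exact Ideal.neg_mem_iff _ |>.2 ha'
      have h3 : (List.ofFn f)[i] • (Submodule.Quotient.mk (mr c) : MvPolynomial (Fin n) k ⧸
          (Ideal.ofList ((List.ofFn f).take i) •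
            (⊤ : Submodule (MvPolynomial (Fin n) k) (MvPolynomial (Fin n) k)))) =
          (List.ofFn f)[i] • 0 := by
        rw [smul_zero, ← Submodule.Quotient.mk_smul, Submodule.Quotient.mk_eq_zero,
          List.getElem_ofFn, smul_eq_mul, smul_eq_mul, Ideal.mul_top]
        exact h2
      have h4 := hreg_i h3
      rw [Submodule.Quotient.mk_eq_zero, smul_eq_mul, Ideal.mul_top] at h4
      exact h4
    rw [← map_take_ofFn p k f f' hf i, Ideal.mem_map_iff_of_surjective _ (mr_surjective p k)] at hc
    obtain ⟨a', ha'mem, ha'eq⟩ := hc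
    have hker : c - a' ∈ RingHom.ker mr := by
      rw [RingHom.mem_ker, map_sub, ha'eq, sub_self]
    rw [ker_map_res] at hker
    obtain ⟨c', hc'⟩ := Ideal.mem_span_singleton.1 hker
    have h5 : (p : RR) * (x - c' * f' ⟨i, him⟩) ∈ Ideal.ofList ((List.ofFn f').take i) := by
      have : (p : RR) * (x - c' * f' ⟨i, him⟩) = a + a' * f' ⟨i, him⟩ := by
        linear_combination -hsum + (f' ⟨i, him⟩) * hc'
      rw [this]
      exact Ideal.add_mem _ ha (Ideal.mul_mem_right _ _ ha'mem)
    obtain ⟨a'', ha'', y, hy⟩ := ih (by omega) _ h5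
    refine ⟨a'' + c' * f' ⟨i, him⟩, ?_, y, ?_⟩
    · exact Submodule.add_mem_sup ha'' (Ideal.mem_span_singleton'.2 ⟨c', rfl⟩)
    · linear_combination hy

lemma flat_of_regular (f : Fin m → MvPolynomial (Fin n) k) (f' : Fin m → RR)
    (hf : ∀ i, mr (f' i) = f i)
    (hreg : RingTheory.Sequence.IsWeaklyRegular (MvPolynomial (Fin n) k) (List.ofFn f)) :
    ((Ideal.Quotient.mk (Ideal.span (Set.range f'))).comp
      (MvPolynomial.C : FrobAlg.W2 p k →+* RR)).Flat := by
  unfold RingHom.Flat
  refine (@w2_flat_iff p _ k _ _ _ (RR ⧸ Ideal.span (Set.range f')) _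
    (RingHom.toAlgebra ((Ideal.Quotient.mk _).comp MvPolynomial.C)).toModule).2 ?_
  intro q hq
  obtain ⟨x, rfl⟩ := Ideal.Quotient.mk_surjective q
  have hq' : ((Ideal.Quotient.mk (Ideal.span (Set.range f'))).comp MvPolynomial.C)
      (p : FrobAlg.W2 p k) * Ideal.Quotient.mk _ x = 0 := hq
  rw [map_natCast, ← map_natCast (Ideal.Quotient.mk _), ← map_mul,
    Ideal.Quotient.eq_zero_iff_mem, ← ofList_ofFn] at hq'
  have hq'' : (p : RR) * x ∈ Ideal.ofList ((List.ofFn f').take m) := by
    rw [List.take_of_length_le (by rw [List.length_ofFn])]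
    exact hq'
  obtain ⟨a, ha, y, hy⟩ := reg_claim p k f f' hf hreg m le_rfl x hq''
  rw [List.take_of_length_le (by rw [List.length_ofFn]), ofList_ofFn] at ha
  refine ⟨Ideal.Quotient.mk _ y, ?_⟩
  show Ideal.Quotient.mk _ x = ((Ideal.Quotient.mk (Ideal.span (Set.range f'))).comp
    MvPolynomial.C) (p : FrobAlg.W2 p k) * Ideal.Quotient.mk _ y
  rw [map_natCast, ← map_natCast (Ideal.Quotient.mk _), ← map_mul, Ideal.Quotient.eq, hy,
    add_sub_cancel_right]
  exact ha

end

/-- Let k be a perfect field of characteristic p and f_1, …, f_m a regular sequence in R = k[x_1, …,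
x_n]. The complete intersection A = R/(f_1, …, f_m) lifts to W₂(k) compatibly with Frobenius if and
only if for some lifts f'_1, …, f'_m ∈ R' = W₂(k)[x_1, …, x_n] of the f_i and some h_1, …, h_n ∈ R'
one has F'(f'_i) − f'_i^p − p·Σ_j (∂f'_i/∂x_j)^p h_j ∈ p·(f'_1, …, f'_m) for every i, F' being the
standard Frobenius lift of R'. In terms of Frobenius residues P(f') = (F'(f') − f'^p)/p ∈ R, which
change by g^p when f' changes by pg, this is the congruence P_{f_i} + g_i^p ≡ Σ_j (∂f_i/∂x_j)^p h_j
modulo (f_1, …, f_m) for some g_i, h_j. -/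
theorem result
    (p : ℕ) [Fact p.Prime] (k : Type u) [Field k] [CharP k p] [PerfectRing k p]
    {n m : ℕ} (f : Fin m → MvPolynomial (Fin n) k)
    (hreg : RingTheory.Sequence.IsRegular (MvPolynomial (Fin n) k) (List.ofFn f)) :
    FrobAlg.IsFLiftable p k (MvPolynomial (Fin n) k ⧸ Ideal.span (Set.range f)) ↔
    ∃ (f' : Fin m → MvPolynomial (Fin n) (FrobAlg.W2 p k)) (h : Fin n → MvPolynomial (Fin n) (FrobAlg.W2 p k)),
      (∀ i, MvPolynomial.map (FrobAlg.res p k) (f' i) = f i) ∧
      ∀ i, FrobAlg.polyFrob p k (Fin n) (f' i) - f' i ^ p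
        - (p : MvPolynomial (Fin n) (FrobAlg.W2 p k)) * ∑ j, MvPolynomial.pderiv j (f' i) ^ p * h j
        ∈ Ideal.span {(p : MvPolynomial (Fin n) (FrobAlg.W2 p k))} * Ideal.span (Set.range f') := by
  have hp0 : p ≠ 0 := (Fact.out : p.Prime).ne_zero
  constructor
  · rintro ⟨B', _, ι, π, Φ, hΦ⟩
    have hB := hΦ.toIsLift
    choose Xl hXl using fun j : Fin n =>
      hB.surj (Ideal.Quotient.mk (Ideal.span (Set.range f)) (X j))
    set ev : MvPolynomial (Fin n) (FrobAlg.W2 p k) →+* B' := eval₂Hom ι Xl with hev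
    have hevC : ∀ a, ev (C a) = ι a := fun a => by rw [hev, coe_eval₂Hom, eval₂_C]
    have hevX : ∀ j, ev (X j) = Xl j := fun j => by rw [hev, coe_eval₂Hom, eval₂_X]
    have hπev : ∀ g, π (ev g) = Ideal.Quotient.mk (Ideal.span (Set.range f))
        (MvPolynomial.map (FrobAlg.res p k) g) := by
      have : π.comp ev = (Ideal.Quotient.mk (Ideal.span (Set.range f))).comp
          (MvPolynomial.map (FrobAlg.res p k)) := by
        apply MvPolynomial.ringHom_ext
        · intro a
          rw [RingHom.comp_apply, RingHom.comp_apply, hevC, pi_iota hB, map_C]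
          rfl
        · intro j
          rw [RingHom.comp_apply, RingHom.comp_apply, hevX, hXl, map_X]
      intro g
      exact congrArg (fun F => F g) this
    have hevp : ∀ a : MvPolynomial (Fin n) k ⧸ Ideal.span (Set.range f),
        ∃ g, tau hB a = ev ((p : MvPolynomial (Fin n) (FrobAlg.W2 p k)) * g) := by
      intro a
      obtain ⟨a0, rfl⟩ := Ideal.Quotient.mk_surjective a
      obtain ⟨g, rfl⟩ := mr_surjective p k a0
      exact ⟨g, by rw [← hπev, tau_pi, map_mul, map_natCast]⟩
    -- the lifted equations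
    have hf'ex : ∀ i : Fin m, ∃ f'i : MvPolynomial (Fin n) (FrobAlg.W2 p k),
        MvPolynomial.map (FrobAlg.res p k) f'i = f i ∧ ev f'i = 0 := by
      intro i
      obtain ⟨ft, hft⟩ := mr_surjective p k (f i)
      obtain ⟨a, ha⟩ := exists_tau_eq hB (ev ft) (by
        rw [hπev, hft, Ideal.Quotient.eq_zero_iff_mem]
        exact Ideal.subset_span ⟨i, rfl⟩)
      obtain ⟨g, hg⟩ := hevp a
      refine ⟨ft - (p : MvPolynomial (Fin n) (FrobAlg.W2 p k)) * g, ?_, ?_⟩
      · rw [map_sub, hft, map_mul, map_natCast, CharP.cast_eq_zero, zero_mul, sub_zero]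
      · rw [map_sub, ← hg, ha, sub_self]
    choose f' hf'1 hf'2 using hf'ex
    -- the Frobenius on the lifted variables
    have hhex : ∀ j : Fin n, ∃ hj : MvPolynomial (Fin n) (FrobAlg.W2 p k),
        Φ (Xl j) = ev (X j ^ p - (p : MvPolynomial (Fin n) (FrobAlg.W2 p k)) * hj) := by
      intro j
      obtain ⟨a, ha⟩ := exists_tau_eq hB (Φ (Xl j) - Xl j ^ p) (by
        rw [map_sub, hΦ.red, map_pow, sub_self])
      obtain ⟨g, hg⟩ := hevp a
      refine ⟨-g, ?_⟩
      rw [mul_neg, sub_neg_eq_add, map_add, ← hg, ha, map_pow, hevX]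
      ring
    choose h hh using hhex
    refine ⟨f', h, hf'1, fun i => ?_⟩
    have hcomp : Φ.comp ev = ev.comp (Psi p k h) := by
      apply MvPolynomial.ringHom_ext
      · intro a
        have := congrArg (fun F => F a) hΦ.semi
        simp only [RingHom.comp_apply] at this
        rw [RingHom.comp_apply, RingHom.comp_apply, hevC, this, Psi_C, hevC]
      · intro j
        rw [RingHom.comp_apply, RingHom.comp_apply, hevX, hh, Psi_X]
    have hzero : ev (Psi p k h (f' i)) = 0 := by
      rw [← RingHom.comp_apply, ← hcomp, RingHom.comp_apply, hf'2, map_zero]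
    rw [Psi_eq] at hzero
    -- the key: `ker ev ∩ (p) ⊆ p J'`
    have hkey : ∀ x ∈ Ideal.span {(p : MvPolynomial (Fin n) (FrobAlg.W2 p k))}, ev x = 0 →
        x ∈ Ideal.span {(p : MvPolynomial (Fin n) (FrobAlg.W2 p k))} *
          Ideal.span (Set.range f') := by
      intro x hx hx0
      obtain ⟨y, rfl⟩ := Ideal.mem_span_singleton'.1 hx
      rw [map_mul, map_natCast, mul_comm] at hx0
      have h1 := pi_eq_zero_of_p_mul hB _ hx0
      rw [hπev, Ideal.Quotient.eq_zero_iff_mem] at h1
      have hJ : Ideal.span (Set.range f) = Ideal.map (MvPolynomial.map (FrobAlg.res p k))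
          (Ideal.span (Set.range f')) := by
        rw [Ideal.map_span, ← Set.range_comp]
        congr 2
        funext i
        exact (hf'1 i).symm
      rw [hJ, Ideal.mem_map_iff_of_surjective _ (mr_surjective p k)] at h1
      obtain ⟨j, hj, hjy⟩ := h1
      have hker : y - j ∈ RingHom.ker (MvPolynomial.map (FrobAlg.res p k) :
          MvPolynomial (Fin n) (FrobAlg.W2 p k) →+* MvPolynomial (Fin n) k) := by
        rw [RingHom.mem_ker, map_sub, hjy, sub_self]
      rw [ker_map_res] at hker
      obtain ⟨y', hy'⟩ := Ideal.mem_span_singleton.1 hker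
      have : y * (p : MvPolynomial (Fin n) (FrobAlg.W2 p k)) =
          (p : MvPolynomial (Fin n) (FrobAlg.W2 p k)) * j := by
        have hpp := p_mul_p_poly p k (n := n)
        linear_combination (p : MvPolynomial (Fin n) (FrobAlg.W2 p k)) * hy' + y' * hpp
      rw [this]
      exact Ideal.mul_mem_mul (Ideal.mem_span_singleton_self _) hj
    have hgoal : FrobAlg.polyFrob p k (Fin n) (f' i) - f' i ^ p
        - (p : MvPolynomial (Fin n) (FrobAlg.W2 p k)) * ∑ j, MvPolynomial.pderiv j (f' i) ^ p * h j =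
        (FrobAlg.polyFrob p k (Fin n) (f' i) - DD p k h (f' i)) - f' i ^ p := by
      unfold DD
      ring
    rw [hgoal]
    apply hkey
    · have h1 := polyFrob_sub_pow_mem p k (f' i)
      have h2 : DD p k h (f' i) ∈ Ideal.span {(p : MvPolynomial (Fin n) (FrobAlg.W2 p k))} := by
        unfold DD
        exact Ideal.mul_mem_right _ _ (Ideal.mem_span_singleton_self _)
      have := Ideal.sub_mem _ h1 h2
      convert this using 1
      ring
    · rw [map_sub, hzero, map_pow, hf'2, zero_pow hp0, sub_zero]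
  · rintro ⟨f', h, hf, hh⟩
    have hflat := flat_of_regular p k f f' hf hreg.toIsWeaklyRegular
    obtain ⟨Φ, hΦ1, hΦ2⟩ := (Groth.Agent.S13138.result p k f' hflat).2 ⟨h, hh⟩
    have hJ : Ideal.map (MvPolynomial.map (FrobAlg.res p k)) (Ideal.span (Set.range f')) =
        Ideal.span (Set.range f) := by
      rw [Ideal.map_span, ← Set.range_comp]
      congr 2
      funext i
      exact hf i
    have hle : Ideal.span (Set.range f') ≤
        (Ideal.span (Set.range f)).comap (MvPolynomial.map (FrobAlg.res p k)) := by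
      rw [← hJ]
      exact Ideal.le_comap_map
    refine ⟨MvPolynomial (Fin n) (FrobAlg.W2 p k) ⧸ Ideal.span (Set.range f'), inferInstance,
      (Ideal.Quotient.mk _).comp MvPolynomial.C,
      Ideal.quotientMap (Ideal.span (Set.range f)) (MvPolynomial.map (FrobAlg.res p k)) hle,
      Φ, ⟨⟨hflat, ?_, ?_, ?_⟩, hΦ1, ?_⟩⟩
    · exact Ideal.quotientMap_surjective (mr_surjective p k)
    · rw [ker_res_eq, Ideal.map_span, Set.image_singleton, map_natCast]
      apply le_antisymm
      · intro q hq
        obtain ⟨x, rfl⟩ := Ideal.Quotient.mk_surjective q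
        rw [RingHom.mem_ker, Ideal.quotientMap_mk, Ideal.Quotient.eq_zero_iff_mem, ← hJ,
          Ideal.mem_map_iff_of_surjective _ (mr_surjective p k)] at hq
        obtain ⟨j, hj, hjx⟩ := hq
        have hker : x - j ∈ RingHom.ker (MvPolynomial.map (FrobAlg.res p k) :
            MvPolynomial (Fin n) (FrobAlg.W2 p k) →+* MvPolynomial (Fin n) k) := by
          rw [RingHom.mem_ker, map_sub, hjx, sub_self]
        rw [ker_map_res] at hker
        obtain ⟨y, hy⟩ := Ideal.mem_span_singleton.1 hker
        rw [Ideal.mem_span_singleton]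
        refine ⟨Ideal.Quotient.mk _ y, ?_⟩
        rw [← map_natCast (Ideal.Quotient.mk (Ideal.span (Set.range f'))), ← map_mul,
          Ideal.Quotient.eq, ← hy, sub_sub_cancel]
        exact hj
      · rw [Ideal.span_le, Set.singleton_subset_iff, SetLike.mem_coe, RingHom.mem_ker,
          map_natCast, ← map_natCast (Ideal.Quotient.mk (Ideal.span (Set.range f))),
          CharP.cast_eq_zero, map_zero]
    · apply RingHom.ext
      intro a
      rw [RingHom.comp_apply, RingHom.comp_apply, RingHom.comp_apply, Ideal.quotientMap_mk, map_C]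
      rfl
    · intro b
      obtain ⟨x, rfl⟩ := Ideal.Quotient.mk_surjective b
      have h2 := hΦ2 (Ideal.Quotient.mk _ x)
      obtain ⟨y, hy⟩ := Ideal.Quotient.mk_surjective (Φ (Ideal.Quotient.mk _ x))
      rw [← hy, Ideal.quotientMap_mk, Ideal.quotientMap_mk, ← map_pow, Ideal.Quotient.eq,
        hJ] at h2
      rw [← hy, Ideal.quotientMap_mk, Ideal.quotientMap_mk, ← map_pow, Ideal.Quotient.eq]
      exact h2

end Groth.Agent.S13139
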