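import Groth.Statements.S13141
-- import your own Groth.Agent.* helpers here

set_option autoImplicit false
universe u v w w'
open scoped TensorProduct
open GrpAlg

namespace Groth.Agent.S13141

/-- Let G be a finite group, R a commutative ring with |G| invertible in R, M a projective R-module with
an R-linear G-action and S an R-algebra. The natural map M^G ⊗_R S → M ⊗_R S is injective and its
image is the submodule of G-invariants of M ⊗_R S (G acting on the first factor); that is, M^G ⊗_R S
→ (M ⊗_R S)^G is bijective. -/
theorem result
    (R : Type u) [CommRing R] (G : Type v) [Group G] [Finite G] (hG : IsUnit ((Nat.card G : ℕ) : R))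
    (M : Type w) [AddCommGroup M] [Module R M] [Module.Projective R M] (ρ : Representation R G M)
    (S : Type w') [CommRing S] [Algebra R S] :
    Function.Injective (TensorProduct.map ρ.invariants.subtype (LinearMap.id : S →ₗ[R] S)) ∧
    LinearMap.range (TensorProduct.map ρ.invariants.subtype (LinearMap.id : S →ₗ[R] S)) =
      ⨅ g : G, LinearMap.eqLocus (LinearMap.rTensor S (ρ g)) LinearMap.id := by
  classical
  have := Fintype.ofFinite G
  have hG' : IsUnit ((Fintype.card G : ℕ) : R) := by rwa [Fintype.card_eq_nat_card]
  let _ : Invertible ((Fintype.card G : ℕ) : R) := hG'.invertible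
  let e : M →ₗ[R] ρ.invariants := ρ.isProj_averageMap.codRestrict
  have he : e ∘ₗ ρ.invariants.subtype = LinearMap.id := by
    ext x
    simp only [LinearMap.comp_apply, Submodule.subtype_apply, LinearMap.id_apply, e,
      LinearMap.IsProj.codRestrict_apply]
    exact ρ.averageMap_id x.1 x.2
  have hse : ρ.invariants.subtype ∘ₗ e = ρ.averageMap := by
    ext x
    simp only [LinearMap.comp_apply, Submodule.subtype_apply, e,
      LinearMap.IsProj.codRestrict_apply]
  have hri : ∀ x, (TensorProduct.map e (LinearMap.id : S →ₗ[R] S))
      ((TensorProduct.map ρ.invariants.subtype (LinearMap.id : S →ₗ[R] S)) x) = x := by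
    intro x
    rw [← LinearMap.comp_apply, ← TensorProduct.map_comp, he]
    simp
  have havg : ρ.averageMap = ⅟((Fintype.card G : ℕ) : R) • ∑ g : G, ρ g := by
    rw [Representation.averageMap, GroupAlgebra.average, map_smul, map_sum]
    simp only [Representation.asAlgebraHom_of]
  constructor
  · exact Function.LeftInverse.injective hri
  · ext y
    simp only [Submodule.mem_iInf, LinearMap.mem_eqLocus, LinearMap.mem_range,
      LinearMap.id_apply]
    constructor
    · rintro ⟨x, rfl⟩ g
      induction x using TensorProduct.induction_on with
      | zero => simp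
      | tmul m s =>
        simp only [TensorProduct.map_tmul, LinearMap.rTensor_tmul, Submodule.subtype_apply,
          LinearMap.id_apply]
        rw [m.2 g]
      | add x y hx hy => simp only [map_add, hx, hy]
    · intro hy
      refine ⟨(TensorProduct.map e (LinearMap.id : S →ₗ[R] S)) y, ?_⟩
      rw [← LinearMap.comp_apply, ← TensorProduct.map_comp, hse, havg]
      have : TensorProduct.map (⅟((Fintype.card G : ℕ) : R) • ∑ g : G, ρ g)
          ((LinearMap.id : S →ₗ[R] S) ∘ₗ LinearMap.id) =
          ⅟((Fintype.card G : ℕ) : R) • ∑ g : G, LinearMap.rTensor S (ρ g) := by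
        rw [LinearMap.comp_id]
        change LinearMap.rTensor S _ = _
        rw [LinearMap.rTensor_smul, ← LinearMap.coe_rTensorHom, map_sum]
      rw [this, LinearMap.smul_apply, LinearMap.sum_apply]
      simp only [hy]
      rw [Finset.sum_const, Finset.card_univ, ← Nat.cast_smul_eq_nsmul R, smul_smul,
        invOf_mul_self, one_smul]

end Groth.Agent.S13141
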