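import Groth.Statements.S13142
-- import your own Groth.Agent.* helpers here

set_option autoImplicit false
universe u v
open GrpAlg

namespace Groth.Agent.S13142

/-- Let G be a finite group and R a commutative ring with |G| invertible in R, acting on R[x_1, …, x_n]
by R-algebra automorphisms. The invariant subring R[x_1, …, x_n]^G is a flat R-module (so the
quotient of affine n-space over R by G is flat over R). -/
theorem result
    (R : Type u) [CommRing R] (G : Type v) [Group G] [Finite G] (hG : IsUnit ((Nat.card G : ℕ) : R))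
    (n : ℕ) (ρ : G →* (MvPolynomial (Fin n) R ≃ₐ[R] MvPolynomial (Fin n) R)) :
    Module.Flat R ↥(⨅ g : G, LinearMap.eqLocus (ρ g).toLinearMap (LinearMap.id : MvPolynomial (Fin n) R →ₗ[R] MvPolynomial (Fin n) R)) := by
  classical
  haveI := Fintype.ofFinite G
  obtain ⟨c, hc⟩ := hG.exists_left_inv
  rw [Nat.card_eq_fintype_card] at hc
  let π₀ : MvPolynomial (Fin n) R →ₗ[R] MvPolynomial (Fin n) R :=
    c • ∑ g : G, (ρ g).toLinearMap
  have hπ₀ : ∀ f, π₀ f ∈ (⨅ g : G, LinearMap.eqLocus (ρ g).toLinearMap
      (LinearMap.id : MvPolynomial (Fin n) R →ₗ[R] MvPolynomial (Fin n) R)) := by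
    intro f
    rw [Submodule.mem_iInf]
    intro h
    rw [LinearMap.mem_eqLocus]
    simp only [π₀, LinearMap.smul_apply, LinearMap.sum_apply, AlgEquiv.toLinearMap_apply,
      map_smul, map_sum, LinearMap.id_apply]
    congr 1
    have : ∀ g : G, (ρ h) ((ρ g) f) = (ρ (h * g)) f := fun g => by
      rw [map_mul]; rfl
    simp only [this]
    exact Fintype.sum_equiv (Equiv.mulLeft h) _ _ (fun g => rfl)
  let π := π₀.codRestrict _ hπ₀
  have hπ : π.comp (Submodule.subtype _) = LinearMap.id := by
    ext1 ⟨f, hf⟩
    apply Subtype.ext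
    rw [Submodule.mem_iInf] at hf
    have hf' : ∀ g : G, (ρ g) f = f := fun g => by
      have := hf g
      rw [LinearMap.mem_eqLocus] at this
      exact this
    simp only [π, π₀, LinearMap.comp_apply, Submodule.subtype_apply, LinearMap.codRestrict_apply,
      LinearMap.smul_apply, LinearMap.sum_apply, AlgEquiv.toLinearMap_apply, hf',
      Finset.sum_const, Finset.card_univ, LinearMap.id_apply]
    rw [← Nat.cast_smul_eq_nsmul R, smul_smul, hc, one_smul]
  exact Module.Flat.of_retract (Submodule.subtype _) π hπ

end Groth.Agent.S13142
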