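import Groth.Statements.S13143
import Mathlib
import Groth.Agent.Lib.Helper25.W2Lift
-- import your own Groth.Agent.* helpers here

set_option autoImplicit false
set_option linter.unusedSectionVars false
set_option linter.style.haveILetI false
universe u
open FrobAlg

namespace Groth.Agent.S13143

open FrobAlg
open Groth.Agent.Lib.Helper25.W2Lift Groth.Agent.Lib.Helper26.W2Flat Function

/-- Let k be a perfect field of characteristic p and A → B a homomorphism of Noetherian k-algebras with
an A-linear retraction B → A. If B lifts flatly to W₂(k), so does A. (The published statement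
phrases the descent for finite surjective morphisms of degree prime to p, via a trace splitting; the
argument uses exactly an A-linear splitting of A → B for an affine morphism, which is the hypothesis
taken here.) -/
theorem result
    (p : ℕ) [Fact p.Prime] (k : Type u) [Field k] [CharP k p] [PerfectRing k p]
    (A B : Type u) [CommRing A] [CommRing B] [Algebra k A] [Algebra k B]
    [IsNoetherianRing A] [IsNoetherianRing B] [Algebra A B] [IsScalarTower k A B]
    (r : B →ₗ[A] A) (hr : ∀ a : A, r (algebraMap A B a) = a)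
    (hB : FrobAlg.IsW2Liftable p k B) : FrobAlg.IsW2Liftable p k A := by
  classical
  obtain ⟨B', _, ιB, πB, hL⟩ := hB
  have hrmul : ∀ (a : A) (b : B), r (algebraMap A B a * b) = a * r b := fun a b => by
    rw [← Algebra.smul_def, map_smul, smul_eq_mul]
  -- the subring `C = πB⁻¹(A)`
  let C : Subring B' := Subring.comap πB (algebraMap A B).range
  have hCmem : ∀ c : C, ∃ a : A, algebraMap A B a = πB c.1 := fun c => c.2
  -- residue map on `C`
  let πC : C →+* A :=
    { toFun := fun c => r (πB c.1)
      map_one' := by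
        change r (πB 1) = 1
        rw [map_one, ← map_one (algebraMap A B), hr]
      map_mul' := by
        intro c d
        obtain ⟨a, ha⟩ := hCmem c
        obtain ⟨b, hb⟩ := hCmem d
        change r (πB (c.1 * d.1)) = r (πB c.1) * r (πB d.1)
        rw [map_mul, ← ha, ← hb, ← map_mul, hr, hr, hr]
      map_zero' := by
        change r (πB 0) = 0
        rw [map_zero, map_zero]
      map_add' := by
        intro c d
        change r (πB (c.1 + d.1)) = r (πB c.1) + r (πB d.1)
        rw [map_add, map_add] }
  have hπC : ∀ c : C, algebraMap A B (πC c) = πB c.1 := by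
    intro c
    obtain ⟨a, ha⟩ := hCmem c
    change algebraMap A B (r (πB c.1)) = πB c.1
    rw [← ha, hr]
  -- the ideal `J = τ(ker r)`
  let J : Ideal C :=
    { carrier := {c | ∃ b : B, r b = 0 ∧ tau hL b = c.1}
      add_mem' := by
        rintro c d ⟨b, hb, hbc⟩ ⟨b', hb', hbd⟩
        exact ⟨b + b', by rw [map_add, hb, hb', add_zero], by
          rw [map_add, hbc, hbd]; rfl⟩
      zero_mem' := ⟨0, map_zero _, by rw [map_zero]; rfl⟩
      smul_mem' := by
        rintro c d ⟨b, hb, hbd⟩
        refine ⟨πB c.1 * b, ?_, ?_⟩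
        · rw [← hπC c, hrmul, hb, mul_zero]
        · rw [← mul_tau hL, hbd]; rfl }
  have hJmem : ∀ c : C, c ∈ J ↔ ∃ b : B, r b = 0 ∧ tau hL b = c.1 := fun c => Iff.rfl
  have hπJ : ∀ c : C, c ∈ J → πC c = 0 := by
    rintro c ⟨b, -, hbc⟩
    change r (πB c.1) = 0
    rw [← hbc, pi_tau, map_zero]
  -- structure maps
  have hιmem : ∀ w, ιB w ∈ C := by
    intro w
    change πB (ιB w) ∈ (algebraMap A B).range
    rw [pi_iota hL]
    exact ⟨algebraMap k A (FrobAlg.res p k w), (IsScalarTower.algebraMap_apply k A B _).symm⟩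
  let ιC : FrobAlg.W2 p k →+* C := ιB.codRestrict C hιmem
  let A' := C ⧸ J
  let ιA : FrobAlg.W2 p k →+* A' := (Ideal.Quotient.mk J).comp ιC
  let πA : A' →+* A := Ideal.Quotient.lift J πC hπJ
  have hπAmk : ∀ c : C, πA (Ideal.Quotient.mk J c) = r (πB c.1) := fun c => rfl
  have hpC : ((p : C) : B') = (p : B') := by
    simp
  -- kernel of `πA`
  have hker : ∀ m : A', πA m = 0 → ∃ m' : A', m = (p : A') * m' := by
    intro m hm
    obtain ⟨c, rfl⟩ := Ideal.Quotient.mk_surjective m
    rw [hπAmk] at hm
    have hc0 : πB c.1 = 0 := by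
      rw [← hπC c]
      change algebraMap A B (r (πB c.1)) = 0
      rw [hm, map_zero]
    obtain ⟨b, hb⟩ := exists_tau_eq hL c.1 hc0
    obtain ⟨x, hx⟩ := hL.surj (algebraMap A B (r b))
    have hxC : x ∈ C := ⟨r b, hx.symm⟩
    refine ⟨Ideal.Quotient.mk J ⟨x, hxC⟩, ?_⟩
    rw [← map_natCast (Ideal.Quotient.mk J), ← map_mul, Ideal.Quotient.eq, hJmem]
    refine ⟨b - algebraMap A B (r b), by rw [map_sub, hr, sub_self], ?_⟩
    rw [map_sub, hb, ← hx, tau_pi]
    simp
  have hAchar : (p : A) = 0 := by
    rw [← map_natCast (algebraMap k A), CharP.cast_eq_zero k p, map_zero]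
  refine ⟨A', inferInstance, ιA, πA, ⟨?_, ?_, ?_, ?_⟩⟩
  · -- flatness
    letI : Algebra (FrobAlg.W2 p k) A' := ιA.toAlgebra
    change Module.Flat (FrobAlg.W2 p k) A'
    rw [w2_flat_iff]
    have hsm : ∀ m : A', (p : FrobAlg.W2 p k) • m = (p : A') * m := fun m => by
      rw [Algebra.smul_def]
      change ιA (p : FrobAlg.W2 p k) * m = _
      rw [map_natCast]
    intro m hm
    rw [hsm] at hm
    simp only [hsm]
    apply hker
    obtain ⟨c, rfl⟩ := Ideal.Quotient.mk_surjective m
    rw [← map_natCast (Ideal.Quotient.mk J), ← map_mul, Ideal.Quotient.eq_zero_iff_mem, hJmem] at hm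
    obtain ⟨b, hb, hbc⟩ := hm
    have h1 : tau hL b = tau hL (πB c.1) := by
      rw [hbc, tau_pi]
      simp
    have h2 : b = πB c.1 := tau_injective hL h1
    rw [hπAmk, ← h2, hb]
  · -- surjectivity
    intro a
    obtain ⟨x, hx⟩ := hL.surj (algebraMap A B a)
    refine ⟨Ideal.Quotient.mk J ⟨x, ⟨a, hx.symm⟩⟩, ?_⟩
    rw [hπAmk]
    change r (πB x) = a
    rw [hx, hr]
  · -- kernel
    rw [ker_res_eq, Ideal.map_span, Set.image_singleton, map_natCast]
    apply le_antisymm
    · intro m hm
      obtain ⟨m', rfl⟩ := hker m hm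
      exact Ideal.mem_span_singleton.2 ⟨m', rfl⟩
    · rw [Ideal.span_le, Set.singleton_subset_iff]
      change πA (p : A') = 0
      rw [map_natCast, hAchar]
  · -- compatibility
    ext w
    change πA (Ideal.Quotient.mk J (ιC w)) = algebraMap k A (FrobAlg.res p k w)
    rw [hπAmk]
    change r (πB (ιB w)) = _
    rw [pi_iota hL, IsScalarTower.algebraMap_apply k A B, hr]

end Groth.Agent.S13143
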