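import Groth.Statements.S13144
import Mathlib
import Groth.Agent.Lib.Helper25.W2Lift
-- import your own Groth.Agent.* helpers here

set_option autoImplicit false
set_option linter.unusedSectionVars false
set_option linter.style.haveILetI false
universe u
open FrobAlg

namespace Groth.Agent.S13144

open FrobAlg
open Groth.Agent.Lib.Helper25.W2Lift Groth.Agent.Lib.Helper26.W2Flat Function Finset

/-- the polynomial `((x+y)^p - x^p - y^p)/p` -/
def QQ (p : ℕ) {R : Type*} [CommRing R] (x y : R) : R :=
  ∑ i ∈ Ioo 0 p, x ^ i * y ^ (p - i) * ((p.choose i / p : ℕ) : R)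

lemma add_pow_eq (p : ℕ) [hp : Fact p.Prime] {R : Type*} [CommRing R] (x y : R) :
    (x + y) ^ p = x ^ p + y ^ p + (p : R) * QQ p x y :=
  add_pow_prime_eq' hp.out x y

lemma map_QQ (p : ℕ) {R S : Type*} [CommRing R] [CommRing S] (f : R →+* S) (x y : R) :
    f (QQ p x y) = QQ p (f x) (f y) := by
  simp [QQ, map_sum]

/-- Let k be a perfect field of characteristic p, A → B a homomorphism of Noetherian k-algebras with an
A-linear retraction B → A, and A' → B' a homomorphism over W₂(k) between flat liftings of A and B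
which reduces to A → B. If the Frobenius of B lifts to B' (a σ₂-semilinear ring endomorphism
reducing to the p-th power map), then the Frobenius of A lifts to A'. (The published statement is
for an affine morphism whose map on structure sheaves splits linearly; the affine case with an
A-linear splitting is taken here.) -/
theorem result
    (p : ℕ) [Fact p.Prime] (k : Type u) [Field k] [CharP k p] [PerfectRing k p]
    (A B : Type u) [CommRing A] [CommRing B] [Algebra k A] [Algebra k B]
    [IsNoetherianRing A] [IsNoetherianRing B] [Algebra A B] [IsScalarTower k A B]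
    (r : B →ₗ[A] A) (hr : ∀ a : A, r (algebraMap A B a) = a)
    (A' B' : Type u) [CommRing A'] [CommRing B']
    (ιA : FrobAlg.W2 p k →+* A') (πA : A' →+* A) (hA : FrobAlg.IsLift p k A A' ιA πA)
    (ιB : FrobAlg.W2 p k →+* B') (πB : B' →+* B) (hB : FrobAlg.IsLift p k B B' ιB πB)
    (φ' : A' →+* B') (hφι : φ'.comp ιA = ιB) (hφπ : πB.comp φ' = (algebraMap A B).comp πA)
    (ΦB : B' →+* B') (hΦB : FrobAlg.IsFrobLift p k B B' ιB πB ΦB) :
    ∃ ΦA : A' →+* A', FrobAlg.IsFrobLift p k A A' ιA πA ΦA := by
  classical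
  have hp0 : p ≠ 0 := (Fact.out : p.Prime).ne_zero
  have hpiφ : ∀ x : A', πB (φ' x) = algebraMap A B (πA x) := fun x => by
    simpa using congrArg (fun f => f x) hφπ
  have hφι' : ∀ w, φ' (ιA w) = ιB w := fun w => by
    simpa using congrArg (fun f => f w) hφι
  have hex : ∀ x : A', ∃ b : B, tau hB b = ΦB (φ' x) - φ' x ^ p := fun x => by
    apply exists_tau_eq hB
    rw [map_sub, hΦB.red, map_pow, sub_self]
  choose β hβ using hex
  have hinjB := tau_injective hB
  have hrmul : ∀ (a : A) (b : B), r (algebraMap A B a * b) = a * r b := fun a b => by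
    rw [← Algebra.smul_def, map_smul, smul_eq_mul]
  have β_one : β 1 = 0 := hinjB (by
    rw [hβ, map_one, map_one, one_pow, sub_self, map_zero])
  have β_zero : β 0 = 0 := hinjB (by
    rw [hβ, map_zero, map_zero, zero_pow hp0, sub_self, map_zero])
  have β_add : ∀ x y, β (x + y) = β x + β y - algebraMap A B (QQ p (πA x) (πA y)) := by
    intro x y
    apply hinjB
    have h1 : tau hB (algebraMap A B (QQ p (πA x) (πA y))) = (p : B') * QQ p (φ' x) (φ' y) := by
      rw [← tau_pi hB]
      congr 1
      rw [map_QQ p πB, hpiφ, hpiφ, map_QQ p (algebraMap A B)]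
    rw [map_sub, map_add, hβ, hβ, hβ, map_add, map_add, add_pow_eq p (φ' x) (φ' y), h1]
    ring
  have β_mul : ∀ x y, β (x * y) =
      algebraMap A B (πA x ^ p) * β y + algebraMap A B (πA y ^ p) * β x := by
    intro x y
    apply hinjB
    have e1 : tau hB (algebraMap A B (πA x ^ p) * β y) = φ' x ^ p * tau hB (β y) := by
      rw [mul_tau hB, map_pow πB, hpiφ, ← map_pow (algebraMap A B)]
    have e2 : tau hB (algebraMap A B (πA y ^ p) * β x) = φ' y ^ p * tau hB (β x) := by
      rw [mul_tau hB, map_pow πB, hpiφ, ← map_pow (algebraMap A B)]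
    have e3 : (ΦB (φ' x) - φ' x ^ p) * (ΦB (φ' y) - φ' y ^ p) = 0 := by
      rw [← hβ, ← hβ, tau_mul_tau]
    rw [map_add, e1, e2, hβ, hβ, hβ, map_mul, map_mul, mul_pow]
    linear_combination e3
  let Φfun : A' → A' := fun x => x ^ p + tau hA (r (β x))
  have Φ_one : Φfun 1 = 1 := by
    change (1 : A') ^ p + tau hA (r (β 1)) = 1
    rw [β_one, map_zero, map_zero, one_pow, add_zero]
  have Φ_zero : Φfun 0 = 0 := by
    change (0 : A') ^ p + tau hA (r (β 0)) = 0
    rw [β_zero, map_zero, map_zero, zero_pow hp0, add_zero]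
  have Φ_mul : ∀ x y, Φfun (x * y) = Φfun x * Φfun y := by
    intro x y
    change (x * y) ^ p + tau hA (r (β (x * y))) =
      (x ^ p + tau hA (r (β x))) * (y ^ p + tau hA (r (β y)))
    rw [β_mul, map_add, hrmul, hrmul, map_add]
    have e1 : tau hA (πA x ^ p * r (β y)) = x ^ p * tau hA (r (β y)) := by
      rw [mul_tau hA, map_pow]
    have e2 : tau hA (πA y ^ p * r (β x)) = y ^ p * tau hA (r (β x)) := by
      rw [mul_tau hA, map_pow]
    have e3 := tau_mul_tau hA (r (β x)) (r (β y))
    rw [e1, e2, mul_pow]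
    linear_combination -e3
  have Φ_add : ∀ x y, Φfun (x + y) = Φfun x + Φfun y := by
    intro x y
    change (x + y) ^ p + tau hA (r (β (x + y))) =
      (x ^ p + tau hA (r (β x))) + (y ^ p + tau hA (r (β y)))
    have e1 : tau hA (QQ p (πA x) (πA y)) = (p : A') * QQ p x y := by
      rw [← tau_pi hA, map_QQ]
    rw [β_add, map_sub, map_add, hr, map_sub, map_add, e1, add_pow_eq p x y]
    ring
  let ΦA : A' →+* A' :=
    { toFun := Φfun
      map_one' := Φ_one
      map_mul' := Φ_mul
      map_zero' := Φ_zero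
      map_add' := Φ_add }
  refine ⟨ΦA, ⟨hA, ?_, ?_⟩⟩
  · -- semilinearity
    ext w
    change ΦA (ιA w) = ιA (sigma p k w)
    have hmem : sigma p k w - w ^ p ∈ RingHom.ker (FrobAlg.res p k) := by
      rw [RingHom.mem_ker, map_sub, map_pow, FrobAlg.res_apply, FrobAlg.res_apply,
        WittGrp.coeff_frob, sub_self]
    rw [ker_res_eq, Ideal.mem_span_singleton] at hmem
    obtain ⟨y, hy⟩ := hmem
    have hsemiB : ∀ w, ΦB (ιB w) = ιB (sigma p k w) := fun w => by
      simpa using congrArg (fun f => f w) hΦB.semi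
    have hβw : β (ιA w) = algebraMap k B (FrobAlg.res p k y) := by
      apply hinjB
      rw [hβ, hφι', hsemiB, ← pi_iota hB, tau_pi, ← map_pow, ← map_sub, hy, map_mul, map_natCast]
    have hrk : r (algebraMap k B (FrobAlg.res p k y)) = algebraMap k A (FrobAlg.res p k y) := by
      rw [IsScalarTower.algebraMap_apply k A B, hr]
    change (ιA w) ^ p + tau hA (r (β (ιA w))) = ιA (sigma p k w)
    rw [hβw, hrk, ← pi_iota hA, tau_pi, ← map_pow]
    have : sigma p k w = w ^ p + (p : FrobAlg.W2 p k) * y := by rw [← hy]; ring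
    rw [this, map_add, map_mul, map_natCast]
  · intro x
    change πA (x ^ p + tau hA (r (β x))) = πA x ^ p
    rw [map_add, pi_tau, add_zero, map_pow]

end Groth.Agent.S13144
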