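import Groth.Statements.S13146
import Mathlib
import Groth.Agent.Lib.Helper25.W2Lift
import Groth.Agent.Lib.Helper25.W2Coeff
import Groth.Agent.Lib.Helper25.QuadricCore
-- import your own Groth.Agent.* helpers here

set_option autoImplicit false
set_option linter.unusedSectionVars false
set_option linter.style.haveILetI false
universe u
open scoped BigOperators
open FrobAlg

namespace Groth.Agent.S13146

open Groth.Agent.Lib.Helper26.W2Flat Groth.Agent.Lib.Helper25.W2Lift
  Groth.Agent.Lib.Helper25.W2Coeff Groth.Agent.Lib.Helper25.QuadricCore Finset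

theorem aux
    (p : ℕ) [Fact p.Prime] (k : Type u) [Field k] [CharP k p] [PerfectRing k p]
    (n : ℕ) (hn : 3 ≤ n) (B' : Type u) [CommRing B'] (ι : FrobAlg.W2 p k →+* B')
    (π : B' →+* MvPolynomial (Fin n × Fin 2) k ⧸ II p k n)
    (hB : FrobAlg.IsLift p k (MvPolynomial (Fin n × Fin 2) k ⧸ II p k n) B' ι π) : False := by
  have hp2 : 2 ≤ p := (Fact.out : p.Prime).two_le
  -- lifts of the variables
  choose Xl hXl using fun v : Fin n × Fin 2 =>
    hB.surj (Ideal.Quotient.mk (II p k n) (MvPolynomial.X v))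
  set U : ℕ → B' := fun j => if h : j < n then Xl (⟨j, h⟩, 0) * Xl (⟨j, h⟩, 1) else 0 with hU
  have hπU : ∀ j, π (U j) = Ideal.Quotient.mk (II p k n) (uu k n j) := by
    intro j
    simp only [hU, uu]
    split_ifs with h
    · rw [map_mul, map_mul, hXl, hXl]
    · rw [map_zero, map_zero]
  have hXp : ∀ v, ∃ a, tau hB a = Xl v ^ p := by
    intro v
    apply exists_tau_eq hB
    rw [map_pow, hXl, ← map_pow, Ideal.Quotient.eq_zero_iff_mem]
    exact Ideal.subset_span (Set.mem_insert_of_mem _ ⟨v, rfl⟩)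
  have hUp : ∀ j, U j ^ p = 0 := by
    intro j
    simp only [hU]
    split_ifs with h
    · obtain ⟨a, ha⟩ := hXp (⟨j, h⟩, 0)
      obtain ⟨b, hb⟩ := hXp (⟨j, h⟩, 1)
      rw [mul_pow, ← ha, ← hb, tau_mul_tau]
    · exact zero_pow (by omega)
  have hsum : (∑ j ∈ range n, U j) ^ p = 0 := by
    obtain ⟨g, hg⟩ : ∃ g, tau hB g = ∑ j ∈ range n, U j := by
      apply exists_tau_eq hB
      rw [map_sum]
      simp_rw [hπU]
      rw [← map_sum, ← q_eq, Ideal.Quotient.eq_zero_iff_mem]
      exact Ideal.subset_span (Set.mem_insert _ _)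
    obtain ⟨m, rfl⟩ : ∃ m, p = m + 2 := ⟨p - 2, by omega⟩
    rw [← hg, pow_add, pow_two, tau_mul_tau, mul_zero]
  have key := sum_pow_eq p U n
  rw [hsum] at key
  simp_rw [hUp] at key
  rw [Finset.sum_const_zero, zero_add] at key
  have h1 : π (∑ j ∈ range n, QQ p (∑ i ∈ range j, U i) (U j)) = 0 :=
    pi_eq_zero_of_p_mul hB _ key.symm
  have h2 : Ideal.Quotient.mk (II p k n) (Hn p k n) = 0 := by
    rw [← h1, Hn, map_sum, map_sum]
    apply Finset.sum_congr rfl
    intro j _
    rw [map_QQ p (Ideal.Quotient.mk (II p k n)), map_QQ p π, map_sum, map_sum]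
    simp_rw [hπU]
  have h3 : Hn p k n ∈ II p k n := Ideal.Quotient.eq_zero_iff_mem.1 h2
  refine core p k n hn 0 ?_
  rw [map_zero, add_zero]
  exact h3

/-- In an even number of variables — for a perfect field k of characteristic p and n ≥ 3, the local
Artinian algebra k[x_1, y_1, …, x_n, y_n]/(x_1y_1 + ⋯ + x_ny_n, x_1^p, y_1^p, …, x_n^p, y_n^p)
admits no flat lifting over W₂(k). (The published statement covers every number N ≥ 5 of variables,
using x_1x_2 + ⋯ + x_{N−2}x_{N−1} + x_N² for odd N; the printed argument is written out for even N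
and the odd case is said to be analogous, so only even N = 2n ≥ 6 is taken here.) -/
theorem result
    (p : ℕ) [Fact p.Prime] (k : Type u) [Field k] [CharP k p] [PerfectRing k p]
    (n : ℕ) (hn : 3 ≤ n) :
    ¬ FrobAlg.IsW2Liftable p k
      (MvPolynomial (Fin n × Fin 2) k ⧸ Ideal.span
        (insert (∑ i : Fin n, MvPolynomial.X (i, (0 : Fin 2)) * MvPolynomial.X (i, (1 : Fin 2)))
          (Set.range fun v : Fin n × Fin 2 => (MvPolynomial.X v : MvPolynomial (Fin n × Fin 2) k) ^ p))) := by
  rintro ⟨B', _, ι, π, hB⟩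
  exact aux p k n hn B' ι π hB

end Groth.Agent.S13146
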