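import Groth.Statements.S13147
import Mathlib
import Groth.Agent.Lib.Helper25.W2Lift
-- import your own Groth.Agent.* helpers here

set_option autoImplicit false
set_option linter.unusedSectionVars false
set_option linter.style.haveILetI false
universe u
open FrobAlg

namespace Groth.Agent.S13147

open Groth.Agent.Lib.Helper26.W2Flat Groth.Agent.Lib.Helper25.W2Lift

section coeffs

variable (p : ℕ) [hp : Fact p.Prime] (A : Type u) [CommRing A] [CharP A p]

lemma eq_trunc_versch (x : FrobAlg.W2 p A) (h0 : x.coeff 0 = 0) :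
    x = WittVector.truncate 2 (WittVector.verschiebung (WittVector.teichmuller p (x.coeff 1))) := by
  ext i
  rw [WittVector.coeff_truncate]
  fin_cases i
  · simpa using h0
  · simp [WittVector.verschiebung_coeff_succ]

lemma coeff_one_add (x y : FrobAlg.W2 p A) (hx : x.coeff 0 = 0) (hy : y.coeff 0 = 0) :
    (x + y).coeff 1 = x.coeff 1 + y.coeff 1 := by
  conv_lhs => rw [eq_trunc_versch p A x hx, eq_trunc_versch p A y hy, ← map_add, ← map_add]
  rw [WittVector.coeff_truncate]
  show (WittVector.verschiebung _).coeff (0 + 1) = _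
  rw [WittVector.verschiebung_coeff_succ, WittVector.add_coeff_zero,
    WittVector.teichmuller_coeff_zero, WittVector.teichmuller_coeff_zero]

lemma coeff_one_mul (z x : FrobAlg.W2 p A) (hx : x.coeff 0 = 0) :
    (z * x).coeff 1 = z.coeff 0 ^ p * x.coeff 1 := by
  obtain ⟨Z, rfl⟩ := WittVector.truncate_surjective p 2 A z
  conv_lhs => rw [eq_trunc_versch p A x hx, ← map_mul, mul_comm,
    ← WittVector.verschiebung_mul_frobenius]
  rw [WittVector.coeff_truncate, WittVector.coeff_truncate]
  show (WittVector.verschiebung _).coeff (0 + 1) = _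
  rw [WittVector.verschiebung_coeff_succ, WittVector.mul_coeff_zero,
    WittVector.teichmuller_coeff_zero, WittVector.coeff_frobenius_charP, mul_comm]
  rfl

lemma coeff_zero_p_mul (z : FrobAlg.W2 p A) : ((p : FrobAlg.W2 p A) * z).coeff 0 = 0 := by
  rw [← FrobAlg.res_apply, map_mul, map_natCast, CharP.cast_eq_zero, zero_mul]

lemma coeff_one_p_mul (z : FrobAlg.W2 p A) : ((p : FrobAlg.W2 p A) * z).coeff 1 = z.coeff 0 ^ p := by
  obtain ⟨Z, rfl⟩ := WittVector.truncate_surjective p 2 A z
  rw [← map_natCast (WittVector.truncate (p := p) (R := A) 2), ← map_mul, mul_comm,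
    WittVector.coeff_truncate, WittVector.coeff_truncate]
  show (Z * p).coeff (0 + 1) = _
  rw [WittVector.mul_charP_coeff_succ]
  rfl

end coeffs

section main

variable (p : ℕ) [hp : Fact p.Prime] (A : Type u) [CommRing A] [CharP A p]

lemma mem_splitIdeal_iff (φ : A →+ A) (hφ : ∀ a b : A, φ (a ^ p * b) = a * φ b)
    (x : FrobAlg.W2 p A) :
    x ∈ FrobAlg.splitIdeal p A φ ↔ x.coeff 0 = 0 ∧ φ (x.coeff 1) = 0 := by
  constructor
  · intro hx
    unfold FrobAlg.splitIdeal at hx
    induction hx using Submodule.span_induction with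
    | mem y hy => exact ⟨by simpa using hy.1, hy.2⟩
    | zero => exact ⟨by rw [← FrobAlg.res_apply, map_zero], by
        rw [TruncatedWittVector.coeff_zero, map_zero]⟩
    | add y z _ _ hy hz =>
      refine ⟨?_, ?_⟩
      · rw [← FrobAlg.res_apply, map_add, FrobAlg.res_apply, FrobAlg.res_apply, hy.1, hz.1,
          add_zero]
      · rw [coeff_one_add p A y z hy.1 hz.1, map_add, hy.2, hz.2, add_zero]
    | smul a y _ hy =>
      refine ⟨?_, ?_⟩
      · rw [smul_eq_mul, ← FrobAlg.res_apply, map_mul, FrobAlg.res_apply, FrobAlg.res_apply, hy.1,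
          mul_zero]
      · rw [smul_eq_mul, coeff_one_mul p A a y hy.1, hφ, hy.2, mul_zero]
  · intro hx
    exact Ideal.subset_span ⟨by simpa using hx.1, hx.2⟩

lemma key (φ : A →+ A) (hφ : ∀ a b : A, φ (a ^ p * b) = a * φ b) (hφ1 : φ 1 = 1)
    (x : FrobAlg.W2 p A) (h0 : x.coeff 0 = 0) :
    ∃ y : FrobAlg.W2 p A, x - (p : FrobAlg.W2 p A) * y ∈ FrobAlg.splitIdeal p A φ := by
  obtain ⟨y, hy⟩ : ∃ y : FrobAlg.W2 p A, y.coeff 0 = φ (x.coeff 1) :=
    ⟨WittVector.truncate 2 (WittVector.teichmuller p (φ (x.coeff 1))), by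
      rw [WittVector.coeff_truncate]; exact WittVector.teichmuller_coeff_zero p _⟩
  refine ⟨y, ?_⟩
  rw [mem_splitIdeal_iff p A φ hφ]
  have hz0 : (x - (p : FrobAlg.W2 p A) * y).coeff 0 = 0 := by
    rw [← FrobAlg.res_apply, map_sub, FrobAlg.res_apply, FrobAlg.res_apply, h0,
      coeff_zero_p_mul, sub_zero]
  refine ⟨hz0, ?_⟩
  have h1 := coeff_one_add p A ((p : FrobAlg.W2 p A) * y) (x - (p : FrobAlg.W2 p A) * y)
    (coeff_zero_p_mul p A y) hz0
  rw [add_sub_cancel, coeff_one_p_mul, hy] at h1
  have h2 : (x - (p : FrobAlg.W2 p A) * y).coeff 1 = x.coeff 1 - φ (x.coeff 1) ^ p := by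
    linear_combination -h1
  rw [h2, map_sub]
  have := hφ (φ (x.coeff 1)) 1
  rw [mul_one, hφ1, mul_one] at this
  rw [this, sub_self]

end main

/-- Let k be a perfect field of characteristic p and (A, φ) a k-algebra with a Frobenius splitting (φ
additive, φ(a^p b) = a φ(b), φ(1) = 1). The quotient of W₂(A) by the ideal generated by the Witt
vectors (0, a) with φ(a) = 0 — the ring of twisted Witt vectors of (A, φ) — is a flat lifting of A
over W₂(k): flat over W₂(k), with reduction map onto A induced by (a₀, a₁) ↦ a₀ whose kernel is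
generated by the maximal ideal of W₂(k). (The published statement also asserts that a morphism of
algebras with Frobenius splittings compatible with the splittings induces a ring map between these
quotients; that part is not stated here.) -/
theorem result
    (p : ℕ) [Fact p.Prime] (k : Type u) [Field k] [CharP k p] [PerfectRing k p]
    (A : Type u) [CommRing A] [Algebra k A] (φ : A →+ A)
    (hφ : ∀ a b : A, φ (a ^ p * b) = a * φ b) (hφ1 : φ 1 = 1) :
    FrobAlg.IsLift p k A (FrobAlg.W2 p A ⧸ FrobAlg.splitIdeal p A φ)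
      ((Ideal.Quotient.mk (FrobAlg.splitIdeal p A φ)).comp (WittGrp.truncMap p 2 (algebraMap k A)))
      (FrobAlg.splitRes p A φ) := by
  have hcomm : (FrobAlg.splitRes p A φ).comp ((Ideal.Quotient.mk (FrobAlg.splitIdeal p A φ)).comp
      (WittGrp.truncMap p 2 (algebraMap k A))) = (algebraMap k A).comp (FrobAlg.res p k) := by
    ext x
    simp only [RingHom.comp_apply, FrobAlg.splitRes, Ideal.Quotient.lift_mk, FrobAlg.res_apply,
      WittGrp.coeff_truncMap]
  have hsurj : Function.Surjective (FrobAlg.splitRes p A φ) := by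
    intro a
    refine ⟨Ideal.Quotient.mk _ (WittVector.truncate 2 (WittVector.teichmuller p a)), ?_⟩
    simp only [FrobAlg.splitRes, Ideal.Quotient.lift_mk, FrobAlg.res_apply,
      WittVector.coeff_truncate]
    exact WittVector.teichmuller_coeff_zero p _
  rcases subsingleton_or_nontrivial A with hA | hA
  · -- trivial ring
    haveI : Subsingleton (FrobAlg.W2 p A) := by
      refine ⟨fun x y => ?_⟩
      ext i
      exact Subsingleton.elim _ _
    haveI : Subsingleton (FrobAlg.W2 p A ⧸ FrobAlg.splitIdeal p A φ) :=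
      (Ideal.Quotient.mk_surjective).subsingleton
    refine ⟨?_, hsurj, ?_, hcomm⟩
    · letI : Algebra (FrobAlg.W2 p k) (FrobAlg.W2 p A ⧸ FrobAlg.splitIdeal p A φ) :=
        RingHom.toAlgebra ((Ideal.Quotient.mk (FrobAlg.splitIdeal p A φ)).comp
          (WittGrp.truncMap p 2 (algebraMap k A)))
      show Module.Flat (FrobAlg.W2 p k) (FrobAlg.W2 p A ⧸ FrobAlg.splitIdeal p A φ)
      infer_instance
    · ext x
      have : x = 0 := Subsingleton.elim _ _
      subst this
      simp
  · haveI : CharP A p := charP_of_injective_algebraMap (algebraMap k A).injective p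
    have hpQ : ∀ x : FrobAlg.W2 p A,
        (p : FrobAlg.W2 p A ⧸ FrobAlg.splitIdeal p A φ) * Ideal.Quotient.mk _ x =
          Ideal.Quotient.mk _ ((p : FrobAlg.W2 p A) * x) := by
      intro x
      rw [map_mul, map_natCast]
    have hK : ∀ x : FrobAlg.W2 p A, x.coeff 0 = 0 →
        ∃ m' : FrobAlg.W2 p A ⧸ FrobAlg.splitIdeal p A φ,
          Ideal.Quotient.mk (FrobAlg.splitIdeal p A φ) x =
            (p : FrobAlg.W2 p A ⧸ FrobAlg.splitIdeal p A φ) * m' := by
      intro x h0
      obtain ⟨y, hy⟩ := key p A φ hφ hφ1 x h0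
      refine ⟨Ideal.Quotient.mk _ y, ?_⟩
      rw [hpQ, Ideal.Quotient.eq]
      exact hy
    refine ⟨?_, hsurj, ?_, hcomm⟩
    · letI : Algebra (FrobAlg.W2 p k) (FrobAlg.W2 p A ⧸ FrobAlg.splitIdeal p A φ) :=
        RingHom.toAlgebra ((Ideal.Quotient.mk (FrobAlg.splitIdeal p A φ)).comp
          (WittGrp.truncMap p 2 (algebraMap k A)))
      show Module.Flat (FrobAlg.W2 p k) (FrobAlg.W2 p A ⧸ FrobAlg.splitIdeal p A φ)
      rw [w2_flat_iff]
      have hsm : ∀ m : FrobAlg.W2 p A ⧸ FrobAlg.splitIdeal p A φ,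
          (p : FrobAlg.W2 p k) • m = (p : FrobAlg.W2 p A ⧸ FrobAlg.splitIdeal p A φ) * m := by
        intro m
        rw [Algebra.smul_def]
        show ((Ideal.Quotient.mk (FrobAlg.splitIdeal p A φ)).comp
          (WittGrp.truncMap p 2 (algebraMap k A))) (p : FrobAlg.W2 p k) * m = _
        rw [map_natCast]
      intro m hm
      obtain ⟨x, rfl⟩ := Ideal.Quotient.mk_surjective m
      rw [hsm, hpQ, Ideal.Quotient.eq_zero_iff_mem, mem_splitIdeal_iff p A φ hφ,
        coeff_one_p_mul] at hm
      have hx0 : x.coeff 0 = 0 := by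
        have := hφ (x.coeff 0) 1
        rw [mul_one, hφ1, mul_one, hm.2] at this
        exact this.symm
      obtain ⟨m', hm'⟩ := hK x hx0
      exact ⟨m', by rw [hsm, hm']⟩
    · rw [ker_res_eq, Ideal.map_span, Set.image_singleton, map_natCast]
      apply le_antisymm
      · intro m hm
        obtain ⟨x, rfl⟩ := Ideal.Quotient.mk_surjective m
        rw [RingHom.mem_ker] at hm
        simp only [FrobAlg.splitRes, Ideal.Quotient.lift_mk, FrobAlg.res_apply] at hm
        obtain ⟨m', hm'⟩ := hK x hm
        rw [hm']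
        exact Ideal.mem_span_singleton.2 ⟨m', rfl⟩
      · rw [Ideal.span_le, Set.singleton_subset_iff, SetLike.mem_coe, RingHom.mem_ker,
          map_natCast]
        exact CharP.cast_eq_zero A p

end Groth.Agent.S13147
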