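import Groth.Statements.S13149
import Mathlib
-- import your own Groth.Agent.* helpers here

set_option autoImplicit false
universe u
open CAlg

namespace Groth.Agent.S13149

open Matrix

section
variable {A : Type u} [CommRing A]

/-- a vector orthogonal to `x` and `y` is a multiple of `x × y` when the latter is primitive -/
theorem cross_unique (x y n : Fin 3 → A) (hx : x ⬝ᵥ n = 0) (hy : y ⬝ᵥ n = 0)
    (i : Fin 3) (hi : IsUnit ((x ⨯₃ y) i)) : ∃ l : A, n = l • (x ⨯₃ y) := by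
  have h := cross_cross_eq_smul_sub_smul' n x y
  rw [dotProduct_comm n y, hy, hx] at h
  simp only [zero_smul, sub_zero] at h
  set c := x ⨯₃ y with hc
  have h0 := congrFun h 0
  have h1 := congrFun h 1
  have h2 := congrFun h 2
  rw [cross_apply] at h0 h1 h2
  simp at h0 h1 h2
  obtain ⟨ui, hui⟩ := hi
  refine ⟨n i * ↑ui⁻¹, ?_⟩
  have hci : c i * ↑ui⁻¹ = 1 := by rw [← hui]; simp
  funext j
  simp only [Pi.smul_apply, smul_eq_mul]
  fin_cases i <;> fin_cases j <;> simp only [Fin.zero_eta, Fin.mk_one, Fin.reduceFinMk] at hci ⊢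
  · linear_combination (-(n 0)) * hci
  · linear_combination (-(n 1)) * hci - (↑ui⁻¹ : A) * h2
  · linear_combination (-(n 2)) * hci + (↑ui⁻¹ : A) * h1
  · linear_combination (-(n 0)) * hci + (↑ui⁻¹ : A) * h2
  · linear_combination (-(n 1)) * hci
  · linear_combination (-(n 2)) * hci - (↑ui⁻¹ : A) * h0
  · linear_combination (-(n 0)) * hci - (↑ui⁻¹ : A) * h1
  · linear_combination (-(n 1)) * hci + (↑ui⁻¹ : A) * h0
  · linear_combination (-(n 2)) * hci

end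

section Core

variable {p : ℕ} {A : Type u} [CommRing A] (ρ : (Fin 3 → ZMod p) → (Fin 3 → A))

/-- the collinearity hypothesis -/
def Col : Prop :=
  ∀ u v w : Fin 3 → ZMod p, u ≠ 0 → v ≠ 0 → w ≠ 0 →
      Matrix.det (Matrix.of ![u, v, w]) = 0 →
      ∃ n : Fin 3 → A, (∃ i, IsUnit (n i)) ∧
        dotProduct (ρ u) n = 0 ∧ dotProduct (ρ v) n = 0 ∧ dotProduct (ρ w) n = 0

theorem tool (hcol : Col ρ) (P Q R : Fin 3 → ZMod p) (hP : P ≠ 0) (hQ : Q ≠ 0) (hR : R ≠ 0)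
    (hdet : Matrix.det (Matrix.of ![R, P, Q]) = 0) (x0 y0 : Fin 3 → A) (a b : A)
    (ha : IsUnit a) (hb : IsUnit b) (hP' : ρ P = a • x0) (hQ' : ρ Q = b • y0)
    (i : Fin 3) (hi : IsUnit ((x0 ⨯₃ y0) i)) :
    ρ R ⬝ᵥ (x0 ⨯₃ y0) = 0 := by
  obtain ⟨n, ⟨j, hj⟩, hR', hP'', hQ''⟩ := hcol R P Q hR hP hQ hdet
  rw [hP', smul_dotProduct, smul_eq_mul] at hP''
  rw [hQ', smul_dotProduct, smul_eq_mul] at hQ''
  have hx : x0 ⬝ᵥ n = 0 := (ha.mul_right_eq_zero).mp hP''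
  have hy : y0 ⬝ᵥ n = 0 := (hb.mul_right_eq_zero).mp hQ''
  obtain ⟨l, hl⟩ := cross_unique x0 y0 n hx hy i hi
  have hlu : IsUnit l := by
    rw [hl, Pi.smul_apply, smul_eq_mul] at hj
    exact isUnit_of_mul_isUnit_left hj
  rw [hl, dotProduct_smul, smul_eq_mul] at hR'
  exact (hlu.mul_right_eq_zero).mp hR'

theorem tool' (hcol : Col ρ) (P Q R : Fin 3 → ZMod p) (hP : P ≠ 0) (hQ : Q ≠ 0) (hR : R ≠ 0)
    (hdet : Matrix.det (Matrix.of ![R, P, Q]) = 0) (x0 y0 : Fin 3 → A) (a b : A)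
    (ha : IsUnit a) (hb : IsUnit b) (hP' : ρ P = a • x0) (hQ' : ρ Q = b • y0)
    (i : Fin 3) (hi : IsUnit ((x0 ⨯₃ y0) i)) :
    ρ R 0 * (x0 1 * y0 2 - x0 2 * y0 1) + ρ R 1 * (x0 2 * y0 0 - x0 0 * y0 2) +
      ρ R 2 * (x0 0 * y0 1 - x0 1 * y0 0) = 0 := by
  have h := tool ρ hcol P Q R hP hQ hR hdet x0 y0 a b ha hb hP' hQ' i hi
  rw [cross_apply, dotProduct, Fin.sum_univ_three] at h
  generalize ρ R = z at h ⊢
  simpa using h

end Core

theorem finish {A : Type u} [CommRing A] (z w : Fin 3 → A) (k : Fin 3)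
    (h : ∀ j, z j = z k * w j) (hz : ∃ i, IsUnit (z i)) : z = (z k) • w ∧ IsUnit (z k) := by
  refine ⟨?_, ?_⟩
  · funext j
    rw [Pi.smul_apply, smul_eq_mul]
    exact h j
  · obtain ⟨i, hi⟩ := hz
    rw [h i] at hi
    exact isUnit_of_mul_isUnit_left hi

section Core2

variable {p : ℕ} [Fact p.Prime] {A : Type u} [CommRing A] (ρ : (Fin 3 → ZMod p) → (Fin 3 → A))

theorem ne1 (a c : ZMod p) : (![a, 1, c] : Fin 3 → ZMod p) ≠ 0 := by
  intro h
  have := congrFun h 1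
  simp at this

theorem ne0 (a c : ZMod p) : (![1, a, c] : Fin 3 → ZMod p) ≠ 0 := by
  intro h
  have := congrFun h 0
  simp at this

theorem ne2 (a c : ZMod p) : (![a, c, 1] : Fin 3 → ZMod p) ≠ 0 := by
  intro h
  have := congrFun h 2
  simp at this

theorem step (hpt : ∀ v : Fin 3 → ZMod p, v ≠ 0 → ∃ i, IsUnit (ρ v i)) (hcol : Col ρ)
    (a0 a1 a2 c b0 : A) (h0 : IsUnit a0) (h1 : IsUnit a1) (h2 : IsUnit a2) (hc : IsUnit c)
    (hb0 : IsUnit b0)
    (he0 : ρ ![1, 0, 0] = a0 • ![1, 0, 0]) (he1 : ρ ![0, 1, 0] = a1 • ![0, 1, 0])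
    (he2 : ρ ![0, 0, 1] = a2 • ![0, 0, 1]) (h101 : ρ ![1, 0, 1] = c • ![1, 0, 1])
    (h011 : ρ ![0, 1, 1] = b0 • ![0, 1, 1])
    (t : ZMod p) (s b : A) (hb : IsUnit b) (hR : ρ ![t, 1, 1] = b • ![s, 1, 1]) :
    ∃ a' b' : A, IsUnit a' ∧ IsUnit b' ∧ ρ ![t - 1, 1, 0] = a' • ![s - 1, 1, 0] ∧
      ρ ![t - 1, 1, 1] = b' • ![s - 1, 1, 1] := by
  -- the point P(t-1)
  have q1 := tool' ρ hcol ![1, 0, 0] ![0, 1, 0] ![t - 1, 1, 0] (ne0 _ _) (ne1 _ _) (ne1 _ _)
    (by simp [Matrix.det_fin_three]) ![1, 0, 0] ![0, 1, 0] a0 a1 h0 h1 he0 he1 2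
    (by simp [cross_apply])
  have q2 := tool' ρ hcol ![t, 1, 1] ![1, 0, 1] ![t - 1, 1, 0] (ne1 _ _) (ne0 _ _) (ne1 _ _)
    (by simp [Matrix.det_fin_three]) ![s, 1, 1] ![1, 0, 1] b c hb hc hR h101 0
    (by simp [cross_apply])
  simp at q1 q2
  obtain ⟨hP, haP⟩ := finish (ρ ![t - 1, 1, 0]) ![s - 1, 1, 0] 1 (by
    intro j
    fin_cases j
    · simp; linear_combination q2 + q1
    · simp
    · simp; exact q1) (hpt _ (ne1 _ _))
  -- the point R(t-1)
  have q3 := tool' ρ hcol ![t - 1, 1, 0] ![0, 0, 1] ![t - 1, 1, 1] (ne1 _ _) (ne2 _ _) (ne1 _ _)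
    (by simp [Matrix.det_fin_three]) ![s - 1, 1, 0] ![0, 0, 1] _ a2 haP h2 hP he2 0
    (by simp [cross_apply])
  have q4 := tool' ρ hcol ![1, 0, 0] ![0, 1, 1] ![t - 1, 1, 1] (ne0 _ _) (ne1 _ _) (ne1 _ _)
    (by simp [Matrix.det_fin_three]) ![1, 0, 0] ![0, 1, 1] a0 b0 h0 hb0 he0 h011 2
    (by simp [cross_apply])
  simp at q3 q4
  obtain ⟨hR', hbR⟩ := finish (ρ ![t - 1, 1, 1]) ![s - 1, 1, 1] 1 (by
    intro j
    fin_cases j
    · simp; linear_combination q3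
    · simp
    · simp; linear_combination q4) (hpt _ (ne1 _ _))
  exact ⟨_, _, haP, hbR, hP, hR'⟩

theorem core [Nontrivial A] (hpt : ∀ v : Fin 3 → ZMod p, v ≠ 0 → ∃ i, IsUnit (ρ v i)) (hcol : Col ρ)
    (a0 a1 a2 a3 : A) (h0 : IsUnit a0) (h1 : IsUnit a1) (h2 : IsUnit a2) (h3 : IsUnit a3)
    (he0 : ρ ![1, 0, 0] = a0 • ![1, 0, 0]) (he1 : ρ ![0, 1, 0] = a1 • ![0, 1, 0])
    (he2 : ρ ![0, 0, 1] = a2 • ![0, 0, 1]) (hu : ρ ![1, 1, 1] = a3 • ![1, 1, 1]) :
    (p : A) = 0 := by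
  -- the point (0:1:1)
  have q1 := tool' ρ hcol ![0, 1, 0] ![0, 0, 1] ![0, 1, 1] (ne1 _ _) (ne2 _ _) (ne1 _ _)
    (by simp [Matrix.det_fin_three]) ![0, 1, 0] ![0, 0, 1] a1 a2 h1 h2 he1 he2 0
    (by simp [cross_apply])
  have q2 := tool' ρ hcol ![1, 0, 0] ![1, 1, 1] ![0, 1, 1] (ne0 _ _) (ne0 _ _) (ne1 _ _)
    (by simp [Matrix.det_fin_three]) ![1, 0, 0] ![1, 1, 1] a0 a3 h0 h3 he0 hu 2
    (by simp [cross_apply])
  simp at q1 q2
  obtain ⟨h011, hb0⟩ := finish (ρ ![0, 1, 1]) ![0, 1, 1] 1 (by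
    intro j
    fin_cases j
    · simp; exact q1
    · simp
    · simp; linear_combination q2) (hpt _ (ne1 _ _))
  -- the point (1:0:1)
  have q3 := tool' ρ hcol ![1, 0, 0] ![0, 0, 1] ![1, 0, 1] (ne0 _ _) (ne2 _ _) (ne0 _ _)
    (by simp [Matrix.det_fin_three]) ![1, 0, 0] ![0, 0, 1] a0 a2 h0 h2 he0 he2 1
    (by simp [cross_apply])
  have q4 := tool' ρ hcol ![0, 1, 0] ![1, 1, 1] ![1, 0, 1] (ne1 _ _) (ne0 _ _) (ne0 _ _)
    (by simp [Matrix.det_fin_three]) ![0, 1, 0] ![1, 1, 1] a1 a3 h1 h3 he1 hu 0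
    (by simp [cross_apply])
  simp at q3 q4
  obtain ⟨h101, hc⟩ := finish (ρ ![1, 0, 1]) ![1, 0, 1] 0 (by
    intro j
    fin_cases j
    · simp
    · simp; exact q3
    · simp; linear_combination (-1 : A) * q4) (hpt _ (ne0 _ _))
  -- descending induction
  have key : ∀ k : ℕ, ∃ a b : A, IsUnit a ∧ IsUnit b ∧
      ρ ![-(k : ZMod p), 1, 0] = a • ![-(k : A), 1, 0] ∧
      ρ ![-(k : ZMod p), 1, 1] = b • ![-(k : A), 1, 1] := by
    intro k
    induction k with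
    | zero =>
      refine ⟨a1, _, h1, hb0, ?_, ?_⟩
      · simpa using he1
      · simpa using h011
    | succ k ih =>
      obtain ⟨a, b, ha, hb, hP, hR⟩ := ih
      obtain ⟨a', b', ha', hb', hP', hR'⟩ := step ρ hpt hcol a0 a1 a2 _ _ h0 h1 h2 hc hb0 he0 he1 he2
        h101 h011 (-(k : ZMod p)) (-(k : A)) b hb hR
      refine ⟨a', b', ha', hb', ?_, ?_⟩
      · have e1 : (-((k + 1 : ℕ) : ZMod p)) = -(k : ZMod p) - 1 := by push_cast; ring
        have e2 : (-((k + 1 : ℕ) : A)) = -(k : A) - 1 := by push_cast; ring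
        rw [e1, e2]; exact hP'
      · have e1 : (-((k + 1 : ℕ) : ZMod p)) = -(k : ZMod p) - 1 := by push_cast; ring
        have e2 : (-((k + 1 : ℕ) : A)) = -(k : A) - 1 := by push_cast; ring
        rw [e1, e2]; exact hR'
  obtain ⟨a, b, ha, hb, hP, hR⟩ := key p
  rw [ZMod.natCast_self, neg_zero, he1] at hP
  have := congrFun hP 0
  simp at this
  have h4 : a * (p : A) = 0 := this
  exact (ha.mul_right_eq_zero).mp h4

end Core2

section Normalize

variable {A : Type u} [CommRing A] [IsLocalRing A]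

theorem prim_vecMul (x : Fin 3 → A) (M N : Matrix (Fin 3) (Fin 3) A) (hMN : M * N = 1)
    (hx : ∃ i, IsUnit (x i)) : ∃ i, IsUnit ((Matrix.vecMul x M) i) := by
  by_contra hcon
  push Not at hcon
  obtain ⟨i, hi⟩ := hx
  have hxe : x = Matrix.vecMul (Matrix.vecMul x M) N := by
    rw [Matrix.vecMul_vecMul, hMN, Matrix.vecMul_one]
  have hmem : x i ∈ IsLocalRing.maximalIdeal A := by
    rw [hxe]
    show (∑ j, Matrix.vecMul x M j * N j i) ∈ _
    refine Ideal.sum_mem _ fun j _ => Ideal.mul_mem_right _ _ ?_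
    exact (IsLocalRing.mem_maximalIdeal _).mpr (hcon j)
  exact (IsLocalRing.mem_maximalIdeal _).mp hmem hi

theorem prim_mulVec (x : Fin 3 → A) (M N : Matrix (Fin 3) (Fin 3) A) (hNM : N * M = 1)
    (hx : ∃ i, IsUnit (x i)) : ∃ i, IsUnit ((Matrix.mulVec M x) i) := by
  have := prim_vecMul x Mᵀ Nᵀ (by rw [← Matrix.transpose_mul, hNM, Matrix.transpose_one]) hx
  rwa [Matrix.vecMul_transpose] at this

end Normalize

/-- Let A be a local ring and ρ a map from the points of the projective plane over F_p to the points of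
the projective plane over A (vectors with a unit coordinate, up to units) taking collinear triples
to collinear triples (three points are collinear when a vector with a unit coordinate is orthogonal
to all three). If ρ sends the standard frame (1:0:0), (0:1:0), (0:0:1), (1:1:1) to four points in
general position, then p = 0 in A. (The published statement asks only that ρ preserve collinearity;
a constant map does so over any ring, and the published argument begins by moving the images of the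
standard frame to the standard frame, which needs them in general position — that condition is made
a hypothesis here.) -/
theorem result
    (p : ℕ) [Fact p.Prime] (A : Type u) [CommRing A] [IsLocalRing A]
    (ρ : (Fin 3 → ZMod p) → (Fin 3 → A))
    (hpt : ∀ v : Fin 3 → ZMod p, v ≠ 0 → ∃ i, IsUnit (ρ v i))
    (hcol : ∀ u v w : Fin 3 → ZMod p, u ≠ 0 → v ≠ 0 → w ≠ 0 →
      Matrix.det (Matrix.of ![u, v, w]) = 0 →
      ∃ n : Fin 3 → A, (∃ i, IsUnit (n i)) ∧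
        dotProduct (ρ u) n = 0 ∧ dotProduct (ρ v) n = 0 ∧ dotProduct (ρ w) n = 0)
    (hgen : IsUnit (Matrix.det (Matrix.of ![ρ (Pi.single 0 1), ρ (Pi.single 1 1), ρ (Pi.single 2 1)])) ∧
      IsUnit (Matrix.det (Matrix.of ![ρ (Pi.single 0 1), ρ (Pi.single 1 1), ρ (fun _ => 1)])) ∧
      IsUnit (Matrix.det (Matrix.of ![ρ (Pi.single 0 1), ρ (Pi.single 2 1), ρ (fun _ => 1)])) ∧
      IsUnit (Matrix.det (Matrix.of ![ρ (Pi.single 1 1), ρ (Pi.single 2 1), ρ (fun _ => 1)]))) :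
    (p : A) = 0 := by
  have e0 : (Pi.single 0 1 : Fin 3 → ZMod p) = ![1, 0, 0] := by
    ext i; fin_cases i <;> simp
  have e1 : (Pi.single 1 1 : Fin 3 → ZMod p) = ![0, 1, 0] := by
    ext i; fin_cases i <;> simp
  have e2 : (Pi.single 2 1 : Fin 3 → ZMod p) = ![0, 0, 1] := by
    ext i; fin_cases i <;> simp
  have e3 : ((fun _ => 1) : Fin 3 → ZMod p) = ![1, 1, 1] := by
    ext i; fin_cases i <;> simp
  rw [e0, e1, e2, e3] at hgen
  obtain ⟨hd, hD2, hD1, hD0⟩ := hgen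
  set r0 := ρ ![1, 0, 0] with hr0
  set r1 := ρ ![0, 1, 0] with hr1
  set r2 := ρ ![0, 0, 1] with hr2
  set ru := ρ ![1, 1, 1] with hru
  set d := Matrix.det (Matrix.of ![r0, r1, r2]) with hdd
  set D2 := Matrix.det (Matrix.of ![r0, r1, ru]) with hDD2
  set D1' := Matrix.det (Matrix.of ![r0, r2, ru]) with hDD1
  set D0 := Matrix.det (Matrix.of ![r1, r2, ru]) with hDD0
  have hD1' : IsUnit (-D1') := hD1.neg
  -- the normalizing matrix
  set P : Matrix (Fin 3) (Fin 3) A := Matrix.of ![D0 • r0, (-D1') • r1, D2 • r2] with hP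
  have hPdet : P.det = D0 * (-D1') * D2 * d := by
    rw [hP, hdd, Matrix.det_fin_three, Matrix.det_fin_three]
    simp
    ring
  have hPu : IsUnit P.det := by
    rw [hPdet]; exact ((hD0.mul hD1').mul hD2).mul hd
  have hPG : P * P⁻¹ = 1 := Matrix.mul_nonsing_inv P hPu
  have hGP : P⁻¹ * P = 1 := Matrix.nonsing_inv_mul P hPu
  -- Cramer
  have hcramer : d • ru = Matrix.vecMul ![1, 1, 1] P := by
    funext j
    rw [hP, hdd, hDD0, hDD1, hDD2, Matrix.det_fin_three, Matrix.det_fin_three,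
      Matrix.det_fin_three, Matrix.det_fin_three]
    simp [Matrix.vecMul, dotProduct, Fin.sum_univ_three]
    fin_cases j <;> simp <;> ring
  set ρ' : (Fin 3 → ZMod p) → (Fin 3 → A) := fun v => Matrix.vecMul (ρ v) P⁻¹ with hρ'
  have hrow : ∀ (i : Fin 3), Matrix.vecMul (P i) P⁻¹ = Pi.single i 1 := by
    intro i
    have : Matrix.vecMul (Pi.single i 1) P = P i := by
      funext j; simp
    rw [← this, Matrix.vecMul_vecMul, hPG, Matrix.vecMul_one]
  have hpt' : ∀ v : Fin 3 → ZMod p, v ≠ 0 → ∃ i, IsUnit (ρ' v i) := by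
    intro v hv
    exact prim_vecMul (ρ v) P⁻¹ P hGP (hpt v hv)
  have hcol' : Col ρ' := by
    intro u v w hu hv hw hdet
    obtain ⟨n, hn, h1, h2, h3⟩ := hcol u v w hu hv hw hdet
    refine ⟨Matrix.mulVec P n, prim_mulVec n P P⁻¹ hGP hn, ?_, ?_, ?_⟩
    all_goals
      simp only [hρ']
      rw [Matrix.dotProduct_mulVec, Matrix.vecMul_vecMul, hGP, Matrix.vecMul_one]
      assumption
  have hq0 : ρ' ![1, 0, 0] = (↑hD0.unit⁻¹ : A) • ![1, 0, 0] := by
    have h : Matrix.vecMul (D0 • r0) P⁻¹ = Pi.single 0 1 := hrow 0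
    rw [Matrix.smul_vecMul] at h
    show Matrix.vecMul r0 P⁻¹ = _
    have e : (Pi.single 0 1 : Fin 3 → A) = ![1, 0, 0] := by
      ext i; fin_cases i <;> simp
    rw [← e, ← h, smul_smul, IsUnit.val_inv_mul hD0, one_smul]
  have hq1 : ρ' ![0, 1, 0] = (↑hD1'.unit⁻¹ : A) • ![0, 1, 0] := by
    have h : Matrix.vecMul ((-D1') • r1) P⁻¹ = Pi.single 1 1 := hrow 1
    rw [Matrix.smul_vecMul] at h
    show Matrix.vecMul r1 P⁻¹ = _
    have e : (Pi.single 1 1 : Fin 3 → A) = ![0, 1, 0] := by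
      ext i; fin_cases i <;> simp
    rw [← e, ← h, smul_smul, IsUnit.val_inv_mul hD1', one_smul]
  have hq2 : ρ' ![0, 0, 1] = (↑hD2.unit⁻¹ : A) • ![0, 0, 1] := by
    have h : Matrix.vecMul (D2 • r2) P⁻¹ = Pi.single 2 1 := hrow 2
    rw [Matrix.smul_vecMul] at h
    show Matrix.vecMul r2 P⁻¹ = _
    have e : (Pi.single 2 1 : Fin 3 → A) = ![0, 0, 1] := by
      ext i; fin_cases i <;> simp
    rw [← e, ← h, smul_smul, IsUnit.val_inv_mul hD2, one_smul]
  have hq3 : ρ' ![1, 1, 1] = (↑hd.unit⁻¹ : A) • ![1, 1, 1] := by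
    show Matrix.vecMul ru P⁻¹ = _
    have h : Matrix.vecMul (d • ru) P⁻¹ = ![1, 1, 1] := by
      rw [hcramer, Matrix.vecMul_vecMul, hPG, Matrix.vecMul_one]
    rw [Matrix.smul_vecMul] at h
    rw [← h, smul_smul, IsUnit.val_inv_mul hd, one_smul]
  exact core ρ' hpt' hcol' _ _ _ _ (Units.isUnit _) (Units.isUnit _) (Units.isUnit _)
    (Units.isUnit _) hq0 hq1 hq2 hq3

end Groth.Agent.S13149
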