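import Groth.Statements.S13150
import Mathlib
import Groth.Agent.Lib.Helper25.W2Lift
import Groth.Agent.Lib.Helper25.W2Coeff
-- import your own Groth.Agent.* helpers here

set_option autoImplicit false
set_option linter.unusedSectionVars false
set_option linter.style.haveILetI false
universe u
open FrobAlg

namespace Groth.Agent.S13150

open Groth.Agent.Lib.Helper26.W2Flat Groth.Agent.Lib.Helper25.W2Lift
  Groth.Agent.Lib.Helper25.W2Coeff

/-- Let k be a perfect field of characteristic p and (B, ι, π) a flat lifting over W₂(k) of a Noetherian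
k-algebra A. The Frobenius of A lifts to B (a σ₂-semilinear ring endomorphism of B reducing to the
p-th power map) if and only if there is a ring homomorphism θ : B → W₂(A) over A (the zeroth Witt
component of θ(b) is π(b)) with θ ∘ ι equal to the map W₂(k) → W₂(A) induced by k → A. (The
published statement is for a flat W₂(k)-extension of the structure sheaf of a scheme and says: the
push-out of that extension along the Frobenius O_X → F_*O_X is isomorphic, as an extension by F_*O_X
over W₂(k), to W₂(O_X); by the universal property of the push-out this is the existence of a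
morphism of extensions to W₂(O_X), which in the affine case taken here is the map θ.) -/
theorem result
    (p : ℕ) [Fact p.Prime] (k : Type u) [Field k] [CharP k p] [PerfectRing k p]
    (A B : Type u) [CommRing A] [Algebra k A] [IsNoetherianRing A] [CommRing B]
    (ι : FrobAlg.W2 p k →+* B) (π : B →+* A) (hB : FrobAlg.IsLift p k A B ι π) :
    (∃ Φ : B →+* B, FrobAlg.IsFrobLift p k A B ι π Φ) ↔
      ∃ θ : B →+* FrobAlg.W2 p A,
        (FrobAlg.res p A).comp θ = π ∧ θ.comp ι = WittGrp.truncMap p 2 (algebraMap k A) := by
  have hpA : (p : A) = 0 := by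
    rw [← map_natCast (algebraMap k A), CharP.cast_eq_zero, map_zero]
  have htQ : ∀ b c : B, tau hB (QQ p (π b) (π c)) = (p : B) * QQ p b c := by
    intro b c
    rw [← map_QQ p π, tau_pi]
  -- the key identity in `W₂(k)`
  have hfrob : ∀ w : FrobAlg.W2 p k, ι (FrobAlg.sigma p k w) =
      ι w ^ p + tau hB (algebraMap k A (w.coeff 1)) := by
    intro w
    obtain ⟨w', hw'⟩ : ∃ w' : FrobAlg.W2 p k, w'.coeff 0 = w.coeff 1 :=
      ⟨WittVector.truncate 2 (WittVector.teichmuller p (w.coeff 1)), by
        rw [WittVector.coeff_truncate]; exact WittVector.teichmuller_coeff_zero p _⟩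
    have h1 : FrobAlg.sigma p k w = w ^ p + (p : FrobAlg.W2 p k) * w' := w2_frob_eq w w' hw'
    rw [h1, map_add, map_pow, map_mul, map_natCast, ← tau_pi hB, pi_iota hB, FrobAlg.res_apply,
      hw']
  constructor
  · rintro ⟨Φ, hΦ⟩
    have hex : ∀ b : B, ∃ c : A, tau hB c = Φ b - b ^ p := by
      intro b
      apply exists_tau_eq hB
      rw [map_sub, hΦ.red, map_pow, sub_self]
    choose δ hδ using hex
    have hΦeq : ∀ b : B, Φ b = b ^ p + tau hB (δ b) := fun b => by rw [hδ]; ring
    have hθ0 : ∀ b : B, (TruncatedWittVector.mk p ![π b, δ b] : FrobAlg.W2 p A).coeff 0 = π b := by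
      intro b
      rw [TruncatedWittVector.coeff_mk]
      rfl
    have hθ1 : ∀ b : B, (TruncatedWittVector.mk p ![π b, δ b] : FrobAlg.W2 p A).coeff 1 = δ b := by
      intro b
      rw [TruncatedWittVector.coeff_mk]
      rfl
    have hδ0 : δ 0 = 0 := by
      apply tau_injective hB
      rw [hδ, map_zero, map_zero, zero_pow (Fact.out : p.Prime).ne_zero, sub_zero]
    have hδ1 : δ 1 = 0 := by
      apply tau_injective hB
      rw [hδ, map_one, map_zero, one_pow, sub_self]
    have hδadd : ∀ b c : B, δ (b + c) = δ b + δ c - QQ p (π b) (π c) := by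
      intro b c
      apply tau_injective hB
      rw [map_sub, map_add, hδ, hδ, hδ, htQ, map_add, add_pow_eq p b c]
      ring
    have hδmul : ∀ b c : B, δ (b * c) = π b ^ p * δ c + π c ^ p * δ b := by
      intro b c
      apply tau_injective hB
      rw [map_add, ← map_pow, ← map_pow, ← mul_tau, ← mul_tau, hδ, map_mul, hΦeq b, hΦeq c]
      have := tau_mul_tau hB (δ b) (δ c)
      linear_combination this
    refine ⟨{ toFun := fun b => TruncatedWittVector.mk p ![π b, δ b]
              map_one' := ?_
              map_mul' := ?_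
              map_zero' := ?_
              map_add' := ?_ }, ?_, ?_⟩
    · apply w2_ext
      · rw [hθ0, map_one, w2_one_coeff_zero]
      · rw [hθ1, hδ1, w2_one_coeff_one]
    · intro b c
      apply w2_ext
      · rw [hθ0, w2_mul_coeff_zero, hθ0, hθ0, map_mul]
      · rw [hθ1, w2_mul_coeff_one, hθ0, hθ0, hθ1, hθ1, hpA, hδmul]
        ring
    · apply w2_ext
      · rw [hθ0, map_zero, w2_zero_coeff]
      · rw [hθ1, hδ0, w2_zero_coeff]
    · intro b c
      apply w2_ext
      · rw [hθ0, w2_add_coeff_zero, hθ0, hθ0, map_add]
      · rw [hθ1, w2_add_coeff_one, hθ0, hθ0, hθ1, hθ1, hδadd]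
    · ext b
      rw [RingHom.comp_apply, FrobAlg.res_apply]
      exact hθ0 b
    · ext w : 1
      rw [RingHom.comp_apply]
      apply w2_ext
      · rw [WittGrp.coeff_truncMap]
        exact (hθ0 (ι w)).trans (by rw [pi_iota hB, FrobAlg.res_apply])
      · rw [WittGrp.coeff_truncMap]
        refine (hθ1 (ι w)).trans ?_
        apply tau_injective hB
        rw [hδ]
        have h1 := congrArg (fun f => f w) hΦ.semi
        simp only [RingHom.comp_apply] at h1
        rw [h1, hfrob]
        ring
  · rintro ⟨θ, hθ1, hθ2⟩
    have h0 : ∀ b : B, (θ b).coeff 0 = π b := by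
      intro b
      rw [← hθ1, RingHom.comp_apply, FrobAlg.res_apply]
    have hι : ∀ w : FrobAlg.W2 p k, (θ (ι w)).coeff 1 = algebraMap k A (w.coeff 1) := by
      intro w
      have := congrArg (fun f => f w) hθ2
      simp only [RingHom.comp_apply] at this
      rw [this, WittGrp.coeff_truncMap]
    refine ⟨{ toFun := fun b => b ^ p + tau hB ((θ b).coeff 1)
              map_one' := ?_
              map_mul' := ?_
              map_zero' := ?_
              map_add' := ?_ }, ⟨hB, ?_, ?_⟩⟩
    · rw [map_one, w2_one_coeff_one, map_zero, one_pow, add_zero]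
    · intro b c
      rw [map_mul, w2_mul_coeff_one, h0, h0, hpA, zero_mul, zero_mul, add_zero, map_add,
        ← map_pow, ← map_pow, ← mul_tau, ← mul_tau]
      have := tau_mul_tau hB ((θ b).coeff 1) ((θ c).coeff 1)
      linear_combination -this
    · rw [map_zero, w2_zero_coeff, map_zero, zero_pow (Fact.out : p.Prime).ne_zero, add_zero]
    · intro b c
      rw [map_add, w2_add_coeff_one, h0, h0, map_sub, map_add, htQ, add_pow_eq p b c]
      ring
    · ext w
      simp only [RingHom.comp_apply, RingHom.coe_mk, MonoidHom.coe_mk, OneHom.coe_mk]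
      rw [hι, hfrob]
    · intro b
      simp only [RingHom.coe_mk, MonoidHom.coe_mk, OneHom.coe_mk]
      rw [map_add, pi_tau, add_zero, map_pow]

end Groth.Agent.S13150
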