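import Groth.Statements.S13151
import Mathlib.RingTheory.Localization.FractionRing
-- import your own Groth.Agent.* helpers here

set_option autoImplicit false
universe u
open CAlg

namespace Groth.Agent.S13151

/-- Let A → B be an injective ring homomorphism of integral domains which is integral, with A integrally
closed, and let π be an element of A. Then the contraction to A of the ideal πB is πA, i.e. an
element of A which is a multiple of π in B is already a multiple of π in A; in particular if B/πB is
an integral domain then A/πA is an integral domain. (The published statement is for an integral
dominant morphism of integral schemes flat over a discrete valuation ring, with normal target and π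
a uniformizer; flatness and the valuation ring play no role, so π is an arbitrary element here.) -/
theorem result {A B : Type u} [CommRing A] [CommRing B]
    [IsDomain A] [IsDomain B] [IsIntegrallyClosed A] [Algebra A B] [Algebra.IsIntegral A B]
    (hinj : Function.Injective (algebraMap A B)) (π : A) :
    (Ideal.span {algebraMap A B π}).comap (algebraMap A B) = Ideal.span {π} ∧
      (IsDomain (B ⧸ Ideal.span {algebraMap A B π}) → IsDomain (A ⧸ Ideal.span {π})) := by
  have key : (Ideal.span {algebraMap A B π}).comap (algebraMap A B) = Ideal.span {π} := by
    apply le_antisymm
    · intro a ha
      rw [Ideal.mem_comap, Ideal.mem_span_singleton'] at ha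
      obtain ⟨b, hb⟩ := ha
      by_cases hπ : π = 0
      · subst hπ
        rw [map_zero, mul_zero] at hb
        have : a = 0 := hinj (by rw [← hb, map_zero])
        rw [this]; exact Ideal.zero_mem _
      set K := FractionRing A
      set L := FractionRing B
      let g : A →+* L := (algebraMap B L).comp (algebraMap A B)
      have hg : Function.Injective g := (IsFractionRing.injective B L).comp hinj
      let j : K →+* L := IsFractionRing.lift hg
      have hj : ∀ x, j (algebraMap A K x) = g x := fun x => IsFractionRing.lift_algebraMap hg x
      have hπK : algebraMap A K π ≠ 0 := by
        rw [ne_eq, map_eq_zero_iff _ (IsFractionRing.injective A K)]; exact hπ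
      set x : K := algebraMap A K a / algebraMap A K π with hx
      have hjx : j x = algebraMap B L b := by
        have hgπ : g π ≠ 0 := by
          rw [ne_eq, map_eq_zero_iff _ hg]; exact hπ
        rw [hx, map_div₀, hj, hj, div_eq_iff hgπ]
        simp only [g, RingHom.comp_apply]
        rw [← hb, map_mul]
      obtain ⟨p, hp, hpb⟩ := Algebra.IsIntegral.isIntegral (R := A) b
      have hint : IsIntegral A x := by
        refine ⟨p, hp, ?_⟩
        apply j.injective
        rw [Polynomial.hom_eval₂, map_zero, hjx]
        have : j.comp (algebraMap A K) = (algebraMap B L).comp (algebraMap A B) :=
          RingHom.ext hj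
        rw [this, ← Polynomial.hom_eval₂, hpb, map_zero]
      obtain ⟨y, hy⟩ := IsIntegrallyClosed.isIntegral_iff.mp hint
      rw [Ideal.mem_span_singleton']
      refine ⟨y, ?_⟩
      apply IsFractionRing.injective A K
      rw [map_mul, hy, hx, div_mul_cancel₀ _ hπK]
    · rw [Ideal.span_singleton_le_iff_mem, Ideal.mem_comap]
      exact Ideal.mem_span_singleton_self _
  refine ⟨key, fun hdom => ?_⟩
  rw [Ideal.Quotient.isDomain_iff_prime] at hdom ⊢
  rw [← key]
  exact Ideal.comap_isPrime _ _

end Groth.Agent.S13151
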