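import Groth.Statements.S13154
-- import your own Groth.Agent.* helpers here
import Mathlib

set_option autoImplicit false
universe u
open scoped TensorProduct
open CAlg

namespace Groth.Agent.S13154

section helpers

variable (R : Type u) [CommRing R] [IsDomain R] (K : Type u) [Field K] [Algebra R K]
  [IsFractionRing R K] (A : Type u) [CommRing A] [Algebra R A] [Module.FaithfullyFlat R A]

lemma exactKA (k : K) (a : A) (h : (k ⊗ₜ[R] (1 : A)) = (1 : K) ⊗ₜ[R] a) :
    ∃ r : R, algebraMap R K r = k ∧ algebraMap R A r = a := by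
  obtain ⟨r, s, hs, rfl⟩ := IsFractionRing.div_surjective (A := R) k
  have hs0 : s ≠ 0 := nonZeroDivisors.ne_zero hs
  have hsK : algebraMap R K s ≠ 0 := by
    intro h0
    exact hs0 ((IsFractionRing.injective R K) (h0.trans (map_zero _).symm))
  have h1 : (1 : K) ⊗ₜ[R] (algebraMap R A r) = (1 : K) ⊗ₜ[R] (s • a) := by
    have h2 := congrArg (fun z => s • z) h
    simp only [TensorProduct.smul_tmul'] at h2
    have : s • (algebraMap R K r / algebraMap R K s) = r • (1 : K) := by
      rw [Algebra.smul_def, Algebra.smul_def, mul_one, mul_div_cancel₀ _ hsK]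
    rw [this, TensorProduct.smul_tmul, TensorProduct.smul_tmul] at h2
    rw [Algebra.algebraMap_eq_smul_one]
    exact h2
  have hinj : Function.Injective
      (Algebra.TensorProduct.includeRight : A →ₐ[R] K ⊗[R] A) :=
    Algebra.TensorProduct.includeRight_injective (IsFractionRing.injective R K)
  have h3 : algebraMap R A r = s • a := hinj h1
  have h4 : r ∈ Ideal.span {s} := by
    rw [← Ideal.comap_map_eq_self_of_faithfullyFlat (B := A) (Ideal.span {s})]
    rw [Ideal.mem_comap, h3, Algebra.smul_def]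
    exact Ideal.mul_mem_right _ _ (Ideal.mem_map_of_mem _ (Ideal.mem_span_singleton_self s))
  obtain ⟨r', rfl⟩ := Ideal.mem_span_singleton'.mp h4
  refine ⟨r', ?_, ?_⟩
  · rw [map_mul, mul_div_cancel_right₀ _ hsK]
  · have hreg : IsSMulRegular A s := Module.Flat.isSMulRegular_of_nonZeroDivisors hs
    apply hreg
    simp only
    rw [← h3, map_mul, Algebra.smul_def, mul_comm]

/-- the map `R → K × A` -/
noncomputable def ιKA : R →ₗ[R] K × A := (Algebra.linearMap R K).prod (Algebra.linearMap R A)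

/-- the difference map `K × A → K ⊗ A` -/
noncomputable def dKA : K × A →ₗ[R] K ⊗[R] A :=
  ((TensorProduct.mk R K A).flip 1) ∘ₗ LinearMap.fst R K A -
    (TensorProduct.mk R K A 1) ∘ₗ LinearMap.snd R K A

lemma exact_ιKA_dKA : Function.Exact (ιKA R K A) (dKA R K A) := by
  intro y
  obtain ⟨k, a⟩ := y
  constructor
  · intro h
    have h' : k ⊗ₜ[R] (1 : A) = (1 : K) ⊗ₜ[R] a := by
      simpa [dKA, sub_eq_zero] using h
    obtain ⟨r, hr1, hr2⟩ := exactKA R K A k a h'
    exact ⟨r, by simp [ιKA, hr1, hr2]⟩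
  · rintro ⟨r, hr⟩
    have h1 : algebraMap R K r = k := by simpa [ιKA] using congrArg Prod.fst hr
    have h2 : algebraMap R A r = a := by simpa [ιKA] using congrArg Prod.snd hr
    simp only [dKA, LinearMap.sub_apply, LinearMap.comp_apply, LinearMap.fst_apply,
      LinearMap.snd_apply, LinearMap.flip_apply, TensorProduct.mk_apply, sub_eq_zero]
    rw [← h1, ← h2, Algebra.algebraMap_eq_smul_one, Algebra.algebraMap_eq_smul_one,
      TensorProduct.smul_tmul]

end helpers

section helpers2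

variable (R : Type u) [CommRing R] [IsDomain R] (K : Type u) [Field K] [Algebra R K]
  [IsFractionRing R K] (A : Type u) [CommRing A] [Algebra R A] [Module.FaithfullyFlat R A]
  (B₁ : Type u) [CommRing B₁] [Algebra R B₁] [Module.Flat R B₁]

omit [IsDomain R] in
lemma map_eq_rTensor {X Y : Type u} [CommRing X] [CommRing Y] [Algebra R X] [Algebra R Y]
    (f : X →ₐ[R] Y) (x : X ⊗[R] B₁) :
    Algebra.TensorProduct.map f (AlgHom.id R B₁) x = f.toLinearMap.rTensor B₁ x := by
  induction x using TensorProduct.induction_on with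
  | zero => simp
  | tmul a b => simp
  | add x y hx hy => simp [hx, hy]

lemma glue (x : K ⊗[R] B₁) (y : A ⊗[R] B₁)
    (h : Algebra.TensorProduct.map (Algebra.TensorProduct.includeLeft : K →ₐ[R] K ⊗[R] A)
        (AlgHom.id R B₁) x =
      Algebra.TensorProduct.map (Algebra.TensorProduct.includeRight : A →ₐ[R] K ⊗[R] A)
        (AlgHom.id R B₁) y) :
    ∃ c : B₁, x = 1 ⊗ₜ c ∧ y = 1 ⊗ₜ c := by
  rw [map_eq_rTensor, map_eq_rTensor] at h
  have hex := Module.Flat.rTensor_exact B₁ (exact_ιKA_dKA R K A)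
  set z := (LinearMap.inl R K A).rTensor B₁ x + (LinearMap.inr R K A).rTensor B₁ y with hz
  have h1 : (dKA R K A) ∘ₗ (LinearMap.inl R K A) =
      (Algebra.TensorProduct.includeLeft : K →ₐ[R] K ⊗[R] A).toLinearMap := by
    ext k; simp [dKA]
  have h2 : (dKA R K A) ∘ₗ (LinearMap.inr R K A) =
      - (Algebra.TensorProduct.includeRight : A →ₐ[R] K ⊗[R] A).toLinearMap := by
    ext a; simp [dKA]
  have hdz : (dKA R K A).rTensor B₁ z = 0 := by
    rw [hz, map_add, ← LinearMap.comp_apply, ← LinearMap.rTensor_comp, h1, ← LinearMap.comp_apply,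
      ← LinearMap.rTensor_comp, h2, LinearMap.rTensor_neg, LinearMap.neg_apply, h, add_neg_cancel]
  obtain ⟨w, hw⟩ := (hex z).mp hdz
  obtain ⟨c, rfl⟩ : ∃ c : B₁, w = (1 : R) ⊗ₜ[R] c :=
    ⟨TensorProduct.lid R B₁ w, by rw [← TensorProduct.lid_symm_apply, LinearEquiv.symm_apply_apply]⟩
  have hx : (LinearMap.fst R K A).rTensor B₁ z = x := by
    rw [hz, map_add]
    simp only [← LinearMap.comp_apply, ← LinearMap.rTensor_comp, LinearMap.fst_comp_inl,
      LinearMap.fst_comp_inr]
    simp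
  have hy : (LinearMap.snd R K A).rTensor B₁ z = y := by
    rw [hz, map_add]
    simp only [← LinearMap.comp_apply, ← LinearMap.rTensor_comp, LinearMap.snd_comp_inl,
      LinearMap.snd_comp_inr]
    simp
  refine ⟨c, ?_, ?_⟩
  · rw [← hx, ← hw]
    simp [ιKA]
  · rw [← hy, ← hw]
    simp [ιKA]

end helpers2

/-- Let R be a discrete valuation ring with fraction field K, A a faithfully flat R-algebra (an affine
faithfully flat base change S' → S = Spec R) and B₁, B₂ flat R-algebras (two affine S-schemes X₁ =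
Spec B₁, X₂ = Spec B₂, flat over S). Suppose given a K-algebra homomorphism φ_K : K ⊗ B₂ → K ⊗ B₁ (a
morphism of the generic fibres X₁,K → X₂,K) and an A-algebra homomorphism φ_A : A ⊗ B₂ → A ⊗ B₁ (a
morphism X₁ ×_S S' → X₂ ×_S S' over S') which coincide after base change to K ⊗ A, in the sense that
for every b ∈ B₂ the images of φ_K(1 ⊗ b) and φ_A(1 ⊗ b) in (K ⊗ A) ⊗ B₁ agree. Then there is
exactly one R-algebra homomorphism φ : B₂ → B₁ (a morphism X₁ → X₂) whose base changes to K and to A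
are φ_K and φ_A. (The published statement assumes only X₂ flat over S; flatness of X₁ is also
needed: with B₂ = R[t], B₁ = R[e]/(e², πe) for a uniformizer π and A = R[x], the maps t ↦ 0 over K
and t ↦ e x over A agree over K ⊗ A = K[x] but come from no map over R.) -/
theorem result (R : Type u) [CommRing R] [IsDomain R]
    [IsDiscreteValuationRing R] (K : Type u) [Field K] [Algebra R K] [IsFractionRing R K]
    (A : Type u) [CommRing A] [Algebra R A] [Module.FaithfullyFlat R A]
    (B₁ B₂ : Type u) [CommRing B₁] [CommRing B₂] [Algebra R B₁] [Algebra R B₂]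
    [Module.Flat R B₁] [Module.Flat R B₂]
    (φK : K ⊗[R] B₂ →ₐ[K] K ⊗[R] B₁) (φA : A ⊗[R] B₂ →ₐ[A] A ⊗[R] B₁)
    (hcomp : ∀ b : B₂,
      Algebra.TensorProduct.map (Algebra.TensorProduct.includeLeft : K →ₐ[R] K ⊗[R] A) (AlgHom.id R B₁)
          (φK (1 ⊗ₜ b)) =
        Algebra.TensorProduct.map (Algebra.TensorProduct.includeRight : A →ₐ[R] K ⊗[R] A) (AlgHom.id R B₁)
          (φA (1 ⊗ₜ b))) :
    ∃! φ : B₂ →ₐ[R] B₁, (∀ b : B₂, φK (1 ⊗ₜ b) = 1 ⊗ₜ φ b) ∧ (∀ b : B₂, φA (1 ⊗ₜ b) = 1 ⊗ₜ φ b) := by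
  have hj : Function.Injective
      (Algebra.TensorProduct.includeRight : B₁ →ₐ[R] K ⊗[R] B₁) :=
    Algebra.TensorProduct.includeRight_injective (IsFractionRing.injective R K)
  have hjc : ∀ c c' : B₁, (1 : K) ⊗ₜ[R] c = (1 : K) ⊗ₜ[R] c' → c = c' := fun c c' h => hj h
  have hglue : ∀ b : B₂, ∃ c : B₁, φK (1 ⊗ₜ b) = 1 ⊗ₜ c ∧ φA (1 ⊗ₜ b) = 1 ⊗ₜ c :=
    fun b => glue R K A B₁ _ _ (hcomp b)
  let ψ : B₂ →ₐ[R] K ⊗[R] B₁ :=
    (φK.restrictScalars R).comp (Algebra.TensorProduct.includeRight : B₂ →ₐ[R] K ⊗[R] B₂)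
  have hψ : ∀ b : B₂, ψ b ∈
      (Algebra.TensorProduct.includeRight : B₁ →ₐ[R] K ⊗[R] B₁).range := by
    intro b
    obtain ⟨c, hc, -⟩ := hglue b
    exact ⟨c, hc.symm⟩
  let φ : B₂ →ₐ[R] B₁ :=
    (AlgEquiv.ofInjective _ hj).symm.toAlgHom.comp (ψ.codRestrict _ hψ)
  have hφ : ∀ b : B₂, (1 : K) ⊗ₜ[R] φ b = φK (1 ⊗ₜ b) := by
    intro b
    have h1 : (AlgEquiv.ofInjective _ hj) (φ b) = ψ.codRestrict _ hψ b :=
      (AlgEquiv.ofInjective _ hj).apply_symm_apply _
    have h2 := congrArg Subtype.val h1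
    exact h2
  refine ⟨φ, ⟨fun b => (hφ b).symm, fun b => ?_⟩, ?_⟩
  · obtain ⟨c, hc, hc'⟩ := hglue b
    have : c = φ b := hjc _ _ (hc.symm.trans (hφ b).symm)
    rw [hc', this]
  · rintro φ' ⟨h1, -⟩
    apply AlgHom.ext
    intro b
    exact hjc _ _ ((h1 b).symm.trans (hφ b).symm)

end Groth.Agent.S13154
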