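import Groth.Statements.S13158
import Mathlib

set_option autoImplicit false
universe u
open CAlg

namespace Groth.Agent.S13158

section aux
open Polynomial

theorem pow_ineq (p : ℕ) (hp : 1 ≤ p) (j : ℕ) : ∀ i : ℕ, p ^ (j + i) ≤ p ^ j + i * (p ^ (j + i - 1) * (p - 1)) := by
  intro i
  induction i with
  | zero => simp
  | succ i ih =>
    obtain ⟨q, rfl⟩ : ∃ q, p = q + 1 := ⟨p - 1, by omega⟩
    have e1 : j + (i + 1) - 1 = j + i := by omega
    rw [e1]
    have h1 : (q + 1) ^ (j + (i + 1)) = (q + 1) ^ (j + i) + (q + 1) ^ (j + i) * q := by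
      rw [← add_assoc, pow_succ]; ring
    have h2 : (q + 1) ^ (j + i - 1) ≤ (q + 1) ^ (j + i) := Nat.pow_le_pow_right (by omega) (by omega)
    have h3 : i * ((q + 1) ^ (j + i - 1) * (q + 1 - 1)) ≤ i * ((q + 1) ^ (j + i) * (q + 1 - 1)) :=
      Nat.mul_le_mul_left _ (Nat.mul_le_mul_right _ h2)
    have e2 : q + 1 - 1 = q := by omega
    rw [e2] at ih h3 ⊢
    rw [h1]
    calc (q + 1) ^ (j + i) + (q + 1) ^ (j + i) * q
        ≤ ((q + 1) ^ j + i * ((q + 1) ^ (j + i) * q)) + (q + 1) ^ (j + i) * q :=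
          Nat.add_le_add_right (ih.trans (Nat.add_le_add_left h3 _)) _
      _ = (q + 1) ^ j + (i + 1) * ((q + 1) ^ (j + i) * q) := by ring

theorem choose_dvd (p n k : ℕ) (hp : p.Prime) (hk0 : 0 < k) (hk : k ≤ p ^ n) :
    ∃ j, j ≤ n ∧ p ^ j ≤ k ∧ p ^ (n - j) ∣ (p ^ n).choose k := by
  obtain ⟨j, m, hm, hkm⟩ := Nat.exists_eq_pow_mul_and_not_dvd hk0.ne' p hp.ne_one
  have hmpos : 0 < m := by
    rcases Nat.eq_zero_or_pos m with h | h
    · subst h; simp at hkm; omega
    · exact h
  have hpj : p ^ j ≤ k := by rw [hkm]; exact Nat.le_mul_of_pos_right _ hmpos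
  have hjn : j ≤ n := (Nat.pow_le_pow_iff_right hp.one_lt).mp (hpj.trans hk)
  refine ⟨j, hjn, hpj, ?_⟩
  have hpn : 0 < p ^ n := pos_of_ne_zero (pow_ne_zero _ hp.ne_zero)
  have h1 := Nat.add_one_mul_choose_eq (p ^ n - 1) (k - 1)
  have e1 : (p ^ n - 1) + 1 = p ^ n := by omega
  have e2 : (k - 1) + 1 = k := by omega
  rw [e1, e2] at h1
  -- p^n * C' = C * k
  have h2 : p ^ j * p ^ (n - j) ∣ p ^ j * ((p ^ n).choose k * m) := by
    rw [← pow_add, Nat.add_sub_cancel' hjn]
    have : p ^ j * ((p ^ n).choose k * m) = (p ^ n).choose k * k := by rw [hkm]; ring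
    rw [this, ← h1]
    exact dvd_mul_right _ _
  have h3 : p ^ (n - j) ∣ (p ^ n).choose k * m :=
    Nat.dvd_of_mul_dvd_mul_left (pos_of_ne_zero (pow_ne_zero _ hp.ne_zero)) h2
  exact Nat.Coprime.dvd_of_dvd_mul_right
    (Nat.Coprime.pow_left _ ((Nat.Prime.coprime_iff_not_dvd hp).mpr hm)) h3

theorem lam_dvd {R : Type*} [CommRing R] (p n : ℕ) (hp : p.Prime) (hn : 1 ≤ n) (lam : R)
    (hstar : lam ^ (p ^ (n - 1) * (p - 1)) ∣ (p : R)) (k : ℕ) (hk0 : 0 < k) (hk : k ≤ p ^ n) :
    lam ^ (p ^ n - k) ∣ (((p ^ n).choose k : ℕ) : R) := by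
  obtain ⟨j, hjn, hpj, hdvd⟩ := choose_dvd p n k hp hk0 hk
  have h1 : ((p ^ (n - j) : ℕ) : R) ∣ (((p ^ n).choose k : ℕ) : R) := Nat.cast_dvd_cast hdvd
  have h2 : (lam ^ (p ^ (n - 1) * (p - 1))) ^ (n - j) ∣ ((p ^ (n - j) : ℕ) : R) := by
    rw [Nat.cast_pow]; exact pow_dvd_pow_of_dvd hstar _
  have hineq : p ^ n - k ≤ (p ^ (n - 1) * (p - 1)) * (n - j) := by
    have := pow_ineq p hp.one_lt.le j (n - j)
    rw [Nat.add_sub_cancel' hjn] at this
    have h3 : p ^ n - k ≤ p ^ n - p ^ j := Nat.sub_le_sub_left hpj _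
    have h4 : p ^ n - p ^ j ≤ (n - j) * (p ^ (n - 1) * (p - 1)) := by omega
    rw [mul_comm]; exact h3.trans h4
  refine (pow_dvd_pow lam hineq).trans ?_
  rw [pow_mul]
  exact h2.trans h1

theorem dvd_of_monic_rel {A : Type*} [CommRing A] [IsDomain A] [IsIntegrallyClosed A]
    (K : Type*) [Field K] [Algebra A K] [IsFractionRing A K] (l y : A)
    (hl : l ≠ 0) (N : ℕ) (b : ℕ → A) (hN : b N = 1)
    (h : ∑ k ∈ Finset.range (N + 1), b k * l ^ (N - k) * y ^ k = 0) : l ∣ y := by
  have hinj : Function.Injective (algebraMap A K) := IsFractionRing.injective A K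
  have hl' : algebraMap A K l ≠ 0 := fun h0 => hl (hinj (by rw [h0, map_zero]))
  set t : K := algebraMap A K y / algebraMap A K l with ht
  have hint : IsIntegral A t := by
    refine ⟨X ^ N + ∑ k ∈ Finset.range N, C (b k) * X ^ k, ?_, ?_⟩
    · apply Polynomial.monic_X_pow_add
      rw [← Polynomial.mem_degreeLT]
      refine Submodule.sum_mem _ fun k hk => ?_
      rw [Polynomial.mem_degreeLT]
      exact (Polynomial.degree_C_mul_X_pow_le _ _).trans_lt (by exact_mod_cast Finset.mem_range.mp hk)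
    · have h' := congrArg (algebraMap A K) h
      rw [map_zero, map_sum, Finset.sum_range_succ, hN, Nat.sub_self, pow_zero] at h'
      simp only [map_mul, map_pow, map_one, one_mul] at h'
      rw [Polynomial.eval₂_add, Polynomial.eval₂_X_pow, Polynomial.eval₂_finsetSum]
      simp only [Polynomial.eval₂_mul, Polynomial.eval₂_C, Polynomial.eval₂_X_pow]
      have hlN : (algebraMap A K l) ^ N ≠ 0 := pow_ne_zero _ hl'
      apply mul_left_cancel₀ hlN
      rw [mul_zero, mul_add, Finset.mul_sum]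
      rw [← h', add_comm]
      congr 1
      · refine Finset.sum_congr rfl fun k hk => ?_
        have hkN : k ≤ N := (Finset.mem_range.mp hk).le
        rw [ht, div_pow]
        have : (algebraMap A K l) ^ N = (algebraMap A K l) ^ (N - k) * (algebraMap A K l) ^ k := by
          rw [← pow_add, Nat.sub_add_cancel hkN]
        rw [this]
        field_simp
      · rw [ht, div_pow]
        field_simp
  obtain ⟨a, ha⟩ := (IsIntegrallyClosed.isIntegral_iff (R := A) (K := K)).mp hint
  refine ⟨a, hinj ?_⟩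
  rw [map_mul, ha, ht, mul_div_cancel₀ _ hl']

theorem main (R : Type*) [CommRing R]
    [IsDomain R] (p n : ℕ) [Fact p.Prime] (hn : 1 ≤ n)
    (lam : R) (hlam : lam ≠ 0)
    (hstar : lam ^ (p ^ (n - 1) * (p - 1)) ∣ (p : R))
    (A : Type*) [CommRing A] [IsDomain A] [IsIntegrallyClosed A] [Algebra R A] [Module.FaithfullyFlat R A]
    (x : Aˣ) :
    (algebraMap R A lam ^ p ^ n ∣ (x : A) ^ p ^ n - 1) ↔ (algebraMap R A lam ∣ (x : A) - 1) := by
  have hp : p.Prime := Fact.out
  set N := p ^ n with hNdef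
  have hinjRA : Function.Injective (algebraMap R A) := FaithfulSMul.algebraMap_injective R A
  set l : A := algebraMap R A lam with hl
  have hl0 : l ≠ 0 := fun h0 => hlam (hinjRA (by rw [← hl, h0, map_zero]))
  -- coefficients
  have hex : ∀ k : ℕ, ∃ a : A, 0 < k → k ≤ N → ((N.choose k : ℕ) : A) = l ^ (N - k) * a := by
    intro k
    by_cases hk : 0 < k ∧ k ≤ N
    · obtain ⟨a, ha⟩ := lam_dvd p n hp hn lam hstar k hk.1 hk.2
      refine ⟨algebraMap R A a, fun _ _ => ?_⟩
      have := congrArg (algebraMap R A) ha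
      rw [map_natCast, map_mul, map_pow] at this
      exact this
    · exact ⟨0, fun h1 h2 => absurd ⟨h1, h2⟩ hk⟩
  choose a ha using hex
  have hNpos : 0 < N := pos_of_ne_zero (pow_ne_zero _ hp.ne_zero)
  have haN : a N = 1 := by
    have := ha N hNpos le_rfl
    rw [Nat.choose_self, Nat.cast_one, Nat.sub_self, pow_zero, one_mul] at this
    exact this.symm
  -- binomial expansion
  have hbin : ∀ y : A, (1 + y) ^ N - 1 = ∑ k ∈ Finset.range N, a (k + 1) * l ^ (N - (k + 1)) * y ^ (k + 1) := by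
    intro y
    rw [add_comm 1 y, add_pow, Finset.sum_range_succ']
    simp only [one_pow, mul_one, pow_zero, Nat.choose_zero_right, Nat.cast_one, add_sub_cancel_right]
    refine Finset.sum_congr rfl fun k hk => ?_
    rw [ha (k + 1) (Nat.succ_pos k) (Finset.mem_range.mp hk)]
    ring
  constructor
  · rintro ⟨c, hc⟩
    refine dvd_of_monic_rel (FractionRing A) l ((x : A) - 1) hl0 N (fun k => if k = 0 then -c else a k) ?_ ?_
    · simp [hNpos.ne', haN]
    · rw [Finset.sum_range_succ']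
      simp only [Nat.succ_ne_zero, if_false, if_true, Nat.sub_zero, pow_zero, mul_one, Nat.add_eq_zero_iff, one_ne_zero, and_false]
      rw [← hbin, add_sub_cancel, hc]
      ring
  · rintro ⟨t, ht⟩
    have hx : (x : A) = 1 + l * t := by rw [← ht]; ring
    rw [hx, hbin]
    refine Finset.dvd_sum fun k hk => ?_
    have hk' : k + 1 ≤ N := Finset.mem_range.mp hk
    refine ⟨a (k + 1) * t ^ (k + 1), ?_⟩
    have : l ^ N = l ^ (N - (k + 1)) * l ^ (k + 1) := by rw [← pow_add, Nat.sub_add_cancel hk']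
    rw [this, mul_pow]
    ring

end aux

/-- Let R be a discrete valuation ring of characteristic zero whose maximal ideal contains the prime
number p, let n ≥ 1, and let λ be a nonzero element of R such that λ^(p^(n−1)(p−1)) divides p (the
condition v(p) ≥ p^(n−1)(p−1)·v(λ) under which the polynomial ((1 + λT)^(p^n) − 1)/λ^(p^n) has
coefficients in R). Let A be an integrally closed integral domain which is a faithfully flat
R-algebra. Then for every unit x of A, λ^(p^n) divides x^(p^n) − 1 in A if and only if λ divides x −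
1 in A. -/
theorem result (R : Type u) [CommRing R]
    [IsDomain R] [IsDiscreteValuationRing R] [CharZero R] (p n : ℕ) [Fact p.Prime] (hn : 1 ≤ n)
    (hp : (p : R) ∈ IsLocalRing.maximalIdeal R) (lam : R) (hlam : lam ≠ 0)
    (hstar : lam ^ (p ^ (n - 1) * (p - 1)) ∣ (p : R))
    (A : Type u) [CommRing A] [IsDomain A] [IsIntegrallyClosed A] [Algebra R A] [Module.FaithfullyFlat R A]
    (x : Aˣ) :
    (algebraMap R A lam ^ p ^ n ∣ (x : A) ^ p ^ n - 1) ↔ (algebraMap R A lam ∣ (x : A) - 1) := by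
  exact main R p n hn lam hlam hstar A x

end Groth.Agent.S13158
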