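import Groth.Statements.S13161

set_option autoImplicit false
universe u
open scoped TensorProduct
open CAlg

namespace Groth.Agent.S13161

section
variable (R : Type u) [CommRing R] (K : Type u) [Field K] [Algebra R K]
  (A : Type u) [CommRing A] [Algebra R A]

/-- ι : A → A ⊗ K -/
noncomputable def iota : A →ₗ[R] A ⊗[R] K := (TensorProduct.mk R A K).flip 1

lemma iota_apply (a : A) : iota R K A a = a ⊗ₜ[R] (1 : K) := rfl

lemma iota_injective [IsDomain R] [IsFractionRing R K]
    (hA : ∀ a : A, a ≠ 0 → ∃ f : A →ₗ[R] R, f a ≠ 0) :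
    Function.Injective (iota R K A) := by
  rw [← LinearMap.ker_eq_bot, LinearMap.ker_eq_bot']
  intro a ha
  by_contra hne
  obtain ⟨f, hf⟩ := hA a hne
  have h0 : (TensorProduct.lid R K) (LinearMap.rTensor K f (a ⊗ₜ[R] (1 : K))) = 0 := by
    rw [← iota_apply, ha]; simp
  rw [LinearMap.rTensor_tmul, TensorProduct.lid_tmul, ← Algebra.algebraMap_eq_smul_one] at h0
  exact hf ((IsFractionRing.injective R K) (by rw [h0, map_zero]))

lemma exists_den [IsDomain R] [IsFractionRing R K] (x : A ⊗[R] K) :
    ∃ s : R, s ≠ 0 ∧ ∃ a : A, s • x = iota R K A a := by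
  induction x using TensorProduct.induction_on with
  | zero => exact ⟨1, one_ne_zero, 0, by simp⟩
  | tmul a k =>
    obtain ⟨r, s, hs, rfl⟩ := IsFractionRing.div_surjective (A := R) k
    have hs0 : algebraMap R K s ≠ 0 := by
      intro h
      exact nonZeroDivisors.ne_zero hs ((IsFractionRing.injective R K) (by rw [h, map_zero]))
    refine ⟨s, nonZeroDivisors.ne_zero hs, r • a, ?_⟩
    rw [iota_apply, TensorProduct.smul_tmul', TensorProduct.smul_tmul, TensorProduct.smul_tmul]
    congr 1
    rw [Algebra.smul_def, Algebra.smul_def, mul_one, mul_div_cancel₀ _ hs0]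
  | add x y hx hy =>
    obtain ⟨s, hs, a, ha⟩ := hx
    obtain ⟨t, ht, b, hb⟩ := hy
    refine ⟨s * t, mul_ne_zero hs ht, t • a + s • b, ?_⟩
    rw [smul_add, map_add, map_smul, map_smul, ← ha, ← hb, mul_smul, mul_smul, smul_comm s t x]

lemma smul_ne_zero' [IsDomain R] [IsFractionRing R K] (s : R) (hs : s ≠ 0) (y : A ⊗[R] K)
    (hy : s • y = 0) : y = 0 := by
  have hs0 : algebraMap R K s ≠ 0 := by
    intro h
    exact hs ((IsFractionRing.injective R K) (by rw [h, map_zero]))
  have h1 : s • y = ((1 : A) ⊗ₜ[R] (algebraMap R K s)) * y := by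
    rw [Algebra.smul_def, Algebra.TensorProduct.algebraMap_apply']
  have h2 : ((1 : A) ⊗ₜ[R] (algebraMap R K s)⁻¹) * ((1 : A) ⊗ₜ[R] (algebraMap R K s)) = 1 := by
    rw [Algebra.TensorProduct.tmul_mul_tmul, one_mul, inv_mul_cancel₀ hs0]
    rfl
  calc y = (((1 : A) ⊗ₜ[R] (algebraMap R K s)⁻¹) * ((1 : A) ⊗ₜ[R] (algebraMap R K s))) * y := by
        rw [h2, one_mul]
    _ = 0 := by rw [mul_assoc, ← h1, hy, mul_zero]

end


/-- Let R be a discrete valuation ring with fraction field K, A an R-algebra which is semireflexive as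
an R-module (the map to its double dual is injective: every nonzero a ∈ A has an R-linear form f : A
→ R with f(a) ≠ 0), and B an A-algebra which is finitely generated as an A-module and flat over R.
Suppose B ⊗ K is semireflexive as a module over A ⊗ K, which for such B amounts to: every nonzero b
∈ B has an A-linear map g : B → A ⊗_R K with g(b) ≠ 0. Then B is semireflexive as an R-module: every
nonzero b ∈ B has an R-linear form h : B → R with h(b) ≠ 0. (The published statement phrases the
hypothesis on B_K as an A_K-module; for B flat over R and finite over A this is the elementwise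
condition used here.) -/
theorem result (R : Type u) [CommRing R] [IsDomain R]
    [IsDiscreteValuationRing R] (K : Type u) [Field K] [Algebra R K] [IsFractionRing R K]
    (A B : Type u) [CommRing A] [CommRing B] [Algebra R A] [Algebra R B] [Algebra A B] [IsScalarTower R A B]
    [Module.Finite A B] [Module.Flat R B]
    (hA : ∀ a : A, a ≠ 0 → ∃ f : A →ₗ[R] R, f a ≠ 0)
    (hBK : ∀ b : B, b ≠ 0 → ∃ g : B →ₗ[A] A ⊗[R] K, g b ≠ 0) :
    ∀ b : B, b ≠ 0 → ∃ h : B →ₗ[R] R, h b ≠ 0 := by
  intro b hb
  obtain ⟨g, hg⟩ := hBK b hb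
  -- common denominator on finite sets
  have hden : ∀ T : Finset B, ∃ s : R, s ≠ 0 ∧ ∀ x ∈ T, ∃ a : A, s • g x = iota R K A a := by
    classical
    intro T
    induction T using Finset.induction_on with
    | empty => exact ⟨1, one_ne_zero, by simp⟩
    | insert c T hc ih =>
      obtain ⟨s, hs, h⟩ := ih
      obtain ⟨t, ht, a, ha⟩ := exists_den R K A (g c)
      refine ⟨s * t, mul_ne_zero hs ht, ?_⟩
      intro x hx
      rw [Finset.mem_insert] at hx
      rcases hx with rfl | hx
      · exact ⟨s • a, by rw [mul_smul, ha, map_smul]⟩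
      · obtain ⟨a', ha'⟩ := h x hx
        exact ⟨t • a', by rw [mul_comm, mul_smul, ha', map_smul]⟩
  obtain ⟨S, hS⟩ := (Module.Finite.fg_top (R := A) (M := B))
  obtain ⟨s, hs, hsS⟩ := hden S
  have hall : ∀ x : B, s • g x ∈ LinearMap.range (iota R K A) := by
    intro x
    have hx : x ∈ Submodule.span A (S : Set B) := by rw [hS]; trivial
    induction hx using Submodule.span_induction with
    | mem x hx => exact hsS x hx |>.imp fun a ha => ha.symm
    | zero => exact ⟨0, by simp⟩
    | add x y _ _ hx hy =>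
      obtain ⟨a, ha⟩ := hx
      obtain ⟨a', ha'⟩ := hy
      exact ⟨a + a', by rw [map_add, ha, ha', map_add, smul_add]⟩
    | smul c x _ hx =>
      obtain ⟨a, ha⟩ := hx
      refine ⟨c * a, ?_⟩
      rw [map_smul, smul_comm, ← ha, iota_apply, iota_apply, TensorProduct.smul_tmul', smul_eq_mul]
  have hinj := iota_injective R K A hA
  let g' : B →ₗ[R] A :=
    ((LinearEquiv.ofInjective (iota R K A) hinj).symm : _ →ₗ[R] A) ∘ₗ
      (LinearMap.codRestrict (LinearMap.range (iota R K A)) (s • (g.restrictScalars R)) hall)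
  have hg' : ∀ x, iota R K A (g' x) = s • g x := by
    intro x
    have h1 : iota R K A (g' x) = ((LinearEquiv.ofInjective (iota R K A) hinj) (g' x) : A ⊗[R] K) :=
      (LinearEquiv.ofInjective_apply (iota R K A) (g' x)).symm
    rw [h1]
    simp only [g', LinearMap.coe_comp, LinearEquiv.coe_coe, Function.comp_apply,
      LinearEquiv.apply_symm_apply, LinearMap.codRestrict_apply]
    rfl
  have hne : g' b ≠ 0 := by
    intro h0
    apply hg
    apply smul_ne_zero' R K A s hs
    rw [← hg', h0, map_zero]
  obtain ⟨f, hf⟩ := hA _ hne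
  exact ⟨f ∘ₗ g', hf⟩

end Groth.Agent.S13161
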