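import Groth.Statements.S13162
import Mathlib
-- import your own Groth.Agent.* helpers here

set_option autoImplicit false
universe u v
open ZeroCyc

namespace Groth.Agent.S13162

/-- Let a finite group G act on a commutative ring A by ring automorphisms and let p be a prime such
that every integer prime to p is a unit in A. If I is an ideal of A and f ∈ A has G-invariant class
modulo I, then f^(p^k) is congruent modulo I to a G-invariant element of A, where p^k is the exact
power of p dividing the order of G. (The published statement assumes I stable under G, so that G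
acts on A/I and the claim reads: the p^k-th power of an invariant of A/I lies in the image of the
invariants of A; the form here asks only that the class of f be invariant.) -/
theorem result {A : Type u} [CommRing A] {G : Type v} [Group G] [Fintype G]
    [MulSemiringAction G A] (p : ℕ) [Fact p.Prime]
    (hA : ∀ m : ℕ, ¬ p ∣ m → IsUnit (m : A))
    (I : Ideal A) (f : A) (hf : ∀ g : G, g • f - f ∈ I) :
    ∃ a : A, (∀ g : G, g • a = a) ∧ a - f ^ (p ^ (Fintype.card G).factorization p) ∈ I := by
  classical
  set N := Fintype.card G with hN_def
  set j := p ^ N.factorization p with hj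
  have hp : p.Prime := Fact.out
  have hNpos : 0 < N := Fintype.card_pos
  have hpc : ¬ p ∣ N.choose j := by
    obtain ⟨m, hm⟩ : p ^ N.factorization p ∣ N := Nat.ordProj_dvd N p
    have hpm : ¬ p ∣ m := by
      have h1 := Nat.not_dvd_ordCompl hp hNpos.ne'
      have h2 : N / p ^ N.factorization p = m :=
        Nat.div_eq_of_eq_mul_right (pow_pos hp.pos _) hm
      rwa [h2] at h1
    intro hdvd
    have h1 : N.choose j ≡ m [MOD p] := by
      have := Choose.choose_pow_mul_pow_mul_modEq_choose_nat (p := p) (k := N.factorization p)
        (a := m) (b := 1)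
      rw [mul_one, ← hm, Nat.choose_one_right] at this
      exact this
    exact hpm ((Nat.modEq_zero_iff_dvd.mp (h1.symm.trans (Nat.modEq_zero_iff_dvd.mpr hdvd))))
  obtain ⟨c, hc⟩ := hA _ hpc
  set ci : A := ((c⁻¹ : Aˣ) : A) with hci
  have hci1 : ci * ((N.choose j : ℕ) : A) = 1 := by
    rw [← hc, hci]; exact c.inv_mul
  have hci2 : ((N.choose j : ℕ) : A) * ci = 1 := by rw [mul_comm]; exact hci1
  have hcig : ∀ g : G, g • ci = ci := by
    intro g
    have h1 : g • ci * ((N.choose j : ℕ) : A) = 1 := by
      have := congrArg (fun x => g • x) hci1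
      simp only [smul_mul', smul_one] at this
      rwa [show g • ((N.choose j : ℕ) : A) = ((N.choose j : ℕ) : A) from
        map_natCast (MulSemiringAction.toRingHom G A g) _] at this
    calc g • ci = g • ci * (((N.choose j : ℕ) : A) * ci) := by rw [hci2, mul_one]
      _ = (g • ci * ((N.choose j : ℕ) : A)) * ci := by ring
      _ = ci := by rw [h1, one_mul]
  set a' : A := ∑ S ∈ (Finset.univ : Finset G).powersetCard j, ∏ g ∈ S, g • f with ha'
  refine ⟨ci * a', ?_, ?_⟩
  · intro g
    rw [smul_mul', hcig]
    congr 1
    rw [ha', Finset.smul_sum]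
    refine Finset.sum_equiv (Equiv.finsetCongr (Equiv.mulLeft g)) ?_ ?_
    · intro S
      simp only [Finset.mem_powersetCard_univ, Equiv.finsetCongr_apply, Finset.card_map]
    · intro S _
      rw [Finset.smul_prod', Equiv.finsetCongr_apply, Finset.prod_map]
      apply Finset.prod_congr rfl
      intro x _
      rw [smul_smul]
      rfl
  · rw [← Ideal.Quotient.eq]
    have hmk : ∀ g : G, Ideal.Quotient.mk I (g • f) = Ideal.Quotient.mk I f := fun g =>
      Ideal.Quotient.eq.mpr (hf g)
    rw [map_mul, ha', map_sum]
    have : ∀ S ∈ (Finset.univ : Finset G).powersetCard j,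
        Ideal.Quotient.mk I (∏ g ∈ S, g • f) = Ideal.Quotient.mk I f ^ j := by
      intro S hS
      rw [map_prod]
      simp only [hmk, Finset.prod_const]
      rw [(Finset.mem_powersetCard_univ.mp hS)]
    rw [Finset.sum_congr rfl this, Finset.sum_const, Finset.card_powersetCard, Finset.card_univ,
      nsmul_eq_mul, ← mul_assoc, map_pow]
    have h1 : Ideal.Quotient.mk I ci * ((N.choose j : ℕ) : A ⧸ I) = 1 := by
      have e1 : ((N.choose j : ℕ) : A ⧸ I) = Ideal.Quotient.mk I ((N.choose j : ℕ) : A) := by
        rw [map_natCast]
      rw [e1, ← map_mul, hci1, map_one]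
    rw [h1, one_mul]

end Groth.Agent.S13162
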