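import Groth.Statements.S13168
-- import your own Groth.Agent.* helpers here

set_option autoImplicit false
universe u
open AlgebraicGeometry
open ZeroCyc

namespace Groth.Agent.S13168

/-- Let B be a graded R-algebra generated by homogeneous elements f_1, …, f_s of positive degrees d_1,
…, d_s, let l be the least common multiple of the d_i and X = Proj B. For n = a l with a ≥ 1, X is
the union of the opens D_+(g), g ∈ B_n. -/
theorem result {R A : Type u} [CommRing R] [CommRing A] [Algebra R A] (𝒜 : ℕ → Submodule R A) [GradedAlgebra 𝒜]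
    {s : ℕ} (f : Fin s → A) (deg : Fin s → ℕ) (hdeg : ∀ i, 0 < deg i) (hf : ∀ i, f i ∈ 𝒜 (deg i))
    (hgen : Algebra.adjoin R (Set.range f) = ⊤) (a : ℕ) (ha : 0 < a) :
    (⨆ g : 𝒜 (a * Finset.univ.lcm deg), Proj.basicOpen 𝒜 (g : A)) = ⊤ := by
  classical
  have hgen0 : Algebra.adjoin (𝒜 0) (Set.range f) = ⊤ := by
    rw [eq_top_iff]
    intro z _
    have hz : z ∈ Algebra.adjoin R (Set.range f) := by rw [hgen]; trivial
    induction hz using Algebra.adjoin_induction with
    | mem x hx => exact Algebra.subset_adjoin hx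
    | algebraMap r =>
      have h0 : algebraMap R A r ∈ 𝒜 0 := by
        rw [Algebra.algebraMap_eq_smul_one]
        exact (𝒜 0).smul_mem r (SetLike.GradedOne.one_mem)
      have : algebraMap R A r = algebraMap (𝒜 0) A ⟨algebraMap R A r, h0⟩ := rfl
      rw [this]
      exact Subalgebra.algebraMap_mem _ _
    | add x y _ _ hx hy => exact Subalgebra.add_mem _ (hx trivial) (hy trivial)
    | mul x y _ _ hx hy => exact Subalgebra.mul_mem _ (hx trivial) (hy trivial)
  have hcover := AlgebraicGeometry.Proj.iSup_basicOpen_eq_top' 𝒜 f (fun i => ⟨deg i, hf i⟩) hgen0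
  rw [eq_top_iff, ← hcover]
  apply iSup_le
  intro i
  have hdvd : deg i ∣ Finset.univ.lcm deg := Finset.dvd_lcm (Finset.mem_univ i)
  obtain ⟨c, hc⟩ := hdvd
  have hcpos : 0 < a * c := by
    apply Nat.mul_pos ha
    rcases Nat.eq_zero_or_pos c with h | h
    · exfalso
      rw [h, mul_zero] at hc
      have hl : Finset.univ.lcm deg ≠ 0 := by
        rw [Ne, Finset.lcm_eq_zero_iff]
        rintro ⟨j, _, hj⟩
        exact (hdeg j).ne' hj
      exact hl hc
    · exact h
  have hmem : f i ^ (a * c) ∈ 𝒜 (a * Finset.univ.lcm deg) := by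
    have := SetLike.pow_mem_graded (a * c) (hf i)
    have e : (a * c) • deg i = a * Finset.univ.lcm deg := by
      rw [smul_eq_mul, hc]; ring
    rwa [e] at this
  calc AlgebraicGeometry.Proj.basicOpen 𝒜 (f i)
      = AlgebraicGeometry.Proj.basicOpen 𝒜 (f i ^ (a * c)) :=
        (AlgebraicGeometry.Proj.basicOpen_pow 𝒜 (f i) (a * c) hcpos).symm
    _ ≤ _ := le_iSup (fun g : 𝒜 (a * Finset.univ.lcm deg) =>
        AlgebraicGeometry.Proj.basicOpen 𝒜 (g : A)) ⟨f i ^ (a * c), hmem⟩

end Groth.Agent.S13168
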