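import Groth.Statements.S13176
import Groth.Agent.Lib.Helper28.FinQuot
import Groth.Agent.Lib.Helper28.FinQuotGeom
import Groth.Agent.Lib.Helper28.SchDom

set_option autoImplicit false
universe u
open CategoryTheory CategoryTheory.Limits AlgebraicGeometry
open ZeroCyc

open Groth.Agent.Lib.Helper28.FinQuot Groth.Agent.Lib.Helper28.FinQuotGeom
open Groth.Agent.Lib.Helper28.SchDom

namespace Groth.Agent.S13176

/-- Let a finite group G act on a scheme X over S through ρ, let q : X → Y be a quotient of X by G over
S (affine, G-invariant, O_Y = the G-invariant sections of O_X), let S' → S be any morphism and X' =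
X ×_S S' with the induced action ρ', and let r : X' → Y' be a quotient of X' by G. Then the morphism
Y' → Y ×_S S' through which the canonical map X' → Y ×_S S' factors via r is a universal
homeomorphism. (The published statement assumes every G-orbit lies in an affine open, which is what
makes the quotients exist; here the two quotients are hypotheses.) -/
theorem result {X Y S S' Y' : Scheme.{u}} {G : Type u} [Group G] [Finite G]
    (ρ : G →* Aut X) (f : X ⟶ S) (hρ : ∀ σ : G, (ρ σ).hom ≫ f = f)
    (q : X ⟶ Y) (h : Y ⟶ S) (hq : q ≫ h = f) (hquot : SGA1.IsQuot ρ q)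
    (g : S' ⟶ S)
    (ρ' : G →* Aut (pullback f g))
    (hρ' : ∀ σ : G, (ρ' σ).hom ≫ pullback.fst f g = pullback.fst f g ≫ (ρ σ).hom ∧
      (ρ' σ).hom ≫ pullback.snd f g = pullback.snd f g)
    (r : pullback f g ⟶ Y') (hr : SGA1.IsQuot ρ' r)
    (m : Y' ⟶ pullback h g)
    (hm : r ≫ m = pullback.map f g h g q (𝟙 S') (𝟙 S)
      ((Category.comp_id f).trans hq.symm) ((Category.comp_id g).trans (Category.id_comp g).symm)) :
    FlatMor.IsUnivHomeo m := by
  set q' := pullback.map f g h g q (𝟙 S') (𝟙 S)
      ((Category.comp_id f).trans hq.symm) ((Category.comp_id g).trans (Category.id_comp g).symm)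
    with hq'
  have hfst : q' ≫ pullback.fst h g = pullback.fst f g ≫ q := pullback.lift_fst _ _ _
  have hsnd : q' ≫ pullback.snd h g = pullback.snd f g :=
    (pullback.lift_snd _ _ _).trans (Category.comp_id _)
  have hpb : IsPullback (pullback.fst f g) q' q (pullback.fst h g) := by
    refine (IsPullback.of_right ?_ hfst (IsPullback.of_hasPullback h g).flip).flip
    rw [hsnd, hq]
    exact (IsPullback.of_hasPullback f g).flip
  haveI : IsIntegralHom q := isIntegralHom ρ q hquot
  haveI : Surjective q := ⟨surjective ρ q hquot⟩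
  haveI : IsIntegralHom q' := MorphismProperty.of_isPullback (P := @IsIntegralHom) hpb inferInstance
  haveI : Surjective q' := MorphismProperty.of_isPullback (P := @Surjective) hpb inferInstance
  haveI : Surjective r := ⟨surjective ρ' r hr⟩
  haveI : UniversallyClosed (r ≫ m) := by rw [hm]; infer_instance
  haveI : UniversallyClosed m := UniversallyClosed.of_comp_surjective r m
  haveI : Surjective (r ≫ m) := by rw [hm]; infer_instance
  haveI : Surjective m := Surjective.of_comp r m
  refine (isUnivHomeo_iff m).2 ⟨inferInstance, ?_, inferInstance⟩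
  refine universallyInjective_of_quot ρ' r hr m (fun Ω _ _ ξ₁ ξ₂ e => ?_)
  rw [hm] at e
  have e1 : (ξ₁ ≫ pullback.fst f g) ≫ q = (ξ₂ ≫ pullback.fst f g) ≫ q := by
    have := congrArg (fun t => t ≫ pullback.fst h g) e
    simp only [Category.assoc] at this
    rw [hfst] at this
    simpa only [Category.assoc] using this
  have e2 : ξ₁ ≫ pullback.snd f g = ξ₂ ≫ pullback.snd f g := by
    have := congrArg (fun t => t ≫ pullback.snd h g) e
    simp only [Category.assoc] at this
    rw [hsnd] at this
    exact this
  obtain ⟨γ, hγ⟩ := exists_comp_eq ρ q hquot Ω _ _ e1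
  have e3 : ξ₂ = ξ₁ ≫ (ρ' γ).hom := by
    apply pullback.hom_ext
    · rw [hγ, Category.assoc, Category.assoc, (hρ' γ).1]
    · rw [Category.assoc, (hρ' γ).2, e2]
  rw [e3, Category.assoc, hr.inv γ]

end Groth.Agent.S13176
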