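import Groth.Statements.S13177
import Groth.Agent.Lib.Helper28.FinQuot
import Groth.Agent.Lib.Helper28.FinQuotGeom
import Groth.Agent.Lib.Helper28.SchDom

set_option autoImplicit false
universe u
open CategoryTheory CategoryTheory.Limits AlgebraicGeometry
open ZeroCyc

open Groth.Agent.Lib.Helper28.FinQuot Groth.Agent.Lib.Helper28.FinQuotGeom
open Groth.Agent.Lib.Helper28.SchDom

namespace Groth.Agent.S13177

/-- Let a finite group G act on a scheme X with quotient q : X → Y (affine, G-invariant, O_Y = the
invariant sections), let i : Z → X be a G-stable closed subscheme with the induced action and r : Z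
→ W a quotient of Z by G, and let q(Z) be the scheme-theoretic image of Z in Y. Then the morphism W
→ q(Z) through which Z → q(Z) factors via r is a schematically dominant universal homeomorphism.
(The published statement assumes the quotient of X exists; here both quotients are hypotheses.) -/
theorem result {X Y Z W : Scheme.{u}} {G : Type u} [Group G] [Finite G]
    (ρ : G →* Aut X) (q : X ⟶ Y) (hquot : SGA1.IsQuot ρ q)
    (i : Z ⟶ X) [IsClosedImmersion i] (ρZ : G →* Aut Z) (hρZ : ∀ σ : G, (ρZ σ).hom ≫ i = i ≫ (ρ σ).hom)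
    (r : Z ⟶ W) (hr : SGA1.IsQuot ρZ r)
    (m : W ⟶ (i ≫ q).ker.subscheme) (hm : r ≫ m ≫ (i ≫ q).ker.subschemeι = i ≫ q) :
    FlatMor.IsUnivHomeo m ∧ IsSchemeTheoreticallyDominant m := by
  haveI : IsIntegralHom q := isIntegralHom ρ q hquot
  haveI : IsIntegralHom (i ≫ q) := inferInstance
  have hrm : r ≫ m = (i ≫ q).toImage := by
    rw [← cancel_mono (i ≫ q).imageι, Category.assoc, (i ≫ q).toImage_imageι]
    exact hm
  haveI : Surjective r := ⟨surjective ρZ r hr⟩
  haveI hUC : UniversallyClosed (r ≫ m) := by rw [hrm]; infer_instance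
  haveI : UniversallyClosed m := UniversallyClosed.of_comp_surjective r m
  haveI : Surjective (r ≫ m) := by
    rw [hrm]
    exact surjective_of_isDominant_of_isClosedMap _ (i ≫ q).toImage.isClosedMap
  haveI : Surjective m := Surjective.of_comp r m
  refine ⟨(isUnivHomeo_iff m).2 ⟨inferInstance, ?_, inferInstance⟩, ?_⟩
  · refine universallyInjective_of_quot ρZ r hr m (fun Ω _ _ ξ₁ ξ₂ h => ?_)
    have h1 : (ξ₁ ≫ i) ≫ q = (ξ₂ ≫ i) ≫ q := by
      have := congrArg (fun f => f ≫ (i ≫ q).ker.subschemeι) h
      simp only [Category.assoc] at this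
      rw [hm] at this
      simpa only [Category.assoc] using this
    obtain ⟨g, hg⟩ := exists_comp_eq ρ q hquot Ω (ξ₁ ≫ i) (ξ₂ ≫ i) h1
    rw [Category.assoc, ← hρZ g, ← Category.assoc, cancel_mono] at hg
    rw [hg, Category.assoc, hr.inv g]
  · refine isSchemeTheoreticallyDominant_of_app_injective m (fun U => ?_)
    have h1 : Function.Injective ((r ≫ m).app U).hom := by
      rw [Scheme.Hom.congr_app hrm U, CommRingCat.hom_comp, RingHom.coe_comp]
      refine Function.Injective.comp ?_ (toImage_app_injective (i ≫ q) U)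
      exact (ConcreteCategory.bijective_of_isIso _).1
    rw [Scheme.Hom.comp_app] at h1
    change Function.Injective ((r.app (m ⁻¹ᵁ U.1)).hom ∘ (m.app U.1).hom) at h1
    exact Function.Injective.of_comp h1

end Groth.Agent.S13177
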