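import Groth.Statements.S13185
import Groth.Agent.Lib.helper19.GpH1Delta

set_option autoImplicit false
universe u v w x
open GalCoh

namespace Groth.Agent.S13185

/-- Let a group G act by automorphisms on groups A, B, C and let 1 → A → B → C → 1 (maps ι, π) be a
G-equivariant short exact sequence. For G-fixed elements c, c' of C, the connecting map to H¹(G, A)
takes equal values on c and c' if and only if c' = π(b) · c for some G-fixed b in B: the fibres of
the connecting map are the orbits of the fixed points of B acting on the fixed points of C by left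
multiplication. (The published statement is for a Galois group acting on discrete modules; this row
takes an arbitrary group acting on groups, which is what the argument proves.) -/
theorem result {G : Type u} {A : Type v} {B : Type w} {C : Type x}
    [Group G] [Group A] [Group B] [Group C]
    [MulDistribMulAction G A] [MulDistribMulAction G B] [MulDistribMulAction G C]
    {ι : A →* B} {π : B →* C} (h : GpH1.IsGExt G ι π)
    (c c' : MulAction.fixedPoints G C) :
    GpH1.delta0 h c = GpH1.delta0 h c' ↔
      ∃ b : B, b ∈ MulAction.fixedPoints G B ∧ (c' : C) = π b * (c : C) := by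
  obtain ⟨b₀, hb₀⟩ := h.surjective c.1
  obtain ⟨b₁, hb₁⟩ := h.surjective c'.1
  have hb₀f : π b₀ ∈ MulAction.fixedPoints G C := hb₀ ▸ c.2
  have hb₁f : π b₁ ∈ MulAction.fixedPoints G C := hb₁ ▸ c'.2
  rw [Groth.Agent.Lib.helper19.delta0_eq_cl h c b₀ hb₀f hb₀,
    Groth.Agent.Lib.helper19.delta0_eq_cl h c' b₁ hb₁f hb₁, GpH1.OneCocycle.cl_eq_cl_iff]
  constructor
  · rintro ⟨a, ha⟩
    rw [Groth.Agent.Lib.helper19.cocycleOfLift_rel_iff] at ha
    refine ⟨b₁ * ι a * b₀⁻¹, ha, ?_⟩
    rw [map_mul, map_mul, map_inv, (h.exact (ι a)).mpr ⟨a, rfl⟩, hb₀, hb₁]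
    group
  · rintro ⟨β, hβ, hcc⟩
    have hmem : b₁⁻¹ * β * b₀ ∈ ι.range := by
      rw [← h.exact, map_mul, map_mul, map_inv, hb₀, hb₁, hcc]
      group
    obtain ⟨a, ha⟩ := hmem
    refine ⟨a, (Groth.Agent.Lib.helper19.cocycleOfLift_rel_iff h b₀ b₁ hb₀f hb₁f a).mpr fun σ => ?_⟩
    have : b₁ * ι a * b₀⁻¹ = β := by rw [ha]; group
    rw [this]
    exact hβ σ

end Groth.Agent.S13185
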