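import Groth.Statements.S13186
import Groth.Agent.Lib.helper19.SpeiserGL

set_option autoImplicit false
universe u
open GalCoh

namespace Groth.Agent.S13186

/-- Let L/K be a finite Galois extension of fields, n a natural number, and B a map from the Galois
group of L over K to the invertible n × n matrices over L such that B(σ) · σ(B(τ)) = B(στ) for all
σ, τ (σ acting on matrices entrywise, στ applying τ first) and det B(σ) = 1 for every σ. Then there
is an invertible matrix A over L of determinant 1 with B(σ) = A⁻¹ · σ(A) for every σ; that is, every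
1-cocycle of the Galois group with values in SL_n(L) is the coboundary of an element of SL_n(L), so
H¹ of the Galois group with values in SL_n(L) is a point. (The published statement says that every
torsor under the special linear group over K is trivial; this row is the finite-Galois-level cocycle
form that its proof establishes.) -/
theorem result (K L : Type u) [Field K] [Field L]
    [Algebra K L] [FiniteDimensional K L] [IsGalois K L] (n : ℕ)
    (B : (L ≃ₐ[K] L) → GL (Fin n) L)
    (hB : ∀ σ τ : L ≃ₐ[K] L,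
      (B σ : Matrix (Fin n) (Fin n) L) * (B τ : Matrix (Fin n) (Fin n) L).map σ =
        (B (σ * τ) : Matrix (Fin n) (Fin n) L))
    (hdet : ∀ σ : L ≃ₐ[K] L, Matrix.det (B σ : Matrix (Fin n) (Fin n) L) = 1) :
    ∃ A : GL (Fin n) L, Matrix.det (A : Matrix (Fin n) (Fin n) L) = 1 ∧ ∀ σ : L ≃ₐ[K] L,
      (B σ : Matrix (Fin n) (Fin n) L) =
        ((A⁻¹ : GL (Fin n) L) : Matrix (Fin n) (Fin n) L) * (A : Matrix (Fin n) (Fin n) L).map σ := by
  classical
  have hB1 : ((B 1 : GL (Fin n) L) : Matrix (Fin n) (Fin n) L) = 1 := by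
    have h := hB 1 1
    rw [one_mul] at h
    have hmap : ((B 1 : GL (Fin n) L) : Matrix (Fin n) (Fin n) L).map ((1 : L ≃ₐ[K] L)) =
        (B 1 : Matrix (Fin n) (Fin n) L) := by
      ext i j; simp
    rw [hmap, ← Units.val_mul] at h
    have h' : B 1 * B 1 = B 1 := Units.ext h
    have h'' : B 1 = 1 := mul_eq_left.mp h'
    rw [h'']; rfl
  obtain ⟨M, hMu, hM⟩ := Groth.Agent.Lib.helper19.speiser (k := K)
    (fun σ => ((B σ : GL (Fin n) L) : Matrix (Fin n) (Fin n) L)) hB1 (fun σ τ => (hB σ τ).symm)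
  obtain ⟨u, rfl⟩ := hMu
  set e : L := Matrix.det (u : Matrix (Fin n) (Fin n) L) with he
  have hmapdet : ∀ (σ : L ≃ₐ[K] L) (N : Matrix (Fin n) (Fin n) L), (N.map σ).det = σ N.det := by
    intro σ N
    exact ((σ : L →+* L).map_det N).symm
  have hσe : ∀ σ : L ≃ₐ[K] L, σ e = e := by
    intro σ
    have := congrArg Matrix.det (hM σ)
    rw [Matrix.det_mul, hdet, one_mul, hmapdet] at this
    exact this
  have he0 : e ≠ 0 := by
    have : IsUnit e := (Matrix.isUnit_iff_isUnit_det _).mp u.isUnit
    exact this.ne_zero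
  have hinvmap : ∀ σ : L ≃ₐ[K] L, (u : Matrix (Fin n) (Fin n) L).map σ *
      ((u⁻¹ : GL (Fin n) L) : Matrix (Fin n) (Fin n) L).map σ = 1 := by
    intro σ
    have h1 : ((u : Matrix (Fin n) (Fin n) L) * ((u⁻¹ : GL (Fin n) L) : Matrix (Fin n) (Fin n) L)) = 1 := by
      rw [← Units.val_mul, mul_inv_cancel]; rfl
    have h2 : ((u : Matrix (Fin n) (Fin n) L) *
        ((u⁻¹ : GL (Fin n) L) : Matrix (Fin n) (Fin n) L)).map σ
        = (1 : Matrix (Fin n) (Fin n) L).map σ := by rw [h1]
    rw [Matrix.map_mul] at h2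
    rw [h2]
    ext i j
    simp [Matrix.one_apply, apply_ite]
  have hkey : ∀ σ : L ≃ₐ[K] L, (B σ : Matrix (Fin n) (Fin n) L) =
      (u : Matrix (Fin n) (Fin n) L) * ((u⁻¹ : GL (Fin n) L) : Matrix (Fin n) (Fin n) L).map σ := by
    intro σ
    calc (B σ : Matrix (Fin n) (Fin n) L)
        = (B σ : Matrix (Fin n) (Fin n) L) * ((u : Matrix (Fin n) (Fin n) L).map σ *
            ((u⁻¹ : GL (Fin n) L) : Matrix (Fin n) (Fin n) L).map σ) := by rw [hinvmap, mul_one]
      _ = _ := by rw [← mul_assoc, hM σ]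
  rcases n with _ | n
  · refine ⟨1, ?_, fun σ => ?_⟩
    · simp
    · exact Subsingleton.elim _ _
  · -- the diagonal correction
    let dvec : Fin (n+1) → L := fun i => if i = 0 then e else 1
    let D : Matrix (Fin (n+1)) (Fin (n+1)) L := Matrix.diagonal dvec
    have hDdet : D.det = e := by
      rw [Matrix.det_diagonal]
      simp [dvec, Finset.prod_ite_eq']
    have hDmap : ∀ σ : L ≃ₐ[K] L, D.map σ = D := by
      intro σ
      ext i j
      simp only [D, Matrix.map_apply, Matrix.diagonal_apply, dvec]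
      split_ifs <;> simp [hσe]
    have hDu : IsUnit D := (Matrix.isUnit_iff_isUnit_det _).mpr (by rw [hDdet]; exact he0.isUnit)
    obtain ⟨Du, hDu'⟩ := hDu
    refine ⟨Du * u⁻¹, ?_, fun σ => ?_⟩
    · rw [Units.val_mul, Matrix.det_mul, hDu', hDdet]
      have : Matrix.det ((u : Matrix (Fin (n+1)) (Fin (n+1)) L) *
          ((u⁻¹ : GL (Fin (n+1)) L) : Matrix (Fin (n+1)) (Fin (n+1)) L)) = 1 := by
        rw [← Units.val_mul, mul_inv_cancel]; simp
      rw [Matrix.det_mul] at this
      exact this
    · rw [mul_inv_rev, inv_inv, Units.val_mul, Units.val_mul, Matrix.map_mul, hDu', hDmap σ,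
        hkey σ]
      have hDD : ((Du⁻¹ : GL (Fin (n+1)) L) : Matrix _ _ L) * D = 1 := by
        rw [← hDu', ← Units.val_mul, inv_mul_cancel]; rfl
      calc (u : Matrix _ _ L) * ((u⁻¹ : GL (Fin (n+1)) L) : Matrix _ _ L).map σ
          = (u : Matrix _ _ L) * (((Du⁻¹ : GL (Fin (n+1)) L) : Matrix _ _ L) * D) *
              ((u⁻¹ : GL (Fin (n+1)) L) : Matrix _ _ L).map σ := by rw [hDD, mul_one]
        _ = _ := by simp only [mul_assoc]

end Groth.Agent.S13186
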