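import Groth.Statements.S13189
import Mathlib.FieldTheory.Finite.Polynomial

set_option autoImplicit false
universe u
open CAlg

namespace Groth.Agent.S13189

private lemma pow_reduce {M : Type*} [Monoid M] (t : M) (q : ℕ) (hq : 2 ≤ q) (ht : t ^ q = t) :
    ∀ e : ℕ, ∃ e' ≤ q - 1, t ^ e = t ^ e' := by
  intro e
  induction e using Nat.strong_induction_on with
  | _ e ih =>
    by_cases he : e ≤ q - 1
    · exact ⟨e, he, rfl⟩
    · have hlt : e - q + 1 < e := by omega
      obtain ⟨e', he', h⟩ := ih (e - q + 1) hlt
      refine ⟨e', he', ?_⟩
      rw [← h]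
      have : e = (e - q) + q := by omega
      conv_lhs => rw [this, pow_add, ht]
      rw [pow_succ]

/-- For a finite field K of cardinality q and n ≥ 0, a polynomial p in n variables over K vanishes at
every point of K^n if and only if p belongs to the ideal generated by the X_i^q − X_i, i = 1, …, n;
in other words that ideal is the kernel of the evaluation homomorphism from K[X_1, …, X_n] to the
ring of K-valued functions on K^n. -/
theorem result (K : Type u) [Field K] [Fintype K]
    (n : ℕ) (p : MvPolynomial (Fin n) K) :
    (∀ a : Fin n → K, MvPolynomial.eval a p = 0) ↔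
      p ∈ Ideal.span (Set.range fun i : Fin n =>
        (MvPolynomial.X i ^ Fintype.card K - MvPolynomial.X i : MvPolynomial (Fin n) K)) := by
  classical
  have hq : 2 ≤ Fintype.card K := Fintype.one_lt_card
  constructor
  · intro h
    have key : ∀ p : MvPolynomial (Fin n) K, ∃ p' ∈ MvPolynomial.restrictDegree (Fin n) K
        (Fintype.card K - 1), p - p' ∈ Ideal.span (Set.range fun i : Fin n =>
        (MvPolynomial.X i ^ Fintype.card K - MvPolynomial.X i : MvPolynomial (Fin n) K)) := by
      intro p
      induction p using MvPolynomial.induction_on' with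
      | monomial s c =>
        have hX : ∀ i : Fin n, (Ideal.Quotient.mk (Ideal.span (Set.range fun i : Fin n =>
            (MvPolynomial.X i ^ Fintype.card K - MvPolynomial.X i : MvPolynomial (Fin n) K)))
            (MvPolynomial.X i)) ^ Fintype.card K = Ideal.Quotient.mk _ (MvPolynomial.X i) := by
          intro i
          rw [← map_pow, Ideal.Quotient.mk_eq_mk_iff_sub_mem]
          exact Ideal.subset_span ⟨i, rfl⟩
        have hpow := fun i : Fin n => pow_reduce _ _ hq (hX i) (s i)
        choose e' he' hee' using hpow
        refine ⟨MvPolynomial.monomial (Finsupp.equivFunOnFinite.symm e') c, ?_, ?_⟩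
        · rw [MvPolynomial.mem_restrictDegree]
          intro t ht i
          have : t = Finsupp.equivFunOnFinite.symm e' := by
            have := MvPolynomial.support_monomial_subset ht
            simpa using this
          rw [this]
          exact he' i
        · rw [← Ideal.Quotient.mk_eq_mk_iff_sub_mem, MvPolynomial.monomial_eq,
            MvPolynomial.monomial_eq, map_mul, map_mul]
          congr 1
          rw [Finsupp.prod_fintype _ _ (fun i => pow_zero _),
            Finsupp.prod_fintype _ _ (fun i => pow_zero _), map_prod, map_prod]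
          refine Finset.prod_congr rfl fun i _ => ?_
          rw [map_pow, map_pow, hee' i]
          rfl
      | add p₁ p₂ ih₁ ih₂ =>
        obtain ⟨p₁', h₁, h₁'⟩ := ih₁
        obtain ⟨p₂', h₂, h₂'⟩ := ih₂
        refine ⟨p₁' + p₂', Submodule.add_mem _ h₁ h₂, ?_⟩
        have : p₁ + p₂ - (p₁' + p₂') = (p₁ - p₁') + (p₂ - p₂') := by ring
        rw [this]
        exact Ideal.add_mem _ h₁' h₂'
    obtain ⟨p', hp', hsub⟩ := key p
    have hker : ∀ a : Fin n → K, Ideal.span (Set.range fun i : Fin n =>
        (MvPolynomial.X i ^ Fintype.card K - MvPolynomial.X i : MvPolynomial (Fin n) K)) ≤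
        RingHom.ker (MvPolynomial.eval a) := by
      intro a
      rw [Ideal.span_le]
      rintro _ ⟨i, rfl⟩
      simp [RingHom.mem_ker, FiniteField.pow_card]
    have h' : ∀ a : Fin n → K, MvPolynomial.eval a p' = 0 := by
      intro a
      have h1 : MvPolynomial.eval a (p - p') = 0 := hker a hsub
      rw [map_sub, h a, zero_sub, neg_eq_zero] at h1
      exact h1
    have hren : MvPolynomial.rename (Equiv.ulift.{u, 0}.symm : Fin n → ULift.{u} (Fin n)) p' = 0 := by
      apply MvPolynomial.eq_zero_of_eval_eq_zero (ULift.{u} (Fin n)) K
      · intro v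
        rw [MvPolynomial.eval_rename]
        exact h' _
      · rw [MvPolynomial.mem_restrictDegree]
        intro t ht i
        rw [MvPolynomial.support_rename_of_injective (Equiv.injective _)] at ht
        obtain ⟨t', ht', rfl⟩ := Finset.mem_image.mp ht
        rw [Finsupp.mapDomain_equiv_apply]
        exact (MvPolynomial.mem_restrictDegree _ _ _).mp hp' t' ht' _
    have := MvPolynomial.rename_injective _ (Equiv.injective _)
      (hren.trans (map_zero _).symm)
    rw [this, sub_zero] at hsub
    exact hsub
  · intro hp a
    have hker : Ideal.span (Set.range fun i : Fin n =>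
        (MvPolynomial.X i ^ Fintype.card K - MvPolynomial.X i : MvPolynomial (Fin n) K)) ≤
        RingHom.ker (MvPolynomial.eval a) := by
      rw [Ideal.span_le]
      rintro _ ⟨i, rfl⟩
      simp [RingHom.mem_ker, FiniteField.pow_card]
    exact hker hp

end Groth.Agent.S13189
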