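import Groth.Statements.S13191
import Mathlib

set_option autoImplicit false
universe u v w x
open GalCoh

namespace Groth.Agent.S13191

open MulOpposite in
/-- Trivialisation of a right `A`-torsor by a base point. -/
noncomputable def trivEquiv {A : Type v} {E : Type w} [Group A] [MulAction Aᵐᵒᵖ E]
    (hfree : ∀ m₁ m₂ : E, ∃! a : A, m₂ = MulOpposite.op a • m₁) (m : E) : A ≃ E where
  toFun x := op x • m
  invFun e := (hfree m e).choose
  left_inv x := (hfree m (op x • m)).unique (hfree m (op x • m)).choose_spec.1 rfl
  right_inv e := (hfree m e).choose_spec.1.symm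

open MulOpposite in
theorem op_smul_op_smul {A : Type v} {E : Type w} [Group A] [MulAction Aᵐᵒᵖ E] (x y : A) (e : E) :
    op x • op y • e = op (y * x) • e := by
  rw [← mul_smul, ← op_mul]

open MulOpposite in
theorem smul_op_smul_base {G : Type u} {A : Type v} {E : Type w}
    [Group G] [Group A] [MulDistribMulAction G A] [MulAction G E] [MulAction Aᵐᵒᵖ E]
    (hcompat : ∀ (g : G) (a : A) (m : E), g • (MulOpposite.op a • m) = MulOpposite.op (g • a) • g • m)
    (m : E) (a : G → A) (ha : ∀ g : G, g • m = MulOpposite.op (a g) • m) (g : G) (x : A) :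
    g • (op x • m) = op (a g * g • x) • m := by
  rw [hcompat, ha g, op_smul_op_smul]

/-- Let a group G act by automorphisms on a group A, and let E and E' each be a G-equivariant right
A-torsor (a set with a simply transitive right action of A, written m ↦ m·a, and a left action of G
with g(m·a) = (gm)·(ga)). Let m ∈ E and m' ∈ E' be points with attached maps a, a' : G → A (g·m =
m·a(g) and g·m' = m'·a'(g) for all g). Then there is a bijection E ≃ E' commuting with the actions
of G and of A if and only if a and a' are cohomologous. (The published statement is for a Galois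
group acting on discrete modules; this row takes an arbitrary group acting on a group.) -/
theorem result {G : Type u} {A : Type v} {E : Type w} {E' : Type x}
    [Group G] [Group A] [MulDistribMulAction G A]
    [MulAction G E] [MulAction Aᵐᵒᵖ E]
    (hfree : ∀ m₁ m₂ : E, ∃! a : A, m₂ = MulOpposite.op a • m₁)
    (hcompat : ∀ (g : G) (a : A) (m : E), g • (MulOpposite.op a • m) = MulOpposite.op (g • a) • g • m)
    [MulAction G E'] [MulAction Aᵐᵒᵖ E']
    (hfree' : ∀ m₁ m₂ : E', ∃! a : A, m₂ = MulOpposite.op a • m₁)
    (hcompat' : ∀ (g : G) (a : A) (m : E'), g • (MulOpposite.op a • m) = MulOpposite.op (g • a) • g • m)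
    (m : E) (a : G → A) (ha : ∀ g : G, g • m = MulOpposite.op (a g) • m)
    (m' : E') (a' : G → A) (ha' : ∀ g : G, g • m' = MulOpposite.op (a' g) • m') :
    (∃ f : E ≃ E', (∀ (g : G) (e : E), f (g • e) = g • f e) ∧
        ∀ (b : A) (e : E), f (MulOpposite.op b • e) = MulOpposite.op b • f e) ↔
      GpH1.Cohomologous a a' := by
  constructor
  · rintro ⟨f, hfG, hfA⟩
    obtain ⟨c, hc⟩ := (hfree' m' (f m)).exists
    refine ⟨c, fun g => ?_⟩
    have e1 : f (g • m) = MulOpposite.op (a' g * g • c) • m' := by
      rw [hfG, hc, smul_op_smul_base hcompat' m' a' ha']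
    have e2 : f (g • m) = MulOpposite.op (c * a g) • m' := by
      rw [ha g, hfA, hc, op_smul_op_smul]
    have := (hfree' m' (f (g • m))).unique e2 e1
    -- c * a g = a' g * g • c
    calc a g = c⁻¹ * (c * a g) := by group
      _ = c⁻¹ * a' g * g • c := by rw [this]; group
  · rintro ⟨c, hc⟩
    let f : E ≃ E' := (trivEquiv hfree m).symm.trans ((Equiv.mulLeft c).trans (trivEquiv hfree' m'))
    have hf : ∀ x : A, f (MulOpposite.op x • m) = MulOpposite.op (c * x) • m' := by
      intro x
      have : (trivEquiv hfree m).symm (MulOpposite.op x • m) = x :=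
        (trivEquiv hfree m).left_inv x
      show trivEquiv hfree' m' (c * (trivEquiv hfree m).symm (MulOpposite.op x • m)) = _
      rw [this]
      rfl
    refine ⟨f, ?_, ?_⟩
    · intro g e
      obtain ⟨x, rfl⟩ := (trivEquiv hfree m).surjective e
      show f (g • (MulOpposite.op x • m)) = g • f (MulOpposite.op x • m)
      rw [smul_op_smul_base hcompat m a ha, hf, hf, smul_op_smul_base hcompat' m' a' ha', hc g,
        smul_mul']
      congr 2
      group
    · intro b e
      obtain ⟨x, rfl⟩ := (trivEquiv hfree m).surjective e
      show f (MulOpposite.op b • (MulOpposite.op x • m)) = MulOpposite.op b • f (MulOpposite.op x • m)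
      rw [op_smul_op_smul, hf, hf, op_smul_op_smul, mul_assoc]

end Groth.Agent.S13191
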