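import Groth.Statements.S13204
import Groth.Agent.Lib.Helper13.DvrDominate

set_option autoImplicit false
universe u
open Neron

namespace Groth.Agent.S13204

section
open Polynomial Algebra IsFractionRing

/-- the key properness statement: `(m, t)` is a proper ideal of `R[t]` for `t = (Δ₁ - Δ₂)/Δ₂` -/
theorem ideal_ne_top (R : Type u) [CommRing R] [IsDomain R] [UniqueFactorizationMonoid R]
    [IsLocalRing R] (K : Type u) [Field K] [Algebra R K] [IsFractionRing R K]
    (a b : R) (ha : ¬ IsUnit a) (hab : IsRelPrime a b) (ha0 : a ≠ 0) (hb0 : b ≠ 0)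
    (t : K) (ht : t = algebraMap R K a / algebraMap R K b) :
    (IsLocalRing.maximalIdeal R).map (algebraMap R (Algebra.adjoin R {t})) ⊔
      Ideal.span {(⟨t, subset_adjoin rfl⟩ : Algebra.adjoin R {t})} ≠ ⊤ := by
  intro htop
  have haK : algebraMap R K a ≠ 0 := (map_ne_zero_iff _ (IsFractionRing.injective R K)).mpr ha0
  have hbK : algebraMap R K b ≠ 0 := (map_ne_zero_iff _ (IsFractionRing.injective R K)).mpr hb0
  have ht0 : t ≠ 0 := by rw [ht]; exact div_ne_zero haK hbK
  let _ := invertibleOfNonzero ht0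
  obtain ⟨p, hp, hpx⟩ := exists_aeval_invOf_eq_zero_of_idealMap_adjoin_sup_span_eq_top t
    (IsLocalRing.maximalIdeal R) (IsLocalRing.maximalIdeal.isMaximal R).ne_top htop
  have hlc : IsUnit p.leadingCoeff := by
    by_contra h
    have h1 : p.leadingCoeff ∈ IsLocalRing.maximalIdeal R := (IsLocalRing.mem_maximalIdeal _).mpr h
    have h2 := sub_mem h1 hp
    rw [sub_sub_cancel] at h2
    exact (IsLocalRing.maximalIdeal.isMaximal R).ne_top ((Ideal.eq_top_iff_one _).mpr h2)
  have hden := den_dvd_of_is_root hpx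
  have hdu : IsUnit (den R (⅟t) : R) := isUnit_of_dvd_unit hden hlc
  -- `⅟t = b / a = num / den`
  have hinv : ⅟t = algebraMap R K b / algebraMap R K a := by
    rw [invOf_eq_inv, ht, inv_div]
  have hnd := mk'_num_den' R (⅟t)
  have hden0 : algebraMap R K (den R (⅟t) : R) ≠ 0 :=
    (map_ne_zero_iff _ (IsFractionRing.injective R K)).mpr (nonZeroDivisors.ne_zero (den R (⅟t)).2)
  have hcross : b * (den R (⅟t) : R) = num R (⅟t) * a := by
    apply IsFractionRing.injective R K
    rw [map_mul, map_mul]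
    have h3 : algebraMap R K (num R (⅟t)) / algebraMap R K (den R (⅟t) : R) =
        algebraMap R K b / algebraMap R K a := hnd.trans hinv
    rw [div_eq_div_iff hden0 haK] at h3
    rw [← h3, mul_comm]
  have hdvd : a ∣ b * (den R (⅟t) : R) := ⟨num R (⅟t), by rw [hcross, mul_comm]⟩
  have hdvd2 : a ∣ (den R (⅟t) : R) := hab.dvd_of_dvd_mul_left hdvd
  exact ha (isUnit_of_dvd_unit hdvd2 hdu)

end

/-- Let R be a strictly henselian Noetherian local unique factorization domain and Δ₁, Δ₂ two non-units
of R with no common prime factor. Then there are a discrete valuation ring A and an injective local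
homomorphism f : R → A — so that Spec A → Spec R sends the closed point to the closed point and the
generic point to the generic point, which lies in every dense open subset — such that f(Δ₁) is a
non-zero non-unit and f(Δ₁) = u · f(Δ₂) for some unit u of A congruent to 1 modulo the maximal
ideal. (The published statement asks for the images of Δ₁ and Δ₂ in A to be equal, with the generic
point of Spec A sent into a given dense open subset of Spec R; that cannot hold in general — for R =
ℂ[[a,b]], Δ₁ = a, Δ₂ = b and the dense open D(a − b), any local map to a discrete valuation ring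
identifying a and b sends the generic point into V(a − b) — so this row asks instead for f(Δ₁) = u ·
f(Δ₂) with u a unit congruent to 1 modulo the maximal ideal.) -/
theorem result
    (R : Type u) [CommRing R] [IsDomain R] [IsNoetherianRing R] [UniqueFactorizationMonoid R]
    [HenselianLocalRing R] [IsSepClosed (IsLocalRing.ResidueField R)]
    (Δ₁ Δ₂ : R) (h₁ : ¬ IsUnit Δ₁) (h₂ : ¬ IsUnit Δ₂) (hcop : IsRelPrime Δ₁ Δ₂) :
    ∃ (A : Type u) (_ : CommRing A) (_ : IsDomain A) (_ : IsDiscreteValuationRing A) (f : R →+* A),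
      IsLocalHom f ∧ Function.Injective f ∧ ¬ IsUnit (f Δ₁) ∧
        ∃ u : Aˣ, (u : A) - 1 ∈ IsLocalRing.maximalIdeal A ∧ f Δ₁ = (u : A) * f Δ₂ := by
  have hΔ2 : Δ₂ ≠ 0 := by
    rintro rfl
    exact h₁ (isRelPrime_zero_right.mp hcop)
  obtain ⟨a, ha⟩ : ∃ a : R, a = Δ₁ - Δ₂ := ⟨_, rfl⟩
  have hm1 : Δ₁ ∈ IsLocalRing.maximalIdeal R := (IsLocalRing.mem_maximalIdeal _).mpr h₁
  have hm2 : Δ₂ ∈ IsLocalRing.maximalIdeal R := (IsLocalRing.mem_maximalIdeal _).mpr h₂
  have ham : a ∈ IsLocalRing.maximalIdeal R := ha ▸ sub_mem hm1 hm2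
  have ha_nu : ¬ IsUnit a := (IsLocalRing.mem_maximalIdeal _).mp ham
  have ha0 : a ≠ 0 := by
    intro h
    have h1 : Δ₁ = Δ₂ := sub_eq_zero.mp (ha ▸ h)
    rw [h1] at hcop
    exact h₂ (hcop dvd_rfl dvd_rfl)
  have hab : IsRelPrime a Δ₂ := fun d hd1 hd2 =>
    hcop (by have := dvd_add hd1 hd2; rwa [ha, sub_add_cancel] at this) hd2
  obtain ⟨t, ht⟩ : ∃ t : FractionRing R,
      t = algebraMap R (FractionRing R) a / algebraMap R (FractionRing R) Δ₂ := ⟨_, rfl⟩
  have hJ := ideal_ne_top R (FractionRing R) a Δ₂ ha_nu hab ha0 hΔ2 t ht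
  obtain ⟨M, hMmax, hJM⟩ := Ideal.exists_le_maximal _ hJ
  have hBN : IsNoetherianRing (Algebra.adjoin R {t}) := by
    have : Algebra.FiniteType R (Algebra.adjoin R {t}) := by
      refine (Subalgebra.fg_iff_finiteType _).mp ?_
      have := Subalgebra.fg_adjoin_finset (R := R) ({t} : Finset (FractionRing R))
      simpa using this
    exact Algebra.FiniteType.isNoetherianRing R _
  have hMprime : M.IsPrime := hMmax.isPrime
  have htM : (⟨t, Algebra.subset_adjoin rfl⟩ : Algebra.adjoin R {t}) ∈ M :=
    hJM (Ideal.mem_sup_right (Ideal.mem_span_singleton_self _))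
  have hmM : ∀ r ∈ IsLocalRing.maximalIdeal R, algebraMap R (Algebra.adjoin R {t}) r ∈ M :=
    fun r hr => hJM (Ideal.mem_sup_left (Ideal.mem_map_of_mem _ hr))
  have haK : algebraMap R (FractionRing R) a ≠ 0 :=
    (map_ne_zero_iff _ (IsFractionRing.injective R _)).mpr ha0
  have hbK : algebraMap R (FractionRing R) Δ₂ ≠ 0 :=
    (map_ne_zero_iff _ (IsFractionRing.injective R _)).mpr hΔ2
  have ht0 : t ≠ 0 := by rw [ht]; exact div_ne_zero haK hbK
  have hM0 : M ≠ ⊥ := by
    intro h
    rw [h, Ideal.mem_bot] at htM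
    exact ht0 (congrArg Subtype.val htM)
  have hT : Subfield.closure (Set.range (algebraMap (Algebra.adjoin R {t}) (FractionRing R)) ∪
      ((∅ : Finset (FractionRing R)) : Set (FractionRing R))) = ⊤ := by
    rw [eq_top_iff]
    intro z _
    obtain ⟨c, d, hd, rfl⟩ := IsFractionRing.div_surjective (A := R) z
    exact div_mem (Subfield.subset_closure (Or.inl ⟨algebraMap R _ c, rfl⟩))
      (Subfield.subset_closure (Or.inl ⟨algebraMap R _ d, rfl⟩))
  obtain ⟨R', hR', hBR', hlt⟩ := Groth.Agent.Lib.Helper13.Dvr.exists_dvr_of_prime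
    (Algebra.adjoin R {t}) Subtype.val_injective M hM0 ∅ hT
  have hRR' : ∀ r : R, algebraMap R (FractionRing R) r ∈ R'.toSubring :=
    fun r => hBR' (algebraMap R _ r)
  have hltR : ∀ r ∈ IsLocalRing.maximalIdeal R, R'.valuation (algebraMap R (FractionRing R) r) < 1 :=
    fun r hr => hlt _ (hmM r hr)
  have hltt : R'.valuation t < 1 := hlt _ htM
  have htR' : t ∈ R' := hBR' ⟨t, Algebra.subset_adjoin rfl⟩
  have hu1 : R'.valuation (1 + t) = 1 := Valuation.map_one_add_of_lt _ hltt
  have hutR' : 1 + t ∈ R' := R'.add_mem _ _ R'.one_mem htR'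
  have huu : IsUnit (⟨1 + t, hutR'⟩ : R') := (R'.valuation_eq_one_iff _).mpr hu1
  refine ⟨R', inferInstance, inferInstance, hR',
    (algebraMap R (FractionRing R)).codRestrict R'.toSubring hRR', ?_, ?_, ?_, huu.unit, ?_, ?_⟩
  · constructor
    intro r hr
    by_contra hnu
    have h2 := hltR r ((IsLocalRing.mem_maximalIdeal _).mpr hnu)
    have h3 := (R'.valuation_lt_one_iff ⟨algebraMap R (FractionRing R) r, hRR' r⟩).mpr h2
    exact (IsLocalRing.mem_maximalIdeal _).mp h3 hr
  · intro r s hrs
    exact IsFractionRing.injective R (FractionRing R) (congrArg Subtype.val hrs)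
  · intro hu
    have h2 := hltR Δ₁ hm1
    have h3 := (R'.valuation_lt_one_iff ⟨algebraMap R (FractionRing R) Δ₁, hRR' Δ₁⟩).mpr h2
    exact (IsLocalRing.mem_maximalIdeal _).mp h3 hu
  · rw [R'.valuation_lt_one_iff]
    have : ((huu.unit : R') - 1 : R') = ⟨t, htR'⟩ := by
      apply Subtype.ext
      simp
    rw [this]
    exact hltt
  · apply Subtype.ext
    change algebraMap R (FractionRing R) Δ₁ = (1 + t) * algebraMap R (FractionRing R) Δ₂
    rw [ht, ha, map_sub]
    field_simp
    ring

end Groth.Agent.S13204
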