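import Groth.Statements.S13341

set_option autoImplicit false
open CategoryTheory
universe u
open FCompl

namespace Groth.Agent.S13341

open AlgebraicGeometry CategoryTheory.Limits

section General

variable {C : Type*} [Category C] [HasPullbacks C] {X X' Y Y' S S' : C}
  (p : X ⟶ S) (q : Y ⟶ S) (p' : X' ⟶ S') (q' : Y' ⟶ S') (ιX : X ⟶ X') (ιY : Y ⟶ Y') (ιS : S ⟶ S')
  (e₁ : p ≫ ιS = ιX ≫ p') (e₂ : q ≫ ιS = ιY ≫ q') (f : X ⟶ Y) (f' : X' ⟶ Y')
  (hf : f ≫ ιY = ιX ≫ f') (w : 𝟙 X ≫ p = f ≫ q) (w' : 𝟙 X' ≫ p' = f' ≫ q')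

include hf in
theorem isPullback_graph [Mono ιY] :
    IsPullback ιX (pullback.lift (𝟙 X) f w) (pullback.lift (𝟙 X') f' w')
      (pullback.map p q p' q' ιX ιY ιS e₁ e₂) := by
  have m1 : pullback.map p q p' q' ιX ιY ιS e₁ e₂ ≫ pullback.fst p' q' = pullback.fst p q ≫ ιX :=
    pullback.lift_fst _ _ _
  have m2 : pullback.map p q p' q' ιX ιY ιS e₁ e₂ ≫ pullback.snd p' q' = pullback.snd p q ≫ ιY :=
    pullback.lift_snd _ _ _
  have g1 : pullback.lift (𝟙 X) f w ≫ pullback.fst p q = 𝟙 X := pullback.lift_fst _ _ _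
  have g2 : pullback.lift (𝟙 X) f w ≫ pullback.snd p q = f := pullback.lift_snd _ _ _
  have g1' : pullback.lift (𝟙 X') f' w' ≫ pullback.fst p' q' = 𝟙 X' := pullback.lift_fst _ _ _
  have g2' : pullback.lift (𝟙 X') f' w' ≫ pullback.snd p' q' = f' := pullback.lift_snd _ _ _
  have hw : ιX ≫ pullback.lift (𝟙 X') f' w' =
      pullback.lift (𝟙 X) f w ≫ pullback.map p q p' q' ιX ιY ιS e₁ e₂ := by
    apply pullback.hom_ext
    · rw [Category.assoc, Category.assoc, g1', m1, ← Category.assoc, g1, Category.comp_id,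
        Category.id_comp]
    · rw [Category.assoc, Category.assoc, g2', m2, ← Category.assoc, g2, hf]
  refine ⟨⟨hw⟩, ⟨?_⟩⟩
  have key : ∀ s : PullbackCone (pullback.lift (𝟙 X') f' w') (pullback.map p q p' q' ιX ιY ιS e₁ e₂),
      (s.snd ≫ pullback.fst p q) ≫ ιX = s.fst := by
    intro s
    have hc := s.condition
    have h1 := congrArg (· ≫ pullback.fst p' q') hc
    simp only [Category.assoc] at h1
    rw [g1', m1, Category.comp_id] at h1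
    rw [Category.assoc, h1]
  refine PullbackCone.IsLimit.mk hw (fun s => s.snd ≫ pullback.fst p q)
    (fun s => key s) (fun s => ?_) (fun s m h1 h2 => ?_)
  · apply pullback.hom_ext
    · rw [Category.assoc, g1, Category.comp_id]
    · rw [Category.assoc, g2, ← cancel_mono ιY, Category.assoc, hf, ← Category.assoc, key s]
      have hc := s.condition
      have h1 := congrArg (· ≫ pullback.snd p' q') hc
      simp only [Category.assoc] at h1
      rw [g2', m2] at h1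
      rw [h1, Category.assoc]
  · rw [← h2, Category.assoc, g1, Category.comp_id]

end General

theorem isAdicHom_graph {𝔛 𝔜 𝔖 : FSch.Sys.{u}} (p : 𝔛 ⟶ 𝔖) (q : 𝔜 ⟶ 𝔖) (f : 𝔛 ⟶ 𝔜)
    (w : f ≫ q = p) (hm : ∀ n, Mono (𝔜.ι n)) : FSch.IsAdicHom (FSch.graph f p q w) := by
  intro n
  have := hm n
  exact isPullback_graph ((p : FSch.Hom 𝔛 𝔖).app n) ((q : FSch.Hom 𝔜 𝔖).app n)
    ((p : FSch.Hom 𝔛 𝔖).app (n + 1)) ((q : FSch.Hom 𝔜 𝔖).app (n + 1)) (𝔛.ι n) (𝔜.ι n) (𝔖.ι n)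
    ((p : FSch.Hom 𝔛 𝔖).comm n) ((q : FSch.Hom 𝔜 𝔖).comm n) ((f : FSch.Hom 𝔛 𝔜).app n)
    ((f : FSch.Hom 𝔛 𝔜).app (n + 1)) ((f : FSch.Hom 𝔛 𝔜).comm n) _ _


open AlgebraicGeometry in
/-- Formal schemes are presented as locally Noetherian adic systems of thickenings and the fibre product
is taken levelwise (it presents the fibre product of formal schemes since one factor is adic over
the base). Let 𝔖 be a locally Noetherian formal system, 𝔛 and 𝔜 locally Noetherian formal systems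
over 𝔖 such that 𝔛 or 𝔜 is of finite type over 𝔖, and 𝔜 separated over 𝔖 at level 0. Then for every
𝔖-morphism f : 𝔛 → 𝔜 the graph morphism 𝔛 → 𝔛 ×_𝔖 𝔜 is a closed immersion: adic, with level 0 a
closed immersion. -/
theorem result {𝔛 𝔜 𝔖 : FSch.Sys.{u}} (h𝔖 : 𝔖.IsLocNoethFormal) (h𝔛 : 𝔛.IsLocNoethFormal)
    (h𝔜 : 𝔜.IsLocNoethFormal) (p : 𝔛 ⟶ 𝔖) (q : 𝔜 ⟶ 𝔖) (hpq : FSch.IsFiniteTypeHom p ∨ FSch.IsFiniteTypeHom q)
    (hq : IsSeparated ((q : FSch.Hom 𝔜 𝔖).app 0)) (f : 𝔛 ⟶ 𝔜) (w : f ≫ q = p) :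
    FSch.IsClosedImmHom (FSch.graph f p q w) := by
  refine ⟨isAdicHom_graph p q f w (fun n => ?_), ?_⟩
  · have := (h𝔜.1 n).1
    infer_instance
  · have e : (f : FSch.Hom 𝔛 𝔜).app 0 ≫ (q : FSch.Hom 𝔜 𝔖).app 0 = (p : FSch.Hom 𝔛 𝔖).app 0 := by
      rw [← FSch.comp_app, w]
    show IsClosedImmersion (pullback.lift (𝟙 _) ((f : FSch.Hom 𝔛 𝔜).app 0) _)
    have key : ∀ (p0 : 𝔛.X 0 ⟶ 𝔖.X 0) (hp0 : (f : FSch.Hom 𝔛 𝔜).app 0 ≫ (q : FSch.Hom 𝔜 𝔖).app 0 = p0)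
        (w0 : 𝟙 _ ≫ p0 = (f : FSch.Hom 𝔛 𝔜).app 0 ≫ (q : FSch.Hom 𝔜 𝔖).app 0),
        IsClosedImmersion (pullback.lift (𝟙 _) ((f : FSch.Hom 𝔛 𝔜).app 0) w0) := by
      intro p0 hp0 w0
      subst hp0
      infer_instance
    exact key _ e _

end Groth.Agent.S13341
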