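import Groth.Statements.S13347
import Groth.Agent.Lib.Helper13.ThickAffineC
import Groth.Agent.Lib.Helper13.SeqLimSurj

set_option autoImplicit false
open CategoryTheory CategoryTheory.Limits
universe u
open Opposite
open FCompl

namespace Groth.Agent.S13347

open AlgebraicGeometry in
/-- Let (X_i) be an inductive system of preschemes on one underlying space with surjective transition
homomorphisms whose kernels O_{X_i} → O_{X_0} are locally nilpotent — here a system of thickenings
(closed immersions surjective on points) with the kernel ideal of X_0 → X_i nilpotent on every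
affine open of X_i — and O_𝔛 = lim O_{X_i} the structure sheaf of the formal prescheme it defines.
Then the canonical homomorphisms O_𝔛 → O_{X_i} are surjective: over every affine open U of X_0 the
map on sections Γ(U, O_𝔛) → Γ(U_i, O_{X_i}) is onto. -/
theorem result (𝔛 : FSch.Sys.{u}) (h : 𝔛.IsFormal)
    (hb : ∀ (i : ℕ) (V : (𝔛.X i).affineOpens), IsNilpotent ((𝔛.toX i).ker.ideal V))
    (i : ℕ) (U : (𝔛.X 0).Opens) (hU : IsAffineOpen U) :
    Function.Surjective ((𝔛.OshProj h i).hom.app (op U)) := by
  classical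
  open AlgebraicGeometry in
  have hpre : ∀ m : ℕ, (𝔛.toX m) ⁻¹ᵁ (𝔛.lvU h m U) = U := by
    intro m
    change (TopologicalSpace.Opens.map ((𝔛.toX m).base ≫ 𝔛.gInv h m)).obj U = _
    rw [FSch.Sys.toX_base_gInv]
    rfl
  open AlgebraicGeometry in
  have haff : ∀ m : ℕ, IsAffineOpen (𝔛.lvU h m U) := by
    intro m
    haveI := FSch.Sys.toX_isClosedImmersion 𝔛 h m
    apply Groth.Agent.Lib.Helper13.ThickAffine.isAffineOpen_of_isAffineOpen_preimage (𝔛.toX m)
      (FSch.Sys.toX_surjective 𝔛 h m)
    rw [hpre]
    exact hU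
  let E : Sheaf (Opens.grothendieckTopology (𝔛.X 0)) CommRingCat.{u} ⥤ CommRingCat.{u} :=
    sheafToPresheaf _ _ ⋙ (evaluation _ _).obj (op U)
  have hc : IsLimit ((E ⋙ forget CommRingCat).mapCone (limit.cone (𝔛.levelRing h))) :=
    isLimitOfPreserves _ (limit.isLimit _)
  have hF : ∀ n, Function.Surjective
      ((𝔛.levelRing h ⋙ E ⋙ forget CommRingCat).map (homOfLE (Nat.le_succ n)).op) := by
    intro n
    have h1 : (𝔛.levelRing h).map (homOfLE (Nat.le_succ n)).op = 𝔛.levelMap h n :=
      FSch.Sys.levelRing_map_succ 𝔛 h n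
    change Function.Surjective (((𝔛.levelRing h).map (homOfLE (Nat.le_succ n)).op).hom.app (op U))
    rw [h1, FSch.Sys.levelMap_app]
    haveI := (h n).1
    exact Groth.Agent.Lib.Helper13.ThickAffine.pb_surjective (𝔛.ι n) (haff (n + 1))
      (𝔛.lvU_succ h n U)
  exact Groth.Agent.Lib.Helper13.SeqLimSurj.surjective_π_app_of_surjective_map hc hF i

end Groth.Agent.S13347
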