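import Groth.Statements.S13358
import Groth.Agent.Lib.Helper1.LazS

set_option autoImplicit false
universe u
open GaDual

namespace Groth.Agent.S13358

open Groth.Agent.Lib.Helper1.LazCore Groth.Agent.Lib.Helper1.LazBridge
  Groth.Agent.Lib.Helper1.LazAsm Groth.Agent.Lib.Helper1.LazS in

/-- Over a commutative algebra R of prime characteristic p, a polynomial F(X,Y) is symmetric and
satisfies the two-cocycle identity F(X,Y+Z) + F(Y,Z) − F(X+Y,Z) − F(X,Y) = 0 if and only if it has
the form G(X+Y) − G(X) − G(Y) + Σ_i r_i S(X^(p^i), Y^(p^i)) with G a one-variable polynomial, r_i in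
R and S(X,Y) = Σ_{0<j<p} (C(p,j)/p) X^j Y^(p−j) the reduction mod p of ((X+Y)^p − X^p − Y^p)/p. -/
theorem result (p : ℕ) [Fact p.Prime] (R : Type u) [CommRing R] [CharP R p]
    (F : MvPolynomial (Fin 2) R) :
    (MvPolynomial.aeval ![MvPolynomial.X 1, MvPolynomial.X 0] F = F ∧
      MvPolynomial.aeval ![MvPolynomial.X 0, MvPolynomial.X 1 + MvPolynomial.X 2] F
          + MvPolynomial.aeval ![MvPolynomial.X 1, MvPolynomial.X 2] F
          - MvPolynomial.aeval ![MvPolynomial.X 0 + MvPolynomial.X 1, MvPolynomial.X 2] F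
          - MvPolynomial.aeval ![MvPolynomial.X 0, MvPolynomial.X 1] F = (0 : MvPolynomial (Fin 3) R)) ↔
      ∃ (G : Polynomial R) (N : ℕ) (r : ℕ → R),
        F = Polynomial.aeval (MvPolynomial.X 0 + MvPolynomial.X 1 : MvPolynomial (Fin 2) R) G
              - Polynomial.aeval (MvPolynomial.X 0 : MvPolynomial (Fin 2) R) G
              - Polynomial.aeval (MvPolynomial.X 1 : MvPolynomial (Fin 2) R) G
            + ∑ i ∈ Finset.range N, MvPolynomial.C (r i) *
                MvPolynomial.aeval ![MvPolynomial.X 0 ^ p ^ i, MvPolynomial.X 1 ^ p ^ i]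
                  (∑ j ∈ Finset.Ioo 0 p, MvPolynomial.C ((p.choose j / p : ℕ) : R) *
                    MvPolynomial.X 0 ^ j * MvPolynomial.X 1 ^ (p - j) : MvPolynomial (Fin 2) R) := by
  have hform : ∀ (G : Polynomial R) (N : ℕ) (r : ℕ → R),
      Polynomial.aeval (MvPolynomial.X 0 + MvPolynomial.X 1 : MvPolynomial (Fin 2) R) G
              - Polynomial.aeval (MvPolynomial.X 0 : MvPolynomial (Fin 2) R) G
              - Polynomial.aeval (MvPolynomial.X 1 : MvPolynomial (Fin 2) R) G
            + ∑ i ∈ Finset.range N, MvPolynomial.C (r i) *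
                MvPolynomial.aeval ![MvPolynomial.X 0 ^ p ^ i, MvPolynomial.X 1 ^ p ^ i]
                  (∑ j ∈ Finset.Ioo 0 p, MvPolynomial.C ((p.choose j / p : ℕ) : R) *
                    MvPolynomial.X 0 ^ j * MvPolynomial.X 1 ^ (p - j) : MvPolynomial (Fin 2) R) =
      dG G + ∑ k ∈ Finset.range N, MvPolynomial.C (r k) * Sq p R (p ^ k) := fun _ _ _ => rfl
  constructor
  · rintro ⟨hsym, hcoc⟩
    have hcoc' : coc3 F = 0 := hcoc
    obtain ⟨G, N, r, -, -, h⟩ := lazard_mod (p := p) (CharP.cast_eq_zero R p) ⊤ ⊥ F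
      (fun _ => Submodule.mem_top)
      (fun i j => by
        have : MvPolynomial.coeff (e2 i j) F = MvPolynomial.coeff (e2 j i) F := by
          conv_lhs => rw [← hsym]
          exact coeff_swap F i j
        rw [this, sub_self]; exact Submodule.zero_mem _)
      (fun m => by rw [hcoc', MvPolynomial.coeff_zero]; exact Submodule.zero_mem _)
    refine ⟨G, N, r, ?_⟩
    rw [hform]
    apply sub_eq_zero.mp
    ext m
    have := h m
    rw [Ideal.mem_bot] at this
    rw [this, MvPolynomial.coeff_zero]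
  · rintro ⟨G, N, r, hF⟩
    rw [hform] at hF
    constructor
    · rw [hF, map_add, swap_dG, map_sum]
      congr 1
      apply Finset.sum_congr rfl
      intro k _
      rw [map_mul, MvPolynomial.aeval_C, swap_Sq]
      rfl
    · change coc3 F = 0
      rw [hF, ← coc3L_apply, map_add, map_sum, coc3L_apply, coc3_dG, zero_add]
      apply Finset.sum_eq_zero
      intro k _
      rw [← MvPolynomial.smul_eq_C_mul, map_smul, coc3L_apply, coc3_Sq, smul_zero]

end Groth.Agent.S13358
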