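import Groth.Statements.S13359
import Mathlib
-- import your own Groth.Agent.* helpers here

set_option autoImplicit false
universe u
open UltraProd

namespace Groth.Agent.S13359

section helpers
variable {ι : Type u} (R : ι → Type u) [∀ i, CommRing (R i)]

open Classical in
/-- indicator idempotent -/
noncomputable def ind (E : Set ι) : ∀ i, R i := fun i => if i ∈ E then 1 else 0

lemma ind_mul (E F : Set ι) : ind R E * ind R F = ind R (E ∩ F) := by
  funext i
  by_cases h1 : i ∈ E <;> by_cases h2 : i ∈ F <;> simp [ind, h1, h2]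

lemma ind_add_compl (E : Set ι) : ind R E + ind R Eᶜ = 1 := by
  funext i
  by_cases h1 : i ∈ E <;> simp [ind, h1]

lemma ind_mul_eq_zero (E : Set ι) (a : ∀ i, R i) (h : ∀ i ∈ E, a i = 0) : ind R E * a = 0 := by
  funext i
  by_cases h1 : i ∈ E
  · simp [ind, h1, h i h1]
  · simp [ind, h1]

lemma ind_mul_eq_self (E : Set ι) (a : ∀ i, R i) (h : ∀ i, i ∉ E → a i = 0) :
    ind R E * a = a := by
  funext i
  by_cases h1 : i ∈ E
  · simp [ind, h1]
  · simp [ind, h1, h i h1]

variable (P : Ideal (∀ i, R i)) [P.IsPrime]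

/-- the ultrafilter-like predicate -/
def Big (E : Set ι) : Prop := ind R E ∉ P

variable {R P}

lemma Big.inter {E F : Set ι} (hE : Big R P E) (hF : Big R P F) : Big R P (E ∩ F) := by
  intro h
  rw [← ind_mul] at h
  exact (Ideal.IsPrime.mem_or_mem ‹_› h).elim hE hF

lemma Big.mono {E F : Set ι} (hE : Big R P E) (h : E ⊆ F) : Big R P F := by
  intro hF
  apply hE
  have : ind R E = ind R E * ind R F := by rw [ind_mul, Set.inter_eq_left.mpr h]
  rw [this]
  exact P.mul_mem_left _ hF

lemma big_or_compl (E : Set ι) : Big R P E ∨ Big R P Eᶜ := by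
  by_contra h
  rw [not_or] at h
  have h1 : ind R E ∈ P := not_not.mp h.1
  have h2 : ind R Eᶜ ∈ P := not_not.mp h.2
  exact (Ideal.IsPrime.ne_top ‹_›) ((Ideal.eq_top_iff_one _).mpr
    (ind_add_compl R E ▸ P.add_mem h1 h2))

lemma big_of_notMem {u : ∀ i, R i} (hu : u ∉ P) : Big R P {i | u i ≠ 0} := by
  intro h
  apply hu
  rw [← ind_mul_eq_self R {i | u i ≠ 0} u (fun i hi => not_not.mp hi)]
  exact P.mul_mem_right _ h

variable [∀ i, IsDomain (R i)]

lemma map_eq_zero_iff_big (a : ∀ i, R i) :
    algebraMap (∀ i, R i) (Localization.AtPrime P) a = 0 ↔ Big R P {i | a i = 0} := by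
  rw [IsLocalization.map_eq_zero_iff P.primeCompl]
  constructor
  · rintro ⟨⟨u, hu⟩, hua⟩
    refine (big_of_notMem hu).mono ?_
    intro i hi
    have := congrFun hua i
    simp only [Pi.mul_apply, Pi.zero_apply, mul_eq_zero] at this
    exact this.resolve_left hi
  · intro h
    exact ⟨⟨ind R _, h⟩, ind_mul_eq_zero R _ a (fun i hi => hi)⟩

variable (R P) in
lemma isDomain_loc : IsDomain (Localization.AtPrime P) := by
  haveI : NoZeroDivisors (Localization.AtPrime P) := by
    constructor
    intro x y hxy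
    obtain ⟨a, s, rfl⟩ := IsLocalization.exists_mk'_eq P.primeCompl x
    obtain ⟨b, t, rfl⟩ := IsLocalization.exists_mk'_eq P.primeCompl y
    rw [← IsLocalization.mk'_mul, IsLocalization.mk'_eq_zero_iff,
      ← IsLocalization.map_eq_zero_iff P.primeCompl (Localization.AtPrime P),
      map_eq_zero_iff_big] at hxy
    rw [IsLocalization.mk'_eq_zero_iff, IsLocalization.mk'_eq_zero_iff,
      ← IsLocalization.map_eq_zero_iff P.primeCompl (Localization.AtPrime P),
      ← IsLocalization.map_eq_zero_iff P.primeCompl (Localization.AtPrime P),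
      map_eq_zero_iff_big, map_eq_zero_iff_big]
    rcases big_or_compl (R := R) (P := P) {i | a i = 0} with h | h
    · exact Or.inl h
    · right
      refine (h.inter hxy).mono ?_
      rintro i ⟨hi1, hi2⟩
      simp only [Set.mem_setOf_eq, Pi.mul_apply, mul_eq_zero] at hi2
      exact hi2.resolve_left hi1
  exact NoZeroDivisors.to_isDomain _

/-- the one-ring step -/
lemma dvd_of_scaleRoots {D : Type u} [CommRing D] [IsDomain D] [IsIntegrallyClosed D]
    (q : Polynomial D) (hq : q.Monic) (a b : D) (hb : b ≠ 0)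
    (h : Polynomial.eval a (q.scaleRoots b) = 0) : ∃ c, a = b * c := by
  let KD := FractionRing D
  have hinj := IsFractionRing.injective D KD
  have hfb : algebraMap D KD b ≠ 0 := fun h0 => hb (hinj (h0.trans (map_zero _).symm))
  have h1 := Polynomial.scaleRoots_eval₂_mul (p := q) (algebraMap D KD)
    (algebraMap D KD a / algebraMap D KD b) b
  rw [mul_div_cancel₀ _ hfb, Polynomial.eval₂_at_apply, h, map_zero] at h1
  have h2 : Polynomial.eval₂ (algebraMap D KD) (algebraMap D KD a / algebraMap D KD b) q = 0 :=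
    (mul_eq_zero.mp h1.symm).resolve_left (pow_ne_zero _ hfb)
  obtain ⟨c, hc⟩ := IsIntegrallyClosed.isIntegral_iff.mp
    (⟨q, hq, h2⟩ : IsIntegral D (algebraMap D KD a / algebraMap D KD b))
  refine ⟨c, hinj ?_⟩
  rw [map_mul, hc, mul_div_cancel₀ _ hfb]

variable (R P) in
lemma isIntegrallyClosed_loc [∀ i, IsIntegrallyClosed (R i)] :
    IsIntegrallyClosed (Localization.AtPrime P) := by
  haveI := isDomain_loc R P
  rw [isIntegrallyClosed_iff (FractionRing (Localization.AtPrime P))]
  intro x hx
  have hinjK := IsFractionRing.injective (Localization.AtPrime P)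
    (FractionRing (Localization.AtPrime P))
  obtain ⟨φ, hφ⟩ : ∃ φ : (∀ i, R i) →+* FractionRing (Localization.AtPrime P),
      φ = algebraMap _ _ := ⟨_, rfl⟩
  have hφ' : ∀ z, φ z = algebraMap (Localization.AtPrime P) (FractionRing (Localization.AtPrime P))
      (algebraMap _ _ z) := by
    intro z
    rw [hφ, IsScalarTower.algebraMap_apply (∀ i, R i) (Localization.AtPrime P)]
  have hφunit : ∀ z, z ∉ P → φ z ≠ 0 := by
    intro z hz h0
    rw [hφ', map_eq_zero_iff _ hinjK] at h0
    exact (IsLocalization.map_units (Localization.AtPrime P) (⟨z, hz⟩ : P.primeCompl)).ne_zero h0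
  -- write x = φ a / φ b
  obtain ⟨a, b, hb, hx'⟩ : ∃ a b : (∀ i, R i), φ b ≠ 0 ∧ x = φ a / φ b := by
    obtain ⟨α, β, hβ, rfl⟩ := IsFractionRing.div_surjective (Localization.AtPrime P) x
    obtain ⟨a, s, rfl⟩ := IsLocalization.exists_mk'_eq P.primeCompl α
    obtain ⟨b, t, rfl⟩ := IsLocalization.exists_mk'_eq P.primeCompl β
    have hs := hφunit s s.2
    have ht := hφunit t t.2
    have h1 : algebraMap _ (FractionRing (Localization.AtPrime P))
        (IsLocalization.mk' (Localization.AtPrime P) a s) * φ s = φ a := by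
      rw [hφ', hφ', ← map_mul, IsLocalization.mk'_spec]
    have h2 : algebraMap _ (FractionRing (Localization.AtPrime P))
        (IsLocalization.mk' (Localization.AtPrime P) b t) * φ t = φ b := by
      rw [hφ', hφ', ← map_mul, IsLocalization.mk'_spec]
    have hβ' : algebraMap _ (FractionRing (Localization.AtPrime P))
        (IsLocalization.mk' (Localization.AtPrime P) b t) ≠ 0 := by
      intro h0
      rw [map_eq_zero_iff _ hinjK] at h0
      exact (nonZeroDivisors.ne_zero hβ) h0
    have hb0 : φ b ≠ 0 := by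
      rw [← h2]
      exact mul_ne_zero hβ' ht
    refine ⟨a * t, b * s, ?_, ?_⟩
    · rw [map_mul]
      exact mul_ne_zero hb0 hs
    · rw [map_mul, map_mul, ← h1, ← h2]
      field_simp
  obtain ⟨w, hw⟩ := IsIntegral.exists_multiple_integral_of_isLocalization P.primeCompl
    (Rₘ := Localization.AtPrime P) x hx
  obtain ⟨q, hqm, hq⟩ := hw
  have hwx : w • x = φ (w * a) / φ b := by
    rw [Submonoid.smul_def, Algebra.smul_def, hx', map_mul, ← hφ, mul_div_assoc]
  rw [← hφ, hwx] at hq
  have h1 := Polynomial.scaleRoots_eval₂_mul (p := q) φ (φ (w * a) / φ b) b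
  rw [mul_div_cancel₀ _ hb, Polynomial.eval₂_at_apply, hq, mul_zero] at h1
  obtain ⟨d, hd⟩ : ∃ d, d = Polynomial.eval (↑w * a) (q.scaleRoots b) := ⟨_, rfl⟩
  rw [← hd, hφ', map_eq_zero_iff _ hinjK, map_eq_zero_iff_big] at h1
  have hbig2 : Big R P {i | b i ≠ 0} := by
    rcases big_or_compl (R := R) (P := P) {i | b i = 0} with h | h
    · exfalso
      apply hb
      rw [hφ', (map_eq_zero_iff_big b).mpr h, map_zero]
    · exact h
  have hE := h1.inter hbig2
  have hcomp : ∀ i, d i = Polynomial.eval ((↑w * a) i)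
      ((q.map (Pi.evalRingHom R i)).scaleRoots (b i)) := by
    intro i
    have hlc : (Pi.evalRingHom R i) q.leadingCoeff ≠ 0 := by
      rw [hqm.leadingCoeff, map_one]
      exact one_ne_zero
    have := Polynomial.map_scaleRoots q b (Pi.evalRingHom R i) hlc
    change _ = Polynomial.eval (Pi.evalRingHom R i (↑w * a))
      ((q.map (Pi.evalRingHom R i)).scaleRoots (Pi.evalRingHom R i b))
    rw [← this, Polynomial.eval_map, Polynomial.eval₂_at_apply, ← hd]
    rfl
  have hex : ∀ i, i ∈ {i | d i = 0} ∩ {i | b i ≠ 0} → ∃ c : R i, (↑w * a) i = b i * c := by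
    rintro i ⟨hi1, hi2⟩
    refine dvd_of_scaleRoots (q.map (Pi.evalRingHom R i)) (hqm.map _) _ _ hi2 ?_
    rw [← hcomp i]
    exact hi1
  classical
  obtain ⟨c, hc⟩ : ∃ c : ∀ i, R i, ∀ i, i ∈ {i | d i = 0} ∩ {i | b i ≠ 0} →
      (↑w * a) i = b i * c i := by
    refine ⟨fun i => if h : i ∈ {i | d i = 0} ∩ {i | b i ≠ 0} then (hex i h).choose else 0, ?_⟩
    intro i hi
    simp only [dif_pos hi]
    exact (hex i hi).choose_spec
  have hzero : algebraMap (∀ i, R i) (Localization.AtPrime P) (↑w * a - b * c) = 0 := by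
    rw [IsLocalization.map_eq_zero_iff P.primeCompl]
    refine ⟨⟨ind R _, hE⟩, ind_mul_eq_zero R _ _ ?_⟩
    intro i hi
    simp only [Pi.sub_apply, Pi.mul_apply]
    have := hc i hi
    simp only [Pi.mul_apply] at this
    rw [this, sub_self]
  have hwc : φ (↑w * a) = φ b * φ c := by
    rw [← map_mul, hφ', hφ', ← sub_eq_zero, ← map_sub, ← map_sub, hzero, map_zero]
  refine ⟨IsLocalization.mk' (Localization.AtPrime P) c w, ?_⟩
  have hw0 := hφunit w w.2
  have h3 : algebraMap _ (FractionRing (Localization.AtPrime P))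
      (IsLocalization.mk' (Localization.AtPrime P) c w) * φ w = φ c := by
    rw [hφ', hφ', ← map_mul, IsLocalization.mk'_spec]
  rw [hx', eq_div_iff hb]
  rw [map_mul] at hwc
  have : algebraMap _ (FractionRing (Localization.AtPrime P))
      (IsLocalization.mk' (Localization.AtPrime P) c w) * φ b * φ w = φ a * φ w := by
    rw [mul_right_comm, h3, mul_comm (φ c), ← hwc, mul_comm]
  exact mul_right_cancel₀ hw0 this

end helpers

/-- If (R_i) is a nonempty family of integrally closed domains, then the localization of the product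
ring ∏ R_i at any prime ideal is an integrally closed domain. -/
theorem result {ι : Type u} [Nonempty ι] (R : ι → Type u)
    [∀ i, CommRing (R i)] [∀ i, IsDomain (R i)] [∀ i, IsIntegrallyClosed (R i)]
    (P : Ideal (∀ i, R i)) [P.IsPrime] :
    IsDomain (Localization.AtPrime P) ∧ IsIntegrallyClosed (Localization.AtPrime P) := by
  exact ⟨isDomain_loc R P, isIntegrallyClosed_loc R P⟩

end Groth.Agent.S13359
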