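import Groth.Statements.S13361
import Mathlib

set_option autoImplicit false
universe u
open ProCompl

namespace Groth.Agent.S13361

/-- A finite abelian group with a nonzero element contained in every nonzero subgroup is isomorphic to a
cyclic group of prime-power order Z/p^n. -/
theorem result {A : Type u} [AddCommGroup A] [Finite A]
    (a : A) (ha : a ≠ 0) (h : ∀ B : AddSubgroup A, B ≠ ⊥ → a ∈ B) :
    ∃ p n : ℕ, p.Prime ∧ Nonempty (A ≃+ ZMod (p ^ n)) := by
  classical
  obtain ⟨ι, _, p, hp, e, ⟨f⟩⟩ := AddCommGroup.equiv_directSum_zmod_of_finite A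
  set D := DirectSum ι (fun i => ZMod (p i ^ e i)) with hD
  have ha' : f a ≠ 0 := fun h0 => ha (f.injective (by rw [h0, map_zero]))
  have hmem : ∀ B : AddSubgroup D, B ≠ ⊥ → f a ∈ B := by
    intro B hB
    have : B.comap f.toAddMonoidHom ≠ ⊥ := by
      intro h0
      apply hB
      rw [AddSubgroup.eq_bot_iff_forall] at h0 ⊢
      intro x hx
      have := h0 (f.symm x) (by simp [AddSubgroup.mem_comap, hx])
      rw [← f.apply_symm_apply x, this, map_zero]
    exact h _ this
  -- any index with nontrivial factor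
  have hfac : ∀ i : ι, e i ≠ 0 → ∃ z : ZMod (p i ^ e i), f a = DirectSum.of _ i z := by
    intro i hi
    have hnt : Nontrivial (ZMod (p i ^ e i)) := by
      apply ZMod.nontrivial_iff.mpr
      intro h1
      have := Nat.pow_eq_one.mp h1
      rcases this with h | h
      · exact (hp i).one_lt.ne' h
      · exact hi h
    have hB : (DirectSum.of (fun i => ZMod (p i ^ e i)) i).range ≠ ⊥ := by
      intro h0
      obtain ⟨z, hz⟩ := exists_ne (0 : ZMod (p i ^ e i))
      have : DirectSum.of (fun i => ZMod (p i ^ e i)) i z ∈ (⊥ : AddSubgroup D) := by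
        rw [← h0]; exact ⟨z, rfl⟩
      rw [AddSubgroup.mem_bot] at this
      exact hz (DirectSum.of_injective (β := fun i => ZMod (p i ^ e i)) i (this.trans (map_zero _).symm))
    obtain ⟨z, hz⟩ := hmem _ hB
    exact ⟨z, hz.symm⟩
  have hex : ∃ i₀ : ι, e i₀ ≠ 0 := by
    by_contra hno
    push Not at hno
    apply ha'
    apply DFinsupp.ext
    intro i
    have : Subsingleton (ZMod (p i ^ e i)) := by
      rw [hno i, pow_zero]; infer_instance
    exact Subsingleton.elim _ _
  obtain ⟨i₀, hi₀⟩ := hex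
  have huniq : ∀ j : ι, j ≠ i₀ → e j = 0 := by
    intro j hj
    by_contra hej
    obtain ⟨z, hz⟩ := hfac i₀ hi₀
    obtain ⟨w, hw⟩ := hfac j hej
    apply ha'
    have hz0 : z = 0 := by
      have h1 : (f a) i₀ = z := by
        rw [hz]; exact DirectSum.of_eq_same (β := fun i => ZMod (p i ^ e i)) i₀ z
      have h2 : (f a) i₀ = 0 := by
        rw [hw]; exact DirectSum.of_eq_of_ne (β := fun i => ZMod (p i ^ e i)) j i₀ w (Ne.symm hj)
      rw [← h1, h2]
    rw [hz, hz0, map_zero]
  refine ⟨p i₀, e i₀, hp i₀, ⟨f.trans ?_⟩⟩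
  refine AddEquiv.ofBijective (DirectSum.component ℤ ι (fun i => ZMod (p i ^ e i)) i₀).toAddMonoidHom ⟨?_, ?_⟩
  · rw [injective_iff_map_eq_zero]
    intro x hx
    apply DFinsupp.ext
    intro i
    by_cases hii : i = i₀
    · subst hii; exact hx
    · have : Subsingleton (ZMod (p i ^ e i)) := by
        rw [huniq i hii, pow_zero]; infer_instance
      exact Subsingleton.elim _ _
  · intro z
    exact ⟨DirectSum.of _ i₀ z, DirectSum.of_eq_same (β := fun i => ZMod (p i ^ e i)) i₀ z⟩

end Groth.Agent.S13361
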