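import Groth.Statements.S13365
import Mathlib.Topology.Algebra.ClopenNhdofOne

set_option autoImplicit false
universe u
open ProCompl

namespace Groth.Agent.S13365

/-- The quotient of a profinite (compact, Hausdorff, totally disconnected) abelian topological group by
a compact subgroup is profinite. -/
theorem result {A : Type u} [AddCommGroup A] [TopologicalSpace A]
    [IsTopologicalAddGroup A] [CompactSpace A] [T2Space A] [TotallyDisconnectedSpace A]
    (B : AddSubgroup A) (hB : IsCompact (B : Set A)) :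
    CompactSpace (A ⧸ B) ∧ T2Space (A ⧸ B) ∧ TotallyDisconnectedSpace (A ⧸ B) := by
  have hBc : IsClosed (B : Set A) := hB.isClosed
  have : T3Space (A ⧸ B) := QuotientAddGroup.instT3Space B
  refine ⟨inferInstance, inferInstance, ?_⟩
  have key : ∀ x : A ⧸ B, x ≠ 0 → ∃ W : AddSubgroup (A ⧸ B), IsOpen (W : Set (A ⧸ B)) ∧ x ∉ W := by
    intro x hx
    obtain ⟨a, rfl⟩ := QuotientAddGroup.mk_surjective x
    have ha : a ∉ B := by rwa [ne_eq, QuotientAddGroup.eq_zero_iff] at hx
    have hBeq := ProfiniteGrp.closedAddSubgroup_eq_sInf_open (⟨B, hBc⟩ : ClosedAddSubgroup A)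
    have hex : ∃ N : AddSubgroup A, IsOpen (N : Set A) ∧ B ≤ N ∧ a ∉ N := by
      by_contra hcon
      push Not at hcon
      apply ha
      change a ∈ ((⟨B, hBc⟩ : ClosedAddSubgroup A) : AddSubgroup A)
      rw [hBeq, AddSubgroup.mem_sInf]
      rintro N ⟨hNo, hBN⟩
      exact hcon N hNo hBN
    obtain ⟨N, hNo, hBN, haN⟩ := hex
    refine ⟨N.map (QuotientAddGroup.mk' B), ?_, ?_⟩
    · exact QuotientAddGroup.isOpenMap_coe _ hNo
    · rintro ⟨n, hn, hna⟩
      have h1 : -n + a ∈ B := QuotientAddGroup.eq.1 hna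
      have h2 := N.add_mem hn (hBN h1)
      rw [add_neg_cancel_left] at h2
      exact haN h2
  have : TotallySeparatedSpace (A ⧸ B) := by
    rw [totallySeparatedSpace_iff_exists_isClopen]
    intro x y hxy
    obtain ⟨W, hWo, hW⟩ := key (x - y) (sub_ne_zero.2 hxy)
    have hWc : IsClopen (W : Set (A ⧸ B)) := ⟨W.isClosed_of_isOpen hWo, hWo⟩
    refine ⟨(fun z => z - x) ⁻¹' (W : Set (A ⧸ B)),
      hWc.preimage (continuous_id.sub continuous_const), ?_, ?_⟩
    · simp
    · intro hy
      apply hW
      have : y - x ∈ W := hy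
      have := W.neg_mem this
      rwa [neg_sub] at this
  infer_instance

end Groth.Agent.S13365
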