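import Groth.Statements.S13368
import Mathlib
-- import your own Groth.Agent.* helpers here

set_option autoImplicit false
set_option linter.unusedSectionVars false
set_option linter.style.haveILetI false
universe u
open GaDual

namespace Groth.Agent.S13368

open IsDiscreteValuationRing

section V

variable (p : ℕ) [hp : Fact p.Prime] {R : Type u} [CommRing R] [IsDomain R] [IsDiscreteValuationRing R]
  (π : R) (hπ : Irreducible π)

include hπ in
theorem addVal_term (b : R) (i : ℕ) :
    addVal R (π ^ i * b ^ p) = (i : ℕ∞) + (p : ℕ∞) * addVal R b := by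
  rw [addVal_mul, addVal_pow, addVal_pow, addVal_uniformizer hπ]
  simp

include hπ in
/-- key valuation lemma -/
theorem dvd_of_pow_dvd_sum (s : R) (hs : s ≠ 0) (b : Fin p → R)
    (h : s ^ p ∣ ∑ i : Fin p, π ^ (i : ℕ) * b i ^ p) : ∀ i, s ∣ b i := by
  classical
  haveI : NeZero p := ⟨hp.out.ne_zero⟩
  set w : Fin p → ℕ∞ := fun i => (i : ℕ∞) + (p : ℕ∞) * addVal R (b i) with hw
  have hwt : ∀ i : Fin p, addVal R (π ^ (i : ℕ) * b i ^ p) = w i := fun i => addVal_term p π hπ (b i) i
  obtain ⟨j, -, hj⟩ := Finset.exists_min_image Finset.univ w ⟨0, Finset.mem_univ _⟩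
  -- distinctness
  have hdist : ∀ i, i ≠ j → w j ≠ ⊤ → w j < w i := by
    intro i hij hjt
    refine lt_of_le_of_ne (hj i (Finset.mem_univ _)) (fun heq => ?_)
    have hit : w i ≠ ⊤ := heq ▸ hjt
    have hbj : addVal R (b j) ≠ ⊤ := by
      intro htop
      apply hjt
      simp only [hw, htop]
      rw [ENat.mul_top (by exact_mod_cast hp.out.ne_zero), add_top]
    have hbi : addVal R (b i) ≠ ⊤ := by
      intro htop
      apply hit
      simp only [hw, htop]
      rw [ENat.mul_top (by exact_mod_cast hp.out.ne_zero), add_top]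
    obtain ⟨aj, haj⟩ := ENat.ne_top_iff_exists.mp hbj
    obtain ⟨ai, hai⟩ := ENat.ne_top_iff_exists.mp hbi
    simp only [hw, ← haj, ← hai] at heq
    have heq' : (j : ℕ) + p * aj = (i : ℕ) + p * ai := by exact_mod_cast heq
    have hmod : (j : ℕ) % p = (i : ℕ) % p := by
      have := congrArg (· % p) heq'
      simpa [Nat.add_mul_mod_self_left] using this
    rw [Nat.mod_eq_of_lt j.2, Nat.mod_eq_of_lt i.2] at hmod
    exact hij (Fin.ext hmod.symm)
  intro i
  by_cases hjt : w j = ⊤
  · -- all terms zero
    have hit : w i = ⊤ := top_le_iff.mp (hjt ▸ hj i (Finset.mem_univ _))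
    have hbi : addVal R (b i) = ⊤ := by
      by_contra hne
      obtain ⟨ai, hai⟩ := ENat.ne_top_iff_exists.mp hne
      simp only [hw, ← hai] at hit
      exact ENat.natCast_ne_top ((i : ℕ) + p * ai) (by exact_mod_cast hit)
    rw [addVal_eq_top_iff.mp hbi]
    exact dvd_zero _
  · -- valuation of the sum is w j
    have hsum : addVal R (∑ i : Fin p, π ^ (i : ℕ) * b i ^ p) = w j := by
      rw [← Finset.add_sum_erase Finset.univ _ (Finset.mem_univ j)]
      rw [AddValuation.map_add_eq_of_lt_left, hwt]
      rw [hwt]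
      refine AddValuation.map_lt_sum _ hjt (fun i hi => ?_)
      rw [hwt]
      exact hdist i (Finset.ne_of_mem_erase hi) hjt
    have h1 : addVal R (s ^ p) ≤ w j := by
      rw [← hsum]
      exact addVal_le_iff_dvd.mpr h
    have h2 : addVal R (s ^ p) ≤ w i := h1.trans (hj i (Finset.mem_univ _))
    rw [addVal_pow] at h2
    rw [← addVal_le_iff_dvd]
    by_cases hbi : addVal R (b i) = ⊤
    · rw [hbi]; exact le_top
    · obtain ⟨ai, hai⟩ := ENat.ne_top_iff_exists.mp hbi
      have hst : addVal R s ≠ ⊤ := fun h => hs (addVal_eq_top_iff.mp h)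
      obtain ⟨as, has⟩ := ENat.ne_top_iff_exists.mp hst
      simp only [hw, ← hai, ← has] at h2 ⊢
      have h3 : p * as ≤ (i : ℕ) + p * ai := by
        have : ((p * as : ℕ) : ℕ∞) ≤ (((i : ℕ) + p * ai : ℕ) : ℕ∞) := by
          push_cast
          simpa using h2
        exact_mod_cast this
      have h4 : as ≤ ai := by
        by_contra hlt
        push Not at hlt
        have : p * (ai + 1) ≤ p * as := Nat.mul_le_mul_left p hlt
        have hi := i.2
        nlinarith
      exact_mod_cast h4


include hπ in
theorem eq_zero_of_sum_eq_zero (b : Fin p → R)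
    (h : ∑ i : Fin p, π ^ (i : ℕ) * b i ^ p = 0) : ∀ i, b i = 0 := by
  intro i
  by_contra hne
  have hs : b i * π ≠ 0 := mul_ne_zero hne hπ.ne_zero
  have := dvd_of_pow_dvd_sum p π hπ (b i * π) hs b (h ▸ dvd_zero _) i
  obtain ⟨c, hc⟩ := this
  have h1 : b i * 1 = b i * (π * c) := by rw [mul_one, ← mul_assoc]; exact hc
  have h2 := mul_left_cancel₀ hne h1
  exact hπ.not_isUnit (IsUnit.of_mul_eq_one _ h2.symm)

end V

section main

variable (p : ℕ) [hp : Fact p.Prime] {R : Type u} [CommRing R] [IsDomain R]
  [IsDiscreteValuationRing R] [CharP R p]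
  (kp : Subfield (FractionRing R))
  (hkp : ∀ x : FractionRing R, x ∈ kp ↔ ∃ y : FractionRing R, y ^ p = x)
  (hdeg : Module.finrank kp (FractionRing R) = p)
  (π : R) (hπ : Irreducible π)

include hπ in
theorem decomp_unique (c c' : Fin p → R)
    (h : ∑ i : Fin p, π ^ (i : ℕ) * c i ^ p = ∑ i : Fin p, π ^ (i : ℕ) * c' i ^ p) : c = c' := by
  have h0 : ∑ i : Fin p, π ^ (i : ℕ) * (c i - c' i) ^ p = 0 := by
    have : ∀ i : Fin p, π ^ (i : ℕ) * (c i - c' i) ^ p =
        π ^ (i : ℕ) * c i ^ p - π ^ (i : ℕ) * c' i ^ p := fun i => by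
      rw [sub_pow_char, mul_sub]
    rw [Finset.sum_congr rfl (fun i _ => this i), Finset.sum_sub_distrib, h, sub_self]
  funext i
  exact sub_eq_zero.mp (eq_zero_of_sum_eq_zero p π hπ _ h0 i)

include hkp hπ in
theorem linearIndependent_pow :
    LinearIndependent kp (fun i : Fin p => (algebraMap R (FractionRing R) π) ^ (i : ℕ)) := by
  rw [Fintype.linearIndependent_iff]
  intro g hg
  -- g i = y_i ^ p
  have hy : ∀ i, ∃ y : FractionRing R, y ^ p = (g i : FractionRing R) := fun i => (hkp _).mp (g i).2
  choose y hy using hy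
  obtain ⟨s, hs⟩ := IsLocalization.exist_integer_multiples_of_finite (nonZeroDivisors R) y
  choose b hb using hs
  have hs0 : (s : R) ≠ 0 := nonZeroDivisors.ne_zero s.2
  have hφs : algebraMap R (FractionRing R) (s : R) ≠ 0 := by
    rw [Ne, IsFractionRing.to_map_eq_zero_iff]
    exact hs0
  -- sum in R
  have hsum : ∑ i : Fin p, π ^ (i : ℕ) * b i ^ p = 0 := by
    apply IsFractionRing.injective R (FractionRing R)
    rw [map_zero, map_sum]
    have : ∀ i : Fin p, algebraMap R (FractionRing R) (π ^ (i : ℕ) * b i ^ p) =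
        algebraMap R (FractionRing R) (s : R) ^ p *
          (g i • (algebraMap R (FractionRing R) π) ^ (i : ℕ)) := by
      intro i
      rw [map_mul, map_pow, map_pow, hb i, Algebra.smul_def, mul_pow, hy i, Subfield.smul_def,
        smul_eq_mul]
      ring
    rw [Finset.sum_congr rfl (fun i _ => this i), ← Finset.mul_sum, hg, mul_zero]
  have hb0 := eq_zero_of_sum_eq_zero p π hπ b hsum
  intro i
  have h1 : algebraMap R (FractionRing R) (s : R) * y i = 0 := by
    have := hb i
    rw [hb0 i, map_zero, Algebra.smul_def] at this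
    exact this.symm
  have h2 : y i = 0 := (mul_eq_zero.mp h1).resolve_left hφs
  apply Subtype.ext
  rw [← hy i, h2, zero_pow hp.out.ne_zero]
  rfl

include hkp hdeg hπ in
theorem span_pow :
    Submodule.span kp (Set.range (fun i : Fin p => (algebraMap R (FractionRing R) π) ^ (i : ℕ))) = ⊤ := by
  haveI : FiniteDimensional kp (FractionRing R) :=
    Module.finite_of_finrank_pos (by rw [hdeg]; exact hp.out.pos)
  exact (linearIndependent_pow p kp hkp π hπ).span_eq_top_of_card_eq_finrank' (by simp [hdeg])


include hkp hdeg hπ in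
theorem exists_decomp (r : R) : ∃ c : Fin p → R, r = ∑ i : Fin p, π ^ (i : ℕ) * c i ^ p := by
  have hmem : algebraMap R (FractionRing R) r ∈ Submodule.span kp
      (Set.range (fun i : Fin p => (algebraMap R (FractionRing R) π) ^ (i : ℕ))) := by
    rw [span_pow p kp hkp hdeg π hπ]
    exact Submodule.mem_top
  obtain ⟨g, hg⟩ := (Submodule.mem_span_range_iff_exists_fun kp).mp hmem
  have hy : ∀ i, ∃ y : FractionRing R, y ^ p = (g i : FractionRing R) := fun i => (hkp _).mp (g i).2
  choose y hy using hy
  obtain ⟨s, hs⟩ := IsLocalization.exist_integer_multiples_of_finite (nonZeroDivisors R) y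
  choose b hb using hs
  have hs0 : (s : R) ≠ 0 := nonZeroDivisors.ne_zero s.2
  have hsum : (s : R) ^ p * r = ∑ i : Fin p, π ^ (i : ℕ) * b i ^ p := by
    apply IsFractionRing.injective R (FractionRing R)
    rw [map_mul, map_pow, map_sum, ← hg, Finset.mul_sum]
    refine Finset.sum_congr rfl (fun i _ => ?_)
    have hbi : algebraMap R (FractionRing R) (b i) = algebraMap R (FractionRing R) (s : R) * y i := by
      rw [hb i, Algebra.smul_def]
    have hgi : g i • (algebraMap R (FractionRing R) π) ^ (i : ℕ) =
        (g i : FractionRing R) * (algebraMap R (FractionRing R) π) ^ (i : ℕ) := by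
      rw [Subfield.smul_def, smul_eq_mul]
    rw [map_mul, map_pow, map_pow, hbi, mul_pow, hy i, hgi]
    ring
  have hdvd := dvd_of_pow_dvd_sum p π hπ (s : R) hs0 b ⟨r, hsum.symm⟩
  choose c hc using hdvd
  refine ⟨c, ?_⟩
  have hsp : (s : R) ^ p ≠ 0 := pow_ne_zero _ hs0
  apply mul_left_cancel₀ hsp
  rw [hsum, Finset.mul_sum]
  refine Finset.sum_congr rfl (fun i _ => ?_)
  rw [hc i, mul_pow]
  ring


include hkp hdeg hπ in
theorem D_mem_span (r : R) :
    KaehlerDifferential.D ℤ R r ∈ Submodule.span R {KaehlerDifferential.D ℤ R π} := by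
  obtain ⟨c, rfl⟩ := exists_decomp p kp hkp hdeg π hπ r
  rw [map_sum]
  refine Submodule.sum_mem _ (fun i _ => ?_)
  rw [Derivation.leibniz, Derivation.leibniz_pow, Derivation.leibniz_pow]
  have hp0 : (p : ℕ) • (c i ^ (p - 1) • KaehlerDifferential.D ℤ R (c i)) = 0 := by
    rw [← Nat.cast_smul_eq_nsmul R, CharP.cast_eq_zero, zero_smul]
  rw [hp0, smul_zero, zero_add]
  refine Submodule.smul_mem _ _ ?_
  rw [← Nat.cast_smul_eq_nsmul R]
  refine Submodule.smul_mem _ _ (Submodule.smul_mem _ _ (Submodule.mem_span_singleton_self _))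

include hkp hdeg hπ in
theorem smul_D_surjective :
    Function.Surjective (fun r : R => r • KaehlerDifferential.D ℤ R π) := by
  intro ω
  have h1 : ω ∈ Submodule.span R (Set.range (KaehlerDifferential.D ℤ R)) := by
    rw [KaehlerDifferential.span_range_derivation]
    exact Submodule.mem_top
  have h2 : Submodule.span R (Set.range (KaehlerDifferential.D ℤ R)) ≤
      Submodule.span R {KaehlerDifferential.D ℤ R π} := by
    rw [Submodule.span_le]
    rintro _ ⟨r, rfl⟩
    exact D_mem_span p kp hkp hdeg π hπ r
  obtain ⟨r, hr⟩ := Submodule.mem_span_singleton.mp (h2 h1)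
  exact ⟨r, hr⟩

include hkp hdeg hπ in
theorem Dk_ne_zero :
    KaehlerDifferential.D kp (FractionRing R) (algebraMap R (FractionRing R) π) ≠ 0 := by
  intro h0
  haveI : CharP (FractionRing R) p :=
    charP_of_injective_algebraMap (IsFractionRing.injective R (FractionRing R)) p
  haveI : CharP kp p := RingHom.charP (algebraMap kp (FractionRing R))
    (algebraMap kp (FractionRing R)).injective p
  haveI : ExpChar kp p := ExpChar.prime hp.out
  haveI : FiniteDimensional kp (FractionRing R) :=
    Module.finite_of_finrank_pos (by rw [hdeg]; exact hp.out.pos)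
  -- adjoin = ⊤
  have hadj : Algebra.adjoin kp {algebraMap R (FractionRing R) π} = ⊤ := by
    rw [← Algebra.toSubmodule_eq_top, eq_top_iff, ← span_pow p kp hkp hdeg π hπ, Submodule.span_le]
    rintro _ ⟨i, rfl⟩
    exact Subalgebra.pow_mem _ (Algebra.self_mem_adjoin_singleton _ _) _
  have hall : ∀ x : FractionRing R, KaehlerDifferential.D kp (FractionRing R) x = 0 := by
    intro x
    have hx : x ∈ Algebra.adjoin kp {algebraMap R (FractionRing R) π} := by
      rw [hadj]; exact Algebra.mem_top
    have := Derivation.eqOn_adjoin (D1 := KaehlerDifferential.D kp (FractionRing R)) (D2 := 0)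
      (s := {algebraMap R (FractionRing R) π}) (by
        intro z hz
        rw [Set.mem_singleton_iff] at hz
        rw [hz, h0]
        rfl) hx
    simpa using this
  haveI : Subsingleton (Ω[FractionRing R⁄kp]) := by
    have htop : (⊤ : Submodule (FractionRing R) (Ω[FractionRing R⁄kp])) = ⊥ := by
      rw [← KaehlerDifferential.span_range_derivation, Submodule.span_eq_bot]
      rintro _ ⟨b, rfl⟩
      exact hall b
    refine subsingleton_of_forall_eq 0 (fun ω => ?_)
    have hω : ω ∈ (⊤ : Submodule (FractionRing R) (Ω[FractionRing R⁄kp])) := Submodule.mem_top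
    rw [htop] at hω
    exact (Submodule.mem_bot _).mp hω
  haveI : Algebra.FormallyUnramified kp (FractionRing R) := ⟨inferInstance⟩
  haveI : Algebra.IsSeparable kp (FractionRing R) := Algebra.FormallyUnramified.isSeparable kp _
  haveI : IsPurelyInseparable kp (FractionRing R) := by
    rw [isPurelyInseparable_iff_pow_mem kp p]
    intro x
    exact ⟨1, ⟨⟨x ^ p, (hkp _).mpr ⟨x, rfl⟩⟩, by rw [pow_one]; rfl⟩⟩
  have hsurj := IsPurelyInseparable.surjective_algebraMap_of_isSeparable kp (FractionRing R)
  have hbij : Function.Bijective (Algebra.linearMap kp (FractionRing R)) :=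
    ⟨(algebraMap kp (FractionRing R)).injective, hsurj⟩
  have h1 := (LinearEquiv.ofBijective _ hbij).finrank_eq
  rw [Module.finrank_self, hdeg] at h1
  exact hp.out.one_lt.ne h1


include hkp hdeg hπ in
theorem smul_D_injective :
    Function.Injective (fun r : R => r • KaehlerDifferential.D ℤ R π) := by
  intro r r' h
  have h0 : (r - r') • KaehlerDifferential.D ℤ R π = 0 := by
    rw [sub_smul, sub_eq_zero]
    exact h
  haveI : SMulCommClass kp R (FractionRing R) :=
    ⟨fun a b x => by simp only [Algebra.smul_def]; ring⟩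
  haveI := IsScalarTower.of_algebraMap_eq (R := ℤ) (S := kp) (A := FractionRing R)
    (fun n => by simp)
  have h1 := congrArg (KaehlerDifferential.map ℤ kp R (FractionRing R)) h0
  rw [map_smul, KaehlerDifferential.map_D, map_zero,
    ← algebraMap_smul (FractionRing R) (r - r')] at h1
  have h2 := (smul_eq_zero.mp h1).resolve_right (Dk_ne_zero p kp hkp hdeg π hπ)
  have h3 : r - r' = 0 := by
    apply IsFractionRing.injective R (FractionRing R)
    rw [h2, map_zero]
  exact sub_eq_zero.mp h3

end main

/-- Let R be a discrete valuation ring of prime characteristic p whose fraction field k has degree p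
over its subfield k^p of p-th powers, and π a uniformizer. Then every element of R is, in a unique
way, a sum of π^i c_i^p over 0 ≤ i < p with c_i in R, and the Kähler differentials of R (absolute,
i.e. over the integers, equivalently over the prime field) form a free module of rank one generated
by dπ. -/
theorem result (p : ℕ) [Fact p.Prime] {R : Type u} [CommRing R]
    [IsDomain R] [IsDiscreteValuationRing R] [CharP R p]
    (kp : Subfield (FractionRing R)) (hkp : ∀ x : FractionRing R, x ∈ kp ↔ ∃ y : FractionRing R, y ^ p = x)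
    (hdeg : Module.finrank kp (FractionRing R) = p)
    (π : R) (hπ : Irreducible π) :
    (∀ r : R, ∃! c : Fin p → R, r = ∑ i : Fin p, π ^ (i : ℕ) * c i ^ p) ∧
      Function.Bijective (fun r : R => r • KaehlerDifferential.D ℤ R π) := by
  refine ⟨fun r => ?_, smul_D_injective p kp hkp hdeg π hπ, smul_D_surjective p kp hkp hdeg π hπ⟩
  obtain ⟨c, hc⟩ := exists_decomp p kp hkp hdeg π hπ r
  exact ⟨c, hc, fun c' hc' => decomp_unique p π hπ c' c (hc'.symm.trans hc)⟩

end Groth.Agent.S13368
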