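import Groth.Statements.S13379
-- import your own Groth.Agent.* helpers here
import Groth.Agent.Lib.helper10.ProCompl

set_option autoImplicit false
universe u
open ProCompl

namespace Groth.Agent.S13379



/-- Profinite completion is right exact: for an abelian group A (written multiplicatively, discrete) and
a subgroup A', the map on profinite completions induced by A → A/A' is surjective and its kernel is
the image of the completion of A'. (The published statement is right-exactness for topological
abelian groups with completions formed from open subgroups of finite index; this row is the case of
the discrete topology.) -/
theorem result (A : Type u) [CommGroup A] (A' : Subgroup A) :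
    Function.Surjective (ProfiniteGrp.profiniteCompletion.map (GrpCat.ofHom (QuotientGroup.mk' A'))).hom ∧
      (ProfiniteGrp.profiniteCompletion.map (GrpCat.ofHom (QuotientGroup.mk' A'))).hom.toMonoidHom.ker =
        (ProfiniteGrp.profiniteCompletion.map (GrpCat.ofHom A'.subtype)).hom.toMonoidHom.range := by
  exact ⟨Groth.Agent.Lib.helper10.ProCompl.surjective_map _ (QuotientGroup.mk'_surjective A'),
    Groth.Agent.Lib.helper10.ProCompl.ker_eq_range A A'⟩

end Groth.Agent.S13379
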