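import Groth.Statements.S13380
import Groth.Agent.Lib.Helper1.LazChain

set_option autoImplicit false
universe u
open GaDual

namespace Groth.Agent.S13380

open MvPolynomial Groth.Agent.Lib.Helper1.LazMC Groth.Agent.Lib.Helper1.LazChain in
theorem split_of_finset (p : ℕ) [Fact p.Prime] (R : Type u) [CommRing R] [CharP R p]
    (hF : ∀ x : R, ∃ y, y ^ p = x) :
    ∀ (s : Finset R), (∀ a ∈ s, IsNilpotent a) → ∀ h : MvPolynomial (Fin 2) R, IsMC h →
      h - 1 ∈ Ideal.map C (Ideal.span (s : Set R)) →
      ∃ f : Polynomial R, IsUnit f ∧ ev01 f = ev0 f * ev1 f * h := by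
  classical
  intro s
  induction s using Finset.induction_on with
  | empty =>
    intro _ h hh h1
    refine ⟨1, isUnit_one, ?_⟩
    simp only [Finset.coe_empty, Ideal.span_empty, Ideal.map_bot, Ideal.mem_bot] at h1
    rw [ev01_one, ev0_one, ev1_one, sub_eq_zero.mp h1]; ring
  | insert a s _ ih =>
    intro hnil h hh h1
    rw [Finset.coe_insert, Ideal.span_insert] at h1
    have h𝔠 : Ideal.span (s : Set R) ≤ nilradical R := by
      rw [Ideal.span_le]
      intro x hx
      exact (mem_nilradical).mpr (hnil x (Finset.mem_insert_of_mem hx))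
    obtain ⟨f1, h', hfu, hh', hrel, hmem⟩ := chain (p := p) hF (Ideal.span (s : Set R)) h𝔠 a
      (hnil a (Finset.mem_insert_self a s)) h hh h1
    obtain ⟨f2, hfu2, hrel2⟩ := ih (fun x hx => hnil x (Finset.mem_insert_of_mem hx)) h' hh' hmem
    refine ⟨f1 * f2, hfu.mul hfu2, ?_⟩
    rw [ev01_mul, ev0_mul, ev1_mul, hrel2]
    linear_combination (ev0 f2 * ev1 f2) * hrel

open MvPolynomial Groth.Agent.Lib.Helper1.LazMC Groth.Agent.Lib.Helper1.LazChain in

/-- Over a commutative ring R of prime characteristic p whose Frobenius is surjective, every commutative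
extension of the additive group by the multiplicative group that has a scheme-theoretic section
splits. In the coordinates given by such a section the extension is the product G_m × G_a with law
(t,x)(t',x') = (tt'h(x,x'), x+x') for an invertible polynomial h with h(X,0) = 1, h symmetric and
h(Y,Z)h(X,Y+Z) = h(X+Y,Z)h(X,Y), and a group-theoretic section is an invertible polynomial f with
f(X+Y) = f(X)f(Y)h(X,Y); the row states the existence of such f for every such h. -/
theorem result (p : ℕ) [Fact p.Prime] (R : Type u)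
    [CommRing R] [CharP R p] (hF : Function.Surjective (frobenius R p))
    (h : MvPolynomial (Fin 2) R) (hu : IsUnit h)
    (h0 : MvPolynomial.aeval ![(MvPolynomial.X 0 : MvPolynomial (Fin 2) R), 0] h = 1)
    (hsymm : MvPolynomial.aeval ![(MvPolynomial.X 1 : MvPolynomial (Fin 2) R), MvPolynomial.X 0] h = h)
    (hcoc : MvPolynomial.aeval ![(MvPolynomial.X 1 : MvPolynomial (Fin 3) R), MvPolynomial.X 2] h *
        MvPolynomial.aeval ![MvPolynomial.X 0, MvPolynomial.X 1 + MvPolynomial.X 2] h =
      MvPolynomial.aeval ![MvPolynomial.X 0 + MvPolynomial.X 1, MvPolynomial.X 2] h *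
        MvPolynomial.aeval ![MvPolynomial.X 0, MvPolynomial.X 1] h) :
    ∃ f : Polynomial R, IsUnit f ∧
      Polynomial.aeval (MvPolynomial.X 0 + MvPolynomial.X 1 : MvPolynomial (Fin 2) R) f =
        Polynomial.aeval (MvPolynomial.X 0 : MvPolynomial (Fin 2) R) f *
          Polynomial.aeval (MvPolynomial.X 1 : MvPolynomial (Fin 2) R) f * h := by
  classical
  have hroot : ∀ x : R, ∃ y, y ^ p = x := by
    intro x
    obtain ⟨y, hy⟩ := hF x
    exact ⟨y, by rw [← hy, frobenius_def]⟩
  have hmc : IsMC h := ⟨hsymm, hcoc⟩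
  -- constant coefficient of h is 1
  have hc0 : coeff 0 h = 1 := by
    have h1 := congrArg (aeval (fun _ : Fin 2 => (0 : R))) h0
    rw [comp_aeval_apply, map_one] at h1
    have : (fun i => aeval (fun _ : Fin 2 => (0 : R)) (![(X 0 : MvPolynomial (Fin 2) R), 0] i)) =
        fun _ => 0 := by
      funext i; fin_cases i <;> simp
    rw [this, aeval_zero'] at h1
    simpa [constantCoeff_eq] using h1
  obtain ⟨-, hnil⟩ := MvPolynomial.isUnit_iff.mp hu
  set s : Finset R := (h - 1).support.image (fun m => coeff m (h - 1)) with hs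
  have hsnil : ∀ a ∈ s, IsNilpotent a := by
    intro a ha
    rw [hs, Finset.mem_image] at ha
    obtain ⟨m, _, rfl⟩ := ha
    by_cases hm : m = 0
    · subst hm
      rw [coeff_sub, hc0, coeff_zero_one, sub_self]
      exact IsNilpotent.zero
    · rw [coeff_sub, coeff_one, if_neg (Ne.symm hm), sub_zero]
      exact hnil m hm
  have hmem : h - 1 ∈ Ideal.map C (Ideal.span (s : Set R)) := by
    rw [mem_map_C_iff]
    intro m
    by_cases hm : m ∈ (h - 1).support
    · apply Ideal.subset_span
      rw [hs, Finset.coe_image]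
      exact ⟨m, hm, rfl⟩
    · rw [notMem_support_iff.mp hm]; exact Ideal.zero_mem _
  obtain ⟨f, hfu, hf⟩ := split_of_finset p R hroot s hsnil h hmc hmem
  exact ⟨f, hfu, hf⟩

end Groth.Agent.S13380
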