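import Groth.Statements.S13387
-- import your own Groth.Agent.* helpers here
import Groth.Agent.Lib.Helper23.GammaSpan

set_option autoImplicit false
universe u
open ZeroCyc

namespace Groth.Agent.S13387

/-- Let A be a commutative ring, M an A-module and d ≥ 0. Suppose that at each prime p of A either k(p)
has d or more elements, or the localisation M_p is a cyclic A_p-module. Then the degree-d piece
Γ^d_A(M) of the divided power algebra Γ_A(M) is spanned over A by the d-th divided powers γ_d(m), m
∈ M. -/
theorem result {A M : Type u} [CommRing A] [AddCommGroup M]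
    [Module A M] (d : ℕ)
    (h : ∀ p : PrimeSpectrum A, (d : Cardinal) ≤ Cardinal.mk p.asIdeal.ResidueField ∨
      ∃ x : LocalizedModule p.asIdeal.primeCompl M, Submodule.span (Localization.AtPrime p.asIdeal) {x} = ⊤) :
    Submodule.span A (Set.range (DividedPowerAlgebra.dp A d : M → DividedPowerAlgebra A M)) =
      PolLaw.gammaPiece A M d := by
  classical
  apply le_antisymm
  · apply Submodule.span_le.mpr
    rintro _ ⟨m, rfl⟩
    refine Submodule.subset_span ⟨1, fun _ => d, fun _ => m, by simp, by simp⟩
  · unfold PolLaw.gammaPiece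
    apply Submodule.span_le.mpr
    rintro _ ⟨n, k, m, hk, rfl⟩
    change _ ∈ Groth.Agent.S13389.W A M d
    apply Helper23.GammaSpan.mem_of_local
    intro p hp
    rcases h ⟨p, hp⟩ with hc | ⟨x, hx⟩
    · obtain ⟨v, w, hvw⟩ := Helper23.GammaSpan.exists_points p d hc
      have := Helper23.GammaSpan.exists_smul_prod_dp_mem p d v w hvw n k m hk.le
      rwa [hk] at this
    · obtain ⟨m₀, hm₀⟩ := Helper23.GammaSpan.exists_smul_eq_of_cyclic p x hx
      have := Helper23.GammaSpan.exists_smul_prod_dp_mem_of_cyclic p m₀ hm₀ n k m
      rwa [hk] at this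


end Groth.Agent.S13387
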