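import Groth.Statements.S13388
-- import your own Groth.Agent.* helpers here
import Groth.Agent.Lib.Helper23.GammaEsymm2

set_option autoImplicit false
universe u
open ZeroCyc

namespace Groth.Agent.S13388

/-- Let A be a commutative ring, M a finitely generated A-module and d ≥ 0. If the degree-d piece
Γ^d_A(M) of Γ_A(M) is spanned over A by the divided powers γ_d(m), m ∈ M, then at each prime p of A
either k(p) has d or more elements, or the localisation M_p is a cyclic A_p-module. -/
theorem result {A M : Type u} [CommRing A] [AddCommGroup M]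
    [Module A M] [Module.Finite A M] (d : ℕ)
    (h : Submodule.span A (Set.range (DividedPowerAlgebra.dp A d : M → DividedPowerAlgebra A M)) =
      PolLaw.gammaPiece A M d)
    (p : PrimeSpectrum A) :
    (d : Cardinal) ≤ Cardinal.mk p.asIdeal.ResidueField ∨
      ∃ x : LocalizedModule p.asIdeal.primeCompl M, Submodule.span (Localization.AtPrime p.asIdeal) {x} = ⊤ := by
  classical
  by_contra hcon
  push Not at hcon
  obtain ⟨hcard, hcyc⟩ := hcon
  -- the residue field is finite with fewer than `d` elements
  have hlt : Cardinal.mk p.asIdeal.ResidueField < Cardinal.aleph0 :=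
    lt_trans hcard (Cardinal.nat_lt_aleph0 d)
  haveI : Finite p.asIdeal.ResidueField := Cardinal.lt_aleph0_iff_finite.mp hlt
  haveI : Fintype p.asIdeal.ResidueField := Fintype.ofFinite _
  have hq : Fintype.card p.asIdeal.ResidueField < d := by
    rw [Cardinal.mk_fintype] at hcard
    exact_mod_cast hcard
  -- `M ⊗ k(p)` has dimension at least two
  have h2 : 2 ≤ Module.finrank p.asIdeal.ResidueField
      (TensorProduct A p.asIdeal.ResidueField M) := by
    by_contra hle
    have hle' : Module.finrank p.asIdeal.ResidueField
      (TensorProduct A p.asIdeal.ResidueField M) ≤ 1 := by omega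
    have h1 := (Helper23.Fit.not_le_iff_finrank_le 1 p.asIdeal).mpr hle'
    obtain ⟨g, hg⟩ := (Helper23.Fit.not_le_iff_exists_span_atPrime 1 p.asIdeal).mp h1
    apply hcyc (g 0)
    have : Set.range g = {g 0} := by
      ext y
      constructor
      · rintro ⟨i, rfl⟩
        rw [Subsingleton.elim i 0]; rfl
      · rintro rfl
        exact ⟨0, rfl⟩
    rw [← this, hg]
  obtain ⟨m1, m2, ℓ₁, ℓ₂, h11, h12, h21, h22⟩ := Helper23.GammaEsymm.exists_dual_pair h2
  have hnot := Helper23.GammaEsymm.not_mem_span_of_small_field d hq ℓ₁ ℓ₂ m1 m2 h11 h12 h21 h22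
  apply hnot
  rw [h]
  refine Submodule.subset_span ⟨2, ![d - 1, 1], ![m1, m2], ?_, ?_⟩
  · simp only [Fin.sum_univ_two, Matrix.cons_val_zero, Matrix.cons_val_one]
    omega
  · simp only [Fin.prod_univ_two, Matrix.cons_val_zero, Matrix.cons_val_one]


end Groth.Agent.S13388
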