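import Groth.Statements.S13389
import Mathlib.LinearAlgebra.Vandermonde
import Mathlib.LinearAlgebra.Matrix.NonsingularInverse

set_option autoImplicit false
universe u
open ZeroCyc

namespace Groth.Agent.S13389

/-- Vandermonde extraction in a module. -/
theorem mem_of_vandermonde {A N : Type*} [CommRing A] [AddCommGroup N] [Module A N]
    (W : Submodule A N) (n : ℕ) (v : Fin n → A) (hdet : IsUnit (Matrix.vandermonde v).det)
    (u : Fin n → N) (h : ∀ i, ∑ j : Fin n, (v i) ^ (j : ℕ) • u j ∈ W) : ∀ j, u j ∈ W := by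
  intro j
  have hinv : (Matrix.vandermonde v)⁻¹ * Matrix.vandermonde v = 1 :=
    Matrix.nonsing_inv_mul _ hdet
  have key : u j = ∑ i, (Matrix.vandermonde v)⁻¹ j i • ∑ l : Fin n, (v i) ^ (l : ℕ) • u l := by
    simp_rw [Finset.smul_sum, smul_smul]
    rw [Finset.sum_comm]
    simp_rw [← Finset.sum_smul]
    have h1 : ∀ l : Fin n, ∑ i, (Matrix.vandermonde v)⁻¹ j i * v i ^ (l : ℕ) = (1 : Matrix (Fin n) (Fin n) A) j l := by
      intro l
      rw [← hinv, Matrix.mul_apply]
      rfl
    simp_rw [h1, Matrix.one_apply]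
    simp
  rw [key]
  exact W.sum_mem fun i _ => W.smul_mem _ (h i)

/-- span of the `e`-th divided powers -/
noncomputable def W (A M : Type u) [CommRing A] [AddCommGroup M] [Module A M] (e : ℕ) :
    Submodule A (DividedPowerAlgebra A M) :=
  Submodule.span A (Set.range (DividedPowerAlgebra.dp A e : M → DividedPowerAlgebra A M))

theorem isUnit_det {A : Type u} [CommRing A] (t : A) (d : ℕ)
    (ht : ∏ j ∈ Finset.range (d + 1), ∏ i ∈ Finset.range j, (t ^ i - t ^ j) = 1) (n : ℕ)
    (hn : n ≤ d) : IsUnit (Matrix.vandermonde (fun i : Fin (n + 1) => t ^ (i : ℕ))).det := by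
  have hunit : ∀ i j : ℕ, i < j → j ≤ d → IsUnit (t ^ i - t ^ j) := by
    intro i j hij hjd
    apply isUnit_of_dvd_one
    rw [← ht]
    refine dvd_trans ?_ (Finset.dvd_prod_of_mem _ (Finset.mem_range.mpr (Nat.lt_succ_of_le hjd)))
    exact Finset.dvd_prod_of_mem _ (Finset.mem_range.mpr hij)
  rw [Matrix.det_vandermonde]
  refine Finset.prod_induction _ IsUnit (fun _ _ => IsUnit.mul) isUnit_one ?_
  intro i _
  refine Finset.prod_induction _ IsUnit (fun _ _ => IsUnit.mul) isUnit_one ?_
  intro j hj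
  have hij : i < j := Finset.mem_Ioi.mp hj
  have := hunit i j hij (le_trans (Nat.lt_succ_iff.mp j.2) hn)
  have e : t ^ (j : ℕ) - t ^ (i : ℕ) = -(t ^ (i : ℕ) - t ^ (j : ℕ)) := by ring
  rw [e]
  exact this.neg

theorem dp_mul_dp_mem {A M : Type u} [CommRing A] [AddCommGroup M] [Module A M] (t : A) (d : ℕ)
    (ht : ∏ j ∈ Finset.range (d + 1), ∏ i ∈ Finset.range j, (t ^ i - t ^ j) = 1) (n : ℕ)
    (hn : n ≤ d) (x y : M) (k : ℕ) (hk : k ≤ n) :
    DividedPowerAlgebra.dp A k x * DividedPowerAlgebra.dp A (n - k) y ∈ W A M n := by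
  classical
  let u : Fin (n + 1) → DividedPowerAlgebra A M := fun k =>
    DividedPowerAlgebra.dp A (k : ℕ) x * DividedPowerAlgebra.dp A (n - k) y
  have := mem_of_vandermonde (W A M n) (n + 1) (fun i : Fin (n + 1) => t ^ (i : ℕ))
    (isUnit_det t d ht n hn) u ?_ ⟨k, Nat.lt_succ_of_le hk⟩
  · exact this
  · intro i
    have hmem : DividedPowerAlgebra.dp A n (t ^ (i : ℕ) • x + y) ∈ W A M n :=
      Submodule.subset_span ⟨_, rfl⟩
    rw [DividedPowerAlgebra.dp_add, Finset.Nat.sum_antidiagonal_eq_sum_range_succ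
      (fun a b => DividedPowerAlgebra.dp A a (t ^ (i : ℕ) • x) * DividedPowerAlgebra.dp A b y),
      ← Fin.sum_univ_eq_sum_range
      (fun a => DividedPowerAlgebra.dp A a (t ^ (i : ℕ) • x) * DividedPowerAlgebra.dp A (n - a) y)] at hmem
    convert hmem using 2 with l
    rw [DividedPowerAlgebra.dp_smul, smul_mul_assoc]


theorem W_mul_dp_mem {A M : Type u} [CommRing A] [AddCommGroup M] [Module A M] (t : A) (d : ℕ)
    (ht : ∏ j ∈ Finset.range (d + 1), ∏ i ∈ Finset.range j, (t ^ i - t ^ j) = 1) (a b : ℕ)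
    (hab : a + b ≤ d) (w : DividedPowerAlgebra A M) (hw : w ∈ W A M a) (y : M) :
    w * DividedPowerAlgebra.dp A b y ∈ W A M (a + b) := by
  unfold W at hw
  induction hw using Submodule.span_induction with
  | mem w hw =>
    obtain ⟨x, rfl⟩ := hw
    have := dp_mul_dp_mem t d ht (a + b) hab x y a (Nat.le_add_right a b)
    rw [Nat.add_sub_cancel_left] at this
    exact this
  | zero => rw [zero_mul]; exact Submodule.zero_mem _
  | add w₁ w₂ _ _ h₁ h₂ => rw [add_mul]; exact Submodule.add_mem _ h₁ h₂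
  | smul r w _ h => rw [smul_mul_assoc]; exact Submodule.smul_mem _ r h

theorem prod_dp_mem {A M : Type u} [CommRing A] [AddCommGroup M] [Module A M] (t : A) (d : ℕ)
    (ht : ∏ j ∈ Finset.range (d + 1), ∏ i ∈ Finset.range j, (t ^ i - t ^ j) = 1) :
    ∀ (n : ℕ) (k : Fin n → ℕ) (m : Fin n → M), (∑ i, k i) ≤ d →
      ∏ i, DividedPowerAlgebra.dp A (k i) (m i) ∈ W A M (∑ i, k i) := by
  intro n
  induction n with
  | zero =>
    intro k m _
    simp only [Finset.univ_eq_empty, Finset.prod_empty, Finset.sum_empty]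
    have : (1 : DividedPowerAlgebra A M) = DividedPowerAlgebra.dp A 0 (0 : M) :=
      DividedPowerAlgebra.dp_zero.symm
    rw [this]
    exact Submodule.subset_span ⟨_, rfl⟩
  | succ n ih =>
    intro k m hk
    rw [Fin.prod_univ_castSucc, Fin.sum_univ_castSucc]
    rw [Fin.sum_univ_castSucc] at hk
    exact W_mul_dp_mem t d ht _ _ hk _
      (ih (fun i => k i.castSucc) (fun i => m i.castSucc) (by omega)) _


open Polynomial in
/-- Let P_d(T) = ∏_{0 ≤ i < j ≤ d} (T^i − T^j) − 1 ∈ ℤ[T]. If A is an algebra over ℤ[T]/(P_d), i.e.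
receives a ring homomorphism from it, then for every A-module M the degree-d piece Γ^d_A(M) of the
divided power algebra Γ_A(M) is spanned over A by the d-th divided powers γ_d(m), m ∈ M. (The
published statement adds that consequently every ring has a finite faithfully flat extension,
independent of M, over which this holds; that clause is not restated.) -/
theorem result {A M : Type u} [CommRing A] [AddCommGroup M]
    [Module A M] (d : ℕ)
    (φ : (ℤ[X] ⧸ Ideal.span {(∏ j ∈ Finset.range (d + 1), ∏ i ∈ Finset.range j,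
        ((X : ℤ[X]) ^ i - X ^ j)) - 1}) →+* A) :
    Submodule.span A (Set.range (DividedPowerAlgebra.dp A d : M → DividedPowerAlgebra A M)) =
      PolLaw.gammaPiece A M d := by
  classical
  let t : A := φ (Ideal.Quotient.mk _ (Polynomial.X : Polynomial ℤ))
  have ht : ∏ j ∈ Finset.range (d + 1), ∏ i ∈ Finset.range j, (t ^ i - t ^ j) = 1 := by
    have h0 : Ideal.Quotient.mk (Ideal.span {(∏ j ∈ Finset.range (d + 1), ∏ i ∈ Finset.range j,
        ((Polynomial.X : Polynomial ℤ) ^ i - Polynomial.X ^ j)) - 1})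
        ((∏ j ∈ Finset.range (d + 1), ∏ i ∈ Finset.range j,
        ((Polynomial.X : Polynomial ℤ) ^ i - Polynomial.X ^ j)) - 1) = 0 :=
      Ideal.Quotient.eq_zero_iff_mem.mpr (Ideal.subset_span rfl)
    rw [map_sub, map_one, sub_eq_zero] at h0
    have h1 := congrArg φ h0
    rw [map_one] at h1
    rw [← h1]
    simp only [map_prod, map_sub, map_pow, t]
  apply le_antisymm
  · apply Submodule.span_le.mpr
    rintro _ ⟨m, rfl⟩
    refine Submodule.subset_span ⟨1, fun _ => d, fun _ => m, by simp, by simp⟩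
  · unfold PolLaw.gammaPiece
    apply Submodule.span_le.mpr
    rintro _ ⟨n, k, m, hk, rfl⟩
    have := prod_dp_mem t d ht n k m hk.le
    rw [hk] at this
    exact this

end Groth.Agent.S13389
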