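import Groth.Statements.S13404
import Mathlib
import Groth.Agent.Lib.Helper12.ConnEtB
import Groth.Agent.Lib.Helper12.HenselIntegralLocal2

set_option autoImplicit false
universe u v
open Hopf

namespace Groth.Agent.S13404

/-- Let R be a henselian local ring and G = Spec A a finite flat group scheme over R (A a commutative
Hopf algebra over R, finite and flat as an R-module; G need not be commutative). Let e be an
idempotent of A on which the counit takes the value 1 and such that A/(1 - e) is a local ring, so
that Spec A/(1 - e) is the connected component G⁰ of G containing the unit section. Then the ideal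
(1 - e) is a Hopf ideal (G⁰ is a closed subgroup scheme of G), A/(1 - e) is a henselian local ring
with the same residue field as R (the composite R → A/(1 - e) → residue field is surjective), and
A/(1 - e) is flat over R. (The published statement also asserts that G⁰ is normal in G; this row
does not state normality.) -/
theorem result (R : Type u) [CommRing R] [HenselianLocalRing R]
    (A : Type v) [CommRing A] [HopfAlgebra R A] [Module.Finite R A] [Module.Flat R A]
    (e : A) (he : IsIdempotentElem e) (hε : Bialgebra.counitAlgHom R A e = 1)
    [IsLocalRing (A ⧸ Ideal.span ({1 - e} : Set A))] :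
    (Ideal.span ({1 - e} : Set A)).IsHopfIdeal R ∧ HenselianLocalRing (A ⧸ Ideal.span ({1 - e} : Set A)) ∧
      Function.Surjective (⇑(IsLocalRing.residue (A ⧸ Ideal.span ({1 - e} : Set A))) ∘ ⇑(algebraMap R (A ⧸ Ideal.span ({1 - e} : Set A)))) ∧
      Module.Flat R (A ⧸ Ideal.span ({1 - e} : Set A)) := by
  have hJ := fun a (ha : a ∈ Ideal.span ({1 - e} : Set A)) =>
    Groth.Agent.Lib.Helper12.ConnEtB.counit_eq_zero_of_mem R A e hε ha
  refine ⟨Groth.Agent.Lib.Helper12.ConnEtB.isHopfIdeal R A e he hε, ?_, ?_, ?_⟩
  · exact Groth.Agent.Lib.Helper12.HensInt.henselianLocalRing_of_isIntegral R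
      (A ⧸ Ideal.span ({1 - e} : Set A))
  · exact Groth.Agent.Lib.Helper12.ConnEtB.residue_comp_algebraMap_surjective _ hJ
  · have hloc : IsLocalization.Away e (A ⧸ Ideal.span ({1 - e} : Set A)) :=
      IsLocalization.Away.quotient_of_isIdempotentElem he
    have hfl : Module.Flat A (A ⧸ Ideal.span ({1 - e} : Set A)) :=
      IsLocalization.flat (A ⧸ Ideal.span ({1 - e} : Set A)) (Submonoid.powers e)
    exact Module.Flat.trans R A (A ⧸ Ideal.span ({1 - e} : Set A))

end Groth.Agent.S13404
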