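import Groth.Statements.S13407
import Mathlib
-- import your own Groth.Agent.* helpers here

set_option autoImplicit false
set_option linter.unusedSectionVars false
set_option linter.style.haveILetI false
set_option linter.unusedVariables false
universe u
open TensorProduct
open Hopf

namespace Groth.Agent.S13407

section
variable (R : Type u) [CommRing R] (K : Type u) [Field K] [Algebra R K]
  (A : Type u) [CommRing A] [HopfAlgebra R A]

/-- the inclusion `A → K ⊗ A` -/
abbrev ι : A →ₐ[R] K ⊗[R] A := Algebra.TensorProduct.includeRight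

lemma counit_ι (a : A) :
    Coalgebra.counit (R := K) (ι R K A a) = algebraMap R K (Coalgebra.counit (R := R) a) := by
  simp [ι, Algebra.algebraMap_eq_smul_one]

lemma antipode_ι (a : A) :
    HopfAlgebra.antipode K (ι R K A a) = ι R K A (HopfAlgebra.antipode R a) := by
  simp [ι]

lemma isHopfIdeal_iff' {R : Type u} [CommRing R] {A : Type u} [CommRing A] [HopfAlgebra R A]
    (J : Ideal A) : J.IsHopfIdeal R ↔
    (∀ x ∈ J, Coalgebra.counit (R := R) x = 0) ∧
    (∀ x ∈ J, ((Algebra.TensorProduct.map (Ideal.Quotient.mkₐ R J) (Ideal.Quotient.mkₐ R J)).comp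
      (Bialgebra.comulAlgHom R A)) x = 0) ∧
    (∀ x ∈ J, HopfAlgebra.antipode R x ∈ J) := by
  rw [Ideal.isHopfIdeal_iff, Submodule.isCoideal_iff]
  constructor
  · rintro ⟨⟨h1, h2⟩, h3⟩
    exact ⟨h1, h2, h3⟩
  · rintro ⟨h1, h2, h3⟩
    exact ⟨⟨h1, h2⟩, h3⟩

end


section square
variable (R : Type u) [CommRing R] (K : Type u) [Field K] [Algebra R K]
  (A : Type u) [CommRing A] [HopfAlgebra R A]
  (J' : Ideal A) (J : Ideal (K ⊗[R] A)) (hJ : J' ≤ J.comap (ι R K A))

/-- induced map on quotients -/
noncomputable def ιbar : (A ⧸ J') →ₐ[R] (K ⊗[R] A) ⧸ J :=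
  Ideal.quotientMapₐ J (ι R K A) hJ

/-- the comparison map on tensor squares -/
noncomputable def θ : (A ⧸ J') ⊗[R] (A ⧸ J') →ₗ[R] ((K ⊗[R] A) ⧸ J) ⊗[K] ((K ⊗[R] A) ⧸ J) :=
  (TensorProduct.mapOfCompatibleSMul K R R ((K ⊗[R] A) ⧸ J) ((K ⊗[R] A) ⧸ J)) ∘ₗ
    (TensorProduct.map (ιbar R K A J' J hJ).toLinearMap (ιbar R K A J' J hJ).toLinearMap)

lemma square_aux (t : A ⊗[R] A) :
    (Algebra.TensorProduct.map (Ideal.Quotient.mkₐ K J) (Ideal.Quotient.mkₐ K J))
      (TensorProduct.AlgebraTensorModule.tensorTensorTensorComm R K R K K K A A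
        (((1 : K) ⊗ₜ[K] (1 : K)) ⊗ₜ[R] t)) =
    θ R K A J' J hJ
      ((Algebra.TensorProduct.map (Ideal.Quotient.mkₐ R J') (Ideal.Quotient.mkₐ R J')) t) := by
  induction t with
  | zero => simp
  | add x y hx hy => rw [tmul_add, map_add, map_add, hx, hy, map_add, map_add]
  | tmul a b =>
    rw [TensorProduct.AlgebraTensorModule.tensorTensorTensorComm_tmul]
    simp only [Algebra.TensorProduct.map_tmul]
    rfl

lemma square (x : A) :
    ((Algebra.TensorProduct.map (Ideal.Quotient.mkₐ K J) (Ideal.Quotient.mkₐ K J)).comp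
      (Bialgebra.comulAlgHom K (K ⊗[R] A))) (ι R K A x) =
    θ R K A J' J hJ
      (((Algebra.TensorProduct.map (Ideal.Quotient.mkₐ R J') (Ideal.Quotient.mkₐ R J')).comp
        (Bialgebra.comulAlgHom R A)) x) := by
  rw [AlgHom.comp_apply, AlgHom.comp_apply, ← square_aux]
  congr 1

end square

section inj
variable (R : Type u) [CommRing R] [IsDedekindDomain R] (K : Type u) [Field K] [Algebra R K]
  [IsFractionRing R K]
  (A : Type u) [CommRing A] [HopfAlgebra R A]
  (J' : Ideal A) (J : Ideal (K ⊗[R] A)) (hJ : J' ≤ J.comap (ι R K A))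

open scoped nonZeroDivisors

lemma torsionFree_K_module (Q : Type u) [AddCommGroup Q] [Module K Q] [Module R Q]
    [IsScalarTower R K Q] : Module.IsTorsionFree R Q := by
  refine Module.IsTorsionFree.of_smul_eq_zero fun r m h => ?_
  rw [← algebraMap_smul K r m, smul_eq_zero] at h
  rcases h with h | h
  · left; exact (IsFractionRing.injective R K) (by rw [h, map_zero])
  · right; exact h

lemma ιbar_injective (hJ' : J' = J.comap (ι R K A)) :
    Function.Injective (ιbar R K A J' J hJ) := by
  have : Function.Injective (Ideal.quotientMap J ((ι R K A : A →ₐ[R] K ⊗[R] A) : A →+* K ⊗[R] A) hJ) :=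
    Ideal.quotientMap_injective' (le_of_eq hJ'.symm)
  exact this

lemma θ_injective (hJ' : J' = J.comap (ι R K A)) :
    Function.Injective (θ R K A J' J hJ) := by
  haveI : Module.IsTorsionFree R ((K ⊗[R] A) ⧸ J) := torsionFree_K_module R K _
  haveI : Module.IsTorsionFree R (A ⧸ J') :=
    Function.Injective.moduleIsTorsionFree (ιbar R K A J' J hJ) (ιbar_injective R K A J' J hJ hJ')
      (fun r m => map_smul _ r m)
  haveI : TensorProduct.CompatibleSMul R K ((K ⊗[R] A) ⧸ J) ((K ⊗[R] A) ⧸ J) :=
    IsLocalization.tensorProduct_compatibleSMul R⁰ K _ _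
  have h1 : Function.Injective
      (TensorProduct.mapOfCompatibleSMul K R R ((K ⊗[R] A) ⧸ J) ((K ⊗[R] A) ⧸ J)) :=
    (TensorProduct.equivOfCompatibleSMul K R R ((K ⊗[R] A) ⧸ J) ((K ⊗[R] A) ⧸ J)).injective
  have h2 : Function.Injective
      (TensorProduct.map (ιbar R K A J' J hJ).toLinearMap (ιbar R K A J' J hJ).toLinearMap) :=
    TensorProduct.map_injective_of_flat_flat _ _ (ιbar_injective R K A J' J hJ hJ')
      (ιbar_injective R K A J' J hJ hJ')
  exact h1.comp h2

end inj

section loc
variable (R : Type u) [CommRing R] [IsDomain R] (K : Type u) [Field K] [Algebra R K]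
  [IsFractionRing R K]
  (A : Type u) [CommRing A] [Algebra R A]

open scoped nonZeroDivisors

attribute [local instance] Algebra.TensorProduct.rightAlgebra in
lemma map_comap_ι (J : Ideal (K ⊗[R] A)) :
    Ideal.map (Algebra.TensorProduct.includeRight : A →ₐ[R] K ⊗[R] A)
      (Ideal.comap (Algebra.TensorProduct.includeRight : A →ₐ[R] K ⊗[R] A) J) = J := by
  haveI : IsLocalization (Algebra.algebraMapSubmonoid A R⁰) (K ⊗[R] A) :=
    IsLocalization.tensorRight (S := A) (A := K) R⁰
  exact IsLocalization.map_under (Algebra.algebraMapSubmonoid A R⁰) (K ⊗[R] A) J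

attribute [local instance] Algebra.TensorProduct.rightAlgebra in
lemma comap_map_ι (J' : Ideal A) [Module.IsTorsionFree R (A ⧸ J')] :
    Ideal.comap (Algebra.TensorProduct.includeRight : A →ₐ[R] K ⊗[R] A)
      (Ideal.map (Algebra.TensorProduct.includeRight : A →ₐ[R] K ⊗[R] A) J') = J' := by
  haveI : IsLocalization (Algebra.algebraMapSubmonoid A R⁰) (K ⊗[R] A) :=
    IsLocalization.tensorRight (S := A) (A := K) R⁰
  apply le_antisymm
  · intro x hx
    rw [Ideal.mem_comap] at hx
    have hx' : algebraMap A (K ⊗[R] A) x ∈ Ideal.map (algebraMap A (K ⊗[R] A)) J' := hx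
    rw [IsLocalization.mem_map_algebraMap_iff (Algebra.algebraMapSubmonoid A R⁰)] at hx'
    obtain ⟨⟨j, m⟩, hjm⟩ := hx'
    rw [← map_mul, IsLocalization.eq_iff_exists (Algebra.algebraMapSubmonoid A R⁰)] at hjm
    obtain ⟨c, hc⟩ := hjm
    obtain ⟨s, hs, hsm⟩ := m.2
    obtain ⟨s', hs', hsc⟩ := c.2
    -- (s' * s) • x ∈ J'
    have hmem : (s' * s) • x ∈ J' := by
      have : (s' * s) • x = (c : A) * (x * (m : A)) := by
        rw [← hsm, ← hsc, Algebra.smul_def, map_mul]; ring
      rw [this, hc]
      exact Ideal.mul_mem_left _ _ j.2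
    have h0 : (s' * s) • (Ideal.Quotient.mk J' x) = 0 := by
      rw [← Ideal.Quotient.mkₐ_eq_mk R, ← map_smul, Ideal.Quotient.mkₐ_eq_mk,
        Ideal.Quotient.eq_zero_iff_mem]
      exact hmem
    have hne : s' * s ≠ 0 := mul_ne_zero (nonZeroDivisors.ne_zero hs') (nonZeroDivisors.ne_zero hs)
    rcases smul_eq_zero.1 h0 with h | h
    · exact absurd h hne
    · exact Ideal.Quotient.eq_zero_iff_mem.1 h
  · exact Ideal.le_comap_map

end loc

/-- Let R be a Dedekind domain with fraction field K and let G = Spec A be a finite flat group scheme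
over R (A a commutative Hopf algebra over R, finite and flat as an R-module). Closed flat R-subgroup
schemes of G correspond one-to-one to closed K-subgroup schemes of the generic fibre G_K under H ↦
H_K: the map sending a Hopf ideal J' of A with A/J' flat over R to the ideal it generates in K ⊗_R A
is a bijection onto the set of Hopf ideals of the Hopf algebra K ⊗_R A over K (its inverse takes a
Hopf ideal of K ⊗_R A to its preimage in A). -/
theorem result (R : Type u) [CommRing R] [IsDedekindDomain R]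
    (K : Type u) [Field K] [Algebra R K] [IsFractionRing R K]
    (A : Type u) [CommRing A] [HopfAlgebra R A] [Module.Finite R A] [Module.Flat R A] :
    Set.BijOn (fun J' : Ideal A => Ideal.map (Algebra.TensorProduct.includeRight : A →ₐ[R] K ⊗[R] A) J')
      {J' : Ideal A | J'.IsHopfIdeal R ∧ Module.Flat R (A ⧸ J')}
      {J : Ideal (K ⊗[R] A) | J.IsHopfIdeal K} := by
  refine ⟨?_, ?_, ?_⟩
  · -- MapsTo
    rintro J' ⟨hH, hfl⟩
    rw [isHopfIdeal_iff'] at hH
    obtain ⟨h1, h2, h3⟩ := hH
    show (Ideal.map (ι R K A) J').IsHopfIdeal K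
    set J := Ideal.map (ι R K A) J' with hJdef
    have hJ : J' ≤ J.comap (ι R K A) := Ideal.le_comap_map
    rw [isHopfIdeal_iff']
    refine ⟨?_, ?_, ?_⟩
    · have : J ≤ RingHom.ker (Bialgebra.counitAlgHom K (K ⊗[R] A)) := by
        rw [hJdef, Ideal.map_le_iff_le_comap]
        intro x hx
        rw [Ideal.mem_comap, RingHom.mem_ker]
        show Coalgebra.counit (R := K) (ι R K A x) = 0
        rw [counit_ι, h1 x hx, map_zero]
      intro x hx
      exact this hx
    · have : J ≤ RingHom.ker
          ((Algebra.TensorProduct.map (Ideal.Quotient.mkₐ K J) (Ideal.Quotient.mkₐ K J)).comp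
            (Bialgebra.comulAlgHom K (K ⊗[R] A))) := by
        conv_lhs => rw [hJdef]
        rw [Ideal.map_le_iff_le_comap]
        intro x hx
        rw [Ideal.mem_comap, RingHom.mem_ker]
        have := square R K A J' J hJ x
        rw [h2 x hx, map_zero] at this
        exact this
      intro x hx
      exact this hx
    · have : J ≤ Ideal.comap (HopfAlgebra.antipodeAlgHom K (K ⊗[R] A)) J := by
        conv_lhs => rw [hJdef]
        rw [Ideal.map_le_iff_le_comap]
        intro x hx
        rw [Ideal.mem_comap, Ideal.mem_comap]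
        show HopfAlgebra.antipode K (ι R K A x) ∈ J
        rw [antipode_ι]
        exact Ideal.mem_map_of_mem _ (h3 x hx)
      intro x hx
      exact this hx
  · -- InjOn
    rintro J₁ ⟨_, hfl₁⟩ J₂ ⟨_, hfl₂⟩ h
    have e1 := comap_map_ι R K A J₁
    have e2 := comap_map_ι R K A J₂
    simp only at h
    rw [← e1, ← e2, h]
  · -- SurjOn
    intro J hJH
    have hJH' : J.IsHopfIdeal K := hJH
    rw [isHopfIdeal_iff'] at hJH'
    obtain ⟨h1, h2, h3⟩ := hJH'
    set J' : Ideal A := Ideal.comap (ι R K A) J with hJ'def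
    have hJ : J' ≤ J.comap (ι R K A) := le_rfl
    have hinj := ιbar_injective R K A J' J hJ rfl
    haveI : Module.IsTorsionFree R ((K ⊗[R] A) ⧸ J) := torsionFree_K_module R K _
    haveI : Module.IsTorsionFree R (A ⧸ J') :=
      Function.Injective.moduleIsTorsionFree (ιbar R K A J' J hJ) hinj (fun r m => map_smul _ r m)
    refine ⟨J', ⟨?_, inferInstance⟩, map_comap_ι R K A J⟩
    rw [isHopfIdeal_iff']
    refine ⟨?_, ?_, ?_⟩
    · intro x hx
      have := h1 _ hx
      rw [counit_ι] at this
      exact (IsFractionRing.injective R K) (by rw [this, map_zero])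
    · intro x hx
      apply θ_injective R K A J' J hJ rfl
      rw [← square, map_zero]
      exact h2 _ hx
    · intro x hx
      have := h3 _ hx
      rw [antipode_ι] at this
      exact this

end Groth.Agent.S13407
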