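import Groth.Statements.S13411
import Groth.Agent.Lib.helper10.CycleSp

set_option autoImplicit false
universe u v
open CombGraph

namespace Groth.Agent.S13411

/-- Let `A` be an abelian group and `G` a finite connected simple graph on `V`, bipartite for a
two-colouring `c`, with cyclomatic number `n` (number of edges minus number of vertices plus one).
Then the additive group of labellings `x : Sym2 V → A` vanishing off the edge set and with `∑_{e ∋
v} x e = 0` at every vertex `v` is isomorphic to `A^n`: it is the range of an injective additive map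
`(Fin n → A) → (Sym2 V → A)`. (The published statement concerns finite bipartite graphs in general;
this row treats simple graphs.) -/
theorem result {V : Type u} [Fintype V]
    [DecidableEq V] (G : SimpleGraph V) [DecidableRel G.Adj] (hconn : G.Connected) (c : V → Bool)
    (hbip : ∀ v w : V, G.Adj v w → c v ≠ c w) (A : Type v) [AddCommGroup A] (n : ℕ)
    (hn : G.edgeFinset.card + 1 = Fintype.card V + n) :
    ∃ f : (Fin n → A) →+ (Sym2 V → A), Function.Injective f ∧
      Set.range f = {x : Sym2 V → A | (∀ e : Sym2 V, e ∉ G.edgeSet → x e = 0) ∧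
        ∀ v : V, ∑ e ∈ G.incidenceFinset v, x e = 0} := by
  classical
  obtain ⟨f, hinj, hrange⟩ := Groth.Agent.Lib.helper10.CycleSp.main (A := A) c n G hconn hbip
    (by
      rw [Nat.card_eq_fintype_card, Nat.card_eq_fintype_card, ← SimpleGraph.edgeFinset_card]
      exact hn)
  refine ⟨f, hinj, ?_⟩
  rw [hrange]
  ext x
  simp only [SetLike.mem_coe, Groth.Agent.Lib.helper10.CycleSp.mem_cyc, Set.mem_setOf_eq]
  constructor
  · rintro ⟨h0, h1⟩
    refine ⟨h0, fun v => ?_⟩
    rw [Groth.Agent.Lib.helper10.CycleSp.sum_incidenceFinset G x h0 v, h1]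
    rfl
  · rintro ⟨h0, h1⟩
    refine ⟨h0, ?_⟩
    funext v
    rw [← Groth.Agent.Lib.helper10.CycleSp.sum_incidenceFinset G x h0 v, h1 v]
    rfl

end Groth.Agent.S13411
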