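import Groth.Statements.S13417
import Mathlib
import Groth.Agent.S2690
import Groth.Agent.S7620
import Groth.Agent.Lib.Helper22.GeomRed
import Groth.Agent.Lib.Helper22.NormalGood
import Groth.Agent.Lib.Helper22.NormalLocal
import Groth.Agent.Lib.Helper12.HenselIntegralDomain
import Groth.Agent.Lib.Helper12.HenselIntegralLocal2

set_option autoImplicit false
universe u
open scoped TensorProduct
open HLoc2

namespace Groth.Agent.S13417

theorem aux
    (k : Type u) [Field k] (R₀ : Type u) [CommRing R₀] [IsDomain R₀] [HenselianLocalRing R₀] [Algebra k R₀]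
    [IsIntegrallyClosed R₀] (hdim : ringKrullDim R₀ = 2)
    (hres : Function.Surjective (fun a : k => IsLocalRing.residue R₀ (algebraMap k R₀ a)))
    (K : Type u) [Field K] [Algebra k K] [Algebra.IsSeparable k K]
    [IsDomain (R₀ ⊗[k] K)] :
    ∃ _ : HenselianLocalRing (R₀ ⊗[k] K),
      IsIntegrallyClosed (R₀ ⊗[k] K) ∧
      ringKrullDim (R₀ ⊗[k] K) = 2 ∧
      Function.Surjective (fun a : K =>
        IsLocalRing.residue (R₀ ⊗[k] K)
          ((Algebra.TensorProduct.includeRight : K →ₐ[k] R₀ ⊗[k] K) a)) := by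
  classical
  haveI : Algebra.IsIntegral k (K) := inferInstance
  haveI : Algebra.IsIntegral R₀ (R₀ ⊗[k] K) := inferInstance
  haveI hloc : IsLocalRing (R₀ ⊗[k] K) :=
    Groth.Agent.Lib.Helper12.isLocalRing_of_isIntegral_of_isDomain R₀
      (R₀ ⊗[k] K)
  have hhens : HenselianLocalRing (R₀ ⊗[k] K) :=
    Groth.Agent.Lib.Helper12.HensInt.henselianLocalRing_of_isIntegral R₀
      (R₀ ⊗[k] K)
  refine ⟨hhens, ?_, ?_, ?_⟩
  · -- integrally closed
    haveI : Algebra.IsGeometricallyReduced k (K) := by
      rw [Algebra.isGeometricallyReduced_field_iff]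
      exact Groth.Agent.Lib.Helper22.GeomRed.isReduced_field_tensor_of_isSeparable
    have hR₀N : EGA4.IsNormalRing R₀ :=
      Groth.Agent.Lib.Helper22.NormalLocal.isNormalRing_of_QN ⟨inferInstance, inferInstance⟩
    have h1 : EGA4.IsNormalRing (K ⊗[k] R₀) :=
      Groth.Agent.S2690.result k R₀ K hR₀N
    have h2 : EGA4.IsNormalRing (R₀ ⊗[k] K) :=
      Groth.Agent.Lib.Helper22.NormalGood.good_normal.iso _ _
        (Algebra.TensorProduct.comm k (K) R₀).toRingEquiv h1
    exact IsIntegrallyClosed.of_localization_maximal fun p _ _ => (h2 p).2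
  · -- dimension
    rw [← hdim]
    have h0 := Algebra.TensorProduct.includeLeft_injective (R := k) (S := R₀) (A := R₀)
      (B := K) (algebraMap k (K)).injective
    have h := Groth.Agent.S7620.ringKrullDim_eq_of_integral_injective R₀
      (R₀ ⊗[k] K) (fun x y hxy => h0 hxy)
    exact h
  · -- residue field
    have key : ∀ t : R₀ ⊗[k] K, ∃ c : K,
        t - (1 : R₀) ⊗ₜ[k] c ∈ (IsLocalRing.maximalIdeal R₀).map
          (algebraMap R₀ (R₀ ⊗[k] K)) := by
      intro t
      induction t using TensorProduct.induction_on with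
      | zero => exact ⟨0, by simp⟩
      | tmul r c =>
        obtain ⟨a, ha⟩ := hres (IsLocalRing.residue R₀ r)
        have hm : r - algebraMap k R₀ a ∈ IsLocalRing.maximalIdeal R₀ := by
          rw [← Ideal.Quotient.eq_zero_iff_mem]
          change IsLocalRing.residue R₀ (r - algebraMap k R₀ a) = 0
          rw [map_sub, sub_eq_zero]
          exact ha.symm
        refine ⟨a • c, ?_⟩
        have h1 : r ⊗ₜ[k] c - (1 : R₀) ⊗ₜ[k] (a • c) =
            algebraMap R₀ (R₀ ⊗[k] K) (r - algebraMap k R₀ a) *
              ((1 : R₀) ⊗ₜ[k] c) := by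
          rw [Algebra.TensorProduct.algebraMap_apply, Algebra.TensorProduct.tmul_mul_tmul,
            one_mul, Algebra.algebraMap_self_apply, mul_one, TensorProduct.sub_tmul,
            TensorProduct.tmul_smul, Algebra.algebraMap_eq_smul_one, TensorProduct.smul_tmul']
        rw [h1]
        exact Ideal.mul_mem_right _ _ (Ideal.mem_map_of_mem _ hm)
      | add x y hx hy =>
        obtain ⟨c1, h1⟩ := hx
        obtain ⟨c2, h2⟩ := hy
        refine ⟨c1 + c2, ?_⟩
        have : x + y - (1 : R₀) ⊗ₜ[k] (c1 + c2) =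
            (x - (1 : R₀) ⊗ₜ[k] c1) + (y - (1 : R₀) ⊗ₜ[k] c2) := by
          rw [TensorProduct.tmul_add]; ring
        rw [this]
        exact Ideal.add_mem _ h1 h2
    have hle : (IsLocalRing.maximalIdeal R₀).map
        (algebraMap R₀ (R₀ ⊗[k] K)) ≤
        IsLocalRing.maximalIdeal (R₀ ⊗[k] K) :=
      Groth.Agent.Lib.Helper12.HensInt.map_maximalIdeal_le_of_isMaximal R₀
        (R₀ ⊗[k] K) _
    intro y
    obtain ⟨t, rfl⟩ := IsLocalRing.residue_surjective y
    obtain ⟨c, hc⟩ := key t
    refine ⟨c, ?_⟩
    change IsLocalRing.residue _ ((1 : R₀) ⊗ₜ[k] c) = IsLocalRing.residue _ t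
    rw [eq_comm, ← sub_eq_zero, ← map_sub]
    exact Ideal.Quotient.eq_zero_iff_mem.mpr (hle hc)


/-- Let `k` be a field with separable closure `kˢ` and `R₀` a commutative local `k`-algebra which is
excellent, henselian, integrally closed, of Krull dimension two, with residue field `k`, and
geometrically integral (`R₀ ⊗_k kˢ` is a domain). Then `R₀ ⊗_k kˢ` is a henselian local ring which
is integrally closed, of Krull dimension two, and whose residue field is `kˢ` (the composite `kˢ →
R₀ ⊗_k kˢ →` residue field is surjective). (The published statement also asserts that `R₀ ⊗_k kˢ` is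
excellent; that assertion is not restated here.) -/
theorem result
    (k : Type u) [Field k] (R₀ : Type u) [CommRing R₀] [IsDomain R₀] [HenselianLocalRing R₀] [Algebra k R₀]
    [IsIntegrallyClosed R₀] (hexc : EGA4.IsExcellent R₀) (hdim : ringKrullDim R₀ = 2)
    (hres : Function.Surjective (fun a : k => IsLocalRing.residue R₀ (algebraMap k R₀ a)))
    [IsDomain (R₀ ⊗[k] SeparableClosure k)] :
    ∃ _ : HenselianLocalRing (R₀ ⊗[k] SeparableClosure k),
      IsIntegrallyClosed (R₀ ⊗[k] SeparableClosure k) ∧
      ringKrullDim (R₀ ⊗[k] SeparableClosure k) = 2 ∧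
      Function.Surjective (fun a : SeparableClosure k =>
        IsLocalRing.residue (R₀ ⊗[k] SeparableClosure k)
          ((Algebra.TensorProduct.includeRight : SeparableClosure k →ₐ[k] R₀ ⊗[k] SeparableClosure k) a)) := by
  exact aux k R₀ hdim hres (SeparableClosure k)

end Groth.Agent.S13417
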