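import Groth.Statements.S13418
-- import your own Groth.Agent.* helpers here

set_option autoImplicit false
universe u
open CategoryTheory AlgebraicGeometry
open NeronHD

namespace Groth.Agent.S13418

open Limits

/-- Formal: if `G` is a right adjoint and `P` with `p₁, p₂` has the universal property of a product
(joint monicity + lifts), then bijectivity of `G.map` on homs into `N`, `M` gives it for `P`. -/
theorem bijective_of_prod {C D : Type*} [Category C] [Category D] {F : D ⥤ C} {G : C ⥤ D}
    (adj : F ⊣ G) {N M P Z : C} (p₁ : P ⟶ N) (p₂ : P ⟶ M)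
    (hmono : ∀ {W : C} (a b : W ⟶ P), a ≫ p₁ = b ≫ p₁ → a ≫ p₂ = b ≫ p₂ → a = b)
    (hlift : ∀ (a₁ : Z ⟶ N) (a₂ : Z ⟶ M), ∃ a : Z ⟶ P, a ≫ p₁ = a₁ ∧ a ≫ p₂ = a₂)
    (hN : Function.Bijective (fun g : Z ⟶ N => G.map g))
    (hM : Function.Bijective (fun g : Z ⟶ M => G.map g)) :
    Function.Bijective (fun g : Z ⟶ P => G.map g) := by
  have hGmono : ∀ {W : D} (a b : W ⟶ G.obj P), a ≫ G.map p₁ = b ≫ G.map p₁ →
      a ≫ G.map p₂ = b ≫ G.map p₂ → a = b := by
    intro W a b h1 h2
    apply (adj.homEquiv W P).symm.injective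
    apply hmono
    · rw [← Adjunction.homEquiv_naturality_right_symm, ← Adjunction.homEquiv_naturality_right_symm, h1]
    · rw [← Adjunction.homEquiv_naturality_right_symm, ← Adjunction.homEquiv_naturality_right_symm, h2]
  constructor
  · intro g g' hgg
    simp only at hgg
    apply hmono
    · apply hN.1
      simp only [Functor.map_comp, hgg]
    · apply hM.1
      simp only [Functor.map_comp, hgg]
  · intro h
    obtain ⟨a₁, ha₁⟩ := hN.2 (h ≫ G.map p₁)
    obtain ⟨a₂, ha₂⟩ := hM.2 (h ≫ G.map p₂)
    obtain ⟨a, h1, h2⟩ := hlift a₁ a₂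
    refine ⟨a, ?_⟩
    simp only at ha₁ ha₂ ⊢
    apply hGmono
    · rw [← Functor.map_comp, h1, ha₁]
    · rw [← Functor.map_comp, h2, ha₂]


/-- Let S be a locally Noetherian scheme over a field of characteristic 0 and S₀ ⊆ S a
scheme-theoretically dense open. If N and M are smooth S-schemes having the Néron mapping property
for S₀ ⊆ S (for every smooth S-scheme Z, restriction to S₀ is a bijection from S-morphisms Z → N
onto S₀-morphisms Z|S₀ → N|S₀), then the fibre product N ×_S M has the Néron mapping property for S₀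
⊆ S (its smoothness over S being automatic). (This row is the case of schemes, with smooth test
schemes, of a statement about algebraic spaces.) -/
theorem result {k : Type u} [Field k] [CharZero k] {S : Scheme.{u}} (σ : S ⟶ Spec (CommRingCat.of k)) [IsLocallyNoetherian S] (S₀ : S.Opens) (hS₀ : CInt.IsSchematicallyDense S₀)
    (N M : Over S) [Smooth N.hom] [Smooth M.hom]
    (hN : ∀ Z : Over S, Smooth Z.hom → Function.Bijective (fun g : Z ⟶ N => (Over.pullback S₀.ι).map g))
    (hM : ∀ Z : Over S, Smooth Z.hom → Function.Bijective (fun g : Z ⟶ M => (Over.pullback S₀.ι).map g)) :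
    ∀ Z : Over S, Smooth Z.hom → Function.Bijective (fun g : Z ⟶ Over.mk (Limits.pullback.fst N.hom M.hom ≫ N.hom) => (Over.pullback S₀.ι).map g) := by
  intro Z hZ
  let P : Over S := Over.mk (Limits.pullback.fst N.hom M.hom ≫ N.hom)
  let p₁ : P ⟶ N := Over.homMk (pullback.fst N.hom M.hom) rfl
  let p₂ : P ⟶ M := Over.homMk (pullback.snd N.hom M.hom) (by
    show pullback.snd N.hom M.hom ≫ M.hom = pullback.fst N.hom M.hom ≫ N.hom
    rw [pullback.condition])
  refine bijective_of_prod (Over.mapPullbackAdj S₀.ι) p₁ p₂ ?_ ?_ (hN Z hZ) (hM Z hZ)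
  · intro W a b h1 h2
    ext
    apply pullback.hom_ext
    · exact congrArg CommaMorphism.left h1
    · exact congrArg CommaMorphism.left h2
  · intro a₁ a₂
    refine ⟨Over.homMk (pullback.lift a₁.left a₂.left (by rw [Over.w a₁, Over.w a₂])) ?_, ?_, ?_⟩
    · show pullback.lift a₁.left a₂.left _ ≫ pullback.fst N.hom M.hom ≫ N.hom = Z.hom
      rw [pullback.lift_fst_assoc, Over.w a₁]
    · ext
      show pullback.lift a₁.left a₂.left _ ≫ pullback.fst N.hom M.hom = a₁.left
      rw [pullback.lift_fst]
    · ext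
      show pullback.lift a₁.left a₂.left _ ≫ pullback.snd N.hom M.hom = a₂.left
      rw [pullback.lift_snd]

end Groth.Agent.S13418
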