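import Groth.Statements.S13427
import Mathlib.Tactic
-- import your own Groth.Agent.* helpers here

set_option autoImplicit false
universe u
open CategoryTheory AlgebraicGeometry
open NeronHD

namespace Groth.Agent.S13427

open CategoryTheory.Limits

/-- Let S be a locally Noetherian scheme over a field of characteristic 0, S₀ ⊆ S a scheme-theoretically
dense open, and G, H smooth S-schemes with the Néron mapping property for S₀ ⊆ S (restriction to S₀
of S-morphisms from smooth S-schemes is bijective). Let f : G → H be an S-morphism and e : S → H a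
section of H → S, and let K = G ×_H S be the fibre of f over e (the case in view: f a homomorphism
of smooth group schemes, e the unit, K the kernel, so that 1 → K → G → H is left exact). If K → S is
smooth, then K has the Néron mapping property for S₀ ⊆ S. (Case of schemes, with smooth test
schemes, of a statement about group algebraic spaces.) -/
theorem result {k : Type u} [Field k] [CharZero k] {S : Scheme.{u}} (σ : S ⟶ Spec (CommRingCat.of k)) [IsLocallyNoetherian S] (S₀ : S.Opens) (hS₀ : CInt.IsSchematicallyDense S₀)
    (G H : Over S) [Smooth G.hom] [Smooth H.hom]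
    (hG : ∀ Z : Over S, Smooth Z.hom → Function.Bijective (fun g : Z ⟶ G => (Over.pullback S₀.ι).map g))
    (hH : ∀ Z : Over S, Smooth Z.hom → Function.Bijective (fun g : Z ⟶ H => (Over.pullback S₀.ι).map g))
    (f : G ⟶ H) (e : S ⟶ H.left) (he : e ≫ H.hom = 𝟙 S)
    [Smooth (Limits.pullback.snd f.left e)] :
    ∀ Z : Over S, Smooth Z.hom → Function.Bijective (fun g : Z ⟶ Over.mk (Limits.pullback.snd f.left e) => (Over.pullback S₀.ι).map g) := by
  intro Z hZ
  let K : Over S := Over.mk (Limits.pullback.snd f.left e)
  let P := Over.pullback S₀.ι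
  have hfst : pullback.fst f.left e ≫ G.hom = pullback.snd f.left e := by
    rw [← Over.w f, ← Category.assoc, pullback.condition, Category.assoc, he, Category.comp_id]
  let ιK : K ⟶ G := Over.homMk (pullback.fst f.left e) hfst
  have hemono : Mono e := mono_of_mono_fac he
  have hιKmono : Mono ιK := by
    haveI : Mono ιK.left := by
      change Mono (pullback.fst f.left e)
      infer_instance
    exact Over.mono_of_mono_left ιK
  have hPmono : Mono (P.map ιK) := by
    haveI : P.IsRightAdjoint := ⟨_, ⟨Over.mapPullbackAdj S₀.ι⟩⟩
    infer_instance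
  -- the section as a morphism from the terminal object
  let T : Over S := Over.mk (𝟙 S)
  let eS : T ⟶ H := Over.homMk e he
  have hterm : ∀ (W : Over S₀.toScheme) (a b : W ⟶ P.obj T), a = b := by
    intro W a b
    ext1
    have ha := Over.w a
    have hb := Over.w b
    have hiso : IsIso (P.obj T).hom := by
      change IsIso (pullback.snd (𝟙 S) S₀.ι)
      infer_instance
    rw [← cancel_mono (P.obj T).hom, ha, hb]
  constructor
  · intro g₁ g₂ h12
    have h1 : g₁ ≫ ιK = g₂ ≫ ιK := by
      apply (hG Z hZ).1
      change P.map (g₁ ≫ ιK) = P.map (g₂ ≫ ιK)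
      rw [Functor.map_comp, Functor.map_comp]
      exact congrArg (· ≫ P.map ιK) h12
    exact (cancel_mono ιK).mp h1
  · intro g₀
    obtain ⟨γ, hγ⟩ := (hG Z hZ).2 (g₀ ≫ P.map ιK)
    change P.map γ = g₀ ≫ P.map ιK at hγ
    let tZ : Z ⟶ T := Over.homMk Z.hom (Category.comp_id _)
    let tK : K ⟶ T := Over.homMk K.hom (Category.comp_id _)
    have hιKf : ιK ≫ f = tK ≫ eS := by
      ext1
      change pullback.fst f.left e ≫ f.left = pullback.snd f.left e ≫ e
      exact pullback.condition
    have hγf : γ ≫ f = tZ ≫ eS := by
      apply (hH Z hZ).1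
      change P.map (γ ≫ f) = P.map (tZ ≫ eS)
      rw [Functor.map_comp, Functor.map_comp, hγ, Category.assoc, ← Functor.map_comp, hιKf,
        Functor.map_comp, ← Category.assoc]
      congr 1
      exact hterm _ _ _
    have hγf' : γ.left ≫ f.left = Z.hom ≫ e := congrArg (fun φ => φ.left) hγf
    let g : Z ⟶ K := Over.homMk (pullback.lift γ.left Z.hom hγf') (pullback.lift_snd _ _ _)
    refine ⟨g, ?_⟩
    change P.map g = g₀
    rw [← cancel_mono (P.map ιK), ← Functor.map_comp, ← hγ]
    congr 1
    ext1
    exact pullback.lift_fst _ _ _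

end Groth.Agent.S13427
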