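import Groth.Statements.S13441
import Groth.Agent.Lib.Helper9.MonomialIdeal
import Mathlib.SetTheory.Cardinal.Finite

set_option autoImplicit false
universe u
open W4c1hilbpn

namespace Groth.Agent.S13441

open W4c1hilbpn in
theorem e3_apply (a b c : ℕ) (x : Fin 3) : e3 a b c x = ![a, b, c] x := rfl

open W4c1hilbpn in
theorem e3_swap01 (a b c : ℕ) :
    e3 a (b + 1) c - Finsupp.single 1 1 + Finsupp.single 0 1 = e3 (a + 1) b c := by
  ext x
  fin_cases x <;> simp [e3_apply]

open W4c1hilbpn in
theorem e3_swap02 (a b c : ℕ) :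
    e3 a b (c + 1) - Finsupp.single 2 1 + Finsupp.single 0 1 = e3 (a + 1) b c := by
  ext x
  fin_cases x <;> simp [e3_apply]


open W4c1hilbpn in
/-- Let k be an infinite field, S = k[x,y,z] with variables ordered x > y > z, and I a strongly stable
ideal of finite colength, with staircase numbers b^z_{i,j} = the number of c with x^i y^j z^c
outside I and b^y_{i,j} = the number of b with x^i y^b z^j outside I. Then b^z_{i+1,j} ≤ b^z_{i,j+1}
and b^y_{i+1,j} ≤ b^y_{i,j+1} for all i and j (equivalently the maximum of the two neighbouring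
staircase numbers is the second one). -/
theorem result (k : Type u) [Field k] [Infinite k]
    (I : Ideal (MvPolynomial (Fin 3) k)) (hI : IsStronglyStable I) [Module.Finite k (MvPolynomial (Fin 3) k ⧸ I)] (i j : ℕ) :
    stairZ I (i + 1) j ≤ stairZ I i (j + 1) ∧ stairY I (i + 1) j ≤ stairY I i (j + 1) := by
  classical
  have hfin := Groth.Agent.Lib.Helper9.finite_compl_exps I hI.1
  constructor
  · unfold stairZ
    have : Finite {c : ℕ // e3 i (j + 1) c ∉ exps I} := by
      have : Finite ((exps I)ᶜ : Set (Fin 3 →₀ ℕ)) := hfin.to_subtype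
      refine Finite.of_injective (fun c => (⟨e3 i (j + 1) c.1, c.2⟩ : ((exps I)ᶜ : Set _))) ?_
      intro c c' h
      have h1 := congrArg (fun v : ((exps I)ᶜ : Set (Fin 3 →₀ ℕ)) => (v : Fin 3 →₀ ℕ) 2) h
      simp only [e3_apply] at h1
      exact Subtype.ext (by simpa using h1)
    refine Nat.card_le_card_of_injective
      (fun c => (⟨c.1, fun hmem => c.2 ?_⟩ : {c : ℕ // e3 i (j + 1) c ∉ exps I})) ?_
    · have := hI.2 _ hmem 0 1 (by decide) (by simp [e3_apply])
      rwa [e3_swap01] at this
    · intro c c' h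
      exact Subtype.ext (Subtype.mk.inj h)
  · unfold stairY
    have : Finite {b : ℕ // e3 i b (j + 1) ∉ exps I} := by
      have : Finite ((exps I)ᶜ : Set (Fin 3 →₀ ℕ)) := hfin.to_subtype
      refine Finite.of_injective (fun c => (⟨e3 i c.1 (j + 1), c.2⟩ : ((exps I)ᶜ : Set _))) ?_
      intro c c' h
      have h1 := congrArg (fun v : ((exps I)ᶜ : Set (Fin 3 →₀ ℕ)) => (v : Fin 3 →₀ ℕ) 1) h
      simp only [e3_apply] at h1
      exact Subtype.ext (by simpa using h1)
    refine Nat.card_le_card_of_injective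
      (fun c => (⟨c.1, fun hmem => c.2 ?_⟩ : {b : ℕ // e3 i b (j + 1) ∉ exps I})) ?_
    · have := hI.2 _ hmem 0 2 (by decide) (by simp [e3_apply])
      rwa [e3_swap02] at this
    · intro c c' h
      exact Subtype.ext (Subtype.mk.inj h)

end Groth.Agent.S13441
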