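import Groth.Statements.S13453
import Groth.Agent.Lib.Helper9.MonomialIdeal2

set_option autoImplicit false
universe u
open W4c1hilbpn

namespace Groth.Agent.S13453

open W4c1hilbpn in
theorem e3_apply (a b c : ℕ) (x : Fin 3) : e3 a b c x = ![a, b, c] x := rfl

open W4c1hilbpn in
theorem e3_swap01 (a b c : ℕ) :
    e3 a (b + 1) c - Finsupp.single 1 1 + Finsupp.single 0 1 = e3 (a + 1) b c := by
  ext x
  fin_cases x <;> simp [e3_apply]

open W4c1hilbpn in
theorem e3_swap12 (a b c : ℕ) (_hc : 0 < c) :
    e3 a b c - Finsupp.single 2 1 + Finsupp.single 1 1 = e3 a (b + 1) (c - 1) := by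
  ext x
  fin_cases x <;> simp [e3_apply]


open W4c1hilbpn in
/-- Let k be an infinite field, S = k[x,y,z] with variables ordered x > y > z, and I a strongly stable
ideal of finite colength; write I_i for the ideal of polynomials f in k[y,z] with x^i f in I (so I
is the direct sum of the x^i I_i). Then each I_i is a strongly stable ideal of k[y,z] (with y > z)
and the ideal quotient (I_i : y) is contained in I_{i+1}. -/
theorem result (k : Type u) [Field k] [Infinite k]
    (I : Ideal (MvPolynomial (Fin 3) k)) (hI : IsStronglyStable I) [Module.Finite k (MvPolynomial (Fin 3) k ⧸ I)] (i : ℕ) :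
    IsStronglyStable (sliceX I i) ∧
      (sliceX I i).colon {(MvPolynomial.X 0 : MvPolynomial (Fin 2) k)} ≤ sliceX I (i + 1) := by
  classical
  have hmon : IsMonomial I := hI.1
  have hexps : ∀ (a : ℕ) (β : Fin 2 →₀ ℕ),
      β ∈ exps (sliceX I a) ↔ e3 a (β 0) (β 1) ∈ exps I := by
    intro a β
    show MvPolynomial.monomial β (1 : k) ∈ sliceX I a ↔ _
    rw [Groth.Agent.Lib.Helper9.mem_sliceX_iff I hmon]
    rw [MvPolynomial.support_monomial, if_neg one_ne_zero]
    simp
  refine ⟨⟨?_, ?_⟩, ?_⟩
  · intro p hp β hβ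
    show β ∈ exps (sliceX I i)
    rw [hexps]
    exact (Groth.Agent.Lib.Helper9.mem_sliceX_iff I hmon p i).mp hp β hβ
  · intro β hβ i' j' hij hpos
    have hi' : i' = 0 := by
      have := j'.2
      apply Fin.ext
      have h1 : i'.val < j'.val := hij
      simp only [Fin.val_zero]
      omega
    have hj' : j' = 1 := by
      have := j'.2
      apply Fin.ext
      have h1 : i'.val < j'.val := hij
      simp only [Fin.val_one]
      omega
    subst hi' hj'
    rw [hexps] at hβ ⊢
    have h1 := hI.2 _ hβ 1 2 (by decide) (by simpa [e3_apply] using hpos)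
    rw [e3_swap12 _ _ _ hpos] at h1
    have e0 : (β - Finsupp.single 1 1 + Finsupp.single 0 1 : Fin 2 →₀ ℕ) 0 = β 0 + 1 := by simp
    have e1 : (β - Finsupp.single 1 1 + Finsupp.single 0 1 : Fin 2 →₀ ℕ) 1 = β 1 - 1 := by simp
    rw [e0, e1]
    exact h1
  · intro g hg
    rw [Submodule.mem_colon_singleton, smul_eq_mul] at hg
    rw [Groth.Agent.Lib.Helper9.mem_sliceX_iff I hmon] at hg ⊢
    intro β hβ
    have hmem : β + Finsupp.single 0 1 ∈ (g * MvPolynomial.X 0).support := by
      rw [MvPolynomial.support_mul_X]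
      exact Finset.mem_map_of_mem _ hβ
    have h1 := hg _ hmem
    have e0 : (β + Finsupp.single 0 1 : Fin 2 →₀ ℕ) 0 = β 0 + 1 := by simp
    have e1 : (β + Finsupp.single 0 1 : Fin 2 →₀ ℕ) 1 = β 1 := by simp
    rw [e0, e1] at h1
    have h2 := hI.2 _ h1 0 1 (by decide) (by simp [e3_apply])
    rwa [e3_swap01] at h2

end Groth.Agent.S13453
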