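import Groth.Statements.S13454
import Groth.Agent.Lib.Helper14.StairA

set_option autoImplicit false
universe u
open W4c1hilbpn

namespace Groth.Agent.S13454




open W4c1hilbpn in
/-- Let k be an infinite field, S = k[x,y,z] with variables ordered x > y > z and irrelevant ideal m, r
a natural number, and I a strongly stable ideal of colength at most C(r+2, 3) = dim S/m^r; write I_i
for the ideal of polynomials f in k[y,z] with x^i f in I. Then for every j ≤ r the sum over j ≤ i <
r of dim k[y,z]/I_i is at most the sum over the same i of C(r-i+1, 2) = dim k[y,z]/(y,z)^{r-i}, and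
if equality holds for every j < r then I = m^r. -/
theorem result (k : Type u) [Field k] [Infinite k] (r : ℕ)
    (I : Ideal (MvPolynomial (Fin 3) k)) (hI : IsStronglyStable I) [Module.Finite k (MvPolynomial (Fin 3) k ⧸ I)]
    (hd : Module.finrank k (MvPolynomial (Fin 3) k ⧸ I) ≤ Nat.choose (r + 2) 3) :
    (∀ j, j ≤ r → ∑ i ∈ Finset.Ico j r, Module.finrank k (MvPolynomial (Fin 2) k ⧸ sliceX I i) ≤
        ∑ i ∈ Finset.Ico j r, Nat.choose (r - i + 1) 2) ∧
    ((∀ j, j < r → ∑ i ∈ Finset.Ico j r, Module.finrank k (MvPolynomial (Fin 2) k ⧸ sliceX I i) =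
        ∑ i ∈ Finset.Ico j r, Nat.choose (r - i + 1) 2) → I = (Ideal.span (Set.range (MvPolynomial.X : Fin 3 → MvPolynomial (Fin 3) k))) ^ r) := by
  obtain ⟨M, hM1, hM2⟩ := Groth.Agent.Lib.Helper14.StairA.exists_bounds hI
  have hB : ∀ a b, M + r + 1 ≤ b → stairZ I a b = 0 := fun a b hb => hM1 a b (by omega)
  have hN : ∀ a b, M ≤ a → stairZ I a b = 0 := hM2
  have h1 := Groth.Agent.Lib.Helper14.StairA.stair_h1 hI
  have h2 := Groth.Agent.Lib.Helper14.StairA.stair_h2 hI
  have h3 := Groth.Agent.Lib.Helper14.StairA.stair_h3 hI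
  have htot := Groth.Agent.Lib.Helper14.StairA.finrank_total hI (M + r + 1) M hB hN
  have hsl := Groth.Agent.Lib.Helper14.StairA.finrank_slice hI (M + r + 1) hB
  rw [htot] at hd
  simp only [hsl]
  refine ⟨fun j hj => Groth.Agent.Lib.Helper14.StairCore.part1 h1 h2 h3 hB hN r hd j hj, fun heq => ?_⟩
  exact Groth.Agent.Lib.Helper14.StairA.eq_pow_of_stair hI r
    (Groth.Agent.Lib.Helper14.StairCore.part2 h1 h2 h3 hB hN r (by omega) hd heq)

end Groth.Agent.S13454
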