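import Groth.Statements.S1348
import Groth.Agent.Lib.Helper21.FlatDescQ15
import Groth.Agent.Lib.Helper21.FlatDescQ6
import Groth.Agent.Lib.Helper21.FlatDescQ4
import Groth.Agent.Lib.Helper21.FlatDescK

set_option autoImplicit false
universe u
open FlatMor

namespace Groth.Agent.S1348

open AlgebraicGeometry CategoryTheory Limits
open Groth.Agent.Lib.Helper21.FlatDesc IsLocalRing
open scoped Pointwise

set_option maxHeartbeats 800000 in
set_option synthInstance.maxHeartbeats 200000 in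
/-- stalk-level step. -/
theorem stalk_step {X S : Scheme.{u}} (f : X ⟶ S) [LocallyOfFinitePresentation f] (x : X)
    (hflat : (f.stalkMap x).hom.Flat) (h : X.presheaf.stalk x)
    (hm : h ∈ IsLocalRing.maximalIdeal (X.presheaf.stalk x))
    (hreg : Ideal.Quotient.mk (Ideal.map (f.stalkMap x).hom
        (IsLocalRing.maximalIdeal (S.presheaf.stalk (f x)))) h ∈
      nonZeroDivisors (X.presheaf.stalk x ⧸ Ideal.map (f.stalkMap x).hom
        (IsLocalRing.maximalIdeal (S.presheaf.stalk (f x))))) :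
    letI : Algebra (S.presheaf.stalk (f x)) (X.presheaf.stalk x) := (f.stalkMap x).hom.toAlgebra
    h ∈ nonZeroDivisors (X.presheaf.stalk x) ∧
      Module.Flat (S.presheaf.stalk (f x)) (X.presheaf.stalk x ⧸ Ideal.span {h}) := by
  letI aO : Algebra (S.presheaf.stalk (f x)) (X.presheaf.stalk x) := (f.stalkMap x).hom.toAlgebra
  haveI : IsLocalHom (algebraMap (S.presheaf.stalk (f x)) (X.presheaf.stalk x)) :=
    inferInstanceAs (IsLocalHom (f.stalkMap x).hom)
  obtain ⟨C₀, _, a, b, TC, hab, ha, hloc⟩ := essFP_stalkMap f x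
  letI aAC₀ : Algebra (S.presheaf.stalk (f x)) C₀ := a.toAlgebra
  letI aC₀C : Algebra C₀ (X.presheaf.stalk x) := b.toAlgebra
  haveI twC : IsScalarTower (S.presheaf.stalk (f x)) C₀ (X.presheaf.stalk x) :=
    IsScalarTower.of_algebraMap_eq fun r => by
      show (f.stalkMap x).hom r = b (a r)
      rw [hab]; rfl
  haveI : Algebra.FinitePresentation (S.presheaf.stalk (f x)) C₀ := ha
  haveI := hloc
  haveI : Module.Flat (S.presheaf.stalk (f x)) (X.presheaf.stalk x) := hflat
  obtain ⟨hr, hfl⟩ := isSMulRegular_and_flat_quot_of_fibre (S.presheaf.stalk (f x))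
    (X.presheaf.stalk x) C₀ TC (X.presheaf.stalk x) h hm (by
      intro y hy
      rw [smul_eq_mul, Ideal.mul_top] at hy ⊢
      rw [smul_eq_mul] at hy
      rw [mem_nonZeroDivisors_iff_left] at hreg
      have h0 := hreg (Ideal.Quotient.mk _ y) (by
        rw [← map_mul]
        exact Ideal.Quotient.eq_zero_iff_mem.mpr hy)
      exact Ideal.Quotient.eq_zero_iff_mem.mp h0)
  have hspan : (h • (⊤ : Submodule (X.presheaf.stalk x) (X.presheaf.stalk x))) =
      Ideal.span {h} := by
    ext z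
    rw [Submodule.mem_smul_pointwise_iff_exists, Ideal.mem_span_singleton']
    constructor
    · rintro ⟨c, -, rfl⟩; exact ⟨c, by rw [smul_eq_mul, mul_comm]⟩
    · rintro ⟨c, rfl⟩; exact ⟨c, trivial, by rw [smul_eq_mul, mul_comm]⟩
  refine ⟨?_, ?_⟩
  · rw [mem_nonZeroDivisors_iff_left]
    intro z hz
    exact hr (show h • z = h • 0 by rw [smul_eq_mul, hz, smul_zero])
  · exact Module.Flat.of_linearEquiv
      ((Submodule.quotEquivOfEq _ _ hspan).symm.restrictScalars (S.presheaf.stalk (f x)))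


set_option maxHeartbeats 1600000 in
set_option synthInstance.maxHeartbeats 200000 in
open AlgebraicGeometry CategoryTheory Limits in
/-- Let f be locally of finite presentation and flat at a point x with image s, and let h be an element
of the maximal ideal of the local ring at x whose image in the local ring of the fibre (the local
ring at x modulo the ideal generated by the maximal ideal at s) is a nonzerodivisor. Then there is
an affine open neighbourhood U of x and a nonzerodivisor of its coordinate ring with germ h at x (so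
its zero locus is an effective Cartier divisor of U through x) whose zero scheme is flat and locally
of finite presentation over the base. -/
theorem result {X S : Scheme.{u}} (f : X ⟶ S) [LocallyOfFinitePresentation f] (x : X)
    (hflat : (f.stalkMap x).hom.Flat) (h : X.presheaf.stalk x) (hm : h ∈ IsLocalRing.maximalIdeal (X.presheaf.stalk x))
    (hreg : Ideal.Quotient.mk (Ideal.map (f.stalkMap x).hom (IsLocalRing.maximalIdeal (S.presheaf.stalk (f x)))) h ∈
      nonZeroDivisors (X.presheaf.stalk x ⧸ Ideal.map (f.stalkMap x).hom (IsLocalRing.maximalIdeal (S.presheaf.stalk (f x))))) :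
    ∃ (U : X.Opens) (hU : IsAffineOpen U) (hx : x ∈ U) (h' : Γ(X, U)), X.presheaf.germ U x hx h' = h ∧ h' ∈ nonZeroDivisors Γ(X, U) ∧
      Flat (Spec.map (CommRingCat.ofHom (Ideal.Quotient.mk (Ideal.span {h'}))) ≫ hU.fromSpec ≫ f) ∧
      LocallyOfFinitePresentation (Spec.map (CommRingCat.ofHom (Ideal.Quotient.mk (Ideal.span {h'}))) ≫ hU.fromSpec ≫ f) := by
  classical
  letI aO : Algebra (S.presheaf.stalk (f x)) (X.presheaf.stalk x) := (f.stalkMap x).hom.toAlgebra
  obtain ⟨hnzd, hqfl⟩ := stalk_step f x hflat h hm hreg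
  -- charts
  obtain ⟨_, ⟨V, hV : IsAffineOpen V, rfl⟩, hfxV, -⟩ :=
    S.isBasis_affineOpens.exists_subset_of_mem_open (Set.mem_univ (f x)) isOpen_univ
  obtain ⟨W, hxW, b₀, hb₀⟩ := TopCat.Presheaf.germ_exist (F := X.presheaf) (x := x) h
  obtain ⟨_, ⟨U₀, hU₀ : IsAffineOpen U₀, rfl⟩, hxU₀, hU₀le⟩ :=
    X.isBasis_affineOpens.exists_subset_of_mem_open
      (show x ∈ ((W ⊓ f ⁻¹ᵁ V : X.Opens) : Set X) from ⟨hxW, hfxV⟩) (W ⊓ f ⁻¹ᵁ V).isOpen
  have hU₀W : U₀ ≤ W := fun y hy => (hU₀le hy).1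
  have hU₀V : U₀ ≤ f ⁻¹ᵁ V := fun y hy => (hU₀le hy).2
  let b : Γ(X, U₀) := X.presheaf.map (homOfLE hU₀W).op b₀
  have hb : X.presheaf.germ U₀ x hxU₀ b = h := by
    rw [← hb₀]
    exact TopCat.Presheaf.germ_res_apply X.presheaf (homOfLE hU₀W) x hxU₀ b₀
  -- ring data
  letI aAB : Algebra Γ(S, V) Γ(X, U₀) := (f.appLE V U₀ hU₀V).hom.toAlgebra
  haveI : Algebra.FinitePresentation Γ(S, V) Γ(X, U₀) :=
    (HasRingHomProperty.appLE @LocallyOfFinitePresentation f inferInstance ⟨V, hV⟩ ⟨U₀, hU₀⟩ hU₀V :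
      RingHom.FinitePresentation _)
  let q : Ideal Γ(X, U₀) := (hU₀.primeIdealOf ⟨x, hxU₀⟩).asIdeal
  letI aBO : Algebra Γ(X, U₀) (X.presheaf.stalk x) := X.presheaf.algebra_section_stalk ⟨x, hxU₀⟩
  haveI locO : IsLocalization.AtPrime (X.presheaf.stalk x) q := hU₀.isLocalization_stalk ⟨x, hxU₀⟩
  letI aAA₀ : Algebra Γ(S, V) (S.presheaf.stalk (f x)) :=
    S.presheaf.algebra_section_stalk ⟨f x, hfxV⟩
  haveI locA₀ := hV.isLocalization_stalk ⟨f x, hfxV⟩
  letI aAO : Algebra Γ(S, V) (X.presheaf.stalk x) :=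
    ((algebraMap Γ(X, U₀) (X.presheaf.stalk x)).comp (algebraMap Γ(S, V) Γ(X, U₀))).toAlgebra
  haveI tw1 : IsScalarTower Γ(S, V) Γ(X, U₀) (X.presheaf.stalk x) :=
    IsScalarTower.of_algebraMap_eq fun a => rfl
  haveI tw2 : IsScalarTower Γ(S, V) (S.presheaf.stalk (f x)) (X.presheaf.stalk x) :=
    IsScalarTower.of_algebraMap_eq fun a => by
      show X.presheaf.germ U₀ x hxU₀ (f.appLE V U₀ hU₀V a) =
        f.stalkMap x (S.presheaf.germ V (f x) hfxV a)
      rw [Scheme.Hom.germ_stalkMap_apply, Scheme.Hom.appLE]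
      exact (TopCat.Presheaf.germ_res_apply X.presheaf (homOfLE hU₀V) x hxU₀ _)
  haveI : Module.Flat Γ(S, V) (S.presheaf.stalk (f x)) :=
    IsLocalization.flat _ (hV.primeIdealOf ⟨f x, hfxV⟩).asIdeal.primeCompl
  haveI : Module.Flat Γ(S, V) (X.presheaf.stalk x ⧸ Ideal.span {h}) :=
    Module.Flat.trans Γ(S, V) (S.presheaf.stalk (f x)) _
  haveI : Module.Flat (S.presheaf.stalk (f x)) (X.presheaf.stalk x) := hflat
  haveI hAO : Module.Flat Γ(S, V) (X.presheaf.stalk x) :=
    Module.Flat.trans Γ(S, V) (S.presheaf.stalk (f x)) _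
  have hb' : algebraMap Γ(X, U₀) (X.presheaf.stalk x) b = h := hb
  obtain ⟨g, hg, H⟩ := exists_away_nzd_flat_stalk Γ(S, V) Γ(X, U₀) q b (X.presheaf.stalk x) hAO
    (by rw [hb']; exact hnzd) (by rw [hb']; infer_instance)
  -- the basic open
  have hU : IsAffineOpen (X.basicOpen g) := hU₀.basicOpen g
  have hxU : x ∈ X.basicOpen g := by
    rw [Scheme.mem_basicOpen _ _ _ hxU₀]
    exact (IsLocalization.AtPrime.isUnit_to_map_iff (X.presheaf.stalk x) q g).mpr hg
  haveI locB' : IsLocalization.Away g Γ(X, X.basicOpen g) := hU₀.isLocalization_basicOpen g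
  have hUV : X.basicOpen g ≤ f ⁻¹ᵁ V := (X.basicOpen_le g).trans hU₀V
  letI aAB' : Algebra Γ(S, V) Γ(X, X.basicOpen g) := (f.appLE V (X.basicOpen g) hUV).hom.toAlgebra
  haveI tw3 : IsScalarTower Γ(S, V) Γ(X, U₀) Γ(X, X.basicOpen g) :=
    IsScalarTower.of_algebraMap_eq fun a => by
      show f.appLE V (X.basicOpen g) hUV a =
        X.presheaf.map (homOfLE (X.basicOpen_le g)).op (f.appLE V U₀ hU₀V a)
      rw [← CommRingCat.comp_apply, Scheme.Hom.appLE_map]
  obtain ⟨hnz', hfl'⟩ := H Γ(X, X.basicOpen g)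
  refine ⟨X.basicOpen g, hU, hxU, algebraMap Γ(X, U₀) Γ(X, X.basicOpen g) b, ?_, hnz', ?_, ?_⟩
  · rw [← hb]
    exact TopCat.Presheaf.germ_res_apply X.presheaf (homOfLE (X.basicOpen_le g)) x hxU b
  · have hcomp : Spec.map (CommRingCat.ofHom (Ideal.Quotient.mk
          (Ideal.span {algebraMap Γ(X, U₀) Γ(X, X.basicOpen g) b}))) ≫ hU.fromSpec ≫ f =
        Spec.map (f.appLE V (X.basicOpen g) hUV ≫ CommRingCat.ofHom (Ideal.Quotient.mk
          (Ideal.span {algebraMap Γ(X, U₀) Γ(X, X.basicOpen g) b}))) ≫ hV.fromSpec := by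
      rw [Spec.map_comp, Category.assoc, IsAffineOpen.SpecMap_appLE_fromSpec f hV hU hUV]
    rw [hcomp]
    haveI : Flat (Spec.map (f.appLE V (X.basicOpen g) hUV ≫ CommRingCat.ofHom (Ideal.Quotient.mk
          (Ideal.span {algebraMap Γ(X, U₀) Γ(X, X.basicOpen g) b})))) := by
      rw [Flat.SpecMap_iff]
      exact RingHom.flat_algebraMap_iff.mpr hfl'
    infer_instance
  · haveI : LocallyOfFinitePresentation (Spec.map (CommRingCat.ofHom (Ideal.Quotient.mk
          (Ideal.span {algebraMap Γ(X, U₀) Γ(X, X.basicOpen g) b})))) := by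
      rw [LocallyOfFinitePresentation.SpecMap_iff]
      show RingHom.FinitePresentation (Ideal.Quotient.mk
          (Ideal.span {algebraMap Γ(X, U₀) Γ(X, X.basicOpen g) b}))
      exact RingHom.FinitePresentation.of_surjective _ Ideal.Quotient.mk_surjective
        (by rw [Ideal.mk_ker]; exact (Submodule.fg_span_singleton _))
    infer_instance

end Groth.Agent.S1348
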