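import Groth.Statements.S13501
-- import your own Groth.Agent.* helpers here
import Groth.Agent.S0134

set_option autoImplicit false
universe u
open CategoryTheory CategoryTheory.Limits AlgebraicGeometry Opposite
open EtPBC

namespace Groth.Agent.S13501

open Groth.Agent.Lib.Helper23

lemma retract_iso_cokernel {C : Type*} [Category C] [Abelian C] {F G : C} (s : F ⟶ G) (r : G ⟶ F)
    (h : s ≫ r = 𝟙 F) : Nonempty (F ≅ cokernel (𝟙 G - r ≫ s)) := by
  have h0 : (𝟙 G - r ≫ s) ≫ r = 0 := by
    rw [Preadditive.sub_comp, Category.id_comp, Category.assoc, h, Category.comp_id, sub_self]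
  have h1 : r ≫ s ≫ cokernel.π (𝟙 G - r ≫ s) = cokernel.π (𝟙 G - r ≫ s) := by
    have := cokernel.condition (𝟙 G - r ≫ s)
    rw [Preadditive.sub_comp, Category.id_comp, sub_eq_zero, Category.assoc] at this
    exact this.symm
  refine ⟨⟨s ≫ cokernel.π _, cokernel.desc _ r h0, ?_, ?_⟩⟩
  · rw [Category.assoc, cokernel.π_desc, h]
  · apply (cancel_epi (cokernel.π (𝟙 G - r ≫ s))).1
    rw [← Category.assoc, cokernel.π_desc, h1, Category.comp_id]

/-- Let X be a quasi-compact and quasi-separated scheme and F a torsion abelian sheaf on X_et. If Hom(F,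
-) commutes with filtered colimits (of shape any small filtered category in the universe of the
sheaf category's morphisms), then F is constructible. This is the converse of the compactness of
constructible sheaves. -/
theorem result (X : Scheme.{u}) [CompactSpace X]
    [QuasiSeparatedSpace X] (F : EtCoh.Ab X) (hF : EtCoh.IsTorsion F)
    (hc : ∀ (J : Type (u + 1)) [SmallCategory J] [IsFiltered J],
      PreservesColimitsOfShape J (coyoneda.obj (op F))) :
    EtPBC.IsConstructible F := by
  obtain ⟨J, hJ1, hJ2, D, c, hcol, hD, ⟨e⟩⟩ := Groth.Agent.S0134.result X F hF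
  haveI := hc J
  have hcol' : IsColimit ((coyoneda.obj (op F)).mapCocone c) :=
    isColimitOfPreserves (coyoneda.obj (op F)) hcol
  obtain ⟨j, s, hs⟩ := Types.jointly_surjective_of_isColimit hcol' e.inv
  have hs' : s ≫ c.ι.app j = e.inv := hs
  let r : D.obj j ⟶ F := c.ι.app j ≫ e.hom
  have hsr : s ≫ r = 𝟙 F := by
    simp only [r]
    rw [← Category.assoc, hs', Iso.inv_hom_id]
  obtain ⟨i⟩ := retract_iso_cokernel s r hsr
  exact Strata.constructible_of_iso i.symm
    (Strata.constructible_kernel_cokernel (𝟙 (D.obj j) - r ≫ s) (hD j) (hD j)).2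

end Groth.Agent.S13501
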