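import Groth.Statements.S13509
-- import your own Groth.Agent.* helpers here
import Groth.Agent.Lib.Helper27.FibSiteClean

set_option autoImplicit false
universe v₁ u₁ v₂ u₂ v₃ u₃
open CategoryTheory Opposite Pseudofunctor.CoGrothendieck
open FibSite

namespace Groth.Agent.S13509

/-- For a fibred category `F` over `𝒮` with topologies `J` on its fibres all of whose inverse-image
functors are continuous, the topology induced on the fibre over `S` by the total topology (the
finest topology on `F(S)` for which the fibre inclusion is continuous towards the topology generated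
by the coverings of the fibres) is `J S` itself. (The published statement is for fibred sites; its
proof uses only the continuity of the inverse-image functors.) -/
theorem result {𝒮 : Type u₁} [Category.{v₁} 𝒮]
    (F : Pseudofunctor (LocallyDiscrete 𝒮ᵒᵖ) Cat.{v₂, u₂}) (J : FibSite.Topologies F)
    (hF : FibSite.IsPreFibSite F J) (S : 𝒮) :
    (ι F S).inducedTopology (FibSite.totalTopology F J) = J S := by
  apply le_antisymm
  · intro U T hT
    have hcp : T.functorPushforward (ι F S) ∈ FibSite.totalTopology F J ((ι F S).obj U) :=
      (CoverPreserving.of_isContinuous (ι F S) ((ι F S).inducedTopology (FibSite.totalTopology F J))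
        (FibSite.totalTopology F J)).cover_preserve hT
    obtain ⟨R, hR, hRT⟩ := (Groth.Agent.Lib.Helper27.FibSiteAux.mem_totalTopology_iff F J hF ⟨S, U⟩ _).1 hcp
    refine (J S).superset_covering ?_ hR
    intro V r hr
    obtain ⟨V', t, a, ht, e⟩ := hRT r hr
    have hab : a.base = 𝟙 S := by
      have h1 := congrArg Pseudofunctor.CoGrothendieck.Hom.base e
      have h2 : a.base ≫ 𝟙 S = 𝟙 S := h1.symm
      exact (Category.comp_id a.base).symm.trans h2
    obtain ⟨a₀, rfl⟩ := Groth.Agent.Lib.Helper27.FibSiteAux.exists_of_base_eq_id F S a hab
    have e' : (ι F S).map r = (ι F S).map (a₀ ≫ t) := by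
      rw [Functor.map_comp]
      exact e
    have h2 := Groth.Agent.Lib.Helper27.FibSiteAux.ι_map_injective F S _ _ e'
    change T r
    rw [h2]
    exact T.downward_closed ht a₀
  · rw [Functor.le_inducedTopology_iff]
    constructor
    intro G
    exact Groth.Agent.Lib.Helper27.FibSiteAux.isSheaf_fibre_of_total F J hF G.obj
      ((isSheaf_iff_isSheaf_of_type _ _).1 G.2) S

end Groth.Agent.S13509
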