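import Groth.Statements.S7591
import Groth.Agent.Lib.Helper18.GeomConnFin
import Groth.Agent.S1559
open Groth.Agent.Lib.Helper18

set_option autoImplicit false
universe u
open CategoryTheory CategoryTheory.Limits AlgebraicGeometry
open Variety

namespace Groth.Agent.S7591

/-- For a scheme X over a field k, geometric connectedness of X over k holds exactly when, for each
finite separable extension field k' of k, the base change X_{k'} is a connected (so nonempty)
scheme. -/
theorem result (k : Type u) [Field k] (X : Scheme.{u}) [X.Over (Spec (CommRingCat.of k))] :
    GeometricallyConnected (X ↘ (Spec (CommRingCat.of k))) ↔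
      ∀ (k' : Type u) [Field k'] [Algebra k k'] [FiniteDimensional k k'] [Algebra.IsSeparable k k'],
        ConnectedSpace ↥(Curv2.bc k X k') := by
  set f := X ↘ (Spec (CommRingCat.of k)) with hf
  constructor
  · intro h k' _ _ _ _
    exact pullback_of_geometrically
      (GeometricallyConnected.geometrically_connectedSpace (f := f)) k' _
  · intro h
    haveI : ConnectedSpace ↥(Curv2.bc k X (SeparableClosure k)) :=
      GeomConnFin.connectedSpace_bc_of_forall_finite f (Ω := SeparableClosure k) (fun K hK => by
        haveI := hK
        haveI : Algebra.IsSeparable k K :=
          Algebra.isSeparable_tower_bot_of_isSeparable k K (SeparableClosure k)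
        exact h K)
    exact Groth.Agent.S1559.result k X

end Groth.Agent.S7591
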