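import Groth.Statements.S1355
import Groth.Agent.S7591
import Groth.Agent.Lib.Helper15.EtNbRes
-- import your own Groth.Agent.* helpers here

set_option autoImplicit false
universe u
open FlatMor

namespace Groth.Agent.S1355

section H
namespace W1

open AlgebraicGeometry CategoryTheory Limits

theorem forward {X S : Scheme.{u}} (f : X ⟶ S) (U : Scheme.{u}) (g : U ⟶ S) (u : U)
    (h : GeometricallyConnected (f.fiberToSpecResidueField (g u))) :
    ConnectedSpace ↑((pullback.snd f g).fiber u) := by
  have sq := isPullback_fiberToSpecResidueField_of_isPullback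
    (IsPullback.of_hasPullback f g) u
  haveI : GeometricallyConnected ((pullback.snd f g).fiberToSpecResidueField u) :=
    MorphismProperty.of_isPullback (P := @GeometricallyConnected) sq h
  exact GeometricallyConnected.connectedSpace_of_subsingleton
    (f := (pullback.snd f g).fiberToSpecResidueField u)

theorem backward {X S : Scheme.{u}} (f : X ⟶ S) (s : S)
    (H : ∀ (U : Scheme.{u}) (g : U ⟶ S) (u : U), Etale g → g u = s →
      ConnectedSpace ↑((pullback.snd f g).fiber u)) :
    GeometricallyConnected (f.fiberToSpecResidueField s) := by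
  letI : (f.fiber s).Over (Spec (CommRingCat.of (S.residueField s))) :=
    ⟨f.fiberToSpecResidueField s⟩
  refine (Groth.Agent.S7591.result (S.residueField s) (f.fiber s)).2 ?_
  intro K _ _ _ _
  obtain ⟨U, g, u, e, -, hg, hu, heq⟩ :=
    Groth.Agent.Lib.Helper15.EtNbRes.exists_etale_nbhd s K
  haveI := H U g u hg hu
  -- the fibre over u as a pullback of the fibre over s
  set F := (pullback.snd f g).fiber u with hF
  have sq1 : IsPullback ((pullback.snd f g).fiberι u)
      ((pullback.snd f g).fiberToSpecResidueField u) (pullback.snd f g)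
      (U.fromSpecResidueField u) := IsPullback.of_hasPullback _ _
  have sq2 : IsPullback (pullback.fst f g) (pullback.snd f g) f g := IsPullback.of_hasPullback _ _
  have sq3 : IsPullback (f.fiberι s) (f.fiberToSpecResidueField s) f (S.fromSpecResidueField s) :=
    IsPullback.of_hasPullback _ _
  have big : IsPullback ((pullback.snd f g).fiberι u ≫ pullback.fst f g)
      ((pullback.snd f g).fiberToSpecResidueField u) f (U.fromSpecResidueField u ≫ g) :=
    sq1.paste_horiz sq2
  let m : Spec (CommRingCat.of K) ⟶ Spec (S.residueField s) :=
    Spec.map (CommRingCat.ofHom (algebraMap (S.residueField s) K))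
  have heq' : U.fromSpecResidueField u ≫ g = (e.inv ≫ m) ≫ S.fromSpecResidueField s := by
    have : (e.inv ≫ m) ≫ S.fromSpecResidueField s =
        e.inv ≫ (e.hom ≫ U.fromSpecResidueField u ≫ g) := by rw [heq, Category.assoc]; rfl
    rw [this, Iso.inv_hom_id_assoc]
  rw [heq'] at big
  let l : F ⟶ f.fiber s := sq3.lift ((pullback.snd f g).fiberι u ≫ pullback.fst f g)
    ((pullback.snd f g).fiberToSpecResidueField u ≫ e.inv ≫ m) (by rw [big.w]; simp)
  have hl1 : l ≫ f.fiberι s = (pullback.snd f g).fiberι u ≫ pullback.fst f g := sq3.lift_fst _ _ _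
  have hl2 : l ≫ f.fiberToSpecResidueField s =
      (pullback.snd f g).fiberToSpecResidueField u ≫ e.inv ≫ m := sq3.lift_snd _ _ _
  rw [← hl1] at big
  have sq4 : IsPullback l ((pullback.snd f g).fiberToSpecResidueField u)
      (f.fiberToSpecResidueField s) (e.inv ≫ m) := IsPullback.of_right big hl2 sq3
  have sq5 : IsPullback l ((pullback.snd f g).fiberToSpecResidueField u ≫ e.inv)
      (f.fiberToSpecResidueField s) m := by
    refine IsPullback.of_iso sq4 (Iso.refl _) (Iso.refl _) e.symm (Iso.refl _) ?_ ?_ ?_ ?_
    · simp
    · simp
    · simp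
    · simp
  exact (sq5.isoPullback.hom.homeomorph.connectedSpace_iff).1 inferInstance

theorem main {X S : Scheme.{u}} (f : X ⟶ S) (s : S) :
    GeometricallyConnected (f.fiberToSpecResidueField s) ↔
      ∀ (U : Scheme.{u}) (g : U ⟶ S) (u : U), Etale g → g u = s →
        ConnectedSpace ↑((pullback.snd f g).fiber u) :=
  ⟨fun h U g u _ hu => by subst hu; exact forward f U g u h, backward f s⟩

end W1
end H


open AlgebraicGeometry CategoryTheory Limits in
/-- Let f : X → S and s a point of S. The fibre of f over s is geometrically connected if and only if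
for every étale morphism U → S and every point u over s, the fibre over u of the base change of f to
U is connected. -/
theorem result {X S : Scheme.{u}} (f : X ⟶ S) (s : S) :
    GeometricallyConnected (f.fiberToSpecResidueField s) ↔
      ∀ (U : Scheme.{u}) (g : U ⟶ S) (u : U), Etale g → g u = s → ConnectedSpace ↑((pullback.snd f g).fiber u) := by
  exact (W1.main f s)

end Groth.Agent.S1355
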