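import Groth.Statements.S13568
-- import your own Groth.Agent.* helpers here
import Groth.Agent.Lib.Helper27.StPoints
import Groth.Agent.Lib.Helper27.AlgStackFp2


set_option autoImplicit false
universe u
open CategoryTheory AlgebraicGeometry
open AlgSt

namespace Groth.Agent.S13568

/-- The composition of two universally injective morphisms of algebraic stacks is universally injective
(universally injective: every base change to an algebraic stack is injective on points). -/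
theorem result {S : Scheme.{u}} {𝒳 𝒴 𝒵 : AlgSt.Cat S}
    (h𝒳 : AlgSt.IsAlgStack Scheme.fppfPrecoverage 𝒳) (h𝒴 : AlgSt.IsAlgStack Scheme.fppfPrecoverage 𝒴)
    (h𝒵 : AlgSt.IsAlgStack Scheme.fppfPrecoverage 𝒵)
    (f : 𝒳 ⥤ᵇ 𝒴) (g : 𝒴 ⥤ᵇ 𝒵) (hf : AlgSt.IsUnivInjective Scheme.fppfPrecoverage f)
    (hg : AlgSt.IsUnivInjective Scheme.fppfPrecoverage g) :
    AlgSt.IsUnivInjective Scheme.fppfPrecoverage (BasedFunctor.comp f g) := by
  intro 𝒲 h𝒲 h
  have h𝒫 : AlgSt.IsAlgStack Scheme.fppfPrecoverage (FibCat.fp h g) :=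
    Groth.Agent.Lib.Helper27.AlgStackFp2.isAlgStack_fp' h g _ h𝒲 h𝒴 h𝒵
  have h1 := hg 𝒲 h𝒲 h
  have h2 := hf (FibCat.fp h g) h𝒫 (FibCat.fpSnd h g)
  have h3 := Groth.Agent.Lib.Helper27.StPoints.map_surjective_of_equiv _
    (Groth.Agent.Lib.Helper27.FpKit.isEquivOver_pasteR f g h)
  have h4 : ∀ w, AlgSt.Points.map (FibCat.fpFst h (BasedFunctor.comp f g))
      (AlgSt.Points.map (Groth.Agent.Lib.Helper27.FpKit.pasteR f g h) w) =
      AlgSt.Points.map (FibCat.fpFst h g)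
        (AlgSt.Points.map (FibCat.fpFst (FibCat.fpSnd h g) f) w) := by
    intro w
    rw [← Groth.Agent.Lib.Helper27.PointsKit.map_comp,
      ← Groth.Agent.Lib.Helper27.PointsKit.map_comp]
    exact Groth.Agent.Lib.Helper27.PointsKit.map_congr _ _ (fun a => ⟨𝟙 _⟩) w
  intro z z' hz
  obtain ⟨w, rfl⟩ := h3 z
  obtain ⟨w', rfl⟩ := h3 z'
  rw [h4, h4] at hz
  rw [h2 (h1 hz)]

end Groth.Agent.S13568
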