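import Groth.Statements.S13569
import Groth.Agent.Lib.Helper27.StPointsUniv3
import Groth.Agent.Lib.Helper27.FpFib
-- import your own Groth.Agent.* helpers here

set_option autoImplicit false
set_option backward.isDefEq.respectTransparency false
set_option backward.isDefEq.respectTransparency.types false
universe u
open CategoryTheory AlgebraicGeometry
open AlgSt

namespace Groth.Agent.S13569

open Groth.Agent.Lib.Helper27 FibCat

/-- A universally injective functor to an algebraic stack is injective on points. -/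
theorem injective_of_isUnivInjective {S : Scheme.{u}} {𝒜 ℬ : AlgSt.Cat S}
    (h𝒜 : FibCat.IsFibGrpd 𝒜.p) (hℬ : AlgSt.IsAlgStack Scheme.fppfPrecoverage ℬ)
    (k : 𝒜 ⥤ᵇ ℬ) (hk : AlgSt.IsUnivInjective Scheme.fppfPrecoverage k) :
    Function.Injective (AlgSt.Points.map k) := by
  intro x y hxy
  have hinj := hk ℬ hℬ (BasedFunctor.id ℬ)
  obtain ⟨wx, hwx₁, hwx₂⟩ := StPoints.exists_points_fp h𝒜 hℬ.isStack.1 hℬ.isStack.1 k
    (BasedFunctor.id ℬ) (AlgSt.Points.map k x) x (PointsKit.map_id _)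
  obtain ⟨wy, hwy₁, hwy₂⟩ := StPoints.exists_points_fp h𝒜 hℬ.isStack.1 hℬ.isStack.1 k
    (BasedFunctor.id ℬ) (AlgSt.Points.map k x) y ((PointsKit.map_id _).trans hxy)
  have : wx = wy := hinj (hwx₁.trans hwy₁.symm)
  rw [← hwx₂, ← hwy₂, this]

/-- (2) ⇒ (1): let `f : 𝒳 ⟶ 𝒴` be a morphism of algebraic stacks over `S`. If for every affine scheme
`Z` over `S` and every `Z ⟶ 𝒴` the projection `Z ×_𝒴 𝒳 ⟶ Z` is universally injective, then `f` is
universally injective (every base change to an algebraic stack is injective on points). The converse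
implication is the base-change property. -/
theorem result {S : Scheme.{u}} {𝒳 𝒴 : AlgSt.Cat S}
    (h𝒳 : AlgSt.IsAlgStack Scheme.fppfPrecoverage 𝒳) (h𝒴 : AlgSt.IsAlgStack Scheme.fppfPrecoverage 𝒴) (f : 𝒳 ⥤ᵇ 𝒴)
    (h : ∀ (Z : Over S) [IsAffine Z.left] (z : FibCat.overCat Z ⥤ᵇ 𝒴),
      AlgSt.IsUnivInjective Scheme.fppfPrecoverage (FibCat.fpFst z f)) :
    AlgSt.IsUnivInjective Scheme.fppfPrecoverage f := by
  intro 𝒵 h𝒵 g w₁ w₂ hw
  obtain ⟨q, hq⟩ := AlgSt.Points.mk_surjective (AlgSt.Points.map (fpFst g f) w₁)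
  obtain ⟨a, pt₀, ha⟩ := StPoints.exists_chart_of_fPt h𝒵.isStack.1 q
  have hP : FibCat.IsFibGrpd (fp g f).p :=
    FpFib.isFibGrpd_fp g f h𝒵.isStack.1 h𝒳.isStack.1 h𝒴.isStack.1
  have hO : FibCat.IsFibGrpd (overCat (Over.mk q.str)).p := ReprAux.isFibGrpd_overCat _
  obtain ⟨v₁, hv₁a, hv₁b⟩ := StPoints.exists_points_fp hP h𝒵.isStack.1 hO (fpFst g f) a
    (AlgSt.Points.mk pt₀) w₁ (ha.trans hq)
  obtain ⟨v₂, hv₂a, hv₂b⟩ := StPoints.exists_points_fp hP h𝒵.isStack.1 hO (fpFst g f) a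
    (AlgSt.Points.mk pt₀) w₂ ((ha.trans hq).trans hw)
  have hAff : IsAffine (Over.mk q.str).left :=
    inferInstanceAs (IsAffine (Spec (CommRingCat.of q.K)))
  have hui := @h (Over.mk q.str) hAff (BasedFunctor.comp a g)
  have hP' : FibCat.IsFibGrpd (fp (BasedFunctor.comp a g) f).p :=
    FpFib.isFibGrpd_fp _ f hO h𝒳.isStack.1 h𝒴.isStack.1
  have hinj := injective_of_isUnivInjective hP' (QcStack.isAlgStack_overCat _) _ hui
  have h2 := PointsKit.map_injective_of_equiv _ (FpKit.isEquivOver_pasteL f g a)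
  have h3 : ∀ z, AlgSt.Points.map (fpFst a (fpFst g f)) z =
      AlgSt.Points.map (fpFst (BasedFunctor.comp a g) f)
        (AlgSt.Points.map (FpKit.pasteL f g a) z) := by
    intro z
    rw [← PointsKit.map_comp]
    exact PointsKit.map_congr _ _ (fun a => ⟨𝟙 _⟩) z
  have hv : v₁ = v₂ := by
    apply h2
    apply hinj
    rw [← h3, ← h3, hv₁a, hv₂a]
  rw [← hv₁b, ← hv₂b, hv]

end Groth.Agent.S13569
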