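import Groth.Statements.S13570
import Groth.Agent.Lib.Helper27.StPointsUniv3
import Groth.Agent.Lib.Helper27.FpFib
import Groth.Agent.Lib.Helper27.DiagIff
-- import your own Groth.Agent.* helpers here

set_option autoImplicit false
set_option backward.isDefEq.respectTransparency false
set_option backward.isDefEq.respectTransparency.types false
universe u
open CategoryTheory AlgebraicGeometry
open AlgSt

namespace Groth.Agent.S13570

open Groth.Agent.Lib.Helper27 FibCat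

/-- Let `f : 𝒳 ⟶ 𝒴` be a morphism of algebraic stacks over `S` and `W ⟶ 𝒴` a surjective, flat, locally
finitely presented morphism from an algebraic space. If the projection `W ×_𝒴 𝒳 ⟶ W` is universally
injective (every base change to an algebraic stack is injective on points), then so is `f`. -/
theorem result {S : Scheme.{u}} {𝒳 𝒴 : AlgSt.Cat S}
    (h𝒳 : AlgSt.IsAlgStack Scheme.fppfPrecoverage 𝒳) (h𝒴 : AlgSt.IsAlgStack Scheme.fppfPrecoverage 𝒴) (f : 𝒳 ⥤ᵇ 𝒴)
    (W : AlgSp.Space S) (w : AlgSt.ofSp W.obj ⥤ᵇ 𝒴)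
    (hw₁ : AlgSt.RepByAlgSpWith (AlgSp.LocP @Flat) w)
    (hw₂ : AlgSt.RepByAlgSpWith (AlgSp.LocP @LocallyOfFinitePresentation) w)
    (hw₃ : AlgSt.RepByAlgSpWith AlgSp.IsSurjectiveMor w)
    (h : AlgSt.IsUnivInjective Scheme.fppfPrecoverage (FibCat.fpFst w f)) :
    AlgSt.IsUnivInjective Scheme.fppfPrecoverage f := by
  intro 𝒵 h𝒵 g w₁ w₂ hw
  have h𝒲 : AlgSt.IsAlgStack Scheme.fppfPrecoverage (AlgSt.ofSp W.obj) :=
    StPoints.isAlgStack_ofSp W
  have hws : AlgSt.IsSurjective w :=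
    StPoints.isSurjective_of_rep h𝒲.isStack.1 h𝒴.isStack.1 w hw₃
  have h𝒵' : AlgSt.IsAlgStack Scheme.fppfPrecoverage (fp g w) :=
    AlgStackFp2.isAlgStack_fp' g w Scheme.fppfPrecoverage h𝒵 h𝒲 h𝒴
  have hqs : AlgSt.IsSurjective (fpFst g w) :=
    StPoints.isSurjective_fpFst h𝒲.isStack.1 h𝒴.isStack.1 h𝒵.isStack.1 w g hws
  obtain ⟨ζ', hζ'⟩ := hqs (AlgSt.Points.map (fpFst g f) w₁)
  have hP : FibCat.IsFibGrpd (fp g f).p :=
    FpFib.isFibGrpd_fp g f h𝒵.isStack.1 h𝒳.isStack.1 h𝒴.isStack.1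
  obtain ⟨v₁, hv₁a, hv₁b⟩ := StPoints.exists_points_fp hP h𝒵.isStack.1 h𝒵'.isStack.1
    (fpFst g f) (fpFst g w) ζ' w₁ hζ'
  obtain ⟨v₂, hv₂a, hv₂b⟩ := StPoints.exists_points_fp hP h𝒵.isStack.1 h𝒵'.isStack.1
    (fpFst g f) (fpFst g w) ζ' w₂ (hζ'.trans hw)
  -- the chain of equivalences
  have hE1 := PointsKit.map_injective_of_equiv _ (FpKit.isEquivOver_pasteL f g (fpFst g w))
  have hE2 := PointsKit.map_injective_of_equiv _
    (DiagIff.isEquivOver_isoMapFst (BasedFunctor.comp (fpSnd g w) w)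
      (BasedFunctor.comp (fpFst g w) g) f (fpIso g w))
  have hE3 := StPoints.map_surjective_of_equiv _ (FpKit.isEquivOver_pasteL f w (fpSnd g w))
  have hinj := h (fp g w) h𝒵' (fpSnd g w)
  have c1 : ∀ z, AlgSt.Points.map (fpFst (fpFst g w) (fpFst g f)) z =
      AlgSt.Points.map (fpFst (BasedFunctor.comp (fpFst g w) g) f)
        (AlgSt.Points.map (FpKit.pasteL f g (fpFst g w)) z) := by
    intro z
    rw [← PointsKit.map_comp]
    exact PointsKit.map_congr _ _ (fun a => ⟨𝟙 _⟩) z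
  have c2 : ∀ z, AlgSt.Points.map (fpFst (BasedFunctor.comp (fpFst g w) g) f) z =
      AlgSt.Points.map (fpFst (BasedFunctor.comp (fpSnd g w) w) f)
        (AlgSt.Points.map (DiagIff.isoMapFst (BasedFunctor.comp (fpSnd g w) w)
          (BasedFunctor.comp (fpFst g w) g) f (fpIso g w)) z) := by
    intro z
    rw [← PointsKit.map_comp]
    exact PointsKit.map_congr _ _ (fun a => ⟨𝟙 _⟩) z
  have c3 : ∀ z, AlgSt.Points.map (fpFst (fpSnd g w) (fpFst w f)) z =
      AlgSt.Points.map (fpFst (BasedFunctor.comp (fpSnd g w) w) f)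
        (AlgSt.Points.map (FpKit.pasteL f w (fpSnd g w)) z) := by
    intro z
    rw [← PointsKit.map_comp]
    exact PointsKit.map_congr _ _ (fun a => ⟨𝟙 _⟩) z
  have hv : v₁ = v₂ := by
    apply hE1
    apply hE2
    obtain ⟨t₁, ht₁⟩ := hE3 (AlgSt.Points.map (DiagIff.isoMapFst (BasedFunctor.comp (fpSnd g w) w)
          (BasedFunctor.comp (fpFst g w) g) f (fpIso g w))
            (AlgSt.Points.map (FpKit.pasteL f g (fpFst g w)) v₁))
    obtain ⟨t₂, ht₂⟩ := hE3 (AlgSt.Points.map (DiagIff.isoMapFst (BasedFunctor.comp (fpSnd g w) w)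
          (BasedFunctor.comp (fpFst g w) g) f (fpIso g w))
            (AlgSt.Points.map (FpKit.pasteL f g (fpFst g w)) v₂))
    have ht : t₁ = t₂ := by
      apply hinj
      rw [c3, c3, ht₁, ht₂, ← c2, ← c2, ← c1, ← c1, hv₁a, hv₂a]
    rw [← ht₁, ← ht₂, ht]
  rw [← hv₁b, ← hv₂b, hv]

end Groth.Agent.S13570
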