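import Groth.Statements.S13576
import Mathlib
-- import your own Groth.Agent.* helpers here

set_option autoImplicit false
universe u
open CategoryTheory CategoryTheory.Limits MonoidalCategory
attribute [local instance] HasDerivedCategory.standard
open DTen

namespace Groth.Agent.S13576

theorem braidCx_invol {A : Type u} [CommRing A] (K L : DRing.Cx A) :
    (braidCx K L).hom ≫ (braidCx L K).hom = 𝟙 _ := by
  refine HomologicalComplex.hom_ext _ _ (fun n => HomologicalComplex.mapBifunctor.hom_ext (fun p q h => ?_))
  have h' : p + q = n := h
  rw [HomologicalComplex.comp_f]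
  erw [ι_braidCx_hom_assoc K L p q n h']
  simp only [Linear.units_smul_comp, Category.assoc]
  erw [ι_braidCx_hom L K q p n (by omega)]
  simp only [Linear.comp_units_smul, smul_smul]
  rw [mul_comm q p, Int.units_mul_self, one_smul, SymmetricCategory.symmetry_assoc,
    HomologicalComplex.id_f]
  exact (Category.comp_id _).symm

/-- the double symmetry as an endo-transformation of `LTen₂` -/
noncomputable def tau (A : Type u) [CommRing A] [DTen.HasLTen A] : LTen₂ A ⟶ LTen₂ A where
  app X := (symm A).app (X.2, X.1) ≫ (symm A).app X
  naturality X Y f := by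
    have h1 := (symm A).naturality f
    have h2 := (symm A).naturality ((CategoryTheory.Prod.swap _ _).map f)
    dsimp at h1 h2 ⊢
    rw [Category.assoc, ← h1, ← Category.assoc, ← Category.assoc]
    congr 1

theorem tau_eq_id (A : Type u) [CommRing A] [DTen.HasLTen A] : tau A = 𝟙 _ := by
  apply (LTen₂ A).leftDerived_ext (ε A) (qis₂ A)
  ext ⟨K, L⟩
  dsimp [tau]
  have h1 := symm_fac A K L
  have h2 := symm_fac A L K
  dsimp at h1 h2
  rw [Category.assoc, h1, reassoc_of% h2, ← Functor.map_comp, braidCx_invol, CategoryTheory.Functor.map_id,
    Category.comp_id, Category.id_comp]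

/-- For a commutative ring `A` and objects `K`, `L` of `D(A)`, the canonical symmetry morphism `L ⊗^L K
⟶ K ⊗^L L` of the derived tensor product, the one compatible with the swap of complexes carrying the
sign `(-1)^{pq}` on `K^p ⊗ L^q`, is an isomorphism. -/
theorem result (A : Type u) [CommRing A] [DTen.HasLTen A] (K L : Dual.D A) :
    IsIso ((DTen.symm A).app (K, L)) := by
  have h1 := congrArg (fun t => t.app (K, L)) (tau_eq_id A)
  have h2 := congrArg (fun t => t.app (L, K)) (tau_eq_id A)
  dsimp [tau] at h1 h2
  exact ⟨(symm A).app (L, K), h2, h1⟩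

end Groth.Agent.S13576
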