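import Groth.Statements.S13586
import Groth.Agent.Lib.Helper6.ExtSuppSS

set_option autoImplicit false
universe u
open CategoryTheory CategoryTheory.Limits
open ExtSupp

namespace Groth.Agent.S13586

/-- On a ringed site, for an object `U` with closed complement `Z` and sheaves of modules `M`, `N`,
there is a bounded `E_2` spectral sequence of abelian groups with `E_2^{p,q}` isomorphic to
`H^p_Z(ℰxt^q_O(M, N))` for `p, q ≥ 0` and zero otherwise, together with abutment data whose
filtrations are finite on `Ext^n_Z(M, N)` (`n ≥ 0`; zero for `n < 0`). The `E_2` identifications and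
the abutment isomorphisms are asserted to exist only and are not pinned to the canonical maps, so
edge maps are not part of this statement; the internal hom out of `M`, the right adjoint of
restriction to `U` and injective resolutions of sheaves of modules are assumed to exist. (The
published statement, on a ringed topos and likewise on a ringed space, is functorial in `M`, `N` and
in an object `X` of the topos; this row is the case of the final object.) -/
theorem result {C : Type u} [SmallCategory C]
    {J : GrothendieckTopology C} {O : Sheaf J CommRingCat.{u}} [HasExt.{u} (ModSite.Mod O)]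
    (U : C) [ModSite.HasPushOver O U] (M N : ModSite.Mod O) [ModSite.HasSheafHom M]
    [HasInjectiveResolutions (ModSite.Mod O)] :
    ∃ (E : E₂CohomologicalSpectralSequence AddCommGrpCat.{u})
      (a : SpSeq.Abutment E (fun n : ℤ =>
        if 0 ≤ n then AddCommGrpCat.of (ExtSupp.ExtZ U M N n.toNat) else AddCommGrpCat.of PUnit.{u + 1})),
      (∀ n, a.IsFinite n) ∧ SpSeq.IsBounded E ∧
      ∀ p q : ℤ, Nonempty ((E.page 2 le_rfl).X (p, q) ≅
        (if 0 ≤ p ∧ 0 ≤ q then AddCommGrpCat.of (ModSite.HZ U ((ModSite.extSh M q.toNat).obj N) p.toNat)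
         else AddCommGrpCat.of PUnit.{u + 1})) := by
  haveI : EnoughInjectives (ModSite.Mod O) :=
    Groth.Agent.Lib.Helper8.SheafModGroth.enoughInjectives J (ModSite.ringSh O)
  refine Groth.Agent.Lib.Helper6.GrothSS.exists_spectralSequence' (ModSite.sheafHom M)
    (Groth.Agent.Lib.Helper6.ExtRDNat.G ((ModSite.quotOn O U).obj (ModSite.unit O)))
    ?_ N _ ?_ ?_ _ ?_ ?_
  · intro Q hQ q hq
    obtain ⟨k, rfl⟩ : ∃ k, q = k + 1 := ⟨q - 1, by omega⟩
    obtain ⟨e⟩ := Groth.Agent.Lib.Helper6.ExtSuppSS.nonempty_rightDerived_iso_HZ O U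
      ((ModSite.sheafHom M).obj Q) (k + 1)
    refine Limits.IsZero.of_iso ?_ e
    have h := Groth.Agent.Lib.Helper6.HZIndep.subsingleton_ext_quotZ
      (Groth.Agent.Lib.Helper6.SheafHomTotAcyc.totallyAcyclic O M Q) (ToposFin.eps J U) k
    exact @AddCommGrpCat.isZero_of_subsingleton _ h
  · intro n
    simp only [Int.natCast_nonneg, if_true, Int.toNat_natCast]
    obtain ⟨e'⟩ := Groth.Agent.Lib.Helper6.ExtRDNat.nonempty_rightDerived_coyoneda_iso
      ((ModSite.quotOn O U).obj M) n
    exact ⟨(Groth.Agent.Lib.Helper6.GrothSS.rightDerivedIsoOfIso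
      (Groth.Agent.Lib.Helper6.ExtSuppSS.homQuotUnitSheafHomIso O U M) n).app N ≪≫ e'.app N⟩
  · intro n hn
    rw [if_neg (by omega)]
    exact AddCommGrpCat.isZero_of_subsingleton _
  · intro p q
    simp only [Int.natCast_nonneg, and_self, if_true, Int.toNat_natCast]
    exact Groth.Agent.Lib.Helper6.ExtSuppSS.nonempty_rightDerived_iso_HZ O U _ p
  · intro p q h
    rw [if_neg h]
    exact AddCommGrpCat.isZero_of_subsingleton _

end Groth.Agent.S13586
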