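import Groth.Statements.S13596
import Mathlib.Tactic
import Mathlib.AlgebraicGeometry.Morphisms.Integral
import Mathlib.Algebra.Polynomial.Lifts
-- import your own Groth.Agent.* helpers here

set_option autoImplicit false
universe u
open CategoryTheory AlgebraicGeometry
open SGA1

namespace Groth.Agent.S13596

/-- Let a finite group G act on a scheme X and let p : X ⟶ Y be a quotient of X by G (affine,
G-invariant, and identifying the sections of O_Y over every open with the G-invariant sections of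
O_X over its preimage). Then p is an integral morphism. -/
theorem result {X Y : Scheme.{u}} {G : Type u} [Group G] [Finite G]
    (ρ : G →* Aut X) (p : X ⟶ Y) (hp : SGA1.IsQuot ρ p) :
    IsIntegralHom p := by
  haveI := hp.affine
  refine ⟨fun U _ => ?_⟩
  classical
  haveI : Fintype G := Fintype.ofFinite G
  -- the action on sections
  let σ : G → (Γ(X, p ⁻¹ᵁ U) →+* Γ(X, p ⁻¹ᵁ U)) := fun g =>
    ((ρ g).hom.appLE (p ⁻¹ᵁ U) (p ⁻¹ᵁ U) (SGA1.preimage_le_of_inv ρ p hp.inv g U)).hom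
  have hσ_mul : ∀ (a b : G) (s : Γ(X, p ⁻¹ᵁ U)), σ a (σ b s) = σ (b * a) s := by
    intro a b s
    have h1 := Scheme.Hom.appLE_comp_appLE (ρ a).hom (ρ b).hom (p ⁻¹ᵁ U) (p ⁻¹ᵁ U) (p ⁻¹ᵁ U)
      (SGA1.preimage_le_of_inv ρ p hp.inv b U) (SGA1.preimage_le_of_inv ρ p hp.inv a U)
    have h2 : (ρ a).hom ≫ (ρ b).hom = (ρ (b * a)).hom := by
      rw [map_mul]; rfl
    have h3 := congrArg (fun φ => φ.hom s) h1
    simp only [CommRingCat.hom_comp, RingHom.coe_comp, Function.comp_apply] at h3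
    change σ a (σ b s) = _ at h3
    rw [h3]
    change _ = ((ρ (b * a)).hom.appLE (p ⁻¹ᵁ U) (p ⁻¹ᵁ U) _).hom s
    congr 3
  have hσ_one : ∀ s : Γ(X, p ⁻¹ᵁ U), σ 1 s = s := by
    intro s
    change ((ρ 1).hom.appLE (p ⁻¹ᵁ U) (p ⁻¹ᵁ U) _).hom s = s
    have h1 : (ρ 1).hom = 𝟙 X := by rw [map_one]; rfl
    have key : ∀ (f : X ⟶ X) (_ : f = 𝟙 X) (e : p ⁻¹ᵁ U ≤ f ⁻¹ᵁ (p ⁻¹ᵁ U)),
        (f.appLE (p ⁻¹ᵁ U) (p ⁻¹ᵁ U) e).hom s = s := by
      rintro f rfl e
      have h2 : X.presheaf.map (homOfLE e).op = 𝟙 (X.presheaf.obj (Opposite.op (p ⁻¹ᵁ U))) := by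
        have h3 : (homOfLE e) = 𝟙 (p ⁻¹ᵁ U) := Subsingleton.elim _ _
        rw [h3]
        exact X.presheaf.map_id _
      simp only [Scheme.Hom.appLE, Scheme.Hom.id_app, Category.id_comp]
      rw [h2]
      rfl
    exact key _ h1 _
  intro s
  rcases subsingleton_or_nontrivial Γ(X, p ⁻¹ᵁ U) with hS | hS
  · exact ⟨Polynomial.X, Polynomial.monic_X, Subsingleton.elim _ _⟩
  let P : Polynomial Γ(X, p ⁻¹ᵁ U) := ∏ g : G, (Polynomial.X - Polynomial.C (σ g s))
  have hPmonic : P.Monic := Polynomial.monic_prod_of_monic _ _ (fun g _ => Polynomial.monic_X_sub_C _)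
  have hPs : P.eval s = 0 := by
    rw [Polynomial.eval_prod]
    apply Finset.prod_eq_zero (Finset.mem_univ (1 : G))
    rw [Polynomial.eval_sub, Polynomial.eval_X, Polynomial.eval_C, hσ_one, sub_self]
  have hPinv : ∀ h : G, P.map (σ h) = P := by
    intro h
    simp only [P, Polynomial.map_prod, Polynomial.map_sub, Polynomial.map_X, Polynomial.map_C, hσ_mul]
    exact Fintype.prod_equiv (Equiv.mulRight h) _ _ (fun g => rfl)
  have hlift : P ∈ Polynomial.lifts (p.app U).hom := by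
    rw [Polynomial.lifts_iff_coeff_lifts]
    intro n
    rw [hp.range_iff U]
    intro g
    have := congrArg (fun Q => Polynomial.coeff Q n) (hPinv g)
    simpa [Polynomial.coeff_map] using this
  obtain ⟨Q, hQ1, -, hQ3⟩ := Polynomial.lifts_and_degree_eq_and_monic hlift hPmonic
  refine ⟨Q, hQ3, ?_⟩
  rw [Polynomial.eval₂_eq_eval_map, hQ1, hPs]

end Groth.Agent.S13596
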