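import Groth.Statements.S13597
import Groth.Agent.Lib.Helper28.FinQuot
import Groth.Agent.Lib.Helper28.FinQuotGal

set_option autoImplicit false
universe u
open CategoryTheory AlgebraicGeometry
open SGA1
open scoped Pointwise
open Groth.Agent.Lib.Helper28.FinQuot Groth.Agent.Lib.Helper28.FinQuotGal

namespace Groth.Agent.S13597

/-- Let a finite group G act on a scheme X and let p : X ⟶ Y be a quotient of X by G (affine,
G-invariant, sections of O_Y = G-invariant sections of O_X). For a point x of X with image y, the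
residue field κ(x) is a normal algebraic extension of κ(y) through the map induced by p, and the
stabilizer of x in G maps onto the group of κ(y)-automorphisms of κ(x): every automorphism τ of κ(x)
over κ(y) is the map on residue fields induced by some g ∈ G with g·x = x (composed with the
identification of the residue fields at g·x and x). -/
theorem result {X Y : Scheme.{u}} {G : Type u}
    [Group G] [Finite G] (ρ : G →* Aut X) (p : X ⟶ Y) (hp : SGA1.IsQuot ρ p) (x : X) :
    (letI := (p.residueFieldMap x).hom.toAlgebra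
     Normal (Y.residueField (p.base x)) (X.residueField x)) ∧
    ∀ τ : X.residueField x ≅ X.residueField x,
      p.residueFieldMap x ≫ τ.hom = p.residueFieldMap x →
      ∃ (g : G) (e : (ρ g).hom.base x = x),
        τ.hom = (X.residueFieldCongr e).inv ≫ (ρ g).hom.residueFieldMap x := by
  haveI := hp.affine
  obtain ⟨V, hV, hy⟩ := exists_affine_mem (p x)
  have hW : IsAffineOpen (p ⁻¹ᵁ V) := hV.preimage p
  have hx : x ∈ p ⁻¹ᵁ V := hy
  letI := action ρ p hp.inv V
  letI := (p.app V).hom.toAlgebra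
  haveI := isInvariant ρ p hp V
  haveI := smulCommClass ρ p hp V
  have hcomm : (p.residueFieldMap x).hom.comp (Y.evaluation V (p x) hy).hom =
      (X.evaluation (p ⁻¹ᵁ V) x hx).hom.comp (algebraMap Γ(Y, V) Γ(X, p ⁻¹ᵁ V)) := by
    have := Scheme.evaluation_naturality p x hy
    exact congrArg CommRingCat.Hom.hom this
  obtain ⟨hN, hS⟩ := ring_core G (Y.evaluation V (p x) hy).hom (X.evaluation (p ⁻¹ᵁ V) x hx).hom
    (p.residueFieldMap x).hom hcomm (exists_evaluation_div hV (p x) hy)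
    (exists_evaluation_div hW x hx)
  refine ⟨hN, fun τ hτ => ?_⟩
  obtain ⟨g₀, hg₀, hg₀'⟩ := hS τ.commRingCatIsoToRingEquiv (fun k => by
    have := congrArg (fun f => f.hom k) hτ
    exact this)
  set g : G := g₀⁻¹ with hgdef
  have hle : p ⁻¹ᵁ V ≤ (ρ g).hom ⁻¹ᵁ (p ⁻¹ᵁ V) := SGA1.preimage_le_of_inv ρ p hp.inv g V
  have hgQ : g • RingHom.ker (X.evaluation (p ⁻¹ᵁ V) x hx).hom =
      RingHom.ker (X.evaluation (p ⁻¹ᵁ V) x hx).hom := by
    conv_lhs => rw [← hg₀]
    rw [hgdef, inv_smul_smul]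
  have hc := IsAffineOpen.comap_primeIdealOf_appLE (f := (ρ g).hom) (x := x) (p ⁻¹ᵁ V) hW
    (p ⁻¹ᵁ V) hW hle hx
  have hfix : (hW.primeIdealOf ⟨x, hx⟩).comap ((ρ g).hom.appLE (p ⁻¹ᵁ V) (p ⁻¹ᵁ V) hle).hom =
      hW.primeIdealOf ⟨x, hx⟩ := by
    apply PrimeSpectrum.ext
    change Ideal.comap (σ ρ p hp.inv V g) (hW.primeIdealOf ⟨x, hx⟩).asIdeal = _
    rw [← ker_evaluation hW x hx, ← smul_ideal ρ p hp V g, hgQ]
  have e : (ρ g).hom x = x := by
    have h1 := hW.fromSpec_primeIdealOf ⟨(ρ g).hom x, hle hx⟩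
    rw [← hc, hfix, hW.fromSpec_primeIdealOf] at h1
    exact h1.symm
  refine ⟨g, e, ?_⟩
  have key : (ρ g).hom.appLE (p ⁻¹ᵁ V) (p ⁻¹ᵁ V) hle ≫ X.evaluation (p ⁻¹ᵁ V) x hx =
      X.evaluation (p ⁻¹ᵁ V) x hx ≫ (X.residueFieldCongr e).inv ≫
        (ρ g).hom.residueFieldMap x := by
    rw [Scheme.residueFieldCongr_inv, ← Category.assoc, evaluation_congr (p ⁻¹ᵁ V) e.symm hx,
      Scheme.evaluation_naturality, Scheme.Hom.appLE, Category.assoc]
    congr 1
    rw [← Scheme.germ_residue, ← Category.assoc, TopCat.Presheaf.germ_res]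
    rfl
  ext z
  obtain ⟨b, s, rfl⟩ := exists_evaluation_div hW x hx z
  have hb : ∀ b : Γ(X, p ⁻¹ᵁ V), τ.hom.hom ((X.evaluation (p ⁻¹ᵁ V) x hx).hom b) =
      ((X.residueFieldCongr e).inv ≫ (ρ g).hom.residueFieldMap x).hom
        ((X.evaluation (p ⁻¹ᵁ V) x hx).hom b) := by
    intro b
    have h1 := hg₀' b
    have h2 := congrArg (fun f => f.hom b) key
    change (X.evaluation (p ⁻¹ᵁ V) x hx).hom (σ ρ p hp.inv V g b) = _ at h2
    rw [smul_def] at h1
    exact h1.trans h2
  rw [map_div₀, map_div₀, hb, hb]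

end Groth.Agent.S13597
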