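import Groth.Statements.S13598
import Groth.Agent.Lib.Helper29.HenselUniv

set_option autoImplicit false
universe u
open Hensel

namespace Groth.Agent.S13598

/-- For a local ring A, a henselization A ⟶ S of A (S a henselian local ring, the structure map local,
and initial among local homomorphisms from A to henselian local rings) and an ideal I of A inside
the maximal ideal, the quotient S/IS with its induced algebra structure over A/I is a henselization
of A/I. (The local-ring and local-homomorphism instances on the quotients hold automatically; they
are taken as hypotheses only so that the conclusion can be stated.) -/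
theorem result {A S : Type u} [CommRing A] [IsLocalRing A] [CommRing S]
    [IsLocalRing S] [Algebra A S] [IsLocalHom (algebraMap A S)] [Hensel.IsHenselization A S]
    (I : Ideal A) (hI : I ≤ IsLocalRing.maximalIdeal A)
    [IsLocalRing (A ⧸ I)] [IsLocalRing (S ⧸ I.map (algebraMap A S))]
    [IsLocalHom (algebraMap (A ⧸ I) (S ⧸ I.map (algebraMap A S)))] :
    Hensel.IsHenselization (A ⧸ I) (S ⧸ I.map (algebraMap A S)) := by
  haveI : HenselianLocalRing S := Hensel.IsHenselization.henselian A
  refine ⟨Groth.Agent.Lib.Helper29.henselian_quotient S _, ?_⟩
  intro T _ _ f hf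
  haveI : IsLocalHom (Ideal.Quotient.mk I) :=
    IsLocalHom.of_surjective _ Ideal.Quotient.mk_surjective
  haveI := hf
  have hloc : IsLocalHom (f.comp (Ideal.Quotient.mk I)) := RingHom.isLocalHom_comp _ _
  obtain ⟨g, hg, huniq⟩ := Hensel.IsHenselization.universal (R := A) (S := S) T
    (f.comp (Ideal.Quotient.mk I)) hloc
  have hgJ : ∀ s ∈ I.map (algebraMap A S), g s = 0 := by
    have : I.map (algebraMap A S) ≤ RingHom.ker g := by
      rw [Ideal.map_le_iff_le_comap]
      intro y hy
      rw [Ideal.mem_comap, RingHom.mem_ker]
      have := congrArg (fun h : A →+* T => h y) hg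
      simp only [RingHom.comp_apply] at this
      rw [this, Ideal.Quotient.eq_zero_iff_mem.2 hy, map_zero]
    exact fun s hs => this hs
  refine ⟨Ideal.Quotient.lift _ g hgJ, ?_, ?_⟩
  · ext a
    simp only [RingHom.comp_apply, Ideal.Quotient.algebraMap_quotient_map_quotient,
      Ideal.Quotient.lift_mk]
    have := congrArg (fun h : A →+* T => h a) hg
    simpa using this
  · intro h hh
    apply Ideal.Quotient.ringHom_ext
    have : h.comp (Ideal.Quotient.mk (I.map (algebraMap A S))) = g := by
      apply huniq
      ext a
      have := congrArg (fun φ : A ⧸ I →+* T => φ (Ideal.Quotient.mk I a)) hh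
      simpa [Ideal.Quotient.algebraMap_quotient_map_quotient] using this
    rw [this]
    ext s
    simp


end Groth.Agent.S13598
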