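import Groth.Statements.S13603
-- import your own Groth.Agent.* helpers here

set_option autoImplicit false
universe u v
open CAlg

namespace Groth.Agent.S13603

theorem exists_common {B : Type u} [CommRing B] (S : Submonoid B) (b : B) (F : Finset B)
    (h : ∀ y ∈ F, ∃ t ∈ S, t * y = t * b) : ∃ t ∈ S, ∀ y ∈ F, t * y = t * b := by
  classical
  induction F using Finset.induction_on with
  | empty => exact ⟨1, S.one_mem, fun y hy => by simp at hy⟩
  | insert a F _ ih =>
    obtain ⟨tF, htF, hF⟩ := ih fun y hy => h y (Finset.mem_insert_of_mem hy)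
    obtain ⟨ta, hta, ha⟩ := h a (Finset.mem_insert_self a F)
    refine ⟨ta * tF, S.mul_mem hta htF, fun y hy => ?_⟩
    rcases Finset.mem_insert.mp hy with rfl | hy
    · calc ta * tF * y = tF * (ta * y) := by ring
        _ = tF * (ta * b) := by rw [ha]
        _ = ta * tF * b := by ring
    · calc ta * tF * y = ta * (tF * y) := by ring
        _ = ta * (tF * b) := by rw [hF y hy]
        _ = ta * tF * b := by ring

theorem map_mk'_eq {B : Type u} [CommRing B]
    {G : Type v} [Group G] [MulSemiringAction G B]
    (S : Submonoid B) (hS : ∀ (g : G) (s : B), s ∈ S → g • s = s)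
    (hS' : ∀ g : G, S ≤ S.comap (MulSemiringAction.toRingHom G B g)) (g : G) (b : B) (s : S) :
    IsLocalization.map (Localization S) (MulSemiringAction.toRingHom G B g) (hS' g)
      (IsLocalization.mk' (Localization S) b s) = IsLocalization.mk' (Localization S) (g • b) s := by
  rw [IsLocalization.map_mk']
  congr 1
  exact Subtype.ext (hS g s s.2)

/-- Let a group G act on a commutative ring B by ring automorphisms so that every element of B has a
finite orbit, and let S ⊆ B be a multiplicative set of G-fixed elements (so each g ∈ G induces an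
endomorphism of the localization S⁻¹B; the hypothesis that g maps S into S is implied by the
previous one and is only carried to name that endomorphism). Then an element of S⁻¹B is fixed by all
of G if and only if it is a fraction b/s with b fixed by G and s ∈ S: the canonical map S⁻¹(B^G) →
(S⁻¹B)^G is onto. -/
theorem result {B : Type u} [CommRing B]
    {G : Type v} [Group G] [MulSemiringAction G B] (hfin : ∀ b : B, (MulAction.orbit G b).Finite)
    (S : Submonoid B) (hS : ∀ (g : G) (s : B), s ∈ S → g • s = s)
    (hS' : ∀ g : G, S ≤ S.comap (MulSemiringAction.toRingHom G B g)) (x : Localization S) :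
    (∀ g : G, IsLocalization.map (Localization S) (MulSemiringAction.toRingHom G B g) (hS' g) x = x) ↔
      ∃ (b : B) (s : S), (∀ g : G, g • b = b) ∧ x = IsLocalization.mk' (Localization S) b s := by
  constructor
  · intro hx
    obtain ⟨b, s, rfl⟩ := IsLocalization.exists_mk'_eq S x
    have h1 : ∀ y ∈ (hfin b).toFinset, ∃ t ∈ S, t * y = t * b := by
      intro y hy
      rw [Set.Finite.mem_toFinset, MulAction.mem_orbit_iff] at hy
      obtain ⟨g, rfl⟩ := hy
      have := hx g
      rw [map_mk'_eq S hS hS', IsLocalization.eq] at this
      obtain ⟨c, hc⟩ := this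
      refine ⟨c * s, S.mul_mem c.2 s.2, ?_⟩
      rw [mul_assoc, hc, mul_assoc]
    obtain ⟨t, ht, htb⟩ := exists_common S b _ h1
    refine ⟨t * b, ⟨t, ht⟩ * s, fun g => ?_, ?_⟩
    · rw [smul_mul', hS g t ht]
      exact htb _ (by rw [Set.Finite.mem_toFinset]; exact MulAction.mem_orbit b g)
    · rw [IsLocalization.eq]
      refine ⟨1, ?_⟩
      simp only [OneMemClass.coe_one, one_mul, Submonoid.coe_mul]
      ring
  · rintro ⟨b, s, hb, rfl⟩ g
    rw [map_mk'_eq S hS hS', hb g]

end Groth.Agent.S13603
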