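import Groth.Statements.S1570
import Groth.Agent.Lib.Helper29.EffCart3

set_option autoImplicit false
universe u
open CategoryTheory CategoryTheory.Limits AlgebraicGeometry
open Divisors

namespace Groth.Agent.S1570




/-- Let X be locally Noetherian and D a closed subscheme with ideal sheaf I. If for every point x of D
the ideal generated by I in the local ring at x is generated by one nonzerodivisor, then D is an
effective Cartier divisor. -/
theorem result (X : Scheme.{u}) [IsLocallyNoetherian X]
    (D : X.IdealSheafData)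
    (h : ∀ x ∈ D.support, ∀ (U : X.affineOpens) (hx : x ∈ (U : X.Opens)),
      ∃ g : X.presheaf.stalk x, g ∈ nonZeroDivisors (X.presheaf.stalk x) ∧
        (D.ideal U).map (X.presheaf.germ U x hx).hom = Ideal.span {g}) :
    BlowUp.IsEffCartierIdeal D := by
  open Groth.Agent.Lib.Helper29.EffCart in
  intro x
  by_cases hx : x ∈ D.support
  · obtain ⟨_, ⟨U, hU, rfl⟩, hxU, -⟩ :=
      X.isBasis_affineOpens.exists_subset_of_mem_open (Set.mem_univ x) isOpen_univ
    obtain ⟨p, rfl⟩ := exists_fromSpec_eq ⟨U, hU⟩ hxU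
    haveI : IsNoetherianRing Γ(X, U) := IsLocallyNoetherian.component_noetherian ⟨U, hU⟩
    obtain ⟨g, hg, hI⟩ := h _ hx ⟨U, hU⟩ (fromSpec_mem ⟨U, hU⟩ p)
    obtain ⟨V, hV, f, hf, hfI⟩ := exists_affine_nhd_principal_nzd D ⟨U, hU⟩ p g hg hI
    exact ⟨V, hV, f, hf, hfI⟩
  · obtain ⟨V, hxV, hV⟩ := exists_affine_nhd_top_of_not_mem_support D x hx
    exact ⟨V, hxV, 1, one_mem _, by rw [hV, Ideal.span_singleton_one]⟩

end Groth.Agent.S1570
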