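import Groth.Statements.S13604
import Groth.Agent.S1570
import Groth.Agent.Lib.Helper29.EffCart4
import Groth.Agent.Lib.Helper29.RelEffCart
import Groth.Agent.Lib.Helper29.IdealComap

set_option autoImplicit false
universe u
open CategoryTheory AlgebraicGeometry
open CategoryTheory.Limits
open Cyc

namespace Groth.Agent.S13604

open Groth.Agent.Lib.Helper29.EffCart

/-- Descent of "principal, generated by a nonzerodivisor" along a flat local homomorphism of local
rings. -/
lemma exists_nzd_span_of_flat_local {A B : Type u} [CommRing A] [CommRing B] [IsLocalRing A]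
    [IsLocalRing B] (φ : A →+* B) (hφ : φ.Flat) [IsLocalHom φ] (I : Ideal A) (b : B)
    (hb : b ∈ nonZeroDivisors B) (hI : I.map φ = Ideal.span {b}) :
    ∃ a : A, a ∈ nonZeroDivisors A ∧ I = Ideal.span {a} := by
  letI : Algebra A B := φ.toAlgebra
  haveI : Module.Flat A B := hφ
  haveI : IsLocalHom (algebraMap A B) := ‹IsLocalHom φ›
  haveI : Module.FaithfullyFlat A B := Module.FaithfullyFlat.of_flat_of_isLocalHom
  have hinj : Function.Injective φ := FaithfulSMul.algebraMap_injective A B
  -- b ∈ I.map φ
  have hbI : b ∈ I.map φ := hI ▸ Ideal.mem_span_singleton_self b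
  -- every φ a (a ∈ I) is a multiple of b
  have hdiv : ∀ a ∈ I, ∃ c : B, φ a = b * c := fun a ha => by
    have : φ a ∈ Ideal.span {b} := hI ▸ Ideal.mem_map_of_mem φ ha
    obtain ⟨c, hc⟩ := Ideal.mem_span_singleton'.1 this
    exact ⟨c, by rw [← hc, mul_comm]⟩
  -- some a ∈ I has φ a = b * unit
  have hex : ∃ a ∈ I, ∃ c : B, IsUnit c ∧ φ a = b * c := by
    by_contra hcon
    push Not at hcon
    -- then I.map φ ≤ b • maximalIdeal
    have hle : I.map φ ≤ Ideal.span {b} * IsLocalRing.maximalIdeal B := by
      rw [Ideal.map_le_iff_le_comap]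
      intro a ha
      obtain ⟨c, hc⟩ := hdiv a ha
      have hcm : c ∈ IsLocalRing.maximalIdeal B := by
        rw [IsLocalRing.mem_maximalIdeal, mem_nonunits_iff]
        exact fun hu => hcon a ha c hu hc
      rw [Ideal.mem_comap, hc]
      exact Ideal.mul_mem_mul (Ideal.mem_span_singleton_self b) hcm
    have hb' : b ∈ Ideal.span {b} * IsLocalRing.maximalIdeal B := hle hbI
    rw [Ideal.mem_span_singleton_mul] at hb'
    obtain ⟨z, hz, hbz⟩ := hb'
    have h1 : z = 1 := by
      have h0 : (z - 1) * b = 0 := by rw [sub_mul, one_mul, mul_comm, hbz, sub_self]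
      exact sub_eq_zero.1 ((mem_nonZeroDivisors_iff_right.1 hb) _ h0)
    rw [h1] at hz
    exact (Ideal.ne_top_iff_one _).1 (IsLocalRing.maximalIdeal.isMaximal B).ne_top hz
  obtain ⟨a, haI, c, hc, hac⟩ := hex
  refine ⟨a, ?_, ?_⟩
  · rw [mem_nonZeroDivisors_iff_right]
    intro y hy
    apply hinj
    have h2 : φ y * (b * c) = 0 := by rw [← hac, ← map_mul, hy, map_zero]
    have h3 : (φ y * c) * b = 0 := by rw [← h2]; ring
    have h4 : φ y * c = 0 := (mem_nonZeroDivisors_iff_right.1 hb) _ h3
    rw [map_zero]
    exact (hc.mul_left_eq_zero).1 h4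
  · have hmap : (Ideal.span {a}).map φ = I.map φ := by
      rw [Ideal.map_span, Set.image_singleton, hI, hac]
      exact Ideal.span_singleton_mul_right_unit hc b
    have e1 := Ideal.comap_map_eq_self_of_faithfullyFlat (B := B) I
    have e2 := Ideal.comap_map_eq_self_of_faithfullyFlat (B := B) (Ideal.span {a})
    change (I.map φ).comap φ = I at e1
    change ((Ideal.span {a}).map φ).comap φ = _ at e2
    rw [← e1, ← hmap, e2]

/-- Let k be a field, X a separated k-scheme of finite type, smooth of relative dimension r, and Z ⊆ X a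
closed subscheme (a quasi-coherent ideal sheaf) of pure dimension r − 1, i.e. the local ring of X at
every maximal point of Z has dimension 1. If for some field extension K/k the base change Z_K ⊆ X_K
= X ×_k Spec K (the inverse image ideal sheaf along the first projection) is an effective Cartier
divisor, then the ideal of Z is locally generated by a single non-zero-divisor, i.e. Z too is
effective Cartier. -/
theorem result {k : Type u} [Field k] {K : Type u} [Field K]
    [Algebra k K] {X : Scheme.{u}} (f : X ⟶ Spec (CommRingCat.of k)) (r : ℕ) [SmoothOfRelativeDimension r f]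
    [QuasiCompact f] [IsSeparated f] (𝓘 : X.IdealSheafData)
    (hpure : ∀ z : ↥𝓘.subscheme, (∀ z' : ↥𝓘.subscheme, z' ⤳ z → z' = z) →
      ringKrullDim ↑(X.presheaf.stalk (𝓘.subschemeι.base z)) = 1)
    (hK : BlowUp.IsEffCartierIdeal
      (𝓘.comap (pullback.fst f (Spec.map (CommRingCat.ofHom (algebraMap k K)))))) :
    BlowUp.IsEffCartierIdeal 𝓘 := by
  haveI : Smooth f := SmoothOfRelativeDimension.smooth r f
  haveI : IsLocallyNoetherian X := LocallyOfFiniteType.isLocallyNoetherian f
  set g := Spec.map (CommRingCat.ofHom (algebraMap k K)) with hg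
  haveI : Surjective g := by
    constructor
    intro y
    haveI : Nonempty (Spec (CommRingCat.of K)) := inferInstance
    obtain ⟨z⟩ := this
    refine ⟨z, ?_⟩
    haveI : Subsingleton (Spec (CommRingCat.of k)) :=
      inferInstanceAs (Subsingleton (PrimeSpectrum k))
    exact Subsingleton.elim _ _
  set pr := pullback.fst f g with hpr
  haveI : Surjective pr := inferInstance
  haveI : Flat pr := inferInstance
  apply Groth.Agent.S1570.result X 𝓘
  intro x hx U hxU
  obtain ⟨x', rfl⟩ := pr.surjective x
  obtain ⟨W, hx'W, hWle, t, ht, hIt⟩ :=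
    exists_affine_principal_nzd_le (𝓘.comap pr) hK x' (pr ⁻¹ᵁ U.1) hxU
  have hmap := ideal_comap_eq_map 𝓘 pr U W hWle
  have hflat : (pr.stalkMap x').hom.Flat := Flat.stalkMap pr x'
  have hcompat : ∀ s : Γ(X, U.1), (pr.stalkMap x').hom (X.presheaf.germ U.1 (pr x') hxU s) =
      (pullback f g).presheaf.germ W.1 x' hx'W ((pr.appLE U.1 W.1 hWle).hom s) := by
    intro s
    have h1 := Scheme.Hom.germ_stalkMap_apply pr U.1 x' hxU s
    refine h1.trans ?_
    rw [Scheme.Hom.appLE, CommRingCat.hom_comp, RingHom.comp_apply]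
    exact (TopCat.Presheaf.germ_res_apply _ (homOfLE hWle) x' hx'W _).symm
  refine exists_nzd_span_of_flat_local (pr.stalkMap x').hom hflat _
    ((pullback f g).presheaf.germ W.1 x' hx'W t)
    (Groth.Agent.Lib.Helper29.EffCart.germ_mem_nonZeroDivisors W.2 x' hx'W t ht) ?_
  rw [Ideal.map_map]
  have hcomp : (pr.stalkMap x').hom.comp (X.presheaf.germ U.1 (pr x') hxU).hom =
      ((pullback f g).presheaf.germ W.1 x' hx'W).hom.comp (pr.appLE U.1 W.1 hWle).hom :=
    RingHom.ext hcompat
  rw [hcomp, ← Ideal.map_map, ← hmap, hIt, Ideal.map_span, Set.image_singleton]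

end Groth.Agent.S13604
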