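import Groth.Statements.S13605
import Groth.Agent.Lib.Helper28.SymProdAF
import Groth.Agent.Lib.Helper28.FinQuotProps

set_option autoImplicit false
universe u
open CategoryTheory AlgebraicGeometry
open CategoryTheory.Limits
open SymProd

namespace Groth.Agent.S13605

/-- Let f : X ⟶ S be a morphism of schemes satisfying (AF) (every finite set of points of X over a
single point of S lies in an affine open of X), let 𝒮 be a cover of S by affine opens, let d ≥ 1 and
let (Y, q, g) be a d-th symmetric power of X over S: q : X ×_S ⋯ ×_S X ⟶ Y is a quotient by the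
symmetric group on d letters permuting the factors (affine, invariant, sections of O_Y = invariant
sections) and q ≫ g is the structure map of the fibre power. Then Y is covered by affine opens of
the form Sym^d(U/V) with V in the given cover: for every point y of Y there are V ∈ 𝒮 and an affine
open U ⊆ f⁻¹V of X such that the open W = ⋂_i pr_i⁻¹ U of the fibre power (the fibre power of U over
V) is affine and stable under every permutation of the factors, and an affine open W' of Y
containing y with q⁻¹ W' = W. (The published statement also fixes an affine open cover of X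
subordinate to the cover of S, in which any d points over a common point of a member V lie in a
common member mapping into V, and concludes that the corresponding opens Sym^d(U/V) cover Y; this
row states the pointwise form, producing U for each y.) -/
theorem result {X S Y : Scheme.{u}} (f : X ⟶ S) (hAF : SymProd.IsAF f)
    (𝒮 : Set S.Opens) (h𝒮 : ∀ V ∈ 𝒮, IsAffineOpen V) (hcov : ∀ s : S, ∃ V ∈ 𝒮, s ∈ V)
    (d : ℕ) (hd : 0 < d) (q : SymProd.fibPow f d ⟶ Y) (g : Y ⟶ S) (hq : SymProd.IsSymProd f d q g) (y : Y) :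
    ∃ V ∈ 𝒮, ∃ U : X.Opens, IsAffineOpen U ∧ U ≤ f ⁻¹ᵁ V ∧
      ∃ W : (SymProd.fibPow f d).Opens,
        (W : Set ↥(SymProd.fibPow f d)) =
          ⋂ i : Fin d, (WidePullback.π (fun _ : Fin d => f) i).base ⁻¹' (U : Set X) ∧
        IsAffineOpen W ∧ (∀ σ : Equiv.Perm (Fin d), (SymProd.permHom f d σ) ⁻¹ᵁ W = W) ∧
        ∃ W' : Y.Opens, y ∈ W' ∧ IsAffineOpen W' ∧ q ⁻¹ᵁ W' = W := by
  classical
  have hQ : SGA1.IsQuot (SymProd.permActU f d) q := hq.isQuot
  obtain ⟨x, rfl⟩ := Groth.Agent.Lib.Helper28.FinQuot.surjective (SymProd.permActU f d) q hQ y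
  let T : Finset X := Finset.univ.image (fun i : Fin d => (WidePullback.π (fun _ : Fin d => f) i) x)
  have hT : ∀ t ∈ T, f.base t = (WidePullback.base (fun _ : Fin d => f)) x := by
    intro t ht
    obtain ⟨i, -, rfl⟩ := Finset.mem_image.1 ht
    show f ((WidePullback.π (fun _ : Fin d => f) i) x) = _
    rw [← Scheme.Hom.comp_apply, WidePullback.π_arrow]
  obtain ⟨U₀, hU₀, hTU₀⟩ := hAF _ T hT
  obtain ⟨V, hV𝒮, hsV⟩ := hcov ((WidePullback.base (fun _ : Fin d => f)) x)
  have hV : IsAffineOpen V := h𝒮 V hV𝒮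
  obtain ⟨g₀, hTg, hgle⟩ := Groth.Agent.Lib.Helper4.PrimeAvoidOpen.scheme_version U₀ hU₀ (f ⁻¹ᵁ V) (T : Set X)
    T.finite_toSet (fun t ht => hTU₀ t ht) (fun t ht => by
      show f t ∈ V
      have := hT t ht
      rw [show f t = (WidePullback.base (fun _ : Fin d => f)) x from this]
      exact hsV)
  have hW : IsAffineOpen (X.basicOpen g₀) := hU₀.basicOpen g₀
  let W : (SymProd.fibPow f d).Opens := Groth.Agent.Lib.Helper28.SymProdAF.box f d V (X.basicOpen g₀)
  have hWaff : IsAffineOpen W :=
    Groth.Agent.Lib.Helper28.SymProdAF.isAffineOpen_box f d V (X.basicOpen g₀) hgle hV hW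
  have hxW : x ∈ W := ⟨hsV, fun i => hTg (Finset.mem_coe.2 (Finset.mem_image.2 ⟨i, Finset.mem_univ _, rfl⟩))⟩
  have hstab : ∀ σ : Equiv.Perm (Fin d), (SymProd.permHom f d σ) ⁻¹ᵁ W = W := by
    intro σ
    apply le_antisymm
    · intro z hz
      have h1 := Groth.Agent.Lib.Helper28.SymProdAF.permHom_mem_box f d V (X.basicOpen g₀) σ⁻¹ _ hz
      rw [← Scheme.Hom.comp_apply, ← SymProd.permHom_mul, inv_mul_cancel, SymProd.permHom_one] at h1
      exact h1
    · intro z hz
      exact Groth.Agent.Lib.Helper28.SymProdAF.permHom_mem_box f d V (X.basicOpen g₀) σ z hz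
  haveI : Finite (ULift.{u} (Equiv.Perm (Fin d))) := inferInstance
  obtain ⟨W', hW'⟩ := Groth.Agent.Lib.Helper28.FinQuot.exists_open_preimage_eq (SymProd.permActU f d) q hQ W
    (fun σ => hstab σ.down)
  refine ⟨V, hV𝒮, X.basicOpen g₀, hW, hgle, W, ?_, hWaff, hstab, W', ?_, ?_, hW'⟩
  · ext z
    simp only [Set.mem_iInter, Set.mem_preimage, SetLike.mem_coe]
    constructor
    · intro hz i
      exact hz.2 i
    · intro hz
      refine ⟨?_, hz⟩
      have h0 := hz ⟨0, hd⟩
      have h1 : f ((WidePullback.π (fun _ : Fin d => f) ⟨0, hd⟩) z) ∈ V := hgle h0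
      rw [← Scheme.Hom.comp_apply, WidePullback.π_arrow] at h1
      exact h1
  · have : x ∈ q ⁻¹ᵁ W' := by rw [hW']; exact hxW
    exact this
  · exact Groth.Agent.Lib.Helper28.FinQuot.isAffineOpen_of_preimage (SymProd.permActU f d) q hQ W'
      (by rw [hW']; exact hWaff)

end Groth.Agent.S13605
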