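import Groth.Statements.S13609
-- import your own Groth.Agent.* helpers here

set_option autoImplicit false
universe u v
open CAlg

namespace Groth.Agent.S13609

theorem map_mem_smul_top {A : Type*} [CommRing A] {M N : Type*} [AddCommGroup M] [Module A M]
    [AddCommGroup N] [Module A N] (g : M →ₗ[A] N) (J : Ideal A) {x : M}
    (hx : x ∈ J • (⊤ : Submodule A M)) : g x ∈ J • (⊤ : Submodule A N) := by
  have : g x ∈ (J • (⊤ : Submodule A M)).map g := Submodule.mem_map_of_mem hx
  rw [Submodule.map_smul''] at this
  exact Submodule.smul_mono le_rfl le_top this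

/-- A direct summand of a module that is complete and separated for the I-adic topology is again
complete and separated: for a commutative ring A, an ideal I and A-modules M₁, M₂, if M₁ × M₂ is
I-adically complete then so is M₁. -/
theorem result (A : Type u) [CommRing A] (I : Ideal A)
    (M₁ M₂ : Type v) [AddCommGroup M₁] [Module A M₁] [AddCommGroup M₂] [Module A M₂]
    [IsAdicComplete I (M₁ × M₂)] : IsAdicComplete I M₁ := by
  have hH : IsHausdorff I (M₁ × M₂) := inferInstance
  have hP : IsPrecomplete I (M₁ × M₂) := inferInstance
  refine { haus' := ?_, prec' := ?_ }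
  · intro x hx
    have : (LinearMap.inl A M₁ M₂ x) = 0 := by
      apply hH.haus'
      intro n
      have hxn := hx n
      rw [SModEq.zero] at hxn ⊢
      exact map_mem_smul_top (LinearMap.inl A M₁ M₂) (I ^ n) hxn
    simpa using this
  · intro f hf
    obtain ⟨L, hL⟩ := hP.prec' (fun n => LinearMap.inl A M₁ M₂ (f n)) (by
      intro m n hmn
      have := hf hmn
      rw [SModEq.sub_mem] at this ⊢
      rw [← map_sub]
      exact map_mem_smul_top (LinearMap.inl A M₁ M₂) (I ^ m) this)
    refine ⟨L.1, fun n => ?_⟩
    have := hL n
    rw [SModEq.sub_mem] at this ⊢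
    have h2 := map_mem_smul_top (LinearMap.fst A M₁ M₂) (I ^ n) this
    simpa using h2

end Groth.Agent.S13609
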