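import Groth.Statements.S13621
import Groth.Agent.S3148
-- import your own Groth.Agent.* helpers here

set_option autoImplicit false
open CategoryTheory CategoryTheory.Limits Opposite
universe v u
open ARSys

namespace Groth.Agent.S13621

open Groth.Agent.S3148

variable {C : Type u} [Category.{v} C] [Abelian C]

/-- cone compatibility for limits of projective systems -/
theorem limit_π_tr [HasLimitsOfShape ℕᵒᵖ C] (X : ARSys.PS C) {n m : ℕ} (h : n ≤ m) :
    limit.π X (op m) ≫ ARSys.tr X h = limit.π X (op n) :=
  limit.w X (homOfLE h).op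

/-- elementwise nullity of the kernel -/
def KerNull {X Y : ARSys.PS C} (φ : X ⟶ Y) (r : ℕ) : Prop :=
  ∀ (n : ℕ) (T : C) (x : T ⟶ X.obj (op (n + r))), x ≫ φ.app (op (n + r)) = 0 →
    x ≫ ARSys.tr X (Nat.le_add_right n r) = 0

theorem kerNull_of_isARNull {X Y : ARSys.PS C} (u : X ⟶ Y) (r : ℕ)
    (hr : ∀ n : ℕ, ARSys.shiftMap (kernel u) r n = 0) : KerNull u r := by
  intro n T x hx
  have hS : (ShortComplex.mk (kernel.ι u) u (kernel.condition u)).Exact := ShortComplex.exact_kernel u
  have hS' := hS.map ((evaluation ℕᵒᵖ C).obj (op (n + r)))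
  have hm : Mono ((ShortComplex.mk (kernel.ι u) u (kernel.condition u)).map
      ((evaluation ℕᵒᵖ C).obj (op (n + r)))).f :=
    (NatTrans.mono_iff_mono_app (kernel.ι u)).mp inferInstance _
  obtain ⟨l, hl⟩ : ∃ l : T ⟶ (kernel u).obj (op (n + r)), l ≫ (kernel.ι u).app (op (n + r)) = x :=
    ⟨hS'.lift x hx, hS'.lift_f x hx⟩
  rw [← hl, Category.assoc, tr_naturality (kernel.ι u) (Nat.le_add_right n r), ← Category.assoc]
  have h0 : ARSys.tr (kernel u) (Nat.le_add_right n r) = 0 := hr n
  rw [h0, comp_zero, zero_comp]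

theorem limMap_mono_of_kerNull [HasLimitsOfShape ℕᵒᵖ C] {X Y : ARSys.PS C} (φ : X ⟶ Y) (r : ℕ)
    (hφ : KerNull φ r) : Mono (limMap φ) := by
  rw [Preadditive.mono_iff_cancel_zero]
  intro T t ht
  apply limit.hom_ext
  intro k
  obtain ⟨n⟩ := k
  rw [zero_comp, ← limit_π_tr X (Nat.le_add_right n r), ← Category.assoc]
  apply hφ n T
  rw [Category.assoc, ← limMap_π, ← Category.assoc, ht, zero_comp]

/-- a family of maps `Y_{n+r} ⟶ X_n` inverting `φ` up to translation gives a section of `lim φ` -/
theorem exists_section_limMap [HasLimitsOfShape ℕᵒᵖ C] {X Y : ARSys.PS C} (φ : X ⟶ Y) (r : ℕ)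
    (v : ∀ n : ℕ, Y.obj (op (n + r)) ⟶ X.obj (op n))
    (hv₁ : ∀ (n m : ℕ) (h : n ≤ m), v m ≫ ARSys.tr X h = ARSys.tr Y (Nat.add_le_add_right h r) ≫ v n)
    (hv₂ : ∀ n : ℕ, v n ≫ φ.app (op n) = ARSys.tr Y (Nat.le_add_right n r)) :
    ∃ w : limit Y ⟶ limit X, w ≫ limMap φ = 𝟙 _ := by
  let c : Cone X :=
    { pt := limit Y
      π :=
        { app := fun k => limit.π Y (op (k.unop + r)) ≫ v k.unop
          naturality := by
            intro k l f
            have h : l.unop ≤ k.unop := leOfHom f.unop
            have hf : f = (homOfLE h).op := Subsingleton.elim _ _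
            subst hf
            change 𝟙 _ ≫ _ = (limit.π Y (op (k.unop + r)) ≫ v k.unop) ≫ ARSys.tr X h
            rw [Category.id_comp, Category.assoc, hv₁ _ _ h, ← Category.assoc, limit_π_tr] } }
  refine ⟨limit.lift X c, ?_⟩
  apply limit.hom_ext
  intro k
  obtain ⟨n⟩ := k
  rw [Category.assoc, limMap_π, ← Category.assoc, limit.lift_π, Category.id_comp]
  change (limit.π Y (op (n + r)) ≫ v n) ≫ φ.app (op n) = _
  rw [Category.assoc, hv₂, limit_π_tr]

theorem isIso_of_mono_of_section {A B : C} (f : A ⟶ B) [Mono f] (w : B ⟶ A) (hw : w ≫ f = 𝟙 B) :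
    IsIso f := by
  refine ⟨⟨w, ?_, hw⟩⟩
  rw [← cancel_mono f, Category.assoc, hw, Category.comp_id, Category.id_comp]


/-- The inverse limit is a well-defined functor on projective systems up to translation. Concretely: in
an abelian category with limits of shape ℕᵒᵖ, a morphism u : X ⟶ Y of projective systems indexed by
the natural numbers whose kernel and cokernel are null up to translation induces an isomorphism lim
X ⟶ lim Y. (The published statement is the functoriality of lim on the category of systems up to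
translation; combined with the description of isomorphisms there as the morphisms with null kernel
and cokernel, this is the form stated.) -/
theorem result {C : Type u} [Category.{v} C] [Abelian C] [HasLimitsOfShape ℕᵒᵖ C]
    {X Y : ARSys.PS C} (u : X ⟶ Y) (hu : ARSys.IsARIso u) : IsIso (limMap u) := by
  obtain ⟨⟨rK, hK⟩, ⟨rQ, hQ⟩⟩ := hu
  set p := Abelian.factorThruImage u with hp
  set j := Abelian.image.ι u with hj
  have hfac : p ≫ j = u := Abelian.image.fac u
  have hfac' : ∀ k : ℕᵒᵖ, p.app k ≫ j.app k = u.app k := fun k => by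
    rw [← NatTrans.comp_app, hfac]
  have hKu : KerNull u rK := kerNull_of_isARNull u rK hK
  have hmonoj : ∀ k : ℕᵒᵖ, Mono (j.app k) := (NatTrans.mono_iff_mono_app j).mp inferInstance
  have hepip : ∀ k : ℕᵒᵖ, Epi (p.app k) := (NatTrans.epi_iff_epi_app p).mp inferInstance
  have hKp : KerNull p rK := by
    intro n T x hx
    apply hKu n T x
    rw [← hfac', ← Category.assoc, hx, zero_comp]
  -- the epi part
  have hmp : Mono (limMap p) := limMap_mono_of_kerNull p rK hKp
  have hb : ∀ n : ℕ, ∃ b : (Abelian.image u).obj (op (n + rK)) ⟶ X.obj (op n),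
      p.app (op (n + rK)) ≫ b = ARSys.tr X (Nat.le_add_right n rK) := by
    intro n
    have hS : (ShortComplex.mk (kernel.ι p) p (kernel.condition p)).Exact :=
      ShortComplex.exact_kernel p
    have hS' := hS.map ((evaluation ℕᵒᵖ C).obj (op (n + rK)))
    have he : Epi ((ShortComplex.mk (kernel.ι p) p (kernel.condition p)).map
        ((evaluation ℕᵒᵖ C).obj (op (n + rK)))).g := hepip _
    have hk : (kernel.ι p).app (op (n + rK)) ≫ ARSys.tr X (Nat.le_add_right n rK) = 0 := by
      apply hKp n
      rw [← NatTrans.comp_app, kernel.condition]; rfl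
    exact ⟨hS'.desc _ hk, hS'.g_desc _ hk⟩
  choose b hb using hb
  obtain ⟨w, hw⟩ := exists_section_limMap p rK b
    (by
      intro n m h
      have := hepip (op (m + rK))
      rw [← cancel_epi (p.app (op (m + rK))), ← Category.assoc, hb m, tr_comp,
        ← Category.assoc, tr_naturality p (Nat.add_le_add_right h rK), Category.assoc, hb n, tr_comp])
    (by
      intro n
      have := hepip (op (n + rK))
      rw [← cancel_epi (p.app (op (n + rK))), ← Category.assoc, hb n,
        tr_naturality p (Nat.le_add_right n rK)])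
  have hip : IsIso (limMap p) := isIso_of_mono_of_section _ w hw
  -- the mono part
  have hmj : Mono (limMap j) := inferInstance
  have ha : ∀ n : ℕ, ∃ a : Y.obj (op (n + rQ)) ⟶ (Abelian.image u).obj (op n),
      a ≫ j.app (op n) = ARSys.tr Y (Nat.le_add_right n rQ) := by
    intro n
    have hS : (ShortComplex.mk j (cokernel.π u) (kernel.condition _)).Exact :=
      ShortComplex.exact_kernel (cokernel.π u)
    have hS' := hS.map ((evaluation ℕᵒᵖ C).obj (op n))
    have hm : Mono ((ShortComplex.mk j (cokernel.π u) (kernel.condition _)).map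
        ((evaluation ℕᵒᵖ C).obj (op n))).f := hmonoj _
    have hk : ARSys.tr Y (Nat.le_add_right n rQ) ≫ (cokernel.π u).app (op n) = 0 := by
      rw [← tr_naturality (cokernel.π u) (Nat.le_add_right n rQ)]
      have h0 : ARSys.tr (cokernel u) (Nat.le_add_right n rQ) = 0 := hQ n
      rw [h0, comp_zero]
    exact ⟨hS'.lift _ hk, hS'.lift_f _ hk⟩
  choose a ha using ha
  obtain ⟨w', hw'⟩ := exists_section_limMap j rQ a
    (by
      intro n m h
      have := hmonoj (op n)
      rw [← cancel_mono (j.app (op n)), Category.assoc, ← tr_naturality j h, ← Category.assoc, ha m,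
        tr_comp, Category.assoc, ha n, tr_comp])
    (fun n => ha n)
  have hij : IsIso (limMap j) := isIso_of_mono_of_section _ w' hw'
  have hcomp : limMap u = limMap p ≫ limMap j := by
    apply limit.hom_ext
    intro k
    rw [limMap_π, Category.assoc, limMap_π, ← Category.assoc, limMap_π, Category.assoc, hfac']
  rw [hcomp]
  infer_instance

end Groth.Agent.S13621
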