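import Groth.Statements.S13622
import Groth.Agent.Lib.lead.AdicLim
import Groth.Agent.Lib.lead.AdicLimB

set_option autoImplicit false
universe u v
open CAlg

namespace Groth.Agent.S13622

section aux

open Groth.Agent.AdicLim Function

theorem main
    (A : Type u) [CommRing A] (I : Ideal A) (hI : I.FG)
    (M : ℕ → Type v) [∀ n, AddCommGroup (M n)] [∀ n, Module A (M n)] [∀ n, Module.Finite A (M n)]
    (f : ∀ n, M (n + 1) →ₗ[A] M n) (hf : ∀ n, Function.Surjective (f n))
    (hker : ∀ n, LinearMap.ker (f n) = I ^ (n + 1) • (⊤ : Submodule A (M (n + 1))))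
    (hkill : ∀ n, I ^ (n + 1) • (⊤ : Submodule A (M n)) = ⊥)
    (L : Type v) [AddCommGroup L] [Module A L] (π : ∀ n, L →ₗ[A] M n)
    (hπ : ∀ n, f n ∘ₗ π (n + 1) = π n)
    (hinj : ∀ x : L, (∀ n, π n x = 0) → x = 0)
    (hlift : ∀ y : (∀ n, M n), (∀ n, f n (y (n + 1)) = y n) → ∃ x : L, ∀ n, π n x = y n)
    [Module (AdicCompletion I A) L] [IsScalarTower A (AdicCompletion I A) L] :
    Module.Finite (AdicCompletion I A) L := by
  classical
  obtain ⟨r, s, hs⟩ := Module.Finite.exists_fin (R := A) (M := M 0)
  have h0surj := pi_zero_surjective f π hf hlift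
  choose t ht using fun i => h0surj (s i)
  have h0 : Surjective (π 0 ∘ₗ uMap t) := by
    rw [← LinearMap.range_eq_top, eq_top_iff, ← hs, Submodule.span_le]
    rintro _ ⟨i, rfl⟩
    refine ⟨Pi.single i 1, ?_⟩
    simp [uMap_apply, ht, Pi.single_apply]
  have hsurj := comp_surjective f π t hkill hker hπ h0
  refine ⟨⟨Finset.univ.image t, ?_⟩⟩
  rw [eq_top_iff]
  intro x _
  have step : ∀ (k : ℕ) (yk : Fin r → A), π k (uMap t yk) = π k x →
      ∃ y' : Fin r → A, π (k + 1) (uMap t y') = π (k + 1) x ∧ InZ I (k + 1) (y' - yk) := by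
    intro k yk hyk
    have hd : π (k + 1) x - π (k + 1) (uMap t yk) ∈ LinearMap.ker (f k) := by
      rw [LinearMap.mem_ker, map_sub, ← LinearMap.comp_apply, ← LinearMap.comp_apply, hπ, hyk,
        sub_self]
    rw [hker] at hd
    obtain ⟨z, hz, hzd⟩ := exists_inZ_of_mem_smul_top (π (k + 1) ∘ₗ uMap t)
      (hsurj (k + 1)) (k + 1) hd
    refine ⟨yk + z, ?_, ?_⟩
    · rw [map_add, map_add]
      rw [LinearMap.comp_apply] at hzd
      rw [hzd]
      abel
    · rw [add_sub_cancel_left]
      exact hz
  obtain ⟨y0, hy0⟩ := hsurj 0 (π 0 x)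
  let S : ℕ → Type u := fun k => {y : Fin r → A // π k (uMap t y) = π k x}
  let seq : ∀ k, S k := fun k => Nat.rec (motive := S) ⟨y0, hy0⟩
    (fun k yk => ⟨Classical.choose (step k yk.1 yk.2), (Classical.choose_spec (step k yk.1 yk.2)).1⟩) k
  let Y : ℕ → Fin r → A := fun k => (seq k).1
  have hYprop : ∀ k, π k (uMap t (Y k)) = π k x := fun k => (seq k).2
  have hYstep : ∀ k, InZ I (k + 1) (Y (k + 1) - Y k) := fun k =>
    (Classical.choose_spec (step k (seq k).1 (seq k).2)).2
  let c : Fin r → AdicCompletion.AdicCauchySequence I A := fun i =>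
    AdicCompletion.AdicCauchySequence.mk I A (fun k => Y k i) (fun n => by
      rw [SModEq.sub_mem, mem_smul_top_self]
      have := hYstep n i
      rw [Pi.sub_apply] at this
      have h2 : Y n i - Y (n + 1) i = -(Y (n + 1) i - Y n i) := by ring
      rw [h2]
      exact (Ideal.neg_mem_iff _).mpr (Ideal.pow_le_pow_right (Nat.le_succ n) this))
  let a : Fin r → AdicCompletion I A := fun i => AdicCompletion.mk I A (c i)
  have hkillL : ∀ (n : ℕ) (b : AdicCompletion I A),
      b ∈ I ^ (n + 1) • (⊤ : Submodule A (AdicCompletion I A)) → ∀ ℓ : L, π n (b • ℓ) = 0 := by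
    intro n b hb ℓ
    refine Submodule.smul_induction_on hb (fun j hj c _ => ?_) (fun b1 b2 h1 h2 => ?_)
    · rw [smul_assoc, map_smul]
      have : j • π n (c • ℓ) ∈ I ^ (n + 1) • (⊤ : Submodule A (M n)) :=
        Submodule.smul_mem_smul hj Submodule.mem_top
      rw [hkill n] at this
      exact this
    · rw [add_smul, map_add, h1, h2, add_zero]
  have hai : ∀ n i, π n (a i • t i) = π n (Y (n + 1) i • t i) := by
    intro n i
    have hb : a i - algebraMap A (AdicCompletion I A) (Y (n + 1) i) ∈
        I ^ (n + 1) • (⊤ : Submodule A (AdicCompletion I A)) := by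
      rw [AdicCompletion.pow_smul_top_eq_ker_eval hI, LinearMap.mem_ker, map_sub,
        AdicCompletion.algebraMap_apply, AdicCompletion.eval_of, AdicCompletion.eval_apply]
      simp [a, c]
    have h1 := hkillL n _ hb (t i)
    rw [sub_smul, map_sub, sub_eq_zero, algebraMap_smul] at h1
    exact h1
  have hx : x = ∑ i, a i • t i := by
    symm
    apply sub_eq_zero.mp
    apply hinj
    intro n
    rw [map_sub, map_sum, sub_eq_zero]
    simp_rw [hai n]
    rw [← map_sum, ← uMap_apply]
    have := hYprop (n + 1)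
    rw [← hπ n, LinearMap.comp_apply, LinearMap.comp_apply, this]
  rw [hx]
  exact Submodule.sum_mem _ fun i _ => Submodule.smul_mem _ _ (Submodule.subset_span (by simp))

end aux

/-- Let A be a commutative ring, I a finitely generated ideal and (M_n) an inverse system of finitely
generated A-modules whose transition maps f_n : M_(n+1) → M_n are surjective with kernel I^(n+1)
M_(n+1), and with I^(n+1) M_n = 0 for all n. If L is an inverse limit of the system (projections π_n
compatible with the f_n, jointly injective, every compatible family lifting to L), endowed with a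
module structure over the I-adic completion A^ of A that is compatible with its A-module structure,
then L is finitely generated as an A^-module. No completeness of A is assumed. -/
theorem result
    (A : Type u) [CommRing A] (I : Ideal A) (hI : I.FG)
    (M : ℕ → Type v) [∀ n, AddCommGroup (M n)] [∀ n, Module A (M n)] [∀ n, Module.Finite A (M n)]
    (f : ∀ n, M (n + 1) →ₗ[A] M n) (hf : ∀ n, Function.Surjective (f n))
    (hker : ∀ n, LinearMap.ker (f n) = I ^ (n + 1) • (⊤ : Submodule A (M (n + 1))))
    (hkill : ∀ n, I ^ (n + 1) • (⊤ : Submodule A (M n)) = ⊥)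
    (L : Type v) [AddCommGroup L] [Module A L] (π : ∀ n, L →ₗ[A] M n)
    (hπ : ∀ n, f n ∘ₗ π (n + 1) = π n)
    (hinj : ∀ x : L, (∀ n, π n x = 0) → x = 0)
    (hlift : ∀ y : (∀ n, M n), (∀ n, f n (y (n + 1)) = y n) → ∃ x : L, ∀ n, π n x = y n)
    [Module (AdicCompletion I A) L] [IsScalarTower A (AdicCompletion I A) L] :
    Module.Finite (AdicCompletion I A) L := by
  exact main A I hI M f hf hker hkill L π hπ hinj hlift

end Groth.Agent.S13622
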