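import Groth.Statements.S13628
import Mathlib.AlgebraicGeometry.ResidueField
import Mathlib.AlgebraicGeometry.PullbackCarrier
import Mathlib.FieldTheory.IsAlgClosed.AlgebraicClosure
-- import your own Groth.Agent.* helpers here

set_option autoImplicit false
universe u
open CategoryTheory CategoryTheory.Limits AlgebraicGeometry Opposite
open FBase

namespace Groth.Agent.S13628

/-- Let P be a property of schemes over fields, invariant under isomorphisms of schemes over the base
field and invariant in both directions under every field extension k → K (Z over k has P if and only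
if Z ×_k Spec K over K has P). Let f : X → T be a morphism of schemes, h : T' → T a surjective
morphism of schemes and f' : X' → T' a base change of f along h. If for every algebraically closed
field k and every Spec k → T' the fibre X' ×_{T'} Spec k has P, then for every algebraically closed
field k and every Spec k → T the fibre X ×_T Spec k has P. (Fields are taken in the universe of the
schemes. The published statement is that families of del Pezzo surfaces form a stack for the étale
topology; this row is the step of its proof that descends the condition on geometric fibres along a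
surjective base change, stated for any fibre property with the invariance above.) -/
theorem result
    (P : ∀ (k : Type u) [Field k] (Z : Scheme.{u}), (Z ⟶ Spec (CommRingCat.of k)) → Prop)
    (hiso : ∀ (k : Type u) [Field k] (Z Z' : Scheme.{u}) (e : Z ≅ Z') (g : Z' ⟶ Spec (CommRingCat.of k)),
      P k Z' g → P k Z (e.hom ≫ g))
    (hext : ∀ (k K : Type u) [Field k] [Field K] (i : k →+* K) (Z : Scheme.{u}) (g : Z ⟶ Spec (CommRingCat.of k)),
      P k Z g ↔ P K (pullback g (Spec.map (CommRingCat.ofHom i))) (pullback.snd g (Spec.map (CommRingCat.ofHom i))))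
    {X T X' T' : Scheme.{u}} (f : X ⟶ T) (h : T' ⟶ T) [Surjective h] (f' : X' ⟶ T') (h' : X' ⟶ X)
    (sq : IsPullback h' f' f h)
    (H : ∀ (k : Type u) [Field k] [IsAlgClosed k] (σ' : Spec (CommRingCat.of k) ⟶ T'),
        P k (pullback f' σ') (pullback.snd f' σ'))
    (k : Type u) [Field k] [IsAlgClosed k] (σ : Spec (CommRingCat.of k) ⟶ T) :
    P k (pullback f σ) (pullback.snd f σ) := by
  have hsurj : Surjective (pullback.fst σ h) := inferInstance
  have hne : Nonempty (Spec (CommRingCat.of k)) := inferInstance
  obtain ⟨x0⟩ := hne
  obtain ⟨z, -⟩ := (pullback.fst σ h).surjective x0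
  let ζ : Spec (CommRingCat.of (AlgebraicClosure ↥((pullback σ h).residueField z))) ⟶ pullback σ h :=
    Spec.map (CommRingCat.ofHom (algebraMap ↥((pullback σ h).residueField z)
      (AlgebraicClosure ↥((pullback σ h).residueField z)))) ≫
      (pullback σ h).fromSpecResidueField z
  let a : k →+* AlgebraicClosure ↥((pullback σ h).residueField z) :=
    (Spec.preimage (ζ ≫ pullback.fst σ h)).hom
  have ha : Spec.map (CommRingCat.ofHom a) = ζ ≫ pullback.fst σ h := Spec.map_preimage _
  have hcomp : (ζ ≫ pullback.snd σ h) ≫ h = Spec.map (CommRingCat.ofHom a) ≫ σ := by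
    rw [ha, Category.assoc, Category.assoc, ← pullback.condition]
    simp only [ζ, Category.assoc]
  have key : ∀ τ τ' : Spec (CommRingCat.of (AlgebraicClosure ↥((pullback σ h).residueField z))) ⟶ T,
      τ = τ' → P _ (pullback f τ) (pullback.snd f τ) → P _ (pullback f τ') (pullback.snd f τ') := by
    intro τ τ' h1 h2
    subst h1
    exact h2
  have h1 := H (AlgebraicClosure ↥((pullback σ h).residueField z)) (ζ ≫ pullback.snd σ h)
  have hpb : IsPullback (pullback.fst f' (ζ ≫ pullback.snd σ h) ≫ h')
      (pullback.snd f' (ζ ≫ pullback.snd σ h)) f ((ζ ≫ pullback.snd σ h) ≫ h) :=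
    (IsPullback.of_hasPullback f' (ζ ≫ pullback.snd σ h)).paste_horiz sq
  have h2 := hiso _ _ _ hpb.isoPullback.symm _ h1
  have h2' : P _ (pullback f ((ζ ≫ pullback.snd σ h) ≫ h))
      (pullback.snd f ((ζ ≫ pullback.snd σ h) ≫ h)) := by
    have : hpb.isoPullback.symm.hom ≫ pullback.snd f' (ζ ≫ pullback.snd σ h) =
        pullback.snd f ((ζ ≫ pullback.snd σ h) ≫ h) := by
      simp
    rwa [this] at h2
  have h3 := key _ _ hcomp h2'
  have h4 := hiso _ _ _ (pullbackLeftPullbackSndIso f σ (Spec.map (CommRingCat.ofHom a))) _ h3
  have h4' : P _ (pullback (pullback.snd f σ) (Spec.map (CommRingCat.ofHom a)))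
      (pullback.snd (pullback.snd f σ) (Spec.map (CommRingCat.ofHom a))) := by
    simpa using h4
  exact (hext k _ a _ _).mpr h4'

end Groth.Agent.S13628
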