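import Groth.Statements.S13631
import Mathlib
-- import your own Groth.Agent.* helpers here

set_option autoImplicit false
universe u v w
open CAlg

namespace Groth.Agent.S13631

/-- Let k be a field, R an integral domain which is a k-algebra of infinite dimension over k, M a finite
free R-module, σ a ring automorphism of R mapping the image of k onto itself, and φ : M → M a
σ-semilinear map. If the cokernel of φ is finite-dimensional over k, in the sense that some finitely
generated k-subspace N of M satisfies M = N + φ(M), then φ is injective. -/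
theorem result
    {k : Type u} {R : Type v} {M : Type w} [Field k] [CommRing R] [IsDomain R] [Algebra k R]
    (hR : ¬ Module.Finite k R)
    [AddCommGroup M] [Module R M] [Module k M] [IsScalarTower k R M]
    [Module.Finite R M] [Module.Free R M]
    (σ : R ≃+* R)
    (hσ : ∀ x : k, ∃ y : k, σ (algebraMap k R x) = algebraMap k R y)
    (hσ' : ∀ y : k, ∃ x : k, σ (algebraMap k R x) = algebraMap k R y)
    (φ : M →ₛₗ[(σ : R →+* R)] M)
    (hcoker : ∃ N : Submodule k M, N.FG ∧ ∀ m : M, ∃ n ∈ N, ∃ m' : M, m = n + φ m') :
    Function.Injective φ := by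
  classical
  rw [injective_iff_map_eq_zero]
  intro x hx
  by_contra hx0
  let e := Module.finBasis R M
  set n := Module.finrank R M
  let A : Matrix (Fin n) (Fin n) R := fun i j => e.repr (φ (e j)) i
  have hrepr : ∀ (m : M) (i : Fin n), e.repr (φ m) i = ∑ j, A i j * σ (e.repr m j) := by
    intro m i
    have hm : φ m = ∑ j, σ (e.repr m j) • φ (e j) := by
      conv_lhs => rw [← e.sum_repr m]
      rw [map_sum]
      refine Finset.sum_congr rfl fun j _ => ?_
      rw [map_smulₛₗ]
      rfl
    rw [hm, map_sum, Finsupp.finset_sum_apply]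
    refine Finset.sum_congr rfl fun j _ => ?_
    rw [map_smul, Finsupp.smul_apply, smul_eq_mul, mul_comm]
  -- det A = 0
  have hdet : A.det = 0 := by
    rw [← Matrix.exists_mulVec_eq_zero_iff]
    refine ⟨fun j => σ (e.repr x j), ?_, ?_⟩
    · intro h0
      apply hx0
      apply e.repr.injective
      ext j
      have := congrFun h0 j
      simp only [Pi.zero_apply] at this
      rw [map_zero, Finsupp.zero_apply]
      exact (map_eq_zero_iff σ σ.injective).mp this
    · funext i
      rw [Matrix.mulVec, dotProduct, ← hrepr, hx, map_zero]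
      rfl
  obtain ⟨w, hw0, hwA⟩ := Matrix.exists_vecMul_eq_zero_iff.mpr hdet
  -- the functional
  let ℓ : M →ₗ[R] R := ∑ i, w i • e.coord i
  have hℓ : ∀ m, ℓ m = ∑ i, w i * e.repr m i := by
    intro m
    simp only [ℓ, LinearMap.sum_apply, LinearMap.smul_apply, Module.Basis.coord_apply, smul_eq_mul]
  have hℓφ : ∀ m, ℓ (φ m) = 0 := by
    intro m
    rw [hℓ]
    simp only [hrepr, Finset.mul_sum]
    rw [Finset.sum_comm]
    refine Finset.sum_eq_zero fun j _ => ?_
    have h1 : ∑ i, w i * (A i j * σ (e.repr m j)) = (∑ i, w i * A i j) * σ (e.repr m j) := by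
      rw [Finset.sum_mul]
      exact Finset.sum_congr rfl fun i _ => (mul_assoc _ _ _).symm
    have h2 : ∑ i, w i * A i j = 0 := by
      have := congrFun hwA j
      simpa [Matrix.vecMul, dotProduct] using this
    rw [h1, h2, zero_mul]
  obtain ⟨i₀, hi₀⟩ : ∃ i, w i ≠ 0 := by
    by_contra hall
    push Not at hall
    exact hw0 (funext hall)
  have hℓe : ℓ (e i₀) = w i₀ := by
    rw [hℓ]
    simp [Module.Basis.repr_self, Finsupp.single_apply]
  obtain ⟨N, hNfg, hN⟩ := hcoker
  let ℓk : M →ₗ[k] R := ℓ.restrictScalars k
  let P : Submodule k R := N.map ℓk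
  have hPfg : P.FG := hNfg.map ℓk
  have hrange : ∀ m, ℓ m ∈ P := by
    intro m
    obtain ⟨n', hn', m', rfl⟩ := hN m
    rw [map_add, hℓφ, add_zero]
    exact ⟨n', hn', rfl⟩
  let ρ : R →ₗ[k] P :=
    { toFun := fun a => ⟨ℓ (a • e i₀), hrange _⟩
      map_add' := fun a b => Subtype.ext (by simp [add_smul])
      map_smul' := fun c a => Subtype.ext (by
        show ℓ ((c • a) • e i₀) = c • ℓ (a • e i₀)
        rw [smul_assoc, ← LinearMap.restrictScalars_apply k ℓ, map_smul]
        rfl) }
  have hρinj : Function.Injective ρ := by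
    rw [injective_iff_map_eq_zero]
    intro a ha
    have h1 : ℓ (a • e i₀) = 0 := congrArg Subtype.val ha
    rw [map_smul, hℓe, smul_eq_mul] at h1
    rcases mul_eq_zero.mp h1 with h | h
    · exact h
    · exact absurd h hi₀
  haveI : Module.Finite k P := Module.Finite.of_fg hPfg
  exact hR (Module.Finite.of_injective ρ hρinj)

end Groth.Agent.S13631
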