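import Groth.Statements.S13665


set_option autoImplicit false
universe u
open GrRing

namespace Groth.Agent.S13665

open DirectSum

section
variable {R A : Type u} [CommRing R] [CommRing A] [Algebra R A]
  (𝒜 : ℤ → Submodule R A) [GradedAlgebra 𝒜]

/-- homogeneous element of an ideal generated by homogeneous elements: homogeneous coefficients -/
lemma key (X : Finset A) (e : A → ℤ) (he : ∀ x ∈ X, x ∈ 𝒜 (e x)) (z : A)
    (hz : z ∈ Ideal.span (X : Set A)) (n : ℤ) (hzn : z ∈ 𝒜 n) :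
    ∃ c : A → A, (∀ x, c x ∈ 𝒜 (n - e x)) ∧ z = ∑ x ∈ X, c x * x := by
  obtain ⟨f, -, hf⟩ := Submodule.mem_span_finset.mp hz
  refine ⟨fun x => (decompose 𝒜 (f x) (n - e x) : A), fun x => SetLike.coe_mem _, ?_⟩
  have h1 : z = (decompose 𝒜 z n : A) := (decompose_of_mem_same 𝒜 hzn).symm
  rw [h1, ← hf, decompose_sum, DFinsupp.finsetSum_apply, AddSubmonoidClass.coe_finsetSum]
  refine Finset.sum_congr rfl fun x hx => ?_
  have h2 : n = (n - e x) + e x := by ring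
  rw [smul_eq_mul]
  conv_lhs => rw [h2]
  exact coe_decompose_mul_add_of_right_mem 𝒜 (he x hx)

end

section
variable {R A : Type u} [CommRing R] [CommRing A] [Algebra R A]
  (𝒜 : ℤ → Submodule R A) [GradedAlgebra 𝒜]
  (hfg : ∀ I : Ideal A, I.IsHomogeneous 𝒜 → I.FG)
include hfg

lemma exists_finset_span (S : Set A) (hS : ∀ x ∈ S, SetLike.IsHomogeneousElem 𝒜 x) :
    ∃ X : Finset A, (X : Set A) ⊆ S ∧ Ideal.span S = Ideal.span (X : Set A) :=
  (Submodule.fg_span_iff_fg_span_finset_subset S).mp (hfg _ (Ideal.homogeneous_span 𝒜 S hS))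

lemma piece_fg (n : ℤ) : ∃ G : Finset A, (G : Set A) ⊆ 𝒜 n ∧
    ∀ z ∈ 𝒜 n, ∃ c : A → A, (∀ x, c x ∈ 𝒜 0) ∧ z = ∑ x ∈ G, c x * x := by
  obtain ⟨G, hG, hspan⟩ := exists_finset_span 𝒜 hfg (𝒜 n : Set A) (fun x hx => ⟨n, hx⟩)
  refine ⟨G, hG, fun z hz => ?_⟩
  have hz' : z ∈ Ideal.span (G : Set A) := hspan ▸ Ideal.subset_span hz
  obtain ⟨c, hc, hsum⟩ := key 𝒜 G (fun _ => n) (fun x hx => hG hx) z hz' n hz
  exact ⟨c, fun x => by simpa using hc x, hsum⟩

lemma noeth0 : IsNoetherianRing (𝒜 0) := by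
  classical
  rw [isNoetherianRing_iff_ideal_fg]
  intro I₀
  obtain ⟨X, hX, hspan⟩ := exists_finset_span 𝒜 hfg ((fun a : 𝒜 0 => (a : A)) '' (I₀ : Set (𝒜 0)))
    (by rintro _ ⟨a, -, rfl⟩; exact ⟨0, a.2⟩)
  obtain ⟨X', hX', rfl⟩ := Finset.subset_set_image_iff.mp hX
  refine ⟨X', le_antisymm (Submodule.span_le.mpr hX') ?_⟩
  intro b hb
  have hb' : (b : A) ∈ Ideal.span ((X'.image fun a : 𝒜 0 => (a : A) : Finset A) : Set A) :=
    hspan ▸ Ideal.subset_span ⟨b, hb, rfl⟩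
  obtain ⟨c, hc, hsum⟩ := key 𝒜 _ (fun _ => 0)
    (by intro x hx; obtain ⟨a, -, rfl⟩ := Finset.mem_image.mp hx; exact a.2) (b : A) hb' 0 b.2
  rw [Finset.sum_image (fun a _ a' _ h => Subtype.ext h)] at hsum
  have hb2 : b = ∑ x ∈ X', (⟨c x, by simpa using hc x⟩ : 𝒜 0) * x := by
    apply Subtype.ext
    rw [hsum, AddSubmonoidClass.coe_finsetSum]
    rfl
  rw [hb2]
  refine Submodule.sum_mem _ fun x hx => ?_
  exact Submodule.smul_mem _ _ (Submodule.subset_span hx)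

lemma adjoin_fg (ε : ℤ) :
    (Algebra.adjoin (𝒜 0) {a : A | ∃ n : ℕ, a ∈ 𝒜 (ε * n)}).FG := by
  classical
  obtain ⟨X, hX, hspan⟩ := exists_finset_span 𝒜 hfg {a : A | ∃ n : ℕ, 0 < n ∧ a ∈ 𝒜 (ε * n)}
    (by rintro x ⟨n, -, hx⟩; exact ⟨_, hx⟩)
  have hm : ∀ x : A, ∃ n : ℕ, x ∈ X → 0 < n ∧ x ∈ 𝒜 (ε * n) := by
    intro x
    by_cases hx : x ∈ X
    · obtain ⟨n, hn, hxn⟩ := hX hx
      exact ⟨n, fun _ => ⟨hn, hxn⟩⟩
    · exact ⟨0, fun h => absurd h hx⟩
  choose m hm using hm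
  obtain ⟨d, hd⟩ : ∃ d : ℕ, ∀ x ∈ X, m x ≤ d := ⟨X.sup m, fun x hx => Finset.le_sup hx⟩
  choose G hG hGspan using fun n : ℕ => piece_fg 𝒜 hfg (ε * n)
  set T : Finset A := (Finset.range (d + 1)).biUnion G with hT
  have hTsub : (T : Set A) ⊆ {a : A | ∃ n : ℕ, a ∈ 𝒜 (ε * n)} := by
    intro a ha
    rw [hT, Finset.coe_biUnion] at ha
    obtain ⟨n, -, han⟩ := Set.mem_iUnion₂.mp ha
    exact ⟨n, hG n han⟩
  have hsmall : ∀ n : ℕ, n ≤ d → ∀ z ∈ 𝒜 (ε * n), z ∈ Algebra.adjoin (𝒜 0) (T : Set A) := by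
    intro n hn z hz
    obtain ⟨c, hc, rfl⟩ := hGspan n z hz
    refine Subalgebra.sum_mem _ fun x hx => ?_
    have hxT : x ∈ (T : Set A) := by
      rw [hT, Finset.coe_biUnion]
      exact Set.mem_iUnion₂.mpr ⟨n, Finset.mem_coe.mpr (Finset.mem_range.mpr (by omega)), hx⟩
    have : c x * x = (⟨c x, hc x⟩ : 𝒜 0) • x := rfl
    rw [this]
    exact Subalgebra.smul_mem _ (Algebra.subset_adjoin hxT) _
  have hall : ∀ n : ℕ, ∀ z ∈ 𝒜 (ε * n), z ∈ Algebra.adjoin (𝒜 0) (T : Set A) := by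
    intro n
    induction n using Nat.strong_induction_on with
    | _ n ih =>
      intro z hz
      by_cases hnd : n ≤ d
      · exact hsmall n hnd z hz
      · have hzS : z ∈ Ideal.span (X : Set A) :=
          hspan ▸ Ideal.subset_span ⟨n, by omega, hz⟩
        obtain ⟨c, hc, rfl⟩ := key 𝒜 X (fun x => ε * m x) (fun x hx => (hm x hx).2) z hzS _ hz
        refine Subalgebra.sum_mem _ fun x hx => ?_
        have hmx := hm x hx
        have hmd := hd x hx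
        refine Subalgebra.mul_mem _ ?_ (hsmall (m x) hmd x hmx.2)
        have h1 : ε * (n : ℤ) - ε * (m x : ℤ) = ε * ((n - m x : ℕ) : ℤ) := by
          rw [Nat.cast_sub (by omega)]
          ring
        have h2 := hc x
        rw [h1] at h2
        exact ih (n - m x) (by omega) _ h2
  refine ⟨T, le_antisymm (Algebra.adjoin_mono hTsub) (Algebra.adjoin_le ?_)⟩
  rintro a ⟨n, ha⟩
  exact hall n a ha

end


/-- For a commutative ring A graded by the integers, with degree-zero subring A_0, the following are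
equivalent: A is Noetherian; each homogeneous ideal of A has a finite generating set; A_0 is
Noetherian and the subalgebras A_{≥0}, A_{≤0} are each of finite type over A_0; A_0 is Noetherian
and A is an A_0-algebra of finite type. -/
theorem result {R A : Type u} [CommRing R] [CommRing A] [Algebra R A]
    (𝒜 : ℤ → Submodule R A) [GradedAlgebra 𝒜] :
    [IsNoetherianRing A,
     ∀ I : Ideal A, I.IsHomogeneous 𝒜 → I.FG,
     IsNoetherianRing (𝒜 0) ∧ (Algebra.adjoin (𝒜 0) {a : A | ∃ n : ℤ, 0 ≤ n ∧ a ∈ 𝒜 n}).FG ∧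
       (Algebra.adjoin (𝒜 0) {a : A | ∃ n : ℤ, n ≤ 0 ∧ a ∈ 𝒜 n}).FG,
     IsNoetherianRing (𝒜 0) ∧ Algebra.FiniteType (𝒜 0) A].TFAE := by
  classical
  tfae_have 1 → 2 := by
    intro h I _
    exact (isNoetherianRing_iff_ideal_fg A).mp h I
  tfae_have 2 → 3 := by
    intro hfg
    refine ⟨noeth0 𝒜 hfg, ?_, ?_⟩
    · have : {a : A | ∃ n : ℤ, 0 ≤ n ∧ a ∈ 𝒜 n} = {a : A | ∃ n : ℕ, a ∈ 𝒜 (1 * n)} := by
        ext a
        constructor
        · rintro ⟨n, hn, ha⟩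
          refine ⟨n.toNat, ?_⟩
          rwa [one_mul, Int.toNat_of_nonneg hn]
        · rintro ⟨n, ha⟩
          exact ⟨n, by omega, by simpa using ha⟩
      rw [this]
      exact adjoin_fg 𝒜 hfg 1
    · have : {a : A | ∃ n : ℤ, n ≤ 0 ∧ a ∈ 𝒜 n} = {a : A | ∃ n : ℕ, a ∈ 𝒜 (-1 * n)} := by
        ext a
        constructor
        · rintro ⟨n, hn, ha⟩
          refine ⟨(-n).toNat, ?_⟩
          rwa [Int.toNat_of_nonneg (by omega), neg_one_mul, neg_neg]
        · rintro ⟨n, ha⟩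
          exact ⟨-n, by omega, by simpa using ha⟩
      rw [this]
      exact adjoin_fg 𝒜 hfg (-1)
  tfae_have 3 → 4 := by
    rintro ⟨h0, hp, hn⟩
    refine ⟨h0, ⟨?_⟩⟩
    have hsup := hp.sup hn
    convert hsup
    symm
    rw [eq_top_iff]
    intro a _
    rw [← DirectSum.sum_support_decompose 𝒜 a]
    refine Subalgebra.sum_mem _ fun i _ => ?_
    rcases le_total 0 i with hi | hi
    · exact (SetLike.le_def.mp le_sup_left) (Algebra.subset_adjoin ⟨i, hi, SetLike.coe_mem _⟩)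
    · exact (SetLike.le_def.mp le_sup_right) (Algebra.subset_adjoin ⟨i, hi, SetLike.coe_mem _⟩)
  tfae_have 4 → 1 := by
    rintro ⟨h0, hft⟩
    exact Algebra.FiniteType.isNoetherianRing (𝒜 0) A
  tfae_finish

end Groth.Agent.S13665
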