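import Groth.Statements.S13686
import Mathlib
-- import your own Groth.Agent.* helpers here

set_option autoImplicit false
set_option linter.unusedSectionVars false
set_option linter.style.haveILetI false
set_option linter.unusedVariables false
universe u v
open Disp

namespace Groth.Agent.S13686

open Module Set

section general
variable {A : Type*} [CommRing A] {N : Type*} [AddCommGroup N] [Module A N]
  {κ : Type*} [Fintype κ] [DecidableEq κ] (B : Basis κ A N) (S : Set κ) (I : Ideal A)

/-- span of the basis vectors outside `S` -/
def Lsub : Submodule A N := Submodule.span A (B '' Sᶜ)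
/-- span of the basis vectors in `S` -/
def Tsub : Submodule A N := Submodule.span A (B '' S)

lemma isCompl_LT : IsCompl (Lsub B S) (Tsub B S) := by
  constructor
  · exact B.linearIndependent.disjoint_span_image (disjoint_compl_left)
  · rw [codisjoint_iff, Lsub, Tsub, ← Submodule.span_union, ← Set.image_union,
      Set.compl_union_self, Set.image_univ, B.span_eq]

lemma mem_sup_of_repr (x : N) (h : ∀ s ∈ S, B.repr x s ∈ I) :
    x ∈ Lsub B S ⊔ I • Tsub B S := by
  classical
  rw [← B.sum_repr x]
  refine Submodule.sum_mem _ fun s _ => ?_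
  by_cases hs : s ∈ S
  · exact Submodule.mem_sup_right
      (Submodule.smul_mem_smul (h s hs) (Submodule.subset_span ⟨s, hs, rfl⟩))
  · exact Submodule.mem_sup_left
      (Submodule.smul_mem _ _ (Submodule.subset_span ⟨s, hs, rfl⟩))

lemma free_Tsub : Module.Free A (Tsub B S) := by
  have li : LinearIndependent A (fun s : S => B s) :=
    B.linearIndependent.comp _ Subtype.val_injective
  have e : Tsub B S = Submodule.span A (Set.range (fun s : S => B s)) := by
    rw [Tsub, Set.image_eq_range]
  rw [e]
  exact Module.Free.of_basis (Basis.span li)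

lemma finrank_Tsub [Nontrivial A] : Module.finrank A (Tsub B S) = Nat.card S := by
  have li : LinearIndependent A (fun s : S => B s) :=
    B.linearIndependent.comp _ Subtype.val_injective
  have e : Tsub B S = Submodule.span A (Set.range (fun s : S => B s)) := by
    rw [Tsub, Set.image_eq_range]
  rw [e]
  exact Module.finrank_eq_nat_card_basis (Basis.span li)

lemma det_mem_of_col {n : ℕ} (M : Matrix (Fin n) (Fin n) A) (k : Fin n)
    (h : ∀ i, M i k ∈ I) : M.det ∈ I := by
  rw [Matrix.det_apply]
  refine Ideal.sum_mem _ fun σ _ => ?_
  have : ∏ i, M (σ i) i ∈ I := by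
    rw [← Finset.mul_prod_erase Finset.univ _ (Finset.mem_univ k)]
    exact Ideal.mul_mem_right _ _ (h _)
  rcases Int.units_eq_one_or (Equiv.Perm.sign σ) with h1 | h1 <;> rw [h1]
  · simpa using this
  · simpa using this

end general


section main
variable {A : Type*} [CommRing A] {P : Type*} [AddCommGroup P] [Module A P]
  {ι : Type*} [LinearOrder ι] [Fintype ι] (b : Basis ι A P) (z : ι)
  (L Tm Q : Submodule A P) (I : Ideal A) (r : ℕ)

open Set.powersetCard exteriorPower

/-- the set of `r`-subsets containing `z` -/
def SS : Set (Set.powersetCard ι r) := {s | z ∈ s}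

lemma exists_idx (s : Set.powersetCard ι r) (hs : z ∈ s) :
    ∃ k : Fin r, ofFinEmbEquiv.symm s k = z := by
  have := (mem_range_ofFinEmbEquiv_symm_iff_mem s z).2 hs
  exact this

lemma idx_mem (s : Set.powersetCard ι r) (k : Fin r) : ofFinEmbEquiv.symm s k ∈ s :=
  (mem_range_ofFinEmbEquiv_symm_iff_mem s _).1 ⟨k, rfl⟩

theorem main_aux (hbz : b z ∈ Tm) (hbL : ∀ i, i ≠ z → b i ∈ L)
    (hrepr : ∀ x ∈ L, b.repr x z = 0) (hQ : Q = L ⊔ I • Tm)
    (EQ : Submodule A (⋀[A]^r P))
    (hEQ : EQ = Submodule.span A
      (Set.range fun q : Fin r → Q => exteriorPower.ιMulti A r (fun i => (q i : P)))) :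
    EQ = Lsub (b.exteriorPower r) (SS z r) ⊔ I • Tsub (b.exteriorPower r) (SS z r) := by
  classical
  have hLQ : L ≤ Q := hQ ▸ le_sup_left
  have hITQ : I • Tm ≤ Q := hQ ▸ le_sup_right
  -- the coordinate `z` of an element of `Q` lies in `I`
  have hcoordQ : ∀ x ∈ Q, b.repr x z ∈ I := by
    intro x hx
    rw [hQ] at hx
    obtain ⟨l, hl, t, ht, rfl⟩ := Submodule.mem_sup.1 hx
    rw [map_add, Finsupp.add_apply, hrepr l hl, zero_add]
    refine Submodule.smul_induction_on ht ?_ ?_
    · intro a ha y _
      rw [map_smul, Finsupp.smul_apply, smul_eq_mul]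
      exact Ideal.mul_mem_right _ _ ha
    · intro y y' hy hy'
      rw [map_add, Finsupp.add_apply]
      exact Ideal.add_mem _ hy hy'
  apply le_antisymm
  · rw [hEQ, Submodule.span_le]
    rintro _ ⟨q, rfl⟩
    apply mem_sup_of_repr
    intro s hs
    obtain ⟨k, hk⟩ := exists_idx z r s hs
    rw [basis_repr_apply, ιMultiDual_apply_ιMulti]
    apply det_mem_of_col I _ k
    intro i
    rw [Matrix.of_apply, hk, Basis.coord_apply]
    exact hcoordQ _ (q i).2
  · apply sup_le
    · rw [Lsub, Submodule.span_le]
      rintro _ ⟨s, hs, rfl⟩
      rw [hEQ]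
      apply Submodule.subset_span
      have hmem : ∀ i : Fin r, b (ofFinEmbEquiv.symm s i) ∈ Q := by
        intro i
        apply hLQ
        apply hbL
        intro h
        apply hs
        show z ∈ s
        rw [← h]
        exact idx_mem r s i
      refine ⟨fun i => ⟨b (ofFinEmbEquiv.symm s i), hmem i⟩, ?_⟩
      rw [basis_apply]
      rfl
    · rw [Submodule.smul_le]
      intro a ha x hx
      rw [Tsub] at hx
      induction hx using Submodule.span_induction with
      | mem x hx =>
        obtain ⟨s, hs, rfl⟩ := hx
        obtain ⟨k, hk⟩ := exists_idx z r s hs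
        rw [hEQ]
        apply Submodule.subset_span
        set v : Fin r → P := fun i => b (ofFinEmbEquiv.symm s i) with hv
        have hmem : ∀ i : Fin r, Function.update v k (a • v k) i ∈ Q := by
          intro i
          by_cases hik : i = k
          · subst hik
            rw [Function.update_self]
            apply hITQ
            apply Submodule.smul_mem_smul ha
            rw [hv]
            simp only
            rw [hk]
            exact hbz
          · rw [Function.update_of_ne hik]
            apply hLQ
            apply hbL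
            intro h
            apply hik
            apply (ofFinEmbEquiv.symm s).injective
            rw [h, hk]
        refine ⟨fun i => ⟨_, hmem i⟩, ?_⟩
        simp only
        rw [(ιMulti A r).map_update_smul, Function.update_eq_self, basis_apply]
        rfl
      | zero => rw [smul_zero]; exact Submodule.zero_mem _
      | add x y _ _ hx hy => rw [smul_add]; exact Submodule.add_mem _ hx hy
      | smul c x _ hx => rw [smul_comm]; exact Submodule.smul_mem _ _ hx

lemma card_SS (hr : 1 ≤ r) : Nat.card (SS z r) = (Fintype.card ι - 1).choose (r - 1) := by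
  classical
  have e : SS z r ≃ {u : Finset ι // u ∈ (Finset.univ.powersetCard r).filter ({z} ⊆ ·)} :=
    { toFun := fun s => ⟨s.1.1, by
        have h1 : s.1.1.card = r := s.1.2
        have h2 : z ∈ s.1.1 := s.2
        simp [h1, h2]⟩
      invFun := fun u => ⟨⟨u.1, by
        have := u.2
        simp only [Finset.mem_filter, Finset.mem_powersetCard] at this
        exact this.1.2⟩, by
        have := u.2
        simp only [Finset.mem_filter, Finset.mem_powersetCard, Finset.singleton_subset_iff] at this
        exact this.2⟩
      left_inv := fun s => rfl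
      right_inv := fun u => rfl }
  rw [Nat.card_congr e, Nat.card_eq_fintype_card, Fintype.card_coe,
    Finset.card_filter_powersetCard_subset _ _ _ (Finset.subset_univ _)
      (by simpa using hr)]
  simp

end main

section final
variable {A : Type*} [CommRing A] {P : Type*} [AddCommGroup P] [Module A P]

theorem exists_basis_adapted (m : ℕ) (L Tm : Submodule A P) (hLT : IsCompl L Tm)
    (bL : Basis (Fin m) A L) (eT : Tm ≃ₗ[A] A) :
    ∃ (b : Basis (Fin (m + 1)) A P) (z : Fin (m + 1)), b z ∈ Tm ∧ (∀ i, i ≠ z → b i ∈ L) ∧
      ∀ x ∈ L, b.repr x z = 0 := by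
  classical
  let bT : Basis (Fin 1) A Tm := (Basis.singleton (Fin 1) A).map eT.symm
  let φ : (L × Tm) ≃ₗ[A] P := L.prodEquivOfIsCompl Tm hLT
  let e : Fin m ⊕ Fin 1 ≃ Fin (m + 1) := finSumFinEquiv
  let b : Basis (Fin (m + 1)) A P := ((bL.prod bT).map φ).reindex e
  refine ⟨b, e (Sum.inr 0), ?_, ?_, ?_⟩
  · have : b (e (Sum.inr 0)) = (bT 0 : P) := by
      simp [b, φ, Basis.reindex_apply]
    rw [this]
    exact (bT 0).2
  · intro i hi
    obtain ⟨j, rfl⟩ := e.surjective i
    rcases j with j | j
    · have : b (e (Sum.inl j)) = (bL j : P) := by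
        simp [b, φ, Basis.reindex_apply]
      rw [this]
      exact (bL j).2
    · exfalso
      apply hi
      congr 2
      exact Subsingleton.elim _ _
  · intro x hx
    have h1 : φ.symm x = (⟨x, hx⟩, 0) :=
      Submodule.prodEquivOfIsCompl_symm_apply_left L Tm hLT ⟨x, hx⟩
    simp [b, h1]

end final

/-- Let p be a prime, R a nontrivial commutative ring, W its ring of p-typical Witt vectors and D = (P,
Q, F, V⁻¹) a 3n-display over R with a normal decomposition P = L ⊕ T, Q = L + I_R T in which L is
free of rank m and T is free of rank one over W (so P is free of rank m + 1, the height). For r ≥ 1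
let E be the 3n-display structure on ⋀^r P whose distinguished submodule is spanned by the wedges of
elements of Q and whose V⁻¹ acts factorwise on them. Then E admits a normal decomposition ⋀^r P = L'
⊕ T', with distinguished submodule L' + I_R T', in which T' is free of rank (m choose r−1) over W:
with h = m + 1 the height, the tangent module of the exterior power has rank (h−1 choose r−1). (The
published statement has T projective of rank one and P of height h; this row takes L and T free, R
nontrivial and r ≥ 1.) -/
theorem result (p : ℕ) [Fact p.Prime] (R : Type u) [CommRing R] [Nontrivial R]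
    (P : Type v) [AddCommGroup P] [Module (WittVector p R) P] (D : W4c1extbt610.Display3n p R P) (m : ℕ)
    (L T : Submodule (WittVector p R) P) (hLT : IsCompl L T) (hQ : D.Q = L ⊔ W4c1extbt610.IV p R • T)
    (hL : Module.Free (WittVector p R) L) (hLr : Module.finrank (WittVector p R) L = m)
    (hT : Nonempty (T ≃ₗ[WittVector p R] WittVector p R))
    (r : ℕ) (hr : 1 ≤ r) (E : W4c1extbt610.Display3n p R (⋀[WittVector p R]^r P)) (hE : W4c1extbt610.IsExtPow D r E) :
    ∃ L' T' : Submodule (WittVector p R) (⋀[WittVector p R]^r P), IsCompl L' T' ∧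
      E.Q = L' ⊔ W4c1extbt610.IV p R • T' ∧ Module.Free (WittVector p R) T' ∧
      Module.finrank (WittVector p R) T' = m.choose (r - 1) := by
  classical
  obtain ⟨eT⟩ := hT
  haveI : Module.Finite (WittVector p R) P := D.finite
  haveI : Module.Finite (WittVector p R) L := by
    have : Function.Surjective (L.projectionOnto T hLT) :=
      Submodule.projectionOnto_surjective hLT
    exact Module.Finite.of_surjective _ this
  let bL : Basis (Fin m) (WittVector p R) L := Module.finBasisOfFinrankEq _ _ hLr
  obtain ⟨b, z, hbz, hbL, hrepr⟩ := exists_basis_adapted m L T hLT bL eT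
  refine ⟨Lsub (b.exteriorPower r) (SS z r), Tsub (b.exteriorPower r) (SS z r),
    isCompl_LT _ _, ?_, free_Tsub _ _, ?_⟩
  · exact main_aux b z L T D.Q _ r hbz hbL hrepr hQ E.Q hE.1
  · rw [finrank_Tsub, card_SS z r hr]
    simp

end Groth.Agent.S13686
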