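import Groth.Statements.S13692
import Mathlib
import Groth.Agent.Lib.helper19.GalDescTwist
import Groth.Agent.Lib.Helper25.HomCount
-- import your own Groth.Agent.* helpers here

set_option autoImplicit false
set_option linter.unusedSectionVars false
set_option linter.style.haveILetI false
set_option linter.unusedVariables false
universe u v w
open scoped TensorProduct
attribute [local instance] CSAGal.tensorAction GpH1.unitsAction
open GalCoh

namespace Groth.Agent.S13692

open Groth.Agent.Lib.Helper25 Groth.Agent.Lib.helper19.Descent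

theorem isUnit_of_norm_ne_zero {K B : Type*} [Field K] [Ring B] [Algebra K B]
    [FiniteDimensional K B] (x : B) (hx : Algebra.norm K x ≠ 0) : IsUnit x := by
  have : IsArtinianRing B := IsArtinianRing.of_finite K B
  rw [Algebra.norm_apply] at hx
  let e := LinearMap.equivOfDetNeZero _ hx
  obtain ⟨y, hy⟩ := e.surjective 1
  refine IsUnit.of_mul_eq_one y ?_
  have : e y = x * y := rfl
  rw [← this, hy]

theorem exists_unit_of_span {k K B : Type*} [Field k] [Infinite k] [Field K] [Algebra k K]
    [Ring B] [Algebra K B] [FiniteDimensional K B] [Module k B] [IsScalarTower k K B]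
    (W : Submodule k B) {n : ℕ} (b : Fin n → B) (hb : ∀ i, b i ∈ W) (t₀ : Fin n → K)
    (h1 : ∑ i, t₀ i • b i = 1) : ∃ x ∈ W, IsUnit x := by
  classical
  let β := Module.finBasis K B
  let M : Fin n → Matrix _ _ K := fun i => Algebra.leftMulMatrix β (b i)
  let P : MvPolynomial (Fin n) K :=
    Matrix.det (∑ i, (MvPolynomial.X i : MvPolynomial (Fin n) K) • (M i).map MvPolynomial.C)
  have hP : ∀ t : Fin n → K, MvPolynomial.eval t P = Algebra.norm K (∑ i, t i • b i) := by
    intro t
    rw [Algebra.norm_eq_matrix_det β, RingHom.map_det, map_sum, map_sum]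
    congr 1
    refine Finset.sum_congr rfl fun i _ => ?_
    ext j l
    simp [M]
  have hP0 : P ≠ 0 := by
    intro h0
    have := hP t₀
    rw [h1, h0, map_zero, map_one] at this
    exact zero_ne_one this
  have : ∃ t : Fin n → k, MvPolynomial.eval (fun i => algebraMap k K (t i)) P ≠ 0 := by
    by_contra hcon
    push Not at hcon
    apply hP0
    refine MvPolynomial.funext_set (fun _ => Set.range (algebraMap k K))
      (fun _ => Set.infinite_range_of_injective (algebraMap k K).injective) ?_
    intro x hx
    rw [map_zero]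
    have : ∀ i, ∃ c : k, algebraMap k K c = x i := fun i => hx i (Set.mem_univ i)
    choose t ht using this
    have := hcon t
    simp_rw [ht] at this
    exact this
  obtain ⟨t, ht⟩ := this
  refine ⟨∑ i, t i • b i, W.sum_mem fun i _ => W.smul_mem _ (hb i), ?_⟩
  apply isUnit_of_norm_ne_zero (K := K)
  rw [hP] at ht
  convert ht using 3
  rw [algebraMap_smul]

theorem exists_mul_eq_one_of_finite {K : Type*} {A : Type*} {B : Type*} [Field K] [Ring A] [Ring B]
    [Finite B] [Algebra K B] [Module A B] [SMulCommClass A K B] [IsScalarTower A B B]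
    {n : ℕ} (hn : n ≠ 0) (e : Fin n → K) (W : Submodule A B)
    (hW : Function.Bijective (fun w : Fin n → W => ∑ i, e i • (w i : B)))
    (h1 : Function.Bijective (fun w : Fin n → A => ∑ i, e i • (w i • (1 : B)))) :
    ∃ w ∈ W, ∃ y : B, y * w = 1 := by
  classical
  let ΦW : (Fin n → W) ≃ₗ[A] B := LinearEquiv.ofBijective
    { toFun := fun w => ∑ i, e i • (w i : B)
      map_add' := fun w w' => by
        simp only [Pi.add_apply, Submodule.coe_add, smul_add, Finset.sum_add_distrib]
      map_smul' := fun a w => by
        simp only [Pi.smul_apply, Submodule.coe_smul, RingHom.id_apply, Finset.smul_sum]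
        refine Finset.sum_congr rfl fun i _ => ?_
        exact (smul_comm a (e i) _).symm } hW
  let Φ1 : (Fin n → A) ≃ₗ[A] B := LinearEquiv.ofBijective
    { toFun := fun w => ∑ i, e i • (w i • (1 : B))
      map_add' := fun w w' => by
        simp only [Pi.add_apply, add_smul, smul_add, Finset.sum_add_distrib]
      map_smul' := fun a w => by
        simp only [Pi.smul_apply, smul_eq_mul, mul_smul, RingHom.id_apply, Finset.smul_sum]
        refine Finset.sum_congr rfl fun i _ => ?_
        exact (smul_comm a (e i) _).symm } h1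
  let j : A →ₗ[A] B := LinearMap.toSpanSingleton A B 1
  have hj : Function.Injective j := by
    intro a a' h
    have h2 : (fun w : Fin n → A => ∑ i, e i • (w i • (1 : B))) (fun _ => a) =
        (fun w : Fin n → A => ∑ i, e i • (w i • (1 : B))) (fun _ => a') := by
      simp only
      refine Finset.sum_congr rfl fun i _ => ?_
      congr 1
    have h3 := h1.1 h2
    have := congr_fun h3 ⟨0, Nat.pos_of_ne_zero hn⟩
    exact this
  let W₁ : Submodule A B := LinearMap.range j
  let ε : A ≃ₗ[A] W₁ := LinearEquiv.ofInjective j hj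
  let E : (Fin n → W) ≃ₗ[A] (Fin n → W₁) :=
    (ΦW.trans Φ1.symm).trans (LinearEquiv.piCongrRight fun _ => ε)
  obtain ⟨f⟩ := HomCount.nonempty_linearEquiv_of_pi_equiv hn E
  let w : W := f.symm (ε 1)
  have hgen : ∀ x : W, ∃ a : A, x = a • w := by
    intro x
    refine ⟨ε.symm (f x), ?_⟩
    apply f.injective
    rw [map_smul, LinearEquiv.apply_symm_apply, ← map_smul, smul_eq_mul, mul_one,
      LinearEquiv.apply_symm_apply]
  obtain ⟨w', hw'⟩ := hW.2 1
  choose a ha using fun i => hgen (w' i)
  refine ⟨w, w.2, ∑ i, e i • (a i • (1 : B)), ?_⟩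
  have hw'' : ∑ i, e i • ((w' i : W) : B) = 1 := hw'
  rw [Finset.sum_mul]
  refine Eq.trans ?_ hw''
  refine Finset.sum_congr rfl fun i _ => ?_
  rw [ha i, Submodule.coe_smul, smul_mul_assoc, smul_mul_assoc, one_mul]

theorem sum_tmul_bijective {k K N : Type*} [CommRing k] [AddCommGroup K] [Module k K]
    [AddCommGroup N] [Module k N] {n : ℕ} (e : Module.Basis (Fin n) k K) :
    Function.Bijective (fun w : Fin n → N => ∑ i, e i ⊗ₜ[k] w i) := by
  classical
  have : (fun w : Fin n → N => ∑ i, e i ⊗ₜ[k] w i) =
      (TensorProduct.equivFinsuppOfBasisLeft e).symm ∘ (Finsupp.equivFunOnFinite.symm) := by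
    funext w
    simp [Finsupp.sum_fintype]
  rw [this]
  exact (LinearEquiv.bijective _).comp (Equiv.bijective _)

section main

variable (k : Type u) [Field k] (K : Type v) [Field K] [Algebra k K]
  (A : Type w) [Ring A] [Algebra k A]

theorem smul_smul_tensor (σ : K ≃ₐ[k] K) (c : K) (x : K ⊗[k] A) :
    σ • (c • x) = σ c • σ • x := by
  induction x using TensorProduct.induction_on with
  | zero => simp
  | tmul y a =>
    rw [TensorProduct.smul_tmul', TensorProduct.smul_tmul', TensorProduct.smul_tmul',
      TensorProduct.smul_tmul', smul_eq_mul, smul_eq_mul]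
    congr 1
    exact map_mul σ c y
  | add x y hx hy => rw [smul_add, smul_add, hx, hy, smul_add, smul_add]

/-- the twisted semilinear action -/
noncomputable def act (a : GpH1.OneCocycle (K ≃ₐ[k] K) (K ⊗[k] A)ˣ) : SemiAct k K (K ⊗[k] A) where
  ρ σ x := σ • x * ((a σ)⁻¹ : (K ⊗[k] A)ˣ)
  map_add' σ x y := by rw [smul_add, add_mul]
  map_smul' σ c x := by rw [smul_smul_tensor, smul_mul_assoc]
  one' x := by rw [one_smul, cocycle_one, inv_one, Units.val_one, mul_one]
  mul' σ τ x := by
    rw [a.2 σ τ, mul_smul, smul_mul', mul_inv_rev, Units.val_mul, ← mul_assoc, ← smul_inv']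
    rfl

section key
variable [FiniteDimensional k K] [IsGalois k K] [FiniteDimensional k A]

theorem key (a : GpH1.OneCocycle (K ≃ₐ[k] K) (K ⊗[k] A)ˣ) :
    ∃ c : (K ⊗[k] A)ˣ, ∀ σ, (act k K A a).ρ σ (c : K ⊗[k] A) = c := by
  classical
  let S := act k K A a
  let W : Submodule k (K ⊗[k] A) :=
    { carrier := {x | ∀ σ, S.ρ σ x = x}
      add_mem' := fun {x y} hx hy σ => by rw [S.map_add', hx σ, hy σ]
      zero_mem' := fun σ => S.map_zero σ
      smul_mem' := fun c x hx σ => by
        rw [← algebraMap_smul K c x, S.map_smul', AlgEquiv.commutes, hx σ] }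
  have hdesc := descent_bijective S W.subtype Subtype.val_injective (fun x => by
    rw [Submodule.range_subtype]; rfl)
  suffices h : ∃ x ∈ W, IsUnit x by
    obtain ⟨x, hx, hu⟩ := h
    exact ⟨hu.unit, fun σ => hx σ⟩
  cases finite_or_infinite k with
  | inr hinf =>
    haveI := hinf
    let b := Module.finBasis k W
    obtain ⟨y, hy⟩ := hdesc.2 1
    let Bs := Algebra.TensorProduct.basis K b
    refine exists_unit_of_span (k := k) (K := K) W (fun i => (b i : K ⊗[k] A))
      (fun i => (b i).2) (fun i => Bs.repr y i) ?_
    rw [← hy]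
    conv_rhs => rw [← Bs.sum_repr y]
    rw [map_sum]
    refine Finset.sum_congr rfl fun i _ => ?_
    rw [map_smul, Algebra.TensorProduct.basis_apply, LinearMap.liftBaseChange_one_tmul]
    rfl
  | inl hfin =>
    haveI := hfin
    haveI : Finite K := Module.finite_of_finite k
    haveI : Finite A := Module.finite_of_finite k
    haveI : Finite (K ⊗[k] A) := Module.finite_of_finite k
    letI : Module A (K ⊗[k] A) :=
      Module.compHom _ (Algebra.TensorProduct.includeRight : A →ₐ[k] K ⊗[k] A).toRingHom
    have hsm : ∀ (r : A) (x : K ⊗[k] A), r • x = ((1 : K) ⊗ₜ[k] r) * x := fun _ _ => rfl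
    haveI : SMulCommClass A K (K ⊗[k] A) := ⟨fun r c x => by rw [hsm, hsm, mul_smul_comm]⟩
    haveI : IsScalarTower A (K ⊗[k] A) (K ⊗[k] A) :=
      ⟨fun r x y => by rw [hsm, hsm, smul_eq_mul, smul_eq_mul, mul_assoc]⟩
    let W' : Submodule A (K ⊗[k] A) :=
      { carrier := {x | ∀ σ, S.ρ σ x = x}
        add_mem' := W.add_mem'
        zero_mem' := W.zero_mem'
        smul_mem' := fun r x hx σ => by
          have h1 := hx σ
          change σ • x * _ = x at h1
          change σ • (r • x) * _ = r • x
          rw [hsm, smul_mul', mul_assoc, h1, TensorProduct.smul_tmul', smul_one] }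
    let e := Module.finBasis k K
    have hn : Module.finrank k K ≠ 0 := Module.finrank_pos.ne'
    have h1 : Function.Bijective
        (fun w : Fin (Module.finrank k K) → A => ∑ i, e i • (w i • (1 : K ⊗[k] A))) := by
      convert sum_tmul_bijective (N := A) e using 3 with w i
      rw [hsm, mul_one, TensorProduct.smul_tmul', smul_eq_mul, mul_one]
    have hW : Function.Bijective
        (fun w : Fin (Module.finrank k K) → W' => ∑ i, e i • ((w i : W') : K ⊗[k] A)) := by
      have hb1 : Function.Bijective (fun (w : Fin (Module.finrank k K) → W') i =>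
          (⟨(w i).1, (w i).2⟩ : W)) := by
        refine ⟨fun w w' h => ?_, fun w => ⟨fun i => ⟨(w i).1, (w i).2⟩, rfl⟩⟩
        funext i
        have := congr_fun h i
        exact Subtype.ext (congrArg Subtype.val this)
      have := (hdesc.comp (sum_tmul_bijective (N := W) e)).comp hb1
      convert this using 1
      funext w
      simp only [Function.comp_apply, map_sum, LinearMap.liftBaseChange_tmul]
      rfl
    obtain ⟨w, hw, y, hy⟩ := exists_mul_eq_one_of_finite (K := K) (A := A) hn (fun i => e i) W'
      hW h1
    exact ⟨w, hw, IsUnit.of_mul_eq_one_right y hy⟩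

end key

end main

/-- Let K be a finite Galois extension of a field k with Galois group G = Aut_k(K), and A a
finite-dimensional associative unital k-algebra, not assumed simple or central. Then H¹(G, (K ⊗_k
A)ˣ) is trivial, G acting on K ⊗_k A through the first factor. (The published statement allows any
Galois extension and reduces to the finite case by a direct limit; the finite case is stated.) -/
theorem result (k : Type u) [Field k] (K : Type v)
    [Field K] [Algebra k K] [FiniteDimensional k K] [IsGalois k K]
    (A : Type w) [Ring A] [Algebra k A] [FiniteDimensional k A] :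
    GpH1.H1.IsTrivial (K ≃ₐ[k] K) (K ⊗[k] A)ˣ := by
  intro x
  obtain ⟨a, rfl⟩ := GpH1.OneCocycle.cl_surjective x
  unfold GpH1.H1.pt
  rw [GpH1.OneCocycle.cl_eq_cl_iff]
  obtain ⟨c, hc⟩ := key k K A a
  refine ⟨c, fun σ => ?_⟩
  change a σ = c⁻¹ * 1 * σ • c
  have h1 : σ • c * (a σ)⁻¹ = c := Units.ext (hc σ)
  have h2 : σ • c = c * a σ := mul_inv_eq_iff_eq_mul.mp h1
  rw [mul_one, h2, inv_mul_cancel_left]

end Groth.Agent.S13692
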