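import Groth.Statements.S13708
import Mathlib.AlgebraicGeometry.Morphisms.Immersion
-- import your own Groth.Agent.* helpers here

set_option autoImplicit false
universe u
open CategoryTheory CategoryTheory.Limits AlgebraicGeometry
open ZeroCyc

namespace Groth.Agent.S13708

/-- Let X be a scheme over S such that every finite set of points of X over a common point of S lies in
some affine open subscheme of X (the condition (AF)). Then X is separated over S. (The published
condition (AF) asks for an open U with U → S quasi-affine rather than U affine; with U affine, as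
here, the same argument applies verbatim, and the two conditions agree over a quasi-separated base.) -/
theorem result {X S : Scheme.{u}} (f : X ⟶ S) (hX : SymProd.IsAF f) :
    IsSeparated f := by
  classical
  constructor
  apply IsClosedImmersion.of_isPreimmersion
  rw [← isOpen_compl_iff, isOpen_iff_forall_mem_open]
  intro z hz
  have hx : f (pullback.snd f f z) = f (pullback.fst f f z) := by
    rw [← Scheme.Hom.comp_apply, ← Scheme.Hom.comp_apply, pullback.condition]
  obtain ⟨U, hU, hmem⟩ := hX (f (pullback.fst f f z)) {pullback.fst f f z, pullback.snd f f z} (by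
    intro x hx'
    simp only [Finset.mem_insert, Finset.mem_singleton] at hx'
    rcases hx' with rfl | rfl
    · rfl
    · exact hx)
  have hm1 : pullback.fst f f z ∈ U := hmem _ (by simp)
  have hm2 : pullback.snd f f z ∈ U := hmem _ (by simp)
  let g : (U : Scheme) ⟶ S := U.ι ≫ f
  let j : pullback g g ⟶ pullback f f :=
    pullback.map g g f f U.ι U.ι (𝟙 S) (by simp [g]) (by simp [g])
  have hzj : z ∈ Set.range j := by
    rw [Scheme.Pullback.range_map]
    simp [hm1, hm2]
  obtain ⟨w, rfl⟩ := hzj
  have : IsAffine (U : Scheme) := hU
  have hcl : IsClosed (Set.range (pullback.diagonal g)) :=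
    (pullback.diagonal g).isClosedEmbedding.isClosed_range
  have hcomm : pullback.diagonal g ≫ j = U.ι ≫ pullback.diagonal f := by
    apply pullback.hom_ext
    · rw [Category.assoc, pullback.lift_fst, pullback.diagonal_fst_assoc, Category.assoc,
        pullback.diagonal_fst, Category.comp_id]
    · rw [Category.assoc, pullback.lift_snd, pullback.diagonal_snd_assoc, Category.assoc,
        pullback.diagonal_snd, Category.comp_id]
  have hw : w ∉ Set.range (pullback.diagonal g) := by
    rintro ⟨u, rfl⟩
    apply hz
    refine ⟨U.ι u, ?_⟩
    rw [← Scheme.Hom.comp_apply, ← Scheme.Hom.comp_apply, hcomm]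
  refine ⟨j '' (Set.range (pullback.diagonal g))ᶜ, ?_,
    j.isOpenEmbedding.isOpenMap _ hcl.isOpen_compl, ⟨w, hw, rfl⟩⟩
  rintro _ ⟨n, hn, rfl⟩ ⟨x, hx⟩
  apply hn
  have h1 : x = U.ι (pullback.fst g g n) := by
    have h2 := congrArg (pullback.fst f f) hx
    rw [← Scheme.Hom.comp_apply, ← Scheme.Hom.comp_apply, pullback.diagonal_fst,
      pullback.lift_fst, Scheme.Hom.comp_apply] at h2
    exact h2
  refine ⟨pullback.fst g g n, ?_⟩
  apply j.isOpenEmbedding.injective
  rw [← hx, h1, ← Scheme.Hom.comp_apply, hcomm, Scheme.Hom.comp_apply]

end Groth.Agent.S13708
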