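import Groth.Statements.S13709
import Mathlib.AlgebraicGeometry.Morphisms.UniversallyOpen
-- import your own Groth.Agent.* helpers here

set_option autoImplicit false
universe u
open CategoryTheory CategoryTheory.Limits AlgebraicGeometry
open ZeroCyc

namespace Groth.Agent.S13709

/-- Let f : X → Y be a quasi-compact morphism of schemes and g : Y' → Y a faithfully flat morphism, i.e.
flat and surjective, with no quasi-compactness assumption on g. If the base change X ×_Y Y' → Y' of
f along g is a homeomorphism on underlying spaces, then so is f. -/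
theorem result {X Y Y' : Scheme.{u}} (f : X ⟶ Y) (g : Y' ⟶ Y)
    [Flat g] [Surjective g] [QuasiCompact f] (h : IsHomeomorph (pullback.snd f g).base) :
    IsHomeomorph f.base := by
  have hcond : ∀ z : ↑(pullback f g), f (pullback.fst f g z) = g (pullback.snd f g z) := by
    intro z
    have := congrArg (fun φ => φ.base z) (pullback.condition (f := f) (g := g))
    simpa using this
  rw [isHomeomorph_iff_continuous_isClosedMap_bijective]
  refine ⟨f.continuous, ?_, ?_, ?_⟩
  · -- closed map
    rw [isClosedMap_iff_specializingMap]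
    intro x y0 hy
    -- hy : flip (⤳) y0 (f x), i.e. f x ⤳ y0
    change f x ⤳ y0 at hy
    obtain ⟨y0', rfl⟩ := g.surjective y0
    obtain ⟨y', hy', hgy'⟩ := (Flat.generalizingMap g) hy
    obtain ⟨x', hx'1, hx'2⟩ := Scheme.Pullback.exists_preimage_pullback (f := f) (g := g) x y' hgy'.symm
    have hspec : SpecializingMap (pullback.snd f g) := h.isClosedMap.specializingMap
    obtain ⟨x0', hx0', hx0'2⟩ := hspec (a := x') (b := y0') (by change pullback.snd f g x' ⤳ y0'; rw [hx'2]; exact hy')
    refine ⟨pullback.fst f g x0', ?_, ?_⟩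
    · change x ⤳ pullback.fst f g x0'
      rw [← hx'1]
      exact Specializes.map hx0' (pullback.fst f g).continuous
    · rw [hcond, hx0'2]
  · -- injective
    intro x1 x2 h12
    obtain ⟨y', hy'⟩ := g.surjective (f x1)
    obtain ⟨x1', hx1'1, hx1'2⟩ := Scheme.Pullback.exists_preimage_pullback (f := f) (g := g) x1 y' hy'.symm
    obtain ⟨x2', hx2'1, hx2'2⟩ := Scheme.Pullback.exists_preimage_pullback (f := f) (g := g) x2 y'
      (by rw [hy']; exact h12.symm)
    have : x1' = x2' := h.injective (hx1'2.trans hx2'2.symm)
    rw [← hx1'1, ← hx2'1, this]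
  · -- surjective
    intro y
    obtain ⟨y', rfl⟩ := g.surjective y
    obtain ⟨x', hx'⟩ := h.surjective y'
    exact ⟨pullback.fst f g x', by rw [hcond]; exact congrArg _ hx'⟩

end Groth.Agent.S13709
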