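import Groth.Statements.S1371
import Groth.Agent.Lib.helper11.GenFlatMain

set_option autoImplicit false
universe u
open FlatMor

namespace Groth.Agent.S1371

/-- Let R be a Noetherian domain, R → A → B ring maps of finite type, M a finite A-module, N a finite
B-module and u : M → N an A-linear map. Then there is a nonzero f in R such that the cokernel of u,
localized at f, is a flat module over R[1/f]. -/
theorem result {R A B : Type u} [CommRing R] [IsDomain R] [IsNoetherianRing R] [CommRing A] [CommRing B]
    [Algebra R A] [Algebra A B] [Algebra R B] [IsScalarTower R A B] [Algebra.FiniteType R A] [Algebra.FiniteType A B]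
    {M N : Type u} [AddCommGroup M] [Module A M] [Module R M] [IsScalarTower R A M] [Module.Finite A M]
    [AddCommGroup N] [Module B N] [Module A N] [Module R N] [IsScalarTower A B N] [IsScalarTower R A N] [Module.Finite B N]
    (u : M →ₗ[A] N) :
    ∃ f : R, f ≠ 0 ∧ Module.Flat (Localization.Away f)
      (LocalizedModule (Submonoid.powers f) (N ⧸ (LinearMap.range u).restrictScalars R)) := by
  have hL : (LinearMap.range u).FG := by
    rw [LinearMap.range_eq_map]
    exact (Module.Finite.fg_top).map u
  obtain ⟨f, hf, H⟩ := Groth.Agent.Lib.helper11.GenFlat.genFlat_quotient (R := R) A B N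
    (LinearMap.range u) hL
  refine ⟨f, hf, ?_⟩
  have h1 : Groth.Agent.Lib.helper11.GenFlat.FlatAt f (N ⧸ LinearMap.range u) :=
    H f dvd_rfl hf
  have h2 : Groth.Agent.Lib.helper11.GenFlat.FlatAt f
      (N ⧸ (LinearMap.range u).restrictScalars R) :=
    h1.of_linearEquiv f (Submodule.Quotient.restrictScalarsEquiv R (LinearMap.range u)).symm
  exact (Module.flat_iff_of_isLocalization (Localization.Away f) (Submonoid.powers f) _).mpr h2

end Groth.Agent.S1371
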