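import Groth.Statements.S13710
import Groth.Agent.S13709
import Mathlib.AlgebraicGeometry.Morphisms.FlatDescent
-- import your own Groth.Agent.* helpers here

set_option autoImplicit false
universe u v w
open CategoryTheory CategoryTheory.Limits AlgebraicGeometry
open ZeroCyc
open MorphismProperty TensorProduct

namespace Groth.Agent.S13710

/-- A module which dies after tensoring with every member of a jointly surjective family of
flat algebras is zero. -/
lemma subsingleton_of_forall_tensor {R : Type u} [CommRing R] {J : Type w}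
    (B : J → Type v) [∀ j, CommRing (B j)] [∀ j, Algebra R (B j)] [∀ j, Module.Flat R (B j)]
    (hsurj : ∀ p : PrimeSpectrum R, ∃ j, ∃ q : PrimeSpectrum (B j),
      q.comap (algebraMap R (B j)) = p)
    (M : Type*) [AddCommGroup M] [Module R M]
    (hM : ∀ j, Subsingleton (B j ⊗[R] M)) : Subsingleton M := by
  by_contra hne
  rw [not_subsingleton_iff_nontrivial] at hne
  obtain ⟨x, hx⟩ := exists_ne (0 : M)
  -- annihilator of x
  let ι : R →ₗ[R] M := LinearMap.toSpanSingleton R M x
  let I : Ideal R := LinearMap.ker ι
  have hI : I ≠ ⊤ := by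
    intro h
    have : (1 : R) ∈ I := h ▸ Submodule.mem_top
    apply hx
    simpa [I, ι] using this
  obtain ⟨m, hm, hIm⟩ := Ideal.exists_le_maximal I hI
  obtain ⟨j, q, hq⟩ := hsurj ⟨m, hm.isPrime⟩
  -- the injective map R ⧸ I → M
  let ιbar : (R ⧸ I) →ₗ[R] M := Submodule.liftQ I ι le_rfl
  have hιbar : Function.Injective ιbar := by
    rw [← LinearMap.ker_eq_bot]
    exact Submodule.ker_liftQ_eq_bot _ _ _ le_rfl
  have hinj : Function.Injective (LinearMap.lTensor (B j) ιbar) :=
    Module.Flat.lTensor_preserves_injective_linearMap ιbar hιbar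
  have hsub : Subsingleton (B j ⊗[R] (R ⧸ I)) := by
    have := hM j
    exact hinj.subsingleton
  -- but `B j ⊗ R ⧸ I` maps to the nontrivial ring `B j ⧸ q`
  have hIq : ∀ a ∈ I, algebraMap R (B j ⧸ q.asIdeal) a = 0 := by
    intro a ha
    have : a ∈ (q.comap (algebraMap R (B j))).asIdeal := by
      rw [hq]; exact hIm ha
    rw [IsScalarTower.algebraMap_apply R (B j) (B j ⧸ q.asIdeal)]
    exact Ideal.Quotient.eq_zero_iff_mem.mpr this
  let e : B j ⊗[R] (R ⧸ I) →ₐ[R] (B j ⧸ q.asIdeal) :=
    Algebra.TensorProduct.productMap (IsScalarTower.toAlgHom R (B j) (B j ⧸ q.asIdeal))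
      (Ideal.Quotient.liftₐ I (Algebra.ofId R (B j ⧸ q.asIdeal)) hIq)
  have h01 : (0 : B j ⊗[R] (R ⧸ I)) = 1 := Subsingleton.elim _ _
  have := congrArg e h01
  rw [map_zero, map_one] at this
  exact zero_ne_one this


lemma bijective_algebraMap_of_forall_tensor {R : Type u} [CommRing R] {J : Type w}
    (B : J → Type v) [∀ j, CommRing (B j)] [∀ j, Algebra R (B j)] [∀ j, Module.Flat R (B j)]
    (hsurj : ∀ p : PrimeSpectrum R, ∃ j, ∃ q : PrimeSpectrum (B j),
      q.comap (algebraMap R (B j)) = p)
    (C : Type*) [CommRing C] [Algebra R C]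
    (hC : ∀ j, Function.Bijective
      (Algebra.TensorProduct.includeLeft : B j →ₐ[R] B j ⊗[R] C)) :
    Function.Bijective (algebraMap R C) := by
  let φ : R →ₗ[R] C := Algebra.linearMap R C
  -- `B j ⊗ φ` is bijective
  have hφ : ∀ j, Function.Bijective (LinearMap.lTensor (B j) φ) := by
    intro j
    have : (LinearMap.lTensor (B j) φ) ∘ (TensorProduct.rid R (B j)).symm =
        (Algebra.TensorProduct.includeLeft : B j →ₐ[R] B j ⊗[R] C) := by
      ext b
      simp [φ]
    have h2 : Function.Bijective ((LinearMap.lTensor (B j) φ) ∘ (TensorProduct.rid R (B j)).symm) := by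
      rw [this]; exact hC j
    exact (Function.Bijective.of_comp_iff _ (TensorProduct.rid R (B j)).symm.bijective).mp h2
  constructor
  · -- injective: kernel dies
    have hK : Subsingleton (LinearMap.ker φ) := by
      apply subsingleton_of_forall_tensor B hsurj
      intro j
      have hinj : Function.Injective (LinearMap.lTensor (B j) (LinearMap.ker φ).subtype) :=
        Module.Flat.lTensor_preserves_injective_linearMap _ (Submodule.injective_subtype _)
      have hzero : (LinearMap.lTensor (B j) φ).comp (LinearMap.lTensor (B j) (LinearMap.ker φ).subtype) = 0 := by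
        rw [← LinearMap.lTensor_comp]
        have : φ.comp (LinearMap.ker φ).subtype = 0 := by
          ext x; exact x.2
        rw [this, LinearMap.lTensor_zero]
      refine ⟨fun a b => hinj ((hφ j).1 ?_)⟩
      have ha := LinearMap.congr_fun hzero a
      have hb := LinearMap.congr_fun hzero b
      simp only [LinearMap.comp_apply, LinearMap.zero_apply] at ha hb
      rw [ha, hb]
    have : Function.Injective φ := by
      rw [← LinearMap.ker_eq_bot]
      exact Submodule.eq_bot_of_subsingleton
    exact this
  · -- surjective: cokernel dies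
    have hQ : Subsingleton (C ⧸ LinearMap.range φ) := by
      apply subsingleton_of_forall_tensor B hsurj
      intro j
      have hsurjQ : Function.Surjective (LinearMap.lTensor (B j) (LinearMap.range φ).mkQ) :=
        LinearMap.lTensor_surjective _ (Submodule.mkQ_surjective _)
      have hzero : (LinearMap.lTensor (B j) (LinearMap.range φ).mkQ).comp (LinearMap.lTensor (B j) φ) = 0 := by
        rw [← LinearMap.lTensor_comp]
        have : (LinearMap.range φ).mkQ.comp φ = 0 := by
          ext
          simp
        rw [this, LinearMap.lTensor_zero]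
      refine ⟨fun a b => ?_⟩
      obtain ⟨a', rfl⟩ := hsurjQ a
      obtain ⟨b', rfl⟩ := hsurjQ b
      obtain ⟨a'', rfl⟩ := (hφ j).2 a'
      obtain ⟨b'', rfl⟩ := (hφ j).2 b'
      have ha := LinearMap.congr_fun hzero a''
      have hb := LinearMap.congr_fun hzero b''
      simp only [LinearMap.comp_apply, LinearMap.zero_apply] at ha hb
      rw [ha, hb]
    have : Function.Surjective φ := by
      rw [← LinearMap.range_eq_top]
      exact Submodule.Quotient.subsingleton_iff.mp hQ
    exact this


set_option backward.isDefEq.respectTransparency false in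
lemma isIso_SpecMap_of_family {R C : CommRingCat.{u}} (φ : R ⟶ C) {J : Type w}
    (B : J → CommRingCat.{u}) (ψ : ∀ j, R ⟶ B j) (hflat : ∀ j, Flat (Spec.map (ψ j)))
    (hsurj : ∀ p : Spec R, ∃ j, ∃ q : Spec (B j), (Spec.map (ψ j)) q = p)
    (hiso : ∀ j, IsIso (pullback.fst (Spec.map (ψ j)) (Spec.map φ))) :
    IsIso (Spec.map φ) := by
  rw [isIso_SpecMap_iff]
  letI : Algebra R C := φ.hom.toAlgebra
  letI instB : ∀ j, Algebra R (B j) := fun j => (ψ j).hom.toAlgebra
  have hflat' : ∀ j, Module.Flat R (B j) := by
    intro j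
    have := hflat j
    rw [HasRingHomProperty.Spec_iff (P := @Flat)] at this
    exact this
  refine bijective_algebraMap_of_forall_tensor (R := R) (fun j => (B j : Type u)) ?_ C ?_
  · intro p
    obtain ⟨j, q, hq⟩ := hsurj p
    exact ⟨j, q, hq⟩
  · intro j
    have h1 := hiso j
    replace h1 : IsIso (pullback.fst (Spec.map <| CommRingCat.ofHom <| algebraMap R (B j))
      (Spec.map <| CommRingCat.ofHom <| algebraMap R C)) := h1
    rw [← pullbackSpecIso_hom_fst R (B j) C] at h1
    have h2 : IsIso (Spec.map (CommRingCat.ofHom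
        (Algebra.TensorProduct.includeLeftRingHom : B j →+* B j ⊗[R] C))) :=
      IsIso.of_isIso_comp_left (pullbackSpecIso R (B j) C).hom _
    rw [isIso_SpecMap_iff] at h2
    exact h2


set_option backward.isDefEq.respectTransparency false in
/-- Base and source affine. -/
lemma key_affine_affine {R C : CommRingCat.{u}} {X : Scheme.{u}} (c : X ⟶ Spec R) (φ : R ⟶ C)
    [Flat c] [Surjective c] (h : IsIso (pullback.fst c (Spec.map φ))) : IsIso (Spec.map φ) := by
  let 𝒰 := X.affineCover
  -- each member of the affine cover of `X` is the spectrum of a ring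
  have hX : ∀ j : 𝒰.I₀, ∃ (Bj : CommRingCat.{u}) (e : Spec Bj ≅ 𝒰.X j), True := fun j =>
    ⟨_, (𝒰.X j).isoSpec.symm, trivial⟩
  choose B e _ using hX
  let cj : ∀ j, Spec (B j) ⟶ Spec R := fun j => ((e j).hom ≫ 𝒰.f j) ≫ c
  have hcj : ∀ j, ∃ ψ : R ⟶ B j, Spec.map ψ = cj j := fun j => Spec.map_surjective (cj j)
  choose ψ hψ using hcj
  refine isIso_SpecMap_of_family φ B ψ ?_ ?_ ?_
  · intro j
    rw [hψ]
    infer_instance
  · intro p
    obtain ⟨x, rfl⟩ := c.surjective p
    obtain ⟨j, z, rfl⟩ := 𝒰.exists_eq x
    refine ⟨j, (e j).inv z, ?_⟩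
    rw [hψ]
    simp only [cj, Scheme.Hom.comp_apply]
    congr 2
    rw [← Scheme.Hom.comp_apply]
    simp
  · intro j
    rw [hψ]
    have : pullback.fst (cj j) (Spec.map φ) =
        (pullbackRightPullbackFstIso c (Spec.map φ) ((e j).hom ≫ 𝒰.f j)).inv ≫
          pullback.fst ((e j).hom ≫ 𝒰.f j) (pullback.fst c (Spec.map φ)) := by
      simp [cj]
    rw [this]
    infer_instance


set_option backward.isDefEq.respectTransparency false in
lemma key_affine_base {R : CommRingCat.{u}} {X Y : Scheme.{u}} (c : X ⟶ Spec R) (m : Y ⟶ Spec R)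
    (hc1 : Flat c) (hc2 : Surjective c) (hm : QuasiCompact m) (h : IsIso (pullback.fst c m)) :
    IsIso m := by
  -- `m` is a homeomorphism
  have hsnd : IsIso (pullback.snd m c) := by
    rw [← pullbackSymmetry_hom_comp_fst]
    infer_instance
  have hhomeo : IsHomeomorph m.base :=
    Groth.Agent.S13709.result m c (pullback.snd m c).homeomorph.isHomeomorph
  -- hence affine
  have haff : IsAffineHom m :=
    isAffineHom_of_isInducing m hhomeo.isInducing hhomeo.isClosedEmbedding.isClosed_range
  have : IsAffine Y := isAffine_of_isAffineHom m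
  wlog hY : ∃ T, Y = Spec T generalizing Y
  · have key : IsIso (Y.isoSpec.inv ≫ m) := by
      have heq : pullback.fst c (Y.isoSpec.inv ≫ m) =
        pullback.map _ _ _ _ (𝟙 _) (Y.isoSpec.inv) (𝟙 _) (by simp) (by simp) ≫
          pullback.fst c m := (pullback.lift_fst _ _ _).symm
      have hiso : IsIso (pullback.fst c (Y.isoSpec.inv ≫ m)) := by
        rw [heq]; infer_instance
      have hsnd' : IsIso (pullback.snd (Y.isoSpec.inv ≫ m) c) := by
        rw [← pullbackSymmetry_hom_comp_fst]
        infer_instance
      have hhomeo' : IsHomeomorph (Y.isoSpec.inv ≫ m).base :=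
        Groth.Agent.S13709.result (Y.isoSpec.inv ≫ m) c
          (pullback.snd (Y.isoSpec.inv ≫ m) c).homeomorph.isHomeomorph
      exact this (Y.isoSpec.inv ≫ m) inferInstance hiso hsnd' hhomeo' inferInstance inferInstance
        ⟨_, rfl⟩
    exact IsIso.of_isIso_comp_left Y.isoSpec.inv m
  obtain ⟨T, rfl⟩ := hY
  obtain ⟨φ, rfl⟩ := Spec.map_surjective m
  exact key_affine_affine c φ h



set_option backward.isDefEq.respectTransparency false in
/-- Reduction to an affine base. -/
lemma key_of_affine_base
    (H : ∀ {R : CommRingCat.{u}} {X Y : Scheme.{u}} (c : X ⟶ Spec R) (m : Y ⟶ Spec R),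
      Flat c → Surjective c → QuasiCompact m → IsIso (pullback.fst c m) → IsIso m)
    {X Y Z : Scheme.{u}} (c : X ⟶ Z) (m : Y ⟶ Z) (hc1 : Flat c) (hc2 : Surjective c)
    (hm : QuasiCompact m) (h : IsIso (pullback.fst c m)) : IsIso m := by
  change isomorphisms Scheme m
  rw [IsZariskiLocalAtTarget.iff_of_openCover (P := isomorphisms Scheme) Z.affineCover]
  intro i
  let ι := Z.affineCover.f i
  let e : pullback (pullback.snd c ι) (pullback.snd m ι) ≅
      pullback (pullback.fst c m) (pullback.fst c ι) :=
    pullbackLeftPullbackSndIso c ι (pullback.snd m ι) ≪≫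
      pullback.congrHom rfl pullback.condition.symm ≪≫
      (pullbackAssoc c m m ι).symm ≪≫ pullback.congrHom pullback.condition.symm rfl ≪≫
      (pullbackRightPullbackFstIso c ι (pullback.fst c m)).symm
  have heq : e.hom ≫ pullback.snd (pullback.fst c m) (pullback.fst c ι) =
      pullback.fst (pullback.snd c ι) (pullback.snd m ι) := by
    apply pullback.hom_ext <;> simp [e, pullback.condition]
  refine H (pullback.snd c ι) (pullback.snd m ι) inferInstance inferInstance inferInstance ?_
  rw [← heq]
  infer_instance



/-- Let f : X → Y be a morphism of schemes and g : Y' → Y a faithfully flat morphism (flat and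
surjective, not assumed quasi-compact). Then f is an isomorphism exactly when it is quasi-compact
and its base change X ×_Y Y' → Y' along g is an isomorphism. -/
theorem result {X Y Y' : Scheme.{u}} (f : X ⟶ Y) (g : Y' ⟶ Y)
    [Flat g] [Surjective g] :
    IsIso f ↔ QuasiCompact f ∧ IsIso (pullback.snd f g) := by
  constructor
  · intro h
    exact ⟨inferInstance, inferInstance⟩
  · rintro ⟨hqc, hiso⟩
    have hfst : IsIso (pullback.fst g f) := by
      rw [← pullbackSymmetry_hom_comp_snd]
      infer_instance
    exact key_of_affine_base (fun c m h1 h2 h3 h4 => key_affine_base c m h1 h2 h3 h4)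
      g f inferInstance inferInstance hqc hfst

end Groth.Agent.S13710
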