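import Groth.Statements.S13711
import Groth.Agent.Lib.Helper25.AffDescLoc

set_option autoImplicit false
universe u
open CategoryTheory CategoryTheory.Limits AlgebraicGeometry
open ZeroCyc

namespace Groth.Agent.S13711

/-- Let f : X → Y be a morphism of schemes and g : Y' → Y a faithfully flat morphism (flat and
surjective, not assumed quasi-compact). Then f is affine exactly when it is quasi-compact,
quasi-separated, and its base change X ×_Y Y' → Y' along g is affine. -/
theorem result {X Y Y' : Scheme.{u}} (f : X ⟶ Y) (g : Y' ⟶ Y)
    [Flat g] [Surjective g] :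
    IsAffineHom f ↔ QuasiCompact f ∧ QuasiSeparated f ∧ IsAffineHom (pullback.snd f g) := by
  constructor
  · intro hf
    exact ⟨inferInstance, inferInstance, MorphismProperty.pullback_snd _ _ hf⟩
  · rintro ⟨h1, h2, h3⟩
    exact Groth.Agent.Lib.Helper25.AffDescLoc.isAffineHom_of_flat_surjective' f g

end Groth.Agent.S13711
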