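import Groth.Statements.S13720
import Mathlib

set_option autoImplicit false
universe u
open scoped TensorProduct
open ZeroCyc

namespace Groth.Agent.S13720

section aux

-- universe u declared in template
open scoped TensorProduct

section
variable {A : Type u} [CommRing A] {B : Type u} [CommRing B] [Algebra A B]
    {C : Type u} [CommRing C] [Algebra A C] {ι : Type u} [Preorder ι] [IsDirected ι (fun i j => i ≤ j)] [Nonempty ι]
    (Bi : ι → Type u) [∀ i, CommRing (Bi i)] [∀ i, Algebra A (Bi i)]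
    (t : ∀ i j : ι, i ≤ j → (Bi i →ₐ[A] Bi j)) (φ : ∀ i : ι, Bi i →ₐ[A] B)

include t in
theorem lift1 (hcomp : ∀ (i j : ι) (h : i ≤ j), (φ j).comp (t i j h) = φ i)
    (hsurj : ∀ b : B, ∃ (i : ι) (x : Bi i), φ i x = b)
    (S : Type u) [CommSemiring S] [Algebra A S] (z : S ⊗[A] B) :
    ∀ i0 : ι, ∃ (j : ι) (_ : i0 ≤ j) (z' : S ⊗[A] Bi j), (φ j).toLinearMap.lTensor S z' = z := by
  have htr : ∀ (i j : ι) (h : i ≤ j) (y : S ⊗[A] Bi i),
      (φ j).toLinearMap.lTensor S ((t i j h).toLinearMap.lTensor S y) = (φ i).toLinearMap.lTensor S y := by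
    intro i j h y
    rw [← LinearMap.lTensor_comp_apply, ← AlgHom.comp_toLinearMap, hcomp]
  induction z using TensorProduct.induction_on with
  | zero => intro i0; exact ⟨i0, le_rfl, 0, map_zero _⟩
  | tmul s b =>
    intro i0
    obtain ⟨i1, y, rfl⟩ := hsurj b
    obtain ⟨j, h0, h1⟩ := exists_ge_ge i0 i1
    refine ⟨j, h0, s ⊗ₜ[A] (t i1 j h1 y), ?_⟩
    rw [LinearMap.lTensor_tmul]
    congr 1
    have := congrArg (fun f => f y) (hcomp i1 j h1)
    exact this
  | add z1 z2 h1 h2 =>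
    intro i0
    obtain ⟨j1, hj1, z1', rfl⟩ := h1 i0
    obtain ⟨j2, hj2, z2', rfl⟩ := h2 j1
    refine ⟨j2, hj1.trans hj2, (t j1 j2 hj2).toLinearMap.lTensor S z1' + z2', ?_⟩
    rw [map_add, htr]
end

section
variable {A : Type u} [CommRing A] {B : Type u} [CommRing B] [Algebra A B]
    {C : Type u} [CommRing C] [Algebra A C] {ι : Type u} [Preorder ι] [IsDirected ι (fun i j => i ≤ j)] [Nonempty ι]

theorem main
    (Bi : ι → Type u) [∀ i, CommRing (Bi i)] [∀ i, Algebra A (Bi i)]
    (t : ∀ i j : ι, i ≤ j → (Bi i →ₐ[A] Bi j)) (φ : ∀ i : ι, Bi i →ₐ[A] B)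
    (hcomp : ∀ (i j : ι) (h : i ≤ j), (φ j).comp (t i j h) = φ i)
    (hsurj : ∀ b : B, ∃ (i : ι) (x : Bi i), φ i x = b)
    {d : ℕ} (F : PolLaw.MulLaw A B C d) (b : B) :
    b ∈ PolLaw.ker F.law ↔ ∃ (i : ι) (x : Bi i), φ i x = b ∧
      ∀ (j : ι) (h : i ≤ j), t i j h x ∈ PolLaw.ker (F.precomp (φ j)).law := by
  have hpre : ∀ (j : ι) (S : Type u) [CommSemiring S] [Algebra A S] (z : S ⊗[A] Bi j),
      (F.precomp (φ j)).law.toFun' S z = F.law.toFun' S ((φ j).toLinearMap.lTensor S z) := by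
    intro j S _ _ z; rfl
  have hmulmap : ∀ (j : ι) (S : Type u) [CommSemiring S] [Algebra A S] (z w : S ⊗[A] Bi j) (y : Bi j),
      (φ j).toLinearMap.lTensor S (z + w * ((1 : S) ⊗ₜ[A] y)) =
        (φ j).toLinearMap.lTensor S z + (φ j).toLinearMap.lTensor S w * ((1 : S) ⊗ₜ[A] (φ j y)) := by
    intro j S _ _ z w y
    rw [map_add, PolLaw.lTensor_algHom_apply, PolLaw.lTensor_algHom_apply, map_mul]
    rfl
  constructor
  · intro hb
    obtain ⟨i, x, rfl⟩ := hsurj b
    refine ⟨i, x, rfl, ?_⟩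
    intro j h S _ _ z w
    rw [hpre, hpre, hmulmap]
    have e : φ j (t i j h x) = φ i x := congrArg (fun f => f x) (hcomp i j h)
    rw [e]
    exact hb S _ _
  · rintro ⟨i, x, rfl, hx⟩
    intro S _ _ z w
    obtain ⟨j1, hj1, z', rfl⟩ := lift1 Bi t φ hcomp hsurj S z i
    obtain ⟨j2, hj2, w', rfl⟩ := lift1 Bi t φ hcomp hsurj S w j1
    have htr : (φ j2).toLinearMap.lTensor S ((t j1 j2 hj2).toLinearMap.lTensor S z')
        = (φ j1).toLinearMap.lTensor S z' := by
      rw [← LinearMap.lTensor_comp_apply, ← AlgHom.comp_toLinearMap, hcomp]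
    have e : φ j2 (t i j2 (hj1.trans hj2) x) = φ i x :=
      congrArg (fun f => f x) (hcomp i j2 (hj1.trans hj2))
    have := hx j2 (hj1.trans hj2) S ((t j1 j2 hj2).toLinearMap.lTensor S z') w'
    rw [hpre, hpre, hmulmap, e, htr] at this
    exact this
end

end aux

/-- Let B be the filtered direct limit of a directed system (B_i, t_ij : B_i → B_j) of commutative
algebras over the commutative ring A, with structure maps φ_i : B_i → B (jointly surjective, and an
element of B_i vanishing in B already vanishes in some B_j), and let F : B → C be a multiplicative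
polynomial law homogeneous of degree d, with restrictions F_i = F ∘ φ_i. Then an element b of B lies
in the kernel of F if and only if it is the image of some x ∈ B_i whose images in B_j lie in the
kernel of F_j for every j ≥ i; that is, the kernel of F is the direct limit of the kernels of the
F_i. -/
theorem result {A : Type u} [CommRing A] {B : Type u} [CommRing B] [Algebra A B]
    {C : Type u} [CommRing C] [Algebra A C] {ι : Type u} [Preorder ι] [IsDirected ι (fun i j => i ≤ j)] [Nonempty ι]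
    (Bi : ι → Type u) [∀ i, CommRing (Bi i)] [∀ i, Algebra A (Bi i)]
    (t : ∀ i j : ι, i ≤ j → (Bi i →ₐ[A] Bi j)) (φ : ∀ i : ι, Bi i →ₐ[A] B)
    (hcomp : ∀ (i j : ι) (h : i ≤ j), (φ j).comp (t i j h) = φ i)
    (hsurj : ∀ b : B, ∃ (i : ι) (x : Bi i), φ i x = b)
    (hzero : ∀ (i : ι) (x : Bi i), φ i x = 0 → ∃ (j : ι) (h : i ≤ j), t i j h x = 0)
    {d : ℕ} (F : PolLaw.MulLaw A B C d) (b : B) :
    b ∈ PolLaw.ker F.law ↔ ∃ (i : ι) (x : Bi i), φ i x = b ∧
      ∀ (j : ι) (h : i ≤ j), t i j h x ∈ PolLaw.ker (F.precomp (φ j)).law := by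
  exact main Bi t φ hcomp hsurj F b

end Groth.Agent.S13720
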