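import Groth.Statements.S13725
import Mathlib.RingTheory.AdjoinRoot
import Mathlib.Algebra.CharP.Lemmas
import Mathlib.Algebra.CharP.Algebra

set_option autoImplicit false
universe u
open scoped TensorProduct
open ZeroCyc

namespace Groth.Agent.S13725

theorem add_pow_char_algebra {k : Type u} [Field k] (p : ℕ) [Fact p.Prime] [CharP k p]
    (T : Type u) [CommSemiring T] [Algebra k T] (x y : T) : (x + y) ^ p = x ^ p + y ^ p := by
  rcases subsingleton_or_nontrivial T with hT | hT
  · exact Subsingleton.elim _ _
  · have hinj : Function.Injective (algebraMap k T) := (algebraMap k T).injective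
    have : CharP T p := charP_of_injective_algebraMap hinj p
    exact add_pow_char x y p

theorem part1 {k : Type u} [Field k] (p : ℕ) [Fact p.Prime] [CharP k p] :
    PolLaw.ker (PolLaw.MulLaw.pow k k p).law = ⊥ := by
  rw [eq_bot_iff]
  intro b hb
  have h := hb k (0 : k ⊗[k] k) 1
  change ((0 : k ⊗[k] k) + 1 * (1 ⊗ₜ[k] b)) ^ p = (0 : k ⊗[k] k) ^ p at h
  rw [zero_add, one_mul, zero_pow (Fact.out : p.Prime).ne_zero,
    Algebra.TensorProduct.tmul_pow, one_pow] at h
  have h2 := congrArg (TensorProduct.lid k k) h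
  rw [TensorProduct.lid_tmul, map_zero, one_smul] at h2
  rw [Submodule.mem_bot]
  exact pow_eq_zero_iff (Fact.out : p.Prime).ne_zero |>.mp h2

open Polynomial in
theorem part2 {k : Type u} [Field k] (p : ℕ) [Fact p.Prime] [CharP k p] :
    PolLaw.kerBC (PolLaw.MulLaw.pow k k p).law (AdjoinRoot ((Polynomial.X : Polynomial k) ^ p)) ≠ ⊥ := by
  have hp : p.Prime := Fact.out
  set f : Polynomial k := (Polynomial.X : Polynomial k) ^ p with hf
  intro hbot
  have hmem : (AdjoinRoot.root f ⊗ₜ[k] (1 : k) : AdjoinRoot f ⊗[k] k) ∈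
      PolLaw.kerBC (PolLaw.MulLaw.pow k k p).law (AdjoinRoot f) := by
    intro R _ _ _ _ x w
    change (x + w * Algebra.TensorProduct.map (IsScalarTower.toAlgHom k (AdjoinRoot f) R)
      (AlgHom.id k k) (AdjoinRoot.root f ⊗ₜ[k] (1 : k))) ^ p = x ^ p
    rw [add_pow_char_algebra (k := k) p (R ⊗[k] k), mul_pow, Algebra.TensorProduct.map_tmul,
      Algebra.TensorProduct.tmul_pow, ← map_pow]
    have hroot : (AdjoinRoot.root f) ^ p = 0 := by
      have h1 : AdjoinRoot.mk f f = 0 := AdjoinRoot.mk_self
      rw [hf, map_pow, AdjoinRoot.mk_X] at h1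
      exact h1
    rw [hroot, map_zero, TensorProduct.zero_tmul, mul_zero, add_zero]
  rw [hbot, Submodule.mem_bot] at hmem
  have h2 := congrArg (TensorProduct.rid k (AdjoinRoot f)) hmem
  rw [TensorProduct.rid_tmul, map_zero, one_smul] at h2
  have h3 : f ∣ Polynomial.X := by
    rw [← AdjoinRoot.mk_eq_zero, AdjoinRoot.mk_X]
    exact h2
  have h4 := Polynomial.natDegree_le_of_dvd h3 Polynomial.X_ne_zero
  rw [hf, Polynomial.natDegree_X_pow, Polynomial.natDegree_X] at h4
  have := hp.two_le
  omega

/-- Let k be a field of characteristic p > 0 and let F : k → k be the law x ↦ x^p, multiplicative and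
homogeneous of degree p over k. The kernel of F is the zero ideal, but after the flat base change k
→ A' = k[X]/(X^p) the kernel of the base-changed law on A' ⊗_k k is not zero (the class of X lies in
it). So in characteristic p, forming the kernel of a multiplicative law is not compatible with flat
base change. -/
theorem result {k : Type u} [Field k] (p : ℕ) [Fact p.Prime] [CharP k p] :
    PolLaw.ker (PolLaw.MulLaw.pow k k p).law = ⊥ ∧
      PolLaw.kerBC (PolLaw.MulLaw.pow k k p).law (AdjoinRoot ((Polynomial.X : Polynomial k) ^ p)) ≠ ⊥ := by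
  exact ⟨part1 p, part2 p⟩

end Groth.Agent.S13725
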