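import Groth.Statements.S13726
import Mathlib

set_option autoImplicit false
universe u
open scoped TensorProduct
open ZeroCyc

namespace Groth.Agent.S13726

section aux

-- universe u declared in template
open scoped TensorProduct

theorem add_pow_char_of_ringHom {k : Type*} [Field k] (p : ℕ) [Fact p.Prime] [CharP k p]
    {T : Type*} [CommSemiring T] (φ : k →+* T) (x y : T) : (x + y) ^ p = x ^ p + y ^ p := by
  rcases subsingleton_or_nontrivial T with hT | hT
  · exact Subsingleton.elim _ _
  · have : CharP T p := charP_of_injective_ringHom φ.injective p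
    exact add_pow_char x y p

theorem mem_ker_iff_generic {k : Type u} [Field k] (p : ℕ) [Fact p.Prime] [CharP k p]
    {R : Type u} [CommRing R] [Algebra k R] (b : R) :
    b ∈ PolLaw.ker (PolLaw.MulLaw.pow R R p).law ↔ b ^ p = 0 := by
  constructor
  · intro hb
    have h := hb R (0 : R ⊗[R] R) 1
    change ((0 : R ⊗[R] R) + 1 * (1 ⊗ₜ[R] b)) ^ p = (0 : R ⊗[R] R) ^ p at h
    rw [zero_add, one_mul, zero_pow (Fact.out : p.Prime).ne_zero,
      Algebra.TensorProduct.tmul_pow, one_pow] at h
    have h2 := congrArg (TensorProduct.lid R R) h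
    rw [TensorProduct.lid_tmul, map_zero, one_smul] at h2
    exact h2
  · intro hb S _ _ x w
    change (x + w * (1 ⊗ₜ[R] b)) ^ p = x ^ p
    rw [add_pow_char_of_ringHom p ((algebraMap S (S ⊗[R] R)).comp ((algebraMap R S).comp (algebraMap k R))),
      mul_pow, Algebra.TensorProduct.tmul_pow, hb, TensorProduct.tmul_zero, mul_zero, add_zero]

section
variable {k : Type u} [Field k] (p : ℕ) [Fact p.Prime] [CharP k p]

local notation "P" => MvPolynomial ℕ k
local notation "I" => Ideal.span (Set.range fun i : ℕ => (MvPolynomial.X i : MvPolynomial ℕ k) ^ p)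
local notation "A" => MvPolynomial ℕ k ⧸ Ideal.span (Set.range fun i : ℕ => (MvPolynomial.X i : MvPolynomial ℕ k) ^ p)

theorem aeval_eq_zero_of_mem {R : Type*} [CommRing R] [Algebra k R] (g : ℕ → R) (hg : ∀ i, g i ^ p = 0)
    (a : P) (ha : a ∈ I) : MvPolynomial.aeval g a = 0 := by
  have hle : I ≤ RingHom.ker (MvPolynomial.aeval g : P →ₐ[k] R).toRingHom := by
    rw [Ideal.span_le]
    rintro _ ⟨i, rfl⟩
    simp [RingHom.mem_ker, hg]
  exact hle ha

/-- augmentation -/
noncomputable def aug : A →ₐ[k] k :=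
  Ideal.Quotient.liftₐ I (MvPolynomial.aeval (fun _ => (0 : k)))
    (aeval_eq_zero_of_mem p _ (fun _ => zero_pow (Fact.out : p.Prime).ne_zero))

theorem aug_mk (F : P) : aug p (Ideal.Quotient.mk I F) = MvPolynomial.constantCoeff F := by
  show MvPolynomial.aeval (fun _ : ℕ => (0 : k)) F = _
  rw [MvPolynomial.aeval_eq_constantCoeff_of_vars (fun _ _ => rfl)]
  rfl

theorem mem_span_X_of_constantCoeff (F : P) (h : MvPolynomial.constantCoeff F = 0) :
    F ∈ Ideal.span (Set.range fun i : ℕ => (MvPolynomial.X i : P)) := by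
  have : (Set.range fun i : ℕ => (MvPolynomial.X i : P)) = MvPolynomial.X '' (Set.univ : Set ℕ) := by
    rw [Set.image_univ]
  rw [this, MvPolynomial.mem_ideal_span_X_image]
  intro m hm
  by_contra hcon
  push Not at hcon
  have hm0 : m = 0 := by
    ext i
    simpa using hcon i (Set.mem_univ i)
  rw [hm0, MvPolynomial.mem_support_iff] at hm
  exact hm h

theorem pow_eq_zero_of_mem (b : A)
    (hb : b ∈ (Ideal.span (Set.range fun i : ℕ => (MvPolynomial.X i : P))).map (Ideal.Quotient.mk I)) :
    b ^ p = 0 := by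
  rw [Ideal.map_span] at hb
  refine Submodule.span_induction (p := fun b _ => b ^ p = 0) ?_ ?_ ?_ ?_ hb
  · rintro _ ⟨_, ⟨i, rfl⟩, rfl⟩
    rw [← map_pow]
    exact Ideal.Quotient.eq_zero_iff_mem.mpr (Ideal.subset_span ⟨i, rfl⟩)
  · exact zero_pow (Fact.out : p.Prime).ne_zero
  · intro x y _ _ hx hy
    rw [add_pow_char_of_ringHom p (algebraMap k A), hx, hy, add_zero]
  · intro a x _ hx
    rw [smul_eq_mul, mul_pow, hx, mul_zero]

theorem mem_of_pow_eq_zero (b : A) (hb : b ^ p = 0) :
    b ∈ (Ideal.span (Set.range fun i : ℕ => (MvPolynomial.X i : P))).map (Ideal.Quotient.mk I) := by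
  obtain ⟨F, rfl⟩ := Ideal.Quotient.mk_surjective b
  have h1 : aug p (Ideal.Quotient.mk I F) = 0 := by
    have := congrArg (aug p) hb
    rw [map_pow, map_zero] at this
    exact pow_eq_zero_iff (Fact.out : p.Prime).ne_zero |>.mp this
  rw [aug_mk] at h1
  exact Ideal.mem_map_of_mem _ (mem_span_X_of_constantCoeff F h1)

theorem mem_ker_iff (b : A) : b ∈ PolLaw.ker (PolLaw.MulLaw.pow A A p).law ↔ b ^ p = 0 :=
  mem_ker_iff_generic (k := k) p b

theorem ker_eq : PolLaw.ker (PolLaw.MulLaw.pow A A p).law =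
    (Ideal.span (Set.range fun i : ℕ => (MvPolynomial.X i : P))).map (Ideal.Quotient.mk I) := by
  ext b
  rw [mem_ker_iff]
  exact ⟨mem_of_pow_eq_zero p b, pow_eq_zero_of_mem p b⟩

open DualNumber in
theorem not_fg : ¬ ((Ideal.span (Set.range fun i : ℕ => (MvPolynomial.X i : P))).map (Ideal.Quotient.mk I)).FG := by
  rintro ⟨s, hs⟩
  choose rep hrep using fun f : A => Ideal.Quotient.mk_surjective f
  obtain ⟨N, hN⟩ := Infinite.exists_notMem_finset (s.biUnion fun f => (rep f).vars)
  let g : ℕ → DualNumber k := fun i => if i = N then ε else 0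
  have hgp : ∀ i, g i ^ p = 0 := by
    intro i
    have h2 : 2 ≤ p := (Fact.out : p.Prime).two_le
    by_cases hi : i = N
    · simp only [g, if_pos hi]
      obtain ⟨c, rfl⟩ := Nat.exists_eq_add_of_le h2
      rw [pow_add, DualNumber.eps_pow_two, zero_mul]
    · simp only [g, if_neg hi]
      exact zero_pow (Fact.out : p.Prime).ne_zero
  let φ : A →ₐ[k] DualNumber k :=
    Ideal.Quotient.liftₐ I (MvPolynomial.aeval g) (aeval_eq_zero_of_mem p g hgp)
  have hφmk : ∀ F : P, φ (Ideal.Quotient.mk I F) = MvPolynomial.aeval g F := by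
    intro F
    rfl
  have hker : (Ideal.span (s : Set A)) ≤ RingHom.ker φ.toRingHom := by
    rw [Ideal.span_le]
    intro f hf
    have hfm : f ∈ (Ideal.span (Set.range fun i : ℕ => (MvPolynomial.X i : P))).map (Ideal.Quotient.mk I) := by
      rw [← hs]; exact Ideal.subset_span hf
    have hpow := pow_eq_zero_of_mem p f hfm
    have haug : aug p f = 0 := by
      have := congrArg (aug p) hpow
      rw [map_pow, map_zero] at this
      exact pow_eq_zero_iff (Fact.out : p.Prime).ne_zero |>.mp this
    rw [← hrep f, aug_mk] at haug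
    show φ f = 0
    rw [← hrep f, hφmk, MvPolynomial.aeval_eq_constantCoeff_of_vars, haug, map_zero]
    intro i hi
    have : i ≠ N := by
      rintro rfl
      exact hN (Finset.mem_biUnion.mpr ⟨f, hf, hi⟩)
    simp only [g, if_neg this]
  have hXN : (Ideal.Quotient.mk I (MvPolynomial.X N)) ∈ Ideal.span (s : Set A) := by
    rw [hs]
    exact Ideal.mem_map_of_mem _ (Ideal.subset_span ⟨N, rfl⟩)
  have := hker hXN
  change φ (Ideal.Quotient.mk I (MvPolynomial.X N)) = 0 at this
  rw [hφmk, MvPolynomial.aeval_X] at this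
  simp only [g, if_pos rfl] at this
  have h1 : (1 : k) = 0 := by
    have := congrArg TrivSqZeroExt.snd this
    simpa using this
  exact one_ne_zero h1

theorem main :
    PolLaw.ker (PolLaw.MulLaw.pow A A p).law =
      (Ideal.span (Set.range fun i : ℕ => (MvPolynomial.X i : MvPolynomial ℕ k))).map
        (Ideal.Quotient.mk I) ∧
    ¬ (PolLaw.ker (PolLaw.MulLaw.pow A A p).law).FG := by
  refine ⟨ker_eq p, ?_⟩
  rw [ker_eq p]
  exact not_fg p

end

end aux

/-- Let k be a field of characteristic p > 0 and A = k[t_i : i ∈ ℕ]/(t_i^p : i ∈ ℕ). The law x ↦ x^p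
from A to A is multiplicative and homogeneous of degree p over A; its kernel is the ideal generated
by the classes of the variables t_i, and this ideal is not finitely generated. Hence the image of a
family of zero-cycles need not be of finite presentation over the base even when X → S is. -/
theorem result {k : Type u} [Field k] (p : ℕ) [Fact p.Prime] [CharP k p] :
    PolLaw.ker (PolLaw.MulLaw.pow
        (MvPolynomial ℕ k ⧸ Ideal.span (Set.range fun i : ℕ => (MvPolynomial.X i : MvPolynomial ℕ k) ^ p))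
        (MvPolynomial ℕ k ⧸ Ideal.span (Set.range fun i : ℕ => (MvPolynomial.X i : MvPolynomial ℕ k) ^ p)) p).law =
      (Ideal.span (Set.range fun i : ℕ => (MvPolynomial.X i : MvPolynomial ℕ k))).map
        (Ideal.Quotient.mk (Ideal.span (Set.range fun i : ℕ => (MvPolynomial.X i : MvPolynomial ℕ k) ^ p))) ∧
    ¬ (PolLaw.ker (PolLaw.MulLaw.pow
        (MvPolynomial ℕ k ⧸ Ideal.span (Set.range fun i : ℕ => (MvPolynomial.X i : MvPolynomial ℕ k) ^ p))
        (MvPolynomial ℕ k ⧸ Ideal.span (Set.range fun i : ℕ => (MvPolynomial.X i : MvPolynomial ℕ k) ^ p)) p).law).FG := by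
  exact main p

end Groth.Agent.S13726
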