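import Groth.Statements.S13728
-- import your own Groth.Agent.* helpers here
import Groth.Agent.Lib.Helper23.PiTensorColim

set_option autoImplicit false
universe u
open scoped TensorProduct
open ZeroCyc

namespace Groth.Agent.S13728

/-- The functor B ↦ TS^d_A(B) (symmetric tensors of degree d, the invariants of the symmetric group in
the d-fold tensor power) commutes with filtered direct limits. Concretely, let B be the direct limit
of a directed system (B_i, t_ij : B_i → B_j) of commutative algebras over the commutative ring A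
(t_ii the identity, t_jk ∘ t_ij = t_ik) with structure maps φ_i : B_i → B (compatible with the t_ij,
jointly surjective, and an element of B_i vanishing in B vanishes in some B_j). Then every element
of TS^d_A(B) is the image of an element of some TS^d_A(B_i), and an element of TS^d_A(B_i) whose
image in TS^d_A(B) is zero has image zero in TS^d_A(B_j) for some j ≥ i. -/
theorem result {A : Type u} [CommRing A] {B : Type u} [CommRing B] [Algebra A B]
    {ι : Type u} [Preorder ι] [IsDirected ι (fun i j => i ≤ j)] [Nonempty ι]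
    (Bi : ι → Type u) [∀ i, CommRing (Bi i)] [∀ i, Algebra A (Bi i)]
    (t : ∀ i j : ι, i ≤ j → (Bi i →ₐ[A] Bi j)) (φ : ∀ i : ι, Bi i →ₐ[A] B)
    (hcomp : ∀ (i j : ι) (h : i ≤ j), (φ j).comp (t i j h) = φ i)
    (hsurj : ∀ b : B, ∃ (i : ι) (x : Bi i), φ i x = b)
    (hzero : ∀ (i : ι) (x : Bi i), φ i x = 0 → ∃ (j : ι) (h : i ≤ j), t i j h x = 0)
    (hid : ∀ (i : ι) (h : i ≤ i), t i i h = AlgHom.id A (Bi i))
    (htrans : ∀ (i j k : ι) (hij : i ≤ j) (hjk : j ≤ k), (t j k hjk).comp (t i j hij) = t i k (hij.trans hjk)) (d : ℕ) :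
    (∀ z : SymTen.TS A B d, ∃ (i : ι) (y : SymTen.TS A (Bi i) d), SymTen.TSmap A d (φ i) y = z) ∧
      ∀ (i : ι) (y : SymTen.TS A (Bi i) d), SymTen.TSmap A d (φ i) y = 0 →
        ∃ (j : ι) (h : i ≤ j), SymTen.TSmap A d (t i j h) y = 0 := by
  classical
  have htm : ∀ {X Y : Type u} [CommRing X] [CommRing Y] [Algebra A X] [Algebra A Y] (f : X →ₐ[A] Y)
      (x : ⨂[A] _ : Fin d, X), SymTen.tmap A d f x
        = PiTensorProduct.map (fun _ : Fin d => f.toLinearMap) x := by
    intro X Y _ _ _ _ f x
    induction x using PiTensorProduct.induction_on with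
    | smul_tprod r g => simp [PiTensorProduct.map_tprod]
    | add x y hx hy => simp [hx, hy]
  have H : Groth.Agent.Lib.Helper23.PiTensorColim.IsColim (A := A)
      (fun i j h => (t i j h).toLinearMap) (fun i => (φ i).toLinearMap) := by
    refine ⟨?_, hsurj, hzero, ?_⟩
    · intro i j h
      ext x
      exact DFunLike.congr_fun (hcomp i j h) x
    · intro i j k hij hjk
      ext x
      exact DFunLike.congr_fun (htrans i j k hij hjk) x
  have hinj : ∀ (i : ι) (y : ⨂[A] _ : Fin d, Bi i), SymTen.tmap A d (φ i) y = 0 →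
      ∃ (j : ι) (h : i ≤ j), SymTen.tmap A d (t i j h) y = 0 := by
    intro i y hy
    rw [htm] at hy
    obtain ⟨j, h, e⟩ := Groth.Agent.Lib.Helper23.PiTensorColim.map_eq_zero H i y hy
    exact ⟨j, h, by rw [htm]; exact e⟩
  have htt : ∀ (i j k : ι) (hij : i ≤ j) (hjk : j ≤ k) (y : ⨂[A] _ : Fin d, Bi i),
      SymTen.tmap A d (t j k hjk) (SymTen.tmap A d (t i j hij) y)
        = SymTen.tmap A d (t i k (hij.trans hjk)) y := by
    intro i j k hij hjk y
    rw [← htrans i j k hij hjk]
    induction y using PiTensorProduct.induction_on with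
    | smul_tprod r g => simp
    | add x y hx hy => simp [hx, hy]
  have hφt : ∀ (i j : ι) (hij : i ≤ j) (y : ⨂[A] _ : Fin d, Bi i),
      SymTen.tmap A d (φ j) (SymTen.tmap A d (t i j hij) y) = SymTen.tmap A d (φ i) y := by
    intro i j hij y
    rw [← hcomp i j hij]
    induction y using PiTensorProduct.induction_on with
    | smul_tprod r g => simp
    | add x y hx hy => simp [hx, hy]
  refine ⟨?_, ?_⟩
  · intro z
    obtain ⟨i, y0, hy0⟩ := Groth.Agent.Lib.Helper23.PiTensorColim.exists_map_eq H (K := Fin d) z.1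
    rw [← htm] at hy0
    have hσ : ∀ σ : Equiv.Perm (Fin d), ∃ (j : ι) (h : i ≤ j), SymTen.tmap A d (t i j h)
        (PiTensorProduct.reindex A (fun _ : Fin d => Bi i) σ y0 - y0) = 0 := by
      intro σ
      apply hinj
      rw [map_sub, SymTen.tmap_reindex, hy0, z.2 σ, sub_self]
    choose j hj hjσ using hσ
    obtain ⟨m, hm⟩ := Finite.exists_le j
    obtain ⟨m', him', hmm'⟩ := exists_ge_ge i m
    refine ⟨m', ⟨SymTen.tmap A d (t i m' him') y0, ?_⟩, ?_⟩
    · intro σ
      rw [← SymTen.tmap_reindex]
      have := hjσ σ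
      have h2 := congrArg (SymTen.tmap A d (t (j σ) m' ((hm σ).trans hmm'))) this
      rw [htt, map_zero, map_sub, sub_eq_zero] at h2
      exact h2
    · apply Subtype.ext
      show SymTen.tmap A d (φ m') (SymTen.tmap A d (t i m' him') y0) = z.1
      rw [hφt, hy0]
  · intro i y hy
    have hy' : SymTen.tmap A d (φ i) y.1 = 0 := congrArg Subtype.val hy
    obtain ⟨j, h, e⟩ := hinj i y.1 hy'
    exact ⟨j, h, Subtype.ext e⟩

end Groth.Agent.S13728
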