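import Groth.Statements.S1375
import Groth.Agent.Lib.Helper21.LqfCover

set_option autoImplicit false
universe u
open FlatMor

namespace Groth.Agent.S1375

open AlgebraicGeometry CategoryTheory Limits in
/-- Let S' → S be flat, locally of finite presentation and surjective (an fppf cover by one morphism).
Then there is a flat, locally of finite presentation, locally quasi-finite and surjective T → S
which factors through S' locally on T. -/
theorem result {S' S : Scheme.{u}} (g : S' ⟶ S) [Flat g] [LocallyOfFinitePresentation g] [Surjective g] :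
    ∃ (T : Scheme.{u}) (h : T ⟶ S), Flat h ∧ LocallyOfFinitePresentation h ∧ LocallyQuasiFinite h ∧ Surjective h ∧
      ∀ t : ↑T, ∃ (V : T.Opens) (r : ↑V ⟶ S'), t ∈ V ∧ r ≫ g = V.ι ≫ h := by
  obtain ⟨T, h, h1, h2, h3, h4, -⟩ :=
    Groth.Agent.Lib.Helper21.LqfCover.exists_lqf_flat_cover g
  refine ⟨T, h ≫ g, h1, h2, h3, h4, fun t => ⟨⊤, (⊤ : T.Opens).ι ≫ h, trivial, ?_⟩⟩
  rw [Category.assoc]

end Groth.Agent.S1375
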