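import Groth.Statements.S13757
import Mathlib.Tactic
-- import your own Groth.Agent.* helpers here

set_option autoImplicit false
universe u
open LabGraph

namespace Groth.Agent.S13757

/-- Let G be a finite connected multigraph (loops and multiple edges allowed) with vertex set V, edge
set E, endpoint map E → V × V and a labelling of the edges by positive integers l. A vertex
labelling φ : V → ℤ is Cartier when l(e) divides the difference of the values of φ at the two
endpoints of every edge e; its multidegree is the vertex labelling whose value at v is the sum, over
the edge-ends at v, of (value of φ at the other endpoint − φ(v)) / l(e). Then the Cartier vertex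
labellings of multidegree zero are exactly the constant ones: the kernel of the multidegree operator
on Cartier labellings is ℤ, embedded as the constants. -/
theorem result
    {V E : Type u} [Fintype V] [Fintype E] [DecidableEq V] [DecidableEq E]
    (ends : E → V × V) (l : E → ℕ) (hl : ∀ e, 0 < l e) (hconn : LabGraph.Connected ends)
    (φ : V → ℤ) (hφ : LabGraph.IsCartier ends l φ) :
    (∀ v : V, LabGraph.mdeg ends l φ v = 0) ↔ ∀ v w : V, φ v = φ w := by
  constructor
  · intro h
    obtain ⟨hne, hc⟩ := hconn
    obtain ⟨v0, hv0⟩ := Finite.exists_max φ
    have hstep : ∀ v w : V, φ v = φ v0 → Adj ends v w → φ w = φ v0 := by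
      intro v w hv hadj
      have hm := h v
      unfold mdeg at hm
      have hnonpos : ∀ e ∈ (Finset.univ : Finset E),
          ((if (ends e).1 = v then (φ (ends e).2 - φ (ends e).1) / (l e : ℤ) else 0) +
          (if (ends e).2 = v then (φ (ends e).1 - φ (ends e).2) / (l e : ℤ) else 0)) ≤ 0 := by
        intro e _
        have hle : (0 : ℤ) < (l e : ℤ) := by exact_mod_cast hl e
        apply add_nonpos
        · split_ifs with h1
          · apply Int.ediv_nonpos_of_nonpos_of_neg _ hle
            rw [h1, hv]
            linarith [hv0 (ends e).2]
          · exact le_refl _
        · split_ifs with h1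
          · apply Int.ediv_nonpos_of_nonpos_of_neg _ hle
            rw [h1, hv]
            linarith [hv0 (ends e).1]
          · exact le_refl _
      have hzero := (Finset.sum_eq_zero_iff_of_nonpos hnonpos).mp hm
      obtain ⟨e, he | he⟩ := hadj
      · have h0 := hzero e (Finset.mem_univ e)
        have hle : (0 : ℤ) < (l e : ℤ) := by exact_mod_cast hl e
        have ha : (if (ends e).1 = v then (φ (ends e).2 - φ (ends e).1) / (l e : ℤ) else 0) ≤ 0 := by
          split_ifs with h1
          · apply Int.ediv_nonpos_of_nonpos_of_neg _ hle
            rw [h1, hv]
            linarith [hv0 (ends e).2]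
          · exact le_refl _
        have hb : (if (ends e).2 = v then (φ (ends e).1 - φ (ends e).2) / (l e : ℤ) else 0) ≤ 0 := by
          split_ifs with h1
          · apply Int.ediv_nonpos_of_nonpos_of_neg _ hle
            rw [h1, hv]
            linarith [hv0 (ends e).1]
          · exact le_refl _
        have ha0 : (if (ends e).1 = v then (φ (ends e).2 - φ (ends e).1) / (l e : ℤ) else 0) = 0 := by
          linarith
        have he1 : (ends e).1 = v := by rw [he]
        have he2 : (ends e).2 = w := by rw [he]
        rw [if_pos he1, he1, he2] at ha0
        have hdvd : (l e : ℤ) ∣ φ w - φ v := by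
          have := hφ e
          rw [he1, he2] at this
          rw [← neg_sub]
          exact (dvd_neg).mpr this
        have := Int.eq_zero_of_ediv_eq_zero hdvd ha0
        linarith
      · have h0 := hzero e (Finset.mem_univ e)
        have hle : (0 : ℤ) < (l e : ℤ) := by exact_mod_cast hl e
        have ha : (if (ends e).1 = v then (φ (ends e).2 - φ (ends e).1) / (l e : ℤ) else 0) ≤ 0 := by
          split_ifs with h1
          · apply Int.ediv_nonpos_of_nonpos_of_neg _ hle
            rw [h1, hv]
            linarith [hv0 (ends e).2]
          · exact le_refl _
        have hb : (if (ends e).2 = v then (φ (ends e).1 - φ (ends e).2) / (l e : ℤ) else 0) ≤ 0 := by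
          split_ifs with h1
          · apply Int.ediv_nonpos_of_nonpos_of_neg _ hle
            rw [h1, hv]
            linarith [hv0 (ends e).1]
          · exact le_refl _
        have hb0 : (if (ends e).2 = v then (φ (ends e).1 - φ (ends e).2) / (l e : ℤ) else 0) = 0 := by
          linarith
        have he1 : (ends e).1 = w := by rw [he]
        have he2 : (ends e).2 = v := by rw [he]
        rw [if_pos he2, he1, he2] at hb0
        have hdvd : (l e : ℤ) ∣ φ w - φ v := by
          have := hφ e
          rw [he1, he2] at this
          exact this
        have := Int.eq_zero_of_ediv_eq_zero hdvd hb0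
        linarith
    have hall : ∀ w : V, φ w = φ v0 := by
      intro w
      have := hc v0 w
      induction this with
      | refl => rfl
      | tail _ hadj ih => exact hstep _ _ ih hadj
    intro v w
    rw [hall v, hall w]
  · intro h v
    unfold mdeg
    apply Finset.sum_eq_zero
    intro e _
    rw [h (ends e).2 (ends e).1]
    simp

end Groth.Agent.S13757
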