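import Groth.Statements.S13759
import Mathlib

set_option autoImplicit false
universe u
open LabGraph

namespace Groth.Agent.S13759

set_option linter.unusedSectionVars false

section Helpers
open LabGraph

variable {V E : Type u} [Fintype V] [Fintype E] [DecidableEq V] [DecidableEq E]
  (ends : E → V × V) (l : E → ℕ)

theorem pv_zero (e : E) : pathVert ends l e 0 = Sum.inl (ends e).1 := by
  unfold pathVert; rw [dif_pos rfl]

theorem pv_mid (e : E) (j : ℕ) (h0 : 0 < j) (h : j < l e) :
    pathVert ends l e j = Sum.inr ⟨e, ⟨j - 1, by omega⟩⟩ := by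
  unfold pathVert; rw [dif_neg (by omega), dif_pos h]

theorem pv_top (e : E) (j : ℕ) (h0 : 0 < j) (h : l e ≤ j) :
    pathVert ends l e j = Sum.inl (ends e).2 := by
  unfold pathVert; rw [dif_neg (by omega), dif_neg (by omega)]

theorem pv_eq_inl (e : E) (j : ℕ) (v : V) :
    pathVert ends l e j = Sum.inl v ↔ (j = 0 ∧ (ends e).1 = v) ∨ (0 < j ∧ l e ≤ j ∧ (ends e).2 = v) := by
  rcases Nat.eq_zero_or_pos j with rfl | h0
  · rw [pv_zero]; simp
  · by_cases h : j < l e
    · rw [pv_mid ends l e j h0 h]
      constructor
      · intro h'; exact absurd h' (by simp)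
      · rintro (⟨h1, -⟩ | ⟨-, h2, -⟩) <;> omega
    · rw [pv_top ends l e j h0 (by omega)]
      constructor
      · intro h'
        right
        exact ⟨h0, by omega, Sum.inl_injective h'⟩
      · rintro (⟨h1, -⟩ | ⟨-, -, h3⟩)
        · omega
        · rw [h3]

theorem pv_eq_inr (e : E) (j : ℕ) (e0 : E) (i : Fin (l e0 - 1)) :
    pathVert ends l e j = Sum.inr ⟨e0, i⟩ ↔ e = e0 ∧ j = (i : ℕ) + 1 := by
  rcases Nat.eq_zero_or_pos j with rfl | h0
  · rw [pv_zero]
    constructor
    · intro h'; exact absurd h' (by simp)
    · rintro ⟨-, h⟩; omega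
  · by_cases h : j < l e
    · rw [pv_mid ends l e j h0 h]
      constructor
      · intro h'
        have h1 := Sum.inr_injective h'
        have h2 : e = e0 := congrArg Sigma.fst h1
        subst h2
        have h3 := eq_of_heq (Sigma.mk.inj h1).2
        have h4 := congrArg Fin.val h3
        simp only at h4
        exact ⟨rfl, by omega⟩
      · rintro ⟨rfl, h2⟩
        congr 2
        apply Fin.ext
        simp only
        omega
    · rw [pv_top ends l e j h0 (by omega)]
      constructor
      · intro h'; exact absurd h' (by simp)
      · rintro ⟨rfl, h2⟩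
        have := i.2
        omega

/-- the blow-up multidegree as a double sum -/
theorem mdeg_bl (ψ : BlVert V E l → ℤ) (w : BlVert V E l) :
    mdeg (blEnds ends l) (fun _ => 1) ψ w =
      ∑ e : E, ∑ k : Fin (l e),
        ((if pathVert ends l e k = w then
            ψ (pathVert ends l e (k + 1)) - ψ (pathVert ends l e k) else 0) +
         (if pathVert ends l e (k + 1) = w then
            ψ (pathVert ends l e k) - ψ (pathVert ends l e (k + 1)) else 0)) := by
  unfold mdeg
  rw [Fintype.sum_sigma]
  refine Finset.sum_congr rfl fun e _ => Finset.sum_congr rfl fun k _ => ?_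
  simp only [blEnds, Nat.cast_one, Int.ediv_one]

end Helpers

/-- Let G be a finite connected multigraph with vertex set V, edge set E, endpoint map E → V × V and
positive integer edge labels l, and let G̃ be its total blow-up graph: every edge e is replaced by a
path of l(e) edges through l(e) − 1 new vertices, all new edges labelled 1 (so every vertex
labelling of G̃ is Cartier and its multidegree is the sum over edge-ends of the differences of
values). Let H, resp. H̃, be the cokernel of the multidegree operator from Cartier vertex labellings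
of G to ℤ^V, resp. of G̃ to ℤ^Ṽ, and ε : H → H̃ the map induced by extending vertex labellings of G
by zero on the new vertices. Then ε is injective: if a vertex labelling α of G, extended by zero, is
the multidegree of some vertex labelling of G̃, then α is the multidegree of some Cartier vertex
labelling of G. -/
theorem result
    {V E : Type u} [Fintype V] [Fintype E] [DecidableEq V] [DecidableEq E]
    (ends : E → V × V) (l : E → ℕ) (hl : ∀ e, 0 < l e) (hconn : LabGraph.Connected ends)
    (α : V → ℤ) (ψ : LabGraph.BlVert V E l → ℤ)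
    (hψ : ∀ w : LabGraph.BlVert V E l,
      LabGraph.mdeg (LabGraph.blEnds ends l) (fun _ => 1) ψ w = Sum.elim α (fun _ => (0 : ℤ)) w) :
    ∃ φ : V → ℤ, LabGraph.IsCartier ends l φ ∧ ∀ v : V, LabGraph.mdeg ends l φ v = α v := by
  classical
  let P : E → ℕ → ℤ := fun e j => ψ (LabGraph.pathVert ends l e j)
  -- (a) second difference vanishes at interior points
  have ha : ∀ e (j : ℕ), 0 < j → j < l e → (P e (j - 1) - P e j) + (P e (j + 1) - P e j) = 0 := by
    intro e0 j h0 hj
    have hw := hψ (Sum.inr ⟨e0, ⟨j - 1, by omega⟩⟩)
    rw [mdeg_bl] at hw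
    simp only [Sum.elim_inr] at hw
    rw [Finset.sum_eq_single e0] at hw
    · rw [Finset.sum_add_distrib] at hw
      rw [Finset.sum_eq_single ⟨j, hj⟩, Finset.sum_eq_single ⟨j - 1, by omega⟩] at hw
      · have e1 : LabGraph.pathVert ends l e0 j = Sum.inr ⟨e0, ⟨j - 1, by omega⟩⟩ :=
          pv_mid ends l e0 j h0 hj
        simp only [] at hw
        rw [if_pos e1, if_pos (by rw [Nat.sub_add_cancel h0]; exact e1), Nat.sub_add_cancel h0] at hw
        show (ψ _ - ψ _) + (ψ _ - ψ _) = 0
        linarith
      · intro k _ hk
        rw [if_neg]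
        rw [pv_eq_inr]
        rintro ⟨-, h⟩
        apply hk
        apply Fin.ext
        simp only at h ⊢
        omega
      · intro h; exact absurd (Finset.mem_univ _) h
      · intro k _ hk
        rw [if_neg]
        rw [pv_eq_inr]
        rintro ⟨-, h⟩
        apply hk
        apply Fin.ext
        simp only at h ⊢
        omega
      · intro h; exact absurd (Finset.mem_univ _) h
    · intro e _ he
      refine Finset.sum_eq_zero fun k _ => ?_
      rw [if_neg, if_neg, add_zero]
      · rw [pv_eq_inr]; rintro ⟨h, -⟩; exact he h
      · rw [pv_eq_inr]; rintro ⟨h, -⟩; exact he h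
    · intro h; exact absurd (Finset.mem_univ _) h
  -- arithmetic progression
  let δ : E → ℤ := fun e => P e 1 - P e 0
  have hAP : ∀ e (j : ℕ), j ≤ l e → P e j = P e 0 + j * δ e := by
    intro e j
    induction j using Nat.strong_induction_on with
    | _ j ih =>
      intro hj
      rcases j with _ | _ | j
      · simp
      · simp [δ]
      · have h1 := ih (j + 1) (by omega) (by omega)
        have h0 := ih j (by omega) (by omega)
        have h2 := ha e (j + 1) (by omega) (by omega)
        simp only [Nat.add_sub_cancel] at h2
        push_cast at h1 h0 ⊢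
        linarith
  -- (b) multidegree at old vertices
  have hb : ∀ v : V, α v = ∑ e : E, ((if (ends e).1 = v then δ e else 0) +
      (if (ends e).2 = v then - δ e else 0)) := by
    intro v
    have hw := hψ (Sum.inl v)
    rw [mdeg_bl] at hw
    simp only [Sum.elim_inl] at hw
    rw [← hw]
    refine Finset.sum_congr rfl fun e _ => ?_
    rw [Finset.sum_add_distrib]
    congr 1
    · rw [Finset.sum_eq_single ⟨0, hl e⟩]
      · by_cases hv : (ends e).1 = v
        · rw [if_pos hv, if_pos ((pv_eq_inl ends l e _ v).mpr (Or.inl ⟨rfl, hv⟩))]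
        · rw [if_neg hv, if_neg]
          rw [pv_eq_inl]
          rintro (⟨-, h⟩ | ⟨h, -⟩)
          · exact hv h
          · simp at h
      · intro k _ hk
        rw [if_neg]
        rw [pv_eq_inl]
        rintro (⟨h, -⟩ | ⟨-, h, -⟩)
        · exact hk (Fin.ext h)
        · have := k.2; omega
      · intro h; exact absurd (Finset.mem_univ _) h
    · rw [Finset.sum_eq_single ⟨l e - 1, by have := hl e; omega⟩]
      · have hle : l e - 1 + 1 = l e := by have := hl e; omega
        by_cases hv : (ends e).2 = v
        · rw [if_pos hv, if_pos ((pv_eq_inl ends l e _ v).mpr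
            (Or.inr ⟨by simp, by simp only [hle]; exact le_rfl, hv⟩))]
          have h1 := hAP e (l e - 1) (by omega)
          have h2 := hAP e (l e) le_rfl
          have hc : ((l e - 1 : ℕ) : ℤ) = (l e : ℤ) - 1 := by
            have := hl e
            push_cast [Nat.cast_sub this]; ring
          show P e (l e - 1) - P e (l e - 1 + 1) = - δ e
          rw [hle, h1, h2, hc]; ring
        · rw [if_neg hv, if_neg]
          rw [pv_eq_inl]
          rintro (⟨h, -⟩ | ⟨-, -, h⟩)
          · simp at h
          · exact hv h
      · intro k _ hk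
        rw [if_neg]
        rw [pv_eq_inl]
        rintro (⟨h, -⟩ | ⟨-, h, -⟩)
        · omega
        · apply hk
          apply Fin.ext
          have := k.2
          simp only
          omega
      · intro h; exact absurd (Finset.mem_univ _) h
  -- conclusion
  have hdiff : ∀ e, ψ (Sum.inl (ends e).2) - ψ (Sum.inl (ends e).1) = (l e : ℤ) * δ e := by
    intro e
    have h2 := hAP e (l e) le_rfl
    have e0 : P e 0 = ψ (Sum.inl (ends e).1) := by
      show ψ _ = _; rw [pv_zero]
    have el : P e (l e) = ψ (Sum.inl (ends e).2) := by
      show ψ _ = _; rw [pv_top ends l e (l e) (hl e) le_rfl]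
    rw [← e0, ← el, h2]; ring
  refine ⟨fun v => ψ (Sum.inl v), ?_, ?_⟩
  · intro e
    refine ⟨- δ e, ?_⟩
    have := hdiff e
    simp only
    linarith
  · intro v
    rw [hb v]
    unfold LabGraph.mdeg
    refine Finset.sum_congr rfl fun e _ => ?_
    have hle : (l e : ℤ) ≠ 0 := by have := hl e; positivity
    have h1 : (ψ (Sum.inl (ends e).2) - ψ (Sum.inl (ends e).1)) / (l e : ℤ) = δ e := by
      rw [hdiff e, Int.mul_ediv_cancel_left _ hle]
    have h2 : (ψ (Sum.inl (ends e).1) - ψ (Sum.inl (ends e).2)) / (l e : ℤ) = - δ e := by
      have : ψ (Sum.inl (ends e).1) - ψ (Sum.inl (ends e).2) = (l e : ℤ) * (- δ e) := by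
        have := hdiff e; linarith
      rw [this, Int.mul_ediv_cancel_left _ hle]
    simp only [h1, h2]

end Groth.Agent.S13759
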