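import Groth.Statements.S1376
import Groth.Agent.Lib.Helper13.ZMTFinMain

set_option autoImplicit false
universe u
open FlatMor

namespace Groth.Agent.S1376

open AlgebraicGeometry CategoryTheory Limits in
/-- Let S be quasi-compact and quasi-separated, U a quasi-compact open of S and V → U a surjective
finite morphism. Then there is a surjective finite morphism V' → S whose base change to U is V (V is
the fibre product of V' and U over S). -/
theorem result {S V : Scheme.{u}} [CompactSpace ↑S] [QuasiSeparatedSpace ↑S] (U : S.Opens) (hU : IsCompact (U : Set ↑S))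
    (v : V ⟶ (U : Scheme.{u})) [IsFinite v] [Surjective v] :
    ∃ (V' : Scheme.{u}) (π : V' ⟶ S) (i : V ⟶ V'), Surjective π ∧ IsFinite π ∧ IsPullback i v π U.ι := by
  haveI : CompactSpace U := isCompact_iff_compactSpace.mp hU
  haveI : QuasiCompact U.ι := inferInstance
  set f := v ≫ U.ι with hf
  obtain ⟨T, j, π₀, hj, -, hjd, hπ₀, e⟩ :=
    Groth.Agent.Lib.Helper13.ZMTFin.exists_finite_factorization f
  haveI := hj
  haveI := hjd
  haveI := hπ₀
  -- the range of `j` is the preimage of `U`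
  have hrange : Set.range j = π₀ ⁻¹' (U : Set S) := by
    apply Set.Subset.antisymm
    · rintro _ ⟨y, rfl⟩
      change π₀ (j y) ∈ U
      rw [← Scheme.Hom.comp_apply, e, hf, Scheme.Hom.comp_apply]
      exact (v y).2
    · have hsub : Set.range j ⊆ Set.range (π₀ ⁻¹ᵁ U).ι := by
        rintro _ ⟨y, rfl⟩
        rw [Scheme.Opens.range_ι]
        change π₀ (j y) ∈ U
        rw [← Scheme.Hom.comp_apply, e, hf, Scheme.Hom.comp_apply]
        exact (v y).2
      let a : V ⟶ (π₀ ⁻¹ᵁ U).toScheme := IsOpenImmersion.lift (π₀ ⁻¹ᵁ U).ι j hsub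
      have ha : a ≫ (π₀ ⁻¹ᵁ U).ι = j := IsOpenImmersion.lift_fac _ _ _
      haveI : IsOpenImmersion (a ≫ (π₀ ⁻¹ᵁ U).ι) := by rw [ha]; infer_instance
      haveI : IsOpenImmersion a := IsOpenImmersion.of_comp a (π₀ ⁻¹ᵁ U).ι
      haveI : IsDominant (a ≫ (π₀ ⁻¹ᵁ U).ι) := by rw [ha]; infer_instance
      haveI : IsDominant a := IsDominant.of_comp_of_isOpenImmersion a (π₀ ⁻¹ᵁ U).ι
      have hab : a ≫ π₀ ∣_ U = v := by
        rw [← cancel_mono U.ι, Category.assoc, morphismRestrict_ι, ← Category.assoc, ha, e]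
      haveI : IsSeparated π₀ := inferInstance
      haveI : IsSeparated (π₀ ∣_ U) := IsZariskiLocalAtTarget.restrict ‹IsSeparated π₀› _
      haveI : UniversallyClosed (a ≫ π₀ ∣_ U) := by rw [hab]; infer_instance
      haveI : IsIso a :=
        Groth.Agent.Lib.Helper13.ZMTFin.isIso_of_isDominant_of_universallyClosed_comp a (π₀ ∣_ U)
      intro x hx
      have hx' : x ∈ Set.range (π₀ ⁻¹ᵁ U).ι := by
        rw [Scheme.Opens.range_ι]
        exact hx
      obtain ⟨y, rfl⟩ := hx'
      obtain ⟨z, rfl⟩ := a.surjective y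
      exact ⟨z, by rw [← Scheme.Hom.comp_apply, ha]⟩
  let Zc : TopologicalSpace.Closeds S := ⟨(U : Set S)ᶜ, U.2.isClosed_compl⟩
  let I := Scheme.IdealSheafData.vanishingIdeal Zc
  have hZ : Set.range I.subschemeι = (U : Set S)ᶜ := by
    rw [Scheme.IdealSheafData.range_subschemeι, Scheme.IdealSheafData.coe_support_vanishingIdeal]
    rfl
  let π : T ⨿ I.subscheme ⟶ S := coprod.desc π₀ I.subschemeι
  let i : V ⟶ T ⨿ I.subscheme := j ≫ coprod.inl
  have hπl : (coprod.inl : T ⟶ T ⨿ I.subscheme) ≫ π = π₀ := coprod.inl_desc _ _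
  have hπr : (coprod.inr : I.subscheme ⟶ T ⨿ I.subscheme) ≫ π = I.subschemeι :=
    coprod.inr_desc _ _
  have hcomm : i ≫ π = v ≫ U.ι := by
    change (j ≫ coprod.inl) ≫ π = f
    rw [Category.assoc, hπl, e]
  refine ⟨_, π, i, ⟨fun s => ?_⟩, inferInstance, ?_⟩
  · by_cases hs : s ∈ U
    · obtain ⟨x, hx⟩ := v.surjective ⟨s, hs⟩
      refine ⟨i x, ?_⟩
      rw [← Scheme.Hom.comp_apply, hcomm, Scheme.Hom.comp_apply, hx]
      rfl
    · have : s ∈ Set.range I.subschemeι := by rw [hZ]; exact hs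
      obtain ⟨z, rfl⟩ := this
      refine ⟨(coprod.inr : I.subscheme ⟶ T ⨿ I.subscheme) z, ?_⟩
      rw [← Scheme.Hom.comp_apply, hπr]
  · haveI : IsOpenImmersion i := inferInstance
    refine (IsOpenImmersion.isPullback v i U.ι π hcomm ?_).flip
    ext x
    change π x ∈ Set.range U.ι ↔ x ∈ Set.range i
    obtain ⟨(n | z), rfl⟩ := (coprodMk _ _).surjective x
    · rw [coprodMk_inl, ← Scheme.Hom.comp_apply]
      rw [hπl]
      constructor
      · intro h
        have : n ∈ Set.range j := by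
          rw [hrange]
          rw [Scheme.Opens.range_ι] at h
          exact h
        obtain ⟨y, rfl⟩ := this
        exact ⟨y, rfl⟩
      · rintro ⟨y, hy⟩
        have hy' : (coprod.inl : T ⟶ T ⨿ I.subscheme) (j y) = (coprod.inl : T ⟶ _) n := hy
        have := (coprod.inl : T ⟶ T ⨿ I.subscheme).isOpenEmbedding.injective hy'
        have h2 : n ∈ Set.range j := ⟨y, this⟩
        rw [hrange] at h2
        rw [Scheme.Opens.range_ι]
        exact h2
    · rw [coprodMk_inr, ← Scheme.Hom.comp_apply]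
      rw [hπr]
      constructor
      · intro h
        exfalso
        have h3 : I.subschemeι z ∈ (U : Set S)ᶜ := by rw [← hZ]; exact ⟨z, rfl⟩
        apply h3
        obtain ⟨u, hu⟩ := h
        rw [← hu]
        exact u.2
      · rintro ⟨y, hy⟩
        exfalso
        have hy' : (coprod.inl : T ⟶ T ⨿ I.subscheme) (j y) =
            (coprod.inr : I.subscheme ⟶ _) z := hy
        exact Set.disjoint_iff_forall_ne.mp (isCompl_range_inl_inr _ _).1 ⟨_, rfl⟩ ⟨_, rfl⟩ hy'

end Groth.Agent.S1376
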