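import Groth.Statements.S13760
import Groth.Agent.Lib.Helper25.CircCoprime
-- import your own Groth.Agent.* helpers here

set_option autoImplicit false
universe u
open LabGraph

namespace Groth.Agent.S13760

open LabGraph
open Groth.Agent.Lib.Helper25.CircCoprime

/-- solution of the second-order recursion `Φ (j+2) = 2 Φ (j+1) - Φ j + b j` -/
def rec2 (a d : ℤ) (b : ℕ → ℤ) : ℕ → ℤ
  | 0 => a
  | 1 => a + d
  | (j + 2) => 2 * rec2 a d b (j + 1) - rec2 a d b j + b j

theorem rec2_lin (a d : ℤ) (b : ℕ → ℤ) : ∀ j : ℕ, rec2 a d b j = a + j * d + rec2 0 0 b j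
  | 0 => by simp [rec2]
  | 1 => by simp [rec2]
  | (j + 2) => by
    rw [rec2, rec2_lin a d b (j + 1), rec2_lin a d b j, rec2]
    push_cast
    ring

theorem rec2_unique (Ψ : ℕ → ℤ) (b : ℕ → ℤ) (L : ℕ) (hL : 1 ≤ L)
    (h : ∀ i, i + 2 ≤ L → Ψ (i + 2) = 2 * Ψ (i + 1) - Ψ i + b i) :
    ∀ j, j ≤ L → Ψ j = rec2 (Ψ 0) (Ψ 1 - Ψ 0) b j
  | 0 => fun _ => by simp [rec2]
  | 1 => fun _ => by simp [rec2]
  | (j + 2) => fun hj => by
    rw [rec2, ← rec2_unique Ψ b L hL h (j + 1) (by omega), ← rec2_unique Ψ b L hL h j (by omega)]
    exact h j hj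

theorem rec2_zero_of (b : ℕ → ℤ) (k : ℕ) (hb : ∀ i, i < k → b i = 0) :
    ∀ j, j ≤ k + 1 → rec2 0 0 b j = 0
  | 0 => fun _ => by simp [rec2]
  | 1 => fun _ => by simp [rec2]
  | (j + 2) => fun hj => by
    rw [rec2, rec2_zero_of b k hb (j + 1) (by omega), rec2_zero_of b k hb j (by omega),
      hb j (by omega)]
    ring

theorem rec2_single (b : ℕ → ℤ) (k : ℕ) (hb : ∀ i, i < k → b i = 0) :
    rec2 0 0 b (k + 2) = b k := by
  rw [rec2, rec2_zero_of b k hb (k + 1) (by omega), rec2_zero_of b k hb k (by omega)]
  ring

section Blow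

variable {V E : Type u} [Fintype V] [Fintype E] [DecidableEq V] [DecidableEq E]
  (ends : E → V × V) (l : E → ℕ)

theorem pathVert_zero (e : E) : pathVert ends l e 0 = Sum.inl (ends e).1 := by
  simp [pathVert]

theorem pathVert_last (hl : ∀ e, 0 < l e) (e : E) : pathVert ends l e (l e) = Sum.inl (ends e).2 := by
  have := hl e
  simp [pathVert, this.ne']

theorem pathVert_mid (e : E) (j : ℕ) (h0 : j ≠ 0) (h1 : j < l e) :
    pathVert ends l e j = Sum.inr ⟨e, ⟨j - 1, by omega⟩⟩ := by
  simp [pathVert, h0, h1]

theorem pathVert_eq_inr_iff (e' : E) (j : ℕ) (e : E) (i : Fin (l e - 1)) :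
    pathVert ends l e' j = Sum.inr ⟨e, i⟩ ↔ e' = e ∧ j = i.val + 1 := by
  have hi := i.2
  unfold pathVert
  split_ifs with h0 h1
  · simp only [reduceCtorEq, false_iff, not_and]
    intro _; omega
  · simp only [Sum.inr.injEq, Sigma.mk.inj_iff]
    constructor
    · rintro ⟨rfl, h⟩
      have := Fin.ext_iff.mp (eq_of_heq h)
      simp only at this
      exact ⟨rfl, by omega⟩
    · rintro ⟨rfl, rfl⟩
      exact ⟨rfl, by simp⟩
  · simp only [reduceCtorEq, false_iff, not_and]
    rintro rfl
    omega

theorem mdeg_inr (ψ : BlVert V E l → ℤ) (e : E) (i : Fin (l e - 1)) :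
    mdeg (blEnds ends l) (fun _ => 1) ψ (Sum.inr ⟨e, i⟩) =
      ψ (pathVert ends l e i.val) - 2 * ψ (pathVert ends l e (i.val + 1)) +
        ψ (pathVert ends l e (i.val + 2)) := by
  classical
  have hi := i.2
  unfold mdeg
  simp only [Nat.cast_one, Int.ediv_one, blEnds]
  rw [Fintype.sum_sigma, Finset.sum_eq_single e]
  · simp only [pathVert_eq_inr_iff, true_and]
    rw [Finset.sum_add_distrib]
    rw [Finset.sum_eq_single (⟨i.val + 1, by omega⟩ : Fin (l e)),
      Finset.sum_eq_single (⟨i.val, by omega⟩ : Fin (l e))]
    · simp only [if_true]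
      ring
    · intro k _ hk
      have : k.val ≠ i.val := fun h => hk (Fin.ext h)
      simp [this]
    · intro h; exact absurd (Finset.mem_univ _) h
    · intro k _ hk
      have : k.val ≠ i.val + 1 := fun h => hk (Fin.ext h)
      simp [this]
    · intro h; exact absurd (Finset.mem_univ _) h
  · intro e' _ hne
    refine Finset.sum_eq_zero fun k _ => ?_
    simp only [pathVert_eq_inr_iff, hne, false_and, if_false, add_zero]
  · intro h; exact absurd (Finset.mem_univ _) h

end Blow

/-- Let G be a finite connected multigraph with vertex set V, edge set E, endpoint map E → V × V and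
positive integer edge labels l, let G̃ be its total blow-up graph (every edge e replaced by a path
of l(e) edges through l(e) − 1 new vertices, all labelled 1), and let ε : H → H̃ be the map from the
cokernel of the multidegree operator on Cartier vertex labellings of G to the cokernel of the
multidegree operator on vertex labellings of G̃ induced by extension by zero. Then ε is surjective —
every vertex labelling β of G̃ can be corrected by the multidegree of a vertex labelling of G̃ so as
to vanish at all new vertices — if and only if G is circuit-coprime (the labels along every circuit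
have greatest common divisor 1). (The published statement is 'ε is an isomorphism if and only if the
labelled graph is circuit-coprime'; injectivity of ε holds for every labelled graph, so the content
is the equivalence for surjectivity, stated here with the cokernels unpacked.) -/
theorem result
    {V E : Type u} [Fintype V] [Fintype E] [DecidableEq V] [DecidableEq E]
    (ends : E → V × V) (l : E → ℕ) (hl : ∀ e, 0 < l e) (hconn : LabGraph.Connected ends) :
    (∀ β : LabGraph.BlVert V E l → ℤ, ∃ (ψ : LabGraph.BlVert V E l → ℤ) (α : V → ℤ),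
        ∀ w : LabGraph.BlVert V E l,
          LabGraph.mdeg (LabGraph.blEnds ends l) (fun _ => 1) ψ w + β w = Sum.elim α (fun _ => (0 : ℤ)) w) ↔
      LabGraph.IsCircuitCoprime ends l := by
  constructor
  · intro h
    apply coprime_of_surj
    intro x
    obtain ⟨ψ, α, hψ⟩ := h (Sum.elim 0 (fun q => if q.2.val + 2 = l q.1 then x q.1 else 0))
    -- per-edge analysis
    have key : ∀ e, ψ (Sum.inl (ends e).2) =
        ψ (Sum.inl (ends e).1) + (l e : ℤ) * (ψ (pathVert ends l e 1) - ψ (pathVert ends l e 0)) +
          rec2 0 0 (fun i => -(if i + 2 = l e then x e else 0)) (l e) := by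
      intro e
      have hrec : ∀ i, i + 2 ≤ l e → ψ (pathVert ends l e (i + 2)) =
          2 * ψ (pathVert ends l e (i + 1)) - ψ (pathVert ends l e i) +
            -(if i + 2 = l e then x e else 0) := by
        intro i hi
        have h1 := hψ (Sum.inr ⟨e, ⟨i, by omega⟩⟩)
        rw [mdeg_inr] at h1
        simp only [Sum.elim_inr] at h1
        linarith
      have h2 := rec2_unique (fun j => ψ (pathVert ends l e j))
        (fun i => -(if i + 2 = l e then x e else 0)) (l e) (hl e) hrec (l e) le_rfl
      rw [rec2_lin, pathVert_last ends l hl, pathVert_zero] at h2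
      rw [h2, pathVert_zero]
    refine ⟨fun e => if l e = 1 then x e + (ψ (Sum.inl (ends e).2) - ψ (Sum.inl (ends e).1))
      else (ψ (pathVert ends l e 1) - ψ (pathVert ends l e 0)), fun v => -ψ (Sum.inl v), fun e => ?_⟩
    by_cases h1 : l e = 1
    · simp only [h1, if_true, Nat.cast_one]
      ring
    · simp only [h1, if_false]
      obtain ⟨k, hk⟩ : ∃ k, l e = k + 2 := ⟨l e - 2, by have := hl e; omega⟩
      have hR : rec2 0 0 (fun i => -(if i + 2 = l e then x e else 0)) (l e) = - x e := by
        rw [hk, rec2_single]
        · simp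
        · intro i hi
          have : i ≠ k := by omega
          simp [this]
      have := key e
      rw [hR] at this
      linarith
  · intro hcop β
    have hS := surj_of_coprime ends l hl hconn hcop
    -- second differences
    let b : E → ℕ → ℤ := fun e i => if h : i < l e - 1 then -β (Sum.inr ⟨e, ⟨i, h⟩⟩) else 0
    obtain ⟨y, f, hyf⟩ := hS (fun e => rec2 0 0 (b e) (l e))
    let ψ : BlVert V E l → ℤ :=
      Sum.elim f (fun q => rec2 (f (ends q.1).1) (-(y q.1)) (b q.1) (q.2.val + 1))
    have hΨ : ∀ e j, j ≤ l e → ψ (pathVert ends l e j) = rec2 (f (ends e).1) (-(y e)) (b e) j := by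
      intro e j hj
      by_cases h0 : j = 0
      · subst h0
        rw [pathVert_zero]
        simp [ψ, rec2]
      · by_cases h1 : j < l e
        · rw [pathVert_mid ends l e j h0 h1]
          simp only [ψ, Sum.elim_inr]
          congr 1
          omega
        · have hje : j = l e := by omega
          subst hje
          rw [pathVert_last ends l hl, rec2_lin]
          simp only [ψ, Sum.elim_inl]
          have := hyf e
          rw [this]
          ring
    refine ⟨ψ, fun v => mdeg (blEnds ends l) (fun _ => 1) ψ (Sum.inl v) + β (Sum.inl v), ?_⟩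
    rintro (v | ⟨e, i⟩)
    · simp
    · have hi := i.2
      rw [mdeg_inr, hΨ e _ (by omega), hΨ e _ (by omega), hΨ e _ (by omega)]
      simp only [Sum.elim_inr]
      rw [rec2]
      have hb : b e i.val = -β (Sum.inr ⟨e, i⟩) := by
        simp only [b, dif_pos hi]
      rw [hb]
      ring

end Groth.Agent.S13760
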