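import Groth.Statements.S13772
import Mathlib
-- import your own Groth.Agent.* helpers here

set_option autoImplicit false
universe u v
open PLie

namespace Groth.Agent.S13772

/-- Let R be a commutative ring of prime characteristic p and L a Lie algebra over R with a p-mapping γ.
For a map g : L → L, there is a p-mapping γ' on L with γ' x = γ x + g x for every x if and only if g
is additive, g (c • x) = c ^ p • g x for all scalars c, and every value g x lies in the centre of L.
(Both parts of the published statement at once: the difference of two p-mappings is a
Frobenius-semilinear map into the centre, and adding such a map to a p-mapping gives a p-mapping.) -/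
theorem result (R : Type u) [CommRing R] (p : ℕ) [Fact p.Prime] [CharP R p]
    (L : Type v) [LieRing L] [LieAlgebra R L] (γ : PLie.PMap R p L) (g : L → L) :
    (∃ γ' : PLie.PMap R p L, ∀ x : L, γ' x = γ x + g x) ↔
      ((∀ x y : L, g (x + y) = g x + g y) ∧ (∀ (c : R) (x : L), g (c • x) = c ^ p • g x) ∧
        ∀ x : L, g x ∈ LieAlgebra.center R L) := by
  classical
  constructor
  · rintro ⟨γ', hγ'⟩
    have hg : ∀ x, g x = γ' x - γ x := fun x => by rw [hγ' x]; abel
    refine ⟨?_, ?_, ?_⟩
    · intro x y
      rw [hg, hg, hg]
      have h1 := γ'.map_add x y
      have h2 := γ.map_add x y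
      change γ' (x + y) = _ at h1
      change γ (x + y) = _ at h2
      rw [h1, h2]
      abel
    · intro c x
      rw [hg, hg]
      have h1 := γ'.map_smul c x
      have h2 := γ.map_smul c x
      change γ' (c • x) = _ at h1
      change γ (c • x) = _ at h2
      rw [h1, h2, smul_sub]
    · intro x
      rw [LieModule.mem_maxTrivSubmodule]
      intro y
      have h1 := γ'.ad_map x
      have h2 := γ.ad_map x
      have h3 : LieAlgebra.ad R L (g x) = 0 := by
        rw [hg, map_sub]
        change LieAlgebra.ad R L (γ'.toFun x) - LieAlgebra.ad R L (γ.toFun x) = 0
        rw [h1, h2, sub_self]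
      have h4 : ⁅g x, y⁆ = 0 := by
        have := LinearMap.congr_fun h3 y
        simpa using this
      rw [← lie_skew, h4, neg_zero]
  · rintro ⟨hadd, hsmul, hcen⟩
    refine ⟨{ toFun := fun x => γ x + g x
              map_smul := ?_
              ad_map := ?_
              map_add := ?_ }, fun x => rfl⟩
    · intro c x
      have h2 := γ.map_smul c x
      change γ (c • x) = _ at h2
      change γ (c • x) + g (c • x) = c ^ p • (γ x + g x)
      rw [h2, hsmul, smul_add]
    · intro x
      have h2 := γ.ad_map x
      have h3 : LieAlgebra.ad R L (g x) = 0 := by
        apply LinearMap.ext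
        intro y
        have := (LieModule.mem_maxTrivSubmodule (R := R) (L := L) (M := L) (g x)).1 (hcen x) y
        simp only [LieAlgebra.ad_apply, LinearMap.zero_apply]
        rw [← lie_skew, this, neg_zero]
      change LieAlgebra.ad R L (γ.toFun x + g x) = _
      rw [map_add, h2, h3, add_zero]
    · intro x y
      have h2 := γ.map_add x y
      change γ (x + y) = _ at h2
      change γ (x + y) + g (x + y) = γ x + g x + (γ y + g y) - _
      rw [h2, hadd]
      abel

end Groth.Agent.S13772
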