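import Groth.Statements.S13774
import Groth.Agent.Lib.Helper13.PMapBasis

set_option autoImplicit false
universe u v w
open PLie

namespace Groth.Agent.S13774

theorem ad_pow_succ_apply {R : Type*} [CommRing R] {L : Type*} [LieRing L] [LieAlgebra R L] (v : L)
    (f : L →ₗ[R] L →ₗ[R] R) (hf : ∀ x y : L, ⁅x, y⁆ = f x y • v) (x z : L) (n : ℕ) :
    (LieAlgebra.ad R L x ^ (n + 1)) z = (f x z * (f x v) ^ n) • v := by
  induction n with
  | zero => simp [hf]
  | succ n ih =>
    rw [pow_succ', Module.End.mul_apply, ih, LieAlgebra.ad_apply, lie_smul, hf x v, smul_smul,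
      pow_succ]
    congr 1
    ring


/-- Let R be a commutative ring of prime characteristic p and L a Lie algebra over R, free as an
R-module with basis b indexed by ι, whose bracket is ⁅x, y⁆ = f x y • v for some vector v of L and
some R-bilinear form f on L. Then L carries a p-mapping φ with φ (b i) = (f (b i) v) ^ (p - 1) • b i
for every i; in particular L is restrictable. (The published statement is made over a base scheme,
where the Lie algebra is a vector bundle of finite rank whose derived algebra is a subbundle of rank
one, and concludes that p-mappings exist Zariski-locally; this row is the case of a free module over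
a ring, of any rank, with bracket of the displayed shape.) -/
theorem result (R : Type u) [CommRing R] (p : ℕ) [Fact p.Prime] [CharP R p]
    (L : Type v) [LieRing L] [LieAlgebra R L] {ι : Type w} (b : Module.Basis ι R L) (v : L)
    (f : L →ₗ[R] L →ₗ[R] R) (hf : ∀ x y : L, ⁅x, y⁆ = f x y • v) :
    ∃ φ : PLie.PMap R p L, ∀ i : ι, φ (b i) = (f (b i) v) ^ (p - 1) • b i := by
  have hp1 : p - 1 + 1 = p := Nat.sub_add_cancel (Fact.out : p.Prime).one_le
  have hy : ∀ i : ι, LieAlgebra.ad R L (b i) ^ p =
      LieAlgebra.ad R L ((f (b i) v) ^ (p - 1) • b i) := by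
    intro i
    ext z
    rw [← hp1, ad_pow_succ_apply v f hf, hp1, LieAlgebra.ad_apply, smul_lie, hf (b i) z, smul_smul]
    congr 1
    ring
  exact ⟨Groth.Agent.Lib.Helper13.PMapBasis.pmapOfBasis p b _ hy,
    Groth.Agent.Lib.Helper13.PMapBasis.pmapOfBasis_basis hy⟩

end Groth.Agent.S13774
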