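import Groth.Statements.S13775
import Mathlib
-- import your own Groth.Agent.* helpers here

set_option autoImplicit false
universe u v
open PLie

namespace Groth.Agent.S13775

/-- Let R be a commutative ring of prime characteristic p and L a Lie algebra over R, free as a module
with basis x = bs 0, y = bs 1, z = bs 2 and brackets [x,y] = y, [x,z] = y + z, [y,z] = 0. Then L
carries no p-mapping. (The published statement is the corresponding entry of the classification
table of three-dimensional Lie algebras over an algebraically closed field of characteristic p; this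
row states it over every commutative ring of characteristic p.) -/
theorem result (R : Type u) [CommRing R] (p : ℕ) [Fact p.Prime] [CharP R p]
    (L : Type v) [LieRing L] [LieAlgebra R L] (bs : Module.Basis (Fin 3) R L)
    (hxy : ⁅bs 0, bs 1⁆ = bs 1) (hxz : ⁅bs 0, bs 2⁆ = bs 1 + bs 2) (hyz : ⁅bs 1, bs 2⁆ = 0) :
    IsEmpty (PLie.PMap R p L) := by
  classical
  refine ⟨fun φ => ?_⟩
  have hnt : Nontrivial R := CharP.nontrivial_of_char_ne_one (R := R) (v := p) (Fact.out : p.Prime).ne_one
  set x := bs 0 with hx
  set y := bs 1 with hy
  set z := bs 2 with hz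
  -- powers of ad x
  have hadz : ∀ n : ℕ, (LieAlgebra.ad R L x ^ n) z = (n : R) • y + z := by
    intro n
    induction n with
    | zero => simp
    | succ n ih =>
      rw [pow_succ', Module.End.mul_apply, ih, map_add, map_smul, LieAlgebra.ad_apply,
        LieAlgebra.ad_apply, hxy, hxz]
      push_cast
      rw [add_smul, one_smul]
      abel
  have hady : ∀ n : ℕ, (LieAlgebra.ad R L x ^ n) y = y := by
    intro n
    induction n with
    | zero => simp
    | succ n ih =>
      rw [pow_succ', Module.End.mul_apply, ih, LieAlgebra.ad_apply, hxy]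
  set w := φ x with hw
  have hadw : LieAlgebra.ad R L w = LieAlgebra.ad R L x ^ p := φ.ad_map x
  have h1 : ⁅w, y⁆ = y := by
    have := LinearMap.congr_fun hadw y
    rw [hady] at this
    simpa using this
  have h2 : ⁅w, z⁆ = z := by
    have := LinearMap.congr_fun hadw z
    rw [hadz, CharP.cast_eq_zero, zero_smul, zero_add] at this
    simpa using this
  -- expand w in the basis
  have hwexp : w = bs.repr w 0 • x + bs.repr w 1 • y + bs.repr w 2 • z := by
    conv_lhs => rw [← bs.sum_repr w]
    rw [Fin.sum_univ_three]
  set c0 := bs.repr w 0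
  set c1 := bs.repr w 1
  set c2 := bs.repr w 2
  have hzy : ⁅z, y⁆ = 0 := by rw [← lie_skew, hyz, neg_zero]
  have e1 : ⁅w, y⁆ = c0 • y := by
    rw [hwexp, add_lie, add_lie, smul_lie, smul_lie, smul_lie, hxy, lie_self, hzy]
    simp
  have e2 : ⁅w, z⁆ = c0 • y + c0 • z := by
    rw [hwexp, add_lie, add_lie, smul_lie, smul_lie, smul_lie, hxz, hyz, lie_self]
    simp
  -- compare coefficients
  have hc0 : c0 = 1 := by
    have h := e1.symm.trans h1
    have := congrArg (fun v => bs.repr v 1) h
    simpa [hy] using this
  have hc0' : c0 = 0 := by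
    have h := e2.symm.trans h2
    have := congrArg (fun v => bs.repr v 1) h
    simpa [hy, hz] using this
  rw [hc0] at hc0'
  exact one_ne_zero hc0'

end Groth.Agent.S13775
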