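import Groth.Statements.S13776
import Groth.Agent.Lib.Helper13.PMapBasis

set_option autoImplicit false
universe u v
open PLie

namespace Groth.Agent.S13776

theorem pow_eq_zero_of_sq {R : Type*} [CommRing R] {M : Type*} [AddCommGroup M] [Module R M]
    (B : Module.End R M) (h : B ^ 2 = 0) (n : ℕ) (hn : 2 ≤ n) : B ^ n = 0 := by
  obtain ⟨m, rfl⟩ := Nat.exists_eq_add_of_le hn
  rw [pow_add, h, zero_mul]


/-- Let R be a commutative ring of prime characteristic p, t ∈ R, and L a Lie algebra over R, free as a
module with basis x = bs 0, y = bs 1, z = bs 2 and brackets [x,y] = y, [x,z] = t • z, [y,z] = 0.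
Then L carries a p-mapping if and only if t ^ p = t. (The published statement is the corresponding
entry of the classification table over an algebraically closed field of characteristic p, where the
condition reads: t lies in the prime field; this row states it over every commutative ring of
characteristic p.) -/
theorem result (R : Type u) [CommRing R] (p : ℕ) [Fact p.Prime] [CharP R p] (t : R)
    (L : Type v) [LieRing L] [LieAlgebra R L] (bs : Module.Basis (Fin 3) R L)
    (hxy : ⁅bs 0, bs 1⁆ = bs 1) (hxz : ⁅bs 0, bs 2⁆ = t • bs 2) (hyz : ⁅bs 1, bs 2⁆ = 0) :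
    Nonempty (PLie.PMap R p L) ↔ t ^ p = t := by
  have hprime : p.Prime := Fact.out
  have hyx : ⁅bs 1, bs 0⁆ = -bs 1 := by rw [← lie_skew, hxy]
  have hzx : ⁅bs 2, bs 0⁆ = -(t • bs 2) := by rw [← lie_skew, hxz]
  have hzy : ⁅bs 2, bs 1⁆ = 0 := by rw [← lie_skew, hyz, neg_zero]
  have hAy : ∀ n : ℕ, (LieAlgebra.ad R L (bs 0) ^ n) (bs 1) = bs 1 := by
    intro n
    induction n with
    | zero => simp
    | succ n ih => rw [pow_succ, Module.End.mul_apply, LieAlgebra.ad_apply, hxy, ih]
  have hAz : ∀ n : ℕ, (LieAlgebra.ad R L (bs 0) ^ n) (bs 2) = t ^ n • bs 2 := by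
    intro n
    induction n with
    | zero => simp
    | succ n ih =>
      rw [pow_succ, Module.End.mul_apply, LieAlgebra.ad_apply, hxz, map_smul, ih, smul_smul,
        pow_succ, mul_comm]
  have hAx : ∀ n : ℕ, 0 < n → (LieAlgebra.ad R L (bs 0) ^ n) (bs 0) = 0 := by
    intro n hn
    obtain ⟨m, rfl⟩ := Nat.exists_eq_succ_of_ne_zero hn.ne'
    rw [pow_succ, Module.End.mul_apply, LieAlgebra.ad_apply, lie_self, map_zero]
  constructor
  · rintro ⟨φ⟩
    -- coordinates of φ x
    set w := φ (bs 0) with hw
    have hsum : w = bs.repr w 0 • bs 0 + bs.repr w 1 • bs 1 + bs.repr w 2 • bs 2 := by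
      conv_lhs => rw [← bs.sum_repr w]
      rw [Fin.sum_univ_three]
    have had := φ.ad_map (bs 0)
    have h1 := congrArg (fun g => g (bs 1)) had
    have h2 := congrArg (fun g => g (bs 2)) had
    simp only [LieAlgebra.ad_apply] at h1 h2
    rw [hAy] at h1
    rw [hAz] at h2
    change ⁅w, bs 1⁆ = bs 1 at h1
    change ⁅w, bs 2⁆ = t ^ p • bs 2 at h2
    rw [hsum] at h1 h2
    simp only [add_lie, smul_lie, hxy, hxz, hyz, hzy, lie_self, smul_zero, add_zero] at h1 h2
    have hα : bs.repr w 0 = 1 := by
      have := congrArg (fun u => bs.repr u 1) h1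
      simpa using this
    rw [hα, one_smul] at h2
    have := congrArg (fun u => bs.repr u 2) h2
    simpa using this.symm
  · intro ht
    have hB : LieAlgebra.ad R L (bs 1) ^ 2 = 0 := by
      refine bs.ext fun j => ?_
      fin_cases j <;> simp [pow_succ, hyx, hyz]
    have hC : LieAlgebra.ad R L (bs 2) ^ 2 = 0 := by
      refine bs.ext fun j => ?_
      fin_cases j <;> simp [pow_succ, hzx, hzy]
    have hy : ∀ i : Fin 3, LieAlgebra.ad R L (bs i) ^ p =
        LieAlgebra.ad R L ((![bs 0, 0, 0] : Fin 3 → L) i) := by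
      intro i
      fin_cases i
      · simp only [Fin.zero_eta, Matrix.cons_val_zero]
        refine bs.ext fun j => ?_
        fin_cases j
        · simp [hAx p hprime.pos]
        · simp [hAy, hxy]
        · simp [hAz, hxz, ht]
      · simp only [Fin.mk_one, Matrix.cons_val_one, Matrix.cons_val_zero]
        rw [pow_eq_zero_of_sq _ hB p hprime.two_le, map_zero]
      · simp only [Fin.reduceFinMk, Matrix.cons_val_two, Matrix.tail_cons, Matrix.head_cons]
        rw [pow_eq_zero_of_sq _ hC p hprime.two_le, map_zero]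
    exact ⟨Groth.Agent.Lib.Helper13.PMapBasis.pmapOfBasis p bs _ hy⟩

end Groth.Agent.S13776
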