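import Groth.Statements.S13777
import Mathlib
-- import your own Groth.Agent.* helpers here

set_option autoImplicit false
universe u v
open PLie

namespace Groth.Agent.S13777

/-- Let R be a commutative ring of characteristic 2 and L a Lie algebra over R, free as a module with
basis x = bs 0, y = bs 1, z = bs 2 and brackets [x,y] = z, [x,z] = −x, [y,z] = y. Then L carries no
2-mapping. (The published statement is the corresponding entry of the classification table over an
algebraically closed field of characteristic 2; this row states it over every commutative ring of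
characteristic 2.) -/
theorem result (R : Type u) [CommRing R] [CharP R 2]
    (L : Type v) [LieRing L] [LieAlgebra R L] (bs : Module.Basis (Fin 3) R L)
    (hxy : ⁅bs 0, bs 1⁆ = bs 2) (hxz : ⁅bs 0, bs 2⁆ = -bs 0) (hyz : ⁅bs 1, bs 2⁆ = bs 1) :
    IsEmpty (PLie.PMap R 2 L) := by
  classical
  refine ⟨fun φ => ?_⟩
  have hnt : Nontrivial R := CharP.nontrivial_of_char_ne_one (R := R) (v := 2) (by norm_num)
  set x := bs 0 with hx
  set y := bs 1 with hy
  set z := bs 2 with hz
  set w := φ x with hw
  have hadw : LieAlgebra.ad R L w = LieAlgebra.ad R L x ^ 2 := φ.ad_map x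
  have h1 : ⁅w, y⁆ = -x := by
    have := LinearMap.congr_fun hadw y
    rw [pow_two, Module.End.mul_apply, LieAlgebra.ad_apply, LieAlgebra.ad_apply, LieAlgebra.ad_apply,
      hxy, hxz] at this
    exact this
  have h2 : ⁅w, x⁆ = 0 := by
    have := LinearMap.congr_fun hadw x
    rw [pow_two, Module.End.mul_apply, LieAlgebra.ad_apply, LieAlgebra.ad_apply, LieAlgebra.ad_apply,
      lie_self, lie_zero] at this
    exact this
  have hwexp : w = bs.repr w 0 • x + bs.repr w 1 • y + bs.repr w 2 • z := by
    conv_lhs => rw [← bs.sum_repr w]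
    rw [Fin.sum_univ_three]
  set c0 := bs.repr w 0
  set c1 := bs.repr w 1
  set c2 := bs.repr w 2
  have hyx : ⁅y, x⁆ = -z := by rw [← lie_skew, hxy]
  have hzx : ⁅z, x⁆ = x := by rw [← lie_skew, hxz, neg_neg]
  have hzy : ⁅z, y⁆ = -y := by rw [← lie_skew, hyz]
  have e2 : ⁅w, x⁆ = c2 • x - c1 • z := by
    rw [hwexp, add_lie, add_lie, smul_lie, smul_lie, smul_lie, lie_self, hyx, hzx]
    simp
    abel
  have e1 : ⁅w, y⁆ = c0 • z - c2 • y := by
    rw [hwexp, add_lie, add_lie, smul_lie, smul_lie, smul_lie, hxy, lie_self, hzy]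
    simp
    abel
  -- coefficient of x in ⁅w, y⁆ = -x
  have h := e1.symm.trans h1
  have := congrArg (fun v => bs.repr v 0) h
  simp [hx, hy, hz] at this

end Groth.Agent.S13777
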