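import Groth.Statements.S13778
import Groth.Agent.Lib.Helper13.PMapCriterion

set_option autoImplicit false
universe u v
open PLie

namespace Groth.Agent.S13778

section Helpers
open DualNumber Groth.Agent.Lib.Helper13.PMapCriterion

variable {K : Type u} [Field K] {L : Type v} [LieRing L] [LieAlgebra (DualNumber K) L]
  (bs : Module.Basis (Fin 3) (DualNumber K) L) (t a b c d e f g h i : K)

/-- matrix of `ad x` -/
def MX : Matrix (Fin 3) (Fin 3) (DualNumber K) :=
  !![0, a • ε, d • ε; 0, 1 + b • ε, e • ε; 0, c • ε, algebraMap K (DualNumber K) t + f • ε]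

/-- matrix of `ad y` -/
def MY : Matrix (Fin 3) (Fin 3) (DualNumber K) :=
  !![-(a • ε), 0, g • ε; -(1 + b • ε), 0, h • ε; -(c • ε), 0, i • ε]

/-- matrix of `ad z` -/
def MZ : Matrix (Fin 3) (Fin 3) (DualNumber K) :=
  !![-(d • ε), -(g • ε), 0; -(e • ε), -(h • ε), 0; -(algebraMap K (DualNumber K) t + f • ε), -(i • ε), 0]

variable {bs t a b c d e f g h i}

theorem adMat_x
    (hxy : ⁅bs 0, bs 1⁆ = (a • ε : DualNumber K) • bs 0 + (1 + b • ε : DualNumber K) • bs 1 + (c • ε : DualNumber K) • bs 2)
    (hxz : ⁅bs 0, bs 2⁆ = (d • ε : DualNumber K) • bs 0 + (e • ε : DualNumber K) • bs 1 +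
      (algebraMap K (DualNumber K) t + f • ε) • bs 2) :
    adMat bs 0 = MX t a b c d e f := by
  refine Matrix.ext fun r s => ?_
  rw [adMat_apply]
  fin_cases r <;> fin_cases s <;> simp [MX, hxy, hxz]

theorem adMat_y
    (hxy : ⁅bs 0, bs 1⁆ = (a • ε : DualNumber K) • bs 0 + (1 + b • ε : DualNumber K) • bs 1 + (c • ε : DualNumber K) • bs 2)
    (hyz : ⁅bs 1, bs 2⁆ = (g • ε : DualNumber K) • bs 0 + (h • ε : DualNumber K) • bs 1 + (i • ε : DualNumber K) • bs 2) :
    adMat bs 1 = MY a b c g h i := by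
  have hyx : ⁅bs 1, bs 0⁆ = -((a • ε : DualNumber K) • bs 0 + (1 + b • ε : DualNumber K) • bs 1 + (c • ε : DualNumber K) • bs 2) := by
    rw [← lie_skew, hxy]
  refine Matrix.ext fun r s => ?_
  rw [adMat_apply]
  fin_cases r <;> fin_cases s <;> simp [MY, hyx, hyz]

theorem adMat_z
    (hxz : ⁅bs 0, bs 2⁆ = (d • ε : DualNumber K) • bs 0 + (e • ε : DualNumber K) • bs 1 +
      (algebraMap K (DualNumber K) t + f • ε) • bs 2)
    (hyz : ⁅bs 1, bs 2⁆ = (g • ε : DualNumber K) • bs 0 + (h • ε : DualNumber K) • bs 1 + (i • ε : DualNumber K) • bs 2) :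
    adMat bs 2 = MZ t d e f g h i := by
  have hzx : ⁅bs 2, bs 0⁆ = -((d • ε : DualNumber K) • bs 0 + (e • ε : DualNumber K) • bs 1 +
      (algebraMap K (DualNumber K) t + f • ε) • bs 2) := by
    rw [← lie_skew, hxz]
  have hzy : ⁅bs 2, bs 1⁆ = -((g • ε : DualNumber K) • bs 0 + (h • ε : DualNumber K) • bs 1 + (i • ε : DualNumber K) • bs 2) := by
    rw [← lie_skew, hyz]
  refine Matrix.ext fun r s => ?_
  rw [adMat_apply]
  fin_cases r <;> fin_cases s <;> simp [MZ, hzx, hzy]

theorem jacobi_d
    (hxy : ⁅bs 0, bs 1⁆ = (a • ε : DualNumber K) • bs 0 + (1 + b • ε : DualNumber K) • bs 1 + (c • ε : DualNumber K) • bs 2)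
    (hxz : ⁅bs 0, bs 2⁆ = (d • ε : DualNumber K) • bs 0 + (e • ε : DualNumber K) • bs 1 +
      (algebraMap K (DualNumber K) t + f • ε) • bs 2)
    (hyz : ⁅bs 1, bs 2⁆ = (g • ε : DualNumber K) • bs 0 + (h • ε : DualNumber K) • bs 1 + (i • ε : DualNumber K) • bs 2) :
    d = t * h := by
  have hyx : ⁅bs 1, bs 0⁆ = -((a • ε : DualNumber K) • bs 0 + (1 + b • ε : DualNumber K) • bs 1 + (c • ε : DualNumber K) • bs 2) := by
    rw [← lie_skew, hxy]
  have J := leibniz_lie (bs 0) (bs 1) (bs 2)
  rw [hyz, hxy, hxz] at J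
  simp only [lie_add, add_lie, lie_smul, smul_lie, hxy, hxz, hyz, hyx, lie_self, smul_zero,
    add_zero, zero_add] at J
  have h0 := congrArg (fun u => TrivSqZeroExt.snd (bs.repr u 1)) J
  simp [TrivSqZeroExt.algebraMap_eq_inl] at h0
  linear_combination -h0

variable (t a b c d e f g h i)

/-- geometric sum -/
def T (n : ℕ) : K := ∑ j ∈ Finset.range n, t ^ j

theorem T_succ (n : ℕ) : T t (n + 1) = T t n + t ^ n := Finset.sum_range_succ _ _

theorem T_succ' (n : ℕ) : T t (n + 1) = 1 + t * T t n := by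
  unfold T
  rw [Finset.sum_range_succ', Finset.mul_sum, add_comm]
  simp [pow_succ, mul_comm]

theorem T_one : T t 1 = 1 := by simp [T]

theorem MX_pow_succ (n : ℕ) : MX t a b c d e f ^ (n + 1) =
    !![0, a • ε, (d * t ^ n) • ε;
       0, 1 + (((n : K) + 1) * b) • ε, (e * T t (n + 1)) • ε;
       0, (c * T t (n + 1)) • ε,
         algebraMap K (DualNumber K) (t ^ (n + 1)) + (((n : K) + 1) * t ^ n * f) • ε] := by
  induction n with
  | zero =>
    rw [zero_add, pow_one, MX, T_one]
    refine Matrix.ext fun r s => ?_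
    fin_cases r <;> fin_cases s <;> (ext <;> simp [TrivSqZeroExt.algebraMap_eq_inl])
  | succ n ih =>
    rw [pow_succ, ih, MX, Matrix.mul_fin_three]
    have h1 := T_succ t (n + 1)
    have h2 := T_succ' t (n + 1)
    generalize T t (n + 1) = u at *
    generalize T t (n + 1 + 1) = v at *
    refine Matrix.ext fun r s => ?_
    fin_cases r <;> fin_cases s <;>
      (ext <;> simp [TrivSqZeroExt.algebraMap_eq_inl] <;>
        first
          | ring1
          | linear_combination (-e) * h2
          | linear_combination (-c) * h1)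

variable {t a b c d e f g h i}

/-- entrywise verification of a matrix identity over the dual numbers -/
macro "dmat" : tactic =>
  `(tactic| (refine Matrix.ext fun r s => ?_
             fin_cases r <;> fin_cases s <;>
               (ext <;> simp [TrivSqZeroExt.algebraMap_eq_inl] <;> ring)))

theorem MY_sq : MY a b c g h i ^ 2 = !![0, 0, 0; a • ε, 0, -(g • ε); 0, 0, 0] := by
  unfold MY
  rw [pow_two, Matrix.mul_fin_three]
  dmat

theorem MY_cube : MY a b c g h i ^ 3 = 0 := by
  rw [pow_succ, MY_sq]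
  unfold MY
  rw [Matrix.mul_fin_three]
  dmat

theorem MZ_sq : MZ t d e f g h i ^ 2 = !![0, 0, 0; 0, 0, 0; (t * d) • ε, (t * g) • ε, 0] := by
  unfold MZ
  rw [pow_two, Matrix.mul_fin_three]
  dmat

theorem MZ_cube : MZ t d e f g h i ^ 3 = 0 := by
  rw [pow_succ, MZ_sq]
  unfold MZ
  rw [Matrix.mul_fin_three]
  dmat

theorem comb (x y z : DualNumber K) :
    x • MX t a b c d e f + y • MY a b c g h i + z • MZ t d e f g h i =
      !![x * 0 + y * -(a • ε) + z * -(d • ε), x * (a • ε) + y * 0 + z * -(g • ε),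
           x * (d • ε) + y * (g • ε) + z * 0;
         x * 0 + y * -(1 + b • ε) + z * -(e • ε), x * (1 + b • ε) + y * 0 + z * -(h • ε),
           x * (e • ε) + y * (h • ε) + z * 0;
         x * 0 + y * -(c • ε) + z * -(algebraMap K (DualNumber K) t + f • ε),
           x * (c • ε) + y * 0 + z * -(i • ε),
           x * (algebraMap K (DualNumber K) t + f • ε) + y * (i • ε) + z * 0] := by
  unfold MX MY MZ
  refine Matrix.ext fun r s => ?_
  fin_cases r <;> fin_cases s <;> simp [Matrix.add_apply]

theorem comb_X (n : ℕ) (τ : K) (hd : d * t ^ n = d) (he : e * τ = e) (hc : c * τ = c) :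
    (1 - b • ε : DualNumber K) • MX t a b c d e (b * t) + (0 : DualNumber K) • MY a b c g h i
        + (0 : DualNumber K) • MZ t d e (b * t) g h i
      = !![0, a • ε, (d * t ^ n) • ε; 0, 1, (e * τ) • ε; 0, (c * τ) • ε,
          algebraMap K (DualNumber K) t] := by
  rw [comb, hd, he, hc]
  dmat

theorem comb_Y2 :
    (0 : DualNumber K) • MX t a b c d e f + (-(a • ε) : DualNumber K) • MY a b c 0 h i
        + (0 : DualNumber K) • MZ t d e f 0 h i
      = !![0, 0, 0; a • ε, 0, -((0 : K) • ε); 0, 0, 0] := by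
  rw [comb]
  dmat

theorem comb_Z2 :
    (0 : DualNumber K) • MX t a b c d e f + (0 : DualNumber K) • MY a b c 0 h i
        + (-(d • ε) : DualNumber K) • MZ t d e f 0 h i
      = !![0, 0, 0; 0, 0, 0; (t * d) • ε, (t * (0 : K)) • ε, 0] := by
  rw [comb]
  dmat

theorem T_mul_sub_one (t : K) (n : ℕ) : T t n * (t - 1) = t ^ n - 1 := by
  unfold T
  exact geom_sum_mul t n

theorem pow_eq_zero_of_le {M : Matrix (Fin 3) (Fin 3) (DualNumber K)} {m n : ℕ} (h : M ^ m = 0)
    (hmn : m ≤ n) : M ^ n = 0 := by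
  obtain ⟨k, rfl⟩ := Nat.exists_eq_add_of_le hmn
  rw [pow_add, h, zero_mul]

theorem MX_pow_p (p : ℕ) [Fact p.Prime] [CharP K p] (ht : t ^ p = t) :
    MX t a b c d e f ^ p =
      !![0, a • ε, (d * t ^ (p - 1)) • ε; 0, 1, (e * T t p) • ε; 0, (c * T t p) • ε,
          algebraMap K (DualNumber K) t] := by
  have hp1 : p - 1 + 1 = p := Nat.sub_add_cancel (Fact.out : p.Prime).one_le
  have h := MX_pow_succ t a b c d e f (p - 1)
  rw [hp1] at h
  have hc : ((p - 1 : ℕ) : K) + 1 = 0 := by
    rw [← Nat.cast_succ, Nat.succ_eq_add_one, hp1, CharP.cast_eq_zero]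
  rw [h, hc, ht]
  simp

end Helpers


open DualNumber in
/-- Let K be a field of prime characteristic p, K[ε] the ring of dual numbers (taken with its
characteristic-p structure), t ∈ K with t ^ p = t (an element of the prime field), and a, …, i ∈ K.
Let L be a Lie algebra over K[ε], free as a module with basis x = bs 0, y = bs 1, z = bs 2 and
brackets [x,y] = aε x + (1 + bε) y + cε z, [x,z] = dε x + eε y + (t + fε) z, [y,z] = gε x + hε y +
iε z. Then L carries a p-mapping over K[ε] if and only if b t = f, c = e = 0 when t = 1, and g = 0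
when p = 2. (The published statement determines the singular locus of the restrictable locus in the
centreless stratum of the moduli scheme of based three-dimensional Lie algebras, for t non-zero, and
the rank-one-centre stratum treats t = 0; this row states the restrictability criterion for the
first-order deformations of l_t that the proofs compute, over any field of characteristic p in place
of the prime field and for every t in the prime field.) -/
theorem result (K : Type u) [Field K] (p : ℕ) [Fact p.Prime] [CharP K p]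
    [CharP (DualNumber K) p] (t a b c d e f g h i : K) (ht : t ^ p = t)
    (L : Type v) [LieRing L] [LieAlgebra (DualNumber K) L] (bs : Module.Basis (Fin 3) (DualNumber K) L)
    (hxy : ⁅bs 0, bs 1⁆ = (a • ε : DualNumber K) • bs 0 + (1 + b • ε : DualNumber K) • bs 1 + (c • ε : DualNumber K) • bs 2)
    (hxz : ⁅bs 0, bs 2⁆ = (d • ε : DualNumber K) • bs 0 + (e • ε : DualNumber K) • bs 1 +
      (algebraMap K (DualNumber K) t + f • ε) • bs 2)
    (hyz : ⁅bs 1, bs 2⁆ = (g • ε : DualNumber K) • bs 0 + (h • ε : DualNumber K) • bs 1 + (i • ε : DualNumber K) • bs 2) :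
    Nonempty (PLie.PMap (DualNumber K) p L) ↔ (b * t = f ∧ (t = 1 → c = 0 ∧ e = 0) ∧ (p = 2 → g = 0)) := by
  have hprime : p.Prime := Fact.out
  have hX := adMat_x (bs := bs) hxy hxz
  have hY := adMat_y (bs := bs) hxy hyz
  have hZ := adMat_z (bs := bs) hxz hyz
  have hd : d = t * h := jacobi_d hxy hxz hyz
  have hp1 : p - 1 + 1 = p := Nat.sub_add_cancel hprime.one_le
  have hT1 : t = 1 → T t p = 0 := by
    intro h1
    rw [h1]
    simp [T]
  have hTne : t ≠ 1 → T t p = 1 := by
    intro h1
    have h2 := T_mul_sub_one t p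
    rw [ht] at h2
    have h3 : t - 1 ≠ 0 := sub_ne_zero.2 h1
    exact mul_right_cancel₀ h3 (by rw [h2, one_mul])
  rw [Groth.Agent.Lib.Helper13.PMapCriterion.nonempty_pmap_iff_matrix p bs]
  constructor
  · intro H
    obtain ⟨α, hα⟩ := H 0
    rw [Fin.sum_univ_three, hX, hY, hZ, MX_pow_p p ht] at hα
    have e11f := congrArg TrivSqZeroExt.fst (congrFun (congrFun hα 1) 1)
    have e10f := congrArg TrivSqZeroExt.fst (congrFun (congrFun hα 1) 0)
    have e20f := congrArg TrivSqZeroExt.fst (congrFun (congrFun hα 2) 0)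
    have e22s := congrArg TrivSqZeroExt.snd (congrFun (congrFun hα 2) 2)
    have e11s := congrArg TrivSqZeroExt.snd (congrFun (congrFun hα 1) 1)
    have e12s := congrArg TrivSqZeroExt.snd (congrFun (congrFun hα 1) 2)
    have e21s := congrArg TrivSqZeroExt.snd (congrFun (congrFun hα 2) 1)
    simp [MX, MY, MZ, TrivSqZeroExt.algebraMap_eq_inl] at e11f e10f e20f e22s e11s e12s e21s
    have h20 : TrivSqZeroExt.fst (α 2) * t = 0 := by
      rcases e20f with h' | h' <;> simp [h']
    rw [e11f, e10f] at e22s e12s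
    rw [e11f] at e11s e21s
    refine ⟨?_, ?_, ?_⟩
    · linear_combination t * e11s - e22s + h * h20
    · intro ht1
      rw [hT1 ht1] at e12s e21s
      rw [ht1, mul_one] at h20
      rw [h20] at e21s
      constructor
      · simpa using e21s
      · simpa using e12s
    · intro hp2
      obtain ⟨β, hβ⟩ := H 1
      rw [Fin.sum_univ_three, hX, hY, hZ, hp2, MY_sq] at hβ
      have y11f := congrArg TrivSqZeroExt.fst (congrFun (congrFun hβ 1) 1)
      have y10f := congrArg TrivSqZeroExt.fst (congrFun (congrFun hβ 1) 0)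
      have y12s := congrArg TrivSqZeroExt.snd (congrFun (congrFun hβ 1) 2)
      simp [MX, MY, MZ, TrivSqZeroExt.algebraMap_eq_inl] at y11f y10f y12s
      rw [y11f, y10f] at y12s
      simpa using y12s.symm
  · rintro ⟨hf, hce, hg⟩ i0
    have h2p : 2 ≤ p := hprime.two_le
    have hcases : p = 2 ∨ 3 ≤ p := by omega
    fin_cases i0
    · simp only [Fin.zero_eta]
      refine ⟨![1 - b • ε, 0, 0], ?_⟩
      rw [Fin.sum_univ_three, hX, hY, hZ, MX_pow_p p ht, ← hf]
      have hdt : d * t ^ (p - 1) = d := by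
        rw [hd, mul_assoc, mul_comm h, ← mul_assoc, ← pow_succ', hp1, ht]
      have hc' : c * T t p = c := by
        by_cases h1 : t = 1
        · rw [(hce h1).1, zero_mul]
        · rw [hTne h1, mul_one]
      have he' : e * T t p = e := by
        by_cases h1 : t = 1
        · rw [(hce h1).2, zero_mul]
        · rw [hTne h1, mul_one]
      exact comb_X (p - 1) (T t p) hdt he' hc'
    · simp only [Fin.mk_one]
      rcases hcases with hp2 | hp3
      · have hg0 : g = 0 := hg hp2
        refine ⟨![0, -(a • ε), 0], ?_⟩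
        rw [Fin.sum_univ_three, hX, hY, hZ, hp2, MY_sq, hg0]
        exact comb_Y2
      · refine ⟨fun _ => 0, ?_⟩
        simp only [zero_smul, Finset.sum_const_zero]
        rw [hY, pow_eq_zero_of_le MY_cube hp3]
    · simp only [Fin.reduceFinMk]
      rcases hcases with hp2 | hp3
      · have hg0 : g = 0 := hg hp2
        refine ⟨![0, 0, -(d • ε)], ?_⟩
        rw [Fin.sum_univ_three, hX, hY, hZ, hp2, MZ_sq, hg0]
        exact comb_Z2
      · refine ⟨fun _ => 0, ?_⟩
        simp only [zero_smul, Finset.sum_const_zero]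
        rw [hZ, pow_eq_zero_of_le MZ_cube hp3]

end Groth.Agent.S13778
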