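import Groth.Statements.S13779
import Groth.Agent.Lib.Helper13.PMapBasis

set_option autoImplicit false
universe u v
open PLie

namespace Groth.Agent.S13779

theorem pow_odd_of_cube {R : Type*} [CommRing R] {M : Type*} [AddCommGroup M] [Module R M]
    (A : Module.End R M) (t : R) (h : A ^ 3 = t • A) (k : ℕ) : A ^ (2 * k + 1) = t ^ k • A := by
  induction k with
  | zero => simp
  | succ k ih =>
    have : 2 * (k + 1) + 1 = (2 * k + 1) + 2 := by ring
    rw [this, pow_add, ih, smul_mul_assoc, ← pow_succ', h, smul_smul, pow_succ]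

theorem pow_eq_zero_of_sq {R : Type*} [CommRing R] {M : Type*} [AddCommGroup M] [Module R M]
    (B : Module.End R M) (h : B ^ 2 = 0) (n : ℕ) (hn : 2 ≤ n) : B ^ n = 0 := by
  obtain ⟨m, rfl⟩ := Nat.exists_eq_add_of_le hn
  rw [pow_add, h, zero_mul]


/-- Let p be an odd prime, R a commutative ring of characteristic p, t ∈ R, and L a Lie algebra over R,
free as a module with basis x = bs 0, y = bs 1, z = bs 2 and brackets [x,y] = z, [x,z] = t • y,
[y,z] = 0. Then L carries a p-mapping φ with φ x = t ^ ((p - 1) / 2) • x, φ y = 0 and φ z = 0. (The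
published statement concerns the Lie algebra with these brackets over a field of Laurent series
k((t)), k algebraically closed of odd characteristic, t the variable; this row states its
restrictability over every commutative ring of odd prime characteristic and every t.) -/
theorem result (R : Type u) [CommRing R] (p : ℕ) [Fact p.Prime] [CharP R p] (hp : p ≠ 2)
    (t : R) (L : Type v) [LieRing L] [LieAlgebra R L] (bs : Module.Basis (Fin 3) R L)
    (hxy : ⁅bs 0, bs 1⁆ = bs 2) (hxz : ⁅bs 0, bs 2⁆ = t • bs 1) (hyz : ⁅bs 1, bs 2⁆ = 0) :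
    ∃ φ : PLie.PMap R p L, φ (bs 0) = t ^ ((p - 1) / 2) • bs 0 ∧ φ (bs 1) = 0 ∧ φ (bs 2) = 0 := by
  have hprime : p.Prime := Fact.out
  have hodd : 2 * ((p - 1) / 2) + 1 = p := by
    rcases hprime.eq_two_or_odd' with h | ⟨m, hm⟩
    · exact absurd h hp
    · omega
  have hyx : ⁅bs 1, bs 0⁆ = -bs 2 := by rw [← lie_skew, hxy]
  have hzx : ⁅bs 2, bs 0⁆ = -(t • bs 1) := by rw [← lie_skew, hxz]
  have hzy : ⁅bs 2, bs 1⁆ = 0 := by rw [← lie_skew, hyz, neg_zero]
  have hA : LieAlgebra.ad R L (bs 0) ^ 3 = t • LieAlgebra.ad R L (bs 0) := by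
    refine bs.ext fun j => ?_
    fin_cases j <;>
      simp [pow_succ, hxy, hxz, hyz]
  have hB : LieAlgebra.ad R L (bs 1) ^ 2 = 0 := by
    refine bs.ext fun j => ?_
    fin_cases j <;>
      simp [pow_succ, hyx, hyz]
  have hC : LieAlgebra.ad R L (bs 2) ^ 2 = 0 := by
    refine bs.ext fun j => ?_
    fin_cases j <;>
      simp [pow_succ, hzx, hzy]
  have hy : ∀ i : Fin 3, LieAlgebra.ad R L (bs i) ^ p =
      LieAlgebra.ad R L ((![t ^ ((p - 1) / 2) • bs 0, 0, 0] : Fin 3 → L) i) := by
    intro i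
    fin_cases i
    · simp only [Fin.zero_eta, Matrix.cons_val_zero]
      rw [← hodd, pow_odd_of_cube _ t hA, hodd, map_smul]
    · simp only [Fin.mk_one, Matrix.cons_val_one, Matrix.cons_val_zero]
      rw [pow_eq_zero_of_sq _ hB p hprime.two_le, map_zero]
    · simp only [Fin.reduceFinMk, Matrix.cons_val_two, Matrix.tail_cons, Matrix.head_cons]
      rw [pow_eq_zero_of_sq _ hC p hprime.two_le, map_zero]
  refine ⟨Groth.Agent.Lib.Helper13.PMapBasis.pmapOfBasis p bs _ hy, ?_, ?_, ?_⟩
  · exact Groth.Agent.Lib.Helper13.PMapBasis.pmapOfBasis_basis hy 0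
  · exact Groth.Agent.Lib.Helper13.PMapBasis.pmapOfBasis_basis hy 1
  · exact Groth.Agent.Lib.Helper13.PMapBasis.pmapOfBasis_basis hy 2

end Groth.Agent.S13779
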