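import Groth.Statements.S13783
import Mathlib
import Groth.Agent.Lib.Helper22.P1Gal
-- import your own Groth.Agent.* helpers here

set_option autoImplicit false
universe u
open Curves

namespace Groth.Agent.S13783

/-- Let k be a field and K a finite Galois extension of k. Let S be a finite set of at most three
K-points of the projective line that is stable under the Galois group of K over k, and let b be a
Galois-equivariant bijection from S onto another set S' of K-points. Then some element of GL_2(k)
maps S onto S'. (This is the statement that two closed subschemes of the projective line over k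
which are etale over k of the same degree at most 3 and have isomorphic k-algebras of functions are
exchanged by a k-automorphism of the line, written for their sets of points over a finite Galois
extension K of k splitting both; an isomorphism of the function algebras is the same as a
Galois-equivariant bijection of these point sets.) -/
theorem result (k K : Type u) [Field k] [Field K]
    [Algebra k K] [FiniteDimensional k K] [IsGalois k K]
    (S S' : Set (Projectivization K (Fin 2 → K))) (hfin : S.Finite) (h3 : S.ncard ≤ 3)
    (hS : ∀ (σ : K ≃ₐ[k] K) (x : Projectivization K (Fin 2 → K)), x ∈ S → W4c1stackycurves.galP σ x ∈ S)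
    (b : S ≃ S')
    (hb : ∀ (σ : K ≃ₐ[k] K) (x : S),
      (b ⟨W4c1stackycurves.galP σ x.1, hS σ x.1 x.2⟩ : Projectivization K (Fin 2 → K)) =
        W4c1stackycurves.galP σ (b x).1) :
    ∃ g : Matrix.GeneralLinearGroup (Fin 2) k,
      (fun x => (Matrix.GeneralLinearGroup.toLin ((Matrix.GeneralLinearGroup.map (algebraMap k K)) g)) • x) '' S = S' := by
  classical
  open Groth.Agent.Lib.Helper22.P1Gal in
  -- total version of `b`
  let b' : Projectivization K (Fin 2 → K) → Projectivization K (Fin 2 → K) :=
    fun x => if h : x ∈ S then (b ⟨x, h⟩ : Projectivization K (Fin 2 → K)) else x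
  have hb' : ∀ x (hx : x ∈ S), b' x = (b ⟨x, hx⟩ : Projectivization K (Fin 2 → K)) := by
    intro x hx
    simp only [b', dif_pos hx]
  have hinj : Set.InjOn b' S := by
    intro x hx y hy hxy
    rw [hb' x hx, hb' y hy] at hxy
    have := b.injective (Subtype.ext hxy)
    exact congrArg Subtype.val this
  have hequiv : ∀ (σ : K ≃ₐ[k] K), ∀ x ∈ S,
      b' (W4c1stackycurves.galP σ x) = W4c1stackycurves.galP σ (b' x) := by
    intro σ x hx
    rw [hb' x hx, hb' _ (hS σ x hx)]
    exact hb σ ⟨x, hx⟩
  obtain ⟨g, hg⟩ := main_aux (k := k) (K := K) (3 - S.ncard) S b' hfin (by omega) hS hinj hequiv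
  refine ⟨g, ?_⟩
  ext y
  constructor
  · rintro ⟨x, hx, rfl⟩
    change (Matrix.GeneralLinearGroup.toLin ((Matrix.GeneralLinearGroup.map (algebraMap k K)) g)) • x ∈ S'
    rw [hg x hx, hb' x hx]
    exact (b ⟨x, hx⟩).2
  · intro hy
    refine ⟨(b.symm ⟨y, hy⟩ : Projectivization K (Fin 2 → K)), (b.symm ⟨y, hy⟩).2, ?_⟩
    change (Matrix.GeneralLinearGroup.toLin ((Matrix.GeneralLinearGroup.map (algebraMap k K)) g)) •
      (b.symm ⟨y, hy⟩ : Projectivization K (Fin 2 → K)) = y
    rw [hg _ (b.symm ⟨y, hy⟩).2, hb' _ (b.symm ⟨y, hy⟩).2]
    simp

end Groth.Agent.S13783
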