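import Groth.Statements.S13784
import Mathlib.RingTheory.LocalRing.ResidueField.Basic
import Mathlib.RingTheory.IntegralDomain
-- import your own Groth.Agent.* helpers here

set_option autoImplicit false
universe u
open CAlg

namespace Groth.Agent.S13784

/-- Let A be a commutative local ring and G a finite subgroup of Aˣ. If the order of G is invertible in
A, then G is cyclic. -/
theorem result {A : Type u} [CommRing A] [IsLocalRing A]
    (G : Subgroup Aˣ) [Finite G] (hG : IsUnit ((Nat.card G : ℕ) : A)) : IsCyclic G := by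
  let φ : G →* IsLocalRing.ResidueField A :=
    ((IsLocalRing.residue A : A →* IsLocalRing.ResidueField A)).comp
      ((Units.coeHom A).comp G.subtype)
  apply isCyclic_of_subgroup_isDomain φ
  rw [injective_iff_map_eq_one]
  intro u hu
  have hu' : IsLocalRing.residue A ((u : Aˣ) : A) = 1 := hu
  have hun : u ^ Nat.card G = 1 := pow_card_eq_one'
  have ha : (((u : Aˣ) : A)) ^ Nat.card G = 1 := by
    have h1 : (((u ^ Nat.card G : G) : Aˣ) : A) = ((1 : G) : Aˣ) := by rw [hun]
    simpa only [Subgroup.coe_pow, Units.val_pow_eq_pow_val, Subgroup.coe_one, Units.val_one] using h1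
  have hgeom : (∑ i ∈ Finset.range (Nat.card G), (((u : Aˣ) : A)) ^ i) * (((u : Aˣ) : A) - 1) = 0 := by
    rw [geom_sum_mul, ha, sub_self]
  have hS : IsUnit (∑ i ∈ Finset.range (Nat.card G), (((u : Aˣ) : A)) ^ i) := by
    have hres : IsLocalRing.residue A (∑ i ∈ Finset.range (Nat.card G), (((u : Aˣ) : A)) ^ i) =
        IsLocalRing.residue A ((Nat.card G : ℕ) : A) := by
      rw [map_sum]
      simp [hu']
    have h2 : IsUnit (IsLocalRing.residue A
        (∑ i ∈ Finset.range (Nat.card G), (((u : Aˣ) : A)) ^ i)) := by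
      rw [hres]
      exact hG.map _
    exact (isUnit_map_iff (IsLocalRing.residue A) _).mp h2
  have h0 : ((u : Aˣ) : A) - 1 = 0 := (hS.mul_right_eq_zero).mp hgeom
  have h1 : ((u : Aˣ) : A) = 1 := sub_eq_zero.mp h0
  apply Subtype.ext
  apply Units.ext
  simpa using h1

end Groth.Agent.S13784
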