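import Groth.Statements.S13786
import Mathlib.RingTheory.AdjoinRoot
import Mathlib.LinearAlgebra.Matrix.Charpoly.Coeff

set_option autoImplicit false
universe u
open CAlg

namespace Groth.Agent.S13786

open Matrix Polynomial

section
variable (A : Type u) [CommRing A] (n : ℕ)

/-- `x_ij ↦ x_ij + t δ_ij` -/
noncomputable def θ : MvPolynomial (Fin n × Fin n) A →ₐ[A] (MvPolynomial (Fin n × Fin n) A)[X] :=
  MvPolynomial.aeval fun ij : Fin n × Fin n =>
    (Polynomial.C (MvPolynomial.X ij) + if ij.1 = ij.2 then Polynomial.X else 0 :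
      (MvPolynomial (Fin n × Fin n) A)[X])

theorem θ_eval_zero (g : MvPolynomial (Fin n × Fin n) A) : (θ A n g).eval 0 = g := by
  have h : ((Polynomial.evalRingHom (0 : MvPolynomial (Fin n × Fin n) A)).comp
      (θ A n : MvPolynomial (Fin n × Fin n) A →+* _)) = RingHom.id _ := by
    apply MvPolynomial.ringHom_ext
    · intro a
      simp [θ]
    · intro ij
      simp only [RingHom.coe_comp, RingHom.coe_coe, Function.comp_apply, θ, MvPolynomial.aeval_X,
        coe_evalRingHom, eval_add, eval_C, RingHom.id_apply]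
      split_ifs <;> simp
  exact RingHom.congr_fun h g

theorem θ_det : θ A n (Matrix.mvPolynomialX (Fin n) (Fin n) A).det =
    (-(Matrix.mvPolynomialX (Fin n) (Fin n) A)).charpoly := by
  rw [AlgHom.map_det, Matrix.charpoly]
  congr 1
  ext i j
  simp only [AlgHom.mapMatrix_apply, Matrix.map_apply, mvPolynomialX_apply, θ, MvPolynomial.aeval_X,
    charmatrix_apply, Matrix.neg_apply, map_neg, sub_neg_eq_add, Matrix.diagonal_apply]
  rw [add_comm]

end


/-- For a commutative ring A and n ≥ 1, with det the determinant of the generic n × n matrix in the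
polynomial ring A[X] in n² indeterminates, the A-algebra A[X]/(det) is faithfully flat over A. (For
n = 0 the determinant is 1 and the quotient is the zero ring, so n ≥ 1 is required.) -/
theorem result (A : Type u) [CommRing A] (n : ℕ) (hn : 0 < n) :
    Module.FaithfullyFlat A
      (MvPolynomial (Fin n × Fin n) A ⧸ Ideal.span {(Matrix.mvPolynomialX (Fin n) (Fin n) A).det}) := by
  classical
  set d : MvPolynomial (Fin n × Fin n) A := (Matrix.mvPolynomialX (Fin n) (Fin n) A).det with hd
  set χ : (MvPolynomial (Fin n × Fin n) A)[X] :=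
    (-(Matrix.mvPolynomialX (Fin n) (Fin n) A)).charpoly with hχ
  have hmonic : χ.Monic := Matrix.charpoly_monic _
  have hdet : θ A n d = χ := θ_det A n
  have hχ0 : χ.eval 0 = d := by rw [← hdet, θ_eval_zero]
  -- F := P[t]/(χ) free over A
  have hFP : Module.Free (MvPolynomial (Fin n × Fin n) A) (AdjoinRoot χ) := hmonic.free_adjoinRoot
  have hFA : Module.Free A (AdjoinRoot χ) :=
    Module.Free.trans (R := A) (S := MvPolynomial (Fin n × Fin n) A) (M := AdjoinRoot χ)
  -- i : Q → F
  let i : (MvPolynomial (Fin n × Fin n) A ⧸ Ideal.span {d}) →ₐ[A] AdjoinRoot χ :=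
    Ideal.Quotient.liftₐ (Ideal.span {d}) (((AdjoinRoot.mkₐ χ).restrictScalars A).comp (θ A n)) (by
      intro a ha
      obtain ⟨c, rfl⟩ := Ideal.mem_span_singleton'.1 ha
      simp only [AlgHom.coe_comp, Function.comp_apply, map_mul, hdet]
      have : (AdjoinRoot.mkₐ χ).restrictScalars A χ = 0 := AdjoinRoot.mk_self
      rw [this, mul_zero])
  -- r : F → Q
  let r0 : AdjoinRoot χ →+* (MvPolynomial (Fin n × Fin n) A ⧸ Ideal.span {d}) :=
    AdjoinRoot.lift (Ideal.Quotient.mk (Ideal.span {d})) 0 (by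
      have h1 : χ.eval₂ (Ideal.Quotient.mk (Ideal.span {d})) 0 =
          Ideal.Quotient.mk (Ideal.span {d}) (χ.eval 0) := by
        rw [Polynomial.eval₂_at_zero, ← Polynomial.coeff_zero_eq_eval_zero]
      rw [h1, hχ0]
      exact Ideal.Quotient.eq_zero_iff_mem.2 (Ideal.mem_span_singleton_self d))
  have hr0i : ∀ q, r0 (i q) = q := by
    intro q
    obtain ⟨g, rfl⟩ := Ideal.Quotient.mk_surjective q
    change r0 (AdjoinRoot.mk χ (θ A n g)) = _
    rw [AdjoinRoot.lift_mk, Polynomial.eval₂_at_zero, Polynomial.coeff_zero_eq_eval_zero,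
      θ_eval_zero]
  have hr0A : ∀ (c : A) (x : AdjoinRoot χ), r0 (c • x) = c • r0 x := by
    intro c x
    rw [Algebra.smul_def c x, Algebra.smul_def c (r0 x), map_mul]
    congr 1
    rw [IsScalarTower.algebraMap_apply A (MvPolynomial (Fin n × Fin n) A) (AdjoinRoot χ)]
    change r0 (AdjoinRoot.of χ _) = _
    rw [AdjoinRoot.lift_of]
    rfl
  let r : AdjoinRoot χ →ₗ[A] (MvPolynomial (Fin n × Fin n) A ⧸ Ideal.span {d}) :=
    { toFun := r0, map_add' := map_add r0, map_smul' := hr0A }
  have hproj : Module.Projective A (MvPolynomial (Fin n × Fin n) A ⧸ Ideal.span {d}) :=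
    Module.Projective.of_split i.toLinearMap r (LinearMap.ext hr0i)
  have hflat : Module.Flat A (MvPolynomial (Fin n × Fin n) A ⧸ Ideal.span {d}) := inferInstance
  -- retraction to A: evaluate at the zero matrix
  let ev : MvPolynomial (Fin n × Fin n) A →ₐ[A] A := MvPolynomial.aeval (fun _ => (0 : A))
  have hev : ev d = 0 := by
    rw [hd, AlgHom.map_det]
    have : ev.mapMatrix (Matrix.mvPolynomialX (Fin n) (Fin n) A) = 0 := by
      ext a b
      simp [ev]
    rw [this]
    have : Nonempty (Fin n) := ⟨⟨0, hn⟩⟩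
    exact Matrix.det_zero
  let ρ : (MvPolynomial (Fin n × Fin n) A ⧸ Ideal.span {d}) →ₐ[A] A :=
    Ideal.Quotient.liftₐ (Ideal.span {d}) ev (by
      intro a ha
      obtain ⟨c, rfl⟩ := Ideal.mem_span_singleton'.1 ha
      rw [map_mul, hev, mul_zero])
  refine ⟨fun m hm htop => ?_⟩
  have h1 : (1 : MvPolynomial (Fin n × Fin n) A ⧸ Ideal.span {d}) ∈
      m • (⊤ : Submodule A (MvPolynomial (Fin n × Fin n) A ⧸ Ideal.span {d})) := by
    rw [htop]; exact Submodule.mem_top
  have h2 : ∀ x ∈ m • (⊤ : Submodule A (MvPolynomial (Fin n × Fin n) A ⧸ Ideal.span {d})),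
      ρ x ∈ m := by
    intro x hx
    refine Submodule.smul_induction_on hx (fun c hc y _ => ?_) (fun x y hx hy => ?_)
    · rw [map_smul, smul_eq_mul]; exact Ideal.mul_mem_right _ _ hc
    · rw [map_add]; exact Ideal.add_mem _ hx hy
  have h3 := h2 1 h1
  rw [map_one] at h3
  exact hm.ne_top ((Ideal.eq_top_iff_one m).2 h3)

end Groth.Agent.S13786
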