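import Groth.Statements.S13794
import Mathlib.Algebra.CubicDiscriminant
import Mathlib.Tactic.FieldSimp
import Mathlib.Tactic.LinearCombination
import Mathlib.Tactic.Ring

set_option autoImplicit false
universe u
open Polynomial
open Curves

namespace Groth.Agent.S13794

/-- Let k be a field of characteristic not 3 and β ∈ k. If a line ax + by + c = 0 with a³ ≠ b³ is the
tangent line at a flex point of the affine cubic x³ + y³ + β = 3xy, then β is a cube in k. Here the
line is normalised to b ≠ 0 (the roles of x and y are symmetric) and the flex-tangency is expressed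
by the restriction of the cubic to the line being λ (x − x₀)³. -/
theorem result {k : Type u} [Field k] (h3 : (3 : k) ≠ 0)
    (β a b c : k) (hb : b ≠ 0) (hab : a ^ 3 ≠ b ^ 3) (lam x₀ : k)
    (hflex : (X : k[X]) ^ 3 + (C (-a / b) * X + C (-c / b)) ^ 3 + C β - 3 * X * (C (-a / b) * X + C (-c / b)) =
      C lam * (X - C x₀) ^ 3) :
    ∃ γ : k, β = γ ^ 3 := by
  set m : k := -a / b with hm
  set q : k := -c / b with hq
  have hL : (X : k[X]) ^ 3 + (C m * X + C q) ^ 3 + C β - 3 * X * (C m * X + C q) =
      (Cubic.mk (1 + m ^ 3) (3 * m ^ 2 * q - 3 * m) (3 * m * q ^ 2 - 3 * q) (q ^ 3 + β)).toPoly := by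
    simp only [Cubic.toPoly, map_add, map_sub, map_mul, map_pow, map_one, map_ofNat]
    ring
  have hR : C lam * (X - C x₀) ^ 3 =
      (Cubic.mk lam (-3 * lam * x₀) (3 * lam * x₀ ^ 2) (-lam * x₀ ^ 3)).toPoly := by
    simp only [Cubic.toPoly, map_add, map_sub, map_mul, map_pow, map_one, map_ofNat, map_neg]
    ring
  rw [hL, hR] at hflex
  have hc := (Cubic.toPoly_injective _ _).mp hflex
  rw [Cubic.ext_iff] at hc
  obtain ⟨E3, E2, E1, E0⟩ := hc
  simp only at E3 E2 E1 E0
  have hlam : lam ≠ 0 := by
    rw [← E3, hm]
    intro h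
    apply hab
    field_simp at h
    linear_combination -h
  have E2' : m ^ 2 * q - m = -lam * x₀ := by
    apply mul_left_cancel₀ h3
    linear_combination E2
  have E1' : m * q ^ 2 - q = lam * x₀ ^ 2 := by
    apply mul_left_cancel₀ h3
    linear_combination E1
  by_cases hw : m * q - 1 = 0
  · have hx₀ : x₀ = 0 := by
      have : lam * x₀ = 0 := by linear_combination E2' - m * hw
      exact (mul_eq_zero.mp this).resolve_left hlam
    refine ⟨-q, ?_⟩
    rw [hx₀] at E0
    linear_combination E0
  · have hq' : q = -m * x₀ := by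
      have : (m * q - 1) * (m * x₀ + q) = 0 := by linear_combination x₀ * E2' + E1'
      have := (mul_eq_zero.mp this).resolve_left hw
      linear_combination this
    have hmx : m = x₀ := by
      rw [hq'] at E2'
      linear_combination (-1 : k) * E2' - x₀ * E3
    refine ⟨-m, ?_⟩
    rw [hq', ← hmx] at E0
    linear_combination E0 + m ^ 3 * E3

end Groth.Agent.S13794
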