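import Groth.Statements.S16199
import Groth.Agent.Lib.Helper17.MoritaEnd
import Mathlib

set_option autoImplicit false
universe u
open DivAlg

namespace Groth.Agent.S16199

open TensorProduct Groth.Agent.Lib.Helper17.MoritaEnd

section
variable {R : Type u} [CommRing R] {n : ℕ}

/-- an automorphism of `End (R^n)` from an automorphism of matrices -/
noncomputable def toEndEquiv (φ : Matrix (Fin n) (Fin n) R ≃ₐ[R] Matrix (Fin n) (Fin n) R) :
    Module.End R (Fin n → R) ≃ₐ[R] Module.End R (Fin n → R) :=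
  (Matrix.toLinAlgEquiv' (R := R) (n := Fin n)).symm.trans (φ.trans Matrix.toLinAlgEquiv')

lemma toEndEquiv_toLin (φ : Matrix (Fin n) (Fin n) R ≃ₐ[R] Matrix (Fin n) (Fin n) R)
    (A : Matrix (Fin n) (Fin n) R) :
    toEndEquiv φ (Matrix.toLin' A) = Matrix.toLin' (φ A) := by
  show Matrix.toLinAlgEquiv' (φ ((Matrix.toLinAlgEquiv').symm (Matrix.toLinAlgEquiv' A))) = _
  rw [AlgEquiv.symm_apply_apply]
  rfl

/-- if `ζ` is a linear automorphism of `R^n` intertwining `f` and `φ' f`, then `φ` is inner -/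
lemma inner_of_equiv (φ : Matrix (Fin n) (Fin n) R ≃ₐ[R] Matrix (Fin n) (Fin n) R)
    (ζ : (Fin n → R) ≃ₗ[R] (Fin n → R))
    (h : ∀ (f : Module.End R (Fin n → R)) (x : Fin n → R), ζ (f x) = toEndEquiv φ f (ζ x)) :
    ∃ P : GL (Fin n) R, ∀ A : Matrix (Fin n) (Fin n) R, φ A = P.1 * A * (P⁻¹).1 := by
  have h1 : LinearMap.toMatrix' (ζ : (Fin n → R) →ₗ[R] (Fin n → R)) *
      LinearMap.toMatrix' (ζ.symm : (Fin n → R) →ₗ[R] (Fin n → R)) = 1 := by
    rw [← LinearMap.toMatrix'_comp]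
    simp
  have h2 : LinearMap.toMatrix' (ζ.symm : (Fin n → R) →ₗ[R] (Fin n → R)) *
      LinearMap.toMatrix' (ζ : (Fin n → R) →ₗ[R] (Fin n → R)) = 1 := by
    rw [← LinearMap.toMatrix'_comp]
    simp
  refine ⟨⟨_, _, h1, h2⟩, fun A => ?_⟩
  show φ A = LinearMap.toMatrix' (ζ : (Fin n → R) →ₗ[R] (Fin n → R)) * A *
    LinearMap.toMatrix' (ζ.symm : (Fin n → R) →ₗ[R] (Fin n → R))
  have h3 : (Matrix.toLin' (φ A)) ∘ₗ (ζ : (Fin n → R) →ₗ[R] (Fin n → R)) =
      (ζ : (Fin n → R) →ₗ[R] (Fin n → R)) ∘ₗ Matrix.toLin' A := by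
    apply LinearMap.ext
    intro x
    rw [LinearMap.comp_apply, LinearMap.comp_apply, ← toEndEquiv_toLin]
    exact (h _ x).symm
  have h4 := congrArg LinearMap.toMatrix' h3
  rw [LinearMap.toMatrix'_comp, LinearMap.toMatrix'_comp, LinearMap.toMatrix'_toLin',
    LinearMap.toMatrix'_toLin'] at h4
  rw [← h4, mul_assoc, h1, mul_one]

end


/-- Let R be a commutative ring and n ≥ 1. The natural map from GL_n(R) to the R-algebra automorphisms
of M_n(R) is surjective (every automorphism is inner) if and only if Pic_(n)(R) = 0, i.e. every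
invertible R-module N with N^n ≅ R^n is free. (For n = 0 the left side holds trivially while the
right side fails whenever Pic(R) ≠ 0, so this row assumes n ≥ 1, which the published statement
leaves implicit; invertible modules are quantified in the universe of R, which loses nothing since
every invertible module is finitely generated.) -/
theorem result {R : Type u} [CommRing R] (n : ℕ)
    (hn : 1 ≤ n) :
    (∀ φ : Matrix (Fin n) (Fin n) R ≃ₐ[R] Matrix (Fin n) (Fin n) R,
        ∃ P : GL (Fin n) R, ∀ A : Matrix (Fin n) (Fin n) R, φ A = P.1 * A * (P⁻¹).1) ↔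
      (∀ (N : Type u) [AddCommGroup N] [Module R N] [Module.Invertible R N],
        Nonempty ((Fin n → N) ≃ₗ[R] (Fin n → R)) → Module.Free R N) := by
  classical
  haveI : Nonempty (Fin n) := ⟨⟨0, hn⟩⟩
  rcases subsingleton_or_nontrivial R with hR | hR
  · constructor
    · intro _ N _ _ _ _
      haveI : Subsingleton N := Module.subsingleton R N
      exact Module.Free.of_subsingleton R N
    · intro _ φ
      exact ⟨1, fun A => Subsingleton.elim _ _⟩
  constructor
  · -- inner ⇒ Pic_(n) trivial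
    intro hinner N _ _ _ hθ
    obtain ⟨θ⟩ := hθ
    -- θ' : R^n ⊗ N ≃ R^n
    let θ' : (Fin n → R) ⊗[R] N ≃ₗ[R] (Fin n → R) :=
      (TensorProduct.comm R (Fin n → R) N) ≪≫ₗ (TensorProduct.piScalarRight R R N (Fin n)) ≪≫ₗ θ
    let e0 : N ⊗[R] Module.Dual R N ≃ₗ[R] R :=
      TensorProduct.comm R N (Module.Dual R N) ≪≫ₗ Module.Invertible.linearEquiv R N
    have hbij : Function.Bijective (Module.End.rTensorAlgHom R (Fin n → R) N) :=
      (Module.Invertible.rTensorEquiv (Fin n → R) (Fin n → R) e0).bijective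
    let φ' : Module.End R (Fin n → R) ≃ₐ[R] Module.End R (Fin n → R) :=
      (AlgEquiv.ofBijective (Module.End.rTensorAlgHom R (Fin n → R) N) hbij).trans
        (LinearEquiv.conjAlgEquiv R θ')
    have hφ' : ∀ f : Module.End R (Fin n → R), φ' f = θ'.conj (LinearMap.rTensor N f) := by
      intro f
      rfl
    let φ : Matrix (Fin n) (Fin n) R ≃ₐ[R] Matrix (Fin n) (Fin n) R :=
      (Matrix.toLinAlgEquiv' (R := R) (n := Fin n)).trans
        (φ'.trans (Matrix.toLinAlgEquiv' (R := R) (n := Fin n)).symm)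
    obtain ⟨P, hP⟩ := hinner φ
    -- ζ = toLin' P
    have hφA : ∀ A : Matrix (Fin n) (Fin n) R, φ' (Matrix.toLin' A) = Matrix.toLin' (φ A) := by
      intro A
      show φ' (Matrix.toLinAlgEquiv' A) =
        Matrix.toLinAlgEquiv' ((Matrix.toLinAlgEquiv').symm (φ' (Matrix.toLinAlgEquiv' A)))
      rw [AlgEquiv.apply_symm_apply]
    -- θ'' := ζ⁻¹ ∘ θ'
    have key : ∀ (A : Matrix (Fin n) (Fin n) R) (t : (Fin n → R) ⊗[R] N),
        Matrix.toLin' (P⁻¹).1 (θ' (LinearMap.rTensor N (Matrix.toLin' A) t)) =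
          Matrix.toLin' A (Matrix.toLin' (P⁻¹).1 (θ' t)) := by
      intro A t
      have h1 : θ' (LinearMap.rTensor N (Matrix.toLin' A) t) = Matrix.toLin' (φ A) (θ' t) := by
        rw [← hφA, hφ', LinearEquiv.conj_apply_apply, LinearEquiv.symm_apply_apply]
      rw [h1, hP A, ← LinearMap.comp_apply, ← Matrix.toLin'_mul, ← LinearMap.comp_apply,
        ← Matrix.toLin'_mul]
      congr 2
      rw [← mul_assoc, ← mul_assoc]
      have : (P⁻¹).1 * P.1 = 1 := by
        rw [← Units.val_mul, inv_mul_cancel]; rfl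
      rw [this, one_mul]
    have hPP : P.1 * (P⁻¹).1 = 1 := by
      rw [← Units.val_mul, mul_inv_cancel]; rfl
    have hPP' : (P⁻¹).1 * P.1 = 1 := by
      rw [← Units.val_mul, inv_mul_cancel]; rfl
    obtain ⟨i0⟩ : Nonempty (Fin n) := inferInstance
    obtain ⟨e₀, he₀⟩ : ∃ e₀ : Fin n → R, e₀ = Pi.single i0 1 := ⟨_, rfl⟩
    have he₀i : e₀ i0 = 1 := by rw [he₀]; simp
    obtain ⟨pl, hpl⟩ : ∃ pl : Module.End R (Fin n → R),
        pl = (LinearMap.proj i0 : (Fin n → R) →ₗ[R] R).smulRight e₀ := ⟨_, rfl⟩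
    have hplv : ∀ v : Fin n → R, pl v = v i0 • e₀ := by
      intro v; rw [hpl]; rfl
    let th : (Fin n → R) ⊗[R] N →ₗ[R] (Fin n → R) :=
      (Matrix.toLin' (P⁻¹).1) ∘ₗ (θ' : (Fin n → R) ⊗[R] N →ₗ[R] (Fin n → R))
    let thinv : (Fin n → R) →ₗ[R] (Fin n → R) ⊗[R] N :=
      (θ'.symm : (Fin n → R) →ₗ[R] (Fin n → R) ⊗[R] N) ∘ₗ (Matrix.toLin' P.1)
    have hth1 : ∀ v, th (thinv v) = v := by
      intro v
      simp only [th, thinv, LinearMap.comp_apply, LinearEquiv.coe_coe, LinearEquiv.apply_symm_apply]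
      rw [← LinearMap.comp_apply, ← Matrix.toLin'_mul, hPP', Matrix.toLin'_one]
      rfl
    have hth2 : ∀ t, thinv (th t) = t := by
      intro t
      simp only [th, thinv, LinearMap.comp_apply, LinearEquiv.coe_coe]
      rw [← LinearMap.comp_apply (Matrix.toLin' P.1), ← Matrix.toLin'_mul, hPP, Matrix.toLin'_one]
      simp
    have hkey : ∀ t, th (LinearMap.rTensor N pl t) = pl (th t) := by
      intro t
      have := key (LinearMap.toMatrix' pl) t
      rw [Matrix.toLin'_toMatrix'] at this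
      exact this
    let γ : (Fin n → R) ⊗[R] N →ₗ[R] N :=
      (TensorProduct.lid R N : R ⊗[R] N →ₗ[R] N) ∘ₗ
        (LinearMap.rTensor N (LinearMap.proj i0 : (Fin n → R) →ₗ[R] R))
    have hγ : ∀ (v : Fin n → R) (x : N), γ (v ⊗ₜ x) = v i0 • x := by
      intro v x
      simp [γ]
    have ha : ∀ t : (Fin n → R) ⊗[R] N, e₀ ⊗ₜ[R] (γ t) = LinearMap.rTensor N pl t := by
      intro t
      induction t using TensorProduct.induction_on with
      | zero => simp
      | add a b ha hb => rw [map_add, TensorProduct.tmul_add, ha, hb, map_add]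
      | tmul v x =>
        rw [hγ, LinearMap.rTensor_tmul, hplv, TensorProduct.smul_tmul]
    let α : N →ₗ[R] R := (LinearMap.proj i0 : (Fin n → R) →ₗ[R] R) ∘ₗ th ∘ₗ
      (TensorProduct.mk R (Fin n → R) N e₀)
    let β : R →ₗ[R] N := γ ∘ₗ thinv ∘ₗ (LinearMap.toSpanSingleton R (Fin n → R) e₀)
    have hαβ : ∀ r : R, α (β r) = r := by
      intro r
      show (th (e₀ ⊗ₜ[R] γ (thinv (r • e₀)))) i0 = r
      rw [ha, hkey, hth1, hplv]
      simp [he₀i]
    have hβα : ∀ x : N, β (α x) = x := by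
      intro x
      show γ (thinv ((th (e₀ ⊗ₜ[R] x)) i0 • e₀)) = x
      rw [← hplv, ← hkey, LinearMap.rTensor_tmul, hplv, he₀i, one_smul, hth2, hγ, he₀i, one_smul]
    exact Module.Free.of_equiv
      (LinearEquiv.ofLinearMap α β (LinearMap.ext hαβ) (LinearMap.ext hβα)).symm
  · -- Pic_(n) trivial ⇒ inner
    intro hfree φ
    obtain ⟨D⟩ := exists_DB R (Fin n → R)
    haveI := invertible_Lmod D D (toEndEquiv φ)
    have hequiv : Nonempty ((Fin n → Lmod (toEndEquiv φ)) ≃ₗ[R] (Fin n → R)) :=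
      ⟨(TensorProduct.piScalarRight R R (Lmod (toEndEquiv φ)) (Fin n)).symm ≪≫ₗ
        (TensorProduct.comm R _ _) ≪≫ₗ xiEquiv D (toEndEquiv φ)⟩
    haveI := hfree (Lmod (toEndEquiv φ)) hequiv
    obtain ⟨e⟩ := (Module.Invertible.free_iff_linearEquiv (R := R)
      (M := Lmod (toEndEquiv φ))).mp inferInstance
    let ζ : (Fin n → R) ≃ₗ[R] (Fin n → R) :=
      (TensorProduct.rid R (Fin n → R)).symm ≪≫ₗ
        (TensorProduct.congr (LinearEquiv.refl R (Fin n → R)) e.symm) ≪≫ₗ xiEquiv D (toEndEquiv φ)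
    have hζ : ∀ z, ζ z = ((e.symm 1 : Lmod (toEndEquiv φ)) : (Fin n → R) →ₗ[R] (Fin n → R)) z := by
      intro z
      simp [ζ]
    apply inner_of_equiv φ ζ
    intro f x
    rw [hζ, hζ]
    exact (e.symm 1).2 f x

end Groth.Agent.S16199
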