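import Groth.Statements.S13797
import Groth.Agent.Lib.Helper17.PicTorsion
import Groth.Agent.S16199
import Mathlib

set_option autoImplicit false
universe u
open scoped TensorProduct
open Brauer

namespace Groth.Agent.S13797

open Groth.Agent.Lib.Helper17.MoritaEnd Groth.Agent.S16199


/-- In the case of an affine scheme — let A be a commutative ring, n ≥ 1 and α an A-algebra automorphism
of the n × n matrix algebra over A. The A-module L of matrices M with M N = α(N) M for every matrix
N (the module of sections of the line bundle attached to the torsor of liftings of α to GL_n) is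
invertible, and its class in the Picard group of A is n-torsion: the n-fold tensor power of L is
isomorphic to A (existence of an isomorphism only). (The published statement is for an automorphism
of End(O^n) on any locally ringed site, in the form: the sheaf of liftings is a 𝔾_m-torsor whose
class in Pic is n-torsion; this row is the affine case.) -/
theorem result (A : Type u) [CommRing A] (n : ℕ) (hn : 0 < n)
    (α : Matrix (Fin n) (Fin n) A ≃ₐ[A] Matrix (Fin n) (Fin n) A) :
    Module.Invertible A
        (LinearMap.ker (LinearMap.mul A (Matrix (Fin n) (Fin n) A) -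
          (LinearMap.lcomp A (Matrix (Fin n) (Fin n) A) α.toLinearMap).comp (LinearMap.mul A (Matrix (Fin n) (Fin n) A)).flip)) ∧
      Nonempty ((⨂[A] _ : Fin n,
          LinearMap.ker (LinearMap.mul A (Matrix (Fin n) (Fin n) A) -
            (LinearMap.lcomp A (Matrix (Fin n) (Fin n) A) α.toLinearMap).comp (LinearMap.mul A (Matrix (Fin n) (Fin n) A)).flip)) ≃ₗ[A] A) := by
  classical
  haveI : Nonempty (Fin n) := ⟨⟨0, hn⟩⟩
  obtain ⟨Lm, hLm⟩ : ∃ Lm : Submodule A (Matrix (Fin n) (Fin n) A), Lm =
      LinearMap.ker (LinearMap.mul A (Matrix (Fin n) (Fin n) A) -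
          (LinearMap.lcomp A (Matrix (Fin n) (Fin n) A) α.toLinearMap).comp
            (LinearMap.mul A (Matrix (Fin n) (Fin n) A)).flip) := ⟨_, rfl⟩
  rw [← hLm]
  have hmem : ∀ M : Matrix (Fin n) (Fin n) A, M ∈ Lm ↔ ∀ N, M * N = α N * M := by
    intro M
    rw [hLm, LinearMap.mem_ker]
    constructor
    · intro h N
      have := LinearMap.congr_fun h N
      simpa [sub_eq_zero] using this
    · intro h
      ext1 N
      simp [sub_eq_zero, h N]
  rcases subsingleton_or_nontrivial A with hA | hA
  · haveI : Subsingleton Lm := Module.subsingleton A Lm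
    haveI : Subsingleton (⨂[A] _ : Fin n, Lm) := Module.subsingleton A _
    refine ⟨Module.Invertible.congr (LinearEquiv.ofSubsingleton A Lm), ⟨LinearEquiv.ofSubsingleton _ _⟩⟩
  obtain ⟨D⟩ := exists_DB A (Fin n → A)
  haveI hinv := invertible_Lmod D D (toEndEquiv α)
  -- Lm ≃ Lmod
  have hmap : Submodule.map ((Matrix.toLin' : Matrix (Fin n) (Fin n) A ≃ₗ[A] _) :
      Matrix (Fin n) (Fin n) A →ₗ[A] _) Lm = Lmod (toEndEquiv α) := by
    ext ℓ
    constructor
    · rintro ⟨M, hM, rfl⟩
      intro f x
      obtain ⟨N, rfl⟩ := (Matrix.toLin' : Matrix (Fin n) (Fin n) A ≃ₗ[A] _).surjective f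
      rw [toEndEquiv_toLin]
      simp only [LinearEquiv.coe_coe]
      rw [← LinearMap.comp_apply, ← Matrix.toLin'_mul, (hmem M).mp hM N, Matrix.toLin'_mul]
      rfl
    · intro hℓ
      obtain ⟨M, rfl⟩ := (Matrix.toLin' : Matrix (Fin n) (Fin n) A ≃ₗ[A] _).surjective ℓ
      refine ⟨M, (hmem M).mpr fun N => ?_, rfl⟩
      apply (Matrix.toLin' : Matrix (Fin n) (Fin n) A ≃ₗ[A] _).injective
      apply LinearMap.ext
      intro x
      rw [Matrix.toLin'_mul, Matrix.toLin'_mul, LinearMap.comp_apply, LinearMap.comp_apply]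
      have := hℓ (Matrix.toLin' N) x
      rw [toEndEquiv_toLin] at this
      exact this
  let e12 : Lm ≃ₗ[A] Lmod (toEndEquiv α) :=
    ((Matrix.toLin' : Matrix (Fin n) (Fin n) A ≃ₗ[A] _).submoduleMap Lm) ≪≫ₗ
      LinearEquiv.ofEq _ _ hmap
  haveI : Module.Invertible A Lm := Module.Invertible.congr e12.symm
  refine ⟨inferInstance, ?_⟩
  let e3 : (Fin n → Lm) ≃ₗ[A] (Fin n → A) :=
    (LinearEquiv.piCongrRight fun _ => e12) ≪≫ₗ
      (TensorProduct.piScalarRight A A (Lmod (toEndEquiv α)) (Fin n)).symm ≪≫ₗ
        (TensorProduct.comm A _ _) ≪≫ₗ xiEquiv D (toEndEquiv α)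
  exact Groth.Agent.Lib.Helper17.PicTorsion.nonempty_tensorPower_equiv e3

end Groth.Agent.S13797
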