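import Groth.Statements.S13799
import Groth.Agent.Lib.Helper14.ConstTorsion

set_option autoImplicit false
universe u
open CategoryTheory Opposite
open CohSite

namespace Groth.Agent.S13799

open CategoryTheory.Limits Abelian
open Groth.Agent.Lib.Helper14.TorsH1 Groth.Agent.Lib.Helper14.ConstTorsion


/-- On a site, take a torsion-free abelian group A, and let φ be a locally nonzero global section of the
constant sheaf ℤ, viewed as an endomorphism of the constant abelian sheaf ℤ: there are objects U_i
which cover every object of the site locally and nonzero integers n_i such that φ is multiplication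
by n_i on every object over U_i. Then the first cohomology H¹(A) of the constant sheaf on A (the
Ext-based sheaf cohomology of the site) has no φ-torsion: a class x with φ · x = 0 is zero, where φ
acts on H¹(A) = Ext¹(ℤ, A) by precomposition. (The published statement takes the section in the
constant sheaf of A itself, with a module structure over its global sections that is defined for A =
ℤ; this row lets a locally nonzero section of the constant sheaf ℤ act on H¹(A), which is the
published statement when A = ℤ and is what the published proof establishes for any torsion-free A.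
The published definition of a locally nonzero section also asks the covering family to be nonempty;
when it is empty every sheaf is terminal and the conclusion holds trivially, so that condition is
omitted.) -/
theorem result {C : Type u} [SmallCategory C] (J : GrothendieckTopology C)
    {A : Type u} [AddCommGroup A] (hA : ∀ (m : ℤ) (a : A), m ≠ 0 → m • a = 0 → a = 0)
    (φ : (constantSheaf J AddCommGrpCat.{u}).obj (AddCommGrpCat.of (ULift.{u} ℤ)) ⟶
      (constantSheaf J AddCommGrpCat.{u}).obj (AddCommGrpCat.of (ULift.{u} ℤ)))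
    {ι : Type u} (U : ι → C) (n : ι → ℤ) (hn : ∀ i, n i ≠ 0)
    (hφ : ∀ (i : ι) (V : C) (_ : V ⟶ U i), φ.hom.app (op V) = n i • 𝟙 _)
    (hcov : ∀ V : C, ∃ R ∈ J V, ∀ ⦃W : C⦄ (g : W ⟶ V), R g → ∃ i, Nonempty (W ⟶ U i))
    (x : Sheaf.H ((constantSheaf J AddCommGrpCat.{u}).obj (AddCommGrpCat.of A)) 1)
    (hx : (Abelian.Ext.mk₀ φ).comp x (zero_add 1) = 0) :
    x = 0 := by
  have : EnoughInjectives (Sheaf J AddCommGrpCat.{u}) := inferInstance
  let G : Sheaf J AddCommGrpCat.{u} := As J A
  let S : ShortComplex (Sheaf J AddCommGrpCat.{u}) :=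
    ShortComplex.mk (Injective.ι G) (cokernel.π (Injective.ι G)) (cokernel.condition _)
  have hS : S.ShortExact :=
    { exact := ShortComplex.exact_cokernel _
      mono_f := inferInstanceAs (Mono (Injective.ι G))
      epi_g := inferInstanceAs (Epi (cokernel.π (Injective.ι G))) }
  obtain ⟨φ', hφ'⟩ : ∃ φ' : Zs J ⟶ Zs J, φ' = φ := ⟨φ, rfl⟩
  have hgood : ∀ V : C, ∃ R ∈ J V, ∀ ⦃W : C⦄ (g : W ⟶ V), R g →
      ∃ m, Good (J := J) φ' W m := by
    intro V
    obtain ⟨R, hR, h⟩ := hcov V
    refine ⟨R, hR, fun W g hg => ?_⟩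
    obtain ⟨i, ⟨a⟩⟩ := h g hg
    refine ⟨n i, hn i, fun V' a' => ?_⟩
    rw [hφ']
    exact hφ i V' (a' ≫ a)
  obtain ⟨x', hx'⟩ : ∃ x' : Ext (Zs J) G 1, x' = x := ⟨x, rfl⟩
  have hxx : (Ext.mk₀ φ').comp x' (zero_add 1) = 0 := by
    rw [hφ', hx']
    exact hx
  suffices x' = 0 by rw [← hx']; exact this

  clear hx hx' hφ'
  have hx0 : x'.comp (Ext.mk₀ S.f) (add_zero 1) = 0 := Ext.eq_zero_of_injective _
  obtain ⟨x₃, hx₃⟩ := Ext.covariant_sequence_exact₁ _ hS x' hx0 (zero_add 1)
  obtain ⟨c, rfl⟩ := (Ext.mk₀_bijective _ _).surjective x₃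
  -- φ ≫ c lifts
  have h1 : (Ext.mk₀ (φ' ≫ c)).comp hS.extClass (zero_add 1) = 0 := by
    rw [← Ext.mk₀_comp_mk₀, Ext.comp_assoc_of_second_deg_zero, hx₃]
    exact hxx
  obtain ⟨b₂, hb₂⟩ := Ext.covariant_sequence_exact₃ _ hS (Ext.mk₀ (φ' ≫ c)) (zero_add 1) h1
  obtain ⟨b, rfl⟩ := (Ext.mk₀_bijective _ _).surjective b₂
  rw [Ext.mk₀_comp_mk₀] at hb₂
  have hb : b ≫ S.g = φ' ≫ c := (Ext.mk₀_bijective _ _).injective hb₂
  have hsec := hasSection_liftTorsor hA S.f S.g S.zero hS φ' c b hb hgood
  obtain ⟨e, he⟩ := exists_lift_of_hasSection S hS c hsec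
  rw [← hx₃, ← he, ← Ext.mk₀_comp_mk₀_assoc, hS.comp_extClass, Ext.comp_zero]

end Groth.Agent.S13799
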