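import Groth.Statements.S13801
import Mathlib.NumberTheory.Padics.PadicVal.Basic
import Mathlib.Data.Nat.Choose.Basic
import Mathlib.Algebra.BigOperators.Group.Finset.Basic

set_option autoImplicit false
open ChowMon

namespace Groth.Agent.S13801

open Nat in
theorem val_le_of_dvd (p : ℕ) [Fact p.Prime] {a b : ℕ} (hb : b ≠ 0) (h : a ∣ b) :
    padicValNat p a ≤ padicValNat p b := by
  rw [← padicValNat_dvd_iff_le hb]
  exact dvd_trans pow_padicValNat_dvd h

open Nat in
theorem part1 {ι : Type*} [DecidableEq ι] (p : ℕ) [Fact p.Prime] (s : Finset ι) (f : ι → ℕ) :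
    ∑ i ∈ s, padicValNat p (f i)! ≤ padicValNat p (∑ i ∈ s, f i)! := by
  induction s using Finset.induction_on with
  | empty => simp
  | insert a s ha ih =>
    rw [Finset.sum_insert ha, Finset.sum_insert ha]
    calc padicValNat p (f a)! + ∑ i ∈ s, padicValNat p (f i)!
        ≤ padicValNat p (f a)! + padicValNat p (∑ i ∈ s, f i)! := Nat.add_le_add_left ih _
      _ = padicValNat p ((f a)! * (∑ i ∈ s, f i)!) :=
          (padicValNat.mul (Nat.factorial_ne_zero _) (Nat.factorial_ne_zero _)).symm
      _ ≤ padicValNat p (f a + ∑ i ∈ s, f i)! :=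
          val_le_of_dvd p (Nat.factorial_ne_zero _) (Nat.factorial_mul_factorial_dvd_factorial_add _ _)

open Nat in
theorem choose_pos_val (p : ℕ) [Fact p.Prime] {S b : ℕ} (hb : 0 < b) (hbS : b ≤ S)
    (h : ¬ p ^ padicValNat p S ∣ b) : 0 < padicValNat p (S.choose b) := by
  have hp : p.Prime := Fact.out
  by_contra h0
  have h0' : padicValNat p (S.choose b) = 0 := by omega
  have hc : S.choose b ≠ 0 := (Nat.choose_pos hbS).ne'
  have hnd : ¬ p ∣ S.choose b := by
    intro hd
    have := one_le_padicValNat_of_dvd hc hd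
    omega
  apply h
  obtain ⟨b', rfl⟩ : ∃ b', b = b' + 1 := ⟨b - 1, by omega⟩
  obtain ⟨S', rfl⟩ : ∃ S', S = S' + 1 := ⟨S - 1, by omega⟩
  have e := Nat.add_one_mul_choose_eq S' b'
  have hdvd : p ^ padicValNat p (S' + 1) ∣ (S' + 1).choose (b' + 1) * (b' + 1) := by
    rw [← e]
    exact dvd_mul_of_dvd_left pow_padicValNat_dvd _
  have hcop : Nat.Coprime (p ^ padicValNat p (S' + 1)) ((S' + 1).choose (b' + 1)) :=
    Nat.Coprime.pow_left _ ((Nat.Prime.coprime_iff_not_dvd hp).mpr hnd)
  exact hcop.dvd_of_dvd_mul_left hdvd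

/-- For a prime p and positive natural numbers a_1, ..., a_k with sum n one has v_p(a_1!) + ... +
v_p(a_k!) ≤ v_p(n!), and the inequality is strict whenever some a_i is not divisible by p^(v_p(n)). -/
theorem result {k : ℕ} (p : ℕ) [Fact p.Prime]
    (a : Fin k → ℕ) (ha : ∀ i, 0 < a i) :
    (∑ i, padicValNat p (a i).factorial ≤ padicValNat p (∑ i, a i).factorial) ∧
      ((∃ i, ¬ p ^ padicValNat p (∑ j, a j) ∣ a i) →
        ∑ i, padicValNat p (a i).factorial < padicValNat p (∑ i, a i).factorial) := by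
  classical
  refine ⟨part1 p Finset.univ a, ?_⟩
  rintro ⟨i, hi⟩
  have hsplit : ∑ j, a j = a i + ∑ j ∈ Finset.univ.erase i, a j :=
    (Finset.add_sum_erase _ _ (Finset.mem_univ i)).symm
  have hsplit' : ∑ j, padicValNat p (a j).factorial =
      padicValNat p (a i).factorial + ∑ j ∈ Finset.univ.erase i, padicValNat p (a j).factorial :=
    (Finset.add_sum_erase _ (fun j => padicValNat p (a j).factorial) (Finset.mem_univ i)).symm
  set T := ∑ j ∈ Finset.univ.erase i, a j with hT
  have h1 : ∑ j ∈ Finset.univ.erase i, padicValNat p (a j).factorial ≤ padicValNat p T.factorial :=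
    part1 p (Finset.univ.erase i) a
  have hle : a i ≤ ∑ j, a j := by omega
  have hpos := choose_pos_val p (ha i) hle hi
  have hfac := Nat.choose_mul_factorial_mul_factorial hle
  have hv : padicValNat p (∑ j, a j).factorial =
      padicValNat p ((∑ j, a j).choose (a i)) + padicValNat p (a i).factorial +
        padicValNat p ((∑ j, a j) - a i).factorial := by
    rw [← hfac, padicValNat.mul (Nat.mul_ne_zero (Nat.choose_pos hle).ne' (Nat.factorial_ne_zero _))
      (Nat.factorial_ne_zero _), padicValNat.mul (Nat.choose_pos hle).ne' (Nat.factorial_ne_zero _)]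
  have hsub : (∑ j, a j) - a i = T := by omega
  rw [hsub] at hv
  rw [hv, hsplit']
  omega

end Groth.Agent.S13801
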