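import Groth.Statements.S13803
import Groth.Agent.Lib.Helper9.EtaPt3

set_option autoImplicit false
universe u
open EtaPt

namespace Groth.Agent.S13803

open Groth.Agent.Lib.Helper9.EtaPt

/-- For a commutative ring A with finitely many minimal prime ideals, Spec of q_A : A → M_η(A) is a
bijection, and for a prime Q of M_η(A) over the prime P of A the map η at k(P), from k(P) to
F(k(P)), factors through the residue field map k(P) → k(Q). Here η is a natural transformation from
the identity of the category of fields to an endofunctor F with F(η_K) bijective and η_K purely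
inseparable for every field K, N_η(A) is the product of the F(k(p)) over the primes p of A with
diagonal map t_A, and M_η(A) ⊆ N_η(A) is the subring of elements sent into the range of t_R by every
ring map from A to a valuation ring R at whose fraction field η is bijective; q_A : A → M_η(A) is
the corestriction of t_A. -/
theorem result (η : EtaPt.FieldEndo.{u}) (A : Type u) [CommRing A]
    (hA : (minimalPrimes A).Finite) :
    Function.Bijective (PrimeSpectrum.comap (η.q A)) ∧
      ∀ Q : PrimeSpectrum (η.M A),
        ∃ φ : Q.asIdeal.ResidueField →+* η.obj (PrimeSpectrum.comap (η.q A) Q).asIdeal.ResidueField,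
          φ.comp (Ideal.ResidueField.map (PrimeSpectrum.comap (η.q A) Q).asIdeal Q.asIdeal (η.q A) rfl) =
            η.eta (PrimeSpectrum.comap (η.q A) Q).asIdeal.ResidueField := by
  refine ⟨⟨?_, ?_⟩, ?_⟩
  · intro Q₁ Q₂ h
    apply PrimeSpectrum.ext
    rw [eq_ker_proj η hA Q₁ (PrimeSpectrum.comap (η.q A) Q₁) rfl,
      eq_ker_proj η hA Q₂ (PrimeSpectrum.comap (η.q A) Q₁) (by rw [h]; rfl)]
  · intro P
    refine ⟨⟨RingHom.ker (proj η P), inferInstance⟩, ?_⟩
    apply PrimeSpectrum.ext
    exact comap_ker_proj η P
  · intro Q
    have hQ := eq_ker_proj η hA Q (PrimeSpectrum.comap (η.q A) Q) rfl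
    refine ⟨Ideal.ResidueField.lift Q.asIdeal (proj η (PrimeSpectrum.comap (η.q A) Q))
      (le_of_eq hQ) ?_, ?_⟩
    · intro x hx
      rw [Submonoid.mem_comap]
      apply IsUnit.mk0
      intro h0
      apply hx
      rw [hQ]
      exact h0
    · apply Ideal.ResidueField.ringHom_ext
      ext a
      simp only [RingHom.comp_apply]
      rw [Ideal.ResidueField.map_algebraMap, Ideal.ResidueField.lift_algebraMap]
      rfl

end Groth.Agent.S13803
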