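import Groth.Statements.S13811
import Groth.Agent.Lib.Helper9.EtaPt

set_option autoImplicit false
universe u
open EtaPt

namespace Groth.Agent.S13811

open Groth.Agent.Lib.Helper9.EtaPt

/-- If f : A → B is an integral ring map with N_η(f) bijective, then every ring map from A to a
valuation ring R at whose fraction field η is bijective factors through f. Here η is a natural
transformation from the identity of the category of fields to an endofunctor F with F(η_K) bijective
and η_K purely inseparable for every field K, N_η(A) is the product of the F(k(p)) over the primes p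
of A with diagonal map t_A, and M_η(A) ⊆ N_η(A) is the subring of elements sent into the range of
t_R by every ring map from A to a valuation ring R at whose fraction field η is bijective; q_A : A →
M_η(A) is the corestriction of t_A. -/
theorem result (η : EtaPt.FieldEndo.{u}) {A B : Type u} [CommRing A] [CommRing B] (f : A →+* B)
    (hf : f.IsIntegral) (hN : Function.Bijective (η.Nmap f))
    (R : Type u) [CommRing R] [IsDomain R] [ValuationRing R] (hR : η.InV R) (g : A →+* R) :
    ∃ g' : B →+* R, g'.comp f = g := by
  classical
  let botR : PrimeSpectrum R := ⟨⊥, Ideal.isPrime_bot⟩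
  have hK : Function.Bijective (η.eta botR.asIdeal.ResidueField) :=
    bijective_eta_of_inV η R botR.asIdeal.ResidueField hR
  let p : PrimeSpectrum A := PrimeSpectrum.comap g botR
  obtain ⟨q, hq⟩ := comap_surjective_of_Nmap_injective η f hN.1 p
  have hqp : p.asIdeal = q.asIdeal.comap f := by rw [← hq]; rfl
  have hρ := bijective_map_residue_of_Nmap_surjective η f hN.2 q p hqp
  let gbar : p.asIdeal.ResidueField →+* botR.asIdeal.ResidueField :=
    Ideal.ResidueField.map p.asIdeal botR.asIdeal g rfl
  let eK : botR.asIdeal.ResidueField ≃+* η.obj botR.asIdeal.ResidueField :=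
    RingEquiv.ofBijective (η.eta botR.asIdeal.ResidueField) hK
  let eρ : η.obj p.asIdeal.ResidueField ≃+* η.obj q.asIdeal.ResidueField :=
    RingEquiv.ofBijective (η.map (Ideal.ResidueField.map p.asIdeal q.asIdeal f hqp)) hρ
  let ψ : q.asIdeal.ResidueField →+* botR.asIdeal.ResidueField :=
    eK.symm.toRingHom.comp ((η.map gbar).comp (eρ.symm.toRingHom.comp (η.eta _)))
  have hψ : ∀ c, ψ (Ideal.ResidueField.map p.asIdeal q.asIdeal f hqp c) = gbar c := by
    intro c
    apply hK.1
    change η.eta _ (eK.symm (η.map gbar (eρ.symm (η.eta _
      (Ideal.ResidueField.map p.asIdeal q.asIdeal f hqp c))))) = _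
    have h1 : ∀ z, η.eta _ (eK.symm z) = z := fun z => eK.apply_symm_apply z
    rw [h1, ← map_eta η (Ideal.ResidueField.map p.asIdeal q.asIdeal f hqp) c]
    have h2 : eρ.symm (η.map (Ideal.ResidueField.map p.asIdeal q.asIdeal f hqp) (η.eta _ c)) =
        η.eta _ c := eρ.symm_apply_apply _
    rw [h2, map_eta]
  let h : B →+* botR.asIdeal.ResidueField := ψ.comp (algebraMap B q.asIdeal.ResidueField)
  have hhf : ∀ a, h (f a) = algebraMap R botR.asIdeal.ResidueField (g a) := by
    intro a
    change ψ (algebraMap B _ (f a)) = _
    rw [← Ideal.ResidueField.map_algebraMap p.asIdeal q.asIdeal f hqp a, hψ]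
    exact Ideal.ResidueField.map_algebraMap _ _ g rfl a
  have hint : ∀ b, ∃ r : R, algebraMap R botR.asIdeal.ResidueField r = h b := by
    intro b
    obtain ⟨P, hP, hPb⟩ := hf b
    apply IsIntegrallyClosed.algebraMap_eq_of_integral
    refine ⟨P.map g, hP.map g, ?_⟩
    rw [Polynomial.eval₂_map]
    have : (algebraMap R botR.asIdeal.ResidueField).comp g = h.comp f :=
      RingHom.ext fun a => (hhf a).symm
    rw [this, ← Polynomial.hom_eval₂, hPb, map_zero]
  choose g' hg' using hint
  have hinj := IsFractionRing.injective R botR.asIdeal.ResidueField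
  refine ⟨{ toFun := g'
            map_one' := hinj (by rw [hg', map_one, map_one])
            map_mul' := fun b b' => hinj (by rw [hg', map_mul, map_mul, hg', hg'])
            map_zero' := hinj (by rw [hg', map_zero, map_zero])
            map_add' := fun b b' => hinj (by rw [hg', map_add, map_add, hg', hg']) }, ?_⟩
  ext a
  apply hinj
  change algebraMap R _ (g' (f a)) = _
  rw [hg', hhf]

end Groth.Agent.S13811
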