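import Groth.Statements.S13805
import Groth.Agent.Lib.Helper9.EtaPt3
import Groth.Agent.S13812
import Groth.Agent.S13815

set_option autoImplicit false
universe u
open EtaPt

namespace Groth.Agent.S13805

open Groth.Agent.Lib.Helper9.EtaPt

theorem eq_zero_of_t_eq_zero (η : EtaPt.FieldEndo.{u}) (B : Type u) [CommRing B] [IsReduced B] (c : B)
    (h : η.t B c = 0) : c = 0 := by
  apply IsReduced.eq_zero
  rw [nilpotent_iff_mem_prime]
  intro J hJ
  have h1 := congrFun h ⟨J, hJ⟩
  rw [t_apply] at h1
  have h2 := eta_injective η _ (h1.trans (map_zero _).symm)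
  rwa [Ideal.algebraMap_residueField_eq_zero] at h2

/-- For a commutative ring A with finitely many minimal prime ideals, every integral ring map f from
M_η(A) to a reduced ring B with N_η(f) bijective is itself bijective. Here η is a natural
transformation from the identity of the category of fields to an endofunctor F with F(η_K) bijective
and η_K purely inseparable for every field K, N_η(A) is the product of the F(k(p)) over the primes p
of A with diagonal map t_A, and M_η(A) ⊆ N_η(A) is the subring of elements sent into the range of
t_R by every ring map from A to a valuation ring R at whose fraction field η is bijective; q_A : A →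
M_η(A) is the corestriction of t_A. -/
theorem result (η : EtaPt.FieldEndo.{u}) (A : Type u) [CommRing A]
    (hA : (minimalPrimes A).Finite) (B : Type u) [CommRing B] [IsReduced B] (f : η.M A →+* B)
    (hf : f.IsIntegral) (hN : Function.Bijective (η.Nmap f)) : Function.Bijective f := by
  have h15 := Groth.Agent.S13815.result η A hA
  constructor
  · rw [injective_iff_map_eq_zero]
    intro m hm
    have h1 : η.Nmap f (η.t (η.M A) m) = 0 := by
      rw [η.Nmap_t_apply, hm, map_zero]
    have h2 : η.t (η.M A) m = 0 := hN.1 (h1.trans (map_zero _).symm)
    apply h15.2.1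
    rw [map_zero]
    exact Subtype.ext h2
  · intro b
    obtain ⟨w, hw, hwb⟩ := (Groth.Agent.S13812.result η f hf hN).surjOn (η.t_mem_M B b)
    obtain ⟨m, hm⟩ := h15.2.2 ⟨w, hw⟩
    refine ⟨m, ?_⟩
    have h3 : η.t (η.M A) m = w := congrArg Subtype.val hm
    have h4 : η.t B (f m - b) = 0 := by
      rw [map_sub, ← η.Nmap_t_apply, h3, hwb, sub_self]
    exact sub_eq_zero.mp (eq_zero_of_t_eq_zero η B _ h4)

end Groth.Agent.S13805
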