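import Groth.Statements.S13806
import Groth.Agent.Lib.Helper9.EtaPt
import Groth.Agent.S13812

set_option autoImplicit false
universe u
open EtaPt

namespace Groth.Agent.S13806

open Groth.Agent.Lib.Helper9.EtaPt
open scoped nonZeroDivisors

theorem claim (η : EtaPt.FieldEndo.{u}) (A : Type u) [CommRing A] (B : Type u) [CommRing B]
    (g : A →+* B) (hN : Function.Bijective (η.Nmap g)) (g'' : B →+* η.M A)
    (hg'' : g''.comp g = η.q A) (b : B) : η.Nmap g (g'' b : η.N A) = η.t B b := by
  funext q
  let p : PrimeSpectrum A := PrimeSpectrum.comap g q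
  rw [Nmap_apply η g _ q p rfl, t_apply]
  -- θ
  let θ : B →+* η.obj p.asIdeal.ResidueField :=
    (Pi.evalRingHom (fun p : PrimeSpectrum A => η.obj p.asIdeal.ResidueField) p).comp
      ((η.M A).subtype.comp g'')
  have hθg : ∀ a, θ (g a) = η.eta _ (algebraMap A p.asIdeal.ResidueField a) := by
    intro a
    have : g'' (g a) = η.q A a := congrArg (fun φ => φ a) (congrArg DFunLike.coe hg'')
    change ((g'' (g a) : η.M A) : η.N A) p = _
    rw [this]
    rfl
  -- kernel of θ
  let Q : PrimeSpectrum B := ⟨RingHom.ker θ, RingHom.ker_isPrime θ⟩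
  have hQ : PrimeSpectrum.comap g Q = p := by
    apply PrimeSpectrum.ext
    ext a
    change g a ∈ RingHom.ker θ ↔ a ∈ p.asIdeal
    rw [RingHom.mem_ker, hθg, map_eq_zero_iff _ (eta_injective η _),
      Ideal.algebraMap_residueField_eq_zero]
  have hQq : Q = q := comap_injective_of_Nmap_surjective η g hN.2 hQ
  have hker : ∀ b' : B, b' ∈ q.asIdeal → θ b' = 0 := by
    intro b' hb'
    rw [← hQq] at hb'
    exact hb'
  have hρ := bijective_map_residue_of_Nmap_surjective η g hN.2 q p rfl
  obtain ⟨w', hw'⟩ := hρ.2 (η.eta _ (algebraMap B q.asIdeal.ResidueField b))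
  obtain ⟨n, c, hc⟩ := η.exists_pow_mem_range_eta _ w'
  obtain ⟨a', s', hs', hcs⟩ := IsFractionRing.div_surjective (A := A ⧸ p.asIdeal) c
  obtain ⟨a, rfl⟩ := Ideal.Quotient.mk_surjective a'
  obtain ⟨s, rfl⟩ := Ideal.Quotient.mk_surjective s'
  rw [Ideal.algebraMap_quotient_residueField_mk, Ideal.algebraMap_quotient_residueField_mk] at hcs
  have hs0 : algebraMap A p.asIdeal.ResidueField s ≠ 0 := by
    intro h0
    rw [← Ideal.algebraMap_quotient_residueField_mk] at h0
    have : (Ideal.Quotient.mk p.asIdeal s) = 0 :=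
      IsFractionRing.injective (A ⧸ p.asIdeal) p.asIdeal.ResidueField (by rw [h0, map_zero])
    exact nonZeroDivisors.ne_zero hs' this
  have hc' : c * algebraMap A p.asIdeal.ResidueField s = algebraMap A p.asIdeal.ResidueField a := by
    rw [← hcs, div_mul_cancel₀ _ hs0]
  -- (alg_q b)^(e^n) = ρ c
  have h1 : (algebraMap B q.asIdeal.ResidueField b) ^ ringExpChar p.asIdeal.ResidueField ^ n =
      Ideal.ResidueField.map p.asIdeal q.asIdeal g rfl c := by
    apply eta_injective η
    rw [map_pow, ← hw', ← map_pow, ← hc, map_eta]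
  -- b^(e^n) * g s - g a ∈ q
  have h2 : b ^ ringExpChar p.asIdeal.ResidueField ^ n * g s - g a ∈ q.asIdeal := by
    rw [← Ideal.algebraMap_residueField_eq_zero, map_sub, map_mul, map_pow, h1,
      ← Ideal.ResidueField.map_algebraMap p.asIdeal q.asIdeal g rfl s,
      ← Ideal.ResidueField.map_algebraMap p.asIdeal q.asIdeal g rfl a, ← map_mul, hc', sub_self]
  have h3 := hker _ h2
  rw [map_sub, map_mul, map_pow, hθg, hθg, sub_eq_zero] at h3
  have h4 : θ b ^ ringExpChar p.asIdeal.ResidueField ^ n = η.eta _ c := by
    have hs1 : η.eta _ (algebraMap A p.asIdeal.ResidueField s) ≠ 0 := by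
      intro h0
      exact hs0 (eta_injective η _ (h0.trans (map_zero _).symm))
    apply mul_right_cancel₀ hs1
    rw [h3, ← map_mul, hc']
  apply pow_inj_of_ringHom η (Ideal.ResidueField.map p.asIdeal q.asIdeal g rfl) n
  change (η.map _ (θ b)) ^ _ = _
  rw [← map_pow, h4, map_eta, ← map_pow, h1]

/-- For a commutative ring A with finitely many minimal prime ideals and an integral ring map g : A → B
with N_η(g) bijective, there is exactly one ring map g' : B → M_η(A) with g' ∘ g = q_A. Here η is a
natural transformation from the identity of the category of fields to an endofunctor F with F(η_K)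
bijective and η_K purely inseparable for every field K, N_η(A) is the product of the F(k(p)) over
the primes p of A with diagonal map t_A, and M_η(A) ⊆ N_η(A) is the subring of elements sent into
the range of t_R by every ring map from A to a valuation ring R at whose fraction field η is
bijective; q_A : A → M_η(A) is the corestriction of t_A. -/
theorem result (η : EtaPt.FieldEndo.{u}) (A : Type u) [CommRing A]
    (hA : (minimalPrimes A).Finite) (B : Type u) [CommRing B] (g : A →+* B)
    (hg : g.IsIntegral) (hN : Function.Bijective (η.Nmap g)) :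
    ∃! g' : B →+* η.M A, g'.comp g = η.q A := by
  let e : η.N A ≃+* η.N B := RingEquiv.ofBijective (η.Nmap g) hN
  have hmem : ∀ b : B, e.symm (η.t B b) ∈ η.M A := by
    intro b
    obtain ⟨x, hx, hxb⟩ := (Groth.Agent.S13812.result η g hg hN).surjOn (η.t_mem_M B b)
    have : e.symm (η.t B b) = x := by
      rw [RingEquiv.symm_apply_eq]
      exact hxb.symm
    rw [this]
    exact hx
  refine ⟨(e.symm.toRingHom.comp (η.t B)).codRestrict (η.M A) hmem, ?_, ?_⟩
  · ext a : 1
    apply Subtype.ext
    change e.symm (η.t B (g a)) = η.t A a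
    rw [RingEquiv.symm_apply_eq]
    exact (η.Nmap_t_apply g a).symm
  · intro g'' hg''
    ext b : 1
    apply Subtype.ext
    change (g'' b : η.N A) = e.symm (η.t B b)
    rw [RingEquiv.eq_symm_apply]
    exact claim η A B g hN g'' hg'' b

end Groth.Agent.S13806
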