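import Groth.Statements.S13807
import Groth.Agent.Lib.Helper9.EtaPt

set_option autoImplicit false
universe u
open EtaPt

namespace Groth.Agent.S13807

/-- For a field K the pointwise ring M_η(K) is all of N_η(K) = F(k((0))). Here η is a natural
transformation from the identity of the category of fields to an endofunctor F with F(η_K) bijective
and η_K purely inseparable for every field K, N_η(A) is the product of the F(k(p)) over the primes p
of A with diagonal map t_A, and M_η(A) ⊆ N_η(A) is the subring of elements sent into the range of
t_R by every ring map from A to a valuation ring R at whose fraction field η is bijective; q_A : A →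
M_η(A) is the corestriction of t_A. -/
theorem result (η : EtaPt.FieldEndo.{u}) (K : Type u) [Field K] : η.M K = ⊤ := by
  rw [eq_top_iff]
  intro x _
  intro R _ _ _ hR g
  let pt : PrimeSpectrum K := ⟨⊥, Ideal.isPrime_bot⟩
  have hsurj : Function.Surjective (algebraMap K pt.asIdeal.ResidueField) := by
    haveI : pt.asIdeal.IsMaximal := Ideal.bot_isMaximal
    exact Ideal.algebraMap_residueField_surjective _
  obtain ⟨r, hr⟩ := Groth.Agent.Lib.Helper9.EtaPt.exists_of_field η pt.asIdeal.ResidueField
    (algebraMap K _) hsurj (x pt) R hR g
  refine ⟨r, ?_⟩
  funext q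
  change η.eta _ (algebraMap R q.asIdeal.ResidueField r) =
    η.map (Ideal.ResidueField.map (PrimeSpectrum.comap g q).asIdeal q.asIdeal g rfl)
      (x (PrimeSpectrum.comap g q))
  have key : ∀ (p' : PrimeSpectrum K) (hp' : p'.asIdeal = Ideal.comap g q.asIdeal),
      η.map (Ideal.ResidueField.map p'.asIdeal q.asIdeal g hp') (x p') =
        η.eta _ (algebraMap R q.asIdeal.ResidueField r) := by
    intro p' hp'
    obtain rfl : p' = pt := Subsingleton.elim _ _
    apply hr
    ext a
    simp [Ideal.ResidueField.map_algebraMap]
  exact (key _ rfl).symm

end Groth.Agent.S13807
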