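import Groth.Statements.S13810
import Groth.Agent.Lib.Helper9.EtaPt
import Mathlib.RingTheory.Ideal.Prod
import Mathlib.RingTheory.SurjectiveOnStalks

set_option autoImplicit false
universe u
open EtaPt

namespace Groth.Agent.S13810

open Groth.Agent.Lib.Helper9.EtaPt

variable (η : EtaPt.FieldEndo.{u}) (A B : Type u) [CommRing A] [CommRing B]

theorem mem_M_prod (x : η.N (A × B)) (hy : η.Nmap (RingHom.fst A B) x ∈ η.M A)
    (hy' : η.Nmap (RingHom.snd A B) x ∈ η.M B) : x ∈ η.M (A × B) := by
  intro R _ _ _ hR g
  have hidem : g (1, 0) * g (1, 0) = g (1, 0) := by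
    rw [← map_mul]; simp
  have h01 : g (1, 0) + g (0, 1) = 1 := by
    rw [← map_add]
    have : ((1, 0) + (0, 1) : A × B) = 1 := by simp
    rw [this, map_one]
  have hcases : g (1, 0) = 0 ∨ g (1, 0) = 1 := by
    have : g (1, 0) * (g (1, 0) - 1) = 0 := by rw [mul_sub, hidem, mul_one, sub_self]
    rcases mul_eq_zero.mp this with h | h
    · exact Or.inl h
    · exact Or.inr (sub_eq_zero.mp h)
  rcases hcases with h | h
  · have h1 : g (0, 1) = 1 := by rw [h, zero_add] at h01; exact h01
    let g₂ : B →+* R :=
      { toFun := fun b => g (0, b)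
        map_one' := h1
        map_mul' := fun b b' => by rw [← map_mul]; simp
        map_zero' := by
          change g 0 = 0
          exact map_zero g
        map_add' := fun b b' => by rw [← map_add]; simp }
    have hg : g = g₂.comp (RingHom.snd A B) := by
      refine RingHom.ext fun ⟨a, b⟩ => ?_
      change g (a, b) = g (0, b)
      have e : ((a, b) : A × B) = (a, 0) * (1, 0) + (0, b) := by simp
      rw [e, map_add, map_mul, h, mul_zero, zero_add]
    rw [hg, Nmap_comp]
    exact hy' R hR g₂
  · have h1 : g (0, 1) = 0 := by rw [h] at h01; exact add_eq_left.mp h01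
    let g₁ : A →+* R :=
      { toFun := fun a => g (a, 0)
        map_one' := h
        map_mul' := fun a a' => by rw [← map_mul]; simp
        map_zero' := by
          change g 0 = 0
          exact map_zero g
        map_add' := fun a a' => by rw [← map_add]; simp }
    have hg : g = g₁.comp (RingHom.fst A B) := by
      refine RingHom.ext fun ⟨a, b⟩ => ?_
      change g (a, b) = g (a, 0)
      have e : ((a, b) : A × B) = (a, 0) + (0, b) * (0, 1) := by simp
      rw [e, map_add, map_mul, h1, mul_zero, add_zero]
    rw [hg, Nmap_comp]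
    exact hy R hR g₁

theorem comap_fst_ne_comap_snd (q : Ideal A) (q' : Ideal B) [q'.IsPrime] :
    Ideal.comap (RingHom.fst A B) q ≠ Ideal.comap (RingHom.snd A B) q' := by
  intro h
  have h1 : ((0, 1) : A × B) ∈ Ideal.comap (RingHom.fst A B) q := by
    rw [Ideal.mem_comap]
    exact q.zero_mem
  rw [h, Ideal.mem_comap] at h1
  exact Ideal.IsPrime.ne_top' ((Ideal.eq_top_iff_one _).mpr h1)

theorem prime_prod_cases (P : Ideal (A × B)) [hP : P.IsPrime] :
    (∃ q : PrimeSpectrum A, P = Ideal.comap (RingHom.fst A B) q.asIdeal) ∨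
      (∃ q' : PrimeSpectrum B, P = Ideal.comap (RingHom.snd A B) q'.asIdeal) := by
  rcases (Ideal.ideal_prod_prime P).mp hP with ⟨p, hp, rfl⟩ | ⟨p, hp, rfl⟩
  · left
    exact ⟨⟨p, hp⟩, by simp [Ideal.prod]⟩
  · right
    exact ⟨⟨p, hp⟩, by simp [Ideal.prod]⟩

theorem N_prod_ext (x x' : η.N (A × B))
    (h1 : η.Nmap (RingHom.fst A B) x = η.Nmap (RingHom.fst A B) x')
    (h2 : η.Nmap (RingHom.snd A B) x = η.Nmap (RingHom.snd A B) x') : x = x' := by
  funext P
  rcases prime_prod_cases A B P.asIdeal with ⟨q₀, h₀⟩ | ⟨q₀, h₀⟩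
  · have := congrFun h1 q₀
    rw [Nmap_apply η _ x q₀ P h₀, Nmap_apply η _ x' q₀ P h₀] at this
    exact map_injective η _ this
  · have := congrFun h2 q₀
    rw [Nmap_apply η _ x q₀ P h₀, Nmap_apply η _ x' q₀ P h₀] at this
    exact map_injective η _ this

theorem exists_N_prod (y : η.N A) (y' : η.N B) :
    ∃ x : η.N (A × B), η.Nmap (RingHom.fst A B) x = y ∧ η.Nmap (RingHom.snd A B) x = y' := by
  have key : ∀ P : PrimeSpectrum (A × B), ∃ z : η.obj P.asIdeal.ResidueField,
      (∀ (q : PrimeSpectrum A) (hq : P.asIdeal = Ideal.comap (RingHom.fst A B) q.asIdeal),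
        η.map (Ideal.ResidueField.map P.asIdeal q.asIdeal _ hq) z = y q) ∧
      (∀ (q' : PrimeSpectrum B) (hq' : P.asIdeal = Ideal.comap (RingHom.snd A B) q'.asIdeal),
        η.map (Ideal.ResidueField.map P.asIdeal q'.asIdeal _ hq') z = y' q') := by
    intro P
    rcases prime_prod_cases A B P.asIdeal with ⟨q₀, h₀⟩ | ⟨q₀, h₀⟩
    · have hbij := bijective_map_of_bijective η _
        ((RingHom.surjectiveOnStalks_of_surjective (f := RingHom.fst A B)
          Prod.fst_surjective).residueFieldMap_bijective P.asIdeal q₀.asIdeal h₀)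
      obtain ⟨z, hz⟩ := hbij.2 (y q₀)
      refine ⟨z, ?_, ?_⟩
      · intro q hq
        have : q = q₀ := PrimeSpectrum.ext
          (Ideal.comap_injective_of_surjective _ Prod.fst_surjective (hq.symm.trans h₀))
        subst this
        exact hz
      · intro q' hq'
        exact absurd (h₀.symm.trans hq') (comap_fst_ne_comap_snd A B _ _)
    · have hbij := bijective_map_of_bijective η _
        ((RingHom.surjectiveOnStalks_of_surjective (f := RingHom.snd A B)
          Prod.snd_surjective).residueFieldMap_bijective P.asIdeal q₀.asIdeal h₀)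
      obtain ⟨z, hz⟩ := hbij.2 (y' q₀)
      refine ⟨z, ?_, ?_⟩
      · intro q hq
        exact absurd (hq.symm.trans h₀) (comap_fst_ne_comap_snd A B _ _)
      · intro q' hq'
        have : q' = q₀ := PrimeSpectrum.ext
          (Ideal.comap_injective_of_surjective _ Prod.snd_surjective (hq'.symm.trans h₀))
        subst this
        exact hz
  choose x hx using key
  refine ⟨x, ?_, ?_⟩
  · funext q
    rw [Nmap_apply η _ x q (PrimeSpectrum.comap (RingHom.fst A B) q) rfl]
    exact (hx _).1 q rfl
  · funext q
    rw [Nmap_apply η _ x q (PrimeSpectrum.comap (RingHom.snd A B) q) rfl]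
    exact (hx _).2 q rfl

/-- For commutative rings A and B, the pair of maps N_η of the two projections restricts to a bijection
from M_η(A × B) onto M_η(A) × M_η(B). Here η is a natural transformation from the identity of the
category of fields to an endofunctor F with F(η_K) bijective and η_K purely inseparable for every
field K, N_η(A) is the product of the F(k(p)) over the primes p of A with diagonal map t_A, and
M_η(A) ⊆ N_η(A) is the subring of elements sent into the range of t_R by every ring map from A to a
valuation ring R at whose fraction field η is bijective; q_A : A → M_η(A) is the corestriction of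
t_A. -/
theorem result (η : EtaPt.FieldEndo.{u}) (A B : Type u) [CommRing A] [CommRing B] :
    Set.BijOn (fun x : η.N (A × B) => (η.Nmap (RingHom.fst A B) x, η.Nmap (RingHom.snd A B) x))
      (η.M (A × B)) ((η.M A : Set (η.N A)) ×ˢ (η.M B : Set (η.N B))) := by
  refine ⟨?_, ?_, ?_⟩
  · intro x hx
    refine ⟨?_, ?_⟩
    · intro R _ _ _ hR g
      change η.Nmap g (η.Nmap (RingHom.fst A B) x) ∈ _
      rw [← Nmap_comp]
      exact hx R hR _
    · intro R _ _ _ hR g
      change η.Nmap g (η.Nmap (RingHom.snd A B) x) ∈ _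
      rw [← Nmap_comp]
      exact hx R hR _
  · intro x _ x' _ h
    exact N_prod_ext η A B x x' (congrArg Prod.fst h) (congrArg Prod.snd h)
  · rintro ⟨y, y'⟩ ⟨hy, hy'⟩
    obtain ⟨x, h1, h2⟩ := exists_N_prod η A B y y'
    refine ⟨x, ?_, ?_⟩
    · apply mem_M_prod η A B x
      · rw [h1]; exact hy
      · rw [h2]; exact hy'
    · change (η.Nmap (RingHom.fst A B) x, η.Nmap (RingHom.snd A B) x) = (y, y')
      rw [h1, h2]

end Groth.Agent.S13810
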