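import Groth.Statements.S13820
import Groth.Agent.Lib.Helper9.EtaPt4

set_option autoImplicit false
universe u
open EtaPt

namespace Groth.Agent.S13820

open Groth.Agent.Lib.Helper9.EtaPt

/-- Let A have finitely many minimal prime ideals and let B be an A-algebra with Spec B → Spec A
surjective, C the integral closure of A in B; then the inclusion C ⊆ B carries (C/A)_η onto (B/A)_η.
Here η is a natural transformation from the identity of the category of fields to an endofunctor F
with F(η_K) bijective and η_K purely inseparable for every field K, N_η(A) is the product of the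
F(k(p)) over the primes p of A with diagonal map t_A, and M_η(A) ⊆ N_η(A) is the subring of elements
sent into the range of t_R by every ring map from A to a valuation ring R at whose fraction field η
is bijective; q_A : A → M_η(A) is the corestriction of t_A. For a ring map f : A → B, (B/A)_η ⊆ B
denotes the subring of elements b with t_B(b) in N_η(f)(M_η(A)) (the image in B of the fibre product
of M_η(A) and B over M_η(B)), and q_{B/A} : A → (B/A)_η the corestriction of f. -/
theorem result (η : EtaPt.FieldEndo.{u}) (A B : Type u) [CommRing A] [CommRing B] [Algebra A B]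
    (hA : (minimalPrimes A).Finite) (hs : Function.Surjective (PrimeSpectrum.comap (algebraMap A B))) :
    (η.rel (algebraMap A (integralClosure A B))).map (integralClosure A B).val.toRingHom =
      η.rel (algebraMap A B) := by
  have hint : ∀ b : η.rel (algebraMap A B), (b : B) ∈ integralClosure A B := by
    intro b
    obtain ⟨P, hPm, hP⟩ := qRel_isIntegral η (algebraMap A B) hs hA b
    refine ⟨P, hPm, ?_⟩
    have h1 := congrArg (η.rel (algebraMap A B)).subtype hP
    rw [Polynomial.hom_eval₂, map_zero] at h1
    exact h1
  let j : η.rel (algebraMap A B) →+* integralClosure A B :=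
    (η.rel (algebraMap A B)).subtype.codRestrict (integralClosure A B) hint
  have hj : j.comp (η.qRel (algebraMap A B)) = algebraMap A (integralClosure A B) := by
    ext a
    rfl
  have hv : (integralClosure A B).val.toRingHom.comp (algebraMap A (integralClosure A B)) =
      algebraMap A B := by
    ext a
    rfl
  apply le_antisymm
  · rintro _ ⟨c, ⟨x, hx, hxc⟩, rfl⟩
    refine ⟨x, hx, ?_⟩
    rw [← hv, Nmap_comp, hxc, η.Nmap_t_apply]
  · intro b hb
    refine ⟨j ⟨b, hb⟩, ⟨relTheta η (algebraMap A B) hs ⟨b, hb⟩, (relTheta η _ hs ⟨b, hb⟩).2, ?_⟩, rfl⟩
    rw [← hj, Nmap_comp, Nmap_qRel_relTheta η (algebraMap A B) hs hA ⟨b, hb⟩, η.Nmap_t_apply]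

end Groth.Agent.S13820
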