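import Groth.Statements.S13822
import Groth.Agent.Lib.Helper9.EtaPt
import Mathlib.RingTheory.Flat.FaithfullyFlat.Algebra

set_option autoImplicit false
universe u
open scoped TensorProduct
open EtaPt

namespace Groth.Agent.S13822

open Groth.Agent.Lib.Helper9.EtaPt

/-- Let A → A' be faithfully flat with A and A' having finitely many minimal prime ideals, and B an
A-algebra with Spec B → Spec A surjective; if q_{(A' ⊗ B)/A'} is bijective then q_{B/A} is
bijective. Here η is a natural transformation from the identity of the category of fields to an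
endofunctor F with F(η_K) bijective and η_K purely inseparable for every field K, N_η(A) is the
product of the F(k(p)) over the primes p of A with diagonal map t_A, and M_η(A) ⊆ N_η(A) is the
subring of elements sent into the range of t_R by every ring map from A to a valuation ring R at
whose fraction field η is bijective; q_A : A → M_η(A) is the corestriction of t_A. For a ring map f
: A → B, (B/A)_η ⊆ B denotes the subring of elements b with t_B(b) in N_η(f)(M_η(A)) (the image in B
of the fibre product of M_η(A) and B over M_η(B)), and q_{B/A} : A → (B/A)_η the corestriction of f. -/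
theorem result (η : EtaPt.FieldEndo.{u}) (A A' B : Type u) [CommRing A] [CommRing A'] [CommRing B]
    [Algebra A A'] [Algebra A B] [Module.FaithfullyFlat A A']
    (hA : (minimalPrimes A).Finite) (hA' : (minimalPrimes A').Finite)
    (hs : Function.Surjective (PrimeSpectrum.comap (algebraMap A B)))
    (h : Function.Bijective (η.qRel (Algebra.TensorProduct.includeLeftRingHom : A' →+* A' ⊗[A] B))) :
    Function.Bijective (η.qRel (algebraMap A B)) := by
  rw [qRel_bijective_iff] at h ⊢
  have hsq : (Algebra.TensorProduct.includeLeftRingHom : A' →+* A' ⊗[A] B).comp (algebraMap A A') =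
      (Algebra.TensorProduct.includeRight : B →ₐ[A] A' ⊗[A] B).toRingHom.comp (algebraMap A B) := by
    ext a
    change (algebraMap A A' a) ⊗ₜ[A] (1 : B) = (1 : A') ⊗ₜ[A] (algebraMap A B a)
    rw [Algebra.algebraMap_eq_smul_one, Algebra.algebraMap_eq_smul_one, TensorProduct.smul_tmul]
  constructor
  · intro a a' haa'
    apply FaithfulSMul.algebraMap_injective A A'
    apply h.1
    have h1 := congrArg (fun φ => φ a) (congrArg DFunLike.coe hsq)
    have h2 := congrArg (fun φ => φ a') (congrArg DFunLike.coe hsq)
    simp only [RingHom.comp_apply] at h1 h2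
    rw [h1, h2, haa']
  · intro b hb
    obtain ⟨x, hx, hxb⟩ := hb
    have hβ : (Algebra.TensorProduct.includeRight : B →ₐ[A] A' ⊗[A] B).toRingHom b ∈
        η.rel (Algebra.TensorProduct.includeLeftRingHom : A' →+* A' ⊗[A] B) := by
      refine ⟨η.Nmap (algebraMap A A') x, Nmap_mem_M η _ hx, ?_⟩
      rw [← Nmap_comp, hsq, Nmap_comp, hxb, η.Nmap_t_apply]
    obtain ⟨a', ha'⟩ := h.2 _ hβ
    change a' ⊗ₜ[A] (1 : B) = (1 : A') ⊗ₜ[A] b at ha'
    let π : B →ₗ[A] B ⧸ LinearMap.range (Algebra.linearMap A B) := Submodule.mkQ _
    have h1 := congrArg (LinearMap.lTensor A' π) ha'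
    rw [LinearMap.lTensor_tmul, LinearMap.lTensor_tmul] at h1
    have h2 : π 1 = 0 := by
      rw [Submodule.mkQ_apply, Submodule.Quotient.mk_eq_zero]
      exact ⟨1, by simp⟩
    rw [h2, TensorProduct.tmul_zero] at h1
    have h3 : π b = 0 := by
      apply Module.FaithfullyFlat.tensorProduct_mk_injective (A := A) (B := A')
      rw [map_zero]
      exact h1.symm
    rw [Submodule.mkQ_apply, Submodule.Quotient.mk_eq_zero] at h3
    obtain ⟨a, ha⟩ := h3
    exact ⟨a, ha⟩

end Groth.Agent.S13822
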