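import Groth.Statements.S13826
import Groth.Agent.Lib.Helper9.UnivHomeoRing
import Groth.Agent.Lib.Helper9.EtaPt3
import Groth.Agent.Lib.Helper9.EtaPt4
import Groth.Agent.S13802
import Groth.Agent.S13806

set_option autoImplicit false
universe u
open EtaPt

namespace Groth.Agent.S13826

/-- For the identity endofunctor and a commutative ring A with finitely many minimal prime ideals, q_A :
A → M(A) is a seminormalization of A: Spec(q_A) is a universal homeomorphism with trivial residue
field extensions, final among ring maps out of A with these properties. Here M(A) ⊆ ∏_p k(p) is the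
subring of families whose image in ∏_q k(q), for every ring map from A to a valuation ring R, is the
diagonal image of an element of R. -/
theorem result (A : Type u) [CommRing A] (hA : (minimalPrimes A).Finite) :
    HTop.IsRingSN (EtaPt.FieldEndo.ident.{u}.q A) := by
  refine ⟨?_, ?_⟩
  · apply Groth.Agent.Lib.Helper9.UnivHomeoRing.isUnivHomeo_and_residueFieldsIso_of
    · exact Groth.Agent.S13802.result EtaPt.FieldEndo.ident A hA
    · exact ⟨Groth.Agent.Lib.Helper9.EtaPt.comap_q_injective _ hA,
        Groth.Agent.Lib.Helper9.EtaPt.comap_q_surjective _⟩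
    · intro Q
      exact Groth.Agent.Lib.Helper9.EtaPt.bijective_map_residue_q EtaPt.FieldEndo.ident hA Q _ rfl
  · intro C _ ψ h1 h2
    obtain ⟨hint, hbij, hres⟩ :=
      Groth.Agent.Lib.Helper9.UnivHomeoRing.of_isUnivHomeo_of_residueFieldsIso ψ h1 h2
    apply Groth.Agent.S13806.result EtaPt.FieldEndo.ident A hA C ψ hint
    apply Groth.Agent.Lib.Helper9.EtaPt.bijective_Nmap_of_factor EtaPt.FieldEndo.ident ψ hbij
    intro Q
    refine ⟨(RingEquiv.ofBijective _ (hres Q)).symm.toRingHom, ?_⟩
    refine RingHom.ext fun x => ?_
    exact (RingEquiv.ofBijective _ (hres Q)).symm_apply_apply x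

end Groth.Agent.S13826
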