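import Groth.Statements.S13829
import Groth.Agent.Lib.Helper9.EtaPt2
import Groth.Agent.S13825
import Groth.Agent.S13824

set_option autoImplicit false
universe u
open EtaPt

namespace Groth.Agent.S13829

open Groth.Agent.Lib.Helper9.EtaPt

/-- For A with finitely many minimal prime ideals, f ∈ A and a ring map φ : A → B with Spec(φ)
surjective, the localization of (B/A)_η at f is (B_f/A_f)_η: the image of (B/A)_η in B_f lies in
(B_f/A_f)_η, and every element of (B_f/A_f)_η times a power of the image of f is the image of an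
element of (B/A)_η. Here η is a natural transformation from the identity of the category of fields
to an endofunctor F with F(η_K) bijective and η_K purely inseparable for every field K, N_η(A) is
the product of the F(k(p)) over the primes p of A with diagonal map t_A, and M_η(A) ⊆ N_η(A) is the
subring of elements sent into the range of t_R by every ring map from A to a valuation ring R at
whose fraction field η is bijective; q_A : A → M_η(A) is the corestriction of t_A. For a ring map f
: A → B, (B/A)_η ⊆ B denotes the subring of elements b with t_B(b) in N_η(f)(M_η(A)) (the image in B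
of the fibre product of M_η(A) and B over M_η(B)), and q_{B/A} : A → (B/A)_η the corestriction of f. -/
theorem result (η : EtaPt.FieldEndo.{u}) {A B : Type u} [CommRing A] [CommRing B] (hA : (minimalPrimes A).Finite)
    (φ : A →+* B) (hs : Function.Surjective (PrimeSpectrum.comap φ)) (f : A) :
    (η.rel φ).map (algebraMap B (Localization.Away (φ f))) ≤ η.rel (Localization.awayMap φ f) ∧
      ∀ y ∈ η.rel (Localization.awayMap φ f), ∃ x ∈ η.rel φ, ∃ n : ℕ,
        y * algebraMap B (Localization.Away (φ f)) (φ f) ^ n = algebraMap B (Localization.Away (φ f)) x := by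
  have hsq : (Localization.awayMap φ f).comp (algebraMap A (Localization.Away f)) =
      (algebraMap B (Localization.Away (φ f))).comp φ := IsLocalization.map_comp _
  have hsqf : Localization.awayMap φ f (algebraMap A (Localization.Away f) f) =
      algebraMap B (Localization.Away (φ f)) (φ f) :=
    congrArg (fun ψ => ψ f) (congrArg DFunLike.coe hsq)
  have F3 : ∀ z : η.N A, η.Nmap (algebraMap B (Localization.Away (φ f))) (η.Nmap φ z) =
      η.Nmap (Localization.awayMap φ f) (η.Nmap (algebraMap A (Localization.Away f)) z) := by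
    intro z
    rw [← Nmap_comp, ← Nmap_comp, hsq]
  constructor
  · rintro _ ⟨b, ⟨x, hx, hxb⟩, rfl⟩
    refine ⟨η.Nmap (algebraMap A (Localization.Away f)) x, Nmap_mem_M η _ hx, ?_⟩
    rw [← F3, hxb, η.Nmap_t_apply]
  · rintro y ⟨x', hx', hx'y⟩
    obtain ⟨x, hx, n₁, hxn⟩ := (Groth.Agent.S13825.result η A hA f).1 x' hx'
    obtain ⟨⟨b₀, ⟨_, n₂, rfl⟩⟩, hb₀⟩ := IsLocalization.surj (Submonoid.powers (φ f)) y
    have hb₀' : y * algebraMap B (Localization.Away (φ f)) (φ f) ^ n₂ =
        algebraMap B (Localization.Away (φ f)) b₀ := by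
      rw [← map_pow]
      exact hb₀
    have F1 : η.Nmap (Localization.awayMap φ f)
        (η.t (Localization.Away f) (algebraMap A (Localization.Away f) f)) =
        η.t (Localization.Away (φ f)) (algebraMap B (Localization.Away (φ f)) (φ f)) := by
      rw [η.Nmap_t_apply, hsqf]
    have F4 : η.t (Localization.Away (φ f)) y *
        η.t (Localization.Away (φ f)) (algebraMap B (Localization.Away (φ f)) (φ f)) ^ n₂ =
        η.t (Localization.Away (φ f)) (algebraMap B (Localization.Away (φ f)) b₀) := by
      rw [← map_pow, ← map_mul, hb₀']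
    have hkey : η.Nmap (algebraMap B (Localization.Away (φ f)))
        (η.t B (b₀ * φ f ^ n₁) - η.Nmap φ (x * η.t A f ^ n₂)) = 0 := by
      have e1 : η.Nmap (algebraMap B (Localization.Away (φ f))) (η.t B (b₀ * φ f ^ n₁)) =
          η.t (Localization.Away (φ f)) y *
          η.t (Localization.Away (φ f)) (algebraMap B (Localization.Away (φ f)) (φ f)) ^ n₂ *
          η.t (Localization.Away (φ f)) (algebraMap B (Localization.Away (φ f)) (φ f)) ^ n₁ := by
        rw [η.Nmap_t_apply, map_mul, map_pow, map_mul, map_pow, F4]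
      have e2 : η.Nmap (algebraMap B (Localization.Away (φ f))) (η.Nmap φ (x * η.t A f ^ n₂)) =
          η.t (Localization.Away (φ f)) y *
          η.t (Localization.Away (φ f)) (algebraMap B (Localization.Away (φ f)) (φ f)) ^ n₁ *
          η.t (Localization.Away (φ f)) (algebraMap B (Localization.Away (φ f)) (φ f)) ^ n₂ := by
        rw [F3, map_mul, map_pow, η.Nmap_t_apply, ← hxn, map_mul, map_mul, map_pow, map_pow, F1,
          hx'y]
      rw [map_sub, e1, e2]
      ring
    obtain ⟨n₃, hn₃⟩ := (Groth.Agent.S13824.result η B (φ f)).2 _ hkey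
    refine ⟨b₀ * φ f ^ (n₁ + n₃), ⟨x * η.t A f ^ (n₂ + n₃),
      Subring.mul_mem _ hx (Subring.pow_mem _ (η.t_mem_M A f) _), ?_⟩, n₂ + n₁ + n₃, ?_⟩
    · rw [mul_sub, sub_eq_zero] at hn₃
      have e3 : η.Nmap φ (η.t A f) = η.t B (φ f) := η.Nmap_t_apply φ f
      have e4 : η.Nmap φ (x * η.t A f ^ n₂) = η.Nmap φ x * η.t B (φ f) ^ n₂ := by
        rw [map_mul, map_pow, e3]
      have e5 : η.Nmap φ (x * η.t A f ^ (n₂ + n₃)) = η.Nmap φ x * η.t B (φ f) ^ (n₂ + n₃) := by
        rw [map_mul, map_pow, e3]
      have e6 : η.t B (b₀ * φ f ^ (n₁ + n₃)) = η.t B (φ f) ^ n₃ * η.t B (b₀ * φ f ^ n₁) := by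
        rw [← map_pow (η.t B), ← map_mul (η.t B)]
        congr 1
        ring
      rw [e5, e6, hn₃, e4]
      ring
    · rw [map_mul, map_pow, ← hb₀']
      ring

end Groth.Agent.S13829
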