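import Groth.Statements.S13830
import Groth.Agent.Lib.Helper9.UnivHomeoRing
import Groth.Agent.Lib.Helper9.EtaPt3
import Groth.Agent.Lib.Helper9.EtaPt4
import Groth.Agent.S13819

set_option autoImplicit false
universe u
open AlgebraicGeometry
open EtaPt

namespace Groth.Agent.S13830

/-- For the identity endofunctor, a commutative ring A with finitely many minimal prime ideals and an
A-algebra B with Spec B → Spec A surjective, the subring (B/A) ⊆ B (elements b whose residue classes
(b mod q)_q come from a family in M(A) ⊆ ∏_p k(p), M(A) being the families that come from an element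
of R after any base change to a valuation ring R) is the seminormalization of A in B: Spec (B/A) →
Spec A is a universal homeomorphism with trivial residue field extensions, and every A-subalgebra C
of B with these two properties is contained in (B/A). -/
theorem result (A B : Type u) [CommRing A] [CommRing B] [Algebra A B] (hA : (minimalPrimes A).Finite)
    (hs : Function.Surjective (PrimeSpectrum.comap (algebraMap A B))) :
    (FlatMor.IsUnivHomeo (Spec.map (CommRingCat.ofHom (EtaPt.FieldEndo.ident.{u}.qRel (algebraMap A B)))) ∧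
      HTop.ResidueFieldsIso (Spec.map (CommRingCat.ofHom (EtaPt.FieldEndo.ident.{u}.qRel (algebraMap A B))))) ∧
    ∀ C : Subalgebra A B,
      FlatMor.IsUnivHomeo (Spec.map (CommRingCat.ofHom (algebraMap A C))) →
      HTop.ResidueFieldsIso (Spec.map (CommRingCat.ofHom (algebraMap A C))) →
      C.toSubring ≤ EtaPt.FieldEndo.ident.{u}.rel (algebraMap A B) := by
  refine ⟨?_, ?_⟩
  · apply Groth.Agent.Lib.Helper9.UnivHomeoRing.isUnivHomeo_and_residueFieldsIso_of
    · exact Groth.Agent.Lib.Helper9.EtaPt.qRel_isIntegral EtaPt.FieldEndo.ident _ hs hA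
    · exact ⟨Groth.Agent.Lib.Helper9.EtaPt.comap_qRel_injective EtaPt.FieldEndo.ident _ hs hA,
        Groth.Agent.Lib.Helper9.EtaPt.comap_qRel_surjective EtaPt.FieldEndo.ident _ hs⟩
    · intro Q
      exact Groth.Agent.Lib.Helper9.EtaPt.bijective_map_residue_of_Nmap_surjective
        EtaPt.FieldEndo.ident _
        (Groth.Agent.Lib.Helper9.EtaPt.bijective_Nmap_qRel EtaPt.FieldEndo.ident _ hs hA).2 Q _ rfl
  · intro C h1 h2
    obtain ⟨hint, hbij, hres⟩ :=
      Groth.Agent.Lib.Helper9.UnivHomeoRing.of_isUnivHomeo_of_residueFieldsIso _ h1 h2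
    have hN : Function.Bijective (EtaPt.FieldEndo.ident.{u}.Nmap (algebraMap A C)) := by
      apply Groth.Agent.Lib.Helper9.EtaPt.bijective_Nmap_of_factor EtaPt.FieldEndo.ident _ hbij
      intro Q
      refine ⟨(RingEquiv.ofBijective _ (hres Q)).symm.toRingHom, ?_⟩
      refine RingHom.ext fun x => ?_
      exact (RingEquiv.ofBijective _ (hres Q)).symm_apply_apply x
    have hcomp : (algebraMap C B).comp (algebraMap A C) = algebraMap A B := rfl
    have key := Groth.Agent.S13819.result EtaPt.FieldEndo.ident hA (algebraMap A C) (algebraMap C B)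
      (by rw [hcomp]; exact hs) hint hN
    rw [hcomp] at key
    intro c hc
    exact key ⟨⟨c, hc⟩, rfl⟩

end Groth.Agent.S13830
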