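import Groth.Statements.S13835
import Mathlib.AlgebraicGeometry.Morphisms.Separated

set_option autoImplicit false
universe u
open AlgebraicGeometry CategoryTheory
open ChowMon

namespace Groth.Agent.S13835

section helpers
open Limits

theorem compat {T' T Y : Scheme.{u}} (p : T' ⟶ T) (hp : FlatMor.IsUnivHomeo p) [IsReduced T]
    [Y.IsSeparated] (f' : T' ⟶ Y) (V W : T.Opens) (fV : (V : Scheme.{u}) ⟶ Y)
    (fW : (W : Scheme.{u}) ⟶ Y)
    (hV : (p ⁻¹ᵁ V).ι ≫ f' = (p ∣_ V) ≫ fV) (hW : (p ⁻¹ᵁ W).ι ≫ f' = (p ∣_ W) ≫ fW) :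
    pullback.fst V.ι W.ι ≫ fV = pullback.snd V.ι W.ι ≫ fW := by
  have hq : IsHomeomorph (pullback.snd p (pullback.fst V.ι W.ι ≫ V.ι)).base :=
    hp _ _ _ (IsPullback.of_hasPullback p (pullback.fst V.ι W.ι ≫ V.ι)).flip
  have : Surjective (pullback.snd p (pullback.fst V.ι W.ι ≫ V.ι)) := ⟨hq.surjective⟩
  have : IsReduced (pullback V.ι W.ι) :=
    isReduced_of_isOpenImmersion (pullback.fst V.ι W.ι ≫ V.ι)
  apply ext_of_isDominant (pullback.snd p (pullback.fst V.ι W.ι ≫ V.ι))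
  have hi : pullback.snd p (pullback.fst V.ι W.ι ≫ V.ι) ≫ pullback.fst V.ι W.ι ≫ fV =
      pullback.fst p _ ≫ f' := by
    have hpb := isPullback_morphismRestrict p V
    have hcond : pullback.fst p (pullback.fst V.ι W.ι ≫ V.ι) ≫ p =
        (pullback.snd p (pullback.fst V.ι W.ι ≫ V.ι) ≫ pullback.fst V.ι W.ι) ≫ V.ι := by
      rw [Category.assoc]
      exact pullback.condition
    have h1 := hpb.lift_fst _ _ hcond.symm
    have h2 := hpb.lift_snd _ _ hcond.symm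
    rw [← Category.assoc, ← h1, Category.assoc, ← hV, ← Category.assoc, h2]
  have hj : pullback.snd p (pullback.fst V.ι W.ι ≫ V.ι) ≫ pullback.snd V.ι W.ι ≫ fW =
      pullback.fst p _ ≫ f' := by
    have hpb := isPullback_morphismRestrict p W
    have hcond : pullback.fst p (pullback.fst V.ι W.ι ≫ V.ι) ≫ p =
        (pullback.snd p (pullback.fst V.ι W.ι ≫ V.ι) ≫ pullback.snd V.ι W.ι) ≫ W.ι := by
      rw [Category.assoc, ← pullback.condition (f := V.ι) (g := W.ι)]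
      exact pullback.condition
    have h1 := hpb.lift_fst _ _ hcond.symm
    have h2 := hpb.lift_snd _ _ hcond.symm
    rw [← Category.assoc, ← h1, Category.assoc, ← hW, ← Category.assoc, h2]
  rw [hi, hj]

theorem aux {T' T Y : Scheme.{u}} (p : T' ⟶ T) (hp : FlatMor.IsUnivHomeo p) [IsReduced T]
    [Y.IsSeparated] (f' : T' ⟶ Y)
    {ι : Type u} (U : ι → T.affineOpens) (hU : ⨆ i, (U i : T.Opens) = ⊤)
    (hloc : ∀ i, ∃ fi : ((U i : T.Opens) : Scheme.{u}) ⟶ Y,
      (p ⁻¹ᵁ (U i : T.Opens)).ι ≫ f' = (p ∣_ (U i : T.Opens)) ≫ fi) :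
    ∃ f : T ⟶ Y, p ≫ f = f' := by
  choose fi hfi using hloc
  have hcompat : ∀ i j : ι,
      pullback.fst ((T.openCoverOfIsOpenCover (fun i => (U i : T.Opens)) hU).f i)
        ((T.openCoverOfIsOpenCover (fun i => (U i : T.Opens)) hU).f j) ≫ fi i =
      pullback.snd _ _ ≫ fi j :=
    fun i j => compat p hp f' (U i) (U j) (fi i) (fi j) (hfi i) (hfi j)
  refine ⟨(T.openCoverOfIsOpenCover (fun i => (U i : T.Opens)) hU).glueMorphisms fi hcompat, ?_⟩
  have hU' : TopologicalSpace.IsOpenCover (fun i => p ⁻¹ᵁ (U i : T.Opens)) := by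
    change ⨆ i, p ⁻¹ᵁ (U i : T.Opens) = ⊤
    rw [← Scheme.Hom.preimage_iSup, hU]
    rfl
  apply (T'.openCoverOfIsOpenCover (fun i => p ⁻¹ᵁ (U i : T.Opens)) hU').hom_ext
  intro i
  change (p ⁻¹ᵁ (U i : T.Opens)).ι ≫ p ≫ _ = (p ⁻¹ᵁ (U i : T.Opens)).ι ≫ f'
  rw [← Category.assoc, ← morphismRestrict_ι, Category.assoc, hfi i]
  congr 1
  exact (T.openCoverOfIsOpenCover (fun i => (U i : T.Opens)) hU).ι_glueMorphisms fi hcompat i

end helpers

/-- Let p : T' → T be a universal homeomorphism of separated schemes with T reduced and f' : T' → Y a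
morphism (Y separated); if T has an open cover by affine opens U_i such that each restriction of f'
to p⁻¹(U_i) factors through p⁻¹(U_i) → U_i, then f' factors through p. -/
theorem result {T' T Y : Scheme.{u}} (p : T' ⟶ T) (hp : FlatMor.IsUnivHomeo p) [IsReduced T]
    [T.IsSeparated] [T'.IsSeparated] [Y.IsSeparated] (f' : T' ⟶ Y)
    {ι : Type u} (U : ι → T.affineOpens) (hU : ⨆ i, (U i : T.Opens) = ⊤)
    (hloc : ∀ i, ∃ fi : ((U i : T.Opens) : Scheme.{u}) ⟶ Y, (p ⁻¹ᵁ (U i : T.Opens)).ι ≫ f' = (p ∣_ (U i : T.Opens)) ≫ fi) :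
    ∃ f : T ⟶ Y, p ≫ f = f' := by
  exact aux p hp f' U hU hloc

end Groth.Agent.S13835
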