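import Groth.Statements.S13838
import Groth.Agent.Lib.Helper9.UnivHomeoRing2

set_option autoImplicit false
universe u
open AlgebraicGeometry
open HTop

namespace Groth.Agent.S13838

open AlgebraicGeometry in
theorem aux (A B : Type u) [CommRing A] [CommRing B] [Algebra A B]
    (hpi : ∀ p : PrimeSpectrum A, ∃ q : PrimeSpectrum B,
      ∃ hq : p.asIdeal = Ideal.comap (algebraMap A B) q.asIdeal,
      ∀ x : q.asIdeal.ResidueField,
        (∃ n : ℕ, x ^ ringExpChar p.asIdeal.ResidueField ^ n ∈
            Set.range (Ideal.ResidueField.map p.asIdeal q.asIdeal (algebraMap A B) hq)) →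
        x ∈ Set.range (Ideal.ResidueField.map p.asIdeal q.asIdeal (algebraMap A B) hq))
    (C : Subalgebra A B) (hinjC : Function.Injective (PrimeSpectrum.comap (algebraMap A C)))
    (c : PrimeSpectrum C)
    (hPI : (Ideal.ResidueField.map (PrimeSpectrum.comap (algebraMap A C) c).asIdeal c.asIdeal
        (algebraMap A C) rfl).IsPurelyInseparable) :
    Function.Bijective (Ideal.ResidueField.map (PrimeSpectrum.comap (algebraMap A C) c).asIdeal
      c.asIdeal (algebraMap A C) rfl) := by
  refine ⟨RingHom.injective _, fun y => ?_⟩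
  obtain ⟨q, hq, hcl⟩ := hpi (PrimeSpectrum.comap (algebraMap A C) c)
  have hcq : c = PrimeSpectrum.comap (algebraMap C B) q := by
    apply hinjC
    apply PrimeSpectrum.ext
    rw [hq]
    rfl
  have hc : c.asIdeal = Ideal.comap (algebraMap C B) q.asIdeal := by
    rw [hcq]
    rfl
  set ρ₁ := Ideal.ResidueField.map (PrimeSpectrum.comap (algebraMap A C) c).asIdeal c.asIdeal
      (algebraMap A C) rfl with hρ₁
  set ρ₂ := Ideal.ResidueField.map c.asIdeal q.asIdeal (algebraMap C B) hc with hρ₂
  have hcomp : ρ₂.comp ρ₁ = Ideal.ResidueField.map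
      (PrimeSpectrum.comap (algebraMap A C) c).asIdeal q.asIdeal (algebraMap A B) hq := by
    apply Ideal.ResidueField.ringHom_ext
    refine RingHom.ext fun a => ?_
    simp only [RingHom.comp_apply, hρ₁, hρ₂]
    rw [Ideal.ResidueField.map_algebraMap, Ideal.ResidueField.map_algebraMap,
      Ideal.ResidueField.map_algebraMap]
    rfl
  letI : Algebra (PrimeSpectrum.comap (algebraMap A C) c).asIdeal.ResidueField
      c.asIdeal.ResidueField := ρ₁.toAlgebra
  haveI : IsPurelyInseparable (PrimeSpectrum.comap (algebraMap A C) c).asIdeal.ResidueField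
      c.asIdeal.ResidueField := hPI
  obtain ⟨n, z, hz⟩ := IsPurelyInseparable.pow_mem
    (PrimeSpectrum.comap (algebraMap A C) c).asIdeal.ResidueField
    (ringExpChar (PrimeSpectrum.comap (algebraMap A C) c).asIdeal.ResidueField) y
  have hz' : ρ₁ z = y ^ ringExpChar (PrimeSpectrum.comap (algebraMap A C) c).asIdeal.ResidueField ^ n :=
    hz
  obtain ⟨z', hz''⟩ := hcl (ρ₂ y) ⟨n, z, by
    rw [← hcomp, RingHom.comp_apply, hz', map_pow]⟩
  refine ⟨z', ρ₂.injective ?_⟩
  rw [← hz'', ← hcomp]
  rfl

/-- Let A ⊆ B be an integral ring extension where A and B have finitely many minimal prime ideals, such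
that every prime p of A has a prime q of B above it for which k(p) is closed under extracting
p-power roots inside k(q) (the purely inseparable closure of k(p) in k(q) is k(p)); then the semi-
and weak normalizations of A in B coincide: every A-subalgebra C of B with Spec C → Spec A a
universal homeomorphism already induces isomorphisms on residue fields. -/
theorem result (A B : Type u) [CommRing A] [CommRing B] [Algebra A B] (hinj : Function.Injective (algebraMap A B))
    [Algebra.IsIntegral A B] (hA : (minimalPrimes A).Finite) (hB : (minimalPrimes B).Finite)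
    (hpi : ∀ p : PrimeSpectrum A, ∃ q : PrimeSpectrum B, ∃ hq : p.asIdeal = Ideal.comap (algebraMap A B) q.asIdeal,
      ∀ x : q.asIdeal.ResidueField,
        (∃ n : ℕ, x ^ ringExpChar p.asIdeal.ResidueField ^ n ∈
            Set.range (Ideal.ResidueField.map p.asIdeal q.asIdeal (algebraMap A B) hq)) →
        x ∈ Set.range (Ideal.ResidueField.map p.asIdeal q.asIdeal (algebraMap A B) hq)) :
    ∀ C : Subalgebra A B, FlatMor.IsUnivHomeo (Spec.map (CommRingCat.ofHom (algebraMap A C))) →
      HTop.ResidueFieldsIso (Spec.map (CommRingCat.ofHom (algebraMap A C))) := by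
  intro C hC c
  obtain ⟨-, hbij, hPI⟩ := Groth.Agent.Lib.Helper9.UnivHomeoRing.of_isUnivHomeo _ hC
  exact (Groth.Agent.Lib.Helper9.UnivHomeoRing.isIso_residueFieldMap_SpecMap_iff _ c).mpr
    (aux A B hpi C hbij.1 c (hPI c))

end Groth.Agent.S13838
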