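import Groth.Statements.S13860
import Mathlib
-- import your own Groth.Agent.* helpers here

set_option autoImplicit false
universe u v w
open ModRep

namespace Groth.Agent.S13860

/-- For k a field of characteristic p > 0, G a finite group and P a Sylow p-subgroup of G, a short exact
sequence of k[G]-modules has a k[G]-linear splitting exactly when it has a k[P]-linear one. Stated
here for the surjection of the sequence: a G-equivariant k-linear map g : B → C between k-linear
representations of G admits a G-equivariant k-linear section if and only if it admits a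
P-equivariant k-linear section. -/
theorem result {k : Type u} [Field k] (p : ℕ) [Fact p.Prime]
    [CharP k p] {G : Type v} [Group G] [Finite G] (P : Sylow p G)
    {B C : Type w} [AddCommGroup B] [Module k B] [AddCommGroup C] [Module k C]
    (ρB : Representation k G B) (ρC : Representation k G C)
    (g : B →ₗ[k] C) (hg : ∀ x : G, g ∘ₗ ρB x = ρC x ∘ₗ g) :
    (∃ s : C →ₗ[k] B, g ∘ₗ s = LinearMap.id ∧ ∀ x : G, s ∘ₗ ρC x = ρB x ∘ₗ s) ↔
      (∃ s : C →ₗ[k] B, g ∘ₗ s = LinearMap.id ∧ ∀ x : G, x ∈ P → s ∘ₗ ρC x = ρB x ∘ₗ s) := by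
  constructor
  · rintro ⟨s, hs, hsG⟩
    exact ⟨s, hs, fun x _ => hsG x⟩
  · rintro ⟨s, hs, hsP⟩
    classical
    haveI : Fintype (G ⧸ (P : Subgroup G)) := Fintype.ofFinite _
    have hm : ((Fintype.card (G ⧸ (P : Subgroup G)) : ℕ) : k) ≠ 0 := by
      have h1 : Fintype.card (G ⧸ (P : Subgroup G)) = (P : Subgroup G).index := by
        rw [Subgroup.index, Nat.card_eq_fintype_card]
      intro h0
      rw [CharP.cast_eq_zero_iff k p, h1] at h0
      exact P.not_dvd_index h0
    have hgs : ∀ c : C, g (s c) = c := fun c => by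
      have := congrArg (fun φ : C →ₗ[k] C => φ c) hs
      simpa using this
    have hgρ : ∀ (x : G) (b : B), g (ρB x b) = ρC x (g b) := fun x b => by
      have := congrArg (fun φ : B →ₗ[k] C => φ b) (hg x)
      simpa using this
    have hsρ : ∀ (h : G), h ∈ (P : Subgroup G) → ∀ c : C, ρB h (s c) = s (ρC h c) := by
      intro h hh c
      have := congrArg (fun φ : C →ₗ[k] B => φ c) (hsP h hh)
      simpa using this.symm
    have hρCinv : ∀ (x : G) (c : C), ρC x (ρC x⁻¹ c) = c := fun x c => by
      rw [← Module.End.mul_apply, ← map_mul, mul_inv_cancel, map_one, Module.End.one_apply]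
    have hρCinv' : ∀ (x : G) (c : C), ρC x⁻¹ (ρC x c) = c := fun x c => by
      rw [← Module.End.mul_apply, ← map_mul, inv_mul_cancel, map_one, Module.End.one_apply]
    let T : G → C → B := fun x c => ρB x (s (ρC x⁻¹ c))
    have hTP : ∀ (x h : G), h ∈ (P : Subgroup G) → ∀ c, T (x * h) c = T x c := by
      intro x h hh c
      show ρB (x * h) (s (ρC (x * h)⁻¹ c)) = ρB x (s (ρC x⁻¹ c))
      rw [map_mul, mul_inv_rev, map_mul, Module.End.mul_apply, Module.End.mul_apply,
        hsρ h hh, hρCinv]
    have hgT : ∀ (x : G) (c : C), g (T x c) = c := fun x c => by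
      show g (ρB x (s (ρC x⁻¹ c))) = c
      rw [hgρ, hgs, hρCinv]
    have hTy : ∀ (y x : G) (c : C), T x (ρC y c) = ρB y (T (y⁻¹ * x) c) := by
      intro y x c
      show ρB x (s (ρC x⁻¹ (ρC y c))) = ρB y (ρB (y⁻¹ * x) (s (ρC (y⁻¹ * x)⁻¹ c)))
      rw [← Module.End.mul_apply (ρB y), ← map_mul, mul_inv_cancel_left, mul_inv_rev, inv_inv,
        map_mul, Module.End.mul_apply]
    let s' : C →ₗ[k] B :=
      ((Fintype.card (G ⧸ (P : Subgroup G)) : ℕ) : k)⁻¹ •
        ∑ q : G ⧸ (P : Subgroup G), (ρB q.out ∘ₗ s ∘ₗ ρC (q.out)⁻¹)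
    have hs' : ∀ c, s' c = ((Fintype.card (G ⧸ (P : Subgroup G)) : ℕ) : k)⁻¹ •
        ∑ q : G ⧸ (P : Subgroup G), T q.out c := by
      intro c
      simp [s', T, LinearMap.sum_apply]
    refine ⟨s', ?_, ?_⟩
    · ext c
      simp only [LinearMap.comp_apply, LinearMap.id_apply]
      rw [hs', map_smul, map_sum]
      simp only [hgT]
      rw [Finset.sum_const, Finset.card_univ, ← Nat.cast_smul_eq_nsmul k, smul_smul,
        inv_mul_cancel₀ hm, one_smul]
    · intro y
      ext c
      simp only [LinearMap.comp_apply]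
      rw [hs', hs', map_smul, map_sum]
      congr 1
      have h1 : ∀ q : G ⧸ (P : Subgroup G), T q.out (ρC y c) = ρB y (T ((y⁻¹ • q).out) c) := by
        intro q
        rw [hTy]
        congr 1
        have hq : y⁻¹ • q = QuotientGroup.mk (y⁻¹ * q.out) := by
          conv_lhs => rw [← QuotientGroup.out_eq' q]
          rfl
        obtain ⟨h, hh⟩ := QuotientGroup.mk_out_eq_mul (P : Subgroup G) (y⁻¹ * q.out)
        rw [hq, hh, hTP _ _ h.2]
      rw [Finset.sum_congr rfl (fun q _ => h1 q)]
      exact Fintype.sum_equiv (MulAction.toPerm y⁻¹) _ _ (fun q => rfl)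

end Groth.Agent.S13860
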