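import Groth.Statements.S13862
import Groth.Agent.Lib.helper10.ASBasis3
import Groth.Agent.Lib.helper10.CycH1

set_option autoImplicit false
universe u
open ASCover

namespace Groth.Agent.S13862

/-- For k an algebraically closed field of characteristic p > 0, n ≥ 1 an integer prime to p, u ∈ k[[t]]
the power series with constant term 1 and u^n · (1 + t^n) = 1, and G a group of order p generated by
g, consider two k-linear actions of G on B = k[[t]]: ρ₀(g) h = h(t·u), i.e. B with its order-p
automorphism σ(t) = t·u, and ρ₁(g) h = u^(n+1) · h(t·u), which is the σ-module B·dt identified with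
B through h·dt ↦ h (because d(σ t) = u^(n+1) dt). The derivative d/dt : (B, ρ₀) → (B, ρ₁) is
G-equivariant, and the image of the map it induces on first group cohomology, H^1(G, (B, ρ₀)) →
H^1(G, (B, ρ₁)), is finite-dimensional over k of dimension ⌊(n+1)(p−1)/p⌋ − 1 − ⌊(n−1)/p⌋. This is
the dimension of the image of H^1(G, O) → H^1(G, Ω) at a ramified point with break n of a ℤ/p-cover
of smooth curves, computed in the completed local ring; the published statement is phrased for the
stalks, at a point of the quotient curve, of the direct images of the structure sheaf and of the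
sheaf of differentials, and its proof passes to this completed form. -/
theorem result {k : Type u} [Field k] [IsAlgClosed k] (p : ℕ)
    [Fact p.Prime] [CharP k p] (n : ℕ) (hn : 0 < n) (hpn : ¬ p ∣ n)
    (u : PowerSeries k) (hu1 : PowerSeries.constantCoeff u = 1)
    (hun : u ^ n * (1 + PowerSeries.X ^ n) = 1)
    {G : Type u} [Group G] [Finite G] (g : G) (hG : Nat.card G = p)
    (hg : ∀ x : G, x ∈ Subgroup.zpowers g)
    (ρ₀ ρ₁ : Representation k G (PowerSeries k))
    (hρ₀ : ∀ h : PowerSeries k, ρ₀ g h = PowerSeries.subst (PowerSeries.X * u) h)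
    (hρ₁ : ∀ h : PowerSeries k, ρ₁ g h = u ^ (n + 1) * PowerSeries.subst (PowerSeries.X * u) h)
    (φ : Rep.of ρ₀ ⟶ Rep.of ρ₁) (hφ : ∀ h : PowerSeries k, φ.hom h = PowerSeries.derivative k h) :
    Module.Finite k (LinearMap.range ((groupCohomology.functor k G 1).map φ).hom) ∧
      (Module.finrank k (LinearMap.range ((groupCohomology.functor k G 1).map φ).hom) : ℤ) =
        ((n + 1) * (p - 1) : ℤ) / p - 1 - (n - 1 : ℤ) / p := by
  classical
  have hp := (Fact.out : p.Prime)
  have hu : IsUnit u := PowerSeries.isUnit_iff_constantCoeff.mpr (by rw [hu1]; exact isUnit_one)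
  obtain ⟨v, hv1, hvn⟩ := Groth.Agent.Lib.helper10.ASUnit.exists_v p n hn u hu1 hun
  have hv : IsUnit v := PowerSeries.isUnit_iff_constantCoeff.mpr (by rw [hv1]; exact isUnit_one)
  have hgp : orderOf g = p := by rw [orderOf_eq_card_of_forall_mem_zpowers hg, hG]
  have hσ₀ : ∀ h : PowerSeries k, ρ₀ g h =
      ((hu.unit ^ (0 : ℤ) : (PowerSeries k)ˣ) : PowerSeries k) *
        PowerSeries.subst (PowerSeries.X * u) h := by
    intro h
    rw [hρ₀, zpow_zero, Units.val_one, one_mul]
  have hσ₁ : ∀ h : PowerSeries k, ρ₁ g h =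
      ((hu.unit ^ ((0 : ℤ) + n + 1) : (PowerSeries k)ˣ) : PowerSeries k) *
        PowerSeries.subst (PowerSeries.X * u) h := by
    intro h
    rw [hρ₁]
    have : (0 : ℤ) + n + 1 = ((n + 1 : ℕ) : ℤ) := by push_cast; ring
    rw [this, zpow_natCast, Units.val_pow_eq_pow_val, IsUnit.unit_spec]
  have hcomm : ∀ h : PowerSeries k,
      PowerSeries.derivative k (ρ₀ g h) = ρ₁ g (PowerSeries.derivative k h) := by
    intro h
    have := Rep.hom_comm_apply φ g h
    rw [hφ, hφ] at this
    exact this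
  obtain ⟨gm, hgsurj, hgker⟩ := Groth.Agent.Lib.helper10.ASBasis.exists_gmap p n hn hpn u hu1 hun hu
    v hv1 hvn hv (ρ₀ g) (ρ₁ g) hσ₀ hσ₁ hcomm
  have hπ₀ := Groth.Agent.Lib.helper10.CycH1.pi'_surjective (Rep.of ρ₀) g p hp.pos hgp hg
  have hker : LinearMap.ker (((groupCohomology.functor k G 1).map φ).hom ∘ₗ
      Groth.Agent.Lib.helper10.CycH1.pi' (Rep.of ρ₀) g p hp.pos hgp hg) = LinearMap.ker gm := by
    have hiff : ∀ y : LinearMap.ker (∑ j ∈ Finset.range p, (ρ₀ g) ^ j),
        (((groupCohomology.functor k G 1).map φ).hom ∘ₗ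
          Groth.Agent.Lib.helper10.CycH1.pi' (Rep.of ρ₀) g p hp.pos hgp hg) y = 0 ↔ gm y = 0 := by
      intro y
      rw [LinearMap.comp_apply, hgker]
      have hy1 : φ.hom y.1 ∈ LinearMap.ker (Groth.Agent.Lib.helper10.CycH1.S (Rep.of ρ₁) g p) := by
        rw [LinearMap.mem_ker, hφ]
        have h1 := Groth.Agent.Lib.helper10.ASBasis.norm_comm p (ρ₀ g) (ρ₁ g) hcomm y.1
        have h2 : (∑ j ∈ Finset.range p, (ρ₀ g) ^ j) y.1 = 0 := y.2
        rw [h2, map_zero] at h1
        exact h1.symm
      have h3 := Groth.Agent.Lib.helper10.CycH1.pi'_natural (Rep.of ρ₀) g p hp.pos hgp hg φ y hy1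
      have h5 := Groth.Agent.Lib.helper10.CycH1.pi'_eq_zero_iff (Rep.of ρ₁) g p hp.pos hgp hg
        ⟨φ.hom y.1, hy1⟩
      have h6 : φ.hom y.1 ∈ LinearMap.range ((Rep.of ρ₁).ρ g - 1) ↔
          (PowerSeries.derivative k) y.1 ∈ LinearMap.range (ρ₁ g - 1) := by
        rw [hφ]
      exact ⟨fun h => h6.mp (h5.mp (h3.symm.trans h)), fun h => h3.trans (h5.mpr (h6.mpr h))⟩
    exact Submodule.ext fun y => LinearMap.mem_ker.trans ((hiff y).trans LinearMap.mem_ker.symm)
  have hrange : LinearMap.range (((groupCohomology.functor k G 1).map φ).hom ∘ₗ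
      Groth.Agent.Lib.helper10.CycH1.pi' (Rep.of ρ₀) g p hp.pos hgp hg) =
      LinearMap.range ((groupCohomology.functor k G 1).map φ).hom :=
    LinearMap.range_comp_of_range_eq_top _ (LinearMap.range_eq_top.mpr hπ₀)
  have e1 := LinearMap.quotKerEquivRange (((groupCohomology.functor k G 1).map φ).hom ∘ₗ
      Groth.Agent.Lib.helper10.CycH1.pi' (Rep.of ρ₀) g p hp.pos hgp hg)
  have e2 := LinearMap.quotKerEquivOfSurjective gm hgsurj
  rw [hker, hrange] at e1
  have e3 : LinearMap.range ((groupCohomology.functor k G 1).map φ).hom ≃ₗ[k]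
      (↥(Groth.Agent.Lib.helper10.ASBasis.S' p n) → k) := e1.symm.trans e2
  refine ⟨Module.Finite.equiv e3.symm, ?_⟩
  rw [LinearEquiv.finrank_eq e3, Module.finrank_fintype_fun_eq_card, Fintype.card_coe,
    Groth.Agent.Lib.helper10.ASBasis.S', Groth.Agent.Lib.helper10.ASBasis.card_S' p n hpn,
    Groth.Agent.Lib.helper10.ASBasis.arith1 p n hp hpn]

end Groth.Agent.S13862
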