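import Groth.Statements.S13879
import Mathlib.Tactic

set_option autoImplicit false
universe u
open Crimp

namespace Groth.Agent.S13879

/-- Over R = k⟦t⟧ with k an algebraically closed field of characteristic zero, let S' = R × R × R and
let S be the R-submodule R·1 + R·(t ^ m f) + t ^ n S' of S' for some f in S' and natural numbers m,
n. Then S is closed under multiplication (equivalently, is an R-subalgebra of S') if and only if t ^
(2m) f ^ 2 lies in S. (The published statement has m ≤ n and S' / S isomorphic to R / (t ^ m) ⊕ R /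
(t ^ n), under which S has this shape; this row states the criterion for every submodule of this
shape.) -/
theorem result {k : Type u} [Field k] [IsAlgClosed k] [CharZero k] (m n : ℕ) (f : (Fin 3 → PowerSeries k))
    (S : Submodule (PowerSeries k) (Fin 3 → PowerSeries k))
    (hS : S = Submodule.span (PowerSeries k) {(1 : (Fin 3 → PowerSeries k)), ((PowerSeries.X : PowerSeries k) ^ m) • f} ⊔
        Ideal.span {(PowerSeries.X : PowerSeries k) ^ n} • (⊤ : Submodule (PowerSeries k) (Fin 3 → PowerSeries k))) :
    (∀ x ∈ S, ∀ y ∈ S, x * y ∈ S) ↔ ((PowerSeries.X : PowerSeries k) ^ (2 * m)) • (f * f) ∈ S := by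
  set g : Fin 3 → PowerSeries k := ((PowerSeries.X : PowerSeries k) ^ m) • f with hg
  set N : Submodule (PowerSeries k) (Fin 3 → PowerSeries k) :=
    Ideal.span {(PowerSeries.X : PowerSeries k) ^ n} • ⊤ with hN
  have hgg : g * g = ((PowerSeries.X : PowerSeries k) ^ (2 * m)) • (f * f) := by
    rw [hg, smul_mul_smul_comm, ← pow_add, two_mul]
  have hNS : N ≤ S := by rw [hS]; exact le_sup_right
  have h1S : (1 : Fin 3 → PowerSeries k) ∈ S := by
    rw [hS]; exact Submodule.mem_sup_left (Submodule.subset_span (by simp))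
  have hgS : g ∈ S := by
    rw [hS]; exact Submodule.mem_sup_left (Submodule.subset_span (by simp))
  have hNmul : ∀ u ∈ N, ∀ w : Fin 3 → PowerSeries k, u * w ∈ N := by
    intro u hu w
    rw [hN, Submodule.ideal_span_singleton_smul] at hu ⊢
    obtain ⟨v, -, rfl⟩ := (Submodule.mem_smul_pointwise_iff_exists _ _ _).mp hu
    rw [smul_mul_assoc]
    exact (Submodule.mem_smul_pointwise_iff_exists _ _ _).mpr ⟨v * w, trivial, rfl⟩
  have hdecomp : ∀ x ∈ S, ∃ a b : PowerSeries k, ∃ u ∈ N, x = a • 1 + b • g + u := by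
    intro x hx
    rw [hS] at hx
    obtain ⟨y, hy, u, hu, rfl⟩ := Submodule.mem_sup.mp hx
    obtain ⟨a, b, rfl⟩ := Submodule.mem_span_pair.mp hy
    exact ⟨a, b, u, hu, rfl⟩
  constructor
  · intro H
    rw [← hgg]
    exact H g hgS g hgS
  · intro H
    rw [← hgg] at H
    have hmulg : ∀ x ∈ S, x * g ∈ S := by
      intro x hx
      obtain ⟨a, b, u, hu, rfl⟩ := hdecomp x hx
      rw [add_mul, add_mul, smul_mul_assoc, smul_mul_assoc, one_mul]
      exact S.add_mem (S.add_mem (S.smul_mem _ hgS) (S.smul_mem _ H)) (hNS (hNmul u hu g))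
    intro x hx y hy
    obtain ⟨a, b, u, hu, rfl⟩ := hdecomp y hy
    rw [mul_add, mul_add, mul_smul_comm, mul_smul_comm, mul_one]
    refine S.add_mem (S.add_mem (S.smul_mem _ hx) (S.smul_mem _ (hmulg x hx))) (hNS ?_)
    rw [mul_comm]
    exact hNmul u hu x

end Groth.Agent.S13879
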