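import Groth.Statements.S13880
import Groth.Agent.Lib.Helper12.CrimpDouble
import Mathlib

set_option autoImplicit false
universe u
open Crimp

namespace Groth.Agent.S13880

section Aux
open Groth.Agent.Lib.Helper12.CrimpDouble
open Module

variable {k : Type u} [Field k] [CharZero k]

theorem isUnit_two : IsUnit (2 : PowerSeries k) := by
  rw [PowerSeries.isUnit_iff_constantCoeff]
  have : PowerSeries.constantCoeff (2 : PowerSeries k) = 2 := map_ofNat _ 2
  rw [this]
  exact isUnit_iff_ne_zero.mpr two_ne_zero

theorem span_X_pow_eq_iff (a b : ℕ) :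
    Ideal.span {(PowerSeries.X : PowerSeries k) ^ a} = Ideal.span {(PowerSeries.X : PowerSeries k) ^ b} ↔ a = b := by
  constructor
  · intro h
    rw [Ideal.span_singleton_eq_span_singleton] at h
    have hX0 : (PowerSeries.X : PowerSeries k) ≠ 0 := PowerSeries.X_ne_zero
    have hXu : ¬ IsUnit (PowerSeries.X : PowerSeries k) := PowerSeries.X_irreducible.not_isUnit
    have h1 := (pow_dvd_pow_iff hX0 hXu).mp h.dvd
    have h2 := (pow_dvd_pow_iff hX0 hXu).mp h.symm.dvd
    omega
  · rintro rfl; rfl

/-- the basis `{(1,1), (-1,1)}` of `R × R`. -/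
noncomputable def bw (u : PowerSeries k) (hu : 2 * u = 1) :
    Basis (Fin 2) (PowerSeries k) (Fin 2 → PowerSeries k) :=
  Basis.ofEquivFun
    { toFun := fun f => ![(f 0 + f 1) * u, (f 1 - f 0) * u]
      map_add' := fun f g => by
        funext i; fin_cases i <;> simp <;> ring
      map_smul' := fun r f => by
        funext i; fin_cases i <;> simp <;> ring
      invFun := fun v => ![v 0 - v 1, v 0 + v 1]
      left_inv := fun f => by
        funext i; fin_cases i
        · simp; linear_combination (f 0) * hu
        · simp; linear_combination (f 1) * hu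
      right_inv := fun v => by
        funext i; fin_cases i
        · simp; linear_combination (v 0) * hu
        · simp; linear_combination (v 1) * hu }

theorem bw_zero (u : PowerSeries k) (hu : 2 * u = 1) : bw u hu 0 = 1 := by
  funext i; fin_cases i <;> simp [bw]

theorem bw_one_sq (u : PowerSeries k) (hu : 2 * u = 1) :
    bw u hu 1 * bw u hu 1 = (1 : PowerSeries k) • (1 : Fin 2 → PowerSeries k) := by
  funext i; fin_cases i <;> simp [bw]

theorem main [IsAlgClosed k] (b : ℕ) (S : Subalgebra (PowerSeries k) (Fin 2 → PowerSeries k)) :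
    ((∃ bS : Module.Basis (Fin 2) (PowerSeries k) S,
      Ideal.span {Algebra.discr (PowerSeries k) ⇑bS} = Ideal.span {(PowerSeries.X : PowerSeries k) ^ b}) ↔
    ∃ n : ℕ, b = 2 * n ∧
      Subalgebra.toSubmodule S = Submodule.span (PowerSeries k) {(1 : (Fin 2 → PowerSeries k))} ⊔
        Ideal.span {(PowerSeries.X : PowerSeries k) ^ n} • (⊤ : Submodule (PowerSeries k) (Fin 2 → PowerSeries k))) ∧
    (∀ n : ℕ, Subalgebra.toSubmodule S = Submodule.span (PowerSeries k) {(1 : (Fin 2 → PowerSeries k))} ⊔
        Ideal.span {(PowerSeries.X : PowerSeries k) ^ n} • (⊤ : Submodule (PowerSeries k) (Fin 2 → PowerSeries k)) →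
      Nonempty (S ≃ₐ[PowerSeries k] AdjoinRoot (Polynomial.X ^ 2 - Polynomial.C ((PowerSeries.X : PowerSeries k) ^ (2 * n))))) := by
  obtain ⟨u, hu⟩ := (isUnit_two (k := k)).exists_right_inv
  constructor
  · rw [exists_basis_iff (bw u hu) (bw_zero u hu) 1 (bw_one_sq u hu) PowerSeries.X
      PowerSeries.X_irreducible isUnit_two S]
    constructor
    · rintro ⟨n, h1, h2⟩
      refine ⟨n, ?_, h2⟩
      rw [mul_one] at h1
      exact (span_X_pow_eq_iff b (2 * n)).mp h1
    · rintro ⟨n, h1, h2⟩
      refine ⟨n, ?_, h2⟩
      rw [mul_one, h1]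
  · intro n hS
    have := nonempty_algEquiv (bw u hu) (bw_zero u hu) 1 (bw_one_sq u hu) PowerSeries.X
      PowerSeries.X_ne_zero S n hS
    rw [mul_one] at this
    exact this

end Aux

/-- Over R = k⟦t⟧ with k an algebraically closed field of characteristic zero, let S' = R × R, the
trivial double cover of the formal disk (branch divisor (t ^ 0)). An R-subalgebra S of S' admits an
R-basis of size 2 whose discriminant generates (t ^ b), that is, S is a crimp with branch divisor (t
^ b), if and only if b = 2n for some n and S = R·1 + t ^ n S'. So there is exactly one such crimp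
when b is even and none when b is odd; moreover the subalgebra R·1 + t ^ n S' is isomorphic as an
R-algebra to R[y] / (y ^ 2 - t ^ (2n)) (existence of an isomorphism; y ↦ (t ^ n, -t ^ n)). (The
published statement also gives the space of crimps its reduced one-point scheme structure; this row
classifies its k-points.) -/
theorem result {k : Type u} [Field k] [IsAlgClosed k] [CharZero k] (b : ℕ) (S : Subalgebra (PowerSeries k) (Fin 2 → PowerSeries k)) :
    ((∃ bS : Module.Basis (Fin 2) (PowerSeries k) S,
      Ideal.span {Algebra.discr (PowerSeries k) ⇑bS} = Ideal.span {(PowerSeries.X : PowerSeries k) ^ b}) ↔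
    ∃ n : ℕ, b = 2 * n ∧
      Subalgebra.toSubmodule S = Submodule.span (PowerSeries k) {(1 : (Fin 2 → PowerSeries k))} ⊔
        Ideal.span {(PowerSeries.X : PowerSeries k) ^ n} • (⊤ : Submodule (PowerSeries k) (Fin 2 → PowerSeries k))) ∧
    (∀ n : ℕ, Subalgebra.toSubmodule S = Submodule.span (PowerSeries k) {(1 : (Fin 2 → PowerSeries k))} ⊔
        Ideal.span {(PowerSeries.X : PowerSeries k) ^ n} • (⊤ : Submodule (PowerSeries k) (Fin 2 → PowerSeries k)) →
      Nonempty (S ≃ₐ[PowerSeries k] AdjoinRoot (Polynomial.X ^ 2 - Polynomial.C ((PowerSeries.X : PowerSeries k) ^ (2 * n))))) := by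
  exact main b S

end Groth.Agent.S13880
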