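import Groth.Statements.S13881
import Groth.Agent.Lib.Helper12.CrimpDouble
import Mathlib

set_option autoImplicit false
universe u
open Crimp

namespace Groth.Agent.S13881

section Aux
open Groth.Agent.Lib.Helper12.CrimpDouble
open Module

variable {k : Type u} [Field k]

theorem isUnit_two [CharZero k] : IsUnit (2 : PowerSeries k) := by
  rw [PowerSeries.isUnit_iff_constantCoeff]
  have : PowerSeries.constantCoeff (2 : PowerSeries k) = 2 := map_ofNat _ 2
  rw [this]
  exact isUnit_iff_ne_zero.mpr two_ne_zero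

theorem span_X_pow_eq_iff (a b : ℕ) :
    Ideal.span {(PowerSeries.X : PowerSeries k) ^ a} = Ideal.span {(PowerSeries.X : PowerSeries k) ^ b} ↔ a = b := by
  constructor
  · intro h
    rw [Ideal.span_singleton_eq_span_singleton] at h
    have hX0 : (PowerSeries.X : PowerSeries k) ≠ 0 := PowerSeries.X_ne_zero
    have hXu : ¬ IsUnit (PowerSeries.X : PowerSeries k) := PowerSeries.X_irreducible.not_isUnit
    have h1 := (pow_dvd_pow_iff hX0 hXu).mp h.dvd
    have h2 := (pow_dvd_pow_iff hX0 hXu).mp h.symm.dvd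
    omega
  · rintro rfl; rfl

local notation "fpoly" => (Polynomial.X ^ 2 - Polynomial.C (PowerSeries.X : PowerSeries k) : Polynomial (PowerSeries k))

theorem hmon : (fpoly).Monic := Polynomial.monic_X_pow_sub_C _ (by norm_num)

theorem hdim : (AdjoinRoot.powerBasis' (hmon (k := k))).dim = 2 := by
  rw [AdjoinRoot.powerBasis'_dim]; exact Polynomial.natDegree_X_pow_sub_C

noncomputable def bw : Basis (Fin 2) (PowerSeries k) (AdjoinRoot fpoly) :=
  (AdjoinRoot.powerBasis' (hmon (k := k))).basis.reindex (finCongr hdim)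

theorem bw_apply (i : Fin 2) : bw (k := k) i = AdjoinRoot.root fpoly ^ (i : ℕ) := by
  rw [bw, Basis.reindex_apply, PowerBasis.basis_eq_pow, AdjoinRoot.powerBasis'_gen]
  rfl

theorem bw_zero : bw (k := k) 0 = 1 := by
  rw [bw_apply]; simp

theorem bw_one_sq :
    bw (k := k) 1 * bw (k := k) 1 = (PowerSeries.X : PowerSeries k) • (1 : AdjoinRoot fpoly) := by
  rw [bw_apply]
  have h := AdjoinRoot.eval₂_root (fpoly)
  rw [Polynomial.eval₂_sub, Polynomial.eval₂_pow, Polynomial.eval₂_X, Polynomial.eval₂_C,
    sub_eq_zero] at h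
  simp only [Fin.val_one, pow_one]
  rw [← pow_two, h, Algebra.smul_def, mul_one, AdjoinRoot.algebraMap_eq]

theorem main [IsAlgClosed k] [CharZero k] (b : ℕ)
    (S : Subalgebra (PowerSeries k) (AdjoinRoot (Polynomial.X ^ 2 - Polynomial.C (PowerSeries.X : PowerSeries k)))) :
    ((∃ bS : Module.Basis (Fin 2) (PowerSeries k) S,
      Ideal.span {Algebra.discr (PowerSeries k) ⇑bS} = Ideal.span {(PowerSeries.X : PowerSeries k) ^ b}) ↔
    ∃ n : ℕ, b = 2 * n + 1 ∧
      Subalgebra.toSubmodule S = Submodule.span (PowerSeries k) {(1 : (AdjoinRoot (Polynomial.X ^ 2 - Polynomial.C (PowerSeries.X : PowerSeries k))))} ⊔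
        Ideal.span {(PowerSeries.X : PowerSeries k) ^ n} • (⊤ : Submodule (PowerSeries k) (AdjoinRoot (Polynomial.X ^ 2 - Polynomial.C (PowerSeries.X : PowerSeries k))))) ∧
    (∀ n : ℕ, Subalgebra.toSubmodule S = Submodule.span (PowerSeries k) {(1 : (AdjoinRoot (Polynomial.X ^ 2 - Polynomial.C (PowerSeries.X : PowerSeries k))))} ⊔
        Ideal.span {(PowerSeries.X : PowerSeries k) ^ n} • (⊤ : Submodule (PowerSeries k) (AdjoinRoot (Polynomial.X ^ 2 - Polynomial.C (PowerSeries.X : PowerSeries k)))) →
      Nonempty (S ≃ₐ[PowerSeries k] AdjoinRoot (Polynomial.X ^ 2 - Polynomial.C ((PowerSeries.X : PowerSeries k) ^ (2 * n + 1))))) := by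
  constructor
  · rw [exists_basis_iff bw bw_zero PowerSeries.X bw_one_sq PowerSeries.X
      PowerSeries.X_irreducible isUnit_two S]
    constructor
    · rintro ⟨n, h1, h2⟩
      refine ⟨n, ?_, h2⟩
      rw [← pow_succ] at h1
      exact (span_X_pow_eq_iff b (2 * n + 1)).mp h1
    · rintro ⟨n, h1, h2⟩
      refine ⟨n, ?_, h2⟩
      rw [← pow_succ, h1]
  · intro n hS
    have := nonempty_algEquiv bw bw_zero PowerSeries.X bw_one_sq PowerSeries.X
      PowerSeries.X_ne_zero S n hS
    rw [← pow_succ] at this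
    exact this

end Aux

/-- Over R = k⟦t⟧ with k an algebraically closed field of characteristic zero, let S' = R[x] / (x ^ 2 -
t), the ramified smooth double cover of the formal disk (branch divisor (t)). An R-subalgebra S of
S' admits an R-basis of size 2 whose discriminant generates (t ^ b), that is, S is a crimp with
branch divisor (t ^ b), if and only if b = 2n + 1 for some n and S = R·1 + t ^ n S'. So there is
exactly one such crimp when b is odd and none when b is even; moreover the subalgebra R·1 + t ^ n S'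
is isomorphic as an R-algebra to R[y] / (y ^ 2 - t ^ (2n+1)) (existence of an isomorphism; y ↦ t ^ n
x). (The published statement describes this algebra as R[y] / (y ^ 2 - t ^ (b - a)) with a = 1, that
is R[y] / (y ^ 2 - t ^ (2n)); that algebra has discriminant ideal (t ^ (b - 1)), not (t ^ b), so
this row uses R[y] / (y ^ 2 - t ^ b) = R[y] / (y ^ 2 - t ^ (2n+1)), which is the algebra R·1 + t ^ n
S'. The published statement also gives the space of crimps its reduced one-point scheme structure;
this row classifies its k-points.) -/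
theorem result {k : Type u} [Field k] [IsAlgClosed k] [CharZero k] (b : ℕ)
    (S : Subalgebra (PowerSeries k) (AdjoinRoot (Polynomial.X ^ 2 - Polynomial.C (PowerSeries.X : PowerSeries k)))) :
    ((∃ bS : Module.Basis (Fin 2) (PowerSeries k) S,
      Ideal.span {Algebra.discr (PowerSeries k) ⇑bS} = Ideal.span {(PowerSeries.X : PowerSeries k) ^ b}) ↔
    ∃ n : ℕ, b = 2 * n + 1 ∧
      Subalgebra.toSubmodule S = Submodule.span (PowerSeries k) {(1 : (AdjoinRoot (Polynomial.X ^ 2 - Polynomial.C (PowerSeries.X : PowerSeries k))))} ⊔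
        Ideal.span {(PowerSeries.X : PowerSeries k) ^ n} • (⊤ : Submodule (PowerSeries k) (AdjoinRoot (Polynomial.X ^ 2 - Polynomial.C (PowerSeries.X : PowerSeries k))))) ∧
    (∀ n : ℕ, Subalgebra.toSubmodule S = Submodule.span (PowerSeries k) {(1 : (AdjoinRoot (Polynomial.X ^ 2 - Polynomial.C (PowerSeries.X : PowerSeries k))))} ⊔
        Ideal.span {(PowerSeries.X : PowerSeries k) ^ n} • (⊤ : Submodule (PowerSeries k) (AdjoinRoot (Polynomial.X ^ 2 - Polynomial.C (PowerSeries.X : PowerSeries k)))) →
      Nonempty (S ≃ₐ[PowerSeries k] AdjoinRoot (Polynomial.X ^ 2 - Polynomial.C ((PowerSeries.X : PowerSeries k) ^ (2 * n + 1))))) := by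
  exact main b S

end Groth.Agent.S13881
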