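import Groth.Statements.S13882
-- import your own Groth.Agent.* helpers here

set_option autoImplicit false
universe u
open FinCov

namespace Groth.Agent.S13882

open MvPolynomial W4c1hurwitzcpt

section
variable (K : Type u) [Field K] (d : ℕ)

/-- Index type of the variables: structure constants and unit coordinates. -/
abbrev Idx (d : ℕ) := (Fin d × Fin d × Fin d) ⊕ Fin d

/-- the variable `c i j k` -/
noncomputable def cv (i j k : Fin d) : MvPolynomial (Idx d) K := X (Sum.inl (i, j, k))
/-- the variable `u i` -/
noncomputable def uv (i : Fin d) : MvPolynomial (Idx d) K := X (Sum.inr i)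

noncomputable def relComm (p : Fin d × Fin d × Fin d) : MvPolynomial (Idx d) K :=
  cv K d p.1 p.2.1 p.2.2 - cv K d p.2.1 p.1 p.2.2

noncomputable def relAssoc (p : Fin d × Fin d × Fin d × Fin d) : MvPolynomial (Idx d) K :=
  (∑ k, cv K d p.1 p.2.1 k * cv K d k p.2.2.1 p.2.2.2) -
    ∑ k, cv K d p.2.1 p.2.2.1 k * cv K d p.1 k p.2.2.2

noncomputable def relUnit (p : Fin d × Fin d) : MvPolynomial (Idx d) K :=
  (∑ i, uv K d i * cv K d i p.1 p.2) - if p.1 = p.2 then 1 else 0

/-- The ideal of relations. -/
noncomputable def relIdeal : Ideal (MvPolynomial (Idx d) K) :=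
  Ideal.span (Set.range (relComm K d) ∪ Set.range (relAssoc K d) ∪ Set.range (relUnit K d))

/-- The representing algebra. -/
abbrev Rep := MvPolynomial (Idx d) K ⧸ relIdeal K d

variable {K d}
variable {A : Type u} [CommRing A] [Algebra K A]

/-- Evaluation at a based algebra structure. -/
noncomputable def evalAt (s : BasedAlg d A) : MvPolynomial (Idx d) K →ₐ[K] A :=
  aeval (Sum.elim (fun p : Fin d × Fin d × Fin d => s.c p.1 p.2.1 p.2.2) s.u)

@[simp] lemma evalAt_cv (s : BasedAlg d A) (i j k : Fin d) : evalAt s (cv K d i j k) = s.c i j k := by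
  simp [evalAt, cv]

@[simp] lemma evalAt_uv (s : BasedAlg d A) (i : Fin d) : evalAt s (uv K d i) = s.u i := by
  simp [evalAt, uv]

lemma relIdeal_le_ker (s : BasedAlg d A) : ∀ a ∈ relIdeal K d, evalAt s a = 0 := by
  intro a ha
  have : relIdeal K d ≤ RingHom.ker ((evalAt s : MvPolynomial (Idx d) K →ₐ[K] A) : MvPolynomial (Idx d) K →+* A) := by
    rw [relIdeal, Ideal.span_le]
    rintro _ ((⟨p, rfl⟩ | ⟨p, rfl⟩) | ⟨p, rfl⟩)
    · simp only [SetLike.mem_coe, RingHom.mem_ker, relComm]
      simp [s.comm p.1 p.2.1 p.2.2]
    · simp only [SetLike.mem_coe, RingHom.mem_ker, relAssoc]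
      simp [s.assoc p.1 p.2.1 p.2.2.1 p.2.2.2]
    · simp only [SetLike.mem_coe, RingHom.mem_ker, relUnit]
      have := s.unit p.1 p.2
      simp only [AlgHom.coe_toRingHom, map_sub, map_sum, map_mul, evalAt_uv, evalAt_cv, this]
      split <;> simp
  exact this ha

/-- The algebra map attached to a based algebra structure. -/
noncomputable def ofBased (s : BasedAlg d A) : Rep K d →ₐ[K] A :=
  Ideal.Quotient.liftₐ (relIdeal K d) (evalAt s) (relIdeal_le_ker s)

/-- The based algebra structure attached to an algebra map. -/
noncomputable def toBased (g : Rep K d →ₐ[K] A) : BasedAlg d A where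
  c i j k := g (Ideal.Quotient.mk _ (cv K d i j k))
  u i := g (Ideal.Quotient.mk _ (uv K d i))
  comm i j k := by
    have h : Ideal.Quotient.mk (relIdeal K d) (relComm K d (i, j, k)) = 0 :=
      Ideal.Quotient.eq_zero_iff_mem.mpr (Ideal.subset_span (Or.inl (Or.inl ⟨_, rfl⟩)))
    have := congrArg g h
    simpa [relComm, sub_eq_zero] using this
  assoc i j l m := by
    have h : Ideal.Quotient.mk (relIdeal K d) (relAssoc K d (i, j, l, m)) = 0 :=
      Ideal.Quotient.eq_zero_iff_mem.mpr (Ideal.subset_span (Or.inl (Or.inr ⟨_, rfl⟩)))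
    have := congrArg g h
    simpa [relAssoc, sub_eq_zero] using this
  unit j m := by
    have h : Ideal.Quotient.mk (relIdeal K d) (relUnit K d (j, m)) = 0 :=
      Ideal.Quotient.eq_zero_iff_mem.mpr (Ideal.subset_span (Or.inr ⟨_, rfl⟩))
    have := congrArg g h
    simp only [relUnit, map_sub, map_sum, map_mul, map_zero, sub_eq_zero] at this
    rw [this]
    split <;> simp

lemma ofBased_mk (s : BasedAlg d A) (a : MvPolynomial (Idx d) K) :
    ofBased s (Ideal.Quotient.mk _ a) = evalAt s a := by
  simp only [ofBased, Ideal.Quotient.liftₐ_apply]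
  exact Ideal.Quotient.lift_mk _ _ _

/-- The representing bijection. -/
noncomputable def repEquiv (A : Type u) [CommRing A] [Algebra K A] :
    (Rep K d →ₐ[K] A) ≃ BasedAlg d A where
  toFun := toBased
  invFun := ofBased
  left_inv g := by
    apply Ideal.Quotient.algHom_ext
    apply MvPolynomial.algHom_ext
    rintro (⟨i, j, k⟩ | i)
    · simp only [AlgHom.comp_apply, Ideal.Quotient.mkₐ_eq_mk, ofBased_mk]
      simp [evalAt, toBased, cv]
    · simp only [AlgHom.comp_apply, Ideal.Quotient.mkₐ_eq_mk, ofBased_mk]
      simp [evalAt, toBased, uv]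
  right_inv s := by
    apply BasedAlg.ext
    · funext i j k
      simp [toBased, ofBased_mk]
    · funext i
      simp [toBased, ofBased_mk]

end


/-- Over a field K of characteristic zero, the functor that sends a K-scheme S to the set of isomorphism
classes of pairs (A, τ) of an O_S-algebra A and an O_S-module isomorphism τ from A to the free
module of rank d, equivalently to the set of commutative unital algebra structures on the rank-d
free module with its standard basis, is represented by an affine K-scheme of finite type. Stated on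
affine K-schemes in one universe: there is a finitely generated commutative K-algebra B with
bijections between K-algebra maps B → A and based algebra structures of rank d over A, natural in
the commutative K-algebra A. -/
theorem result (K : Type u) [Field K] [CharZero K] (d : ℕ) :
    ∃ (B : Type u) (_ : CommRing B) (_ : Algebra K B) (_ : Algebra.FiniteType K B)
      (η : ∀ (A : Type u) [CommRing A] [Algebra K A], (B →ₐ[K] A) ≃ W4c1hurwitzcpt.BasedAlg d A),
      ∀ (A A' : Type u) [CommRing A] [Algebra K A] [CommRing A'] [Algebra K A']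
        (f : A →ₐ[K] A') (g : B →ₐ[K] A),
        η A' (f.comp g) = (η A g).map f.toRingHom := by
  refine ⟨Rep K d, inferInstance, inferInstance, ?_, fun A _ _ => repEquiv A, ?_⟩
  · exact Algebra.FiniteType.of_surjective (Ideal.Quotient.mkₐ K (relIdeal K d))
      (Ideal.Quotient.mkₐ_surjective K _)
  · intro A A' _ _ _ _ f g
    apply BasedAlg.ext
    · funext i j k
      rfl
    · funext i
      rfl

end Groth.Agent.S13882
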