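import Groth.Statements.S13884
import Groth.Agent.Lib.Helper12.RootLattice
import Mathlib

set_option autoImplicit false
universe u
open Crimp

namespace Groth.Agent.S13884

section Aux
open Groth.Agent.Lib.Helper12.RootLattice
open Module

theorem main {k : Type u} [Field k]
    (M : Submodule (PowerSeries k) (W4c1hurwitzcpt.RootDisk 3 k))
    (bM : Module.Basis (Fin 3) (PowerSeries k) M) :
    ∃ g : Module.Basis (Fin 3) (PowerSeries k) M, ∀ i j : Fin 3, i ≠ j →
      ¬ Nat.ModEq 3 (PowerSeries.order (W4c1hurwitzcpt.RootDisk.val (((g i : M) : (W4c1hurwitzcpt.RootDisk 3 k)) : W4c1hurwitzcpt.RootDisk 3 k))).toNat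
        (PowerSeries.order (W4c1hurwitzcpt.RootDisk.val (((g j : M) : (W4c1hurwitzcpt.RootDisk 3 k)) : W4c1hurwitzcpt.RootDisk 3 k))).toNat := by
  have hfg : M.FG := Module.Finite.iff_fg.mp (Module.Finite.of_basis bM)
  obtain ⟨c, hc⟩ := exists_X_pow_smul_mem M bM
  obtain ⟨g₀, hgM, -, hgmod, hli, hspan⟩ := exists_good_generators M hfg c hc
  let g' : Fin 3 → M := fun r => ⟨g₀ r, hgM r⟩
  have hli' : LinearIndependent (PowerSeries k) g' :=
    LinearIndependent.of_comp M.subtype (by exact hli)
  have hsp' : ⊤ ≤ Submodule.span (PowerSeries k) (Set.range g') := by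
    have h : Submodule.map M.subtype (Submodule.span (PowerSeries k) (Set.range g')) =
        Submodule.map M.subtype ⊤ := by
      rw [Submodule.map_span, ← Set.range_comp, Submodule.map_subtype_top]
      exact hspan
    exact (Submodule.map_injective_of_injective M.injective_subtype h).ge
  refine ⟨Basis.mk hli' hsp', fun i j hij hmod => ?_⟩
  rw [Basis.mk_apply, Basis.mk_apply] at hmod
  have hi := hgmod i
  have hj := hgmod j
  apply hij
  apply Fin.ext
  rw [← hi, ← hj]
  exact hmod

end Aux

/-- Over R = k⟦t⟧ with k an algebraically closed field of characteristic zero, let S' = k⟦x⟧ regarded as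
an R-algebra through t ↦ x ^ 3, that is S' = R[x] / (x ^ 3 - t), the smooth totally ramified triple
cover of the formal disk. If M is an R-submodule of S' which is free of rank 3, then M has an
R-basis consisting of three power series whose x-adic valuations are pairwise distinct modulo 3.
(Items (2) and (3) of the published proposition, on the base change of M to R[s] / (s ^ 3 - t), are
not restated.) -/
theorem result {k : Type u} [Field k] [IsAlgClosed k] [CharZero k]
    (M : Submodule (PowerSeries k) (W4c1hurwitzcpt.RootDisk 3 k))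
    (bM : Module.Basis (Fin 3) (PowerSeries k) M) :
    ∃ g : Module.Basis (Fin 3) (PowerSeries k) M, ∀ i j : Fin 3, i ≠ j →
      ¬ Nat.ModEq 3 (PowerSeries.order (W4c1hurwitzcpt.RootDisk.val (((g i : M) : (W4c1hurwitzcpt.RootDisk 3 k)) : W4c1hurwitzcpt.RootDisk 3 k))).toNat
        (PowerSeries.order (W4c1hurwitzcpt.RootDisk.val (((g j : M) : (W4c1hurwitzcpt.RootDisk 3 k)) : W4c1hurwitzcpt.RootDisk 3 k))).toNat := by
  exact main M bM

end Groth.Agent.S13884
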