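import Groth.Statements.S13885
import Groth.Agent.Lib.Helper12.RootLattice
import Mathlib

set_option autoImplicit false
universe u
open Crimp

namespace Groth.Agent.S13885

section Aux
open Groth.Agent.Lib.Helper12.RootLattice
open Module W4c1hurwitzcpt

variable {k : Type u} [Field k]

local notation "S2" => RootDisk 2 k
local notation "Rk" => PowerSeries k

noncomputable def e3 : Fin 3 → (S2 × Rk) :=
  ![(xpow 0, 0), (xpow 1, 0), (0, 1)]

theorem span_e3 : Submodule.span Rk (Set.range (e3 (k := k))) = ⊤ := by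
  rw [eq_top_iff]
  rintro ⟨f, r⟩ -
  have hf := decomp (p := 2) f
  rw [Fin.sum_univ_two] at hf
  have : ((f, r) : S2 × Rk) = comp (p := 2) 0 f • e3 0 + comp (p := 2) 1 f • e3 1 + r • e3 2 := by
    apply Prod.ext
    · simp only [e3, Prod.fst_add, Prod.smul_fst, Matrix.cons_val_zero, Matrix.cons_val_one,
        Matrix.cons_val_two, Matrix.head_cons, Matrix.tail_cons, smul_zero, add_zero]
      conv_lhs => rw [hf]
      rfl
    · simp [e3]
  rw [this]
  refine Submodule.add_mem _ (Submodule.add_mem _ ?_ ?_) ?_ <;>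
    exact Submodule.smul_mem _ _ (Submodule.subset_span ⟨_, rfl⟩)

/-- `π (f, r) = f - r • 1` -/
noncomputable def π : (S2 × Rk) →ₗ[Rk] S2 :=
  LinearMap.fst Rk S2 Rk - (LinearMap.toSpanSingleton Rk S2 1).comp (LinearMap.snd Rk S2 Rk)

theorem π_apply (f : S2) (r : Rk) : π (k := k) (f, r) = f - r • (1 : S2) := by
  simp [π]

theorem main
    (M : Submodule (PowerSeries k) (W4c1hurwitzcpt.RootDisk 2 k × PowerSeries k))
    (h1 : (1 : (W4c1hurwitzcpt.RootDisk 2 k × PowerSeries k)) ∈ M)
    (bM : Module.Basis (Fin 3) (PowerSeries k) M) :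
    ∃ f₁ f₂ : W4c1hurwitzcpt.RootDisk 2 k,
      ¬ Nat.ModEq 2 (PowerSeries.order (W4c1hurwitzcpt.RootDisk.val (f₁ : W4c1hurwitzcpt.RootDisk 2 k))).toNat (PowerSeries.order (W4c1hurwitzcpt.RootDisk.val (f₂ : W4c1hurwitzcpt.RootDisk 2 k))).toNat ∧
      M = Submodule.span (PowerSeries k) {(1 : (W4c1hurwitzcpt.RootDisk 2 k × PowerSeries k)), (f₁, 0), (f₂, 0)} := by
  have hfg : M.FG := Module.Finite.iff_fg.mp (Module.Finite.of_basis bM)
  obtain ⟨d, hd, hdM⟩ := exists_smul_mem e3 span_e3 M bM
  obtain ⟨c, hc⟩ := exists_X_pow_smul_mem_of_ne_zero M d hd hdM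
  -- key: (π v, 0) ∈ M for v ∈ M
  have hπM : ∀ v ∈ M, ((π v, 0) : S2 × Rk) ∈ M := by
    rintro ⟨f, r⟩ hv
    have : ((π (f, r), 0) : S2 × Rk) = (f, r) - r • (1 : S2 × Rk) := by
      rw [π_apply]
      apply Prod.ext <;> simp
    rw [this]
    exact M.sub_mem hv (M.smul_mem _ h1)
  set M₀ : Submodule Rk S2 := M.comap (LinearMap.inl Rk S2 Rk) with hM₀
  have hM₀map : M₀ = M.map π := by
    ext f
    constructor
    · intro hf
      exact ⟨(f, 0), hf, by rw [π_apply]; simp⟩
    · rintro ⟨v, hv, rfl⟩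
      exact hπM v hv
  have hfg₀ : M₀.FG := hM₀map ▸ hfg.map π
  have hc₀ : ∀ f : S2, (PowerSeries.X ^ c : Rk) • f ∈ M₀ := by
    intro f
    show LinearMap.inl Rk S2 Rk ((PowerSeries.X ^ c : Rk) • f) ∈ M
    rw [map_smul]
    exact hc _
  obtain ⟨g, hgM, -, hgmod, -, hspan⟩ := exists_good_generators M₀ hfg₀ c hc₀
  refine ⟨g 0, g 1, ?_, ?_⟩
  · intro hmod
    have h0 := hgmod 0
    have h1' := hgmod 1
    unfold Nat.ModEq at hmod
    rw [h0, h1'] at hmod
    simp at hmod
  · apply le_antisymm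
    · rintro ⟨f, r⟩ hv
      have hdec : ((f, r) : S2 × Rk) = r • (1 : S2 × Rk) + (π (f, r), 0) := by
        rw [π_apply]; apply Prod.ext <;> simp
      rw [hdec]
      apply Submodule.add_mem
      · exact Submodule.smul_mem _ _ (Submodule.subset_span (by simp))
      · have hπ : π (f, r) ∈ Submodule.span Rk (Set.range g) := by
          rw [hspan]; exact hπM _ hv
        have hle : Submodule.span Rk (Set.range g) ≤
            (Submodule.span Rk {(1 : S2 × Rk), (g 0, 0), (g 1, 0)}).comap (LinearMap.inl Rk S2 Rk) := by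
          rw [Submodule.span_le]
          rintro _ ⟨i, rfl⟩
          show ((g i, 0) : S2 × Rk) ∈ Submodule.span Rk {(1 : S2 × Rk), (g 0, 0), (g 1, 0)}
          apply Submodule.subset_span
          fin_cases i <;> simp
        exact hle hπ
    · rw [Submodule.span_le]
      intro v hv
      simp only [Set.mem_insert_iff, Set.mem_singleton_iff] at hv
      rcases hv with rfl | rfl | rfl
      · exact h1
      · exact hgM 0
      · exact hgM 1

end Aux

/-- Over R = k⟦t⟧ with k an algebraically closed field of characteristic zero, let S' = k⟦x⟧ × R, where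
k⟦x⟧ is regarded as an R-algebra through t ↦ x ^ 2, that is S' = R[x] / (x ^ 2 - t) ⊕ R, the smooth
simply ramified triple cover of the formal disk, with R embedded diagonally. If M is an R-submodule
of S' containing 1 which is free of rank 3, then M is spanned by 1, (f₁, 0) and (f₂, 0) for some
power series f₁, f₂ whose x-adic valuations are distinct modulo 2. (Items (2) and (3) of the
published proposition, on the base change of M to R[s] / (s ^ 2 - t), are not restated.) -/
theorem result {k : Type u} [Field k] [IsAlgClosed k] [CharZero k]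
    (M : Submodule (PowerSeries k) (W4c1hurwitzcpt.RootDisk 2 k × PowerSeries k))
    (h1 : (1 : (W4c1hurwitzcpt.RootDisk 2 k × PowerSeries k)) ∈ M)
    (bM : Module.Basis (Fin 3) (PowerSeries k) M) :
    ∃ f₁ f₂ : W4c1hurwitzcpt.RootDisk 2 k,
      ¬ Nat.ModEq 2 (PowerSeries.order (W4c1hurwitzcpt.RootDisk.val (f₁ : W4c1hurwitzcpt.RootDisk 2 k))).toNat (PowerSeries.order (W4c1hurwitzcpt.RootDisk.val (f₂ : W4c1hurwitzcpt.RootDisk 2 k))).toNat ∧
      M = Submodule.span (PowerSeries k) {(1 : (W4c1hurwitzcpt.RootDisk 2 k × PowerSeries k)), (f₁, 0), (f₂, 0)} := by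
  exact main M h1 bM

end Groth.Agent.S13885
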