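import Groth.Statements.S13886
import Groth.Agent.S13879
import Mathlib

set_option autoImplicit false
universe u
open Crimp

namespace Groth.Agent.S13886

section Aux

variable {k : Type u} [Field k]

local notation "R" => PowerSeries k

lemma mem_N (r : R) (u : Fin 3 → R) :
    u ∈ Ideal.span {r} • (⊤ : Submodule R (Fin 3 → R)) ↔ ∃ v : Fin 3 → R, u = r • v := by
  rw [Submodule.ideal_span_singleton_smul]
  constructor
  · intro hu
    obtain ⟨v, -, rfl⟩ := (Submodule.mem_smul_pointwise_iff_exists _ _ _).mp hu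
    exact ⟨v, rfl⟩
  · rintro ⟨v, rfl⟩
    exact (Submodule.mem_smul_pointwise_iff_exists _ _ _).mpr ⟨v, trivial, rfl⟩

lemma cover (i j : Fin 3) (hi0 : i ≠ 0) (hj0 : j ≠ 0) (hij : i ≠ j) (l : Fin 3) :
    l = 0 ∨ l = i ∨ l = j := by
  fin_cases i <;> fin_cases j <;> fin_cases l <;> simp_all

theorem core (m n : ℕ) (hmn : m ≤ n) (f : Fin 3 → R) (i j : Fin 3) (hi0 : i ≠ 0) (hj0 : j ≠ 0)
    (hij : i ≠ j) (d : Rˣ) (hd : (d : R) = f i - f 0)
    (S : Submodule R (Fin 3 → R))
    (hS : S = Submodule.span R {(1 : (Fin 3 → R)), ((PowerSeries.X : R) ^ m) • f} ⊔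
        Ideal.span {(PowerSeries.X : R) ^ n} • (⊤ : Submodule R (Fin 3 → R))) :
    Nonempty (((Fin 3 → R) ⧸ S) ≃ₗ[R]
      ((R ⧸ Ideal.span {(PowerSeries.X : R) ^ m}) × (R ⧸ Ideal.span {(PowerSeries.X : R) ^ n}))) := by
  classical
  set β : (Fin 3 → R) →ₗ[R] R :=
    ((d⁻¹ : Rˣ) : R) • ((LinearMap.proj i : (Fin 3 → R) →ₗ[R] R) - (LinearMap.proj 0 : (Fin 3 → R) →ₗ[R] R)) with hβ
  set γ : (Fin 3 → R) →ₗ[R] R :=
    (LinearMap.proj j : (Fin 3 → R) →ₗ[R] R) - (LinearMap.proj 0 : (Fin 3 → R) →ₗ[R] R) - (f j - f 0) • β with hγ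
  have hβa : ∀ x : Fin 3 → R, β x = ((d⁻¹ : Rˣ) : R) * (x i - x 0) := fun x => by
    simp [hβ]
  have hγa : ∀ x : Fin 3 → R, γ x = x j - x 0 - (f j - f 0) * β x := fun x => by
    simp [hγ]
  have hdinv : ((d⁻¹ : Rˣ) : R) * (f i - f 0) = 1 := by
    rw [← hd]; exact d.inv_mul
  set Im : Ideal R := Ideal.span {(PowerSeries.X : R) ^ m} with hIm
  set In : Ideal R := Ideal.span {(PowerSeries.X : R) ^ n} with hIn
  set ψ : (Fin 3 → R) →ₗ[R] (R ⧸ Im) × (R ⧸ In) :=
    LinearMap.prod ((Submodule.mkQ Im).comp β) ((Submodule.mkQ In).comp γ) with hψ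
  have hψa : ∀ x, ψ x = (Submodule.mkQ Im (β x), Submodule.mkQ In (γ x)) := fun x => rfl
  have hsurj : Function.Surjective ψ := by
    rintro ⟨b, c⟩
    obtain ⟨b, rfl⟩ := Submodule.mkQ_surjective Im b
    obtain ⟨c, rfl⟩ := Submodule.mkQ_surjective In c
    refine ⟨b • f + c • Pi.single j 1, ?_⟩
    have h1 : β (b • f + c • Pi.single j 1) = b := by
      rw [hβa]
      simp only [Pi.add_apply, Pi.smul_apply, smul_eq_mul, Pi.single_apply, if_neg hij,
        if_neg (Ne.symm hj0), mul_zero, add_zero]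
      calc ((d⁻¹ : Rˣ) : R) * (b * f i - b * f 0) = b * (((d⁻¹ : Rˣ) : R) * (f i - f 0)) := by ring
        _ = b := by rw [hdinv, mul_one]
    have h2 : γ (b • f + c • Pi.single j 1) = c := by
      rw [hγa, h1]
      simp only [Pi.add_apply, Pi.smul_apply, smul_eq_mul, Pi.single_apply, if_true,
        if_neg (Ne.symm hj0), mul_zero, add_zero, mul_one]
      ring
    rw [hψa, h1, h2]
  have hker : LinearMap.ker ψ = S := by
    ext x
    rw [LinearMap.mem_ker]
    rw [hψa]
    simp only [Prod.mk_eq_zero, Submodule.mkQ_apply, Submodule.Quotient.mk_eq_zero]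
    rw [hIm, hIn, Ideal.mem_span_singleton, Ideal.mem_span_singleton]
    constructor
    · rintro ⟨⟨b', hb'⟩, ⟨c', hc'⟩⟩
      have hx : x = (x 0 - β x * f 0) • (1 : Fin 3 → R) + b' • ((PowerSeries.X : R) ^ m • f) +
          (PowerSeries.X : R) ^ n • (c' • Pi.single j 1) := by
        funext l
        simp only [Pi.add_apply, Pi.smul_apply, smul_eq_mul, Pi.one_apply, mul_one]
        rw [show b' * ((PowerSeries.X : R) ^ m * f l) = ((PowerSeries.X : R) ^ m * b') * f l by ring,
          ← hb', show (PowerSeries.X : R) ^ n * (c' * (Pi.single j 1 : Fin 3 → R) l)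
            = ((PowerSeries.X : R) ^ n * c') * (Pi.single j 1 : Fin 3 → R) l by ring, ← hc']
        rcases cover i j hi0 hj0 hij l with rfl | rfl | rfl
        · rw [Pi.single_apply, if_neg (Ne.symm hj0)]; ring
        · rw [Pi.single_apply, if_neg hij]
          have : β x * (f l - f 0) = x l - x 0 := by
            rw [hβa]
            calc ((d⁻¹ : Rˣ) : R) * (x l - x 0) * (f l - f 0)
                = (x l - x 0) * (((d⁻¹ : Rˣ) : R) * (f l - f 0)) := by ring
              _ = x l - x 0 := by rw [hdinv, mul_one]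
          linear_combination (-1 : R) * this
        · rw [Pi.single_apply, if_pos rfl, hγa]; ring
      rw [hx, hS]
      refine Submodule.add_mem _ (Submodule.mem_sup_left ?_) (Submodule.mem_sup_right ?_)
      · exact Submodule.add_mem _ (Submodule.smul_mem _ _ (Submodule.subset_span (by simp)))
          (Submodule.smul_mem _ _ (Submodule.subset_span (by simp)))
      · exact (mem_N _ _).mpr ⟨_, rfl⟩
    · intro hx
      rw [hS] at hx
      obtain ⟨y, hy, u, hu, rfl⟩ := Submodule.mem_sup.mp hx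
      obtain ⟨a, b, rfl⟩ := Submodule.mem_span_pair.mp hy
      obtain ⟨v, rfl⟩ := (mem_N _ _).mp hu
      have hβ1 : β (1 : Fin 3 → R) = 0 := by rw [hβa]; simp
      have hγ1 : γ (1 : Fin 3 → R) = 0 := by rw [hγa, hβ1]; simp
      have hβf : β f = 1 := by rw [hβa, hdinv]
      have hγf : γ f = 0 := by rw [hγa, hβf]; ring
      constructor
      · rw [map_add, map_add, map_smul, map_smul, map_smul, map_smul, hβ1, hβf]
        obtain ⟨e, rfl⟩ := Nat.exists_eq_add_of_le hmn
        exact ⟨b + (PowerSeries.X : R) ^ e * β v, by simp only [smul_eq_mul]; ring⟩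
      · rw [map_add, map_add, map_smul, map_smul, map_smul, map_smul, hγ1, hγf]
        exact ⟨γ v, by simp only [smul_eq_mul]; ring⟩
  exact ⟨(Submodule.quotEquivOfEq _ _ hker.symm).trans (LinearMap.quotKerEquivOfSurjective ψ hsurj)⟩

theorem main [IsAlgClosed k] [CharZero k]
    (m n : ℕ) (hmn : m ≤ n) (hn : n ≤ 2 * m)
    (f : (Fin 3 → R)) (hf : f ∉ Submodule.span R {(1 : (Fin 3 → R))} ⊔ Ideal.span {(PowerSeries.X : R)} • (⊤ : Submodule R (Fin 3 → R)))
    (S : Submodule R (Fin 3 → R))
    (hS : S = Submodule.span R {(1 : (Fin 3 → R)), ((PowerSeries.X : R) ^ m) • f} ⊔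
        Ideal.span {(PowerSeries.X : R) ^ n} • (⊤ : Submodule R (Fin 3 → R))) :
    (∀ x ∈ S, ∀ y ∈ S, x * y ∈ S) ∧
    Nonempty (((Fin 3 → R) ⧸ S) ≃ₗ[R]
      ((R ⧸ Ideal.span {(PowerSeries.X : R) ^ m}) × (R ⧸ Ideal.span {(PowerSeries.X : R) ^ n}))) := by
  constructor
  · rw [Groth.Agent.S13879.result m n f S hS, hS]
    apply Submodule.mem_sup_right
    rw [mem_N]
    obtain ⟨e, he⟩ := Nat.exists_eq_add_of_le hn
    exact ⟨(PowerSeries.X : R) ^ e • (f * f), by rw [smul_smul, ← pow_add, he]⟩
  · have key : ∀ p : R, ¬ IsUnit p → ∃ q : R, p = PowerSeries.X * q := by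
      intro p hp
      have : PowerSeries.constantCoeff p = 0 := by
        by_contra h
        exact hp (PowerSeries.isUnit_iff_constantCoeff.mpr (isUnit_iff_ne_zero.mpr h))
      exact PowerSeries.X_dvd_iff.mpr this
    by_cases h1 : IsUnit (f 1 - f 0)
    · obtain ⟨d, hd⟩ := h1
      exact core m n hmn f 1 2 (by decide) (by decide) (by decide) d hd S hS
    · by_cases h2 : IsUnit (f 2 - f 0)
      · obtain ⟨d, hd⟩ := h2
        exact core m n hmn f 2 1 (by decide) (by decide) (by decide) d hd S hS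
      · exfalso
        apply hf
        obtain ⟨q1, hq1⟩ := key _ h1
        obtain ⟨q2, hq2⟩ := key _ h2
        have : f = f 0 • (1 : Fin 3 → R) + (PowerSeries.X : R) • ![0, q1, q2] := by
          funext l
          fin_cases l
          · simp
          · simp only [Pi.add_apply, Pi.smul_apply, smul_eq_mul, Pi.one_apply, mul_one]
            show f 1 = f 0 + PowerSeries.X * q1
            rw [← hq1]; ring
          · simp only [Pi.add_apply, Pi.smul_apply, smul_eq_mul, Pi.one_apply, mul_one]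
            show f 2 = f 0 + PowerSeries.X * q2
            rw [← hq2]; ring
        rw [this]
        exact Submodule.add_mem_sup (Submodule.smul_mem _ _ (Submodule.subset_span rfl))
          ((mem_N _ _).mpr ⟨_, rfl⟩)

end Aux

/-- Over R = k⟦t⟧ with k an algebraically closed field of characteristic zero, let S' = R × R × R be the
unramified triple cover of the formal disk and let m ≤ n ≤ 2m be natural numbers. For every f in S'
not lying in R·1 + t S', the R-submodule S = R·1 + R·(t ^ m f) + t ^ n S' is closed under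
multiplication, hence an R-subalgebra (a crimp), and S' / S is isomorphic to R / (t ^ m) ⊕ R / (t ^
n) (so the crimp has μ-invariant n - m and branch divisor (t ^ (2(m+n)))). Together with the
structure result for submodules with this quotient, this identifies the k-points of the space of
crimps of splitting type (m, n), 2m ≥ n, with the submodules of this shape. (The published statement
moreover asserts that this stratum is an irreducible variety of dimension n - m; that part is not
restated.) -/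
theorem result {k : Type u} [Field k] [IsAlgClosed k] [CharZero k]
    (m n : ℕ) (hmn : m ≤ n) (hn : n ≤ 2 * m)
    (f : (Fin 3 → PowerSeries k)) (hf : f ∉ Submodule.span (PowerSeries k) {(1 : (Fin 3 → PowerSeries k))} ⊔ Ideal.span {(PowerSeries.X : PowerSeries k)} • (⊤ : Submodule (PowerSeries k) (Fin 3 → PowerSeries k)))
    (S : Submodule (PowerSeries k) (Fin 3 → PowerSeries k))
    (hS : S = Submodule.span (PowerSeries k) {(1 : (Fin 3 → PowerSeries k)), ((PowerSeries.X : PowerSeries k) ^ m) • f} ⊔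
        Ideal.span {(PowerSeries.X : PowerSeries k) ^ n} • (⊤ : Submodule (PowerSeries k) (Fin 3 → PowerSeries k))) :
    (∀ x ∈ S, ∀ y ∈ S, x * y ∈ S) ∧
    Nonempty (((Fin 3 → PowerSeries k) ⧸ S) ≃ₗ[PowerSeries k]
      ((PowerSeries k ⧸ Ideal.span {(PowerSeries.X : PowerSeries k) ^ m}) × (PowerSeries k ⧸ Ideal.span {(PowerSeries.X : PowerSeries k) ^ n}))) := by
  exact main m n hmn hn f hf S hS

end Groth.Agent.S13886
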