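import Groth.Statements.S13888
import Mathlib
-- import your own Groth.Agent.* helpers here

set_option autoImplicit false
universe u
open CategoryTheory CategoryTheory.Limits MonoidalCategory
attribute [local instance] HasDerivedCategory.standard
open DTen

namespace Groth.Agent.S13888

variable {A : Type u} [CommRing A] [DTen.HasLTen A] [DTen.HasLTen₃ A]
    [DTen.IsSymMonoidal A] [DTen.HasRHom A]

theorem square_inv {C : Type*} [Category C] {P P' Q Q' R R' : C} (a : P ⟶ P') (l : P ⟶ Q)
    (l' : P' ⟶ Q') (m : Q ⟶ Q') (r : R ⟶ Q) (r' : R' ⟶ Q') [IsIso r] [IsIso r'] (b : R ⟶ R')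
    (hL : a ≫ l' = l ≫ m) (hR : b ≫ r' = r ≫ m) : a ≫ (l' ≫ inv r') = (l ≫ inv r) ≫ b := by
  have h1 : m ≫ inv r' = inv r ≫ b := by
    rw [IsIso.comp_inv_eq, Category.assoc, IsIso.eq_inv_comp]; exact hR.symm
  rw [← Category.assoc, hL, Category.assoc, h1, Category.assoc]

theorem associator_natural_left {X X' : Dual.D A} (φ : X ⟶ X') (K L : Dual.D A) :
    (LTen₂ A).map (Prod.mkHom ((LTen₂ A).map (Prod.mkHom φ (𝟙 K))) (𝟙 L)) ≫
      (DTen.associator X' K L).hom =
    (DTen.associator X K L).hom ≫ (LTen₂ A).map (Prod.mkHom φ (𝟙 ((LTen₂ A).obj (K, L)))) := by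
  let f : (X, (K, L)) ⟶ (X', (K, L)) := Prod.mkHom φ (Prod.mkHom (𝟙 K) (𝟙 L))
  have hL := (assocL A).naturality f
  have hR := (assocR A).naturality f
  have eL : (LTenL A).map f =
      (LTen₂ A).map (Prod.mkHom ((LTen₂ A).map (Prod.mkHom φ (𝟙 K))) (𝟙 L)) := rfl
  have eR : (LTenR A).map f = (LTen₂ A).map (Prod.mkHom φ (𝟙 ((LTen₂ A).obj (K, L)))) := by
    change (LTen₂ A).map (Prod.mkHom φ ((LTen₂ A).map (Prod.mkHom (𝟙 K) (𝟙 L)))) = _
    congr 2
    exact (LTen₂ A).map_id (K, L)
  rw [eL] at hL
  rw [eR] at hR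
  change _ ≫ ((assocL A).app (X', (K, L)) ≫ (inv (assocR A)).app (X', (K, L))) =
    ((assocL A).app (X, (K, L)) ≫ (inv (assocR A)).app (X, (K, L))) ≫ _
  rw [NatIso.isIso_inv_app, NatIso.isIso_inv_app]
  exact square_inv _ _ _ _ _ _ _ hL hR

theorem tensorRightD_map {X X' : Dual.D A} (φ : X ⟶ X') (K : Dual.D A) :
    (tensorRightD A K).map φ = (LTen₂ A).map (Prod.mkHom φ (𝟙 K)) := rfl

theorem comp_curryHom {X : Dual.D A} (K L M : Dual.D A)
    (φ : X ⟶ (RHomR A ((LTen₂ A).obj (K, L))).obj M) :
    φ ≫ curryHom K L M = rhomHomEquiv X K _ (rhomHomEquiv ((LTen₂ A).obj (X, K)) L M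
      ((DTen.associator X K L).hom ≫ (rhomHomEquiv X ((LTen₂ A).obj (K, L)) M).symm φ)) := by
  unfold curryHom
  rw [← Adjunction.homEquiv_naturality_left]
  have h2 := Adjunction.homEquiv_naturality_left (rhomAdj A L) ((tensorRightD A K).map φ)
    (curryHomAux K L M)
  refine congrArg _ (h2.symm.trans (congrArg _ ?_))
  unfold curryHomAux
  rw [tensorRightD_map, tensorRightD_map]
  have h3 := associator_natural_left φ K L
  rw [← Category.assoc]
  refine (congrArg (· ≫ _) h3).trans ?_
  rw [Category.assoc]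
  rfl

/-- For a commutative ring `A` (assuming the derived tensor product on `D(A)` with its triple version
exists, that its symmetry, unit and associativity maps are isomorphisms, and that every `- ⊗^L L`
has a right adjoint `RHom(L, -)`) and objects `K`, `L`, `M` of `D(A)`, the canonical morphism
`RHom(K ⊗^L L, M) ⟶ RHom(K, RHom(L, M))`, namely the double adjunct of the associativity isomorphism
followed by evaluation at `K ⊗^L L`, is an isomorphism. (Functoriality in the three objects is built
into the construction; the identification on `H^0` with the hom bijection of the adjunction is not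
part of this row.) -/
theorem result (A : Type u) [CommRing A] [DTen.HasLTen A] [DTen.HasLTen₃ A]
    [DTen.IsSymMonoidal A] [DTen.HasRHom A] (K L M : Dual.D A) :
    IsIso (DTen.curryHom K L M) := by
  apply isIso_of_yoneda_map_bijective
  intro X
  have h : (fun φ : X ⟶ (RHomR A ((LTen₂ A).obj (K, L))).obj M => φ ≫ curryHom K L M) =
      fun φ => rhomHomEquiv X K _ (rhomHomEquiv ((LTen₂ A).obj (X, K)) L M
        ((DTen.associator X K L).hom ≫ (rhomHomEquiv X ((LTen₂ A).obj (K, L)) M).symm φ)) := by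
    funext φ
    exact comp_curryHom K L M φ
  rw [h]
  refine (rhomHomEquiv X K _).bijective.comp ((rhomHomEquiv ((LTen₂ A).obj (X, K)) L M).bijective.comp
    (Function.Bijective.comp ?_ (rhomHomEquiv X ((LTen₂ A).obj (K, L)) M).symm.bijective))
  constructor
  · intro f g hfg
    exact (cancel_epi _).mp hfg
  · intro g
    exact ⟨(DTen.associator X K L).inv ≫ g, by simp⟩

end Groth.Agent.S13888
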