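import Groth.Statements.S13904
import Groth.Agent.S5763
import Mathlib
-- import your own Groth.Agent.* helpers here

set_option autoImplicit false
universe u
open CAlg

namespace Groth.Agent.S13904

/-- Let k be a field, A a commutative k-algebra and φ : k[x_1, …, x_r] → A a finite k-algebra map such
that A/p has Krull dimension r for every minimal prime p of A (an equidimensional affine scheme of
dimension r, finite over affine r-space). Then for every minimal prime p of A and every prime q of
k[x_1, …, x_r] there is a prime P ⊇ p of A with φ⁻¹(P) = q: the finite map restricted to each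
irreducible component of Spec A is surjective onto affine r-space. (The published statement is over
an algebraically closed field with φ a Noether normalisation; this row allows any field and any
finite k-algebra map φ.) -/
theorem result (k : Type u) [Field k] (r : ℕ)
    (A : Type u) [CommRing A] [Algebra k A] (φ : MvPolynomial (Fin r) k →ₐ[k] A)
    (hφ : φ.toRingHom.Finite)
    (hdim : ∀ p ∈ minimalPrimes A, ringKrullDim (A ⧸ p) = r)
    (p : Ideal A) (hp : p ∈ minimalPrimes A)
    (q : Ideal (MvPolynomial (Fin r) k)) [q.IsPrime] :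
    ∃ P : Ideal A, P.IsPrime ∧ p ≤ P ∧ P.comap φ.toRingHom = q := by
  classical
  letI : Algebra (MvPolynomial (Fin r) k) A := φ.toRingHom.toAlgebra
  haveI hfin : Module.Finite (MvPolynomial (Fin r) k) A := hφ
  haveI hpprime : p.IsPrime := hp.1.1
  have halg : algebraMap (MvPolynomial (Fin r) k) A = φ.toRingHom := RingHom.algebraMap_toAlgebra _
  have hK : p.comap (algebraMap (MvPolynomial (Fin r) k) A) = ⊥ := by
    by_contra hne
    obtain ⟨f, hfK, hf0⟩ := Submodule.exists_mem_ne_zero_of_ne_bot hne
    have hfp : algebraMap (MvPolynomial (Fin r) k) A f ∈ p := hfK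
    -- the induced map `R ⧸ (f) → A ⧸ p`
    let ψ : (MvPolynomial (Fin r) k ⧸ Ideal.span {f}) →+* A ⧸ p :=
      Ideal.Quotient.lift (Ideal.span {f})
        ((Ideal.Quotient.mk p).comp (algebraMap (MvPolynomial (Fin r) k) A)) (by
          intro a ha
          obtain ⟨c, rfl⟩ := Ideal.mem_span_singleton'.1 ha
          rw [RingHom.comp_apply, map_mul, map_mul]
          rw [Ideal.Quotient.eq_zero_iff_mem.2 hfp, mul_zero])
    letI : Algebra (MvPolynomial (Fin r) k ⧸ Ideal.span {f}) (A ⧸ p) := ψ.toAlgebra
    haveI : Algebra.IsIntegral (MvPolynomial (Fin r) k ⧸ Ideal.span {f}) (A ⧸ p) := by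
      refine ⟨fun b => ?_⟩
      obtain ⟨a, rfl⟩ := Ideal.Quotient.mk_surjective b
      have ha : IsIntegral (MvPolynomial (Fin r) k) a := Algebra.IsIntegral.isIntegral a
      obtain ⟨P, hPm, hPa⟩ := ha
      refine ⟨P.map (Ideal.Quotient.mk (Ideal.span {f})), hPm.map _, ?_⟩
      rw [Polynomial.eval₂_map]
      have hcomp : (algebraMap (MvPolynomial (Fin r) k ⧸ Ideal.span {f}) (A ⧸ p)).comp
          (Ideal.Quotient.mk (Ideal.span {f})) =
          (Ideal.Quotient.mk p).comp (algebraMap (MvPolynomial (Fin r) k) A) := by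
        ext x <;> simp [RingHom.algebraMap_toAlgebra, ψ]
      rw [hcomp, ← Polynomial.hom_eval₂, hPa, map_zero]
    have h1 := (Groth.Agent.S5763.result (MvPolynomial (Fin r) k ⧸ Ideal.span {f}) (A ⧸ p)).1
    have h2 := ringKrullDim_quotient_succ_le_of_nonZeroDivisor
      (mem_nonZeroDivisors_of_ne_zero hf0)
    rw [hdim p hp] at h1
    rw [MvPolynomial.ringKrullDim_of_isNoetherianRing] at h2
    simp only [ringKrullDim_eq_zero_of_field, zero_add, Nat.card_eq_fintype_card,
      Fintype.card_fin] at h2
    have h3 : ((r : ℕ) : WithBot ℕ∞) + 1 ≤ (r : ℕ) := (add_le_add_left h1 1).trans h2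
    have h4 : ((r + 1 : ℕ) : WithBot ℕ∞) ≤ ((r : ℕ) : WithBot ℕ∞) := by
      push_cast; exact h3
    have h5 : r + 1 ≤ r := by exact_mod_cast h4
    omega
  obtain ⟨Q, hQp, hQprime, hQ⟩ := Ideal.exists_ideal_over_prime_of_isIntegral q p
    (by rw [hK]; exact bot_le)
  refine ⟨Q, hQprime, hQp, ?_⟩
  rw [← halg]; exact hQ

end Groth.Agent.S13904
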