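import Groth.Statements.S13905
import Mathlib

set_option autoImplicit false
universe u
open ProjGeom

namespace Groth.Agent.S13905




open W4c1etcurveeff3b in
/-- Hyperplanes of projective n-space in general position, in linear-algebra form (V of dimension n + 1
over a field k, hyperplanes as n-dimensional subspaces, points as nonzero vectors): if S is a finite
set of hyperplanes in general position with at least n members and H is a hyperplane containing none
of the lines cut out by n members of S, then S with H added is again in general position. (The
published statement is for hyperplanes of P^n_k and closed points; a closed point lying on n + 1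
members is automatically one of the rational points cut out by n of them, so the condition on
nonzero vectors of V is the same condition.) -/
theorem result (k V : Type u) [Field k]
    [AddCommGroup V] [Module k V] [DecidableEq (Submodule k V)] (n : ℕ) (S : Finset (Submodule k V))
    (hS : InGeneralPosition k V n S) (hn : n ≤ S.card) (H : Submodule k V)
    (hH : Module.finrank k H = n)
    (havoid : ∀ T ⊆ S, T.card = n → ¬ (T.inf id ≤ H)) :
    InGeneralPosition k V n (insert H S) := by
  obtain ⟨hV, hmem, hdim, hpt⟩ := hS
  have hfin : FiniteDimensional k V := Module.finite_of_finrank_pos (by omega)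
  refine ⟨hV, ?_, ?_, ?_⟩
  · intro H' hH'
    rcases Finset.mem_insert.mp hH' with rfl | h
    · exact hH
    · exact hmem H' h
  · intro T hT hTc
    by_cases hHT : H ∈ T
    · set T' := T.erase H with hT'
      have hT'S : T' ⊆ S := by
        intro x hx
        obtain ⟨hxne, hxT⟩ := Finset.mem_erase.mp hx
        rcases Finset.mem_insert.mp (hT hxT) with rfl | h
        · exact absurd rfl hxne
        · exact h
      have hcard : T'.card + 1 = T.card := Finset.card_erase_add_one hHT
      have hTeq : T = insert H T' := (Finset.insert_erase hHT).symm
      have hW := hdim T' hT'S (by omega)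
      set W := T'.inf id with hWdef
      have hinf : T.inf id = H ⊓ W := by
        rw [hTeq, Finset.inf_insert]; rfl
      have hWH : ¬ W ≤ H := by
        intro hle
        obtain ⟨T'', hT'T'', hT''S, hT''c⟩ :=
          Finset.exists_subsuperset_card_eq hT'S (by omega : T'.card ≤ n) hn
        exact havoid T'' hT''S hT''c ((Finset.inf_mono hT'T'').trans hle)
      have hsup : H ⊔ W = ⊤ := by
        apply Submodule.eq_top_of_finrank_eq
        have h1 : H < H ⊔ W := by
          refine lt_of_le_of_ne le_sup_left ?_
          intro h
          exact hWH (h ▸ le_sup_right)
        have h2 := Submodule.finrank_lt_finrank_of_lt h1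
        have h3 := Submodule.finrank_le (H ⊔ W)
        omega
      have hsum := Submodule.finrank_sup_add_finrank_inf_eq H W
      rw [hsup, finrank_top, hV, hH, hW] at hsum
      rw [hinf]
      omega
    · have hTS : T ⊆ S := by
        intro x hx
        rcases Finset.mem_insert.mp (hT hx) with rfl | h
        · exact absurd hx hHT
        · exact h
      exact hdim T hTS hTc
  · intro v hv T hT hvT
    by_cases hHT : H ∈ T
    · set T' := T.erase H with hT'
      have hT'S : T' ⊆ S := by
        intro x hx
        obtain ⟨hxne, hxT⟩ := Finset.mem_erase.mp hx
        rcases Finset.mem_insert.mp (hT hxT) with rfl | h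
        · exact absurd rfl hxne
        · exact h
      have hcard : T'.card + 1 = T.card := Finset.card_erase_add_one hHT
      have hvT' : ∀ H' ∈ T', v ∈ H' := fun H' h => hvT H' (Finset.mem_of_mem_erase h)
      have hle := hpt v hv T' hT'S hvT'
      by_contra hgt
      have hc : T'.card = n := by omega
      have hW := hdim T' hT'S hle
      rw [hc] at hW
      have hW1 : Module.finrank k ↥(T'.inf id) = 1 := by omega
      have hvW : v ∈ T'.inf id := by
        rw [Submodule.mem_finsetInf]
        intro H' h
        exact hvT' H' h
      have hWv : T'.inf id ≤ k ∙ v := by
        intro w hw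
        obtain ⟨c, hc⟩ := (finrank_eq_one_iff_of_nonzero' (⟨v, hvW⟩ : ↥(T'.inf id))
          (by simpa using hv)).mp hW1 ⟨w, hw⟩
        rw [Submodule.mem_span_singleton]
        exact ⟨c, by simpa using congrArg Subtype.val hc⟩
      apply havoid T' hT'S hc
      refine hWv.trans ?_
      rw [Submodule.span_le]
      rintro _ rfl
      exact hvT H hHT
    · have hTS : T ⊆ S := by
        intro x hx
        rcases Finset.mem_insert.mp (hT hx) with rfl | h
        · exact absurd hx hHT
        · exact h
      exact hpt v hv T hTS hvT

end Groth.Agent.S13905
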