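import Groth.Statements.S13907
import Groth.Agent.Lib.Helper1.ProjDimInter

set_option autoImplicit false
universe u
open ProjGeom

namespace Groth.Agent.S13907

open Groth.Agent.Lib.Helper1.ProjDimPt Groth.Agent.Lib.Helper1.ProjDimTop
  Groth.Agent.Lib.Helper1.ProjDimLoc Groth.Agent.Lib.Helper1.ProjDimInter
  Groth.Agent.Lib.Helper1.ProjDimAlg in

/-- Over an algebraically closed field k, let C be a nonempty irreducible closed subset of the
underlying space of projective n-space with homogeneous coordinates x_0, …, x_n, and for i ≤ n let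
L_i be the linear subspace where x_1, …, x_i vanish. Then there is an index i ≤ n with C ∩ L_i
nonempty and of topological Krull dimension zero. -/
theorem result (k : Type u) [Field k]
    [IsAlgClosed k] (n : ℕ) (C : Set (ProjectiveSpectrum (CohB1.polyGrading n k)))
    (hC : IsClosed C) (hirr : IsIrreducible C) :
    ∃ i : ℕ, i ≤ n ∧
      (C ∩ ProjectiveSpectrum.zeroLocus (CohB1.polyGrading n k)
          ((fun j : Fin (n + 1) => (MvPolynomial.X j : MvPolynomial (Fin (n + 1)) k)) ''
            {j : Fin (n + 1) | 1 ≤ j.val ∧ j.val ≤ i})).Nonempty ∧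
      topologicalKrullDim ↥(C ∩ ProjectiveSpectrum.zeroLocus (CohB1.polyGrading n k)
          ((fun j : Fin (n + 1) => (MvPolynomial.X j : MvPolynomial (Fin (n + 1)) k)) ''
            {j : Fin (n + 1) | 1 ≤ j.val ∧ j.val ≤ i})) = 0 := by
  classical
  set L : ℕ → Set (PS n k) := fun i =>
    ProjectiveSpectrum.zeroLocus (CohB1.polyGrading n k)
      ((fun j : Fin (n + 1) => (MvPolynomial.X j : MvPolynomial (Fin (n + 1)) k)) ''
        {j : Fin (n + 1) | 1 ≤ j.val ∧ j.val ≤ i}) with hL
  have hLcl : ∀ i, IsClosed (L i) := fun i => ProjectiveSpectrum.isClosed_zeroLocus _ _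
  -- P 0
  have h0 : (C ∩ L 0).Nonempty := by
    obtain ⟨c, hc⟩ := hirr.nonempty
    refine ⟨c, hc, ?_⟩
    rw [hL, mem_zeroLocus_iff]
    rintro _ ⟨j, ⟨h1, h2⟩, rfl⟩
    omega
  set i₀ := Nat.findGreatest (fun i => (C ∩ L i).Nonempty) n with hi₀
  have hi₀n : i₀ ≤ n := Nat.findGreatest_le n
  have hP : (C ∩ L i₀).Nonempty := Nat.findGreatest_spec (P := fun i => (C ∩ L i).Nonempty)
    (Nat.zero_le n) h0
  refine ⟨i₀, hi₀n, hP, ?_⟩
  have hWcl : IsClosed (C ∩ L i₀) := hC.inter (hLcl i₀)
  -- every point of `C ∩ L i₀` has coheight zero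
  have hkey : ∀ w ∈ C ∩ L i₀, ht w = n := by
    intro w hw
    have hwn := ht_le w
    by_contra hne
    have hlt : ht w + 1 ≤ n := by omega
    rcases Nat.lt_or_ge i₀ n with hlt' | hge
    · -- use the next coordinate
      have hi1 : i₀ + 1 ≤ n := hlt'
      let j₀ : Fin (n + 1) := ⟨i₀ + 1, by omega⟩
      have hts : ({MvPolynomial.X j₀} : Set (MvPolynomial (Fin (n + 1)) k)) =
          ↑({MvPolynomial.X j₀} : Finset (MvPolynomial (Fin (n + 1)) k)) := by simp
      obtain ⟨z, hz1, hz2⟩ := inter_nonempty w _ {MvPolynomial.X j₀} hts (by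
        intro g hg; rw [Finset.mem_singleton] at hg; subst hg
        exact ⟨1, Nat.one_pos, MvPolynomial.isHomogeneous_X _ _⟩)
        (by simp only [Finset.card_singleton]; omega)
      have hzC : z ∈ C := mem_of_le hC hw.1 hz1
      have hzL : z ∈ L i₀ := mem_of_le (hLcl i₀) hw.2 hz1
      have hzL' : z ∈ L (i₀ + 1) := by
        rw [hL, mem_zeroLocus_iff] at hzL ⊢
        rw [mem_zeroLocus_iff, Set.singleton_subset_iff] at hz2
        rintro _ ⟨j, ⟨h1, h2⟩, rfl⟩
        rcases Nat.lt_or_ge j.val (i₀ + 1) with h3 | h3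
        · exact hzL ⟨j, ⟨h1, by omega⟩, rfl⟩
        · have : j = j₀ := Fin.ext (by simp only [j₀]; omega)
          rw [this]; exact hz2
      have := Nat.findGreatest_is_greatest (P := fun i => (C ∩ L i).Nonempty) (n := n)
        (k := i₀ + 1) (by rw [← hi₀]; omega) hi1
      exact this ⟨z, hzC, hzL'⟩
    · -- `i₀ = n`: the ideal of `w` contains `x_1, …, x_n`
      have hi₀' : i₀ = n := le_antisymm hi₀n hge
      have hwL := hw.2
      rw [hL, mem_zeroLocus_iff, hi₀'] at hwL
      -- height of span of x_1..x_n is n; we use the chain of primes argument via `inter_nonempty`-free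
      -- bound: the quotient by `x_1, …, x_n` has dimension ≤ 1
      haveI := w.isPrime
      have h1 := Groth.Agent.Lib.Helper7.AffDim.mvPolynomial_height_add k (n + 1) (idl w)
      rw [← coe_ht] at h1
      -- dim (S / idl w) ≤ 1 since `S/idl w` is generated by the image of `X 0`
      have h2 : ringKrullDim (MvPolynomial (Fin (n + 1)) k ⧸ idl w) ≤ 1 := by
        let φ : MvPolynomial (Fin 1) k →ₐ[k] (MvPolynomial (Fin (n + 1)) k ⧸ idl w) :=
          MvPolynomial.aeval (fun _ => Ideal.Quotient.mk (idl w) (MvPolynomial.X 0))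
        have hφ : Function.Surjective φ := by
          intro y
          obtain ⟨p, rfl⟩ := Ideal.Quotient.mk_surjective y
          induction p using MvPolynomial.induction_on with
          | C c => exact ⟨MvPolynomial.C c, by simp only [φ, MvPolynomial.aeval_C]; rfl⟩
          | add p q hp hq =>
            obtain ⟨a, ha⟩ := hp; obtain ⟨b, hb⟩ := hq
            exact ⟨a + b, by rw [map_add, ha, hb, map_add]⟩
          | mul_X p j hp =>
            obtain ⟨a, ha⟩ := hp
            by_cases hj : j = 0
            · subst hj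
              exact ⟨a * MvPolynomial.X 0, by rw [map_mul, ha, map_mul]; simp [φ]⟩
            · refine ⟨0, ?_⟩
              have hjmem : (MvPolynomial.X j : MvPolynomial (Fin (n + 1)) k) ∈ idl w := by
                apply hwL
                refine ⟨j, ⟨?_, ?_⟩, rfl⟩
                · have : j.val ≠ 0 := fun h => hj (Fin.ext h)
                  omega
                · have := j.isLt; omega
              rw [map_zero, map_mul, Ideal.Quotient.eq_zero_iff_mem.mpr hjmem, mul_zero]
        refine (ringKrullDim_le_of_surjective φ.toRingHom hφ).trans ?_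
        rw [MvPolynomial.ringKrullDim_of_isNoetherianRing, ringKrullDim_eq_zero_of_field]
        simp
      have h3 : ((n + 1 : ℕ) : WithBot ℕ∞) ≤ (((ht w : ℕ) : ℕ∞) : WithBot ℕ∞) + 1 := by
        calc ((n + 1 : ℕ) : WithBot ℕ∞) = _ := h1.symm
          _ ≤ _ := by gcongr
      have h4 : n + 1 ≤ ht w + 1 := by exact_mod_cast h3
      omega
  rw [topologicalKrullDim_closed hWcl]
  apply le_antisymm
  · refine iSup_le fun w => ?_
    rw [coheight_eq, hkey w w.2]
    simp
  · obtain ⟨w, hw⟩ := hP
    refine le_trans ?_ (le_iSup (fun w : ↥(C ∩ L i₀) =>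
      ((Order.coheight (w : PS n k) : ℕ∞) : WithBot ℕ∞)) ⟨w, hw⟩)
    exact_mod_cast bot_le

end Groth.Agent.S13907
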