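import Groth.Statements.S13911
import Mathlib

set_option autoImplicit false
universe u
open PlaneConic

namespace Groth.Agent.S13911

section Aux

open MvPolynomial Matrix

variable {k : Type u} [Field k]

noncomputable def lin (a : Fin 3 → k) : MvPolynomial (Fin 3) k := ∑ i : Fin 3, a i • X i

noncomputable def quad (Q : Matrix (Fin 3) (Fin 3) k) : MvPolynomial (Fin 3) k :=
  ∑ i : Fin 3, ∑ j : Fin 3, Q i j • (X i * X j)

lemma eval_lin (a u : Fin 3 → k) : eval u (lin a) = a ⬝ᵥ u := by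
  simp [lin, dotProduct, smul_eq_C_mul]

lemma eval_quad (Q : Matrix (Fin 3) (Fin 3) k) (u : Fin 3 → k) :
    eval u (quad Q) = u ⬝ᵥ (Q *ᵥ u) := by
  simp only [quad, dotProduct, mulVec, smul_eq_C_mul, Fin.sum_univ_three, map_add, map_mul,
    eval_C, eval_X]
  ring

lemma lin_mul_lin (a b : Fin 3 → k) : lin a * lin b = quad (vecMulVec a b) := by
  simp only [lin, quad, vecMulVec_apply, Fin.sum_univ_three, smul_eq_C_mul, map_mul]
  ring

lemma lin_add (a b : Fin 3 → k) : lin (a + b) = lin a + lin b := by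
  simp [lin, add_smul, Finset.sum_add_distrib]

lemma lin_sub (a b : Fin 3 → k) : lin (a - b) = lin a - lin b := by
  simp [lin, sub_smul, Finset.sum_sub_distrib]

lemma lin_smul (c : k) (a : Fin 3 → k) : lin (c • a) = c • lin a := by
  simp [lin, mul_smul, Finset.smul_sum]

/-- polarization -/
lemma symm_ext [CharZero k] {Q Q' : Matrix (Fin 3) (Fin 3) k} (hQ : Q.IsSymm) (hQ' : Q'.IsSymm)
    (h : ∀ u : Fin 3 → k, u ⬝ᵥ (Q *ᵥ u) = u ⬝ᵥ (Q' *ᵥ u)) : Q = Q' := by
  have h2 : (2 : k) ≠ 0 := two_ne_zero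
  have s01 := hQ.apply 0 1
  have s02 := hQ.apply 0 2
  have s12 := hQ.apply 1 2
  have t01 := hQ'.apply 0 1
  have t02 := hQ'.apply 0 2
  have t12 := hQ'.apply 1 2
  have h1 := h ![1, 0, 0]
  have h2' := h ![0, 1, 0]
  have h3 := h ![0, 0, 1]
  have h12 := h ![1, 1, 0]
  have h13 := h ![1, 0, 1]
  have h23 := h ![0, 1, 1]
  simp [dotProduct, mulVec, Fin.sum_univ_three] at h1 h2' h3 h12 h13 h23
  have e01 : Q 0 1 = Q' 0 1 := by
    apply mul_left_cancel₀ h2
    linear_combination h12 - h1 - h2' - s01 + t01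
  have e02 : Q 0 2 = Q' 0 2 := by
    apply mul_left_cancel₀ h2
    linear_combination h13 - h1 - h3 - s02 + t02
  have e12 : Q 1 2 = Q' 1 2 := by
    apply mul_left_cancel₀ h2
    linear_combination h23 - h2' - h3 - s12 + t12
  ext i j
  fin_cases i <;> fin_cases j <;> simp <;> first | assumption | (simp_all)

lemma exists_diag [CharZero k] (Q : Matrix (Fin 3) (Fin 3) k) (hQ : Q.IsSymm) :
    ∃ (P : Matrix (Fin 3) (Fin 3) k) (w : Fin 3 → k), IsUnit P.det ∧ Q = Pᵀ * diagonal w * P := by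
  letI : Invertible (2 : k) := invertibleOfNonzero two_ne_zero
  have hB : LinearMap.IsSymm (Matrix.toBilin' Q) :=
    LinearMap.BilinForm.isSymm_iff.mp (Matrix.isSymm_toBilin'_iff_isSymm.mpr hQ)
  obtain ⟨v0, hv0⟩ := LinearMap.BilinForm.exists_orthogonal_basis hB
  have hn : Module.finrank k (Fin 3 → k) = 3 := Module.finrank_fin_fun k
  let v : Module.Basis (Fin 3) k (Fin 3 → k) := v0.reindex (finCongr hn)
  have hv : ∀ i j, i ≠ j → Matrix.toBilin' Q (v i) (v j) = 0 := by
    intro i j hij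
    have e1 : v i = v0 ((finCongr hn).symm i) := Module.Basis.reindex_apply _ _ _
    have e2 : v j = v0 ((finCongr hn).symm j) := Module.Basis.reindex_apply _ _ _
    rw [e1, e2]
    have hne : (finCongr hn).symm i ≠ (finCongr hn).symm j :=
      fun h => hij ((finCongr hn).symm.injective h)
    exact hv0 hne
  set b := Pi.basisFun k (Fin 3)
  have key := LinearMap.BilinForm.toMatrix_mul_basis_toMatrix (b := b) v (Matrix.toBilin' Q)
  rw [LinearMap.BilinForm.toMatrix_basisFun, LinearMap.BilinForm.toMatrix'_toBilin'] at key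
  set w : Fin 3 → k := fun i => Matrix.toBilin' Q (v i) (v i)
  have hD : LinearMap.BilinForm.toMatrix v (Matrix.toBilin' Q) = diagonal w := by
    ext i j
    rw [LinearMap.BilinForm.toMatrix_apply]
    by_cases hij : i = j
    · subst hij; simp [w]
    · rw [diagonal_apply_ne _ hij]; exact hv i j hij
  have hMN : b.toMatrix v * v.toMatrix b = 1 := Module.Basis.toMatrix_mul_toMatrix_flip b v
  have hNM : v.toMatrix b * b.toMatrix v = 1 := Module.Basis.toMatrix_mul_toMatrix_flip v b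
  refine ⟨v.toMatrix b, w, Matrix.isUnit_det_of_left_inverse hMN, ?_⟩
  rw [← hD, ← key]
  have hMN' : (v.toMatrix b)ᵀ * (b.toMatrix v)ᵀ = 1 := by
    rw [← transpose_mul, hMN, transpose_one]
  calc Q = ((v.toMatrix b)ᵀ * (b.toMatrix v)ᵀ) * Q * (b.toMatrix v * v.toMatrix b) := by
        rw [hMN', hMN, one_mul, mul_one]
    _ = _ := by simp only [Matrix.mul_assoc]

lemma quad_diag (P : Matrix (Fin 3) (Fin 3) k) (w : Fin 3 → k) :
    quad (Pᵀ * diagonal w * P) = ∑ i : Fin 3, w i • (lin (P i)) ^ 2 := by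
  have e : ∀ i j, (Pᵀ * diagonal w * P) i j = ∑ l : Fin 3, P l i * w l * P l j := by
    intro i j
    rw [Matrix.mul_apply]
    simp only [Matrix.mul_diagonal, transpose_apply]
  simp only [quad, lin, e, Fin.sum_univ_three, smul_eq_C_mul, map_add, map_mul]
  ring

open Classical in
lemma rank_diag (P : Matrix (Fin 3) (Fin 3) k) (w : Fin 3 → k) (hP : IsUnit P.det) :
    (Pᵀ * diagonal w * P).rank = (Finset.univ.filter (fun i => w i ≠ 0)).card := by
  rw [rank_mul_eq_left_of_isUnit_det _ _ hP,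
    rank_mul_eq_right_of_isUnit_det _ _ (by rwa [det_transpose]), rank_diagonal,
    Fintype.card_subtype]

lemma det_diag (P : Matrix (Fin 3) (Fin 3) k) (w : Fin 3 → k) :
    (Pᵀ * diagonal w * P).det = P.det ^ 2 * ∏ i, w i := by
  simp only [det_mul, det_transpose, det_diagonal]; ring

lemma square_case [IsAlgClosed k] (P : Matrix (Fin 3) (Fin 3) k) (w : Fin 3 → k) (i₀ : Fin 3)
    (h : ∀ j, j ≠ i₀ → w j = 0) :
    ∃ a, ∑ i : Fin 3, w i • (lin (P i)) ^ 2 = (lin a) ^ 2 := by
  obtain ⟨α, hα⟩ := IsAlgClosed.exists_pow_nat_eq (w i₀) (n := 2) (by norm_num)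
  refine ⟨α • P i₀, ?_⟩
  rw [Finset.sum_eq_single i₀ (fun j _ hj => by rw [h j hj, zero_smul]) (by simp), lin_smul,
    smul_pow, hα]

lemma pair_case [IsAlgClosed k] [CharZero k] (P : Matrix (Fin 3) (Fin 3) k) (hP : IsUnit P.det)
    (w : Fin 3 → k) (i₁ i₂ : Fin 3) (h12 : i₁ ≠ i₂) (h1 : w i₁ ≠ 0) (h2 : w i₂ ≠ 0)
    (h : ∀ j, j ≠ i₁ → j ≠ i₂ → w j = 0) :
    ∃ a b, LinearIndependent k ![a, b] ∧
      ∑ i : Fin 3, w i • (lin (P i)) ^ 2 = lin a * lin b := by
  obtain ⟨α, hα⟩ := IsAlgClosed.exists_pow_nat_eq (w i₁) (n := 2) (by norm_num)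
  obtain ⟨β, hβ⟩ := IsAlgClosed.exists_pow_nat_eq (- w i₂) (n := 2) (by norm_num)
  have hα0 : α ≠ 0 := by
    rintro rfl; apply h1; rw [← hα]; ring
  have hβ0 : β ≠ 0 := by
    rintro rfl; apply h2; rw [← neg_eq_zero, ← hβ]; ring
  have h2k : (2 : k) ≠ 0 := two_ne_zero
  refine ⟨α • P i₁ + β • P i₂, α • P i₁ - β • P i₂, ?_, ?_⟩
  · have hrows : LinearIndependent k P.row :=
      Matrix.linearIndependent_rows_iff_isUnit.mpr ((Matrix.isUnit_iff_isUnit_det P).mpr hP)
    have hinj : Function.Injective ![i₁, i₂] := by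
      intro x y hxy
      fin_cases x <;> fin_cases y <;> simp_all
    have hpair := hrows.comp ![i₁, i₂] hinj
    have e : P.row ∘ ![i₁, i₂] = ![P i₁, P i₂] := by
      ext j l; fin_cases j <;> rfl
    rw [e, LinearIndependent.pair_iff] at hpair
    rw [LinearIndependent.pair_iff]
    intro s t hst
    have := hpair ((s + t) * α) ((s - t) * β) (by
      rw [← hst]; ext l; simp; ring)
    obtain ⟨e1, e2⟩ := this
    have e1' : s + t = 0 := by
      rcases mul_eq_zero.mp e1 with h | h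
      · exact h
      · exact absurd h hα0
    have e2' : s - t = 0 := by
      rcases mul_eq_zero.mp e2 with h | h
      · exact h
      · exact absurd h hβ0
    have hs : s = 0 := by
      apply mul_left_cancel₀ h2k
      linear_combination e1' + e2'
    have ht : t = 0 := by
      apply mul_left_cancel₀ h2k
      linear_combination e1' - e2'
    exact ⟨hs, ht⟩
  · have hsum : ∑ i, w i • lin (P i) ^ 2 = w i₁ • lin (P i₁) ^ 2 + w i₂ • lin (P i₂) ^ 2 := by
      rw [← Finset.sum_subset (Finset.subset_univ {i₁, i₂}) (fun j _ hj => by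
        simp only [Finset.mem_insert, Finset.mem_singleton, not_or] at hj
        rw [h j hj.1 hj.2, zero_smul]), Finset.sum_pair h12]
    have hw2 : w i₂ = - β ^ 2 := by rw [hβ]; ring
    rw [hsum, lin_add, lin_sub, lin_smul, lin_smul, ← hα, hw2]
    simp only [smul_eq_C_mul, map_pow, map_neg]
    ring

noncomputable def S (a b : Fin 3 → k) : Matrix (Fin 3) (Fin 3) k :=
  (2⁻¹ : k) • (vecMulVec a b + vecMulVec b a)

lemma S_symm (a b : Fin 3 → k) : (S a b).IsSymm := by
  ext i j
  simp [S, vecMulVec_apply]; ring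

lemma S_quad [CharZero k] (a b u : Fin 3 → k) :
    u ⬝ᵥ (S a b *ᵥ u) = (a ⬝ᵥ u) * (b ⬝ᵥ u) := by
  have h2k : (2 : k) ≠ 0 := two_ne_zero
  simp only [S, dotProduct, mulVec, vecMulVec_apply, Fin.sum_univ_three, Matrix.smul_apply,
    Matrix.add_apply, smul_eq_mul]
  field_simp
  ring

lemma eq_S [CharZero k] {Q : Matrix (Fin 3) (Fin 3) k} (hQ : Q.IsSymm) (a b : Fin 3 → k)
    (h : ∀ u, eval u (quad Q) = (a ⬝ᵥ u) * (b ⬝ᵥ u)) : Q = S a b := by
  apply symm_ext hQ (S_symm a b)
  intro u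
  rw [← eval_quad, h, S_quad]

lemma det_S [CharZero k] (a b : Fin 3 → k) : (S a b).det = 0 := by
  simp only [S, det_fin_three, vecMulVec_apply, Matrix.smul_apply, Matrix.add_apply, smul_eq_mul]
  ring

lemma S_self [CharZero k] (a : Fin 3 → k) : S a a = vecMulVec a a := by
  have h2k : (2 : k) ≠ 0 := two_ne_zero
  ext i j
  simp only [S, vecMulVec_apply, Matrix.smul_apply, Matrix.add_apply, smul_eq_mul]
  field_simp
  ring

lemma S_mulVec [CharZero k] (a b u : Fin 3 → k) :
    S a b *ᵥ u = (2⁻¹ * (b ⬝ᵥ u)) • a + (2⁻¹ * (a ⬝ᵥ u)) • b := by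
  ext i
  simp only [S, dotProduct, mulVec, vecMulVec_apply, Fin.sum_univ_three, Matrix.smul_apply,
    Matrix.add_apply, smul_eq_mul, Pi.add_apply, Pi.smul_apply]
  ring

lemma rank_S [CharZero k] (a b : Fin 3 → k) (hab : LinearIndependent k ![a, b]) :
    (S a b).rank = 2 := by
  have h2k : (2 : k) ≠ 0 := two_ne_zero
  -- surjectivity of u ↦ (a·u, b·u)
  let A : Matrix (Fin 2) (Fin 3) k := Matrix.of ![a, b]
  have hA : A.rank = 2 := by
    have := LinearIndependent.rank_matrix (M := A) (by exact hab)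
    simpa using this
  have hsurj : ∀ y : Fin 2 → k, ∃ u, A *ᵥ u = y := by
    have htop : LinearMap.range A.mulVecLin = ⊤ := by
      apply Submodule.eq_top_of_finrank_eq
      rw [← Matrix.rank, hA]; simp
    intro y
    have : y ∈ LinearMap.range A.mulVecLin := by rw [htop]; trivial
    obtain ⟨u, hu⟩ := this
    exact ⟨u, hu⟩
  have hrange : LinearMap.range (S a b).mulVecLin = Submodule.span k (Set.range ![a, b]) := by
    apply le_antisymm
    · rintro _ ⟨u, rfl⟩
      rw [Matrix.mulVecLin_apply, S_mulVec]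
      apply Submodule.add_mem
      · exact Submodule.smul_mem _ _ (Submodule.subset_span ⟨0, rfl⟩)
      · exact Submodule.smul_mem _ _ (Submodule.subset_span ⟨1, rfl⟩)
    · rw [Submodule.span_le]
      rintro _ ⟨i, rfl⟩
      fin_cases i
      · obtain ⟨u, hu⟩ := hsurj ![0, 2]
        have h0 : a ⬝ᵥ u = 0 := by simpa [A, mulVec] using congrFun hu 0
        have h1 : b ⬝ᵥ u = 2 := by simpa [A, mulVec] using congrFun hu 1
        refine ⟨u, ?_⟩
        rw [Matrix.mulVecLin_apply, S_mulVec, h0, h1]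
        simp [h2k]
      · obtain ⟨u, hu⟩ := hsurj ![2, 0]
        have h0 : a ⬝ᵥ u = 2 := by simpa [A, mulVec] using congrFun hu 0
        have h1 : b ⬝ᵥ u = 0 := by simpa [A, mulVec] using congrFun hu 1
        refine ⟨u, ?_⟩
        rw [Matrix.mulVecLin_apply, S_mulVec, h0, h1]
        simp [h2k]
  rw [Matrix.rank, hrange, finrank_span_eq_card hab]
  simp

lemma affine_of_totalDegree_le_one (g : MvPolynomial (Fin 3) k) (hg : g.totalDegree ≤ 1) :
    ∃ a c, g = lin a + C c := by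
  refine ⟨fun i => coeff (Finsupp.single i 1) g, coeff 0 g, ?_⟩
  ext d
  have hdeg : d.sum (fun _ e => e) = d 0 + d 1 + d 2 := by
    rw [Finsupp.sum_fintype _ _ (fun _ => rfl), Fin.sum_univ_three]
  by_cases hd : d 0 + d 1 + d 2 ≤ 1
  · have : d = 0 ∨ d = Finsupp.single 0 1 ∨ d = Finsupp.single 1 1 ∨ d = Finsupp.single 2 1 := by
      rcases (by omega : (d 0 = 0 ∧ d 1 = 0 ∧ d 2 = 0) ∨ (d 0 = 1 ∧ d 1 = 0 ∧ d 2 = 0) ∨
        (d 0 = 0 ∧ d 1 = 1 ∧ d 2 = 0) ∨ (d 0 = 0 ∧ d 1 = 0 ∧ d 2 = 1)) with h | h | h | h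
      · left; ext i; fin_cases i <;> simp [h]
      · right; left; ext i; fin_cases i <;> simp [h]
      · right; right; left; ext i; fin_cases i <;> simp [h]
      · right; right; right; ext i; fin_cases i <;> simp [h]
    have hz : ∀ i : Fin 3, (0 : Fin 3 →₀ ℕ) ≠ Finsupp.single i 1 := fun i h => by
      have := Finsupp.single_eq_zero.mp h.symm
      exact one_ne_zero this
    rcases this with rfl | rfl | rfl | rfl <;>
      simp [lin, coeff_X, coeff_C, Fin.sum_univ_three, Finsupp.single_left_inj, hz]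
  · have hdeg' : ∑ i ∈ d.support, d i = d 0 + d 1 + d 2 := hdeg
    have h0 : coeff d g = 0 := coeff_eq_zero_of_totalDegree_lt (by rw [hdeg']; omega)
    rw [h0]
    have hne0 : (0 : Fin 3 →₀ ℕ) ≠ d := by rintro rfl; simp at hd
    have hne : ∀ i : Fin 3, Finsupp.single i 1 ≠ d := by
      rintro i rfl; fin_cases i <;> simp at hd
    simp [lin, coeff_sum, coeff_X, coeff_C, hne0, hne]

lemma totalDegree_quad_le (Q : Matrix (Fin 3) (Fin 3) k) : (quad Q).totalDegree ≤ 2 := by
  unfold quad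
  refine totalDegree_finsetSum_le fun i _ => totalDegree_finsetSum_le fun j _ => ?_
  refine (totalDegree_smul_le _ _).trans ((totalDegree_mul _ _).trans ?_)
  simp [totalDegree_X]

lemma not_isUnit_of_eval_zero {g : MvPolynomial (Fin 3) k} (h : eval 0 g = 0) : ¬ IsUnit g := by
  intro hu
  have := hu.map (eval (0 : Fin 3 → k))
  rw [h] at this
  exact not_isUnit_zero this

lemma quad_ne_zero [CharZero k] {Q : Matrix (Fin 3) (Fin 3) k} (hQ : Q.IsSymm) (h0 : Q ≠ 0) :
    quad Q ≠ 0 := by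
  intro hq
  apply h0
  apply symm_ext hQ (by simp)
  intro u
  rw [← eval_quad, hq]; simp

lemma irreducible_of_det_ne_zero [CharZero k] {Q : Matrix (Fin 3) (Fin 3) k} (hQ : Q.IsSymm)
    (hdet : Q.det ≠ 0) : Irreducible (quad Q) := by
  have h2k : (2 : k) ≠ 0 := two_ne_zero
  have hQ0 : Q ≠ 0 := by rintro rfl; simp at hdet
  have hq0 := quad_ne_zero hQ hQ0
  refine ⟨not_isUnit_of_eval_zero (by rw [eval_quad]; simp), ?_⟩
  intro g h hgh
  by_contra hcon
  rw [not_or] at hcon
  obtain ⟨hg, hh⟩ := hcon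
  have hg0 : g ≠ 0 := by rintro rfl; rw [zero_mul] at hgh; exact hq0 hgh
  have hh0 : h ≠ 0 := by rintro rfl; rw [mul_zero] at hgh; exact hq0 hgh
  have hdeg : g.totalDegree + h.totalDegree ≤ 2 := by
    rw [← totalDegree_mul_of_isDomain hg0 hh0, ← hgh]; exact totalDegree_quad_le Q
  have hpos : ∀ p : MvPolynomial (Fin 3) k, p ≠ 0 → ¬ IsUnit p → p.totalDegree ≠ 0 := by
    intro p hp0 hpu hd
    rw [totalDegree_eq_zero_iff_eq_C] at hd
    apply hpu
    rw [hd]
    apply IsUnit.map C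
    apply IsUnit.mk0
    intro hc; rw [hc, C_0] at hd; exact hp0 hd
  have hg1 := hpos g hg0 hg
  have hh1 := hpos h hh0 hh
  obtain ⟨a, c, rfl⟩ := affine_of_totalDegree_le_one g (by omega)
  obtain ⟨b, d, rfl⟩ := affine_of_totalDegree_le_one h (by omega)
  have hev : ∀ u, u ⬝ᵥ (Q *ᵥ u) = (a ⬝ᵥ u + c) * (b ⬝ᵥ u + d) := by
    intro u
    rw [← eval_quad, hgh]; simp [eval_lin]
  have hkey : ∀ u, eval u (quad Q) = (a ⬝ᵥ u) * (b ⬝ᵥ u) := by
    intro u
    have h1 := hev u
    have h2 := hev (-u)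
    have h3 := hev 0
    simp only [mulVec_neg, dotProduct_neg, neg_dotProduct, neg_neg, mulVec_zero,
      dotProduct_zero] at h2 h3
    rw [eval_quad]
    apply mul_left_cancel₀ h2k
    linear_combination h1 + h2 - 2 * h3
  apply hdet
  rw [eq_S hQ a b hkey, det_S]

lemma eval_pderiv_quad {Q : Matrix (Fin 3) (Fin 3) k} (hQ : Q.IsSymm) (u : Fin 3 → k)
    (i : Fin 3) : eval u (pderiv i (quad Q)) = 2 * (Q *ᵥ u) i := by
  have s01 := hQ.apply 0 1
  have s02 := hQ.apply 0 2
  have s12 := hQ.apply 1 2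
  simp only [quad, Fin.sum_univ_three, map_add, Derivation.leibniz,
    pderiv_X, smul_eq_C_mul, mulVec, dotProduct]
  fin_cases i <;> simp [Pi.single_apply] <;> (try simp only [s01, s02, s12]) <;> ring

theorem main (k : Type u) [Field k] [IsAlgClosed k] [CharZero k]
    (Q : Matrix (Fin 3) (Fin 3) k) (hQ : Q.IsSymm) (hQ0 : Q ≠ 0) (f : MvPolynomial (Fin 3) k)
    (hf : f = ∑ i : Fin 3, ∑ j : Fin 3, Q i j • (MvPolynomial.X i * MvPolynomial.X j)) :
    (Irreducible f ↔ Q.det ≠ 0) ∧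
    ((∃ u : Fin 3 → k, u ≠ 0 ∧ ∀ i : Fin 3, MvPolynomial.eval u (MvPolynomial.pderiv i f) = 0) ↔ Q.det = 0) ∧
    ((∃ a b : Fin 3 → k, LinearIndependent k ![a, b] ∧
        f = (∑ i : Fin 3, a i • MvPolynomial.X i) * (∑ i : Fin 3, b i • MvPolynomial.X i)) ↔ Q.rank = 2) ∧
    ((∃ a : Fin 3 → k, f = (∑ i : Fin 3, a i • MvPolynomial.X i) ^ 2) ↔ Q.rank = 1) := by
  classical
  have h2k : (2 : k) ≠ 0 := two_ne_zero
  have hf' : f = quad Q := hf
  obtain ⟨P, w, hP, hQP⟩ := exists_diag Q hQ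
  have hfw : f = ∑ i, w i • lin (P i) ^ 2 := by
    have := quad_diag P w
    rw [← hQP] at this
    rw [hf', this]
  have hrank : Q.rank = (Finset.univ.filter (fun i => w i ≠ 0)).card := by
    have := rank_diag P w hP
    rwa [← hQP] at this
  have hdet : Q.det = P.det ^ 2 * ∏ i, w i := by
    have := det_diag P w
    rwa [← hQP] at this
  have hsq : Q.rank = 1 → ∃ a, f = lin a ^ 2 := by
    intro h1
    rw [hrank, Finset.card_eq_one] at h1
    obtain ⟨i₀, hi₀⟩ := h1
    obtain ⟨a, ha⟩ := square_case P w i₀ (fun j hj => by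
      by_contra hwj
      have : j ∈ Finset.univ.filter (fun i => w i ≠ 0) := by simp [hwj]
      rw [hi₀, Finset.mem_singleton] at this
      exact hj this)
    exact ⟨a, hfw.trans ha⟩
  have hpair : Q.rank = 2 → ∃ a b, LinearIndependent k ![a, b] ∧ f = lin a * lin b := by
    intro h2
    rw [hrank, Finset.card_eq_two] at h2
    obtain ⟨i₁, i₂, h12, hS⟩ := h2
    have hmem : ∀ j, w j ≠ 0 ↔ j = i₁ ∨ j = i₂ := by
      intro j
      have := Finset.ext_iff.mp hS j
      simpa using this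
    obtain ⟨a, b, hab, he⟩ := pair_case P hP w i₁ i₂ h12 ((hmem i₁).mpr (Or.inl rfl))
      ((hmem i₂).mpr (Or.inr rfl)) (fun j h1 h2 => by
        by_contra hwj
        rcases (hmem j).mp hwj with h | h
        · exact h1 h
        · exact h2 h)
    exact ⟨a, b, hab, hfw.trans he⟩
  have hrank0 : Q.rank ≠ 0 := by
    intro h0
    rw [hrank, Finset.card_eq_zero, Finset.filter_eq_empty_iff] at h0
    apply hQ0
    have hw : w = 0 := by
      ext i
      simpa using h0 (Finset.mem_univ i)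
    rw [hQP, hw]; simp
  have hranklt : Q.det = 0 → Q.rank < 3 := by
    intro h0
    rw [hdet] at h0
    have hprod : ∏ i, w i = 0 := by
      rcases mul_eq_zero.mp h0 with h | h
      · exact absurd ((pow_eq_zero_iff two_ne_zero).mp h) hP.ne_zero
      · exact h
    obtain ⟨i, _, hi⟩ := Finset.prod_eq_zero_iff.mp hprod
    rw [hrank]
    calc _ < (Finset.univ : Finset (Fin 3)).card :=
          Finset.card_lt_card (Finset.filter_ssubset.mpr ⟨i, Finset.mem_univ i, by simpa using hi⟩)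
      _ = 3 := by simp
  refine ⟨⟨?_, ?_⟩, ?_, ⟨?_, hpair⟩, ⟨?_, hsq⟩⟩
  · intro hirr hd
    have hlt := hranklt hd
    have hcases : Q.rank = 1 ∨ Q.rank = 2 := by omega
    rcases hcases with h1 | h2
    · obtain ⟨a, ha⟩ := hsq h1
      rw [ha] at hirr
      exact not_irreducible_pow (by norm_num) hirr
    · obtain ⟨a, b, hab, he⟩ := hpair h2
      rw [he] at hirr
      rcases hirr.isUnit_or_isUnit rfl with h | h
      · exact not_isUnit_of_eval_zero (by rw [eval_lin]; simp) h
      · exact not_isUnit_of_eval_zero (by rw [eval_lin]; simp) h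
  · intro hd; rw [hf']; exact irreducible_of_det_ne_zero hQ hd
  · rw [← Matrix.exists_mulVec_eq_zero_iff]
    refine exists_congr fun u => and_congr Iff.rfl ?_
    rw [hf']
    constructor
    · intro h
      ext i
      have := h i
      rw [eval_pderiv_quad hQ] at this
      simpa [h2k] using this
    · intro h i
      rw [eval_pderiv_quad hQ, h]; simp
  · rintro ⟨a, b, hab, he⟩
    have : Q = S a b := eq_S hQ a b (fun u => by
      rw [← hf', he]; simp only [map_mul]; rw [← eval_lin, ← eval_lin]; rfl)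
    rw [this]; exact rank_S a b hab
  · rintro ⟨a, he⟩
    have : Q = S a a := eq_S hQ a a (fun u => by
      rw [← hf', he, sq, map_mul]; rw [← eval_lin]; rfl)
    have hle : Q.rank ≤ 1 := by rw [this, S_self]; exact rank_vecMulVec_le a a
    omega

end Aux

/-- For an algebraically closed field k of characteristic zero, a nonzero symmetric 3 × 3 matrix Q over
k and the ternary quadratic form f = Σ Q_ij X_i X_j in k[X_0, X_1, X_2] (the equation of a plane
conic): (1) f is irreducible iff det Q ≠ 0; (2) the conic has a singular point, that is a nonzero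
vector at which all partial derivatives of f vanish, iff det Q = 0 (so smooth conics are exactly the
irreducible ones); (3) f is the product of two linearly independent linear forms (two distinct
lines) iff rank Q = 2; (4) f is the square of a linear form (a double line) iff rank Q = 1. -/
theorem result (k : Type u) [Field k] [IsAlgClosed k] [CharZero k]
    (Q : Matrix (Fin 3) (Fin 3) k) (hQ : Q.IsSymm) (hQ0 : Q ≠ 0) (f : MvPolynomial (Fin 3) k)
    (hf : f = ∑ i : Fin 3, ∑ j : Fin 3, Q i j • (MvPolynomial.X i * MvPolynomial.X j)) :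
    (Irreducible f ↔ Q.det ≠ 0) ∧
    ((∃ u : Fin 3 → k, u ≠ 0 ∧ ∀ i : Fin 3, MvPolynomial.eval u (MvPolynomial.pderiv i f) = 0) ↔ Q.det = 0) ∧
    ((∃ a b : Fin 3 → k, LinearIndependent k ![a, b] ∧
        f = (∑ i : Fin 3, a i • MvPolynomial.X i) * (∑ i : Fin 3, b i • MvPolynomial.X i)) ↔ Q.rank = 2) ∧
    ((∃ a : Fin 3 → k, f = (∑ i : Fin 3, a i • MvPolynomial.X i) ^ 2) ↔ Q.rank = 1) := by
  exact main k Q hQ hQ0 f hf

end Groth.Agent.S13911
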