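import Groth.Statements.S13912
import Groth.Agent.S13911
import Mathlib

set_option autoImplicit false
universe u
open PlaneConic

namespace Groth.Agent.S13912

section Aux

open MvPolynomial Matrix
open Groth.Agent.S13911 (lin quad S eq_S det_S S_mulVec S_symm eval_lin eval_quad lin_mul_lin
  lin_add lin_sub lin_smul affine_of_totalDegree_le_one S_quad symm_ext)

variable {k : Type u} [Field k]

lemma lin_of_homog (l : MvPolynomial (Fin 3) k) (hl : l.IsHomogeneous 1) : ∃ a, l = lin a := by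
  obtain ⟨a, c, h⟩ := affine_of_totalDegree_le_one l hl.totalDegree_le
  have hc : coeff 0 l = 0 := hl.coeff_eq_zero (by simp)
  rw [h] at hc
  have hz : ∀ i : Fin 3, (0 : Fin 3 →₀ ℕ) ≠ Finsupp.single i 1 := fun i h => by
    have := Finsupp.single_eq_zero.mp h.symm
    exact one_ne_zero this
  have : c = 0 := by
    simpa [lin, coeff_X, Fin.sum_univ_three, hz, (hz _).symm] using hc
  exact ⟨a, by rw [h, this, C_0, add_zero]⟩

lemma lin_homog (a : Fin 3 → k) : (lin a).IsHomogeneous 1 := by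
  unfold lin
  apply IsHomogeneous.sum
  intro i _
  rw [smul_eq_C_mul]; exact isHomogeneous_C_mul_X _ _

lemma sum_fin3_shift (j : Fin 3) (f : Fin 3 → k) : ∑ i, f i = f j + f (j + 1) + f (j + 2) := by
  fin_cases j <;> simp [Fin.sum_univ_three] <;> ring

lemma cover_fin3 : ∀ j i : Fin 3, i = j ∨ i = j + 1 ∨ i = j + 2 := by decide

lemma rank_one_pair (K : Fin 2 → Fin 2 → k) (hK : K ≠ 0)
    (hdet : K 0 0 * K 1 1 = K 0 1 * K 1 0) :
    ∃ x y : Fin 2 → k, x ≠ 0 ∧ y ≠ 0 ∧ ∀ a b, x a * y b = K a b := by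
  obtain ⟨a, b, hab⟩ : ∃ a b, K a b ≠ 0 := by
    by_contra h
    simp only [not_exists, not_not] at h
    exact hK (by ext a b; exact h a b)
  refine ⟨fun c => K c b, fun d => K a d / K a b, ?_, ?_, ?_⟩
  · intro h; exact hab (congrFun h a)
  · intro h
    have := congrFun h b
    simp [hab] at this
  · intro c d
    field_simp
    fin_cases a <;> fin_cases b <;> fin_cases c <;> fin_cases d <;> simp <;>
      first | ring1 | linear_combination hdet | linear_combination -hdet

lemma common_pair [IsAlgClosed k] [CharZero k] (B C : Fin 2 → Fin 2 → k) :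
    ∃ x y : Fin 2 → k, x ≠ 0 ∧ y ≠ 0 ∧ (∑ a, ∑ b, x a * y b * B a b = 0) ∧
      (∑ a, ∑ b, x a * y b * C a b = 0) := by
  -- find y with det [B y | C y] = 0
  set α := B 0 0 * C 1 0 - B 1 0 * C 0 0 with hα
  set γ := B 0 1 * C 1 1 - B 1 1 * C 0 1 with hγ
  set β := B 0 0 * C 1 1 + B 0 1 * C 1 0 - B 1 0 * C 0 1 - B 1 1 * C 0 0 with hβ
  obtain ⟨y, hy0, hy⟩ : ∃ y : Fin 2 → k, y ≠ 0 ∧
      (B 0 0 * y 0 + B 0 1 * y 1) * (C 1 0 * y 0 + C 1 1 * y 1) -
      (B 1 0 * y 0 + B 1 1 * y 1) * (C 0 0 * y 0 + C 0 1 * y 1) = 0 := by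
    by_cases h0 : α = 0
    · refine ⟨![1, 0], ?_, ?_⟩
      · intro h; have := congrFun h 0; simp at this
      · simp only [Matrix.cons_val_zero, Matrix.cons_val_one]
        rw [hα] at h0
        linear_combination h0
    · obtain ⟨t, ht⟩ := exists_quadratic_eq_zero (a := α) (b := β) (c := γ) h0
        (IsAlgClosed.exists_eq_mul_self _)
      refine ⟨![t, 1], ?_, ?_⟩
      · intro h; have := congrFun h 1; simp at this
      · simp only [Matrix.cons_val_zero, Matrix.cons_val_one]
        rw [hα, hβ, hγ] at ht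
        linear_combination ht
  set v : Fin 2 → k := ![B 0 0 * y 0 + B 0 1 * y 1, B 1 0 * y 0 + B 1 1 * y 1] with hv
  set v' : Fin 2 → k := ![C 0 0 * y 0 + C 0 1 * y 1, C 1 0 * y 0 + C 1 1 * y 1] with hv'
  have hD : v 0 * v' 1 - v 1 * v' 0 = 0 := by
    simp only [hv, hv', Matrix.cons_val_zero, Matrix.cons_val_one]
    linear_combination hy
  obtain ⟨x, hx0, hx1, hx2⟩ : ∃ x : Fin 2 → k, x ≠ 0 ∧ x 0 * v 0 + x 1 * v 1 = 0 ∧
      x 0 * v' 0 + x 1 * v' 1 = 0 := by
    by_cases hv0 : v = 0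
    · by_cases hv'0 : v' = 0
      · refine ⟨![1, 0], ?_, ?_, ?_⟩
        · intro h; have := congrFun h 0; simp at this
        · rw [hv0]; simp
        · rw [hv'0]; simp
      · refine ⟨![-v' 1, v' 0], ?_, ?_, ?_⟩
        · intro h
          apply hv'0
          ext i
          have h0 := congrFun h 0
          have h1 := congrFun h 1
          fin_cases i
          · simpa using h1
          · simpa using h0
        · rw [hv0]; simp
        · simp only [Matrix.cons_val_zero, Matrix.cons_val_one]; ring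
    · refine ⟨![-v 1, v 0], ?_, ?_, ?_⟩
      · intro h
        apply hv0
        ext i
        have h0 := congrFun h 0
        have h1 := congrFun h 1
        fin_cases i
        · simpa using h1
        · simpa using h0
      · simp only [Matrix.cons_val_zero, Matrix.cons_val_one]; ring
      · simp only [Matrix.cons_val_zero, Matrix.cons_val_one]
        linear_combination hD
  refine ⟨x, y, hx0, hy0, ?_, ?_⟩
  · simp only [Fin.sum_univ_two]
    simp only [hv, Matrix.cons_val_zero, Matrix.cons_val_one] at hx1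
    linear_combination hx1
  · simp only [Fin.sum_univ_two]
    simp only [hv', Matrix.cons_val_zero, Matrix.cons_val_one] at hx2
    linear_combination hx2

lemma exists_pair [IsAlgClosed k] [CharZero k] (A : Fin 2 → Fin 2 → Fin 3 → k) (a b : Fin 3 → k)
    (h : lin (A 0 0) * lin (A 1 1) - lin (A 0 1) * lin (A 1 0) = lin a * lin b) :
    ∃ x y : Fin 2 → k, x ≠ 0 ∧ y ≠ 0 ∧ ∀ i, ∑ c, ∑ d, x c * y d * A c d i = 0 := by
  have h2k : (2 : k) ≠ 0 := two_ne_zero
  set Q : Matrix (Fin 3) (Fin 3) k := S (A 0 0) (A 1 1) - S (A 0 1) (A 1 0) with hQdef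
  have hQs : Q.IsSymm := (S_symm _ _).sub (S_symm _ _)
  have hquad : ∀ u : Fin 3 → k, u ⬝ᵥ (Q *ᵥ u) =
      (A 0 0 ⬝ᵥ u) * (A 1 1 ⬝ᵥ u) - (A 0 1 ⬝ᵥ u) * (A 1 0 ⬝ᵥ u) := by
    intro u
    rw [hQdef, Matrix.sub_mulVec, dotProduct_sub, S_quad, S_quad]
  have hQ : Q = S a b := by
    apply eq_S hQs
    intro u
    rw [eval_quad, hquad]
    have := congrArg (eval u) h
    simp only [map_sub, map_mul, eval_lin] at this
    exact this
  have hdet : Q.det = 0 := by rw [hQ, det_S]
  obtain ⟨u₀, hu₀, hQu⟩ := Matrix.exists_mulVec_eq_zero_iff.mpr hdet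
  set p := A 0 0 ⬝ᵥ u₀ with hp
  set q := A 0 1 ⬝ᵥ u₀ with hq
  set r := A 1 0 ⬝ᵥ u₀ with hr
  set s := A 1 1 ⬝ᵥ u₀ with hs
  have hstar : ∀ i, s * A 0 0 i + p * A 1 1 i - r * A 0 1 i - q * A 1 0 i = 0 := by
    intro i
    have := congrFun hQu i
    rw [hQdef, Matrix.sub_mulVec, S_mulVec, S_mulVec] at this
    simp only [Pi.sub_apply, Pi.add_apply, Pi.smul_apply, smul_eq_mul, Pi.zero_apply] at this
    apply mul_left_cancel₀ (inv_ne_zero h2k)
    rw [mul_zero]
    linear_combination this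
  have hps : p * s = q * r := by
    have := hquad u₀
    rw [hQu, dotProduct_zero] at this
    linear_combination -this
  by_cases hK : p = 0 ∧ q = 0 ∧ r = 0 ∧ s = 0
  · obtain ⟨hp0, hq0, hr0, hs0⟩ := hK
    obtain ⟨j, hj⟩ : ∃ j, u₀ j ≠ 0 := by
      by_contra hne
      simp only [not_exists, not_not] at hne
      exact hu₀ (funext hne)
    obtain ⟨x, y, hx, hy, h1, h2⟩ := common_pair (fun c d => A c d (j + 1)) (fun c d => A c d (j + 2))
    refine ⟨x, y, hx, hy, ?_⟩
    set T : Fin 3 → k := fun i => ∑ c, ∑ d, x c * y d * A c d i with hT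
    have hsum : ∑ i, u₀ i * T i = 0 := by
      have e : ∑ i, u₀ i * T i = x 0 * y 0 * p + x 0 * y 1 * q + x 1 * y 0 * r + x 1 * y 1 * s := by
        simp only [hT, hp, hq, hr, hs, dotProduct, Fin.sum_univ_two, Fin.sum_univ_three]
        ring
      rw [e, hp0, hq0, hr0, hs0]; ring
    rw [sum_fin3_shift j] at hsum
    have h1' : T (j + 1) = 0 := h1
    have h2' : T (j + 2) = 0 := h2
    rw [h1', h2'] at hsum
    have hj' : T j = 0 := by
      have : u₀ j * T j = 0 := by linear_combination hsum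
      rcases mul_eq_zero.mp this with h | h
      · exact absurd h hj
      · exact h
    intro i
    rcases cover_fin3 j i with rfl | rfl | rfl
    · exact hj'
    · exact h1'
    · exact h2'
  · set K : Fin 2 → Fin 2 → k := ![![s, -r], ![-q, p]] with hKdef
    have hK0 : K ≠ 0 := by
      intro h0
      apply hK
      have e00 := congrFun (congrFun h0 0) 0
      have e01 := congrFun (congrFun h0 0) 1
      have e10 := congrFun (congrFun h0 1) 0
      have e11 := congrFun (congrFun h0 1) 1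
      simp [hKdef] at e00 e01 e10 e11
      exact ⟨e11, e10, e01, e00⟩
    obtain ⟨x, y, hx, hy, hxy⟩ := rank_one_pair K hK0 (by
      simp only [hKdef, Matrix.cons_val_zero, Matrix.cons_val_one]
      linear_combination hps)
    refine ⟨x, y, hx, hy, ?_⟩
    intro i
    simp only [Fin.sum_univ_two, hxy]
    simp only [hKdef, Matrix.cons_val_zero, Matrix.cons_val_one]
    linear_combination hstar i

lemma exists_GL_row (x : Fin 2 → k) (hx : x ≠ 0) : ∃ g : GL (Fin 2) k, ∀ a, g.val 0 a = x a := by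
  by_cases h0 : x 0 = 0
  · have h1 : x 1 ≠ 0 := by
      intro h1; apply hx; ext i; fin_cases i <;> simp [h0, h1]
    refine ⟨Matrix.GeneralLinearGroup.mkOfDetNeZero !![x 0, x 1; 1, 0] ?_, ?_⟩
    · simp [Matrix.det_fin_two, h1]
    · intro a; fin_cases a <;> simp
  · refine ⟨Matrix.GeneralLinearGroup.mkOfDetNeZero !![x 0, x 1; 0, 1] ?_, ?_⟩
    · simp [Matrix.det_fin_two, h0]
    · intro a; fin_cases a <;> simp

lemma exists_GL_col (y : Fin 2 → k) (hy : y ≠ 0) : ∃ h : GL (Fin 2) k, ∀ b, h.val b 1 = y b := by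
  by_cases h1 : y 1 = 0
  · have h0 : y 0 ≠ 0 := by
      intro h0; apply hy; ext i; fin_cases i <;> simp [h0, h1]
    refine ⟨Matrix.GeneralLinearGroup.mkOfDetNeZero !![0, y 0; 1, y 1] ?_, ?_⟩
    · simp [Matrix.det_fin_two, h0]
    · intro b; fin_cases b <;> simp
  · refine ⟨Matrix.GeneralLinearGroup.mkOfDetNeZero !![1, y 0; 0, y 1] ?_, ?_⟩
    · simp [Matrix.det_fin_two, h1]
    · intro b; fin_cases b <;> simp

lemma entry_eq (g h M : Matrix (Fin 2) (Fin 2) (MvPolynomial (Fin 3) k)) (i j : Fin 2) :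
    (g * M * h) i j = (g i 0 * M 0 0 + g i 1 * M 1 0) * h 0 j + (g i 0 * M 0 1 + g i 1 * M 1 1) * h 1 j := by
  simp [Matrix.mul_apply, Fin.sum_univ_two]

theorem main (k : Type u) [Field k] [IsAlgClosed k] [CharZero k]
    (M : Matrix (Fin 2) (Fin 2) (MvPolynomial (Fin 3) k)) (hM : ∀ a b : Fin 2, (M a b).IsHomogeneous 1) :
    (∃ l₁ l₂ : MvPolynomial (Fin 3) k, l₁.IsHomogeneous 1 ∧ l₂.IsHomogeneous 1 ∧ M.det = l₁ * l₂) ↔
    ∃ g h : GL (Fin 2) k,
      ((MvPolynomial.C : k →+* MvPolynomial (Fin 3) k).mapMatrix g.val * M *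
        (MvPolynomial.C : k →+* MvPolynomial (Fin 3) k).mapMatrix h.val) 0 1 = 0 := by
  constructor
  · rintro ⟨l₁, l₂, h1, h2, hdet⟩
    obtain ⟨a, rfl⟩ := lin_of_homog l₁ h1
    obtain ⟨b, rfl⟩ := lin_of_homog l₂ h2
    choose A hA using fun c d => lin_of_homog (M c d) (hM c d)
    have hdet' : lin (A 0 0) * lin (A 1 1) - lin (A 0 1) * lin (A 1 0) = lin a * lin b := by
      rw [← hdet, Matrix.det_fin_two, hA, hA, hA, hA]
    obtain ⟨x, y, hx, hy, hxy⟩ := exists_pair A a b hdet'
    obtain ⟨g, hg⟩ := exists_GL_row x hx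
    obtain ⟨h, hh⟩ := exists_GL_col y hy
    refine ⟨g, h, ?_⟩
    rw [entry_eq]
    simp only [RingHom.mapMatrix_apply, Matrix.map_apply, hg, hh, hA]
    have h0 := hxy 0
    have h1 := hxy 1
    have h2 := hxy 2
    simp only [Fin.sum_univ_two] at h0 h1 h2
    have e : (C (x 0) * lin (A 0 0) + C (x 1) * lin (A 1 0)) * C (y 0) +
        (C (x 0) * lin (A 0 1) + C (x 1) * lin (A 1 1)) * C (y 1) =
        C (x 0 * y 0 * A 0 0 0 + x 0 * y 1 * A 0 1 0 + (x 1 * y 0 * A 1 0 0 + x 1 * y 1 * A 1 1 0)) * X 0 +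
        C (x 0 * y 0 * A 0 0 1 + x 0 * y 1 * A 0 1 1 + (x 1 * y 0 * A 1 0 1 + x 1 * y 1 * A 1 1 1)) * X 1 +
        C (x 0 * y 0 * A 0 0 2 + x 0 * y 1 * A 0 1 2 + (x 1 * y 0 * A 1 0 2 + x 1 * y 1 * A 1 1 2)) * X 2 := by
      simp only [lin, Fin.sum_univ_three, smul_eq_C_mul, map_add, map_mul]
      ring
    rw [e, h0, h1, h2]
    simp
  · rintro ⟨g, h, hgh⟩
    set G := (MvPolynomial.C : k →+* MvPolynomial (Fin 3) k).mapMatrix g.val with hG
    set H := (MvPolynomial.C : k →+* MvPolynomial (Fin 3) k).mapMatrix h.val with hH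
    set N := G * M * H with hN
    have hdg : IsUnit g.val.det := Matrix.isUnits_det_units g
    have hdh : IsUnit h.val.det := Matrix.isUnits_det_units h
    have hdetN : N.det = C g.val.det * M.det * C h.val.det := by
      rw [hN, Matrix.det_mul, Matrix.det_mul, hG, hH, ← RingHom.map_det, ← RingHom.map_det]
    have hdetN' : N.det = N 0 0 * N 1 1 := by
      rw [Matrix.det_fin_two, hgh]; ring
    have hNhom : ∀ i j, (N i j).IsHomogeneous 1 := by
      intro i j
      rw [hN, entry_eq]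
      simp only [hG, hH, RingHom.mapMatrix_apply, Matrix.map_apply]
      apply IsHomogeneous.add
      · rw [mul_comm]; apply IsHomogeneous.C_mul
        exact ((hM 0 0).C_mul _).add ((hM 1 0).C_mul _)
      · rw [mul_comm]; apply IsHomogeneous.C_mul
        exact ((hM 0 1).C_mul _).add ((hM 1 1).C_mul _)
    refine ⟨C ((g.val.det * h.val.det)⁻¹) * N 0 0, N 1 1, (hNhom 0 0).C_mul _, hNhom 1 1, ?_⟩
    have hne : g.val.det * h.val.det ≠ 0 := mul_ne_zero hdg.ne_zero hdh.ne_zero
    have hC : C ((g.val.det * h.val.det)⁻¹) * (C g.val.det * C h.val.det) = (1 : MvPolynomial (Fin 3) k) := by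
      rw [← map_mul, ← map_mul, inv_mul_cancel₀ hne, map_one]
    calc M.det = (C ((g.val.det * h.val.det)⁻¹) * (C g.val.det * C h.val.det)) * M.det := by
          rw [hC, one_mul]
      _ = C ((g.val.det * h.val.det)⁻¹) * (C g.val.det * M.det * C h.val.det) := by ring
      _ = _ := by rw [← hdetN, hdetN']; ring

end Aux

/-- Over an algebraically closed field k of characteristic zero, for a 2 × 2 matrix M of linear forms in
k[X_0, X_1, X_2] (entries homogeneous of degree 1, zero allowed), det M is a product of two linear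
forms if and only if M can be brought by invertible scalar row and column operations g M h, with g,
h in GL_2(k), to a matrix with zero upper-right entry. (The published statement concerns matrices
with nonzero determinant; this row also allows determinant zero, where both sides hold.) -/
theorem result (k : Type u) [Field k] [IsAlgClosed k] [CharZero k]
    (M : Matrix (Fin 2) (Fin 2) (MvPolynomial (Fin 3) k)) (hM : ∀ a b : Fin 2, (M a b).IsHomogeneous 1) :
    (∃ l₁ l₂ : MvPolynomial (Fin 3) k, l₁.IsHomogeneous 1 ∧ l₂.IsHomogeneous 1 ∧ M.det = l₁ * l₂) ↔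
    ∃ g h : GL (Fin 2) k,
      ((MvPolynomial.C : k →+* MvPolynomial (Fin 3) k).mapMatrix g.val * M *
        (MvPolynomial.C : k →+* MvPolynomial (Fin 3) k).mapMatrix h.val) 0 1 = 0 := by
  exact main k M hM

end Groth.Agent.S13912
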