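import Groth.Statements.S13913
import Mathlib
-- import your own Groth.Agent.* helpers here

set_option autoImplicit false
universe u
open PlaneCubic

namespace Groth.Agent.S13913

/-- Over an algebraically closed field of characteristic zero, for linearly independent linear forms z₁,
z₂ and quadratic forms q₁, q₂ in three variables and a nonzero common zero p of z₁ and z₂, the point
p is a singular point of the plane cubic z₁q₂ − z₂q₁ = 0 (all three partial derivatives vanish at p)
if and only if q₁ and q₂ both vanish at p. -/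
theorem result (k : Type u) [Field k] [IsAlgClosed k] [CharZero k]
    (z₁ z₂ q₁ q₂ : MvPolynomial (Fin 3) k) (hz₁ : z₁.IsHomogeneous 1) (hz₂ : z₂.IsHomogeneous 1)
    (hq₁ : q₁.IsHomogeneous 2) (hq₂ : q₂.IsHomogeneous 2) (hind : LinearIndependent k ![z₁, z₂])
    (p : Fin 3 → k) (hp : p ≠ 0) (hp₁ : MvPolynomial.eval p z₁ = 0) (hp₂ : MvPolynomial.eval p z₂ = 0) :
    (∀ i : Fin 3, MvPolynomial.eval p (MvPolynomial.pderiv i (z₁ * q₂ - z₂ * q₁)) = 0) ↔
      (MvPolynomial.eval p q₁ = 0 ∧ MvPolynomial.eval p q₂ = 0) := by
  have hpd : ∀ i : Fin 3, MvPolynomial.eval p (MvPolynomial.pderiv i (z₁ * q₂ - z₂ * q₁)) =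
      MvPolynomial.eval p (MvPolynomial.pderiv i z₁) * MvPolynomial.eval p q₂ -
      MvPolynomial.eval p (MvPolynomial.pderiv i z₂) * MvPolynomial.eval p q₁ := by
    intro i
    simp only [map_sub, Derivation.leibniz, smul_eq_mul, map_add, map_mul, hp₁, hp₂, zero_mul,
      zero_add]
    ring
  constructor
  · intro h
    set s := MvPolynomial.eval p q₂ with hs
    set t := MvPolynomial.eval p q₁ with ht
    set w : MvPolynomial (Fin 3) k := MvPolynomial.C s * z₁ - MvPolynomial.C t * z₂ with hw
    have hwhom : w.IsHomogeneous 1 := by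
      apply MvPolynomial.IsHomogeneous.sub
      · simpa using (MvPolynomial.isHomogeneous_C (Fin 3) s).mul hz₁
      · simpa using (MvPolynomial.isHomogeneous_C (Fin 3) t).mul hz₂
    have hwd : ∀ i : Fin 3, MvPolynomial.pderiv i w = 0 := by
      intro i
      have h0 : (MvPolynomial.pderiv i w).IsHomogeneous 0 := hwhom.pderiv
      rw [← MvPolynomial.totalDegree_zero_iff_isHomogeneous,
        MvPolynomial.totalDegree_eq_zero_iff_eq_C] at h0
      have h1 : MvPolynomial.eval p (MvPolynomial.pderiv i w) = 0 := by
        have := h i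
        rw [hpd i] at this
        simp only [hw, map_sub, Derivation.leibniz, smul_eq_mul, map_mul, MvPolynomial.pderiv_C,
          mul_zero, add_zero, MvPolynomial.eval_C, map_add]
        linear_combination this
      rw [h0, MvPolynomial.eval_C] at h1
      rw [h0, h1, map_zero]
    have hw0 : w = 0 := by
      have := hwhom.sum_X_mul_pderiv
      simp only [hwd, mul_zero, Finset.sum_const_zero, one_smul] at this
      exact this.symm
    have hpair := LinearIndependent.pair_iff.mp hind s (-t) (by
      rw [MvPolynomial.smul_eq_C_mul, MvPolynomial.smul_eq_C_mul, map_neg, neg_mul,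
        ← sub_eq_add_neg]
      exact hw0)
    exact ⟨neg_eq_zero.mp hpair.2, hpair.1⟩
  · rintro ⟨h1, h2⟩ i
    rw [hpd i, h1, h2, mul_zero, mul_zero, sub_zero]

end Groth.Agent.S13913
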