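import Groth.Statements.S13926
import Mathlib.LinearAlgebra.FiniteDimensional.Lemmas

set_option autoImplicit false
universe u v w
open W4c1limliniiii

namespace Groth.Agent.S13926

theorem exists_between {k : Type*} [Field k] {E : Type*} [AddCommGroup E] [Module k E]
    [FiniteDimensional k E] (A B : Submodule k E) (hAB : A ≤ B) (n : ℕ)
    (h1 : Module.finrank k A ≤ n) (h2 : n ≤ Module.finrank k B) :
    ∃ V : Submodule k E, A ≤ V ∧ V ≤ B ∧ Module.finrank k V = n := by
  induction n, h1 using Nat.le_induction with
  | base => exact ⟨A, le_rfl, hAB, rfl⟩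
  | succ m hm ih =>
    obtain ⟨V, hAV, hVB, hV⟩ := ih (by omega)
    have hne : V ≠ B := by
      rintro rfl
      omega
    obtain ⟨x, hxB, hxV⟩ := SetLike.exists_of_lt (lt_of_le_of_ne hVB hne)
    refine ⟨V ⊔ Submodule.span k {x}, le_sup_of_le_left hAV, ?_, ?_⟩
    · exact sup_le hVB ((Submodule.span_singleton_le_iff_mem x B).mpr hxB)
    · rw [Submodule.finrank_sup_span_singleton hxV, hV]

/-- Let k be a field, E₁ and E₂ finite-dimensional vector spaces over k of the same dimension, f : E₁ →
E₂ and g : E₂ → E₁ linear maps whose composite g ∘ f is multiplication by a scalar s, and V₁ a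
subspace of E₁. Then there is a subspace V₂ of E₂ of the same dimension as V₁ with f(V₁) ≤ V₂ and
g(V₂) ≤ V₁. (The published statement is the surjectivity of the truncation morphisms of a linked
Grassmannian, with a further assertion on lifting families; this row is the lifting step over a
field — over a point the chain of linked subspaces V_1, …, V_{n'} extends one index at a time — and
assumes only g ∘ f = s.) -/
theorem result (k : Type u) [Field k]
    (E₁ : Type v) (E₂ : Type w) [AddCommGroup E₁] [Module k E₁] [FiniteDimensional k E₁]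
    [AddCommGroup E₂] [Module k E₂] [FiniteDimensional k E₂]
    (hdim : Module.finrank k E₁ = Module.finrank k E₂)
    (f : E₁ →ₗ[k] E₂) (g : E₂ →ₗ[k] E₁) (s : k) (hgf : g.comp f = s • LinearMap.id)
    (V₁ : Submodule k E₁) :
    ∃ V₂ : Submodule k E₂, Module.finrank k V₂ = Module.finrank k V₁ ∧
      Submodule.map f V₁ ≤ V₂ ∧ Submodule.map g V₂ ≤ V₁ := by
  have hAB : Submodule.map f V₁ ≤ Submodule.comap g V₁ := by
    rintro _ ⟨v, hv, rfl⟩
    rw [Submodule.mem_comap]
    have : g (f v) = s • v := by
      have := LinearMap.congr_fun hgf v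
      simpa using this
    rw [this]
    exact V₁.smul_mem s hv
  have h1 : Module.finrank k (Submodule.map f V₁) ≤ Module.finrank k V₁ :=
    Submodule.finrank_map_le f V₁
  have h2 : Module.finrank k V₁ ≤ Module.finrank k (Submodule.comap g V₁) := by
    let h : E₂ →ₗ[k] E₁ ⧸ V₁ := V₁.mkQ ∘ₗ g
    have hker : LinearMap.ker h = Submodule.comap g V₁ := by
      rw [LinearMap.ker_comp, Submodule.ker_mkQ]
    have hrn := LinearMap.finrank_range_add_finrank_ker h
    have hq := Submodule.finrank_quotient_add_finrank V₁
    have hle : Module.finrank k (LinearMap.range h) ≤ Module.finrank k (E₁ ⧸ V₁) :=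
      Submodule.finrank_le _
    rw [hker] at hrn
    omega
  obtain ⟨V₂, hA, hB, hV⟩ := exists_between _ _ hAB _ h1 h2
  exact ⟨V₂, hV, hA, Submodule.map_le_iff_le_comap.mpr hB⟩

end Groth.Agent.S13926
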