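import Groth.Statements.S13936
-- import your own Groth.Agent.* helpers here

set_option autoImplicit false
universe u
open W4c1limliniiii

namespace Groth.Agent.S13936

section aux
open TensorProduct
variable (R SX : Type u) [CommRing R] [CommRing SX] [Algebra R SX] (σ : SX →ₐ[R] R)

/-- `δ c = 1 ⊗ c − c ⊗ 1` -/
def δ (c : SX) : SX ⊗[R] SX := 1 ⊗ₜ c - c ⊗ₜ 1

lemma δ_mem (c : SX) : δ R SX c ∈ KaehlerDifferential.ideal R SX :=
  KaehlerDifferential.one_smul_sub_smul_one_mem_ideal R c

lemma δ_add (a c : SX) : δ R SX (a + c) = δ R SX a + δ R SX c := by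
  unfold δ
  rw [TensorProduct.tmul_add, TensorProduct.add_tmul]
  abel

lemma δ_mul (a c : SX) : δ R SX (a * c) =
    (a ⊗ₜ[R] (1 : SX)) * δ R SX c + δ R SX a * (c ⊗ₜ[R] (1 : SX)) + δ R SX a * δ R SX c := by
  unfold δ
  simp only [mul_sub, sub_mul, Algebra.TensorProduct.tmul_mul_tmul, mul_one, one_mul]
  abel

lemma δ_algebraMap (r : R) : δ R SX (algebraMap R SX r) = 0 := by
  unfold δ
  rw [Algebra.algebraMap_eq_smul_one, TensorProduct.tmul_smul, TensorProduct.smul_tmul', sub_self]

/-- the ideal `I ⊗ 1` -/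
def aI : Ideal (SX ⊗[R] SX) :=
  Ideal.map (Algebra.TensorProduct.includeLeft : SX →ₐ[R] SX ⊗[R] SX) (RingHom.ker σ.toRingHom)

lemma key (k : ℕ) (hk : 1 ≤ k) : ∀ c ∈ (RingHom.ker σ.toRingHom) ^ k,
    δ R SX c ∈ aI R SX σ * KaehlerDifferential.ideal R SX ⊔ KaehlerDifferential.ideal R SX ^ k := by
  induction k, hk using Nat.le_induction with
  | base =>
    intro c _
    rw [pow_one]
    exact Submodule.mem_sup_right (δ_mem R SX c)
  | succ k hk ih =>
    intro c hc
    rw [pow_succ'] at hc
    refine Submodule.mul_induction_on hc ?_ ?_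
    · intro a ha c' hc'
      rw [δ_mul]
      have hc'I : c' ∈ RingHom.ker σ.toRingHom := Ideal.pow_le_self (by omega) hc'
      refine add_mem (add_mem ?_ ?_) ?_
      · apply Submodule.mem_sup_left
        exact Ideal.mul_mem_mul (Ideal.mem_map_of_mem _ ha) (δ_mem R SX c')
      · apply Submodule.mem_sup_left
        rw [mul_comm (δ R SX a)]
        exact Ideal.mul_mem_mul (Ideal.mem_map_of_mem _ hc'I) (δ_mem R SX a)
      · obtain ⟨u, hu, v, hv, huv⟩ := Submodule.mem_sup.mp (ih c' hc')
        rw [← huv, mul_add]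
        refine add_mem ?_ ?_
        · apply Submodule.mem_sup_left
          exact Ideal.mul_mem_left _ _ hu
        · apply Submodule.mem_sup_right
          rw [pow_succ']
          exact Ideal.mul_mem_mul (δ_mem R SX a) hv
    · intro x y hx hy
      rw [δ_add]
      exact add_mem hx hy

lemma mk_mul_mem (n : ℕ) : ∀ p ∈ aI R SX σ, ∀ j ∈ KaehlerDifferential.ideal R SX,
    (Ideal.Quotient.mk (KaehlerDifferential.ideal R SX ^ (n + 1)) (p * j) : PP16.P n R SX) ∈
      RingHom.ker σ.toRingHom • (PP16.augIdeal n R SX).restrictScalars SX := by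
  intro p hp
  unfold aI at hp
  rw [Ideal.map] at hp
  induction hp using Submodule.span_induction with
  | mem p hp =>
    obtain ⟨a, ha, rfl⟩ := hp
    intro j hj
    have : (Ideal.Quotient.mk (KaehlerDifferential.ideal R SX ^ (n + 1))
        ((Algebra.TensorProduct.includeLeft : SX →ₐ[R] SX ⊗[R] SX) a * j) : PP16.P n R SX) =
        a • (Ideal.Quotient.mk (KaehlerDifferential.ideal R SX ^ (n + 1)) j : PP16.P n R SX) := by
      rw [Algebra.smul_def, map_mul]
      rfl
    rw [this]
    apply Submodule.smul_mem_smul ha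
    exact Ideal.mem_map_of_mem _ hj
  | zero =>
    intro j _
    rw [zero_mul, map_zero]
    exact zero_mem _
  | add x y _ _ hx hy =>
    intro j hj
    rw [add_mul, map_add]
    exact add_mem (hx j hj) (hy j hj)
  | smul t x _ hx =>
    intro j hj
    rw [smul_eq_mul, mul_assoc]
    have := hx (t * j) (Ideal.mul_mem_left _ _ hj)
    rwa [mul_left_comm] at this

lemma mk_mem (n : ℕ) (x : SX ⊗[R] SX)
    (hx : x ∈ aI R SX σ * KaehlerDifferential.ideal R SX ⊔ KaehlerDifferential.ideal R SX ^ (n + 1)) :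
    (Ideal.Quotient.mk (KaehlerDifferential.ideal R SX ^ (n + 1)) x : PP16.P n R SX) ∈
      RingHom.ker σ.toRingHom • (PP16.augIdeal n R SX).restrictScalars SX := by
  obtain ⟨u, hu, v, hv, rfl⟩ := Submodule.mem_sup.mp hx
  rw [map_add, Ideal.Quotient.eq_zero_iff_mem.mpr hv, add_zero]
  refine Submodule.mul_induction_on hu ?_ ?_
  · intro p hp j hj
    exact mk_mul_mem R SX σ n p hp j hj
  · intro x y hx hy
    rw [map_add]
    exact add_mem hx hy

/-- `b ⊗ c ↦ σ(b) c` modulo `I^(n+1)` -/
noncomputable def χ₀ (n : ℕ) : SX ⊗[R] SX →ₐ[R] SX ⧸ (RingHom.ker σ.toRingHom) ^ (n + 1) :=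
  Algebra.TensorProduct.lift ((Algebra.ofId R _).comp σ)
    (Ideal.Quotient.mkₐ R ((RingHom.ker σ.toRingHom) ^ (n + 1))) (fun _ _ => Commute.all _ _)

lemma χ₀_tmul (n : ℕ) (a b : SX) : χ₀ R SX σ n (a ⊗ₜ b) =
    algebraMap R _ (σ a) * Ideal.Quotient.mk _ b := by
  unfold χ₀
  rw [Algebra.TensorProduct.lift_tmul]
  rfl

lemma χ₀_δ (n : ℕ) (c : SX) : χ₀ R SX σ n (δ R SX c) =
    Ideal.Quotient.mk _ (c - algebraMap R SX (σ c)) := by
  unfold δ
  rw [map_sub, χ₀_tmul, χ₀_tmul, map_one, map_one, one_mul, map_one, mul_one, map_sub]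
  rfl

lemma χ₀_J (n : ℕ) : ∀ x ∈ KaehlerDifferential.ideal R SX,
    χ₀ R SX σ n x ∈ Ideal.map (Ideal.Quotient.mk ((RingHom.ker σ.toRingHom) ^ (n + 1)))
      (RingHom.ker σ.toRingHom) := by
  intro x hx
  rw [← KaehlerDifferential.span_range_eq_ideal] at hx
  induction hx using Submodule.span_induction with
  | mem x hx =>
    obtain ⟨c, rfl⟩ := hx
    change χ₀ R SX σ n (δ R SX c) ∈ _
    rw [χ₀_δ]
    apply Ideal.mem_map_of_mem
    rw [RingHom.mem_ker]
    change σ (c - algebraMap R SX (σ c)) = 0
    rw [map_sub, AlgHom.commutes]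
    simp
  | zero => rw [map_zero]; exact zero_mem _
  | add x y _ _ hx hy => rw [map_add]; exact add_mem hx hy
  | smul t x _ hx => rw [smul_eq_mul, map_mul]; exact Ideal.mul_mem_left _ _ hx

lemma χ₀_Jpow (n : ℕ) : ∀ x ∈ KaehlerDifferential.ideal R SX ^ (n + 1), χ₀ R SX σ n x = 0 := by
  intro x hx
  have h1 : Ideal.map (χ₀ R SX σ n) (KaehlerDifferential.ideal R SX ^ (n + 1)) ≤ ⊥ := by
    rw [Ideal.map_pow]
    have h2 : Ideal.map (χ₀ R SX σ n) (KaehlerDifferential.ideal R SX) ≤
        Ideal.map (Ideal.Quotient.mk ((RingHom.ker σ.toRingHom) ^ (n + 1)))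
          (RingHom.ker σ.toRingHom) := by
      rw [Ideal.map_le_iff_le_comap]
      intro x hx
      exact χ₀_J R SX σ n x hx
    refine (Ideal.pow_right_mono h2 (n + 1)).trans ?_
    rw [← Ideal.map_pow, Ideal.map_quotient_self]
  have := h1 (Ideal.mem_map_of_mem _ hx)
  exact Ideal.mem_bot.mp this

/-- the induced map on principal parts -/
noncomputable def χ (n : ℕ) : PP16.P n R SX →+* SX ⧸ (RingHom.ker σ.toRingHom) ^ (n + 1) :=
  Ideal.Quotient.lift _ (χ₀ R SX σ n).toRingHom (χ₀_Jpow R SX σ n)

lemma χ_mk (n : ℕ) (x : SX ⊗[R] SX) :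
    χ R SX σ n (Ideal.Quotient.mk _ x) = χ₀ R SX σ n x := rfl

lemma χ_smul_mem (n : ℕ) : ∀ x ∈ RingHom.ker σ.toRingHom • (PP16.augIdeal n R SX).restrictScalars SX,
    χ R SX σ n x = 0 := by
  intro x hx
  refine Submodule.smul_induction_on hx ?_ ?_
  · intro a ha p _
    rw [Algebra.smul_def, map_mul]
    have : χ R SX σ n (algebraMap SX (PP16.P n R SX) a) = 0 := by
      change χ R SX σ n (Ideal.Quotient.mk _ (a ⊗ₜ[R] (1 : SX))) = 0
      rw [χ_mk, χ₀_tmul]
      have : σ a = 0 := ha
      rw [this, map_zero, zero_mul]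
    rw [this, zero_mul]
  · intro x y hx hy
    rw [map_add, hx, hy, add_zero]

end aux

/-- Let R be a commutative ring, S_Y → S_X a homomorphism of R-algebras (an affine piece of a morphism f
: X → Y of schemes over Spec R) and σ : S_X → R an R-algebra retraction (a section of X over the
base) with kernel I. For e ≥ 1 write T^{e−1} for the augmentation ideal of the ring of principal
parts of order e − 1 (the kernel of P^{e−1} → the algebra; for e = 2 this is the module of
differentials). Then the natural map T^{e−1}(S_Y/R) → T^{e−1}(S_X/R) takes values in I ·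
T^{e−1}(S_X/R) — that is, the induced map f^*T^{e−1}_Y → T^{e−1}_X vanishes at the section σ — if
and only if every element of S_Y whose image in S_X lies in I has image in I^e, which says that the
fibre of f through σ contains the e-th order thickening of σ. (The published statement is for a
morphism of separated schemes over a base and sections over an arbitrary base change; this row is
the affine computation it reduces to.) -/
theorem result (R SY SX : Type u)
    [CommRing R] [CommRing SY] [CommRing SX] [Algebra R SY] [Algebra R SX] [Algebra SY SX]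
    [IsScalarTower R SY SX] (σ : SX →ₐ[R] R) (e : ℕ) (he : 1 ≤ e) :
    (∀ y ∈ PP16.augIdeal (e - 1) R SY,
        PP16.map (e - 1) R SY R SX y ∈
          RingHom.ker σ.toRingHom • (PP16.augIdeal (e - 1) R SX).restrictScalars SX) ↔
      (∀ b : SY, algebraMap SY SX b ∈ RingHom.ker σ.toRingHom →
        algebraMap SY SX b ∈ RingHom.ker σ.toRingHom ^ e) := by
  obtain ⟨n, rfl⟩ : ∃ n, e = n + 1 := ⟨e - 1, by omega⟩
  change (∀ y ∈ PP16.augIdeal n R SY,
        PP16.map n R SY R SX y ∈
          RingHom.ker σ.toRingHom • (PP16.augIdeal n R SX).restrictScalars SX) ↔ _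
  constructor
  · intro h b hb
    have hy : (Ideal.Quotient.mk (KaehlerDifferential.ideal R SY ^ (n + 1)) (δ R SY b) :
        PP16.P n R SY) ∈ PP16.augIdeal n R SY :=
      Ideal.mem_map_of_mem _ (δ_mem R SY b)
    have h1 := χ_smul_mem R SX σ n _ (h _ hy)
    rw [PP16.map_mk] at h1
    have h2 : PP16.tensorMap R SY R SX (δ R SY b) = δ R SX (algebraMap SY SX b) := by
      unfold δ
      rw [map_sub, PP16.tensorMap_tmul, PP16.tensorMap_tmul, map_one]
    rw [h2, χ_mk, χ₀_δ] at h1
    have h3 : σ (algebraMap SY SX b) = 0 := hb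
    rw [h3, map_zero, sub_zero, Ideal.Quotient.eq_zero_iff_mem] at h1
    exact h1
  · intro h y hy
    unfold PP16.augIdeal at hy
    have hy' : y ∈ Ideal.span ((Ideal.Quotient.mk (KaehlerDifferential.ideal R SY ^ (n + 1))) ''
        (Set.range fun s : SY => TensorProduct.tmul R (1 : SY) s - TensorProduct.tmul R s (1 : SY))) := by
      rw [← Ideal.map_span, KaehlerDifferential.span_range_eq_ideal]
      exact hy
    clear hy
    have hideal : ∀ (q x : PP16.P n R SX),
        x ∈ RingHom.ker σ.toRingHom • (PP16.augIdeal n R SX).restrictScalars SX →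
        q * x ∈ RingHom.ker σ.toRingHom • (PP16.augIdeal n R SX).restrictScalars SX := by
      intro q x hx
      refine Submodule.smul_induction_on hx ?_ ?_
      · intro a ha p hp
        rw [mul_smul_comm]
        exact Submodule.smul_mem_smul ha (Ideal.mul_mem_left _ q hp)
      · intro x y hx hy
        rw [mul_add]
        exact add_mem hx hy
    induction hy' using Submodule.span_induction with
    | mem y hy =>
      obtain ⟨_, ⟨b, rfl⟩, rfl⟩ := hy
      change PP16.map n R SY R SX (Ideal.Quotient.mk _ (δ R SY b)) ∈ _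
      rw [PP16.map_mk]
      have h2 : PP16.tensorMap R SY R SX (δ R SY b) = δ R SX (algebraMap SY SX b) := by
        unfold δ
        rw [map_sub, PP16.tensorMap_tmul, PP16.tensorMap_tmul, map_one]
      rw [h2]
      -- replace `b` by `b - σ(b)`
      set c := algebraMap SY SX b with hc
      have h3 : δ R SX c = δ R SX (algebraMap SY SX (b - algebraMap R SY (σ c))) := by
        rw [map_sub, ← IsScalarTower.algebraMap_apply, sub_eq_add_neg, δ_add]
        have : δ R SX (-(algebraMap R SX (σ c))) = 0 := by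
          rw [← map_neg, δ_algebraMap]
        rw [this, add_zero]
      have h4 : algebraMap SY SX (b - algebraMap R SY (σ c)) ∈ RingHom.ker σ.toRingHom := by
        rw [RingHom.mem_ker, map_sub, ← IsScalarTower.algebraMap_apply]
        change σ (c - algebraMap R SX (σ c)) = 0
        rw [map_sub, AlgHom.commutes]
        simp
      rw [h3]
      exact mk_mem R SX σ n _ (key R SX σ (n + 1) (by omega) _ (h _ h4))
    | zero => rw [map_zero]; exact zero_mem _
    | add x y _ _ hx hy => rw [map_add]; exact add_mem hx hy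
    | smul t x _ hx =>
      rw [smul_eq_mul, map_mul]
      exact hideal _ _ hx

end Groth.Agent.S13936
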