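import Groth.Statements.S1394
import Groth.Agent.Lib.Helper21.FlatDescQ17

set_option autoImplicit false
universe u
open FlatMor

namespace Groth.Agent.S1394

open IsLocalRing

section Alg

variable {B : Type u} [CommRing B] [IsNoetherianRing B]

/-- relative principal ideal theorem: no prime strictly between `q` and a minimal prime over
`q + (x)`. -/
lemma no_between {q P₁ P₂ : Ideal B} [hq : q.IsPrime] [hP₁ : P₁.IsPrime] [hP₂ : P₂.IsPrime]
    (h1 : q < P₁) (h2 : P₁ < P₂) (x : B) (hmin : P₂ ∈ (q ⊔ Ideal.span {x}).minimalPrimes) :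
    False := by
  have hle := Ideal.map_height_le_one_of_mem_minimalPrimes hmin
  have hsurj : Function.Surjective (Ideal.Quotient.mk q) := Ideal.Quotient.mk_surjective
  have hk1 : RingHom.ker (Ideal.Quotient.mk q) ≤ P₁ := by rw [Ideal.mk_ker]; exact h1.le
  have hk2 : RingHom.ker (Ideal.Quotient.mk q) ≤ P₂ := by rw [Ideal.mk_ker]; exact (h1.trans h2).le
  haveI : (P₁.map (Ideal.Quotient.mk q)).IsPrime := Ideal.map_isPrime_of_surjective hsurj hk1
  haveI : (P₂.map (Ideal.Quotient.mk q)).IsPrime := Ideal.map_isPrime_of_surjective hsurj hk2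
  have hc1 : (P₁.map (Ideal.Quotient.mk q)).comap (Ideal.Quotient.mk q) = P₁ := by
    rw [Ideal.comap_map_of_surjective _ hsurj, ← RingHom.ker_eq_comap_bot, sup_eq_left.mpr hk1]
  have hc2 : (P₂.map (Ideal.Quotient.mk q)).comap (Ideal.Quotient.mk q) = P₂ := by
    rw [Ideal.comap_map_of_surjective _ hsurj, ← RingHom.ker_eq_comap_bot, sup_eq_left.mpr hk2]
  have hlt12 : P₁.map (Ideal.Quotient.mk q) < P₂.map (Ideal.Quotient.mk q) := by
    refine lt_of_le_of_ne (Ideal.map_mono h2.le) fun h => ?_
    have := congrArg (Ideal.comap (Ideal.Quotient.mk q)) h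
    rw [hc1, hc2] at this
    exact h2.ne this
  haveI : (⊥ : Ideal (B ⧸ q)).IsPrime := Ideal.isPrime_bot
  have hlt01 : (⊥ : Ideal (B ⧸ q)) < P₁.map (Ideal.Quotient.mk q) := by
    refine lt_of_le_of_ne bot_le fun h => ?_
    have := congrArg (Ideal.comap (Ideal.Quotient.mk q)) h
    rw [hc1, ← RingHom.ker_eq_comap_bot, Ideal.mk_ker] at this
    exact h1.ne this
  have e1 := Ideal.height_add_one_le_of_lt_of_isPrime hlt01
  have e2 := Ideal.height_add_one_le_of_lt_of_isPrime hlt12
  have e3 : (2 : ℕ∞) ≤ (P₂.map (Ideal.Quotient.mk q)).height := by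
    calc (2 : ℕ∞) = 0 + 1 + 1 := by norm_num
      _ ≤ (⊥ : Ideal (B ⧸ q)).height + 1 + 1 := by gcongr; exact zero_le
      _ ≤ (P₁.map (Ideal.Quotient.mk q)).height + 1 := by gcongr
      _ ≤ _ := e2
  have : (2 : ℕ∞) ≤ 1 := e3.trans hle
  norm_num at this

variable [IsLocalRing B]

/-- the induction: from a prime `q` avoiding `c = e * a` (with `a ∈ I ≤ 𝔪`), reach a prime `q'`
avoiding `c` such that `𝔪` is the only prime containing `q' + I`. -/
theorem exists_prime_isolated (I : Ideal B) (a e : B) (ha : a ∈ I) :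
    ∀ q : Ideal B, q.IsPrime → e * a ∉ q →
      ∃ q' : Ideal B, q'.IsPrime ∧ e * a ∉ q' ∧
        ∀ P : Ideal B, P.IsPrime → q' ⊔ I ≤ P → P = maximalIdeal B := by
  classical
  intro q
  induction q using WellFoundedGT.induction with
  | ind q ih =>
  intro hq hc
  by_cases hZ : ∀ P : Ideal B, P.IsPrime → q ⊔ I ≤ P → P = maximalIdeal B
  · exact ⟨q, hq, hc, hZ⟩
  push Not at hZ
  obtain ⟨P₁, hP₁, hP₁le, hP₁ne⟩ := hZ
  set c := e * a with hcdef
  have haq : a ∉ q := fun h => hc (Ideal.mul_mem_left _ _ h)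
  have hqP₁ : q < P₁ := by
    refine lt_of_le_of_ne (le_sup_left.trans hP₁le) fun h => ?_
    exact haq (h ▸ hP₁le (Ideal.mem_sup_right ha))
  have hP₁m : P₁ < maximalIdeal B :=
    lt_of_le_of_ne (IsLocalRing.le_maximalIdeal hP₁.ne_top) hP₁ne
  haveI := hq
  haveI := hP₁
  -- the avoidance set
  have hfin : ((q ⊔ Ideal.span {c}).minimalPrimes).Finite :=
    Ideal.finite_minimalPrimes_of_isNoetherianRing B _
  let s : Finset (Ideal B) := insert q hfin.toFinset
  have hprime : ∀ P ∈ s, P.IsPrime := by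
    intro P hP
    rcases Finset.mem_insert.mp hP with rfl | hP
    · exact hq
    · exact ((Set.Finite.mem_toFinset hfin).mp hP).1.1
  have hnotle : ¬ ((maximalIdeal B : Set B) ⊆ ⋃ P ∈ (s : Set (Ideal B)), (P : Set B)) := by
    intro hsub
    rw [Ideal.subset_union_prime q q (fun P hP _ _ => hprime P hP)] at hsub
    obtain ⟨P, hP, hmP⟩ := hsub
    have hPm : P = maximalIdeal B :=
      le_antisymm (IsLocalRing.le_maximalIdeal (hprime P hP).ne_top) hmP
    rcases Finset.mem_insert.mp hP with rfl | hP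
    · exact (hqP₁.trans hP₁m).ne hPm
    · have hmin := (Set.Finite.mem_toFinset hfin).mp hP
      rw [hPm] at hmin
      exact no_between hqP₁ hP₁m c hmin
  obtain ⟨t, htm, htn⟩ := Set.not_subset.mp hnotle
  have htq : t ∉ q := fun h => htn (Set.mem_biUnion (Finset.mem_insert_self q _) h)
  have htmin : ∀ P ∈ (q ⊔ Ideal.span {c}).minimalPrimes, t ∉ P := fun P hP h =>
    htn (Set.mem_biUnion (Finset.mem_insert_of_mem ((Set.Finite.mem_toFinset hfin).mpr hP)) h)
  -- the next prime
  have hle : q ⊔ Ideal.span {t} ≤ maximalIdeal B :=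
    sup_le (IsLocalRing.le_maximalIdeal hq.ne_top)
      ((Ideal.span_singleton_le_iff_mem _).mpr htm)
  obtain ⟨q₁, hq₁min, -⟩ := Ideal.exists_minimalPrimes_le hle
  haveI hq₁ : q₁.IsPrime := hq₁min.1.1
  have hqq₁ : q < q₁ := by
    refine lt_of_le_of_ne (le_sup_left.trans hq₁min.1.2) fun h => ?_
    exact htq (h ▸ hq₁min.1.2 (Ideal.mem_sup_right (Ideal.mem_span_singleton_self t)))
  have hcq₁ : c ∉ q₁ := by
    intro hcq₁
    have hK : q ⊔ Ideal.span {c} ≤ q₁ :=
      sup_le hqq₁.le ((Ideal.span_singleton_le_iff_mem _).mpr hcq₁)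
    obtain ⟨P, hPmin, hPq₁⟩ := Ideal.exists_minimalPrimes_le hK
    haveI : P.IsPrime := hPmin.1.1
    have hqP : q < P := by
      refine lt_of_le_of_ne (le_sup_left.trans hPmin.1.2) fun h => ?_
      exact hc (h ▸ hPmin.1.2 (Ideal.mem_sup_right (Ideal.mem_span_singleton_self c)))
    rcases eq_or_lt_of_le hPq₁ with h | h
    · exact htmin P hPmin (h ▸ hq₁min.1.2 (Ideal.mem_sup_right (Ideal.mem_span_singleton_self t)))
    · exact no_between hqP h t hq₁min
  exact ih q₁ hqq₁ hq₁ hcq₁

end Alg


open Groth.Agent.Lib.Helper21.FlatDesc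

theorem isLocalization_atPrime_of_isLocalRing' {B S' : Type u} [CommRing B] [CommRing S']
    [Algebra B S'] [IsLocalRing S'] (T : Submonoid B) [IsLocalization T S'] :
    IsLocalization.AtPrime S' ((maximalIdeal S').comap (algebraMap B S')) := by
  refine IsLocalization.of_le (M := T) (S := S') _ ?_ ?_
  · intro x hx hmem
    change algebraMap B S' x ∈ maximalIdeal S' at hmem
    exact (IsLocalRing.mem_maximalIdeal _).1 hmem (IsLocalization.map_units S' ⟨x, hx⟩)
  · intro r hr
    by_contra h
    exact hr ((Ideal.mem_comap).2 ((IsLocalRing.mem_maximalIdeal _).2 h))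

set_option maxHeartbeats 800000 in
theorem quasiFinite_of_isolated (A D : Type u) [CommRing A] [CommRing D] [IsLocalRing A]
    [IsLocalRing D] [Algebra A D] [IsLocalHom (algebraMap A D)] [Algebra.EssFiniteType A D]
    [Module.Finite (ResidueField A) (ResidueField D)]
    (h : ∀ P : Ideal D, P.IsPrime → (maximalIdeal A).map (algebraMap A D) ≤ P →
      P = maximalIdeal D) :
    Algebra.QuasiFinite A D := by
  let D₀ := Algebra.EssFiniteType.subalgebra A D
  let T := Algebra.EssFiniteType.submonoid A D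
  haveI hloc : IsLocalization T D := Algebra.EssFiniteType.isLocalization A D
  set Q : Ideal D₀ := (maximalIdeal D).comap (algebraMap D₀ D) with hQ
  haveI hQp : Q.IsPrime := Ideal.comap_isPrime _ _
  haveI hAt : IsLocalization.AtPrime D Q := isLocalization_atPrime_of_isLocalRing' T
  -- `Q` lies over the maximal ideal of `A`
  have hQA : Q.comap (algebraMap A D₀) = maximalIdeal A := by
    rw [hQ, Ideal.comap_comap, ← IsScalarTower.algebraMap_eq]
    exact IsLocalRing.maximalIdeal_comap (algebraMap A D)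
  -- `Q` is maximal
  haveI : Algebra.IsIntegral A (ResidueField A) :=
    Algebra.isIntegral_of_surjective (IsLocalRing.residue_surjective)
  haveI : Algebra.IsIntegral (ResidueField A) (ResidueField D) := inferInstance
  haveI : Algebra.IsIntegral A (ResidueField D) :=
    Algebra.IsIntegral.trans (ResidueField A)
  let φ : D₀ →ₐ[A] ResidueField D := (IsScalarTower.toAlgHom A D (ResidueField D)).comp D₀.val
  have hφker : ∀ y : D₀, φ y = 0 ↔ y ∈ Q := by
    intro y
    show IsLocalRing.residue D (y : D) = 0 ↔ _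
    rw [IsLocalRing.residue_eq_zero_iff]
    rfl
  let ψ : (D₀ ⧸ Q) →ₐ[A] ResidueField D := Ideal.Quotient.liftₐ Q φ (fun y hy => (hφker y).mpr hy)
  have hψ : Function.Injective ψ := by
    rw [injective_iff_map_eq_zero]
    intro x hx
    obtain ⟨y, rfl⟩ := Ideal.Quotient.mk_surjective x
    rw [Ideal.Quotient.eq_zero_iff_mem]
    exact (hφker y).mp hx
  haveI : Algebra.IsIntegral A (D₀ ⧸ Q) := Algebra.IsIntegral.of_injective ψ hψ
  have hQmax : Q.IsMaximal := by
    rw [← Ideal.bot_quotient_isMaximal_iff]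
    haveI : (⊥ : Ideal (D₀ ⧸ Q)).IsPrime := Ideal.isPrime_bot
    apply Ideal.isMaximal_of_isIntegral_of_isMaximal_comap (R := A) (⊥ : Ideal (D₀ ⧸ Q))
    have : (⊥ : Ideal (D₀ ⧸ Q)).comap (algebraMap A (D₀ ⧸ Q)) = maximalIdeal A := by
      rw [← hQA]
      ext r
      rw [Ideal.mem_comap, Ideal.mem_bot, Ideal.mem_comap]
      exact Ideal.Quotient.eq_zero_iff_mem
    rw [this]
    infer_instance
  let Qpt : PrimeSpectrum D₀ := ⟨Q, hQp⟩
  have hcl : IsClosed (X := PrimeSpectrum.comap (algebraMap A D₀) ⁻¹'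
      {Qpt.comap (algebraMap A D₀)}) {⟨Qpt, rfl⟩} := by
    have h1 : IsClosed ({Qpt} : Set (PrimeSpectrum D₀)) :=
      (PrimeSpectrum.isClosed_singleton_iff_isMaximal Qpt).mpr hQmax
    have h2 := h1.preimage (continuous_subtype_val (p := fun z => z ∈
      PrimeSpectrum.comap (algebraMap A D₀) ⁻¹' {Qpt.comap (algebraMap A D₀)}))
    convert h2 using 1
    ext z
    simp only [Set.mem_singleton_iff, Set.mem_preimage]
    exact ⟨fun h => by rw [h], fun h => Subtype.ext h⟩
  have hgen : ∀ Q' : PrimeSpectrum D₀, Q' ≤ Qpt →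
      Q'.comap (algebraMap A D₀) = Qpt.comap (algebraMap A D₀) → Q' = Qpt := by
    intro Q' hle hco
    haveI := Q'.isPrime
    have hJ : (maximalIdeal A).map (algebraMap A D₀) ≤ Q'.asIdeal := by
      rw [Ideal.map_le_iff_le_comap]
      have h1 : Q'.asIdeal.comap (algebraMap A D₀) = Q.comap (algebraMap A D₀) :=
        congrArg PrimeSpectrum.asIdeal hco
      rw [h1, hQA]
    have h3 := eq_of_le_of_map_le Q D ((maximalIdeal A).map (algebraMap A D₀)) (by
      intro P hP hJP
      refine h P hP ?_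
      rwa [Ideal.map_map, ← IsScalarTower.algebraMap_eq] at hJP) Q'.asIdeal hJ hle
    exact PrimeSpectrum.ext h3
  haveI hqf : Algebra.QuasiFiniteAt A Q := quasiFiniteAt_of_closed_of_generic A D₀ Qpt hcl hgen
  let e : Localization.AtPrime Q ≃ₐ[D₀] D :=
    IsLocalization.algEquiv Q.primeCompl (Localization.AtPrime Q) D
  exact Algebra.QuasiFinite.of_surjective_algHom (e.restrictScalars A).toAlgHom
    (e.restrictScalars A).surjective


set_option maxHeartbeats 800000 in
/-- Let A → B be a local homomorphism of local rings with A Noetherian, B essentially of finite type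
over A, and the residue field of B finite over that of A. Let V ⊆ Spec B be an open subset
containing some prime that does not lie over the maximal ideal of A. Then V contains a prime q, not
lying over the maximal ideal of A, such that B/q is quasi-finite over A in the sense that every
fibre ring of A → B/q is finite over the corresponding residue field of A. (The published statement
is stronger: there B/q is moreover a localization of a quasi-finite A-algebra of finite type, which
implies this.) -/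
theorem result {A B : Type u} [CommRing A] [CommRing B] [IsLocalRing A] [IsLocalRing B] [IsNoetherianRing A]
    [Algebra A B] [IsLocalHom (algebraMap A B)] [Algebra.EssFiniteType A B]
    [Module.Finite (IsLocalRing.ResidueField A) (IsLocalRing.ResidueField B)]
    (V : Set (PrimeSpectrum B)) (hV : IsOpen V) (hne : ∃ q ∈ V, q.asIdeal.comap (algebraMap A B) ≠ IsLocalRing.maximalIdeal A) :
    ∃ q ∈ V, q.asIdeal.comap (algebraMap A B) ≠ IsLocalRing.maximalIdeal A ∧ Algebra.QuasiFinite A (B ⧸ q.asIdeal) := by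
  classical
  haveI : IsNoetherianRing (Algebra.EssFiniteType.subalgebra A B) :=
    Algebra.FiniteType.isNoetherianRing A _
  haveI hBN : IsNoetherianRing B :=
    IsLocalization.isNoetherianRing (Algebra.EssFiniteType.submonoid A B) B inferInstance
  obtain ⟨q₀, hq₀V, hq₀⟩ := hne
  obtain ⟨_, ⟨e, rfl⟩, he, hsub⟩ :=
    PrimeSpectrum.isTopologicalBasis_basic_opens.exists_subset_of_mem_open hq₀V hV
  have hlt : q₀.asIdeal.comap (algebraMap A B) < maximalIdeal A :=
    lt_of_le_of_ne (IsLocalRing.le_maximalIdeal (Ideal.comap_ne_top _ q₀.isPrime.ne_top)) hq₀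
  obtain ⟨a, ham, haq⟩ := SetLike.exists_of_lt hlt
  set I := (maximalIdeal A).map (algebraMap A B) with hI
  have haI : algebraMap A B a ∈ I := Ideal.mem_map_of_mem _ ham
  have hc : e * algebraMap A B a ∉ q₀.asIdeal := fun h =>
    (q₀.isPrime.mem_or_mem h).elim he haq
  obtain ⟨q', hq', hcq', hiso⟩ :=
    exists_prime_isolated I (algebraMap A B a) e haI q₀.asIdeal q₀.isPrime hc
  refine ⟨⟨q', hq'⟩, hsub ?_, ?_, ?_⟩
  · show e ∉ q'
    exact fun h => hcq' (Ideal.mul_mem_right _ _ h)
  · intro h
    have h1 : a ∈ q'.comap (algebraMap A B) := by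
      show a ∈ (⟨q', hq'⟩ : PrimeSpectrum B).asIdeal.comap (algebraMap A B)
      rw [h]; exact ham
    exact hcq' (Ideal.mul_mem_left _ _ h1)
  · show Algebra.QuasiFinite A (B ⧸ q')
    haveI : Nontrivial (B ⧸ q') := Ideal.Quotient.nontrivial_iff.mpr hq'.ne_top
    haveI : IsLocalRing (B ⧸ q') :=
      IsLocalRing.of_surjective' (Ideal.Quotient.mk q') Ideal.Quotient.mk_surjective
    haveI hlm : IsLocalHom (Ideal.Quotient.mk q') :=
      IsLocalHom.of_surjective (Ideal.Quotient.mk q') Ideal.Quotient.mk_surjective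
    haveI : IsLocalHom (algebraMap B (B ⧸ q')) := hlm
    haveI : IsLocalHom (algebraMap A (B ⧸ q')) := by
      rw [IsScalarTower.algebraMap_eq A B (B ⧸ q')]
      exact RingHom.isLocalHom_comp _ _
    haveI : IsLocalHom (Ideal.Quotient.mkₐ A q') := ⟨fun a ha => hlm.map_nonunit a ha⟩
    haveI : Module.Finite (ResidueField A) (ResidueField (B ⧸ q')) := by
      refine Module.Finite.of_surjective
        (IsLocalRing.ResidueField.mapAlgHom' (Ideal.Quotient.mkₐ A q')).toLinearMap ?_
      intro x
      obtain ⟨y, rfl⟩ := IsLocalRing.residue_surjective x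
      obtain ⟨b, rfl⟩ := Ideal.Quotient.mk_surjective y
      exact ⟨IsLocalRing.residue B b, rfl⟩
    apply quasiFinite_of_isolated
    intro P hP hle
    have hcomap : P.comap (Ideal.Quotient.mk q') = maximalIdeal B := by
      refine hiso _ (Ideal.comap_isPrime _ _) (sup_le ?_ ?_)
      · intro b hb
        rw [Ideal.mem_comap, Ideal.Quotient.eq_zero_iff_mem.mpr hb]
        exact Ideal.zero_mem _
      · rw [hI, Ideal.map_le_iff_le_comap, Ideal.comap_comap]
        rw [Ideal.map_le_iff_le_comap] at hle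
        exact hle
    refine le_antisymm (IsLocalRing.le_maximalIdeal hP.ne_top) ?_
    intro x hx
    obtain ⟨b, rfl⟩ := Ideal.Quotient.mk_surjective x
    have hb : b ∈ maximalIdeal B := by
      rw [IsLocalRing.mem_maximalIdeal, mem_nonunits_iff] at hx ⊢
      exact fun hu => hx (hu.map _)
    rw [← hcomap] at hb
    exact hb

end Groth.Agent.S1394
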