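import Groth.Statements.S13953
import Mathlib.LinearAlgebra.Finsupp.LinearCombination
import Mathlib.RingTheory.LocalRing.MaximalIdeal.Basic

set_option autoImplicit false
universe u
open TateLoc

namespace Groth.Agent.S13953

/-- Let (R_i) be a family of local commutative rings and R = ∏ R_i. Any open cover of Spec R can be
refined by one coming from a finite partition of the index set: there is a map c from the index set
to a finite set such that, for each value m, the basic open subset of Spec R defined by the
idempotent which is 1 at the indices with c i = m and 0 elsewhere (this open is the spectrum of the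
product of the R_i over that class) is contained in some member of the cover. -/
theorem result {ι : Type u} (R : ι → Type u)
    [∀ i, CommRing (R i)] [∀ i, IsLocalRing (R i)] {J : Type u}
    (U : J → TopologicalSpace.Opens (PrimeSpectrum (∀ i, R i))) (hU : ⨆ j, U j = ⊤) :
    ∃ (n : ℕ) (c : ι → Fin n), ∀ m : Fin n, ∃ j : J,
      PrimeSpectrum.basicOpen (fun i => if c i = m then (1 : R i) else 0) ≤ U j := by
  classical
  let T := {p : (∀ i, R i) × J // PrimeSpectrum.basicOpen p.1 ≤ U p.2}
  have hcover : (⨆ t : T, PrimeSpectrum.basicOpen t.1.1) = ⊤ := by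
    rw [eq_top_iff]
    intro x _
    have hx : x ∈ ⨆ j, U j := by rw [hU]; trivial
    rw [TopologicalSpace.Opens.mem_iSup] at hx
    obtain ⟨j, hxj⟩ := hx
    obtain ⟨_, ⟨f, rfl⟩, hxf, hfU⟩ :=
      PrimeSpectrum.isTopologicalBasis_basic_opens.exists_subset_of_mem_open hxj (U j).2
    rw [TopologicalSpace.Opens.mem_iSup]
    exact ⟨⟨(f, j), hfU⟩, hxf⟩
  rw [PrimeSpectrum.iSup_basicOpen_eq_top_iff] at hcover
  have h1 : (1 : ∀ i, R i) ∈ Ideal.span (Set.range fun t : T => t.1.1) := by
    rw [hcover]; trivial
  obtain ⟨S', hS'sub, h1S'⟩ := Submodule.mem_span_finite_of_mem_span h1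
  obtain ⟨g, hg⟩ := Submodule.mem_span_finset'.mp h1S'
  -- for each i some f ∈ S' is a unit at i
  have hunit : ∀ i : ι, ∃ f : S', IsUnit (f.1 i) := by
    intro i
    by_contra hcon
    push Not at hcon
    have hsum : (1 : R i) = ∑ a : S', g a i * a.1 i := by
      have := congrFun hg i
      simpa [Finset.sum_apply] using this.symm
    have hmem : (∑ a : S', g a i * a.1 i) ∈ IsLocalRing.maximalIdeal (R i) := by
      apply sum_mem
      intro a _
      exact Ideal.mul_mem_left _ _ ((IsLocalRing.mem_maximalIdeal _).mpr (hcon a))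
    rw [← hsum] at hmem
    exact (IsLocalRing.maximalIdeal.isMaximal (R i)).ne_top ((Ideal.eq_top_iff_one _).mpr hmem)
  choose c₀ hc₀ using hunit
  let e : S' ≃ Fin S'.card := S'.equivFin
  refine ⟨S'.card, fun i => e (c₀ i), ?_⟩
  intro m
  obtain ⟨t, ht⟩ := hS'sub (e.symm m).2
  refine ⟨t.1.2, le_trans ?_ t.2⟩
  rw [PrimeSpectrum.basicOpen_le_basicOpen_iff]
  apply Ideal.le_radical
  rw [Ideal.mem_span_singleton']
  refine ⟨fun i => if e (c₀ i) = m then Ring.inverse (t.1.1 i) else 0, ?_⟩
  funext i
  simp only [Pi.mul_apply]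
  by_cases hcm : e (c₀ i) = m
  · rw [if_pos hcm, if_pos hcm]
    have hc : c₀ i = e.symm m := by rw [← hcm, Equiv.symm_apply_apply]
    have hu : IsUnit (t.1.1 i) := by
      have := hc₀ i
      rw [hc] at this
      have ht' : t.1.1 = (e.symm m).1 := ht
      rw [ht']
      exact this
    exact Ring.inverse_mul_cancel _ hu
  · rw [if_neg hcm, if_neg hcm, zero_mul]

end Groth.Agent.S13953
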