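import Groth.Statements.S1396
-- import your own Groth.Agent.* helpers here
import Groth.Agent.Lib.Helper26.IndQuasiAffine

set_option autoImplicit false
universe u
open FlatMor

namespace Groth.Agent.S1396

open AlgebraicGeometry CategoryTheory Limits in
/-- (1) ⇔ (4): a morphism f : X → Y is ind-quasi-affine (the preimage of every affine open is a scheme
all of whose quasi-compact opens are quasi-affine) if and only if for every quasi-compact
quasi-separated open V of Y and every quasi-compact open U of the preimage of V, the induced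
morphism U → V is quasi-affine (quasi-compact with quasi-affine preimages of affine opens). -/
theorem result {X Y : Scheme.{u}} (f : X ⟶ Y) :
    MoreMor.IsIndQuasiAffineHom f ↔ ∀ (V : Y.Opens), IsCompact (V : Set ↑Y) → IsQuasiSeparated (V : Set ↑Y) →
      ∀ (U : X.Opens) (hUV : U ≤ f ⁻¹ᵁ V), IsCompact (U : Set ↑X) → MoreMor.IsQuasiAffineHom (f.resLE V U hUV) := by
  open Groth.Agent.Lib.Helper26.IndQA Groth.Agent.Lib.Helper26.QuasiAffine in
  rw [isIndQuasiAffineHom_iff]
  constructor
  · intro H V hVc hVq U hUV hU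
    have : CompactSpace U.toScheme := isCompact_iff_compactSpace.mp hU
    have : QuasiSeparatedSpace V.toScheme :=
      (isQuasiSeparated_iff_quasiSeparatedSpace _ V.isOpen).mp hVq
    have hfac : ∀ y : U.toScheme, V.ι (f.resLE V U hUV y) = f (U.ι y) := fun y ↦ by
      rw [← Scheme.Hom.comp_apply, Scheme.Hom.resLE_comp_ι, Scheme.Hom.comp_apply]
    have hqc : QuasiCompact (f.resLE V U hUV) := inferInstance
    refine ⟨hqc, fun V₁ hV₁ ↦ ?_⟩
    have : CompactSpace ((f.resLE V U hUV) ⁻¹ᵁ V₁).toScheme :=
      isCompact_iff_compactSpace.mp (quasiCompact_iff_forall_isAffineOpen.mp hqc V₁ hV₁)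
    refine H _ (((f.resLE V U hUV) ⁻¹ᵁ V₁).ι ≫ U.ι) (V.ι ''ᵁ V₁)
      (hV₁.image_of_isOpenImmersion V.ι) ?_
    rintro _ ⟨a, rfl⟩
    exact ⟨f.resLE V U hUV (Scheme.Opens.ι _ a), a.2, (hfac _).trans rfl⟩
  · intro H A j _ _ V hV hj
    have : IsAffine V := hV
    have hle : j.opensRange ≤ f ⁻¹ᵁ V := hj
    have hc : IsCompact (j.opensRange : Set X) := isCompact_range j.continuous
    have h1 := H V hV.isCompact hV.isQuasiSeparated j.opensRange hle hc
    have h2 : j.opensRange.toScheme.IsQuasiAffine :=
      (isQAHom_iff_of_isAffine _).mp ((isQAHom_iff _).mpr h1)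
    refine isQuasiAffine_of_range_subset j j.opensRange.ι ?_
    rw [Scheme.Opens.range_ι]
    rfl

end Groth.Agent.S1396
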