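import Groth.Statements.S13963
import Mathlib.Topology.Algebra.Group.OpenMapping
import Mathlib.Topology.Algebra.Group.Pointwise
import Mathlib.Topology.Baire.LocallyCompactRegular
import Mathlib.Topology.Compactness.SigmaCompact

set_option autoImplicit false
universe u
open TateLoc

namespace Groth.Agent.S13963

open Pointwise in
theorem aux (A' A A'' : Type u)
    [AddCommGroup A'] [TopologicalSpace A'] [IsTopologicalAddGroup A'] [SecondCountableTopology A'] [T2Space A']
    [CompactSpace A']
    [AddCommGroup A] [TopologicalSpace A] [IsTopologicalAddGroup A] [LocallyCompactSpace A]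
    [SecondCountableTopology A] [T2Space A]
    [AddCommGroup A''] [TopologicalSpace A''] [IsTopologicalAddGroup A''] [SecondCountableTopology A''] [T2Space A'']
    [CompactSpace A'']
    (f : A' →+ A) (g : A →+ A'') (hf : Continuous f) (hg : Continuous g)
    (hinj : Function.Injective f) (hsurj : Function.Surjective g) (hex : g.ker = f.range) :
    CompactSpace A := by
  have hopen : IsOpenMap g := AddMonoidHom.isOpenMap_of_sigmaCompact g hsurj hg
  obtain ⟨V, hVc, hV0⟩ := exists_compact_mem_nhds (0 : A)
  have hK : IsCompact (Set.range f) := isCompact_range hf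
  have hW : IsOpen (g '' interior V) := hopen _ isOpen_interior
  have h0W : (0 : A'') ∈ g '' interior V :=
    ⟨0, mem_interior_iff_mem_nhds.mpr hV0, map_zero g⟩
  have hcov : (Set.univ : Set A'') ⊆ ⋃ a : A, (fun y => g a + y) '' (g '' interior V) := by
    intro y _
    obtain ⟨a, rfl⟩ := hsurj y
    exact Set.mem_iUnion.mpr ⟨a, 0, h0W, add_zero _⟩
  obtain ⟨t, ht⟩ := isCompact_univ.elim_finite_subcover _
    (fun a => (isOpenMap_add_left (g a)) _ hW) hcov
  rw [← isCompact_univ_iff]
  have hsub : (Set.univ : Set A) ⊆ ⋃ a ∈ t, ((fun x => a + x) '' (V + Set.range f)) := by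
    intro x _
    have := ht (Set.mem_univ (g x))
    simp only [Set.mem_iUnion] at this
    obtain ⟨a, hat, y, ⟨v, hv, rfl⟩, hy⟩ := this
    have hy' : g a + g v = g x := hy
    have hker : x - a - v ∈ g.ker := by
      rw [AddMonoidHom.mem_ker, map_sub, map_sub, ← hy']
      abel
    rw [hex] at hker
    refine Set.mem_iUnion₂.mpr ⟨a, hat, v + (x - a - v),
      Set.add_mem_add (interior_subset hv) hker, ?_⟩
    change a + (v + (x - a - v)) = x
    abel
  refine IsCompact.of_isClosed_subset ?_ isClosed_univ hsub
  exact t.isCompact_biUnion (fun a _ => (hVc.add hK).image (continuous_add_left a))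


/-- Let A' → A → A'' be continuous homomorphisms of locally compact, second-countable, Hausdorff abelian
topological groups which form a short exact sequence of abstract groups (the first injective, the
second surjective, image equal to kernel). If A' and A'' are compact, then A is compact. -/
theorem result (A' A A'' : Type u)
    [AddCommGroup A'] [TopologicalSpace A'] [IsTopologicalAddGroup A'] [SecondCountableTopology A'] [T2Space A']
    [CompactSpace A']
    [AddCommGroup A] [TopologicalSpace A] [IsTopologicalAddGroup A] [LocallyCompactSpace A]
    [SecondCountableTopology A] [T2Space A]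
    [AddCommGroup A''] [TopologicalSpace A''] [IsTopologicalAddGroup A''] [SecondCountableTopology A''] [T2Space A'']
    [CompactSpace A'']
    (f : A' →+ A) (g : A →+ A'') (hf : Continuous f) (hg : Continuous g)
    (hinj : Function.Injective f) (hsurj : Function.Surjective g) (hex : g.ker = f.range) :
    CompactSpace A :=
  aux A' A A'' f g hf hg hinj hsurj hex

end Groth.Agent.S13963
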