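import Groth.Statements.S1397
-- import your own Groth.Agent.* helpers here
import Groth.Agent.Lib.Helper26.IndQuasiAffine

set_option autoImplicit false
universe u
open FlatMor

namespace Groth.Agent.S1397

open AlgebraicGeometry CategoryTheory Limits in
/-- Ind-quasi-affine morphisms are stable under composition. -/
theorem result {X Y Z : Scheme.{u}} (f : X ⟶ Y) (g : Y ⟶ Z) (hf : MoreMor.IsIndQuasiAffineHom f) (hg : MoreMor.IsIndQuasiAffineHom g) :
    MoreMor.IsIndQuasiAffineHom (f ≫ g) := by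
  open Groth.Agent.Lib.Helper26.IndQA Groth.Agent.Lib.Helper26.QuasiAffine in
  rw [isIndQuasiAffineHom_iff] at hf hg ⊢
  intro A j _ _ W hW hj
  -- a compact open `Y'` of `Y` inside `g ⁻¹ W` containing the image of `A`
  have hK : IsCompact (Set.range (j ≫ f)) := isCompact_range (j ≫ f).continuous
  have hKW : Set.range (j ≫ f) ⊆ (g ⁻¹ᵁ W : Set Y) := by
    rintro _ ⟨a, rfl⟩
    have := hj ⟨a, rfl⟩
    simpa using this
  have hex : ∀ y : Y, y ∈ Set.range (j ≫ f) → ∃ Wy : Y.Opens, IsAffineOpen Wy ∧ y ∈ Wy ∧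
      (Wy : Set Y) ⊆ g ⁻¹ᵁ W := fun y hy ↦ exists_isAffineOpen_mem_and_subset (hKW hy)
  choose! Wy hWy hyWy hWyW using hex
  obtain ⟨t, htK, ht⟩ := hK.elim_nhds_subcover (fun y ↦ (Wy y : Set Y))
    (fun y hy ↦ (Wy y).isOpen.mem_nhds (hyWy y hy))
  let Y' : Y.Opens := ⨆ y ∈ t, Wy y
  have hY'c : IsCompact (Y' : Set Y) := by
    simp only [Y', TopologicalSpace.Opens.coe_iSup]
    exact t.finite_toSet.isCompact_biUnion fun y hy ↦ (hWy y (htK y hy)).isCompact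
  have hY'W : (Y' : Set Y) ⊆ g ⁻¹ᵁ W := by
    simp only [Y', TopologicalSpace.Opens.coe_iSup]
    exact Set.iUnion₂_subset fun y hy ↦ hWyW y (htK y hy)
  have hKY' : Set.range (j ≫ f) ⊆ Set.range Y'.ι := by
    rw [Scheme.Opens.range_ι]
    simpa only [Y', TopologicalSpace.Opens.coe_iSup] using ht
  have : CompactSpace Y'.toScheme := isCompact_iff_compactSpace.mp hY'c
  have hY'q : Y'.toScheme.IsQuasiAffine := by
    refine hg Y'.toScheme Y'.ι W hW ?_
    rw [Scheme.Opens.range_ι]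
    exact hY'W
  have hfac : ∀ y : A, Y'.ι (IsOpenImmersion.lift Y'.ι (j ≫ f) hKY' y) = f (j y) := fun y ↦ by
    rw [← Scheme.Hom.comp_apply, IsOpenImmersion.lift_fac, Scheme.Hom.comp_apply]
  have hqc : QuasiCompact (IsOpenImmersion.lift Y'.ι (j ≫ f) hKY') := inferInstance
  refine isQuasiAffine_of_isQAHom (IsOpenImmersion.lift Y'.ι (j ≫ f) hKY')
    ((isQAHom_iff _).mpr ⟨hqc, fun V hV ↦ ?_⟩)
  have : CompactSpace ((IsOpenImmersion.lift Y'.ι (j ≫ f) hKY') ⁻¹ᵁ V).toScheme :=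
    isCompact_iff_compactSpace.mp (quasiCompact_iff_forall_isAffineOpen.mp hqc V hV)
  refine hf _ (((IsOpenImmersion.lift Y'.ι (j ≫ f) hKY') ⁻¹ᵁ V).ι ≫ j) (Y'.ι ''ᵁ V)
    (hV.image_of_isOpenImmersion Y'.ι) ?_
  rintro _ ⟨a, rfl⟩
  exact ⟨IsOpenImmersion.lift Y'.ι (j ≫ f) hKY' (Scheme.Opens.ι _ a), a.2, (hfac _).trans rfl⟩

end Groth.Agent.S1397
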