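import Groth.Statements.S13971
import Groth.Agent.Lib.Helper1.T1Glue
import Groth.Agent.Lib.Helper1.T1Tsze
import Groth.Agent.Lib.Helper1.ArtFunAdicSmooth

set_option autoImplicit false
universe u v
open CategoryTheory
open ArtFun

namespace Groth.Agent.S13971

open ArtFun.Art IsLocalRing Groth.Agent.Lib.Helper1.PSRing
  Groth.Agent.Lib.Helper1.T1Glue Groth.Agent.Lib.Helper1.T1Tsze

/-- Let k be a field of characteristic zero and F a deformation functor on Artinian local k-algebras
with residue field k — F(k) is a point and the comparison map F(A₁ ×_A A₂) → F(A₁) ×_{F(A)} F(A₂) is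
bijective whenever A₂ → A is surjective — whose tangent space F(k[ε]) is finite-dimensional. Suppose
that for every object A and every surjective morphism q : A'' → A' between split square-zero
extensions of A (A' and A'' come with retractions onto A whose kernels have square zero and with
sections from A, and q commutes with the retractions and the sections), the map F(q) : F(A'') →
F(A') is surjective. Then F is unobstructed: F(B) → F(A) is surjective for every surjective B → A.
(The published statement is for deformation categories, with the hypothesis that, for every object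
over A, the functor M ↦ {isomorphism classes of its liftings to A ⊕ M} on finite A-modules carries
surjections to surjections; this row is the case of a category fibred in sets, for which a split
square-zero extension of A is A ⊕ M with M the kernel, a finite A-module, and that hypothesis is the
displayed surjectivity.) -/
theorem result {k : Type u} [Field k] [CharZero k]
    (F : ArtFun.Art k k ⥤ Type v) [ArtFun.TangentStr F]
    (h0 : ArtFun.H0 F)
    (hRS : (∀ ⦃B A A' A'' : ArtFun.Art k k⦄ (p' : B ⟶ A') (p'' : B ⟶ A'') (f' : A' ⟶ A) (f'' : A'' ⟶ A)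
        (h : ArtFun.Art.IsFibreProd p' p'' f' f''), Function.Surjective f'' → Function.Bijective (ArtFun.cmp F h)))
    (hfin : ArtFun.Hfin F)
    (hT1 : ∀ ⦃A A' A'' : ArtFun.Art k k⦄ (π' : A' ⟶ A) (i' : A ⟶ A') (π'' : A'' ⟶ A) (i'' : A ⟶ A'')
        (q : A'' ⟶ A'), i' ≫ π' = 𝟙 A → i'' ≫ π'' = 𝟙 A →
        RingHom.ker π'.toAlgHom * RingHom.ker π'.toAlgHom = ⊥ →
        RingHom.ker π''.toAlgHom * RingHom.ker π''.toAlgHom = ⊥ →
        q ≫ π' = π'' → i'' ≫ q = i' → Function.Surjective q → Function.Surjective (F.map q)) :
    ArtFun.IsSmoothFunctor F := by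
  classical
  have hk := Groth.Agent.Lib.Helper1.ArtFunObsPS.hsurj_id (k := k)
  have h1 : S1 F := fun B A A' A'' p' p'' f' f'' h hf => (hRS p' p'' f' f'' h hf).2
  have h2 : Heps F := fun B A' p' p'' h =>
    hRS p' p'' (toBase A') (toBase (dual k k)) h (dual k k).res_surjective
  obtain ⟨H⟩ := Groth.Agent.Lib.Helper1.ArtFunHull.hasHull_of_complete hk h0 h1 h2 hfin
  have hver : IsVersal H.family := H.miniversal.1
  rw [Groth.Agent.Lib.Helper1.ArtFunAdicSmooth.isSmoothFunctor_iff_of_isVersal H.ring h0 H.family hver]
  obtain ⟨d, π, hπ⟩ := exists_bijective_of_lifting H.ring (by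
    intro A d φ
    let f : (Fin d → A) →ₗ[A] (Fin d → A ⧸ maximalIdeal A) :=
      LinearMap.pi fun j => (Ideal.Quotient.mkₐ A (maximalIdeal A)).toLinearMap.comp
        (LinearMap.proj j)
    have hf : Function.Surjective f := by
      intro v
      choose w hw using fun j => Ideal.Quotient.mk_surjective (v j)
      exact ⟨w, funext hw⟩
    let A' : Art k k := tszeArt A (Fin d → A ⧸ maximalIdeal A)
    let A'' : Art k k := tszeArt A (Fin d → A)
    let q : A'' ⟶ A' := mapA A f
    have hq : Function.Surjective q := mapA_surjective A f hf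
    have hsurj : Function.Surjective (F.map q) :=
      hT1 (fstA A _) (inlA A _) (fstA A _) (inlA A _) q (inlA_fstA A _) (inlA_fstA A _)
        (ker_fstA_sq A _) (ker_fstA_sq A _) (mapA_fstA A f) (inlA_mapA A f) hq
    let φ' : HomSet H.ring.carrier H.ring.res A' := ⟨φ, algHom_eq_res H.ring _⟩
    obtain ⟨y, hy⟩ := hsurj (H.family.app A' φ')
    obtain ⟨ψ, hψ, -⟩ := hver q hq φ' y hy
    refine ⟨ψ.1, fun r => ?_⟩
    have h3 : mapK (k := k) f (ψ.1 r) = φ r :=
      congrArg (fun g : HomSet H.ring.carrier H.ring.res A' => g.1 r) hψ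
    exact ⟨congrArg TrivSqZeroExt.fst h3, fun j => congrFun (congrArg TrivSqZeroExt.snd h3) j⟩)
  exact Groth.Agent.Lib.Helper1.ArtFunPS.smooth_of_algEquiv hk H.ring d
    (AlgEquiv.ofBijective π hπ).symm

end Groth.Agent.S13971
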