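import Groth.Statements.S13972
import Groth.Agent.Lib.Helper5.NilLift

set_option autoImplicit false
universe u
open LCI

namespace Groth.Agent.S13972

open Groth.Agent.Lib.Helper5.NilLift Groth.Agent.Lib.Helper5.PushDict
open Groth.Agent.Lib.Helper21.FlatKit TensorProduct

theorem flat_of_ideal_eq {A R : Type u} [CommRing A] [CommRing R] [Algebra A R] {K L : Ideal R}
    (h : K = L) (hK : Module.Flat A (R ⧸ K)) : Module.Flat A (R ⧸ L) := by
  subst h
  exact hK

theorem span_ofFn {R : Type u} [CommRing R] {r : ℕ} (g : Fin r → R) :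
    Ideal.span {x | x ∈ List.ofFn g} = Ideal.span (Set.range g) := by
  congr 1
  ext x
  simp [List.mem_ofFn]

theorem isNilpotent_of_ne_top {A' : Type u} [CommRing A'] [IsLocalRing A'] [IsArtinianRing A']
    (I : Ideal A') (hI : I ≠ ⊤) : IsNilpotent I := by
  obtain ⟨n, hn⟩ := isNilpotent_maximalIdeal (A := A')
  refine ⟨n, ?_⟩
  have := Ideal.pow_right_mono (IsLocalRing.le_maximalIdeal hI) n
  rw [hn] at this
  exact le_bot_iff.1 this

theorem part1
    {A' : Type u} [CommRing A'] [IsLocalRing A'] [IsArtinianRing A'] (I : Ideal A') (hI : I ≠ ⊤)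
    {R' : Type u} [CommRing R'] [Algebra A' R'] [Module.Flat A' R']
    (r : ℕ) (f : Fin r → R' ⧸ I.map (algebraMap A' R'))
    (hf : LCI.IsKoszulRegularSeq (R' ⧸ I.map (algebraMap A' R')) (List.ofFn f))
    [hfl : Module.Flat (A' ⧸ I) ((R' ⧸ I.map (algebraMap A' R')) ⧸ Ideal.span (Set.range f))]
    (f' : Fin r → R') (hf' : ∀ i, Ideal.Quotient.mk (I.map (algebraMap A' R')) (f' i) = f i) :
    Module.Flat A' (R' ⧸ Ideal.span (Set.range f')) ∧ LCI.IsKoszulRegularSeq R' (List.ofFn f') := by
  have hpo := isPushout_quotient (B := R') I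
  have hmap : (List.ofFn f').map (algebraMap R' (R' ⧸ I.map (algebraMap A' R'))) = List.ofFn f := by
    rw [List.map_ofFn]
    congr 1
    funext i
    exact hf' i
  have hl : LCI.IsKoszulRegularSeq (R' ⧸ I.map (algebraMap A' R'))
      ((List.ofFn f').map (algebraMap R' (R' ⧸ I.map (algebraMap A' R')))) := by
    rw [hmap]; exact hf
  have hq : Module.Flat (A' ⧸ I) ((R' ⧸ I.map (algebraMap A' R')) ⧸
      Ideal.span {x | x ∈ (List.ofFn f').map (algebraMap R' (R' ⧸ I.map (algebraMap A' R')))}) := by
    refine flat_of_ideal_eq ?_ hfl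
    rw [hmap, span_ofFn]
  obtain ⟨h1, h2⟩ := koszul_nilLift A' I (R' := R' ⧸ I.map (algebraMap A' R'))
    (isNilpotent_of_ne_top I hI) (List.ofFn f') hl
  exact ⟨flat_of_ideal_eq (span_ofFn f') h2, h1⟩


theorem mk_mem_smul_top_iff {A' R' : Type u} [CommRing A'] [CommRing R'] [Algebra A' R']
    (I : Ideal A') (K : Ideal R') (y : R') :
    Ideal.Quotient.mk K y ∈ I • (⊤ : Submodule A' (R' ⧸ K)) ↔
      y ∈ I.map (algebraMap A' R') ⊔ K := by
  rw [Ideal.smul_top_eq_map, Submodule.restrictScalars_mem]
  have : algebraMap A' (R' ⧸ K) = (Ideal.Quotient.mk K).comp (algebraMap A' R') := rfl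
  rw [this, ← Ideal.map_map, Ideal.mem_quotient_iff_mem_sup]

theorem part2
    {A' : Type u} [CommRing A'] (I : Ideal A') (hI : IsNilpotent I)
    {R' : Type u} [CommRing R'] [Algebra A' R']
    (F J' : Ideal R') (hle : F ≤ J') [Module.Flat A' (R' ⧸ F)] [Module.Flat A' (R' ⧸ J')]
    (hmap : J'.map (Ideal.Quotient.mk (I.map (algebraMap A' R'))) =
      F.map (Ideal.Quotient.mk (I.map (algebraMap A' R')))) : J' = F := by
  refine le_antisymm ?_ hle
  let p : (R' ⧸ F) →ₗ[A'] (R' ⧸ J') := (Ideal.Quotient.factorₐ A' hle).toLinearMap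
  have hp : ∀ y : R', p (Ideal.Quotient.mk F y) = Ideal.Quotient.mk J' y := fun y => rfl
  have hsup : I.map (algebraMap A' R') ⊔ J' = I.map (algebraMap A' R') ⊔ F := by
    have h1 := Ideal.comap_map_of_surjective (Ideal.Quotient.mk (I.map (algebraMap A' R')))
      Ideal.Quotient.mk_surjective J'
    have h2 := Ideal.comap_map_of_surjective (Ideal.Quotient.mk (I.map (algebraMap A' R')))
      Ideal.Quotient.mk_surjective F
    rw [hmap, h2] at h1
    have hk : Ideal.comap (Ideal.Quotient.mk (I.map (algebraMap A' R'))) ⊥ =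
        I.map (algebraMap A' R') := by
      rw [← RingHom.ker_eq_comap_bot, Ideal.mk_ker]
    rw [hk] at h1
    rw [sup_comm, ← h1, sup_comm]
  have hi : Function.Injective (p.lTensor (A' ⧸ I)) := by
    refine injective_lTensor_quotient_of I p ?_
    intro x hx
    obtain ⟨y, rfl⟩ := Ideal.Quotient.mk_surjective x
    rw [hp, mk_mem_smul_top_iff, hsup] at hx
    rw [mk_mem_smul_top_iff]
    exact hx
  have hsurj : Function.Surjective p := by
    intro z
    obtain ⟨y, rfl⟩ := Ideal.Quotient.mk_surjective z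
    exact ⟨Ideal.Quotient.mk F y, hp y⟩
  have hsub : Subsingleton ((R' ⧸ J') ⧸ LinearMap.range p) := by
    rw [LinearMap.range_eq_top.2 hsurj]
    infer_instance
  have hfl : Module.Flat (A' ⧸ I) ((A' ⧸ I) ⊗[A'] ((R' ⧸ J') ⧸ LinearMap.range p)) :=
    inferInstance
  have hinj := injective_of_lTensor_quotient_injective hI p hi
  intro y hy
  have h0 : p (Ideal.Quotient.mk F y) = 0 := by
    rw [hp]
    exact Ideal.Quotient.eq_zero_iff_mem.2 hy
  have := hinj (h0.trans (map_zero p).symm)
  exact Ideal.Quotient.eq_zero_iff_mem.1 this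


/-- Let A' be an Artinian local ring, I a proper ideal of A', A = A'/I, R' a Noetherian A'-algebra flat
over A' and R = R'/IR'. Let f₁, …, f_r ∈ R be a Koszul-regular sequence (its Koszul complex is
acyclic in nonzero degrees) such that R/(f₁, …, f_r) is flat over A. Then: (1) for every choice of
lifts f'₁, …, f'_r ∈ R' of the f_i, the quotient R'/(f'₁, …, f'_r) is flat over A' and f'₁, …, f'_r
is a Koszul-regular sequence in R'; (2) if J' ⊆ R' is an ideal with R'/J' flat over A' whose image
in R is the ideal (f₁, …, f_r), then J' is generated by any lifts f'₁, …, f'_r ∈ J' of the f_i. (The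
published statement takes R' = R₀ ⊗_Λ A' for a flat Λ-algebra R₀ and a surjection A' → A of Artinian
local Λ-algebras; this row assumes only that R' is Noetherian and flat over A' and that I is a
proper ideal, which is what its proof uses. Regularity of a sequence is taken there in every
localization at a prime containing the ideal it generates, which over a Noetherian ring is the
Koszul-acyclicity used in the proof and stated here.) -/
theorem result
    {A' : Type u} [CommRing A'] [IsLocalRing A'] [IsArtinianRing A'] (I : Ideal A') (hI : I ≠ ⊤)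
    {R' : Type u} [CommRing R'] [Algebra A' R'] [IsNoetherianRing R'] [Module.Flat A' R']
    (r : ℕ) (f : Fin r → R' ⧸ I.map (algebraMap A' R'))
    (hf : LCI.IsKoszulRegularSeq (R' ⧸ I.map (algebraMap A' R')) (List.ofFn f))
    [Module.Flat (A' ⧸ I) ((R' ⧸ I.map (algebraMap A' R')) ⧸ Ideal.span (Set.range f))] :
    (∀ f' : Fin r → R', (∀ i, Ideal.Quotient.mk (I.map (algebraMap A' R')) (f' i) = f i) →
        Module.Flat A' (R' ⧸ Ideal.span (Set.range f')) ∧ LCI.IsKoszulRegularSeq R' (List.ofFn f')) ∧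
    (∀ (J' : Ideal R'), Module.Flat A' (R' ⧸ J') →
        J'.map (Ideal.Quotient.mk (I.map (algebraMap A' R'))) = Ideal.span (Set.range f) →
        ∀ f' : Fin r → R', (∀ i, f' i ∈ J') →
          (∀ i, Ideal.Quotient.mk (I.map (algebraMap A' R')) (f' i) = f i) →
          J' = Ideal.span (Set.range f')) := by
  refine ⟨fun f' hf' => part1 I hI r f hf f' hf', ?_⟩
  intro J' hJ' hmap f' hmem hf'
  obtain ⟨h1, _⟩ := part1 I hI r f hf f' hf'
  refine part2 I (isNilpotent_of_ne_top I hI) (Ideal.span (Set.range f')) J'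
    (Ideal.span_le.2 (by rintro _ ⟨i, rfl⟩; exact hmem i)) ?_
  rw [hmap, Ideal.map_span, ← Set.range_comp]
  congr 2
  funext i
  exact (hf' i).symm

end Groth.Agent.S13972
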