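import Groth.Statements.S13978
import Mathlib

set_option autoImplicit false
universe u v
open CategoryTheory
open scoped TensorProduct
open ArtFun ArtFun.ObsTheory

namespace Groth.Agent.S13978

section Aux

open ArtFun.Art

variable {k : Type u} [Field k]

/-- elements of an object split as scalar + maximal-ideal part. -/
lemma sub_algebraMap_res_mem (C : Art k k) (c : C) :
    c - algebraMap k C (C.res c) ∈ IsLocalRing.maximalIdeal C := by
  rw [mem_maximalIdeal_iff, map_sub, AlgHom.commutes, sub_eq_zero]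
  rfl

lemma ker_le_maximalIdeal {C' C : Art k k} (p : C' ⟶ C) :
    RingHom.ker p.toAlgHom ≤ IsLocalRing.maximalIdeal C' := by
  intro x hx
  rw [mem_maximalIdeal_iff, ← res_app p]
  have : p.toAlgHom x = 0 := hx
  change C.res (p.toAlgHom x) = 0
  rw [this, map_zero]

lemma mul_eq_res_smul {C' C : Art k k} (p : C' ⟶ C) (hp : IsSemismallExt p) (c x : C')
    (hx : x ∈ RingHom.ker p.toAlgHom) : c * x = (C'.res c) • x := by
  have h1 : (c - algebraMap k C' (C'.res c)) * x ∈
      IsLocalRing.maximalIdeal C' * RingHom.ker p.toAlgHom :=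
    Ideal.mul_mem_mul (sub_algebraMap_res_mem C' c) hx
  rw [hp.2, Ideal.mem_bot, sub_mul, sub_eq_zero] at h1
  rw [h1, Algebra.smul_def]

section Main

variable {C' C : Art k k} (p : C' ⟶ C) (hp : IsSemismallExt p)
  {ι : Type u} (b : Module.Basis ι k ↥(RingHom.ker p.toAlgHom)) (i : ι)

/-- the ideal spanned by the other basis vectors -/
def Kid : Ideal C' where
  carrier := {x | ∃ h : x ∈ RingHom.ker p.toAlgHom, b.coord i ⟨x, h⟩ = 0}
  add_mem' := by
    rintro x y ⟨hx, hx'⟩ ⟨hy, hy'⟩
    refine ⟨Ideal.add_mem _ hx hy, ?_⟩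
    have : (⟨x + y, Ideal.add_mem _ hx hy⟩ : ↥(RingHom.ker p.toAlgHom)) = ⟨x, hx⟩ + ⟨y, hy⟩ := rfl
    rw [this, map_add, hx', hy', add_zero]
  zero_mem' := ⟨Ideal.zero_mem _, by
    have : (⟨0, Ideal.zero_mem _⟩ : ↥(RingHom.ker p.toAlgHom)) = 0 := rfl
    rw [this, map_zero]⟩
  smul_mem' := by
    rintro c x ⟨hx, hx'⟩
    refine ⟨Ideal.mul_mem_left _ c hx, ?_⟩
    have : (⟨c • x, Ideal.mul_mem_left _ c hx⟩ : ↥(RingHom.ker p.toAlgHom)) =
        (C'.res c) • ⟨x, hx⟩ := by
      apply Subtype.ext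
      change c * x = (C'.res c) • x
      exact mul_eq_res_smul p hp c x hx
    rw [this, map_smul, hx', smul_zero]

lemma mem_Kid (x : C') :
    x ∈ Kid p hp b i ↔ ∃ h : x ∈ RingHom.ker p.toAlgHom, b.coord i ⟨x, h⟩ = 0 := Iff.rfl

lemma Kid_le_ker : Kid p hp b i ≤ RingHom.ker p.toAlgHom := fun _ hx => hx.1

lemma Kid_le_max : Kid p hp b i ≤ IsLocalRing.maximalIdeal C' :=
  (Kid_le_ker p hp b i).trans (ker_le_maximalIdeal p)

/-- the tiny extension -/
noncomputable abbrev tq : quot C' (Kid p hp b i) (Kid_le_max p hp b i) ⟶ C :=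
  quotFactor (Kid_le_max p hp b i) p (Kid_le_ker p hp b i)

noncomputable abbrev gmap : ↥(RingHom.ker p.toAlgHom) →ₗ[k] ↥(RingHom.ker (tq p hp b i).toAlgHom) :=
  (kerToQuot (Kid_le_max p hp b i) p (Kid_le_ker p hp b i)).restrictScalars k

lemma gmap_val (x : ↥(RingHom.ker p.toAlgHom)) :
    ((gmap p hp b i x : ↥(RingHom.ker (tq p hp b i).toAlgHom)) :
      quot C' (Kid p hp b i) (Kid_le_max p hp b i)) = Ideal.Quotient.mk (Kid p hp b i) (x : C') := rfl

lemma gmap_eq_zero_iff (x : ↥(RingHom.ker p.toAlgHom)) :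
    gmap p hp b i x = 0 ↔ b.coord i x = 0 := by
  rw [← Subtype.coe_inj, gmap_val]
  change Ideal.Quotient.mk (Kid p hp b i) (x : C') = 0 ↔ _
  rw [Ideal.Quotient.eq_zero_iff_mem, mem_Kid]
  constructor
  · rintro ⟨h, h'⟩; exact h'
  · intro h; exact ⟨x.2, h⟩

lemma gmap_eq (x : ↥(RingHom.ker p.toAlgHom)) :
    gmap p hp b i x = (b.coord i x) • gmap p hp b i (b i) := by
  rw [← sub_eq_zero, ← map_smul, ← map_sub, gmap_eq_zero_iff, map_sub, map_smul]
  simp

lemma gmap_surjective : Function.Surjective (gmap p hp b i) := by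
  rintro ⟨y, hy⟩
  obtain ⟨x, rfl⟩ := Ideal.Quotient.mk_surjective y
  have hx : x ∈ RingHom.ker p.toAlgHom := hy
  exact ⟨⟨x, hx⟩, Subtype.ext rfl⟩

noncomputable def psi : k →ₗ[k] ↥(RingHom.ker (tq p hp b i).toAlgHom) :=
  LinearMap.toSpanSingleton k _ (gmap p hp b i (b i))

lemma psi_apply (a : k) : psi p hp b i a = a • gmap p hp b i (b i) := rfl

lemma psi_bijective : Function.Bijective (psi p hp b i) := by
  constructor
  · rw [← LinearMap.ker_eq_bot, LinearMap.ker_eq_bot']
    intro a ha
    rw [psi_apply, ← map_smul, gmap_eq_zero_iff, map_smul] at ha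
    simpa using ha
  · intro y
    obtain ⟨x, rfl⟩ := gmap_surjective p hp b i y
    exact ⟨b.coord i x, (gmap_eq p hp b i x).symm⟩

noncomputable def phi : ↥(RingHom.ker (tq p hp b i).toAlgHom) ≃ₗ[k] k :=
  (LinearEquiv.ofBijective (psi p hp b i) (psi_bijective p hp b i)).symm

lemma phi_gmap (x : ↥(RingHom.ker p.toAlgHom)) : phi p hp b i (gmap p hp b i x) = b.coord i x := by
  unfold phi
  rw [LinearEquiv.symm_apply_eq, LinearEquiv.ofBijective_apply, psi_apply]
  exact gmap_eq p hp b i x

lemma isSmallExt_tq : IsSmallExt (tq p hp b i) := by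
  have hne : gmap p hp b i (b i) ≠ 0 := by
    rw [Ne, gmap_eq_zero_iff]
    simp
  refine ⟨?_, ?_, ?_, ?_⟩
  · intro c
    obtain ⟨x, rfl⟩ := hp.1 c
    exact ⟨Ideal.Quotient.mk _ x, rfl⟩
  · intro h
    apply hne
    have h2 : ∀ y ∈ RingHom.ker (tq p hp b i).toAlgHom, y = 0 := fun y hy => by
      rw [h, Ideal.mem_bot] at hy
      exact hy
    exact Subtype.ext (h2 _ (gmap p hp b i (b i)).2)
  · refine ⟨⟨((gmap p hp b i (b i) : ↥(RingHom.ker (tq p hp b i).toAlgHom)) :
      quot C' (Kid p hp b i) (Kid_le_max p hp b i)), ?_⟩⟩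
    apply le_antisymm
    · intro y hy
      obtain ⟨x, hx⟩ := gmap_surjective p hp b i ⟨y, hy⟩
      have h1 := gmap_eq p hp b i x
      rw [hx] at h1
      have h2 := congrArg Subtype.val h1
      change y = _ at h2
      rw [h2]
      rw [Submodule.mem_span_singleton]
      refine ⟨algebraMap k _ (b.coord i x), ?_⟩
      rw [smul_eq_mul, ← Algebra.smul_def]
      rfl
    · rw [Submodule.span_le, Set.singleton_subset_iff]
      exact (gmap p hp b i (b i)).2
  · rw [eq_bot_iff, Ideal.mul_le]
    intro n hn y hy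
    obtain ⟨n', rfl⟩ := Ideal.Quotient.mk_surjective n
    obtain ⟨y', rfl⟩ := Ideal.Quotient.mk_surjective y
    have hy' : y' ∈ RingHom.ker p.toAlgHom := hy
    have hn2 : (quot C' (Kid p hp b i) (Kid_le_max p hp b i)).res
        (Ideal.Quotient.mk (Kid p hp b i) n') = 0 := (mem_maximalIdeal_iff _ _).1 hn
    have hn' : n' ∈ IsLocalRing.maximalIdeal C' := (mem_maximalIdeal_iff C' n').2 hn2
    have : n' * y' ∈ IsLocalRing.maximalIdeal C' * RingHom.ker p.toAlgHom :=
      Ideal.mul_mem_mul hn' hy'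
    rw [hp.2, Ideal.mem_bot] at this
    rw [Ideal.mem_bot]
    exact ((map_mul (Ideal.Quotient.mk (Kid p hp b i)) n' y').symm.trans
      ((congrArg _ this).trans (map_zero _)))

end Main

theorem main {F : ArtFun.Art k k ⥤ Type v} {V : Type u} [AddCommGroup V] [Module k V]
    (T : ArtFun.ObsTheory F V) {C' C : ArtFun.Art k k} (p : C' ⟶ C) (hp : ArtFun.Art.IsSemismallExt p)
    (u : F.obj C) :
    T.obs p hp u ∈ LinearMap.range (LinearMap.rTensor (↥(RingHom.ker p.toAlgHom))
      (Submodule.span k {v : V | ∃ (B' B : ArtFun.Art k k) (t : B' ⟶ B) (ht : ArtFun.Art.IsSmallExt t)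
          (w : F.obj B) (φ : ↥(RingHom.ker t.toAlgHom) ≃ₗ[k] k),
          v = TensorProduct.rid k V (LinearMap.lTensor V φ.toLinearMap (T.obs t ht.isSemismallExt w))}).subtype) := by
  classical
  set Ω := Submodule.span k {v : V | ∃ (B' B : ArtFun.Art k k) (t : B' ⟶ B) (ht : ArtFun.Art.IsSmallExt t)
          (w : F.obj B) (φ : ↥(RingHom.ker t.toAlgHom) ≃ₗ[k] k),
          v = TensorProduct.rid k V (LinearMap.lTensor V φ.toLinearMap (T.obs t ht.isSemismallExt w))}
    with hΩ
  let b := Module.Basis.ofVectorSpace k ↥(RingHom.ker p.toAlgHom)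
  have hc : ∀ i, TensorProduct.equivFinsuppOfBasisRight b (T.obs p hp u) i ∈ Ω := by
    intro i
    rw [TensorProduct.equivFinsuppOfBasisRight_apply]
    apply Submodule.subset_span
    refine ⟨quot C' (Kid p hp b i) (Kid_le_max p hp b i), C, tq p hp b i, isSmallExt_tq p hp b i, u,
      phi p hp b i, ?_⟩
    rw [T.obs_quot p hp (Kid p hp b i) (Kid_le_max p hp b i) (Kid_le_ker p hp b i)
      (isSmallExt_tq p hp b i).isSemismallExt u]
    have hcomp : (phi p hp b i).toLinearMap ∘ₗ gmap p hp b i = b.coord i := by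
      ext x
      exact phi_gmap p hp b i x
    rw [← LinearMap.comp_apply, ← LinearMap.lTensor_comp, hcomp]
  have hω : T.obs p hp u = (TensorProduct.equivFinsuppOfBasisRight b).symm
      (TensorProduct.equivFinsuppOfBasisRight b (T.obs p hp u)) :=
    (LinearEquiv.symm_apply_apply _ _).symm
  rw [hω, TensorProduct.equivFinsuppOfBasisRight_symm_apply]
  refine Submodule.sum_mem _ fun i _ => ?_
  exact ⟨⟨_, hc i⟩ ⊗ₜ b i, by simp⟩


end Aux

/-- For obstruction theories of functors in the vector-space form, let k be a field, F a functor on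
Artinian local k-algebras with residue field k and (V, ω) an obstruction theory for F — for each
surjection p : C' → C whose kernel J is killed by the maximal ideal and each u ∈ F(C) an obstruction
ω(p, u) ∈ V ⊗_k J, zero exactly when u lifts, and compatible with replacing C' → C by C'/K → C for
ideals K ≤ J. Let Ω ⊆ V be the subspace spanned by the obstructions along tiny extensions (those p
whose kernel is one-dimensional), transported into V by the isomorphisms V ⊗ J ≅ V coming from
linear isomorphisms J ≅ k. Then for every p and u the obstruction ω(p, u) lies in the image of Ω ⊗_k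
J → V ⊗_k J. (The published statement is for deformation categories and obstruction theories
functorial along all morphisms of extensions; this row assumes functoriality along quotients C'/K
only, which is all its proof uses, and no condition on F.) -/
theorem result {k : Type u} [Field k]
    {F : ArtFun.Art k k ⥤ Type v} {V : Type u} [AddCommGroup V] [Module k V]
    (T : ArtFun.ObsTheory F V) {C' C : ArtFun.Art k k} (p : C' ⟶ C) (hp : ArtFun.Art.IsSemismallExt p)
    (u : F.obj C) :
    T.obs p hp u ∈ LinearMap.range (LinearMap.rTensor (↥(RingHom.ker p.toAlgHom))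
      (Submodule.span k {v : V | ∃ (B' B : ArtFun.Art k k) (t : B' ⟶ B) (ht : ArtFun.Art.IsSmallExt t)
          (w : F.obj B) (φ : ↥(RingHom.ker t.toAlgHom) ≃ₗ[k] k),
          v = TensorProduct.rid k V (LinearMap.lTensor V φ.toLinearMap (T.obs t ht.isSemismallExt w))}).subtype) := by
  exact main T p hp u

end Groth.Agent.S13978
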