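import Groth.Statements.S13985
-- import your own Groth.Agent.* helpers here

set_option autoImplicit false
universe u
open CategoryTheory
open CohGab

namespace Groth.Agent.S13985

/-- For a ring A, the canonical map from the centre of A to the centre of the category of finitely
generated left A-modules (the endomorphism ring of its identity functor), sending a to
multiplication by a, is bijective: every natural endomorphism of the identity functor acts on each
finitely generated module as multiplication by a unique element of A, and that element is central.
(The published statement calls this map an isomorphism of commutative rings; this row states its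
bijectivity.) -/
theorem result (A : Type u) [Ring A]
    (φ : 𝟭 (FGModuleCat.{u} A) ⟶ 𝟭 (FGModuleCat.{u} A)) :
    ∃! a : A, a ∈ Subring.center A ∧
      ∀ (M : FGModuleCat.{u} A) (x : M), (φ.app M).hom.hom x = a • x := by
  let AA : FGModuleCat.{u} A := FGModuleCat.of A A
  let a : A := (φ.app AA).hom.hom (1 : A)
  -- morphisms out of AA
  have key : ∀ (M : FGModuleCat.{u} A) (x : M), (φ.app M).hom.hom x = a • x := by
    intro M x
    let ρ : AA ⟶ M := ObjectProperty.homMk (ModuleCat.ofHom (LinearMap.toSpanSingleton A M x))
    have hnat := φ.naturality ρ
    have h2 := congrArg (fun f : AA ⟶ M => f.hom.hom (1 : A)) hnat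
    simp only [Functor.id_obj, Functor.id_map, FGModuleCat.hom_hom_comp, LinearMap.coe_comp,
      Function.comp_apply] at h2
    have hρ : ∀ r : A, ρ.hom.hom r = r • x := fun r => rfl
    rw [hρ, hρ, one_smul] at h2
    exact h2
  refine ⟨a, ⟨?_, key⟩, ?_⟩
  · rw [Subring.mem_center_iff]
    intro b
    -- φ_AA (b) = a * b by key; and = b * a by linearity
    have h1 : (φ.app AA).hom.hom b = a • b := key AA b
    have h2 : (φ.app AA).hom.hom b = b • a := by
      have : b = b • (1 : A) := by simp
      conv_lhs => rw [this]
      rw [map_smul]
    rw [smul_eq_mul] at h1 h2
    rw [← h1, h2]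
  · rintro a' ⟨-, ha'⟩
    have := ha' AA (1 : A)
    rw [smul_eq_mul, mul_one] at this
    exact this.symm

end Groth.Agent.S13985
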