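import Groth.Statements.S13986
import Groth.Agent.Lib.Helper6.DevStep

set_option autoImplicit false
universe u
open CategoryTheory AlgebraicGeometry
open CohGab

namespace Groth.Agent.S13986

/-- Let X be a Noetherian scheme and F, E coherent O_X-modules. Then E lies in the smallest Serre
subcategory of Coh(X) containing F — that is, E has every property P of O_X-modules such that P
holds for F and P is a Serre class on coherent modules (for a short exact sequence of coherent
modules the middle term has P iff both outer terms do) — if and only if Supp(E) ⊆ Supp(F).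
Equivalently: for a closed subset Z, the coherent modules supported in Z form the Serre subcategory
generated by any coherent module whose support is exactly Z. (The published statement is about
coherent sheaves twisted by a class in the second etale cohomology group of the units of the
structure sheaf; this row is its case of the trivial class, ordinary coherent sheaves.) -/
theorem result (X : Scheme.{u}) [IsNoetherian X]
    (F E : X.Modules) (hF : Coh.IsCoh F) (hE : Coh.IsCoh E) :
    (∀ P : ObjectProperty X.Modules, P F →
      (∀ S : ShortComplex X.Modules, S.ShortExact → Coh.IsCoh S.X₁ → Coh.IsCoh S.X₂ →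
        Coh.IsCoh S.X₃ → (P S.X₂ ↔ P S.X₁ ∧ P S.X₃)) → P E) ↔
    CohB1.support E ⊆ CohB1.support F := by
  constructor
  · intro h
    refine h (fun M => CohB1.support M ⊆ CohB1.support F) (le_refl _) ?_
    intro S hS _ _ _
    change CohB1.support S.X₂ ⊆ _ ↔ CohB1.support S.X₁ ⊆ _ ∧ CohB1.support S.X₃ ⊆ _
    rw [Groth.Agent.S0796.support_eq_union S hS, Set.union_subset_iff]
  · intro hsupp P hPF hP
    -- the class of modules which have `P` as soon as they are coherent
    let K' : ObjectProperty X.Modules := fun M => Coh.IsCoh M → P M
    haveI : K'.IsClosedUnderIsomorphisms := ⟨fun {M N} e hM hN =>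
      Groth.Agent.Lib.Helper6.DevStep.serre_iso P hP F hF hPF e
        (Groth.Agent.Lib.Helper6.DevCore.isCoh_of_iso e.symm hN)
        (hM (Groth.Agent.Lib.Helper6.DevCore.isCoh_of_iso e.symm hN))⟩
    have key : K' E := by
      refine Groth.Agent.Lib.Helper6.DevCore.devissage_core K'
        (fun S hS h1 h2 h3 k1 k3 _ => (hP S hS h1 h2 h3).2 ⟨k1 h1, k3 h3⟩)
        (fun M hz hM => Groth.Agent.Lib.Helper6.DevStep.serre_zero P hP F hF hPF M hM hz)
        (CohB1.support F) ?_ (Groth.Agent.Lib.Helper6.DevCore.isClosed_support F hF) E hE hsupp
      intro Z hZ hirr hZF y hy IH Q hQ hQZ hyQ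
      have hyZ : y ∈ Z := hy ▸ subset_closure (Set.mem_singleton y)
      obtain ⟨S, i, hi, hS, hPS, hyS⟩ := Groth.Agent.Lib.Helper6.DevStep.step_serre P hP F hF hPF Z y hy
        (hZF hyZ) (fun N hN hNZ hyN => IH N hN hNZ hyN hN) Q hQ hQZ hyQ
      exact ⟨S, i, hi, hS, fun _ => hPS, hyS⟩
    exact key hE

end Groth.Agent.S13986
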