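import Groth.Statements.S13988
import Groth.Agent.Lib.Helper6.DevCentre

set_option autoImplicit false
universe u
open CategoryTheory AlgebraicGeometry
open CohGab

namespace Groth.Agent.S13988

/-- Let X be a Noetherian scheme. The canonical ring map from the global functions Γ(X, O_X) to the
centre of the category of coherent O_X-modules (the endomorphisms of its identity functor), sending
r to multiplication by r, is bijective: for every natural endomorphism φ of the identity functor of
Coh(X) there is a unique global function r such that, for every coherent module M, φ_M is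
multiplication by r (compared as maps of the underlying abelian sheaves). (The published result
builds a ringed space from Coh(X) — irreducible Serre subcategories of finite type, with the centres
of the categories Coh(U) as structure sheaf — and proves it isomorphic to X, for coherent sheaves
twisted by a class in the cohomological Brauer group and with X over a field, a hypothesis its proof
does not use; this row is the ring-theoretic content of that isomorphism on global sections, for the
trivial class; applied to the open subschemes of X it gives the statement on every open.) -/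
theorem result (X : Scheme.{u}) [IsNoetherian X]
    (φ : 𝟭 (ObjectProperty.FullSubcategory (fun M : X.Modules => Coh.IsCoh M)) ⟶ 𝟭 (ObjectProperty.FullSubcategory (fun M : X.Modules => Coh.IsCoh M))) :
    ∃! r : Coh.Γtop X, ∀ M : ObjectProperty.FullSubcategory (fun M : X.Modules => Coh.IsCoh M),
      (SheafOfModules.toSheaf X.ringCatSheaf).map (φ.app M).hom = Coh.smulAb M.obj r := by
  open Groth.Agent.Lib.Helper6.DevCentre Groth.Agent.Lib.Helper17.StalkExact Groth.Agent.Lib.Helper6.DevSub
    Groth.Agent.Lib.Helper6.DevRed in
  -- the key identity on sections
  have key : ∀ (M : X.Modules) (hM : Coh.IsCoh M) (U : X.Opens) (m : Γ(M, U)),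
      (comp φ M hM).app U m = (X.presheaf.map (homOfLE (le_top : U ≤ ⊤)).op (rr φ) • m : Γ(M, U)) := by
    intro M hM U m
    refine TopCat.Presheaf.section_ext ((SheafOfModules.toSheaf.{u} X.ringCatSheaf).obj M) U _ _ (fun y hy => ?_)
    change M.presheaf.germ U y hy ((comp φ M hM).app U m) =
      M.presheaf.germ U y hy (X.presheaf.map (homOfLE (le_top : U ≤ ⊤)).op (rr φ) • m : Γ(M, U))
    rw [← stalkHom_germ, stalk_comp_eq_smul, germ_smul']
    congr 1
    exact (TopCat.Presheaf.germ_res_apply X.presheaf (homOfLE (le_top : U ≤ ⊤)) y hy (rr φ)).symm
  refine ⟨(show Coh.Γtop X from rr φ), ?_, ?_⟩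
  · intro M
    ext U m
    rw [Coh.smulAb_app]
    exact key M.obj M.property U.unop m
  · intro r' hr'
    have h1 := congrArg (fun g => g.hom.app (Opposite.op (⊤ : X.Opens))
      (show Γ(Coh.structureModule X, ⊤) from (1 : Γ(X, ⊤)))) (hr' (OO X))
    simp only [] at h1
    rw [Coh.smulAb_app] at h1
    have h2 : (show Γ(X, ⊤) from r') = rr φ := by
      have h3 : rr φ = ((show Γ(X, ⊤) from Coh.resTop X (Opposite.op ⊤) r') •
          (show Γ(Coh.structureModule X, ⊤) from (1 : Γ(X, ⊤))) : Γ(Coh.structureModule X, ⊤)) := h1
      rw [h3, Groth.Agent.Lib.Helper17.Serre.structureModule_smul]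
      change _ = (show Γ(X, ⊤) from Coh.resTop X (Opposite.op ⊤) r') * 1
      rw [mul_one]
      change r' = (X.presheaf.map (𝟙 _)) r'
      rw [X.presheaf.map_id]
      rfl
    exact h2

end Groth.Agent.S13988
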