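import Groth.Statements.S1399
-- import your own Groth.Agent.* helpers here
import Groth.Agent.Lib.Helper26.IndQuasiAffine

set_option autoImplicit false
universe u
open FlatMor

namespace Groth.Agent.S1399

open AlgebraicGeometry CategoryTheory Limits in
/-- If g ∘ f is ind-quasi-affine then so is f. -/
theorem result {X Y Z : Scheme.{u}} (f : X ⟶ Y) (g : Y ⟶ Z) (h : MoreMor.IsIndQuasiAffineHom (f ≫ g)) :
    MoreMor.IsIndQuasiAffineHom f := by
  open Groth.Agent.Lib.Helper26.IndQA Groth.Agent.Lib.Helper26.QuasiAffine in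
  rw [isIndQuasiAffineHom_iff] at h ⊢
  intro A j _ _ V hV hj
  have : IsAffine V := hV
  have hr : Set.range (j ≫ f) ⊆ Set.range V.ι := by
    rintro _ ⟨a, rfl⟩
    rw [Scheme.Opens.range_ι]
    exact hj ⟨a, rfl⟩
  have hfac : ∀ y : A, V.ι (IsOpenImmersion.lift V.ι (j ≫ f) hr y) = f (j y) := fun y ↦ by
    rw [← Scheme.Hom.comp_apply, IsOpenImmersion.lift_fac, Scheme.Hom.comp_apply]
  refine isQuasiAffine_of_locally (IsOpenImmersion.lift V.ι (j ≫ f) hr) fun x ↦ ?_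
  obtain ⟨W, hW, hxW, -⟩ := exists_isAffineOpen_mem_and_subset (x := g (f (j x))) (U := ⊤) trivial
  refine ⟨V.ι ⁻¹ᵁ (g ⁻¹ᵁ W), ?_, fun A' hA' hle ↦ ?_⟩
  · show g (V.ι _) ∈ W
    rw [hfac]
    exact hxW
  · have : CompactSpace A'.toScheme := isCompact_iff_compactSpace.mp hA'
    refine h A'.toScheme (A'.ι ≫ j) W hW ?_
    rintro _ ⟨a, rfl⟩
    have h1 : g (V.ι (IsOpenImmersion.lift V.ι (j ≫ f) hr (A'.ι a))) ∈ W := hle (show A'.ι a ∈ A' from a.2)
    rw [hfac] at h1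
    simpa using h1

end Groth.Agent.S1399
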