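import Groth.Statements.S13990
import Groth.Agent.Lib.Helper6.DevRed
import Groth.Agent.S13986

set_option autoImplicit false
universe u
open CategoryTheory AlgebraicGeometry
open CohGab

namespace Groth.Agent.S13990

/-- Let X be a Noetherian scheme. Then Z ↦ Coh_Z(X), the coherent O_X-modules with support contained in
Z, is a bijection from the closed subsets of X onto the Serre subcategories of finite type of Coh(X)
(those generated, as Serre subcategories, by one object). Spelled out with Serre subcategories of
Coh(X) as properties P of O_X-modules such that in a short exact sequence of coherent modules the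
middle term has P iff both outer terms do: (a) for every closed Z, 'support ⊆ Z' is such a property
and there is a coherent F supported in Z such that every such property containing F contains all
coherent modules supported in Z; (b) for every such property P generated on coherent modules by one
coherent module F, there is exactly one closed Z with P(M) ⟺ Supp(M) ⊆ Z for all coherent M. (The
published statement is about coherent sheaves twisted by a class in the second etale cohomology
group of the units of the structure sheaf; this row is its case of the trivial class.) -/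
theorem result (X : Scheme.{u}) [IsNoetherian X] :
    (∀ Z : TopologicalSpace.Closeds X,
      (∀ S : ShortComplex X.Modules, S.ShortExact → Coh.IsCoh S.X₁ → Coh.IsCoh S.X₂ →
          Coh.IsCoh S.X₃ → (CohB1.support S.X₂ ⊆ (↑Z : Set X) ↔
            CohB1.support S.X₁ ⊆ (↑Z : Set X) ∧ CohB1.support S.X₃ ⊆ (↑Z : Set X))) ∧
      ∃ F : X.Modules, Coh.IsCoh F ∧ CohB1.support F ⊆ (↑Z : Set X) ∧
        ∀ Q : ObjectProperty X.Modules, (∀ S : ShortComplex X.Modules, S.ShortExact → Coh.IsCoh S.X₁ → Coh.IsCoh S.X₂ →
          Coh.IsCoh S.X₃ → (Q S.X₂ ↔ Q S.X₁ ∧ Q S.X₃)) → Q F →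
          ∀ M : X.Modules, Coh.IsCoh M → CohB1.support M ⊆ (↑Z : Set X) → Q M) ∧
    (∀ P : ObjectProperty X.Modules, (∀ S : ShortComplex X.Modules, S.ShortExact → Coh.IsCoh S.X₁ → Coh.IsCoh S.X₂ →
          Coh.IsCoh S.X₃ → (P S.X₂ ↔ P S.X₁ ∧ P S.X₃)) →
      (∃ F : X.Modules, Coh.IsCoh F ∧ P F ∧
        ∀ Q : ObjectProperty X.Modules, (∀ S : ShortComplex X.Modules, S.ShortExact → Coh.IsCoh S.X₁ → Coh.IsCoh S.X₂ →
          Coh.IsCoh S.X₃ → (Q S.X₂ ↔ Q S.X₁ ∧ Q S.X₃)) → Q F →
          ∀ M : X.Modules, Coh.IsCoh M → P M → Q M) →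
      ∃! Z : TopologicalSpace.Closeds X, ∀ M : X.Modules, Coh.IsCoh M →
        (P M ↔ CohB1.support M ⊆ (↑Z : Set X))) := by
  classical
  open Groth.Agent.Lib.Helper6.DevCore Groth.Agent.Lib.Helper6.DevStep Groth.Agent.Lib.Helper6.DevRed in
  -- the support condition is a Serre class
  have hserre : ∀ (T : Set X) (S : ShortComplex X.Modules), S.ShortExact →
      (CohB1.support S.X₂ ⊆ T ↔ CohB1.support S.X₁ ⊆ T ∧ CohB1.support S.X₃ ⊆ T) := by
    intro T S hS
    rw [Groth.Agent.S0796.support_eq_union S hS, Set.union_subset_iff]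
  -- a coherent module with prescribed support
  have hT : ∀ Z : TopologicalSpace.Closeds X, ∃ F : X.Modules, Coh.IsCoh F ∧ CohB1.support F = (↑Z : Set X) :=
    fun Z => ⟨_, isCoh_quotMod _, support_quotMod_vanishingIdeal Z⟩
  refine ⟨fun Z => ⟨fun S hS _ _ _ => hserre _ S hS, ?_⟩, ?_⟩
  · obtain ⟨F, hF, hFs⟩ := hT Z
    refine ⟨F, hF, hFs.le, fun Q hQ hQF M hM hMZ => ?_⟩
    exact (Groth.Agent.S13986.result X F M hF hM).2 (hFs ▸ hMZ) Q hQF hQ
  · intro P hP ⟨F, hF, hPF, hgen⟩
    have hchar : ∀ M : X.Modules, Coh.IsCoh M → (P M ↔ CohB1.support M ⊆ CohB1.support F) := by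
      intro M hM
      constructor
      · intro hPM
        exact hgen (fun N => CohB1.support N ⊆ CohB1.support F) (fun S hS _ _ _ => hserre _ S hS)
          (le_refl _) M hM hPM
      · intro hs
        exact (Groth.Agent.S13986.result X F M hF hM).2 hs P hPF hP
    refine ⟨⟨CohB1.support F, isClosed_support F hF⟩, hchar, ?_⟩
    intro Z' hZ'
    obtain ⟨T', hT', hT's⟩ := hT Z'
    apply le_antisymm
    · -- Z' ⊆ Supp F
      have h1 : P T' := (hZ' T' hT').2 hT's.le
      have h2 := (hchar T' hT').1 h1
      rw [hT's] at h2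
      exact h2
    · have h1 : P F := hPF
      have h2 := (hZ' F hF).1 h1
      exact h2

end Groth.Agent.S13990
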