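import Groth.Statements.S13991
import Groth.Agent.Lib.Helper6.DevRed
import Groth.Agent.S13986

set_option autoImplicit false
universe u
open CategoryTheory AlgebraicGeometry
open CohGab

namespace Groth.Agent.S13991

/-- Let X be a Noetherian scheme and Z ⊆ X a closed subset. Then Z is irreducible (or empty) if and only
if Coh_Z(X), the coherent O_X-modules supported in Z, is an irreducible Serre subcategory of Coh(X),
i.e. it is not generated as a Serre subcategory by two Serre subcategories properly contained in it: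
whenever J₁, J₂ are Serre classes on coherent modules (middle term of a short exact sequence of
coherent modules belongs iff both outer terms do), both contained in Coh_Z, such that every Serre
class on coherent modules containing J₁ and J₂ contains Coh_Z, then J₁ or J₂ contains Coh_Z.
Consequently the points of X correspond to the irreducible Serre subcategories of finite type other
than the zero subcategory. (The published statement says 'Z is irreducible iff Coh_Z is irreducible'
and deduces a bijection between the points of X and all irreducible Serre subcategories of finite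
type; the zero subcategory Coh_∅ is irreducible in this sense while ∅ is not an irreducible space,
so irreducibility of Z is read here as 'irreducible or empty'. The published statement is also about
coherent sheaves twisted by a class in the second etale cohomology group of the units of the
structure sheaf; this row is its case of the trivial class.) -/
theorem result (X : Scheme.{u}) [IsNoetherian X]
    (Z : TopologicalSpace.Closeds X) :
    IsPreirreducible (↑Z : Set X) ↔
    ∀ J₁ J₂ : ObjectProperty X.Modules, (∀ S : ShortComplex X.Modules, S.ShortExact → Coh.IsCoh S.X₁ → Coh.IsCoh S.X₂ →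
        Coh.IsCoh S.X₃ → (J₁ S.X₂ ↔ J₁ S.X₁ ∧ J₁ S.X₃)) → (∀ S : ShortComplex X.Modules, S.ShortExact → Coh.IsCoh S.X₁ → Coh.IsCoh S.X₂ →
        Coh.IsCoh S.X₃ → (J₂ S.X₂ ↔ J₂ S.X₁ ∧ J₂ S.X₃)) →
      (∀ M : X.Modules, Coh.IsCoh M → J₁ M → CohB1.support M ⊆ (↑Z : Set X)) →
      (∀ M : X.Modules, Coh.IsCoh M → J₂ M → CohB1.support M ⊆ (↑Z : Set X)) →
      (∀ Q : ObjectProperty X.Modules, (∀ S : ShortComplex X.Modules, S.ShortExact → Coh.IsCoh S.X₁ → Coh.IsCoh S.X₂ →
        Coh.IsCoh S.X₃ → (Q S.X₂ ↔ Q S.X₁ ∧ Q S.X₃)) →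
        (∀ M : X.Modules, Coh.IsCoh M → J₁ M → Q M) → (∀ M : X.Modules, Coh.IsCoh M → J₂ M → Q M) →
        ∀ M : X.Modules, Coh.IsCoh M → CohB1.support M ⊆ (↑Z : Set X) → Q M) →
      (∀ M : X.Modules, Coh.IsCoh M → CohB1.support M ⊆ (↑Z : Set X) → J₁ M) ∨
        (∀ M : X.Modules, Coh.IsCoh M → CohB1.support M ⊆ (↑Z : Set X) → J₂ M) := by
  classical
  open Groth.Agent.Lib.Helper6.DevCore Groth.Agent.Lib.Helper6.DevStep Groth.Agent.Lib.Helper6.DevRed in
  have hserre : ∀ (T : Set X) (S : ShortComplex X.Modules), S.ShortExact →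
      (CohB1.support S.X₂ ⊆ T ↔ CohB1.support S.X₁ ⊆ T ∧ CohB1.support S.X₃ ⊆ T) := by
    intro T S hS
    rw [Groth.Agent.S0796.support_eq_union S hS, Set.union_subset_iff]
  -- a coherent module with support exactly `Z`
  obtain ⟨T, hT, hTs⟩ : ∃ F : X.Modules, Coh.IsCoh F ∧ CohB1.support F = (↑Z : Set X) :=
    ⟨_, isCoh_quotMod _, support_quotMod_vanishingIdeal Z⟩
  constructor
  · intro hpre J₁ J₂ hJ₁ hJ₂ hJ₁Z hJ₂Z hgen
    -- a Serre class containing a coherent module whose support is `Z` contains everything supported in `Z`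
    have hfull : ∀ (J : ObjectProperty X.Modules), (∀ S : ShortComplex X.Modules, S.ShortExact →
        Coh.IsCoh S.X₁ → Coh.IsCoh S.X₂ → Coh.IsCoh S.X₃ → (J S.X₂ ↔ J S.X₁ ∧ J S.X₃)) →
        ∀ M₀ : X.Modules, Coh.IsCoh M₀ → J M₀ → (↑Z : Set X) ⊆ CohB1.support M₀ →
        ∀ M : X.Modules, Coh.IsCoh M → CohB1.support M ⊆ (↑Z : Set X) → J M := by
      intro J hJ M₀ hM₀ hJM₀ hZM₀ M hM hMZ
      exact (Groth.Agent.S13986.result X M₀ M hM₀ hM).2 (hMZ.trans hZM₀) J hJM₀ hJ
    by_cases hne : (↑Z : Set X).Nonempty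
    · have hirr : IsIrreducible (↑Z : Set X) := ⟨hne, hpre⟩
      obtain ⟨y, hy⟩ := QuasiSober.sober hirr Z.isClosed
      have hyZ : y ∈ (↑Z : Set X) := hy.mem
      by_cases h1 : ∃ M₀ : X.Modules, Coh.IsCoh M₀ ∧ J₁ M₀ ∧ y ∈ CohB1.support M₀
      · obtain ⟨M₀, hM₀, hJM₀, hyM₀⟩ := h1
        left
        refine hfull J₁ hJ₁ M₀ hM₀ hJM₀ ?_
        rw [← hy.def]
        exact (isClosed_support M₀ hM₀).closure_subset_iff.2 (Set.singleton_subset_iff.2 hyM₀)
      by_cases h2 : ∃ M₀ : X.Modules, Coh.IsCoh M₀ ∧ J₂ M₀ ∧ y ∈ CohB1.support M₀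
      · obtain ⟨M₀, hM₀, hJM₀, hyM₀⟩ := h2
        right
        refine hfull J₂ hJ₂ M₀ hM₀ hJM₀ ?_
        rw [← hy.def]
        exact (isClosed_support M₀ hM₀).closure_subset_iff.2 (Set.singleton_subset_iff.2 hyM₀)
      exfalso
      have hQ := hgen (fun M => y ∉ CohB1.support M) (by
        intro S hS _ _ _
        change y ∉ CohB1.support S.X₂ ↔ y ∉ CohB1.support S.X₁ ∧ y ∉ CohB1.support S.X₃
        rw [Groth.Agent.S0796.support_eq_union S hS, Set.mem_union, not_or])
        (fun M hM hJM hyM => h1 ⟨M, hM, hJM, hyM⟩) (fun M hM hJM hyM => h2 ⟨M, hM, hJM, hyM⟩)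
        T hT hTs.le
      exact hQ (hTs ▸ hyZ)
    · rw [Set.not_nonempty_iff_eq_empty] at hne
      by_cases h1 : ∃ M₀ : X.Modules, Coh.IsCoh M₀ ∧ J₁ M₀
      · obtain ⟨M₀, hM₀, hJM₀⟩ := h1
        left
        exact hfull J₁ hJ₁ M₀ hM₀ hJM₀ (hne ▸ Set.empty_subset _)
      by_cases h2 : ∃ M₀ : X.Modules, Coh.IsCoh M₀ ∧ J₂ M₀
      · obtain ⟨M₀, hM₀, hJM₀⟩ := h2
        right
        exact hfull J₂ hJ₂ M₀ hM₀ hJM₀ (hne ▸ Set.empty_subset _)
      exfalso
      exact hgen (fun _ => False) (fun S _ _ _ _ => by simp)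
        (fun M hM hJM => h1 ⟨M, hM, hJM⟩) (fun M hM hJM => h2 ⟨M, hM, hJM⟩) T hT hTs.le
  · intro h
    by_contra hpre
    rw [isPreirreducible_iff_isClosed_union_isClosed] at hpre
    push_neg at hpre
    obtain ⟨z₁, z₂, hz₁, hz₂, hcov, hn1, hn2⟩ := hpre
    have key := h (fun M => CohB1.support M ⊆ (↑Z : Set X) ∩ z₁) (fun M => CohB1.support M ⊆ (↑Z : Set X) ∩ z₂)
      (fun S hS _ _ _ => hserre _ S hS) (fun S hS _ _ _ => hserre _ S hS)
      (fun M _ hM => hM.trans Set.inter_subset_left) (fun M _ hM => hM.trans Set.inter_subset_left)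
      (by
        intro Q hQ hQ1 hQ2 M hM hMZ
        have hcl := isClosed_support M hM
        have hunion : CohB1.support M = (CohB1.support M ∩ z₁) ∪ (CohB1.support M ∩ z₂) := by
          rw [← Set.inter_union_distrib_left]
          exact (Set.inter_eq_left.2 (hMZ.trans hcov)).symm
        obtain ⟨S, hS, ⟨e⟩, hS1, hS3, hs1, hs3⟩ := Groth.Agent.S0049.result X M hM
          (CohB1.support M ∩ z₁) (CohB1.support M ∩ z₂) (hcl.inter hz₁) (hcl.inter hz₂) hunion
        have hS2 : Coh.IsCoh S.X₂ := isCoh_of_iso e.symm hM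
        have q1 : Q S.X₁ := hQ2 S.X₁ hS1 (hs1.trans (Set.inter_subset_inter_left _ hMZ))
        have q3 : Q S.X₃ := hQ1 S.X₃ hS3 (hs3.trans (Set.inter_subset_inter_left _ hMZ))
        have q2 : Q S.X₂ := (hQ S hS hS1 hS2 hS3).2 ⟨q1, q3⟩
        exact serre_iso Q hQ S.X₂ hS2 q2 e hS2 q2)
    rcases key with k | k
    · have := k T hT hTs.le
      rw [hTs] at this
      exact hn1 (this.trans Set.inter_subset_right)
    · have := k T hT hTs.le
      rw [hTs] at this
      exact hn2 (this.trans Set.inter_subset_right)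

end Groth.Agent.S13991
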