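import Groth.Statements.S6295
import Mathlib.RingTheory.KrullDimension.Zero
import Mathlib.RingTheory.LocalProperties.Reduced
import Mathlib.RingTheory.Ideal.MinimalPrime.Localization

set_option autoImplicit false
universe u
open CAlg

namespace Groth.Agent.S6295

theorem exists_minimalPrime_notMem (R : Type u) [CommRing R] [IsReduced R] (y : R) (hy : y ≠ 0) :
    ∃ p ∈ minimalPrimes R, y ∉ p := by
  by_contra hcon
  push Not at hcon
  apply hy
  have : y ∈ sInf (minimalPrimes R) := by
    rw [Submodule.mem_sInf]
    exact hcon
  rw [minimalPrimes, Ideal.sInf_minimalPrimes] at this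
  have h2 : (⊥ : Ideal R).radical = ⊥ := by
    have := nilradical_eq_zero R
    rwa [nilradical, Ideal.zero_eq_bot] at this
  rw [h2] at this
  exact this

/-- Let R be a reduced ring. Then every localization R_p at a minimal prime p is a field and the map R →
∏_{p minimal} R_p is injective (so R is a subring of a product of fields); moreover the set of
zerodivisors of R is the union of the minimal primes. -/
theorem result (R : Type u) [CommRing R] [IsReduced R] : (∀ p : PrimeSpectrum R, p.asIdeal ∈ minimalPrimes R → IsField (Localization.AtPrime p.asIdeal)) ∧ Function.Injective (algebraMap R (∀ p : {p : PrimeSpectrum R // p.asIdeal ∈ minimalPrimes R}, Localization.AtPrime p.1.asIdeal)) ∧ (∀ x : R, x ∉ nonZeroDivisors R ↔ ∃ p ∈ minimalPrimes R, x ∈ p) := by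
  refine ⟨?_, ?_, ?_⟩
  · intro p hp
    have : Ring.KrullDimLE 0 (Localization.AtPrime p.asIdeal) :=
      Ring.KrullDimLE.of_isLocalization p.asIdeal hp _
    exact Ring.KrullDimLE.isField_of_isReduced
  · rw [injective_iff_map_eq_zero]
    intro x hx
    by_contra hx0
    obtain ⟨p, hp, hxp⟩ := exists_minimalPrime_notMem R x hx0
    have : p.IsPrime := hp.1.1
    have := congrFun hx ⟨⟨p, inferInstance⟩, hp⟩
    rw [Pi.algebraMap_apply, Pi.zero_apply, IsLocalization.map_eq_zero_iff p.primeCompl] at this
    obtain ⟨s, hs⟩ := this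
    rcases ‹p.IsPrime›.mem_or_mem (show (s : R) * x ∈ p by rw [hs]; exact p.zero_mem) with h | h
    · exact s.2 h
    · exact hxp h
  · intro x
    constructor
    · intro hx
      rw [mem_nonZeroDivisors_iff_right] at hx
      push Not at hx
      obtain ⟨y, hyx, hy⟩ := hx
      obtain ⟨p, hp, hyp⟩ := exists_minimalPrime_notMem R y hy
      refine ⟨p, hp, ?_⟩
      rcases hp.1.1.mem_or_mem (show y * x ∈ p by rw [hyx]; exact p.zero_mem) with h | h
      · exact absurd h hyp
      · exact h
    · rintro ⟨p, hp, hxp⟩
      exact notMem_nonZeroDivisors_of_mem_mem_minimalPrimes hxp hp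

end Groth.Agent.S6295
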