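import Groth.Statements.S13996
import Groth.Agent.S6295
import Mathlib.RingTheory.Ideal.AssociatedPrime.Basic
import Mathlib.RingTheory.Ideal.MinimalPrime.Noetherian
import Mathlib.RingTheory.Ideal.Operations

set_option autoImplicit false
universe u
open CAlg

namespace Groth.Agent.S13996

/-- Let R be a reduced Noetherian local ring of Krull dimension one with maximal ideal m, and M a
non-zero finitely generated R-module. Then M is torsion-free in the sense that no element of m which
is a non-zero-divisor on R is a zero-divisor on M, if and only if M has depth one, i.e. some element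
of m is a non-zero-divisor on M. (The published statement is for a non-zero coherent sheaf F on a
connected reduced projective curve over a characteristic-zero algebraically closed field and asserts
the equivalence of: F torsion-free in the above sense at every closed point; F pure of dimension
one; depth of F_p equal to one at every closed point p. This row is the equivalence of the first and
third conditions at a single closed point p with F_p ≠ 0; at points outside the support the third
condition as published cannot hold, so the row assumes the stalk non-zero.) -/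
theorem result (R : Type u) [CommRing R] [IsLocalRing R] [IsNoetherianRing R] [IsReduced R] (hdim : ringKrullDim R = 1) (M : Type u) [AddCommGroup M] [Module R M] [Module.Finite R M] [Nontrivial M] : (∀ r : R, r ∈ IsLocalRing.maximalIdeal R → IsSMulRegular R r → IsSMulRegular M r) ↔ (∃ x : R, x ∈ IsLocalRing.maximalIdeal R ∧ IsSMulRegular M x) := by
  have hle1 : Ring.KrullDimLE 1 R := Ring.krullDimLE_iff.mpr (by rw [hdim]; rfl)
  have hnle0 : ¬ Ring.KrullDimLE 0 R := by
    intro h0
    have := Ring.krullDimLE_iff.mp h0
    rw [hdim] at this
    exact absurd this (by decide)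
  have hA : ∀ I : Ideal R, I.IsPrime → I ∈ minimalPrimes R ∨ I.IsMaximal :=
    Ring.krullDimLE_one_iff.mp hle1
  have hB : IsLocalRing.maximalIdeal R ∉ minimalPrimes R := by
    intro hmin
    apply hnle0
    rw [Ring.krullDimLE_zero_iff]
    intro I hI
    have hIle : I ≤ IsLocalRing.maximalIdeal R := IsLocalRing.le_maximalIdeal hI.ne_top
    have := hmin.2 ⟨hI, bot_le⟩ hIle
    rw [le_antisymm hIle this]
    exact IsLocalRing.maximalIdeal.isMaximal R
  have hC := (Groth.Agent.S6295.result R).2.2
  have hreg : ∀ r : R, IsSMulRegular R r ↔ r ∈ nonZeroDivisors R := by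
    intro r
    rw [isSMulRegular_iff_right_eq_zero_of_smul, mem_nonZeroDivisors_iff_right]
    constructor
    · intro h x hx
      exact h x (by rwa [smul_eq_mul, mul_comm])
    · intro h x hx
      exact h x (by rwa [smul_eq_mul, mul_comm] at hx)
  constructor
  · intro h
    have hfin := minimalPrimes.finite_of_isNoetherianRing R
    have hnot : ¬ ((IsLocalRing.maximalIdeal R : Set R) ⊆ ⋃ p ∈ minimalPrimes R, (p : Set R)) := by
      intro hsub
      obtain ⟨p, hp, hle⟩ := (Ideal.subset_union_prime_finite hfin (f := id) ⊥ ⊥
        (fun p hp _ _ => hp.1.1)).mp hsub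
      have hpm : p = IsLocalRing.maximalIdeal R :=
        le_antisymm (IsLocalRing.le_maximalIdeal hp.1.1.ne_top) hle
      exact hB (hpm ▸ hp)
    obtain ⟨r, hrm, hr⟩ := Set.not_subset.mp hnot
    refine ⟨r, hrm, h r hrm ?_⟩
    rw [hreg]
    by_contra hnz
    obtain ⟨p, hp, hrp⟩ := (hC r).mp hnz
    exact hr (Set.mem_biUnion hp hrp)
  · rintro ⟨x, hxm, hx⟩ r hrm hr
    rw [isSMulRegular_iff_right_eq_zero_of_smul]
    intro m hm
    by_contra hm0
    have hrmem : r ∈ ⋃ p ∈ associatedPrimes R M, (p : Set R) := by
      rw [biUnion_associatedPrimes_eq_zero_divisors]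
      exact ⟨m, hm0, hm⟩
    simp only [Set.mem_iUnion] at hrmem
    obtain ⟨p, hp, hrp⟩ := hrmem
    rcases hA p hp.isPrime with hmin | hmax
    · have := (hC r).mpr ⟨p, hmin, hrp⟩
      exact this ((hreg r).mp hr)
    · have hpm : p = IsLocalRing.maximalIdeal R := IsLocalRing.eq_maximalIdeal hmax
      have hxmem : x ∈ ⋃ p ∈ associatedPrimes R M, (p : Set R) :=
        Set.mem_biUnion hp (hpm ▸ hxm)
      rw [biUnion_associatedPrimes_eq_zero_divisors] at hxmem
      obtain ⟨m', hm'0, hm'⟩ := hxmem
      exact hm'0 (hx.right_eq_zero_of_smul hm')

end Groth.Agent.S13996
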