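import Groth.Statements.S14004
import Groth.Agent.Lib.Helper15.ThickSmooth
import Groth.Agent.Lib.Helper15.SmoothNilLift
-- import your own Groth.Agent.* helpers here

set_option autoImplicit false
universe u
open CategoryTheory AlgebraicGeometry
open FSch

namespace Groth.Agent.S14004

section H
namespace W1
open Groth.Agent.Lib.Helper15

theorem main (𝔛 𝔜 : FSch.Sys.{u}) (h𝔜 : 𝔜.IsLocNoethFormal) (f : 𝔛 ⟶ 𝔜) (hf : FSch.IsAdicHom f)
    (hflat : ∀ n : ℕ, Flat ((f : FSch.Hom 𝔛 𝔜).app n)) :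
    (∀ n : ℕ, AlgebraicGeometry.Smooth ((f : FSch.Hom 𝔛 𝔜).app n)) ↔
      AlgebraicGeometry.Smooth ((f : FSch.Hom 𝔛 𝔜).app 0) := by
  refine ⟨fun h => h 0, fun h0 n => ?_⟩
  induction n with
  | zero => exact h0
  | succ n ih =>
    haveI := ih
    haveI := hflat (n + 1)
    haveI : IsClosedImmersion (𝔜.ι n) := (h𝔜.1 n).1
    haveI : Surjective (𝔜.ι n) := ⟨(h𝔜.1 n).2⟩
    haveI : IsLocallyNoetherian (𝔜.X (n + 1)) := h𝔜.2.2 (n + 1)
    refine ThickSmooth.smooth_of_flat_of_isPullback (𝔛.ι n) (𝔜.ι n) ((f : FSch.Hom 𝔛 𝔜).app n)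
      ((f : FSch.Hom 𝔛 𝔜).app (n + 1)) (fun U => ?_) (hf n)
    haveI : IsNoetherianRing Γ(𝔜.X (n + 1), U.1) := IsLocallyNoetherian.component_noetherian U
    obtain ⟨k, hk⟩ := IsNoetherianRing.isNilpotent_nilradical Γ(𝔜.X (n + 1), U.1)
    refine ⟨k, ?_⟩
    rw [Ideal.zero_eq_bot, eq_bot_iff]
    calc RingHom.ker ((𝔜.ι n).app U.1).hom ^ k ≤ nilradical Γ(𝔜.X (n + 1), U.1) ^ k :=
          Ideal.pow_right_mono (SmoothNilLift.ker_app_le_nilradical (𝔜.ι n) U.1 U.2) k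
      _ = ⊥ := hk

end W1
end H


/-- Formal schemes are modelled as ℕ-indexed systems of thickenings. Let 𝔛 and 𝔜 be locally Noetherian
adic formal systems and f : 𝔛 ⟶ 𝔜 an adic morphism (every square X_n → X_{n+1}, Y_n → Y_{n+1}
cartesian) all of whose levels f_n : X_n ⟶ Y_n are flat. Then f is smooth, in the sense that every
level f_n is smooth, if and only if the bottom level f_0 is smooth. -/
theorem result (𝔛 𝔜 : FSch.Sys.{u})
    (h𝔛 : 𝔛.IsLocNoethFormal) (h𝔜 : 𝔜.IsLocNoethFormal) (f : 𝔛 ⟶ 𝔜) (hf : FSch.IsAdicHom f)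
    (hflat : ∀ n : ℕ, Flat ((f : FSch.Hom 𝔛 𝔜).app n)) :
    (∀ n : ℕ, AlgebraicGeometry.Smooth ((f : FSch.Hom 𝔛 𝔜).app n)) ↔
      AlgebraicGeometry.Smooth ((f : FSch.Hom 𝔛 𝔜).app 0) := by
  exact W1.main 𝔛 𝔜 h𝔜 f hf hflat

end Groth.Agent.S14004
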