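import Groth.Statements.S14005
import Mathlib.AlgebraicGeometry.Properties

set_option autoImplicit false
universe u
open CategoryTheory AlgebraicGeometry
open CohTop

namespace Groth.Agent.S14005

/-- Take a scheme X with a locally Noetherian underlying topological space, F a sheaf of abelian groups
on X, x a point of X and s an element of the stalk F_x. Then the following are equivalent: (i) s is
the germ of a section t over some open neighbourhood U of x whose support in U is contained in the
closure of {x} (that is, s belongs to the subgroup Γ_x(F) of F_x); (ii) for every generization y ≠ x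
of x the image of s under the cospecialisation map F_x → F_y is zero (that is, viewed as a global
section of the inverse image of F on Spec O_{X,x}, s is supported at the closed point). -/
theorem result {X : Scheme.{u}}
    (hX : ∀ x : X, ∃ U : X.Opens, x ∈ U ∧ TopologicalSpace.NoetherianSpace U)
    (F : TopCat.Sheaf AddCommGrpCat.{u} X.carrier) (x : X) (s : F.presheaf.stalk x) :
    (∃ (U : X.Opens) (hx : x ∈ U) (t : F.presheaf.obj (Opposite.op U)),
        F.presheaf.germ U x hx t = s ∧
          ∀ (u : X) (hu : u ∈ U), F.presheaf.germ U u hu t ≠ 0 → u ∈ closure ({x} : Set X)) ↔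
      ∀ (y : X) (h : y ⤳ x), y ≠ x → F.presheaf.stalkSpecializes h s = 0 := by
  classical
  constructor
  · rintro ⟨U, hx, t, rfl, hsupp⟩ y h hne
    have hy : y ∈ U := h.mem_open U.2 hx
    rw [TopCat.Presheaf.germ_stalkSpecializes_apply]
    by_contra hne0
    have h2 := hsupp y hy hne0
    exact hne ((specializes_iff_mem_closure.2 h2).antisymm h).eq.symm
  · intro h
    obtain ⟨U₀, hxU₀, hN⟩ := hX x
    obtain ⟨V₁, hxV₁, t₁, rfl⟩ := F.presheaf.exists_germ_eq s
    let V : X.Opens := V₁ ⊓ U₀
    have hxV : x ∈ V := ⟨hxV₁, hxU₀⟩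
    let t := F.presheaf.map (homOfLE (inf_le_left : V ≤ V₁)).op t₁
    have ht : F.presheaf.germ V x hxV t = F.presheaf.germ V₁ x hxV₁ t₁ :=
      TopCat.Presheaf.germ_res_apply _ _ _ _ _
    have : TopologicalSpace.NoetherianSpace V :=
      @Topology.IsInducing.noetherianSpace _ _ _ _ hN _
        (TopologicalSpace.Opens.isOpenEmbedding_of_le (inf_le_right : V ≤ U₀)).isInducing
    have : QuasiSober V := V.isOpenEmbedding'.quasiSober
    let S : Set V := {u | F.presheaf.germ V u.1 u.2 t ≠ 0}
    have hS : IsClosed S := by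
      rw [← isOpen_compl_iff, isOpen_iff_forall_mem_open]
      intro u hu
      have hu0 : F.presheaf.germ V u.1 u.2 t = 0 := by
        by_contra hc
        exact hu hc
      obtain ⟨W, hW, iU, iV, hWeq⟩ := F.presheaf.germ_eq u.1 u.2 u.2 t 0 (by rw [hu0, map_zero])
      refine ⟨Subtype.val ⁻¹' (W : Set X), ?_, W.2.preimage continuous_subtype_val, hW⟩
      intro u' hu'
      change ¬ (F.presheaf.germ V u'.1 u'.2 t ≠ 0)
      rw [not_not]
      have := TopCat.Presheaf.germ_res_apply F.presheaf iU u'.1 hu' t
      rw [← this, hWeq, map_zero, map_zero]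
    obtain ⟨T, hTfin, hTcl, hTirr, hTeq⟩ :=
      TopologicalSpace.NoetherianSpace.exists_finite_set_isClosed_irreducible hS
    let xV : V := ⟨x, hxV⟩
    have claimA : ∀ Z ∈ T, xV ∈ Z → Z ⊆ closure {xV} := by
      intro Z hZ hxZ
      have hgen := (hTirr Z hZ).isGenericPoint_genericPoint (hTcl Z hZ)
      set η := (hTirr Z hZ).genericPoint with hη
      have h1 : η ⤳ xV := (isGenericPoint_iff_specializes.1 hgen xV).2 hxZ
      have h2 : η ∈ Z := (isGenericPoint_iff_specializes.1 hgen η).1 specializes_rfl
      have h3 : η ∈ S := by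
        rw [hTeq]
        exact ⟨Z, hZ, h2⟩
      have h4 : η.1 ⤳ x := (subtype_specializes_iff η xV).1 h1
      have h5 : η.1 = x := by
        by_contra hne
        have h6 := h η.1 h4 hne
        rw [← ht, TopCat.Presheaf.germ_stalkSpecializes_apply] at h6
        exact h3 h6
      have h7 : η = xV := Subtype.ext h5
      rw [← hgen.def, h7]
      exact subset_rfl
    let B : Set V := ⋃ Z ∈ {Z ∈ T | xV ∉ Z}, Z
    have hB : IsClosed B :=
      Set.Finite.isClosed_biUnion (hTfin.subset (Set.sep_subset _ _)) (fun Z hZ => hTcl Z hZ.1)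
    have hxB : xV ∉ B := by
      intro hx
      obtain ⟨Z, hZ, hxZ⟩ := Set.mem_iUnion₂.1 hx
      exact hZ.2 hxZ
    let U : X.Opens := ⟨Subtype.val '' Bᶜ, V.isOpenEmbedding'.isOpenMap _ hB.isOpen_compl⟩
    have hUV : U ≤ V := by
      rintro _ ⟨u, _, rfl⟩
      exact u.2
    have hxU : x ∈ U := ⟨xV, hxB, rfl⟩
    refine ⟨U, hxU, F.presheaf.map (homOfLE hUV).op t, ?_, ?_⟩
    · rw [← ht]
      exact TopCat.Presheaf.germ_res_apply _ _ _ _ _
    · intro u hu hne
      rw [TopCat.Presheaf.germ_res_apply] at hne
      obtain ⟨u', hu'B, rfl⟩ := hu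
      have h1 : u' ∈ S := hne
      rw [hTeq] at h1
      obtain ⟨Z, hZ, huZ⟩ := h1
      have h2 : xV ∈ Z := by
        by_contra hc
        apply hu'B
        exact Set.mem_iUnion₂.2 ⟨Z, ⟨hZ, hc⟩, huZ⟩
      have h3 := claimA Z hZ h2 huZ
      have h4 : xV ⤳ u' := specializes_iff_mem_closure.2 h3
      exact specializes_iff_mem_closure.1 ((subtype_specializes_iff xV u').1 h4)

end Groth.Agent.S14005
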