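import Groth.Statements.S3861
import Groth.Agent.Lib.Helper29.IdealComap

set_option autoImplicit false
universe u
open FCompl

namespace Groth.Agent.S3861

open AlgebraicGeometry CategoryTheory TopologicalSpace

/-- affine opens of `X` mapping into an affine open of `Y` cover `X`. -/
theorem iSup_affine_pairs {X Y : Scheme.{u}} (f : X ⟶ Y) :
    ⨆ p : {p : X.affineOpens × Y.affineOpens // p.1.1 ≤ f ⁻¹ᵁ p.2.1}, p.1.1.1 = ⊤ := by
  rw [eq_top_iff]
  intro x _
  obtain ⟨V, hV, hxV, -⟩ := (Opens.isBasis_iff_nbhd.mp Y.isBasis_affineOpens)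
    (show f x ∈ (⊤ : Y.Opens) from trivial)
  have hx : x ∈ (f ⁻¹ᵁ V : X.Opens) := hxV
  obtain ⟨U, hU, hxU, hUV⟩ := (Opens.isBasis_iff_nbhd.mp X.isBasis_affineOpens) hx
  exact Opens.mem_iSup.mpr ⟨⟨(⟨U, hU⟩, ⟨V, hV⟩), hUV⟩, hxU⟩


open AlgebraicGeometry in
/-- For a morphism of schemes f : X -> Y and quasi-coherent ideal sheaves K₁, K₂ on Y, the inverse image
ideal sheaf of K₁K₂ is the product of the inverse image ideal sheaves of K₁ and K₂. -/
theorem result {X Y : Scheme.{u}} (f : X ⟶ Y) (K₁ K₂ : Y.IdealSheafData) :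
    (K₁ * K₂).comap f = K₁.comap f * K₂.comap f := by
  apply Scheme.IdealSheafData.ext_of_iSup_eq_top
    (fun p : {p : X.affineOpens × Y.affineOpens // p.1.1 ≤ f ⁻¹ᵁ p.2.1} => p.1.1)
    (iSup_affine_pairs f)
  rintro ⟨⟨U, V⟩, e⟩
  simp only [Scheme.IdealSheafData.ideal_mul, Pi.mul_apply]
  rw [Groth.Agent.Lib.Helper29.EffCart.ideal_comap_eq_map _ f V U e,
    Groth.Agent.Lib.Helper29.EffCart.ideal_comap_eq_map _ f V U e,
    Groth.Agent.Lib.Helper29.EffCart.ideal_comap_eq_map _ f V U e,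
    Scheme.IdealSheafData.ideal_mul, Pi.mul_apply, Ideal.map_mul]

end Groth.Agent.S3861
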