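import Groth.Statements.S3867
import Mathlib.RingTheory.Nakayama

set_option autoImplicit false
universe u
open FCompl

namespace Groth.Agent.S3867

open AlgebraicGeometry CategoryTheory CategoryTheory.Limits

theorem isPushout_of_isPullback_SpecMap {A B C P : CommRingCat.{u}} (f : A ⟶ B) (g : A ⟶ C)
    (inl : B ⟶ P) (inr : C ⟶ P) (comm : f ≫ inl = g ≫ inr)
    (h : IsPullback (Spec.map inl) (Spec.map inr) (Spec.map f) (Spec.map g)) :
    IsPushout f g inl inr := by
  have h' : IsPullback inl.op inr.op f.op g.op :=
    IsPullback.of_map Scheme.Spec (by rw [← op_comp, ← op_comp, comm]) h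
  exact h'.unop.flip

section RingLevel

variable {R S R' S' : Type u} [CommRing R] [CommRing S] [CommRing R'] [CommRing S']
  (f : R →+* S) (p : R →+* R') (q : S →+* S') (g : R' →+* S')

theorem isPushout_of_ker (comm : q.comp f = g.comp p) (hp : Function.Surjective p)
    (hq : Function.Surjective q) (hk : RingHom.ker q = (RingHom.ker p).map f) :
    IsPushout (CommRingCat.ofHom f) (CommRingCat.ofHom p) (CommRingCat.ofHom q)
      (CommRingCat.ofHom g) := by
  refine ⟨⟨?_⟩, ⟨?_⟩⟩
  · rw [← CommRingCat.ofHom_comp, ← CommRingCat.ofHom_comp, comm]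
  · refine PushoutCocone.IsColimit.mk _ (fun s => ?_) (fun s => ?_) (fun s => ?_) (fun s m h1 h2 => ?_)
    · -- desc
      refine CommRingCat.ofHom (RingHom.liftOfSurjective q hq ⟨s.inl.hom, ?_⟩)
      rw [hk, Ideal.map_le_iff_le_comap]
      intro x hx
      rw [Ideal.mem_comap, RingHom.mem_ker]
      have := congrArg (fun t => t.hom x) s.condition
      simp only [CommRingCat.hom_comp, CommRingCat.hom_ofHom, RingHom.comp_apply] at this
      rw [this, RingHom.mem_ker.mp hx, map_zero]
    · ext x
      simp [RingHom.liftOfSurjective_comp_apply]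
    · ext y
      obtain ⟨x, rfl⟩ := hp y
      have h1 := congrArg (fun t => t x) comm
      simp only [RingHom.comp_apply] at h1
      simp only [CommRingCat.hom_comp, CommRingCat.hom_ofHom, RingHom.comp_apply]
      rw [← h1, RingHom.liftOfSurjective_comp_apply]
      have := congrArg (fun t => t.hom x) s.condition
      simpa using this
    · ext y
      obtain ⟨x, rfl⟩ := hq y
      have := congrArg (fun t => t.hom x) h1
      simp only [CommRingCat.hom_comp, CommRingCat.hom_ofHom, RingHom.comp_apply] at this
      simp only [CommRingCat.hom_ofHom]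
      rw [RingHom.liftOfSurjective_comp_apply]
      exact this

theorem ker_of_isPushout (comm : q.comp f = g.comp p) (hp : Function.Surjective p)
    (h : IsPushout (CommRingCat.ofHom f) (CommRingCat.ofHom p) (CommRingCat.ofHom q)
      (CommRingCat.ofHom g)) : RingHom.ker q = (RingHom.ker p).map f := by
  apply le_antisymm
  · -- use the universal property with T = S / (ker p).map f
    let J := (RingHom.ker p).map f
    let g2 : S →+* S ⧸ J := Ideal.Quotient.mk J
    have hker : RingHom.ker p ≤ RingHom.ker (g2.comp f) := by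
      intro x hx
      rw [RingHom.mem_ker, RingHom.comp_apply, Ideal.Quotient.eq_zero_iff_mem]
      exact Ideal.mem_map_of_mem f hx
    let g1 : R' →+* S ⧸ J := RingHom.liftOfSurjective p hp ⟨g2.comp f, hker⟩
    have hc : CommRingCat.ofHom f ≫ CommRingCat.ofHom g2 = CommRingCat.ofHom p ≫ CommRingCat.ofHom g1 := by
      rw [← CommRingCat.ofHom_comp, ← CommRingCat.ofHom_comp]
      congr 1
      ext x
      simp only [RingHom.comp_apply, g1]
      rw [RingHom.liftOfSurjective_comp_apply]
      rfl
    let d := h.desc (CommRingCat.ofHom g2) (CommRingCat.ofHom g1) hc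
    have hd : CommRingCat.ofHom q ≫ d = CommRingCat.ofHom g2 := h.inl_desc _ _ _
    intro x hx
    have h1 := congrArg (fun t => t.hom x) hd
    simp only [CommRingCat.hom_comp, CommRingCat.hom_ofHom, RingHom.comp_apply] at h1
    rw [RingHom.mem_ker.mp hx, map_zero] at h1
    have : g2 x = 0 := h1.symm
    rwa [Ideal.Quotient.eq_zero_iff_mem] at this
  · rw [Ideal.map_le_iff_le_comap]
    intro x hx
    rw [Ideal.mem_comap, RingHom.mem_ker]
    have h1 := congrArg (fun t => t x) comm
    simp only [RingHom.comp_apply] at h1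
    rw [h1, RingHom.mem_ker.mp hx, map_zero]

end RingLevel

section Main

variable {A B : Type u} [CommRing A] [CommRing B] (I : Ideal A) (K : Ideal B) (φ : B →+* A)
  (h : K ≤ I.comap φ)

/-- transition maps -/
abbrev trA (n : ℕ) : A ⧸ I ^ (n + 2) →+* A ⧸ I ^ (n + 1) :=
  Ideal.Quotient.factor (Ideal.pow_le_pow_right (Nat.le_succ (n + 1)))

theorem sq_comm (n : ℕ) :
    (trA I n).comp (FSch.quotPowMap I K φ h (n + 1)) =
      (FSch.quotPowMap I K φ h n).comp (trA K n) := by
  apply Ideal.Quotient.ringHom_ext
  ext b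
  rfl

theorem ker_map (n : ℕ) :
    (RingHom.ker (trA K n)).map (FSch.quotPowMap I K φ h (n + 1)) =
      ((K.map φ) ^ (n + 1)).map (Ideal.Quotient.mk (I ^ (n + 2))) := by
  rw [Ideal.Quotient.factor_ker, Ideal.map_map]
  have : (FSch.quotPowMap I K φ h (n + 1)).comp (Ideal.Quotient.mk (K ^ (n + 2))) =
      (Ideal.Quotient.mk (I ^ (n + 2))).comp φ := by
    ext b; rfl
  rw [this, ← Ideal.map_map, Ideal.map_pow]

theorem level_iff (n : ℕ) :
    IsPullback ((FSch.spf A I).ι n) ((FSch.spfMap I K φ h : FSch.Hom _ _).app n)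
      ((FSch.spfMap I K φ h : FSch.Hom _ _).app (n + 1)) ((FSch.spf B K).ι n) ↔
    (I ^ (n + 1)).map (Ideal.Quotient.mk (I ^ (n + 2))) =
      ((K.map φ) ^ (n + 1)).map (Ideal.Quotient.mk (I ^ (n + 2))) := by
  have hsA : Function.Surjective (trA I n) := Ideal.Quotient.factor_surjective _
  have hsB : Function.Surjective (trA K n) := Ideal.Quotient.factor_surjective _
  rw [← ker_map I K φ h n, ← Ideal.Quotient.factor_ker
    (Ideal.pow_le_pow_right (Nat.le_succ (n + 1)) : I ^ (n + 2) ≤ I ^ (n + 1))]
  constructor
  · intro hp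
    have hp' : IsPullback (Spec.map (CommRingCat.ofHom (trA I n)))
        (Spec.map (CommRingCat.ofHom (FSch.quotPowMap I K φ h n)))
        (Spec.map (CommRingCat.ofHom (FSch.quotPowMap I K φ h (n + 1))))
        (Spec.map (CommRingCat.ofHom (trA K n))) := hp
    have := isPushout_of_isPullback_SpecMap _ _ _ _ (by
      rw [← CommRingCat.ofHom_comp, ← CommRingCat.ofHom_comp, sq_comm]) hp'
    exact ker_of_isPushout _ _ _ _ (sq_comm I K φ h n) hsB this
  · intro hk
    have := isPushout_of_ker _ _ _ _ (sq_comm I K φ h n) hsB hsA hk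
    exact isPullback_SpecMap_of_isPushout _ _ _ _ this

end Main


open AlgebraicGeometry in
/-- Formal spectra are presented as the systems Spec(A/I^(n+1)) and Spec(B/K^(n+1)), a morphism of
systems being adic when all its squares are cartesian. Let A be a Noetherian ring, complete and
separated for the I-adic topology of an ideal I, K an ideal of a ring B and φ : B → A a ring
homomorphism with φ(K) ⊆ I. Then the induced morphism Spf(A) → Spf(B) is adic if and only if the
ideal of A generated by φ(K) is I. -/
theorem result (A B : Type u) [CommRing A] [CommRing B] [IsNoetherianRing A]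
    (I : Ideal A) (K : Ideal B) [IsAdicComplete I A] (φ : B →+* A) (h : K ≤ I.comap φ) :
    FSch.IsAdicHom (FSch.spfMap I K φ h) ↔ K.map φ = I := by
  have hKI : K.map φ ≤ I := Ideal.map_le_iff_le_comap.mpr h
  constructor
  · intro hA
    have h0 := (level_iff I K φ h 0).mp (hA 0)
    apply le_antisymm hKI
    have h1 := congrArg (Ideal.comap (Ideal.Quotient.mk (I ^ (0 + 2)))) h0
    rw [Ideal.comap_map_of_surjective _ Ideal.Quotient.mk_surjective,
      Ideal.comap_map_of_surjective _ Ideal.Quotient.mk_surjective] at h1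
    have hbot : Ideal.comap (Ideal.Quotient.mk (I ^ (0 + 2))) ⊥ = I ^ 2 := by
      rw [← RingHom.ker_eq_comap_bot, Ideal.mk_ker]
    rw [hbot] at h1
    simp only [zero_add, pow_one] at h1
    have h2 : I ≤ K.map φ ⊔ I • I := by
      calc I ≤ I ⊔ I ^ 2 := le_sup_left
        _ = K.map φ ⊔ I ^ 2 := h1
        _ = K.map φ ⊔ I • I := by rw [pow_two, smul_eq_mul]
    exact Submodule.le_of_le_smul_of_le_jacobson_bot (IsNoetherian.noetherian I)
      (IsAdicComplete.le_jacobson_bot I) h2
  · intro hE n
    rw [level_iff, hE]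

end Groth.Agent.S3867
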