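import Groth.Statements.S3873
import Groth.Agent.S3867

set_option autoImplicit false
universe u
open FCompl

namespace Groth.Agent.S3873

open AlgebraicGeometry CategoryTheory CategoryTheory.Limits

/-- the inverse image of the kernel of a closed immersion is the kernel of the base change. -/
theorem comap_ker_of_isPullback {W X Y Z : Scheme.{u}} {p : W ⟶ X} {q : W ⟶ Z} {f : X ⟶ Y}
    {i : Z ⟶ Y} (h : IsPullback p q f i) [IsClosedImmersion i] :
    i.ker.comap f = p.ker := by
  have h' : IsPullback p (q ≫ i.toImage) f i.ker.subschemeι :=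
    h.of_iso (Iso.refl _) (Iso.refl _) (asIso i.toImage) (Iso.refl _)
      (by simp) (by simp) (by simp) (by simp [Scheme.Hom.toImage_imageι])
  unfold Scheme.IdealSheafData.comap
  have e : h'.isoPullback.hom ≫ pullback.fst f i.ker.subschemeι = p := h'.isoPullback_hom_fst
  rw [← e, Scheme.Hom.ker_comp_of_isIso]


open AlgebraicGeometry in
/-- Its content on the affine schemes underlying the formal spectra: the inverse image ideal of b^Δ is
(bA)^Δ, read on Spec: For a ring homomorphism φ : B -> A and an ideal b of B, the inverse image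
along Spec(φ) of the ideal sheaf of b on Spec B is the ideal sheaf on Spec A of the ideal generated
by φ(b). -/
theorem result (A B : Type u) [CommRing A] [CommRing B] (φ : B →+* A) (𝔟 : Ideal B) :
    (FSch.idealSpec B 𝔟).comap (Spec.map (CommRingCat.ofHom φ)) = FSch.idealSpec A (𝔟.map φ) := by
  unfold FSch.idealSpec
  have hle : 𝔟 ≤ (𝔟.map φ).comap φ := Ideal.le_comap_map
  have hpo := Groth.Agent.S3867.isPushout_of_ker φ (Ideal.Quotient.mk 𝔟)
    (Ideal.Quotient.mk (𝔟.map φ)) (Ideal.quotientMap (𝔟.map φ) φ hle)
    (by ext b; simp) Ideal.Quotient.mk_surjective Ideal.Quotient.mk_surjective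
    (by rw [Ideal.mk_ker, Ideal.mk_ker])
  have hpb := isPullback_SpecMap_of_isPushout _ _ _ _ hpo
  have : IsClosedImmersion (Spec.map (CommRingCat.ofHom (Ideal.Quotient.mk 𝔟))) :=
    IsClosedImmersion.spec_of_surjective _ Ideal.Quotient.mk_surjective
  exact comap_ker_of_isPullback hpb

end Groth.Agent.S3873
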