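import Groth.Statements.S3854
import Groth.Agent.S3862
import Groth.Agent.S3873

set_option autoImplicit false
universe u
open FCompl

namespace Groth.Agent.S3854

open AlgebraicGeometry CategoryTheory CategoryTheory.Limits

theorem isPullback_of_mono_comp {C : Type*} [Category C] {A B X : C} (k : A ⟶ B) (f : B ⟶ X) [Mono f] :
    IsPullback k (𝟙 A) f (k ≫ f) := by
  have h1 : IsPullback k (𝟙 A) (𝟙 B) k := IsPullback.id_vert k
  have h2 : IsPullback (𝟙 B) (𝟙 B) f f := (IsKernelPair.id_of_mono f)
  have := h1.paste_horiz h2
  simpa using this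

theorem ker_inclusion {X : Scheme.{u}} {I J : X.IdealSheafData} (h : I ≤ J) :
    (Scheme.IdealSheafData.inclusion h).ker = J.comap I.subschemeι := by
  have hp : IsPullback (Scheme.IdealSheafData.inclusion h) (𝟙 _) I.subschemeι J.subschemeι := by
    have := isPullback_of_mono_comp (Scheme.IdealSheafData.inclusion h) I.subschemeι
    rwa [Scheme.IdealSheafData.inclusion_subschemeι] at this
  have := Groth.Agent.S3873.comap_ker_of_isPullback hp
  rw [Scheme.IdealSheafData.ker_subschemeι] at this
  exact this.symm

theorem surjective_inclusion {X : Scheme.{u}} {I J : X.IdealSheafData} (h : I ≤ J)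
    (hs : I.support = J.support) : Function.Surjective (Scheme.IdealSheafData.inclusion h).base := by
  intro y
  have hy : I.subschemeι y ∈ (J.support : Set X) := by
    rw [← hs, ← Scheme.IdealSheafData.range_subschemeι]
    exact ⟨y, rfl⟩
  rw [← Scheme.IdealSheafData.range_subschemeι] at hy
  obtain ⟨x, hx⟩ := hy
  refine ⟨x, ?_⟩
  apply I.subschemeι.isEmbedding.injective
  rw [← hx, ← Scheme.Hom.comp_apply, Scheme.IdealSheafData.inclusion_subschemeι]

theorem toX_eq (X : Scheme.{u}) (𝓘 : X.IdealSheafData) (n : ℕ) :
    (FSch.completionAlong X 𝓘).toX n =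
      Scheme.IdealSheafData.inclusion
        (pow_le_pow_of_le_one bot_le le_top (Nat.succ_le_succ (Nat.zero_le n)) :
          𝓘 ^ (n + 1) ≤ 𝓘 ^ (0 + 1)) := by
  induction n with
  | zero =>
    show 𝟙 _ = _
    exact (Scheme.IdealSheafData.inclusion_id _).symm
  | succ n ih =>
    show (FSch.completionAlong X 𝓘).toX n ≫ (FSch.completionAlong X 𝓘).ι n = _
    rw [ih]
    exact Scheme.IdealSheafData.inclusion_comp _ _


open AlgebraicGeometry in
/-- The completion along a closed subset, presented as the system of closed subschemes cut out by the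
powers of an ideal sheaf: Let X be a locally Noetherian scheme and I an ideal sheaf on X. The closed
subschemes defined by I, I^2, I^3, ... with their inclusions form a locally Noetherian adic formal
system: each inclusion is a surjective closed immersion, the kernel ideal of the n-th inclusion is
the (n+1)-st power of the kernel ideal of the composite inclusion from level 0, and every level is
locally Noetherian. -/
theorem result (X : Scheme.{u}) [IsLocallyNoetherian X]
    (𝓘 : X.IdealSheafData) : (FSch.completionAlong X 𝓘).IsLocNoethFormal := by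
  refine ⟨?_, ?_, ?_⟩
  · intro n
    refine ⟨?_, ?_⟩
    · show IsClosedImmersion (Scheme.IdealSheafData.inclusion _)
      infer_instance
    · apply surjective_inclusion
      rw [Scheme.IdealSheafData.support_pow_succ, Scheme.IdealSheafData.support_pow_succ]
  · intro n
    have e1 : ((FSch.completionAlong X 𝓘).ι n).ker =
        (𝓘 ^ (n + 1)).comap (𝓘 ^ (n + 1 + 1)).subschemeι := ker_inclusion _
    have e2 : ((FSch.completionAlong X 𝓘).toX (n + 1)).ker =
        (𝓘 ^ (0 + 1)).comap (𝓘 ^ (n + 1 + 1)).subschemeι := by
      rw [toX_eq]; exact ker_inclusion _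
    refine e1.trans ?_
    refine Eq.trans ?_ (congrArg (· ^ (n + 1)) e2.symm)
    show _ = ((𝓘 ^ (0 + 1)).comap (𝓘 ^ (n + 1 + 1)).subschemeι) ^ (n + 1)
    rw [← Groth.Agent.S3862.comap_pow, zero_add, pow_one]
  · intro n
    show IsLocallyNoetherian (𝓘 ^ (n + 1)).subscheme
    exact LocallyOfFiniteType.isLocallyNoetherian (𝓘 ^ (n + 1)).subschemeι

end Groth.Agent.S3854
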