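import Groth.Statements.S14006
import Groth.Agent.S3854
import Groth.Agent.Lib.Helper15.SmoothLiftLocal
-- import your own Groth.Agent.* helpers here

set_option autoImplicit false
universe u
open CategoryTheory AlgebraicGeometry
open FSch

namespace Groth.Agent.S14006

section H
namespace W1
open Groth.Agent.Lib.Helper15 CategoryTheory.Limits

/-- dependent choice along `ℕ` -/
theorem exists_seq {X : ℕ → Type*} (P : ∀ n, X n → Prop) (R : ∀ n, X n → X (n + 1) → Prop)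
    (x0 : X 0) (h0 : P 0 x0) (step : ∀ n x, P n x → ∃ y, P (n + 1) y ∧ R n x y) :
    ∃ f : ∀ n, X n, f 0 = x0 ∧ (∀ n, P n (f n)) ∧ ∀ n, R n (f n) (f (n + 1)) := by
  classical
  let g : ∀ n, {x : X n // P n x} := fun n => Nat.rec (motive := fun n => {x : X n // P n x})
    ⟨x0, h0⟩ (fun n s => ⟨(step n s.1 s.2).choose, (step n s.1 s.2).choose_spec.1⟩) n
  refine ⟨fun n => (g n).1, rfl, fun n => (g n).2, fun n => ?_⟩
  exact (step n (g n).1 (g n).2).choose_spec.2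

variable (S : Scheme.{u}) (𝒥 : S.IdealSheafData)

local notation "ι₀" => FSch.completionToX S 𝒥 0

theorem ι_cX (n : ℕ) : (FSch.completionAlong S 𝒥).ι n ≫ FSch.completionToX S 𝒥 (n + 1) =
    FSch.completionToX S 𝒥 n :=
  Scheme.IdealSheafData.inclusion_subschemeι _

variable {U' : Scheme.{u}} (u : U' ⟶ S)

/-- the system of base changes of `u : U' ⟶ S` to the infinitesimal neighbourhoods -/
@[reducible] noncomputable def pbSys : FSch.Sys.{u} where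
  X n := pullback u (FSch.completionToX S 𝒥 n)
  ι n := pullback.lift (pullback.fst _ _) (pullback.snd _ _ ≫ (FSch.completionAlong S 𝒥).ι n)
    (by rw [Category.assoc, ι_cX, pullback.condition])

theorem pbSys_ι_fst (n : ℕ) : (pbSys S 𝒥 u).ι n ≫ pullback.fst u (FSch.completionToX S 𝒥 (n + 1)) =
    pullback.fst u (FSch.completionToX S 𝒥 n) := pullback.lift_fst _ _ _

theorem pbSys_ι_snd (n : ℕ) : (pbSys S 𝒥 u).ι n ≫ pullback.snd u (FSch.completionToX S 𝒥 (n + 1)) =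
    pullback.snd u (FSch.completionToX S 𝒥 n) ≫ (FSch.completionAlong S 𝒥).ι n :=
  pullback.lift_snd _ _ _

noncomputable def pbHom : pbSys S 𝒥 u ⟶ FSch.completionAlong S 𝒥 :=
  (⟨fun n => pullback.snd u (FSch.completionToX S 𝒥 n), fun n => (pbSys_ι_snd S 𝒥 u n).symm⟩ :
    FSch.Hom _ _)

theorem pb_isPullback (n : ℕ) : IsPullback ((pbSys S 𝒥 u).ι n)
    (pullback.snd u (FSch.completionToX S 𝒥 n)) (pullback.snd u (FSch.completionToX S 𝒥 (n + 1)))
    ((FSch.completionAlong S 𝒥).ι n) := by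
  have R := IsPullback.of_hasPullback u (FSch.completionToX S 𝒥 (n + 1))
  have T : IsPullback ((pbSys S 𝒥 u).ι n ≫ pullback.fst u (FSch.completionToX S 𝒥 (n + 1)))
      (pullback.snd u (FSch.completionToX S 𝒥 n)) u
      ((FSch.completionAlong S 𝒥).ι n ≫ FSch.completionToX S 𝒥 (n + 1)) := by
    rw [ι_cX, pbSys_ι_fst]
    exact IsPullback.of_hasPullback u (FSch.completionToX S 𝒥 n)
  exact IsPullback.of_right T (pbSys_ι_snd S 𝒥 u n) R

theorem pb_isAdic : FSch.IsAdicHom (pbHom S 𝒥 u) := fun n => pb_isPullback S 𝒥 u n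


instance pb_isClosedImmersion [IsLocallyNoetherian S] (n : ℕ) :
    IsClosedImmersion ((pbSys S 𝒥 u).ι n) := by
  have h := (Groth.Agent.S3854.result S 𝒥).1 n
  have := h.1
  exact MorphismProperty.of_isPullback (P := @IsClosedImmersion) (pb_isPullback S 𝒥 u n).flip this

instance pb_surjective [IsLocallyNoetherian S] (n : ℕ) : Surjective ((pbSys S 𝒥 u).ι n) := by
  have h := (Groth.Agent.S3854.result S 𝒥).1 n
  have : Surjective ((FSch.completionAlong S 𝒥).ι n) := ⟨h.2⟩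
  exact MorphismProperty.of_isPullback (P := @Surjective) (pb_isPullback S 𝒥 u n).flip this

theorem pb_isAffine [IsAffine U'] (n : ℕ) : IsAffine ((pbSys S 𝒥 u).X n) := by
  have : IsClosedImmersion (FSch.completionToX S 𝒥 n) := by
    change IsClosedImmersion (Scheme.IdealSheafData.subschemeι _); infer_instance
  have : IsClosedImmersion (pullback.fst u (FSch.completionToX S 𝒥 n)) := inferInstance
  exact (IsClosedImmersion.isAffine_surjective_of_isAffine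
    (pullback.fst u (FSch.completionToX S 𝒥 n))).1

set_option maxHeartbeats 1600000 in
theorem main [IsLocallyNoetherian S] {X₀ Y₀ : Scheme.{u}}
    (a : X₀ ⟶ (FSch.completionAlong S 𝒥).X 0) (b : Y₀ ⟶ (FSch.completionAlong S 𝒥).X 0)
    [AlgebraicGeometry.Smooth a] [AlgebraicGeometry.Smooth b] (f : X₀ ⟶ Y₀) (w : f ≫ b = a) (x : X₀) :
    ∃ (U₀ : X₀.Opens) (V₀ : Y₀.Opens) (hU : x ∈ U₀) (hUV : U₀ ≤ f ⁻¹ᵁ V₀)
      (𝔘 𝔙 : FSch.Sys.{u}) (p : 𝔘 ⟶ FSch.completionAlong S 𝒥) (q : 𝔙 ⟶ FSch.completionAlong S 𝒥)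
      (Φ : 𝔘 ⟶ 𝔙) (eU : 𝔘.X 0 ≅ U₀.toScheme) (eV : 𝔙.X 0 ≅ V₀.toScheme),
      Φ ≫ q = p ∧ FSch.IsAdicHom p ∧ FSch.IsAdicHom q ∧
      (∀ n : ℕ, AlgebraicGeometry.Smooth ((p : FSch.Hom 𝔘 _).app n)) ∧
      (∀ n : ℕ, AlgebraicGeometry.Smooth ((q : FSch.Hom 𝔙 _).app n)) ∧
      eU.hom ≫ U₀.ι ≫ a = (p : FSch.Hom 𝔘 _).app 0 ∧
      eV.hom ≫ V₀.ι ≫ b = (q : FSch.Hom 𝔙 _).app 0 ∧
      (Φ : FSch.Hom 𝔘 𝔙).app 0 ≫ eV.hom = eU.hom ≫ f.resLE V₀ U₀ hUV := by
  haveI : IsClosedImmersion ι₀ := by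
    change IsClosedImmersion (Scheme.IdealSheafData.subschemeι _); infer_instance
  obtain ⟨W, hW, hxW⟩ : ∃ W : S.Opens, IsAffineOpen W ∧ ι₀ (a x) ∈ W := by
    obtain ⟨_, ⟨O, hO, rfl⟩, hz, -⟩ := S.isBasis_affineOpens.exists_subset_of_mem_open
      (Set.mem_univ (ι₀ (a x))) isOpen_univ
    exact ⟨O, hO, hz⟩
  have hb : b (f x) = a x := by rw [← w]; rfl
  have hyW : ι₀ (b (f x)) ∈ W := by
    rw [hb]; exact hxW
  obtain ⟨V', hV', vW, hvW, V₀', hV₀', oV, hoV, jV, hyV, -, sqV⟩ :=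
    SmoothLiftLocal.exists_local_smooth_lift ι₀ W hW b (f x) hyW ⊤ trivial
  have hxO : x ∈ f ⁻¹ᵁ oV.opensRange := hyV
  obtain ⟨U', hU', uW, huW, U₀', hU₀', oU, hoU, jU, hxU, hUO, sqU⟩ :=
    SmoothLiftLocal.exists_local_smooth_lift ι₀ W hW a x hxW (f ⁻¹ᵁ oV.opensRange) hxO
  let u : U' ⟶ S := uW ≫ hW.fromSpec
  let v : V' ⟶ S := vW ≫ hW.fromSpec
  have hUV : oU.opensRange ≤ f ⁻¹ᵁ oV.opensRange := hUO
  -- the isomorphisms at level 0
  let eU1 : (pbSys S 𝒥 u).X 0 ≅ U₀' := sqU.isoPullback.symm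
  let eV1 : (pbSys S 𝒥 v).X 0 ≅ V₀' := sqV.isoPullback.symm
  let eU : (pbSys S 𝒥 u).X 0 ≅ oU.opensRange.toScheme := eU1 ≪≫ oU.isoOpensRange
  let eV : (pbSys S 𝒥 v).X 0 ≅ oV.opensRange.toScheme := eV1 ≪≫ oV.isoOpensRange
  have heU1 : eU1.hom ≫ oU ≫ a = pullback.snd u ι₀ := by
    change sqU.isoPullback.inv ≫ oU ≫ a = _
    rw [Iso.inv_comp_eq, IsPullback.isoPullback_hom_snd]
  have heV1 : eV1.hom ≫ oV ≫ b = pullback.snd v ι₀ := by
    change sqV.isoPullback.inv ≫ oV ≫ b = _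
    rw [Iso.inv_comp_eq, IsPullback.isoPullback_hom_snd]
  have heU : eU.hom ≫ oU.opensRange.ι ≫ a = pullback.snd u ι₀ := by
    simp only [eU, Iso.trans_hom, Category.assoc]
    rw [Scheme.Hom.isoOpensRange_hom_ι_assoc, heU1]
  have heV : eV.hom ≫ oV.opensRange.ι ≫ b = pullback.snd v ι₀ := by
    simp only [eV, Iso.trans_hom, Category.assoc]
    rw [Scheme.Hom.isoOpensRange_hom_ι_assoc, heV1]
  have heV' : eV.inv ≫ pullback.snd v ι₀ = oV.opensRange.ι ≫ b := (Iso.inv_comp_eq eV).2 heV.symm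
  -- the base of the recursion
  let φ0 : (pbSys S 𝒥 u).X 0 ⟶ V' :=
    eU.hom ≫ f.resLE oV.opensRange oU.opensRange hUV ≫ eV.inv ≫ pullback.fst v ι₀
  have hφ0v : φ0 ≫ v = pullback.snd u ι₀ ≫ ι₀ := by
    simp only [φ0, Category.assoc]
    rw [pullback.condition, reassoc_of% heV', Scheme.Hom.resLE_comp_ι_assoc, reassoc_of% w,
      reassoc_of% heU]
  haveI : Mono hW.fromSpec := inferInstance
  have h0 : φ0 ≫ vW = pullback.fst u ι₀ ≫ uW := by
    rw [← cancel_mono hW.fromSpec, Category.assoc, Category.assoc]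
    exact hφ0v.trans pullback.condition.symm
  -- the sequence of lifts
  obtain ⟨φ, hφ0, hφ1, hφ2⟩ := exists_seq (X := fun n => ((pbSys S 𝒥 u).X n ⟶ V'))
    (fun n ψ => ψ ≫ vW = pullback.fst u (FSch.completionToX S 𝒥 n) ≫ uW)
    (fun n ψ ψ' => (pbSys S 𝒥 u).ι n ≫ ψ' = ψ) φ0 h0 (by
      intro n ψ hψ
      haveI := pb_isAffine S 𝒥 u (n + 1)
      obtain ⟨ℓ, hℓ1, hℓ2⟩ := SmoothLiftLocal.exists_lift_affine vW ((pbSys S 𝒥 u).ι n) ψ
        (pullback.fst u (FSch.completionToX S 𝒥 (n + 1)) ≫ uW)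
        (by rw [hψ, ← Category.assoc, pbSys_ι_fst])
      exact ⟨ℓ, hℓ1, hℓ2⟩)
  have hφv : ∀ n, φ n ≫ v = pullback.snd u (FSch.completionToX S 𝒥 n) ≫ FSch.completionToX S 𝒥 n := by
    intro n
    have := hφ1 n
    simp only [v, u] at this ⊢
    rw [← Category.assoc, this, Category.assoc, pullback.condition]
  let Φ : pbSys S 𝒥 u ⟶ pbSys S 𝒥 v :=
    (⟨fun n => pullback.lift (φ n) (pullback.snd u (FSch.completionToX S 𝒥 n)) (hφv n), fun n => by
      apply pullback.hom_ext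
      · rw [Category.assoc, Category.assoc, pbSys_ι_fst, pullback.lift_fst, pullback.lift_fst, hφ2]
      · rw [Category.assoc, Category.assoc, pbSys_ι_snd, pullback.lift_snd_assoc, pullback.lift_snd,
          pbSys_ι_snd]⟩ : FSch.Hom _ _)
  refine ⟨oU.opensRange, oV.opensRange, hxU, hUV, pbSys S 𝒥 u, pbSys S 𝒥 v, pbHom S 𝒥 u,
    pbHom S 𝒥 v, Φ, eU, eV, ?_, pb_isAdic S 𝒥 u, pb_isAdic S 𝒥 v, ?_, ?_, heU, heV, ?_⟩
  · apply FSch.Hom.ext
    funext n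
    exact pullback.lift_snd _ _ _
  · intro n
    change Smooth (pullback.snd u (FSch.completionToX S 𝒥 n))
    infer_instance
  · intro n
    change Smooth (pullback.snd v (FSch.completionToX S 𝒥 n))
    infer_instance
  · change pullback.lift (φ 0) (pullback.snd u ι₀) (hφv 0) ≫ eV.hom = _
    rw [← Iso.eq_comp_inv]
    apply pullback.hom_ext
    · rw [pullback.lift_fst, hφ0]
      simp only [φ0, Category.assoc]
    · rw [pullback.lift_snd]
      simp only [Category.assoc]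
      rw [heV', Scheme.Hom.resLE_comp_ι_assoc, w, heU]

end W1
end H


/-- Formal schemes are modelled as ℕ-indexed systems of thickenings. Let S be a locally Noetherian
scheme, 𝒥 a quasi-coherent ideal of O_S, 𝔖 the completion of S along 𝒥 (the system of the closed
subschemes defined by the powers 𝒥^{n+1}) and S₀ its bottom level. Let X₀ and Y₀ be schemes smooth
over S₀ via a and b, f : X₀ ⟶ Y₀ a morphism with f ≫ b = a, and x a point of X₀. Then there are an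
open neighbourhood U₀ of x and an open V₀ of Y₀ with f(U₀) ⊆ V₀, systems 𝔘 and 𝔙 with adic morphisms
p : 𝔘 ⟶ 𝔖 and q : 𝔙 ⟶ 𝔖 (all squares cartesian) all of whose levels are smooth, a morphism Φ : 𝔘 ⟶ 𝔙
with Φ ≫ q = p, and isomorphisms of the bottom levels of 𝔘 and 𝔙 with U₀ and V₀, compatible with the
maps to S₀, under which the bottom level of Φ is the restriction U₀ ⟶ V₀ of f. In words: locally on
X₀ the morphism f has a smooth formal lifting over 𝔖. -/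
theorem result (S : Scheme.{u}) [IsLocallyNoetherian S]
    (𝒥 : S.IdealSheafData) {X₀ Y₀ : Scheme.{u}}
    (a : X₀ ⟶ (FSch.completionAlong S 𝒥).X 0) (b : Y₀ ⟶ (FSch.completionAlong S 𝒥).X 0)
    [AlgebraicGeometry.Smooth a] [AlgebraicGeometry.Smooth b] (f : X₀ ⟶ Y₀) (w : f ≫ b = a) (x : X₀) :
    ∃ (U₀ : X₀.Opens) (V₀ : Y₀.Opens) (hU : x ∈ U₀) (hUV : U₀ ≤ f ⁻¹ᵁ V₀)
      (𝔘 𝔙 : FSch.Sys.{u}) (p : 𝔘 ⟶ FSch.completionAlong S 𝒥) (q : 𝔙 ⟶ FSch.completionAlong S 𝒥)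
      (Φ : 𝔘 ⟶ 𝔙) (eU : 𝔘.X 0 ≅ U₀.toScheme) (eV : 𝔙.X 0 ≅ V₀.toScheme),
      Φ ≫ q = p ∧ FSch.IsAdicHom p ∧ FSch.IsAdicHom q ∧
      (∀ n : ℕ, AlgebraicGeometry.Smooth ((p : FSch.Hom 𝔘 _).app n)) ∧
      (∀ n : ℕ, AlgebraicGeometry.Smooth ((q : FSch.Hom 𝔙 _).app n)) ∧
      eU.hom ≫ U₀.ι ≫ a = (p : FSch.Hom 𝔘 _).app 0 ∧
      eV.hom ≫ V₀.ι ≫ b = (q : FSch.Hom 𝔙 _).app 0 ∧
      (Φ : FSch.Hom 𝔘 𝔙).app 0 ≫ eV.hom = eU.hom ≫ f.resLE V₀ U₀ hUV := by
  exact W1.main S 𝒥 a b f w x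

end Groth.Agent.S14006
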