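import Groth.Statements.S14008
import Groth.Agent.Lib.Helper15.Thick
-- import your own Groth.Agent.* helpers here

set_option autoImplicit false
universe u
open FlatMor

namespace Groth.Agent.S14008

section H
namespace W1
open AlgebraicGeometry CategoryTheory Function

/-- `A → B` with `B → B₀` surjective with finitely generated nilpotent kernel and `A → B₀` of finite
type: then `A → B` is of finite type. -/
theorem finiteType_of_comp_surjective_fg {A B B₀ : Type*} [CommRing A] [CommRing B] [CommRing B₀]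
    (φ : A →+* B) (π : B →+* B₀) (hπ : Surjective π) (hfg : (RingHom.ker π).FG)
    (hnil : IsNilpotent (RingHom.ker π)) (hft : (π.comp φ).FiniteType) : φ.FiniteType := by
  classical
  letI := φ.toAlgebra
  letI := (π.comp φ).toAlgebra
  let πₐ : B →ₐ[A] B₀ := { π with commutes' := fun a => rfl }
  have hft' : Algebra.FiniteType A B₀ := hft
  obtain ⟨s, hs⟩ := hft'.out
  obtain ⟨g, hg⟩ := hfg
  let t₁ : Finset B := s.image (Function.surjInv hπ)
  let t : Finset B := t₁ ∪ g
  have hts : πₐ '' (t₁ : Set B) = (s : Set B₀) := by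
    ext y
    simp only [t₁, Finset.coe_image, Set.mem_image, Finset.mem_coe]
    constructor
    · rintro ⟨_, ⟨z, hz, rfl⟩, rfl⟩
      have : πₐ (Function.surjInv hπ z) = z := Function.surjInv_eq hπ z
      rw [this]; exact hz
    · intro hy
      exact ⟨_, ⟨y, hy, rfl⟩, Function.surjInv_eq hπ y⟩
  let C : Subalgebra A B := Algebra.adjoin A (t : Set B)
  have hmap : C.map πₐ = ⊤ := by
    rw [eq_top_iff, ← hs, ← hts, ← AlgHom.map_adjoin]
    exact Subalgebra.map_mono (Algebra.adjoin_mono (by simp [t]))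
  -- the ideal of `C` generated by `g`
  have hgC : ∀ x ∈ g, x ∈ C := fun x hx => Algebra.subset_adjoin (by simp [t, hx])
  let JC : Ideal C := Ideal.span {c : C | (c : B) ∈ g}
  have hJCmap : JC.map (algebraMap C B) = RingHom.ker π := by
    rw [← hg, Ideal.map_span]
    congr 1
    ext x
    simp only [Set.mem_image, Set.mem_ofPred_eq, Finset.mem_coe]
    constructor
    · rintro ⟨c, hc, rfl⟩; exact hc
    · intro hx; exact ⟨⟨x, hgC x hx⟩, hx, rfl⟩
  have hJCnil : IsNilpotent JC := by
    obtain ⟨n, hn⟩ := hnil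
    refine ⟨n, ?_⟩
    have h1 : (JC ^ n).map (algebraMap C B) = ⊥ := by
      rw [Ideal.map_pow, hJCmap, hn]; rfl
    rw [Ideal.zero_eq_bot, eq_bot_iff]
    intro x hx
    have h2 : algebraMap C B x ∈ (JC ^ n).map (algebraMap C B) := Ideal.mem_map_of_mem _ hx
    rw [h1] at h2
    have h3 : (x : B) = 0 := h2
    exact Subtype.ext h3
  let N : Submodule C B := LinearMap.range (Algebra.linearMap C B)
  have hN : N = ⊤ := by
    apply Groth.Agent.Lib.Helper15.Thick.eq_top_of_sup_smul_top JC hJCnil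
    intro b _
    have hb : πₐ b ∈ C.map πₐ := by rw [hmap]; trivial
    obtain ⟨c, hc, hcb⟩ := hb
    have hk : b - c ∈ RingHom.ker π := by
      rw [RingHom.mem_ker, map_sub]
      have : π c = π b := hcb
      rw [this, sub_self]
    have hk' : b - c ∈ JC • (⊤ : Submodule C B) := by
      rw [Ideal.smul_top_eq_map]
      show b - c ∈ JC.map (algebraMap C B)
      rw [hJCmap]; exact hk
    have : b = c + (b - c) := by ring
    rw [this]
    exact Submodule.add_mem_sup ⟨⟨c, hc⟩, rfl⟩ hk'
  refine ⟨⟨t, ?_⟩⟩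
  show C = ⊤
  rw [eq_top_iff]
  intro b _
  have : b ∈ N := by rw [hN]; trivial
  obtain ⟨c, rfl⟩ := this
  exact c.2

set_option backward.isDefEq.respectTransparency.types false in
theorem main {X X₀ Y Y₀ : Scheme.{u}} [IsLocallyNoetherian X]
    (F : Y ⟶ X) (F₀ : Y₀ ⟶ X₀) (i : Y₀ ⟶ Y) (j : X₀ ⟶ X)
    (hi : MoreMor.IsThickening i) (hj : MoreMor.IsThickening j)
    (hinil : ∀ U : Y.affineOpens, IsNilpotent (i.ker.ideal U))
    (hfg : ∀ U : Y.affineOpens, (i.ker.ideal U).FG)
    (w : F₀ ≫ j = i ≫ F) :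
    LocallyOfFinitePresentation F ↔ LocallyOfFinitePresentation F₀ := by
  obtain ⟨hi1, hi2⟩ := hi
  obtain ⟨hj1, hj2⟩ := hj
  haveI := hi1
  haveI := hj1
  haveI : IsLocallyNoetherian X₀ := LocallyOfFiniteType.isLocallyNoetherian j
  rw [LocallyOfFinitePresentation.iff_locallyOfFiniteType,
    LocallyOfFinitePresentation.iff_locallyOfFiniteType]
  constructor
  · intro hF
    haveI : LocallyOfFiniteType (F₀ ≫ j) := by rw [w]; infer_instance
    exact locallyOfFiniteType_of_comp F₀ j
  · intro hF₀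
    haveI : LocallyOfFiniteType (i ≫ F) := by rw [← w]; infer_instance
    rw [HasRingHomProperty.iff_appLE (P := @LocallyOfFiniteType)]
    intro U V e
    have hV₀ : IsAffineOpen (i ⁻¹ᵁ V.1) := V.2.preimage i
    have hle : i ⁻¹ᵁ V.1 ≤ (i ≫ F) ⁻¹ᵁ U.1 := fun x hx => e hx
    have h1 := HasRingHomProperty.appLE (P := @LocallyOfFiniteType) (i ≫ F) inferInstance U
      ⟨_, hV₀⟩ hle
    have h2 : (i ≫ F).appLE U.1 (i ⁻¹ᵁ V.1) hle =
        F.appLE U.1 V.1 e ≫ i.appLE V.1 (i ⁻¹ᵁ V.1) le_rfl := by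
      rw [Scheme.Hom.appLE_comp_appLE]
    rw [h2] at h1
    have hk : RingHom.ker (i.appLE V.1 (i ⁻¹ᵁ V.1) le_rfl).hom = i.ker.ideal V := by
      rw [Scheme.Hom.appLE_eq_app, Scheme.Hom.ker_apply]
    refine finiteType_of_comp_surjective_fg (F.appLE U.1 V.1 e).hom
      (i.appLE V.1 (i ⁻¹ᵁ V.1) le_rfl).hom ?_ ?_ ?_ h1
    · rw [Scheme.Hom.appLE_eq_app]
      exact i.app_surjective V.1 V.2
    · rw [hk]; exact hfg V
    · rw [hk]; exact hinil V

end W1
end H


open AlgebraicGeometry CategoryTheory in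
/-- Consider a commutative square of schemes F₀ ≫ j = i ≫ F in which i : Y₀ ⟶ Y and j : X₀ ⟶ X are
closed immersions surjective on points whose ideals are nilpotent on every affine open, the ideal of
i being moreover finitely generated on every affine open of Y, and assume that X is locally
Noetherian. Then F : Y ⟶ X is locally of finite presentation if and only if F₀ : Y₀ ⟶ X₀ is. The
square is not assumed cartesian. -/
theorem result
    {X X₀ Y Y₀ : Scheme.{u}} [IsLocallyNoetherian X]
    (F : Y ⟶ X) (F₀ : Y₀ ⟶ X₀) (i : Y₀ ⟶ Y) (j : X₀ ⟶ X)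
    (hi : MoreMor.IsThickening i) (hj : MoreMor.IsThickening j)
    (hinil : ∀ U : Y.affineOpens, IsNilpotent (i.ker.ideal U))
    (hjnil : ∀ U : X.affineOpens, IsNilpotent (j.ker.ideal U))
    (hfg : ∀ U : Y.affineOpens, (i.ker.ideal U).FG)
    (w : F₀ ≫ j = i ≫ F) :
    LocallyOfFinitePresentation F ↔ LocallyOfFinitePresentation F₀ := by
  exact W1.main F F₀ i j hi hj hinil hfg w

end Groth.Agent.S14008
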