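import Groth.Statements.S1401
-- import your own Groth.Agent.* helpers here
import Groth.Agent.Lib.Helper26.IndQuasiAffine
import Groth.Agent.S1127

set_option autoImplicit false
universe u
open FlatMor

namespace Groth.Agent.S1401

open AlgebraicGeometry CategoryTheory Limits in
/-- Let S' → S be flat, surjective and quasi-compact and let f' be the base change of f : X → S to S'.
If f' is ind-quasi-affine then so is f. -/
theorem result {X S X' S' : Scheme.{u}} (f : X ⟶ S) (f' : X' ⟶ S') (g' : X' ⟶ X) (g : S' ⟶ S)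
    [Flat g] [Surjective g] [QuasiCompact g] (hc : IsPullback g' f' f g) (hf' : MoreMor.IsIndQuasiAffineHom f') : MoreMor.IsIndQuasiAffineHom f := by
  open Groth.Agent.Lib.Helper26.IndQA Groth.Agent.Lib.Helper26.QuasiAffine in
  rw [isIndQuasiAffineHom_iff] at hf' ⊢
  intro A j _ _ V hV hj
  have : IsAffine V := hV
  have hr : Set.range (j ≫ f) ⊆ Set.range V.ι := by
    rintro _ ⟨a, rfl⟩
    rw [Scheme.Opens.range_ι]
    exact hj ⟨a, rfl⟩
  have e₂ : IsOpenImmersion.lift V.ι (j ≫ f) hr ≫ V.ι = j ≫ f := IsOpenImmersion.lift_fac _ _ _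
  have e₁ : (g ∣_ V) ≫ V.ι = (g ⁻¹ᵁ V).ι ≫ g := morphismRestrict_ι g V
  have hqc : QuasiCompact (IsOpenImmersion.lift V.ι (j ≫ f) hr) := inferInstance
  have hfpqc : (@Surjective ⊓ @Flat ⊓ @QuasiCompact : MorphismProperty Scheme.{u}) (g ∣_ V) :=
    ⟨⟨IsZariskiLocalAtTarget.restrict ‹Surjective g› V, inferInstance⟩, inferInstance⟩
  have hdesc := Groth.Agent.S1127.result.{u}
  have hsq : IsPullback (pullback.fst (g ∣_ V) (IsOpenImmersion.lift V.ι (j ≫ f) hr))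
      (pullback.snd (g ∣_ V) (IsOpenImmersion.lift V.ι (j ≫ f) hr)) (g ∣_ V)
      (IsOpenImmersion.lift V.ι (j ≫ f) hr) := IsPullback.of_hasPullback _ _
  suffices hfst : Mor2.IsQuasiAffine
      (pullback.fst (g ∣_ V) (IsOpenImmersion.lift V.ι (j ≫ f) hr)) by
    have h3 : Mor2.IsQuasiAffine (IsOpenImmersion.lift V.ι (j ≫ f) hr) :=
      MorphismProperty.DescendsAlong.of_isPullback
        (P := (fun _ _ f => Mor2.IsQuasiAffine f : MorphismProperty Scheme.{u})) hsq hfpqc hfst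
    exact (isQAHom_iff_of_isAffine _).mp ((isQAHom_iff _).mpr h3)
  have hqc' : QuasiCompact (pullback.fst (g ∣_ V) (IsOpenImmersion.lift V.ι (j ≫ f) hr)) :=
    inferInstance
  refine ⟨hqc', fun V₁ hV₁ ↦ ?_⟩
  have : CompactSpace ((pullback.fst (g ∣_ V)
      (IsOpenImmersion.lift V.ι (j ≫ f) hr)) ⁻¹ᵁ V₁).toScheme :=
    isCompact_iff_compactSpace.mp (quasiCompact_iff_forall_isAffineOpen.mp hqc' V₁ hV₁)
  refine hf' _ (((pullback.fst (g ∣_ V) (IsOpenImmersion.lift V.ι (j ≫ f) hr)) ⁻¹ᵁ V₁).ι ≫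
    pullback.map _ _ g f (g ⁻¹ᵁ V).ι j V.ι e₁ e₂ ≫ hc.flip.isoPullback.inv)
    ((g ⁻¹ᵁ V).ι ''ᵁ V₁) (hV₁.image_of_isOpenImmersion _) ?_
  rintro _ ⟨a, rfl⟩
  refine ⟨pullback.fst (g ∣_ V) (IsOpenImmersion.lift V.ι (j ≫ f) hr) (Scheme.Opens.ι _ a),
    a.2, ?_⟩
  have hmor : (((pullback.fst (g ∣_ V) (IsOpenImmersion.lift V.ι (j ≫ f) hr)) ⁻¹ᵁ V₁).ι ≫
      pullback.map _ _ g f (g ⁻¹ᵁ V).ι j V.ι e₁ e₂ ≫ hc.flip.isoPullback.inv) ≫ f' =
      ((pullback.fst (g ∣_ V) (IsOpenImmersion.lift V.ι (j ≫ f) hr)) ⁻¹ᵁ V₁).ι ≫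
        pullback.fst (g ∣_ V) (IsOpenImmersion.lift V.ι (j ≫ f) hr) ≫ (g ⁻¹ᵁ V).ι := by
    simp only [Category.assoc, IsPullback.isoPullback_inv_fst]
    congr 1
    exact pullback.lift_fst _ _ _
  have := congr($hmor a)
  simp only [Scheme.Hom.comp_apply] at this
  exact this.symm

end Groth.Agent.S1401
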