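import Groth.Statements.S1402
-- import your own Groth.Agent.* helpers here
import Mathlib.AlgebraicGeometry.ZariskisMainTheorem
import Groth.Agent.Lib.Helper26.QuasiAffine

set_option autoImplicit false
universe u
open FlatMor

namespace Groth.Agent.S1402

open AlgebraicGeometry CategoryTheory Limits Groth.Agent.Lib.Helper26.QuasiAffine in
lemma isQAHom_of_separated_quasiFinite {X Y : Scheme.{u}} (f : X ⟶ Y) [IsSeparated f]
    [LocallyQuasiFinite f] [LocallyOfFiniteType f] [QuasiCompact f] : IsQAHom f := by
  have h1 : QuasiCompact (f.toNormalization ≫ f.fromNormalization) := by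
    rw [f.toNormalization_fromNormalization]; infer_instance
  have h2 : QuasiCompact f.toNormalization :=
    QuasiCompact.of_comp f.toNormalization f.fromNormalization
  have h3 : IsQAHom f.toNormalization :=
    isQAHom_of_isEmbedding _ f.toNormalization.isEmbedding
  have h4 : IsQAHom f.fromNormalization := isQAHom_of_isAffineHom _
  rw [← f.toNormalization_fromNormalization]
  exact MorphismProperty.comp_mem _ _ _ h3 h4

open AlgebraicGeometry CategoryTheory Limits in
/-- A separated, locally quasi-finite morphism is ind-quasi-affine. -/
theorem result {X Y : Scheme.{u}} (f : X ⟶ Y) [IsSeparated f] [LocallyQuasiFinite f] [LocallyOfFiniteType f] :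
    MoreMor.IsIndQuasiAffineHom f := by
  intro V hV U hU
  have : IsAffine V := hV
  have : CompactSpace U.toScheme := isCompact_iff_compactSpace.mp hU
  have hq := isQAHom_of_separated_quasiFinite (U.ι ≫ f ∣_ V)
  exact (Groth.Agent.Lib.Helper26.QuasiAffine.isQAHom_iff_of_isAffine _).mp hq

end Groth.Agent.S1402
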