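import Groth.Statements.S14020
import Mathlib.Algebra.Module.Torsion.Basic
import Mathlib.RingTheory.Finiteness.Ideal
import Mathlib.RingTheory.Finiteness.Basic

set_option autoImplicit false
universe u
open CAlg

namespace Groth.Agent.S14020

theorem isArtinian_of_pow_smul_eq_bot (R : Type u) [CommRing R] (I : Ideal R) (hI : I.FG)
    [IsArtinianRing (R ⧸ I)] :
    ∀ (n : ℕ) (M : Type u) [AddCommGroup M] [Module R M] [Module.Finite R M],
      (I ^ n • (⊤ : Submodule R M) = ⊥) → IsArtinian R M := by
  intro n
  induction n with
  | zero =>
    intro M _ _ _ h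
    rw [pow_zero, Ideal.one_eq_top, Submodule.top_smul] at h
    have : Subsingleton M := by
      rw [← Submodule.subsingleton_iff R]
      exact subsingleton_of_bot_eq_top h.symm
    infer_instance
  | succ n ih =>
    intro M _ _ _ h
    set N : Submodule R M := I • (⊤ : Submodule R M) with hN
    have hNfg : N.FG := Submodule.FG.smul hI Module.Finite.fg_top
    haveI : Module.Finite R N := Module.Finite.of_fg hNfg
    have hNart : IsArtinian R N := by
      apply ih N
      rw [eq_bot_iff]
      intro x hx
      refine Submodule.smul_induction_on hx ?_ ?_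
      · intro a ha y _
        rw [Submodule.mem_bot]
        ext
        rw [Submodule.coe_smul, Submodule.coe_zero]
        have hy : (y : M) ∈ I • (⊤ : Submodule R M) := y.2
        have : a • (y : M) ∈ I ^ (n + 1) • (⊤ : Submodule R M) := by
          rw [pow_succ, mul_smul]
          exact Submodule.smul_mem_smul ha hy
        rw [h] at this
        exact this
      · intro x y hx hy
        exact add_mem hx hy
    haveI : Module.Finite (R ⧸ I) (M ⧸ N) := Module.Finite.of_restrictScalars_finite R (R ⧸ I) (M ⧸ N)
    have hQart' : IsArtinian (R ⧸ I) (M ⧸ N) := inferInstance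
    have hQart : IsArtinian R (M ⧸ N) :=
      isArtinian_of_surjective_algebraMap (S := R) (R := R ⧸ I) Ideal.Quotient.mk_surjective
    exact isArtinian_of_range_eq_ker N.subtype N.mkQ (by simp)

/-- Let R be a commutative ring and I a finitely generated ideal such that the quotient ring R/I is
artinian. Then R/I^n is artinian for every n. -/
theorem result
    (R : Type u) [CommRing R] (I : Ideal R) (hI : I.FG) [IsArtinianRing (R ⧸ I)] (n : ℕ) :
    IsArtinianRing (R ⧸ I ^ n) := by
  have h : I ^ n • (⊤ : Submodule R (R ⧸ I ^ n)) = ⊥ := by
    rw [eq_bot_iff]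
    intro x hx
    refine Submodule.smul_induction_on hx ?_ ?_
    · intro a ha y _
      obtain ⟨y, rfl⟩ := Ideal.Quotient.mk_surjective y
      rw [Submodule.mem_bot]
      change Ideal.Quotient.mk (I ^ n) (a * y) = 0
      rw [Ideal.Quotient.eq_zero_iff_mem]
      exact Ideal.mul_mem_right _ _ ha
    · intro x y hx hy
      exact add_mem hx hy
  have := isArtinian_of_pow_smul_eq_bot R I hI n (R ⧸ I ^ n) h
  exact isArtinian_of_tower R this

end Groth.Agent.S14020
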