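import Groth.Statements.S14029
import Groth.Agent.Lib.Helper1.SubtermUnit

set_option autoImplicit false
open CategoryTheory CategoryTheory.Limits Opposite
universe v u
open CohSite

namespace Groth.Agent.S14029

/-- Let (C, J) be a site and U an object such that every object has at most one morphism to U; assume
extension by the empty set j_! from sheaves of sets on the localized site C/U to sheaves of sets on
C exists (through sheafification on C and left Kan extensions along C/U → C). If V is weakly
contractible in C — every epimorphism of sheaves of sets on C is surjective on sections over V —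
then for any morphism a : V ⟶ U the object V → U of C/U is weakly contractible in C/U: every
epimorphism of sheaves of sets on C/U is surjective on sections over it. Hence C/U has enough weakly
contractible objects when C does. -/
theorem result
    {C : Type u} [Category.{v} C] (J : GrothendieckTopology C) (U : C)
    (hU : ∀ W : C, Subsingleton (W ⟶ U))
    [HasWeakSheafify J (Type (max u v))]
    [∀ (P : (Over U)ᵒᵖ ⥤ Type (max u v)), (Over.forget U).op.HasLeftKanExtension P]
    (V : C) (hV : (∀ (A B : Sheaf J (Type (max u v))) (ψ : A ⟶ B), Epi ψ → Function.Surjective (ψ.hom.app (op V)))) (a : V ⟶ U) :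
    ∀ (A B : Sheaf (J.over U) (Type (max u v))) (ψ : A ⟶ B), Epi ψ →
      Function.Surjective (ψ.hom.app (op (Over.mk a))) := by
  intro A B ψ hψ
  let adj := (Over.forget U).sheafAdjunctionContinuous (Type (max u v)) (J.over U) J
  let L := (Over.forget U).sheafPullback (Type (max u v)) (J.over U) J
  let R := (Over.forget U).sheafPushforwardContinuous (Type (max u v)) (J.over U) J
  haveI : L.IsLeftAdjoint := adj.isLeftAdjoint
  haveI : Epi (L.map ψ) := inferInstance
  have hs := hV _ _ (L.map ψ) inferInstance
  haveI hA := Groth.Agent.Lib.Helper1.SubtermUnit.isIso_unit J U (Type (max u v)) hU A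
  haveI hB := Groth.Agent.Lib.Helper1.SubtermUnit.isIso_unit J U (Type (max u v)) hU B
  have nat := adj.unit.naturality ψ
  have nat' := congrArg (fun t => t.hom.app (op (Over.mk a))) nat
  -- bijectivity of the unit components
  have bij : ∀ (X : Sheaf (J.over U) (Type (max u v))) [IsIso (adj.unit.app X)],
      Function.Bijective ((adj.unit.app X).hom.app (op (Over.mk a))) := by
    intro X hX
    haveI : IsIso ((sheafToPresheaf _ _).map (adj.unit.app X)) := inferInstance
    haveI : IsIso (((sheafToPresheaf _ _).map (adj.unit.app X)).app (op (Over.mk a))) :=
      inferInstance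
    exact (isIso_iff_bijective (((sheafToPresheaf _ _).map (adj.unit.app X)).app (op (Over.mk a)))).1
      inferInstance
  have bA := bij A
  have bB := bij B
  intro y
  obtain ⟨z, hz⟩ := hs ((adj.unit.app B).hom.app (op (Over.mk a)) y)
  obtain ⟨x, hx⟩ := bA.2 z
  refine ⟨x, bB.1 ?_⟩
  have := ConcreteCategory.congr_hom nat' x
  rw [← hz, ← hx]
  exact this

end Groth.Agent.S14029
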