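import Groth.Statements.S14032
import Mathlib.LinearAlgebra.TensorProduct.Quotient
import Mathlib.RingTheory.Ideal.Operations
import Mathlib.RingTheory.Ideal.Quotient.Operations
import Mathlib.RingTheory.Noetherian.Nilpotent
import Mathlib.LinearAlgebra.Basis.Basic
import Mathlib.LinearAlgebra.LinearIndependent.Lemmas

set_option autoImplicit false
universe u v
open W4c1frobunstiva

namespace Groth.Agent.S14032

open TensorProduct in
theorem one_tmul_eq_zero_iff (R : Type u) [CommRing R] (I : Ideal R) (M : Type v) [AddCommGroup M]
    [Module R M] (x : M) :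
    ((1 : R ⧸ I) ⊗ₜ[R] x = 0) ↔ x ∈ (I • ⊤ : Submodule R M) := by
  have h := LinearMap.congr_fun (TensorProduct.quotTensorEquivQuotSMul_comp_mk (M := M) I) x
  simp only [LinearMap.comp_apply, TensorProduct.mk_apply, LinearEquiv.coe_coe] at h
  rw [← Submodule.Quotient.mk_eq_zero, ← Submodule.mkQ_apply, ← h]
  exact (LinearEquiv.map_eq_zero_iff _).symm

open TensorProduct in
theorem smul_one_tmul (R : Type u) [CommRing R] (I : Ideal R) (M : Type v) [AddCommGroup M]
    [Module R M] (a : R) (x : M) :
    (Ideal.Quotient.mk I a) • ((1 : R ⧸ I) ⊗ₜ[R] x) = (1 : R ⧸ I) ⊗ₜ[R] (a • x) := by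
  rw [TensorProduct.smul_tmul', smul_eq_mul, mul_one, ← TensorProduct.smul_tmul]
  congr 1
  rw [Algebra.smul_def, mul_one]
  rfl

open TensorProduct in
theorem sum_smul_one_tmul (R : Type u) [CommRing R] (I : Ideal R) (M : Type v) [AddCommGroup M]
    [Module R M] {r : ℕ} (a : Fin r → R) (m : Fin r → M) :
    ∑ i, (Ideal.Quotient.mk I (a i)) • ((1 : R ⧸ I) ⊗ₜ[R] m i) =
      (1 : R ⧸ I) ⊗ₜ[R] (∑ i, a i • m i) := by
  rw [TensorProduct.tmul_sum]
  exact Finset.sum_congr rfl fun i _ => smul_one_tmul R I M (a i) (m i)

open TensorProduct in
/-- Let R be a commutative Noetherian ring with nilradical n, M an R-module and r a natural number. Then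
M is NR-free of rank r — generated by r elements such that every linear relation among them has
nilpotent coefficients — if and only if (R/n) ⊗_R M is free of rank r over R/n, in the sense of
admitting a basis indexed by r elements. (The published statement assumes M finitely generated and
also gives the converse when R is local; over a Noetherian ring the nilradical is nilpotent, the
case used here, and finite generation is not needed.) -/
theorem result (R : Type u) [CommRing R]
    [IsNoetherianRing R] (M : Type v) [AddCommGroup M] [Module R M] (r : ℕ) :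
    W4c1frobunstiva.IsNRFree R M r ↔
      Nonempty (Module.Basis (Fin r) (R ⧸ nilradical R) ((R ⧸ nilradical R) ⊗[R] M)) := by
  classical
  constructor
  · rintro ⟨m, hspan, hrel⟩
    have hli : LinearIndependent (R ⧸ nilradical R)
        (fun i => (1 : R ⧸ nilradical R) ⊗ₜ[R] m i) := by
      rw [Fintype.linearIndependent_iff]
      intro g hg i
      choose a ha using fun i => Ideal.Quotient.mk_surjective (I := nilradical R) (g i)
      have hg' : ∑ i, (Ideal.Quotient.mk (nilradical R) (a i)) •
          ((1 : R ⧸ nilradical R) ⊗ₜ[R] m i) = 0 := by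
        simpa [ha] using hg
      rw [sum_smul_one_tmul, one_tmul_eq_zero_iff, ← hspan,
        Submodule.mem_ideal_smul_span_iff_exists_sum] at hg'
      obtain ⟨c, hc, hsum⟩ := hg'
      rw [Finsupp.sum_fintype _ _ (fun i => zero_smul R (m i))] at hsum
      have h0 : ∑ i, (a i - c i) • m i = 0 := by
        simp only [sub_smul, Finset.sum_sub_distrib, hsum, sub_self]
      have hnil := hrel _ h0 i
      have hai : a i ∈ nilradical R := by
        have h1 : a i - c i ∈ nilradical R := (mem_nilradical).mpr hnil
        have := (nilradical R).add_mem h1 (hc i)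
        simpa using this
      rw [← ha i]
      exact Ideal.Quotient.eq_zero_iff_mem.mpr hai
    have key : ∀ x : M, (1 : R ⧸ nilradical R) ⊗ₜ[R] x ∈
        Submodule.span (R ⧸ nilradical R)
          (Set.range fun i => (1 : R ⧸ nilradical R) ⊗ₜ[R] m i) := by
      intro x
      have hx : x ∈ Submodule.span R (Set.range m) := by rw [hspan]; trivial
      induction hx using Submodule.span_induction with
      | mem x hx =>
        obtain ⟨i, rfl⟩ := hx
        exact Submodule.subset_span ⟨i, rfl⟩
      | zero => rw [TensorProduct.tmul_zero]; exact Submodule.zero_mem _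
      | add x y _ _ hx hy => rw [TensorProduct.tmul_add]; exact Submodule.add_mem _ hx hy
      | smul a x _ hx =>
        rw [← smul_one_tmul]
        exact Submodule.smul_mem _ _ hx
    refine ⟨Module.Basis.mk hli ?_⟩
    intro z hz
    clear hz
    induction z using TensorProduct.induction_on with
    | zero => exact Submodule.zero_mem _
    | add x y hx hy => exact Submodule.add_mem _ hx hy
    | tmul q x =>
      have : q ⊗ₜ[R] x = q • ((1 : R ⧸ nilradical R) ⊗ₜ[R] x) := by
        rw [TensorProduct.smul_tmul', smul_eq_mul, mul_one]
      rw [this]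
      exact Submodule.smul_mem _ _ (key x)
  · rintro ⟨b⟩
    have hsurj : Function.Surjective (TensorProduct.mk R (R ⧸ nilradical R) M 1) :=
      TensorProduct.mk_surjective R M (R ⧸ nilradical R) Ideal.Quotient.mk_surjective
    choose m hm using fun i => hsurj (b i)
    have hm' : ∀ i, (1 : R ⧸ nilradical R) ⊗ₜ[R] m i = b i := hm
    refine ⟨m, ?_, ?_⟩
    · -- spanning via nilpotent Nakayama
      have hstep : (⊤ : Submodule R M) ≤ Submodule.span R (Set.range m) ⊔
          (nilradical R) • (⊤ : Submodule R M) := by
        intro x _
        have hx := b.sum_repr ((1 : R ⧸ nilradical R) ⊗ₜ[R] x)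
        choose c hc using fun i => Ideal.Quotient.mk_surjective (I := nilradical R)
          (b.repr ((1 : R ⧸ nilradical R) ⊗ₜ[R] x) i)
        have h1 : (1 : R ⧸ nilradical R) ⊗ₜ[R] (x - ∑ i, c i • m i) = 0 := by
          rw [TensorProduct.tmul_sub, ← sum_smul_one_tmul, sub_eq_zero, ← hx]
          exact Finset.sum_congr rfl fun i _ => by rw [hc i, hm' i]
        rw [one_tmul_eq_zero_iff] at h1
        have : x = ∑ i, c i • m i + (x - ∑ i, c i • m i) := by abel
        rw [this]
        apply Submodule.add_mem_sup _ h1
        exact Submodule.sum_mem _ fun i _ => Submodule.smul_mem _ _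
          (Submodule.subset_span ⟨i, rfl⟩)
      have hpow : ∀ k : ℕ, (⊤ : Submodule R M) ≤ Submodule.span R (Set.range m) ⊔
          (nilradical R ^ k) • (⊤ : Submodule R M) := by
        intro k
        induction k with
        | zero => simp
        | succ k ih =>
          have h2 : (nilradical R) • (⊤ : Submodule R M) ≤ Submodule.span R (Set.range m) ⊔
              (nilradical R ^ (k + 1)) • (⊤ : Submodule R M) := by
            calc (nilradical R) • (⊤ : Submodule R M)
                ≤ (nilradical R) • (Submodule.span R (Set.range m) ⊔
                    (nilradical R ^ k) • (⊤ : Submodule R M)) :=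
                  Submodule.smul_mono le_rfl ih
              _ = (nilradical R) • Submodule.span R (Set.range m) ⊔
                    (nilradical R) • ((nilradical R ^ k) • (⊤ : Submodule R M)) :=
                  Submodule.smul_sup _ _ _
              _ ≤ _ := by
                  apply sup_le_sup Submodule.smul_le_right
                  rw [← Submodule.mul_smul, ← pow_succ']
          exact hstep.trans (sup_le le_sup_left h2)
      obtain ⟨k, hk⟩ := IsNoetherianRing.isNilpotent_nilradical R
      have := hpow k
      rw [hk, Ideal.zero_eq_bot, Submodule.bot_smul, sup_bot_eq] at this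
      exact top_le_iff.mp this
    · intro a ha i
      have h1 : ∑ i, (Ideal.Quotient.mk (nilradical R) (a i)) • b i = 0 := by
        have := sum_smul_one_tmul R (nilradical R) M a m
        rw [ha, TensorProduct.tmul_zero] at this
        rw [← this]
        exact Finset.sum_congr rfl fun i _ => by rw [hm' i]
      have h2 := Fintype.linearIndependent_iff.mp b.linearIndependent _ h1 i
      exact mem_nilradical.mp (Ideal.Quotient.eq_zero_iff_mem.mp h2)

end Groth.Agent.S14032
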