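import Groth.Statements.S14033
import Mathlib.RingTheory.FiniteType
import Mathlib.RingTheory.OrzechProperty
import Mathlib.LinearAlgebra.Basis.Basic
import Mathlib.LinearAlgebra.LinearIndependent.Lemmas

set_option autoImplicit false
universe u v
open W4c1frobunstiva

namespace Groth.Agent.S14033


section aux
open DualNumber Pointwise TrivSqZeroExt

variable {R : Type u} [CommRing R] {M : Type v}
    [AddCommGroup M] [Module R[ε] M] [Module R M] [IsScalarTower R R[ε] M]

private lemma smul_eq (x : R[ε]) (m : M) :
    x • m = x.fst • m + x.snd • ((ε : R[ε]) • m) := by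
  conv_lhs => rw [← TrivSqZeroExt.inl_fst_add_inr_snd_eq x]
  rw [add_smul, DualNumber.inr_eq_smul_eps, smul_assoc]
  congr 1
  rw [← TrivSqZeroExt.algebraMap_eq_inl, algebraMap_smul]

private lemma eps_mul (x : R[ε]) : (ε : R[ε]) * x = x.fst • (ε : R[ε]) := by
  ext <;> simp [TrivSqZeroExt.fst_mul, TrivSqZeroExt.snd_mul]

private lemma eps_smul_smul (x : R[ε]) (m : M) :
    (ε : R[ε]) • (x • m) = x.fst • ((ε : R[ε]) • m) := by
  rw [← mul_smul, eps_mul, smul_assoc]

private lemma eps_eps_smul (m : M) : (ε : R[ε]) • ((ε : R[ε]) • m) = 0 := by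
  rw [← mul_smul, DualNumber.eps_mul_eps, zero_smul]

private lemma mem_epsM {y : M} :
    y ∈ ((ε : R[ε]) • (⊤ : Submodule R[ε] M)) ↔ ∃ z : M, (ε : R[ε]) • z = y := by
  rw [Submodule.mem_smul_pointwise_iff_exists]
  constructor
  · rintro ⟨z, -, h⟩; exact ⟨z, h⟩
  · rintro ⟨z, h⟩; exact ⟨z, Submodule.mem_top, h⟩

private lemma mk_smul' (x : R[ε]) (m : M) :
    (Submodule.Quotient.mk (x • m) : M ⧸ ((ε : R[ε]) • (⊤ : Submodule R[ε] M)))
      = x.fst • Submodule.Quotient.mk m := by
  rw [smul_eq, Submodule.Quotient.mk_add, Submodule.Quotient.mk_smul]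
  have : (Submodule.Quotient.mk (x.snd • ((ε : R[ε]) • m)) :
      M ⧸ ((ε : R[ε]) • (⊤ : Submodule R[ε] M))) = 0 := by
    rw [Submodule.Quotient.mk_eq_zero, mem_epsM]
    exact ⟨x.snd • m, by rw [smul_comm]⟩
  rw [this, add_zero]

end aux

open DualNumber Pointwise in
/-- Let R be a commutative ring, R[ε] its ring of dual numbers (ε² = 0), M an R[ε]-module and r a
natural number. Then M is free of rank r over R[ε] (admits a basis of r elements) if and only if the
R-modules M/εM and εM are both free of rank r. (The published statement concerns a coherent sheaf on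
the product of a scheme S with Spec ℤ[ε] and local freeness of rank r; that assertion is local, and
this row is its form over one ring, with no finiteness assumption on M and no hypothesis on R.) -/
theorem result (R : Type u) [CommRing R] (M : Type v)
    [AddCommGroup M] [Module R[ε] M] [Module R M] [IsScalarTower R R[ε] M] (r : ℕ) :
    Nonempty (Module.Basis (Fin r) R[ε] M) ↔
      (Nonempty (Module.Basis (Fin r) R (M ⧸ ((ε : R[ε]) • (⊤ : Submodule R[ε] M)))) ∧
        Nonempty (Module.Basis (Fin r) R (((ε : R[ε]) • (⊤ : Submodule R[ε] M)).restrictScalars R))) := by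
  classical
  constructor
  · rintro ⟨b⟩
    -- representation
    have hrepr : ∀ y : M, y = ∑ i, b.repr y i • b i := fun y => (b.sum_repr y).symm
    constructor
    · -- basis of the quotient
      have hli : LinearIndependent R
          (fun i => (Submodule.Quotient.mk (b i) : M ⧸ ((ε : R[ε]) • (⊤ : Submodule R[ε] M)))) := by
        rw [Fintype.linearIndependent_iff]
        intro a ha i
        have h1 : (Submodule.Quotient.mk (∑ i, a i • b i) :
            M ⧸ ((ε : R[ε]) • (⊤ : Submodule R[ε] M))) = 0 := by
          rw [← ha]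
          simp only [← Submodule.mkQ_apply, map_sum]
          refine Finset.sum_congr rfl fun j _ => ?_
          rw [Submodule.mkQ_apply, Submodule.mkQ_apply, Submodule.Quotient.mk_smul]
        rw [Submodule.Quotient.mk_eq_zero, mem_epsM] at h1
        obtain ⟨z, hz⟩ := h1
        have h2 : ∑ j, ((ε : R[ε]) * b.repr z j - algebraMap R R[ε] (a j)) • b j = 0 := by
          simp only [sub_smul, Finset.sum_sub_distrib, algebraMap_smul, mul_smul]
          rw [← Finset.smul_sum, ← hrepr z, hz, sub_self]
        have h3 := (Fintype.linearIndependent_iff.1 b.linearIndependent) _ h2 i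
        have h4 := congrArg TrivSqZeroExt.fst h3
        rw [eps_mul] at h4
        simpa [TrivSqZeroExt.algebraMap_eq_inl] using h4
      have hsp : ⊤ ≤ Submodule.span R (Set.range
          (fun i => (Submodule.Quotient.mk (b i) : M ⧸ ((ε : R[ε]) • (⊤ : Submodule R[ε] M))))) := by
        rintro q -
        obtain ⟨y, rfl⟩ := Submodule.Quotient.mk_surjective _ q
        rw [hrepr y]
        simp only [← Submodule.mkQ_apply, map_sum]
        refine Submodule.sum_mem _ fun j _ => ?_
        rw [Submodule.mkQ_apply, mk_smul']
        exact Submodule.smul_mem _ _ (Submodule.subset_span ⟨j, rfl⟩)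
      exact ⟨Module.Basis.mk hli hsp⟩
    · -- basis of εM
      let v : Fin r → ↥(((ε : R[ε]) • (⊤ : Submodule R[ε] M)).restrictScalars R) :=
        fun i => ⟨(ε : R[ε]) • b i, mem_epsM.2 ⟨b i, rfl⟩⟩
      have hli : LinearIndependent R v := by
        rw [Fintype.linearIndependent_iff]
        intro a ha i
        have h1 : ∑ j, a j • ((ε : R[ε]) • b j) = 0 := by
          have := congrArg Subtype.val ha
          simpa [v] using this
        have h2 : ∑ j, (a j • (ε : R[ε])) • b j = 0 := by
          rw [← h1]
          refine Finset.sum_congr rfl fun j _ => ?_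
          rw [smul_assoc]
        have h3 := (Fintype.linearIndependent_iff.1 b.linearIndependent) _ h2 i
        have h4 := congrArg TrivSqZeroExt.snd h3
        simpa using h4
      have hsp : ⊤ ≤ Submodule.span R (Set.range v) := by
        rintro ⟨y, hy⟩ -
        obtain ⟨z, rfl⟩ := mem_epsM.1 hy
        have h1 : (ε : R[ε]) • z = ∑ j, (b.repr z j).fst • ((ε : R[ε]) • b j) := by
          conv_lhs => rw [hrepr z]
          rw [Finset.smul_sum]
          refine Finset.sum_congr rfl fun j _ => ?_
          rw [eps_smul_smul]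
        have h2 : (⟨(ε : R[ε]) • z, hy⟩ :
            ↥(((ε : R[ε]) • (⊤ : Submodule R[ε] M)).restrictScalars R))
            = ∑ j, (b.repr z j).fst • v j := by
          apply Subtype.ext
          change (ε : R[ε]) • z = _
          rw [h1]
          simp [v]
        rw [h2]
        exact Submodule.sum_mem _ fun j _ =>
          Submodule.smul_mem _ _ (Submodule.subset_span ⟨j, rfl⟩)
      exact ⟨Module.Basis.mk hli hsp⟩
  · rintro ⟨⟨bq⟩, ⟨be⟩⟩
    choose m hm using fun i => Submodule.Quotient.mk_surjective
      ((ε : R[ε]) • (⊤ : Submodule R[ε] M)) (bq i)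
    -- every y is Σ a_i m_i + ε y'
    have hdecomp : ∀ y : M, ∃ (a : Fin r → R) (y' : M), y = ∑ i, a i • m i + (ε : R[ε]) • y' := by
      intro y
      have h1 : (Submodule.Quotient.mk (y - ∑ i, bq.repr (Submodule.Quotient.mk y) i • m i) :
          M ⧸ ((ε : R[ε]) • (⊤ : Submodule R[ε] M))) = 0 := by
        rw [Submodule.Quotient.mk_sub, sub_eq_zero]
        conv_lhs => rw [← bq.sum_repr (Submodule.Quotient.mk y)]
        simp only [← Submodule.mkQ_apply, map_sum]
        refine Finset.sum_congr rfl fun j _ => ?_
        rw [Submodule.mkQ_apply, Submodule.mkQ_apply, Submodule.Quotient.mk_smul, hm]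
      rw [Submodule.Quotient.mk_eq_zero, mem_epsM] at h1
      obtain ⟨y', hy'⟩ := h1
      exact ⟨fun i => bq.repr (Submodule.Quotient.mk y) i, y', by rw [hy']; abel⟩
    have hsp : ⊤ ≤ Submodule.span R[ε] (Set.range m) := by
      rintro y -
      obtain ⟨a, y', rfl⟩ := hdecomp y
      obtain ⟨a', y'', rfl⟩ := hdecomp y'
      rw [smul_add, eps_eps_smul, add_zero]
      refine Submodule.add_mem _ (Submodule.sum_mem _ fun j _ => ?_)
        (Submodule.smul_mem _ _ (Submodule.sum_mem _ fun j _ => ?_))
      · rw [← algebraMap_smul R[ε] (a j) (m j)]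
        exact Submodule.smul_mem _ _ (Submodule.subset_span ⟨j, rfl⟩)
      · rw [← algebraMap_smul R[ε] (a' j) (m j)]
        exact Submodule.smul_mem _ _ (Submodule.subset_span ⟨j, rfl⟩)
    -- the family ε m_i in εM
    let v : Fin r → ↥(((ε : R[ε]) • (⊤ : Submodule R[ε] M)).restrictScalars R) :=
      fun i => ⟨(ε : R[ε]) • m i, mem_epsM.2 ⟨m i, rfl⟩⟩
    let ψ : (Fin r → R) →ₗ[R] ↥(((ε : R[ε]) • (⊤ : Submodule R[ε] M)).restrictScalars R) :=
      Fintype.linearCombination R v
    have hψsurj : Function.Surjective ψ := by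
      rintro ⟨y, hy⟩
      obtain ⟨z, rfl⟩ := mem_epsM.1 hy
      obtain ⟨a, z', rfl⟩ := hdecomp z
      refine ⟨a, ?_⟩
      apply Subtype.ext
      change _ = (ε : R[ε]) • (∑ i, a i • m i + (ε : R[ε]) • z')
      rw [smul_add, eps_eps_smul, add_zero, Finset.smul_sum]
      simp only [ψ, Fintype.linearCombination_apply, v]
      rw [Submodule.coe_sum]
      refine Finset.sum_congr rfl fun j _ => ?_
      rw [Submodule.coe_smul, smul_comm]
    have hψinj : Function.Injective ψ := by
      have h1 : Function.Surjective (be.equivFun.toLinearMap ∘ₗ ψ) :=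
        be.equivFun.surjective.comp hψsurj
      have h2 := OrzechProperty.injective_of_surjective_endomorphism _ h1
      intro x y hxy
      exact h2 (by simp only [LinearMap.coe_comp, Function.comp_apply, hxy])
    have hli : LinearIndependent R[ε] m := by
      rw [Fintype.linearIndependent_iff]
      intro c hc
      have h1 : ∑ i, (c i).fst • bq i = 0 := by
        have := congrArg (Submodule.Quotient.mk (p := (ε : R[ε]) • (⊤ : Submodule R[ε] M))) hc
        rw [Submodule.Quotient.mk_zero] at this
        rw [← this]
        simp only [← Submodule.mkQ_apply, map_sum]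
        refine Finset.sum_congr rfl fun j _ => ?_
        rw [Submodule.mkQ_apply, mk_smul', hm]
      have hfst : ∀ i, (c i).fst = 0 := Fintype.linearIndependent_iff.1 bq.linearIndependent _ h1
      have h2 : ψ (fun i => (c i).snd) = 0 := by
        apply Subtype.ext
        simp only [ψ, Fintype.linearCombination_apply, v]
        rw [Submodule.coe_sum, Submodule.coe_zero, ← hc]
        refine Finset.sum_congr rfl fun j _ => ?_
        rw [Submodule.coe_smul, smul_eq (c j) (m j), hfst j, zero_smul, zero_add]
      have h3 : (fun i => (c i).snd) = 0 := hψinj (by rw [h2, map_zero])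
      intro i
      ext
      · exact hfst i
      · exact congrFun h3 i
    exact ⟨Module.Basis.mk hli hsp⟩

end Groth.Agent.S14033
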