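import Groth.Statements.S14034
import Mathlib

set_option autoImplicit false
universe u
open W4c1frobunstiva

namespace Groth.Agent.S14034

section aux

-- universe u declared in template
open W4c1frobunstiva

section
variable {R : Type u} [CommRing R] [IsLocalRing R]

/-- kernel of a surjection between finite free modules over a local ring: free with a retraction -/
theorem ker_split {n s : ℕ} {E : Type u} [AddCommGroup E] [Module R E] [Module.Free R E] [Module.Finite R E]
    (hE : Module.finrank R E = n)
    (Ψ : E →ₗ[R] (Fin s → R)) (hΨ : Function.Surjective Ψ) :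
    ∃ (b : Module.Basis (Fin (n - s)) R (LinearMap.ker Ψ)) (ρ : E →ₗ[R] LinearMap.ker Ψ),
      ∀ v : LinearMap.ker Ψ, ρ v.1 = v := by
  obtain ⟨σ, hσ⟩ := Module.projective_lifting_property Ψ LinearMap.id hΨ
  have hσ' : ∀ z, Ψ (σ z) = z := fun z => by
    have := LinearMap.congr_fun hσ z
    simpa using this
  let ρ0 : E →ₗ[R] E := LinearMap.id - σ.comp Ψ
  have hρ0 : ∀ x, ρ0 x ∈ LinearMap.ker Ψ := by
    intro x
    simp [ρ0, hσ']
  let ρ : E →ₗ[R] LinearMap.ker Ψ := ρ0.codRestrict _ hρ0
  have hρ : ∀ v : LinearMap.ker Ψ, ρ v.1 = v := by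
    intro v
    apply Subtype.ext
    have hv : Ψ v.1 = 0 := v.2
    simp [ρ, ρ0, hv]
  haveI : Module.Projective R (LinearMap.ker Ψ) :=
    Module.Projective.of_split (LinearMap.ker Ψ).subtype ρ (by
      ext v
      simp [hρ])
  haveI : Module.Finite R (LinearMap.ker Ψ) :=
    Module.Finite.of_surjective ρ (fun v => ⟨v.1, hρ v⟩)
  haveI : Module.Free R (LinearMap.ker Ψ) := Module.free_of_flat_of_isLocalRing
  -- rank
  let e : (LinearMap.ker Ψ × (Fin s → R)) ≃ₗ[R] E :=
    LinearEquiv.ofLinear ((LinearMap.ker Ψ).subtype.coprod σ) (ρ.prod Ψ)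
      (by
        ext x
        simp [ρ, ρ0])
      (by
        apply LinearMap.ext
        rintro ⟨v, z⟩
        have hv : Ψ v.1 = 0 := v.2
        apply Prod.ext
        · apply Subtype.ext
          simp [ρ, ρ0, hv, hσ']
        · simp [hv, hσ'])
  have hrank : Module.finrank R (LinearMap.ker Ψ) = n - s := by
    have h1 := e.finrank_eq
    rw [Module.finrank_prod, Module.finrank_fin_fun, hE] at h1
    omega
  exact ⟨(Module.finBasis R (LinearMap.ker Ψ)).reindex (finCongr hrank), ρ, hρ⟩

end

section main
variable (R : Type u) [CommRing R] [IsNoetherianRing R] [IsLocalRing R] (f : R)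
    (hann : ∀ a : R, a * f = 0 → IsNilpotent a) (r s l : ℕ) (hls : l ≤ s)

/-- the generators of the relation submodule -/
noncomputable def gmap : (Fin l → R) →ₗ[R] (Fin s → R) :=
  Fintype.linearCombination R (fun i : Fin l => (Pi.single (Fin.castLE hls i) f : Fin s → R))

theorem gmap_apply (y : Fin l → R) (i : Fin l) : gmap R f s l hls y (Fin.castLE hls i) = y i * f := by
  unfold gmap
  rw [Fintype.linearCombination_apply, Finset.sum_apply]
  rw [Finset.sum_eq_single i]
  · simp
  · intro j _ hji
    have : Fin.castLE hls i ≠ Fin.castLE hls j := fun h => hji ((Fin.castLE_injective hls h).symm)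
    simp [Pi.single_apply, this]
  · simp

theorem range_gmap : LinearMap.range (gmap R f s l hls) =
    Submodule.span R (Set.range fun i : Fin l => (Pi.single (Fin.castLE hls i) f : Fin s → R)) := by
  unfold gmap
  rw [Fintype.range_linearCombination]

include hann in
theorem main' (K : Submodule R (Fin s → R)) (hrg : LinearMap.range (gmap R f s l hls) = K)
    (φ : (Fin r → R) →ₗ[R] ((Fin s → R) ⧸ K))
    (hφ : Function.Surjective φ) :
    W4c1frobunstiva.IsNRFree R (LinearMap.ker φ) (r + l - s) ∧
      (l = 0 → Nonempty (Module.Basis (Fin (r - s)) R (LinearMap.ker φ))) := by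
  obtain ⟨ψ, hψ⟩ := Module.projective_lifting_property K.mkQ φ (Submodule.mkQ_surjective K)
  have hψ' : ∀ x, K.mkQ (ψ x) = φ x := fun x => LinearMap.congr_fun hψ x
  let g := gmap R f s l hls
  have hgK : ∀ w, w ∈ K ↔ ∃ y, gmap R f s l hls y = w := fun w => by
    rw [← hrg]; exact LinearMap.mem_range
  let Ψ : ((Fin r → R) × (Fin l → R)) →ₗ[R] (Fin s → R) := ψ.coprod g
  have hΨ : Function.Surjective Ψ := by
    intro z
    obtain ⟨x, hx⟩ := hφ (K.mkQ z)
    have h1 : z - ψ x ∈ K := by
      rw [← Submodule.Quotient.mk_eq_zero, Submodule.Quotient.mk_sub]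
      have := hψ' x
      simp only [Submodule.mkQ_apply] at this hx
      rw [this, hx, sub_self]
    obtain ⟨y, hy⟩ := (hgK _).mp h1
    refine ⟨(x, y), ?_⟩
    show ψ x + gmap R f s l hls y = z
    rw [hy]; abel
  have hE : Module.finrank R ((Fin r → R) × (Fin l → R)) = r + l := by
    rw [Module.finrank_prod, Module.finrank_fin_fun, Module.finrank_fin_fun]
  obtain ⟨b, ρ, hρ⟩ := ker_split hE Ψ hΨ
  -- elements of ker Ψ give elements of ker φ
  have hmem : ∀ v : LinearMap.ker Ψ, v.1.1 ∈ LinearMap.ker φ := by
    intro v
    have hv : ψ v.1.1 + g v.1.2 = 0 := by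
      have h0 : (ψ.coprod g) v.1 = 0 := LinearMap.mem_ker.mp v.2
      rw [LinearMap.coprod_apply] at h0
      exact h0
    rw [LinearMap.mem_ker, ← hψ' v.1.1]
    have h2 : ψ v.1.1 = - g v.1.2 := eq_neg_of_add_eq_zero_left hv
    rw [h2, map_neg, neg_eq_zero, Submodule.mkQ_apply, Submodule.Quotient.mk_eq_zero]
    exact (hgK _).mpr ⟨_, rfl⟩
  let pr : LinearMap.ker Ψ →ₗ[R] LinearMap.ker φ :=
    ((LinearMap.fst R _ _).comp (LinearMap.ker Ψ).subtype).codRestrict _ hmem
  have hpr : ∀ v, (pr v : Fin r → R) = v.1.1 := fun v => rfl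
  have hprsurj : Function.Surjective pr := by
    intro x
    have hx : K.mkQ (ψ x.1) = 0 := by rw [hψ' x.1]; exact x.2
    rw [Submodule.mkQ_apply, Submodule.Quotient.mk_eq_zero] at hx
    obtain ⟨y, hy⟩ := (hgK _).mp hx
    refine ⟨⟨(x.1, -y), ?_⟩, Subtype.ext rfl⟩
    show (ψ.coprod g) (x.1, -y) = 0
    rw [LinearMap.coprod_apply]
    show ψ x.1 + gmap R f s l hls (-y) = 0
    rw [map_neg, hy, add_neg_cancel]
  -- key: kernel of pr consists of (0,y) with y nilpotent coordinates
  have hkey : ∀ v : LinearMap.ker Ψ, pr v = 0 → ∀ i, IsNilpotent (v.1.2 i) := by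
    intro v hv i
    have h1 : v.1.1 = 0 := by
      have := congrArg Subtype.val hv
      simpa [hpr] using this
    have h2 : g v.1.2 = 0 := by
      have h0 : (ψ.coprod g) v.1 = 0 := LinearMap.mem_ker.mp v.2
      rw [LinearMap.coprod_apply, h1, map_zero, zero_add] at h0
      exact h0
    apply hann
    rw [← gmap_apply R f s l hls v.1.2 i]
    show g v.1.2 _ = 0
    rw [h2]; rfl
  -- coordinates of v in terms of its second component
  have hcoord : ∀ v : LinearMap.ker Ψ, v.1.1 = 0 → ∀ j, IsNilpotent (b.repr v j) →
      True := fun _ _ _ _ => trivial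
  let L : (Fin l → R) →ₗ[R] LinearMap.ker Ψ := ρ.comp (LinearMap.inr R _ _)
  have hL : ∀ v : LinearMap.ker Ψ, v.1.1 = 0 → L v.1.2 = v := by
    intro v hv
    have : (LinearMap.inr R (Fin r → R) (Fin l → R)) v.1.2 = v.1 := by
      apply Prod.ext
      · simp [hv]
      · simp
    show ρ ((LinearMap.inr R (Fin r → R) (Fin l → R)) v.1.2) = v
    rw [this, hρ]
  have hnil : ∀ v : LinearMap.ker Ψ, pr v = 0 → ∀ j, IsNilpotent (b.repr v j) := by
    intro v hv j
    have h1 : v.1.1 = 0 := by
      have := congrArg Subtype.val hv
      simpa [hpr] using this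
    have hy := hkey v hv
    rw [← hL v h1]
    have hsum := LinearMap.pi_apply_eq_sum_univ (b.repr.toLinearMap.comp L) v.1.2
    have : b.repr (L v.1.2) j = ∑ i, v.1.2 i * (b.repr (L fun k => if i = k then 1 else 0)) j := by
      have := congrArg (fun w => w j) hsum
      simpa [Finsupp.coe_finset_sum] using this
    rw [this, ← mem_nilradical]
    refine Ideal.sum_mem _ fun i _ => ?_
    exact Ideal.mul_mem_right _ _ (mem_nilradical.mpr (hy i))
  refine ⟨⟨fun j => pr (b j), ?_, ?_⟩, ?_⟩
  · -- spanning
    rw [eq_top_iff]
    rintro x -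
    obtain ⟨v, rfl⟩ := hprsurj x
    have : v ∈ Submodule.span R (Set.range b) := by rw [b.span_eq]; trivial
    have h2 := Submodule.apply_mem_span_image_of_mem_span pr this
    rw [← Set.range_comp] at h2
    exact h2
  · intro a ha j
    have hv : pr (∑ i, a i • b i) = 0 := by
      rw [map_sum]
      simpa [map_smul] using ha
    have := hnil _ hv j
    rw [congrFun (b.repr_sum_self a) j] at this
    exact this
  · intro hl0
    subst hl0
    have hinj : Function.Injective pr := by
      rw [injective_iff_map_eq_zero]
      intro v hv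
      have h1 : v.1.1 = 0 := by
        have := congrArg Subtype.val hv
        simpa [hpr] using this
      apply Subtype.ext
      apply Prod.ext
      · exact h1
      · funext i; exact i.elim0
    exact ⟨b.map (LinearEquiv.ofBijective pr ⟨hinj, hprsurj⟩)⟩

include hann in
theorem main
    (φ : (Fin r → R) →ₗ[R]
      ((Fin s → R) ⧸ Submodule.span R (Set.range fun i : Fin l => (Pi.single (Fin.castLE hls i) f : Fin s → R))))
    (hφ : Function.Surjective φ) :
    W4c1frobunstiva.IsNRFree R (LinearMap.ker φ) (r + l - s) ∧
      (l = 0 → Nonempty (Module.Basis (Fin (r - s)) R (LinearMap.ker φ))) :=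
  main' R f hann r s l hls _ (range_gmap R f s l hls) φ hφ

end main

end aux

/-- Let R be a Noetherian local ring and f an element of R whose annihilator consists of nilpotent
elements (a f = 0 forces a nilpotent), r, s and l ≤ s natural numbers, N the quotient of the free
module R^s by the submodule spanned by f e_1, …, f e_l (e_i the standard basis vectors), and φ : R^r
→ N a surjective linear map. Then the kernel of φ is NR-free of rank r + l − s: it is generated by r
+ l − s elements every linear relation among which has nilpotent coefficients; and when l = 0 the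
kernel is free of rank r − s. (The published statement takes R Noetherian with irreducible spectrum
and R_red a domain, not necessarily local, and f arbitrary. Over the coordinate ring of the real
2-sphere the kernel of (x, y, z) : R³ → R is not free, and over k[x, y]/(y², xy) localised at (x, y)
with f = y the kernel of R → R/(y) is spanned by y with the non-nilpotent relation x·y = 0. The
published argument uses that the kernel of a surjection of free modules is free, true over a local
ring, and that a f = 0 forces a nilpotent, which is the hypothesis taken here; it holds when R_red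
is a domain and f is not nilpotent, and also for f = ε in A[ε] with A a domain, so primality of the
nilradical is not assumed.) -/
theorem result (R : Type u)
    [CommRing R] [IsNoetherianRing R] [IsLocalRing R] (f : R)
    (hann : ∀ a : R, a * f = 0 → IsNilpotent a) (r s l : ℕ) (hls : l ≤ s)
    (φ : (Fin r → R) →ₗ[R]
      ((Fin s → R) ⧸ Submodule.span R (Set.range fun i : Fin l => (Pi.single (Fin.castLE hls i) f : Fin s → R))))
    (hφ : Function.Surjective φ) :
    W4c1frobunstiva.IsNRFree R (LinearMap.ker φ) (r + l - s) ∧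
      (l = 0 → Nonempty (Module.Basis (Fin (r - s)) R (LinearMap.ker φ))) := by
  exact main R f hann r s l hls φ hφ

end Groth.Agent.S14034
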