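import Groth.Statements.S14035
import Mathlib

set_option autoImplicit false
universe u v
open W4c1frobunstiva

namespace Groth.Agent.S14035
open TensorProduct

/-- a finite module all of whose residue-field fibres vanish is zero -/
theorem subsingleton_of_fibres {B : Type v} [CommRing B] (N : Type v) [AddCommGroup N] [Module B N]
    [Module.Finite B N]
    (h : ∀ q : PrimeSpectrum B, Subsingleton (q.asIdeal.ResidueField ⊗[B] N)) : Subsingleton N := by
  rw [← Module.support_eq_empty_iff (R := B)]
  rw [Set.eq_empty_iff_forall_notMem]
  intro q hq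
  rw [Module.mem_support_iff_nontrivial_residueField_tensorProduct] at hq
  exact not_subsingleton _ (h q)

theorem isNilpotent_lTensor_subtype {A : Type u} {B : Type v} [CommRing A] [CommRing B] [Algebra A B]
    (K : Type u) [CommRing K] [Algebra A K]
    (z : K ⊗[A] ↥((nilradical B).restrictScalars A)) :
    IsNilpotent ((((nilradical B).restrictScalars A).subtype.lTensor K) z) := by
  induction z using TensorProduct.induction_on with
  | zero => rw [map_zero]; exact IsNilpotent.zero
  | tmul c n =>
    rw [LinearMap.lTensor_tmul]
    obtain ⟨k, hk⟩ : IsNilpotent (n : B) := n.2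
    refine ⟨k, ?_⟩
    show (c ⊗ₜ[A] (n : B)) ^ k = 0
    rw [Algebra.TensorProduct.tmul_pow, hk, TensorProduct.tmul_zero]
  | add x y hx hy =>
    rw [map_add]
    exact (Commute.all _ _).isNilpotent_add hx hy


open TensorProduct in
/-- Let A → B be a ring homomorphism with B Noetherian. If B modulo its nilradical is flat over A and
every fibre ring κ(p) ⊗_A B, p a prime of A, is reduced, then B is reduced. (This is the affine form
of the statement for a morphism of schemes X → Y all of whose fibres are reduced and whose
restriction to the reduced closed subscheme X_red is flat. The published statement does not say X is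
locally Noetherian, but its proof applies Nakayama's lemma to the nilradical as a finitely generated
ideal; without it the square-zero extension of a discrete valuation ring A by Frac(A)/A is a
counterexample.) -/
theorem result (A : Type u) (B : Type v)
    [CommRing A] [CommRing B] [Algebra A B] [IsNoetherianRing B]
    [Module.Flat A (B ⧸ nilradical B)]
    (hfib : ∀ p : PrimeSpectrum A, IsReduced (p.asIdeal.ResidueField ⊗[A] B)) :
    IsReduced B := by
  rw [← nilradical_eq_bot_iff]
  set N : Ideal B := nilradical B with hN
  -- step 1
  have h1 : ∀ p : PrimeSpectrum A,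
      Subsingleton (p.asIdeal.ResidueField ⊗[A] ↥(N.restrictScalars A)) := by
    intro p
    have hinj : Function.Injective ((N.restrictScalars A).subtype.lTensor p.asIdeal.ResidueField) :=
      LinearMap.lTensor_injective_of_exact_of_flat ((Submodule.mkQ N).restrictScalars A)
        (Submodule.mkQ_surjective N) (N.restrictScalars A).subtype
        (Submodule.injective_subtype _)
        (by
          intro x
          constructor
          · intro hx
            exact ⟨⟨x, (Submodule.Quotient.mk_eq_zero N).1 hx⟩, rfl⟩
          · rintro ⟨y, rfl⟩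
            exact (Submodule.Quotient.mk_eq_zero N).2 y.2) _
    refine ⟨fun a b => hinj ?_⟩
    have key : ∀ z : p.asIdeal.ResidueField ⊗[A] ↥(N.restrictScalars A),
        ((N.restrictScalars A).subtype.lTensor p.asIdeal.ResidueField) z = 0 := by
      intro z
      have := hfib p
      exact (isNilpotent_lTensor_subtype (A := A) (B := B) p.asIdeal.ResidueField z).eq_zero
    rw [key a, key b]
  -- step 2
  have h2 : ∀ q : PrimeSpectrum B, Subsingleton (q.asIdeal.ResidueField ⊗[B] ↥N) := by
    intro q
    let p : PrimeSpectrum A := ⟨q.asIdeal.comap (algebraMap A B), inferInstance⟩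
    let σ : p.asIdeal.ResidueField →ₐ[A] q.asIdeal.ResidueField :=
      Ideal.ResidueField.mapₐ p.asIdeal q.asIdeal (Algebra.ofId A B) rfl
    let Φ : p.asIdeal.ResidueField ⊗[A] ↥(N.restrictScalars A) →ₗ[A]
        q.asIdeal.ResidueField ⊗[B] ↥N :=
      TensorProduct.lift (LinearMap.mk₂ A
        (fun (c : p.asIdeal.ResidueField) (n : ↥(N.restrictScalars A)) =>
          σ c ⊗ₜ[B] (⟨n.1, n.2⟩ : ↥N))
        (fun c c' n => by simp only [map_add, TensorProduct.add_tmul])
        (fun a c n => by simp only [map_smul, TensorProduct.smul_tmul'])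
        (fun c n n' => by rw [← TensorProduct.tmul_add]; rfl)
        (fun a c n => by rw [← TensorProduct.tmul_smul]; rfl))
    have hΦ : ∀ n : ↥N, (1 : q.asIdeal.ResidueField) ⊗ₜ[B] n = 0 := by
      intro n
      have hsub := h1 p
      have e1 : Φ ((1 : p.asIdeal.ResidueField) ⊗ₜ[A] (⟨n.1, n.2⟩ : ↥(N.restrictScalars A))) =
          (1 : q.asIdeal.ResidueField) ⊗ₜ[B] n := by
        show σ 1 ⊗ₜ[B] (⟨n.1, n.2⟩ : ↥N) = _
        rw [map_one]
      rw [← e1, Subsingleton.elim ((1 : p.asIdeal.ResidueField) ⊗ₜ[A]
        (⟨n.1, n.2⟩ : ↥(N.restrictScalars A))) 0, map_zero]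
    refine ⟨fun a b => ?_⟩
    have key : ∀ z : q.asIdeal.ResidueField ⊗[B] ↥N, z = 0 := by
      intro z
      induction z using TensorProduct.induction_on with
      | zero => rfl
      | tmul c n =>
        have : c ⊗ₜ[B] n = c • ((1 : q.asIdeal.ResidueField) ⊗ₜ[B] n) := by
          rw [TensorProduct.smul_tmul', smul_eq_mul, mul_one]
        rw [this, hΦ, smul_zero]
      | add x y hx hy => rw [hx, hy, add_zero]
    rw [key a, key b]
  have h3 : Subsingleton ↥N := subsingleton_of_fibres (B := B) ↥N h2
  rw [Submodule.eq_bot_iff]
  intro x hx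
  have := Subsingleton.elim (⟨x, hx⟩ : ↥N) 0
  exact congrArg Subtype.val this

end Groth.Agent.S14035
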