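import Groth.Statements.S1404
import Groth.Agent.Lib.lead.HorizD
import Groth.Agent.Lib.lead.FlatLocalDimFormula

set_option autoImplicit false
universe u
open FlatMor

namespace Groth.Agent.S1404

/-- Let A → B be an injective local homomorphism of local domains with B essentially of finite type over
A, and g an element of the maximal ideal of B lying in no minimal prime over m_A B. Assume dim(B /
m_A B) + trdeg_{κ(A)} κ(B) = trdeg_A B (with all three finite). Then A → B/gB is injective. -/
theorem result {A B : Type u} [CommRing A] [CommRing B] [IsDomain A] [IsDomain B] [IsLocalRing A] [IsLocalRing B]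
    [Algebra A B] [IsLocalHom (algebraMap A B)] [FaithfulSMul A B] [Algebra.EssFiniteType A B]
    (g : B) (hg : g ∈ IsLocalRing.maximalIdeal B)
    (hmin : ∀ q ∈ (Ideal.map (algebraMap A B) (IsLocalRing.maximalIdeal A)).minimalPrimes, g ∉ q)
    (d e : ℕ) (hd : ringKrullDim (B ⧸ Ideal.map (algebraMap A B) (IsLocalRing.maximalIdeal A)) = d)
    (he : Algebra.trdeg (IsLocalRing.ResidueField A) (IsLocalRing.ResidueField B) = e) (hsum : Algebra.trdeg A B = (d + e : ℕ)) :
    Function.Injective (algebraMap A (B ⧸ Ideal.span {g})) := by
  classical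
  let C : Subalgebra A B := Algebra.EssFiniteType.subalgebra A B
  have : FaithfulSMul A C := by
    rw [faithfulSMul_iff_algebraMap_injective]
    intro x y h
    apply FaithfulSMul.algebraMap_injective A B
    have := congrArg (algebraMap C B) h
    rwa [← IsScalarTower.algebraMap_apply, ← IsScalarTower.algebraMap_apply] at this
  have : FaithfulSMul C B := by
    rw [faithfulSMul_iff_algebraMap_injective]
    exact Subtype.val_injective
  let q : Ideal C := (IsLocalRing.maximalIdeal B).under C
  have hM : Algebra.EssFiniteType.submonoid A B = q.primeCompl := by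
    ext c
    show IsUnit (algebraMap C B c) ↔ ¬ (algebraMap C B c ∈ IsLocalRing.maximalIdeal B)
    rw [IsLocalRing.mem_maximalIdeal, mem_nonunits_iff, not_not]
  have hloc : IsLocalization.AtPrime B q := by
    show IsLocalization q.primeCompl B
    rw [← hM]
    infer_instance
  have hq : q.under A = IsLocalRing.maximalIdeal A := by
    rw [← IsLocalRing.maximalIdeal_comap (algebraMap A B)]
    show ((IsLocalRing.maximalIdeal B).comap (algebraMap C B)).comap (algebraMap A C) = _
    rw [Ideal.comap_comap, ← IsScalarTower.algebraMap_eq]
  have hmax : (q.under A).IsMaximal := by rw [hq]; infer_instance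
  -- the height of `q` in its fibre
  have hheight : Order.height (⟨⟨q, inferInstance⟩, rfl⟩ :
      PrimeSpectrum.comap (algebraMap A C) ⁻¹'
        {PrimeSpectrum.comap (algebraMap A C) ⟨q, inferInstance⟩}) = d := by
    have h1 := Groth.Agent.Lib.lead.FlatLocalDimFormula.ringKrullDim_quotient_eq_height
      (A := A) (C := C) (B := B) q
    rw [hq, hd] at h1
    exact_mod_cast h1.symm
  -- the residue transcendence degree
  have he' : Algebra.trdeg (A ⧸ q.under A) (C ⧸ q) = e := by
    rw [← he]
    have ha : RingHom.ker (IsLocalRing.residue A) = q.under A := by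
      rw [IsLocalRing.ker_residue, hq]
    have hb : RingHom.ker ((IsLocalRing.residue B).comp (algebraMap C B)) = q := by
      rw [← RingHom.comap_ker, IsLocalRing.ker_residue]
    have hsq : (algebraMap (IsLocalRing.ResidueField A) (IsLocalRing.ResidueField B)).comp
        (IsLocalRing.residue A) =
        ((IsLocalRing.residue B).comp (algebraMap C B)).comp (algebraMap A C) := by
      ext r
      rfl
    have key := Groth.Agent.Lib.lead.ResTrdegBridge.trdeg_eq_of_square (A := A) (B := C)
      (K := IsLocalRing.ResidueField A) (L := IsLocalRing.ResidueField B) (q.under A) q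
      (IsLocalRing.residue A) ((IsLocalRing.residue B).comp (algebraMap C B))
      (algebraMap (IsLocalRing.ResidueField A) (IsLocalRing.ResidueField B)) ha hb hsq ?_ ?_
    · rw [← key]
      congr 1
    · intro k
      obtain ⟨s, rfl⟩ := IsLocalRing.residue_surjective k
      exact ⟨s, 1, by simp, by simp⟩
    · intro l
      obtain ⟨x, rfl⟩ := IsLocalRing.residue_surjective l
      obtain ⟨⟨s, t⟩, hst⟩ := IsLocalization.surj q.primeCompl x
      have ht : ((IsLocalRing.residue B).comp (algebraMap C B)) t ≠ 0 := by
        intro h0
        have : (t : C) ∈ RingHom.ker ((IsLocalRing.residue B).comp (algebraMap C B)) := h0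
        rw [hb] at this
        exact t.2 this
      refine ⟨s, t, ht, ?_⟩
      rw [eq_div_iff ht]
      show IsLocalRing.residue B x * IsLocalRing.residue B (algebraMap C B t) =
        IsLocalRing.residue B (algebraMap C B s)
      rw [← map_mul, hst]
  -- the transcendence degree of `C`
  have hN : Algebra.trdeg A C = (d + e : ℕ) := by
    have : Algebra.IsAlgebraic C B := IsLocalization.isAlgebraic (R := C) (S := B) q.primeCompl
    have h1 := trdeg_add_eq A C (A := B)
    rw [trdeg_eq_zero (R := C) (A := B), add_zero] at h1
    rw [h1]; exact hsum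
  -- write `g = c / s`
  obtain ⟨⟨c, s⟩, hcs⟩ := IsLocalization.surj q.primeCompl g
  have hsunit : IsUnit (algebraMap C B s) := IsLocalization.map_units B s
  have hcq : c ∈ q := by
    show algebraMap C B c ∈ IsLocalRing.maximalIdeal B
    rw [← hcs]; exact Ideal.mul_mem_right _ _ hg
  -- `c` lies in no minimal prime of the fibre through `q`
  have hc : ∀ P' : PrimeSpectrum C,
      PrimeSpectrum.comap (algebraMap A C) P' =
        PrimeSpectrum.comap (algebraMap A C) ⟨q, inferInstance⟩ → P' ≤ ⟨q, inferInstance⟩ →
      (∀ P'' : PrimeSpectrum C, PrimeSpectrum.comap (algebraMap A C) P'' =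
        PrimeSpectrum.comap (algebraMap A C) ⟨q, inferInstance⟩ → P'' ≤ P' → P'' = P') →
        c ∉ P'.asIdeal := by
    intro P' hP' hle hminP' hcP'
    have hP'A : P'.asIdeal.comap (algebraMap A C) = IsLocalRing.maximalIdeal A := by
      have := congrArg PrimeSpectrum.asIdeal hP'
      rw [← hq]; exact this
    have hdisj : Disjoint (q.primeCompl : Set C) (P'.asIdeal : Set C) := by
      rw [Set.disjoint_left]
      intro x hx hx'
      exact hx (hle hx')
    let PB : Ideal B := P'.asIdeal.map (algebraMap C B)
    have hPBprime : PB.IsPrime :=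
      IsLocalization.isPrime_of_isPrime_disjoint q.primeCompl B _ P'.2 hdisj
    have hPBcomap : PB.under C = P'.asIdeal :=
      IsLocalization.under_map_of_isPrime_disjoint q.primeCompl B P'.2 hdisj
    have hmem : PB ∈ (Ideal.map (algebraMap A B) (IsLocalRing.maximalIdeal A)).minimalPrimes := by
      refine ⟨⟨hPBprime, ?_⟩, ?_⟩
      · rw [Ideal.map_le_iff_le_comap]
        intro a ha
        rw [Ideal.mem_comap, IsScalarTower.algebraMap_apply A C B]
        apply Ideal.mem_map_of_mem
        rw [← hP'A] at ha
        exact ha
      · rintro Q ⟨hQprime, hQle⟩ hQPB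
        let P'' : PrimeSpectrum C := ⟨Q.under C, inferInstance⟩
        have h1 : P'' ≤ P' := by
          show Q.under C ≤ P'.asIdeal
          rw [← hPBcomap]; exact Ideal.comap_mono hQPB
        have h2 : PrimeSpectrum.comap (algebraMap A C) P'' =
            PrimeSpectrum.comap (algebraMap A C) ⟨q, inferInstance⟩ := by
          apply PrimeSpectrum.ext
          show (Q.under C).comap (algebraMap A C) = q.under A
          rw [hq]
          have h3 : IsLocalRing.maximalIdeal A ≤ (Q.under C).comap (algebraMap A C) := by
            intro a ha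
            show algebraMap C B (algebraMap A C a) ∈ Q
            rw [← IsScalarTower.algebraMap_apply A C B]
            exact hQle (Ideal.mem_map_of_mem _ ha)
          have h4 : ((Q.under C).comap (algebraMap A C)).IsPrime := inferInstance
          exact ((IsLocalRing.maximalIdeal.isMaximal A).eq_of_le h4.ne_top h3).symm
        have h3 := hminP' P'' h2 h1
        have h5 : Q = PB := by
          have h7 : Ideal.map (algebraMap C B) P''.asIdeal = Q :=
            IsLocalization.map_under q.primeCompl B Q
          rw [← h7, h3]
        rw [h5]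
    apply hmin PB hmem
    have h6 : algebraMap C B c ∈ PB := Ideal.mem_map_of_mem _ hcP'
    rw [← hcs] at h6
    exact (Ideal.mul_unit_mem_iff_mem _ hsunit).1 h6
  obtain ⟨Q', hQ'prime, hQ'le, hcQ', hQ'A⟩ :=
    Groth.Agent.Lib.lead.HorizD.core q c hcq e d he' hheight hN hc
  rw [injective_iff_map_eq_zero]
  intro a ha
  have h1 : algebraMap A B a ∈ Ideal.span {g} := by
    have h0 : algebraMap A (B ⧸ Ideal.span {g}) a =
        Ideal.Quotient.mk (Ideal.span {g}) (algebraMap A B a) := rfl
    rw [h0] at ha
    exact Ideal.Quotient.eq_zero_iff_mem.1 ha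
  have hdisjQ' : Disjoint (q.primeCompl : Set C) (Q' : Set C) := by
    rw [Set.disjoint_left]
    intro x hx hx'
    exact hx (hQ'le hx')
  have h2 : Ideal.span {g} ≤ Q'.map (algebraMap C B) := by
    rw [Ideal.span_le, Set.singleton_subset_iff]
    have h6 : algebraMap C B c ∈ Q'.map (algebraMap C B) := Ideal.mem_map_of_mem _ hcQ'
    rw [← hcs] at h6
    exact (Ideal.mul_unit_mem_iff_mem _ hsunit).1 h6
  have h3 : algebraMap A C a ∈ Q' := by
    have h8 : algebraMap A C a ∈ (Q'.map (algebraMap C B)).under C := by
      rw [Ideal.under_def, Ideal.mem_comap, ← IsScalarTower.algebraMap_apply A C B]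
      exact h2 h1
    rwa [IsLocalization.under_map_of_isPrime_disjoint q.primeCompl B hQ'prime hdisjQ'] at h8
  exact hQ'A a h3

end Groth.Agent.S1404
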