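import Groth.Statements.S14040
import Mathlib
import Groth.Agent.S14035

set_option autoImplicit false
universe u v
open W4c1frobunstiva

namespace Groth.Agent.S14040
open TensorProduct


open TensorProduct in
/-- Let A be a discrete valuation ring and B a Noetherian A-algebra such that the nilradical of B is
prime and meets the image of A only in 0 — the spectrum of B is irreducible and its generic point
lies over the generic point of A. If every fibre ring κ(p) ⊗_A B, p a prime of A, is reduced, then B
is reduced and flat over A. (Affine form of the statement for a dominant morphism from an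
irreducible scheme to the spectrum of a discrete valuation ring with reduced fibres. The published
statement also covers a scheme that is already reduced and does not assume it locally Noetherian;
this row treats reduced fibres with B Noetherian, without which the square-zero extension A ⊕
Frac(A)/A is a counterexample.) -/
theorem result (A : Type u) [CommRing A]
    [IsDomain A] [IsDiscreteValuationRing A] (B : Type v) [CommRing B] [Algebra A B]
    [IsNoetherianRing B] (hirr : (nilradical B).IsPrime)
    (hdom : (nilradical B).comap (algebraMap A B) = ⊥)
    (hfib : ∀ p : PrimeSpectrum A, IsReduced (p.asIdeal.ResidueField ⊗[A] B)) :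
    IsReduced B ∧ Module.Flat A B := by
  have hflatQ : Module.Flat A (B ⧸ nilradical B) := by
    rw [IsDedekindDomain.flat_iff_torsion_eq_bot, Submodule.eq_bot_iff]
    intro m hm
    obtain ⟨⟨a, ha⟩, ham⟩ := (Submodule.mem_torsion_iff m).1 hm
    obtain ⟨b, rfl⟩ := Ideal.Quotient.mk_surjective m
    have ha0 : a ≠ 0 := nonZeroDivisors.ne_zero ha
    have h1 : algebraMap A B a * b ∈ nilradical B := by
      have : (Ideal.Quotient.mk (nilradical B)) (algebraMap A B a * b) = 0 := by
        have ham' : a • (Ideal.Quotient.mk (nilradical B)) b = 0 := ham
        rw [← Algebra.smul_def]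
        exact ham'
      exact Ideal.Quotient.eq_zero_iff_mem.1 this
    rcases hirr.mem_or_mem h1 with h2 | h2
    · exfalso
      have : a ∈ (nilradical B).comap (algebraMap A B) := h2
      rw [hdom] at this
      exact ha0 this
    · exact Ideal.Quotient.eq_zero_iff_mem.2 h2
  have hred : IsReduced B := Groth.Agent.S14035.result A B hfib
  refine ⟨hred, ?_⟩
  have hN : nilradical B = ⊥ := nilradical_eq_bot_iff.2 hred
  rw [IsDedekindDomain.flat_iff_torsion_eq_bot, Submodule.eq_bot_iff]
  intro b hb
  obtain ⟨⟨a, ha⟩, hab⟩ := (Submodule.mem_torsion_iff b).1 hb
  have ha0 : a ≠ 0 := nonZeroDivisors.ne_zero ha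
  have h1 : algebraMap A B a * b ∈ nilradical B := by
    have hab' : a • b = 0 := hab
    rw [hN, Ideal.mem_bot, ← Algebra.smul_def]
    exact hab'
  rcases hirr.mem_or_mem h1 with h2 | h2
  · exfalso
    have : a ∈ (nilradical B).comap (algebraMap A B) := h2
    rw [hdom] at this
    exact ha0 this
  · rw [hN] at h2
    exact h2

end Groth.Agent.S14040
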