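import Groth.Statements.S14043
import Mathlib.LinearAlgebra.Matrix.NonsingularInverse
import Mathlib.RingTheory.Nilpotent.Basic
import Mathlib.RingTheory.Nilpotent.Lemmas
import Mathlib.RingTheory.Ideal.Quotient.Basic
import Mathlib.LinearAlgebra.Span.Basic
import Mathlib.RingTheory.Nilpotent.Defs
-- import your own Groth.Agent.* helpers here

set_option autoImplicit false
universe u v
open W4c1frobunstiva

namespace Groth.Agent.S14043

section
variable {R : Type u} [CommRing R] {M : Type v} [AddCommGroup M] [Module R M] {r : ℕ}

/-- `u = X • v` as families. -/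
def Rel (X : Matrix (Fin r) (Fin r) R) (u v : Fin r → M) : Prop :=
  ∀ j, u j = ∑ i, X j i • v i

theorem exists_rel (u v : Fin r → M) (hv : Submodule.span R (Set.range v) = ⊤) :
    ∃ X : Matrix (Fin r) (Fin r) R, Rel X u v := by
  have : ∀ j, ∃ c : Fin r → R, ∑ i, c i • v i = u j := by
    intro j
    rw [← Submodule.mem_span_range_iff_exists_fun, hv]
    trivial
  choose c hc using this
  exact ⟨Matrix.of c, fun j => (hc j).symm⟩

theorem Rel.comp {X Y : Matrix (Fin r) (Fin r) R} {u v w : Fin r → M} (h1 : Rel X u v)
    (h2 : Rel Y v w) : Rel (X * Y) u w := by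
  intro j
  rw [h1 j]
  simp_rw [h2 _, Finset.smul_sum, smul_smul]
  rw [Finset.sum_comm]
  refine Finset.sum_congr rfl fun k _ => ?_
  rw [Matrix.mul_apply, Finset.sum_smul]

end

/-- Let R be a commutative Noetherian ring, M an R-module that is NR-free of rank r — generated by some
r elements all of whose linear relations have nilpotent coefficients — and m, m' two generating
families of M, each indexed by the same finite set of size r. Then some invertible r × r matrix T
over R expresses m' in terms of m, m'_j = Σ_i T_{ji} m_i; reducing modulo the nilradical n, such a T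
induces the change-of-basis matrix between the bases of M/nM given by the images of m and m' (an
r-element generating family of M is itself an NR-basis), so only the existence of an invertible T is
asserted here. (T is not unique.) -/
theorem result (R : Type u) [CommRing R]
    [IsNoetherianRing R] (M : Type v) [AddCommGroup M] [Module R M] (r : ℕ)
    (hM : W4c1frobunstiva.IsNRFree R M r) (m m' : Fin r → M)
    (hm : Submodule.span R (Set.range m) = ⊤) (hm' : Submodule.span R (Set.range m') = ⊤) :
    ∃ T : Matrix (Fin r) (Fin r) R, IsUnit T ∧ ∀ j, m' j = ∑ i, T j i • m i := by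
  classical
  obtain ⟨e, he, hrel⟩ := hM
  obtain ⟨A, hA⟩ := exists_rel m e he
  obtain ⟨B, hB⟩ := exists_rel e m hm
  obtain ⟨T, hT⟩ := exists_rel m' m hm
  obtain ⟨U, hU⟩ := exists_rel m m' hm'
  refine ⟨T, ?_, hT⟩
  have hee : Rel (B * U * T * A) e e := ((hB.comp hU).comp hT).comp hA
  set X := B * U * T * A with hX
  have hnil : ∀ j i, IsNilpotent (X j i - (1 : Matrix (Fin r) (Fin r) R) j i) := by
    intro j
    apply hrel
    simp_rw [sub_smul, Finset.sum_sub_distrib, ← hee j, Matrix.one_apply, ite_smul, one_smul,
      zero_smul, Finset.sum_ite_eq, Finset.mem_univ, if_true, sub_self]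
  have hmap : X.map (Ideal.Quotient.mk (nilradical R)) = 1 := by
    ext j i
    have := hnil j i
    rw [← mem_nilradical, ← Ideal.Quotient.eq] at this
    rw [Matrix.map_apply, this]
    simp [Matrix.one_apply]
  have hdet : IsUnit X.det := by
    have h1 : Ideal.Quotient.mk (nilradical R) X.det = Ideal.Quotient.mk (nilradical R) 1 := by
      rw [RingHom.map_det, RingHom.mapMatrix_apply, hmap, Matrix.det_one, map_one]
    rw [Ideal.Quotient.eq, mem_nilradical] at h1
    have := h1.isUnit_add_one
    simpa using this
  rw [Matrix.isUnit_iff_isUnit_det]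
  rw [hX, Matrix.det_mul, Matrix.det_mul] at hdet
  exact isUnit_of_mul_isUnit_right (isUnit_of_mul_isUnit_left hdet)

end Groth.Agent.S14043
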