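import Groth.Statements.S14046
import Mathlib.RingTheory.Flat.Equalizer
-- import your own Groth.Agent.* helpers here

set_option autoImplicit false
universe u v w
open W4c1frobunstiva

namespace Groth.Agent.S14046

open TensorProduct in
/-- Let R → A be a homomorphism of commutative rings and I, J ideals of A with I ∩ J = 0 — so that A is
the fibre product of A/I and A/J over A/(I + J), i.e. Spec A is the union of the two closed
subschemes in the strong sense — and suppose A/(I + J) is flat over R. Then this persists under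
every base change: for every commutative R-algebra R', the ideals generated by I and J in R' ⊗_R A
again meet in 0. (This is the ideal-theoretic, affine form of the base-change step; the exact
sequence of unit sheaves deduced from it in the published statement — restriction of units to a
closed subscheme being surjective locally — is not restated. Without flatness of A/(I + J) the
conclusion fails: for A = k[x, y]/(xy) over R = k[u] with u ↦ x + y, I = (x) and J = (y), the base
change to R/(u) gives k[x]/(x²), in which both ideals become (x).) -/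
theorem result (R : Type u) (A : Type v)
    [CommRing R] [CommRing A] [Algebra R A] (I J : Ideal A) (hIJ : I ⊓ J = ⊥)
    [Module.Flat R (A ⧸ (I ⊔ J))] (R' : Type w) [CommRing R'] [Algebra R R'] :
    I.map (Algebra.TensorProduct.includeRight : A →ₐ[R] R' ⊗[R] A) ⊓
      J.map (Algebra.TensorProduct.includeRight : A →ₐ[R] R' ⊗[R] A) = ⊥ := by
  classical
  -- the two quotient maps as R-linear maps
  let qI : A →ₗ[R] A ⧸ I := (Ideal.Quotient.mkₐ R I).toLinearMap
  let qJ : A →ₗ[R] A ⧸ J := (Ideal.Quotient.mkₐ R J).toLinearMap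
  let g : A →ₗ[R] (A ⧸ I) × (A ⧸ J) := qI.prod qJ
  let pI : A ⧸ I →ₗ[R] A ⧸ (I ⊔ J) := (Ideal.Quotient.factorₐ R (le_sup_left : I ≤ I ⊔ J)).toLinearMap
  let pJ : A ⧸ J →ₗ[R] A ⧸ (I ⊔ J) := (Ideal.Quotient.factorₐ R (le_sup_right : J ≤ I ⊔ J)).toLinearMap
  let f : (A ⧸ I) × (A ⧸ J) →ₗ[R] A ⧸ (I ⊔ J) := pI.coprod (-pJ)
  have hg : Function.Injective g := by
    rw [← LinearMap.ker_eq_bot, LinearMap.ker_eq_bot']
    intro a ha
    have h1 : Ideal.Quotient.mk I a = 0 := congrArg Prod.fst ha
    have h2 : Ideal.Quotient.mk J a = 0 := congrArg Prod.snd ha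
    rw [Ideal.Quotient.eq_zero_iff_mem] at h1 h2
    have : a ∈ I ⊓ J := ⟨h1, h2⟩
    rw [hIJ] at this
    exact this
  have hf : Function.Surjective f := by
    intro c
    obtain ⟨a, rfl⟩ := Ideal.Quotient.mk_surjective c
    exact ⟨(Ideal.Quotient.mk I a, 0), by simp [f, pI]⟩
  have hex : Function.Exact g f := by
    intro y
    constructor
    · intro hy
      obtain ⟨y1, y2⟩ := y
      obtain ⟨a, rfl⟩ := Ideal.Quotient.mk_surjective y1
      obtain ⟨b, rfl⟩ := Ideal.Quotient.mk_surjective y2
      have h1 : Ideal.Quotient.mk (I ⊔ J) a - Ideal.Quotient.mk (I ⊔ J) b = 0 := by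
        simpa [f, pI, pJ, sub_eq_add_neg] using hy
      rw [← map_sub, Ideal.Quotient.eq_zero_iff_mem, Submodule.mem_sup] at h1
      obtain ⟨i, hi, j, hj, hij⟩ := h1
      refine ⟨a - i, ?_⟩
      apply Prod.ext
      · show Ideal.Quotient.mk I (a - i) = Ideal.Quotient.mk I a
        rw [Ideal.Quotient.eq]
        have : a - i - a = -i := by ring
        rw [this]
        exact I.neg_mem hi
      · show Ideal.Quotient.mk J (a - i) = Ideal.Quotient.mk J b
        rw [Ideal.Quotient.eq]
        have : a - i - b = j := by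
          have h3 : a - i - b = (a - b) - i := by ring
          rw [h3, ← hij]
          ring
        rw [this]
        exact hj
    · rintro ⟨a, rfl⟩
      simp [f, g, pI, pJ, qI, qJ]
  have hinj := LinearMap.lTensor_injective_of_exact_of_flat f hf g hg hex R'
  -- the algebra maps killing the extended ideals
  let φI : R' ⊗[R] A →ₐ[R] R' ⊗[R] (A ⧸ I) :=
    Algebra.TensorProduct.map (AlgHom.id R R') (Ideal.Quotient.mkₐ R I)
  let φJ : R' ⊗[R] A →ₐ[R] R' ⊗[R] (A ⧸ J) :=
    Algebra.TensorProduct.map (AlgHom.id R R') (Ideal.Quotient.mkₐ R J)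
  have hφI : ∀ x, φI x = qI.lTensor R' x := by
    intro x
    induction x using TensorProduct.induction_on with
    | zero => simp
    | tmul r a => rfl
    | add x y hx hy => rw [map_add, map_add, hx, hy]
  have hφJ : ∀ x, φJ x = qJ.lTensor R' x := by
    intro x
    induction x using TensorProduct.induction_on with
    | zero => simp
    | tmul r a => rfl
    | add x y hx hy => rw [map_add, map_add, hx, hy]
  have hkI : I.map (Algebra.TensorProduct.includeRight : A →ₐ[R] R' ⊗[R] A) ≤ RingHom.ker φI := by
    rw [Ideal.map_le_iff_le_comap]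
    intro i hi
    show φI ((1 : R') ⊗ₜ[R] i) = 0
    show (1 : R') ⊗ₜ[R] (Ideal.Quotient.mk I i) = 0
    rw [Ideal.Quotient.eq_zero_iff_mem.mpr hi, TensorProduct.tmul_zero]
  have hkJ : J.map (Algebra.TensorProduct.includeRight : A →ₐ[R] R' ⊗[R] A) ≤ RingHom.ker φJ := by
    rw [Ideal.map_le_iff_le_comap]
    intro j hj
    show φJ ((1 : R') ⊗ₜ[R] j) = 0
    show (1 : R') ⊗ₜ[R] (Ideal.Quotient.mk J j) = 0
    rw [Ideal.Quotient.eq_zero_iff_mem.mpr hj, TensorProduct.tmul_zero]
  rw [eq_bot_iff]
  rintro x ⟨hxI, hxJ⟩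
  have h1 : qI.lTensor R' x = 0 := by rw [← hφI]; exact hkI hxI
  have h2 : qJ.lTensor R' x = 0 := by rw [← hφJ]; exact hkJ hxJ
  apply hinj
  rw [map_zero]
  have hid : (LinearMap.inl R (A ⧸ I) (A ⧸ J)) ∘ₗ qI + (LinearMap.inr R (A ⧸ I) (A ⧸ J)) ∘ₗ qJ = g := by
    ext a <;> simp [g]
  rw [← hid, LinearMap.lTensor_add, LinearMap.add_apply, LinearMap.lTensor_comp,
    LinearMap.lTensor_comp, LinearMap.comp_apply, LinearMap.comp_apply, h1, h2, map_zero, map_zero,
    add_zero]

end Groth.Agent.S14046
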