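import Groth.Statements.S1405
import Mathlib
import Groth.Agent.Lib.Helper21.FibreBC
import Groth.Agent.Lib.Helper22.NoethBC

set_option autoImplicit false
universe u
open FlatMor

namespace Groth.Agent.S1405

open AlgebraicGeometry CategoryTheory Limits

open Groth.Agent.Lib.Helper21.FibreBC in
/-- fibres of a base change along a morphism locally of finite type: local Noetherianity. -/
theorem isLocallyNoetherian_fiber_iff {X Y X' Y' : Scheme.{u}} {f : X ⟶ Y} {f' : X' ⟶ Y'}
    {g' : X' ⟶ X} {g : Y' ⟶ Y} [LocallyOfFiniteType g] (hc : IsPullback g' f' f g) (y' : Y') :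
    IsLocallyNoetherian (f.fiber (g y')) ↔ IsLocallyNoetherian (f'.fiber y') := by
  letI := resAlg g y'
  letI := fibOver f (g y')
  haveI := essFiniteType_residueFieldMap (g := g) y'
  have hfg : (⊤ : IntermediateField (Y.residueField (g y')) (Y'.residueField y')).FG :=
    IntermediateField.fg_top_iff.mpr inferInstance
  have h := Groth.Agent.Lib.Helper22.NoethBC.isLocallyNoetherian_bc_iff
    (k := Y.residueField (g y')) (f.fiberToSpecResidueField (g y')) (Y'.residueField y') hfg
  rw [h]
  have e := fiberIsoBC hc y'
  constructor
  · intro hN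
    haveI : IsLocallyNoetherian (Curv2.bc (Y.residueField (g y')) (f.fiber (g y'))
        (Y'.residueField y')) := hN
    exact isLocallyNoetherian_of_isOpenImmersion e.hom
  · intro hN
    haveI := hN
    exact isLocallyNoetherian_of_isOpenImmersion e.inv


open AlgebraicGeometry CategoryTheory Limits in
/-- Let Y' → Y be flat, locally of finite presentation and surjective and f' the base change of f : X →
Y. Then all fibres of f are locally Noetherian if and only if all fibres of f' are. -/
theorem result {X Y X' Y' : Scheme.{u}} (f : X ⟶ Y) (f' : X' ⟶ Y') (g' : X' ⟶ X) (g : Y' ⟶ Y) [Flat g] [LocallyOfFinitePresentation g] [Surjective g]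
    (hc : IsPullback g' f' f g) :
    (∀ y : Y, IsLocallyNoetherian (f.fiber y)) ↔ ∀ y' : Y', IsLocallyNoetherian (f'.fiber y') := by
  constructor
  · intro h y'
    exact (isLocallyNoetherian_fiber_iff hc y').1 (h (g y'))
  · intro h y
    obtain ⟨y', rfl⟩ := g.surjective y
    exact (isLocallyNoetherian_fiber_iff hc y').2 (h y')

end Groth.Agent.S1405
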