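import Groth.Statements.S1406
import Groth.Agent.Lib.Helper15.NoethDescent

set_option autoImplicit false
universe u
open FlatMor

namespace Groth.Agent.S1406

open AlgebraicGeometry CategoryTheory Limits in
/-- Let a : X' → X be flat, locally of finite presentation and surjective. Then all fibres of f : X → Y
are locally Noetherian if and only if all fibres of a ≫ f are. -/
theorem result {X X' Y : Scheme.{u}} (f : X ⟶ Y) (a : X' ⟶ X) [Flat a] [LocallyOfFinitePresentation a] [Surjective a] :
    (∀ y : Y, IsLocallyNoetherian (f.fiber y)) ↔ ∀ y : Y, IsLocallyNoetherian ((a ≫ f).fiber y) := by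
  refine forall_congr' fun y => ?_
  change IsLocallyNoetherian (pullback f (Y.fromSpecResidueField y)) ↔
    IsLocallyNoetherian (pullback (a ≫ f) (Y.fromSpecResidueField y))
  have h2' : Surjective (pullback.snd a (pullback.fst f (Y.fromSpecResidueField y))) :=
    MorphismProperty.pullback_snd (P := @Surjective) _ _ inferInstance
  have h1 : Flat ((pullbackRightPullbackFstIso f (Y.fromSpecResidueField y) a).inv ≫
      pullback.snd a (pullback.fst f (Y.fromSpecResidueField y))) := inferInstance
  have h2 : Surjective ((pullbackRightPullbackFstIso f (Y.fromSpecResidueField y) a).inv ≫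
      pullback.snd a (pullback.fst f (Y.fromSpecResidueField y))) := inferInstance
  have h3 : LocallyOfFinitePresentation
      ((pullbackRightPullbackFstIso f (Y.fromSpecResidueField y) a).inv ≫
      pullback.snd a (pullback.fst f (Y.fromSpecResidueField y))) := inferInstance
  constructor
  · intro h
    exact LocallyOfFiniteType.isLocallyNoetherian
      ((pullbackRightPullbackFstIso f (Y.fromSpecResidueField y) a).inv ≫
      pullback.snd a (pullback.fst f (Y.fromSpecResidueField y)))
  · intro h
    exact Groth.Agent.Lib.Helper15.isLocallyNoetherian_of_fppf_cover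
      ((pullbackRightPullbackFstIso f (Y.fromSpecResidueField y) a).inv ≫
      pullback.snd a (pullback.fst f (Y.fromSpecResidueField y)))

end Groth.Agent.S1406
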