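import Groth.Statements.S14060
import Mathlib

set_option autoImplicit false
universe u
open CategoryTheory CategoryTheory.Limits TopologicalSpace
open CohTop

namespace Groth.Agent.S14060

section helpers

variable {X : TopCat.{u}}
  [HasExt.{u} (Sheaf (Opens.grothendieckTopology X) AddCommGrpCat.{u})]

/-- In a short exact sequence, vanishing of `H^n(X₂)` and `H^{n+1}(X₁)` gives vanishing
of `H^n(X₃)`. -/
lemma subsingleton_X₃
    {S : ShortComplex (Sheaf (Opens.grothendieckTopology X) AddCommGrpCat.{u})}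
    (hS : S.ShortExact) (n : ℕ)
    (h₂ : Subsingleton (Sheaf.H S.X₂ n)) (h₁ : Subsingleton (Sheaf.H S.X₁ (n + 1))) :
    Subsingleton (Sheaf.H S.X₃ n) := by
  refine subsingleton_of_forall_eq 0 (fun x₃ => ?_)
  obtain ⟨x₂, rfl⟩ := Abelian.Ext.covariant_sequence_exact₃ _ hS x₃ rfl
    (Subsingleton.elim _ _)
  rw [Subsingleton.elim x₂ 0, Abelian.Ext.zero_comp]

/-- In a short exact sequence with `H^1(X₁) = 0`, `H^0(X₂) → H^0(X₃)` is onto. -/
lemma surjective_H0
    {S : ShortComplex (Sheaf (Opens.grothendieckTopology X) AddCommGrpCat.{u})}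
    (hS : S.ShortExact) (h₁ : Subsingleton (Sheaf.H S.X₁ 1)) :
    Function.Surjective (Sheaf.H.map S.g 0) := by
  intro x₃
  obtain ⟨x₂, rfl⟩ := Abelian.Ext.covariant_sequence_exact₃ _ hS x₃ (zero_add 1)
    (Subsingleton.elim _ _)
  exact ⟨x₂, rfl⟩

variable (F : ChainComplex (Sheaf (Opens.grothendieckTopology X) AddCommGrpCat.{u}) ℕ)

/-- the short complex `0 → Z_{k+2} → F_{k+2} → Z_{k+1} → 0` -/
noncomputable def ses (k : ℕ) :
    ShortComplex (Sheaf (Opens.grothendieckTopology X) AddCommGrpCat.{u}) :=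
  ShortComplex.mk (kernel.ι (F.d (k + 2) (k + 1)))
    (kernel.lift (F.d (k + 1) k) (F.d (k + 2) (k + 1)) (F.d_comp_d _ _ _))
    (by simp [← cancel_mono (kernel.ι (F.d (k + 1) k))])

lemma ses_shortExact (k : ℕ) (hk : F.ExactAt (k + 1)) : (ses F k).ShortExact := by
  have hex : (F.sc' (k + 2) (k + 1) k).Exact :=
    (F.exactAt_iff' (k + 2) (k + 1) k (by simp) (by simp)).1 hk
  have hepi : Epi (ses F k).g := by
    rw [ShortComplex.exact_iff_epi_kernel_lift] at hex
    exact hex
  have hmono : Mono (ses F k).f := by dsimp [ses]; infer_instance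
  refine ShortComplex.ShortExact.mk' ?_ hmono hepi
  have h1 : (ShortComplex.mk (kernel.ι (F.d (k + 2) (k + 1))) (F.d (k + 2) (k + 1))
      (kernel.condition _)).Exact :=
    ShortComplex.exact_of_f_is_kernel _ (kernelIsKernel _)
  let φ : ses F k ⟶ ShortComplex.mk (kernel.ι (F.d (k + 2) (k + 1))) (F.d (k + 2) (k + 1))
      (kernel.condition _) :=
    { τ₁ := 𝟙 _
      τ₂ := 𝟙 _
      τ₃ := kernel.ι (F.d (k + 1) k)
      comm₁₂ := by simp [ses]
      comm₂₃ := by simp [ses] }
  have : Epi φ.τ₁ := instEpiId _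
  have : IsIso φ.τ₂ := IsIso.id _
  have : Mono φ.τ₃ := equalizer.ι_mono
  exact (ShortComplex.exact_iff_of_epi_of_isIso_of_mono φ).2 h1

end helpers

/-- Let X be a topological space, r ≥ 1 an integer and 0 → F_r → ⋯ → F_2 → F_1 → F_0 → 0 an exact
sequence of sheaves of abelian groups on X, presented as a chain complex F of abelian sheaves
indexed by the natural numbers whose differential F_r → F_{r−1} is a monomorphism, whose
differential F_1 → F_0 is an epimorphism of sheaves, and which is exact at F_j for 1 ≤ j ≤ r − 1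
(for r = 1 the single map F_1 → F_0 is mono and epi). Assume the sheaf cohomology groups H^{j−1}(X,
F_j) vanish for 2 ≤ j ≤ r. Then the map on global sections F_1(X) → F_0(X) is surjective. (The
instance hypothesis that the category of abelian sheaves on X has Ext groups in the universe of X
holds for every X, abelian sheaves on a space forming a Grothendieck abelian category; it is the
setting in which sheaf cohomology is defined.) -/
theorem result (X : TopCat.{u})
    [HasExt.{u} (Sheaf (Opens.grothendieckTopology X) AddCommGrpCat.{u})]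
    (r : ℕ) (hr : 1 ≤ r)
    (F : ChainComplex (Sheaf (Opens.grothendieckTopology X) AddCommGrpCat.{u}) ℕ)
    (hmono : Mono (F.d r (r - 1))) (hepi : Epi (F.d 1 0))
    (hex : ∀ j : ℕ, 1 ≤ j → j < r → F.ExactAt j)
    (hvan : ∀ j : ℕ, 2 ≤ j → j ≤ r → Subsingleton (Sheaf.H (F.X j) (j - 1))) :
    Function.Surjective ((F.d 1 0).hom.app (Opposite.op ⊤)) := by
  -- vanishing of `H^{k+1}(Z_{k+1})` by downward induction
  have key : ∀ m k : ℕ, k + 1 + m = r →
      Subsingleton (Sheaf.H (kernel (F.d (k + 1) k)) (k + 1)) := by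
    intro m
    induction m with
    | zero =>
      intro k hk
      have hk' : r = k + 1 := by omega
      subst hk'
      have hm : Mono (F.d (k + 1) k) := hmono
      have hz : IsZero (kernel (F.d (k + 1) k)) := isZero_kernel_of_mono _
      refine subsingleton_of_forall_eq 0 (fun x => ?_)
      have h1 : x = x.comp (Abelian.Ext.mk₀ (𝟙 _)) (add_zero _) := by simp
      rw [h1, hz.eq_of_src (𝟙 _) 0, Abelian.Ext.mk₀_zero, Abelian.Ext.comp_zero]
    | succ m ih =>
      intro k hk
      have h1 := ih (k + 1) (by omega)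
      have hS := ses_shortExact F k (hex (k + 1) (by omega) (by omega))
      have h2 : Subsingleton (Sheaf.H (F.X (k + 2)) (k + 1)) := hvan (k + 2) (by omega) (by omega)
      exact subsingleton_X₃ hS (k + 1) h2 h1
  have h0 : Subsingleton (Sheaf.H (kernel (F.d 1 0)) 1) := key (r - 1) 0 (by omega)
  -- the last short exact sequence `0 → Z_1 → F_1 → F_0 → 0`
  have hS : (ShortComplex.mk (kernel.ι (F.d 1 0)) (F.d 1 0) (kernel.condition _)).ShortExact :=
    ShortComplex.ShortExact.mk' (ShortComplex.exact_of_f_is_kernel _ (kernelIsKernel _))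
      (by dsimp; infer_instance) hepi
  have hsurj := surjective_H0 hS h0
  intro y
  obtain ⟨x, hx⟩ := hsurj ((Sheaf.H.equiv₀ (F.X 0) (isTerminalTop (α := Opens X))).symm y)
  refine ⟨Sheaf.H.equiv₀ (F.X 1) (isTerminalTop (α := Opens X)) x, ?_⟩
  have := Sheaf.H.equiv₀_naturality (isTerminalTop (α := Opens X)) (F.d 1 0) x
  dsimp at hx
  rw [this, hx, AddEquiv.apply_symm_apply]

end Groth.Agent.S14060
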