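import Groth.Statements.S14071
import Groth.Agent.Lib.Helper12.FamFlatB

set_option autoImplicit false
universe u
open FamCyc

namespace Groth.Agent.S14071

/-- Let A be an Artinian local ring with maximal ideal m and B a Noetherian A-algebra which satisfies
(S₁), whose reduction B_red satisfies (S₂), and such that for every prime q of B of height at most 1
the local ring B_q is flat over A and the fibre ring B_q / m B_q is reduced. Then B/mB (the fibre
over the reduction of A) is reduced; in particular it equals B_red and satisfies (S₂). -/
theorem result {A : Type u} [CommRing A] [IsArtinianRing A] [IsLocalRing A]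
    (B : Type u) [CommRing B] [Algebra A B] [IsNoetherianRing B]
    (hS1 : LocCoh.HasSk 1 B B) (hS2 : LocCoh.HasSk 2 (B ⧸ nilradical B) (B ⧸ nilradical B))
    (hcodim : ∀ (q : Ideal B) [q.IsPrime], q.height ≤ 1 →
      Module.Flat A (Localization.AtPrime q) ∧ IsReduced (EGA4.FibLocRing A B q)) :
    IsReduced (B ⧸ (IsLocalRing.maximalIdeal A).map (algebraMap A B)) := by
  have hall := Groth.Agent.Lib.Helper12.FamFlat.all_primes hS1 hS2 hcodim
  rw [← Ideal.isRadical_iff_quotient_reduced]
  rintro b ⟨k, hk⟩
  by_contra hb
  have hne : (((IsLocalRing.maximalIdeal A).map (algebraMap A B) : Submodule B B).colon {b}) ≠ ⊤ := by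
    intro htop
    have : (1 : B) ∈ (((IsLocalRing.maximalIdeal A).map (algebraMap A B) : Submodule B B).colon {b}) := by
      rw [htop]; exact Submodule.mem_top
    rw [Submodule.mem_colon_singleton, one_smul] at this
    exact hb this
  obtain ⟨q, hq, hle⟩ := Ideal.exists_le_maximal _ hne
  haveI := hq.isPrime
  have h1 : algebraMap B (Localization.AtPrime q) b ∈ nilradical (Localization.AtPrime q) := by
    have h2 : algebraMap B (Localization.AtPrime q) (b ^ k) ∈ nilradical (Localization.AtPrime q) := by
      rw [(hall q).2, Groth.Agent.Lib.Helper12.FamFlat.map_eq]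
      exact Ideal.mem_map_of_mem _ hk
    rw [map_pow] at h2
    exact (Ideal.radical_isRadical (0 : Ideal (Localization.AtPrime q))) ⟨k, h2⟩
  rw [(hall q).2, Groth.Agent.Lib.Helper12.FamFlat.map_eq,
    IsLocalization.algebraMap_mem_map_algebraMap_iff q.primeCompl] at h1
  obtain ⟨s, hs, hsb⟩ := h1
  exact hs (hle (Submodule.mem_colon_singleton.2 hsb))

end Groth.Agent.S14071
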