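import Groth.Statements.S14088
import Mathlib.Tactic

set_option autoImplicit false
universe u
open ArSing

namespace Groth.Agent.S14088

open Finset

section
variable {A : Type*} [CommRing A] (τ : A)

/-- τ-rising factorial -/
def R (x : A) (n : ℕ) : A := ∏ i ∈ range n, (x + (i : A) * τ)

theorem R_succ (x : A) (n : ℕ) : R τ x (n + 1) = R τ x n * (x + (n : A) * τ) := by
  unfold R; rw [prod_range_succ]

theorem R_zero (x : A) : R τ x 0 = 1 := by simp [R]

/-- Chu–Vandermonde -/
theorem chu (a b : A) (n : ℕ) :
    R τ (a + b) n = ∑ s ∈ range (n + 1), (n.choose s : A) * (R τ a s * R τ b (n - s)) := by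
  induction n with
  | zero => simp [R_zero]
  | succ n ih =>
    rw [R_succ, ih, sum_mul]
    -- split each term
    have h1 : ∀ s ∈ range (n + 1), (n.choose s : A) * (R τ a s * R τ b (n - s)) * (a + b + (n : A) * τ) =
        (n.choose s : A) * (R τ a (s + 1) * R τ b (n - s)) +
          (n.choose s : A) * (R τ a s * R τ b (n + 1 - s)) := by
      intro s hs
      rw [mem_range] at hs
      have hn : (n : A) = (s : A) + ((n - s : ℕ) : A) := by
        rw [← Nat.cast_add]; congr 1; omega
      rw [show n + 1 - s = (n - s) + 1 by omega, R_succ, R_succ, hn]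
      ring
    rw [sum_congr rfl h1, sum_add_distrib]
    -- target
    rw [sum_range_succ' (fun s => ((n + 1).choose s : A) * (R τ a s * R τ b (n + 1 - s)))]
    have h2 : ∀ s ∈ range (n + 1), ((n + 1).choose (s + 1) : A) * (R τ a (s + 1) * R τ b (n + 1 - (s + 1))) =
        (n.choose s : A) * (R τ a (s + 1) * R τ b (n - s)) +
          (n.choose (s + 1) : A) * (R τ a (s + 1) * R τ b (n - s)) := by
      intro s _
      rw [Nat.choose_succ_succ, Nat.cast_add, Nat.add_sub_add_right]
      ring
    rw [sum_congr rfl h2, sum_add_distrib, add_assoc]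
    congr 1
    -- remaining: Σ_{s≤n} C(n,s) R a s R b (n+1-s) = Σ_{s ≤ n} C(n,s+1) R a (s+1) R b (n-s) + C(n+1,0) ...
    rw [sum_range_succ' (fun s => (n.choose s : A) * (R τ a s * R τ b (n + 1 - s)))]
    rw [sum_range_succ (fun s => (n.choose (s + 1) : A) * (R τ a (s + 1) * R τ b (n - s)))]
    rw [Nat.choose_succ_self, Nat.cast_zero, zero_mul, add_zero]
    simp only [Nat.choose_zero_right, Nat.cast_one, Nat.sub_zero]
    congr 1
    refine sum_congr rfl fun s hs => ?_
    rw [mem_range] at hs
    rw [show n + 1 - (s + 1) = n - s by omega]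

end


section
variable {A : Type*} [CommRing A] (τ : A)

theorem desc (m s : ℕ) : (((s + 1).factorial : ℕ) : A) * ((m.choose (s + 1) : ℕ) : A) =
    ((s.factorial : ℕ) : A) * ((m.choose s : ℕ) : A) * ((m : A) - (s : A)) := by
  by_cases hs : s ≤ m
  · have h := Nat.choose_succ_right_eq m s
    have h' : ((m.choose (s + 1) : ℕ) : A) * ((s : A) + 1) = ((m.choose s : ℕ) : A) * ((m : A) - (s : A)) := by
      have := congrArg (Nat.cast : ℕ → A) h
      push_cast [Nat.cast_sub hs] at this
      exact this
    rw [Nat.factorial_succ]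
    push_cast
    linear_combination ((s.factorial : ℕ) : A) * h'
  · push Not at hs
    rw [Nat.choose_eq_zero_of_lt hs, Nat.choose_eq_zero_of_lt (by omega : m < s + 1)]
    simp

theorem R_neg (m s : ℕ) : R τ (-((m : A) * τ)) s =
    (-1) ^ s * ((s.factorial : ℕ) : A) * ((m.choose s : ℕ) : A) * τ ^ s := by
  induction s with
  | zero => simp [R_zero]
  | succ s ih =>
    rw [R_succ, ih, pow_succ, pow_succ]
    have := desc (A := A) m s
    linear_combination ((-1 : A) ^ s * τ ^ s * τ) * this

theorem R_shift (h : A) (m k : ℕ) :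
    (∏ i ∈ range m, (h + (i : A) * τ)) * R τ (h + (m : A) * τ) k =
      ∏ i ∈ range (m + k), (h + (i : A) * τ) := by
  rw [← prod_range_mul_prod_Ico (fun i : ℕ => h + (i : A) * τ) (Nat.le_add_right m k),
    prod_Ico_eq_prod_range, Nat.add_sub_cancel_left]
  congr 1
  unfold R
  refine prod_congr rfl fun i _ => ?_
  push_cast
  ring

end


/-- The identity behind the torus-equivariant classes h_i = h_0 + i τ of the coordinate hyperplanes of a
projective space of binary forms, stated in an arbitrary commutative ring: for n ≤ m, (h_0 ⋯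
h_(n-1))^2 · h_n ⋯ h_(m-1) equals the sum over s = 0, …, n of (-1)^s s! (n choose s) (m choose s)
τ^s h_0 ⋯ h_(m+n-s-1), where h_i = h + i τ. (The published statement is in the equivariant Chow ring
of that projective space; only the relations h_i = h_j + (j - i) τ are used, so it holds in any
commutative ring.) -/
theorem result (A : Type u) [CommRing A] (h τ : A) (n m : ℕ) (hnm : n ≤ m) :
    (∏ i ∈ Finset.range n, (h + (i : A) * τ) ^ 2) * ∏ i ∈ Finset.Ico n m, (h + (i : A) * τ) =
      ∑ s ∈ Finset.range (n + 1), (-1 : A) ^ s * (Nat.factorial s : A) * (Nat.choose n s : A) *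
        (Nat.choose m s : A) * τ ^ s * ∏ i ∈ Finset.range (m + n - s), (h + (i : A) * τ) := by
  have hL : (∏ i ∈ Finset.range n, (h + (i : A) * τ) ^ 2) * ∏ i ∈ Finset.Ico n m, (h + (i : A) * τ) =
      R τ h n * ∏ i ∈ Finset.range m, (h + (i : A) * τ) := by
    rw [← prod_range_mul_prod_Ico (fun i : ℕ => h + (i : A) * τ) hnm, prod_pow]
    unfold R
    ring
  rw [hL]
  have hh : h = -((m : A) * τ) + (h + (m : A) * τ) := by ring
  conv_lhs => rw [hh, chu, ← hh]
  rw [sum_mul]
  refine sum_congr rfl fun s hs => ?_
  rw [mem_range] at hs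
  rw [R_neg, show m + n - s = m + (n - s) by omega, ← R_shift τ h m (n - s)]
  ring

end Groth.Agent.S14088
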