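import Groth.Statements.S14089
import Groth.Agent.Lib.Helper29.FlatPowGeo

set_option autoImplicit false
universe u
open CategoryTheory AlgebraicGeometry
open BlowUp

namespace Groth.Agent.S14089

open CategoryTheory.Limits TopologicalSpace
open Groth.Agent.Lib.Helper29.FlatPow Groth.Agent.Lib.Helper29.EffCart Groth.Agent.Lib.Helper29.AffBlow
open Groth.Agent.Lib.Helper9.BlowExist Groth.Agent.Lib.Helper9.BlowProper

section Helpers

/-- the inverse image of `𝓘` on `X' ×_S T` is effective Cartier -/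
theorem isEffCartierIdeal_pullback {X X' S T XT XT' : Scheme.{u}}
    (f : X ⟶ S) (𝓘 : X.IdealSheafData)
    (hfl : ∀ m : ℕ, 1 ≤ m → Flat ((𝓘 ^ m).subschemeι ≫ f))
    (b : X' ⟶ X) (hb : BlowUp.IsBlowUp b 𝓘)
    (g : T ⟶ S) (pX : XT ⟶ X) (fT : XT ⟶ T) (hX : IsPullback pX fT f g)
    (pX' : XT' ⟶ X') (bT : XT' ⟶ XT) (hX' : IsPullback pX' bT b pX) :
    BlowUp.IsEffCartierIdeal (𝓘.comap (pX' ≫ b)) := by
  have hbig : IsPullback pX' (bT ≫ fT) (b ≫ f) g := hX'.paste_vert hX
  refine P_local 𝓘 (pX' ≫ b) ?_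
  intro z
  set x' := pX' z with hx'
  obtain ⟨_, ⟨V, hV, rfl⟩, hsV, -⟩ :=
    S.isBasis_affineOpens.exists_subset_of_mem_open (Set.mem_univ (f (b x'))) isOpen_univ
  obtain ⟨_, ⟨U, hU, rfl⟩, hxU, hUV⟩ :=
    X.isBasis_affineOpens.exists_subset_of_mem_open
      (show b x' ∈ (f ⁻¹ᵁ V : X.Opens) from hsV) (f ⁻¹ᵁ V).2
  obtain ⟨a, ha, j, hj, hxj, hjb⟩ := exists_chart_global hb ⟨U, hU⟩ x' hxU
  have hz : z ∈ (pullback.fst pX' j).opensRange := by
    change z ∈ Set.range (pullback.fst pX' j)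
    rw [IsOpenImmersion.range_pullbackFst]
    exact hxj
  refine ⟨(pullback.fst pX' j).opensRange, hz, ?_⟩
  have hsmall : IsPullback (pullback.snd pX' j) (pullback.fst pX' j) j pX' :=
    (IsPullback.of_hasPullback pX' j).flip
  have hpaste := hsmall.paste_vert hbig
  have hjbf : j ≫ b ≫ f = chartMap (𝓘.ideal ⟨U, hU⟩) a ≫ hU.fromSpec ≫ f := by
    rw [← Category.assoc, hjb, Category.assoc]
  rw [hjbf] at hpaste
  have hchart := isEffCartierIdeal_chart f hfl ⟨V, hV⟩ ⟨U, hU⟩ hUV a ha g _ _ hpaste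
  have heq : 𝓘.comap ((pullback.fst pX' j).opensRange.ι ≫ pX' ≫ b) =
      (((idealSheaf (𝓘.ideal ⟨U, hU⟩)).comap (chartMap (𝓘.ideal ⟨U, hU⟩) a)).comap
        (pullback.snd pX' j)).comap (pullback.fst pX' j).isoOpensRange.inv := by
    rw [← comap_fromSpec 𝓘 ⟨U, hU⟩, ← Scheme.IdealSheafData.comap_comp,
      ← Scheme.IdealSheafData.comap_comp, ← Scheme.IdealSheafData.comap_comp]
    congr 1
    rw [← Scheme.Hom.isoOpensRange_inv_comp (pullback.fst pX' j), Category.assoc,
      ← Category.assoc (pullback.fst pX' j), pullback.condition, Category.assoc, hjb]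
    simp only [Category.assoc]
  rw [heq]
  exact isEffCartierIdeal_comap_of_flat _ _ hchart

end Helpers

/-- Let f : X → S be flat, proper and of finite presentation, 𝓘 a quasi-coherent ideal of finite type on
X with V(𝓘^m) flat over S for all m ≥ 1, and b : X' → X a blowing up of X in 𝓘. Then X' is flat and
proper over S, and blowing up commutes with every base change T → S: if X_T = X ×_S T and X'_T = X'
×_X X_T, the projection X'_T → X_T is a blowing up of X_T in the inverse image of 𝓘. (The published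
statement puts no finiteness condition on the ideal; for S = X the spectrum of an infinite product
of fields and 𝓘 the ideal of finitely supported sequences every V(𝓘^m) is flat, yet the blow-up is a
non-quasi-compact open subscheme, not proper — so the ideal is taken of finite type here, and finite
presentation of X' over S is not asserted.) -/
theorem result {X X' S T XT XT' : Scheme.{u}}
    (f : X ⟶ S) [Flat f] [IsProper f] [LocallyOfFinitePresentation f]
    (𝓘 : X.IdealSheafData) (hft : BlowUp.IsFiniteTypeIdeal 𝓘)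
    (hfl : ∀ m : ℕ, 1 ≤ m → Flat ((𝓘 ^ m).subschemeι ≫ f))
    (b : X' ⟶ X) (hb : BlowUp.IsBlowUp b 𝓘)
    (g : T ⟶ S) (pX : XT ⟶ X) (fT : XT ⟶ T) (hX : IsPullback pX fT f g)
    (pX' : XT' ⟶ X') (bT : XT' ⟶ XT) (hX' : IsPullback pX' bT b pX) :
    Flat (b ≫ f) ∧ IsProper (b ≫ f) ∧ BlowUp.IsBlowUp bT (𝓘.comap pX) := by
  refine ⟨flat_comp_of_flat_powers f hfl hb, ?_, ?_, ?_⟩
  · haveI : IsProper b := isProper_of_isBlowUp hb hft
    infer_instance
  · rw [← Scheme.IdealSheafData.comap_comp, ← hX'.w]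
    exact isEffCartierIdeal_pullback f 𝓘 hfl b hb g pX fT hX pX' bT hX'
  · intro Y h hh
    rw [← Scheme.IdealSheafData.comap_comp] at hh
    obtain ⟨k, hk, hku⟩ := hb.2 Y (h ≫ pX) hh
    refine ⟨hX'.lift k h hk, hX'.lift_snd k h hk, ?_⟩
    intro k' hk'
    apply hX'.hom_ext
    · rw [hX'.lift_fst]
      apply hku
      change (k' ≫ pX') ≫ b = h ≫ pX
      rw [Category.assoc, hX'.w, ← Category.assoc, hk']
    · rw [hX'.lift_snd]
      exact hk'



end Groth.Agent.S14089
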