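import Groth.Statements.S14097
import Mathlib.Tactic

set_option autoImplicit false
universe u
open ArSing

namespace Groth.Agent.S14097

section
variable {A : Type*} [CommRing A] (h : ℕ → A)

/-- `e_j(h_0, …, h_{k-1})` -/
noncomputable def E (k j : ℕ) : A := ((Finset.range k).val.map h).esymm j

theorem E_zero (k : ℕ) : E h k 0 = 1 := by
  simp [E, Multiset.esymm]

theorem E_succ (k j : ℕ) : E h (k + 1) (j + 1) = E h k (j + 1) + h k * E h k j := by
  unfold E
  rw [Finset.range_val, Multiset.range_succ, Multiset.map_cons, Multiset.esymm,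
    Multiset.powersetCard_cons, Multiset.map_add, Multiset.sum_add, Multiset.map_map]
  congr 1
  rw [Multiset.esymm, ← Multiset.sum_map_mul_left]
  congr 1
  refine Multiset.map_congr rfl fun s _ => ?_
  simp

theorem E_self (k : ℕ) : E h k k = ∏ i ∈ Finset.range k, h i := by
  unfold E
  have hc : ((Finset.range k).val.map h).card = k := by simp
  have := Multiset.powersetCard_self ((Finset.range k).val.map h)
  rw [hc] at this
  rw [Multiset.esymm, this]
  simp [Finset.prod]

end


theorem main {A : Type*} [CommRing A] (τ : A) (h : ℕ → A) (m : ℕ)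
    (hrel : ∀ i, i < m + 1 → h i ^ 2 + τ * h i = 0) :
    (∏ i ∈ Finset.range m, (h i + h (i + 1) + τ) =
        ∑ j ∈ Finset.range (m + 1), τ ^ (m - j) * E h (m + 1) j) ∧
      (∏ i ∈ Finset.range m, (h i + h (i + 1) + τ)) * h m = ∏ i ∈ Finset.range (m + 1), h i := by
  induction m with
  | zero => simp [E_zero]
  | succ m ih =>
    obtain ⟨ihC, ihD⟩ := ih fun i hi => hrel i (by omega)
    set P := ∏ i ∈ Finset.range m, (h i + h (i + 1) + τ) with hP
    set Sm := ∑ j ∈ Finset.range (m + 1), τ ^ (m - j) * E h (m + 1) j with hS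
    have hr := hrel (m + 1) (by omega)
    have hD : (∏ i ∈ Finset.range (m + 1), (h i + h (i + 1) + τ)) * h (m + 1) =
        ∏ i ∈ Finset.range (m + 1 + 1), h i := by
      rw [Finset.prod_range_succ, ← hP, Finset.prod_range_succ _ (m + 1), ← ihD]
      linear_combination P * hr
    refine ⟨?_, hD⟩
    -- τ * Sm
    have htS : τ * Sm = ∑ j ∈ Finset.range m, τ ^ (m - j) * E h (m + 1) (j + 1) + τ ^ (m + 1) := by
      rw [hS, Finset.mul_sum, Finset.sum_range_succ']
      congr 1
      · refine Finset.sum_congr rfl fun j hj => ?_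
        rw [Finset.mem_range] at hj
        rw [← mul_assoc, ← pow_succ', show m - (j + 1) + 1 = m - j by omega]
      · rw [E_zero, Nat.sub_zero, mul_one, pow_succ']
    have hT : ∑ j ∈ Finset.range (m + 1), τ ^ (m - j) * E h (m + 1) (j + 1) =
        τ * Sm - τ ^ (m + 1) + ∏ i ∈ Finset.range (m + 1), h i := by
      rw [Finset.sum_range_succ, htS, Nat.sub_self, pow_zero, one_mul, E_self]
      ring
    rw [Finset.prod_range_succ, ← hP, Finset.sum_range_succ']
    have h1 : ∑ j ∈ Finset.range (m + 1), τ ^ (m + 1 - (j + 1)) * E h (m + 1 + 1) (j + 1) =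
        ∑ j ∈ Finset.range (m + 1), τ ^ (m - j) * E h (m + 1) (j + 1) + h (m + 1) * Sm := by
      rw [hS, Finset.mul_sum, ← Finset.sum_add_distrib]
      refine Finset.sum_congr rfl fun j _ => ?_
      rw [E_succ, Nat.add_sub_add_right]
      ring
    rw [h1, hT, E_zero, Nat.sub_zero, mul_one]
    rw [← ihC] 
    linear_combination ihD


/-- In any commutative ring, if h_0, …, h_(k-1) (k ≥ 2) and τ satisfy h_i^2 + τ h_i = 0, then ∏_(i ≤
k-2) (h_i + h_(i+1) + τ) = Σ_(j ≤ k-1) τ^(k-1-j) e_j(h), e_j the elementary symmetric functions.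
(The published statement is the resulting formula for the class of the small diagonal in the Chow
ring of (P^1)^k, where the h_i are the hyperplane classes of the factors and satisfy these
relations; only the ring identity is asserted here.) -/
theorem result (A : Type u) [CommRing A] (k : ℕ) (hk : 2 ≤ k) (τ : A)
    (h : ℕ → A) (hrel : ∀ i, i < k → h i ^ 2 + τ * h i = 0) :
    ∏ i ∈ Finset.range (k - 1), (h i + h (i + 1) + τ) =
      ∑ j ∈ Finset.range k, τ ^ (k - 1 - j) * (((Finset.range k).val.map h).esymm j) := by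
  obtain ⟨m, rfl⟩ : ∃ m, k = m + 1 := ⟨k - 1, by omega⟩
  simp only [Nat.add_sub_cancel]
  exact (main τ h m hrel).1

end Groth.Agent.S14097
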