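import Groth.Statements.S14109
import Groth.Agent.Lib.Helper7.GenericFibrePoint
import Groth.Agent.Lib.Helper7.FibreDimLe

set_option autoImplicit false
universe u
open CategoryTheory CategoryTheory.Limits AlgebraicGeometry Opposite TopologicalSpace
open CInt

namespace Groth.Agent.S14109

/-- Let f : X → S and g : X' → X be morphisms of locally Noetherian schemes with g surjective, Y a
closed subset of X and Y' its preimage under g. Then the codimension of Y' relative to the composite
X' → S (the infimum over y' ∈ Y' of the Krull dimension of the local ring at y' of the fibre of that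
composite through y') is at most the codimension of Y relative to f (the same infimum over y ∈ Y for
the fibres of f). -/
theorem result {X X' S : Scheme.{u}} [IsLocallyNoetherian X]
    [IsLocallyNoetherian X'] [IsLocallyNoetherian S] (f : X ⟶ S) (g : X' ⟶ X) [Surjective g]
    (Y : Set ↥X) (hY : IsClosed Y) :
    (⨅ y' : (fun x' => g x') ⁻¹' Y, ringKrullDim ↑(CInt.fiberStalk (g ≫ f) y'.1)) ≤
      ⨅ y : Y, ringKrullDim ↑(CInt.fiberStalk f y.1) := by
  refine le_iInf (fun y => ?_)
  obtain ⟨yv, hyY⟩ := y
  obtain ⟨y'', hy''⟩ := g.surjective yv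
  obtain ⟨z', -, hz', hmax⟩ := Groth.Agent.Lib.Helper7.GenericFibrePoint.exists_maximal_fibre_point
    g y'' yv ⟨y'', specializes_rfl, hy''⟩ (by
      intro w₀ hw₀ hyw₀
      have h1 : g w₀ ⤳ yv := hy'' ▸ hw₀.map g.continuous
      exact ⟨w₀, specializes_rfl, (h1.antisymm hyw₀).eq⟩)
  subst hz'
  have h0 := Groth.Agent.Lib.Helper7.GenericFibrePoint.ringKrullDim_fibre_eq_zero g z'
    (fun w hw hgw => hmax w hw hgw)
  have h1 := Groth.Agent.Lib.Helper7.FibreDimLe.dim_fiberStalk_comp_le g f z'
  rw [h0, add_zero] at h1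
  exact le_trans (iInf_le (fun y' : (fun x' => g x') ⁻¹' Y =>
    ringKrullDim ↑(CInt.fiberStalk (g ≫ f) y'.1)) ⟨z', hyY⟩) h1

end Groth.Agent.S14109
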