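import Groth.Statements.S1411
import Groth.Agent.S1394
import Groth.Agent.Lib.Helper4.IsolatedPoint

set_option autoImplicit false
universe u
open FlatMor

namespace Groth.Agent.S1411

set_option maxHeartbeats 1600000 in
set_option synthInstance.maxHeartbeats 200000 in
open IsLocalRing in
open AlgebraicGeometry CategoryTheory Limits in
/-- Let f : X → S be locally of finite type with S locally Noetherian, x a point closed in its fibre,
and U an open of X containing a point x' specializing to x with f x' ≠ f x. Then there is a closed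
subscheme Z of X passing through x such that Z → S is quasi-finite at x and Z contains a point z ∈ U
with z ⤳ x and f z ≠ f x. -/
theorem result {X S : Scheme.{u}} (f : X ⟶ S) [LocallyOfFiniteType f] [IsLocallyNoetherian S] (x : X)
    (hcl : IsClosed (Subtype.val ⁻¹' {x} : Set ↑(f ⁻¹' {f x}))) (U : X.Opens) (hx' : ∃ x' : X, x' ∈ U ∧ x' ⤳ x ∧ f x' ≠ f x) :
    ∃ (I : X.IdealSheafData) (z₀ x₀ : ↑I.subscheme), I.subschemeι x₀ = x ∧ (I.subschemeι ≫ f).QuasiFiniteAt x₀ ∧
      I.subschemeι z₀ ∈ U ∧ I.subschemeι z₀ ⤳ x ∧ f (I.subschemeι z₀) ≠ f x := by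
  classical
  haveI : IsLocallyNoetherian X := LocallyOfFiniteType.isLocallyNoetherian f
  set A := S.presheaf.stalk (f x) with hA
  set B := X.presheaf.stalk x with hB
  letI aAB : Algebra A B := (f.stalkMap x).hom.toAlgebra
  haveI : IsLocalHom (algebraMap A B) := inferInstanceAs (IsLocalHom (f.stalkMap x).hom)
  haveI : IsNoetherianRing B := inferInstance
  -- key dictionary: the image under `f` of a generization
  have hfgen : ∀ P : PrimeSpectrum B, f (X.fromSpecStalk x P) = f x ↔
      P.asIdeal.comap (algebraMap A B) = maximalIdeal A := by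
    intro P
    have h1 : f (X.fromSpecStalk x P) =
        S.fromSpecStalk (f x) (Spec.map (f.stalkMap x) P) := by
      rw [← Scheme.Hom.comp_apply, ← Scheme.SpecMap_stalkMap_fromSpecStalk, Scheme.Hom.comp_apply]
    have h2 : f x = S.fromSpecStalk (f x) (closedPoint A) := Scheme.fromSpecStalk_closedPoint.symm
    rw [h1]
    constructor
    · intro h
      have h3 := (S.fromSpecStalk (f x)).isEmbedding.injective (h.trans h2)
      exact congrArg PrimeSpectrum.asIdeal h3
    · intro h
      have h3 : Spec.map (f.stalkMap x) P = closedPoint A := PrimeSpectrum.ext h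
      rw [h3, ← h2]
  obtain ⟨x', hx'U, hx'x, hfx'⟩ := hx'
  -- the prime of `x'`
  obtain ⟨q₀, hq₀⟩ : x' ∈ Set.range (X.fromSpecStalk x) := by
    rw [Scheme.range_fromSpecStalk]; exact hx'x
  have hq₀A : q₀.asIdeal.comap (algebraMap A B) ≠ maximalIdeal A := by
    intro h
    exact hfx' (hq₀ ▸ (hfgen q₀).mpr h)
  have hVopen : IsOpen ((X.fromSpecStalk x) ⁻¹' (U : Set X)) :=
    U.isOpen.preimage (X.fromSpecStalk x).continuous
  have hq₀V : q₀ ∈ (X.fromSpecStalk x) ⁻¹' (U : Set X) := by
    show X.fromSpecStalk x q₀ ∈ U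
    rw [hq₀]; exact hx'U
  obtain ⟨_, ⟨e, rfl⟩, he, hsub⟩ :=
    PrimeSpectrum.isTopologicalBasis_basic_opens.exists_subset_of_mem_open hq₀V hVopen
  have hlt : q₀.asIdeal.comap (algebraMap A B) < maximalIdeal A :=
    lt_of_le_of_ne (IsLocalRing.le_maximalIdeal (Ideal.comap_ne_top _ q₀.isPrime.ne_top)) hq₀A
  obtain ⟨a, ham, haq⟩ := SetLike.exists_of_lt hlt
  set I₀ := (maximalIdeal A).map (algebraMap A B) with hI₀
  have haI : algebraMap A B a ∈ I₀ := Ideal.mem_map_of_mem _ ham
  have hc : e * algebraMap A B a ∉ q₀.asIdeal := fun h =>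
    (q₀.isPrime.mem_or_mem h).elim he haq
  obtain ⟨q', hq', hcq', hiso⟩ :=
    Groth.Agent.S1394.exists_prime_isolated I₀ (algebraMap A B a) e haI q₀.asIdeal q₀.isPrime hc
  let qpt : PrimeSpectrum B := ⟨q', hq'⟩
  set z : X := X.fromSpecStalk x qpt with hz
  have hzU : z ∈ U := hsub (show e ∉ q' from fun h => hcq' (Ideal.mul_mem_right _ _ h))
  have hzx : z ⤳ x := by
    have : z ∈ Set.range (X.fromSpecStalk x) := ⟨qpt, rfl⟩
    rwa [Scheme.range_fromSpecStalk] at this
  have hfz : f z ≠ f x := by
    intro h
    have h1 := (hfgen qpt).mp h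
    have h2 : a ∈ q'.comap (algebraMap A B) := by
      show a ∈ qpt.asIdeal.comap (algebraMap A B)
      rw [h1]; exact ham
    exact hcq' (Ideal.mul_mem_left _ _ h2)
  -- the closed subscheme
  set Z' : TopologicalSpace.Closeds X := ⟨closure {z}, isClosed_closure⟩ with hZ'
  set I := Scheme.IdealSheafData.vanishingIdeal Z' with hIdef
  set ι := I.subschemeι with hι
  have hr : Set.range ι = closure ({z} : Set X) :=
    I.range_subschemeι.trans (Scheme.IdealSheafData.coe_support_vanishingIdeal Z')
  have hxr : x ∈ Set.range ι := by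
    rw [hr]; exact specializes_iff_mem_closure.mp hzx
  obtain ⟨x₀, hx₀⟩ := hxr
  have hzr : z ∈ Set.range ι := by
    rw [hr]; exact subset_closure rfl
  obtain ⟨z₀, hz₀⟩ := hzr
  have hιinj : Function.Injective ι := ι.isClosedEmbedding.injective
  refine ⟨I, z₀, x₀, hx₀, ?_, ?_, ?_, ?_⟩
  · -- quasi-finiteness at `x₀`
    haveI : LocallyOfFiniteType (ι ≫ f) := inferInstance
    rw [Groth.Agent.Lib.Helper4.IsolatedPoint.main]
    set g := ι ≫ f with hg
    have hgx₀ : g x₀ = f x := by
      rw [hg, Scheme.Hom.comp_apply, hx₀]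
    constructor
    · -- closed in the fibre
      have hclZ : IsClosed ({⟨x₀, rfl⟩} : Set (g ⁻¹' {g x₀})) := by
        let Φ : (g ⁻¹' {g x₀}) → (f ⁻¹' {f x}) := fun t => ⟨ι t.1, by
          show f (ι t.1) = f x
          have := t.2
          rw [Set.mem_preimage, Set.mem_singleton_iff] at this
          exact (show f (ι t.1) = g t.1 from rfl).trans (this.trans hgx₀)⟩
        have hΦ : Continuous Φ :=
          Continuous.subtype_mk (ι.continuous.comp continuous_subtype_val) _
        have h1 := hcl.preimage hΦ
        convert h1 using 1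
        ext t
        simp only [Set.mem_singleton_iff, Set.mem_preimage]
        constructor
        · rintro rfl
          exact hx₀
        · intro h
          exact Subtype.ext (hιinj (h.trans hx₀.symm))
      have h1 := (g.fiberHomeo (g x₀)).isClosed_preimage.mpr hclZ
      convert h1 using 1
      ext t
      simp only [Set.mem_singleton_iff, Set.mem_preimage]
      constructor
      · rintro rfl
        exact (g.fiberHomeo (g x₀)).apply_symm_apply _
      · intro h
        exact (g.fiberHomeo (g x₀)).injective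
          (h.trans ((g.fiberHomeo (g x₀)).apply_symm_apply _).symm)
    · -- no proper generization in the fibre
      intro t ht
      have h1 : g.fiberι (g x₀) t ⤳ x₀ := by
        have := ht.map (g.fiberι (g x₀)).continuous
        rwa [g.fiberι_asFiber] at this
      have h2 : ι (g.fiberι (g x₀) t) ⤳ x := by
        have := h1.map ι.continuous
        rwa [hx₀] at this
      have h3 : f (ι (g.fiberι (g x₀) t)) = f x := by
        have : g.fiberι (g x₀) t ∈ Set.range (g.fiberι (g x₀)) := ⟨t, rfl⟩
        rw [g.range_fiberι] at this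
        exact (show f (ι (g.fiberι (g x₀) t)) = g (g.fiberι (g x₀) t) from rfl).trans
          (this.trans hgx₀)
      have h4 : z ⤳ ι (g.fiberι (g x₀) t) := by
        rw [specializes_iff_mem_closure, ← hr]
        exact ⟨_, rfl⟩
      obtain ⟨P, hP⟩ : ι (g.fiberι (g x₀) t) ∈ Set.range (X.fromSpecStalk x) := by
        rw [Scheme.range_fromSpecStalk]; exact h2
      have h5 : qpt ≤ P := by
        rw [PrimeSpectrum.le_iff_specializes]
        rw [← hP, hz] at h4
        exact (X.fromSpecStalk x).isEmbedding.isInducing.specializes_iff.mp h4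
      have h6 : P.asIdeal.comap (algebraMap A B) = maximalIdeal A := (hfgen P).mp (hP ▸ h3)
      have h7 : P.asIdeal = maximalIdeal B := by
        refine hiso P.asIdeal P.isPrime (sup_le h5 ?_)
        rw [hI₀, Ideal.map_le_iff_le_comap, h6]
      have h8 : ι (g.fiberι (g x₀) t) = x := by
        rw [← hP, show P = closedPoint B from PrimeSpectrum.ext h7]
        exact Scheme.fromSpecStalk_closedPoint
      have h9 : g.fiberι (g x₀) t = x₀ := hιinj (h8.trans hx₀.symm)
      exact (g.fiberι (g x₀)).isEmbedding.injective (h9.trans (g.fiberι_asFiber x₀).symm)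
  · rw [hz₀]; exact hzU
  · rw [hz₀]; exact hzx
  · rw [hz₀]; exact hfz

end Groth.Agent.S1411
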