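import Groth.Statements.S14115
import Mathlib.Tactic.Abel
import Mathlib.Tactic.NoncommRing

set_option autoImplicit false
universe u v
open SuperComm

namespace Groth.Agent.S14115

/-- Let S be an associative unital algebra over a commutative ring R, x an element and y_0, …, y_n
elements such that the anticommutator x y_i + y_i x equals r_i · 1 for scalars r_i ∈ R. Then the
graded commutator of x with the ordered product y_0 ⋯ y_n, namely x (y_0 ⋯ y_n) + (-1)^n (y_0 ⋯ y_n)
x, equals the sum over p of (-1)^p r_p times the ordered product of the y_q with q ≠ p. (The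
published statement takes x homogeneous of degree 1 and the y_i homogeneous of degree -1 in a graded
algebra with unit in degree 0, the signs being those of the supercommutator; this row states the
identity for arbitrary elements satisfying the anticommutation relations, which is what the
computation proves.) -/
theorem result {R : Type u} {S : Type v} [CommRing R] [Ring S]
    [Algebra R S] (n : ℕ) (x : S) (y : Fin (n + 1) → S) (r : Fin (n + 1) → R)
    (h : ∀ i : Fin (n + 1), x * y i + y i * x = algebraMap R S (r i)) :
    x * (List.ofFn y).prod + (-1 : S) ^ n * ((List.ofFn y).prod * x) =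
      ∑ p : Fin (n + 1), (-1 : S) ^ (p : ℕ) * (r p • (List.ofFn (fun q : Fin n => y (p.succAbove q))).prod) := by
  induction n with
  | zero =>
    rw [Fin.sum_univ_succ, Fin.sum_univ_zero]
    simp only [List.ofFn_succ, List.ofFn_zero, List.prod_cons, List.prod_nil, mul_one, pow_zero,
      one_mul, Fin.val_zero, add_zero]
    rw [h 0, Algebra.algebraMap_eq_smul_one]
  | succ n ih =>
    set y' : Fin (n + 1) → S := fun i => y i.succ with hy'
    set r' : Fin (n + 1) → R := fun i => r i.succ with hr'
    have ih' := ih y' r' (fun i => h i.succ)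
    have hprod : (List.ofFn y).prod = y 0 * (List.ofFn y').prod := by
      rw [List.ofFn_succ, List.prod_cons]
    set Y' := (List.ofFn y').prod with hY'
    set P : Fin (n + 1) → S := fun p => (List.ofFn (fun q : Fin n => y' (p.succAbove q))).prod
      with hP
    set Sg : S := ∑ p : Fin (n + 1), (-1 : S) ^ (p : ℕ) * (r' p • P p) with hSg
    have hx : x * Y' = Sg - (-1 : S) ^ n * (Y' * x) := eq_sub_of_add_eq ih'
    have h0 : x * y 0 = algebraMap R S (r 0) - y 0 * x := eq_sub_of_add_eq (h 0)
    have hterm0 : (List.ofFn (fun q : Fin (n + 1) => y ((0 : Fin (n + 2)).succAbove q))).prod = Y' := by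
      rfl
    have hterm : ∀ p : Fin (n + 1),
        (List.ofFn (fun q : Fin (n + 1) => y (p.succ.succAbove q))).prod = y 0 * P p := by
      intro p
      rw [List.ofFn_succ, List.prod_cons, Fin.succ_succAbove_zero]
      simp only [Fin.succ_succAbove_succ]
      rfl
    have hcp : ∀ (m : ℕ) (z : S), (-1 : S) ^ m * z = z * (-1 : S) ^ m :=
      fun m z => ((Commute.neg_one_left z).pow_left m).eq
    have hB : y 0 * Sg = ∑ p : Fin (n + 1), (-1 : S) ^ (p : ℕ) * (r' p • (y 0 * P p)) := by
      rw [hSg, Finset.mul_sum]
      refine Finset.sum_congr rfl (fun p _ => ?_)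
      rw [← mul_assoc, ← hcp, mul_assoc, mul_smul_comm]
    have hL : x * (y 0 * Y') = r 0 • Y' - y 0 * Sg + (-1 : S) ^ n * (y 0 * Y' * x) := by
      rw [← mul_assoc, h0, sub_mul, mul_assoc (y 0) x Y', hx, mul_sub, ← Algebra.smul_def,
        ← mul_assoc (y 0) ((-1 : S) ^ n), ← hcp, mul_assoc ((-1 : S) ^ n), ← mul_assoc (y 0) Y' x]
      abel
    have hR : ∑ p : Fin (n + 1), (-1 : S) ^ ((p.succ : Fin (n + 2)) : ℕ) *
        (r p.succ • (List.ofFn (fun q : Fin (n + 1) => y (p.succ.succAbove q))).prod) =
        - (y 0 * Sg) := by
      rw [hB, ← Finset.sum_neg_distrib]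
      refine Finset.sum_congr rfl (fun p _ => ?_)
      rw [hterm, Fin.val_succ, pow_succ, mul_neg_one, neg_mul]
    rw [hprod, Fin.sum_univ_succ, hR, hterm0, hL, Fin.val_zero, pow_zero, one_mul, pow_succ,
      mul_neg_one, neg_mul]
    abel

end Groth.Agent.S14115
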