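import Groth.Statements.S14128
import Groth.Agent.Lib.Helper21.AcycKit2
import Groth.Agent.S10834

set_option autoImplicit false
universe u
open CategoryTheory CategoryTheory.Limits
open LocAlg

namespace Groth.Agent.S14128

open Groth.Agent.Lib.Helper21.AcycKit in

/-- Let R be a regular local ring of Krull dimension g and M = (M^0 → M^1 → ⋯ → M^g) a perfect complex
over R, here a cochain complex of finitely generated free R-modules indexed by ℕ with M^i = 0 for i
> g, such that every cohomology module H^i(M) has finite length. Then H^i(M) = 0 for all i < g, so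
that M has cohomology at most in degree g. -/
theorem result (R : Type u) [CommRing R]
    [IsRegularLocalRing R] (g : ℕ) (hg : ringKrullDim R = g) (M : CochainComplex (ModuleCat.{u} R) ℕ)
    (hbd : ∀ i, g < i → IsZero (M.X i)) (hfree : ∀ i, Module.Free R (M.X i) ∧ Module.Finite R (M.X i))
    (hfl : ∀ i, IsFiniteLength R (M.homology i)) (i : ℕ) (hi : i < g) :
    IsZero (M.homology i) := by
  have hd : LocCoh.depth R R = g := by
    have h1 := Groth.Agent.S10834.isCM_of_isRegularLocalRing R
    unfold LocCoh.IsCohenMacaulayModule at h1
    rw [Module.supportDim_self_eq_ringKrullDim, hg] at h1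
    have h2 : ((g : ℕ∞) : WithBot ℕ∞) = ((LocCoh.depth R R : ℕ∞) : WithBot ℕ∞) := by
      exact_mod_cast h1
    exact (WithBot.coe_injective h2).symm
  obtain ⟨xs, hlen, hm, hreg, -⟩ := exists_seq_socle g hd
  have hregY : ∀ i, RingTheory.Sequence.IsWeaklyRegular ((ofCochain M).X i) xs := by
    intro i
    haveI : Module.Free R (M.X i) := (hfree i).1
    exact isWeaklyRegular_of_free hreg (M.X i)
  have h1 := al (IsLocalRing.maximalIdeal R) xs (ofCochain M) hm hregY i (hlen ▸ hi)
    (fun j _ => kill_ofCochain M j (hfl j))
  exact (ex_ofCochain_iff M i).1 h1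

end Groth.Agent.S14128
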