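import Groth.Statements.S14139
import Groth.Agent.Lib.Helper2.CurveSat
import Groth.Agent.Lib.Helper4.CurveVB7
import Groth.Agent.Lib.Helper4.TFCurve2

set_option autoImplicit false
universe u
open CategoryTheory CategoryTheory.Limits AlgebraicGeometry
open VBCurve

namespace Groth.Agent.S14139

/-- Let C be a smooth proper geometrically connected curve over a field k (proper, smooth and
geometrically connected over k, of dimension one), and 0 → E₁ → E → E₂ → 0 a short exact sequence of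
finite locally free O_C-modules of ranks r₁, r, r₂ ≥ 1 whose slopes are all equal: deg E₁ · r = deg
E · r₁ and deg E₂ · r = deg E · r₂, the degree of a rank-n locally free module being χ − n·χ(O_C).
Then E is semistable (deg G · r ≤ deg E · r' for every finite locally free submodule G of E of rank
r' ≥ 1) if and only if both E₁ and E₂ are semistable in the same sense. -/
theorem result (k : Type u) [Field k] (X : Scheme.{u}) [X.Over (Spec (CommRingCat.of k))]
    [IsProper (X ↘ Spec (CommRingCat.of k))] [Smooth (X ↘ Spec (CommRingCat.of k))]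
    [GeometricallyConnected (X ↘ Spec (CommRingCat.of k))] (hdim : topologicalKrullDim ↥X = 1)
    (T : ShortComplex X.Modules) (hT : T.ShortExact)
    (r₁ r r₂ : ℕ) (hr₁ : 0 < r₁) (hr : 0 < r) (hr₂ : 0 < r₂)
    (hE₁ : FlatMod.IsFinLocFreeOfRank r₁ T.X₁) (hE : FlatMod.IsFinLocFreeOfRank r T.X₂) (hE₂ : FlatMod.IsFinLocFreeOfRank r₂ T.X₃)
    (hμ₁ : Curv2.deg k X T.X₁ r₁ * (r : ℤ) = Curv2.deg k X T.X₂ r * (r₁ : ℤ))
    (hμ₂ : Curv2.deg k X T.X₃ r₂ * (r : ℤ) = Curv2.deg k X T.X₂ r * (r₂ : ℤ)) :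
    (∀ (G : X.Modules) (r' : ℕ) (i : G ⟶ T.X₂), Mono i → 0 < r' → FlatMod.IsFinLocFreeOfRank r' G →
      Curv2.deg k X G r' * (r : ℤ) ≤ Curv2.deg k X T.X₂ r * (r' : ℤ)) ↔
      ((∀ (G : X.Modules) (r' : ℕ) (i : G ⟶ T.X₁), Mono i → 0 < r' → FlatMod.IsFinLocFreeOfRank r' G →
      Curv2.deg k X G r' * (r₁ : ℤ) ≤ Curv2.deg k X T.X₁ r₁ * (r' : ℤ)) ∧
       (∀ (G : X.Modules) (r' : ℕ) (i : G ⟶ T.X₃), Mono i → 0 < r' → FlatMod.IsFinLocFreeOfRank r' G →
      Curv2.deg k X G r' * (r₂ : ℤ) ≤ Curv2.deg k X T.X₃ r₂ * (r' : ℤ))) := by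
  haveI := Groth.Agent.Lib.Helper4.CurveVB7.isIntegral k X
  haveI := hT.mono_f
  haveI := hT.epi_g
  have hrZ : (0 : ℤ) < (r : ℤ) := by exact_mod_cast hr
  have hr₁Z : (0 : ℤ) < (r₁ : ℤ) := by exact_mod_cast hr₁
  have hr₂Z : (0 : ℤ) < (r₂ : ℤ) := by exact_mod_cast hr₂
  constructor
  · intro hss
    refine ⟨?_, ?_⟩
    · intro G r' i hi hr' hG
      haveI := hi
      have h1 := hss G r' (i ≫ T.f) inferInstance hr' hG
      have hr'Z : (0 : ℤ) ≤ (r' : ℤ) := by positivity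
      by_contra hcon
      push Not at hcon
      nlinarith [mul_pos (sub_pos.2 hcon) hrZ, mul_le_mul_of_nonneg_right h1 hr₁Z.le]
    · intro G r' j hj hr' hG
      have hGc := Groth.Agent.Lib.Helper8.CurveTensor.isCoh_of_isFinLocFreeOfRank _ hG
      obtain ⟨G', p₁, hp₁, hG', hdG'⟩ :=
        Groth.Agent.Lib.Helper4.TFCurve.preimage_locFree k X hdim T hT hE₁ hE j hj hGc
      rw [Groth.Agent.Lib.Helper4.GPRank.grank_of_isFinLocFreeOfRank _ hG] at hG' hdG'
      have h1 := hss G' (r₁ + r') p₁ hp₁ (by omega) hG'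
      rw [hdG'] at h1
      push_cast at h1
      have hr'Z : (0 : ℤ) ≤ (r' : ℤ) := by positivity
      have h2 : Curv2.deg k X G r' * (r : ℤ) ≤ Curv2.deg k X T.X₂ r * (r' : ℤ) := by nlinarith
      by_contra hcon
      push Not at hcon
      nlinarith [mul_pos (sub_pos.2 hcon) hrZ, mul_le_mul_of_nonneg_right h2 hr₂Z.le]
  · rintro ⟨hss₁, hss₂⟩ G r' i hi hr' hG
    haveI := hi
    obtain ⟨rK, rI, hK, hI, hrr, -, hdeg, -, -⟩ :=
      Groth.Agent.Lib.Helper4.CurveVB.ker_im k X hdim (i ≫ T.g) hG hE₂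
    have hz : (kernel.ι (i ≫ T.g) ≫ i) ≫ T.g = 0 := by rw [Category.assoc, kernel.condition]
    set t : kernel (i ≫ T.g) ⟶ T.X₁ := hT.exact.lift (kernel.ι (i ≫ T.g) ≫ i) hz with ht
    have htf : t ≫ T.f = kernel.ι (i ≫ T.g) ≫ i := hT.exact.lift_f _ _
    haveI : Mono t := by
      haveI : Mono (t ≫ T.f) := by rw [htf]; infer_instance
      exact mono_of_mono t T.f
    have hKd : Curv2.deg k X (kernel (i ≫ T.g)) rK * (r₁ : ℤ) ≤ Curv2.deg k X T.X₁ r₁ * (rK : ℤ) := by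
      rcases Nat.eq_zero_or_pos rK with h0 | hpos
      · subst h0
        rw [Groth.Agent.Lib.Helper4.CurveVB.deg_of_isZero k X
          (Groth.Agent.Lib.Helper4.CurveVB.isZero_of_rank_zero hK)]
        simp
      · exact hss₁ _ rK t inferInstance hpos hK
    have hId : Curv2.deg k X (Abelian.image (i ≫ T.g)) rI * (r₂ : ℤ) ≤ Curv2.deg k X T.X₃ r₂ * (rI : ℤ) := by
      rcases Nat.eq_zero_or_pos rI with h0 | hpos
      · subst h0
        rw [Groth.Agent.Lib.Helper4.CurveVB.deg_of_isZero k X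
          (Groth.Agent.Lib.Helper4.CurveVB.isZero_of_rank_zero hI)]
        simp
      · exact hss₂ _ rI (Abelian.image.ι (i ≫ T.g)) inferInstance hpos hI
    have hr'c : (r' : ℤ) = (rK : ℤ) + rI := by exact_mod_cast hrr.symm
    rw [← hdeg, hr'c]
    have hKZ : (0 : ℤ) ≤ (rK : ℤ) := by positivity
    have hIZ : (0 : ℤ) ≤ (rI : ℤ) := by positivity
    have a1 : Curv2.deg k X (kernel (i ≫ T.g)) rK * (r : ℤ) ≤ Curv2.deg k X T.X₂ r * (rK : ℤ) := by
      by_contra hcon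
      push Not at hcon
      nlinarith [mul_pos (sub_pos.2 hcon) hr₁Z, mul_le_mul_of_nonneg_right hKd hrZ.le]
    have a2 : Curv2.deg k X (Abelian.image (i ≫ T.g)) rI * (r : ℤ) ≤ Curv2.deg k X T.X₂ r * (rI : ℤ) := by
      by_contra hcon
      push Not at hcon
      nlinarith [mul_pos (sub_pos.2 hcon) hr₂Z, mul_le_mul_of_nonneg_right hId hrZ.le]
    nlinarith

end Groth.Agent.S14139
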