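import Groth.Statements.S14149
import Groth.Agent.Lib.Helper2.VBDeg

set_option autoImplicit false
universe u
open CategoryTheory CategoryTheory.Limits AlgebraicGeometry
open VBCurve

namespace Groth.Agent.S14149

/-- Let C be a smooth proper geometrically connected curve over a field k (proper, smooth and
geometrically connected over k, of dimension one) and E a finite locally free O_C-module of rank r ≥
1, the degree of a rank-n locally free module being χ − n·χ(O_C). Then there is a finite locally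
free submodule E₁ of E, of some rank r₁ ≥ 1, such that: the slope of E₁ is maximal among finite
locally free submodules of E of positive rank (deg G · r₁ ≤ deg E₁ · r' for every such G of rank
r'); among submodules attaining that slope E₁ has the largest rank; and E₁ is semistable. (This is
the first step of the Harder–Narasimhan filtration, whose existence and uniqueness is the published
statement; the full filtration is not restated.) -/
theorem result (k : Type u) [Field k] (X : Scheme.{u}) [X.Over (Spec (CommRingCat.of k))]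
    [IsProper (X ↘ Spec (CommRingCat.of k))] [Smooth (X ↘ Spec (CommRingCat.of k))]
    [GeometricallyConnected (X ↘ Spec (CommRingCat.of k))] (hdim : topologicalKrullDim ↥X = 1)
    (r : ℕ) (hr : 0 < r) (E : X.Modules) (hE : FlatMod.IsFinLocFreeOfRank r E) :
    ∃ (E₁ : X.Modules) (r₁ : ℕ) (i₁ : E₁ ⟶ E), Mono i₁ ∧ 0 < r₁ ∧ FlatMod.IsFinLocFreeOfRank r₁ E₁ ∧
      (∀ (G : X.Modules) (r' : ℕ) (j : G ⟶ E), Mono j → 0 < r' → FlatMod.IsFinLocFreeOfRank r' G →
        Curv2.deg k X G r' * (r₁ : ℤ) ≤ Curv2.deg k X E₁ r₁ * (r' : ℤ)) ∧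
      (∀ (G : X.Modules) (r' : ℕ) (j : G ⟶ E), Mono j → 0 < r' → FlatMod.IsFinLocFreeOfRank r' G →
        Curv2.deg k X G r' * (r₁ : ℤ) = Curv2.deg k X E₁ r₁ * (r' : ℤ) → r' ≤ r₁) ∧
      (∀ (G : X.Modules) (r' : ℕ) (i : G ⟶ E₁), Mono i → 0 < r' → FlatMod.IsFinLocFreeOfRank r' G →
      Curv2.deg k X G r' * (r₁ : ℤ) ≤ Curv2.deg k X E₁ r₁ * (r' : ℤ)) := by
  classical
  haveI := Groth.Agent.Lib.Helper4.CurveVB7.isIntegral k X
  obtain ⟨N, hN⟩ := Groth.Agent.Lib.Helper2.VBDeg.exists_deg_bound k X hdim E hE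
  -- the normalised slope `deg G * (r! / r')`
  let P : ℤ → Prop := fun z => ∃ (G : X.Modules) (r' : ℕ) (j : G ⟶ E), Mono j ∧ 0 < r' ∧
    FlatMod.IsFinLocFreeOfRank r' G ∧ Curv2.deg k X G r' * ((r.factorial / r' : ℕ) : ℤ) = z
  have hfac : ∀ r' : ℕ, 0 < r' → r' ≤ r → (r.factorial / r') * r' = r.factorial := fun r' h1 h2 =>
    Nat.div_mul_cancel (Nat.dvd_factorial h1 h2)
  have hrank : ∀ (G : X.Modules) (r' : ℕ) (j : G ⟶ E), Mono j → FlatMod.IsFinLocFreeOfRank r' G → r' ≤ r :=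
    fun G r' j hj hG => by
      haveI := hj
      exact Groth.Agent.Lib.Helper4.GPRank.rank_le_of_mono j hG hE
  have hbdd : ∃ b : ℤ, ∀ z : ℤ, P z → z ≤ b := by
    refine ⟨|N| * r.factorial, ?_⟩
    rintro z ⟨G, r', j, hj, hr', hG, rfl⟩
    have h1 := hN G r' j hj hG
    have h2 : (((r.factorial / r' : ℕ) : ℤ)) ≤ (r.factorial : ℤ) := by
      exact_mod_cast Nat.div_le_self _ _
    have h3 : (0 : ℤ) ≤ ((r.factorial / r' : ℕ) : ℤ) := Int.natCast_nonneg _
    have h4 := le_abs_self N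
    have h5 := abs_nonneg N
    nlinarith
  have hinh : ∃ z : ℤ, P z := ⟨_, E, r, 𝟙 E, inferInstance, hr, hE, rfl⟩
  obtain ⟨M, ⟨G₀, r₀, j₀, hj₀, hr₀, hG₀, hM₀⟩, hMmax⟩ := Int.exists_greatest_of_bdd hbdd hinh
  -- maximise the rank among those attaining `M`
  let Q : ℕ → Prop := fun n => ∃ (G : X.Modules) (j : G ⟶ E), Mono j ∧ 0 < n ∧
    FlatMod.IsFinLocFreeOfRank n G ∧ Curv2.deg k X G n * ((r.factorial / n : ℕ) : ℤ) = M
  have hQ₀ : Q r₀ := ⟨G₀, j₀, hj₀, hr₀, hG₀, hM₀⟩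
  have hr₀r : r₀ ≤ r := hrank G₀ r₀ j₀ hj₀ hG₀
  obtain ⟨E₁, i₁, hi₁, hr₁, hE₁, hM₁⟩ := Nat.findGreatest_spec hr₀r hQ₀
  set r₁ := Nat.findGreatest Q r with hr₁def
  have hr₁r : r₁ ≤ r := hrank E₁ r₁ i₁ hi₁ hE₁
  have hfp : (0 : ℤ) < (r.factorial : ℤ) := by exact_mod_cast Nat.factorial_pos r
  have key : ∀ (G : X.Modules) (r' : ℕ) (j : G ⟶ E), Mono j → 0 < r' → FlatMod.IsFinLocFreeOfRank r' G →
      Curv2.deg k X G r' * (r₁ : ℤ) ≤ Curv2.deg k X E₁ r₁ * (r' : ℤ) := by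
    intro G r' j hj hr' hG
    have h1 : Curv2.deg k X G r' * ((r.factorial / r' : ℕ) : ℤ) ≤ M := hMmax _ ⟨G, r', j, hj, hr', hG, rfl⟩
    rw [← hM₁] at h1
    have ha : (((r.factorial / r' : ℕ) : ℤ)) * r' = r.factorial := by
      exact_mod_cast hfac r' hr' (hrank G r' j hj hG)
    have hb : (((r.factorial / r₁ : ℕ) : ℤ)) * r₁ = r.factorial := by
      exact_mod_cast hfac r₁ hr₁ hr₁r
    have hr'p : (0 : ℤ) < r' := by exact_mod_cast hr'
    have hr₁p : (0 : ℤ) < r₁ := by exact_mod_cast hr₁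
    have h2 : Curv2.deg k X G r' * ((r.factorial / r' : ℕ) : ℤ) * ((r' : ℤ) * r₁) ≤
        Curv2.deg k X E₁ r₁ * ((r.factorial / r₁ : ℕ) : ℤ) * ((r' : ℤ) * r₁) :=
      mul_le_mul_of_nonneg_right h1 (by positivity)
    have h3 : Curv2.deg k X G r' * ((r.factorial / r' : ℕ) : ℤ) * ((r' : ℤ) * r₁) =
        (Curv2.deg k X G r' * r₁) * r.factorial := by
      rw [← ha]; ring
    have h4 : Curv2.deg k X E₁ r₁ * ((r.factorial / r₁ : ℕ) : ℤ) * ((r' : ℤ) * r₁) =
        (Curv2.deg k X E₁ r₁ * r') * r.factorial := by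
      rw [← hb]; ring
    rw [h3, h4] at h2
    exact le_of_mul_le_mul_right h2 hfp
  refine ⟨E₁, r₁, i₁, hi₁, hr₁, hE₁, key, ?_, ?_⟩
  · intro G r' j hj hr' hG heq
    have hr'r := hrank G r' j hj hG
    refine Nat.le_findGreatest hr'r ⟨G, j, hj, hr', hG, ?_⟩
    rw [← hM₁]
    have ha : (((r.factorial / r' : ℕ) : ℤ)) * r' = r.factorial := by
      exact_mod_cast hfac r' hr' hr'r
    have hb : (((r.factorial / r₁ : ℕ) : ℤ)) * r₁ = r.factorial := by
      exact_mod_cast hfac r₁ hr₁ hr₁r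
    have hr'p : (0 : ℤ) < r' := by exact_mod_cast hr'
    have hr₁p : (0 : ℤ) < r₁ := by exact_mod_cast hr₁
    have hpos : (0 : ℤ) < (r' : ℤ) * r₁ := by positivity
    apply mul_right_cancel₀ hpos.ne'
    have h3 : Curv2.deg k X G r' * ((r.factorial / r' : ℕ) : ℤ) * ((r' : ℤ) * r₁) =
        (Curv2.deg k X G r' * r₁) * r.factorial := by
      rw [← ha]; ring
    have h4 : Curv2.deg k X E₁ r₁ * ((r.factorial / r₁ : ℕ) : ℤ) * ((r' : ℤ) * r₁) =
        (Curv2.deg k X E₁ r₁ * r') * r.factorial := by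
      rw [← hb]; ring
    rw [h3, h4, heq]
  · intro G r' i hi hr' hG
    haveI := hi
    haveI := hi₁
    exact key G r' (i ≫ i₁) (mono_comp i i₁) hr' hG

end Groth.Agent.S14149
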