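import Groth.Statements.S14151
import Groth.Agent.Lib.Helper2.CurveSat
import Groth.Agent.Lib.Helper4.CurveVB7

set_option autoImplicit false
universe u
open CategoryTheory CategoryTheory.Limits AlgebraicGeometry
open VBCurve

namespace Groth.Agent.S14151

/-- Let C be a smooth proper geometrically connected curve over a field k (proper, smooth and
geometrically connected over k, of dimension one) and E a finite locally free O_C-module of rank r ≥
1; degrees of rank-n locally free modules are χ − n·χ(O_C) and slopes are compared by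
cross-multiplication. Then: E is semistable in the sense of quotients (μ(E) ≤ μ(F) for every locally
free quotient E ↠ F of rank s ≥ 1) if and only if μ(G) ≤ μ(E) for every finite locally free
submodule G of E of rank r' ≥ 1; and E is stable in the sense of quotients (μ(E) < μ(F) for every
such quotient map which is not an isomorphism) if and only if μ(G) < μ(E) for every such submodule
whose inclusion is not an isomorphism. (The printed lemma says every nonzero subsheaf; for the
strict inequalities the subsheaf and the quotient must be proper, as its proof uses.) -/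
theorem result (k : Type u) [Field k] (X : Scheme.{u}) [X.Over (Spec (CommRingCat.of k))]
    [IsProper (X ↘ Spec (CommRingCat.of k))] [Smooth (X ↘ Spec (CommRingCat.of k))]
    [GeometricallyConnected (X ↘ Spec (CommRingCat.of k))] (hdim : topologicalKrullDim ↥X = 1)
    (r : ℕ) (hr : 0 < r) (E : X.Modules) (hE : FlatMod.IsFinLocFreeOfRank r E) :
    ((∀ (F : X.Modules) (s : ℕ) (p : E ⟶ F), Epi p → 0 < s → FlatMod.IsFinLocFreeOfRank s F →
      Curv2.deg k X E r * (s : ℤ) ≤ Curv2.deg k X F s * (r : ℤ)) ↔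
      (∀ (G : X.Modules) (r' : ℕ) (i : G ⟶ E), Mono i → 0 < r' → FlatMod.IsFinLocFreeOfRank r' G →
      Curv2.deg k X G r' * (r : ℤ) ≤ Curv2.deg k X E r * (r' : ℤ))) ∧
    ((∀ (F : X.Modules) (s : ℕ) (p : E ⟶ F), Epi p → 0 < s → FlatMod.IsFinLocFreeOfRank s F → (¬ IsIso p) →
      Curv2.deg k X E r * (s : ℤ) < Curv2.deg k X F s * (r : ℤ)) ↔
      (∀ (G : X.Modules) (r' : ℕ) (i : G ⟶ E), Mono i → 0 < r' → FlatMod.IsFinLocFreeOfRank r' G → (¬ IsIso i) →
      Curv2.deg k X G r' * (r : ℤ) < Curv2.deg k X E r * (r' : ℤ))) := by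
  haveI := Groth.Agent.Lib.Helper4.CurveVB7.isIntegral k X
  have hrZ : (0 : ℤ) < (r : ℤ) := by exact_mod_cast hr
  -- from quotients to subbundles
  have key1 : ∀ (G : X.Modules) (r' : ℕ) (i : G ⟶ E), Mono i → 0 < r' → FlatMod.IsFinLocFreeOfRank r' G →
      (r' = r ∧ Curv2.deg k X G r' ≤ Curv2.deg k X E r ∧ (Curv2.deg k X G r' = Curv2.deg k X E r → IsIso i)) ∨
      (r' < r ∧ ∃ (Q : X.Modules) (π : E ⟶ Q) (d' : ℤ), Epi π ∧ FlatMod.IsFinLocFreeOfRank (r - r') Q ∧ ¬ IsIso π ∧
        Curv2.deg k X G r' ≤ d' ∧ d' + Curv2.deg k X Q (r - r') = Curv2.deg k X E r) := by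
    intro G r' i hi hr' hG
    haveI := hi
    have hle := Groth.Agent.Lib.Helper4.GPRank.rank_le_of_mono i hG hE
    rcases Nat.lt_or_ge r' r with hlt | hge
    · right
      refine ⟨hlt, ?_⟩
      obtain ⟨F', a, i', hi', hai, hF', hdle, hQ, hdsum, -⟩ :=
        Groth.Agent.Lib.Helper2.CurveSat.exists_saturation k X hdim hE hG i
      haveI := hi'
      refine ⟨cokernel i', cokernel.π i', Curv2.deg k X F' r', inferInstance, hQ, ?_, hdle, hdsum⟩
      intro hiso
      haveI := hiso
      have h0 : i' = 0 := by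
        rw [← cancel_mono (cokernel.π i'), cokernel.condition, zero_comp]
      exact Groth.Agent.Lib.Helper4.CurveVB.not_isZero_of_rank_pos hr' hF' (IsZero.of_mono_eq_zero i' h0)
    · left
      have e : r' = r := le_antisymm hle hge
      subst e
      obtain ⟨h1, h2⟩ := Groth.Agent.Lib.Helper4.CurveVB.deg_le_of_mono_of_rank_eq k X hdim.le i hG hE
      exact ⟨rfl, h1, h2⟩
  -- from subbundles to quotients
  have key2 : ∀ (F : X.Modules) (s : ℕ) (p : E ⟶ F), Epi p → 0 < s → FlatMod.IsFinLocFreeOfRank s F →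
      s ≤ r ∧ FlatMod.IsFinLocFreeOfRank (r - s) (kernel p) ∧
      Curv2.deg k X (kernel p) (r - s) + Curv2.deg k X F s = Curv2.deg k X E r ∧
      (s = r → IsIso p) ∧ (s < r → ¬ IsIso (kernel.ι p)) := by
    intro F s p hp hs hF
    haveI := hp
    obtain ⟨h1, h2, h3⟩ := Groth.Agent.Lib.Helper2.CurveSat.kernel_of_epi k X hdim hE hF p
    refine ⟨h1, h2, h3, ?_, ?_⟩
    · intro e
      subst e
      rw [Nat.sub_self] at h2
      haveI : Mono p := Groth.Agent.Lib.Helper4.CurveVB.mono_of_isZero_kernel' X p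
        (Groth.Agent.Lib.Helper4.CurveVB.isZero_of_rank_zero h2)
      exact isIso_of_mono_of_epi p
    · intro hlt hiso
      haveI := hiso
      have h0 : p = 0 := by
        rw [← cancel_epi (kernel.ι p), kernel.condition, comp_zero]
      exact Groth.Agent.Lib.Helper4.CurveVB.not_isZero_of_rank_pos hs hF (IsZero.of_epi_eq_zero p h0)
  refine ⟨⟨?_, ?_⟩, ⟨?_, ?_⟩⟩
  · intro hq G r' i hi hr' hG
    rcases key1 G r' i hi hr' hG with ⟨e, hd, -⟩ | ⟨hlt, Q, π, d', hπ, hQ, -, hd, hsum⟩
    · subst e
      exact mul_le_mul_of_nonneg_right hd hrZ.le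
    · have h1 := hq Q (r - r') π hπ (by omega) hQ
      have hc : ((r - r' : ℕ) : ℤ) = (r : ℤ) - r' := by push_cast [Nat.cast_sub hlt.le]; ring
      rw [hc] at h1
      nlinarith
  · intro hsub F s p hp hs hF
    obtain ⟨hsr, hK, hsum, -, -⟩ := key2 F s p hp hs hF
    rcases Nat.lt_or_ge s r with hlt | hge
    · have h1 := hsub (kernel p) (r - s) (kernel.ι p) inferInstance (by omega) hK
      have hc : ((r - s : ℕ) : ℤ) = (r : ℤ) - s := by push_cast [Nat.cast_sub hlt.le]; ring
      rw [hc] at h1
      nlinarith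
    · have e : s = r := le_antisymm hsr hge
      subst e
      rw [Nat.sub_self] at hK hsum
      have h0 : Curv2.deg k X (kernel p) 0 = 0 :=
        Groth.Agent.Lib.Helper4.CurveVB.deg_of_isZero k X (Groth.Agent.Lib.Helper4.CurveVB.isZero_of_rank_zero hK)
      rw [h0, zero_add] at hsum
      rw [hsum]
  · intro hq G r' i hi hr' hG hni
    rcases key1 G r' i hi hr' hG with ⟨e, hd, hiso⟩ | ⟨hlt, Q, π, d', hπ, hQ, hnπ, hd, hsum⟩
    · subst e
      have hlt : Curv2.deg k X G r' < Curv2.deg k X E r' := lt_of_le_of_ne hd (fun h => hni (hiso h))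
      exact mul_lt_mul_of_pos_right hlt hrZ
    · have h1 := hq Q (r - r') π hπ (by omega) hQ hnπ
      have hc : ((r - r' : ℕ) : ℤ) = (r : ℤ) - r' := by push_cast [Nat.cast_sub hlt.le]; ring
      rw [hc] at h1
      nlinarith
  · intro hsub F s p hp hs hF hnp
    obtain ⟨hsr, hK, hsum, hiso, hnk⟩ := key2 F s p hp hs hF
    rcases Nat.lt_or_ge s r with hlt | hge
    · have h1 := hsub (kernel p) (r - s) (kernel.ι p) inferInstance (by omega) hK (hnk hlt)
      have hc : ((r - s : ℕ) : ℤ) = (r : ℤ) - s := by push_cast [Nat.cast_sub hlt.le]; ring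
      rw [hc] at h1
      nlinarith
    · exact absurd (hiso (le_antisymm hsr hge)) hnp

end Groth.Agent.S14151
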