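import Groth.Statements.S14175
import Mathlib

set_option autoImplicit false
universe u v w
open GalCoh

namespace Groth.Agent.S14175

section aux

-- universes declared in template

open Finset

section
variable {k : Type u} {V : Type w} [CommRing k] [AddCommGroup V] [Module k V]

/-- geometric sum in End -/
noncomputable def gs (T : Module.End k V) (i : ℕ) : Module.End k V := ∑ j ∈ range i, T ^ j

lemma gs_add (T : Module.End k V) (a b : ℕ) : gs T (a + b) = gs T a + T ^ a * gs T b := by
  induction b with
  | zero => simp [gs]
  | succ b ih =>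
    have h1 : gs T (a + (b + 1)) = gs T (a + b) + T ^ (a + b) := by
      rw [← add_assoc]; exact Finset.sum_range_succ _ _
    have h2 : gs T (b + 1) = gs T b + T ^ b := Finset.sum_range_succ _ _
    rw [h1, h2, ih, mul_add, pow_add]
    abel

lemma gs_mul_sub (T : Module.End k V) (i : ℕ) : (T - 1) * gs T i = T ^ i - 1 := mul_geom_sum T i

end

theorem main
    {k : Type u} {G : Type v} {V : Type w} [CommRing k] [Group G] [Finite G]
    [AddCommGroup V] [Module k V] (ρ : Representation k G V)
    (t : G) (ht : ∀ g : G, g ∈ Subgroup.zpowers t)
    (m : ℕ) (hm : m ∣ Nat.card G) (htors : ∀ v : V, m • v = 0)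
    (htriv : ∀ g : G, g ^ m = 1 → ∀ v : V, ρ g v = v) :
    (∀ f : G → V, (∀ g h : G, f (g * h) = ρ g (f h) + f g) →
        (Representation.Coinvariants.mk ρ (f t) = 0 ↔ ∃ x : V, ∀ g : G, f g = ρ g x - x)) ∧
    (∀ v : V, ∃ f : G → V, (∀ g h : G, f (g * h) = ρ g (f h) + f g) ∧
        Representation.Coinvariants.mk ρ (f t) = Representation.Coinvariants.mk ρ v) := by
  classical
  set T : Module.End k V := ρ t with hT
  have hρpow : ∀ i : ℕ, ρ (t ^ i) = T ^ i := fun i => map_pow ρ t i
  have hpow : ∀ g : G, ∃ i : ℕ, t ^ i = g := by
    intro g
    have h1 := (mem_powers_iff_mem_zpowers (x := t) (y := g)).mpr (ht g)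
    exact (Submonoid.mem_powers_iff _ _).mp h1
  set n := Nat.card G with hn
  have hord : orderOf t = n := orderOf_eq_card_of_forall_mem_zpowers ht
  have htn : t ^ n = 1 := by rw [← hord]; exact pow_orderOf_eq_one t
  -- norm vanishes
  have hGn : gs T n = 0 := by
    obtain ⟨q, hq⟩ := hm
    have hlq : ∀ l : ℕ, gs T (l * q) = l • gs T q := by
      intro l
      induction l with
      | zero => simp [gs]
      | succ l ih =>
        rw [add_mul, one_mul, gs_add, ih, add_smul, one_smul]
        congr 1
        have h1 : (t ^ (l * q)) ^ m = 1 := by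
          rw [← pow_mul, mul_assoc, mul_comm q m, ← hq, mul_comm, pow_mul, htn, one_pow]
        have h2 : T ^ (l * q) = 1 := by
          rw [← hρpow]
          ext v
          exact htriv _ h1 v
        rw [h2, one_mul]
    rw [hq, hlq]
    ext v
    rw [LinearMap.smul_apply, LinearMap.zero_apply]
    exact htors _
  have hGnc : ∀ c : ℕ, gs T (n * c) = 0 := by
    intro c
    induction c with
    | zero => simp [gs]
    | succ c ih => rw [mul_add, mul_one, gs_add, ih, hGn, mul_zero, add_zero]
  have hGeq : ∀ a b : ℕ, t ^ a = t ^ b → gs T a = gs T b := by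
    have key : ∀ a b : ℕ, a ≤ b → t ^ a = t ^ b → gs T a = gs T b := by
      intro a b hab h
      have h1 : a ≡ b [MOD n] := by rw [← hord]; exact pow_eq_pow_iff_modEq.mp h
      obtain ⟨c, hc⟩ := (Nat.modEq_iff_dvd' hab).mp h1
      have : b = a + n * c := by omega
      rw [this, gs_add, hGnc, mul_zero, add_zero]
    intro a b h
    rcases le_total a b with hab | hab
    · exact key a b hab h
    · exact (key b a hab h.symm).symm
  constructor
  · intro f hf
    have hf1 : f 1 = 0 := by
      have := hf 1 1
      rw [mul_one, map_one, Module.End.one_apply] at this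
      have h3 : f 1 + 0 = f 1 + f 1 := by rw [add_zero]; exact this
      exact (add_left_cancel h3).symm
    constructor
    · intro h0
      rw [Representation.Coinvariants.mk_eq_zero] at h0
      have hle : Representation.Coinvariants.ker ρ ≤ LinearMap.range (T - 1) := by
        unfold Representation.Coinvariants.ker
        rw [Submodule.span_le]
        rintro _ ⟨⟨g, v⟩, rfl⟩
        obtain ⟨i, rfl⟩ := hpow g
        refine ⟨gs T i v, ?_⟩
        show ((T - 1) * gs T i) v = ρ (t ^ i) v - v
        rw [gs_mul_sub, hρpow]
        rfl
      obtain ⟨x, hx⟩ := hle h0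
      refine ⟨x, ?_⟩
      have hall : ∀ i : ℕ, f (t ^ i) = (T ^ i) x - x := by
        intro i
        induction i with
        | zero => rw [pow_zero, hf1, pow_zero, Module.End.one_apply, sub_self]
        | succ i ih =>
          rw [pow_succ, hf, ih, hρpow, ← hx, LinearMap.sub_apply, Module.End.one_apply, map_sub,
            pow_succ, Module.End.mul_apply]
          abel
      intro g
      obtain ⟨i, rfl⟩ := hpow g
      rw [hall, hρpow]
    · rintro ⟨x, hx⟩
      rw [hx t, Representation.Coinvariants.mk_eq_zero]
      exact Representation.Coinvariants.sub_mem_ker t x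
  · intro v
    choose κ hκ using hpow
    refine ⟨fun g => gs T (κ g) v, ?_, ?_⟩
    · intro g h
      have h1 : t ^ (κ (g * h)) = t ^ (κ g + κ h) := by rw [hκ, pow_add, hκ, hκ]
      show gs T (κ (g * h)) v = ρ g (gs T (κ h) v) + gs T (κ g) v
      rw [hGeq _ _ h1, gs_add, LinearMap.add_apply, Module.End.mul_apply, ← hρpow, hκ, add_comm]
    · have h1 : t ^ (κ t) = t ^ 1 := by rw [hκ, pow_one]
      show Representation.Coinvariants.mk ρ (gs T (κ t) v) = _
      rw [hGeq _ _ h1]
      simp [gs]

end aux

/-- Let G be a finite cyclic group generated by t, let m be a natural number dividing the order of G,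
and let ρ be a linear representation of G on a module V over a commutative ring k such that m·V = 0
and every element of G whose m-th power is the identity acts trivially on V. Then evaluating a
crossed homomorphism at t induces a bijection from the first cohomology of G with values in V
(crossed homomorphisms f, i.e. f(gh) = ρ(g)f(h) + f(g), modulo the principal ones g ↦ ρ(g)x − x)
onto the coinvariants V_G (the quotient of V by the span of all ρ(g)v − v): the class of f(t) in V_G
vanishes exactly when f is principal, and every class of V_G is the class of f(t) for some crossed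
homomorphism f. The bijection depends on the choice of the generator t. -/
theorem result
    {k : Type u} {G : Type v} {V : Type w} [CommRing k] [Group G] [Finite G]
    [AddCommGroup V] [Module k V] (ρ : Representation k G V)
    (t : G) (ht : ∀ g : G, g ∈ Subgroup.zpowers t)
    (m : ℕ) (hm : m ∣ Nat.card G) (htors : ∀ v : V, m • v = 0)
    (htriv : ∀ g : G, g ^ m = 1 → ∀ v : V, ρ g v = v) :
    (∀ f : G → V, (∀ g h : G, f (g * h) = ρ g (f h) + f g) →
        (Representation.Coinvariants.mk ρ (f t) = 0 ↔ ∃ x : V, ∀ g : G, f g = ρ g x - x)) ∧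
    (∀ v : V, ∃ f : G → V, (∀ g h : G, f (g * h) = ρ g (f h) + f g) ∧
        Representation.Coinvariants.mk ρ (f t) = Representation.Coinvariants.mk ρ v) := by
  exact main ρ t ht m hm htors htriv

end Groth.Agent.S14175
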