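import Groth.Statements.S14177
import Mathlib
-- import your own Groth.Agent.* helpers here

set_option autoImplicit false
set_option linter.unusedSectionVars false
set_option linter.style.haveILetI false
set_option linter.unusedVariables false
universe u v w
open scoped nonZeroDivisors
open EtAlg

namespace Groth.Agent.S14177

open scoped KaehlerDifferential

section kill
/-- In an algebra generated by one element `b` with `w • D b = 0`, `w` kills all differentials. -/
lemma smul_D_eq_zero_of_adjoin {R S : Type*} [CommRing R] [CommRing S] [Algebra R S] (b : S) (w : R)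
    (hb : w • KaehlerDifferential.D R S b = 0) (y : S) (hy : y ∈ Algebra.adjoin R {b}) :
    w • KaehlerDifferential.D R S y = 0 := by
  induction hy using Algebra.adjoin_induction with
  | mem x hx =>
    rw [Set.mem_singleton_iff] at hx; rw [hx]; exact hb
  | algebraMap r => rw [Derivation.map_algebraMap, smul_zero]
  | add x y _ _ hx hy => rw [map_add, smul_add, hx, hy, add_zero]
  | mul x y _ _ hx hy =>
    rw [Derivation.leibniz, smul_add, smul_comm w x, smul_comm w y, hx, hy, smul_zero, smul_zero,
      add_zero]

end kill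

section loc
variable {A' : Type*} {K : Type*} {L : Type*} [CommRing A'] [IsDedekindDomain A'] [Field K] [Algebra A' K]
  [IsFractionRing A' K] [Field L] [Algebra K L] [Algebra A' L] [IsScalarTower A' K L]

/-- every element of `K(β)` is a quotient of an element of `A'[β]` by a nonzero element of `A'` -/
lemma exists_smul_mem_adjoin (β : L) (hβ : IsIntegral K β) (z : L)
    (hz : z ∈ IntermediateField.adjoin K ({β} : Set L)) :
    ∃ d : A', d ≠ 0 ∧ d • z ∈ Algebra.adjoin A' ({β} : Set L) := by
  have hz' : z ∈ Algebra.adjoin K ({β} : Set L) := by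
    rw [← IntermediateField.adjoin_simple_toSubalgebra_of_isAlgebraic hβ.isAlgebraic]
    exact hz
  clear hz
  induction hz' using Algebra.adjoin_induction with
  | mem x hx =>
    exact ⟨1, one_ne_zero, by rw [one_smul]; exact Algebra.subset_adjoin hx⟩
  | algebraMap k =>
    obtain ⟨a, d, hd, rfl⟩ := IsFractionRing.div_surjective (A := A') k
    refine ⟨d, nonZeroDivisors.ne_zero hd, ?_⟩
    have hd' : algebraMap A' K d ≠ 0 :=
      (map_ne_zero_iff _ (IsFractionRing.injective A' K)).2 (nonZeroDivisors.ne_zero hd)
    have : d • algebraMap K L (algebraMap A' K a / algebraMap A' K d) = algebraMap A' L a := by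
      rw [Algebra.smul_def, IsScalarTower.algebraMap_apply A' K L d, ← map_mul,
        mul_div_cancel₀ _ hd', ← IsScalarTower.algebraMap_apply]
    rw [this]
    exact Subalgebra.algebraMap_mem _ a
  | add x y _ _ hx hy =>
    obtain ⟨d₁, h₁, m₁⟩ := hx
    obtain ⟨d₂, h₂, m₂⟩ := hy
    refine ⟨d₁ * d₂, mul_ne_zero h₁ h₂, ?_⟩
    have : (d₁ * d₂) • (x + y) = d₂ • (d₁ • x) + d₁ • (d₂ • y) := by
      rw [smul_add, mul_smul, mul_smul, smul_comm d₁ d₂ x]
    rw [this]
    exact Subalgebra.add_mem _ (Subalgebra.smul_mem _ m₁ _) (Subalgebra.smul_mem _ m₂ _)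
  | mul x y _ _ hx hy =>
    obtain ⟨d₁, h₁, m₁⟩ := hx
    obtain ⟨d₂, h₂, m₂⟩ := hy
    refine ⟨d₁ * d₂, mul_ne_zero h₁ h₂, ?_⟩
    have : (d₁ * d₂) • (x * y) = (d₁ • x) * (d₂ • y) := by
      rw [smul_mul_smul_comm]
    rw [this]
    exact Subalgebra.mul_mem _ m₁ m₂

/-- **Local lemma.** If `β ^ n = u` with `n`, `u` units of the Dedekind domain `A'` and `L = K(β)`, then
every element of `L` integral over `A'` lies in `A'[β]`. -/
lemma mem_adjoin_of_isIntegral (n : ℕ) (hn : IsUnit (n : A')) (u : A'ˣ) (β : L)
    (hβ : β ^ n = algebraMap A' L u) (hgen : IntermediateField.adjoin K ({β} : Set L) = ⊤)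
    (z : L) (hz : IsIntegral A' z) : z ∈ Algebra.adjoin A' ({β} : Set L) := by
  have hn0 : n ≠ 0 := by
    rintro rfl
    rw [Nat.cast_zero] at hn
    exact not_isUnit_zero hn
  have hinjL : Function.Injective (algebraMap A' L) := by
    rw [IsScalarTower.algebraMap_eq A' K L]
    exact (algebraMap K L).injective.comp (IsFractionRing.injective A' K)
  -- integrality of `β`
  have hβint : IsIntegral A' β := by
    refine ⟨Polynomial.X ^ n - Polynomial.C (u : A'), Polynomial.monic_X_pow_sub_C _ hn0, ?_⟩
    rw [Polynomial.eval₂_sub, Polynomial.eval₂_pow, Polynomial.eval₂_X, Polynomial.eval₂_C, hβ, sub_self]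
  set B := Algebra.adjoin A' ({β} : Set L) with hB
  let bB : B := ⟨β, Algebra.self_mem_adjoin_singleton A' β⟩
  haveI : Module.Finite A' B := Module.Finite.iff_fg.mpr hβint.fg_adjoin_singleton
  -- `bB` is a unit of `B`
  have hbn : bB ^ n = algebraMap A' B u := Subtype.ext (by
    rw [SubmonoidClass.coe_pow]; exact hβ)
  have hbunit : IsUnit bB := by
    have : IsUnit (bB ^ n) := by rw [hbn]; exact u.isUnit.map _
    exact (isUnit_pow_iff hn0).1 this
  -- differentials vanish
  have hD : KaehlerDifferential.D A' B bB = 0 := by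
    have h1 := congrArg (KaehlerDifferential.D A' B) hbn
    rw [Derivation.leibniz_pow, Derivation.map_algebraMap] at h1
    have h2 : IsUnit (algebraMap A' B (n : A')) := hn.map _
    have h3 : (n : B) = algebraMap A' B (n : A') := (map_natCast _ n).symm
    rw [← Nat.cast_smul_eq_nsmul B, h3] at h1
    have h4 : (algebraMap A' B (n : A') * bB ^ (n - 1)) • KaehlerDifferential.D A' B bB = 0 := by
      rw [mul_smul]; exact h1
    exact (IsUnit.smul_eq_zero (h2.mul (hbunit.pow _))).1 h4
  haveI : Algebra.FormallyUnramified A' B := by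
    refine ⟨?_⟩
    have htop : Algebra.adjoin A' (((↑) : B → L) ⁻¹' ({β} : Set L)) = ⊤ :=
      Algebra.adjoin_adjoin_coe_preimage
    have hpre : (((↑) : B → L) ⁻¹' ({β} : Set L)) = {bB} := by
      ext y
      simp only [Set.mem_preimage, Set.mem_singleton_iff]
      exact ⟨fun h => Subtype.ext h, fun h => by rw [h]⟩
    rw [hpre] at htop
    have hall : ∀ y : B, KaehlerDifferential.D A' B y = 0 := by
      intro y
      have := smul_D_eq_zero_of_adjoin bB (1 : A') (by rw [one_smul]; exact hD) y
        (by rw [htop]; trivial)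
      rwa [one_smul] at this
    have hspan := KaehlerDifferential.span_range_derivation A' B
    have hbot : Submodule.span B (Set.range (KaehlerDifferential.D A' B)) = ⊥ := by
      rw [Submodule.span_eq_bot]
      rintro _ ⟨y, rfl⟩
      exact hall y
    rw [hbot] at hspan
    exact (Submodule.subsingleton_iff B).1 (subsingleton_of_bot_eq_top hspan)
  haveI : IsDedekindDomain B := isDedekindDomain.of_formallyUnramified A' B
  -- `L` is the fraction field of `B`
  have hβK : IsIntegral K β := hβint.tower_top
  haveI : IsFractionRing B L := by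
    apply IsFractionRing.of_field
    intro x
    obtain ⟨d, hd, hm⟩ := exists_smul_mem_adjoin (A' := A') (K := K) β hβK x (by rw [hgen]; trivial)
    refine ⟨⟨d • x, hm⟩, algebraMap A' B d, ?_⟩
    have hdL : algebraMap A' L d ≠ 0 := (map_ne_zero_iff _ hinjL).2 hd
    change x = d • x / algebraMap A' L d
    rw [Algebra.smul_def, mul_div_assoc, mul_comm, div_mul_cancel₀ _ hdL]
  have hzB : IsIntegral B z := hz.tower_top
  obtain ⟨y, hy⟩ := (IsIntegrallyClosed.isIntegral_iff (R := B) (K := L)).1 hzB
  rw [← hy]
  exact y.2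

end loc

section glob
variable {A : Type*} {K : Type*} [CommRing A] [IsDedekindDomain A]
    [Field K] [Algebra A K] [IsFractionRing A K] (p : Ideal A) [p.IsPrime]

lemma exists_local_root (n : ℕ) (hn0 : n ≠ 0) (f : K) (hf : f ≠ 0) (I : FractionalIdeal A⁰ K)
    (hI : FractionalIdeal.spanSingleton A⁰ f = I ^ n) :
    ∃ (g : K) (u : (Localization.subalgebra K p.primeCompl p.primeCompl_le_nonZeroDivisors)ˣ),
      g ≠ 0 ∧ f = ((u : Localization.subalgebra K p.primeCompl p.primeCompl_le_nonZeroDivisors) : K) * g ^ n := by
  have hS : p.primeCompl ≤ A⁰ := p.primeCompl_le_nonZeroDivisors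
  set A' := Localization.subalgebra K p.primeCompl hS with hA'
  haveI : IsDedekindDomain A' := IsLocalization.isDedekindDomain A hS A'
  haveI : IsLocalRing A' := IsLocalization.AtPrime.isLocalRing A' p
  haveI : IsPrincipalIdealRing A' := IsPrincipalIdealRing.of_finite_maximals
    (Set.Finite.subset (Set.finite_singleton (IsLocalRing.maximalIdeal A'))
      (fun I hI => IsLocalRing.eq_maximalIdeal hI))
  let J : FractionalIdeal A'⁰ K := FractionalIdeal.extendedHom K A' I
  have hmap : ∀ x : K, IsFractionRing.map (A := A) (B := A') (K := K) (L := K)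
      (FaithfulSMul.algebraMap_injective A A') x = x := by
    intro x
    have : (IsFractionRing.map (A := A) (B := A') (K := K) (L := K)
      (FaithfulSMul.algebraMap_injective A A')) = RingHom.id K := by
      apply IsLocalization.ringHom_ext A⁰
      ext a
      simp only [RingHom.coe_comp, Function.comp_apply, RingHom.id_apply]
      rw [IsFractionRing.map, IsLocalization.map_eq]
      rfl
    rw [this]; rfl
  have hJ : FractionalIdeal.spanSingleton A'⁰ f = J ^ n := by
    have := congrArg (FractionalIdeal.extendedHom K A') hI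
    rw [map_pow, FractionalIdeal.extendedHom_spanSingleton, hmap] at this
    exact this
  obtain ⟨g, hg⟩ := (FractionalIdeal.isPrincipal_iff J).1 inferInstance
  rw [hg, FractionalIdeal.spanSingleton_pow] at hJ
  have hgn : g ^ n ≠ 0 := by
    intro h0
    rw [h0] at hJ
    have : FractionalIdeal.spanSingleton A'⁰ f = 0 := by
      rw [hJ]; exact FractionalIdeal.spanSingleton_eq_zero_iff.2 rfl
    exact hf (FractionalIdeal.spanSingleton_eq_zero_iff.1 this)
  have hg0 : g ≠ 0 := fun h => hgn (by rw [h, zero_pow hn0])
  obtain ⟨a, ha⟩ := (FractionalIdeal.mem_spanSingleton A'⁰).1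
    (hJ ▸ FractionalIdeal.mem_spanSingleton_self A'⁰ f)
  obtain ⟨b, hb⟩ := (FractionalIdeal.mem_spanSingleton A'⁰).1
    (hJ.symm ▸ FractionalIdeal.mem_spanSingleton_self A'⁰ (g ^ n))
  have hab : a * b = 1 := by
    apply Subtype.ext
    have h1 : (a : K) * g ^ n = f := ha
    have h2 : (b : K) * f = g ^ n := hb
    have : ((a : K) * (b : K)) * g ^ n = 1 * g ^ n := by
      rw [one_mul]
      calc (a : K) * (b : K) * g ^ n = (b : K) * ((a : K) * g ^ n) := by ring
        _ = g ^ n := by rw [h1, h2]
    exact mul_right_cancel₀ hgn this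
  refine ⟨g, ⟨a, b, hab, by rw [mul_comm]; exact hab⟩, hg0, ?_⟩
  exact ha.symm

end glob

section descent
variable {A : Type*} {K : Type*} {L : Type*} [CommRing A] [IsDedekindDomain A]
    [Field K] [Algebra A K] [IsFractionRing A K]
    [Field L] [Algebra K L] [Algebra A L] [IsScalarTower A K L]

/-- clearing denominators: elements of `A_S[β]` become elements of `A[tβ]` after multiplication by an
element of `S` -/
lemma exists_smul_mem_adjoin_of_loc (S : Submonoid A) (hS : S ≤ A⁰) (β : L) (t : A) (ht : t ∈ S)
    (y : L) (hy : y ∈ Algebra.adjoin (Localization.subalgebra K S hS) ({β} : Set L)) :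
    ∃ s ∈ S, s • y ∈ Algebra.adjoin A ({t • β} : Set L) := by
  induction hy using Algebra.adjoin_induction with
  | mem x hx =>
    rw [Set.mem_singleton_iff] at hx
    exact ⟨t, ht, by rw [hx]; exact Algebra.self_mem_adjoin_singleton A _⟩
  | algebraMap a' =>
    obtain ⟨⟨c, t₂⟩, h⟩ := IsLocalization.surj S a'
    refine ⟨t₂, t₂.2, ?_⟩
    have h' : (a' : K) * algebraMap A K t₂ = algebraMap A K c := congrArg Subtype.val h
    have : (t₂ : A) • algebraMap (Localization.subalgebra K S hS) L a' = algebraMap A L c := by
      rw [Algebra.smul_def, IsScalarTower.algebraMap_apply A K L, IsScalarTower.algebraMap_apply A K L c,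
        ← h', mul_comm, map_mul]
      rfl
    rw [this]
    exact Subalgebra.algebraMap_mem _ c
  | add x y _ _ hx hy =>
    obtain ⟨d₁, h₁, m₁⟩ := hx
    obtain ⟨d₂, h₂, m₂⟩ := hy
    refine ⟨d₁ * d₂, S.mul_mem h₁ h₂, ?_⟩
    have : (d₁ * d₂) • (x + y) = d₂ • (d₁ • x) + d₁ • (d₂ • y) := by
      rw [smul_add, mul_smul, mul_smul, smul_comm d₁ d₂ x]
    rw [this]
    exact Subalgebra.add_mem _ (Subalgebra.smul_mem _ m₁ _) (Subalgebra.smul_mem _ m₂ _)
  | mul x y _ _ hx hy =>
    obtain ⟨d₁, h₁, m₁⟩ := hx
    obtain ⟨d₂, h₂, m₂⟩ := hy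
    refine ⟨d₁ * d₂, S.mul_mem h₁ h₂, ?_⟩
    have : (d₁ * d₂) • (x * y) = (d₁ • x) * (d₂ • y) := by
      rw [smul_mul_smul_comm]
    rw [this]
    exact Subalgebra.mul_mem _ m₁ m₂

/-- for every prime `p` of `A`, some `s ∉ p` kills `D z` -/
lemma exists_smul_D_eq_zero (n : ℕ) (hn : IsUnit (n : A)) (f : K) (hf : f ≠ 0)
    (I : FractionalIdeal A⁰ K) (hI : FractionalIdeal.spanSingleton A⁰ f = I ^ n)
    (α : L) (hα : α ^ n = algebraMap K L f) (hgen : IntermediateField.adjoin K ({α} : Set L) = ⊤)
    (p : Ideal A) [p.IsPrime] (z : integralClosure A L) :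
    ∃ s : A, s ∉ p ∧ s • KaehlerDifferential.D A (integralClosure A L) z = 0 := by
  have hn0 : n ≠ 0 := by
    rintro rfl
    rw [Nat.cast_zero] at hn
    exact not_isUnit_zero hn
  have hS : p.primeCompl ≤ A⁰ := p.primeCompl_le_nonZeroDivisors
  set A' := Localization.subalgebra K p.primeCompl hS with hA'
  obtain ⟨g, u, hg0, hfu⟩ : ∃ (g : K) (u : A'ˣ), g ≠ 0 ∧ f = ((u : A') : K) * g ^ n :=
    exists_local_root p n hn0 f hf I hI
  haveI : IsDedekindDomain A' := IsLocalization.isDedekindDomain A hS A'
  have hgL : algebraMap K L g ≠ 0 := (map_ne_zero_iff _ (algebraMap K L).injective).2 hg0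
  set β : L := α / algebraMap K L g with hβ
  have hβn : β ^ n = algebraMap A' L u := by
    rw [hβ, div_pow, hα, hfu, map_mul, map_pow, mul_div_assoc, div_self (pow_ne_zero _ hgL), mul_one]
    rfl
  have hgenβ : IntermediateField.adjoin K ({β} : Set L) = ⊤ := by
    rw [eq_top_iff, ← hgen, IntermediateField.adjoin_le_iff]
    intro x hx
    rw [Set.mem_singleton_iff] at hx
    have hα' : α = algebraMap K L g * β := by rw [hβ, mul_div_cancel₀ _ hgL]
    rw [hx, hα']
    exact mul_mem (IntermediateField.algebraMap_mem _ g) (IntermediateField.mem_adjoin_simple_self K β)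
  have hn' : IsUnit ((n : ℕ) : A') := by
    have := hn.map (algebraMap A A')
    rwa [map_natCast] at this
  have hzmem : (z : L) ∈ Algebra.adjoin A' ({β} : Set L) :=
    mem_adjoin_of_isIntegral (A' := A') (K := K) n hn' u β hβn hgenβ (z : L) z.2.tower_top
  -- denominators of `u`
  obtain ⟨⟨b, t⟩, hbt⟩ := IsLocalization.surj p.primeCompl (u : A')
  obtain ⟨⟨b', t'⟩, hbt'⟩ := IsLocalization.surj p.primeCompl ((u⁻¹ : A'ˣ) : A')
  simp only at hbt hbt'
  have hbb' : b * b' = t * t' := by
    apply IsLocalization.injective A' hS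
    rw [map_mul, map_mul, ← hbt, ← hbt']
    have : (u : A') * ((u⁻¹ : A'ˣ) : A') = 1 := u.mul_inv
    linear_combination (algebraMap A A' t * algebraMap A A' t') * this
  have hb : b ∉ p := by
    intro hbp
    have : (t : A) * t' ∈ p := by rw [← hbb']; exact p.mul_mem_right _ hbp
    rcases (Ideal.IsPrime.mem_or_mem ‹p.IsPrime› this) with h | h
    · exact t.2 h
    · exact t'.2 h
  have hbtK : (u : K) * algebraMap A K t = algebraMap A K b := congrArg Subtype.val hbt
  set β' : L := (t : A) • β with hβ'
  set w : A := (t : A) ^ (n - 1) * b with hw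
  have hβ'n : β' ^ n = algebraMap A L w := by
    obtain ⟨m, rfl⟩ := Nat.exists_eq_succ_of_ne_zero hn0
    rw [hβ', smul_pow, hβn, hw, Nat.succ_sub_one, Algebra.smul_def, map_mul, map_pow, map_pow,
      IsScalarTower.algebraMap_apply A K L b, ← hbtK, pow_succ, map_mul,
      ← IsScalarTower.algebraMap_apply A K L]
    have : algebraMap A' L u = algebraMap K L (u : K) := rfl
    rw [this]
    ring
  have hβ'int : IsIntegral A β' := by
    refine ⟨Polynomial.X ^ n - Polynomial.C w, Polynomial.monic_X_pow_sub_C _ hn0, ?_⟩
    rw [Polynomial.eval₂_sub, Polynomial.eval₂_pow, Polynomial.eval₂_X, Polynomial.eval₂_C, hβ'n,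
      sub_self]
  let bC : integralClosure A L := ⟨β', hβ'int⟩
  have hbCn : bC ^ n = algebraMap A (integralClosure A L) w := Subtype.ext (by
    rw [SubmonoidClass.coe_pow]; exact hβ'n)
  have hwp : w ∉ p := by
    intro h
    rcases (Ideal.IsPrime.mem_or_mem ‹p.IsPrime› h) with h | h
    · exact t.2 (Ideal.IsPrime.mem_of_pow_mem ‹p.IsPrime› _ h)
    · exact hb h
  have hwD : w • KaehlerDifferential.D A (integralClosure A L) bC = 0 := by
    have h1 := congrArg (KaehlerDifferential.D A (integralClosure A L)) hbCn
    rw [Derivation.leibniz_pow, Derivation.map_algebraMap] at h1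
    have h2 := congrArg (fun ω => bC • ω) h1
    simp only [smul_zero] at h2
    rw [smul_comm, ← mul_smul, ← pow_succ', Nat.sub_add_cancel (Nat.one_le_iff_ne_zero.2 hn0), hbCn,
      algebraMap_smul, ← Nat.cast_smul_eq_nsmul A] at h2
    exact (IsUnit.smul_eq_zero hn).1 h2
  obtain ⟨s, hs, hsm⟩ := exists_smul_mem_adjoin_of_loc p.primeCompl hS β t t.2 (z : L) hzmem
  have hmap : (Algebra.adjoin A ({bC} : Set (integralClosure A L))).map (integralClosure A L).val =
      Algebra.adjoin A ({β'} : Set L) := by
    rw [AlgHom.map_adjoin, Set.image_singleton]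
    rfl
  rw [← hβ', ← hmap] at hsm
  obtain ⟨y, hy, hyz⟩ := hsm
  have hyz' : y = s • z := Subtype.ext hyz
  rw [hyz'] at hy
  have hfin := smul_D_eq_zero_of_adjoin bC w hwD (s • z) hy
  rw [Derivation.map_smul, ← mul_smul] at hfin
  refine ⟨w * s, ?_, hfin⟩
  intro h
  rcases (Ideal.IsPrime.mem_or_mem ‹p.IsPrime› h) with h | h
  · exact hwp h
  · exact hs h

lemma formallyUnramified_integralClosure (n : ℕ) (hn : IsUnit (n : A)) (f : K) (hf : f ≠ 0)
    (I : FractionalIdeal A⁰ K) (hI : FractionalIdeal.spanSingleton A⁰ f = I ^ n)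
    (α : L) (hα : α ^ n = algebraMap K L f) (hgen : IntermediateField.adjoin K ({α} : Set L) = ⊤) :
    Algebra.FormallyUnramified A (integralClosure A L) := by
  refine ⟨?_⟩
  have hall : ∀ z : integralClosure A L, KaehlerDifferential.D A (integralClosure A L) z = 0 := by
    intro z
    let Ann : Ideal A := LinearMap.ker (LinearMap.toSpanSingleton A _
      (KaehlerDifferential.D A (integralClosure A L) z))
    have hmem : ∀ s : A, s ∈ Ann ↔ s • KaehlerDifferential.D A (integralClosure A L) z = 0 := by
      intro s
      rw [LinearMap.mem_ker, LinearMap.toSpanSingleton_apply]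
    have htop : Ann = ⊤ := by
      by_contra hne
      obtain ⟨p, hpmax, hle⟩ := Ideal.exists_le_maximal _ hne
      haveI := hpmax.isPrime
      obtain ⟨s, hsp, hs0⟩ := exists_smul_D_eq_zero (K := K) n hn f hf I hI α hα hgen p z
      exact hsp (hle ((hmem s).2 hs0))
    have h1 : (1 : A) ∈ Ann := by rw [htop]; trivial
    have := (hmem 1).1 h1
    rwa [one_smul] at this
  have hspan := KaehlerDifferential.span_range_derivation A (integralClosure A L)
  have hbot : Submodule.span (integralClosure A L)
      (Set.range (KaehlerDifferential.D A (integralClosure A L))) = ⊥ := by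
    rw [Submodule.span_eq_bot]
    rintro _ ⟨y, rfl⟩
    exact hall y
  rw [hbot] at hspan
  exact (Submodule.subsingleton_iff (integralClosure A L)).1 (subsingleton_of_bot_eq_top hspan)

end descent

/-- Let A be a Dedekind domain with fraction field K, let n be a natural number invertible in A, let f
be a nonzero element of K whose principal fractional ideal is the n-th power of a fractional ideal I
(the divisor of f is n times a divisor), and let L = K(α) be a field extension of K generated by a
single element α with α^n = f. Then the integral closure of A in L is finite and étale over A. (The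
published statement is for the normalisation of an integral smooth curve over a perfect field in
such an extension of its function field; this row states the same for any Dedekind domain, the case
the local argument covers.) -/
theorem result
    {A : Type u} {K : Type v} {L : Type w} [CommRing A] [IsDedekindDomain A]
    [Field K] [Algebra A K] [IsFractionRing A K]
    [Field L] [Algebra K L] [Algebra A L] [IsScalarTower A K L]
    (n : ℕ) (hn : IsUnit (n : A)) (f : K) (hf : f ≠ 0)
    (I : FractionalIdeal A⁰ K) (hI : FractionalIdeal.spanSingleton A⁰ f = I ^ n)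
    (α : L) (hα : α ^ n = algebraMap K L f) (hgen : IntermediateField.adjoin K {α} = ⊤) :
    Algebra.Etale A (integralClosure A L) ∧ Module.Finite A (integralClosure A L) := by
  have hn0 : n ≠ 0 := by
    rintro rfl
    rw [Nat.cast_zero] at hn
    exact not_isUnit_zero hn
  have hnK : (n : K) ≠ 0 := by
    have := (hn.map (algebraMap A K)).ne_zero
    rwa [map_natCast] at this
  have hsep : (Polynomial.X ^ n - Polynomial.C f : Polynomial K).Separable :=
    Polynomial.separable_X_pow_sub_C f hnK hf
  have hroot : Polynomial.aeval α (Polynomial.X ^ n - Polynomial.C f : Polynomial K) = 0 := by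
    rw [map_sub, map_pow, Polynomial.aeval_X, Polynomial.aeval_C, hα, sub_self]
  have hαint : IsIntegral K α :=
    ⟨Polynomial.X ^ n - Polynomial.C f, Polynomial.monic_X_pow_sub_C _ hn0, hroot⟩
  have hαsep : IsSeparable K α := hsep.of_dvd (minpoly.dvd K α hroot)
  haveI h1 : FiniteDimensional K (IntermediateField.adjoin K ({α} : Set L)) :=
    IntermediateField.adjoin.finiteDimensional hαint
  haveI h2 : Algebra.IsSeparable K (IntermediateField.adjoin K ({α} : Set L)) :=
    (IntermediateField.isSeparable_adjoin_simple_iff_isSeparable K L).2 hαsep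
  rw [hgen] at h1 h2
  haveI : FiniteDimensional K L :=
    LinearEquiv.finiteDimensional (IntermediateField.topEquiv (F := K) (E := L)).toLinearEquiv
  haveI : Algebra.IsSeparable K L :=
    AlgEquiv.Algebra.isSeparable (IntermediateField.topEquiv (F := K) (E := L))
  haveI hfin : Module.Finite A (integralClosure A L) :=
    IsIntegralClosure.finite A K L (integralClosure A L)
  haveI : Algebra.FormallyUnramified A (integralClosure A L) :=
    formallyUnramified_integralClosure (K := K) n hn f hf I hI α hα hgen
  haveI : Algebra.FinitePresentation A (integralClosure A L) :=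
    Algebra.FinitePresentation.of_finiteType.1 inferInstance
  haveI : Module.IsTorsionFree A L := by
    refine Module.IsTorsionFree.of_smul_eq_zero fun r m h => ?_
    rw [← algebraMap_smul K r m, smul_eq_zero] at h
    rcases h with h | h
    · left; exact (IsFractionRing.injective A K) (by rw [h, map_zero])
    · right; exact h
  haveI : Module.IsTorsionFree A (integralClosure A L) :=
    Function.Injective.moduleIsTorsionFree (integralClosure A L).val Subtype.val_injective
      (fun r m => rfl)
  haveI : Module.Flat A (integralClosure A L) := inferInstance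
  exact ⟨Algebra.Etale.of_formallyUnramified_of_flat, hfin⟩

end Groth.Agent.S14177
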