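import Groth.Statements.S14178
import Mathlib.FieldTheory.KummerExtension
import Mathlib.RingTheory.DedekindDomain.Factorization
import Mathlib.Algebra.Polynomial.Splits

set_option autoImplicit false
universe u v w
open scoped nonZeroDivisors
open EtAlg

namespace Groth.Agent.S14178

open Polynomial in
theorem exists_pow_natDegree_minpoly_eq {K L : Type*} [Field K] [Field L] [Algebra K L] {n : ℕ}
    (hn0 : n ≠ 0) {ζ : K} (hζ : IsPrimitiveRoot ζ n) {f : K} {α : L} (hα0 : α ≠ 0)
    (hα : α ^ n = algebraMap K L f) :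
    ∃ c : K, α ^ (minpoly K α).natDegree = algebraMap K L c := by
  have hint : IsIntegral K α :=
    ⟨X ^ n - C f, monic_X_pow_sub_C f hn0, by simp [hα]⟩
  haveI : NeZero n := ⟨hn0⟩
  set g := minpoly K α with hg
  have hζ' := hζ.map_of_injective (algebraMap K L).injective
  have hsplit : (X ^ n - C (algebraMap K L f)).Splits :=
    X_pow_sub_C_splits_of_isPrimitiveRoot hζ' hα
  have hdvd : g.map (algebraMap K L) ∣ X ^ n - C (algebraMap K L f) := by
    have h1 : g ∣ X ^ n - C f := minpoly.dvd K α (by simp [hα])
    have := Polynomial.map_dvd (algebraMap K L) h1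
    simpa using this
  have hgs : (g.map (algebraMap K L)).Splits :=
    hsplit.of_dvd (X_pow_sub_C_ne_zero (Nat.pos_of_ne_zero hn0) _) hdvd
  have hmonic : (g.map (algebraMap K L)).Monic := (minpoly.monic hint).map _
  have hc0 := hgs.coeff_zero_eq_prod_roots_of_monic hmonic
  have hcard := hgs.natDegree_eq_card_roots
  have hroots : ∀ r ∈ (g.map (algebraMap K L)).roots, ∃ η : K, r = algebraMap K L η * α := by
    intro r hr
    have hr' : (X ^ n - C (algebraMap K L f)).IsRoot r :=
      (Polynomial.mem_roots'.mp (Polynomial.roots.le_of_dvd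
        (X_pow_sub_C_ne_zero (Nat.pos_of_ne_zero hn0) _) hdvd |> Multiset.subset_of_le <| hr)).2
    have hrn : r ^ n = α ^ n := by
      rw [hα]; simpa [sub_eq_zero] using hr'
    have h1 : (r / α) ^ n = 1 := by
      rw [div_pow, hrn, div_self (pow_ne_zero _ hα0)]
    obtain ⟨i, -, hi⟩ := hζ'.eq_pow_of_pow_eq_one h1
    refine ⟨ζ ^ i, ?_⟩
    rw [map_pow, hi, div_mul_cancel₀ _ hα0]
  have hprod : ∀ m : Multiset L, (∀ r ∈ m, ∃ η : K, r = algebraMap K L η * α) →
      ∃ η : K, m.prod = algebraMap K L η * α ^ (Multiset.card m) := by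
    intro m
    induction m using Multiset.induction with
    | empty => intro _; exact ⟨1, by simp⟩
    | cons a m ih =>
      intro h
      obtain ⟨η, hη⟩ := ih (fun r hr => h r (Multiset.mem_cons_of_mem hr))
      obtain ⟨η', hη'⟩ := h a (Multiset.mem_cons_self a m)
      refine ⟨η' * η, ?_⟩
      rw [Multiset.prod_cons, hη, hη', Multiset.card_cons, map_mul, pow_succ]
      ring
  obtain ⟨η, hη⟩ := hprod _ hroots
  rw [hη, ← hcard, natDegree_map, coeff_map] at hc0
  have hg0 : g.coeff 0 ≠ 0 := minpoly.coeff_zero_ne_zero hint hα0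
  have hη0 : η ≠ 0 := by
    rintro rfl
    rw [map_zero, zero_mul, mul_zero] at hc0
    exact hg0 ((map_eq_zero _).mp hc0)
  refine ⟨((-1) ^ g.natDegree * η)⁻¹ * g.coeff 0, ?_⟩
  rw [map_mul, hc0, map_inv₀, map_mul, map_pow, map_neg, map_one]
  have h2 : algebraMap K L η ≠ 0 := (_root_.map_ne_zero _).mpr hη0
  have h3 : ((-1 : L) ^ g.natDegree) ≠ 0 := pow_ne_zero _ (by simp)
  field_simp

theorem fractionalIdeal_eq_of_pow_eq {A K : Type*} [CommRing A] [IsDedekindDomain A] [Field K]
    [Algebra A K] [IsFractionRing A K] {J₁ J₂ : FractionalIdeal A⁰ K} (h₁ : J₁ ≠ 0) (h₂ : J₂ ≠ 0)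
    {n : ℕ} (hn : n ≠ 0) (h : J₁ ^ n = J₂ ^ n) : J₁ = J₂ := by
  rw [← FractionalIdeal.finprod_heightOneSpectrum_factorization' K h₁,
    ← FractionalIdeal.finprod_heightOneSpectrum_factorization' K h₂]
  refine finprod_congr fun v => ?_
  congr 1
  have := congrArg (FractionalIdeal.count K v) h
  rw [FractionalIdeal.count_pow, FractionalIdeal.count_pow] at this
  exact mul_left_cancel₀ (by exact_mod_cast hn) this

/-- Let A be a Dedekind domain with fraction field K, let n be a natural number invertible in A such
that K contains a primitive n-th root of unity, let f be a nonzero element of K and I an invertible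
fractional ideal of A with (f) = I^n whose class in the ideal class group of A has order exactly n
(the divisor of f is n times a divisor whose class has order n), and let L = K(α) be a field
extension of K generated by a single element α with α^n = f. Then L is Galois over K of degree n
with cyclic Galois group. (The published statement is for an integral smooth curve over a perfect
field containing a primitive n-th root of unity, with the Picard group of the curve in place of the
class group; this row states it for any Dedekind domain.) -/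
theorem result
    {A : Type u} {K : Type v} {L : Type w} [CommRing A] [IsDedekindDomain A]
    [Field K] [Algebra A K] [IsFractionRing A K]
    [Field L] [Algebra K L]
    (n : ℕ) (hn : IsUnit (n : A)) (ζ : K) (hζ : IsPrimitiveRoot ζ n) (f : K) (hf : f ≠ 0)
    (I : (FractionalIdeal A⁰ K)ˣ) (hI : FractionalIdeal.spanSingleton A⁰ f = (I : FractionalIdeal A⁰ K) ^ n)
    (hord : orderOf (ClassGroup.mk K I) = n)
    (α : L) (hα : α ^ n = algebraMap K L f) (hgen : IntermediateField.adjoin K {α} = ⊤) :
    IsGalois K L ∧ IsCyclic (L ≃ₐ[K] L) ∧ Module.finrank K L = n := by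
  have hn0 : n ≠ 0 := by
    rintro rfl
    simp at hn
  have hα0 : α ≠ 0 := by
    rintro rfl
    rw [zero_pow hn0] at hα
    exact hf ((map_eq_zero _).mp hα.symm)
  have hint : IsIntegral K α :=
    ⟨Polynomial.X ^ n - Polynomial.C f, Polynomial.monic_X_pow_sub_C f hn0, by simp [hα]⟩
  have hfd : FiniteDimensional K L := by
    have := IntermediateField.adjoin.finiteDimensional hint
    rw [hgen] at this
    exact (IntermediateField.topEquiv (F := K) (E := L)).toLinearEquiv.finiteDimensional
  obtain ⟨c, hc⟩ := exists_pow_natDegree_minpoly_eq hn0 hζ hα0 hα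
  set d := (minpoly K α).natDegree with hd
  have hfr : Module.finrank K L = d := by
    rw [← IntermediateField.finrank_top', ← hgen, IntermediateField.adjoin.finrank hint]
  have hd0 : d ≠ 0 := (minpoly.natDegree_pos hint).ne'
  have hdn : d ≤ n := by
    have h1 : minpoly K α ∣ Polynomial.X ^ n - Polynomial.C f := minpoly.dvd K α (by simp [hα])
    have := Polynomial.natDegree_le_of_dvd h1 (Polynomial.X_pow_sub_C_ne_zero (Nat.pos_of_ne_zero hn0) _)
    rwa [Polynomial.natDegree_X_pow_sub_C] at this
  have hcn : c ^ n = f ^ d := by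
    apply (algebraMap K L).injective
    rw [map_pow, map_pow, ← hc, ← hα, ← pow_mul, ← pow_mul, mul_comm]
  have hc0 : c ≠ 0 := by
    rintro rfl
    rw [map_zero] at hc
    exact hα0 (pow_eq_zero_iff hd0 |>.mp hc)
  have hId : FractionalIdeal.spanSingleton A⁰ c = (I : FractionalIdeal A⁰ K) ^ d := by
    apply fractionalIdeal_eq_of_pow_eq (FractionalIdeal.spanSingleton_ne_zero_iff.mpr hc0) (pow_ne_zero _ I.ne_zero) hn0
    rw [FractionalIdeal.spanSingleton_pow, hcn, ← FractionalIdeal.spanSingleton_pow, hI,
      ← pow_mul, ← pow_mul, mul_comm]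
  have hcl : ClassGroup.mk K I ^ d = 1 := by
    rw [← map_pow, ClassGroup.mk_eq_one_iff]
    refine ⟨⟨c, ?_⟩⟩
    rw [Units.val_pow_eq_pow_val, ← hId, FractionalIdeal.coe_spanSingleton]
  have hnd : n ∣ d := hord ▸ orderOf_dvd_of_pow_eq_one hcl
  have hdn' : d = n := le_antisymm hdn (Nat.le_of_dvd (Nat.pos_of_ne_zero hd0) hnd)
  have hfr' : Module.finrank K L = n := hfr.trans hdn'
  have : NeZero (Module.finrank K L) := ⟨hfr'.symm ▸ hn0⟩
  have hK : (primitiveRoots (Module.finrank K L) K).Nonempty :=
    ⟨ζ, (mem_primitiveRoots Module.finrank_pos).mpr (hfr'.symm ▸ hζ)⟩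
  have ha : α ^ (Module.finrank K L) = algebraMap K L f := hfr'.symm ▸ hα
  have H := irreducible_X_pow_sub_C_of_root_adjoin_eq_top ha hgen
  have hsp := isSplittingField_X_pow_sub_C_of_root_adjoin_eq_top hK ha hgen
  exact ⟨isGalois_of_isSplittingField_X_pow_sub_C hK H L,
    isCyclic_of_isSplittingField_X_pow_sub_C hK H L, hfr'⟩

end Groth.Agent.S14178
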