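import Groth.Statements.S14181
import Mathlib

set_option autoImplicit false
universe u
open CategoryTheory
open GalCoh

namespace Groth.Agent.S14181

section aux
open CategoryTheory groupCohomology Representation

-- universe u declared in template

section
variable {k G : Type u} [CommRing k] [Group G] (A : Rep.{u} k G) (P : Subgroup G) [P.Normal]
  [Finite P] (hP : Function.Bijective fun a : A => (Nat.card P : k) • a)

/-- multiplication by |P| as a linear equivalence -/
noncomputable def invN : A ≃ₗ[k] A :=
  LinearEquiv.ofBijective ((Nat.card P : k) • (LinearMap.id : A →ₗ[k] A)) (by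
    have : ⇑((Nat.card P : k) • (LinearMap.id : A →ₗ[k] A)) = fun a : A => (Nat.card P : k) • a := by
      ext a; simp
    rw [this]; exact hP)

lemma invN_apply (a : A) : invN A P hP a = (Nat.card P : k) • a := by
  simp [invN]

lemma rho_invN_symm (g : G) (b : A) :
    A.ρ g ((invN A P hP).symm b) = (invN A P hP).symm (A.ρ g b) := by
  apply (invN A P hP).injective
  rw [LinearEquiv.apply_symm_apply, invN_apply, ← map_smul, ← invN_apply A P hP,
    LinearEquiv.apply_symm_apply]

/-- the sum over P -/
noncomputable def sumP : A →ₗ[k] A :=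
  letI := Fintype.ofFinite P
  ∑ p : P, A.ρ (p : G)

lemma sumP_apply [Fintype P] (a : A) : sumP A P a = ∑ p : P, A.ρ (p : G) a := by
  unfold sumP
  rw [LinearMap.sum_apply]
  congr!

lemma rho_sumP (q : P) (a : A) : A.ρ (q : G) (sumP A P a) = sumP A P a := by
  letI := Fintype.ofFinite P
  rw [sumP_apply, map_sum]
  exact Fintype.sum_equiv (Equiv.mulLeft q) _ _ (fun p => by simp [map_mul, Module.End.mul_apply])

lemma sumP_of_inv (a : A) (ha : ∀ q : P, A.ρ (q : G) a = a) :
    sumP A P a = (Nat.card P : k) • a := by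
  letI := Fintype.ofFinite P
  rw [sumP_apply, Finset.sum_congr rfl (fun p _ => ha p), Finset.sum_const, Finset.card_univ,
    Nat.card_eq_fintype_card, Nat.cast_smul_eq_nsmul]

/-- averaging projector -/
noncomputable def avg : A →ₗ[k] A := (invN A P hP).symm.toLinearMap ∘ₗ sumP A P

lemma avg_mem (a : A) : avg A P hP a ∈ invariants (A.ρ.comp P.subtype) := by
  intro q
  show A.ρ (q : G) ((invN A P hP).symm (sumP A P a)) = (invN A P hP).symm (sumP A P a)
  rw [rho_invN_symm, rho_sumP]

lemma avg_of_inv (a : A) (ha : ∀ q : P, A.ρ (q : G) a = a) : avg A P hP a = a := by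
  show (invN A P hP).symm (sumP A P a) = a
  rw [sumP_of_inv A P a ha, ← invN_apply A P hP, LinearEquiv.symm_apply_apply]

/-- the correcting element -/
noncomputable def a0 : (G → A) →ₗ[k] A :=
  letI := Fintype.ofFinite P
  (invN A P hP).symm.toLinearMap ∘ₗ ∑ p : P, LinearMap.proj (p : G)

lemma a0_apply [Fintype P] (f : G → A) : a0 A P hP f = (invN A P hP).symm (∑ p : P, f p) := by
  unfold a0
  simp only [LinearMap.comp_apply, LinearMap.sum_apply, LinearMap.proj_apply, LinearEquiv.coe_coe]
  congr!

/-- the twisted cochain -/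
noncomputable def twist : (G → A) →ₗ[k] (G → A) :=
  LinearMap.pi fun g => LinearMap.proj g + (A.ρ g) ∘ₗ a0 A P hP - a0 A P hP

lemma twist_apply (f : G → A) (g : G) :
    twist A P hP f g = f g + A.ρ g (a0 A P hP f) - a0 A P hP f := by
  simp [twist]

end

section
variable {k G : Type u} [CommRing k] [Group G] (A : Rep.{u} k G) (P : Subgroup G) [P.Normal]
  [Finite P] (hP : Function.Bijective fun a : A => (Nat.card P : k) • a)

variable {A} in
lemma tw_cocycle {f : G → A} (hf : ∀ g h : G, f (g * h) = A.ρ g (f h) + f g) (g h : G) :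
    twist A P hP f (g * h) = A.ρ g (twist A P hP f h) + twist A P hP f g := by
  simp only [twist_apply, hf, map_add, map_sub, map_mul, Module.End.mul_apply]
  abel

variable {A} in
lemma tw_P {f : G → A} (hf : ∀ g h : G, f (g * h) = A.ρ g (f h) + f g) (p : P) :
    twist A P hP f (p : G) = 0 := by
  letI := Fintype.ofFinite P
  apply hP.1
  show (Nat.card P : k) • twist A P hP f (p : G) = (Nat.card P : k) • (0 : A)
  have hs : (Nat.card P : k) • a0 A P hP f = ∑ q : P, f (q : G) := by
    rw [a0_apply, ← invN_apply A P hP, LinearEquiv.apply_symm_apply]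
  rw [smul_zero, twist_apply, smul_sub, smul_add, ← map_smul, hs]
  have h1 : ∑ q : P, f (q : G) = ∑ q : P, f ((p : G) * (q : G)) :=
    (Fintype.sum_equiv (Equiv.mulLeft p) (fun q : P => f ((p : G) * (q : G))) (fun q : P => f (q : G))
      (fun q => rfl)).symm
  have h2 : ∑ q : P, f ((p : G) * (q : G)) = A.ρ (p : G) (∑ q : P, f (q : G)) + (Nat.card P : k) • f (p : G) := by
    simp only [hf, Finset.sum_add_distrib, map_sum, Finset.sum_const, Finset.card_univ,
      Nat.card_eq_fintype_card, Nat.cast_smul_eq_nsmul]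
  rw [add_comm, ← h2, ← h1, sub_self]

variable {A} in
lemma tw_right {f : G → A} (hf : ∀ g h : G, f (g * h) = A.ρ g (f h) + f g) (g : G) (p : P) :
    twist A P hP f (g * (p : G)) = twist A P hP f g := by
  rw [tw_cocycle P hP hf, tw_P P hP hf, map_zero, zero_add]

variable {A} in
lemma tw_inv {f : G → A} (hf : ∀ g h : G, f (g * h) = A.ρ g (f h) + f g) (g : G) (p : P) :
    A.ρ (p : G) (twist A P hP f g) = twist A P hP f g := by
  have h1 : twist A P hP f ((p : G) * g) = A.ρ (p : G) (twist A P hP f g) := by
    rw [tw_cocycle P hP hf, tw_P P hP hf, add_zero]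
  have hmem : g⁻¹ * (p : G) * g ∈ P := by
    have := Subgroup.Normal.conj_mem (inferInstance : P.Normal) (p : G) p.2 g⁻¹
    simpa using this
  have h2 : (p : G) * g = g * ((⟨g⁻¹ * (p : G) * g, hmem⟩ : P) : G) := by
    simp [mul_assoc]
  rw [← h1, h2, tw_right P hP hf]

variable {A} in
lemma tw_coset {f : G → A} (hf : ∀ g h : G, f (g * h) = A.ρ g (f h) + f g) (g₁ g₂ : G)
    (h : (g₁ : G ⧸ P) = (g₂ : G ⧸ P)) : twist A P hP f g₁ = twist A P hP f g₂ := by
  have hmem : g₁⁻¹ * g₂ ∈ P := QuotientGroup.eq.mp h
  have : g₂ = g₁ * ((⟨g₁⁻¹ * g₂, hmem⟩ : P) : G) := by simp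
  rw [this, tw_right P hP hf]

/-- the retraction at the level of cochains -/
noncomputable def Lmap : (G → A) →ₗ[k] (G ⧸ P → invariants (A.ρ.comp P.subtype)) :=
  LinearMap.pi fun x =>
    LinearMap.codRestrict _ (avg A P hP ∘ₗ (LinearMap.proj (Quotient.out x)) ∘ₗ twist A P hP)
      (fun f => avg_mem A P hP _)

lemma Lmap_apply_coe (f : G → A) (x : G ⧸ P) :
    ((Lmap A P hP f x : invariants (A.ρ.comp P.subtype)) : A) =
      avg A P hP (twist A P hP f (Quotient.out x)) := rfl

variable {A} in
lemma Lmap_mk {f : G → A} (hf : ∀ g h : G, f (g * h) = A.ρ g (f h) + f g) (g : G) :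
    ((Lmap A P hP f (g : G ⧸ P) : invariants (A.ρ.comp P.subtype)) : A) = twist A P hP f g := by
  rw [Lmap_apply_coe, avg_of_inv A P hP _ (fun q => tw_inv P hP hf _ q)]
  exact tw_coset P hP hf _ _ (QuotientGroup.out_eq' _)

end

theorem main
    {k G : Type u} [CommRing k] [Group G] (A : Rep.{u} k G) (P : Subgroup G) [P.Normal] [Finite P]
    (hP : Function.Bijective fun a : A => (Nat.card P : k) • a) :
    ∃ r : ModuleCat.of k (groupCohomology.cocycles₁ A) ⟶
        ModuleCat.of k (groupCohomology.cocycles₁ (A.quotientToInvariants P)),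
      (groupCohomology.mapCocycles₁ (QuotientGroup.mk' P) (Rep.ofHom (A.ρ.quotientToInvariants_lift P)) :
          ModuleCat.of k (groupCohomology.cocycles₁ (A.quotientToInvariants P)) ⟶
            ModuleCat.of k (groupCohomology.cocycles₁ A)) ≫ r = 𝟙 _ := by
  classical
  have hmem : ∀ f : cocycles₁ A, Lmap A P hP (f : G → A) ∈ cocycles₁ (A.quotientToInvariants P) := by
    intro f
    have hf : ∀ g h : G, (f : G → A) (g * h) = A.ρ g ((f : G → A) h) + (f : G → A) g :=
      (mem_cocycles₁_iff _).mp f.2
    rw [mem_cocycles₁_iff]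
    intro x y
    induction x using QuotientGroup.induction_on with
    | H g =>
    induction y using QuotientGroup.induction_on with
    | H h =>
    apply Subtype.ext
    have e1 : ((g : G ⧸ P) * (h : G ⧸ P)) = ((g * h : G) : G ⧸ P) := rfl
    rw [e1, Lmap_mk P hP hf]
    show _ = A.ρ g ((Lmap A P hP (f : G → A) (h : G ⧸ P) : invariants (A.ρ.comp P.subtype)) : A)
      + ((Lmap A P hP (f : G → A) (g : G ⧸ P) : invariants (A.ρ.comp P.subtype)) : A)
    rw [Lmap_mk P hP hf, Lmap_mk P hP hf, tw_cocycle P hP hf]
  let r' : cocycles₁ A →ₗ[k] cocycles₁ (A.quotientToInvariants P) :=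
    LinearMap.codRestrict _ (Lmap A P hP ∘ₗ (cocycles₁ A).subtype) hmem
  refine ⟨ModuleCat.ofHom r', ?_⟩
  ext c
  rename_i x
  induction x using QuotientGroup.induction_on with
  | H g =>
  set f : cocycles₁ A := (groupCohomology.mapCocycles₁ (QuotientGroup.mk' P)
    (Rep.ofHom (A.ρ.quotientToInvariants_lift P))) c with hfdef
  have hfg : ∀ g : G, (f : G → A) g = ((c (g : G ⧸ P) : invariants (A.ρ.comp P.subtype)) : A) := by
    intro g; rfl
  have hf : ∀ g h : G, (f : G → A) (g * h) = A.ρ g ((f : G → A) h) + (f : G → A) g :=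
    (mem_cocycles₁_iff _).mp f.2
  show ((Lmap A P hP (f : G → A) (g : G ⧸ P) : invariants (A.ρ.comp P.subtype)) : A) = _
  rw [Lmap_mk P hP hf, twist_apply]
  have ha0 : a0 A P hP (f : G → A) = 0 := by
    letI := Fintype.ofFinite P
    rw [a0_apply]
    have : ∀ p : P, (f : G → A) (p : G) = 0 := by
      intro p
      rw [hfg]
      have : ((p : G) : G ⧸ P) = 1 := (QuotientGroup.eq_one_iff _).mpr p.2
      rw [this, cocycles₁_map_one]
      rfl
    rw [Finset.sum_congr rfl (fun p _ => this p), Finset.sum_const_zero, map_zero]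
  rw [ha0, map_zero, add_zero, sub_zero, hfg]
  rfl

end aux

/-- Let G be a group with a finite normal subgroup P, k a commutative ring and A a k-linear
representation of G such that multiplication by the order of P is a bijection of A. Then the
inflation map on 1-cocycles (crossed homomorphisms) Z¹(G/P, A^P) → Z¹(G, A) has a k-linear left
inverse. (The published statement is for the inertia group of a Galois cover of smooth curves at a
point, its normal Sylow p-subgroup P and a module of n-torsion with n prime to p; the argument uses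
only that the order of P acts invertibly, which is the hypothesis taken here.) -/
theorem result
    {k G : Type u} [CommRing k] [Group G] (A : Rep.{u} k G) (P : Subgroup G) [P.Normal] [Finite P]
    (hP : Function.Bijective fun a : A => (Nat.card P : k) • a) :
    ∃ r : ModuleCat.of k (groupCohomology.cocycles₁ A) ⟶
        ModuleCat.of k (groupCohomology.cocycles₁ (A.quotientToInvariants P)),
      (groupCohomology.mapCocycles₁ (QuotientGroup.mk' P) (Rep.ofHom (A.ρ.quotientToInvariants_lift P)) :
          ModuleCat.of k (groupCohomology.cocycles₁ (A.quotientToInvariants P)) ⟶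
            ModuleCat.of k (groupCohomology.cocycles₁ A)) ≫ r = 𝟙 _ := by
  exact main A P hP

end Groth.Agent.S14181
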