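import Groth.Statements.S14190
import Groth.Agent.Lib.Helper1.DualS2c

set_option autoImplicit false
universe u
open CategoryTheory CategoryTheory.Limits AlgebraicGeometry Opposite
open Models

namespace Groth.Agent.S14190

/-- Let R be a discrete valuation ring with fraction field K, let C be a proper K-curve which is smooth
of relative dimension 1 and geometrically connected over K, and let X be a model of C over R (flat
and of finite type over R with generic fibre C) which is proper over R and normal; so X is a proper
relative curve over R, integral of dimension 2. Let (ω, tr) be a 1-dualizing pair for X over R: ω is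
a quasi-coherent O_X-module and tr : H¹(X, ω) → R an R-linear map such that φ ↦ tr ∘ H¹(φ) is a
bijection from Hom(F, ω) onto Hom_R(H¹(X, F), R) for every quasi-coherent F (such a pair is a
relative dualizing sheaf of X over R with its trace, and is unique up to isomorphism). Let U ⊆ X be
an open subscheme whose complement is a finite set of closed points of X (these lie in the closed
fibre and have codimension 2). Then the canonical map from ω to the direct image of its restriction
to U is an isomorphism: for every open V ⊆ X the restriction map ω(V) → ω(V ∩ U) is bijective. (The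
published statement is for a relative curve which need not be proper and for the relative dualizing
sheaf of duality theory; this row takes X proper over R, where a 1-dualizing pair in the above
global-sections sense determines that sheaf up to isomorphism.) -/
theorem result (R : Type u) [CommRing R] [IsDomain R] [IsDiscreteValuationRing R]
    (X C : Scheme.{u}) [X.Over (Spec (CommRingCat.of R))]
    (f : C ⟶ Spec (CommRingCat.of (FractionRing R)))
    [SmoothOfRelativeDimension 1 f] [IsProper f] [GeometricallyConnected f]
    (hX : Models.IsModel R X (X ↘ Spec (CommRingCat.of R)) C f)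
    [IsProper (X ↘ Spec (CommRingCat.of R))] (hn : Pi1.IsNormalScheme X)
    (ω : X.Modules) (tr : Coh.HH X ω 1 →ₗ[R] R) (hω : Canon.IsRDualOver R X 1 ω tr)
    (U : X.Opens) (hfin : ((U : Set X)ᶜ).Finite) (hcl : ∀ x : X, x ∉ U → IsClosed ({x} : Set X))
    (V : X.Opens) :
    Function.Bijective (ω.presheaf.map (homOfLE (inf_le_left : V ⊓ U ≤ V)).op).hom := by
  classical
  haveI : IsLocallyNoetherian X :=
    LocallyOfFiniteType.isLocallyNoetherian (X ↘ Spec (CommRingCat.of R))
  haveI : CompactSpace X :=
    QuasiCompact.compactSpace_of_compactSpace (X ↘ Spec (CommRingCat.of R))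
  -- a uniformizer
  obtain ⟨ϖ, hϖ⟩ := IsDiscreteValuationRing.exists_irreducible R
  have hϖ0 : ϖ ≠ 0 := hϖ.ne_zero
  have hϖm : ϖ ∈ IsLocalRing.maximalIdeal R := by
    rw [IsLocalRing.mem_maximalIdeal, mem_nonunits_iff]
    exact hϖ.not_isUnit
  -- the points outside `U` lie in the zero locus of the uniformizer
  have haU : X.basicOpen (show Γ(X, ⊤) from
      Coh.toGlobal (X ↘ Spec (CommRingCat.of R)) ϖ) ≤ U := by
    intro x hx
    by_contra hxU
    have hxcl := hcl x hxU
    -- the image of `x` is a closed point
    have hcm : IsClosedMap (X ↘ Spec (CommRingCat.of R)) :=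
      (X ↘ Spec (CommRingCat.of R)).isClosedMap
    have himg : IsClosed ({(X ↘ Spec (CommRingCat.of R)) x} : Set (Spec (CommRingCat.of R))) := by
      have := hcm _ hxcl
      rwa [Set.image_singleton] at this
    have hmax : ((X ↘ Spec (CommRingCat.of R)) x).asIdeal.IsMaximal :=
      (PrimeSpectrum.isClosed_singleton_iff_isMaximal _).1 himg
    have heq : ((X ↘ Spec (CommRingCat.of R)) x).asIdeal = IsLocalRing.maximalIdeal R :=
      IsLocalRing.eq_maximalIdeal hmax
    -- membership in the basic open
    have h1 : X.basicOpen (show Γ(X, ⊤) from Coh.toGlobal (X ↘ Spec (CommRingCat.of R)) ϖ) =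
        (X ↘ Spec (CommRingCat.of R)) ⁻¹ᵁ
          ((Spec (CommRingCat.of R)).basicOpen ((Scheme.ΓSpecIso (CommRingCat.of R)).inv ϖ)) := by
      rw [Scheme.preimage_basicOpen]
      rfl
    rw [h1, basicOpen_eq_of_affine] at hx
    have hx' : ϖ ∉ ((X ↘ Spec (CommRingCat.of R)) x).asIdeal := hx
    rw [heq] at hx'
    exact hx' hϖm
  have hiso := Groth.Agent.Lib.Helper1.DualS2.isIso_η R ω tr hω U hfin hcl ϖ hϖ0 haU
  rw [Scheme.Modules.Hom.isIso_iff_isIso_app] at hiso
  have h2 := hiso V
  rw [Scheme.Modules.restrictAdjunction_unit_app_app, ConcreteCategory.isIso_iff_bijective] at h2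
  -- identify the two restriction maps
  have e : U.ι ''ᵁ (U.ι ⁻¹ᵁ V) = V ⊓ U := by
    rw [Scheme.Hom.image_preimage_eq_opensRange_inf, Scheme.Opens.opensRange_ι, inf_comm]
  have key : ∀ (W : X.Opens) (hW : W ≤ V), W = V ⊓ U →
      Function.Bijective (ω.presheaf.map (homOfLE hW).op).hom →
      Function.Bijective (ω.presheaf.map (homOfLE (inf_le_left : V ⊓ U ≤ V)).op).hom := by
    intro W hW hWe h
    subst hWe
    exact h
  exact key _ _ e h2

end Groth.Agent.S14190
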