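import Groth.Statements.S14205
import Groth.Agent.Lib.helper19.IndexPeriod

set_option autoImplicit false
universe u v
open scoped TensorProduct
open Brauer

namespace Groth.Agent.S14205

/-- Let A be a finite-dimensional central simple algebra over a field k with period p: p is the least
positive integer for which the p-fold tensor power of A over k is a full matrix algebra over k. Then
for every r ≥ 1 the r-fold tensor power of A has period p / gcd(p, r) (the order of the r-th
multiple of an element of order p). -/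
theorem result (k : Type u) [Field k] (A : Type v) [Ring A] [Algebra k A]
    [Algebra.IsCentral k A] [IsSimpleRing A] [FiniteDimensional k A] (p : ℕ)
    (hp : CSAGal.IsPeriod k A p) (r : ℕ) (hr : 0 < r) :
    CSAGal.IsPeriod k (CSAGal.tpow k A r) (p / Nat.gcd p r) := by
  classical
  obtain ⟨hp0, hps, hpmin⟩ := hp
  have hg0 : 0 < Nat.gcd p r := Nat.gcd_pos_of_pos_left r hp0
  obtain ⟨p', hp'⟩ := Nat.gcd_dvd_left p r
  obtain ⟨r', hr'⟩ := Nat.gcd_dvd_right p r
  generalize hg : Nat.gcd p r = g at hg0 hp' hr'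
  have hdiv : p / g = p' := by rw [hp']; exact Nat.mul_div_cancel_left p' hg0
  have hp'0 : 0 < p' := by
    rcases Nat.eq_zero_or_pos p' with h | h
    · subst h; omega
    · exact h
  have hcop : Nat.Coprime p' r' := by
    have h1 := Nat.gcd_mul_left g p' r'
    rw [← hp', ← hr', hg] at h1
    exact Nat.eq_of_mul_eq_mul_left hg0 (by rw [← h1, mul_one])
  rw [hdiv]
  refine ⟨hp'0, ?_, ?_⟩
  · obtain ⟨φ⟩ := Groth.Agent.Lib.helper19.TPow.nonempty_tpMul k A r p'
    obtain ⟨ψ⟩ := Groth.Agent.Lib.helper19.TPow.nonempty_tpMul k A p r'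
    obtain ⟨c⟩ := Groth.Agent.Lib.helper19.TPow.nonempty_tpCast k A
      (show p * r' = r * p' by rw [hp', hr']; ring)
    exact Groth.Agent.Lib.helper19.Idx.splits_congr (ψ.trans (c.trans φ.symm))
      (Groth.Agent.Lib.helper19.TPow.splits_tpow hps r')
  · intro e' he'0 he'lt hsp
    obtain ⟨φ⟩ := Groth.Agent.Lib.helper19.TPow.nonempty_tpMul k A r e'
    have h1 : Curves.Splits k (Groth.Agent.Lib.helper19.TPow.tp k A (r * e')) k :=
      Groth.Agent.Lib.helper19.Idx.splits_congr φ hsp
    have h2 : p ∣ r * e' := Groth.Agent.Lib.helper19.Idx.isPeriod_dvd ⟨hp0, hps, hpmin⟩ h1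
    rw [hp', hr', mul_assoc] at h2
    have h3 : p' ∣ r' * e' := Nat.dvd_of_mul_dvd_mul_left hg0 h2
    have h4 : p' ∣ e' := hcop.dvd_of_dvd_mul_left h3
    exact absurd (Nat.le_of_dvd he'0 h4) (not_le.2 he'lt)

end Groth.Agent.S14205
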