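import Groth.Statements.S14211
import Groth.Agent.Lib.helper19.Quaternion4
import Groth.Agent.Lib.helper19.IndexBaseChange

set_option autoImplicit false
universe u v
open scoped TensorProduct
open Brauer

namespace Groth.Agent.S14211

/-- Let k be a field in which 2 ≠ 0 and A a finite-dimensional central simple k-algebra. Then A has
period 2 and index 2 (its Severi–Brauer variety has type (2, 2, 2m)) if and only if A is isomorphic
over k to a matrix algebra M_m(Q), m ≥ 1, over a quaternion algebra Q = (a, b)_k (the k-algebra with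
basis 1, i, j, ij, i² = a, j² = b, ij = −ji) which is a division ring; moreover such a quaternion
algebra is unique up to k-isomorphism. -/
theorem result (k : Type u) [Field k] (h2 : (2 : k) ≠ 0)
    (A : Type v) [Ring A] [Algebra k A] [Algebra.IsCentral k A] [IsSimpleRing A]
    [FiniteDimensional k A] :
    ((CSAGal.IsPeriod k A 2 ∧ CSAGal.IsIndex k A 2) ↔
      ∃ (a b : k) (m : ℕ), 0 < m ∧ (∀ x : QuaternionAlgebra k a 0 b, x ≠ 0 → IsUnit x) ∧
        Nonempty (A ≃ₐ[k] Matrix (Fin m) (Fin m) (QuaternionAlgebra k a 0 b))) ∧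
    (∀ (a b a' b' : k) (m m' : ℕ),
      (∀ x : QuaternionAlgebra k a 0 b, x ≠ 0 → IsUnit x) →
      (∀ x : QuaternionAlgebra k a' 0 b', x ≠ 0 → IsUnit x) →
      Nonempty (A ≃ₐ[k] Matrix (Fin m) (Fin m) (QuaternionAlgebra k a 0 b)) →
      Nonempty (A ≃ₐ[k] Matrix (Fin m') (Fin m') (QuaternionAlgebra k a' 0 b')) →
      Nonempty (QuaternionAlgebra k a 0 b ≃ₐ[k] QuaternionAlgebra k a' 0 b')) := by
  classical
  -- division ring structure on a quaternion algebra all of whose nonzero elements are units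
  have key : ∀ (a b : k) (m : ℕ),
      (∀ x : QuaternionAlgebra k a 0 b, x ≠ 0 → IsUnit x) →
      Nonempty (A ≃ₐ[k] Matrix (Fin m) (Fin m) (QuaternionAlgebra k a 0 b)) →
      ∀ (m' : ℕ) (D' : Type v) [DivisionRing D'] [Algebra k D'],
        m' ≠ 0 → Nonempty (A ≃ₐ[k] Matrix (Fin m') (Fin m') D') →
        Nonempty (D' ≃ₐ[k] QuaternionAlgebra k a 0 b) := by
    intro a b m hQ ⟨e⟩ m' D' _ _ hm' ⟨e'⟩
    letI : DivisionRing (QuaternionAlgebra k a 0 b) :=
      DivisionRing.ofIsUnitOrEqZero (fun x => by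
        by_cases hx : x = 0
        · exact Or.inr hx
        · exact Or.inl (hQ x hx))
    have hm : m ≠ 0 := by
      rintro rfl
      haveI : Subsingleton A := e.injective.subsingleton
      exact not_subsingleton A inferInstance
    haveI : Nonempty (Fin m) := ⟨⟨0, Nat.pos_of_ne_zero hm⟩⟩
    haveI : Nonempty (Fin m') := ⟨⟨0, Nat.pos_of_ne_zero hm'⟩⟩
    exact Groth.Agent.Lib.Helper7.CSA.matrix_divisionRing_algEquiv k (e'.symm.trans e)
  refine ⟨⟨?_, ?_⟩, ?_⟩
  · rintro ⟨-, hidx⟩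
    obtain ⟨-, m, D, _, _, hm, hD, ⟨e⟩⟩ := hidx
    haveI : FiniteDimensional k D :=
      Module.finite_of_finrank_pos (by rw [hD]; norm_num)
    haveI : Nonempty (Fin m) := ⟨⟨0, hm⟩⟩
    haveI : Algebra.IsCentral k D := Groth.Agent.Lib.Helper7.CSA.isCentral_of_matrix e
    obtain ⟨a, b, ⟨φ⟩⟩ := Groth.Agent.Lib.helper19.Quat.exists_quaternion_equiv k h2 D
      (by rw [hD]; norm_num)
    refine ⟨a, b, m, hm, ?_, ⟨e.trans (AlgEquiv.mapMatrix φ.symm)⟩⟩
    intro x hx
    have h1 : φ x ≠ 0 := fun h => hx (by rw [← φ.symm_apply_apply x, h, map_zero])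
    have h3 : IsUnit (φ.symm (φ x)) := (IsUnit.mk0 (φ x) h1).map φ.symm
    rwa [φ.symm_apply_apply] at h3
  · rintro ⟨a, b, m, hm, hQ, he⟩
    obtain ⟨m', hm', D', _, _, _, _, ⟨e'⟩⟩ := Groth.Agent.Lib.helper19.Idx.exists_matrix_division k A
    obtain ⟨ψ⟩ := key a b m hQ he m' D' hm' ⟨e'⟩
    have hD' : Module.finrank k D' = 2 ^ 2 := by
      rw [ψ.toLinearEquiv.finrank_eq, QuaternionAlgebra.finrank_eq_four]; norm_num
    have hidx : CSAGal.IsIndex k A 2 :=
      ⟨by norm_num, m', D', inferInstance, inferInstance, Nat.pos_of_ne_zero hm', hD', ⟨e'⟩⟩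
    refine ⟨⟨by norm_num, Groth.Agent.Lib.helper19.Idx.IsIndex.splits_tpow hidx, ?_⟩, hidx⟩
    intro e1 he1 he2 hs
    have he11 : e1 = 1 := by omega
    subst he11
    obtain ⟨one⟩ := Groth.Agent.Lib.helper19.Idx.nonempty_tpOne k A
    have hsA : Curves.Splits k A k := Groth.Agent.Lib.helper19.Idx.splits_congr one hs
    have := Groth.Agent.Lib.helper19.Idx.IsIndex.dvd_of_splits hidx hsA
    rw [Module.finrank_self] at this
    omega
  · intro a b a' b' m m' hQ hQ' he he'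
    obtain ⟨m₀, hm₀, D₀, _, _, _, _, ⟨e₀⟩⟩ := Groth.Agent.Lib.helper19.Idx.exists_matrix_division k A
    obtain ⟨ψ⟩ := key a b m hQ he m₀ D₀ hm₀ ⟨e₀⟩
    obtain ⟨ψ'⟩ := key a' b' m' hQ' he' m₀ D₀ hm₀ ⟨e₀⟩
    exact ⟨ψ.symm.trans ψ'⟩

end Groth.Agent.S14211
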