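import Groth.Statements.S14253
import Groth.Agent.Lib.Helper9.PRad3
import Groth.Agent.S0415

set_option autoImplicit false
universe u
open CategoryTheory AlgebraicGeometry
open PerfSch

namespace Groth.Agent.S14253

open Groth.Agent.Lib.Helper9.PRad in
theorem bijective_of_isUnivHomeo_of_perfect {A B : Type u} [CommRing A] [CommRing B] (p : ℕ)
    (hp : p.Prime) (hA0 : (p : A) = 0) (hA : Function.Bijective fun a : A => a ^ p)
    (hB : Function.Bijective fun b : B => b ^ p)
    (φ : A →+* B) (hU : FlatMor.IsUnivHomeo (Spec.map (CommRingCat.ofHom φ))) :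
    Function.Bijective φ := by
  have hiter : ∀ (R : Type u) [CommRing R], (Function.Bijective fun a : R => a ^ p) →
      ∀ n : ℕ, Function.Bijective fun a : R => a ^ p ^ n := by
    intro R _ hR n
    induction n with
    | zero =>
      have : (fun a : R => a ^ p ^ 0) = id := by funext a; simp
      rw [this]
      exact Function.bijective_id
    | succ n ih =>
      have : (fun a : R => a ^ p ^ (n + 1)) = (fun a : R => a ^ p) ∘ (fun a : R => a ^ p ^ n) := by
        funext a
        simp only [Function.comp_apply]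
        rw [← pow_mul, pow_succ]
      rw [this]
      exact hR.comp ih
  have hsurj : Function.Surjective (Localization.awayMap φ (p : A)) := by
    rw [Localization.awayMap_surjective_iff]
    intro b
    exact ⟨0, 1, by rw [hA0, map_zero, pow_one, zero_mul]⟩
  obtain ⟨hker, hrad⟩ := (isUnivHomeo_iff_of_awayMap_surjective φ p hp hsurj).mp hU
  have hnilA : ∀ a : A, IsNilpotent a → a = 0 := by
    rintro a ⟨k, hk⟩
    apply (hiter A hA k).1
    change a ^ p ^ k = 0 ^ p ^ k
    have hle : k ≤ p ^ k := (Nat.lt_pow_self hp.one_lt).le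
    rw [zero_pow (pow_ne_zero _ hp.ne_zero), ← Nat.sub_add_cancel hle, pow_add, hk, mul_zero]
  constructor
  · rw [injective_iff_map_eq_zero]
    intro a ha
    exact hnilA a (hker a ha)
  · intro b
    obtain ⟨n, -, a, ha⟩ := hrad b
    obtain ⟨a', ha'⟩ := (hiter A hA n).2 a
    refine ⟨a', (hiter B hB n).1 ?_⟩
    change φ a' ^ p ^ n = b ^ p ^ n
    rw [← map_pow, ← ha]
    exact congrArg φ ha'

/-- A universal homeomorphism f : X ⟶ Y between perfect schemes of prime characteristic p (on every open
of X and of Y, p = 0 in the ring of sections and the p-th power map is bijective) is an isomorphism. -/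
theorem result (p : ℕ) [Fact p.Prime] {X Y : Scheme.{u}} (f : X ⟶ Y)
    (hX : PerfSch.IsPerfect p X) (hY : PerfSch.IsPerfect p Y) (hf : FlatMor.IsUnivHomeo f) : IsIso f := by

  have hp : p.Prime := Fact.out
  have hint : IsIntegralHom f := ((Groth.Agent.S0415.result f).mp hf).1
  haveI : IsAffineHom f := inferInstance
  rw [← MorphismProperty.isomorphisms.iff,
    HasAffineProperty.eq_targetAffineLocally (P := MorphismProperty.isomorphisms Scheme)]
  intro U
  have hV : IsAffine (f ⁻¹ᵁ U.1) := IsAffineHom.isAffine_preimage _ U.2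
  refine ⟨hV, ?_⟩
  have hUg : FlatMor.IsUnivHomeo (f ∣_ U.1) := by
    haveI : MorphismProperty.IsStableUnderBaseChange FlatMor.IsUnivHomeo := by
      unfold FlatMor.IsUnivHomeo; infer_instance
    exact MorphismProperty.of_isPullback (isPullback_morphismRestrict f U.1).flip hf
  have hUψ : FlatMor.IsUnivHomeo (Spec.map (f ∣_ U.1).appTop) := by
    haveI : MorphismProperty.RespectsIso FlatMor.IsUnivHomeo := by
      unfold FlatMor.IsUnivHomeo; infer_instance
    haveI : IsAffine U.1 := U.2
    exact (MorphismProperty.arrow_mk_iso_iff _ (arrowIsoSpecΓOfIsAffine (f ∣_ U.1))).mp hUg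
  have hbij := bijective_of_isUnivHomeo_of_perfect p hp
    (hY (U.1.ι ''ᵁ ⊤)).1 (hY (U.1.ι ''ᵁ ⊤)).2 (hX ((f ⁻¹ᵁ U.1).ι ''ᵁ ⊤)).2
    (f ∣_ U.1).appTop.hom hUψ
  exact (ConcreteCategory.isIso_iff_bijective _).mpr hbij

end Groth.Agent.S14253
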