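import Groth.Statements.S14255
import Mathlib
-- import your own Groth.Agent.* helpers here

set_option autoImplicit false
universe u
open FrobAlg

namespace Groth.Agent.S14255

section H
namespace W31

variable (p : ℕ) [Fact p.Prime]

/-- common exponent for finitely many elements -/
theorem exists_common_pow {K L : Type u} [CommRing K] [CommRing L] [CharP K p] [CharP L p]
    (i : K →+* L) [IsPRadical i p] {l : ℕ} (x : Fin l → L) :
    ∃ (N : ℕ) (a : Fin l → K), ∀ t, i (a t) = x t ^ p ^ N := by
  choose n y hy using fun t => IsPRadical.pow_mem i p (x t)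
  refine ⟨Finset.univ.sup n, fun t => y t ^ p ^ (Finset.univ.sup n - n t), fun t => ?_⟩
  have hle : n t ≤ Finset.univ.sup n := Finset.le_sup (Finset.mem_univ t)
  rw [map_pow, hy t, ← pow_mul, ← pow_add, Nat.add_sub_cancel' hle]

set_option maxHeartbeats 1600000 in
theorem main
    {A B A' B' : Type u} [CommRing A] [CommRing B] [CommRing A'] [CommRing B']
    [CharP A p] [CharP B p] [CharP A' p] [CharP B' p] [PerfectRing A' p] [PerfectRing B' p]
    (φ : A →+* B) (hflat : φ.Flat) (i : A →+* A') (j : B →+* B') [IsPerfectClosure i p] [IsPerfectClosure j p]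
    (φ' : A' →+* B') (hφ : φ'.comp i = j.comp φ) : φ'.Flat := by
  let _ := φ.toAlgebra
  let _ := φ'.toAlgebra
  have hflat' : Module.Flat A B := hflat
  show Module.Flat A' B'
  rw [Module.Flat.iff_forall_isTrivialRelation]
  intro l f x hfx
  have hfx' : ∑ t, φ' (f t) * x t = 0 := hfx
  obtain ⟨N₁, a₁, ha₁⟩ := exists_common_pow p i f
  obtain ⟨N₂, b₂, hb₂⟩ := exists_common_pow p j x
  -- common exponent N
  let N := N₁ + N₂
  let a : Fin l → A := fun t => a₁ t ^ p ^ N₂
  let b : Fin l → B := fun t => b₂ t ^ p ^ N₁
  have ha : ∀ t, i (a t) = f t ^ p ^ N := fun t => by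
    simp only [a, N, map_pow, ha₁ t, ← pow_mul, ← pow_add]
  have hb : ∀ t, j (b t) = x t ^ p ^ N := fun t => by
    simp only [b, N, map_pow, hb₂ t, ← pow_mul, ← pow_add, add_comm]
  have hcomm : ∀ c, φ' (i c) = j (φ c) := fun c => congrArg (fun k => k c) hφ
  -- s = ∑ φ a b maps to zero under j
  have hs : j (∑ t, φ (a t) * b t) = 0 := by
    rw [map_sum]
    have h1 : ∀ t, j (φ (a t) * b t) = iterateFrobenius B' p N (φ' (f t) * x t) := by
      intro t
      rw [map_mul, ← hcomm, ha, hb, iterateFrobenius_def, mul_pow, map_pow]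
    simp only [h1]
    rw [← map_sum, hfx', map_zero]
  have hs' : (∑ t, φ (a t) * b t) ∈ pNilradical B p := IsPRadical.ker_le j p hs
  obtain ⟨m, hm⟩ := mem_pNilradical.mp hs'
  have hm' : ∑ t, (a t ^ p ^ m) • (b t ^ p ^ m) = 0 := by
    have h2 : iterateFrobenius B p m (∑ t, φ (a t) * b t) = 0 := by
      rw [iterateFrobenius_def]; exact hm
    rw [map_sum] at h2
    rw [← h2]
    refine Finset.sum_congr rfl (fun t _ => ?_)
    rw [iterateFrobenius_def, mul_pow, ← map_pow]
    rfl
  obtain ⟨k, c, y, hy, hc⟩ := Module.Flat.isTrivialRelation_of_sum_smul_eq_zero (R := A) (M := B) (f := fun t => a t ^ p ^ m) (x := fun t => b t ^ p ^ m) hm'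
  -- take roots
  let M := N + m
  let rA : A' ≃+* A' := (iterateFrobeniusEquiv A' p M).symm
  let rB : B' ≃+* B' := (iterateFrobeniusEquiv B' p M).symm
  have hrA : ∀ z : A', rA z ^ p ^ M = z := fun z => by
    have := (iterateFrobeniusEquiv A' p M).apply_symm_apply z
    rwa [iterateFrobeniusEquiv_def] at this
  have hrB : ∀ z : B', rB z ^ p ^ M = z := fun z => by
    have := (iterateFrobeniusEquiv B' p M).apply_symm_apply z
    rwa [iterateFrobeniusEquiv_def] at this
  have injA : Function.Injective (fun z : A' => z ^ p ^ M) := fun z w h => by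
    apply (iterateFrobeniusEquiv A' p M).injective
    rw [iterateFrobeniusEquiv_def, iterateFrobeniusEquiv_def]; exact h
  have injB : Function.Injective (fun z : B' => z ^ p ^ M) := fun z w h => by
    apply (iterateFrobeniusEquiv B' p M).injective
    rw [iterateFrobeniusEquiv_def, iterateFrobeniusEquiv_def]; exact h
  refine ⟨k, fun t s => rA (i (c t s)), fun s => rB (j (y s)), ?_, ?_⟩
  · intro t
    apply injB
    show x t ^ p ^ M = (∑ s, φ' (rA (i (c t s))) * rB (j (y s))) ^ p ^ M
    have h3 : (∑ s, φ' (rA (i (c t s))) * rB (j (y s))) ^ p ^ M =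
        iterateFrobenius B' p M (∑ s, φ' (rA (i (c t s))) * rB (j (y s))) := by
      rw [iterateFrobenius_def]
    rw [h3, map_sum]
    have h4 : ∀ s, iterateFrobenius B' p M (φ' (rA (i (c t s))) * rB (j (y s))) =
        j (φ (c t s) * y s) := by
      intro s
      rw [iterateFrobenius_def, mul_pow, ← map_pow, hrA, hrB, hcomm, map_mul]
    simp only [h4]
    rw [← map_sum]
    have h5 : ∑ s, φ (c t s) * y s = b t ^ p ^ m := (hy t).symm
    rw [h5, map_pow, hb, ← pow_mul, ← pow_add]
  · intro s
    apply injA
    show (∑ t, f t * rA (i (c t s))) ^ p ^ M = 0 ^ p ^ M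
    have h3 : (∑ t, f t * rA (i (c t s))) ^ p ^ M =
        iterateFrobenius A' p M (∑ t, f t * rA (i (c t s))) := by
      rw [iterateFrobenius_def]
    rw [h3, map_sum]
    have h4 : ∀ t, iterateFrobenius A' p M (f t * rA (i (c t s))) = i (a t ^ p ^ m * c t s) := by
      intro t
      rw [iterateFrobenius_def, mul_pow, hrA, map_mul, map_pow, ha, ← pow_mul, ← pow_add]
    simp only [h4]
    rw [← map_sum, hc s, map_zero, zero_pow]
    exact pow_ne_zero _ (Fact.out : p.Prime).ne_zero

end W31
end H


/-- Let p be a prime, φ : A → B a flat map of commutative rings of characteristic p, i : A → A' and j :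
B → B' perfect closures (A', B' perfect rings of characteristic p, every element of A' resp. B' has
a p^n-th power in the image of i resp. j, the kernels of i and j consist of nilpotent elements), and
φ' : A' → B' the induced map, φ' ∘ i = j ∘ φ. Then φ' is flat. (The published statement is that the
perfection of a flat morphism of schemes over the prime field is flat; this row is its affine case,
to which the published proof reduces.) -/
theorem result (p : ℕ) [Fact p.Prime]
    {A B A' B' : Type u} [CommRing A] [CommRing B] [CommRing A'] [CommRing B']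
    [CharP A p] [CharP B p] [CharP A' p] [CharP B' p] [PerfectRing A' p] [PerfectRing B' p]
    (φ : A →+* B) (hflat : φ.Flat) (i : A →+* A') (j : B →+* B') [IsPerfectClosure i p] [IsPerfectClosure j p]
    (φ' : A' →+* B') (hφ : φ'.comp i = j.comp φ) : φ'.Flat := by
  exact W31.main p φ hflat i j φ' hφ

end Groth.Agent.S14255
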