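import Groth.Statements.S14256
-- import your own Groth.Agent.* helpers here

set_option autoImplicit false
universe u
open FrobAlg

namespace Groth.Agent.S14256

/-- Let p be a prime, φ : A → B a map of commutative rings of characteristic p, i : A → A' and j : B →
B' perfect closures (A', B' perfect rings of characteristic p, every element of A' resp. B' has a
p^n-th power in the image of i resp. j, the kernels of i and j consist of nilpotent elements), and
φ' : A' → B' the induced map, φ' ∘ i = j ∘ φ. Then φ is integral if and only if φ' is integral. (The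
published statement is that a morphism of schemes over the prime field is integral exactly when its
perfection is; this row is its affine case, to which the published proof reduces.) -/
theorem result (p : ℕ) [Fact p.Prime]
    {A B A' B' : Type u} [CommRing A] [CommRing B] [CommRing A'] [CommRing B']
    [CharP A p] [CharP B p] [CharP A' p] [CharP B' p] [PerfectRing A' p] [PerfectRing B' p]
    (φ : A →+* B) (i : A →+* A') (j : B →+* B') [IsPerfectClosure i p] [IsPerfectClosure j p]
    (φ' : A' →+* B') (hφ : φ'.comp i = j.comp φ) : φ.IsIntegral ↔ φ'.IsIntegral := by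
  have ofPow : ∀ {R S : Type u} [CommRing R] [CommRing S] (f : R →+* S) (x : S) (n : ℕ),
      0 < n → f.IsIntegralElem (x ^ n) → f.IsIntegralElem x := by
    intro R S _ _ f x n hn hx
    letI := f.toAlgebra
    exact IsIntegral.of_pow (R := R) hn hx
  have radInt : ∀ {K L : Type u} [CommRing K] [CommRing L] (g : K →+* L) [IsPRadical g p],
      g.IsIntegral := by
    intro K L _ _ g _ x
    obtain ⟨n, y, hy⟩ := IsPRadical.pow_mem g p x
    refine ofPow g x (p ^ n) (pow_pos (Fact.out : p.Prime).pos n) ?_
    rw [← hy]
    exact g.isIntegralElem_map
  have hi : i.IsIntegral := radInt i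
  have hj : j.IsIntegral := radInt j
  constructor
  · intro h
    have h1 : (j.comp φ).IsIntegral := h.trans _ _ hj
    rw [← hφ] at h1
    exact RingHom.IsIntegral.tower_top i φ' h1
  · intro h
    have h1 : (φ'.comp i).IsIntegral := hi.trans _ _ h
    rw [hφ] at h1
    intro b
    obtain ⟨Q, hQm, hQ⟩ := h1 (j b)
    rw [← Polynomial.hom_eval₂] at hQ
    have hker : Polynomial.eval₂ φ b Q ∈ RingHom.ker j := hQ
    obtain ⟨m, hm⟩ := mem_pNilradical.1 (IsPRadical.ker_le j p hker)
    refine ⟨Q ^ p ^ m, hQm.pow _, ?_⟩
    rw [Polynomial.eval₂_pow, hm]

end Groth.Agent.S14256
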