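import Groth.Statements.S16001
-- import your own Groth.Agent.* helpers here

set_option autoImplicit false
universe u
open FrobAlg

namespace Groth.Agent.S16001

/-- Let A be a commutative ring of prime characteristic p and B a commutative A-algebra of
characteristic p such that the relative Frobenius B ⊗_{A,Frob} A → B, b ⊗ a ↦ b^p a, is bijective
(that is, Spec B → Spec A is relatively perfect; no finiteness condition is imposed). Then B is
formally étale over A. (The source proves that every perfect algebraic stack over an algebraic space
of characteristic p is formally étale over it; this is the case of an affine scheme over an affine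
base.) -/
theorem result (p : ℕ) [Fact p.Prime] (A : Type u) [CommRing A] [CharP A p]
    (B : Type u) [CommRing B] [Algebra A B] [CharP B p]
    (h : Function.Bijective (FrobAlg.relFrob p A B)) : Algebra.FormallyEtale A B := by
  classical
  rw [Algebra.FormallyEtale.iff_comp_bijective]
  intro C _ _ I hI
  have hrel : ∀ (b : B) (t : FrobAlg.Twist p A), FrobAlg.relFrob p A B (b ⊗ₜ t)
      = b ^ p * algebraMap A B ((FrobAlg.toTwist p A).symm t) := by
    intro b t
    simp [FrobAlg.relFrob, FrobAlg.frobHom, FrobAlg.inclHom, Algebra.TensorProduct.lift_tmul]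
    rfl
  rcases subsingleton_or_nontrivial C with hC | hC
  · constructor
    · intro g₁ g₂ _
      ext b
      exact Subsingleton.elim _ _
    · intro g
      refine ⟨{ toFun := fun _ => 0
                map_one' := Subsingleton.elim _ _
                map_mul' := fun _ _ => Subsingleton.elim _ _
                map_zero' := rfl
                map_add' := fun _ _ => Subsingleton.elim _ _
                commutes' := fun _ => Subsingleton.elim _ _ }, ?_⟩
      ext b
      exact Subsingleton.elim _ _
  have hpC : ((p : ℕ) : C) = 0 := by
    have h1 : ((p : ℕ) : A) = 0 := CharP.cast_eq_zero A p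
    have h2 := congrArg (algebraMap A C) h1
    rw [map_natCast, map_zero] at h2
    exact h2
  have : CharP C p := by
    have := CharP.ringChar_of_prime_eq_zero (R := C) (Fact.out : p.Prime) hpC
    exact ringChar.of_eq this
  have hp2 : 2 ≤ p := (Fact.out : p.Prime).two_le
  have hIp : ∀ i ∈ I, frobenius C p i = 0 := by
    intro i hi
    rw [frobenius_def]
    have : i ^ 2 ∈ I ^ 2 := Ideal.pow_mem_pow hi 2
    rw [hI, Ideal.mem_bot] at this
    have hk : i ^ p = i ^ 2 * i ^ (p - 2) := by rw [← pow_add]; congr 1; omega
    rw [hk, this, zero_mul]
  let Fbar : C ⧸ I →+* C := Ideal.Quotient.lift I (frobenius C p) hIp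
  have hFbar : ∀ c : C, Fbar (Ideal.Quotient.mk I c) = c ^ p := fun c => by
    simp [Fbar, frobenius_def]
  have hmkF : ∀ y : C ⧸ I, Ideal.Quotient.mk I (Fbar y) = y ^ p := by
    intro y
    obtain ⟨c, rfl⟩ := Ideal.Quotient.mk_surjective y
    rw [hFbar, map_pow]
  constructor
  · -- uniqueness
    intro g₁ g₂ hg
    have hg' : ∀ b, Ideal.Quotient.mk I (g₁ b) = Ideal.Quotient.mk I (g₂ b) := fun b =>
      AlgHom.congr_fun hg b
    have key : ∀ x : FrobAlg.BaseChange p A B,
        g₁ (FrobAlg.relFrob p A B x) = g₂ (FrobAlg.relFrob p A B x) := by
      intro x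
      induction x using TensorProduct.induction_on with
      | zero => simp
      | tmul b t =>
        rw [hrel, map_mul, map_mul, map_pow, map_pow, AlgHom.commutes, AlgHom.commutes,
          ← hFbar (g₁ b), ← hFbar (g₂ b), hg' b]
      | add x y hx hy => rw [map_add, map_add, map_add, hx, hy]
    ext b
    obtain ⟨x, rfl⟩ := h.2 b
    exact key x
  · -- existence
    intro g
    let f₁ : B →ₐ[A] FrobAlg.Target p A C :=
      { toRingHom := ((FrobAlg.toTarget p A C : C →+* FrobAlg.Target p A C).comp Fbar).comp
          (g : B →+* C ⧸ I)
        commutes' := fun a => by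
          show FrobAlg.toTarget p A C (Fbar (g (algebraMap A B a))) = _
          rw [AlgHom.commutes, FrobAlg.algebraMap_target,
            IsScalarTower.algebraMap_apply A C (C ⧸ I), Ideal.Quotient.algebraMap_eq, hFbar] }
    let G : FrobAlg.BaseChange p A B →+* C :=
      ((FrobAlg.toTarget p A C).symm : FrobAlg.Target p A C →+* C).comp
        (Algebra.TensorProduct.lift f₁ (FrobAlg.inclHom p A C)
          (fun _ _ => Commute.all _ _)).toRingHom
    have hG : ∀ (b : B) (t : FrobAlg.Twist p A), G (b ⊗ₜ t)
        = Fbar (g b) * algebraMap A C ((FrobAlg.toTwist p A).symm t) := by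
      intro b t
      simp [G, f₁, FrobAlg.inclHom, Algebra.TensorProduct.lift_tmul]
    let e : FrobAlg.BaseChange p A B ≃+* B := RingEquiv.ofBijective (FrobAlg.relFrob p A B) h
    have he : ∀ x, e x = FrobAlg.relFrob p A B x := fun _ => rfl
    have hmkG : ∀ x : FrobAlg.BaseChange p A B,
        Ideal.Quotient.mk I (G x) = g (FrobAlg.relFrob p A B x) := by
      intro x
      induction x using TensorProduct.induction_on with
      | zero => simp
      | tmul b t =>
        rw [hG, hrel, map_mul, map_mul, hmkF, map_pow, AlgHom.commutes,
          IsScalarTower.algebraMap_apply A C (C ⧸ I), Ideal.Quotient.algebraMap_eq]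
      | add x y hx hy => rw [map_add, map_add, map_add, map_add, hx, hy]
    refine ⟨{ toRingHom := G.comp (e.symm : B →+* FrobAlg.BaseChange p A B)
              commutes' := fun a => by
                show G (e.symm (algebraMap A B a)) = _
                have : e.symm (algebraMap A B a) = (1 : B) ⊗ₜ[A] (FrobAlg.toTwist p A a) := by
                  rw [RingEquiv.symm_apply_eq, he, hrel, one_pow, one_mul,
                    RingEquiv.symm_apply_apply]
                rw [this, hG, map_one, map_one, one_mul, RingEquiv.symm_apply_apply] }, ?_⟩
    ext b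
    show Ideal.Quotient.mk I (G (e.symm b)) = g b
    rw [hmkG, ← he, RingEquiv.apply_symm_apply]

end Groth.Agent.S16001
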