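import Groth.Statements.S14257
import Mathlib
import Groth.Agent.S3176
-- import your own Groth.Agent.* helpers here

set_option autoImplicit false
set_option linter.unusedSectionVars false
set_option linter.style.haveILetI false
universe u
open TensorProduct
open FrobAlg

namespace Groth.Agent.S14257

/-- An étale algebra over a perfect ring of characteristic `p` is perfect. -/
theorem frobenius_bijective_of_etale (p : ℕ) [Fact p.Prime] (K : Type u) [CommRing K] [CharP K p]
    [PerfectRing K p] (S : Type u) [CommRing S] [Algebra K S] [CharP S p] [Algebra.Etale K S] :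
    Function.Bijective (frobenius S p) := by
  have h1 := Groth.Agent.S3176.relFrob_bijective_of_etale p K S
  -- the equivalence `K ≃ Twist p K`
  have hb : Function.Bijective (Algebra.linearMap K (Twist p K)) := by
    have : (Algebra.linearMap K (Twist p K) : K → Twist p K) =
        (toTwist p K) ∘ (frobenius K p) := by
      funext x
      rfl
    rw [this]
    exact (toTwist p K).bijective.comp (PerfectRing.bijective_frobenius (R := K) (p := p))
  let e : K ≃ₗ[K] Twist p K := LinearEquiv.ofBijective (Algebra.linearMap K (Twist p K)) hb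
  have hfun : (frobenius S p : S → S) =
      (relFrob p K S) ∘ (LinearEquiv.lTensor S e) ∘ (TensorProduct.rid K S).symm := by
    funext s
    simp only [Function.comp_apply, TensorProduct.rid_symm_apply, LinearEquiv.lTensor_tmul]
    have : e 1 = 1 := by
      change Algebra.linearMap K (Twist p K) 1 = 1
      rw [Algebra.linearMap_apply, map_one]
    rw [this, Groth.Agent.S3176.relFrob_tmul, map_one, map_one, mul_one, frobenius_def]
  rw [hfun]
  exact h1.comp ((LinearEquiv.lTensor S e).bijective.comp (TensorProduct.rid K S).symm.bijective)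

/-- Let p be a prime, A a commutative ring of characteristic p, B an etale A-algebra of characteristic
p, A → A' and B → B' perfect closures (A', B' perfect rings of characteristic p, every element of A'
resp. B' has a p^n-th power in the image of A resp. B, and the structure maps have kernels
consisting of nilpotent elements), B' viewed as an A-algebra through B, and φ' : A' → B' a map of
A-algebras. Then the natural map A' ⊗_A B → B', a ⊗ b ↦ φ'(a) b, is bijective. (The published
statement is for an etale morphism X → Y of schemes over the prime field, where X_perf → X ×_Y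
Y_perf is an isomorphism; this row is the affine case.) -/
theorem result (p : ℕ) [Fact p.Prime]
    (A B A' B' : Type u) [CommRing A] [CommRing B] [CommRing A'] [CommRing B']
    [CharP A p] [CharP B p] [CharP A' p] [CharP B' p] [PerfectRing A' p] [PerfectRing B' p]
    [Algebra A B] [Algebra.Etale A B] [Algebra A A'] [Algebra B B'] [Algebra A B'] [IsScalarTower A B B']
    [IsPerfectClosure (algebraMap A A') p] [IsPerfectClosure (algebraMap B B') p]
    (φ' : A' →ₐ[A] B') :
    Function.Bijective (Algebra.TensorProduct.lift φ' (IsScalarTower.toAlgHom A B B')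
      (fun a b => Commute.all (φ' a) (IsScalarTower.toAlgHom A B B' b))) := by
  set ψ := Algebra.TensorProduct.lift φ' (IsScalarTower.toAlgHom A B B')
      (fun a b => Commute.all (φ' a) (IsScalarTower.toAlgHom A B B' b)) with hψ
  have hpp : p.Prime := Fact.out
  rcases subsingleton_or_nontrivial (A' ⊗[A] B) with hT | hT
  · have : Subsingleton B' := by
      refine subsingleton_of_zero_eq_one ?_
      rw [← map_zero ψ, ← map_one ψ, Subsingleton.elim (0 : A' ⊗[A] B) 1]
    exact ⟨fun x y _ => Subsingleton.elim _ _, fun y => ⟨0, Subsingleton.elim _ _⟩⟩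
  have hp0 : ((p : ℕ) : A' ⊗[A] B) = 0 := by
    have : ((p : ℕ) : A' ⊗[A] B) = algebraMap A' (A' ⊗[A] B) ((p : ℕ) : A') := by
      rw [map_natCast]
    rw [this, CharP.cast_eq_zero, map_zero]
  haveI : CharP (A' ⊗[A] B) p := (CharP.charP_iff_prime_eq_zero hpp).mpr hp0
  have hfrob := frobenius_bijective_of_etale p A' (A' ⊗[A] B)
  haveI : PerfectRing (A' ⊗[A] B) p := ⟨hfrob⟩
  -- every element has a `p^n`-th power coming from `B`
  have hrad : ∀ t : A' ⊗[A] B, ∃ (n : ℕ) (b : B), t ^ p ^ n = (1 : A') ⊗ₜ[A] b := by
    intro t
    induction t using TensorProduct.induction_on with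
    | zero => exact ⟨0, 0, by simp⟩
    | tmul a' b =>
      obtain ⟨n, a, ha⟩ := IsPRadical.pow_mem (algebraMap A A') p a'
      refine ⟨n, a • b ^ p ^ n, ?_⟩
      rw [Algebra.TensorProduct.tmul_pow, ← ha, Algebra.algebraMap_eq_smul_one,
        TensorProduct.smul_tmul]
    | add x y hx hy =>
      obtain ⟨n, b, hb⟩ := hx
      obtain ⟨m, c, hc⟩ := hy
      refine ⟨n + m, b ^ p ^ m + c ^ p ^ n, ?_⟩
      rw [add_pow_char_pow, pow_add, pow_mul, hb, mul_comm, pow_mul, hc,
        Algebra.TensorProduct.tmul_pow, Algebra.TensorProduct.tmul_pow, one_pow, one_pow,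
        TensorProduct.tmul_add]
  have hψ1 : ∀ b : B, ψ ((1 : A') ⊗ₜ[A] b) = algebraMap B B' b := by
    intro b
    rw [hψ, Algebra.TensorProduct.lift_tmul, map_one, one_mul]
    rfl
  have hinjT : ∀ (n : ℕ) (x y : A' ⊗[A] B), x ^ p ^ n = y ^ p ^ n → x = y := by
    intro n x y h
    exact (bijective_iterateFrobenius (A' ⊗[A] B) p n).1 (by simpa [iterateFrobenius_def] using h)
  have hinjB : ∀ (n : ℕ) (x y : B'), x ^ p ^ n = y ^ p ^ n → x = y := by
    intro n x y h
    exact (bijective_iterateFrobenius B' p n).1 (by simpa [iterateFrobenius_def] using h)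
  constructor
  · rw [injective_iff_map_eq_zero]
    intro t ht
    obtain ⟨n, b, hb⟩ := hrad t
    have h1 : algebraMap B B' b = 0 := by
      rw [← hψ1, ← hb, map_pow, ht, zero_pow (pow_ne_zero _ hpp.ne_zero)]
    have h2 : b ∈ pNilradical B p := IsPRadical.ker_le (algebraMap B B') p h1
    obtain ⟨m, hm⟩ := mem_pNilradical.mp h2
    apply hinjT (n + m)
    rw [zero_pow (pow_ne_zero _ hpp.ne_zero), pow_add, pow_mul, hb, Algebra.TensorProduct.tmul_pow,
      hm, one_pow, TensorProduct.tmul_zero]
  · intro b'
    obtain ⟨n, b, hb⟩ := IsPRadical.pow_mem (algebraMap B B') p b'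
    obtain ⟨s, hs⟩ := (bijective_iterateFrobenius (A' ⊗[A] B) p n).2 ((1 : A') ⊗ₜ[A] b)
    refine ⟨s, hinjB n _ _ ?_⟩
    rw [← map_pow, ← hb, ← hψ1, ← hs, iterateFrobenius_def]

end Groth.Agent.S14257
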