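import Groth.Statements.S14260
import Mathlib
import Groth.Agent.S14255
-- import your own Groth.Agent.* helpers here

set_option autoImplicit false
universe u
open FrobAlg

namespace Groth.Agent.S14260

section H
namespace W32

variable (p : ℕ) [Fact p.Prime]

theorem main
    {A B A' B' : Type u} [CommRing A] [CommRing B] [CommRing A'] [CommRing B']
    [CharP A p] [CharP B p] [CharP A' p] [CharP B' p] [PerfectRing A' p] [PerfectRing B' p]
    (φ : A →+* B) (hflat : φ.FaithfullyFlat) (i : A →+* A') (j : B →+* B') [IsPerfectClosure i p]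
    [IsPerfectClosure j p] (φ' : A' →+* B') (hφ : φ'.comp i = j.comp φ) : φ'.FaithfullyFlat := by
  have hfl : φ'.Flat := Groth.Agent.S14255.result p φ hflat.flat i j φ' hφ
  let _ := φ.toAlgebra
  let _ := φ'.toAlgebra
  have hff : Module.FaithfullyFlat A B := hflat
  have hfl' : Module.Flat A' B' := hfl
  show Module.FaithfullyFlat A' B'
  refine ⟨fun m hm htop => ?_⟩
  have hcomm : ∀ c, φ' (i c) = j (φ c) := fun c => congrArg (fun k => k c) hφ
  let m₀ : Ideal A := m.comap i
  have hm₀ : m₀ ≠ ⊤ := (Ideal.comap_ne_top i hm.ne_top)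
  let J : Ideal B := m₀.map φ
  -- key predicate
  have key : ∀ x ∈ (m • (⊤ : Submodule A' B')), ∃ N : ℕ, ∃ b ∈ J, j b = x ^ p ^ N := by
    intro x hx
    refine Submodule.smul_induction_on hx ?_ ?_
    · intro r hr n _
      obtain ⟨N₁, a, ha⟩ := IsPRadical.pow_mem i p r
      obtain ⟨N₂, b, hb⟩ := IsPRadical.pow_mem j p n
      refine ⟨N₁ + N₂, φ (a ^ p ^ N₂) * b ^ p ^ N₁, ?_, ?_⟩
      · refine Ideal.mul_mem_right _ _ (Ideal.mem_map_of_mem φ ?_)
        show i (a ^ p ^ N₂) ∈ m
        rw [map_pow, ha]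
        exact Ideal.pow_mem_of_mem _ (Ideal.pow_mem_of_mem _ hr _ (pow_pos (Fact.out : p.Prime).pos _)) _
          (pow_pos (Fact.out : p.Prime).pos _)
      · rw [map_mul, ← hcomm, map_pow, map_pow j, ha, hb]
        show _ = (φ' r * n) ^ _
        simp only [mul_pow, map_pow, ← pow_mul, ← pow_add, add_comm N₂ N₁]
    · intro x y ⟨N₁, b₁, hb₁, h₁⟩ ⟨N₂, b₂, hb₂, h₂⟩
      refine ⟨N₁ + N₂, b₁ ^ p ^ N₂ + b₂ ^ p ^ N₁, ?_, ?_⟩
      · exact Ideal.add_mem _ (Ideal.pow_mem_of_mem _ hb₁ _ (pow_pos (Fact.out : p.Prime).pos _))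
          (Ideal.pow_mem_of_mem _ hb₂ _ (pow_pos (Fact.out : p.Prime).pos _))
      · rw [map_add, map_pow, map_pow, h₁, h₂, add_pow_char_pow, ← pow_mul, ← pow_mul, ← pow_add,
          ← pow_add, add_comm N₂ N₁]
  obtain ⟨N, b, hbJ, hb⟩ := key 1 (by rw [htop]; exact Submodule.mem_top)
  rw [one_pow] at hb
  have h0 : j (1 - b) = 0 := by rw [map_sub, map_one, hb, sub_self]
  have hnil : IsNilpotent (1 - b) := by
    have := IsPRadical.ker_le j p h0
    obtain ⟨k, hk⟩ := mem_pNilradical.mp this
    exact ⟨_, hk⟩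
  have hu : IsUnit b := by
    have := hnil.isUnit_one_sub
    rwa [sub_sub_cancel] at this
  have hJ : J = ⊤ := Ideal.eq_top_of_isUnit_mem _ hbJ hu
  have : m₀ • (⊤ : Submodule A B) = ⊤ := by
    rw [Ideal.smul_top_eq_map]
    show Submodule.restrictScalars A J = ⊤
    rw [hJ]; rfl
  exact ((Module.FaithfullyFlat.iff_flat_and_proper_ideal A B).1 hff).2 m₀ hm₀ this

end W32
end H


/-- Let p be a prime, φ : A → B a faithfully flat map of commutative rings of characteristic p, i : A →
A' and j : B → B' perfect closures (A', B' perfect rings of characteristic p, every element of A'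
resp. B' has a p^n-th power in the image of i resp. j, the kernels of i and j consist of nilpotent
elements), and φ' : A' → B' the induced map, φ' ∘ i = j ∘ φ. Then φ' is faithfully flat. (The
published statement is that the perfection of a faithfully flat morphism of schemes over the prime
field is faithfully flat; this row is its affine case, to which the published proof reduces.) -/
theorem result (p : ℕ) [Fact p.Prime]
    {A B A' B' : Type u} [CommRing A] [CommRing B] [CommRing A'] [CommRing B']
    [CharP A p] [CharP B p] [CharP A' p] [CharP B' p] [PerfectRing A' p] [PerfectRing B' p]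
    (φ : A →+* B) (hflat : φ.FaithfullyFlat) (i : A →+* A') (j : B →+* B') [IsPerfectClosure i p]
    [IsPerfectClosure j p] (φ' : A' →+* B') (hφ : φ'.comp i = j.comp φ) : φ'.FaithfullyFlat := by
  exact W32.main p φ hflat i j φ' hφ

end Groth.Agent.S14260
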