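import Groth.Statements.S14262
import Mathlib
-- import your own Groth.Agent.* helpers here

set_option autoImplicit false
universe u
open FrobAlg

namespace Groth.Agent.S14262

/-- Let p be a prime, A a perfect ring of characteristic p and f ∈ A. The radical of the principal ideal
(f) — equivalently the ideal generated by all p^n-th roots of f, n ≥ 0 — is a flat A-module. -/
theorem result (p : ℕ) [Fact p.Prime] (A : Type u) [CommRing A]
    [CharP A p] [PerfectRing A p] (f : A) :
    Module.Flat A ((Ideal.span {f}).radical) := by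
  classical
  have hp : p.Prime := Fact.out
  have hp2 : 2 ≤ p := hp.two_le
  have hred : ∀ y : A, y ^ p = 0 → y = 0 := by
    intro y hy
    apply (frobeniusEquiv A p).injective
    rw [map_zero]
    exact hy
  let E := fun n => iterateFrobeniusEquiv A p n
  have hE : ∀ n x, E n x = x ^ p ^ n := fun n x => rfl
  let g : ℕ → A := fun n => (E n).symm f
  have hg : ∀ n, g n ^ p ^ n = f := fun n => (E n).apply_symm_apply f
  have hg_succ : ∀ n, g (n + 1) ^ p = g n := by
    intro n
    apply (E n).injective
    rw [hE, hE, ← pow_mul, ← pow_succ', hg, hg]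
  have hg_mem : ∀ n, g n ∈ (Ideal.span {f}).radical := fun n =>
    ⟨p ^ n, by rw [hg]; exact Ideal.mem_span_singleton_self f⟩
  have h2 : ∀ x ∈ (Ideal.span {f}).radical, ∃ n b, x = b * g n := by
    rintro x ⟨m, hm⟩
    obtain ⟨c, hc⟩ := Ideal.mem_span_singleton'.mp hm
    obtain ⟨n, hn⟩ : ∃ n, m ≤ p ^ n := ⟨m, (Nat.lt_pow_self hp.one_lt).le⟩
    refine ⟨n, (E n).symm (x ^ (p ^ n - m) * c), ?_⟩
    apply (E n).injective
    rw [map_mul, RingEquiv.apply_symm_apply, hE, hE, hg, mul_assoc, hc, ← pow_add,
      Nat.sub_add_cancel hn]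
  have h3 : ∀ n N, n ≤ N → ∃ e, g n = e * g N := by
    intro n N hnN
    induction N, hnN using Nat.le_induction with
    | base => exact ⟨1, (one_mul _).symm⟩
    | succ N _ ih =>
      obtain ⟨e, he⟩ := ih
      refine ⟨e * g (N + 1) ^ (p - 1), ?_⟩
      rw [he, ← hg_succ N, mul_assoc, ← pow_succ, Nat.sub_add_cancel hp.pos]
  apply Module.Flat.of_forall_isTrivialRelation
  intro l a x hax
  have h4 : ∀ i, ∃ n b, (x i : A) = b * g n := fun i => h2 _ (x i).2
  choose n b hb using h4
  let N := Finset.univ.sup n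
  have h5 : ∀ i, ∃ b', (x i : A) = b' * g (N + 1) := by
    intro i
    obtain ⟨e, he⟩ := h3 (n i) (N + 1)
      (le_trans (Finset.le_sup (Finset.mem_univ i)) (Nat.le_succ _))
    exact ⟨b i * e, by rw [hb i, he, mul_assoc]⟩
  choose b' hb' using h5
  set G := g (N + 2) with hGdef
  have hG : G ^ p = g (N + 1) := hg_succ (N + 1)
  have hGG : G ^ (p - 1) * G = g (N + 1) := by
    rw [← pow_succ, Nat.sub_add_cancel hp.pos, hG]
  refine ⟨1, fun i _ => b' i * G ^ (p - 1), fun _ => ⟨G, hg_mem _⟩, ?_, ?_⟩
  · intro i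
    apply Subtype.ext
    rw [Submodule.coe_sum]
    simp only [Finset.univ_unique, Finset.sum_singleton, Submodule.coe_smul, smul_eq_mul]
    rw [hb' i, mul_assoc, hGG]
  · intro j
    set s := ∑ i, a i * b' i with hs_def
    have hs : s * G ^ p = 0 := by
      have h0 := congrArg Subtype.val hax
      rw [Submodule.coe_sum] at h0
      simp only [Submodule.coe_smul, smul_eq_mul, ZeroMemClass.coe_zero] at h0
      rw [hG, hs_def, Finset.sum_mul, ← h0]
      apply Finset.sum_congr rfl
      intro i _
      rw [hb' i, mul_assoc]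
    have hpow : (s * G ^ (p - 1)) ^ p = 0 := by
      have e1 : (p - 1) * p = (p - 2) * p + p := by
        obtain ⟨q, rfl⟩ := Nat.exists_eq_add_of_le hp2
        simp only [Nat.add_sub_cancel_left]
        have : 2 + q - 1 = q + 1 := by omega
        rw [this]; ring
      have hs_p : s ^ p = s ^ (p - 1) * s := by rw [← pow_succ, Nat.sub_add_cancel hp.pos]
      calc (s * G ^ (p - 1)) ^ p = s ^ p * G ^ ((p - 1) * p) := by rw [mul_pow, ← pow_mul]
        _ = s ^ (p - 1) * G ^ ((p - 2) * p) * (s * G ^ p) := by
          rw [e1, pow_add, hs_p]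
          ring
        _ = 0 := by rw [hs, mul_zero]
    have h0 := hred _ hpow
    rw [← h0, hs_def, Finset.sum_mul]
    apply Finset.sum_congr rfl
    intro i _
    ring

end Groth.Agent.S14262
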