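import Groth.Statements.S14275
import Groth.Agent.Lib.Helper7.AdicRegular

set_option autoImplicit false
universe u
open CAlg

namespace Groth.Agent.S14275

open RingTheory.Sequence in
/-- Let A be a commutative ring, a an element of A with a-adic completion A^, and a_1, ..., a_n a weakly
regular sequence on A such that for each i = 0, ..., n the quotient A/(a_1, ..., a_i) has bounded
a-power torsion (some fixed power of a kills every element killed by a power of a). Then the images
of a_1, ..., a_n form a weakly regular sequence on A^, and the canonical map from A^ to the a-adic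
completion of A/(a_1, ..., a_n) is surjective with kernel the ideal generated by the images of a_1,
..., a_n. -/
theorem result (A : Type u) [CommRing A] (a : A) (rs : List A)
    (hreg : IsWeaklyRegular A rs)
    (hbd : ∀ i ≤ rs.length, ∃ N : ℕ, ∀ x : A ⧸ Ideal.ofList (rs.take i), (∃ m : ℕ, a ^ m • x = 0) → a ^ N • x = 0) :
    IsWeaklyRegular (AdicCompletion (Ideal.span {a}) A)
        (rs.map (algebraMap A (AdicCompletion (Ideal.span {a}) A))) ∧
      Function.Surjective (AdicCompletion.map (Ideal.span {a}) (Ideal.ofList rs).mkQ) ∧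
      LinearMap.ker (AdicCompletion.map (Ideal.span {a}) (Ideal.ofList rs).mkQ) =
        (Ideal.ofList rs).map (algebraMap A (AdicCompletion (Ideal.span {a}) A)) := by
  have heq : ∀ l : List A, (Ideal.ofList l • ⊤ : Submodule A A) = Ideal.ofList l := fun l => by
    rw [smul_eq_mul, Ideal.mul_top]
  have hbdd : ∀ i ≤ rs.length, Groth.Agent.Lib.Helper7.AdicRegular.BddTors a
      (A ⧸ (Ideal.ofList (rs.take i) • ⊤ : Submodule A A)) := by
    intro i hi
    have h1 : Groth.Agent.Lib.Helper7.AdicRegular.BddTors a (A ⧸ Ideal.ofList (rs.take i)) :=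
      hbd i hi
    exact h1.of_equiv a (Submodule.quotEquivOfEq _ _ (heq _).symm)
  obtain ⟨h1, h2⟩ := Groth.Agent.Lib.Helper7.AdicRegular.main a rs A hreg hbdd
  refine ⟨(isWeaklyRegular_map_algebraMap_iff (AdicCompletion (Ideal.span {a}) A)
      (AdicCompletion (Ideal.span {a}) A) rs).mpr h1,
    AdicCompletion.map_surjective _ (Submodule.mkQ_surjective _), ?_⟩
  ext y
  show AdicCompletion.map (Ideal.span {a}) (Ideal.ofList rs).mkQ y = 0 ↔ _
  have h3 : (Ideal.ofList rs).mkQ =
      (Submodule.quotEquivOfEq _ _ (heq rs)).toLinearMap ∘ₗ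
        Submodule.mkQ (Ideal.ofList rs • ⊤ : Submodule A A) := by
    ext m; rfl
  rw [h3, ← AdicCompletion.map_comp_apply,
    Groth.Agent.Lib.Helper7.AdicRegular.map_equiv_eq_zero_iff, h2 y, Ideal.smul_top_eq_map]
  rfl

end Groth.Agent.S14275
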