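import Groth.Statements.S14276
import Groth.Agent.Lib.Helper9.Tors1
import Groth.Agent.Lib.Helper27.SmBoot

set_option autoImplicit false
universe u
open CategoryTheory AlgebraicGeometry
open NonAbH1

namespace Groth.Agent.S14276

/-- Let X be a scheme and G a group scheme over X which is smooth over X. Then every G-torsor for the
fppf topology is locally trivial for the étale topology on X. Here a torsor is an X-scheme with an
action of G which is a pseudo-torsor and acquires sections on the members of some fppf covering
family of X, and the conclusion says that it acquires sections on the members of some étale covering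
family of X. (The published statement is about torsors in the sense of fppf sheaves; this row states
it for torsors that are schemes.) -/
theorem result {X : Scheme.{u}}
    (G : Over X) [GrpObj G] [Smooth G.hom] (P : Over X) (a : AlgGrp.Action G P)
    (h : NonAbH1.IsTorsorFor Scheme.fppfPrecoverage a) :
    NonAbH1.IsLocallyTrivialFor Scheme.etalePrecoverage P := by
  obtain ⟨hps, R, hR, hsec⟩ := h
  have hfpqc : NonAbH1.IsTorsorFor Scheme.fpqcPrecoverage a :=
    ⟨hps, R, Scheme.fppfPrecoverage_le_fpqcPrecoverage _ hR, hsec⟩
  have hsm : Smooth P.hom :=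
    Groth.Agent.Lib.Helper9.Tors.prop_hom_of_isTorsorFor_fpqc (P := @Smooth) a hfpqc inferInstance
  have hsurj : Function.Surjective P.hom := by
    intro x
    have hjs : R ∈ Scheme.jointlySurjectivePrecoverage X := hR.1
    rw [Presieve.mem_comap_jointlySurjectivePrecoverage_iff] at hjs
    obtain ⟨S', f, hf, s', hs'⟩ := hjs x
    obtain ⟨σ, hσ⟩ := hsec f hf
    exact ⟨σ s', by rw [← Scheme.Hom.comp_apply, hσ]; exact hs'⟩
  obtain ⟨T', g, σ, hg, hgs, hσ⟩ := Groth.Agent.Lib.Helper27.SmBoot.exists_etale_section P.hom hsurj
  refine ⟨Presieve.singleton g, ?_, ?_⟩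
  · change Presieve.singleton g ∈ Scheme.precoverage @Etale X
    rw [Scheme.singleton_mem_precoverage_iff]
    exact ⟨hgs, hg⟩
  · intro S' f hf
    cases hf
    exact ⟨σ, hσ⟩

end Groth.Agent.S14276
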