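import Groth.Statements.S14280
import Mathlib.LinearAlgebra.Eigenspace.Charpoly
import Mathlib.Analysis.Normed.Ring.InfiniteSum
import Mathlib.FieldTheory.IsAlgClosed.Basic
import Mathlib.Analysis.Complex.Polynomial.Basic

set_option autoImplicit false
universe u
open SpSeq

namespace Groth.Agent.S14280

/-- Let E^{p,q} (p, q ≥ 0) be finite-dimensional complex vector spaces each carrying an endomorphism Φ,
and suppose that for a natural number N and functions a, c ≥ 0 (real) and b, d (natural numbers) one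
has E^{p,q} = 0 for q > N, |μ| ≤ a(q)c(p) for every eigenvalue μ of Φ on E^{p,q}, and dim E^{p,q} ≤
b(q)d(p). If Σ_p c(p)d(p) converges then the family of traces tr(Φ | E^{p,q}) is absolutely summable
over all pairs (p, q). (The published statement takes a and b defined on {0, …, N} only; here they
are functions on all natural numbers, which changes nothing since E^{p,q} = 0 for q > N.) -/
theorem result
    (E : ℕ → ℕ → Type u) [∀ p q, AddCommGroup (E p q)] [∀ p q, Module ℂ (E p q)]
    [∀ p q, FiniteDimensional ℂ (E p q)] (Φ : ∀ p q, E p q →ₗ[ℂ] E p q)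
    (N : ℕ) (a c : ℕ → ℝ) (b d : ℕ → ℕ) (ha : ∀ q, 0 ≤ a q) (hc : ∀ p, 0 ≤ c p)
    (h1 : ∀ p q, N < q → Subsingleton (E p q))
    (h2 : ∀ p q (μ : ℂ), Module.End.HasEigenvalue (Φ p q) μ → ‖μ‖ ≤ a q * c p)
    (h3 : ∀ p q, Module.finrank ℂ (E p q) ≤ b q * d p)
    (hsum : Summable fun p : ℕ => c p * (d p : ℝ)) :
    Summable fun pq : ℕ × ℕ => ‖LinearMap.trace ℂ (E pq.1 pq.2) (Φ pq.1 pq.2)‖ := by
  classical
  have hbound : ∀ p q, ‖LinearMap.trace ℂ (E p q) (Φ p q)‖ ≤
      (Module.finrank ℂ (E p q) : ℝ) * (a q * c p) := by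
    intro p q
    have hsplit : (Φ p q).charpoly.Splits := IsAlgClosed.splits _
    have htr : LinearMap.trace ℂ (E p q) (Φ p q) = (Φ p q).charpoly.roots.sum :=
      Module.End.trace_eq_sum_roots_charpoly_of_splits hsplit
    rw [htr]
    have hcard : Multiset.card (Φ p q).charpoly.roots = Module.finrank ℂ (E p q) := by
      rw [← hsplit.natDegree_eq_card_roots, LinearMap.charpoly_natDegree]
    calc ‖(Φ p q).charpoly.roots.sum‖ ≤ ((Φ p q).charpoly.roots.map fun μ => ‖μ‖).sum :=
          norm_multiset_sum_le _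
      _ ≤ Multiset.card ((Φ p q).charpoly.roots.map fun μ => ‖μ‖) • (a q * c p) := by
          apply Multiset.sum_le_card_nsmul
          intro x hx
          obtain ⟨μ, hμ, rfl⟩ := Multiset.mem_map.1 hx
          apply h2 p q μ
          rw [Module.End.hasEigenvalue_iff_isRoot_charpoly]
          exact (Polynomial.mem_roots'.1 hμ).2
      _ = (Module.finrank ℂ (E p q) : ℝ) * (a q * c p) := by
          rw [Multiset.card_map, hcard, nsmul_eq_mul]
  let f' : ℕ → ℝ := fun q => if q ≤ N then a q * (b q : ℝ) else 0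
  have hf' : Summable f' := by
    apply summable_of_ne_finset_zero (s := Finset.range (N + 1))
    intro q hq
    have : ¬ q ≤ N := by
      intro h
      exact hq (Finset.mem_range.2 (Nat.lt_succ_of_le h))
    simp [f', this]
  have hf'0 : 0 ≤ f' := by
    intro q
    simp only [f', Pi.zero_apply]
    split_ifs
    · exact mul_nonneg (ha q) (Nat.cast_nonneg _)
    · exact le_rfl
  have hg0 : 0 ≤ fun p : ℕ => c p * (d p : ℝ) := fun p => mul_nonneg (hc p) (Nat.cast_nonneg _)
  have hprod := hsum.mul_of_nonneg hf' hg0 hf'0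
  refine Summable.of_nonneg_of_le (fun _ => norm_nonneg _) ?_ hprod
  rintro ⟨p, q⟩
  simp only [f']
  by_cases hq : q ≤ N
  · rw [if_pos hq]
    refine (hbound p q).trans ?_
    have h3' : (Module.finrank ℂ (E p q) : ℝ) ≤ (b q : ℝ) * (d p : ℝ) := by
      exact_mod_cast h3 p q
    calc (Module.finrank ℂ (E p q) : ℝ) * (a q * c p) ≤ ((b q : ℝ) * (d p : ℝ)) * (a q * c p) :=
          mul_le_mul_of_nonneg_right h3' (mul_nonneg (ha q) (hc p))
      _ = c p * (d p : ℝ) * (a q * (b q : ℝ)) := by ring
  · rw [if_neg hq, mul_zero]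
    haveI := h1 p q (not_le.1 hq)
    have : Φ p q = 0 := Subsingleton.elim _ _
    rw [this, map_zero, norm_zero]

end Groth.Agent.S14280
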