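import Groth.Statements.S14284
import Mathlib

set_option autoImplicit false
universe u
open CategoryTheory CategoryTheory.Limits
open SpSeq

namespace Groth.Agent.S14284

section Aux
universe v
open CategoryTheory CategoryTheory.Limits

section Copy
section Lin
variable {A : Type v} [CommRing A]

/-- block decomposition of the trace on a product -/
theorem trace_prod_eq {N Q : Type u} [AddCommGroup N] [Module A N] [AddCommGroup Q] [Module A Q]
    [Module.Free A N] [Module.Finite A N] [Module.Free A Q] [Module.Finite A Q]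
    (T : N × Q →ₗ[A] N × Q) :
    LinearMap.trace A (N × Q) T =
      LinearMap.trace A N (LinearMap.fst A N Q ∘ₗ T ∘ₗ LinearMap.inl A N Q) +
      LinearMap.trace A Q (LinearMap.snd A N Q ∘ₗ T ∘ₗ LinearMap.inr A N Q) := by
  have h1 : T = (T ∘ₗ LinearMap.inl A N Q) ∘ₗ LinearMap.fst A N Q +
      (T ∘ₗ LinearMap.inr A N Q) ∘ₗ LinearMap.snd A N Q := by
    apply LinearMap.ext
    rintro ⟨x, y⟩
    simp only [LinearMap.add_apply, LinearMap.coe_comp, Function.comp_apply, LinearMap.fst_apply,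
      LinearMap.snd_apply, LinearMap.inl_apply, LinearMap.inr_apply, ← map_add]
    simp
  conv_lhs => rw [h1]
  rw [map_add, LinearMap.trace_comp_comm', LinearMap.trace_comp_comm' (LinearMap.snd A N Q)]

/-- additivity of the trace on short exact sequences of finite free modules -/
theorem trace_exact {N M Q : Type u} [AddCommGroup N] [Module A N] [AddCommGroup M] [Module A M]
    [AddCommGroup Q] [Module A Q]
    [Module.Free A N] [Module.Finite A N] [Module.Free A Q] [Module.Finite A Q]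
    (i : N →ₗ[A] M) (p : M →ₗ[A] Q) (hi : Function.Injective i) (hp : Function.Surjective p)
    (H : Function.Exact i p) (tN : N →ₗ[A] N) (tM : M →ₗ[A] M) (tQ : Q →ₗ[A] Q)
    (h1 : ∀ x, i (tN x) = tM (i x)) (h2 : ∀ x, p (tM x) = tQ (p x)) :
    LinearMap.trace A M tM = LinearMap.trace A N tN + LinearMap.trace A Q tQ := by
  obtain ⟨l, hl⟩ := Module.projective_lifting_property p LinearMap.id hp
  obtain ⟨e, he1, he2⟩ := H.splitSurjectiveEquiv hi ⟨l, hl⟩
  rw [← LinearMap.trace_conj' tM e, trace_prod_eq]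
  congr 1
  · congr 1
    ext x
    simp only [LinearMap.coe_comp, Function.comp_apply, LinearMap.inl_apply, LinearMap.fst_apply,
      LinearEquiv.conj_apply, LinearEquiv.coe_coe]
    have : e.symm (x, 0) = i x := by rw [he1]; simp
    rw [this, ← h1]
    have : i (tN x) = e.symm (tN x, 0) := by rw [he1]; simp
    rw [this]; simp
  · congr 1
    ext x
    simp only [LinearMap.coe_comp, Function.comp_apply, LinearMap.inr_apply, LinearMap.snd_apply,
      LinearEquiv.conj_apply, LinearEquiv.coe_coe]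
    have hp' : ∀ y, (e y).2 = p y := by intro y; rw [he2]; simp
    rw [hp', h2, ← hp']; simp

/-- trace of the restriction of `t` to a submodule `p` (zero if `p` is not stable) -/
noncomputable def rtr {M : Type u} [AddCommGroup M] [Module A M] (p : Submodule A M) (t : M →ₗ[A] M) : A :=
  open Classical in
  if h : ∀ x ∈ p, t x ∈ p then LinearMap.trace A p (t.restrict h) else 0

theorem rtr_eq {M : Type u} [AddCommGroup M] [Module A M] (p : Submodule A M) (t : M →ₗ[A] M)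
    (h : ∀ x ∈ p, t x ∈ p) : rtr p t = LinearMap.trace A p (t.restrict h) := by
  unfold rtr; rw [dif_pos h]

theorem rtr_bot {M : Type u} [AddCommGroup M] [Module A M] (t : M →ₗ[A] M) :
    rtr (⊥ : Submodule A M) t = 0 := by
  have h : ∀ x ∈ (⊥ : Submodule A M), t x ∈ (⊥ : Submodule A M) := by
    intro x hx; rw [Submodule.mem_bot] at hx ⊢; rw [hx, map_zero]
  rw [rtr_eq _ _ h]
  have : t.restrict h = 0 := by
    ext x
  rw [this, map_zero]

end Lin

section SC
variable {A : Type v} [CommRing A]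

theorem stable_ker (S : ShortComplex (ModuleCat.{u} A)) (φ : S ⟶ S) :
    ∀ x ∈ LinearMap.ker S.g.hom, φ.τ₂.hom x ∈ LinearMap.ker S.g.hom := by
  intro x hx
  rw [LinearMap.mem_ker] at hx ⊢
  have := congrArg (fun f => f.hom x) φ.comm₂₃
  simp only [ModuleCat.hom_comp, LinearMap.comp_apply] at this
  rw [this, hx, map_zero]

theorem stable_range_g (S : ShortComplex (ModuleCat.{u} A)) (φ : S ⟶ S) :
    ∀ x ∈ LinearMap.range S.g.hom, φ.τ₃.hom x ∈ LinearMap.range S.g.hom := by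
  rintro _ ⟨y, rfl⟩
  refine ⟨φ.τ₂.hom y, ?_⟩
  have := congrArg (fun f => f.hom y) φ.comm₂₃
  simp only [ModuleCat.hom_comp, LinearMap.comp_apply] at this
  exact this

theorem stable_range_f (S : ShortComplex (ModuleCat.{u} A)) (φ : S ⟶ S) :
    ∀ x ∈ LinearMap.range S.f.hom, φ.τ₂.hom x ∈ LinearMap.range S.f.hom := by
  rintro _ ⟨y, rfl⟩
  refine ⟨φ.τ₁.hom y, ?_⟩
  have := congrArg (fun f => f.hom y) φ.comm₁₂
  simp only [ModuleCat.hom_comp, LinearMap.comp_apply] at this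
  exact this

/-- first trace identity -/
theorem trace_sc1 (S : ShortComplex (ModuleCat.{u} A)) (φ : S ⟶ S)
    [Module.Free A (LinearMap.ker S.g.hom)] [Module.Finite A (LinearMap.ker S.g.hom)]
    [Module.Free A (LinearMap.range S.g.hom)] [Module.Finite A (LinearMap.range S.g.hom)] :
    LinearMap.trace A S.X₂ φ.τ₂.hom =
      rtr (LinearMap.ker S.g.hom) φ.τ₂.hom + rtr (LinearMap.range S.g.hom) φ.τ₃.hom := by
  rw [rtr_eq _ _ (stable_ker S φ), rtr_eq _ _ (stable_range_g S φ)]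
  refine trace_exact (LinearMap.ker S.g.hom).subtype S.g.hom.rangeRestrict
    (Submodule.injective_subtype _) (LinearMap.surjective_rangeRestrict _) ?_ _ _ _ ?_ ?_
  · intro x
    constructor
    · intro hx
      refine ⟨⟨x, ?_⟩, rfl⟩
      have := congrArg Subtype.val hx
      simpa using this
    · rintro ⟨y, rfl⟩
      apply Subtype.ext
      simpa using y.2
  · intro x; rfl
  · intro x
    apply Subtype.ext
    have := congrArg (fun f => f.hom x) φ.comm₂₃
    simp only [ModuleCat.hom_comp, LinearMap.comp_apply] at this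
    exact this

/-- second trace identity -/
theorem trace_sc2 (S : ShortComplex (ModuleCat.{u} A)) (φ : S ⟶ S)
    [Module.Free A (LinearMap.ker S.g.hom)] [Module.Finite A (LinearMap.ker S.g.hom)]
    [Module.Free A (LinearMap.range S.f.hom)] [Module.Finite A (LinearMap.range S.f.hom)]
    [Module.Free A S.homology] [Module.Finite A S.homology] :
    rtr (LinearMap.ker S.g.hom) φ.τ₂.hom =
      rtr (LinearMap.range S.f.hom) φ.τ₂.hom +
        LinearMap.trace A S.homology (ShortComplex.homologyMap φ).hom := by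
  rw [rtr_eq _ _ (stable_ker S φ), rtr_eq _ _ (stable_range_f S φ)]
  set K := LinearMap.ker S.g.hom with hK
  set tK : K →ₗ[A] K := φ.τ₂.hom.restrict (stable_ker S φ) with htK
  set R' : Submodule A K := LinearMap.range S.moduleCatToCycles with hR'
  have hcomm : ∀ y : S.X₁, tK (S.moduleCatToCycles y) = S.moduleCatToCycles (φ.τ₁.hom y) := by
    intro y
    apply Subtype.ext
    have := congrArg (fun f => f.hom y) φ.comm₁₂
    simp only [ModuleCat.hom_comp, LinearMap.comp_apply] at this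
    exact this.symm
  have hstab : ∀ x ∈ R', tK x ∈ R' := by
    rintro _ ⟨y, rfl⟩
    exact ⟨φ.τ₁.hom y, (hcomm y).symm⟩
  have hstab' : R' ≤ R'.comap tK := fun x hx => hstab x hx
  -- equivalences
  have hmap : Submodule.map K.subtype R' = LinearMap.range S.f.hom := by
    ext x
    constructor
    · rintro ⟨y, ⟨z, rfl⟩, rfl⟩
      exact ⟨z, rfl⟩
    · rintro ⟨z, rfl⟩
      exact ⟨S.moduleCatToCycles z, ⟨z, rfl⟩, rfl⟩
  let eR : R' ≃ₗ[A] LinearMap.range S.f.hom :=
    (Submodule.equivMapOfInjective _ (Submodule.injective_subtype _) _).trans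
      (LinearEquiv.ofEq _ _ hmap)
  let eH : S.homology ≃ₗ[A] (K ⧸ R') := S.moduleCatHomologyIso.toLinearEquiv
  have : Module.Free A R' := Module.Free.of_equiv eR.symm
  have : Module.Finite A R' := Module.Finite.equiv eR.symm
  have : Module.Free A (K ⧸ R') := Module.Free.of_equiv eH
  have : Module.Finite A (K ⧸ R') := Module.Finite.equiv eH
  have h1 := trace_exact R'.subtype R'.mkQ (Submodule.injective_subtype _)
    (Submodule.mkQ_surjective _) (LinearMap.exact_subtype_mkQ _) (tK.restrict hstab) tK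
    (R'.mapQ R' tK hstab') (fun x => rfl) (fun x => rfl)
  rw [h1]
  congr 1
  · rw [← LinearMap.trace_conj' (tK.restrict hstab) eR]
    congr 1
    apply LinearMap.ext
    intro x
    obtain ⟨y, rfl⟩ := eR.surjective x
    rw [LinearEquiv.conj_apply_apply, LinearEquiv.symm_apply_apply]
    apply Subtype.ext
    rfl
  · -- homology
    let h := S.moduleCatLeftHomologyData
    let γ : ShortComplex.LeftHomologyMapData φ h h :=
      { φK := ModuleCat.ofHom tK
        φH := ModuleCat.ofHom (R'.mapQ R' tK hstab')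
        commi := by
          ext x
          rfl
        commf' := by
          ext y
          exact hcomm y
        commπ := by
          ext x
          rfl }
    have hγ := γ.homologyMap_eq
    have : (ShortComplex.homologyMap φ).hom = eH.symm.conj (R'.mapQ R' tK hstab') := by
      rw [hγ]
      ext x
      rfl
    rw [this, LinearMap.trace_conj']

end SC
end Copy

section LinAlg
variable {V : Type u} [AddCommGroup V] [Module ℂ V] [Module.Finite ℂ V]

theorem norm_trace_le (T : Module.End ℂ V) (b : ℝ)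
    (hT : ∀ μ : ℂ, T.HasEigenvalue μ → ‖μ‖ ≤ b) :
    ‖LinearMap.trace ℂ V T‖ ≤ (Module.finrank ℂ V : ℝ) * b := by
  have hs : T.charpoly.Splits := IsAlgClosed.splits _
  rw [Module.End.trace_eq_sum_roots_charpoly_of_splits hs]
  refine (norm_multiset_sum_le _).trans ?_
  have h1 : ∀ x ∈ T.charpoly.roots.map (fun z => ‖z‖), x ≤ b := by
    intro x hx
    obtain ⟨z, hz, rfl⟩ := Multiset.mem_map.mp hx
    apply hT
    rw [Module.End.hasEigenvalue_iff_isRoot_charpoly]
    exact (Polynomial.mem_roots'.mp hz).2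
  refine (Multiset.sum_le_card_nsmul _ _ h1).trans ?_
  rw [Multiset.card_map, Polynomial.splits_iff_card_roots.mp hs, LinearMap.charpoly_natDegree,
    nsmul_eq_mul]

omit [Module.Finite ℂ V] in
/-- an eigenvalue of the restriction to a stable subspace is an eigenvalue -/
theorem hasEigenvalue_of_restrict (T : Module.End ℂ V) (p : Submodule ℂ V)
    (hp : ∀ x ∈ p, T x ∈ p) (μ : ℂ) (h : Module.End.HasEigenvalue (T.restrict hp) μ) :
    T.HasEigenvalue μ := by
  obtain ⟨v, hv⟩ := h.exists_hasEigenvector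
  refine Module.End.hasEigenvalue_of_hasEigenvector (x := (v : V)) ⟨?_, ?_⟩
  · rw [Module.End.mem_eigenspace_iff]
    have := congrArg Subtype.val (Module.End.mem_eigenspace_iff.mp hv.1)
    simpa using this
  · intro h0
    exact hv.2 (Subtype.ext h0)

omit [Module.Finite ℂ V] in
theorem hasEigenvalue_of_subquotient {K W : Type u} [AddCommGroup K] [Module ℂ K]
    [Module.Finite ℂ K] [AddCommGroup W] [Module ℂ W] [Module.Finite ℂ W]
    (i : K →ₗ[ℂ] V) (q : K →ₗ[ℂ] W) (hi : Function.Injective i) (hq : Function.Surjective q)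
    (TV : Module.End ℂ V) (TK : Module.End ℂ K) (TW : Module.End ℂ W)
    (h1 : ∀ x, i (TK x) = TV (i x)) (h2 : ∀ x, q (TK x) = TW (q x)) (μ : ℂ)
    (h : TW.HasEigenvalue μ) : TV.HasEigenvalue μ := by
  by_contra hV
  rw [Module.End.hasEigenvalue_iff, not_not, Module.End.eigenspace_def, LinearMap.ker_eq_bot] at hV
  have hK : Function.Injective (TK - μ • (1 : Module.End ℂ K)) := by
    intro x y hxy
    apply hi
    apply hV
    have := congrArg i hxy
    simpa [h1] using this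
  have hK' : Function.Surjective (TK - μ • (1 : Module.End ℂ K)) := LinearMap.injective_iff_surjective.mp hK
  have hW : Function.Surjective (TW - μ • (1 : Module.End ℂ W)) := by
    intro w
    obtain ⟨k, rfl⟩ := hq w
    obtain ⟨k', rfl⟩ := hK' k
    refine ⟨q k', ?_⟩
    simp [h2]
  have hW' : Function.Injective (TW - μ • (1 : Module.End ℂ W)) := LinearMap.injective_iff_surjective.mpr hW
  rw [Module.End.hasEigenvalue_iff, Module.End.eigenspace_def] at h
  exact h (LinearMap.ker_eq_bot.mpr hW')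

end LinAlg

section Fun

abbrev R := Polynomial ℂ
noncomputable abbrev F : ModuleCat.{u} R ⥤ ModuleCat.{u} ℂ := ModuleCat.restrictScalars (algebraMap ℂ R)
noncomputable abbrev Φ (M : ModuleCat.{u} R) : Module.End ℂ (F.obj M) :=
  (F.map ((Polynomial.X : R) • 𝟙 M)).hom

theorem Φ_comm {M M' : ModuleCat.{u} R} (f : M ⟶ M') (x : F.obj M) :
    (F.map f).hom (Φ M x) = Φ M' ((F.map f).hom x) :=
  map_smul f.hom (Polynomial.X : R) x

theorem inj_of_mono {M M' : ModuleCat.{u} R} (f : M ⟶ M') [Mono f] :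
    Function.Injective (F.map f).hom :=
  (ModuleCat.mono_iff_injective f).mp inferInstance

theorem surj_of_epi {M M' : ModuleCat.{u} R} (f : M ⟶ M') [Epi f] :
    Function.Surjective (F.map f).hom :=
  (ModuleCat.epi_iff_surjective f).mp inferInstance

theorem subq {A B C : ModuleCat.{u} R} (i : B ⟶ A) (q : B ⟶ C) [Mono i] [Epi q]
    [Module.Finite ℂ (F.obj A)] :
    Module.Finite ℂ (F.obj C) ∧ Module.finrank ℂ (F.obj C) ≤ Module.finrank ℂ (F.obj A) ∧
    ∀ μ, (Φ C).HasEigenvalue μ → (Φ A).HasEigenvalue μ := by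
  have hB : Module.Finite ℂ (F.obj B) := Module.Finite.of_injective (F.map i).hom (inj_of_mono i)
  have hC : Module.Finite ℂ (F.obj C) := Module.Finite.of_surjective (F.map q).hom (surj_of_epi q)
  refine ⟨hC, ?_, ?_⟩
  · exact (LinearMap.finrank_le_finrank_of_surjective (surj_of_epi q)).trans
      (LinearMap.finrank_le_finrank_of_injective (inj_of_mono i))
  · intro μ hμ
    exact hasEigenvalue_of_subquotient (F.map i).hom (F.map q).hom (inj_of_mono i) (surj_of_epi q)
      (Φ A) (Φ B) (Φ C) (fun x => Φ_comm i x) (fun x => Φ_comm q x) μ hμ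

/-- the homology of a short complex, and anything isomorphic to it -/
theorem subq_homology (S : ShortComplex (ModuleCat.{u} R)) {Y : ModuleCat.{u} R}
    (e : S.homology ≅ Y) [Module.Finite ℂ (F.obj S.X₂)] :
    Module.Finite ℂ (F.obj Y) ∧ Module.finrank ℂ (F.obj Y) ≤ Module.finrank ℂ (F.obj S.X₂) ∧
    ∀ μ, (Φ Y).HasEigenvalue μ → (Φ S.X₂).HasEigenvalue μ :=
  subq S.iCycles (S.homologyπ ≫ e.hom)

theorem tr_iso {M M' : ModuleCat.{u} ℂ} (e : M ≅ M') (t : M ⟶ M) (t' : M' ⟶ M')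
    (h : t ≫ e.hom = e.hom ≫ t') :
    LinearMap.trace ℂ M t.hom = LinearMap.trace ℂ M' t'.hom := by
  have : t'.hom = e.toLinearEquiv.conj t.hom := by
    apply LinearMap.ext
    intro x
    obtain ⟨y, rfl⟩ := e.toLinearEquiv.surjective x
    rw [LinearEquiv.conj_apply_apply, LinearEquiv.symm_apply_apply]
    have := congrArg (fun f => f.hom y) h
    simp only [ModuleCat.hom_comp, LinearMap.comp_apply] at this
    exact this.symm
  rw [this, LinearMap.trace_conj']

theorem tr_isoR {M M' : ModuleCat.{u} R} (e : M ≅ M') :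
    LinearMap.trace ℂ _ (Φ M) = LinearMap.trace ℂ _ (Φ M') := by
  refine tr_iso (F.mapIso e) (F.map ((Polynomial.X : R) • 𝟙 M)) (F.map ((Polynomial.X : R) • 𝟙 M')) ?_
  rw [Functor.mapIso_hom, ← F.map_comp, ← F.map_comp]
  congr 1
  simp

theorem tr_sc (S : ShortComplex (ModuleCat.{u} R)) [Module.Finite ℂ (F.obj S.X₂)] :
    LinearMap.trace ℂ _ (Φ S.X₂) =
      rtr (M := F.obj S.X₂) (LinearMap.range (F.map S.f).hom) (Φ S.X₂) +
        LinearMap.trace ℂ _ (Φ S.homology) +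
      rtr (M := F.obj S.X₃) (LinearMap.range (F.map S.g).hom) (Φ S.X₃) := by
  let S' : ShortComplex (ModuleCat.{u} ℂ) := S.map F
  let φ' : S' ⟶ S' := F.mapShortComplex.map ((Polynomial.X : R) • 𝟙 S)
  have hfin : Module.Finite ℂ S'.X₂ := ‹_›
  have hH : Module.Finite ℂ (F.obj S.homology) := (subq_homology S (Iso.refl _)).1
  have hH' : Module.Finite ℂ S'.homology :=
    Module.Finite.equiv (S.mapHomologyIso F).toLinearEquiv.symm
  have h1 := trace_sc1 S' φ'
  have h2 := trace_sc2 S' φ'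
  have h3 : LinearMap.trace ℂ S'.homology (ShortComplex.homologyMap φ').hom =
      LinearMap.trace ℂ _ (Φ S.homology) := by
    refine tr_iso (S.mapHomologyIso F) _ _ ?_
    rw [ShortComplex.mapHomologyIso_hom_naturality]
    congr 2
    rw [ShortComplex.homologyMap_smul, ShortComplex.homologyMap_id]
  rw [h2, h3] at h1
  exact h1

end Fun

section Cx
variable {w : ℤ × ℤ} (K : HomologicalComplex (ModuleCat.{u} R) (ComplexShape.up' w))

/-- trace of Φ on the image of `d i j` -/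
noncomputable def tB (i j : ℤ × ℤ) : ℂ :=
  rtr (M := F.obj (K.X j)) (LinearMap.range (F.map (K.d i j)).hom) (Φ (K.X j))

theorem tr_cx (pq : ℤ × ℤ) [Module.Finite ℂ (F.obj (K.X pq))] :
    LinearMap.trace ℂ _ (Φ (K.X pq)) =
      tB K (pq - w) pq + LinearMap.trace ℂ _ (Φ (K.homology pq)) + tB K pq (pq + w) := by
  have hfin : Module.Finite ℂ (F.obj (K.sc pq).X₂) := ‹_›
  have h := tr_sc (K.sc pq)
  have hnext : (ComplexShape.up' w).next pq = pq + w := (ComplexShape.up' w).next_eq' rfl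
  have hprev : (ComplexShape.up' w).prev pq = pq - w :=
    (ComplexShape.up' w).prev_eq' (sub_add_cancel pq w)
  have h' : LinearMap.trace ℂ _ (Φ (K.X pq)) =
      tB K ((ComplexShape.up' w).prev pq) pq + LinearMap.trace ℂ _ (Φ (K.homology pq)) +
        tB K pq ((ComplexShape.up' w).next pq) := h
  rw [hnext, hprev] at h'
  exact h'

theorem tB_zero (i j : ℤ × ℤ) (h : K.d i j = 0) : tB K i j = 0 := by
  unfold tB
  rw [h]
  have : LinearMap.range (F.map (0 : K.X i ⟶ K.X j)).hom = ⊥ := by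
    rw [F.map_zero, ModuleCat.hom_zero, LinearMap.range_zero]
  rw [this, rtr_bot]

theorem tB_stable (i j : ℤ × ℤ) :
    ∀ x ∈ LinearMap.range (F.map (K.d i j)).hom, Φ (K.X j) x ∈ LinearMap.range (F.map (K.d i j)).hom := by
  rintro _ ⟨y, rfl⟩
  exact ⟨Φ (K.X i) y, Φ_comm (K.d i j) y⟩

theorem tB_bound (i j : ℤ × ℤ) [Module.Finite ℂ (F.obj (K.X j))] (β : ℝ) (hβ : 0 ≤ β)
    (hev : ∀ μ, (Φ (K.X j)).HasEigenvalue μ → ‖μ‖ ≤ β) :
    ‖tB K i j‖ ≤ (Module.finrank ℂ (F.obj (K.X j)) : ℝ) * β := by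
  unfold tB
  rw [rtr_eq _ _ (tB_stable K i j)]
  refine (norm_trace_le _ β (fun μ hμ => hev μ (hasEigenvalue_of_restrict _ _ _ μ hμ))).trans ?_
  refine mul_le_mul_of_nonneg_right ?_ hβ
  exact_mod_cast Submodule.finrank_le _

end Cx

section Main

def Bd (Y : ℤ × ℤ → ModuleCat.{u} R) (N : ℕ) (a c : ℕ → ℝ) (b d : ℕ → ℕ) : Prop :=
  (∀ pq : ℤ × ℤ, pq.1 < 0 ∨ pq.2 < 0 → IsZero (Y pq)) ∧
  (∀ pq : ℤ × ℤ, Module.Finite ℂ (F.obj (Y pq))) ∧
  (∀ p q : ℕ, N < q → IsZero (Y ((p : ℤ), (q : ℤ)))) ∧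
  (∀ (p q : ℕ) (μ : ℂ), Module.End.HasEigenvalue (Φ (Y ((p : ℤ), (q : ℤ)))) μ → ‖μ‖ ≤ a q * c p) ∧
  (∀ p q : ℕ, Module.finrank ℂ (F.obj (Y ((p : ℤ), (q : ℤ)))) ≤ b q * d p)

theorem main_gen (w : ℤ × ℤ) (hw : w.1 + w.2 = 1)
    (K : HomologicalComplex (ModuleCat.{u} R) (ComplexShape.up' w))
    (Y : ℤ × ℤ → ModuleCat.{u} R) (e : ∀ pq, K.homology pq ≅ Y pq)
    (N : ℕ) (a c : ℕ → ℝ) (b d : ℕ → ℕ) (ha : ∀ q, 0 ≤ a q) (hc : ∀ p, 0 ≤ c p)
    (hsum : Summable fun p : ℕ => c p * (d p : ℝ))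
    (h : Bd K.X N a c b d) :
    Bd Y N a c b d ∧
      ∑' pq : ℕ × ℕ, (-1 : ℂ) ^ (pq.1 + pq.2) *
          LinearMap.trace ℂ _ (Φ (Y ((pq.1 : ℤ), (pq.2 : ℤ)))) =
        ∑' pq : ℕ × ℕ, (-1 : ℂ) ^ (pq.1 + pq.2) *
          LinearMap.trace ℂ _ (Φ (K.X ((pq.1 : ℤ), (pq.2 : ℤ)))) := by
  obtain ⟨h1, h2, h3, h4, h5⟩ := h
  have key : ∀ pq, Module.Finite ℂ (F.obj (Y pq)) ∧
      Module.finrank ℂ (F.obj (Y pq)) ≤ Module.finrank ℂ (F.obj (K.X pq)) ∧
      ∀ μ, (Φ (Y pq)).HasEigenvalue μ → (Φ (K.X pq)).HasEigenvalue μ := fun pq => by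
    have hfin : Module.Finite ℂ (F.obj (K.sc pq).X₂) := h2 pq
    exact subq_homology (K.sc pq) (e pq)
  have hz : ∀ pq, IsZero (K.X pq) → IsZero (Y pq) := fun pq hz =>
    IsZero.of_iso (ShortComplex.isZero_homology_of_isZero_X₂ _ hz) (e pq).symm
  refine ⟨⟨fun pq hpq => hz pq (h1 pq hpq), fun pq => (key pq).1, fun p q hq => hz _ (h3 p q hq),
    fun p q μ hμ => h4 p q μ ((key _).2.2 μ hμ), fun p q => ((key _).2.1).trans (h5 p q)⟩, ?_⟩
  -- the sum
  let ι : ℕ × ℕ → ℤ × ℤ := fun x => ((x.1 : ℤ), (x.2 : ℤ))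
  have hι : Function.Injective ι := by
    intro x y hxy
    simp only [ι, Prod.mk.injEq, Nat.cast_inj] at hxy
    exact Prod.ext hxy.1 hxy.2
  have hι' : Function.Injective (fun x => ι x + w) := fun x y hxy => hι (add_right_cancel hxy)
  have hrange : ∀ y : ℤ × ℤ, y ∉ Set.range ι → y.1 < 0 ∨ y.2 < 0 := by
    intro y hy
    by_contra hcon
    push Not at hcon
    apply hy
    refine ⟨(y.1.toNat, y.2.toNat), ?_⟩
    simp only [ι]
    ext
    · simp [hcon.1]
    · simp [hcon.2]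
  let sg : ℤ × ℤ → ℂ := fun y => (-1 : ℂ) ^ (y.1 + y.2)
  have hsgι : ∀ x : ℕ × ℕ, sg (ι x) = (-1 : ℂ) ^ (x.1 + x.2) := by
    intro x
    simp only [sg, ι]
    rw [← Nat.cast_add, zpow_natCast]
  have hsgw : ∀ y, sg (y + w) = - sg y := by
    intro y
    simp only [sg, Prod.fst_add, Prod.snd_add]
    have : y.1 + w.1 + (y.2 + w.2) = (y.1 + y.2) + 1 := by linarith
    rw [this, zpow_add₀ (by norm_num : (-1 : ℂ) ≠ 0), zpow_one]
    ring
  have hsgn : ∀ y, ‖sg y‖ = 1 := by
    intro y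
    simp only [sg, norm_zpow, norm_neg, norm_one, one_zpow]
  let T : ℤ × ℤ → ℂ := fun y => tB K (y - w) y
  let g : ℤ × ℤ → ℂ := fun y => sg y * T y
  have hT0 : ∀ y, (IsZero (K.X y) ∨ IsZero (K.X (y - w))) → T y = 0 := by
    intro y hy
    apply tB_zero
    rcases hy with hy | hy
    · exact hy.eq_of_tgt _ _
    · exact hy.eq_of_src _ _
  have hg0 : ∀ y, y ∉ Set.range ι → g y = 0 := by
    intro y hy
    simp only [g]
    rw [hT0 y (Or.inl (h1 y (hrange y hy))), mul_zero]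
  have hg0' : ∀ y, y ∉ Set.range (fun x => ι x + w) → g y = 0 := by
    intro y hy
    simp only [g]
    have : y - w ∉ Set.range ι := by
      rintro ⟨x, hx⟩
      exact hy ⟨x, by simp only [hx, sub_add_cancel]⟩
    rw [hT0 y (Or.inr (h1 _ (hrange _ this))), mul_zero]
  -- per-term identity
  have hterm : ∀ x : ℕ × ℕ, (-1 : ℂ) ^ (x.1 + x.2) * LinearMap.trace ℂ _ (Φ (K.X (ι x))) =
      g (ι x) + (-1 : ℂ) ^ (x.1 + x.2) * LinearMap.trace ℂ _ (Φ (Y (ι x))) - g (ι x + w) := by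
    intro x
    have hfin : Module.Finite ℂ (F.obj (K.X (ι x))) := h2 _
    have := tr_cx K (ι x)
    rw [tr_isoR (e (ι x))] at this
    have hT : tB K (ι x) (ι x + w) = T (ι x + w) := by
      simp only [T]
      rw [add_sub_cancel_right]
    rw [hT] at this
    simp only [g]
    rw [hsgw, ← hsgι, this]
    ring
  -- summability
  let u : ℕ × ℕ → ℝ := fun x => (c x.1 * (d x.1 : ℝ)) * (if x.2 ≤ N then (b x.2 : ℝ) * a x.2 else 0)
  have hu : Summable u := by
    have hg' : Summable (fun q : ℕ => if q ≤ N then (b q : ℝ) * a q else 0) := by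
      refine summable_of_ne_finset_zero (s := Finset.range (N + 1)) ?_
      intro q hq
      rw [Finset.mem_range, not_lt] at hq
      rw [if_neg (by omega)]
    have hf0 : (0 : ℕ → ℝ) ≤ fun p : ℕ => c p * (d p : ℝ) :=
      fun p => mul_nonneg (hc p) (Nat.cast_nonneg _)
    have hg0 : (0 : ℕ → ℝ) ≤ fun q : ℕ => if q ≤ N then (b q : ℝ) * a q else 0 := by
      intro q
      simp only [Pi.zero_apply]
      split_ifs
      · exact mul_nonneg (Nat.cast_nonneg _) (ha q)
      · exact le_refl _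
    have key' := Summable.mul_of_nonneg hsum hg' hf0 hg0
    exact key'
  have hA : Summable (fun x => g (ι x)) := by
    refine Summable.of_norm_bounded hu (fun x => ?_)
    simp only [g, norm_mul, hsgn, one_mul, u]
    by_cases hq : x.2 ≤ N
    · rw [if_pos hq]
      have hfin : Module.Finite ℂ (F.obj (K.X (ι x))) := h2 _
      refine (tB_bound K (ι x - w) (ι x) (a x.2 * c x.1) (mul_nonneg (ha _) (hc _))
        (h4 x.1 x.2)).trans ?_
      have h5' : (Module.finrank ℂ (F.obj (K.X (ι x))) : ℝ) ≤ (b x.2 : ℝ) * (d x.1 : ℝ) := by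
        exact_mod_cast h5 x.1 x.2
      calc (Module.finrank ℂ (F.obj (K.X (ι x))) : ℝ) * (a x.2 * c x.1)
          ≤ ((b x.2 : ℝ) * (d x.1 : ℝ)) * (a x.2 * c x.1) :=
            mul_le_mul_of_nonneg_right h5' (mul_nonneg (ha _) (hc _))
        _ = c x.1 * (d x.1 : ℝ) * ((b x.2 : ℝ) * a x.2) := by ring
    · rw [if_neg hq, mul_zero]
      rw [hT0 (ι x) (Or.inl (h3 x.1 x.2 (not_le.mp hq))), norm_zero]
  have hg : Summable g := (Function.Injective.summable_iff hι hg0).mp hA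
  have hC : Summable (fun x => g (ι x + w)) := hg.comp_injective hι'
  have hAsum : ∑' x, g (ι x) = ∑' y, g y :=
    hι.tsum_eq (fun y hy => by
      by_contra hcon
      exact hy (hg0 y hcon))
  have hCsum : ∑' x, g (ι x + w) = ∑' y, g y :=
    hι'.tsum_eq (f := g) (fun y hy => by
      by_contra hcon
      exact hy (hg0' y hcon))
  by_cases hY : Summable (fun x : ℕ × ℕ =>
      (-1 : ℂ) ^ (x.1 + x.2) * LinearMap.trace ℂ _ (Φ (Y (ι x))))
  · have : (fun x : ℕ × ℕ => (-1 : ℂ) ^ (x.1 + x.2) * LinearMap.trace ℂ _ (Φ (K.X (ι x)))) =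
        fun x => g (ι x) + (-1 : ℂ) ^ (x.1 + x.2) * LinearMap.trace ℂ _ (Φ (Y (ι x))) -
          g (ι x + w) := funext hterm
    show _ = ∑' x : ℕ × ℕ, (-1 : ℂ) ^ (x.1 + x.2) * LinearMap.trace ℂ _ (Φ (K.X (ι x)))
    rw [this, (hA.add hY).tsum_sub hC, hA.tsum_add hY, hAsum, hCsum]
    ring
  · have hK : ¬ Summable (fun x : ℕ × ℕ =>
        (-1 : ℂ) ^ (x.1 + x.2) * LinearMap.trace ℂ _ (Φ (K.X (ι x)))) := by
      intro hK
      apply hY
      have := (hK.sub hA).add hC
      refine this.congr (fun x => ?_)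
      rw [hterm]
      ring
    show ∑' x : ℕ × ℕ, (-1 : ℂ) ^ (x.1 + x.2) * LinearMap.trace ℂ _ (Φ (Y (ι x))) =
      ∑' x : ℕ × ℕ, (-1 : ℂ) ^ (x.1 + x.2) * LinearMap.trace ℂ _ (Φ (K.X (ι x)))
    rw [tsum_eq_zero_of_not_summable hY, tsum_eq_zero_of_not_summable hK]

end Main

theorem main
    (E : E₂CohomologicalSpectralSequence (ModuleCat.{u} (Polynomial ℂ))) (r : ℤ) (hr : 2 ≤ r)
    (N : ℕ) (a c : ℕ → ℝ) (b d : ℕ → ℕ) (ha : ∀ q, 0 ≤ a q) (hc : ∀ p, 0 ≤ c p)
    (hsum : Summable fun p : ℕ => c p * (d p : ℝ))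
    (h : (∀ pq : ℤ × ℤ, pq.1 < 0 ∨ pq.2 < 0 → IsZero ((E.page r hr).X pq)) ∧
      (∀ pq : ℤ × ℤ, Module.Finite ℂ ((ModuleCat.restrictScalars (algebraMap ℂ (Polynomial ℂ))).obj ((E.page r hr).X pq))) ∧
      (∀ p q : ℕ, N < q → IsZero ((E.page r hr).X ((p : ℤ), (q : ℤ)))) ∧
      (∀ (p q : ℕ) (μ : ℂ), Module.End.HasEigenvalue
          ((ModuleCat.restrictScalars (algebraMap ℂ (Polynomial ℂ))).map ((Polynomial.X : Polynomial ℂ) • 𝟙 ((E.page r hr).X ((p : ℤ), (q : ℤ))))).hom μ →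
        ‖μ‖ ≤ a q * c p) ∧
      (∀ p q : ℕ, Module.finrank ℂ ((ModuleCat.restrictScalars (algebraMap ℂ (Polynomial ℂ))).obj ((E.page r hr).X ((p : ℤ), (q : ℤ)))) ≤ b q * d p)) :
    ((∀ pq : ℤ × ℤ, pq.1 < 0 ∨ pq.2 < 0 → IsZero ((E.page (r + 1) (Int.le_add_one hr)).X pq)) ∧
      (∀ pq : ℤ × ℤ, Module.Finite ℂ ((ModuleCat.restrictScalars (algebraMap ℂ (Polynomial ℂ))).obj ((E.page (r + 1) (Int.le_add_one hr)).X pq))) ∧
      (∀ p q : ℕ, N < q → IsZero ((E.page (r + 1) (Int.le_add_one hr)).X ((p : ℤ), (q : ℤ)))) ∧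
      (∀ (p q : ℕ) (μ : ℂ), Module.End.HasEigenvalue
          ((ModuleCat.restrictScalars (algebraMap ℂ (Polynomial ℂ))).map ((Polynomial.X : Polynomial ℂ) • 𝟙 ((E.page (r + 1) (Int.le_add_one hr)).X ((p : ℤ), (q : ℤ))))).hom μ →
        ‖μ‖ ≤ a q * c p) ∧
      (∀ p q : ℕ, Module.finrank ℂ ((ModuleCat.restrictScalars (algebraMap ℂ (Polynomial ℂ))).obj ((E.page (r + 1) (Int.le_add_one hr)).X ((p : ℤ), (q : ℤ)))) ≤ b q * d p)) ∧
      ∑' pq : ℕ × ℕ, (-1 : ℂ) ^ (pq.1 + pq.2) * LinearMap.trace ℂ _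
          ((ModuleCat.restrictScalars (algebraMap ℂ (Polynomial ℂ))).map ((Polynomial.X : Polynomial ℂ) • 𝟙 ((E.page (r + 1) (Int.le_add_one hr)).X ((pq.1 : ℤ), (pq.2 : ℤ))))).hom =
        ∑' pq : ℕ × ℕ, (-1 : ℂ) ^ (pq.1 + pq.2) * LinearMap.trace ℂ _
          ((ModuleCat.restrictScalars (algebraMap ℂ (Polynomial ℂ))).map ((Polynomial.X : Polynomial ℂ) • 𝟙 ((E.page r hr).X ((pq.1 : ℤ), (pq.2 : ℤ))))).hom :=
  main_gen (r, 1 - r) (by simp) (E.page r hr) (fun pq => (E.page (r + 1) (Int.le_add_one hr)).X pq)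
    (fun pq => E.iso r (r + 1) pq rfl hr) N a c b d ha hc hsum h

end Aux

/-- For an E_2 spectral sequence (E, Φ) of complex vector spaces carrying a compatible endomorphism Φ,
encoded as a cohomological spectral sequence of ℂ[X]-modules (X acting as Φ), and an integer r ≥ 2,
say that a page satisfies the boundedness condition for (N, a, b, c, d) when it is concentrated in
the first quadrant, its terms are finite-dimensional over ℂ and vanish for q > N, every eigenvalue μ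
of Φ on the (p, q) term has |μ| ≤ a(q)c(p), and the (p, q) term has dimension at most b(q)d(p). If
a, c ≥ 0, Σ_p c(p)d(p) converges and the page E_r satisfies the condition, then so does E_{r+1}, and
the alternating sums of traces agree: Σ_{p,q} (−1)^{p+q} tr(Φ | E_{r+1}^{p,q}) = Σ_{p,q} (−1)^{p+q}
tr(Φ | E_r^{p,q}) (both absolutely convergent). Traces, dimensions and eigenvalues refer to the
underlying complex vector spaces and the endomorphism 'multiplication by X'. -/
theorem result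
    (E : E₂CohomologicalSpectralSequence (ModuleCat.{u} (Polynomial ℂ))) (r : ℤ) (hr : 2 ≤ r)
    (N : ℕ) (a c : ℕ → ℝ) (b d : ℕ → ℕ) (ha : ∀ q, 0 ≤ a q) (hc : ∀ p, 0 ≤ c p)
    (hsum : Summable fun p : ℕ => c p * (d p : ℝ))
    (h : (∀ pq : ℤ × ℤ, pq.1 < 0 ∨ pq.2 < 0 → IsZero ((E.page r hr).X pq)) ∧
      (∀ pq : ℤ × ℤ, Module.Finite ℂ ((ModuleCat.restrictScalars (algebraMap ℂ (Polynomial ℂ))).obj ((E.page r hr).X pq))) ∧
      (∀ p q : ℕ, N < q → IsZero ((E.page r hr).X ((p : ℤ), (q : ℤ)))) ∧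
      (∀ (p q : ℕ) (μ : ℂ), Module.End.HasEigenvalue
          ((ModuleCat.restrictScalars (algebraMap ℂ (Polynomial ℂ))).map ((Polynomial.X : Polynomial ℂ) • 𝟙 ((E.page r hr).X ((p : ℤ), (q : ℤ))))).hom μ →
        ‖μ‖ ≤ a q * c p) ∧
      (∀ p q : ℕ, Module.finrank ℂ ((ModuleCat.restrictScalars (algebraMap ℂ (Polynomial ℂ))).obj ((E.page r hr).X ((p : ℤ), (q : ℤ)))) ≤ b q * d p)) :
    ((∀ pq : ℤ × ℤ, pq.1 < 0 ∨ pq.2 < 0 → IsZero ((E.page (r + 1) (Int.le_add_one hr)).X pq)) ∧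
      (∀ pq : ℤ × ℤ, Module.Finite ℂ ((ModuleCat.restrictScalars (algebraMap ℂ (Polynomial ℂ))).obj ((E.page (r + 1) (Int.le_add_one hr)).X pq))) ∧
      (∀ p q : ℕ, N < q → IsZero ((E.page (r + 1) (Int.le_add_one hr)).X ((p : ℤ), (q : ℤ)))) ∧
      (∀ (p q : ℕ) (μ : ℂ), Module.End.HasEigenvalue
          ((ModuleCat.restrictScalars (algebraMap ℂ (Polynomial ℂ))).map ((Polynomial.X : Polynomial ℂ) • 𝟙 ((E.page (r + 1) (Int.le_add_one hr)).X ((p : ℤ), (q : ℤ))))).hom μ →
        ‖μ‖ ≤ a q * c p) ∧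
      (∀ p q : ℕ, Module.finrank ℂ ((ModuleCat.restrictScalars (algebraMap ℂ (Polynomial ℂ))).obj ((E.page (r + 1) (Int.le_add_one hr)).X ((p : ℤ), (q : ℤ)))) ≤ b q * d p)) ∧
      ∑' pq : ℕ × ℕ, (-1 : ℂ) ^ (pq.1 + pq.2) * LinearMap.trace ℂ _
          ((ModuleCat.restrictScalars (algebraMap ℂ (Polynomial ℂ))).map ((Polynomial.X : Polynomial ℂ) • 𝟙 ((E.page (r + 1) (Int.le_add_one hr)).X ((pq.1 : ℤ), (pq.2 : ℤ))))).hom =
        ∑' pq : ℕ × ℕ, (-1 : ℂ) ^ (pq.1 + pq.2) * LinearMap.trace ℂ _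
          ((ModuleCat.restrictScalars (algebraMap ℂ (Polynomial ℂ))).map ((Polynomial.X : Polynomial ℂ) • 𝟙 ((E.page r hr).X ((pq.1 : ℤ), (pq.2 : ℤ))))).hom := by
  exact main E r hr N a c b d ha hc hsum h

end Groth.Agent.S14284
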