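import Groth.Statements.S14283
import Groth.Agent.S14284
import Mathlib

set_option autoImplicit false
universe u
open CategoryTheory CategoryTheory.Limits
open SpSeq

namespace Groth.Agent.S14283

section Aux
universe v w
open CategoryTheory CategoryTheory.Limits

section FilAdd
variable {A : Type u} [Category.{v} A] [Abelian A] {G : Type w} [AddCommMonoid G]

theorem fil_additive (P : A → Prop) (χ : A → G)
    (hiso : ∀ X Y : A, (X ≅ Y) → P X → P Y ∧ χ X = χ Y)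
    (hzero : ∀ X : A, IsZero X → P X ∧ χ X = 0)
    (hadd : ∀ S : ShortComplex A, S.ShortExact → P S.X₁ → P S.X₃ →
      P S.X₂ ∧ χ S.X₂ = χ S.X₁ + χ S.X₃)
    {X : A} (fil : ℤ → Subobject X) (anti : Antitone fil) (a b : ℤ) (hab : a ≤ b)
    (ha : fil a = ⊤) (hb : fil b = ⊥)
    (hP : ∀ j ∈ Finset.Ico a b, P (SpSeq.grPiece fil anti j)) :
    P X ∧ χ X = ∑ j ∈ Finset.Ico a b, χ (SpSeq.grPiece fil anti j) := by
  -- downward induction
  have key : ∀ k : ℕ, (hk : (k : ℤ) ≤ b - a) →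
      P ((fil (b - k) : Subobject X) : A) ∧
        χ ((fil (b - k) : Subobject X) : A) =
          ∑ j ∈ Finset.Ico (b - k) b, χ (SpSeq.grPiece fil anti j) := by
    intro k
    induction k with
    | zero =>
      intro _
      have hz : IsZero ((fil (b - (0 : ℕ)) : Subobject X) : A) := by
        have h0 : fil (b - ((0 : ℕ) : ℤ)) = ⊥ := by simpa using hb
        exact (isZero_zero A).of_iso ((Subobject.isoOfEq _ _ h0) ≪≫ Subobject.botCoeIsoZero)
      obtain ⟨h1, h2⟩ := hzero _ hz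
      refine ⟨h1, ?_⟩
      rw [h2]
      simp
    | succ k ih =>
      intro hk
      have hk' : (k : ℤ) ≤ b - a := by push_cast at hk; omega
      obtain ⟨ih1, ih2⟩ := ih hk'
      have hidx : b - ((k + 1 : ℕ) : ℤ) + 1 = b - k := by push_cast; ring
      have hle : fil (b - ((k + 1 : ℕ) : ℤ) + 1) ≤ fil (b - ((k + 1 : ℕ) : ℤ)) :=
        anti (Int.le_add_one le_rfl)
      let S : ShortComplex A := ShortComplex.mk
        ((fil (b - ((k + 1 : ℕ) : ℤ) + 1)).ofLE (fil (b - ((k + 1 : ℕ) : ℤ))) hle)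
        (cokernel.π _) (cokernel.condition _)
      have hS : S.ShortExact :=
        { exact := ShortComplex.exact_cokernel _
          mono_f := by dsimp [S]; infer_instance
          epi_g := by dsimp [S]; infer_instance }
      have hmem : b - ((k + 1 : ℕ) : ℤ) ∈ Finset.Ico a b := by
        rw [Finset.mem_Ico]; push_cast at hk ⊢; constructor <;> omega
      have hP3 : P S.X₃ := hP _ hmem
      have hP1 : P S.X₁ := by
        have := (hiso _ _ (Subobject.isoOfEq _ _ (congrArg fil hidx.symm)) ih1).1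
        exact this
      obtain ⟨h1, h2⟩ := hadd S hS hP1 hP3
      refine ⟨h1, ?_⟩
      have hχ1 : χ S.X₁ = χ ((fil (b - (k : ℤ)) : Subobject X) : A) :=
        ((hiso _ _ (Subobject.isoOfEq _ _ (congrArg fil hidx.symm)) ih1).2).symm
      have h2' : χ ((fil (b - ((k + 1 : ℕ) : ℤ)) : Subobject X) : A) = χ S.X₁ + χ S.X₃ := h2
      rw [h2', hχ1, ih2]
      have hIco : Finset.Ico (b - ((k + 1 : ℕ) : ℤ)) b =
          insert (b - ((k + 1 : ℕ) : ℤ)) (Finset.Ico (b - (k : ℤ)) b) := by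
        ext j
        simp only [Finset.mem_Ico, Finset.mem_insert]
        push_cast
        omega
      rw [hIco, Finset.sum_insert (by rw [Finset.mem_Ico]; push_cast; omega), add_comm]
      rfl
  obtain ⟨k, hk⟩ := Int.eq_ofNat_of_zero_le (sub_nonneg.mpr hab)
  have hkk := key k (le_of_eq hk.symm)
  have hbk : b - (k : ℤ) = a := by omega
  rw [hbk] at hkk
  obtain ⟨h1, h2⟩ := hkk
  have hiso' : IsIso (fil a).arrow := (Subobject.isIso_arrow_iff_eq_top _).mpr ha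
  have e : ((fil a : Subobject X) : A) ≅ X := asIso (fil a).arrow
  obtain ⟨h3, h4⟩ := hiso _ _ e h1
  exact ⟨h3, h4.symm.trans h2⟩

end FilAdd

section TrFil
open Groth.Agent.S14284

theorem tr_add (S : ShortComplex (ModuleCat.{u} R)) (hS : S.ShortExact)
    (h1 : Module.Finite ℂ (F.obj S.X₁)) (h3 : Module.Finite ℂ (F.obj S.X₃)) :
    Module.Finite ℂ (F.obj S.X₂) ∧
      LinearMap.trace ℂ _ (Φ S.X₂) = LinearMap.trace ℂ _ (Φ S.X₁) + LinearMap.trace ℂ _ (Φ S.X₃) := by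
  have := hS.mono_f
  have := hS.epi_g
  have hinj : Function.Injective (F.map S.f).hom := inj_of_mono S.f
  have hsurj : Function.Surjective (F.map S.g).hom := surj_of_epi S.g
  have hex : Function.Exact (F.map S.f).hom (F.map S.g).hom :=
    (ShortComplex.ShortExact.moduleCat_exact_iff_function_exact S).mp hS.exact
  constructor
  · have hN : Module.Finite ℂ (LinearMap.range (F.map S.f).hom) := inferInstance
    have hQ : Module.Finite ℂ ((F.obj S.X₂) ⧸ LinearMap.range (F.map S.f).hom) := by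
      have e : ((F.obj S.X₂) ⧸ LinearMap.ker (F.map S.g).hom) ≃ₗ[ℂ] F.obj S.X₃ :=
        LinearMap.quotKerEquivOfSurjective _ hsurj
      have hk : LinearMap.ker (F.map S.g).hom = LinearMap.range (F.map S.f).hom :=
        (LinearMap.exact_iff.mp hex)
      rw [← hk]
      exact Module.Finite.equiv e.symm
    exact Module.Finite.of_submodule_quotient (LinearMap.range (F.map S.f).hom)
  · exact trace_exact (F.map S.f).hom (F.map S.g).hom hinj hsurj hex (Φ S.X₁) (Φ S.X₂) (Φ S.X₃)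
      (fun x => Φ_comm S.f x) (fun x => Φ_comm S.g x)

theorem tr_fil {H : ModuleCat.{u} R} (fil : ℤ → Subobject H) (anti : Antitone fil) (a b : ℤ)
    (hab : a ≤ b) (ha : fil a = ⊤) (hb : fil b = ⊥)
    (hP : ∀ j ∈ Finset.Ico a b, Module.Finite ℂ (F.obj (SpSeq.grPiece fil anti j))) :
    Module.Finite ℂ (F.obj H) ∧ LinearMap.trace ℂ _ (Φ H) =
      ∑ j ∈ Finset.Ico a b, LinearMap.trace ℂ _ (Φ (SpSeq.grPiece fil anti j)) := by
  refine fil_additive (P := fun M : ModuleCat.{u} R => Module.Finite ℂ (F.obj M))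
    (χ := fun M : ModuleCat.{u} R => LinearMap.trace ℂ _ (Φ M)) ?_ ?_ ?_ fil anti a b hab ha hb hP
  · intro X Y e hX
    exact ⟨Module.Finite.equiv (F.mapIso e).toLinearEquiv, tr_isoR e⟩
  · intro X hX
    have hsub0 : Subsingleton X := ModuleCat.subsingleton_of_isZero hX
    have hsub : Subsingleton (F.obj X) := hsub0
    refine ⟨inferInstance, ?_⟩
    have : Φ X = 0 := Subsingleton.elim _ _
    show LinearMap.trace ℂ _ (Φ X) = 0
    rw [this, map_zero]
  · intro S hS h1 h3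
    exact tr_add S hS h1 h3

end TrFil

section Antidiag

theorem antidiag_sum {G : Type*} [NormedAddCommGroup G] [CompleteSpace G] (g : ℕ × ℕ → G)
    (hg : Summable g) :
    Summable (fun n => ∑ x ∈ Finset.HasAntidiagonal.antidiagonal n, g x) ∧
      ∑' n, ∑ x ∈ Finset.HasAntidiagonal.antidiagonal n, g x = ∑' x, g x := by
  have h : Summable fun x : Σ n : ℕ, Finset.HasAntidiagonal.antidiagonal n => g (x.2 : ℕ × ℕ) :=
    Finset.HasAntidiagonal.sigmaAntidiagonalEquivProd.summable_iff.mpr hg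
  constructor
  · conv => congr; ext; rw [← Finset.sum_finset_coe, ← tsum_fintype (L := .unconditional _)]
    exact h.sigma' fun n ↦ (hasSum_fintype _).summable
  · conv_lhs => congr; ext; rw [← Finset.sum_finset_coe, ← tsum_fintype (L := .unconditional _)]
    rw [← Finset.HasAntidiagonal.sigmaAntidiagonalEquivProd.tsum_eq g]
    exact (h.tsum_sigma' (fun n ↦ (hasSum_fintype _).summable)).symm

end Antidiag

section Main
open Groth.Agent.S14284

variable (E : E₂CohomologicalSpectralSequence (ModuleCat.{u} R))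

/-- trace at page r, position pq -/
noncomputable def t (r : ℤ) (hr : 2 ≤ r) (pq : ℤ × ℤ) : ℂ :=
  LinearMap.trace ℂ _ (Φ ((E.page r hr).X pq))

theorem iterate (N : ℕ) (a c : ℕ → ℝ) (b d : ℕ → ℕ) (ha : ∀ q, 0 ≤ a q) (hc : ∀ p, 0 ≤ c p)
    (hsum : Summable fun p : ℕ => c p * (d p : ℝ))
    (h2 : Bd (E.page 2 le_rfl).X N a c b d) :
    ∀ (r : ℤ) (hr : 2 ≤ r), Bd (E.page r hr).X N a c b d ∧
      ∑' x : ℕ × ℕ, (-1 : ℂ) ^ (x.1 + x.2) * t E r hr ((x.1 : ℤ), (x.2 : ℤ)) =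
      ∑' x : ℕ × ℕ, (-1 : ℂ) ^ (x.1 + x.2) * t E 2 le_rfl ((x.1 : ℤ), (x.2 : ℤ)) := by
  intro r hr
  induction r, hr using Int.leInduction with
  | base => exact ⟨h2, rfl⟩
  | succ r hr ih =>
    obtain ⟨ih1, ih2⟩ := ih
    have := main_gen (r, 1 - r) (by simp) (E.page r hr)
      (fun pq => (E.page (r + 1) (Int.le_add_one hr)).X pq)
      (fun pq => E.iso r (r + 1) pq rfl hr) N a c b d ha hc hsum ih1
    exact ⟨this.1, this.2.trans ih2⟩

theorem stab (pq : ℤ × ℤ) (ρ : ℤ) (hst : SpSeq.StationaryAt E pq ρ)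
    (hfin : ∀ (r : ℤ) (hr : 2 ≤ r), Module.Finite ℂ (F.obj ((E.page r hr).X pq))) :
    ∀ (r : ℤ) (hr : ρ ≤ r), t E r (hst.1.trans hr) pq = t E ρ hst.1 pq := by
  intro r hr
  induction r, hr using Int.leInduction with
  | base => rfl
  | succ r hr ih =>
    rw [← ih]
    have h2r : 2 ≤ r := hst.1.trans hr
    have := hfin r h2r
    have hcx := tr_cx (E.page r h2r) pq
    obtain ⟨hd1, hd2⟩ := hst.2 r h2r hr
    rw [tB_zero _ _ _ hd1, tB_zero _ _ _ hd2, zero_add, add_zero] at hcx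
    unfold t
    rw [hcx]
    exact (tr_isoR (E.iso r (r + 1) pq rfl h2r)).symm

theorem trace_zero_of_isZero {M : ModuleCat.{u} R} (hM : IsZero M) :
    LinearMap.trace ℂ _ (Φ M) = 0 := by
  have hsub0 : Subsingleton M := ModuleCat.subsingleton_of_isZero hM
  have hsub : Subsingleton (F.obj M) := hsub0
  have : Φ M = 0 := Subsingleton.elim _ _
  rw [this, map_zero]

theorem Bd_bound {Y : ℤ × ℤ → ModuleCat.{u} R} {N : ℕ} {a c : ℕ → ℝ} {b d : ℕ → ℕ}
    (hB : Bd Y N a c b d) (ha : ∀ q, 0 ≤ a q) (hc : ∀ p, 0 ≤ c p) (x : ℕ × ℕ) :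
    ‖LinearMap.trace ℂ _ (Φ (Y ((x.1 : ℤ), (x.2 : ℤ))))‖ ≤
      (c x.1 * (d x.1 : ℝ)) * (if x.2 ≤ N then (b x.2 : ℝ) * a x.2 else 0) := by
  obtain ⟨_, h2, h3, h4, h5⟩ := hB
  by_cases hq : x.2 ≤ N
  · rw [if_pos hq]
    have hfin : Module.Finite ℂ (F.obj (Y ((x.1 : ℤ), (x.2 : ℤ)))) := h2 _
    refine (norm_trace_le _ (a x.2 * c x.1) (h4 x.1 x.2)).trans ?_
    have h5' : (Module.finrank ℂ (F.obj (Y ((x.1 : ℤ), (x.2 : ℤ)))) : ℝ) ≤
        (b x.2 : ℝ) * (d x.1 : ℝ) := by exact_mod_cast h5 x.1 x.2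
    calc (Module.finrank ℂ (F.obj (Y ((x.1 : ℤ), (x.2 : ℤ)))) : ℝ) * (a x.2 * c x.1)
        ≤ ((b x.2 : ℝ) * (d x.1 : ℝ)) * (a x.2 * c x.1) :=
          mul_le_mul_of_nonneg_right h5' (mul_nonneg (ha _) (hc _))
      _ = c x.1 * (d x.1 : ℝ) * ((b x.2 : ℝ) * a x.2) := by ring
  · rw [if_neg hq, mul_zero, trace_zero_of_isZero (h3 x.1 x.2 (not_le.mp hq)), norm_zero]

theorem summable_u (N : ℕ) (a c : ℕ → ℝ) (b d : ℕ → ℕ) (ha : ∀ q, 0 ≤ a q) (hc : ∀ p, 0 ≤ c p)
    (hsum : Summable fun p : ℕ => c p * (d p : ℝ)) :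
    Summable (fun x : ℕ × ℕ =>
      (c x.1 * (d x.1 : ℝ)) * (if x.2 ≤ N then (b x.2 : ℝ) * a x.2 else 0)) := by
  have hg' : Summable (fun q : ℕ => if q ≤ N then (b q : ℝ) * a q else 0) := by
    refine summable_of_ne_finset_zero (s := Finset.range (N + 1)) ?_
    intro q hq
    rw [Finset.mem_range, not_lt] at hq
    rw [if_neg (by omega)]
  have hf0 : (0 : ℕ → ℝ) ≤ fun p : ℕ => c p * (d p : ℝ) :=
    fun p => mul_nonneg (hc p) (Nat.cast_nonneg _)
  have hg0 : (0 : ℕ → ℝ) ≤ fun q : ℕ => if q ≤ N then (b q : ℝ) * a q else 0 := by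
    intro q
    simp only [Pi.zero_apply]
    split_ifs
    · exact mul_nonneg (Nat.cast_nonneg _) (ha q)
    · exact le_refl _
  have key' := Summable.mul_of_nonneg hsum hg' hf0 hg0
  exact key'

noncomputable def grCongr {H : ℤ → ModuleCat.{u} R} (abut : SpSeq.Abutment E H) {m n : ℤ}
    (h : m = n) (j : ℤ) :
    SpSeq.grPiece (abut.fil m) (abut.anti m) j ≅ SpSeq.grPiece (abut.fil n) (abut.anti n) j :=
  eqToIso (by subst h; rfl)

theorem tr_H {H : ℤ → ModuleCat.{u} R} (abut : SpSeq.Abutment E H) (n : ℕ)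
    (hfin : abut.IsFinite n)
    (hzero : ∀ pq : ℤ × ℤ, (pq.1 < 0 ∨ pq.2 < 0) → ∀ (r : ℤ) (hr : 2 ≤ r),
      IsZero ((E.page r hr).X pq))
    (hfd : ∀ (pq : ℤ × ℤ) (r : ℤ) (hr : 2 ≤ r), Module.Finite ℂ (F.obj ((E.page r hr).X pq))) :
    LinearMap.trace ℂ _ (Φ (H n)) =
      ∑ x ∈ Finset.HasAntidiagonal.antidiagonal n,
        t E (abut.rk ((x.1 : ℤ), (x.2 : ℤ))) (abut.stat _).1 ((x.1 : ℤ), (x.2 : ℤ)) := by
  obtain ⟨⟨a0, ha0⟩, ⟨b0, hb0⟩⟩ := hfin
  change abut.fil n a0 = ⊤ at ha0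
  change abut.fil n b0 = ⊥ at hb0
  set a' := min a0 0 with ha'
  set b' := max b0 ((n : ℤ) + 1) with hb'
  have hab : a' ≤ b' := by
    have h1 : a' ≤ 0 := min_le_right _ _
    have h2 : (n : ℤ) + 1 ≤ b' := le_max_right _ _
    omega
  have hta : abut.fil n a' = ⊤ := by
    rw [← top_le_iff, ← ha0]
    exact abut.anti n (min_le_left _ _)
  have htb : abut.fil n b' = ⊥ := by
    rw [← le_bot_iff, ← hb0]
    exact abut.anti n (le_max_left _ _)
  -- the isos
  let e : ∀ j : ℤ, (E.page (abut.rk (j, (n : ℤ) - j)) (abut.stat _).1).X (j, (n : ℤ) - j) ≅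
      SpSeq.grPiece (abut.fil n) (abut.anti n) j := fun j =>
    abut.β (j, (n : ℤ) - j) ≪≫ grCongr E abut (by simp) j
  let tinf : ℤ × ℤ → ℂ := fun pq => t E (abut.rk pq) (abut.stat pq).1 pq
  have hP : ∀ j ∈ Finset.Ico a' b',
      Module.Finite ℂ (F.obj (SpSeq.grPiece (abut.fil n) (abut.anti n) j)) := by
    intro j _
    have := hfd (j, (n : ℤ) - j) (abut.rk (j, (n : ℤ) - j)) (abut.stat _).1
    exact Module.Finite.equiv (F.mapIso (e j)).toLinearEquiv
  obtain ⟨-, htr⟩ := tr_fil (abut.fil n) (abut.anti n) a' b' hab hta htb hP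
  rw [htr]
  have h1 : ∀ j : ℤ, LinearMap.trace ℂ _ (Φ (SpSeq.grPiece (abut.fil n) (abut.anti n) j)) =
      tinf (j, (n : ℤ) - j) := fun j => (tr_isoR (e j)).symm
  simp only [h1]
  -- restrict to [0, n]
  have hsub : Finset.Ico (0 : ℤ) ((n : ℤ) + 1) ⊆ Finset.Ico a' b' := by
    intro j hj
    rw [Finset.mem_Ico] at hj ⊢
    have h1 : a' ≤ 0 := min_le_right _ _
    have h2 : (n : ℤ) + 1 ≤ b' := le_max_right _ _
    constructor <;> omega
  rw [← Finset.sum_subset hsub]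
  · -- reindex
    rw [Finset.Nat.sum_antidiagonal_eq_sum_range_succ_mk]
    refine Finset.sum_nbij' (fun j => j.toNat) (fun k => (k : ℤ)) ?_ ?_ ?_ ?_ ?_
    · intro j hj
      rw [Finset.mem_Ico] at hj
      rw [Finset.mem_range]
      omega
    · intro k hk
      rw [Finset.mem_range] at hk
      rw [Finset.mem_Ico]
      omega
    · intro j hj
      rw [Finset.mem_Ico] at hj
      exact Int.toNat_of_nonneg hj.1
    · intro k _
      simp
    · intro j hj
      rw [Finset.mem_Ico] at hj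
      have hj1 : ((j.toNat : ℕ) : ℤ) = j := Int.toNat_of_nonneg hj.1
      have hj2 : (((n - j.toNat : ℕ)) : ℤ) = (n : ℤ) - j := by
        rw [Nat.cast_sub (by omega), hj1]
      simp only [tinf]
      rw [hj1, hj2]
  · intro j _ hj
    rw [Finset.mem_Ico, not_and_or, not_le, not_lt] at hj
    simp only [tinf, t]
    apply trace_zero_of_isZero
    apply hzero
    rcases hj with hj | hj
    · exact Or.inl hj
    · right
      show (n : ℤ) - j < 0
      omega

theorem main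
    (E : E₂CohomologicalSpectralSequence (ModuleCat.{u} (Polynomial ℂ)))
    (H : ℤ → ModuleCat.{u} (Polynomial ℂ)) (abut : SpSeq.Abutment E H) (hfin : ∀ n, abut.IsFinite n)
    (hquad : ∀ pq : ℤ × ℤ, pq.1 < 0 ∨ pq.2 < 0 → IsZero ((E.page 2 le_rfl).X pq))
    (hfd : ∀ pq : ℤ × ℤ, Module.Finite ℂ ((ModuleCat.restrictScalars (algebraMap ℂ (Polynomial ℂ))).obj ((E.page 2 le_rfl).X pq)))
    (N : ℕ) (a c : ℕ → ℝ) (b d : ℕ → ℕ) (ha : ∀ q, 0 ≤ a q) (hc : ∀ p, 0 ≤ c p)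
    (h1 : ∀ p q : ℕ, N < q → IsZero ((E.page 2 le_rfl).X ((p : ℤ), (q : ℤ))))
    (h2 : ∀ (p q : ℕ) (μ : ℂ), Module.End.HasEigenvalue
        ((ModuleCat.restrictScalars (algebraMap ℂ (Polynomial ℂ))).map
          ((Polynomial.X : Polynomial ℂ) • 𝟙 ((E.page 2 le_rfl).X ((p : ℤ), (q : ℤ))))).hom μ → ‖μ‖ ≤ a q * c p)
    (h3 : ∀ p q : ℕ, Module.finrank ℂ
        ((ModuleCat.restrictScalars (algebraMap ℂ (Polynomial ℂ))).obj ((E.page 2 le_rfl).X ((p : ℤ), (q : ℤ)))) ≤ b q * d p)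
    (hsum : Summable fun p : ℕ => c p * (d p : ℝ)) :
    Summable (fun n : ℕ => ‖LinearMap.trace ℂ _
        ((ModuleCat.restrictScalars (algebraMap ℂ (Polynomial ℂ))).map ((Polynomial.X : Polynomial ℂ) • 𝟙 (H n))).hom‖) ∧
    ∑' n : ℕ, (-1 : ℂ) ^ n * LinearMap.trace ℂ _
        ((ModuleCat.restrictScalars (algebraMap ℂ (Polynomial ℂ))).map ((Polynomial.X : Polynomial ℂ) • 𝟙 (H n))).hom =
      ∑' pq : ℕ × ℕ, (-1 : ℂ) ^ (pq.1 + pq.2) * LinearMap.trace ℂ _
        ((ModuleCat.restrictScalars (algebraMap ℂ (Polynomial ℂ))).map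
          ((Polynomial.X : Polynomial ℂ) • 𝟙 ((E.page 2 le_rfl).X ((pq.1 : ℤ), (pq.2 : ℤ))))).hom := by
  have hB2 : Bd (E.page 2 le_rfl).X N a c b d := ⟨hquad, hfd, h1, h2, h3⟩
  have hit := iterate E N a c b d ha hc hsum hB2
  have hfinall : ∀ (pq : ℤ × ℤ) (r : ℤ) (hr : 2 ≤ r),
      Module.Finite ℂ (F.obj ((E.page r hr).X pq)) := fun pq r hr => (hit r hr).1.2.1 pq
  have hzeroall : ∀ pq : ℤ × ℤ, (pq.1 < 0 ∨ pq.2 < 0) → ∀ (r : ℤ) (hr : 2 ≤ r),
      IsZero ((E.page r hr).X pq) := fun pq hpq r hr => (hit r hr).1.1 pq hpq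
  let tinf : ℤ × ℤ → ℂ := fun pq => t E (abut.rk pq) (abut.stat pq).1 pq
  let u : ℕ × ℕ → ℝ := fun x =>
    (c x.1 * (d x.1 : ℝ)) * (if x.2 ≤ N then (b x.2 : ℝ) * a x.2 else 0)
  have hu : Summable u := summable_u N a c b d ha hc hsum
  have hbound : ∀ (r : ℤ) (hr : 2 ≤ r) (x : ℕ × ℕ), ‖t E r hr ((x.1 : ℤ), (x.2 : ℤ))‖ ≤ u x :=
    fun r hr x => Bd_bound (hit r hr).1 ha hc x
  let g : ℕ × ℕ → ℂ := fun x => (-1 : ℂ) ^ (x.1 + x.2) * tinf ((x.1 : ℤ), (x.2 : ℤ))
  have hsgn : ∀ x : ℕ × ℕ, ‖(-1 : ℂ) ^ (x.1 + x.2)‖ = 1 := by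
    intro x
    rw [norm_pow, norm_neg, norm_one, one_pow]
  have hgb : ∀ x, ‖g x‖ ≤ u x := by
    intro x
    simp only [g, norm_mul, hsgn, one_mul]
    exact hbound _ _ x
  have hg : Summable g := Summable.of_norm_bounded hu hgb
  -- Tannery
  have hlim : ∑' x, g x = ∑' x : ℕ × ℕ, (-1 : ℂ) ^ (x.1 + x.2) *
      t E 2 le_rfl ((x.1 : ℤ), (x.2 : ℤ)) := by
    let f : ℕ → ℕ × ℕ → ℂ := fun k x =>
      (-1 : ℂ) ^ (x.1 + x.2) * t E (2 + (k : ℤ)) (by omega) ((x.1 : ℤ), (x.2 : ℤ))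
    have hT : Filter.Tendsto (fun k => ∑' x, f k x) Filter.atTop (nhds (∑' x, g x)) := by
      refine tendsto_tsum_of_dominated_convergence (bound := u) hu ?_ ?_
      · intro x
        refine tendsto_atTop_of_eventually_const
          (i₀ := (abut.rk ((x.1 : ℤ), (x.2 : ℤ)) - 2).toNat) ?_
        intro k hk
        simp only [f, g, tinf]
        congr 1
        have hρ : 2 ≤ abut.rk ((x.1 : ℤ), (x.2 : ℤ)) := (abut.stat _).1
        have hk' : abut.rk ((x.1 : ℤ), (x.2 : ℤ)) ≤ 2 + (k : ℤ) := by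
          have := Int.toNat_le.mp hk
          omega
        exact stab E _ _ (abut.stat _) (hfinall _) _ hk'
      · refine Filter.Eventually.of_forall (fun k x => ?_)
        simp only [f, norm_mul, hsgn, one_mul]
        exact hbound _ _ x
    have hconst : ∀ k : ℕ, ∑' x, f k x = ∑' x : ℕ × ℕ, (-1 : ℂ) ^ (x.1 + x.2) *
        t E 2 le_rfl ((x.1 : ℤ), (x.2 : ℤ)) := fun k => (hit _ _).2
    have hT' : Filter.Tendsto (fun k => ∑' x, f k x) Filter.atTop
        (nhds (∑' x : ℕ × ℕ, (-1 : ℂ) ^ (x.1 + x.2) * t E 2 le_rfl ((x.1 : ℤ), (x.2 : ℤ)))) := by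
      simp only [hconst]
      exact tendsto_const_nhds
    exact tendsto_nhds_unique hT hT'
  -- abutment
  have hH : ∀ n : ℕ, LinearMap.trace ℂ _ (Φ (H n)) =
      ∑ x ∈ Finset.HasAntidiagonal.antidiagonal n, tinf ((x.1 : ℤ), (x.2 : ℤ)) :=
    fun n => tr_H E abut n (hfin n) hzeroall hfinall
  have hHg : ∀ n : ℕ, (-1 : ℂ) ^ n * LinearMap.trace ℂ _ (Φ (H n)) =
      ∑ x ∈ Finset.HasAntidiagonal.antidiagonal n, g x := by
    intro n
    rw [hH n, Finset.mul_sum]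
    refine Finset.sum_congr rfl (fun x hx => ?_)
    rw [Finset.HasAntidiagonal.mem_antidiagonal] at hx
    simp only [g]
    rw [hx]
  obtain ⟨hs1, hs2⟩ := antidiag_sum g hg
  obtain ⟨hu1, -⟩ := antidiag_sum u hu
  constructor
  · refine Summable.of_nonneg_of_le (fun n => norm_nonneg _) (fun n => ?_) hu1
    show ‖LinearMap.trace ℂ _ (Φ (H n))‖ ≤ _
    rw [hH n]
    refine (norm_sum_le _ _).trans (Finset.sum_le_sum (fun x _ => ?_))
    exact hbound _ _ x
  · show ∑' n : ℕ, (-1 : ℂ) ^ n * LinearMap.trace ℂ _ (Φ (H n)) = _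
    simp only [hHg]
    rw [hs2, hlim]
    rfl

end Main

end Aux

/-- For an E_2 spectral sequence (E, Φ) of complex vector spaces carrying an endomorphism Φ compatible
with all its structure maps — here encoded as a cohomological spectral sequence in the category of
ℂ[X]-modules (X acting as Φ) — which is concentrated in the first quadrant (E_2^{p,q} = 0 if p < 0
or q < 0) and abuts to F^n (n ∈ ℤ) through abutment data whose filtrations are finite, assume that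
the E_2^{p,q} are finite-dimensional over ℂ, vanish for q > N, that every eigenvalue μ of Φ on
E_2^{p,q} has |μ| ≤ a(q)c(p) and dim E_2^{p,q} ≤ b(q)d(p) for functions a, c ≥ 0 (real) and b, d
(natural numbers), and that Σ_p c(p)d(p) converges. Then the series Σ_{n ≥ 0} (−1)^n tr(Φ | F^n)
converges absolutely and its sum equals Σ_{p,q ≥ 0} (−1)^{p+q} tr(Φ | E_2^{p,q}). Traces, dimensions
and eigenvalues are taken on the underlying complex vector spaces (restriction of scalars along ℂ →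
ℂ[X]) for the endomorphism 'multiplication by X'. -/
theorem result
    (E : E₂CohomologicalSpectralSequence (ModuleCat.{u} (Polynomial ℂ)))
    (H : ℤ → ModuleCat.{u} (Polynomial ℂ)) (abut : SpSeq.Abutment E H) (hfin : ∀ n, abut.IsFinite n)
    (hquad : ∀ pq : ℤ × ℤ, pq.1 < 0 ∨ pq.2 < 0 → IsZero ((E.page 2 le_rfl).X pq))
    (hfd : ∀ pq : ℤ × ℤ, Module.Finite ℂ ((ModuleCat.restrictScalars (algebraMap ℂ (Polynomial ℂ))).obj ((E.page 2 le_rfl).X pq)))
    (N : ℕ) (a c : ℕ → ℝ) (b d : ℕ → ℕ) (ha : ∀ q, 0 ≤ a q) (hc : ∀ p, 0 ≤ c p)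
    (h1 : ∀ p q : ℕ, N < q → IsZero ((E.page 2 le_rfl).X ((p : ℤ), (q : ℤ))))
    (h2 : ∀ (p q : ℕ) (μ : ℂ), Module.End.HasEigenvalue
        ((ModuleCat.restrictScalars (algebraMap ℂ (Polynomial ℂ))).map
          ((Polynomial.X : Polynomial ℂ) • 𝟙 ((E.page 2 le_rfl).X ((p : ℤ), (q : ℤ))))).hom μ → ‖μ‖ ≤ a q * c p)
    (h3 : ∀ p q : ℕ, Module.finrank ℂ
        ((ModuleCat.restrictScalars (algebraMap ℂ (Polynomial ℂ))).obj ((E.page 2 le_rfl).X ((p : ℤ), (q : ℤ)))) ≤ b q * d p)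
    (hsum : Summable fun p : ℕ => c p * (d p : ℝ)) :
    Summable (fun n : ℕ => ‖LinearMap.trace ℂ _
        ((ModuleCat.restrictScalars (algebraMap ℂ (Polynomial ℂ))).map ((Polynomial.X : Polynomial ℂ) • 𝟙 (H n))).hom‖) ∧
    ∑' n : ℕ, (-1 : ℂ) ^ n * LinearMap.trace ℂ _
        ((ModuleCat.restrictScalars (algebraMap ℂ (Polynomial ℂ))).map ((Polynomial.X : Polynomial ℂ) • 𝟙 (H n))).hom =
      ∑' pq : ℕ × ℕ, (-1 : ℂ) ^ (pq.1 + pq.2) * LinearMap.trace ℂ _
        ((ModuleCat.restrictScalars (algebraMap ℂ (Polynomial ℂ))).map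
          ((Polynomial.X : Polynomial ℂ) • 𝟙 ((E.page 2 le_rfl).X ((pq.1 : ℤ), (pq.2 : ℤ))))).hom := by
  exact main E H abut hfin hquad hfd N a c b d ha hc h1 h2 h3 hsum

end Groth.Agent.S14283
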