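import Groth.Statements.S14295
import Mathlib.Tactic.Module
import Mathlib.Tactic.LinearCombination
import Mathlib.Tactic.Abel
import Mathlib.Tactic.Ring
import Mathlib.Algebra.Module.Basic
import Mathlib.Algebra.Group.Int.Even
import Mathlib.Algebra.Ring.Int.Parity
-- import your own Groth.Agent.* helpers here

set_option autoImplicit false
universe u v
open PtDeg

namespace Groth.Agent.S14295

/-- triangular numbers over the integers -/
def T (n : ℤ) : ℤ := n * (n + 1) / 2

lemma two_T (n : ℤ) : 2 * T n = n * (n + 1) := by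
  unfold T
  exact Int.mul_ediv_cancel' (Int.even_mul_succ_self n).two_dvd

lemma T_succ (n : ℤ) : T (n + 1) = T n + n + 1 := by
  have h1 := two_T n
  have h2 := two_T (n + 1)
  have h3 : 2 * T (n + 1) = 2 * (T n + n + 1) := by linear_combination h2 - h1
  omega

lemma T_neg (n : ℤ) : T (-n) = T (n - 1) := by
  have h1 := two_T (-n)
  have h2 := two_T (n - 1)
  have h3 : 2 * T (-n) = 2 * T (n - 1) := by linear_combination h1 - h2
  omega

lemma T_zero : T 0 = 0 := by simp [T]

lemma T_neg_one : T (-1) = 0 := by simp [T]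

section
variable {A : Type*} {G : Type*} [AddCommGroup A] [AddCommGroup G]
  (f : A → G) (hf : ∀ x y z : A, f (x + y + z) + f x + f y + f z = f (x + y) + f (x + z) + f (y + z))
include hf

lemma f_zero : f 0 = 0 := by
  have := hf 0 0 0
  simpa using this

lemma rec (x : A) (k : ℤ) :
    f ((k + 1) • x) = 2 • f (k • x) - f ((k - 1) • x) + f x + f (-x) := by
  have h := hf (k • x) x (-x)
  have h0 := f_zero f hf
  rw [add_neg_cancel_right, add_neg_cancel, h0, add_zero] at h
  rw [add_smul, sub_smul, one_smul, ← sub_eq_add_neg] at *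
  rw [two_smul]
  have h' := eq_sub_of_add_eq h.symm
  rw [h']
  abel

lemma main_nat (x : A) (k : ℕ) :
    f ((k : ℤ) • x) = T k • f x + T ((k : ℤ) - 1) • f (-x) ∧
    f (((k : ℤ) + 1) • x) = T ((k : ℤ) + 1) • f x + T (k : ℤ) • f (-x) := by
  induction k with
  | zero =>
    simp only [Nat.cast_zero, zero_smul, zero_sub, zero_add, one_smul, T_zero, T_neg_one]
    refine ⟨?_, ?_⟩
    · simpa using f_zero f hf
    · simp [T]
  | succ k ih =>
    obtain ⟨ih1, ih2⟩ := ih
    refine ⟨?_, ?_⟩
    · push_cast
      rw [add_sub_cancel_right]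
      exact ih2
    · push_cast
      rw [rec f hf x ((k : ℤ) + 1), add_sub_cancel_right, ih1, ih2, T_succ ((k : ℤ) + 1),
        T_succ (k : ℤ)]
      have h3 : T (k : ℤ) = T ((k : ℤ) - 1) + (k : ℤ) := by
        have := T_succ ((k : ℤ) - 1)
        rw [sub_add_cancel] at this
        omega
      rw [h3]
      module

lemma main (x : A) (n : ℤ) : f (n • x) = T n • f x + T (n - 1) • f (-x) := by
  obtain ⟨k, rfl | rfl⟩ := Int.eq_nat_or_neg n
  · exact (main_nat f hf x k).1
  · have h := (main_nat f hf (-x) k).1
    rw [neg_neg, smul_neg, ← neg_smul] at h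
    rw [h, T_neg, show -(k : ℤ) - 1 = -((k : ℤ) + 1) by ring, T_neg, add_sub_cancel_right, add_comm]

end

/-- Let A and G be abelian groups, written additively, and f : A → G a map which is pointed of degree 2,
that is f(x+y+z) + f(x) + f(y) + f(z) = f(x+y) + f(x+z) + f(y+z) for all x, y, z in A. Then for
every integer n and every x in A one has f(n·x) = (n(n+1)/2)·f(x) + (n(n−1)/2)·f(−x) (the two
coefficients are the integers n(n+1)/2 and n(n−1)/2). -/
theorem result {A : Type u} {G : Type v} [AddCommGroup A] [AddCommGroup G]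
    (f : A → G) (hf : ∀ x y z : A, f (x + y + z) + f x + f y + f z = f (x + y) + f (x + z) + f (y + z))
    (n : ℤ) (x : A) :
    f (n • x) = (n * (n + 1) / 2) • f x + (n * (n - 1) / 2) • f (-x) := by
  have h := main f hf x n
  have h1 : n * (n - 1) / 2 = T (n - 1) := by
    unfold T
    rw [sub_add_cancel, mul_comm]
  rw [h1]
  exact h

end Groth.Agent.S14295
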