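import Groth.Statements.S14294
import Groth.Agent.S14295
-- import your own Groth.Agent.* helpers here

set_option autoImplicit false
universe u v
open PtDeg

namespace Groth.Agent.S14294

/-- Let A and G be abelian groups, written additively, and f : A → G a map which is pointed of degree 2,
that is f(x+y+z) + f(x) + f(y) + f(z) = f(x+y) + f(x+z) + f(y+z) for all x, y, z in A. If an integer
n satisfies n·x = 0 for every x in A, then 2n·f(x) = 0 for every x in A, and if moreover n is odd
then n·f(x) = 0 for every x in A. -/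
theorem result {A : Type u} {G : Type v} [AddCommGroup A] [AddCommGroup G]
    (f : A → G) (hf : ∀ x y z : A, f (x + y + z) + f x + f y + f z = f (x + y) + f (x + z) + f (y + z))
    (n : ℤ) (hn : ∀ x : A, n • x = 0) :
    (∀ x : A, (2 * n) • f x = 0) ∧ (Odd n → ∀ x : A, n • f x = 0) := by
  have h0 : f 0 = 0 := Groth.Agent.S14295.f_zero f hf
  have hab : Groth.Agent.S14295.T n = Groth.Agent.S14295.T (n - 1) + n := by
    have := Groth.Agent.S14295.T_succ (n - 1)
    rw [sub_add_cancel] at this
    omega
  -- E1
  have E1 : ∀ x : A, Groth.Agent.S14295.T n • f x + Groth.Agent.S14295.T (n - 1) • f (-x) = 0 := by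
    intro x
    rw [← Groth.Agent.S14295.main f hf x n, hn, h0]
  have E2 : ∀ x : A, (Groth.Agent.S14295.T n + n) • f x + Groth.Agent.S14295.T n • f (-x) = 0 := by
    intro x
    have h := Groth.Agent.S14295.main f hf x (n + 1)
    rw [add_smul, hn, one_smul, zero_add, add_sub_cancel_right, Groth.Agent.S14295.T_succ] at h
    have h' : (Groth.Agent.S14295.T n + n) • f x + Groth.Agent.S14295.T n • f (-x) =
        ((Groth.Agent.S14295.T n + n + 1) • f x + Groth.Agent.S14295.T n • f (-x)) - f x := by
      module
    rw [h', ← h, sub_self]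
  have main2 : ∀ x : A, (2 * n) • f x = 0 := by
    intro x
    have e1 := E1 (-x)
    rw [neg_neg] at e1
    have e2 := E2 x
    have h' : (2 * n) • f x = ((Groth.Agent.S14295.T n + n) • f x + Groth.Agent.S14295.T n • f (-x)) -
        (Groth.Agent.S14295.T n • f (-x) + Groth.Agent.S14295.T (n - 1) • f x) := by
      rw [hab]
      module
    rw [h', e1, e2, sub_zero]
  refine ⟨main2, ?_⟩
  rintro ⟨m, rfl⟩ x
  have ha : Groth.Agent.S14295.T (2 * m + 1) = (2 * m + 1) * (m + 1) := by
    have := Groth.Agent.S14295.two_T (2 * m + 1)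
    have h2 : 2 * Groth.Agent.S14295.T (2 * m + 1) = 2 * ((2 * m + 1) * (m + 1)) := by
      rw [this]; ring
    exact mul_left_cancel₀ two_ne_zero h2
  have hb : Groth.Agent.S14295.T (2 * m + 1 - 1) = (2 * m + 1) * m := by
    have := hab
    rw [ha] at this
    linear_combination -this
  have e1 := E1 x
  have e1' := E1 (-x)
  rw [neg_neg] at e1'
  have e3 := main2 x
  rw [ha, hb] at e1 e1'
  have h' : (2 * m + 1) • f x = (1 + m) • (((2 * m + 1) * (m + 1)) • f x + ((2 * m + 1) * m) • f (-x))
      - m • (((2 * m + 1) * (m + 1)) • f (-x) + ((2 * m + 1) * m) • f x)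
      - m • ((2 * (2 * m + 1)) • f x) := by
    module
  rw [h', e1, e1', e3]
  simp

end Groth.Agent.S14294
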