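import Groth.Statements.S14307
import Mathlib.Algebra.BigOperators.Group.Finset.Basic
import Mathlib.Algebra.Module.Basic
import Mathlib.Tactic.Module
-- import your own Groth.Agent.* helpers here

set_option autoImplicit false
universe u v
open PtDeg

namespace Groth.Agent.S14307

/-- Let A and G be abelian groups, written additively, f : A → G a map and n ≥ 1. If a tuple x ∈ A^n has
some coordinate equal to 0, then the n-th deviation of f at x, namely Σ_{∅ ≠ I ⊆ {1,…,n}}
(−1)^{n+|I|} f(Σ_{i ∈ I} x_i), equals (−1)^{n+1} f(0). -/
theorem result {A : Type u} {G : Type v} [AddCommGroup A] [AddCommGroup G]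
    (f : A → G) (n : ℕ) (hn : 1 ≤ n) (x : Fin n → A) (i : Fin n) (hx : x i = 0) :
    ∑ I ∈ ((Finset.univ : Finset (Fin n)).powerset.erase ∅), ((-1 : ℤ) ^ (n + I.card)) • f (∑ j ∈ I, x j) =
      ((-1 : ℤ) ^ (n + 1)) • f 0 := by
  classical
  have hmem : (∅ : Finset (Fin n)) ∈ (Finset.univ : Finset (Fin n)).powerset :=
    Finset.empty_mem_powerset _
  rw [Finset.sum_erase_eq_sub hmem]
  have key : ∑ I ∈ (Finset.univ : Finset (Fin n)).powerset,
      ((-1 : ℤ) ^ (n + I.card)) • f (∑ j ∈ I, x j) = 0 := by
    refine Finset.sum_ninvolution (fun I ↦ if i ∈ I then I.erase i else insert i I) ?_ ?_ ?_ ?_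
    · intro I
      by_cases hi : i ∈ I
      · simp only [hi, if_true]
        rw [Finset.sum_erase _ hx, Finset.card_erase_of_mem hi]
        have hc : n + I.card = (n + (I.card - 1)) + 1 := by
          have := Finset.card_pos.mpr ⟨i, hi⟩
          omega
        rw [hc, pow_succ]
        module
      · simp only [hi, if_false]
        rw [Finset.sum_insert_zero hx, Finset.card_insert_of_notMem hi, ← add_assoc, pow_succ]
        module
    · intro I _
      by_cases hi : i ∈ I
      · simp only [hi, if_true]
        intro h
        have h2 : i ∈ I.erase i := by rw [h]; exact hi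
        simp at h2
      · simp only [hi, if_false]
        intro h
        exact hi (h ▸ Finset.mem_insert_self i I)
    · intro I
      exact Finset.mem_powerset.mpr (Finset.subset_univ _)
    · intro I
      by_cases hi : i ∈ I
      · simp [hi, Finset.insert_erase hi]
      · simp [hi, Finset.erase_insert hi]
  rw [key]
  simp [pow_succ]

end Groth.Agent.S14307
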