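import Groth.Statements.S1432
import Mathlib
-- import your own Groth.Agent.* helpers here

set_option autoImplicit false
universe u
open FlatMor

namespace Groth.Agent.S1432

section H
open CategoryTheory CategoryTheory.Limits AlgebraicGeometry
namespace W14
set_option backward.isDefEq.respectTransparency.types false

def LiftProp {X Y : Scheme.{u}} (f : X ⟶ Y) : Prop :=
  ∀ (A B : Type u) [CommRing A] [CommRing B] (φ : A →+* B), Function.Injective φ →
      ∀ (a : Spec (CommRingCat.of B) ⟶ X) (b : Spec (CommRingCat.of A) ⟶ Y),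
        Spec.map (CommRingCat.ofHom φ) ≫ b = a ≫ f →
        ∃ l : Spec (CommRingCat.of A) ⟶ X, Spec.map (CommRingCat.ofHom φ) ≫ l = a ∧ l ≫ f = b

theorem ker_specMap_eq_bot {A B : Type u} [CommRing A] [CommRing B] (φ : A →+* B)
    (hφ : Function.Injective φ) : (Spec.map (CommRingCat.ofHom φ)).ker = ⊥ := by
  apply Scheme.IdealSheafData.ext_of_isAffine
  rw [Scheme.Hom.ker_apply]
  simp only [Scheme.IdealSheafData.ideal_bot, Pi.bot_apply]
  rw [RingHom.ker_eq_bot_iff_eq_zero]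
  intro x hx
  have hnat := Scheme.ΓSpecIso_naturality (CommRingCat.ofHom φ)
  have h1 : (Scheme.ΓSpecIso (CommRingCat.of B)).hom ((Spec.map (CommRingCat.ofHom φ)).appTop x) =
      φ ((Scheme.ΓSpecIso (CommRingCat.of A)).hom x) := by
    exact congrArg (fun k => k.hom x) hnat
  have h2 : (Spec.map (CommRingCat.ofHom φ)).appTop x = 0 := hx
  rw [h2, map_zero] at h1
  have h3 : (Scheme.ΓSpecIso (CommRingCat.of A)).hom x = 0 := hφ (by rw [← h1, map_zero])
  have hinj : Function.Injective (Scheme.ΓSpecIso (CommRingCat.of A)).hom :=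
    ((ConcreteCategory.isIso_iff_bijective (Scheme.ΓSpecIso (CommRingCat.of A)).hom).1
      inferInstance).1
  exact hinj (by rw [h3, map_zero])

theorem lift_of_closedImm {X Y : Scheme.{u}} (f : X ⟶ Y) [IsClosedImmersion f] : LiftProp f := by
  intro A B _ _ φ hφ a b hcomm
  let a' : Spec (CommRingCat.of B) ⟶ pullback f b :=
    pullback.lift a (Spec.map (CommRingCat.ofHom φ)) hcomm.symm
  have h1 : a' ≫ pullback.snd f b = Spec.map (CommRingCat.ofHom φ) := pullback.lift_snd _ _ _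
  have h2 : a' ≫ pullback.fst f b = a := pullback.lift_fst _ _ _
  have hci : IsClosedImmersion (pullback.snd f b) := inferInstance
  have hk : (pullback.snd f b).ker = ⊥ := by
    have h3 := Scheme.Hom.le_ker_comp a' (pullback.snd f b)
    rw [h1, ker_specMap_eq_bot φ hφ] at h3
    exact le_bot_iff.mp h3
  have hiso : IsIso (pullback.snd f b) := IsClosedImmersion.isIso_iff_ker_eq_bot.2 hk
  refine ⟨inv (pullback.snd f b) ≫ pullback.fst f b, ?_, ?_⟩
  · rw [← h1, Category.assoc, IsIso.hom_inv_id_assoc, h2]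
  · rw [Category.assoc, pullback.condition, IsIso.inv_hom_id_assoc]

theorem lift_restrict {X Y : Scheme.{u}} (f : X ⟶ Y) (H : LiftProp f) (V : Y.Opens) :
    LiftProp (f ∣_ V) := by
  intro A B _ _ φ hφ a b hcomm
  have hc : Spec.map (CommRingCat.ofHom φ) ≫ (b ≫ V.ι) = (a ≫ (f ⁻¹ᵁ V).ι) ≫ f := by
    rw [← Category.assoc, hcomm, Category.assoc, Category.assoc, morphismRestrict_ι]
  obtain ⟨l, hl1, hl2⟩ := H A B φ hφ (a ≫ (f ⁻¹ᵁ V).ι) (b ≫ V.ι) hc
  have hrange : Set.range l ⊆ Set.range (f ⁻¹ᵁ V).ι := by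
    rintro _ ⟨x, rfl⟩
    rw [Scheme.Opens.range_ι]
    show f (l x) ∈ V
    have : f (l x) = V.ι (b x) := by
      rw [← Scheme.Hom.comp_apply, hl2, Scheme.Hom.comp_apply]
    rw [this]
    exact (b x).2
  let l' : Spec (CommRingCat.of A) ⟶ (f ⁻¹ᵁ V).toScheme :=
    IsOpenImmersion.lift (f ⁻¹ᵁ V).ι l hrange
  have hl' : l' ≫ (f ⁻¹ᵁ V).ι = l := IsOpenImmersion.lift_fac _ _ _
  refine ⟨l', ?_, ?_⟩
  · rw [← cancel_mono (f ⁻¹ᵁ V).ι, Category.assoc, hl', hl1]
  · rw [← cancel_mono V.ι, Category.assoc, morphismRestrict_ι, ← Category.assoc, hl', hl2]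

theorem closedImm_of_lift_affine {X Y : Scheme.{u}} (f : X ⟶ Y) [IsAffine Y] [CompactSpace X]
    (H : LiftProp f) : IsClosedImmersion f := by
  let 𝒰 := X.affineCover.finiteSubcover
  have h𝒰 : ∀ i, IsAffine (𝒰.X i) := fun i => by
    dsimp [𝒰, Scheme.OpenCover.finiteSubcover]; infer_instance
  let W : Scheme.{u} := ∐ 𝒰.X
  let p : W ⟶ X := Sigma.desc 𝒰.f
  have hpf : ∀ i, Sigma.ι 𝒰.X i ≫ p = 𝒰.f i := fun i => Sigma.ι_desc _ _
  have hW : IsAffine W := inferInstance
  let ψ : Γ(Y, ⊤) ⟶ Γ(W, ⊤) := (p ≫ f).appTop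
  let I : Ideal Γ(Y, ⊤) := RingHom.ker ψ.hom
  let φ' : (Γ(Y, ⊤) ⧸ I) →+* Γ(W, ⊤) := RingHom.kerLift ψ.hom
  have hφ' : Function.Injective φ' := RingHom.kerLift_injective ψ.hom
  let a : Spec (CommRingCat.of Γ(W, ⊤)) ⟶ X := W.isoSpec.inv ≫ p
  let b : Spec (CommRingCat.of (Γ(Y, ⊤) ⧸ I)) ⟶ Y :=
    Spec.map (CommRingCat.ofHom (Ideal.Quotient.mk I)) ≫ Y.isoSpec.inv
  have hψ : CommRingCat.ofHom (Ideal.Quotient.mk I) ≫ CommRingCat.ofHom φ' = ψ := by
    ext x
    rfl
  have hcomm : Spec.map (CommRingCat.ofHom φ') ≫ b = a ≫ f := by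
    show Spec.map (CommRingCat.ofHom φ') ≫ Spec.map (CommRingCat.ofHom (Ideal.Quotient.mk I)) ≫
      Y.isoSpec.inv = (W.isoSpec.inv ≫ p) ≫ f
    rw [← Category.assoc, ← Spec.map_comp, hψ, Category.assoc]
    exact Scheme.isoSpec_inv_naturality (p ≫ f)
  obtain ⟨l, hl1, hl2⟩ := H (Γ(Y, ⊤) ⧸ I) Γ(W, ⊤) φ' hφ' a b hcomm
  have hker : ∀ x ∈ I, f.appTop.hom x = 0 := by
    intro x hx
    apply Scheme.zero_of_zero_cover _ 𝒰
    intro i
    have hx' : (p ≫ f).appTop.hom x = 0 := hx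
    rw [Scheme.Hom.comp_appTop] at hx'
    have h1 : (𝒰.f i).appTop = p.appTop ≫ (Sigma.ι 𝒰.X i).appTop := by
      rw [← Scheme.Hom.comp_appTop, hpf]
    show (𝒰.f i).appTop.hom (f.appTop.hom x) = 0
    rw [h1]
    show (Sigma.ι 𝒰.X i).appTop.hom (p.appTop.hom (f.appTop.hom x)) = 0
    have h2 : p.appTop.hom (f.appTop.hom x) = 0 := hx'
    rw [h2, map_zero]
  let lift : (Γ(Y, ⊤) ⧸ I) →+* Γ(X, ⊤) := Ideal.Quotient.lift I f.appTop.hom hker
  let g : X ⟶ Spec (CommRingCat.of (Γ(Y, ⊤) ⧸ I)) := X.toSpecΓ ≫ Spec.map (CommRingCat.ofHom lift)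
  have hlift : CommRingCat.ofHom (Ideal.Quotient.mk I) ≫ CommRingCat.ofHom lift = f.appTop := by
    ext x
    rfl
  have hgb : g ≫ b = f := by
    show (X.toSpecΓ ≫ Spec.map (CommRingCat.ofHom lift)) ≫
      Spec.map (CommRingCat.ofHom (Ideal.Quotient.mk I)) ≫ Y.isoSpec.inv = f
    rw [Category.assoc, ← Category.assoc (Spec.map _), ← Spec.map_comp, hlift,
      ← Scheme.toSpecΓ_naturality_assoc]
    show f ≫ Y.isoSpec.hom ≫ Y.isoSpec.inv = f
    rw [Iso.hom_inv_id, Category.comp_id]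
  have hbci : IsClosedImmersion b := by
    have : IsClosedImmersion (Spec.map (CommRingCat.ofHom (Ideal.Quotient.mk I))) :=
      IsClosedImmersion.spec_of_surjective _ Ideal.Quotient.mk_surjective
    infer_instance
  have hbmono : Mono b := inferInstance
  have hlg : l ≫ g = 𝟙 _ := by
    rw [← cancel_mono b, Category.assoc, hgb, hl2, Category.id_comp]
  have hp : p ≫ g = W.isoSpec.hom ≫ Spec.map (CommRingCat.ofHom φ') := by
    rw [← cancel_mono b, Category.assoc, hgb, Category.assoc, hcomm]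
    simp [a]
  have hpgl : p ≫ g ≫ l = p := by
    rw [← Category.assoc, hp, Category.assoc, hl1]
    simp [a]
  have hgl : g ≫ l = 𝟙 X := by
    apply 𝒰.hom_ext
    intro i
    rw [← hpf i, Category.assoc, hpgl, Category.comp_id]
  have hiso : IsIso g := ⟨l, hgl, hlg⟩
  rw [← hgb]
  infer_instance

theorem closedImm_of_lift {X Y : Scheme.{u}} (f : X ⟶ Y) [QuasiCompact f]
    (H : LiftProp f) : IsClosedImmersion f := by
  rw [IsZariskiLocalAtTarget.iff_of_iSup_eq_top (P := @IsClosedImmersion) _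
    (iSup_affineOpens_eq_top Y)]
  intro V
  have hV : IsAffine V.1.toScheme := V.2
  have hc : CompactSpace ↥(f ⁻¹ᵁ V.1).toScheme := QuasiCompact.compactSpace_of_compactSpace (f ∣_ V.1)
  exact closedImm_of_lift_affine (f ∣_ V.1) (lift_restrict f H V.1)

end W14
end H


open AlgebraicGeometry CategoryTheory Limits in
/-- For a quasi-compact morphism f : X → Y, being a closed immersion is equivalent to the following
lifting property: for each injective ring map A → B and each commutative square with Spec B → X on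
top and Spec A → Y at the bottom there is a lift Spec A → X making both triangles commute. -/
theorem result {X Y : Scheme.{u}} (f : X ⟶ Y) [QuasiCompact f] :
    IsClosedImmersion f ↔ ∀ (A B : Type u) [CommRing A] [CommRing B] (φ : A →+* B), Function.Injective φ →
      ∀ (a : Spec (CommRingCat.of B) ⟶ X) (b : Spec (CommRingCat.of A) ⟶ Y), Spec.map (CommRingCat.ofHom φ) ≫ b = a ≫ f →
        ∃ l : Spec (CommRingCat.of A) ⟶ X, Spec.map (CommRingCat.ofHom φ) ≫ l = a ∧ l ≫ f = b := by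
  exact ⟨fun h => W14.lift_of_closedImm f, fun h => W14.closedImm_of_lift f h⟩

end Groth.Agent.S1432
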