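import Groth.Statements.S14330
import Groth.Agent.Lib.Helper7.FlatDepth
import Groth.Agent.Lib.Helper1.ParaFSec

set_option autoImplicit false
universe u
open CategoryTheory CategoryTheory.Limits AlgebraicGeometry Opposite
open GrpSch

namespace Groth.Agent.S14330

open Scheme.Modules in
/-- on a trivialising open, restriction maps of `L` between opens inside it are injective
as soon as those of the structure sheaf are. -/
lemma injective_map_of_trivial {X : Scheme.{u}} (L : X.Modules) (W : X.Opens)
    (e : L.restrict W.ι ≅ Coh.structureModule (W : Scheme.{u}))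
    {V'' V' : (W : Scheme.{u}).Opens} (i : V'' ⟶ V')
    (hb : Function.Injective (X.presheaf.map (W.ι.opensFunctor.map i).op)) :
    Function.Injective (L.presheaf.map (W.ι.opensFunctor.map i).op) := by
  have nat := e.hom.mapPresheaf.naturality i.op
  have h1 : Function.Bijective (e.hom.app V') :=
    ConcreteCategory.bijective_of_isIso (e.hom.app V')
  have this : (⇑(ConcreteCategory.hom (e.hom.app V'')) ∘
      ⇑(ConcreteCategory.hom (L.presheaf.map (W.ι.opensFunctor.map i).op))) =
      ⇑(ConcreteCategory.hom (X.presheaf.map (W.ι.opensFunctor.map i).op)) ∘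
        ⇑(ConcreteCategory.hom (e.hom.app V')) := by
    funext x
    exact congr($nat x)
  have h3 : Function.Injective (⇑(ConcreteCategory.hom (e.hom.app V'')) ∘
      ⇑(ConcreteCategory.hom (L.presheaf.map (W.ι.opensFunctor.map i).op))) := by
    rw [this]
    exact hb.comp h1.1
  exact Function.Injective.of_comp h3

lemma injective_map_of_trivial' {X : Scheme.{u}} (L : X.Modules) (W : X.Opens)
    (e : L.restrict W.ι ≅ Coh.structureModule (W : Scheme.{u}))
    {V₁ V₂ : X.Opens} (hle : V₁ ≤ V₂) (hW : V₂ ≤ W)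
    (hb : Function.Injective (X.presheaf.map (homOfLE hle).op)) :
    Function.Injective (L.presheaf.map (homOfLE hle).op) := by
  have h2 : V₂ = W.ι ''ᵁ (W.ι ⁻¹ᵁ V₂) := by
    rw [Scheme.Hom.image_preimage_eq_opensRange_inf, Scheme.Opens.opensRange_ι]
    exact (inf_eq_right.mpr hW).symm
  have h1 : V₁ = W.ι ''ᵁ (W.ι ⁻¹ᵁ V₁) := by
    rw [Scheme.Hom.image_preimage_eq_opensRange_inf, Scheme.Opens.opensRange_ι]
    exact (inf_eq_right.mpr (hle.trans hW)).symm
  obtain ⟨V', rfl⟩ : ∃ V' : (W : Scheme.{u}).Opens, V₂ = W.ι ''ᵁ V' := ⟨_, h2⟩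
  obtain ⟨V'', rfl⟩ : ∃ V'' : (W : Scheme.{u}).Opens, V₁ = W.ι ''ᵁ V'' := ⟨_, h1⟩
  have i : V'' ⟶ V' := homOfLE ((W.ι.image_le_image_iff _ _).1 hle)
  have hi : W.ι.opensFunctor.map i = homOfLE hle := Subsingleton.elim _ _
  have := injective_map_of_trivial L W e i (by rw [hi]; exact hb)
  rwa [hi] at this

/-- injectivity of `L(V) → L(V ∩ U)` for invertible `L` from that of the structure sheaf -/
lemma injective_res_of_invertible {X : Scheme.{u}} (U : X.Opens)
    (hO : ∀ V : X.Opens, Function.Injective (X.presheaf.map (homOfLE (inf_le_left : V ⊓ U ≤ V)).op))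
    (L : X.Modules) (hL : PicF.IsInvertible L) (V : X.Opens) :
    Function.Injective (L.presheaf.map (homOfLE (inf_le_left : V ⊓ U ≤ V)).op) := by
  choose W hxW e using hL
  let F : TopCat.Sheaf Ab X := ⟨L.presheaf, L.isSheaf⟩
  intro s t hst
  refine F.eq_of_locally_eq' (fun x : X => V ⊓ W x) V (fun x => homOfLE inf_le_left)
    (fun x hx => TopologicalSpace.Opens.mem_iSup.2 ⟨x, hx, hxW x⟩) s t (fun x => ?_)
  apply injective_map_of_trivial' L (W x) (e x).some
    (inf_le_left : (V ⊓ W x) ⊓ U ≤ V ⊓ W x) inf_le_right (hO (V ⊓ W x))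
  show (L.presheaf.map _ ≫ L.presheaf.map _) s = (L.presheaf.map _ ≫ L.presheaf.map _) t
  rw [← L.presheaf.map_comp]
  have : (homOfLE (inf_le_left : V ⊓ W x ≤ V)).op ≫
      (homOfLE (inf_le_left : (V ⊓ W x) ⊓ U ≤ V ⊓ W x)).op =
      (homOfLE (inf_le_left : V ⊓ U ≤ V)).op ≫
        (homOfLE (inf_le_inf_right U inf_le_left : (V ⊓ W x) ⊓ U ≤ V ⊓ U)).op := rfl
  rw [this, L.presheaf.map_comp, ConcreteCategory.comp_apply, ConcreteCategory.comp_apply, hst]


/-- Let S be a locally Noetherian scheme, f : A → S a smooth morphism, L an invertible O_A-module and V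
an open subscheme of S; for an open W of S consider the restriction of sections of L from f⁻¹(W) to
f⁻¹(W) ∩ f⁻¹(V), that is the component over W of the natural map f_*L → j_*j^*(f_*L), j : V → S the
inclusion. If V is schematically dense in S, all these restrictions are injective. If V is a big
open of S, meaning that the local ring of S at every point outside V has depth at least 2, all these
restrictions are bijective. (The published statement is for a semi-stable group scheme A; its proof
uses only the smoothness of A over S and the local freeness of L, which are the hypotheses kept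
here.) -/
theorem result {S A : Scheme.{u}} [IsLocallyNoetherian S]
    (f : A ⟶ S) [Smooth f] (L : A.Modules) (hL : PicF.IsInvertible L) (V : S.Opens) :
    (CInt.IsSchematicallyDense V →
      ∀ W : S.Opens, Function.Injective (L.val.map (homOfLE (inf_le_left : f ⁻¹ᵁ W ⊓ f ⁻¹ᵁ V ≤ f ⁻¹ᵁ W)).op)) ∧
    ((∀ x : S, x ∉ V → 2 ≤ LocCoh.depth (S.presheaf.stalk x) (S.presheaf.stalk x)) →
      ∀ W : S.Opens, Function.Bijective (L.val.map (homOfLE (inf_le_left : f ⁻¹ᵁ W ⊓ f ⁻¹ᵁ V ≤ f ⁻¹ᵁ W)).op)) := by
  haveI : IsLocallyNoetherian A := LocallyOfFiniteType.isLocallyNoetherian f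
  constructor
  · intro hdense W
    have hOA : ∀ V' : A.Opens, Function.Injective
        (A.presheaf.map (homOfLE (inf_le_left : V' ⊓ f ⁻¹ᵁ V ≤ V')).op) := fun V' =>
      Groth.Agent.Lib.Helper7.FlatDepth.injective_res_preimage_of_flat f V (fun W' => hdense W') V'
    exact injective_res_of_invertible (f ⁻¹ᵁ V) hOA L hL (f ⁻¹ᵁ W)
  · intro hdepth W
    have hdepthA : ∀ a : A, a ∉ f ⁻¹ᵁ V →
        (2 : ℕ∞) ≤ LocCoh.depth (A.presheaf.stalk a) (A.presheaf.stalk a) := fun a ha =>
      (hdepth (f a) ha).trans (Groth.Agent.Lib.Helper7.FlatDepth.depth_stalk_le_of_flat f a)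
    have hOA : ∀ V' : A.Opens, Function.Bijective
        (A.presheaf.map (homOfLE (inf_le_left : V' ⊓ f ⁻¹ᵁ V ≤ V')).op) := fun V' =>
      Groth.Agent.Lib.Helper7.Hartogs.bijective_res_of_depth (f ⁻¹ᵁ V) hdepthA V'
    exact Groth.Agent.Lib.Helper1.ParaFSec.bijective_res (f ⁻¹ᵁ V) hOA L hL (f ⁻¹ᵁ W)

end Groth.Agent.S14330
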