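import Groth.Statements.S14346
import Mathlib.RingTheory.Spectrum.Prime.FreeLocus
-- import your own Groth.Agent.* helpers here

set_option autoImplicit false
universe u v
open TensorProduct
open QuotLF

namespace Groth.Agent.S14346

lemma eq_bot_of_rank {A : Type*} [CommRing A] {P : Type*} [AddCommGroup P] [Module A P]
    [Module.Finite A P] [Module.Projective A P] (N : Submodule A P)
    [Module.Finite A (P ⧸ N)] [Module.Projective A (P ⧸ N)]
    (h : Module.rankAtStalk (R := A) (P ⧸ N) = Module.rankAtStalk (R := A) P) : N = ⊥ := by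
  obtain ⟨s, hs⟩ := N.mkQ.exists_rightInverse_of_surjective (LinearMap.range_eq_top.mpr N.mkQ_surjective)
  have hs' : ∀ q, (Submodule.Quotient.mk (s q) : P ⧸ N) = q := fun q ↦ LinearMap.congr_fun hs q
  have hN : ∀ n : N, (Submodule.Quotient.mk (n : P) : P ⧸ N) = 0 := fun n ↦
    (Submodule.Quotient.mk_eq_zero N).mpr n.2
  -- projection onto N
  let π : P →ₗ[A] N := (LinearMap.id - s.comp N.mkQ).codRestrict N (fun p ↦ by
    rw [← Submodule.Quotient.mk_eq_zero, ← Submodule.mkQ_apply]
    simp [hs'])
  have hπ : π.comp N.subtype = LinearMap.id := by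
    ext n
    simp [π, hN]
  have hproj : Module.Projective A N := Module.Projective.of_split N.subtype π hπ
  have hfin : Module.Finite A N := Module.Finite.of_surjective π (fun n ↦ ⟨n.1, by
    have := LinearMap.congr_fun hπ n
    simpa using this⟩)
  let e : (N × (P ⧸ N)) ≃ₗ[A] P := LinearEquiv.ofBijective (N.subtype.coprod s) (by
    constructor
    · rw [← LinearMap.ker_eq_bot, LinearMap.ker_eq_bot']
      rintro ⟨n, q⟩ hnq
      have h1 : (n : P) + s q = 0 := by simpa using hnq
      have h2 : q = 0 := by
        have := congrArg N.mkQ h1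
        simpa [hs', hN] using this
      subst h2
      have h3 : (n : P) = 0 := by simpa using h1
      simp [Subtype.ext_iff, h3]
    · intro p
      refine ⟨(π p, N.mkQ p), ?_⟩
      simp [π])
  have h1 := Module.rankAtStalk_eq_of_equiv e
  rw [Module.rankAtStalk_prod, h] at h1
  have h2 : Module.rankAtStalk (R := A) N = 0 := by
    ext p
    have := congrFun h1 p
    simpa using this
  have h3 : Subsingleton N := Module.rankAtStalk_eq_zero_iff_subsingleton.mp h2
  exact Submodule.subsingleton_iff_eq_bot.mp h3

/-- Let R be a commutative ring, M an R-module, k ≥ 0, and A an R-algebra for which A ⊗_R M is finite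
projective of constant rank k, i.e. Spec A → Spec R factors through the locally closed stratum where
M is locally free of rank k. Then A ⊗_R M has exactly one rank-k locally free quotient: the zero
submodule has finite projective quotient of constant rank k, and every submodule with such a
quotient is zero. In other words the Quot scheme of rank-k locally free quotients of M restricted to
that stratum maps isomorphically onto it. -/
theorem result (R : Type u) [CommRing R]
    (M : Type v) [AddCommGroup M] [Module R M] (k : ℕ)
    (A : Type u) [CommRing A] [Algebra R A] [Module.Finite A (A ⊗[R] M)] [Module.Projective A (A ⊗[R] M)]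
    (hk : ∀ p : PrimeSpectrum A, Module.rankAtStalk (R := A) (A ⊗[R] M) p = k) :
    (∃ N : Module.Grassmannian A (A ⊗[R] M) k, N.toSubmodule = ⊥) ∧
      ∀ N : Module.Grassmannian A (A ⊗[R] M) k, N.toSubmodule = ⊥ := by
  have hbot : Module.rankAtStalk (R := A) ((A ⊗[R] M) ⧸ (⊥ : Submodule A (A ⊗[R] M))) =
      Module.rankAtStalk (R := A) (A ⊗[R] M) :=
    Module.rankAtStalk_eq_of_equiv (Submodule.quotEquivOfEqBot ⊥ rfl)
  refine ⟨⟨⟨⊥, ?_, ?_, ?_⟩, rfl⟩, fun N ↦ ?_⟩
  · exact Module.Finite.equiv (Submodule.quotEquivOfEqBot (⊥ : Submodule A (A ⊗[R] M)) rfl).symm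
  · exact Module.Projective.of_equiv (Submodule.quotEquivOfEqBot (⊥ : Submodule A (A ⊗[R] M)) rfl).symm
  · intro p
    rw [hbot]
    exact hk p
  · apply eq_bot_of_rank
    ext p
    rw [N.rankAtStalk_eq p, hk p]

end Groth.Agent.S14346
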