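import Groth.Statements.S14351
import Mathlib.RingTheory.Flat.FaithfullyFlat.Algebra
-- import your own Groth.Agent.* helpers here

set_option autoImplicit false
universe u
open CAlg

namespace Groth.Agent.S14351

open TensorProduct in
/-- If `A → B → C` with `C` faithfully flat over `B` and flat over `A`, then `B` is flat over `A`.
(Same argument as in `Groth/Agent/Lib/Helper12/FlatDescent.lean`.) -/
theorem flat_of_flat_of_faithfullyFlat' (A B C : Type*) [CommRing A] [CommRing B] [CommRing C]
    [Algebra A B] [Algebra B C] [Algebra A C] [IsScalarTower A B C]
    [Module.FaithfullyFlat B C] [Module.Flat A C] : Module.Flat A B := by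
  rw [Module.Flat.iff_lTensor_preserves_injective_linearMap]
  intro N P _ _ _ _ f hf
  have h1 : Function.Injective (f.lTensor C) :=
    Module.Flat.lTensor_preserves_injective_linearMap f hf
  have h2 := TensorProduct.AlgebraTensorModule.lTensor_comp_cancelBaseChange A B C (M := C) f
  let g : B ⊗[A] N →ₗ[B] B ⊗[A] P := TensorProduct.AlgebraTensorModule.lTensor B B f
  have hg : Function.Injective (g.lTensor C) := by
    have h3 : Function.Injective
        ((TensorProduct.AlgebraTensorModule.cancelBaseChange A B C C P).toLinearMap ∘ₗ
          TensorProduct.AlgebraTensorModule.lTensor C C g) := by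
      rw [← h2]
      have : Function.Injective (TensorProduct.AlgebraTensorModule.lTensor C C f) := h1
      exact this.comp (TensorProduct.AlgebraTensorModule.cancelBaseChange A B C C N).injective
    rw [LinearMap.coe_comp] at h3
    exact Function.Injective.of_comp
      (f := ⇑(TensorProduct.AlgebraTensorModule.cancelBaseChange A B C C P).toLinearMap) h3
  exact (Module.FaithfullyFlat.lTensor_injective_iff_injective B C g).1 hg

/-- For ring maps A → B → C with C faithfully flat over B and C faithfully flat over A, the ring B is
faithfully flat over A. -/
theorem result (A B C : Type u) [CommRing A] [CommRing B]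
    [CommRing C] [Algebra A B] [Algebra B C] [Algebra A C] [IsScalarTower A B C]
    [Module.FaithfullyFlat B C] [Module.FaithfullyFlat A C] : Module.FaithfullyFlat A B := by
  have : Module.Flat A B := flat_of_flat_of_faithfullyFlat' A B C
  apply Module.FaithfullyFlat.of_comap_surjective
  intro p
  obtain ⟨q, rfl⟩ := PrimeSpectrum.comap_surjective_of_faithfullyFlat (A := A) (B := C) p
  refine ⟨PrimeSpectrum.comap (algebraMap B C) q, ?_⟩
  rw [← PrimeSpectrum.comap_comp_apply, IsScalarTower.algebraMap_eq A B C]

end Groth.Agent.S14351
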