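import Groth.Statements.S14353
import Groth.Agent.Lib.Helper26.MLSections
import Mathlib

set_option autoImplicit false
universe u
open CategoryTheory CategoryTheory.Limits CategoryTheory.MonoidalCategory
open CAlg

namespace Groth.Agent.S14353

section Aux
open CategoryTheory CategoryTheory.Limits Opposite MonoidalCategory TensorProduct
open Groth.Agent.Lib.Helper26

variable {R : Type u} [CommRing R]

section Tower
variable {B C : ℕᵒᵖ ⥤ ModuleCat.{u} R} (ψ : B ⟶ C)

theorem map_comp_apply (B : ℕᵒᵖ ⥤ ModuleCat.{u} R) {i j k : ℕᵒᵖ} (f : i ⟶ j) (g : j ⟶ k)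
    (x : B.obj i) : (B.map (f ≫ g)).hom x = (B.map g).hom ((B.map f).hom x) := by
  rw [B.map_comp]; rfl

theorem map_id_apply (B : ℕᵒᵖ ⥤ ModuleCat.{u} R) (i : ℕᵒᵖ) (x : B.obj i) :
    (B.map (𝟙 i)).hom x = x := by
  rw [B.map_id]; rfl

theorem nat_apply {i j : ℕᵒᵖ} (f : i ⟶ j) (x : B.obj i) :
    (ψ.app j).hom ((B.map f).hom x) = (C.map f).hom ((ψ.app i).hom x) := by
  have := congrArg (fun φ => φ.hom x) (ψ.naturality f)
  exact this

/-- the fibre functor over a compatible family -/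
def fiber (c : ∀ j, C.obj j) (hc : ∀ ⦃i j : ℕᵒᵖ⦄ (f : i ⟶ j), (C.map f).hom (c i) = c j) :
    ℕᵒᵖ ⥤ Type u where
  obj j := {b : B.obj j // (ψ.app j).hom b = c j}
  map {i j} f := TypeCat.ofHom (fun x => ⟨(B.map f).hom x.1, by rw [nat_apply, x.2]; exact hc f⟩)
  map_id := by
    intro j
    ext x
    simp
  map_comp := by
    intro i j k f g
    ext x
    simp

theorem fiber_map_val (c : ∀ j, C.obj j)
    (hc : ∀ ⦃i j : ℕᵒᵖ⦄ (f : i ⟶ j), (C.map f).hom (c i) = c j) {i j : ℕᵒᵖ} (f : i ⟶ j)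
    (x : (fiber ψ c hc).obj i) : ((fiber ψ c hc).map f x).1 = (B.map f).hom x.1 := rfl

theorem fiber_ML (hB : ∀ j, IsArtinian R (B.obj j)) (c : ∀ j, C.obj j)
    (hc : ∀ ⦃i j : ℕᵒᵖ⦄ (f : i ⟶ j), (C.map f).hom (c i) = c j)
    (hne : ∀ j, ∃ b : B.obj j, (ψ.app j).hom b = c j) :
    (fiber ψ c hc).IsMittagLeffler := by
  intro j
  obtain ⟨n⟩ := j
  have hArt : IsArtinian R (B.obj (op n)) := hB _
  let g : ∀ k, (op (n + k) : ℕᵒᵖ) ⟶ op n := fun k => (homOfLE (Nat.le_add_right n k)).op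
  let J : ℕ →o (Submodule R (B.obj (op n)))ᵒᵈ :=
    { toFun := fun k => OrderDual.toDual
        ((LinearMap.ker (ψ.app (op (n + k))).hom).map (B.map (g k)).hom)
      monotone' := by
        intro k k' hkk'
        change (LinearMap.ker (ψ.app (op (n + k'))).hom).map (B.map (g k')).hom ≤
          (LinearMap.ker (ψ.app (op (n + k))).hom).map (B.map (g k)).hom
        rintro _ ⟨a, ha, rfl⟩
        let h : (op (n + k') : ℕᵒᵖ) ⟶ op (n + k) := (homOfLE (Nat.add_le_add_left hkk' n)).op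
        refine ⟨(B.map h).hom a, ?_, ?_⟩
        · rw [SetLike.mem_coe, LinearMap.mem_ker] at ha ⊢
          rw [nat_apply, ha, map_zero]
        · rw [← map_comp_apply]
          rfl }
  obtain ⟨k₀, hk₀⟩ := IsArtinian.monotone_stabilizes J
  refine ⟨op (n + k₀), g k₀, ?_⟩
  intro k f z hz
  obtain ⟨x, rfl⟩ := hz
  obtain ⟨m⟩ := k
  have hnm : n ≤ m := leOfHom f.unop
  -- common refinement
  obtain ⟨k', hk'1, hk'2⟩ : ∃ k', k₀ ≤ k' ∧ m ≤ n + k' :=
    ⟨max k₀ m, le_max_left _ _, (le_max_right _ _).trans (Nat.le_add_left _ _)⟩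
  let h1 : (op (n + k') : ℕᵒᵖ) ⟶ op (n + k₀) := (homOfLE (Nat.add_le_add_left hk'1 n)).op
  let h2 : (op (n + k') : ℕᵒᵖ) ⟶ op m := (homOfLE hk'2).op
  obtain ⟨y0, hy0⟩ := hne (op (n + k'))
  have hd : x.1 - (B.map h1).hom y0 ∈ LinearMap.ker (ψ.app (op (n + k₀))).hom := by
    rw [LinearMap.mem_ker, map_sub, nat_apply, x.2, hy0, hc h1, sub_self]
  have hmem : (B.map (g k₀)).hom (x.1 - (B.map h1).hom y0) ∈
      (LinearMap.ker (ψ.app (op (n + k₀))).hom).map (B.map (g k₀)).hom := ⟨_, hd, rfl⟩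
  have hJ : (LinearMap.ker (ψ.app (op (n + k₀))).hom).map (B.map (g k₀)).hom =
      (LinearMap.ker (ψ.app (op (n + k'))).hom).map (B.map (g k')).hom :=
    congrArg OrderDual.ofDual (hk₀ k' hk'1)
  rw [hJ] at hmem
  obtain ⟨a', ha'ker, ha'⟩ := hmem
  rw [SetLike.mem_coe, LinearMap.mem_ker] at ha'ker
  let y : (fiber ψ c hc).obj (op (n + k')) := ⟨y0 + a', by rw [map_add, hy0, ha'ker, add_zero]⟩
  refine ⟨(fiber ψ c hc).map h2 y, ?_⟩
  apply Subtype.ext
  change (B.map f).hom ((B.map h2).hom (y0 + a')) = (B.map (g k₀)).hom x.1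
  rw [← map_comp_apply]
  have e1 : h2 ≫ f = g k' := Subsingleton.elim _ _
  have e2 : g k' = h1 ≫ g k₀ := Subsingleton.elim _ _
  rw [e1, map_add, ha', map_sub, e2, map_comp_apply]
  abel

theorem ML_lift (hB : ∀ j, IsArtinian R (B.obj j)) (c : ∀ j, C.obj j)
    (hc : ∀ ⦃i j : ℕᵒᵖ⦄ (f : i ⟶ j), (C.map f).hom (c i) = c j)
    (hne : ∀ j, ∃ b : B.obj j, (ψ.app j).hom b = c j) :
    ∃ b : ∀ j, B.obj j, (∀ ⦃i j : ℕᵒᵖ⦄ (f : i ⟶ j), (B.map f).hom (b i) = b j) ∧
      ∀ j, (ψ.app j).hom (b j) = c j := by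
  have hml := fiber_ML ψ hB c hc hne
  have : ∀ j, Nonempty ((fiber ψ c hc).obj j) := fun j => by
    obtain ⟨b, hb⟩ := hne j
    exact ⟨⟨b, hb⟩⟩
  obtain ⟨e0⟩ := Functor.toEventualRanges_nonempty (fiber ψ c hc) hml (op 0)
  obtain ⟨s, -⟩ := MLSections.exists_section (fiber ψ c hc).toEventualRanges
    (fun n => Functor.surjective_toEventualRanges _ hml _) 0 e0
  let s' := (fiber ψ c hc).toEventualRangesSectionsEquiv s
  refine ⟨fun j => (s'.1 j).1, fun i j f => ?_, fun j => (s'.1 j).2⟩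
  have := s'.2 f
  exact congrArg Subtype.val this

end Tower

section Lim
variable (M : ℕᵒᵖ ⥤ ModuleCat.{u} R)

noncomputable abbrev π (j : ℕᵒᵖ) : (limit M : ModuleCat.{u} R) →ₗ[R] M.obj j := (limit.π M j).hom

theorem π_compat {i j : ℕᵒᵖ} (f : i ⟶ j) (x : (limit M : ModuleCat.{u} R)) :
    (M.map f).hom (π M i x) = π M j x :=
  congrArg (fun φ => φ.hom x) (limit.w M f)

theorem π_ext (x y : (limit M : ModuleCat.{u} R)) (h : ∀ j, π M j x = π M j y) : x = y :=
  Concrete.limit_ext M x y h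

theorem π_exists (w : ∀ j, M.obj j) (hw : ∀ ⦃i j : ℕᵒᵖ⦄ (f : i ⟶ j), (M.map f).hom (w i) = w j) :
    ∃ x : (limit M : ModuleCat.{u} R), ∀ j, π M j x = w j := by
  let s : (M ⋙ forget (ModuleCat.{u} R)).sections := ⟨fun j => w j, fun f => hw f⟩
  refine ⟨(Types.isLimitEquivSections
    (isLimitOfPreserves (forget (ModuleCat.{u} R)) (limit.isLimit M))).symm s, fun j => ?_⟩
  exact Types.isLimitEquivSections_symm_apply
    (isLimitOfPreserves (forget (ModuleCat.{u} R)) (limit.isLimit M)) s j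

end Lim

section Free

theorem psr_nat {X Y : Type u} [AddCommGroup X] [Module R X] [AddCommGroup Y] [Module R Y]
    (g : X →ₗ[R] Y) (ι : Type) [Fintype ι] [DecidableEq ι] (z : X ⊗[R] (ι → R)) (k : ι) :
    piScalarRight R R Y ι (g.rTensor (ι → R) z) k = g (piScalarRight R R X ι z k) := by
  induction z using TensorProduct.induction_on with
  | zero => simp
  | tmul x f => simp [piScalarRight_apply]
  | add a b ha hb => simp only [map_add, Pi.add_apply, ha, hb]

variable (M : ℕᵒᵖ ⥤ ModuleCat.{u} R)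

/-- joint injectivity of the projections after tensoring with `P` -/
def InjP (P : Type u) [AddCommGroup P] [Module R P] : Prop :=
  ∀ z : (limit M : ModuleCat.{u} R) ⊗[R] P, (∀ j, (π M j).rTensor P z = 0) → z = 0

/-- every compatible family in the `M_j ⊗ P` comes from `(lim M) ⊗ P` -/
def SurjP (P : Type u) [AddCommGroup P] [Module R P] : Prop :=
  ∀ y : ∀ j : ℕᵒᵖ, (M.obj j) ⊗[R] P,
    (∀ ⦃i j : ℕᵒᵖ⦄ (f : i ⟶ j), (M.map f).hom.rTensor P (y i) = y j) →
      ∃ z : (limit M : ModuleCat.{u} R) ⊗[R] P, ∀ j, (π M j).rTensor P z = y j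

theorem injP_free (ι : Type) [Fintype ι] [DecidableEq ι] : InjP M (ι → R) := by
  intro z hz
  apply (piScalarRight R R _ ι).injective
  rw [map_zero]
  funext k
  apply π_ext
  intro j
  rw [Pi.zero_apply, map_zero, ← psr_nat, hz j, map_zero, Pi.zero_apply]

theorem surjP_free (ι : Type) [Fintype ι] [DecidableEq ι] : SurjP M (ι → R) := by
  intro y hy
  have hx : ∀ k : ι, ∃ x : (limit M : ModuleCat.{u} R),
      ∀ j, π M j x = piScalarRight R R _ ι (y j) k := by
    intro k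
    refine π_exists M (fun j => piScalarRight R R _ ι (y j) k) ?_
    intro i j f
    rw [← psr_nat, hy f]
  choose x hx using hx
  refine ⟨(piScalarRight R R _ ι).symm x, fun j => ?_⟩
  apply (piScalarRight R R _ ι).injective
  funext k
  rw [psr_nat, LinearEquiv.apply_symm_apply, hx]

end Free

section General
variable (M : ℕᵒᵖ ⥤ ModuleCat.{u} R)

theorem lift_family {P Q : Type u} [AddCommGroup P] [Module R P] [AddCommGroup Q] [Module R Q]
    (hArt : ∀ j : ℕᵒᵖ, IsArtinian R ((M.obj j) ⊗[R] P)) (g : P →ₗ[R] Q)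
    (y : ∀ j : ℕᵒᵖ, (M.obj j) ⊗[R] Q)
    (hy : ∀ ⦃i j : ℕᵒᵖ⦄ (f : i ⟶ j), (M.map f).hom.rTensor Q (y i) = y j)
    (hne : ∀ j, ∃ b : (M.obj j) ⊗[R] P, g.lTensor (M.obj j) b = y j) :
    ∃ y' : ∀ j : ℕᵒᵖ, (M.obj j) ⊗[R] P,
      (∀ ⦃i j : ℕᵒᵖ⦄ (f : i ⟶ j), (M.map f).hom.rTensor P (y' i) = y' j) ∧
        ∀ j, g.lTensor (M.obj j) (y' j) = y j :=
  ML_lift (B := M ⋙ tensorRight (ModuleCat.of R P)) (C := M ⋙ tensorRight (ModuleCat.of R Q))
    (Functor.whiskerLeft M ((tensoringRight (ModuleCat.{u} R)).map (ModuleCat.ofHom g)))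
    hArt y hy hne

variable {P₁ P₀ N : Type u} [AddCommGroup P₁] [Module R P₁] [AddCommGroup P₀] [Module R P₀]
  [AddCommGroup N] [Module R N] (f : P₁ →ₗ[R] P₀) (p : P₀ →ₗ[R] N)

theorem rl_comm {X Y : Type u} [AddCommGroup X] [Module R X] [AddCommGroup Y] [Module R Y]
    {P Q : Type u} [AddCommGroup P] [Module R P] [AddCommGroup Q] [Module R Q]
    (a : X →ₗ[R] Y) (g : P →ₗ[R] Q) (z : X ⊗[R] P) :
    a.rTensor Q (g.lTensor X z) = g.lTensor Y (a.rTensor P z) := by
  rw [← LinearMap.comp_apply, ← LinearMap.comp_apply, LinearMap.rTensor_comp_lTensor,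
    LinearMap.lTensor_comp_rTensor]

include p in
theorem surjP_of_pres (hp : Function.Surjective p)
    (hArt : ∀ j : ℕᵒᵖ, IsArtinian R ((M.obj j) ⊗[R] P₀)) (h0 : SurjP M P₀) : SurjP M N := by
  intro y hy
  obtain ⟨y', hy', hy'2⟩ := lift_family M hArt p y hy
    (fun j => LinearMap.lTensor_surjective (M.obj j) hp (y j))
  obtain ⟨z', hz'⟩ := h0 y' hy'
  refine ⟨p.lTensor _ z', fun j => ?_⟩
  rw [rl_comm, hz', hy'2]

include f p in
theorem injP_of_pres (hp : Function.Surjective p) (hex : Function.Exact f p)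
    (hArt : ∀ j : ℕᵒᵖ, IsArtinian R ((M.obj j) ⊗[R] P₁)) (h0 : InjP M P₀) (h1 : SurjP M P₁) :
    InjP M N := by
  intro z hz
  obtain ⟨z', rfl⟩ := LinearMap.lTensor_surjective (limit M : ModuleCat.{u} R) hp z
  -- the family of components of z'
  let y' : ∀ j : ℕᵒᵖ, (M.obj j) ⊗[R] P₀ := fun j => (π M j).rTensor P₀ z'
  have hy' : ∀ ⦃i j : ℕᵒᵖ⦄ (g : i ⟶ j), (M.map g).hom.rTensor P₀ (y' i) = y' j := by
    intro i j g
    simp only [y']
    rw [← LinearMap.comp_apply, ← LinearMap.rTensor_comp]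
    congr 2
    exact congrArg ModuleCat.Hom.hom (limit.w M g)
  have hne : ∀ j, ∃ b : (M.obj j) ⊗[R] P₁, f.lTensor (M.obj j) b = y' j := by
    intro j
    have hex' := lTensor_exact (M.obj j) hex hp
    apply (hex' (y' j)).mp
    simp only [y']
    rw [← rl_comm, hz j]
  obtain ⟨w, hw, hw2⟩ := lift_family M hArt f y' hy' hne
  obtain ⟨u', hu'⟩ := h1 w hw
  have : f.lTensor _ u' = z' := by
    rw [← sub_eq_zero]
    apply h0
    intro j
    rw [map_sub, rl_comm, hu', hw2, sub_self]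
  rw [← this, ← LinearMap.comp_apply, ← LinearMap.lTensor_comp, hex.linearMap_comp_eq_zero,
    LinearMap.lTensor_zero, LinearMap.zero_apply]

end General

section Main

theorem post_π_apply (M : ℕᵒᵖ ⥤ ModuleCat.{u} R) (P : Type u) [AddCommGroup P] [Module R P]
    (j : ℕᵒᵖ) (z : (limit M : ModuleCat.{u} R) ⊗[R] P) :
    (limit.π (M ⋙ tensorRight (ModuleCat.of R P)) j).hom
      ((limit.post M (tensorRight (ModuleCat.of R P))).hom z) =
    (π M j).rTensor P z := by
  have := congrArg (fun φ => φ.hom z) (limit.post_π M (tensorRight (ModuleCat.of R P)) j)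
  exact this

theorem main (R : Type u) [CommRing R]
    (M : ℕᵒᵖ ⥤ ModuleCat.{u} R) (hM : ∀ n : ℕᵒᵖ, IsFiniteLength R (M.obj n))
    (N : Type u) [AddCommGroup N] [Module R N] [Module.FinitePresentation R N] :
    IsIso (limit.post M (tensorRight (ModuleCat.of R N))) := by
  obtain ⟨n, m, p, f, hp, hex⟩ := Module.FinitePresentation.exists_fin' R N
  have hArtM : ∀ j, IsArtinian R (M.obj j) := fun j =>
    (isFiniteLength_iff_isNoetherian_isArtinian.mp (hM j)).2
  have hArt : ∀ (k : ℕ) (j : ℕᵒᵖ), IsArtinian R ((M.obj j) ⊗[R] (Fin k → R)) := fun k j => by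
    have := hArtM j
    exact isArtinian_of_linearEquiv (piScalarRight R R (M.obj j) (Fin k)).symm
  have hS : SurjP M N := surjP_of_pres M p hp (hArt n) (surjP_free M (Fin n))
  have hI : InjP M N :=
    injP_of_pres M f p hp hex (hArt m) (injP_free M (Fin n)) (surjP_free M (Fin m))
  rw [ConcreteCategory.isIso_iff_bijective]
  constructor
  · intro z z' hzz'
    rw [← sub_eq_zero]
    apply hI
    intro j
    rw [map_sub, sub_eq_zero, ← post_π_apply, ← post_π_apply]
    exact congrArg _ hzz'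
  · intro y
    obtain ⟨z, hz⟩ := hS (fun j => (limit.π (M ⋙ tensorRight (ModuleCat.of R N)) j).hom y)
      (fun i j g => congrArg (fun φ => φ.hom y) (limit.w (M ⋙ tensorRight (ModuleCat.of R N)) g))
    refine ⟨z, ?_⟩
    apply Concrete.limit_ext
    intro j
    exact (post_π_apply M N j z).trans (hz j)

end Main


end Aux

/-- For a commutative ring R, an inverse system (M_n)_{n ∈ ℕ} of R-modules of finite length and a
finitely presented R-module N, the canonical comparison map (lim_n M_n) ⊗_R N ⟶ lim_n (M_n ⊗_R N) is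
an isomorphism. (The published statement takes N = R/I for a finitely generated ideal I; the
argument covers every finitely presented N, which is the form stated here.) -/
theorem result (R : Type u) [CommRing R]
    (M : ℕᵒᵖ ⥤ ModuleCat.{u} R) (hM : ∀ n : ℕᵒᵖ, IsFiniteLength R (M.obj n))
    (N : Type u) [AddCommGroup N] [Module R N] [Module.FinitePresentation R N] :
    IsIso (limit.post M (tensorRight (ModuleCat.of R N))) := by
  exact main R M hM N

end Groth.Agent.S14353
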