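import Groth.Statements.S14355
import Groth.Agent.Lib.Helper2.SSCollapse

set_option autoImplicit false
universe v u
open CategoryTheory CategoryTheory.Limits
open SpSeqMor

namespace Groth.Agent.S14355

open Groth.Agent.Lib.Helper2.SSCollapse SpSeqMor

variable {C : Type u} [Category.{v} C] [Abelian C]

lemma homologyMap_eq_zero {ι : Type*} {c : ComplexShape ι} {K L : HomologicalComplex C c}
    (f : K ⟶ L) (j : ι) (h : f.f j = 0) : HomologicalComplex.homologyMap f j = 0 := by
  have h1 : HomologicalComplex.cyclesMap f j = 0 := by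
    rw [← cancel_mono (L.iCycles j), HomologicalComplex.cyclesMap_i, h, comp_zero, zero_comp]
  rw [← cancel_epi (K.homologyπ j), HomologicalComplex.homologyπ_naturality, h1, zero_comp,
    comp_zero]

lemma hom_page_eq_zero (E E' : E₂CohomologicalSpectralSequence C) (φ : E ⟶ E') (pq : ℤ × ℤ)
    (h : (φ.hom 2 le_rfl).f pq = 0) (s : ℤ) (hs : 2 ≤ s) : (φ.hom s hs).f pq = 0 := by
  induction s, hs using Int.leInduction with
  | base => exact h
  | succ s hs ih =>
    have hcomm := φ.comm s (s + 1) pq rfl hs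
    rw [homologyMap_eq_zero _ _ ih, zero_comp] at hcomm
    rw [← cancel_epi (E.iso s (s + 1) pq rfl hs).hom, ← hcomm, comp_zero]

/-- the key filtered lemma -/
lemma filLift_hom_eq_zero {K L : SpSeq.FilObj C} (g : FilLift K L) (p : ℤ)
    (hK : K.fil p = ⊤) (hL : L.fil (p + 1) = ⊥) (hg : g.gr p = 0) : g.hom = 0 := by
  have hz : IsZero (L.step (p + 1)) := by
    show IsZero ((L.fil (p + 1) : Subobject L.obj) : C)
    rw [hL]
    exact IsZero.of_iso (isZero_zero C) Subobject.botCoeIsoZero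
  have h0 : L.stepLE (Int.le_add_one (le_refl p)) = 0 := hz.eq_of_src _ _
  have hmono : Mono (cokernel.π (L.stepLE (Int.le_add_one (le_refl p)))) := by
    rw [h0]
    infer_instance
  have h1 : g.lift p ≫ cokernel.π (L.stepLE (Int.le_add_one (le_refl p))) = 0 := by
    have := cokernel.π_desc (K.stepLE (Int.le_add_one (le_refl p)))
      (g.lift p ≫ cokernel.π (L.stepLE (Int.le_add_one (le_refl p)))) (by
        rw [← Category.assoc, g.stepLE_lift, Category.assoc, cokernel.condition, comp_zero])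
    have hgr : g.gr p = cokernel.desc (K.stepLE (Int.le_add_one (le_refl p)))
        (g.lift p ≫ cokernel.π (L.stepLE (Int.le_add_one (le_refl p)))) (by
        rw [← Category.assoc, g.stepLE_lift, Category.assoc, cokernel.condition, comp_zero]) := rfl
    rw [← this, ← hgr, hg]
    exact comp_zero
  have h2 : g.lift p = 0 := by
    rw [← cancel_mono (cokernel.π (L.stepLE (Int.le_add_one (le_refl p)))), h1, zero_comp]
  have h3 : (K.fil p).arrow ≫ g.hom = 0 := by
    rw [← g.lift_arrow, h2, zero_comp]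
  have : IsIso (K.fil p).arrow := (Subobject.isIso_arrow_iff_eq_top _).2 hK
  rw [← cancel_epi (K.fil p).arrow, h3, comp_zero]


/-- Let φ : E ⟶ E' be a morphism of E_2-cohomological spectral sequences in an abelian category, with
abutments H and H' whose filtrations are finite in each degree, and f a morphism of abutment data
over φ. Fix integers l and a₀. If E_2^{i, l-i} = 0 for i < a₀, E'_2^{i, l-i} = 0 for i > a₀ and
φ_2^{a₀, l-a₀} = 0, then f^l : H^l ⟶ H'^l is zero. (The published statement prints the two vanishing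
hypotheses at positions (i, l); the argument works on the line of total degree l, at positions (i, l
- i), which is the form stated here.) -/
theorem result (C : Type u) [Category.{v} C] [Abelian C]
    (E E' : E₂CohomologicalSpectralSequence C) (φ : E ⟶ E') (H H' : ℤ → C)
    (a : SpSeq.Abutment E H) (a' : SpSeq.Abutment E' H')
    (ha : ∀ n : ℤ, a.IsFinite n) (ha' : ∀ n : ℤ, a'.IsFinite n)
    (f : SpSeqMor.AbutHom φ a a') (l a₀ : ℤ)
    (hE : ∀ i : ℤ, i < a₀ → IsZero ((E.page 2 le_rfl).X (i, l - i)))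
    (hE' : ∀ i : ℤ, a₀ < i → IsZero ((E'.page 2 le_rfl).X (i, l - i)))
    (hφ : (φ.hom 2 le_rfl).f (a₀, l - a₀) = 0) :
    f.hom l = 0 := by
  obtain ⟨b₀, rfl⟩ : ∃ b₀, l = a₀ + b₀ := ⟨l - a₀, by ring⟩
  rw [add_sub_cancel_left] at hφ
  -- graded pieces
  have hgr : ∀ i : ℤ, i < a₀ →
      IsZero (SpSeq.grPiece (a.fil (a₀ + b₀)) (a.anti (a₀ + b₀)) i) := by
    intro i hi
    have := (Groth.Agent.S8355.result E 2 le_rfl (i, a₀ + b₀ - i) (hE i hi)).2 H a
    exact isZero_grPiece_of_eq a i _ _ (by simp) this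
  have hgr' : ∀ i : ℤ, a₀ < i →
      IsZero (SpSeq.grPiece (a'.fil (a₀ + b₀)) (a'.anti (a₀ + b₀)) i) := by
    intro i hi
    have := (Groth.Agent.S8355.result E' 2 le_rfl (i, a₀ + b₀ - i) (hE' i hi)).2 H' a'
    exact isZero_grPiece_of_eq a' i _ _ (by simp) this
  -- the filtration steps
  have hK : (a.filObj (a₀ + b₀)).fil a₀ = ⊤ := by
    obtain ⟨t, ht⟩ := (ha (a₀ + b₀)).1
    change a.fil (a₀ + b₀) t = ⊤ at ht
    show a.fil (a₀ + b₀) a₀ = ⊤
    by_cases hle : a₀ ≤ t
    · exact top_le_iff.1 (ht ▸ a.anti (a₀ + b₀) hle)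
    · obtain ⟨k, hk⟩ := Int.eq_ofNat_of_zero_le (show 0 ≤ a₀ - t by omega)
      have := const_of_isZero_grPiece (a.fil (a₀ + b₀)) (a.anti (a₀ + b₀)) t k
        (fun p h1 h2 => hgr p (by omega))
      have e : t + (k : ℤ) = a₀ := by omega
      rw [e, ht] at this
      exact this
  have hL : (a'.filObj (a₀ + b₀)).fil (a₀ + 1) = ⊥ := by
    obtain ⟨t, ht⟩ := (ha' (a₀ + b₀)).2
    change a'.fil (a₀ + b₀) t = ⊥ at ht
    show a'.fil (a₀ + b₀) (a₀ + 1) = ⊥
    by_cases hle : t ≤ a₀ + 1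
    · exact le_bot_iff.1 (ht ▸ a'.anti (a₀ + b₀) hle)
    · obtain ⟨k, hk⟩ := Int.eq_ofNat_of_zero_le (show 0 ≤ t - (a₀ + 1) by omega)
      have := const_of_isZero_grPiece (a'.fil (a₀ + b₀)) (a'.anti (a₀ + b₀)) (a₀ + 1) k
        (fun p h1 h2 => hgr' p (by omega))
      have e : a₀ + 1 + (k : ℤ) = t := by omega
      rw [e, ht] at this
      exact this.symm
  -- the graded map vanishes
  have hrk : (2 : ℤ) ≤ a.rk (a₀, b₀) := (a.stat (a₀, b₀)).1
  have hrk' : (2 : ℤ) ≤ a'.rk (a₀, b₀) := (a'.stat (a₀, b₀)).1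
  obtain ⟨k, hk⟩ := Int.eq_ofNat_of_zero_le (show 0 ≤ a'.rk (a₀, b₀) - 2 by omega)
  obtain ⟨k', hk'⟩ := Int.eq_ofNat_of_zero_le (show 0 ≤ a.rk (a₀, b₀) - 2 by omega)
  have hcomm := f.comm (a₀, b₀) k k' (by omega)
  rw [hom_page_eq_zero E E' φ (a₀, b₀) hφ] at hcomm
  simp only [zero_comp, comp_zero] at hcomm
  have hg : (f.fil (a₀ + b₀)).gr a₀ = 0 := by
    exact (cancel_epi (a.β (a₀, b₀)).hom).1 (hcomm.trans comp_zero.symm)
  exact filLift_hom_eq_zero (f.fil (a₀ + b₀)) a₀ hK hL hg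

end Groth.Agent.S14355
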