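import Groth.Statements.S14357
import Groth.Agent.Lib.Helper17.PnUFD
import Mathlib
set_option backward.isDefEq.respectTransparency.types false

set_option autoImplicit false
universe u
open AlgebraicGeometry
open Proj

namespace Groth.Agent.S14357
open CategoryTheory MvPolynomial HomogeneousLocalization


/-- For a field k the projective line over k is not an affine scheme. (The projective line is taken here
as Proj of the polynomial ring in two variables over k with its standard grading; the book builds it
by gluing two affine lines and identifies the two constructions later.) -/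
theorem result (k : Type u) [Field k] :
    ¬ IsAffine (CohB1.ProjSpace 1 k) := by
  intro haff
  -- the structure morphism is an isomorphism
  haveI := Groth.Agent.Lib.Helper17.ProjSpaceGamma.isIso_toSpec_appTop 1 k
  have hiso : IsIso (CohB1.ProjSpace.toSpec 1 k) :=
    (HasAffineProperty.iff_of_isAffine (P := MorphismProperty.isomorphisms Scheme)).2 ⟨haff, inferInstance⟩
  -- so the space is a point
  have hsub : Subsingleton (CohB1.ProjSpace 1 k) := by
    have hinj : Function.Injective (CohB1.ProjSpace.toSpec 1 k).base :=
      (TopCat.homeoOfIso (asIso (CohB1.ProjSpace.toSpec 1 k).base)).injective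
    refine ⟨fun x y => hinj ?_⟩
    exact Subsingleton.elim (α := PrimeSpectrum k) _ _
  -- but the standard chart has two points
  obtain ⟨e⟩ := Groth.Agent.Lib.Helper17.PnUFD.nonempty_awayEquiv 1 k 0
  let P := MvPolynomial (Fin 1) k
  let j : Spec (CommRingCat.of P) ⟶ CohB1.ProjSpace 1 k :=
    Spec.map (CommRingCat.ofHom e.toRingHom) ≫
      Proj.awayι (CohB1.polyGrading 1 k) (X 0) (Groth.Agent.Lib.Helper17.ProjSpaceGamma.hX 1 k 0) one_pos
  haveI : IsIso (Spec.map (CommRingCat.ofHom e.toRingHom)) := by
    haveI : IsIso (CommRingCat.ofHom e.toRingHom) :=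
      (ConcreteCategory.isIso_iff_bijective _).2 e.bijective
    infer_instance
  haveI : IsOpenImmersion j := by
    show IsOpenImmersion (Spec.map (CommRingCat.ofHom e.toRingHom) ≫ Proj.awayι (CohB1.polyGrading 1 k) (X 0) (Groth.Agent.Lib.Helper17.ProjSpaceGamma.hX 1 k 0) one_pos)
    infer_instance
  have hjinj : Function.Injective j.base := j.isOpenEmbedding.injective
  let p1 : PrimeSpectrum P := ⟨⊥, Ideal.isPrime_bot⟩
  let p2 : PrimeSpectrum P := ⟨Ideal.span {(X 0 : P)}, by
    rw [Ideal.span_singleton_prime (X_ne_zero 0)]; exact X_prime⟩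
  have hne : p1 ≠ p2 := by
    intro h
    have h1 : (⊥ : Ideal P) = Ideal.span {(X 0 : P)} := congrArg PrimeSpectrum.asIdeal h
    have h2 : (X 0 : P) ∈ (⊥ : Ideal P) := by rw [h1]; exact Ideal.subset_span rfl
    rw [Ideal.mem_bot] at h2
    exact X_ne_zero (R := k) (0 : Fin 1) h2
  exact hne (hjinj (Subsingleton.elim _ _))

end Groth.Agent.S14357
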