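import Groth.Statements.S14358
-- import your own Groth.Agent.* helpers here

set_option autoImplicit false
universe u
open CAlg

namespace Groth.Agent.S14358

/-- Let A be a Noetherian integral domain with fraction field K and let r ∈ K. Then r belongs to A if
and only if, for every nonzero g ∈ A and every associated prime p of the A-module A/(g), the element
r belongs to the local ring A_p inside K, i.e. s r = a in K for some a ∈ A and some s ∈ A outside p. -/
theorem result (A K : Type u)
    [CommRing A] [IsDomain A] [IsNoetherianRing A] [Field K] [Algebra A K] [IsFractionRing A K]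
    (r : K) :
    r ∈ Set.range (algebraMap A K) ↔
      ∀ g : A, g ≠ 0 → ∀ p ∈ associatedPrimes A (A ⧸ Ideal.span {g}),
        ∃ a s : A, s ∉ p ∧ algebraMap A K s * r = algebraMap A K a := by
  constructor
  · rintro ⟨a, rfl⟩ g _ p hp
    have hprime : p.IsPrime := hp.isPrime
    exact ⟨a, 1, fun h => hprime.ne_top (p.eq_top_of_isUnit_mem h isUnit_one), by simp⟩
  · intro H
    obtain ⟨a, g, hr⟩ := IsLocalization.exists_mk'_eq (nonZeroDivisors A) r
    have hg : (g : A) ≠ 0 := nonZeroDivisors.ne_zero g.2
    by_contra hnot
    have hne : (Ideal.Quotient.mk (Ideal.span {(g : A)}) a) ≠ 0 := by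
      intro h0
      rw [Ideal.Quotient.eq_zero_iff_mem, Ideal.mem_span_singleton'] at h0
      obtain ⟨c, hc⟩ := h0
      apply hnot
      refine ⟨c, ?_⟩
      rw [← hr, eq_comm, IsLocalization.mk'_eq_iff_eq_mul, ← map_mul, hc]
    obtain ⟨P, hP, hle⟩ := exists_le_isAssociatedPrime_of_isNoetherianRing A _ hne
    obtain ⟨b, s, hs, hsr⟩ := H g hg P hP
    apply hs
    apply hle
    rw [Submodule.mem_colon_singleton, Submodule.mem_bot]
    have hsa : s * a = b * g := by
      apply IsFractionRing.injective A K
      rw [map_mul, map_mul, ← hsr, ← hr, mul_assoc, IsLocalization.mk'_spec]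
    change s • (Ideal.Quotient.mk (Ideal.span {(g : A)}) a) = 0
    rw [← Ideal.Quotient.mk_eq_mk, ← Submodule.Quotient.mk_smul, Ideal.Quotient.mk_eq_mk,
      Ideal.Quotient.eq_zero_iff_mem, smul_eq_mul, hsa]
    exact Ideal.mul_mem_left _ _ (Ideal.subset_span rfl)

end Groth.Agent.S14358
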