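import Groth.Statements.S14362
import Groth.Agent.S14361

set_option autoImplicit false
universe u
open AlgebraicGeometry
open SchImage

namespace Groth.Agent.S14362

/-- Let π : X → Y be a morphism of schemes with X reduced. Then the closed subset underlying the
scheme-theoretic image of π, i.e. the support of its kernel ideal sheaf, is the closure of the image
of π. (The published statement allows, as an alternative to X being reduced, that π be
quasi-compact; this row is the reduced case and assumes no quasi-compactness.) -/
theorem result (X Y : Scheme.{u}) [IsReduced X]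
    (π : X ⟶ Y) :
    (π.ker.support : Set Y) = closure (Set.range π) := by
  apply subset_antisymm
  · intro y hy
    by_contra hcl
    obtain ⟨_, ⟨U, hU, rfl⟩, hyU, hsub⟩ :=
      Y.isBasis_affineOpens.exists_subset_of_mem_open (show y ∈ (closure (Set.range π))ᶜ from hcl)
        isClosed_closure.isOpen_compl
    have hempty : π ⁻¹ᵁ U = ⊥ := by
      ext x
      simp only [TopologicalSpace.Opens.coe_bot, Set.mem_empty_iff_false, iff_false]
      intro hx
      exact hsub hx (subset_closure ⟨x, rfl⟩)
    have h1 : (1 : Γ(Y, U)) ∈ π.ker.ideal ⟨U, hU⟩ := by
      rw [Groth.Agent.S14361.result X Y π ⟨U, hU⟩, RingHom.mem_ker]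
      have : Subsingleton Γ(X, π ⁻¹ᵁ U) := by
        rw [hempty]
        exact CommRingCat.subsingleton_of_isTerminal X.sheaf.isTerminalOfEmpty
      exact Subsingleton.elim _ _
    have hmem := ((Scheme.IdealSheafData.coe_support_inter π.ker ⟨U, hU⟩).le ⟨hy, hyU⟩).1
    rw [Scheme.mem_zeroLocus_iff] at hmem
    apply hmem 1 h1
    rw [Scheme.basicOpen_of_isUnit _ isUnit_one]
    exact hyU
  · exact closure_minimal π.range_subset_ker_support π.ker.support.isClosed

end Groth.Agent.S14362
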