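import Groth.Statements.S14363
-- import your own Groth.Agent.* helpers here

set_option autoImplicit false
universe u
open CAlg

namespace Groth.Agent.S14363

/-- Let A be a Noetherian ring and 0 → M' → M → M'' → 0 a short exact sequence of A-modules. If a prime
p of A is an associated prime of M'' and is not in the support of M', then p is an associated prime
of M. -/
theorem result (A : Type u) [CommRing A] [IsNoetherianRing A]
    (M' M M'' : Type u) [AddCommGroup M'] [Module A M'] [AddCommGroup M] [Module A M]
    [AddCommGroup M''] [Module A M'']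
    (f : M' →ₗ[A] M) (g : M →ₗ[A] M'') (hf : Function.Injective f) (hg : Function.Surjective g)
    (hfg : Function.Exact f g)
    (p : PrimeSpectrum A) (hp : p.asIdeal ∈ associatedPrimes A M'') (hsupp : p ∉ Module.support A M') :
    p.asIdeal ∈ associatedPrimes A M := by
  classical
  rw [AssociatedPrimes.mem_iff, isAssociatedPrime_iff] at hp ⊢
  obtain ⟨hprime, x'', hx''⟩ := hp
  refine ⟨hprime, ?_⟩
  obtain ⟨x, rfl⟩ := hg x''
  have hfg' : ∀ a ∈ p.asIdeal, ∃ m', f m' = a • x := by
    intro a ha
    have h0 : a • g x = 0 := by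
      have h1 : a ∈ Submodule.colon (⊥ : Submodule A M'') {g x} := hx'' ▸ ha
      simpa [Submodule.mem_colon_singleton] using h1
    rw [← map_smul] at h0
    exact (hfg (a • x)).mp h0
  have hs : ∃ s ∉ p.asIdeal, ∀ a ∈ p.asIdeal, s • a • x = 0 := by
    obtain ⟨T, hT⟩ := (isNoetherianRing_iff_ideal_fg A).mp inferInstance p.asIdeal
    have hch : ∀ t : A, ∃ s ∉ p.asIdeal, t ∈ T → s • t • x = 0 := by
      intro t
      by_cases ht : t ∈ T
      · obtain ⟨m', hm'⟩ := hfg' t (hT ▸ Ideal.subset_span ht)
        obtain ⟨s, hs, hsm⟩ := Module.notMem_support_iff'.mp hsupp m'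
        exact ⟨s, hs, fun _ => by rw [← hm', ← map_smul, hsm, map_zero]⟩
      · exact ⟨1, fun h => hprime.ne_top (p.asIdeal.eq_top_of_isUnit_mem h isUnit_one),
          fun h => absurd h ht⟩
    choose s hs hst using hch
    refine ⟨∏ t ∈ T, s t, ?_, ?_⟩
    · intro h
      rw [Ideal.IsPrime.prod_mem_iff] at h
      obtain ⟨t, _, ht⟩ := h
      exact hs t ht
    · intro a ha
      rw [← hT] at ha
      induction ha using Submodule.span_induction with
      | mem t ht =>
        rw [← Finset.mul_prod_erase T s ht, mul_comm, mul_smul, hst t ht, smul_zero]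
      | zero => simp
      | add a b _ _ ha hb => rw [add_smul, smul_add, ha, hb, add_zero]
      | smul r a _ ha => rw [smul_eq_mul, mul_smul, smul_comm, ha, smul_zero]
  obtain ⟨s, hs, hsx⟩ := hs
  refine ⟨s • x, ?_⟩
  ext r
  rw [Submodule.mem_colon_singleton, Submodule.mem_bot]
  constructor
  · intro hr
    rw [smul_comm]; exact hsx r hr
  · intro hr
    have h0 : (r * s) • g x = 0 := by
      rw [mul_smul, ← map_smul, ← map_smul, hr, map_zero]
    have hmem : r * s ∈ p.asIdeal := by
      rw [hx'', Submodule.mem_colon_singleton, Submodule.mem_bot]; exact h0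
    exact (hprime.mem_or_mem hmem).resolve_right hs

end Groth.Agent.S14363
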