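import Groth.Statements.S14371
import Mathlib
import Groth.Agent.S0561

set_option autoImplicit false
universe u
open CAlg

namespace Groth.Agent.S14371

open IsLocalRing

theorem encard_range_le {ι M : Type*} [Fintype ι] (g : ι → M) :
    (Set.range g).encard ≤ Fintype.card ι := by
  classical
  rw [← Set.image_univ]
  refine (Set.encard_image_le g Set.univ).trans ?_
  rw [Set.encard_univ, ENat.card_eq_coe_fintype_card]

theorem spanFinrank_span_range_le {A : Type*} [CommRing A] {ι : Type*} [Fintype ι] (g : ι → A) :
    (Ideal.span (Set.range g)).spanFinrank ≤ Fintype.card ι := by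
  have h1 : ((Ideal.span (Set.range g)).spanFinrank : ℕ∞) ≤ (Set.range g).encard :=
    Submodule.spanFinrank_span_le_encard _
  have h2 := h1.trans (encard_range_le g)
  exact_mod_cast h2

/-- Let R be a regular local ring of dimension n with maximal ideal m and residue field κ, and I, J
ideals of R such that R/I and R/J are regular local rings of dimensions a and b (two subvarieties
smooth at the point). Suppose the quotient R/(I + J) is local with cotangent space m/(m² + I + J) of
dimension a + b − n over κ (the tangent spaces of the two subvarieties meet in the expected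
dimension, i.e. they intersect transversally at the point). Then R/(I + J) is a regular local ring
of dimension a + b − n; in particular I + J is a prime ideal. (The published statement is about the
local rings of a smooth variety over an algebraically closed field at a point where two smooth
closed subvarieties meet transversally, and also states the resulting equalities of tangent spaces
and of ideals; this row is the local-ring form, for an arbitrary regular local ring.) -/
theorem result {R : Type u} [CommRing R] [IsRegularLocalRing R]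
    (I J : Ideal R) [IsRegularLocalRing (R ⧸ I)] [IsRegularLocalRing (R ⧸ J)] [IsLocalRing (R ⧸ (I ⊔ J))]
    (n a b : ℕ) (hn : ringKrullDim R = n) (ha : ringKrullDim (R ⧸ I) = a) (hb : ringKrullDim (R ⧸ J) = b)
    (ht : Module.finrank (IsLocalRing.ResidueField (R ⧸ (I ⊔ J))) (IsLocalRing.CotangentSpace (R ⧸ (I ⊔ J))) + n = a + b) :
    IsRegularLocalRing (R ⧸ (I ⊔ J)) ∧ ringKrullDim (R ⧸ (I ⊔ J)) = ((a + b - n : ℕ) : WithBot ℕ∞) := by
  classical
  obtain ⟨x, c, hc, hx𝔪, hI⟩ := Groth.Agent.S0561.result R n hn I
  let T := R ⧸ (I ⊔ J)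
  -- (A) `a + c ≤ n`
  have hA : a + c ≤ n := by
    let g : Fin (n - c) → R ⧸ I := fun j => Ideal.Quotient.mk I (x ⟨c + j, by omega⟩)
    have hmap : (maximalIdeal R).map (Ideal.Quotient.mk I) = Ideal.span (Set.range g) := by
      rw [← hx𝔪, Ideal.map_span]
      apply le_antisymm
      · rw [Ideal.span_le]
        rintro _ ⟨_, ⟨i, rfl⟩, rfl⟩
        by_cases hi : (i : ℕ) < c
        · have : x i ∈ I := by
            rw [hI]
            exact Ideal.subset_span ⟨⟨i, hi⟩, by simp [Fin.castLE]⟩
          rw [Ideal.Quotient.eq_zero_iff_mem.2 this]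
          exact zero_mem _
        · have hlt : (i : ℕ) - c < n - c := by omega
          refine Ideal.subset_span ⟨⟨(i : ℕ) - c, hlt⟩, ?_⟩
          simp only [g]
          congr 2
          ext
          simp
          omega
      · apply Ideal.span_mono
        rintro _ ⟨j, rfl⟩
        exact ⟨_, ⟨_, rfl⟩, rfl⟩
    have hIle : I ≤ maximalIdeal R := by
      refine IsLocalRing.le_maximalIdeal ?_
      intro h
      have : Subsingleton (R ⧸ I) := Ideal.Quotient.subsingleton_iff.2 h
      exact not_subsingleton (R ⧸ I) this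
    haveI hmax : ((maximalIdeal R).map (Ideal.Quotient.mk I)).IsMaximal :=
      Ideal.IsMaximal.map_of_surjective_of_ker_le Ideal.Quotient.mk_surjective
        (by rw [Ideal.mk_ker]; exact hIle)
    have hle : Ideal.span (Set.range g) ≤ Ring.jacobson (R ⧸ I) := by
      rw [← hmap, IsLocalRing.ringJacobson_eq_maximalIdeal]
      exact IsLocalRing.le_maximalIdeal hmax.ne_top
    have h1 := ringKrullDim_le_ringKrullDim_quotient_add_spanFinrank (Ideal.span (Set.range g)) hle
    have h2 : ringKrullDim ((R ⧸ I) ⧸ Ideal.span (Set.range g)) = 0 := by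
      rw [← hmap]
      letI := Ideal.Quotient.field ((maximalIdeal R).map (Ideal.Quotient.mk I))
      exact ringKrullDim_eq_zero_of_field _
    have h3 := spanFinrank_span_range_le g
    rw [Fintype.card_fin] at h3
    rw [ha, h2, zero_add] at h1
    have h4 : ((a : ℕ) : WithBot ℕ∞) ≤ ((n - c : ℕ) : WithBot ℕ∞) :=
      h1.trans (by exact_mod_cast h3)
    have h5 : a ≤ n - c := by exact_mod_cast h4
    omega
  -- (B) `b ≤ dim T + c`
  have hB : ((b : ℕ) : WithBot ℕ∞) ≤ ringKrullDim (R ⧸ (I ⊔ J)) + (c : ℕ) := by
    let I' : Ideal (R ⧸ J) := I.map (Ideal.Quotient.mk J)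
    have e : ((R ⧸ J) ⧸ I') ≃+* R ⧸ (I ⊔ J) :=
      (DoubleQuot.quotQuotEquivQuotSup J I).trans (Ideal.quotEquivOfEq (sup_comm J I))
    have hne : I' ≠ ⊤ := by
      intro h
      have : Subsingleton ((R ⧸ J) ⧸ I') := Ideal.Quotient.subsingleton_iff.2 h
      have : Subsingleton (R ⧸ (I ⊔ J)) := e.symm.toEquiv.subsingleton
      exact not_subsingleton (R ⧸ (I ⊔ J)) this
    have hle : I' ≤ Ring.jacobson (R ⧸ J) := by
      rw [IsLocalRing.ringJacobson_eq_maximalIdeal]
      exact IsLocalRing.le_maximalIdeal hne
    have h1 := ringKrullDim_le_ringKrullDim_quotient_add_spanFinrank I' hle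
    rw [hb, ringKrullDim_eq_of_ringEquiv e] at h1
    have h2 : I'.spanFinrank ≤ c := by
      have : I' = Ideal.span (Set.range fun i : Fin c => Ideal.Quotient.mk J (x (Fin.castLE hc i))) := by
        simp only [I']
        rw [hI, Ideal.map_span]
        congr 1
        ext y
        constructor
        · rintro ⟨_, ⟨i, rfl⟩, rfl⟩
          exact ⟨i, rfl⟩
        · rintro ⟨i, rfl⟩
          exact ⟨_, ⟨i, rfl⟩, rfl⟩
      rw [this]
      have h3 := spanFinrank_span_range_le fun i : Fin c => Ideal.Quotient.mk J (x (Fin.castLE hc i))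
      rwa [Fintype.card_fin] at h3
    refine h1.trans ?_
    gcongr
  -- (C) `dim T ≤ t`
  haveI : IsNoetherianRing (R ⧸ (I ⊔ J)) := inferInstance
  have hC : ringKrullDim (R ⧸ (I ⊔ J)) ≤
      (Module.finrank (ResidueField (R ⧸ (I ⊔ J))) (CotangentSpace (R ⧸ (I ⊔ J))) : ℕ) := by
    rw [← IsLocalRing.spanFinrank_maximalIdeal_eq_finrank_cotangentSpace]
    exact ringKrullDim_le_spanFinrank_maximalIdeal _
  set t := Module.finrank (ResidueField (R ⧸ (I ⊔ J))) (CotangentSpace (R ⧸ (I ⊔ J))) with htdef
  have h0 : 0 ≤ ringKrullDim (R ⧸ (I ⊔ J)) := ringKrullDim_nonneg_of_nontrivial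
  -- extract natural number
  have hdim : ringKrullDim (R ⧸ (I ⊔ J)) = (t : ℕ) := by
    generalize ringKrullDim (R ⧸ (I ⊔ J)) = y at *
    induction y using WithBot.recBotCoe with
    | bot => simp at h0
    | coe y =>
      induction y using ENat.recTopCoe with
      | top =>
        exfalso
        have : ((⊤ : ℕ∞) : WithBot ℕ∞) ≤ ((t : ℕ∞) : WithBot ℕ∞) := hC
        have h' : (⊤ : ℕ∞) ≤ (t : ℕ∞) := WithBot.coe_le_coe.1 this
        simp at h'
      | coe m =>
        have h1 : m ≤ t := by exact_mod_cast hC
        have h2 : ((b : ℕ) : WithBot ℕ∞) ≤ ((m + c : ℕ) : WithBot ℕ∞) := by exact_mod_cast hB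
        have h3 : b ≤ m + c := by exact_mod_cast h2
        have : m = t := by omega
        rw [this]
        rfl
  refine ⟨?_, ?_⟩
  · rw [IsRegularLocalRing.iff_finrank_cotangentSpace, hdim]
  · rw [hdim]
    have : t = a + b - n := by omega
    rw [this]

end Groth.Agent.S14371
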