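import Groth.Statements.S14372
import Groth.Agent.Lib.Helper7.TsenLangClosed
import Mathlib

set_option autoImplicit false
universe u
open Fano

namespace Groth.Agent.S14372

section Aux

open MvPolynomial

variable {k : Type u} [Field k]

/-- linear substitution `X i ↦ ∑ j, B j i * X j` -/
noncomputable def psi {N m : ℕ} (B : Fin m → Fin N → k) :
    MvPolynomial (Fin N) k →ₐ[k] MvPolynomial (Fin m) k :=
  aeval (fun i => ∑ j, C (B j i) * X j)

lemma eval_psi {N m : ℕ} (B : Fin m → Fin N → k) (c : Fin m → k) (p : MvPolynomial (Fin N) k) :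
    eval c (psi B p) = eval (fun i => ∑ j, c j * B j i) p := by
  have : ((aeval c : MvPolynomial (Fin m) k →ₐ[k] k).comp (psi B)) =
      (aeval (fun i => ∑ j, c j * B j i) : MvPolynomial (Fin N) k →ₐ[k] k) := by
    apply MvPolynomial.algHom_ext
    intro i
    simp [psi, mul_comm]
  have h := congrArg (fun F => F p) this
  simpa [aeval_eq_eval] using h

lemma pderiv_psi {N m : ℕ} (B : Fin m → Fin N → k) (j : Fin m) (p : MvPolynomial (Fin N) k) :
    pderiv j (psi B p) = ∑ i, C (B j i) * psi B (pderiv i p) := by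
  classical
  induction p using MvPolynomial.induction_on with
  | C a => simp [psi]
  | add p q hp hq =>
    simp only [map_add, hp, hq, mul_add, Finset.sum_add_distrib]
  | mul_X p l hp =>
    have hX : psi B (X l) = ∑ j', C (B j' l) * X j' := by simp [psi]
    have hdX : pderiv j (psi B (X l)) = C (B j l) := by
      rw [hX, map_sum]
      simp only [Derivation.leibniz, pderiv_C, pderiv_X, smul_zero, add_zero, smul_eq_mul]
      rw [Finset.sum_eq_single j]
      · simp
      · intro b _ hb
        simp [Pi.single_apply, hb]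
      · simp
    rw [map_mul, Derivation.leibniz, hp, hdX]
    simp only [Derivation.leibniz, pderiv_X, map_add, map_mul, smul_eq_mul, mul_add]
    rw [Finset.sum_add_distrib]
    have e2 : ∑ i, C (B j i) * (psi B p * psi B (Pi.single (M := fun _ => MvPolynomial (Fin N) k) i 1 l)) =
        psi B p * C (B j l) := by
      rw [Finset.sum_eq_single l]
      · simp [mul_comm]
      · intro b _ hb
        simp [Pi.single_apply, hb, Ne.symm hb]
      · simp
    rw [e2, Finset.mul_sum]
    have e1 : ∑ i, C (B j i) * (psi B (X l) * psi B (pderiv i p)) =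
        ∑ i, psi B (X l) * (C (B j i) * psi B (pderiv i p)) := by
      apply Finset.sum_congr rfl; intro i _; ring
    rw [e1]

lemma psi_homog {N m : ℕ} (B : Fin m → Fin N → k) {p : MvPolynomial (Fin N) k} {e : ℕ}
    (hp : p.IsHomogeneous e) : (psi B p).IsHomogeneous e := by
  have := hp.aeval (fun i => ∑ j, C (B j i) * X j) (n := 1) (fun i => by
    apply IsHomogeneous.sum
    intro j _
    exact isHomogeneous_C_mul_X _ _)
  simpa [psi] using this

theorem main (k : Type u) [Field k] [IsAlgClosed k]
    (n d : ℕ) (hd : 2 ≤ d) (f : MvPolynomial (Fin (n + 1)) k) (hf : f.IsHomogeneous d)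
    (U : Submodule k (Fin (n + 1) → k)) (hU : ∀ u ∈ U, MvPolynomial.eval u f = 0)
    (hsm : ∀ u ∈ U, u ≠ 0 → ∃ i : Fin (n + 1), MvPolynomial.eval u (MvPolynomial.pderiv i f) ≠ 0) :
    2 * Module.finrank k ↥U ≤ n + 1 := by
  classical
  obtain ⟨U', hU'⟩ := Submodule.exists_isCompl U
  have hdim : Module.finrank k U + Module.finrank k U' = n + 1 := by
    rw [Submodule.finrank_add_eq_of_isCompl hU', Module.finrank_fin_fun]
  by_contra hcon
  rw [not_le] at hcon
  set m := Module.finrank k U with hm
  set r := Module.finrank k U' with hr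
  have hrm : r < m := by omega
  let b := Module.finBasis k U
  let b' := Module.finBasis k U'
  let B : Fin m → Fin (n + 1) → k := fun j => (b j : Fin (n + 1) → k)
  let B' : Fin r → Fin (n + 1) → k := fun ρ => (b' ρ : Fin (n + 1) → k)
  have hphi : ∀ c : Fin m → k, (fun i => ∑ j, c j * B j i) = ((∑ j, c j • b j : U) : Fin (n + 1) → k) := by
    intro c
    ext i
    simp [B, Submodule.coe_sum, Finset.sum_apply]
  have hphiU : ∀ c : Fin m → k, (fun i => ∑ j, c j * B j i) ∈ U := by
    intro c; rw [hphi]; exact Submodule.coe_mem _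
  -- ψ f = 0
  have hpsif : psi B f = 0 := by
    apply MvPolynomial.funext
    intro c
    rw [eval_psi, map_zero]
    exact hU _ (hphiU c)
  -- gradient ⟂ U
  have hperp : ∀ (c : Fin m → k) (j : Fin m),
      ∑ i, B j i * eval (fun i => ∑ j, c j * B j i) (pderiv i f) = 0 := by
    intro c j
    have h1 := pderiv_psi B j f
    rw [hpsif, map_zero] at h1
    have h2 := congrArg (eval c) h1
    simp only [map_zero, map_sum, map_mul, eval_C, eval_psi] at h2
    exact h2.symm
  -- the forms
  let g : Fin r → MvPolynomial (Fin m) k := fun ρ => ∑ i, C (B' ρ i) * psi B (pderiv i f)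
  have hg : ∀ ρ, (g ρ).IsHomogeneous (d - 1) := by
    intro ρ
    apply IsHomogeneous.sum
    intro i _
    exact (psi_homog B hf.pderiv).C_mul _
  obtain ⟨c, hc0, hc⟩ := Groth.Agent.Lib.Helper7.TL.isCi_zero_of_isAlgClosed k r m g (fun _ => d - 1)
    hg (fun _ => by omega) (by simpa using hrm)
  set u : Fin (n + 1) → k := fun i => ∑ j, c j * B j i with hu
  set w : Fin (n + 1) → k := fun i => eval u (pderiv i f) with hw
  have hperp' : ∀ ρ, ∑ i, B' ρ i * w i = 0 := by
    intro ρ
    have := hc ρ
    simp only [g, map_sum, map_mul, eval_C, eval_psi] at this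
    exact this
  -- u ≠ 0
  have hu0 : u ≠ 0 := by
    intro h0
    apply hc0
    have h1 : (∑ j, c j • b j : U) = 0 := by
      apply Subtype.ext
      rw [← hphi c]; exact h0
    have := Fintype.linearIndependent_iff.mp b.linearIndependent c h1
    exact funext this
  obtain ⟨i₀, hi₀⟩ := hsm u (hphiU c) hu0
  -- w ⟂ everything
  let Lw : (Fin (n + 1) → k) →ₗ[k] k := ∑ i, w i • (LinearMap.proj i : (Fin (n + 1) → k) →ₗ[k] k)
  have hLw : ∀ x, Lw x = ∑ i, x i * w i := by
    intro x
    simp [Lw, LinearMap.sum_apply, mul_comm]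
  have hUker : U ≤ LinearMap.ker Lw := by
    intro v hv
    rw [LinearMap.mem_ker]
    have hrep := b.sum_repr ⟨v, hv⟩
    have hrep' : v = ∑ j, b.repr ⟨v, hv⟩ j • (b j : Fin (n + 1) → k) := by
      have h1 : ((∑ j, b.repr ⟨v, hv⟩ j • b j : U) : Fin (n + 1) → k) = v := by rw [hrep]
      refine h1.symm.trans ?_
      rw [Submodule.coe_sum]
      simp only [Submodule.coe_smul]
    rw [hrep', map_sum]
    apply Finset.sum_eq_zero
    intro j _
    rw [map_smul, hLw]
    have := hperp c j
    rw [show (∑ i, (b j : Fin (n + 1) → k) i * w i) = 0 from this, smul_zero]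
  have hU'ker : U' ≤ LinearMap.ker Lw := by
    intro v hv
    rw [LinearMap.mem_ker]
    have hrep := b'.sum_repr ⟨v, hv⟩
    have hrep' : v = ∑ ρ, b'.repr ⟨v, hv⟩ ρ • (b' ρ : Fin (n + 1) → k) := by
      have h1 : ((∑ ρ, b'.repr ⟨v, hv⟩ ρ • b' ρ : U') : Fin (n + 1) → k) = v := by rw [hrep]
      refine h1.symm.trans ?_
      rw [Submodule.coe_sum]
      simp only [Submodule.coe_smul]
    rw [hrep', map_sum]
    apply Finset.sum_eq_zero
    intro ρ _
    rw [map_smul, hLw]
    have := hperp' ρ
    rw [show (∑ i, (b' ρ : Fin (n + 1) → k) i * w i) = 0 from this, smul_zero]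
  have htop : LinearMap.ker Lw = ⊤ := by
    apply top_unique
    rw [← hU'.sup_eq_top]
    exact sup_le hUker hU'ker
  apply hi₀
  have hmem : (Pi.single i₀ 1 : Fin (n + 1) → k) ∈ LinearMap.ker Lw := by rw [htop]; trivial
  rw [LinearMap.mem_ker, hLw] at hmem
  simpa [Pi.single_apply] using hmem

end Aux

/-- Over an algebraically closed field k of arbitrary characteristic, let f be a homogeneous form of
degree d ≥ 2 in n + 1 variables and U a linear subspace of k^(n+1) on which f vanishes, such that at
every nonzero vector of U some partial derivative of f does not vanish (the hypersurface f = 0 in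
P^n contains the r-plane P(U), r + 1 = dim U, and is smooth at every point of it). Then 2 · dim U ≤
n + 1, i.e. r ≤ (n − 1)/2. (The published statement assumes the hypersurface smooth everywhere; this
row assumes smoothness only along P(U).) -/
theorem result (k : Type u) [Field k] [IsAlgClosed k]
    (n d : ℕ) (hd : 2 ≤ d) (f : MvPolynomial (Fin (n + 1)) k) (hf : f.IsHomogeneous d)
    (U : Submodule k (Fin (n + 1) → k)) (hU : ∀ u ∈ U, MvPolynomial.eval u f = 0)
    (hsm : ∀ u ∈ U, u ≠ 0 → ∃ i : Fin (n + 1), MvPolynomial.eval u (MvPolynomial.pderiv i f) ≠ 0) :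
    2 * Module.finrank k ↥U ≤ n + 1 := by
  exact main k n d hd f hf U hU hsm

end Groth.Agent.S14372
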