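import Groth.Statements.S1438
import Groth.Agent.Lib.Helper13.AffStrat

set_option autoImplicit false
universe u
open FlatMor

namespace Groth.Agent.S1438

open AlgebraicGeometry CategoryTheory Limits in
/-- A separated scheme with an open covering by n + 1 affine opens has affine stratification number at
most n: it admits an affine stratification with index set {0, …, n}. -/
theorem result (X : Scheme.{u}) [X.IsSeparated] (n : ℕ) (U : Fin (n + 1) → X.Opens)
    (hU : ∀ i, IsAffineOpen (U i)) (hcov : ⨆ i, U i = ⊤) :
    MoreMor.HasAffineStratification X n := by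
  classical
  apply Groth.Agent.Lib.Helper13.AffStrat.hasAffineStratification_of_nat
  -- the number of members of the cover containing a point
  let S : X → Finset (Fin (n + 1)) := fun x => Finset.univ.filter (fun i => x ∈ U i)
  let N : X → ℕ := fun x => (S x).card
  have hmemS : ∀ x i, i ∈ S x ↔ x ∈ U i := fun x i => by simp [S]
  have hN1 : ∀ x, 1 ≤ N x := by
    intro x
    have hx : x ∈ ⨆ i, U i := by rw [hcov]; trivial
    obtain ⟨i, hi⟩ := TopologicalSpace.Opens.mem_iSup.mp hx
    exact Finset.card_pos.mpr ⟨i, (hmemS x i).mpr hi⟩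
  have hNle : ∀ x, N x ≤ n + 1 := by
    intro x
    have := Finset.card_le_univ (S x)
    simpa using this
  -- finite intersections
  have hUIaff : ∀ I : Finset (Fin (n + 1)), I.Nonempty → IsAffineOpen (I.inf U) := by
    intro I hI
    induction hI using Finset.Nonempty.cons_induction with
    | singleton a => simpa using hU a
    | cons a s ha hs ih => rw [Finset.inf_cons]; exact (hU a).inf ih
  have hmemUI : ∀ (I : Finset (Fin (n + 1))) (x : X), x ∈ I.inf U ↔ ∀ i ∈ I, x ∈ U i := by
    intro I x
    induction I using Finset.induction_on with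
    | empty => simp
    | insert a s ha ih =>
      rw [Finset.inf_insert]
      constructor
      · rintro ⟨h1, h2⟩ i hi
        rcases Finset.mem_insert.mp hi with rfl | hi
        · exact h1
        · exact ih.mp h2 i hi
      · intro h
        exact ⟨h a (Finset.mem_insert_self a s),
          ih.mpr fun i hi => h i (Finset.mem_insert_of_mem hi)⟩
  -- the open sets of points lying in at least `p + 1` members
  let Xp : ℕ → X.Opens := fun p => ⨆ I : {I : Finset (Fin (n + 1)) // I.card = p + 1}, I.1.inf U
  have hmemXp : ∀ p x, x ∈ Xp p ↔ p + 1 ≤ N x := by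
    intro p x
    constructor
    · intro hx
      obtain ⟨I, hI⟩ := TopologicalSpace.Opens.mem_iSup.mp hx
      have hsub : I.1 ⊆ S x := fun i hi => (hmemS x i).mpr ((hmemUI I.1 x).mp hI i hi)
      calc p + 1 = I.1.card := I.2.symm
        _ ≤ (S x).card := Finset.card_le_card hsub
    · intro hx
      obtain ⟨I, hIsub, hIcard⟩ := Finset.exists_subset_card_eq hx
      exact TopologicalSpace.Opens.mem_iSup.mpr ⟨⟨I, hIcard⟩,
        (hmemUI I x).mpr fun i hi => (hmemS x i).mp (hIsub hi)⟩
  refine ⟨fun x => N x - 1, ?_, ?_, ?_⟩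
  · intro x
    have := hNle x
    change N x - 1 ≤ n
    omega
  · intro i
    have : {x : X | N x - 1 ≤ i} = ((Xp (i + 1) : X.Opens) : Set X)ᶜ := by
      ext x
      simp only [Set.mem_setOf_eq, Set.mem_compl_iff, SetLike.mem_coe, hmemXp]
      omega
    rw [this]
    exact (Xp (i + 1)).isOpen.isClosed_compl
  · intro p hp
    -- the closed subscheme on the complement of `Xp (p+1)`
    let Fc : TopologicalSpace.Closeds X :=
      ⟨((Xp (p + 1) : X.Opens) : Set X)ᶜ, (Xp (p + 1)).isOpen.isClosed_compl⟩
    let Iv := Scheme.IdealSheafData.vanishingIdeal Fc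
    let c := Iv.subschemeι
    have hc : Set.range c = ((Xp (p + 1) : X.Opens) : Set X)ᶜ := by
      rw [Scheme.IdealSheafData.range_subschemeι, Scheme.IdealSheafData.coe_support_vanishingIdeal]
      rfl
    have hcN : ∀ y : Iv.subscheme, N (c y) ≤ p + 1 := by
      intro y
      have h1 : c y ∈ Set.range c := ⟨y, rfl⟩
      rw [hc] at h1
      have h2 : ¬ (p + 1 + 1 ≤ N (c y)) := fun h => h1 ((hmemXp (p + 1) (c y)).mpr h)
      omega
    let O : Iv.subscheme.Opens := c ⁻¹ᵁ (Xp p)
    -- the pieces
    let P : {I : Finset (Fin (n + 1)) // I.card = p + 1} → Iv.subscheme.Opens :=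
      fun I => c ⁻¹ᵁ (I.1.inf U)
    have hInonempty : ∀ I : {I : Finset (Fin (n + 1)) // I.card = p + 1}, I.1.Nonempty := by
      intro I
      rw [← Finset.card_pos, I.2]
      omega
    have hPaff : ∀ I, IsAffineOpen (P I) := fun I => (hUIaff I.1 (hInonempty I)).preimage c
    have hPdisj : Pairwise (Function.onFun Disjoint P) := by
      intro I J hne
      change Disjoint (P I) (P J)
      rw [disjoint_iff]
      ext y
      simp only [TopologicalSpace.Opens.coe_inf, Set.mem_inter_iff, SetLike.mem_coe,
        TopologicalSpace.Opens.coe_bot, Set.mem_empty_iff_false, iff_false, not_and]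
      intro hyI hyJ
      have h1 : ∀ i ∈ I.1 ∪ J.1, c y ∈ U i := by
        intro i hi
        rcases Finset.mem_union.mp hi with hi | hi
        · exact (hmemUI I.1 (c y)).mp hyI i hi
        · exact (hmemUI J.1 (c y)).mp hyJ i hi
      have h2 : I.1 ∪ J.1 ⊆ S (c y) := fun i hi => (hmemS _ i).mpr (h1 i hi)
      have h3 : p + 1 < (I.1 ∪ J.1).card := by
        have hI2 := I.2
        refine lt_of_eq_of_lt hI2.symm ?_
        apply Finset.card_lt_card
        refine ⟨Finset.subset_union_left, fun hsub => ?_⟩
        have hJI : J.1 ⊆ I.1 := fun i hi => hsub (Finset.mem_union_right _ hi)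
        have : J.1 = I.1 := Finset.eq_of_subset_of_card_le hJI (by rw [I.2, J.2])
        exact hne (Subtype.ext this.symm)
      have h4 := Finset.card_le_card h2
      have h5 := hcN y
      change (I.1 ∪ J.1).card ≤ N (c y) at h4
      omega
    have hOeq : O = ⨆ I, P I := by
      change c ⁻¹ᵁ (⨆ I : {I : Finset (Fin (n + 1)) // I.card = p + 1}, I.1.inf U) = _
      rw [Scheme.Hom.preimage_iSup]
    have hOaff : IsAffineOpen O := by
      rw [hOeq]
      exact IsAffineOpen.iSup_of_disjoint hPaff hPdisj
    refine ⟨O, O.ι ≫ c, inferInstance, hOaff, ?_, ?_⟩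
    · -- affine morphism
      apply isAffineHom_of_forall_exists_isAffineOpen
      intro x
      have hx : x ∈ ⨆ i, U i := by rw [hcov]; trivial
      obtain ⟨j, hj⟩ := TopologicalSpace.Opens.mem_iSup.mp hx
      refine ⟨U j, hj, hU j, ?_⟩
      rw [Scheme.Hom.comp_preimage, ← O.ι.isAffineOpen_iff_of_isOpenImmersion,
        Scheme.Hom.image_preimage_eq_opensRange_inf, Scheme.Opens.opensRange_ι]
      let P' : {I : Finset (Fin (n + 1)) // I.card = p + 1} → Iv.subscheme.Opens :=
        fun I => c ⁻¹ᵁ (I.1.inf U ⊓ U j)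
      have hP'le : ∀ I, P' I ≤ P I := fun I =>
        (Scheme.Hom.preimage_mono c inf_le_left)
      have hP'aff : ∀ I, IsAffineOpen (P' I) := fun I =>
        ((hUIaff I.1 (hInonempty I)).inf (hU j)).preimage c
      have hP'disj : Pairwise (Function.onFun Disjoint P') := fun I J hne =>
        (hPdisj hne).mono (hP'le I) (hP'le J)
      have heq : O ⊓ c ⁻¹ᵁ (U j) = ⨆ I, P' I := by
        rw [hOeq, iSup_inf_eq]
        congr 1
      rw [heq]
      exact IsAffineOpen.iSup_of_disjoint hP'aff hP'disj
    · -- the range
      rw [Scheme.Hom.comp_base, TopCat.coe_comp, Set.range_comp, Scheme.Opens.range_ι]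
      change c '' (c ⁻¹' ((Xp p : X.Opens) : Set X)) = _
      rw [Set.image_preimage_eq_inter_range, hc]
      ext x
      simp only [Set.mem_inter_iff, SetLike.mem_coe, Set.mem_compl_iff, hmemXp, Set.mem_setOf_eq]
      have := hN1 x
      omega

end Groth.Agent.S1438
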