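import Groth.Statements.S14380
import Mathlib
import Groth.Agent.Lib.Helper12.MilnL
import Groth.Agent.Lib.Helper12.HensFibre

set_option autoImplicit false
open scoped TensorProduct
universe u
open Hensel

namespace Groth.Agent.S14380

/-- Let V be a strictly henselian discrete valuation ring (henselian, with separably closed residue
field k) such that k is perfect and V has characteristic zero, let L be an algebraically closed
field which is an algebraic extension of the fraction field of V (an algebraic closure of it, given
as a V-algebra into which V embeds), let A be a V-algebra of finite type and m a maximal ideal of A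
with residue field k, meaning that the composite V → A → A/m is surjective, and let B be a
henselization of the local ring A_m. Then L ⊗_V B, the coordinate ring of the algebraic Milnor fibre
of Spec A over Spec V at the rational point m of the closed fibre, is a Noetherian ring. (The
published statement is for a scheme of finite type over a henselian discrete valuation ring and a
rational point of its closed fibre, the Milnor fibre being formed with strict henselizations; this
row states the affine case over a strictly henselian V, to which that statement reduces.) -/
theorem result (V : Type u) [CommRing V] [IsDomain V]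
    [IsDiscreteValuationRing V] [HenselianLocalRing V] [IsSepClosed (IsLocalRing.ResidueField V)]
    [PerfectField (IsLocalRing.ResidueField V)] [CharZero V]
    (L : Type u) [Field L] [IsAlgClosed L] [Algebra V L] [FaithfulSMul V L] [Algebra.IsAlgebraic V L]
    (A : Type u) [CommRing A] [Algebra V A] [Algebra.FiniteType V A]
    (m : Ideal A) [m.IsMaximal]
    (hm : Function.Surjective ((Ideal.Quotient.mk m).comp (algebraMap V A)))
    (B : Type u) [CommRing B] [IsLocalRing B] [Algebra (Localization.AtPrime m) B]
    [IsLocalHom (algebraMap (Localization.AtPrime m) B)]
    [Hensel.IsHenselization (Localization.AtPrime m) B]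
    [Algebra V B] [IsScalarTower V (Localization.AtPrime m) B] :
    IsNoetherianRing (L ⊗[V] B) := by
  haveI : IsNoetherianRing A := Algebra.FiniteType.isNoetherianRing V A
  haveI : IsNoetherianRing (Localization.AtPrime m) :=
    IsLocalization.isNoetherianRing m.primeCompl _ inferInstance
  haveI : IsNoetherianRing B :=
    Groth.Agent.Lib.Helper12.HensFibre.isNoetherianRing_of_isHenselization
      (Localization.AtPrime m) B
  apply Groth.Agent.Lib.Helper12.Miln.isNoetherianRing_tensor_of_local V L B
  rw [Ideal.map_le_iff_le_comap]
  intro v hv
  rw [Ideal.mem_comap]
  -- the kernel of `V → A/m` is the maximal ideal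
  have hker : RingHom.ker ((Ideal.Quotient.mk m).comp (algebraMap V A)) =
      IsLocalRing.maximalIdeal V := by
    letI : Field (A ⧸ m) := Ideal.Quotient.field m
    exact IsLocalRing.eq_maximalIdeal (RingHom.ker_isMaximal_of_surjective _ hm)
  have h1 : algebraMap V A v ∈ m := by
    rw [← hker, RingHom.mem_ker, RingHom.comp_apply, Ideal.Quotient.eq_zero_iff_mem] at hv
    exact hv
  have h2 : algebraMap A (Localization.AtPrime m) (algebraMap V A v) ∈
      IsLocalRing.maximalIdeal (Localization.AtPrime m) := by
    rw [← Localization.AtPrime.map_eq_maximalIdeal]
    exact Ideal.mem_map_of_mem _ h1
  rw [IsScalarTower.algebraMap_apply V (Localization.AtPrime m) B,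
    IsScalarTower.algebraMap_apply V A (Localization.AtPrime m)]
  exact map_nonunit _ _ h2

end Groth.Agent.S14380
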