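import Groth.Statements.S14388
import Groth.Agent.Lib.Helper16.DerTrunc2
-- import your own Groth.Agent.* helpers here

set_option autoImplicit false
open CategoryTheory CategoryTheory.Limits
universe w v u
open CohDer

namespace Groth.Agent.S14388

open CategoryTheory Limits DerivedCategory Pretriangulated Groth.Agent.Lib.Helper16.DerT

variable {C : Type u} [Category.{v} C] [Abelian C] [HasDerivedCategory.{w} C]

lemma isZero_homology_obj₃ (T : Triangle (DerivedCategory C))
    (hT : T ∈ distTriang (DerivedCategory C)) (j : ℤ)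
    (h1 : Epi ((homologyFunctor C j).map T.mor₁))
    (h2 : Mono ((homologyFunctor C (j + 1)).map T.mor₁)) :
    IsZero ((homologyFunctor C j).obj T.obj₃) := by
  have e1 := (HomologySequence.epi_homologyMap_mor₁_iff T hT j).1 h1
  have e2 := (HomologySequence.mono_homologyMap_mor₁_iff T hT j (j + 1) rfl).1 h2
  exact (HomologySequence.exact₃ T hT j (j + 1) rfl).isZero_X₂ e1 e2

lemma isZero_homology_obj₁ (T : Triangle (DerivedCategory C))
    (hT : T ∈ distTriang (DerivedCategory C)) (j j' : ℤ) (hj : j' + 1 = j)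
    (h1 : Epi ((homologyFunctor C j').map T.mor₂))
    (h2 : Mono ((homologyFunctor C j).map T.mor₂)) :
    IsZero ((homologyFunctor C j).obj T.obj₁) := by
  have e1 := (HomologySequence.epi_homologyMap_mor₂_iff T hT j' j hj).1 h1
  have e2 := (HomologySequence.mono_homologyMap_mor₂_iff T hT j).1 h2
  exact (HomologySequence.exact₁ T hT j' j hj).isZero_X₂ e1 e2

omit [Abelian C] [HasDerivedCategory C] in
lemma epi_of_isZero_tgt {X Y : C} (f : X ⟶ Y) (h : IsZero Y) : Epi f :=
  ⟨fun _ _ _ => h.eq_of_src _ _⟩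

omit [Abelian C] [HasDerivedCategory C] in
lemma mono_of_isZero_src {X Y : C} (f : X ⟶ Y) (h : IsZero X) : Mono f :=
  ⟨fun _ _ _ => h.eq_of_tgt _ _⟩

theorem core {M Z Y' M' : DerivedCategory C} (q : ℤ)
    [M.IsGE (q - 1)] [M.IsLE q] [Z.IsGE q] [Z.IsLE q]
    [Y'.IsGE (q - 1)] [Y'.IsLE (q - 1)] [M'.IsGE (q - 1)] [M'.IsLE q]
    (p : M ⟶ Z) (i : Y' ⟶ M') (g : M ⟶ M')
    (hp : IsIso ((homologyFunctor C q).map p))
    (hi : IsIso ((homologyFunctor C (q - 1)).map i))
    (h₁ : (homologyFunctor C (q - 1)).map g = 0)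
    (h₂ : (homologyFunctor C q).map g = 0) :
    ∃! L : Z ⟶ Y', g = p ≫ L ≫ i := by
  let t := TStructure.t (C := C)
  obtain ⟨W, w, d, hT⟩ := distinguished_cocone_triangle₁ p
  obtain ⟨V, v, d', hT'⟩ := distinguished_cocone_triangle i
  -- homology of p
  have hpE : ∀ k, Epi ((homologyFunctor C k).map p) := by
    intro k
    by_cases hk : k = q
    · subst hk; infer_instance
    · apply epi_of_isZero_tgt
      rcases lt_or_gt_of_ne hk with h | h
      · exact isZero_of_isGE Z q k h
      · exact isZero_of_isLE Z q k h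
  have hpM : ∀ k, k ≠ q - 1 → Mono ((homologyFunctor C k).map p) := by
    intro k hk1
    by_cases hk : k = q
    · subst hk; infer_instance
    · apply mono_of_isZero_src
      by_cases h : k < q - 1
      · exact isZero_of_isGE M (q - 1) k h
      · exact isZero_of_isLE M q k (by omega)
  have hiM : ∀ k, Mono ((homologyFunctor C k).map i) := by
    intro k
    by_cases hk : k = q - 1
    · subst hk; infer_instance
    · apply mono_of_isZero_src
      rcases lt_or_gt_of_ne hk with h | h
      · exact isZero_of_isGE Y' (q - 1) k h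
      · exact isZero_of_isLE Y' (q - 1) k h
  have hiE : ∀ k, k ≠ q → Epi ((homologyFunctor C k).map i) := by
    intro k hk1
    by_cases hk : k = q - 1
    · subst hk; infer_instance
    · apply epi_of_isZero_tgt
      by_cases h : k < q - 1
      · exact isZero_of_isGE M' (q - 1) k h
      · exact isZero_of_isLE M' q k (by omega)
  have hW : ∀ k, k ≠ q - 1 → IsZero ((homologyFunctor C k).obj W) := fun k hk =>
    isZero_homology_obj₁ _ hT k (k - 1) (by omega) (hpE _) (hpM k hk)
  have hV : ∀ k, k ≠ q → IsZero ((homologyFunctor C k).obj V) := fun k hk =>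
    isZero_homology_obj₃ _ hT' k (hiE k hk) (hiM _)
  have : W.IsLE (q - 1) := by
    rw [isLE_iff]; intro k hk; exact hW k (by omega)
  have : W.IsGE (q - 1) := by
    rw [isGE_iff]; intro k hk; exact hW k (by omega)
  have : V.IsLE q := by
    rw [isLE_iff]; intro k hk; exact hV k (by omega)
  have : V.IsGE q := by
    rw [isGE_iff]; intro k hk; exact hV k (by omega)
  -- Step 1
  have s1 : w ≫ g = 0 := by
    have hz : (w ≫ g) ≫ v = 0 := t.zero _ (q - 1) q (by omega)
    obtain ⟨h, hh⟩ : ∃ h : W ⟶ Y', w ≫ g = h ≫ i := Triangle.coyoneda_exact₂ _ hT' (w ≫ g) hz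
    have : (homologyFunctor C (q - 1)).map h = 0 := by
      rw [← cancel_mono ((homologyFunctor C (q - 1)).map i), ← Functor.map_comp, ← hh,
        Functor.map_comp, h₁, comp_zero, zero_comp]
    rw [hh, eq_zero_of_homologyMap_eq_zero (q - 1) h this, zero_comp]
  obtain ⟨g₁, hg₁⟩ : ∃ g₁ : Z ⟶ M', g = p ≫ g₁ := Triangle.yoneda_exact₂ _ hT g s1
  have s2 : g₁ ≫ v = 0 := by
    apply eq_zero_of_homologyMap_eq_zero q
    have := hpE q
    rw [← cancel_epi ((homologyFunctor C q).map p), ← Functor.map_comp, ← Category.assoc, ← hg₁,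
      Functor.map_comp, h₂, zero_comp, comp_zero]
  obtain ⟨L, hL⟩ : ∃ L : Z ⟶ Y', g₁ = L ≫ i := Triangle.coyoneda_exact₂ _ hT' g₁ s2
  refine ⟨L, by rw [hg₁, hL], ?_⟩
  intro L' hL'
  have hD : p ≫ ((L' - L) ≫ i) = 0 := by
    rw [Preadditive.sub_comp, Preadditive.comp_sub, ← hL', hg₁, hL, sub_self]
  obtain ⟨c, hc⟩ : ∃ c : W⟦(1 : ℤ)⟧ ⟶ M', (L' - L) ≫ i = d ≫ c :=
    Triangle.yoneda_exact₃ _ hT ((L' - L) ≫ i) hD
  have hc0 : c = 0 := by
    have : (W⟦(1 : ℤ)⟧).IsLE (q - 2) := t.isLE_shift W (q - 1) 1 (q - 2) (by omega)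
    exact t.zero c (q - 2) (q - 1) (by omega)
  rw [hc0, comp_zero] at hc
  have hD' : ((L' - L)⟦(1 : ℤ)⟧') ≫ i⟦(1 : ℤ)⟧' = 0 := by
    rw [← Functor.map_comp, hc, Functor.map_zero]
  obtain ⟨e, he⟩ : ∃ e : Z⟦(1 : ℤ)⟧ ⟶ V, (L' - L)⟦(1 : ℤ)⟧' = e ≫ d' :=
    Triangle.coyoneda_exact₁ _ hT' ((L' - L)⟦(1 : ℤ)⟧') hD'
  have he0 : e = 0 := by
    have : (Z⟦(1 : ℤ)⟧).IsLE (q - 1) := t.isLE_shift Z q 1 (q - 1) (by omega)
    exact t.zero e (q - 1) q (by omega)
  rw [he0, zero_comp] at he
  have : L' - L = 0 := (shiftFunctor (DerivedCategory C) (1 : ℤ)).map_injective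
    (by rw [he, Functor.map_zero])
  exact sub_eq_zero.1 this

lemma homologyMap_truncGELT_eq_zero {K K' : DerivedCategory C} (f : K ⟶ K') (a b j : ℤ)
    (hj : (homologyFunctor C j).map f = 0) :
    (homologyFunctor C j).map (((TStructure.t (C := C)).truncGELT a b).map f) = 0 := by
  let t := TStructure.t (C := C)
  have h1 : (homologyFunctor C j).map ((t.truncLT b).map f) = 0 := by
    have := mono_homologyMap_truncLTι K' b j
    rw [← cancel_mono ((homologyFunctor C j).map ((t.truncLTι b).app K')), ← Functor.map_comp,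
      (t.truncLTι b).naturality f, Functor.map_comp, zero_comp]
    dsimp
    rw [hj, comp_zero]
  have := epi_homologyMap_truncGEπ ((t.truncLT b).obj K) a j
  rw [← cancel_epi ((homologyFunctor C j).map ((t.truncGEπ a).app ((t.truncLT b).obj K))),
    ← Functor.map_comp]
  have nat := (t.truncGEπ a).naturality ((t.truncLT b).map f)
  dsimp at nat
  dsimp
  rw [← nat, Functor.map_comp, h1, zero_comp, comp_zero]



/-- Let A be an abelian category, D(A) its derived category with the canonical t-structure and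
truncation functors τ_{≥a}, τ_{<b}, and write τ_[a,b] = τ_{≥a} ∘ τ_{<b+1}, so that τ_[q,q] K is
H^q(K) placed in degree q. Let f : K → K' be a morphism in D(A) and q an integer such that the
induced maps H^(q-1)(K) → H^(q-1)(K') and H^q(K) → H^q(K') are both zero. Then there is a unique
morphism L : τ_[q,q] K → τ_[q-1,q-1] K' such that τ_[q-1,q](f) : τ_[q-1,q] K → τ_[q-1,q] K' is the
composite of the canonical projection τ_[q-1,q] K → τ_[q,q] K, the morphism L, and the canonical
inclusion τ_[q-1,q-1] K' → τ_[q-1,q] K'. (Under τ_[n,n] ≅ H^n(−)[−n] the morphism L corresponds to a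
morphism L_f[−q] : H^q(K)[−q] → H^(q-1)(K')[1−q].) -/
theorem result {C : Type u} [Category.{v} C] [Abelian C]
    [HasDerivedCategory.{w} C] {K K' : DerivedCategory C} (f : K ⟶ K') (q : ℤ)
    (h₁ : (DerivedCategory.homologyFunctor C (q - 1)).map f = 0)
    (h₂ : (DerivedCategory.homologyFunctor C q).map f = 0) :
    ∃! L : ((DerivedCategory.TStructure.t (C := C)).truncGELT q (q + 1)).obj K ⟶
        ((DerivedCategory.TStructure.t (C := C)).truncGELT (q - 1) q).obj K',
      ((DerivedCategory.TStructure.t (C := C)).truncGELT (q - 1) (q + 1)).map f =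
        ((DerivedCategory.TStructure.t (C := C)).natTransTruncGEOfLE (q - 1) q (sub_one_lt q).le).app
            (((DerivedCategory.TStructure.t (C := C)).truncLT (q + 1)).obj K) ≫ L ≫
          ((DerivedCategory.TStructure.t (C := C)).truncGE (q - 1)).map
            (((DerivedCategory.TStructure.t (C := C)).natTransTruncLTOfLE q (q + 1) (lt_add_one q).le).app K') := by
  let t := TStructure.t (C := C)
  have iM : ((t.truncGELT (q - 1) (q + 1)).obj K).IsGE (q - 1) := by
    show t.IsGE _ (q - 1); infer_instance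
  have iM2 : ((t.truncGELT (q - 1) (q + 1)).obj K).IsLE q := by
    show t.IsLE _ q; dsimp; infer_instance
  have iZ : ((t.truncGELT q (q + 1)).obj K).IsGE q := by
    show t.IsGE _ q; infer_instance
  have iZ2 : ((t.truncGELT q (q + 1)).obj K).IsLE q := by
    show t.IsLE _ q; dsimp; infer_instance
  have iY : ((t.truncGELT (q - 1) q).obj K').IsGE (q - 1) := by
    show t.IsGE _ (q - 1); infer_instance
  have iY2 : ((t.truncGELT (q - 1) q).obj K').IsLE (q - 1) := by
    show t.IsLE _ (q - 1); dsimp; infer_instance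
  have iM' : ((t.truncGELT (q - 1) (q + 1)).obj K').IsGE (q - 1) := by
    show t.IsGE _ (q - 1); infer_instance
  have iM'2 : ((t.truncGELT (q - 1) (q + 1)).obj K').IsLE q := by
    show t.IsLE _ q; dsimp; infer_instance
  refine core q _ _ _ ?_ ?_ (homologyMap_truncGELT_eq_zero f _ _ _ h₁)
    (homologyMap_truncGELT_eq_zero f _ _ _ h₂)
  · -- H^q(p) iso
    have e := t.π_natTransTruncGEOfLE_app (q - 1) q (sub_one_lt q).le ((t.truncLT (q + 1)).obj K)
    have i1 := isIso_homologyMap_truncGEπ ((t.truncLT (q + 1)).obj K) (q - 1) q (by omega)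
    have i2 := isIso_homologyMap_truncGEπ ((t.truncLT (q + 1)).obj K) q q le_rfl
    have e' := congrArg (fun φ => (homologyFunctor C q).map φ) e
    simp only [Functor.map_comp] at e'
    exact IsIso.of_isIso_fac_left e'
  · -- H^{q-1}(i) iso
    let n := (t.natTransTruncLTOfLE q (q + 1) (lt_add_one q).le).app K'
    have en := t.natTransTruncLTOfLE_ι_app q (q + 1) (lt_add_one q).le K'
    have i1 := isIso_homologyMap_truncLTι K' (q + 1) (q - 1) (by omega)
    have i2 := isIso_homologyMap_truncLTι K' q (q - 1) (by omega)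
    have en' := congrArg (fun φ => (homologyFunctor C (q - 1)).map φ) en
    simp only [Functor.map_comp] at en'
    have hn : IsIso ((homologyFunctor C (q - 1)).map n) := IsIso.of_isIso_fac_right en'
    have nat := (t.truncGEπ (q - 1)).naturality n
    dsimp at nat
    have j1 := isIso_homologyMap_truncGEπ ((t.truncLT q).obj K') (q - 1) (q - 1) le_rfl
    have j2 := isIso_homologyMap_truncGEπ ((t.truncLT (q + 1)).obj K') (q - 1) (q - 1) le_rfl
    have nat' := congrArg (fun φ => (homologyFunctor C (q - 1)).map φ) nat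
    simp only [Functor.map_comp] at nat'
    have : IsIso ((homologyFunctor C (q - 1)).map ((t.truncGEπ (q - 1)).app ((t.truncLT q).obj K')) ≫
        (homologyFunctor C (q - 1)).map ((t.truncGE (q - 1)).map n)) := by
      rw [← nat']; infer_instance
    exact IsIso.of_isIso_fac_left
      (f := (homologyFunctor C (q - 1)).map ((t.truncGEπ (q - 1)).app ((t.truncLT q).obj K'))) rfl

end Groth.Agent.S14388
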