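import Groth.Statements.S14389
-- import your own Groth.Agent.* helpers here
import Groth.Agent.Lib.Helper23.HofPushBC

set_option autoImplicit false
open CategoryTheory CategoryTheory.Limits AlgebraicGeometry Opposite
universe u
open EtLim

namespace Groth.Agent.S14389

/-- For small étale sites of schemes: let g' ≫ f = f' ≫ g be a commutative square of schemes with f : X
→ Y, g : Y' → Y, f' : X' → Y', g' : X' → X, and let F be an abelian sheaf on the small étale site of
X. For every q and every class ζ in H^q(Y_ét, f_*F), the pullback along g' of the image of ζ under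
the canonical map H^q(Y, f_*F) → H^q(X, F) (pull back along f, then apply the counit f⁻¹f_*F → F)
equals the image of g^*ζ ∈ H^q(Y', g⁻¹f_*F) under the map induced by the base-change morphism
g⁻¹f_*F → f'_*g'⁻¹F followed by the canonical map H^q(Y', f'_*g'⁻¹F) → H^q(X', g'⁻¹F). (The
published statement is for a commutative square of topoi with a chosen isomorphism f_*g'_* ≅
g_*f'_*; this row is the square of étale topoi of schemes. Exactness of pullback of abelian sheaves,
which always holds, is carried as instance hypotheses.) -/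
theorem result {X Y X' Y' : Scheme.{u}} (f : X ⟶ Y)
    (g : Y' ⟶ Y) (f' : X' ⟶ Y') (g' : X' ⟶ X) (w : g' ≫ f = f' ≫ g) (F : EtCoh.Ab X) (q : ℕ)
    [PreservesFiniteLimits (EtCoh.pull f)] [PreservesFiniteLimits (EtCoh.pull g)]
    [PreservesFiniteLimits (EtCoh.pull f')] [PreservesFiniteLimits (EtCoh.pull g')]
    (ζ : EtCoh.H Y ((EtCoh.push f).obj F) q) :
    EtCore.Hpull g' F q (EtLim.HofPush f F q ζ) =
      EtLim.HofPush f' ((EtCoh.pull g').obj F) q
        (((EtCoh.HF Y' q).map (EtCoh.baseChange0 f g f' g' w F)).hom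
          (EtCore.Hpull g ((EtCoh.push f).obj F) q ζ)) := by
  classical
  let A : EtCoh.Ab Y := (EtCoh.push f).obj F
  let N : EtCoh.Ab X' := (EtCoh.pull g').obj F
  let Θ₁ : (EtCoh.pull g').obj ((EtCoh.pull f).obj A) ≅ (EtCoh.pull (g' ≫ f)).obj A :=
    ((EtCore.pullComp g' f).symm ≪≫ EtCore.pullCongr rfl).app A
  let Θ₂ : (EtCoh.pull f').obj ((EtCoh.pull g).obj A) ≅ (EtCoh.pull (g' ≫ f)).obj A :=
    ((EtCore.pullComp f' g).symm ≪≫ EtCore.pullCongr w.symm).app A
  let D := EtCore.Hpull (g' ≫ f) A q ζ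
  let P1 := EtCore.Hpull g' ((EtCoh.pull f).obj A) q (EtCore.Hpull f A q ζ)
  let P2 := EtCore.Hpull f' ((EtCoh.pull g).obj A) q (EtCore.Hpull g A q ζ)
  have hV1 : P1.comp (Abelian.Ext.mk₀ Θ₁.hom) (add_zero q) = D :=
    Groth.Agent.Lib.Helper23.HpullComp.HpullVia_Hpull g' f (g' ≫ f) rfl A q ζ
  have hV2 : P2.comp (Abelian.Ext.mk₀ Θ₂.hom) (add_zero q) = D :=
    Groth.Agent.Lib.Helper23.HpullComp.HpullVia_Hpull f' g (g' ≫ f) w.symm A q ζ
  have hP1 : P1 = D.comp (Abelian.Ext.mk₀ Θ₁.inv) (add_zero q) := by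
    rw [← hV1, Abelian.Ext.comp_assoc_of_third_deg_zero, Abelian.Ext.mk₀_comp_mk₀,
      Iso.hom_inv_id, Abelian.Ext.comp_mk₀_id]
  have hP2 : P2 = D.comp (Abelian.Ext.mk₀ Θ₂.inv) (add_zero q) := by
    rw [← hV2, Abelian.Ext.comp_assoc_of_third_deg_zero, Abelian.Ext.mk₀_comp_mk₀,
      Iso.hom_inv_id, Abelian.Ext.comp_mk₀_id]
  have hΘ₁ : Θ₁.inv = (EtCore.pullComp g' f).hom.app A := by
    change (EtCore.pullCongr (rfl : g' ≫ f = g' ≫ f)).inv.app A ≫
      (EtCore.pullComp g' f).hom.app A = _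
    exact Category.id_comp _
  have hΘ₂ : Θ₂.inv = (EtCore.pullCongr w.symm).inv.app A ≫
      (EtCore.pullComp f' g).hom.app A := rfl
  have key := Groth.Agent.Lib.Helper23.HofPushBC.counit_baseChange0 f g f' g' w F
  have hL : EtCore.Hpull g' F q (EtLim.HofPush f F q ζ) =
      P1.comp (Abelian.Ext.mk₀ ((EtCoh.pull g').map ((EtCoh.pullPushAdj f).counit.app F)))
        (add_zero q) :=
    Groth.Agent.Lib.Helper23.HpullNat.Hpull_comp_mk₀ g' _ q (EtCore.Hpull f A q ζ)
  have hR : EtLim.HofPush f' ((EtCoh.pull g').obj F) q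
        (((EtCoh.HF Y' q).map (EtCoh.baseChange0 f g f' g' w F)).hom
          (EtCore.Hpull g ((EtCoh.push f).obj F) q ζ)) =
      (P2.comp (Abelian.Ext.mk₀ ((EtCoh.pull f').map (EtCoh.baseChange0 f g f' g' w F)))
        (add_zero q)).comp
        (Abelian.Ext.mk₀ ((EtCoh.pullPushAdj f').counit.app ((EtCoh.pull g').obj F)))
        (add_zero q) := by
    have h1 := Groth.Agent.Lib.Helper23.HpullNat.Hpull_comp_mk₀ f'
      (EtCoh.baseChange0 f g f' g' w F) q (EtCore.Hpull g A q ζ)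
    change (EtCore.Hpull f' _ q ((EtCore.Hpull g A q ζ).comp
      (Abelian.Ext.mk₀ (EtCoh.baseChange0 f g f' g' w F)) (add_zero q))).comp
      (Abelian.Ext.mk₀ ((EtCoh.pullPushAdj f').counit.app ((EtCoh.pull g').obj F)))
      (add_zero q) = _
    rw [h1]
  rw [hL, hR, hP1, hP2, Abelian.Ext.comp_assoc_of_third_deg_zero,
    Abelian.Ext.comp_assoc_of_third_deg_zero, Abelian.Ext.comp_assoc_of_third_deg_zero,
    Abelian.Ext.mk₀_comp_mk₀, Abelian.Ext.mk₀_comp_mk₀, Abelian.Ext.mk₀_comp_mk₀, hΘ₁, hΘ₂, key]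
  simp only [Category.assoc]
  rfl

end Groth.Agent.S14389
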