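import Groth.Statements.S14397
-- import your own Groth.Agent.* helpers here

set_option autoImplicit false
universe u
open DualGr

namespace Groth.Agent.S14397

section helpers
variable {V E : Type u} [Fintype V] [Fintype E] [DecidableEq V] [DecidableEq E]

theorem genMap_val (ends : E → V × V) (D : Finset E) (γ : cycleLattice ends) (e : CtrEdge D) :
    (genMap ends D γ).1 e = γ.1 e.1 := rfl

theorem key (ends : E → V × V) {n : ℕ} (D : Fin n → Finset E) (hcover : ∀ e : E, ∃ i : Fin n, e ∉ D i)
    (m : ℕ) (hm : m ≠ 0) (c : (i : Fin n) → ↥(cycleLattice (ctrEnds ends (D i))))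
    (hc : m • c ∈ LinearMap.range (LinearMap.pi fun i : Fin n => genMap ends (D i))) :
    c ∈ LinearMap.range (LinearMap.pi fun i : Fin n => genMap ends (D i)) := by
  obtain ⟨γ, hγ⟩ := hc
  have hmz : (m : ℤ) ≠ 0 := Nat.cast_ne_zero.2 hm
  -- value of γ on each edge
  have hval : ∀ (i : Fin n) (e : CtrEdge (D i)), γ.1 e.1 = (m : ℤ) * (c i).1 e := by
    intro i e
    have h1 := congrFun hγ i
    have h2 := congrArg (fun z : ↥(cycleLattice (ctrEnds ends (D i))) => z.1 e) h1
    simp only [LinearMap.pi_apply, Pi.smul_apply] at h2
    rw [genMap_val] at h2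
    rw [h2]
    simp
  let γ' : E → ℤ := fun e => γ.1 e / (m : ℤ)
  have hγ' : ∀ e, (m : ℤ) * γ' e = γ.1 e := by
    intro e
    obtain ⟨i, hi⟩ := hcover e
    have := hval i ⟨e, hi⟩
    exact Int.mul_ediv_cancel' ⟨_, this⟩
  have hsm : (m : ℤ) • γ' = γ.1 := by
    funext e
    simp only [Pi.smul_apply, smul_eq_mul]
    exact hγ' e
  have hmem : γ' ∈ cycleLattice ends := by
    change boundaryHom ends γ' = 0
    have h0 : (m : ℤ) • boundaryHom ends γ' = 0 := by
      rw [← map_smul, hsm]
      exact γ.2
    exact (smul_eq_zero.1 h0).resolve_left hmz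
  refine ⟨⟨γ', hmem⟩, ?_⟩
  funext i
  apply Subtype.ext
  funext e
  simp only [LinearMap.pi_apply]
  rw [genMap_val]
  have h3 := hval i e
  rw [← hγ' e.1] at h3
  exact Int.eq_of_mul_eq_mul_left hmz h3

end helpers

theorem aux {V E : Type u} [Fintype V] [Fintype E] [DecidableEq V] [DecidableEq E]
    (ends : E → V × V) {n : ℕ} (D : Fin n → Finset E) (hcover : ∀ e : E, ∃ i : Fin n, e ∉ D i) :
    IsAddTorsionFree (((i : Fin n) → ↥(DualGr.cycleLattice (DualGr.ctrEnds ends (D i)))) ⧸
      LinearMap.range (LinearMap.pi fun i : Fin n => DualGr.genMap ends (D i))) := by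
  constructor
  intro m hm x y hxy
  obtain ⟨a, rfl⟩ := Submodule.Quotient.mk_surjective _ x
  obtain ⟨b, rfl⟩ := Submodule.Quotient.mk_surjective _ y
  simp only at hxy
  rw [← Submodule.Quotient.mk_smul, ← Submodule.Quotient.mk_smul, Submodule.Quotient.eq] at hxy
  have h2 : m • a - m • b = m • (a - b) := (smul_sub m a b).symm
  rw [h2] at hxy
  rw [Submodule.Quotient.eq]
  exact key ends D hcover m hm _ hxy

/-- Let (V, E) with endpoint map E → V × V be a finite multigraph (loops and parallel edges allowed; the
order of the two endpoints is an auxiliary orientation), and let D_1, …, D_n be finite sets of edges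
such that every edge lies outside at least one D_i. For each i let Γ_i be the multigraph obtained by
contracting the edges of D_i, and let H₁(Γ, ℤ) → H₁(Γ_i, ℤ) be the map of cycle lattices (integer
edge vectors with zero boundary) given by restriction to the surviving edges. Then the map H₁(Γ, ℤ)
→ ⊕_i H₁(Γ_i, ℤ) has torsion-free cokernel. (The published statement is about the connected labelled
dual graph of the closed fibre of a nodal curve, smooth outside a normal crossing divisor with
components D_1, …, D_n, over a Noetherian regular strictly local base; Γ_i is the dual graph of the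
fibre over the generic point of D_i, the lattices are identified with the character groups of the
toric parts of the Picard schemes of these fibres, and the map is the generization map of character
groups; this row states the assertion about cycle lattices, for any finite multigraph, which is what
the argument establishes.) -/
theorem result
    {V E : Type u} [Fintype V] [Fintype E] [DecidableEq V] [DecidableEq E]
    (ends : E → V × V) {n : ℕ} (D : Fin n → Finset E) (hcover : ∀ e : E, ∃ i : Fin n, e ∉ D i) :
    IsAddTorsionFree (((i : Fin n) → ↥(DualGr.cycleLattice (DualGr.ctrEnds ends (D i)))) ⧸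
      LinearMap.range (LinearMap.pi fun i : Fin n => DualGr.genMap ends (D i))) := by
  exact aux ends D hcover

end Groth.Agent.S14397
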