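import Groth.Statements.S1440
import Groth.Agent.Lib.lead.CDecB
import Groth.Agent.Lib.lead.CDecC

set_option autoImplicit false
universe u
open FlatMor

namespace Groth.Agent.S1440

open AlgebraicGeometry CategoryTheory Limits in
/-- Let f : X → Y be locally of finite presentation with Y quasi-compact and quasi-separated, and assume
f is completely decomposed: every point y of Y is the image of a point x at which the residue field
extension is trivial. Then there are finitely many immersions Z_i → Y of finite presentation,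
jointly surjective, such that each base change X ×_Y Z_i → Z_i admits a section. -/
theorem result {X Y : Scheme.{u}} (f : X ⟶ Y) [LocallyOfFinitePresentation f] [CompactSpace ↑Y] [QuasiSeparatedSpace ↑Y]
    (hcd : ∀ y : Y, ∃ x : X, f x = y ∧ Function.Bijective (f.residueFieldMap x)) :
    ∃ (n : ℕ) (Z : Fin n → Scheme.{u}) (z : ∀ i, Z i ⟶ Y), (∀ y : Y, ∃ i, y ∈ Set.range ⇑(z i)) ∧
      ∀ i, IsImmersion (z i) ∧ LocallyOfFinitePresentation (z i) ∧ QuasiCompact (z i) ∧ QuasiSeparated (z i) ∧
        ∃ s : Z i ⟶ pullback f (z i), s ≫ pullback.snd f (z i) = 𝟙 (Z i) := by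
  classical
  have hloc : ∀ y : Y, ∃ (Z : Scheme.{u}) (z : Z ⟶ Y), y ∈ Set.range z ∧ IsImmersion z ∧
      LocallyOfFinitePresentation z ∧ QuasiCompact z ∧ QuasiSeparated z ∧
      ∃ s : Z ⟶ pullback f z, s ≫ pullback.snd f z = 𝟙 Z := by
    intro y
    obtain ⟨x, rfl, hx⟩ := hcd y
    exact Groth.Agent.Lib.lead.CDec.exists_local_section f x hx.2
  choose Z z hy himm hlfp hqc hqs hsec using hloc
  have hcons : ∀ y, Topology.IsConstructible (Set.range (z y)) := by
    intro y
    have := hlfp y
    have := hqc y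
    rw [← Set.image_univ]
    exact (z y).isConstructible_image Topology.IsConstructible.univ
  obtain ⟨t, ht⟩ := Groth.Agent.Lib.lead.CDec.exists_finite_cover_of_isConstructible
    (fun y => Set.range (z y)) hcons (fun y => ⟨y, hy y⟩)
  let e := t.equivFin
  refine ⟨t.card, fun i => Z (e.symm i).1, fun i => z (e.symm i).1, ?_, ?_⟩
  · intro y
    obtain ⟨i, hi, hyi⟩ := ht y
    refine ⟨e ⟨i, hi⟩, ?_⟩
    have h1 : e.symm (e ⟨i, hi⟩) = ⟨i, hi⟩ := e.symm_apply_apply _
    change y ∈ Set.range ⇑(z (e.symm (e ⟨i, hi⟩)).1)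
    rw [h1]
    exact hyi
  · intro i
    exact ⟨himm _, hlfp _, hqc _, hqs _, hsec _⟩

end Groth.Agent.S1440
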