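import Groth.Statements.S14400
import Groth.Agent.Lib.Helper18.GalDesc
open Groth.Agent.Lib.Helper18.GalFibre

set_option autoImplicit false
universe u
open CategoryTheory CategoryTheory.Limits AlgebraicGeometry
open Desc

namespace Groth.Agent.S14400

/-- Let K/k be a finite Galois extension of fields, X and Y schemes over k with base changes X_K and
Y_K, and g : X_K ⟶ Y_K a morphism over Spec K. Then g is the base change of a k-morphism f : X ⟶ Y
(that is, g followed by the projection Y_K ⟶ Y is the projection X_K ⟶ X followed by f) if and only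
if g commutes with the action of every k-automorphism σ of K on X_K and on Y_K (the identity on X,
resp. Y, and Spec σ on the factor Spec K). In other words the image of the k-morphisms X ⟶ Y among
the K-morphisms X_K ⟶ Y_K is exactly the set of Galois-invariant ones. -/
theorem result (k : Type u) [Field k] (K : Type u) [Field K]
    [Algebra k K] [FiniteDimensional k K] [IsGalois k K]
    (X Y : Scheme.{u}) [X.Over (Spec (CommRingCat.of k))] [Y.Over (Spec (CommRingCat.of k))]
    (g : Curv2.bc k X K ⟶ Curv2.bc k Y K) (hg : g ≫ Curv2.bcSnd k Y K = Curv2.bcSnd k X K) :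
    (∃ f : X ⟶ Y, f ≫ (Y ↘ Spec (CommRingCat.of k)) = X ↘ Spec (CommRingCat.of k) ∧
        g ≫ Curv2.bcFst k Y K = Curv2.bcFst k X K ≫ f) ↔
      ∀ σ : K ≃ₐ[k] K, Curv2.galAct k X K σ ≫ g = g ≫ Curv2.galAct k Y K σ := by
  let fX := X ↘ Spec (CommRingCat.of k)
  let fY := Y ↘ Spec (CommRingCat.of k)
  have hg' : g ≫ pullback.snd fY (sK k K) = pullback.snd fX (sK k K) := hg
  constructor
  · rintro ⟨f, hf1, hf2⟩ σ
    have hf2' : g ≫ pullback.fst fY (sK k K) = pullback.fst fX (sK k K) ≫ f := hf2
    rw [galAct_eq, galAct_eq]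
    apply pullback.hom_ext
    · simp only [Category.assoc, actOf_fst]
      rw [hf2', actOf_fst_assoc]
    · simp only [Category.assoc, actOf_snd]
      rw [hg', actOf_snd, reassoc_of% hg']
  · intro hσ
    have hinv : ∀ σ : K ≃ₐ[k] K, actOf fX σ ≫ (g ≫ pullback.fst fY (sK k K)) =
        g ≫ pullback.fst fY (sK k K) := by
      intro σ
      have := hσ σ
      rw [galAct_eq, galAct_eq] at this
      rw [← Category.assoc, this, Category.assoc, actOf_fst]
    obtain ⟨u, hu⟩ := exists_desc fX (g ≫ pullback.fst fY (sK k K)) hinv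
    refine ⟨u, ?_, hu.symm⟩
    haveI : QuasiCompact (sK k K) := inferInstance
    haveI : Epi (pullback.fst fX (sK k K)) := inferInstance
    rw [← cancel_epi (pullback.fst fX (sK k K)), reassoc_of% hu]
    change g ≫ pullback.fst fY (sK k K) ≫ fY = pullback.fst fX (sK k K) ≫ fX
    rw [pullback.condition, reassoc_of% hg', ← pullback.condition]

end Groth.Agent.S14400
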