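import Groth.Statements.S14401
import Mathlib.AlgebraicGeometry.Stalk
import Mathlib.Topology.NoetherianSpace

set_option autoImplicit false
universe u
open CategoryTheory AlgebraicGeometry
open Props

namespace Groth.Agent.S14401

theorem uniq (X : Scheme.{u}) (x : X) [IsDomain (X.presheaf.stalk x)] (Z : Set X)
    (hZ : Z ∈ irreducibleComponents X) (hx : x ∈ Z) :
    Z = closure {X.fromSpecStalk x ⟨⊥, Ideal.isPrime_bot⟩} := by
  have hZc : IsClosed Z := isClosed_of_mem_irreducibleComponents Z hZ
  have hZi : IsIrreducible Z := hZ.1
  let η := hZi.genericPoint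
  have hη : IsGenericPoint η (closure Z) := hZi.isGenericPoint_genericPoint_closure
  rw [hZc.closure_eq] at hη
  have hηx : η ⤳ x := by
    rw [specializes_iff_mem_closure, hη.def]; exact hx
  have : η ∈ Set.range (X.fromSpecStalk x) := by
    rw [Scheme.range_fromSpecStalk]; exact hηx
  obtain ⟨q, hq⟩ := this
  have h1 : (⟨⊥, Ideal.isPrime_bot⟩ : PrimeSpectrum (X.presheaf.stalk x)) ⤳ q := by
    rw [← PrimeSpectrum.le_iff_specializes]
    exact bot_le
  have h2 := h1.map (X.fromSpecStalk x).continuous
  rw [hq] at h2
  have h3 : Z ⊆ closure {X.fromSpecStalk x ⟨⊥, Ideal.isPrime_bot⟩} := by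
    rw [← hη.def]
    exact closure_minimal (Set.singleton_subset_iff.mpr (specializes_iff_mem_closure.mp h2))
      isClosed_closure
  exact le_antisymm h3 (hZ.2 isIrreducible_singleton.closure h3)


/-- Let X be a Noetherian scheme all of whose local rings are integral domains. Then each irreducible
component of X is an open subset of X, and each point of X lies on exactly one irreducible component
(so the irreducible components of X are pairwise disjoint, open and closed, and coincide with the
connected components). (The published statement assumes X regular and Noetherian; its argument uses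
only that the local rings of X are domains, which is the hypothesis taken here.) -/
theorem result (X : Scheme.{u}) [AlgebraicGeometry.IsNoetherian X]
    (hX : ∀ x : X, IsDomain (X.presheaf.stalk x)) :
    (∀ Z ∈ irreducibleComponents (X : Type u), IsOpen Z) ∧
      ∀ x : X, ∃! Z, Z ∈ irreducibleComponents (X : Type u) ∧ x ∈ Z := by
  have huniq : ∀ (x : X) (Z₁ Z₂ : Set X), Z₁ ∈ irreducibleComponents X → Z₂ ∈ irreducibleComponents X →
      x ∈ Z₁ → x ∈ Z₂ → Z₁ = Z₂ := by
    intro x Z₁ Z₂ h₁ h₂ hx₁ hx₂
    have := hX x
    rw [uniq X x Z₁ h₁ hx₁, uniq X x Z₂ h₂ hx₂]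
  constructor
  · intro Z hZ
    have hfin : (irreducibleComponents X).Finite :=
      TopologicalSpace.NoetherianSpace.finite_irreducibleComponents
    have hcompl : Zᶜ = ⋃₀ (irreducibleComponents X \ {Z}) := by
      ext x
      simp only [Set.mem_compl_iff, Set.mem_sUnion, Set.mem_sdiff, Set.mem_singleton_iff]
      constructor
      · intro hx
        refine ⟨irreducibleComponent x, ⟨irreducibleComponent_mem_irreducibleComponents x, ?_⟩,
          mem_irreducibleComponent⟩
        rintro rfl
        exact hx mem_irreducibleComponent
      · rintro ⟨Z', ⟨hZ', hne⟩, hxZ'⟩ hxZ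
        exact hne (huniq x Z' Z hZ' hZ hxZ' hxZ)
    rw [← isClosed_compl_iff, hcompl, Set.sUnion_eq_biUnion]
    exact Set.Finite.isClosed_biUnion (hfin.subset Set.sdiff_subset)
      (fun Z' hZ' ↦ isClosed_of_mem_irreducibleComponents Z' hZ'.1)
  · intro x
    refine ⟨irreducibleComponent x,
      ⟨irreducibleComponent_mem_irreducibleComponents x, mem_irreducibleComponent⟩, ?_⟩
    rintro Z ⟨hZ, hxZ⟩
    exact huniq x Z _ hZ (irreducibleComponent_mem_irreducibleComponents x) hxZ
      mem_irreducibleComponent

end Groth.Agent.S14401
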