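import Groth.Statements.S14405
import Mathlib.NumberTheory.BernoulliPolynomials
import Mathlib.Algebra.Polynomial.Taylor

set_option autoImplicit false
open Polynomial
open HilbNum

namespace Groth.Agent.S14405

theorem natDegree_bernoulli_le (n : ℕ) : (Polynomial.bernoulli n).natDegree ≤ n := by
  rw [natDegree_le_iff_coeff_eq_zero]
  intro i hi
  rw [Polynomial.coeff_bernoulli, if_neg (not_le.mpr hi)]

theorem taylor_bernoulli (n : ℕ) :
    taylor 1 (Polynomial.bernoulli n) = Polynomial.bernoulli n + n • X ^ (n - 1) := by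
  rw [taylor_apply, ← Polynomial.bernoulli_comp_one_add_X, C_1, add_comm]

/-- discrete antiderivative -/
theorem exists_antidiff (d : ℕ) (Q : ℚ[X]) (hd : Q.natDegree = d) :
    ∃ P₀ : ℚ[X], P₀.natDegree ≤ d + 1 ∧ P₀ - taylor (-1) P₀ = Q := by
  let G : ℚ[X] := ∑ k ∈ Finset.range (d + 1),
    C (Q.coeff k / ((k : ℚ) + 1)) * Polynomial.bernoulli (k + 1)
  refine ⟨taylor 1 G, ?_, ?_⟩
  · rw [natDegree_taylor]
    apply natDegree_sum_le_of_forall_le
    intro k hk
    refine (natDegree_C_mul_le _ _).trans ((natDegree_bernoulli_le _).trans ?_)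
    have := Finset.mem_range.mp hk
    omega
  · rw [taylor_taylor]
    norm_num
    simp only [G, map_sum, taylor_mul, taylor_C, taylor_bernoulli, ← Finset.sum_sub_distrib]
    conv_rhs => rw [Q.as_sum_range_C_mul_X_pow' (n := d + 1) (by omega)]
    apply Finset.sum_congr rfl
    intro k _
    rw [mul_add, add_sub_cancel_left, Nat.add_sub_cancel, nsmul_eq_mul, ← mul_assoc]
    congr 1
    rw [← C_eq_natCast, ← C_mul]
    congr 1
    push_cast
    field_simp

theorem degree_drop (P : ℚ[X]) (hP : P ≠ 0) : (P - taylor (-1) P).degree < P.degree :=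
  degree_sub_lt_left (degree_taylor P (-1)).symm hP (leadingCoeff_taylor (-1) P).symm


/-- Let φ be a function from the integers to the rationals and Q a nonzero polynomial with rational
coefficients of degree d such that φ(m) - φ(m-1) = Q(m) for every integer m. Then there is a
polynomial P with rational coefficients, of degree d + 1, such that φ(m) = P(m) for every integer m.
(The explicit form of P in the binomial basis is not part of this statement.) -/
theorem result (φ : ℤ → ℚ) (d : ℕ) (Q : ℚ[X]) (hQ : Q ≠ 0)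
    (hd : Q.natDegree = d) (h : ∀ m : ℤ, φ m - φ (m - 1) = Q.eval (m : ℚ)) :
    ∃ P : ℚ[X], P.natDegree = d + 1 ∧ ∀ m : ℤ, φ m = P.eval (m : ℚ) := by
  obtain ⟨P₀, hdeg, hP₀⟩ := exists_antidiff d Q hd
  have hP₀ne : P₀ ≠ 0 := by
    rintro rfl
    apply hQ
    rw [← hP₀]; simp
  have hdeg' : P₀.natDegree = d + 1 := by
    have h1 := degree_drop P₀ hP₀ne
    rw [hP₀, degree_eq_natDegree hQ, degree_eq_natDegree hP₀ne, hd, Nat.cast_lt] at h1
    omega
  have heval : ∀ m : ℤ, P₀.eval (m : ℚ) - P₀.eval ((m : ℚ) - 1) = Q.eval (m : ℚ) := by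
    intro m
    rw [← hP₀, eval_sub, taylor_eval]
    ring_nf
  let ψ : ℤ → ℚ := fun m ↦ φ m - P₀.eval (m : ℚ)
  have hψ : ∀ m : ℤ, ψ m = ψ (m - 1) := by
    intro m
    have h1 := h m
    have h2 := heval m
    simp only [ψ]
    push_cast
    linarith
  have hψ0 : ∀ m : ℤ, ψ m = ψ 0 := by
    intro m
    induction m using Int.induction_on with
    | zero => rfl
    | succ i ih =>
      rw [hψ (i + 1)]; simpa using ih
    | pred i ih =>
      rw [← ih, hψ (-i)]
  refine ⟨P₀ + C (ψ 0), ?_, ?_⟩
  · rw [natDegree_add_C, hdeg']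
  · intro m
    rw [eval_add, eval_C, ← hψ0 m]
    simp [ψ]

end Groth.Agent.S14405
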