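import Groth.Statements.S14408
import Groth.Agent.Lib.Helper2.HilbDeg
import Groth.Agent.Lib.Helper2.IntNum1
import Groth.Agent.Lib.Helper2.SerreFin2
import Groth.Agent.Lib.Helper28.TwistCov
import Groth.Agent.Lib.Helper28.VeryAmpleImm
import Groth.Agent.Lib.Helper28.TwistGenDAmple
import Groth.Agent.Lib.Helper28.ProjSpaceBasic
import Groth.Agent.S10829

set_option autoImplicit false
universe u
open CategoryTheory CategoryTheory.Limits AlgebraicGeometry
open HilbNum

namespace Groth.Agent.S14408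

/-- Let k be an algebraically closed field, n a positive integer, F a nonzero coherent O-module on
projective n-space P over k (quasi-coherent of finite type), and P_F a polynomial with rational
coefficients such that P_F(m) = χ(F(m)) = Σ_{j ≤ n} (-1)^j dim_k H^j(P, F ⊗ O(m)) for every integer
m. Then the degree of P_F equals the dimension of the support of F (the closed set of points where
the stalk of F is nonzero, with the subspace topology). The existence of such a polynomial is not
part of this statement; it enters through the hypothesis on P_F. -/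
theorem result (k : Type u) [Field k] [IsAlgClosed k] (n : ℕ) (hn : 0 < n)
    (F : (CohB1.ProjSpace n k).Modules) (hF : Coh.IsCoh F) (hF0 : ¬ IsZero F) (P : Polynomial ℚ)
    (hP : ∀ m : ℤ,
      ((Finset.range (n + 1)).sum fun j => (-1 : ℚ) ^ j *
        (Module.finrank k (Coh.HH (CohB1.ProjSpace n k) (CohB1.tensorMod F (Twist.twistProjSpace n k m)) j) : ℚ)) =
      P.eval (m : ℚ)) :
    topologicalKrullDim ↥(CohB1.support F) = (P.natDegree : WithBot ℕ∞) := by
  classical
  haveI : IsProper ((CohB1.ProjSpace n k) ↘ (Spec (CommRingCat.of k))) :=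
    Groth.Agent.Lib.Helper28.ProjSpaceBasic.isProper_toSpec n k
  haveI : IsNoetherian (CohB1.ProjSpace n k) :=
    Groth.Agent.Lib.Helper4.Snapper.isNoetherian_of_proper k
  haveI : CompactSpace (Proj (CohB1.polyGrading n k)) :=
    inferInstanceAs (CompactSpace (CohB1.ProjSpace n k))
  have hcov := Groth.Agent.Lib.Helper28.VeryAmpleImm.projSpace_cover n k
  have hO1 : CohB1.IsAmple (Twist.twistProjSpace n k ((1 : ℕ) : ℤ)) :=
    Groth.Agent.Lib.Helper28.TwistGenD.isAmple_twist_of_cover (CohB1.polyGrading n k) 1 one_pos hcov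
  have hdimX : topologicalKrullDim ↥(CohB1.ProjSpace n k) = (n : WithBot ℕ∞) :=
    Groth.Agent.S10829.result k n
  -- the dimension of the support is a natural number
  have hle : topologicalKrullDim ↥(CohB1.support F) ≤ (n : WithBot ℕ∞) := by
    rw [← hdimX]
    exact Topology.IsInducing.subtypeVal.topologicalKrullDim_le
  have hne : (CohB1.support F).Nonempty := by
    rw [Set.nonempty_iff_ne_empty]
    intro h
    exact hF0 (Groth.Agent.Lib.Helper6.DevCore.isZero_of_support_eq_empty F h)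
  obtain ⟨r, hr⟩ : ∃ r : ℕ, topologicalKrullDim ↥(CohB1.support F) = (r : WithBot ℕ∞) := by
    obtain ⟨x, hx⟩ := hne
    haveI : Nonempty (TopologicalSpace.IrreducibleCloseds ↥(CohB1.support F)) :=
      ⟨⟨closure {(⟨x, hx⟩ : ↥(CohB1.support F))}, isIrreducible_singleton.closure, isClosed_closure⟩⟩
    have h0 : (0 : WithBot ℕ∞) ≤ topologicalKrullDim ↥(CohB1.support F) := Order.krullDim_nonneg
    obtain ⟨y, hy⟩ := WithBot.ne_bot_iff_exists.1 (ne_bot_of_le_ne_bot (by simp) h0)
    rw [← hy] at hle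
    have hy' : y ≤ (n : ℕ∞) := by exact_mod_cast hle
    obtain ⟨r, hr⟩ := ENat.ne_top_iff_exists.1 (ne_top_of_le_ne_top (ENat.natCast_ne_top n) hy')
    exact ⟨r, by rw [← hy, ← hr]; rfl⟩
  rw [hr]
  have key := Groth.Agent.Lib.Helper2.HilbDeg.natDegree_eq k (Twist.twistProjSpace n k ((1 : ℕ) : ℤ)) hO1 F hF r hr P ?_
  · rw [key]
  intro m
  have hPm := hP (m : ℤ)
  have hcast : ((m : ℤ) : ℚ) = (m : ℚ) := by push_cast; rfl
  rw [hcast] at hPm
  rw [← hPm]
  obtain ⟨e⟩ := Groth.Agent.Lib.Helper28.TwistCov.nonempty_twist_iso_tensorPow (CohB1.polyGrading n k) hcov m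
  have hcohT : Coh.IsCoh (Twist.twistProjSpace n k (m : ℤ)) :=
    Groth.Agent.Lib.Helper2.SerreFin2.isCoh_twist n k _
  have hcoh1 : Coh.IsCoh (CohB1.tensorMod F (Twist.twistProjSpace n k (m : ℤ))) :=
    Groth.Agent.Lib.Helper6.K0Op.isCoh_tensorMod _ _ hF hcohT
  have e' : CohB1.tensorMod F (Twist.twistProjSpace n k (m : ℤ)) ≅
      CohB1.tensorMod F (CohB1.tensorPow (Twist.twistProjSpace n k ((1 : ℕ) : ℤ)) m) :=
    PicGrp.tensorModIso (Iso.refl F) e
  have h1 : Curv2.euler k (CohB1.ProjSpace n k) (CohB1.tensorMod F (Twist.twistProjSpace n k (m : ℤ))) =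
      Curv2.euler k (CohB1.ProjSpace n k)
        (CohB1.tensorMod F (CohB1.tensorPow (Twist.twistProjSpace n k ((1 : ℕ) : ℤ)) m)) := by
    have hcoh2 : Coh.IsCoh (CohB1.tensorMod F (CohB1.tensorPow (Twist.twistProjSpace n k ((1 : ℕ) : ℤ)) m)) :=
      Groth.Agent.Lib.Helper6.K0Op.isCoh_tensorMod _ _ hF
        (Groth.Agent.Lib.Helper6.K0Op.isCoh_of_isInvertible _
          (Groth.Agent.Lib.Helper28.GenLocus.isInvertible_tensorPow hO1.1 m))
    rw [← Groth.Agent.Lib.Helper4.Snapper.eulerHom_cls k _ _ hcoh1,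
      ← Groth.Agent.Lib.Helper4.Snapper.eulerHom_cls k _ _ hcoh2,
      Groth.Agent.Lib.Helper6.K0Op.cls_iso e' hcoh1]
  rw [← h1, ← Groth.Agent.Lib.Helper2.IntNum1.eulerCharLE_eq_euler k (CohB1.ProjSpace n k) n hdimX.le]
  unfold FGA.eulerCharLE
  push_cast
  rfl

end Groth.Agent.S14408
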