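import Groth.Statements.S14410
-- import your own Groth.Agent.* helpers here

set_option autoImplicit false
universe u
open CategoryTheory TopologicalSpace
open CohTop

namespace Groth.Agent.S14410

/-- Let X be a topological space and 0 → F₁ → F₂ → F₃ → 0 a short exact sequence of sheaves of abelian
groups on X. If F₁ and F₃ are flasque (every restriction map is surjective), then F₂ is flasque.
(The published statement is for O_X-modules on a ringed space and is an equivalence; this row states
the implication from the outer terms to the middle term, for the underlying abelian sheaves.) -/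
theorem result (X : TopCat.{u})
    (S : ShortComplex (TopCat.Sheaf AddCommGrpCat.{u} X)) (hS : S.ShortExact)
    [S.X₁.IsFlasque] [S.X₃.IsFlasque] : S.X₂.IsFlasque := by
  constructor
  intro U V i
  refine (AddCommGrpCat.epi_iff_surjective _).mpr (fun s ↦ ?_)
  -- s ∈ F₂(V)
  obtain ⟨s₃, hs₃⟩ := (AddCommGrpCat.epi_iff_surjective (S.X₃.obj.map i)).mp inferInstance
    (S.g.hom.app V s)
  have hepi : Epi (S.g.hom.app (Opposite.op U.unop)) := TopCat.Sheaf.IsFlasque.epi_of_shortExact hS
  obtain ⟨t, ht⟩ := (AddCommGrpCat.epi_iff_surjective _).mp hepi s₃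
  have hnat : ∀ x, S.g.hom.app V (S.X₂.obj.map i x) = S.X₃.obj.map i (S.g.hom.app U x) := by
    intro x
    exact ConcreteCategory.congr_hom (S.g.hom.naturality i) x
  have h0 : S.g.hom.app (Opposite.op V.unop) (S.X₂.obj.map i t - s) = 0 := by
    rw [map_sub]
    erw [hnat t]
    erw [ht, hs₃]
    exact sub_self _
  obtain ⟨r, hr⟩ := TopCat.Sheaf.sections_exact_of_left_exact hS.1 hS.2 _ h0
  obtain ⟨r', hr'⟩ := (AddCommGrpCat.epi_iff_surjective (S.X₁.obj.map i)).mp inferInstance r
  refine ⟨t - S.f.hom.app U r', ?_⟩
  rw [map_sub]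
  have hnat' : S.X₂.obj.map i (S.f.hom.app U r') = S.f.hom.app V (S.X₁.obj.map i r') :=
    (ConcreteCategory.congr_hom (S.f.hom.naturality i) r').symm
  rw [hnat', hr']
  erw [hr]
  abel

end Groth.Agent.S14410
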