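import Groth.Statements.S14413
import Mathlib
import Groth.Agent.Lib.Helper21.TorShift
import Groth.Agent.Lib.Helper21.ExactRes

set_option autoImplicit false
set_option backward.isDefEq.respectTransparency false
set_option backward.defeqAttrib.useBackward true
universe u
open CategoryTheory CategoryTheory.Limits
open CAlg

namespace Groth.Agent.S14413

section helpers
open Groth.Agent.Lib.Helper21.TorShift Groth.Agent.Lib.Helper21.ExactRes

universe v w
variable {C : Type w} [Category.{v} C] [Abelian C]

/-- exact data from a projective resolution -/
noncomputable def exactDataOfRes {M : C} (P : ProjectiveResolution M) : ExactData M where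
  X i := P.complex.X i
  proj i := P.projective i
  d i := P.complex.d (i + 1) i
  ε := P.π.f 0
  epi := inferInstance
  w0 := P.complex_d_comp_π_f_zero
  ex0 := exact_resolution_zero P
  w i := P.complex.d_comp_d _ _ _
  ex i := by
    have h := P.complex_exactAt_succ i
    rw [HomologicalComplex.exactAt_iff' _ (i + 2) (i + 1) i (by simp) (by simp)] at h
    exact h

theorem pd_of_res {M : C} (P : ProjectiveResolution M) (d : ℕ)
    (h : ∀ i : ℕ, d < i → IsZero (P.complex.X i)) : HasProjectiveDimensionLE M d :=
  ExactData.hasProjectiveDimensionLT d (exactDataOfRes P) h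

theorem res_of_pd [EnoughProjectives C] : ∀ (d : ℕ) (M : C), HasProjectiveDimensionLE M d →
    ∃ P : ProjectiveResolution M, ∀ i : ℕ, d < i → IsZero (P.complex.X i) := by
  intro d
  induction d with
  | zero =>
    intro M hM
    have : Projective M := (projective_iff_hasProjectiveDimensionLE_zero M).2 hM
    refine ⟨ProjectiveResolution.self M, ?_⟩
    intro i hi
    obtain ⟨n, rfl⟩ : ∃ n, i = n + 1 := ⟨i - 1, by omega⟩
    exact isZero_zero C
  | succ d ih =>
    intro M hM
    let P := Projective.over M
    let π : P ⟶ M := Projective.π M
    let S : ShortComplex C := ShortComplex.mk (kernel.ι π) π (kernel.condition π)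
    have hS : S.ShortExact :=
      { exact := ShortComplex.exact_of_f_is_kernel _ (kernelIsKernel π)
        mono_f := by dsimp [S]; infer_instance
        epi_g := by dsimp [S]; infer_instance }
    have hK : HasProjectiveDimensionLT (kernel π) (d + 1) := by
      have h2 : HasProjectiveDimensionLT S.X₂ (d + 1) := by
        dsimp [S]; infer_instance
      have h3 : HasProjectiveDimensionLT S.X₃ (d + 1 + 1) := hM
      exact hS.hasProjectiveDimensionLT_X₁ (d + 1) h2 h3
    obtain ⟨PK, hPK⟩ := ih (kernel π) hK
    refine ⟨splice PK (kernel.ι π) π (kernel.condition π) hS, ?_⟩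
    intro i hi
    obtain ⟨n, rfl⟩ : ∃ n, i = n + 1 := ⟨i - 1, by omega⟩
    exact hPK n (by omega)

end helpers


/-- Let R be a commutative ring, M an R-module and d ≥ 0. Then M has projective dimension at most d in
the sense that Ext^i_R(M, N) = 0 for every i > d and every R-module N (Mathlib's Ext-vanishing
definition) if and only if M has a projective resolution of length at most d, i.e. a projective
resolution P whose terms P_i are zero for all i > d (the definition of pd_R(M) ≤ d by resolutions). -/
theorem result (R : Type u) [CommRing R]
    (M : ModuleCat.{u} R) (d : ℕ) :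
    HasProjectiveDimensionLE M d ↔
      ∃ P : ProjectiveResolution M, ∀ i : ℕ, d < i → IsZero (P.complex.X i) := by
  constructor
  · exact res_of_pd d M
  · rintro ⟨P, hP⟩
    exact pd_of_res P d hP

end Groth.Agent.S14413
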