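import Groth.Statements.S14416
import Mathlib.RingTheory.LocalRing.Module
import Mathlib.RingTheory.Support

set_option autoImplicit false
universe u
open scoped TensorProduct
open CAlg

namespace Groth.Agent.S14416

/-- Let B → A be a ring map with A a finitely generated B-module such that for every prime ideal p of B
the fibre κ(p) ⊗_B A has dimension at most one over the residue field κ(p). Then B → A is
surjective. In scheme language: a finite morphism whose degree at every point of the target is 0 or
1 is a closed immersion. (The published statement assumes the two schemes Noetherian; that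
hypothesis plays no role and is dropped here.) -/
theorem result
    (B A : Type u) [CommRing B] [CommRing A] [Algebra B A] [Module.Finite B A]
    (h : ∀ p : PrimeSpectrum B,
      Module.finrank p.asIdeal.ResidueField (p.asIdeal.ResidueField ⊗[B] A) ≤ 1) :
    Function.Surjective (algebraMap B A) := by
  let f : B →ₗ[B] A := Algebra.linearMap B A
  let R : Submodule B A := LinearMap.range f
  suffices hC : Subsingleton (A ⧸ R) by
    rw [Submodule.Quotient.subsingleton_iff] at hC
    intro a
    have : a ∈ R := hC ▸ Submodule.mem_top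
    exact this
  rw [← Module.support_eq_empty_iff (R := B), Set.eq_empty_iff_forall_notMem]
  intro p hp
  rw [Module.mem_support_iff_nontrivial_residueField_tensorProduct] at hp
  rw [← not_subsingleton_iff_nontrivial] at hp
  apply hp
  let K := p.asIdeal.ResidueField
  have hsurj : Function.Surjective (LinearMap.lTensor K R.mkQ) :=
    LinearMap.lTensor_surjective K (Submodule.mkQ_surjective R)
  refine ⟨fun x y ↦ ?_⟩
  suffices H : ∀ z : K ⊗[B] (A ⧸ R), z = 0 by rw [H x, H y]
  intro z
  obtain ⟨w, rfl⟩ := hsurj z
  obtain ⟨v, hv⟩ := (finrank_le_one_iff (K := K) (V := K ⊗[B] A)).mp (h p)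
  have key : ∃ c : K, w = c ⊗ₜ[B] (1 : A) := by
    obtain ⟨c₁, hc₁⟩ := hv ((1 : K) ⊗ₜ[B] (1 : A))
    obtain ⟨c, hc⟩ := hv w
    by_cases h0 : c₁ = 0
    · have h1 : (1 : K ⊗[B] A) = 0 := by
        rw [Algebra.TensorProduct.one_def, ← hc₁, h0, zero_smul]
      refine ⟨0, ?_⟩
      rw [TensorProduct.zero_tmul, ← mul_one w, h1, mul_zero]
    · refine ⟨c * c₁⁻¹, ?_⟩
      have : v = c₁⁻¹ • ((1 : K) ⊗ₜ[B] (1 : A)) := by
        rw [← hc₁, smul_smul, inv_mul_cancel₀ h0, one_smul]
      rw [← hc, this, smul_smul, TensorProduct.smul_tmul', smul_eq_mul, mul_one]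
  obtain ⟨c, rfl⟩ := key
  rw [LinearMap.lTensor_tmul]
  have : R.mkQ (1 : A) = 0 := by
    rw [Submodule.mkQ_apply, Submodule.Quotient.mk_eq_zero]
    exact ⟨1, by simp [f]⟩
  rw [this, TensorProduct.tmul_zero]

end Groth.Agent.S14416
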