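import Groth.Statements.S14418
import Mathlib
-- import your own Groth.Agent.* helpers here

set_option autoImplicit false
universe u
open CategoryTheory
open CAlg

namespace Groth.Agent.S14418

section helpers
open Limits

variable {B A : Type u} [CommRing B] [CommRing A] [IsNoetherianRing B] [Algebra B A]
  (T : ModuleCat.{u} B ⥤ ModuleCat.{u} A) [T.Additive]

lemma lemmaA
    (hex : ∀ S : ShortComplex (ModuleCat.{u} B), S.ShortExact → Module.Finite B S.X₁ →
      Module.Finite B S.X₂ → Module.Finite B S.X₃ → (S.map T).Exact)
    (J : Ideal B)
    (hJ : ∀ q : Ideal B, q.IsPrime → J ≤ q → IsZero (T.obj (ModuleCat.of B (B ⧸ q))))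
    (N : Type u) [AddCommGroup N] [Module B N] [Module.Finite B N]
    (hN : J ≤ Module.annihilator B N) : IsZero (T.obj (ModuleCat.of B N)) := by
  revert hN
  induction ‹Module.Finite B N› using
    IsNoetherianRing.induction_on_isQuotientEquivQuotientPrime B with
  | subsingleton N =>
    intro _
    exact T.map_isZero (ModuleCat.isZero_of_subsingleton _)
  | quotient N p e =>
    intro hN
    have hle : J ≤ p.asIdeal := by
      rw [e.annihilator_eq, Ideal.annihilator_quotient] at hN
      exact hN
    exact (hJ p.asIdeal p.2 hle).of_iso (T.mapIso e.toModuleIso)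
  | exact N₁ N₂ N₃ f g hf hg hfg h₁ h₃ =>
    intro hN
    have hN₁ : J ≤ Module.annihilator B N₁ := by
      intro j hj
      rw [Module.mem_annihilator]
      intro x
      apply hf
      rw [map_smul, map_zero]
      exact Module.mem_annihilator.mp (hN hj) (f x)
    have hN₃ : J ≤ Module.annihilator B N₃ := by
      intro j hj
      rw [Module.mem_annihilator]
      intro y
      obtain ⟨x, rfl⟩ := hg y
      rw [← map_smul, Module.mem_annihilator.mp (hN hj) x, map_zero]
    have hS : (ModuleCat.shortComplexOfCompEqZero f g hfg.linearMap_comp_eq_zero).ShortExact :=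
      ModuleCat.shortComplex_shortExact _ hfg hf hg
    have hE := hex _ hS ‹_› ‹_› ‹_›
    exact hE.isZero_of_both_isZero (h₁ hN₁) (h₃ hN₃)

end helpers

/-- Let B → A be a local homomorphism of Noetherian local rings, n the maximal ideal of B, and T an
additive functor from B-modules to A-modules which is B-linear (T applied to multiplication by b ∈ B
is multiplication by the image of b in A), carries finitely generated B-modules to finitely
generated A-modules, and is half-exact on finitely generated modules (every short exact sequence of
finitely generated B-modules goes to a sequence exact at its middle term). If T(B/n) = 0 then T(N) =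
0 for every finitely generated B-module N. (The published statement takes T defined on finitely
generated modules only; here T is defined on all B-modules while every hypothesis and the conclusion
concern finitely generated modules.) -/
theorem result {B A : Type u} [CommRing B] [CommRing A]
    [IsNoetherianRing B] [IsLocalRing B] [IsNoetherianRing A] [IsLocalRing A] [Algebra B A]
    [IsLocalHom (algebraMap B A)] (T : ModuleCat.{u} B ⥤ ModuleCat.{u} A) [T.Additive]
    (hlin : ∀ (N : ModuleCat.{u} B) (b : B),
      T.map (ModuleCat.ofHom (b • (LinearMap.id : N →ₗ[B] N))) =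
        ModuleCat.ofHom (algebraMap B A b • (LinearMap.id : T.obj N →ₗ[A] T.obj N)))
    (hfin : ∀ N : ModuleCat.{u} B, Module.Finite B N → Module.Finite A (T.obj N))
    (hex : ∀ S : ShortComplex (ModuleCat.{u} B), S.ShortExact → Module.Finite B S.X₁ →
      Module.Finite B S.X₂ → Module.Finite B S.X₃ → (S.map T).Exact)
    (h0 : Limits.IsZero (T.obj (ModuleCat.of B (B ⧸ IsLocalRing.maximalIdeal B))))
    (N : ModuleCat.{u} B) [Module.Finite B N] : Limits.IsZero (T.obj N) := by
  classical
  -- Step 1: all primes
  have step1 : ∀ p : Ideal B, p.IsPrime →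
      Limits.IsZero (T.obj (ModuleCat.of B (B ⧸ p))) := by
    intro p
    induction p using WellFoundedGT.induction with
    | ind p ih =>
      intro hp
      by_cases hpn : p = IsLocalRing.maximalIdeal B
      · rw [hpn]; exact h0
      have hlt : p < IsLocalRing.maximalIdeal B :=
        lt_of_le_of_ne (IsLocalRing.le_maximalIdeal hp.ne_top) hpn
      obtain ⟨b, hbn, hbp⟩ := Set.exists_of_ssubset hlt
      obtain ⟨J, hJdef⟩ : ∃ J : Ideal B, J = p ⊔ Ideal.span {b} := ⟨_, rfl⟩
      have hpJ : p < J := by
        rw [hJdef]
        refine lt_of_le_of_ne le_sup_left ?_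
        intro heq
        apply hbp
        change b ∈ p
        rw [heq]
        exact Ideal.mem_sup_right (Ideal.mem_span_singleton_self b)
      have hJ : ∀ q : Ideal B, q.IsPrime → J ≤ q →
          Limits.IsZero (T.obj (ModuleCat.of B (B ⧸ q))) :=
        fun q hq hJq => ih q (lt_of_lt_of_le hpJ hJq) hq
      -- the exact sequence
      obtain ⟨f, hfdef⟩ : ∃ f : (B ⧸ p) →ₗ[B] (B ⧸ p), f = b • LinearMap.id := ⟨_, rfl⟩
      have hfinj : Function.Injective f := by
        haveI := hp
        rw [injective_iff_map_eq_zero]
        intro x hx
        rw [hfdef, LinearMap.smul_apply, LinearMap.id_apply, Algebra.smul_def] at hx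
        rcases mul_eq_zero.mp hx with h | h
        · exfalso
          apply hbp
          exact Ideal.Quotient.eq_zero_iff_mem.mp h
        · exact h
      have hQann : J ≤ Module.annihilator B ((B ⧸ p) ⧸ LinearMap.range f) := by
        rw [hJdef, sup_le_iff]
        constructor
        · intro j hj
          rw [Module.mem_annihilator]
          intro y
          obtain ⟨x, rfl⟩ := Submodule.mkQ_surjective _ y
          obtain ⟨x, rfl⟩ := Ideal.Quotient.mk_surjective x
          rw [← map_smul, Algebra.smul_def]
          have : algebraMap B (B ⧸ p) j = 0 := Ideal.Quotient.eq_zero_iff_mem.mpr hj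
          rw [this, zero_mul, map_zero]
        · rw [Ideal.span_le, Set.singleton_subset_iff]
          change b ∈ Module.annihilator B _
          rw [Module.mem_annihilator]
          intro y
          obtain ⟨x, rfl⟩ := Submodule.mkQ_surjective _ y
          rw [← map_smul]
          exact (Submodule.Quotient.mk_eq_zero _).mpr ⟨x, by rw [hfdef]; rfl⟩
      have hQ := lemmaA T hex J hJ ((B ⧸ p) ⧸ LinearMap.range f) hQann
      have hexact : Function.Exact f (LinearMap.range f).mkQ := LinearMap.exact_map_mkQ_range f
      have hS : (ModuleCat.shortComplexOfCompEqZero f (LinearMap.range f).mkQ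
          hexact.linearMap_comp_eq_zero).ShortExact :=
        ModuleCat.shortComplex_shortExact _ hexact hfinj (Submodule.mkQ_surjective _)
      have hE := hex _ hS inferInstance inferInstance inferInstance
      have hepi : Epi (T.map (ModuleCat.ofHom f)) :=
        hE.epi_f (hQ.eq_zero_of_tgt _)
      have hsurj : Function.Surjective (T.map (ModuleCat.ofHom f)) :=
        (ModuleCat.epi_iff_surjective _).mp hepi
      have key : ∀ y, (T.map (ModuleCat.ofHom f)).hom y = algebraMap B A b • y := by
        intro y
        rw [hfdef]
        exact congrArg (fun φ : T.obj (ModuleCat.of B (B ⧸ p)) ⟶ T.obj (ModuleCat.of B (B ⧸ p)) =>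
          φ.hom y) (hlin (ModuleCat.of B (B ⧸ p)) b)
      haveI : Module.Finite A (T.obj (ModuleCat.of B (B ⧸ p))) := hfin _ inferInstance
      have hmem : algebraMap B A b ∈ IsLocalRing.maximalIdeal A :=
        ((IsLocalRing.mem_maximalIdeal _).mpr (fun hu => hbn
          (isUnit_of_map_unit (algebraMap B A) b hu)) : _)
      have htop : (⊤ : Submodule A (T.obj (ModuleCat.of B (B ⧸ p)))) = ⊥ := by
        apply Submodule.eq_bot_of_le_smul_of_le_jacobson_bot (IsLocalRing.maximalIdeal A) ⊤
          Module.Finite.fg_top
        · intro x _
          obtain ⟨y, rfl⟩ := hsurj x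
          change (T.map (ModuleCat.ofHom f)).hom y ∈ _
          rw [key]
          exact Submodule.smul_mem_smul hmem trivial
        · exact IsLocalRing.maximalIdeal_le_jacobson _
      rw [ModuleCat.isZero_iff_subsingleton]
      exact (Submodule.subsingleton_iff A).mp (subsingleton_of_bot_eq_top htop.symm)
  exact lemmaA T hex ⊥ (fun q hq _ => step1 q hq) N bot_le

end Groth.Agent.S14418
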