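import Groth.Statements.S14420
import Groth.Agent.Lib.helper11.Ischebeck

set_option autoImplicit false
universe u
open CategoryTheory
open LocCoh

namespace Groth.Agent.S14420

/-- Let A be a Noetherian local ring and M, N nonzero finitely generated A-modules. Then Ext^i_A(N, M) =
0 for all i < depth M − dim Supp N. Here depth M = d and the Krull dimension of the support of N = r
are given as natural numbers and the conclusion is stated for every i with i + r < d. -/
theorem result (A : Type u) [CommRing A] [IsNoetherianRing A]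
    [IsLocalRing A] (M N : Type u) [AddCommGroup M] [Module A M] [AddCommGroup N] [Module A N]
    [Module.Finite A M] [Module.Finite A N] [Nontrivial M] [Nontrivial N]
    (d r i : ℕ) (hd : LocCoh.depth A M = d) (hr : Module.supportDim A N = r) (hi : i + r < d) :
    Subsingleton (Abelian.Ext (ModuleCat.of A N) (ModuleCat.of A M) i) := by
  have hne : (IsLocalRing.maximalIdeal A) • (⊤ : Submodule A M) ≠ ⊤ := by
    intro h
    have hbot := Submodule.eq_bot_of_le_smul_of_le_jacobson_bot (IsLocalRing.maximalIdeal A)
      (⊤ : Submodule A M) Module.Finite.fg_top h.symm.le (IsLocalRing.maximalIdeal_le_jacobson ⊥)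
    exact top_ne_bot hbot
  have hd' : (⨆ (rs : List A) (_ : RingTheory.Sequence.IsWeaklyRegular M rs ∧
      ∀ r ∈ rs, r ∈ IsLocalRing.maximalIdeal A), (rs.length : ℕ∞)) = d := by
    rw [← hd]
    unfold LocCoh.depth LocCoh.idealDepth
    rw [if_neg hne]
  have hlt : ((i + r : ℕ) : ℕ∞) < ⨆ (rs : List A) (_ : RingTheory.Sequence.IsWeaklyRegular M rs ∧
      ∀ r ∈ rs, r ∈ IsLocalRing.maximalIdeal A), (rs.length : ℕ∞) := by
    rw [hd']
    exact_mod_cast hi
  obtain ⟨rs, hrs⟩ := lt_iSup_iff.mp hlt
  obtain ⟨⟨hw, hmem⟩, hlen⟩ := lt_iSup_iff.mp hrs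
  have hlen' : i + r < rs.length := by exact_mod_cast hlen
  have hreg : RingTheory.Sequence.IsRegular M rs :=
    (IsLocalRing.isRegular_iff_isWeaklyRegular_of_subset_maximalIdeal hmem).mpr hw
  exact Groth.Agent.Lib.helper11.Ischebeck.ext_subsingleton_of_regular M N rs hmem hreg r i
    hr.le hlen'

end Groth.Agent.S14420
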