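import Groth.Statements.S14421
import Mathlib.Algebra.Homology.ShortComplex.ModuleCat

set_option autoImplicit false
universe u v
open CategoryTheory
open HomAlg

namespace Groth.Agent.S14421

/-- Let φ : K → J be a morphism of cochain complexes of modules over a ring which is surjective in
degree p − 1. Then the map induced on cohomology in degree p is surjective if and only if the map
induced on cocycles in degree p is surjective. (Stated for cochain complexes indexed by the
integers; the published statement is for three-term complexes in degrees p − 1, p, p + 1, which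
embed as such complexes.) -/
theorem result {R : Type u} [Ring R]
    (K J : CochainComplex (ModuleCat.{v} R) ℤ) (φ : K ⟶ J) (p : ℤ) [Epi (φ.f (p - 1))] :
    Epi (HomologicalComplex.homologyMap φ p) ↔ Epi (HomologicalComplex.cyclesMap φ p) := by
  constructor
  · intro h
    rw [ModuleCat.epi_iff_surjective] at h ⊢
    have hφ : Function.Surjective (φ.f (p - 1)) := (ModuleCat.epi_iff_surjective _).mp inferInstance
    have hπK : Function.Surjective (K.homologyπ p) := (ModuleCat.epi_iff_surjective _).mp inferInstance
    have hnat : K.toCycles (p - 1) p ≫ HomologicalComplex.cyclesMap φ p =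
        φ.f (p - 1) ≫ J.toCycles (p - 1) p := by
      rw [← cancel_mono (J.iCycles p)]
      simp
    have hex : (ShortComplex.mk (J.toCycles (p - 1) p) (J.homologyπ p)
        (J.toCycles_comp_homologyπ (p - 1) p)).Exact :=
      ShortComplex.exact_of_g_is_cokernel _ (J.homologyIsCokernel (p - 1) p (by simp))
    rw [ShortComplex.moduleCat_exact_iff] at hex
    intro z
    obtain ⟨h', hh'⟩ := h (J.homologyπ p z)
    obtain ⟨z', rfl⟩ := hπK h'
    have h1 : J.homologyπ p (z - HomologicalComplex.cyclesMap φ p z') = 0 := by
      rw [map_sub, ← hh', sub_eq_zero]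
      exact ConcreteCategory.congr_hom (HomologicalComplex.homologyπ_naturality φ p) z'
    obtain ⟨x, hx⟩ := hex _ h1
    obtain ⟨x', rfl⟩ := hφ x
    refine ⟨z' + K.toCycles (p - 1) p x', ?_⟩
    rw [map_add]
    have h2 : HomologicalComplex.cyclesMap φ p (K.toCycles (p - 1) p x') =
        J.toCycles (p - 1) p (φ.f (p - 1) x') := ConcreteCategory.congr_hom hnat x'
    rw [h2]
    change _ + (ShortComplex.mk (J.toCycles (p - 1) p) (J.homologyπ p)
        (J.toCycles_comp_homologyπ (p - 1) p)).f _ = _
    rw [hx]
    abel
  · intro h
    exact ShortComplex.epi_homologyMap_of_epi_cyclesMap' _ h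

end Groth.Agent.S14421
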