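import Groth.Statements.S14424
import Mathlib
import Groth.Agent.Lib.Helper21.DepthKit8

set_option autoImplicit false
universe u
open LocCoh

namespace Groth.Agent.S14424
open Groth.Agent.Lib.Helper21.DepthKit IsLocalRing Module

/-- `R_p` as a localized module of `R`. -/
noncomputable def locEquiv {R : Type u} [CommRing R] (p : Ideal R) [p.IsPrime] :
    LocalizedModule p.primeCompl R ≃ₗ[Localization.AtPrime p] Localization.AtPrime p :=
  (LocalizedModule.equivTensorProduct p.primeCompl R) ≪≫ₗ
    TensorProduct.AlgebraTensorModule.rid R (Localization.AtPrime p) (Localization.AtPrime p)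

theorem supportDim_loc {R : Type u} [CommRing R] (p : Ideal R) [p.IsPrime] :
    Module.supportDim (Localization.AtPrime p) (Localization.AtPrime p) =
      ((p.height : ℕ∞) : WithBot ℕ∞) := by
  rw [Module.supportDim_self_eq_ringKrullDim,
    IsLocalization.AtPrime.ringKrullDim_eq_height p (Localization.AtPrime p)]

theorem iInf_height {R : Type u} [CommRing R] (a : Ideal R) :
    (⨅ (p : PrimeSpectrum R) (_ : a ≤ p.asIdeal), p.asIdeal.height) = a.height := by
  apply le_antisymm
  · rw [Ideal.height_eq_inf_minimalPrimes]
    refine le_iInf₂ fun J hJ => ?_
    have hJp : J.IsPrime := hJ.1.1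
    exact iInf₂_le_of_le ⟨J, hJp⟩ hJ.1.2 le_rfl
  · exact le_iInf₂ fun p hp => Ideal.height_mono hp


/-- Let R be a Noetherian ring. Then R is Cohen–Macaulay (every localization at a prime ideal is a
Cohen–Macaulay local ring) if and only if for every proper ideal a of R the a-depth of R equals the
height (codimension) of a. (The published statement defines a Cohen–Macaulay ring by its
localizations at maximal ideals; this row uses all prime ideals, an equivalent definition because
Cohen–Macaulayness passes to localizations.) -/
theorem result (R : Type u) [CommRing R] [IsNoetherianRing R] :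
    LocCoh.IsCohenMacaulayRing R ↔ ∀ a : Ideal R, a ≠ ⊤ → LocCoh.idealDepth a R = a.height := by
  constructor
  · intro hCM a ha
    rw [idealDepth_eq_iInf_depth_localization a, ← iInf_height a]
    refine iInf_congr fun p => iInf_congr fun hp => ?_
    have hloc := hCM.isCohenMacaulayLocalRing_localization p.asIdeal
    have h1 := hloc.supportDim_eq_depth
    rw [supportDim_loc] at h1
    rw [depth_congr (locEquiv p.asIdeal)]
    exact (WithBot.coe_injective h1).symm
  · intro h
    refine { isCohenMacaulayLocalRing_localization := fun p hp => ?_ }
    refine { supportDim_eq_depth := ?_ }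
    have hpt : p ≠ ⊤ := hp.ne_top
    have h1 := h p hpt
    have h2 := idealDepth_le_depth_localization (M := R) p p le_rfl
    rw [h1, depth_congr (locEquiv p)] at h2
    apply le_antisymm
    · rw [supportDim_loc]
      exact_mod_cast h2
    · exact depth_le_supportDim

end Groth.Agent.S14424
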