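import Groth.Statements.S14426
import Mathlib
import Groth.Agent.Lib.Helper16.Kos1
import Groth.Agent.Lib.Helper16.Kos2
import Groth.Agent.Lib.Helper16.Kos3
import Groth.Agent.S0320
import Groth.Agent.Lib.Helper21.DepthKit7

set_option autoImplicit false
universe u
open Koszul3

namespace Groth.Agent.S14426

open CategoryTheory CategoryTheory.Limits CochainComplex HomComplex
open Groth.Agent.Lib.Helper16.Kos Groth.Agent.Lib.Helper21.DepthKit
open scoped Pointwise

section aux

variable {A : Type u} [CommRing A]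

lemma isZero_koszulCx_X_neg (M : ModuleCat.{u} A) : ∀ (fs : List A) (n : ℤ), n < -(fs.length : ℤ) →
    IsZero ((CohIII.koszulCx M fs).X n)
  | [], n, hn => HomologicalComplex.isZero_single_obj_X (ComplexShape.up ℤ) 0 M n (by
      simp at hn; omega)
  | f :: fs, n, hn => by
    change IsZero ((mappingCone (f • 𝟙 (CohIII.koszulCx M fs))).X n)
    rw [mappingCone.isZero_X_iff]
    simp only [List.length_cons] at hn
    push_cast at hn
    exact ⟨isZero_koszulCx_X_neg M fs (n + 1) (by omega), isZero_koszulCx_X_neg M fs n (by omega)⟩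

lemma not_isZero_homology_of_cocycle (K : CochainComplex (ModuleCat.{u} A) ℤ) (k : ℤ)
    (hprev : IsZero (K.X (k - 1))) (z : K.X k) (hz : z ≠ 0) (hd : (K.d k (k + 1)).hom z = 0) :
    ¬ IsZero (K.homology k) := by
  intro h
  have hex : K.ExactAt k := (K.exactAt_iff_isZero_homology k).2 h
  rw [K.exactAt_iff' (k - 1) k (k + 1) (by simp) (by simp)] at hex
  rw [ShortComplex.moduleCat_exact_iff] at hex
  obtain ⟨y, hy⟩ := hex z hd
  have : y = 0 := (ModuleCat.subsingleton_of_isZero hprev).elim _ _
  rw [this, map_zero] at hy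
  exact hz hy.symm

lemma single_cocycle (M : Type u) [AddCommGroup M] [Module A M] (m : M) (hm : m ≠ 0) :
    ∃ z : (((HomologicalComplex.single (ModuleCat.{u} A) (ComplexShape.up ℤ) 0).obj
        (ModuleCat.of A M)).X 0 : ModuleCat.{u} A),
      z ≠ 0 ∧ (((HomologicalComplex.single (ModuleCat.{u} A) (ComplexShape.up ℤ) 0).obj
        (ModuleCat.of A M)).d 0 (0 + 1)).hom z = 0 ∧
      ∀ a : A, a • m = 0 → a • z = 0 := by
  let e := HomologicalComplex.singleObjXSelf (ComplexShape.up ℤ) (0 : ℤ) (ModuleCat.of A M)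
  have he : ∀ x, e.hom.hom (e.inv.hom x) = x := fun x => by
    have := congr($(e.inv_hom_id).hom x)
    simpa only [ModuleCat.hom_comp, LinearMap.comp_apply, ModuleCat.hom_id, LinearMap.id_apply]
      using this
  refine ⟨e.inv.hom m, ?_, ?_, ?_⟩
  · intro h0
    apply hm
    rw [← he m, h0, map_zero]
  · have hz : IsZero (((HomologicalComplex.single (ModuleCat.{u} A) (ComplexShape.up ℤ) 0).obj
        (ModuleCat.of A M)).X (0 + 1)) :=
      HomologicalComplex.isZero_single_obj_X (ComplexShape.up ℤ) 0 _ _ (by norm_num)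
    exact (ModuleCat.subsingleton_of_isZero hz).elim _ _
  · intro a ha
    rw [← map_smul, ha, map_zero]

lemma cone_cocycle (K : CochainComplex (ModuleCat.{u} A) ℤ) (x : A) (k : ℤ)
    (z' : K.X (k + 1)) (hz' : z' ≠ 0) (hd' : (K.d (k + 1) (k + 1 + 1)).hom z' = 0)
    (hxz : x • z' = 0) :
    ∃ z : (mappingCone (x • 𝟙 K)).X k, z ≠ 0 ∧
      ((mappingCone (x • 𝟙 K)).d k (k + 1)).hom z = 0 ∧
      ∀ a : A, a • z' = 0 → a • z = 0 := by
  refine ⟨((mappingCone.inl (x • 𝟙 K)).v (k + 1) k (by omega)).hom z', ?_, ?_, ?_⟩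
  · intro h0
    apply hz'
    have := congr($(mappingCone.inl_v_fst_v (x • 𝟙 K) (k + 1) k rfl).hom z')
    rw [ModuleCat.hom_comp, LinearMap.comp_apply, h0, map_zero] at this
    simpa using this.symm
  · have := congr($(mappingCone.inl_v_d (x • 𝟙 K) (k + 1) k (k + 1 + 1) (by omega)
      (by omega)).hom z')
    rw [ModuleCat.hom_comp, LinearMap.comp_apply] at this
    rw [this]
    simp only [ModuleCat.hom_sub, ModuleCat.hom_comp, LinearMap.sub_apply, LinearMap.comp_apply,
      hd', map_zero, sub_zero]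
    have h1 : (((x • 𝟙 K : K ⟶ K)).f (k + 1)).hom z' = x • z' := by
      simp
    rw [h1, hxz, map_zero]
  · intro a ha
    rw [← map_smul, ha, map_zero]

lemma exists_cocycle (M : Type u) [AddCommGroup M] [Module A M] (m : M) (hm : m ≠ 0) :
    ∀ (xs : List A), (∀ x ∈ xs, x • m = 0) → ∀ (k : ℤ), k = -(xs.length : ℤ) →
    ∃ z : (CohIII.koszulCx (ModuleCat.of A M) xs).X k,
      z ≠ 0 ∧ ((CohIII.koszulCx (ModuleCat.of A M) xs).d k (k + 1)).hom z = 0 ∧
      ∀ a : A, a • m = 0 → a • z = 0
  | [], _, k, hk => by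
    simp only [List.length_nil, Nat.cast_zero, neg_zero] at hk
    subst hk
    exact single_cocycle M m hm
  | x :: xs, h, k, hk => by
    have hk' : k + 1 = -(xs.length : ℤ) := by
      simp only [List.length_cons] at hk
      push_cast at hk
      omega
    obtain ⟨z', hz', hd', ha'⟩ := exists_cocycle M m hm xs
      (fun y hy => h y (List.mem_cons_of_mem _ hy)) (k + 1) hk'
    obtain ⟨z, hz, hd, ha⟩ := cone_cocycle (CohIII.koszulCx (ModuleCat.of A M) xs) x k z' hz' hd'
      (ha' x (h x List.mem_cons_self))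
    exact ⟨z, hz, hd, fun a hma => ha a (ha' a hma)⟩

lemma not_isZero_bottom (M : Type u) [AddCommGroup M] [Module A M] (m : M) (hm : m ≠ 0)
    (xs : List A) (h : ∀ x ∈ xs, x • m = 0) :
    ¬ IsZero ((CohIII.koszulCx (ModuleCat.of A M) xs).homology (-(xs.length : ℤ))) := by
  obtain ⟨z, hz, hd, -⟩ := exists_cocycle M m hm xs h _ rfl
  exact not_isZero_homology_of_cocycle _ _
    (isZero_koszulCx_X_neg _ xs _ (by omega)) z hz hd

end aux

section les

variable {A : Type u} [CommRing A]

lemma isZero_homology_congr (K : CochainComplex (ModuleCat.{u} A) ℤ) {a b : ℤ} (h : a = b) :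
    IsZero (K.homology a) ↔ IsZero (K.homology b) := by
  subst h
  rfl

lemma step_isZero (xs : List A) (M : Type u) [AddCommGroup M] [Module A M] (r : A)
    (hrI : r ∈ Ideal.span {x | x ∈ xs}) (hr : IsSMulRegular M r) (q' q : ℤ) (hq : q' + 1 = q)
    (h : IsZero ((CohIII.koszulCx (ModuleCat.of A (QuotSMulTop r M)) xs).homology q')) :
    IsZero ((CohIII.koszulCx (ModuleCat.of A M) xs).homology q) := by
  have hDE := degExact_kMap r M hr xs
  have hS := hDE.shortExact
  have hf0 : ∀ n, HomologicalComplex.homologyMap hDE.sc.f n = 0 := by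
    intro n
    obtain ⟨H⟩ := smul_homotopic_zero (ModuleCat.of A M) xs r hrI
    have h2 := H.homologyMap_eq n
    rw [HomologicalComplex.homologyMap_zero] at h2
    exact h2
  have h1 := hS.homology_exact₁ q' q (by simp; omega)
  rw [ShortComplex.moduleCat_exact_iff] at h1
  have : Subsingleton ((CohIII.koszulCx (ModuleCat.of A M) xs).homology q) := by
    have key : ∀ y : (hDE.sc.X₁).homology q, y = 0 := by
      intro y
      obtain ⟨w, hw⟩ := h1 y (by
        change (HomologicalComplex.homologyMap hDE.sc.f q).hom y = 0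
        rw [hf0]; rfl)
      have : w = 0 := (ModuleCat.subsingleton_of_isZero h).elim _ _
      rw [← hw, this, map_zero]
    exact ⟨fun a b => (key a).trans (key b).symm⟩
  exact ModuleCat.isZero_of_subsingleton _

lemma step_not_isZero (xs : List A) (M : Type u) [AddCommGroup M] [Module A M] (r : A)
    (hr : IsSMulRegular M r) (q' q : ℤ) (hq : q' + 1 = q)
    (h0 : IsZero ((CohIII.koszulCx (ModuleCat.of A M) xs).homology q'))
    (h1 : ¬ IsZero ((CohIII.koszulCx (ModuleCat.of A (QuotSMulTop r M)) xs).homology q')) :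
    ¬ IsZero ((CohIII.koszulCx (ModuleCat.of A M) xs).homology q) := by
  intro hq0
  apply h1
  have hDE := degExact_kMap r M hr xs
  have hS := hDE.shortExact
  have h3 := hS.homology_exact₃ q' q (by simp; omega)
  rw [ShortComplex.moduleCat_exact_iff] at h3
  have : Subsingleton ((CohIII.koszulCx (ModuleCat.of A (QuotSMulTop r M)) xs).homology q') := by
    have key : ∀ y : (hDE.sc.X₃).homology q', y = 0 := by
      intro y
      obtain ⟨w, hw⟩ := h3 y ((ModuleCat.subsingleton_of_isZero hq0).elim _ _)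
      have : w = 0 := (ModuleCat.subsingleton_of_isZero h0).elim _ _
      rw [← hw, this, map_zero]
    exact ⟨fun a b => (key a).trans (key b).symm⟩
  exact ModuleCat.isZero_of_subsingleton _

end les

section main

variable {R : Type u} [CommRing R] [IsNoetherianRing R]

lemma exists_killed (I : Ideal R) (M : Type u) [AddCommGroup M] [Module R M] [Module.Finite R M]
    (hIM : I • (⊤ : Submodule R M) ≠ ⊤) (h0 : LocCoh.idealDepth I M = 0) :
    ∃ m : M, m ≠ 0 ∧ ∀ a ∈ I, a • m = 0 := by
  obtain ⟨-, hnt⟩ := (Groth.Agent.S0319.result R I M hIM 0).1 (by simpa using h0)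
  obtain ⟨e, he⟩ := exists_ne (0 : Abelian.Ext (ModuleCat.of R (R ⧸ I)) (ModuleCat.of R M) 0)
  let f := Abelian.Ext.addEquiv₀ e
  have hf : f ≠ 0 := fun h => he (Abelian.Ext.addEquiv₀.injective (h.trans (map_zero _).symm))
  have hkill : ∀ a ∈ I, a • (Submodule.Quotient.mk 1 : R ⧸ I) = 0 := by
    intro a ha
    rw [← Submodule.Quotient.mk_smul, Submodule.Quotient.mk_eq_zero]
    simpa using ha
  refine ⟨f.hom (Submodule.Quotient.mk 1 : R ⧸ I), ?_, ?_⟩
  · intro h1
    apply hf
    apply ModuleCat.hom_ext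
    apply LinearMap.ext
    intro y
    obtain ⟨r, rfl⟩ := Submodule.Quotient.mk_surjective _ y
    have : (Submodule.Quotient.mk r : R ⧸ I) = r • (Submodule.Quotient.mk 1 : R ⧸ I) := by
      rw [← Submodule.Quotient.mk_smul]; simp
    rw [this, map_smul, h1, smul_zero]
    rfl
  · intro a ha
    rw [← map_smul, hkill a ha, map_zero]

theorem main (xs : List R) :
    ∀ (d : ℕ) (M : Type u) [AddCommGroup M] [Module R M] [Module.Finite R M],
      (Ideal.span {x | x ∈ xs}) • (⊤ : Submodule R M) ≠ ⊤ →
      LocCoh.idealDepth (Ideal.span {x | x ∈ xs}) M = d →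
      (∀ p : ℕ, p < d → IsZero (CohIII.koszulH xs (ModuleCat.of R M) p)) ∧
        ¬ IsZero (CohIII.koszulH xs (ModuleCat.of R M) d) := by
  intro d
  induction d with
  | zero =>
    intro M _ _ _ hIM hd
    refine ⟨fun p hp => absurd hp (Nat.not_lt_zero p), ?_⟩
    obtain ⟨m, hm, hkill⟩ := exists_killed _ M hIM (by simpa using hd)
    have := not_isZero_bottom M m hm xs (fun x hx => hkill x (Ideal.subset_span hx))
    rwa [isZero_homology_congr _ (show ((0 : ℕ) : ℤ) - xs.length = -(xs.length : ℤ) by simp)]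
  | succ d ih =>
    intro M _ _ _ hIM hd
    obtain ⟨r, hrI, hr⟩ := exists_regular_of_one_le_idealDepth _ hIM (by
      rw [hd]; exact_mod_cast Nat.succ_le_succ (Nat.zero_le d))
    have hIM' := Groth.Agent.S0320.smul_top_quot_ne_top R _ M hIM r hrI
    have hdep := Groth.Agent.S0320.result R _ M hIM r hrI hr
    have hd' : LocCoh.idealDepth (Ideal.span {x | x ∈ xs}) (QuotSMulTop r M) = d := by
      rw [hd] at hdep
      obtain ⟨k, hk⟩ := exists_nat_idealDepth _ hIM'
      rw [hk] at hdep ⊢
      have : k + 1 = d + 1 := by exact_mod_cast hdep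
      exact_mod_cast (by omega : k = d)
    obtain ⟨ih1, ih2⟩ := ih (QuotSMulTop r M) hIM' hd'
    have part1 : ∀ p : ℕ, p < d + 1 → IsZero (CohIII.koszulH xs (ModuleCat.of R M) p) := by
      intro p hp
      rcases Nat.eq_zero_or_pos p with rfl | hpos
      · apply step_isZero xs M r hrI hr (((0 : ℕ) : ℤ) - xs.length - 1) _ (by ring)
        exact (HomologicalComplex.ExactAt.of_isZero
          (isZero_koszulCx_X_neg _ xs _ (by simp))).isZero_homology
      · obtain ⟨p', rfl⟩ : ∃ p', p = p' + 1 := ⟨p - 1, by omega⟩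
        apply step_isZero xs M r hrI hr ((p' : ℤ) - xs.length) _ (by push_cast; ring)
        exact ih1 p' (by omega)
    refine ⟨part1, ?_⟩
    apply step_not_isZero xs M r hr ((d : ℤ) - xs.length) _ (by push_cast; ring)
    · exact part1 d (by omega)
    · exact ih2

end main


open CategoryTheory CategoryTheory.Limits in
/-- Let (R, m) be a Noetherian local ring, M a nonzero finitely generated R-module and x_1, …, x_n
elements of m generating the ideal a. Then depth(a, M) ≤ n; the Koszul cohomology H^p(x; M) vanishes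
for every p < depth(a, M); and H^r(x; M) is nonzero for r = depth(a, M). (Cohomological indexing
with H^n(x; M) = M/(x)M; in homological indexing this reads H_i = 0 for i > n − r and H_{n−r} ≠ 0.
Koszul complex realised by iterated mapping cones, as in the prelude.) -/
theorem result {R : Type u} [CommRing R] [IsNoetherianRing R] [IsLocalRing R]
    (M : Type u) [AddCommGroup M] [Module R M] [Module.Finite R M] [Nontrivial M]
    (xs : List R) (hxs : ∀ x ∈ xs, x ∈ IsLocalRing.maximalIdeal R) :
    LocCoh.idealDepth (Ideal.span {x | x ∈ xs}) M ≤ xs.length ∧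
      (∀ p : ℕ, (p : ℕ∞) < LocCoh.idealDepth (Ideal.span {x | x ∈ xs}) M → IsZero (CohIII.koszulH xs (ModuleCat.of R M) p)) ∧
      (∀ r : ℕ, LocCoh.idealDepth (Ideal.span {x | x ∈ xs}) M = r → ¬ IsZero (CohIII.koszulH xs (ModuleCat.of R M) r)) := by
  have hIle : Ideal.span {x | x ∈ xs} ≤ IsLocalRing.maximalIdeal R :=
    Ideal.span_le.2 (fun x hx => hxs x hx)
  have hIM : (Ideal.span {x | x ∈ xs}) • (⊤ : Submodule R M) ≠ ⊤ := by
    intro h
    have h2 := maximalIdeal_smul_top_ne_top (A := R) (M := M)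
    have h3 : (Ideal.span {x | x ∈ xs}) • (⊤ : Submodule R M) ≤
        IsLocalRing.maximalIdeal R • (⊤ : Submodule R M) := Submodule.smul_mono_left hIle
    rw [h] at h3
    exact h2 (top_le_iff.1 h3)
  have hex := exists_nat_idealDepth (Ideal.span {x | x ∈ xs}) (M := M) hIM
  obtain ⟨d, hd⟩ := hex
  have hmain := main xs d M hIM hd
  obtain ⟨h1, h2⟩ := hmain
  refine ⟨?_, ?_, ?_⟩
  · rw [hd]
    by_contra hlt
    rw [not_le] at hlt
    have hlt' : xs.length < d := by exact_mod_cast hlt
    apply h2
    exact (HomologicalComplex.ExactAt.of_isZero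
      (isZero_koszulCx_X_pos _ xs _ (by omega))).isZero_homology
  · intro p hp
    rw [hd] at hp
    exact h1 p (by exact_mod_cast hp)
  · intro r hr
    rw [hd] at hr
    have : d = r := by exact_mod_cast hr
    subst this
    exact h2

end Groth.Agent.S14426
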