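import Groth.Statements.S14425
import Mathlib
import Groth.Agent.S14426

set_option autoImplicit false
universe u
open LocCoh

namespace Groth.Agent.S14425

open CategoryTheory CategoryTheory.Limits CochainComplex HomComplex
open Groth.Agent.Lib.Helper16.Kos Groth.Agent.Lib.Helper21.DepthKit RingTheory.Sequence
open scoped Pointwise

attribute [local instance] HasDerivedCategory.standard

section aux

variable {A : Type u} [CommRing A]

lemma finite_cone_X {F G : CochainComplex (ModuleCat.{u} A) ℤ} (φ : F ⟶ G) (n : ℤ)
    [Module.Finite A (F.X (n + 1))] [Module.Finite A (G.X n)] :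
    Module.Finite A ((mappingCone φ).X n) := by
  let f : (F.X (n + 1) × G.X n) →ₗ[A] (mappingCone φ).X n :=
    ((mappingCone.inl φ).v (n + 1) n (by omega)).hom ∘ₗ LinearMap.fst A _ _ +
      ((mappingCone.inr φ).f n).hom ∘ₗ LinearMap.snd A _ _
  refine Module.Finite.of_surjective f ?_
  intro x
  refine ⟨(((mappingCone.fst φ).1.v n (n + 1) rfl).hom x,
    ((mappingCone.snd φ).v n n (add_zero n)).hom x), ?_⟩
  exact decomp_elem φ n x

lemma finite_koszulCx_X (M : Type u) [AddCommGroup M] [Module A M] [Module.Finite A M] :
    ∀ (fs : List A) (n : ℤ), Module.Finite A ((CohIII.koszulCx (ModuleCat.of A M) fs).X n)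
  | [], n => by
    change Module.Finite A (((HomologicalComplex.single (ModuleCat.{u} A) (ComplexShape.up ℤ) 0).obj
      (ModuleCat.of A M)).X n)
    by_cases hn : n = 0
    · subst hn
      exact Module.Finite.equiv
        (HomologicalComplex.singleObjXSelf (ComplexShape.up ℤ) (0 : ℤ)
          (ModuleCat.of A M)).toLinearEquiv.symm
    · have := ModuleCat.subsingleton_of_isZero
        (HomologicalComplex.isZero_single_obj_X (ComplexShape.up ℤ) 0 (ModuleCat.of A M) n hn)
      infer_instance
  | f :: fs, n => by
    have := finite_koszulCx_X M fs (n + 1)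
    have := finite_koszulCx_X M fs n
    exact finite_cone_X (f • 𝟙 (CohIII.koszulCx (ModuleCat.of A M) fs)) n

lemma finite_homology [IsNoetherianRing A] (K : CochainComplex (ModuleCat.{u} A) ℤ) (n : ℤ)
    [Module.Finite A (K.X n)] : Module.Finite A (K.homology n) := by
  have h1 : Module.Finite A (K.cycles n) :=
    Module.Finite.of_injective (K.iCycles n).hom ((ModuleCat.mono_iff_injective _).1 inferInstance)
  exact Module.Finite.of_surjective (K.homologyπ n).hom
    ((ModuleCat.epi_iff_surjective _).1 inferInstance)

end aux

section main

variable {A : Type u} [CommRing A] [IsNoetherianRing A] [IsLocalRing A]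

lemma ofList_reverse (fs : List A) : Ideal.ofList fs.reverse = Ideal.ofList fs := by
  simp [Ideal.ofList]

lemma regular_of_isZero (M : Type u) [AddCommGroup M] [Module A M] [Module.Finite A M] :
    ∀ fs : List A, (∀ x ∈ fs, x ∈ IsLocalRing.maximalIdeal A) →
      IsZero ((CohIII.koszulCx (ModuleCat.of A M) fs).homology (-1)) →
      IsWeaklyRegular M fs.reverse
  | [], _, _ => by simp
  | f :: fs, hm, hz => by
    set K := CohIII.koszulCx (ModuleCat.of A M) fs with hK
    set φ : K ⟶ K := f • 𝟙 K with hφ
    have hz' : IsZero ((mappingCone φ).homology (-1)) := hz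
    let T := mappingCone.triangle φ
    have hT : DerivedCategory.Q.mapTriangle.obj T ∈ distTriang _ :=
      DerivedCategory.mappingCone_triangle_distinguished φ
    have h2 := CochainComplex.homologyMap_exact₂_of_distTriang T hT (-1)
    have h1 := CochainComplex.homologyMap_exact₁_of_distTriang T hT (-1) 0 (by omega)
    rw [ShortComplex.moduleCat_exact_iff] at h1 h2
    have hφapp : ∀ (n : ℤ) (z : K.homology n),
        (HomologicalComplex.homologyMap φ n).hom z = f • z := by
      intro n z
      rw [hφ, homologyMap_smul_id]
      rfl
    have hfm : f ∈ IsLocalRing.maximalIdeal A := hm f List.mem_cons_self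
    -- H^{-1}(K) = 0 by Nakayama
    have hfin : Module.Finite A (K.homology (-1)) := by
      have := finite_koszulCx_X M fs (-1)
      exact finite_homology K (-1)
    have hK0 : IsZero (K.homology (-1)) := by
      have hle : (⊤ : Submodule A (K.homology (-1))) ≤
          IsLocalRing.maximalIdeal A • (⊤ : Submodule A (K.homology (-1))) := by
        intro y _
        obtain ⟨z, hz1⟩ := h2 y ((ModuleCat.subsingleton_of_isZero hz').elim _ _)
        have : f • (show K.homology (-1) from z) = y := (hφapp _ _).symm.trans hz1
        rw [← this]
        exact Submodule.smul_mem_smul hfm Submodule.mem_top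
      have hbot := Submodule.eq_bot_of_le_smul_of_le_jacobson_bot (IsLocalRing.maximalIdeal A)
        (⊤ : Submodule A (K.homology (-1))) Module.Finite.fg_top hle
        (IsLocalRing.maximalIdeal_le_jacobson _)
      have : Subsingleton (K.homology (-1)) := by
        refine ⟨fun a b => ?_⟩
        have ha : a ∈ (⊤ : Submodule A (K.homology (-1))) := Submodule.mem_top
        have hb : b ∈ (⊤ : Submodule A (K.homology (-1))) := Submodule.mem_top
        rw [hbot, Submodule.mem_bot] at ha hb
        rw [ha, hb]
      exact ModuleCat.isZero_of_subsingleton _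
    have ih := regular_of_isZero M fs (fun x hx => hm x (List.mem_cons_of_mem _ hx)) hK0
    -- f regular on H^0(K)
    have hreg0 : IsSMulRegular (K.homology 0) f := by
      rw [isSMulRegular_iff_right_eq_zero_of_smul]
      intro y hy
      obtain ⟨w, hw⟩ := h1 y ((hφapp _ _).trans hy)
      have : w = 0 := (ModuleCat.subsingleton_of_isZero hz').elim _ _
      rw [← hw, this]
      exact map_zero _
    obtain ⟨e⟩ := koszul_top M fs
    have hreg1 : IsSMulRegular (M ⧸ (Ideal.ofList fs • (⊤ : Submodule A M))) f :=
      (e.isSMulRegular_congr f).1 hreg0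
    rw [List.reverse_cons, isWeaklyRegular_append_iff]
    refine ⟨ih, ?_⟩
    rw [isWeaklyRegular_singleton_iff, ofList_reverse]
    exact hreg1

end main


/-- Let (R, m) be a Noetherian local ring, M a nonzero finitely generated R-module and x_1, …, x_n
elements of m generating the ideal a. Then depth(a, M) = n if and only if x_1, …, x_n is an
M-regular sequence (each x_i a non-zero-divisor on M/(x_1, …, x_{i-1})M; the condition (x)M ≠ M is
automatic here). -/
theorem result {R : Type u} [CommRing R] [IsNoetherianRing R] [IsLocalRing R]
    {M : Type u} [AddCommGroup M] [Module R M] [Module.Finite R M] [Nontrivial M]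
    (xs : List R) (hxs : ∀ x ∈ xs, x ∈ IsLocalRing.maximalIdeal R) :
    LocCoh.idealDepth (Ideal.span {x | x ∈ xs}) M = xs.length ↔ RingTheory.Sequence.IsWeaklyRegular M xs := by
  obtain ⟨hle, hvan, -⟩ := Groth.Agent.S14426.result M xs hxs
  constructor
  · intro hd
    have hrev : IsWeaklyRegular M xs.reverse := by
      apply regular_of_isZero M xs hxs
      rcases Nat.eq_zero_or_pos xs.length with h0 | hpos
      · have : xs = [] := List.length_eq_zero_iff.1 h0
        subst this
        exact (HomologicalComplex.exactAt_single_obj (ComplexShape.up ℤ) 0 (ModuleCat.of R M) (-1)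
          (by norm_num)).isZero_homology
      · have h1 := hvan (xs.length - 1) (by
          rw [hd]
          exact_mod_cast Nat.sub_lt hpos Nat.one_pos)
        rwa [Groth.Agent.S14426.isZero_homology_congr _
          (show ((xs.length - 1 : ℕ) : ℤ) - xs.length = -1 by
            rw [Nat.cast_sub hpos]; ring)] at h1
    refine hrev.of_perm_of_subset_jacobson_annihilator (List.reverse_perm xs) ?_
    intro r hr
    have hr' : r ∈ IsLocalRing.maximalIdeal R := hxs r (List.mem_reverse.1 hr)
    have hann : Module.annihilator R M ≠ ⊤ := by
      intro h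
      rw [Module.annihilator_eq_top_iff] at h
      exact not_subsingleton M h
    rw [IsLocalRing.jacobson_eq_maximalIdeal _ hann]
    exact hr'
  · intro hreg
    refine le_antisymm hle ?_
    exact length_le_idealDepth _ xs hreg (fun r hr => Ideal.subset_span hr)

end Groth.Agent.S14425
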