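import Groth.Statements.S14427
import Groth.Agent.Lib.Helper14.PlanePoints

set_option autoImplicit false
universe u
open CAlgX

namespace Groth.Agent.S14427

/-- Let k be a field and Λ a set of n ≥ 3 nonzero vectors of k^3 which are pairwise linearly
independent, i.e. n distinct k-rational points of the projective plane. Then the space of
homogeneous forms of degree n − 1 in k[x_0, x_1, x_2] vanishing at every point of Λ — the global
sections of I_Λ(n − 1) — has dimension C(n+1, 2) − n over k, the same for all such Λ. (The published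
statement is over an algebraically closed field; this row allows any field and k-rational points,
which is all its argument uses.) -/
theorem result (k : Type u) [Field k] (n : ℕ) (hn : 3 ≤ n)
    (Λ : Finset (Fin 3 → k)) (hcard : Λ.card = n) (h0 : ∀ v ∈ Λ, v ≠ 0)
    (hdist : ∀ v ∈ Λ, ∀ w ∈ Λ, v ≠ w → LinearIndependent k ![v, w]) :
    Module.finrank k ↥(MvPolynomial.homogeneousSubmodule (Fin 3) k (n - 1) ⊓ ⨅ v ∈ Λ, LinearMap.ker (MvPolynomial.aeval v).toLinearMap) = Nat.choose (n + 1) 2 - n := by
  classical
  let f : MvPolynomial (Fin 3) k →ₗ[k] (Λ → k) :=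
    LinearMap.pi fun v => (MvPolynomial.aeval v.1).toLinearMap
  have hker : (⨅ v ∈ Λ, LinearMap.ker (MvPolynomial.aeval v).toLinearMap) = LinearMap.ker f := by
    ext p
    simp [f, LinearMap.mem_ker, funext_iff]
  rw [hker]
  set H := MvPolynomial.homogeneousSubmodule (Fin 3) k (n - 1) with hH
  have hcomap : Submodule.comap H.subtype (H ⊓ LinearMap.ker f) = LinearMap.ker (f.domRestrict H) := by
    rw [Submodule.comap_inf, Submodule.comap_subtype_self, top_inf_eq]
    rfl
  have e : ↥(H ⊓ LinearMap.ker f) ≃ₗ[k] LinearMap.ker (f.domRestrict H) :=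
    (Submodule.comapSubtypeEquivOfLe (inf_le_left : H ⊓ LinearMap.ker f ≤ H)).symm ≪≫ₗ
      LinearEquiv.ofEq _ _ hcomap
  rw [e.finrank_eq]
  have hsurj : Function.Surjective (f.domRestrict H) := by
    intro t
    have hex : ∀ v : Λ, ∃ p : MvPolynomial (Fin 3) k, p.IsHomogeneous (Λ.card - 1) ∧
        MvPolynomial.aeval v.1 p ≠ 0 ∧ ∀ w ∈ Λ, w ≠ v.1 → MvPolynomial.aeval w p = 0 :=
      fun v => Groth.Agent.Lib.Helper14.exists_sep_poly Λ hdist v.1 v.2
    choose P hP1 hP2 hP3 using hex
    have hmem : (∑ v : Λ, (t v / MvPolynomial.aeval v.1 (P v)) • P v) ∈ H := by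
      apply Submodule.sum_mem
      intro v _
      apply Submodule.smul_mem
      rw [hH, ← hcard]
      exact hP1 v
    refine ⟨⟨_, hmem⟩, ?_⟩
    funext w
    simp only [f, LinearMap.domRestrict_apply, LinearMap.pi_apply, AlgHom.toLinearMap_apply,
      map_sum, map_smul, smul_eq_mul]
    rw [Finset.sum_eq_single w]
    · exact div_mul_cancel₀ _ (hP2 w)
    · intro v _ hvw
      rw [hP3 v w.1 w.2 (fun h => hvw (Subtype.ext h.symm)), mul_zero]
    · intro h; exact absurd (Finset.mem_univ w) h
  haveI : Module.Finite k H :=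
    Module.Finite.iff_fg.mpr (MvPolynomial.homogeneousSubmodule_fg (Fin 3) k (n - 1))
  have hrk := LinearMap.finrank_range_add_finrank_ker (f.domRestrict H)
  rw [LinearMap.range_eq_top.mpr hsurj, finrank_top, Module.finrank_fintype_fun_eq_card,
    Fintype.card_coe, hcard] at hrk
  have hHr : Module.finrank k H = (n - 1 + 2).choose 2 :=
    Groth.Agent.Lib.Helper14.finrank_homogeneousSubmodule _
  have h2 : n - 1 + 2 = n + 1 := by omega
  rw [hHr, h2] at hrk
  omega

end Groth.Agent.S14427
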