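import Groth.Statements.S14428
import Groth.Agent.Lib.Helper14.PlanePoints
import Mathlib.Tactic.Module

set_option autoImplicit false
universe u
open CAlgX

namespace Groth.Agent.S14428

section Helpers

open MvPolynomial Groth.Agent.Lib.Helper14

variable {k : Type u} [Field k]

lemma indep_of_not_smul {v w : Fin 3 → k} (hw : w ≠ 0) (h : ∀ c : k, v ≠ c • w) :
    LinearIndependent k ![v, w] := by
  rw [linearIndependent_fin2]
  refine ⟨by simpa using hw, fun a ha => h a (by simpa using ha.symm)⟩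

lemma half (n : ℕ) (hn : 3 ≤ n) (Λ' : Finset (Fin 3 → k)) (hcard' : Λ'.card = n)
    (h0' : ∀ v ∈ Λ', v ≠ 0)
    (hline' : ¬ ∃ ℓ : (Fin 3 → k) →ₗ[k] k, ℓ ≠ 0 ∧ ∀ v ∈ Λ', ℓ v = 0)
    (v : Fin 3 → k)
    (hv : ∀ p : MvPolynomial (Fin 3) k, p.IsHomogeneous (n - 1) →
      (∀ w ∈ Λ', aeval w p = 0) → aeval v p = 0) :
    ∃ w ∈ Λ', ∃ c : k, v = c • w := by
  classical
  by_contra hcon
  push Not at hcon
  have hind : ∀ w ∈ Λ', LinearIndependent k ![v, w] := fun w hw =>
    indep_of_not_smul (h0' w hw) (hcon w hw)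
  have hpair : ∃ w1 ∈ Λ', ∃ w2 ∈ Λ', w1 ≠ w2 ∧ v ∉ Submodule.span k {w1, w2} := by
    by_contra hno
    push Not at hno
    obtain ⟨w1, hw1⟩ : Λ'.Nonempty := Finset.card_pos.mp (by omega)
    have hsub : ∀ w ∈ Λ', w ∈ Submodule.span k {w1, v} := by
      intro w hw
      by_cases hww : w = w1
      · subst hww; exact Submodule.subset_span (by simp)
      · have := hno w1 hw1 w hw (Ne.symm hww)
        obtain ⟨a, b, hab⟩ := Submodule.mem_span_pair.mp this
        have hb : b ≠ 0 := by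
          rintro rfl
          exact hcon w1 hw1 a (by simpa using hab.symm)
        rw [Submodule.mem_span_pair]
        refine ⟨-(b⁻¹ * a), b⁻¹, ?_⟩
        rw [← hab, smul_add, smul_smul, smul_smul, inv_mul_cancel₀ hb]
        module
    have hlt : Submodule.span k {w1, v} < ⊤ := by
      rw [lt_top_iff_ne_top]
      intro htop
      have h1 : Module.finrank k (Submodule.span k ((({w1, v} : Finset (Fin 3 → k)) : Set (Fin 3 → k)))) ≤
          ({w1, v} : Finset (Fin 3 → k)).card := finrank_span_finset_le_card _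
      have h2 : ({w1, v} : Finset (Fin 3 → k)).card ≤ 2 := Finset.card_le_two
      have h3 : ((({w1, v} : Finset (Fin 3 → k)) : Set (Fin 3 → k))) = {w1, v} := by simp
      rw [h3, htop, finrank_top, Module.finrank_fin_fun] at h1
      omega
    obtain ⟨ℓ, hℓ0, hℓ⟩ := Submodule.exists_le_ker_of_lt_top _ hlt
    exact hline' ⟨ℓ, hℓ0, fun w hw => hℓ (hsub w hw)⟩
  obtain ⟨w1, hw1, w2, hw2, hne, hvs⟩ := hpair
  obtain ⟨ℓ, hℓv, hℓ⟩ := Submodule.exists_le_ker_of_notMem hvs
  have hex : ∀ w, w ∈ (Λ'.erase w1).erase w2 →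
      ∃ ℓ' : (Fin 3 → k) →ₗ[k] k, ℓ' v ≠ 0 ∧ ℓ' w = 0 := fun w hw =>
    exists_linForm_sep (hind w (Finset.mem_of_mem_erase (Finset.mem_of_mem_erase hw)))
  choose! ℓ' hℓ' using hex
  let p := linForm ℓ * ∏ w ∈ (Λ'.erase w1).erase w2, linForm (ℓ' w)
  have hp_hom : p.IsHomogeneous (n - 1) := by
    have h1 := IsHomogeneous.prod ((Λ'.erase w1).erase w2) (fun w => linForm (ℓ' w)) (fun _ => 1)
      (fun w _ => linForm_isHomogeneous _)
    have h2 := (linForm_isHomogeneous ℓ).mul h1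
    have hc : 1 + ∑ _w ∈ (Λ'.erase w1).erase w2, 1 = n - 1 := by
      have hw2' : w2 ∈ Λ'.erase w1 := Finset.mem_erase.mpr ⟨hne.symm, hw2⟩
      simp only [Finset.sum_const, smul_eq_mul, mul_one, Finset.card_erase_of_mem hw2',
        Finset.card_erase_of_mem hw1, hcard']
      omega
    rw [hc] at h2
    exact h2
  have hp_van : ∀ w ∈ Λ', aeval w p = 0 := by
    intro w hw
    simp only [p, map_mul, map_prod, aeval_linForm]
    by_cases h1 : w = w1
    · subst h1
      rw [show ℓ w = 0 from hℓ (Submodule.subset_span (by simp)), zero_mul]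
    by_cases h2 : w = w2
    · subst h2
      rw [show ℓ w = 0 from hℓ (Submodule.subset_span (by simp)), zero_mul]
    · have hmem : w ∈ (Λ'.erase w1).erase w2 :=
        Finset.mem_erase.mpr ⟨h2, Finset.mem_erase.mpr ⟨h1, hw⟩⟩
      exact mul_eq_zero_of_right _ (Finset.prod_eq_zero hmem (hℓ' w hmem).2)
  have hp_v : aeval v p ≠ 0 := by
    simp only [p, map_mul, map_prod, aeval_linForm]
    exact mul_ne_zero hℓv (Finset.prod_ne_zero_iff.mpr fun w hw => (hℓ' w hw).1)
  exact hp_v (hv p hp_hom hp_van)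

end Helpers


/-- Let k be a field, n ≥ 3, and let Λ and Λ' be two sets of n nonzero, pairwise linearly independent
vectors of k^3 (n distinct k-rational points of the projective plane each), neither lying on a line
(no nonzero linear form vanishes on all of Λ, resp. Λ'). If the spaces of homogeneous forms of
degree n − 1 vanishing on Λ and on Λ' coincide, then Λ and Λ' define the same set of points of the
plane: the assignment Λ ↦ H^0(P^2, I_Λ(n − 1)), with values in a Grassmannian, is injective on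
non-collinear sets. (The published statement is over an algebraically closed field; this row allows
any field and k-rational points, which is all its argument uses.) -/
theorem result (k : Type u) [Field k] (n : ℕ) (hn : 3 ≤ n)
    (Λ Λ' : Finset (Fin 3 → k)) (hcard : Λ.card = n) (hcard' : Λ'.card = n)
    (h0 : ∀ v ∈ Λ, v ≠ 0) (h0' : ∀ v ∈ Λ', v ≠ 0)
    (hdist : ∀ v ∈ Λ, ∀ w ∈ Λ, v ≠ w → LinearIndependent k ![v, w])
    (hdist' : ∀ v ∈ Λ', ∀ w ∈ Λ', v ≠ w → LinearIndependent k ![v, w])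
    (hline : ¬ ∃ ℓ : (Fin 3 → k) →ₗ[k] k, ℓ ≠ 0 ∧ ∀ v ∈ Λ, ℓ v = 0)
    (hline' : ¬ ∃ ℓ : (Fin 3 → k) →ₗ[k] k, ℓ ≠ 0 ∧ ∀ v ∈ Λ', ℓ v = 0)
    (heq : (MvPolynomial.homogeneousSubmodule (Fin 3) k (n - 1) ⊓ ⨅ v ∈ Λ, LinearMap.ker (MvPolynomial.aeval v).toLinearMap) = (MvPolynomial.homogeneousSubmodule (Fin 3) k (n - 1) ⊓ ⨅ v ∈ Λ', LinearMap.ker (MvPolynomial.aeval v).toLinearMap)) :
    (∀ v ∈ Λ, ∃ w ∈ Λ', ∃ c : k, v = c • w) ∧ (∀ w ∈ Λ', ∃ v ∈ Λ, ∃ c : k, w = c • v) := by
  have hmem : ∀ (Λ₁ : Finset (Fin 3 → k)) (p : MvPolynomial (Fin 3) k),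
      p ∈ (MvPolynomial.homogeneousSubmodule (Fin 3) k (n - 1) ⊓
        ⨅ v ∈ Λ₁, LinearMap.ker (MvPolynomial.aeval v).toLinearMap) ↔
      p.IsHomogeneous (n - 1) ∧ ∀ v ∈ Λ₁, MvPolynomial.aeval v p = 0 := by
    intro Λ₁ p
    simp [Submodule.mem_inf, Submodule.mem_iInf]
  constructor
  · intro v hv
    apply half n hn Λ' hcard' h0' hline' v
    intro p hp hvan
    have hp' := (hmem Λ' p).mpr ⟨hp, hvan⟩
    rw [← heq] at hp'
    exact ((hmem Λ p).mp hp').2 v hv
  · intro w hw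
    apply half n hn Λ hcard h0 hline w
    intro p hp hvan
    have hp' := (hmem Λ p).mpr ⟨hp, hvan⟩
    rw [heq] at hp'
    exact ((hmem Λ' p).mp hp').2 w hw

end Groth.Agent.S14428
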