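import Groth.Statements.S1443
import Groth.Agent.S7411
import Groth.Agent.S0032

set_option autoImplicit false
universe u
open FlatMor

namespace Groth.Agent.S1443

open AlgebraicGeometry CategoryTheory Limits in
/-- Let f : X → Y be a proper morphism with Y affine such that every fibre X_y has dimension ≤ 1 and
H¹(X_y, O_{X_y}) = 0. Then H^p(X, F) = 0 for every quasi-coherent O_X-module F and every p ≥ 2. -/
theorem result {X Y : Scheme.{u}} (f : X ⟶ Y) [IsProper f] [IsAffine Y]
    (hdim : ∀ y : Y, topologicalKrullDim ↑(f.fiber y) ≤ 1) (hH1 : ∀ y : Y, Subsingleton (Coh.HH (f.fiber y) (Coh.structureModule (f.fiber y)) 1))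
    (F : X.Modules) (hF : Coh.IsQCoh F) (p : ℕ) (hp : 2 ≤ p) : Subsingleton (Coh.HH X F p) := by
  haveI : Coh.IsQCoh F := hF
  obtain ⟨e⟩ := Groth.Agent.S0032.result f F p
  suffices h : Subsingleton ↑(((Coh.RpushAb f p).obj (Coh.toAb F)).obj.obj (Opposite.op ⊤)) from
    e.toEquiv.subsingleton
  refine ⟨fun s t => ?_⟩
  refine TopCat.Presheaf.section_ext ((Coh.RpushAb f p).obj (Coh.toAb F)) ⊤ s t (fun y hy => ?_)
  have hz := Groth.Agent.S7411.result f y 1 (hdim y) F p (by omega)
  have : Subsingleton ↑(TopCat.Presheaf.stalk ((Coh.RpushAb f p).obj (Coh.toAb F)).obj y) :=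
    AddCommGrpCat.subsingleton_of_isZero hz
  exact Subsingleton.elim _ _

end Groth.Agent.S1443
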