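import Groth.Statements.S14434
import Mathlib
import Groth.Agent.Lib.Helper21.TorShift

set_option autoImplicit false
universe u
open CAlg

namespace Groth.Agent.S14434

section helpers
open Groth.Agent.Lib.Helper21.TorShift TensorProduct

theorem main {R : Type u} [CommRing R] (M : Type u) [AddCommGroup M] [Module R M]
    (x : R) (hxR : IsSMulRegular R x) (hxM : IsSMulRegular M x) (i : ℕ) (hi : 1 ≤ i) :
    Subsingleton (TorT R i M (R ⧸ Ideal.span {x})) := by
  let ι : R →ₗ[R] R := LinearMap.lsmul R R x
  let q : R →ₗ[R] R ⧸ Ideal.span {x} := (Ideal.span {x}).mkQ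
  have hι : Function.Injective ι := hxR
  have hq : Function.Surjective q := Submodule.mkQ_surjective _
  have hex : Function.Exact ι q := by
    intro y
    rw [Submodule.mkQ_apply, Submodule.Quotient.mk_eq_zero, Ideal.mem_span_singleton']
    constructor
    · rintro ⟨a, rfl⟩
      exact ⟨a, mul_comm _ _⟩
    · rintro ⟨a, rfl⟩
      exact ⟨a, mul_comm _ _⟩
  obtain ⟨n, rfl⟩ : ∃ n, i = n + 1 := ⟨i - 1, by omega⟩
  cases n with
  | zero =>
    rw [subsingleton_tor_one_iff M ι q hι hex hq]
    have h1 : LinearMap.lTensor M ι = LinearMap.lsmul R (M ⊗[R] R) x := by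
      apply TensorProduct.ext'
      intro m r
      change m ⊗ₜ[R] (x • r) = x • (m ⊗ₜ[R] r)
      rw [TensorProduct.tmul_smul]
    rw [h1]
    have : IsSMulRegular (M ⊗[R] R) x :=
      ((TensorProduct.rid R M).isSMulRegular_congr x).2 hxM
    exact this
  | succ n =>
    rw [subsingleton_tor_succ_succ_iff M ι q hι hex hq n]
    exact subsingleton_tor_succ_of_projective M n

end helpers


/-- Let R be a commutative ring, M an R-module and x ∈ R a non-zero-divisor on R and on M. Then
Tor_i^R(M, R/(x)) = 0 for all i ≥ 1 (Tor computed as the left derived functors of the tensor product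
on R-modules). -/
theorem result {R : Type u} [CommRing R] (M : Type u) [AddCommGroup M] [Module R M]
    (x : R) (hxR : IsSMulRegular R x) (hxM : IsSMulRegular M x) (i : ℕ) (hi : 1 ≤ i) :
    Subsingleton (DRing.Tor R i M (R ⧸ Ideal.span {x})) := by
  exact main M x hxR hxM i hi

end Groth.Agent.S14434
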