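import Groth.Statements.S14436
import Mathlib.RingTheory.Smooth.Field
import Mathlib.RingTheory.Etale.Kaehler
import Mathlib.RingTheory.Kaehler.Polynomial
-- import your own Groth.Agent.* helpers here

set_option autoImplicit false
universe u
open CAlg

namespace Groth.Agent.S14436

open scoped IntermediateField.algebraAdjoinAdjoin in
lemma aux (K L : Type u) [Field K] [Field L] [Algebra K L]
    (n : ℕ) (a : Fin n → L) (ha : IsTranscendenceBasis K a)
    (hsep : Algebra.IsSeparable ↥(IntermediateField.adjoin K (Set.range a)) L) :
    Module.finrank L (Ω[L⁄K]) = n := by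
  classical
  have hai : AlgebraicIndependent K a := ha.1
  let e : MvPolynomial (Fin n) K ≃ₐ[K] Algebra.adjoin K (Set.range a) := hai.aevalEquiv
  have h1 : (e.toRingEquiv.toRingHom).FormallyEtale := by
    letI := e.toRingEquiv.toRingHom.toAlgebra
    let e' : MvPolynomial (Fin n) K ≃ₐ[MvPolynomial (Fin n) K] Algebra.adjoin K (Set.range a) :=
      { e.toRingEquiv with commutes' := fun r => rfl }
    exact Algebra.FormallyEtale.of_equiv e'
  have h2 : (algebraMap (Algebra.adjoin K (Set.range a))
      (IntermediateField.adjoin K (Set.range a))).FormallyEtale :=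
    RingHom.formallyEtale_algebraMap.mpr
      (Algebra.FormallyEtale.of_isLocalization (nonZeroDivisors (Algebra.adjoin K (Set.range a))))
  have h3 : (algebraMap (IntermediateField.adjoin K (Set.range a)) L).FormallyEtale :=
    RingHom.formallyEtale_algebraMap.mpr (Algebra.FormallyEtale.of_isSeparable _ L)
  have h := (h1.comp h2).comp h3
  letI : Algebra (MvPolynomial (Fin n) K) L :=
    (MvPolynomial.aeval a : MvPolynomial (Fin n) K →ₐ[K] L).toRingHom.toAlgebra
  haveI : IsScalarTower K (MvPolynomial (Fin n) K) L :=
    IsScalarTower.of_algebraMap_eq' (MvPolynomial.aeval a : MvPolynomial (Fin n) K →ₐ[K] L).comp_algebraMap.symm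
  haveI : Algebra.FormallyEtale (MvPolynomial (Fin n) K) L := by
    rw [← RingHom.formallyEtale_algebraMap]
    convert h using 1
    refine RingHom.ext fun p => ?_
    exact (hai.algebraMap_aevalEquiv p).symm
  have eq := KaehlerDifferential.tensorKaehlerEquivOfFormallyEtale K (MvPolynomial (Fin n) K) L
  rw [← eq.finrank_eq, Module.finrank_baseChange,
    Module.finrank_eq_card_basis (KaehlerDifferential.mvPolynomialBasis K (Fin n))]
  simp


/-- Let L/K be a finitely generated field extension which is separable in the sense that it has a
transcendence basis a_1, …, a_n over which L is a (finite) separable extension of K(a_1, …, a_n).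
Then dim_L Ω_{L/K} = n, the transcendence degree of L over K. -/
theorem result (K L : Type u) [Field K] [Field L] [Algebra K L]
    (hfg : ∃ s : Finset L, IntermediateField.adjoin K (s : Set L) = ⊤)
    (n : ℕ) (a : Fin n → L) (ha : IsTranscendenceBasis K a)
    (hsep : Algebra.IsSeparable ↥(IntermediateField.adjoin K (Set.range a)) L) :
    Module.finrank L (Ω[L⁄K]) = n := aux K L n a ha hsep

end Groth.Agent.S14436
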