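import Groth.Statements.S14437
import Mathlib.LinearAlgebra.Basis.VectorSpace
import Mathlib.LinearAlgebra.FiniteDimensional.Lemmas
import Mathlib.LinearAlgebra.Dimension.Free
import Mathlib.LinearAlgebra.Dimension.Constructions

set_option autoImplicit false
universe u
open CAlg

namespace Groth.Agent.S14437

open IsLocalRing TensorProduct

section

variable (k : Type u) [Field k]
    (A B : Type u) [CommRing A] [CommRing B] [IsLocalRing B]
    [Algebra k A] [Algebra k B] [Algebra A B] [IsScalarTower k A B]

/-- the map `m_B → κ ⊗ Ω`, `x ↦ 1 ⊗ dx`. -/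
noncomputable def psi0 : maximalIdeal B →ₗ[k] (ResidueField B) ⊗[B] (Ω[B⁄A]) :=
  ((TensorProduct.mk B (ResidueField B) (Ω[B⁄A]) 1).restrictScalars k) ∘ₗ
    ((KaehlerDifferential.D A B).toLinearMap.restrictScalars k) ∘ₗ
    ((maximalIdeal B).subtype.restrictScalars k)

lemma psi0_apply (x : maximalIdeal B) :
    psi0 k A B x = (1 : ResidueField B) ⊗ₜ[B] KaehlerDifferential.D A B (x : B) := rfl

lemma smul_one_eq_zero (x : maximalIdeal B) : (x : B) • (1 : ResidueField B) = 0 := by
  rw [Algebra.smul_def, mul_one, IsLocalRing.ResidueField.algebraMap_eq,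
    IsLocalRing.residue_eq_zero_iff]
  exact x.2

lemma psi0_mul (x y : maximalIdeal B) : psi0 k A B (x * y) = 0 := by
  rw [psi0_apply]
  have : ((x * y : maximalIdeal B) : B) = (x : B) * (y : B) := rfl
  rw [this, Derivation.leibniz, TensorProduct.tmul_add, TensorProduct.tmul_smul,
    TensorProduct.tmul_smul, TensorProduct.smul_tmul', TensorProduct.smul_tmul',
    smul_one_eq_zero, smul_one_eq_zero, TensorProduct.zero_tmul, TensorProduct.zero_tmul, add_zero]

/-- the induced map on the cotangent space. -/
noncomputable def psi : CotangentSpace B →ₗ[k] (ResidueField B) ⊗[B] (Ω[B⁄A]) :=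
  Ideal.Cotangent.lift (psi0 k A B) (psi0_mul k A B)

lemma psi_toCotangent (x : maximalIdeal B) :
    psi k A B ((maximalIdeal B).toCotangent x) =
      (1 : ResidueField B) ⊗ₜ[B] KaehlerDifferential.D A B (x : B) := rfl

variable {k B} in
lemma exists_decomp (hB : Function.Surjective (algebraMap k (ResidueField B))) (b : B) :
    ∃ c : k, b - algebraMap k B c ∈ maximalIdeal B := by
  obtain ⟨c, hc⟩ := hB (residue B b)
  refine ⟨c, ?_⟩
  rw [← IsLocalRing.residue_eq_zero_iff, map_sub, ← hc, IsScalarTower.algebraMap_apply k B,
    IsLocalRing.ResidueField.algebraMap_eq, sub_self]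

omit [IsLocalRing B] in
lemma D_algebraMap_eq_zero (c : k) : KaehlerDifferential.D A B (algebraMap k B c) = 0 := by
  rw [IsScalarTower.algebraMap_apply k A B, Derivation.map_algebraMap]

lemma psi_surjective (hB : Function.Surjective (algebraMap k (ResidueField B))) :
    Function.Surjective (psi k A B) := by
  have key : ∀ ω : Ω[B⁄A], ∀ x : ResidueField B, x ⊗ₜ[B] ω ∈ LinearMap.range (psi k A B) := by
    intro ω
    have hω : ω ∈ Submodule.span B (Set.range (KaehlerDifferential.D A B)) := by
      rw [KaehlerDifferential.span_range_derivation]; trivial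
    induction hω using Submodule.span_induction with
    | mem ω h =>
      obtain ⟨b, rfl⟩ := h
      intro x
      obtain ⟨c, hc⟩ := exists_decomp hB b
      obtain ⟨c', rfl⟩ := hB x
      have h1 : KaehlerDifferential.D A B b = KaehlerDifferential.D A B (b - algebraMap k B c) := by
        rw [map_sub, D_algebraMap_eq_zero, sub_zero]
      have h2 : (algebraMap k (ResidueField B) c') ⊗ₜ[B] KaehlerDifferential.D A B b =
          c' • psi k A B ((maximalIdeal B).toCotangent ⟨_, hc⟩) := by
        rw [psi_toCotangent, TensorProduct.smul_tmul', Algebra.smul_def, mul_one, ← h1]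
      rw [h2]
      exact Submodule.smul_mem _ _ (LinearMap.mem_range_self _ _)
    | zero => intro x; rw [TensorProduct.tmul_zero]; exact Submodule.zero_mem _
    | add ω ω' _ _ h h' => intro x; rw [TensorProduct.tmul_add]; exact Submodule.add_mem _ (h x) (h' x)
    | smul b ω _ h => intro x; rw [TensorProduct.tmul_smul, TensorProduct.smul_tmul']; exact h _
  intro t
  rw [← LinearMap.mem_range]
  induction t using TensorProduct.induction_on with
  | zero => exact Submodule.zero_mem _
  | tmul x ω => exact key ω x
  | add a b ha hb => exact Submodule.add_mem _ ha hb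

end



section

variable {k : Type u} [Field k]
    {A B : Type u} [CommRing A] [CommRing B] [IsLocalRing A] [IsLocalRing B]
    [Algebra k A] [Algebra k B] [Algebra A B] [IsScalarTower k A B]
    (hB : Function.Bijective (algebraMap k (ResidueField B)))

/-- the coefficient ring hom `B → k`. -/
noncomputable def coef : B →+* k :=
  ((RingEquiv.ofBijective (algebraMap k (ResidueField B)) hB).symm : ResidueField B →+* k).comp
    (residue B)

lemma algebraMap_coef (b : B) : algebraMap k (ResidueField B) (coef hB b) = residue B b :=
  (RingEquiv.ofBijective (algebraMap k (ResidueField B)) hB).apply_symm_apply _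

lemma algebraMap_residue_eq (c : k) :
    residue B (algebraMap k B c) = algebraMap k (ResidueField B) c := by
  rw [IsScalarTower.algebraMap_apply k B (ResidueField B), ResidueField.algebraMap_eq]

lemma coef_algebraMap (c : k) : coef hB (algebraMap k B c) = c := by
  apply hB.1
  rw [algebraMap_coef, algebraMap_residue_eq]

lemma coef_of_mem (x : B) (hx : x ∈ maximalIdeal B) : coef hB x = 0 := by
  apply hB.1
  rw [algebraMap_coef, map_zero, residue_eq_zero_iff]
  exact hx

lemma sub_coef_mem (b : B) : b - algebraMap k B (coef hB b) ∈ maximalIdeal B := by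
  rw [← residue_eq_zero_iff, map_sub, algebraMap_residue_eq, algebraMap_coef, sub_self]

/-- the projection `B → m_B`. -/
noncomputable def proj : B →ₗ[k] maximalIdeal B where
  toFun b := ⟨b - algebraMap k B (coef hB b), sub_coef_mem hB b⟩
  map_add' x y := by
    apply Subtype.ext
    simp only [map_add, Submodule.coe_add]
    ring
  map_smul' r x := by
    apply Subtype.ext
    simp only [RingHom.id_apply, Submodule.coe_smul_of_tower, Algebra.smul_def, map_mul,
      coef_algebraMap]
    ring

lemma proj_coe (b : B) : (proj hB b : B) = b - algebraMap k B (coef hB b) := rfl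

lemma proj_of_mem (x : maximalIdeal B) : proj hB (x : B) = x := by
  apply Subtype.ext
  rw [proj_coe, coef_of_mem hB _ x.2, map_zero, sub_zero]

lemma proj_mul (x y : B) : proj hB (x * y) =
    coef hB x • proj hB y + coef hB y • proj hB x + proj hB x * proj hB y := by
  apply Subtype.ext
  have : ((proj hB x * proj hB y : maximalIdeal B) : B) = (proj hB x : B) * (proj hB y : B) := rfl
  simp only [Submodule.coe_add, Submodule.coe_smul_of_tower, this, proj_coe, map_mul,
    Algebra.smul_def]
  ring

/-- the `k`-linear map underlying the derivation. -/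
noncomputable def delta (φ : CotangentSpace B →ₗ[k] k) : B →ₗ[k] ResidueField B :=
  (Algebra.linearMap k (ResidueField B)) ∘ₗ φ ∘ₗ
    ((maximalIdeal B).toCotangent.restrictScalars k) ∘ₗ proj hB

lemma delta_apply (φ : CotangentSpace B →ₗ[k] k) (b : B) :
    delta hB φ b = algebraMap k (ResidueField B) (φ ((maximalIdeal B).toCotangent (proj hB b))) :=
  rfl

lemma delta_mul (φ : CotangentSpace B →ₗ[k] k) (x y : B) :
    delta hB φ (x * y) = x • delta hB φ y + y • delta hB φ x := by
  have h0 : (maximalIdeal B).toCotangent (proj hB x * proj hB y) = 0 := by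
    rw [Ideal.toCotangent_eq_zero, pow_two]
    exact Ideal.mul_mem_mul (proj hB x).2 (proj hB y).2
  simp only [delta_apply, proj_mul, map_add, LinearMap.map_smul_of_tower, h0, add_zero,
    map_smul, smul_eq_mul, map_mul, algebraMap_coef, Algebra.smul_def,
    ResidueField.algebraMap_eq]

end



section

variable {k : Type u} [Field k]
    {A B : Type u} [CommRing A] [CommRing B] [IsLocalRing A] [IsLocalRing B]
    [Algebra k A] [Algebra k B] [Algebra A B] [IsScalarTower k A B]
    (hle : IsLocalRing.maximalIdeal A ≤ Ideal.comap (IsScalarTower.toAlgHom k A B) (IsLocalRing.maximalIdeal B))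
    (hA : Function.Bijective (algebraMap k (IsLocalRing.ResidueField A)))
    (hB : Function.Bijective (algebraMap k (ResidueField B)))

include hA in
lemma proj_algebraMap (a : A) :
    ∃ a' : maximalIdeal A, proj hB (algebraMap A B a) = ⟨algebraMap A B a', hle a'.2⟩ := by
  obtain ⟨c, hc⟩ := exists_decomp hA.2 a
  refine ⟨⟨_, hc⟩, ?_⟩
  apply Subtype.ext
  have h1 : algebraMap A B a = algebraMap k B c + algebraMap A B (a - algebraMap k A c) := by
    rw [map_sub, ← IsScalarTower.algebraMap_apply k A B]; ring
  have h2 : coef hB (algebraMap A B a) = c := by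
    have h3 : algebraMap A B (a - algebraMap k A c) ∈ maximalIdeal B := hle hc
    rw [h1, map_add, coef_algebraMap, coef_of_mem hB _ h3, add_zero]
  rw [proj_coe, h2]
  simp only [map_sub, ← IsScalarTower.algebraMap_apply k A B]

include hA in
lemma delta_algebraMap (φ : CotangentSpace B →ₗ[k] k)
    (hφ : LinearMap.range (Ideal.mapCotangent (maximalIdeal A) (maximalIdeal B)
        (IsScalarTower.toAlgHom k A B) hle) ≤ LinearMap.ker φ) (a : A) :
    delta hB φ (algebraMap A B a) = 0 := by
  obtain ⟨a', ha'⟩ := proj_algebraMap hle hA hB a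
  rw [delta_apply, ha']
  have : (maximalIdeal B).toCotangent ⟨algebraMap A B a', hle a'.2⟩ =
      Ideal.mapCotangent (maximalIdeal A) (maximalIdeal B) (IsScalarTower.toAlgHom k A B) hle
        ((maximalIdeal A).toCotangent a') := rfl
  rw [this]
  have h := hφ (LinearMap.mem_range_self _ ((maximalIdeal A).toCotangent a'))
  rw [LinearMap.mem_ker] at h
  rw [h, map_zero]

/-- the derivation associated to a functional vanishing on the image of `m_A/m_A²`. -/
noncomputable def der (φ : CotangentSpace B →ₗ[k] k)
    (hφ : LinearMap.range (Ideal.mapCotangent (maximalIdeal A) (maximalIdeal B)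
        (IsScalarTower.toAlgHom k A B) hle) ≤ LinearMap.ker φ) :
    Derivation A B (ResidueField B) :=
  Derivation.mk'
    { toFun := delta hB φ
      map_add' := map_add _
      map_smul' := fun a b => by
        rw [Algebra.smul_def, delta_mul, delta_algebraMap hle hA hB φ hφ, smul_zero, add_zero,
          RingHom.id_apply, algebraMap_smul] }
    (delta_mul hB φ)

lemma der_apply (φ : CotangentSpace B →ₗ[k] k)
    (hφ : LinearMap.range (Ideal.mapCotangent (maximalIdeal A) (maximalIdeal B)
        (IsScalarTower.toAlgHom k A B) hle) ≤ LinearMap.ker φ) (b : B) :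
    der hle hA hB φ hφ b = delta hB φ b := rfl

include hA hB in
lemma ker_psi_le (v : CotangentSpace B) (hv : psi k A B v = 0) :
    v ∈ LinearMap.range (Ideal.mapCotangent (maximalIdeal A) (maximalIdeal B)
        (IsScalarTower.toAlgHom k A B) hle) := by
  by_contra hnot
  obtain ⟨φ, hφv, hφ⟩ := Submodule.exists_le_ker_of_notMem hnot
  obtain ⟨x, rfl⟩ := (maximalIdeal B).toCotangent_surjective v
  rw [psi_toCotangent] at hv
  let L : (ResidueField B) ⊗[B] (Ω[B⁄A]) →ₗ[B] ResidueField B :=
    (LinearMap.mul' B (ResidueField B)) ∘ₗ
      ((der hle hA hB φ hφ).liftKaehlerDifferential.lTensor (ResidueField B))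
  have h1 := congrArg L hv
  simp only [L, LinearMap.comp_apply, LinearMap.lTensor_tmul,
    Derivation.liftKaehlerDifferential_comp_D, LinearMap.mul'_apply, one_mul, map_zero,
    der_apply, delta_apply, proj_of_mem] at h1
  apply hφv
  apply hB.1
  rw [h1, map_zero]

lemma range_le_ker_psi :
    LinearMap.range (Ideal.mapCotangent (maximalIdeal A) (maximalIdeal B)
        (IsScalarTower.toAlgHom k A B) hle) ≤ LinearMap.ker (psi k A B) := by
  rintro _ ⟨w, rfl⟩
  obtain ⟨a, rfl⟩ := (maximalIdeal A).toCotangent_surjective w
  rw [LinearMap.mem_ker, Ideal.mapCotangent_toCotangent, psi_toCotangent]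
  have : ((IsScalarTower.toAlgHom k A B) (a : A)) = algebraMap A B a := rfl
  simp only [this, Derivation.map_algebraMap, TensorProduct.tmul_zero]

end



lemma isScalarTower_cot (k : Type u) [Field k] (B : Type u) [CommRing B] [IsLocalRing B]
    [Algebra k B] : IsScalarTower k (ResidueField B) (CotangentSpace B) := by
  apply IsScalarTower.of_algebraMap_smul
  intro c v
  rw [← algebraMap_residue_eq, ← algebraMap_smul B c v]
  have : residue B (algebraMap k B c) = (algebraMap k B c) • (1 : ResidueField B) := by
    rw [Algebra.smul_def, mul_one, ResidueField.algebraMap_eq]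
  rw [this, smul_assoc, one_smul]


/-- Let k be a field and A → B a local homomorphism of Noetherian local k-algebras with residue fields k
(k → A/m_A and k → B/m_B bijective) — for instance the local rings at a closed point x and at its
image y under a morphism of schemes of finite type over an algebraically closed k. Then dim_k
(Ω_{B/A} ⊗_B B/m_B) + rank(m_A/m_A² → m_B/m_B²) = dim_k (m_B/m_B²): the fibre at x of the sheaf of
relative differentials is dual to the kernel of the tangent map T_x X → T_y Y. (The published
statement is the canonical isomorphism (Ω_{X/Y})_(x)^∨ ≅ ker(df_x); stated here as the resulting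
equality of dimensions. Its second assertion, dim (Ω_{X/Y})_(x) ≥ r when the fibre has an
r-dimensional component through x, is not included.) -/
theorem result (k : Type u) [Field k]
    (A B : Type u) [CommRing A] [CommRing B] [IsLocalRing A] [IsLocalRing B] [IsNoetherianRing A] [IsNoetherianRing B]
    [Algebra k A] [Algebra k B] [Algebra A B] [IsScalarTower k A B]
    (hle : IsLocalRing.maximalIdeal A ≤ Ideal.comap (IsScalarTower.toAlgHom k A B) (IsLocalRing.maximalIdeal B))
    (hA : Function.Bijective (algebraMap k (IsLocalRing.ResidueField A)))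
    (hB : Function.Bijective (algebraMap k (IsLocalRing.ResidueField B))) :
    Module.finrank (IsLocalRing.ResidueField B) (TensorProduct B (IsLocalRing.ResidueField B) (Ω[B⁄A])) +
      Module.finrank k ↥(LinearMap.range (Ideal.mapCotangent (IsLocalRing.maximalIdeal A) (IsLocalRing.maximalIdeal B)
        (IsScalarTower.toAlgHom k A B) hle)) =
      Module.finrank k (IsLocalRing.CotangentSpace B) := by
  have hker : LinearMap.ker (psi k A B) = LinearMap.range (Ideal.mapCotangent
      (IsLocalRing.maximalIdeal A) (IsLocalRing.maximalIdeal B) (IsScalarTower.toAlgHom k A B) hle) :=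
    le_antisymm (fun v hv => ker_psi_le hle hA hB v hv) (range_le_ker_psi hle)
  have hsurj := psi_surjective k A B hB.2
  haveI := isScalarTower_cot k B
  haveI : Module.Finite k (ResidueField B) :=
    Module.Finite.of_surjective (Algebra.linearMap k (ResidueField B)) hB.2
  haveI : Module.Finite k (CotangentSpace B) := Module.Finite.trans (ResidueField B) _
  have h1 := LinearMap.finrank_range_add_finrank_ker (psi k A B)
  rw [LinearMap.range_eq_top.mpr hsurj, finrank_top, hker] at h1
  have h3 : Module.finrank k (ResidueField B) = 1 := by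
    rw [← (LinearEquiv.ofBijective (Algebra.linearMap k (ResidueField B)) hB).finrank_eq,
      Module.finrank_self]
  have h2 : Module.finrank k (TensorProduct B (ResidueField B) (Ω[B⁄A])) =
      Module.finrank (ResidueField B) (TensorProduct B (ResidueField B) (Ω[B⁄A])) := by
    rw [← Module.finrank_mul_finrank k (ResidueField B), h3, one_mul]
  rw [← h2]
  exact h1

end Groth.Agent.S14437
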