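import Groth.Statements.S1444
import Groth.Agent.Lib.lead.FibOneG
import Groth.Agent.S1443

set_option autoImplicit false
universe u
open FlatMor

namespace Groth.Agent.S1444

open AlgebraicGeometry CategoryTheory Limits in
/-- Let f : X → Y be proper with Y affine, all fibres of f of dimension at most 1, and H¹(X_y, O_{X_y})
= 0 for every point y of Y. Then H¹(X, F) = 0 for every quasi-coherent O_X-module F which is
globally generated (a quotient of a direct sum of copies of the structure sheaf). -/
theorem result {X Y : Scheme.{u}} (f : X ⟶ Y) [IsProper f] [IsAffine Y]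
    (hdim : ∀ y : Y, topologicalKrullDim ↑(f.fiber y) ≤ 1) (hH1 : ∀ y : Y, Subsingleton (Coh.HH (f.fiber y) (Coh.structureModule (f.fiber y)) 1))
    (F : X.Modules) (hF : Coh.IsQCoh F) (ι : Type u) (e : (∐ fun _ : ι => Coh.structureModule X) ⟶ F) [Epi e] :
    Subsingleton (Coh.HH X F 1) := by
  classical
  haveI : F.IsQuasicoherent := hF
  haveI : CompactSpace X := QuasiCompact.compactSpace_of_compactSpace f
  haveI : QuasiSeparatedSpace X := quasiSeparatedSpace_of_quasiSeparated f
  have hvan : ∀ K : X.Modules, K.IsQuasicoherent → Subsingleton (Coh.HH X K (1 + 1)) :=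
    fun K hK => Groth.Agent.S1443.result f hdim hH1 K hK 2 le_rfl
  haveI : Coh.IsQCoh (Coh.structureModule X) :=
    inferInstanceAs (Coh.structureModule X).IsQuasicoherent
  have hO : Subsingleton (Coh.HH X (Coh.structureModule X) 1) := by
    refine Groth.Agent.Lib.lead.FibOne.subsingleton_HH_of_locally f _ 1 fun y => ?_
    obtain ⟨V, hyV, hV, -, hvanV⟩ :=
      Groth.Agent.Lib.lead.FibOne.exists_nhd_vanishing f y 1 (hdim y) (hH1 y)
    exact ⟨V, hyV, hV, (Groth.Agent.Lib.lead.FibOne.subsingleton_HHon_iff (f ⁻¹ᵁ V) 1).2 hvanV⟩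
  exact Groth.Agent.Lib.lead.FibOne.subsingleton_HH_of_epi_sigma F e 1 hvan hO

end Groth.Agent.S1444
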