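import Groth.Statements.S14448
import Groth.Agent.Lib.Helper17.PbDict2
import Mathlib
set_option backward.isDefEq.respectTransparency.types false

set_option autoImplicit false
universe u
open Coherent

namespace Groth.Agent.S14448
open AlgebraicGeometry CategoryTheory Scheme.Modules
open Groth.Agent.Lib.Helper28 Groth.Agent.Lib.Helper28.QCohLoc
open Groth.Agent.Lib.Helper28.PullbackInv Groth.Agent.Lib.Helper17.PbDict

theorem lhs_app {U V W : Scheme.{u}} (φ : U ⟶ V) (ψ : V ⟶ W) (N : W.Modules) (K : U.Modules)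
    (θ : N ⟶ (pushforward (φ ≫ ψ)).obj K) (O : W.Opens) (n : Γ(N, O)) :
    ((pullbackComp φ ψ).hom.app N ≫
      ((pullbackPushforwardAdjunction (φ ≫ ψ)).homEquiv N K).symm θ).app (φ ⁻¹ᵁ (ψ ⁻¹ᵁ O))
      (pbs φ _ (ψ ⁻¹ᵁ O) (pbs ψ N O n)) = θ.app O n := by
  rw [comp_app_apply]
  have e1 : ((pullbackComp φ ψ).hom.app N).app (φ ⁻¹ᵁ (ψ ⁻¹ᵁ O)) (pbs φ _ (ψ ⁻¹ᵁ O) (pbs ψ N O n)) =
      pbs (φ ≫ ψ) N O n := pullbackComp_hom_pbs φ ψ N O n
  rw [e1]
  exact pbLift_pbs _ θ O n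

theorem rhs_app {U V W : Scheme.{u}} (φ : U ⟶ V) (ψ : V ⟶ W) (N : W.Modules) (P : V.Modules) (Q R : U.Modules)
    (θ₂ : N ⟶ (pushforward ψ).obj P) (θ₁ : P ⟶ (pushforward φ).obj Q) (c : Q ⟶ R) (O : W.Opens) (n : Γ(N, O)) :
    ((pullback φ).map (((pullbackPushforwardAdjunction ψ).homEquiv N P).symm θ₂) ≫
      ((pullbackPushforwardAdjunction φ).homEquiv P Q).symm θ₁ ≫ c).app (φ ⁻¹ᵁ (ψ ⁻¹ᵁ O))
      (pbs φ _ (ψ ⁻¹ᵁ O) (pbs ψ N O n)) = c.app (φ ⁻¹ᵁ (ψ ⁻¹ᵁ O)) (θ₁.app (ψ ⁻¹ᵁ O) (θ₂.app O n)) := by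
  rw [comp_app_apply, comp_app_apply]
  have e3 : ((pullback φ).map (pbLift ψ θ₂)).app (φ ⁻¹ᵁ (ψ ⁻¹ᵁ O)) (pbs φ _ (ψ ⁻¹ᵁ O) (pbs ψ N O n)) =
      pbs φ _ (ψ ⁻¹ᵁ O) ((pbLift ψ θ₂).app (ψ ⁻¹ᵁ O) (pbs ψ N O n)) := pbs_map φ (pbLift ψ θ₂) (ψ ⁻¹ᵁ O) _
  have e4 : (pbLift ψ θ₂).app (ψ ⁻¹ᵁ O) (pbs ψ N O n) = θ₂.app O n := pbLift_pbs _ θ₂ O n
  have e5 : (pbLift φ θ₁).app (φ ⁻¹ᵁ (ψ ⁻¹ᵁ O)) (pbs φ _ (ψ ⁻¹ᵁ O) (θ₂.app O n)) = θ₁.app (ψ ⁻¹ᵁ O) (θ₂.app O n) :=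
    pbLift_pbs _ θ₁ (ψ ⁻¹ᵁ O) _
  rw [e4] at e3
  exact congrArg (c.app (φ ⁻¹ᵁ (ψ ⁻¹ᵁ O))) ((congrArg ((pbLift φ θ₁).app (φ ⁻¹ᵁ (ψ ⁻¹ᵁ O))) e3).trans e5)

theorem final_app {X Y Z : Scheme.{u}} (f : X ⟶ Y) (g : Y ⟶ Z) (L : Z.Modules) (T : Z.Opens) (n : Γ(L, T))
    (A : Y.Opens) (hA : A ≤ g ⁻¹ᵁ T) (B : X.Opens) (hB : B ≤ f ⁻¹ᵁ A) (hB' : B ≤ (f ≫ g) ⁻¹ᵁ T) :
    ((pullbackComp f g).hom.app L).app B
      (res ((pullback f).obj ((pullback g).obj L)) hB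
        (pbs f ((pullback g).obj L) A (res ((pullback g).obj L) hA (pbs g L T n)))) =
      res ((pullback (f ≫ g)).obj L) hB' (pbs (f ≫ g) L T n) := by
  have e6 := app_res ((pullbackComp f g).hom.app L) hB
    (pbs f ((pullback g).obj L) A (res ((pullback g).obj L) hA (pbs g L T n)))
  refine e6.trans ?_
  rw [pbs_res]
  have e7 := app_res ((pullbackComp f g).hom.app L) (f.preimage_mono hA)
    (pbs f ((pullback g).obj L) (g ⁻¹ᵁ T) (pbs g L T n))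
  have e8 : ((pullbackComp f g).hom.app L).app (f ⁻¹ᵁ (g ⁻¹ᵁ T))
      (pbs f ((pullback g).obj L) (g ⁻¹ᵁ T) (pbs g L T n)) =
      pbs (f ≫ g) L T n := pullbackComp_hom_pbs f g L T n
  rw [e8] at e7
  refine (congrArg (res ((pullback (f ≫ g)).obj L) hB) e7).trans ?_
  rw [res_res]
  rfl


open AlgebraicGeometry CategoryTheory Scheme.Modules in
/-- Take two commutative squares of schemes side by side, f : X → Y over φ : U → V (vertical maps ξ : X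
→ U and η : Y → V, f ≫ η = ξ ≫ φ) and g : Y → Z over ψ : V → W (vertical map ζ : Z → W, g ≫ ζ = η ≫
ψ), and an O_Z-module L. For a commutative square the base change map β_{f,φ}(M) : φ^* η_* M → ξ_*
f^* M is the adjoint of η_*(unit) : η_* M → η_* f_* f^* M = φ_* ξ_* f^* M, and α denotes the
composition isomorphisms of module pullbacks. Then the composite of α_{φ,ψ}(ζ_* L) : φ^* ψ^* ζ_* L →
(φ ≫ ψ)^* ζ_* L with β_{f ≫ g, φ ≫ ψ}(L) equals the composite of φ^* β_{g,ψ}(L), β_{f,φ}(g^* L) and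
ξ_* α_{f,g}(L), as maps φ^* ψ^* ζ_* L → ξ_* (f ≫ g)^* L. No cartesian or finiteness hypothesis is
made; the outer square is used through any proof hw of its commutativity. -/
theorem result {X Y Z U V W : Scheme.{u}} (f : X ⟶ Y) (g : Y ⟶ Z)
    (ξ : X ⟶ U) (η : Y ⟶ V) (ζ : Z ⟶ W) (φ : U ⟶ V) (ψ : V ⟶ W)
    (h₁ : f ≫ η = ξ ≫ φ) (h₂ : g ≫ ζ = η ≫ ψ) (hw : (f ≫ g) ≫ ζ = ξ ≫ (φ ≫ ψ)) (L : Z.Modules) :
    (pullbackComp φ ψ).hom.app ((pushforward ζ).obj L) ≫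
        (((pullbackPushforwardAdjunction (φ ≫ ψ)).homEquiv ((pushforward ζ).obj L)
            ((pushforward ξ).obj ((pullback (f ≫ g)).obj L))).symm
          ((pushforward ζ).map ((pullbackPushforwardAdjunction (f ≫ g)).unit.app L) ≫
            (pushforwardComp (f ≫ g) ζ).hom.app ((pullback (f ≫ g)).obj L) ≫
            (pushforwardCongr hw).hom.app ((pullback (f ≫ g)).obj L) ≫
            (pushforwardComp ξ (φ ≫ ψ)).inv.app ((pullback (f ≫ g)).obj L))) =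
      (pullback φ).map (((pullbackPushforwardAdjunction ψ).homEquiv ((pushforward ζ).obj L)
            ((pushforward η).obj ((pullback g).obj L))).symm
          ((pushforward ζ).map ((pullbackPushforwardAdjunction g).unit.app L) ≫
            (pushforwardComp g ζ).hom.app ((pullback g).obj L) ≫
            (pushforwardCongr h₂).hom.app ((pullback g).obj L) ≫
            (pushforwardComp η ψ).inv.app ((pullback g).obj L))) ≫
        (((pullbackPushforwardAdjunction φ).homEquiv ((pushforward η).obj ((pullback g).obj L))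
            ((pushforward ξ).obj ((pullback f).obj ((pullback g).obj L)))).symm
          ((pushforward η).map ((pullbackPushforwardAdjunction f).unit.app ((pullback g).obj L)) ≫
            (pushforwardComp f η).hom.app ((pullback f).obj ((pullback g).obj L)) ≫
            (pushforwardCongr h₁).hom.app ((pullback f).obj ((pullback g).obj L)) ≫
            (pushforwardComp ξ φ).inv.app ((pullback f).obj ((pullback g).obj L)))) ≫
        (pushforward ξ).map ((pullbackComp f g).hom.app L) := by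
  apply pb_pb_hom_ext
  intro O n
  rw [lhs_app, rhs_app, bcTheta_app, bcTheta_app, bcTheta_app]
  exact (final_app f g L (ζ ⁻¹ᵁ O) n _ _ _ _ _).symm

end Groth.Agent.S14448
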