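import Groth.Statements.S14449
-- import your own Groth.Agent.* helpers here
import Groth.Agent.Lib.Helper23.EtRecoll
import Groth.Agent.Lib.Helper23.Recollement

set_option autoImplicit false
universe u
open CategoryTheory CategoryTheory.Limits AlgebraicGeometry
open EtCore

namespace Groth.Agent.S14449

/-- Let X be a scheme, i : Z ⟶ X a closed immersion and j : U ⟶ X an open immersion whose image is the
complement of the image of i. Then the functor from abelian sheaves on the small étale site of X to
the category of triples (G on Z, H on U, φ : G ⟶ i⁻¹ j_* H), sending F to (i⁻¹ F, j⁻¹ F, i⁻¹ of the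
unit F ⟶ j_* j⁻¹ F), is an equivalence of categories. The category of triples is the comma category
of the identity functor of Ab(Z) over j_* ⋙ i⁻¹. -/
theorem result {X Z U : Scheme.{u}}
    (i : Z ⟶ X) [IsClosedImmersion i] (j : U ⟶ X) [IsOpenImmersion j]
    (hZU : Set.range j.base = (Set.range i.base)ᶜ) :
    (EtCore.recollTriple i j).IsEquivalence := by
  haveI hcI : IsIso (EtCoh.pullPushAdj i).counit := by
    obtain ⟨hfull, hfaith⟩ := Groth.Agent.S0067.result i
    infer_instance
  haveI hcJ : IsIso (EtCoh.pullPushAdj j).counit := by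
    rw [NatTrans.isIso_iff_isIso_app]
    intro H
    exact (Groth.Agent.S0651.result j H).1
  haveI : PreservesFiniteLimits (EtCoh.pull i) := Groth.Agent.S0101.result i
  haveI : PreservesFiniteLimits (EtCoh.pull j) := Groth.Agent.S0101.result j
  have hz : ∀ G : EtCoh.Ab Z, IsZero ((EtCoh.pull j).obj ((EtCoh.push i).obj G)) := fun G =>
    (Groth.Agent.Lib.Helper23.EtRecoll.isZero_restr_push i j hZU G).of_iso
      ((Groth.Agent.Lib.Helper23.EtRestr.pullIsoRestr j).app _)
  have hc : ∀ {F G : EtCoh.Ab X} (f : F ⟶ G), IsIso ((EtCoh.pull i).map f) →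
      IsIso ((EtCoh.pull j).map f) → IsIso f := by
    intro F G f h1 h2
    apply Groth.Agent.Lib.Helper23.JointExact.isIso_of (EtShriek.restrAlong j) (EtCoh.pull i)
      (Groth.Agent.Lib.Helper23.EtRecoll.isZero_of_restr_pull i j hZU) f _ h1
    exact (NatIso.isIso_map_iff (Groth.Agent.Lib.Helper23.EtRestr.pullIsoRestr j) f).1 h2
  exact Groth.Agent.Lib.Helper23.Recollement.isEquivalence_triple (EtCoh.pullPushAdj i)
    (EtCoh.pullPushAdj j) hz hc

end Groth.Agent.S14449
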