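import Groth.Statements.S14457
import Mathlib
-- import your own Groth.Agent.* helpers here

set_option autoImplicit false
universe u
open CAlg

namespace Groth.Agent.S14457

section H
open Polynomial
namespace W13

/-- `R[X]/(f)` is étale when `f` is monic and separable. -/
theorem etale_adjoinRoot_of_separable {R : Type u} [CommRing R] (f : R[X]) (hf : f.Monic)
    (hsep : f.Separable) : Algebra.Etale R (AdjoinRoot f) := by
  obtain ⟨a, b, hab⟩ := hsep
  let P : StandardEtalePair R := ⟨f, hf, 1, ⟨b, a, 0, by rw [pow_zero, ← hab]; ring⟩⟩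
  have h1 : P.HasMap (AdjoinRoot.root f) :=
    ⟨by show aeval (AdjoinRoot.root f) f = 0; rw [AdjoinRoot.aeval_eq, AdjoinRoot.mk_self],
     by show IsUnit (aeval (AdjoinRoot.root f) (1 : R[X])); rw [map_one]; exact isUnit_one⟩
  let e : P.Ring ≃ₐ[R] AdjoinRoot f :=
    .ofAlgHom (P.lift (AdjoinRoot.root f) h1)
      (AdjoinRoot.liftAlgHom f (Algebra.ofId R P.Ring) P.X
        (show eval₂ (↑(Algebra.ofId R P.Ring) : R →+* P.Ring) P.X f = 0 from P.hasMap_X.1))
      (by ext; simp [AdjoinRoot.liftAlgHom_root]) (by ext; simp [AdjoinRoot.liftAlgHom_root])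
  exact Algebra.Etale.of_equiv e

theorem isUnit_derivative_of_formallyUnramified {A : Type u} [CommRing A] (f : A[X])
    [Algebra.FormallyUnramified A (AdjoinRoot f)] :
    IsUnit (AdjoinRoot.mk f (derivative f)) := by
  set d : AdjoinRoot f := AdjoinRoot.mk f (derivative f) with hd
  let J : Ideal (AdjoinRoot f) := Ideal.span {d}
  let M := AdjoinRoot f ⧸ J
  let π : AdjoinRoot f →ₐ[A] M := Ideal.Quotient.mkₐ A J
  let x : M := π (AdjoinRoot.root f)
  let C := TrivSqZeroExt M M
  let y : C := TrivSqZeroExt.inl x + TrivSqZeroExt.inr 1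
  have hπd : π d = 0 := by
    show Ideal.Quotient.mk J d = 0
    rw [Ideal.Quotient.eq_zero_iff_mem]
    exact Ideal.subset_span (Set.mem_singleton d)
  have hx0 : aeval x f = 0 := by
    show aeval (π (AdjoinRoot.root f)) f = 0
    rw [aeval_algHom_apply, AdjoinRoot.aeval_eq, AdjoinRoot.mk_self, map_zero]
  have hx1 : aeval x (derivative f) = 0 := by
    show aeval (π (AdjoinRoot.root f)) (derivative f) = 0
    rw [aeval_algHom_apply, AdjoinRoot.aeval_eq]
    exact hπd
  have hy : aeval y f = 0 := by
    show aeval (TrivSqZeroExt.inl x + TrivSqZeroExt.inr 1 : C) f = 0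
    rw [Polynomial.aeval_add_of_sq_eq_zero _ _ _ (by rw [pow_two, TrivSqZeroExt.inr_mul_inr])]
    have e1 : aeval (TrivSqZeroExt.inl x : C) f = TrivSqZeroExt.inl (aeval x f) := by
      have := aeval_algHom_apply (TrivSqZeroExt.inlAlgHom A M M) x f
      exact this
    have e2 : aeval (TrivSqZeroExt.inl x : C) (derivative f) =
        TrivSqZeroExt.inl (aeval x (derivative f)) := by
      have := aeval_algHom_apply (TrivSqZeroExt.inlAlgHom A M M) x (derivative f)
      exact this
    rw [e1, e2, hx0, hx1]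
    simp
  let g₁ : AdjoinRoot f →ₐ[A] C := (TrivSqZeroExt.inlAlgHom A M M).comp π
  have hy' : eval₂ (↑(Algebra.ofId A C) : A →+* C) y f = 0 := hy
  let g₂ : AdjoinRoot f →ₐ[A] C := AdjoinRoot.liftAlgHom f (Algebra.ofId A C) y hy'
  have hnil : IsNilpotent (RingHom.ker ((TrivSqZeroExt.fstHom M M M : C →ₐ[M] M) : C →+* M)) :=
    ⟨2, TrivSqZeroExt.kerIdeal_sq M M⟩
  have hagree : ((TrivSqZeroExt.fstHom A M M).comp g₁) = ((TrivSqZeroExt.fstHom A M M).comp g₂) := by
    apply AdjoinRoot.algHom_ext
    simp [g₁, g₂, y, x, AdjoinRoot.liftAlgHom_root]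
    change π (AdjoinRoot.root f) = π (AdjoinRoot.root f) + 0
    rw [add_zero]
  have hg : g₁ = g₂ :=
    Algebra.FormallyUnramified.ext' ((TrivSqZeroExt.fstHom M M M : C →ₐ[M] M) : C →+* M) hnil g₁ g₂
      (fun b => AlgHom.congr_fun hagree b)
  have h2 := AlgHom.congr_fun hg (AdjoinRoot.root f)
  have h3 : (TrivSqZeroExt.inl x : C) = TrivSqZeroExt.inl x + TrivSqZeroExt.inr 1 := by
    simpa [g₁, g₂, y, x, AdjoinRoot.liftAlgHom_root] using h2
  have h4 : (1 : M) = 0 := by
    have := congrArg TrivSqZeroExt.snd h3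
    simpa using this.symm
  have h5 : J = ⊤ := by
    rw [Ideal.eq_top_iff_one, ← Ideal.Quotient.eq_zero_iff_mem]
    exact h4
  exact Ideal.span_singleton_eq_top.mp h5

theorem main (A : Type u) [CommRing A] (a : A) (n : ℕ) (hn : 1 ≤ n) :
    Algebra.Etale A (AdjoinRoot ((X : A[X]) ^ n - C a)) ↔ n = 1 ∨ IsUnit ((n : A) * a) := by
  have hmonic : ((X : A[X]) ^ n - C a).Monic := monic_X_pow_sub_C a (by omega)
  have hder : derivative ((X : A[X]) ^ n - C a) = C (n : A) * X ^ (n - 1) := by
    rw [derivative_sub, derivative_C, sub_zero, derivative_X_pow]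
  have hX : (X : A[X]) * X ^ (n - 1) = X ^ n := by
    rw [← pow_succ']; congr 1; omega
  constructor
  · intro hE
    by_cases h1 : n = 1
    · exact Or.inl h1
    right
    have hn2 : 2 ≤ n := by omega
    have hu := isUnit_derivative_of_formallyUnramified ((X : A[X]) ^ n - C a)
    obtain ⟨w, hw⟩ := hu.exists_right_inv
    obtain ⟨v, rfl⟩ := AdjoinRoot.mk_surjective w
    have h0 : AdjoinRoot.mk ((X : A[X]) ^ n - C a)
        (derivative ((X : A[X]) ^ n - C a) * v - 1) = 0 := by
      rw [map_sub, map_mul, map_one, hw, sub_self]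
    rw [AdjoinRoot.mk_eq_zero] at h0
    obtain ⟨q, hq⟩ := h0
    rw [hder] at hq
    have ha : IsUnit a := by
      have h := congrArg (eval 0) hq
      simp only [eval_sub, eval_mul, eval_C, eval_pow, eval_X, eval_one,
        zero_pow (by omega : n - 1 ≠ 0), zero_pow (by omega : n ≠ 0), mul_zero, zero_mul,
        zero_sub] at h
      exact IsUnit.of_mul_eq_one (eval 0 q) (by linear_combination h)
    have hnu : IsUnit (n : A) := by
      by_contra hnot
      let I : Ideal A := Ideal.span {(n : A)}
      have hI : I ≠ ⊤ := fun h => hnot (Ideal.span_singleton_eq_top.mp h)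
      have : Nontrivial (A ⧸ I) := Ideal.Quotient.nontrivial_iff.mpr hI
      have hq' := congrArg (Polynomial.map (Ideal.Quotient.mk I)) hq
      have hn0 : (Ideal.Quotient.mk I) (n : A) = 0 :=
        Ideal.Quotient.eq_zero_iff_mem.2 (Ideal.subset_span rfl)
      simp only [Polynomial.map_sub, Polynomial.map_mul, Polynomial.map_C, Polynomial.map_pow,
        Polynomial.map_X, Polynomial.map_one, hn0, map_zero, zero_mul, zero_sub] at hq'
      have hmon : ((X : (A ⧸ I)[X]) ^ n - C (Ideal.Quotient.mk I a)).Monic :=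
        monic_X_pow_sub_C _ (by omega)
      have hunit : IsUnit ((X : (A ⧸ I)[X]) ^ n - C (Ideal.Quotient.mk I a)) :=
        IsUnit.of_mul_eq_one (-(q.map (Ideal.Quotient.mk I))) (by linear_combination hq')
      have h1' := hmon.eq_one_of_isUnit hunit
      have hdeg := congrArg natDegree h1'
      rw [natDegree_X_pow_sub_C, natDegree_one] at hdeg
      omega
    exact hnu.mul ha
  · rintro (h1 | hu)
    · apply etale_adjoinRoot_of_separable _ hmonic
      refine ⟨0, 1, ?_⟩
      rw [hder, h1]
      simp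
    · apply etale_adjoinRoot_of_separable _ hmonic
      obtain ⟨u, hu'⟩ := hu.exists_right_inv
      refine ⟨-C ((n : A) * u), C u * X, ?_⟩
      rw [hder]
      have h2 : (C ((n : A) * a * u) : A[X]) = 1 := by rw [hu', C_1]
      rw [← h2]
      simp only [C_mul]
      linear_combination (C u * C (n : A)) * hX

end W13
end H


open Polynomial in
/-- Let A be a commutative ring, a an element of A and n ≥ 1 an integer. The A-algebra A[T]/(T^n − a) is
etale exactly when either n = 1 or the product n·a is a unit of A. (The exponent n is a positive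
integer here; for n = 0 the quotient is (A/(1 − a))[T] and the equivalence fails.) -/
theorem result (A : Type u) [CommRing A] (a : A) (n : ℕ) (hn : 1 ≤ n) :
    Algebra.Etale A (AdjoinRoot ((X : A[X]) ^ n - C a)) ↔ n = 1 ∨ IsUnit ((n : A) * a) := by
  exact W13.main A a n hn

end Groth.Agent.S14457
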