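import Groth.Statements.S14461
import Groth.Agent.Lib.Helper9.CCBij
import Groth.Agent.Lib.helper11.FFCrit

set_option autoImplicit false
universe u
open CategoryTheory CategoryTheory.Limits AlgebraicGeometry
open Pi1

namespace Groth.Agent.S14461

/-- Let X be a Noetherian scheme and X₀ → X a closed immersion such that, for every finite étale Y → X,
the projection Y ×_X X₀ → Y induces a bijection on connected components. Then restriction of finite
étale covers from X to X₀ is full and faithful. -/
theorem result {X X₀ : Scheme.{u}} [IsNoetherian X]
    (i : X₀ ⟶ X) [IsClosedImmersion i]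
    (h : ∀ Y : FEt.Cat X, Function.Bijective (pullback.fst Y.hom i).continuous.connectedComponentsMap) :
    (FEt.restrict i).Full ∧ (FEt.restrict i).Faithful := by
  apply Groth.Agent.Lib.helper11.FFCrit.full_faithful_of_clopenBij
  have key : ∀ {Z : Scheme.{u}} (p : Z ⟶ X) [IsFinite p] [Etale p],
      Finite (_root_.ConnectedComponents Z) ∧
        Function.Bijective (pullback.fst p i).continuous.connectedComponentsMap := by
    intro Z p _ _
    let Y : FEt.Cat X := MorphismProperty.Over.mk ⊤ p ⟨inferInstance, inferInstance⟩
    haveI : IsLocallyNoetherian Z := LocallyOfFiniteType.isLocallyNoetherian p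
    haveI : CompactSpace Z := QuasiCompact.compactSpace_of_compactSpace p
    haveI : IsNoetherian Z := {}
    exact ⟨Groth.Agent.Lib.Helper9.CCBij.finite_connectedComponents, h Y⟩
  constructor
  · intro Z p _ _ C' hC'
    obtain ⟨hfin, hb⟩ := key p
    haveI := hfin
    exact Groth.Agent.Lib.Helper9.CCBij.exists_clopen_of_injective
      (pullback.fst p i).continuous hb.1 C' hC'
  · intro Z p _ _ D hD hpre
    obtain ⟨hfin, hb⟩ := key p
    exact Groth.Agent.Lib.Helper9.CCBij.eq_univ_of_surjective
      (pullback.fst p i).continuous hb.2 D hD hpre

end Groth.Agent.S14461
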