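import Groth.Statements.S14478
import Mathlib

set_option autoImplicit false
universe u
open CharCyc

namespace Groth.Agent.S14478

section aux

-- universe u declared in template

open Module

theorem exists_common_compl {k V : Type*} [Field k] [AddCommGroup V] [Module k V]
    [FiniteDimensional k V] :
    ∀ (m : ℕ) (U₁ U₂ : Submodule k V), Module.finrank k U₁ = Module.finrank k U₂ →
      Module.finrank k V - Module.finrank k U₁ = m →
      ∃ W : Submodule k V, IsCompl U₁ W ∧ IsCompl U₂ W := by
  intro m
  induction m with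
  | zero =>
    intro U₁ U₂ h12 hm
    have hle1 := Submodule.finrank_le U₁
    have hle2 := Submodule.finrank_le U₂
    have h1 : U₁ = ⊤ := Submodule.eq_top_of_finrank_eq (by omega)
    have h2 : U₂ = ⊤ := Submodule.eq_top_of_finrank_eq (by omega)
    exact ⟨⊥, h1 ▸ isCompl_top_bot, h2 ▸ isCompl_top_bot⟩
  | succ m ih =>
    intro U₁ U₂ h12 hm
    have hU₁ : U₁ ≠ ⊤ := by
      rintro rfl; rw [finrank_top] at hm; omega
    have hU₂ : U₂ ≠ ⊤ := by
      rintro rfl; rw [finrank_top] at h12; omega
    obtain ⟨w, hw1, hw2⟩ : ∃ w, w ∉ U₁ ∧ w ∉ U₂ := by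
      by_cases h : U₁ ≤ U₂
      · have : U₁ = U₂ := Submodule.eq_of_le_of_finrank_eq h h12
        subst this
        obtain ⟨w, -, hw⟩ := SetLike.exists_of_lt (lt_top_iff_ne_top.mpr hU₁)
        exact ⟨w, hw, hw⟩
      · by_cases h' : U₂ ≤ U₁
        · have : U₂ = U₁ := Submodule.eq_of_le_of_finrank_eq h' h12.symm
          exact absurd (this ▸ le_refl _) h
        · obtain ⟨u₁, hu₁, hu₁'⟩ := SetLike.not_le_iff_exists.mp h
          obtain ⟨u₂, hu₂, hu₂'⟩ := SetLike.not_le_iff_exists.mp h'
          refine ⟨u₁ + u₂, fun hh => hu₂' ?_, fun hh => hu₁' ?_⟩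
          · have := U₁.sub_mem hh hu₁; simpa using this
          · have := U₂.sub_mem hh hu₂; simpa using this
    have hw0 : w ≠ 0 := fun h0 => hw1 (h0 ▸ U₁.zero_mem)
    have hfin : ∀ U : Submodule k V, w ∉ U →
        Module.finrank k ↥(U ⊔ Submodule.span k {w}) = Module.finrank k U + 1 := by
      intro U hU
      have h1 := Submodule.finrank_sup_add_finrank_inf_eq U (Submodule.span k {w})
      have h2 : U ⊓ Submodule.span k {w} = ⊥ :=
        disjoint_iff.mp ((Submodule.disjoint_span_singleton' hw0).mpr hU)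
      rw [h2, finrank_bot, finrank_span_singleton hw0] at h1
      omega
    obtain ⟨W', hW1, hW2⟩ := ih (U₁ ⊔ Submodule.span k {w}) (U₂ ⊔ Submodule.span k {w})
      (by rw [hfin U₁ hw1, hfin U₂ hw2, h12]) (by rw [hfin U₁ hw1]; omega)
    have hcompl : ∀ U : Submodule k V, w ∉ U → IsCompl (U ⊔ Submodule.span k {w}) W' →
        IsCompl U (W' ⊔ Submodule.span k {w}) := by
      intro U hU hW
      constructor
      · rw [Submodule.disjoint_def]
        intro x hxU hxW
        obtain ⟨w', hw', y, hy, rfl⟩ := Submodule.mem_sup.mp hxW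
        obtain ⟨c, rfl⟩ := Submodule.mem_span_singleton.mp hy
        have h1 : w' ∈ U ⊔ Submodule.span k {w} := by
          have : w' = (w' + c • w) - c • w := by abel
          rw [this]
          exact Submodule.sub_mem _ (Submodule.mem_sup_left hxU)
            (Submodule.mem_sup_right (Submodule.smul_mem _ _ (Submodule.mem_span_singleton_self w)))
        have h2 : w' = 0 := by
          have := Submodule.disjoint_def.mp hW.disjoint w' h1 hw'
          exact this
        rw [h2, zero_add] at hxU ⊢
        by_cases hc : c = 0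
        · rw [hc, zero_smul]
        · exfalso
          apply hU
          have := U.smul_mem c⁻¹ hxU
          rwa [smul_smul, inv_mul_cancel₀ hc, one_smul] at this
      · rw [codisjoint_iff, sup_comm W', ← sup_assoc]
        exact hW.sup_eq_top
    exact ⟨W' ⊔ Submodule.span k {w}, hcompl U₁ hw1 hW1, hcompl U₂ hw2 hW2⟩

theorem main (k V : Type u) [Field k] [AddCommGroup V] [Module k V]
    [FiniteDimensional k V] (T : Submodule k (V × Module.Dual k V))
    (hT : Module.finrank k T = Module.finrank k V) :
    ∃ (V₂ : Submodule k V) (h : IsCompl (T.comap (LinearMap.inl k V (Module.Dual k V))) V₂),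
      ∀ A₁ : T.comap (LinearMap.inl k V (Module.Dual k V)) →ₗ[k]
          Module.Dual k (T.comap (LinearMap.inl k V (Module.Dual k V))),
        Function.Injective A₁ →
          LinearMap.graph ((Submodule.projectionOnto _ V₂ h).dualMap ∘ₗ A₁ ∘ₗ
              Submodule.projectionOnto _ V₂ h) ⊓ T = ⊥ := by
  set V₁ := T.comap (LinearMap.inl k V (Module.Dual k V)) with hV₁
  let q : T →ₗ[k] Module.Dual k V := (LinearMap.snd k V (Module.Dual k V)) ∘ₗ T.subtype
  have hker : finrank k (LinearMap.ker q) = finrank k V₁ := by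
    have e1 : finrank k (LinearMap.ker q) = finrank k ↥((LinearMap.ker q).map T.subtype) :=
      (Submodule.equivMapOfInjective T.subtype T.injective_subtype _).finrank_eq
    have e2 : finrank k V₁ = finrank k ↥(V₁.map (LinearMap.inl k V (Module.Dual k V))) :=
      (Submodule.equivMapOfInjective _ LinearMap.inl_injective _).finrank_eq
    have e3 : (LinearMap.ker q).map T.subtype = V₁.map (LinearMap.inl k V (Module.Dual k V)) := by
      rw [hV₁, Submodule.map_comap_eq, LinearMap.range_inl]
      show Submodule.map T.subtype (LinearMap.ker ((LinearMap.snd k V (Module.Dual k V)) ∘ₗ T.subtype)) = _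
      rw [LinearMap.ker_comp, Submodule.map_comap_subtype, inf_comm]
    rw [e1, e2, e3]
  have hUdim : finrank k (LinearMap.range q).dualCoannihilator = finrank k V₁ := by
    have h1 := Subspace.finrank_add_finrank_dualCoannihilator_eq (LinearMap.range q)
    have h2 := LinearMap.finrank_range_add_finrank_ker (K := k) (V := ↥T) (V₂ := Module.Dual k V) q
    rw [← hker]
    omega
  obtain ⟨V₂, h, h'⟩ := exists_common_compl (finrank k V - finrank k V₁) V₁ (LinearMap.range q).dualCoannihilator hUdim.symm rfl
  refine ⟨V₂, h, ?_⟩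
  intro A₁ hA₁
  rw [eq_bot_iff]
  rintro ⟨v, φ⟩ ⟨hgraph, hxT⟩
  set p := Submodule.projectionOnto V₁ V₂ h with hp
  have hφ : φ = (A₁ (p v)) ∘ₗ p := by
    have := (LinearMap.mem_graph_iff _ _).mp hgraph
    exact this
  have hφQ : φ ∈ LinearMap.range q := ⟨⟨(v, φ), hxT⟩, rfl⟩
  have hφV₂ : ∀ y ∈ V₂, φ y = 0 := by
    intro y hy
    rw [hφ, LinearMap.comp_apply]
    have : p y = 0 := Submodule.projectionOnto_apply_right h ⟨y, hy⟩
    rw [this, map_zero]
  have hφU : ∀ u ∈ (LinearMap.range q).dualCoannihilator, φ u = 0 := by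
    intro u hu
    exact (Submodule.mem_dualCoannihilator _).mp hu φ hφQ
  have hφ0 : φ = 0 := by
    ext y
    have hy : y ∈ (LinearMap.range q).dualCoannihilator ⊔ V₂ := h'.sup_eq_top ▸ Submodule.mem_top
    obtain ⟨u, hu, y₂, hy₂, rfl⟩ := Submodule.mem_sup.mp hy
    rw [map_add, hφU u hu, hφV₂ y₂ hy₂, add_zero, LinearMap.zero_apply]
  have hvV₁ : v ∈ V₁ := by
    rw [hV₁, Submodule.mem_comap]
    show (v, (0 : Module.Dual k V)) ∈ T
    rw [← hφ0]; exact hxT
  have hpv : p v = ⟨v, hvV₁⟩ := Submodule.projectionOnto_apply_left h ⟨v, hvV₁⟩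
  have hA₁0 : A₁ (p v) = 0 := by
    ext z
    have hz : p z = z := Submodule.projectionOnto_apply_left h z
    have := LinearMap.congr_fun (hφ.symm.trans hφ0) (z : V)
    rw [LinearMap.comp_apply, hz] at this
    exact this
  have hpv0 : p v = 0 := hA₁ (by rw [hA₁0, map_zero])
  have hv0 : v = 0 := by
    have := congrArg Subtype.val (hpv.symm.trans hpv0)
    exact this
  rw [Submodule.mem_bot, hv0, hφ0]
  rfl

end aux

/-- Let V be a finite-dimensional vector space over a field k, let W = V × V^∨ with V^∨ the dual space,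
and let T ⊆ W be a subspace with dim T = dim V; put V₁ = V ∩ T, where V sits in W as V × 0. Then
there is a complement V₂ of V₁ in V with the following property: for every injective linear map A₁ :
V₁ → V₁^∨, the map A : V → V^∨ extending A₁ by zero along the decompositions V = V₁ ⊕ V₂ and V^∨ =
V₁^∨ ⊕ V₂^∨ (so A v = A₁(p v) ∘ p, with p : V → V₁ the projection along V₂) has graph Γ ⊆ W with Γ ∩
T = 0. -/
theorem result (k V : Type u) [Field k] [AddCommGroup V] [Module k V]
    [FiniteDimensional k V] (T : Submodule k (V × Module.Dual k V))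
    (hT : Module.finrank k T = Module.finrank k V) :
    ∃ (V₂ : Submodule k V) (h : IsCompl (T.comap (LinearMap.inl k V (Module.Dual k V))) V₂),
      ∀ A₁ : T.comap (LinearMap.inl k V (Module.Dual k V)) →ₗ[k]
          Module.Dual k (T.comap (LinearMap.inl k V (Module.Dual k V))),
        Function.Injective A₁ →
          LinearMap.graph ((Submodule.projectionOnto _ V₂ h).dualMap ∘ₗ A₁ ∘ₗ
              Submodule.projectionOnto _ V₂ h) ⊓ T = ⊥ := by
  exact main k V T hT

end Groth.Agent.S14478
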