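import Groth.Statements.S14479
import Mathlib.LinearAlgebra.QuadraticForm.Dual
import Mathlib.LinearAlgebra.Matrix.BilinearForm

set_option autoImplicit false
universe u
open CharCyc

namespace Groth.Agent.S14479

/-- Let V be a finite-dimensional vector space over a field k. If dim V is even or the characteristic of
k is different from 2, there is a bilinear form B on V such that the bilinear form (v, w) ↦ B(v, w)
+ B(w, v) (B plus its transpose, as a map V → V^∨) is nondegenerate. -/
theorem result (k V : Type u) [Field k] [AddCommGroup V] [Module k V]
    [FiniteDimensional k V] (h : Even (Module.finrank k V) ∨ ringChar k ≠ 2) :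
    ∃ B : LinearMap.BilinForm k V, (B + B.flip).Nondegenerate := by
  classical
  rcases h with heven | hchar
  · obtain ⟨m, hm⟩ := heven
    let W := Fin m → k
    have hfr : Module.finrank k V = Module.finrank k (Module.Dual k W × W) := by
      rw [Module.finrank_prod, Subspace.dual_finrank_eq, Module.finrank_fin_fun, hm]
    let e : V ≃ₗ[k] Module.Dual k W × W := LinearEquiv.ofFinrankEq _ _ hfr
    let B' : LinearMap.BilinForm k (Module.Dual k W × W) :=
      (LinearMap.applyₗ.comp (LinearMap.snd k (Module.Dual k W) W)).compl₂
        (LinearMap.fst k (Module.Dual k W) W)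
    have hD : B' + B'.flip = LinearMap.dualProd k W := rfl
    have hsep : (LinearMap.dualProd k W).SeparatingLeft :=
      (LinearMap.separatingLeft_dualProd k W).2 (Module.bijective_dual_eval k W).injective
    let B : LinearMap.BilinForm k V := B'.compl₁₂ e.toLinearMap e.toLinearMap
    have hS : ∀ v w, (B + B.flip) v w = LinearMap.dualProd k W (e v) (e w) := by
      intro v w
      rw [← hD]
      rfl
    have hsymm : ∀ v w, (B + B.flip) v w = (B + B.flip) w v := by
      intro v w
      rw [hS, hS]
      exact (LinearMap.isSymm_dualProd k W).eq _ _
    have hleft : (B + B.flip).SeparatingLeft := by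
      intro v hv
      have : e v = 0 := by
        apply hsep
        intro y
        obtain ⟨w, rfl⟩ := e.surjective y
        rw [← hS]
        exact hv w
      exact e.map_eq_zero_iff.1 this
    refine ⟨B, hleft, ?_⟩
    intro w hw
    apply hleft
    intro v
    rw [hsymm]
    exact hw v
  · let b := Module.finBasis k V
    let B : LinearMap.BilinForm k V := Matrix.toBilin b (1 : Matrix _ _ k)
    have hB : ∀ i j, B (b i) (b j) = if i = j then 1 else 0 := by
      intro i j
      rw [← LinearMap.BilinForm.toMatrix_apply b, LinearMap.BilinForm.toMatrix_toBilin,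
        Matrix.one_apply]
    refine ⟨B, LinearMap.IsOrthoᵢ.nondegenerate_of_not_isOrtho_basis_self b ?_ ?_⟩
    · intro i j hij
      change (B + B.flip) (b i) (b j) = 0
      rw [LinearMap.add_apply, LinearMap.add_apply, LinearMap.BilinForm.flip_apply, hB, hB,
        if_neg hij, if_neg (Ne.symm hij), add_zero]
    · intro i hi
      change (B + B.flip) (b i) (b i) = 0 at hi
      rw [LinearMap.add_apply, LinearMap.add_apply, LinearMap.BilinForm.flip_apply, hB, if_pos rfl,
        one_add_one_eq_two] at hi
      exact Ring.two_ne_zero hchar hi

end Groth.Agent.S14479
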