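import Groth.Statements.S14481
import Mathlib
import Groth.Agent.Lib.Helper7.PreimageDim

set_option autoImplicit false
universe u
open CategoryTheory AlgebraicGeometry
open CharCyc

namespace Groth.Agent.S14481

/-- First equivalence: let k be a field, let π : C → X be a morphism between k-schemes of finite type
such that every irreducible component of C has dimension n, and let ι : W → X be a regular immersion
of codimension c. The following are equivalent: (a) ι meets C properly, that is, whenever P is an
irreducible component of C and Q is an irreducible component of P ×_X W (the subspace P ∩ π⁻¹(ι(W))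
of C), one has dim Q = dim P − c; (b) dim C ×_X W ≤ n − c (the subspace π⁻¹(ι(W)) of C). Dimensions
are written additively: dim Q + c = n and dim π⁻¹(ι(W)) + c ≤ n, the empty space having dimension ⊥.
(Stated for each of the four kinds of regular immersion of codimension c — regular, Koszul-regular,
H₁-regular, quasi-regular; the published statement does not distinguish kinds.) -/
theorem result (k : Type u) [Field k] (C X W : Scheme.{u})
    (q : X ⟶ Spec (CommRingCat.of k)) (π : C ⟶ X) (ι : W ⟶ X)
    [LocallyOfFiniteType q] [CompactSpace X] [LocallyOfFiniteType π] [CompactSpace C]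
    (κ : RegImm.Kind) (n c : ℕ) (hι : RegImm.IsRegularImmersionOfCodim κ c ι)
    (hC : ∀ P ∈ irreducibleComponents (C : Type u), topologicalKrullDim P = n) :
    (∀ P ∈ irreducibleComponents (C : Type u), ∀ Q ∈ irreducibleComponents (P ∩ π ⁻¹' Set.range ι : Set C),
        topologicalKrullDim Q + (c : WithBot ℕ∞) = n) ↔
      topologicalKrullDim (π ⁻¹' Set.range ι : Set C) + (c : WithBot ℕ∞) ≤ n := by
  classical
  constructor
  · intro hall
    by_cases hcn : c ≤ n
    · have hle := Groth.Agent.Lib.Helper7.PreDim.dim_le_of_components
        (π ⁻¹' Set.range ι : Set C) ((n - c : ℕ) : WithBot ℕ∞) (fun P hP Q hQ => by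
          obtain ⟨m, hm, hmc⟩ := Groth.Agent.Lib.Helper7.IMDim.exists_nat_of_add_eq _ c n
            (hall P hP Q hQ)
          rw [hm]
          have : m ≤ n - c := by omega
          exact_mod_cast this)
      calc topologicalKrullDim ↥(π ⁻¹' Set.range ι : Set C) + (c : WithBot ℕ∞)
          ≤ ((n - c : ℕ) : WithBot ℕ∞) + (c : WithBot ℕ∞) := add_le_add_left hle _
        _ = n := by
          have : n - c + c = n := by omega
          exact_mod_cast this
    · have hle := Groth.Agent.Lib.Helper7.PreDim.dim_le_of_components
        (π ⁻¹' Set.range ι : Set C) ⊥ (fun P hP Q hQ => by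
          obtain ⟨m, hm, hmc⟩ := Groth.Agent.Lib.Helper7.IMDim.exists_nat_of_add_eq _ c n
            (hall P hP Q hQ)
          omega)
      rw [le_bot_iff] at hle
      rw [hle]
      simp
  · intro hS P hP Q hQ
    apply le_antisymm
    · refine le_trans ?_ hS
      exact add_le_add_left (Groth.Agent.Lib.Helper7.PreDim.dim_le_of_subset_subtype
        Set.inter_subset_right Q) _
    · exact Groth.Agent.Lib.Helper7.PreDim.le_dim_component_add k C X W q π ι κ n c hι P hP
        (hC P hP) Q hQ

end Groth.Agent.S14481
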