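import Groth.Statements.S14498
import Mathlib

set_option autoImplicit false
universe v u
open AbDiag

namespace Groth.Agent.S14498

open CategoryTheory CategoryTheory.Limits in
/-- In an abelian category, let 0 → F → W → E' → 0 (maps a, b) and 0 → E → W → F' → G → G' → 0 (maps c,
d, e, g) be exact sequences such that the composite F → W → F' is a monomorphism. Then the composite
E → W → E' is a monomorphism, and there is a short exact sequence 0 → Coker(E → E') → Coker(F → F')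
→ Ker(G → G') → 0 whose first map is induced by d (through the quotient map b) and whose second map
is induced by e. -/
theorem result
    {V : Type u} [Category.{v} V] [Abelian V] {F W E' E F' G G' : V}
    (a : F ⟶ W) (b : W ⟶ E') (c : E ⟶ W) (d : W ⟶ F') (e : F' ⟶ G) (g : G ⟶ G')
    [Mono a] [Epi b] (wab : a ≫ b = 0) (hab : (ShortComplex.mk a b wab).Exact)
    [Mono c] (wcd : c ≫ d = 0) (hcd : (ShortComplex.mk c d wcd).Exact)
    (wde : d ≫ e = 0) (hde : (ShortComplex.mk d e wde).Exact)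
    (weg : e ≫ g = 0) (heg : (ShortComplex.mk e g weg).Exact) [Epi g]
    (hmono : Mono (a ≫ d)) :
    Mono (c ≫ b) ∧
      ∃ (φ : cokernel (c ≫ b) ⟶ cokernel (a ≫ d)) (ψ : cokernel (a ≫ d) ⟶ kernel g)
        (w : φ ≫ ψ = 0),
        b ≫ cokernel.π (c ≫ b) ≫ φ = d ≫ cokernel.π (a ≫ d) ∧
        cokernel.π (a ≫ d) ≫ ψ ≫ kernel.ι g = e ∧
        (ShortComplex.mk φ ψ w).ShortExact := by
  have hmono1 : Mono (c ≫ b) := by
    rw [Preadditive.mono_iff_cancel_zero]
    intro A x hx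
    have h1 : (x ≫ c) ≫ b = 0 := by rw [Category.assoc]; exact hx
    have hy : hab.lift (x ≫ c) h1 ≫ a = x ≫ c := hab.lift_f (x ≫ c) h1
    have h2 : hab.lift (x ≫ c) h1 ≫ (a ≫ d) = 0 := by
      rw [← Category.assoc, hy, Category.assoc, wcd, comp_zero]
    have hy0 : hab.lift (x ≫ c) h1 = 0 := by
      rw [← cancel_mono (a ≫ d), h2, zero_comp]
    have h3 : x ≫ c = 0 := by rw [← hy, hy0, zero_comp]
    rw [← cancel_mono c, h3, zero_comp]
  refine ⟨hmono1, ?_⟩
  have h3 : a ≫ (d ≫ cokernel.π (a ≫ d)) = 0 := by rw [← Category.assoc, cokernel.condition]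
  let φ₀ : E' ⟶ cokernel (a ≫ d) := hab.desc (d ≫ cokernel.π (a ≫ d)) h3
  have hφ₀ : b ≫ φ₀ = d ≫ cokernel.π (a ≫ d) := hab.g_desc _ _
  have h4 : (c ≫ b) ≫ φ₀ = 0 := by rw [Category.assoc, hφ₀, ← Category.assoc, wcd, zero_comp]
  let φ := cokernel.desc (c ≫ b) φ₀ h4
  have hφ : cokernel.π (c ≫ b) ≫ φ = φ₀ := cokernel.π_desc _ _ _
  have h5 : (a ≫ d) ≫ e = 0 := by rw [Category.assoc, wde, comp_zero]
  let ψ₀ := cokernel.desc (a ≫ d) e h5
  have hψ₀ : cokernel.π (a ≫ d) ≫ ψ₀ = e := cokernel.π_desc _ _ _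
  have h6 : ψ₀ ≫ g = 0 := by
    rw [← cancel_epi (cokernel.π (a ≫ d)), ← Category.assoc, hψ₀, weg, comp_zero]
  let ψ := kernel.lift g ψ₀ h6
  have hψ : ψ ≫ kernel.ι g = ψ₀ := kernel.lift_ι _ _ _
  have w : φ ≫ ψ = 0 := by
    rw [← cancel_mono (kernel.ι g), ← cancel_epi (cokernel.π (c ≫ b)), ← cancel_epi b]
    simp only [Category.assoc, zero_comp, comp_zero]
    rw [hψ, ← Category.assoc (cokernel.π _) φ, hφ, ← Category.assoc b, hφ₀, Category.assoc,
      hψ₀, wde]
  refine ⟨φ, ψ, w, ?_, ?_, ?_⟩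
  · rw [hφ, hφ₀]
  · rw [hψ, hψ₀]
  · have hmonoφ : Mono φ := by
      rw [Preadditive.mono_iff_cancel_zero]
      intro A x hx
      haveI : Epi (b ≫ cokernel.π (c ≫ b)) := epi_comp _ _
      obtain ⟨A', ρ, hρ, w', hw'⟩ :=
        surjective_up_to_refinements_of_epi (b ≫ cokernel.π (c ≫ b)) x
      have h7 : (w' ≫ d) ≫ cokernel.π (a ≫ d) = 0 := by
        have : w' ≫ (b ≫ cokernel.π (c ≫ b)) ≫ φ = 0 := by
          rw [← Category.assoc, ← hw', Category.assoc, hx, comp_zero]
        rw [Category.assoc, hφ, hφ₀] at this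
        rw [Category.assoc]; exact this
      obtain ⟨A'', ρ', hρ', y, hy⟩ :=
        (CokernelCofork.IsColimit.comp_π_eq_zero_iff_up_to_refinements
          (cokernelIsCokernel (a ≫ d)) (w' ≫ d)).1 h7
      have h8 : (ρ' ≫ w' - y ≫ a) ≫ d = 0 := by
        rw [Preadditive.sub_comp, Category.assoc, Category.assoc, hy, sub_self]
      have hz : hcd.lift (ρ' ≫ w' - y ≫ a) h8 ≫ c = ρ' ≫ w' - y ≫ a := hcd.lift_f _ h8
      have h9 : ρ' ≫ w' = y ≫ a + hcd.lift (ρ' ≫ w' - y ≫ a) h8 ≫ c := by rw [hz]; abel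
      rw [← cancel_epi ρ, ← cancel_epi ρ', comp_zero, comp_zero, hw', ← Category.assoc, h9,
        Preadditive.add_comp, Category.assoc, Category.assoc, ← Category.assoc a, wab, zero_comp,
        comp_zero, zero_add, ← Category.assoc c b, cokernel.condition, comp_zero]
    have hepiψ : Epi ψ := by
      have h10 : cokernel.π (a ≫ d) ≫ ψ = kernel.lift g e weg := by
        rw [← cancel_mono (kernel.ι g), Category.assoc, hψ, hψ₀, kernel.lift_ι]
      haveI : Epi (kernel.lift g e weg) := heg.epi_kernelLift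
      haveI : Epi (cokernel.π (a ≫ d) ≫ ψ) := by rw [h10]; infer_instance
      exact epi_of_epi (cokernel.π (a ≫ d)) ψ
    have hex : (ShortComplex.mk φ ψ w).Exact := by
      rw [ShortComplex.exact_iff_exact_up_to_refinements]
      intro A x hx
      dsimp at x hx ⊢
      obtain ⟨A', ρ, hρ, v, hv⟩ := surjective_up_to_refinements_of_epi (cokernel.π (a ≫ d)) x
      have h10 : v ≫ e = 0 := by
        rw [← hψ₀, ← hψ, ← Category.assoc, ← Category.assoc, ← hv, Category.assoc ρ, hx,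
          comp_zero, zero_comp]
      obtain ⟨A'', ρ', hρ', w', hw'⟩ := hde.exact_up_to_refinements v h10
      refine ⟨A'', ρ' ≫ ρ, epi_comp _ _, w' ≫ b ≫ cokernel.π (c ≫ b), ?_⟩
      rw [Category.assoc, hv, ← Category.assoc ρ', hw', Category.assoc, Category.assoc,
        Category.assoc, hφ, hφ₀]
    exact { exact := hex, mono_f := hmonoφ, epi_g := hepiψ }

end Groth.Agent.S14498
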