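import Groth.Statements.S14500
import Groth.Agent.Lib.Helper23.IndCof.Quot

set_option autoImplicit false
universe v
open IndCof

namespace Groth.Agent.S14500

open CategoryTheory CategoryTheory.Limits in
/-- Let C be a small abelian category all of whose objects are Artinian and killed by some positive
integer. The ind-objects of cofinite type (those A in Ind C with A[n] isomorphic to an object of C
for every n ≥ 1) form an abelian subcategory of Ind C: for a morphism f : A ⟶ B between such
objects, the kernel and the cokernel of f in Ind C are of cofinite type. -/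
theorem result {C : Type v} [SmallCategory C] [Abelian C]
    (hart : ∀ X : C, IsArtinianObject X)
    (htor : ∀ X : C, ∃ n : ℕ, 0 < n ∧ n • 𝟙 X = 0)
    (A B : Ind C) (hA : ∀ n : ℕ, 0 < n → (Ind.yoneda (C := C)).essImage (kernel (n • 𝟙 A))) (hB : ∀ n : ℕ, 0 < n → (Ind.yoneda (C := C)).essImage (kernel (n • 𝟙 B))) (f : A ⟶ B) :
    (∀ n : ℕ, 0 < n → (Ind.yoneda (C := C)).essImage (kernel (n • 𝟙 (kernel f)))) ∧
      (∀ n : ℕ, 0 < n → (Ind.yoneda (C := C)).essImage (kernel (n • 𝟙 (cokernel f)))) := by
  have hA' := (Groth.Agent.Lib.Helper23.IndCof.cof_iff A).2 hA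
  have hB' := (Groth.Agent.Lib.Helper23.IndCof.cof_iff B).2 hB
  exact ⟨(Groth.Agent.Lib.Helper23.IndCof.cof_iff _).1 (hA'.ker hB' f),
    (Groth.Agent.Lib.Helper23.IndCof.cof_iff _).1 (hA'.coker hB' hart htor f)⟩

end Groth.Agent.S14500
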