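import Groth.Statements.S14504
import Mathlib

set_option autoImplicit false
universe u
open IntTh

namespace Groth.Agent.S14504

section Aux
open Matrix Module

section
variable {K : Type*} [Field K] {n d : ℕ}

/-- vectors `x` with `x ᵥ* A` supported in coordinates `< j` -/
def Nsub (A : Matrix (Fin d) (Fin n) K) (j : ℕ) : Submodule K (Fin d → K) where
  carrier := {x | ∀ l : Fin n, j ≤ (l : ℕ) → (x ᵥ* A) l = 0}
  add_mem' := by
    intro x y hx hy l hl
    rw [Matrix.add_vecMul, Pi.add_apply, hx l hl, hy l hl, add_zero]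
  zero_mem' := by intro l _; simp
  smul_mem' := by
    intro c x hx l hl
    rw [Matrix.smul_vecMul, Pi.smul_apply, hx l hl, smul_zero]

lemma mem_Nsub {A : Matrix (Fin d) (Fin n) K} {j : ℕ} {x : Fin d → K} :
    x ∈ Nsub A j ↔ ∀ l : Fin n, j ≤ (l : ℕ) → (x ᵥ* A) l = 0 := Iff.rfl

lemma finrank_inter (A : Matrix (Fin d) (Fin n) K)
    (hA : LinearIndependent K (fun i : Fin d => A i))
    (V : ℕ → Submodule K (Fin n → K))
    (hV : ∀ (j : ℕ) (v : Fin n → K), v ∈ V j ↔ ∀ l : Fin n, j ≤ (l : ℕ) → v l = 0) (j : ℕ) :
    finrank K ↥(Submodule.span K (Set.range fun i : Fin d => A i) ⊓ V j) =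
      finrank K (Nsub A j) := by
  have hinj : Function.Injective A.vecMulLinear := Matrix.vecMul_injective_iff.2 hA
  have hrange : LinearMap.range A.vecMulLinear = Submodule.span K (Set.range fun i : Fin d => A i) :=
    _root_.range_vecMulLinear A
  have hcomap : Submodule.comap A.vecMulLinear (V j) = Nsub A j := by
    ext x
    rw [Submodule.mem_comap, hV, mem_Nsub]
    rfl
  rw [← hrange, ← Submodule.map_comap_eq, hcomap]
  exact (LinearEquiv.finrank_eq (Submodule.equivMapOfInjective A.vecMulLinear hinj (Nsub A j))).symm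

lemma fwd (A : Matrix (Fin d) (Fin n) K) (j : ℕ) (i : Fin d) (J : Fin d → Fin n)
    (hJ : StrictMono J) (hj : j ≤ (J i : ℕ)) (hdet : (A.submatrix id J).det ≠ 0) :
    finrank K (Nsub A j) ≤ (i : ℕ) := by
  set B := A.submatrix id J with hB
  have hunit : IsUnit B := (Matrix.isUnit_iff_isUnit_det B).2 (isUnit_iff_ne_zero.2 hdet)
  have hinj : Function.Injective B.vecMulLinear := Matrix.vecMul_injective_of_isUnit hunit
  have hBA : ∀ (x : Fin d → K) (i' : Fin d), (x ᵥ* B) i' = (x ᵥ* A) (J i') := fun x i' => rfl
  let g : (Fin d → K) →ₗ[K] (Fin (i : ℕ) → K) :=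
    LinearMap.funLeft K K (Fin.castLE i.2.le : Fin (i : ℕ) → Fin d)
  let h : Nsub A j →ₗ[K] (Fin (i : ℕ) → K) := g ∘ₗ B.vecMulLinear ∘ₗ (Nsub A j).subtype
  have hh : Function.Injective h := by
    rw [← LinearMap.ker_eq_bot, LinearMap.ker_eq_bot']
    intro x hx
    apply Subtype.ext
    apply hinj
    rw [Submodule.coe_zero, map_zero]
    funext i'
    change (x.1 ᵥ* B) i' = 0
    by_cases hi' : (i' : ℕ) < i
    · have := congrFun hx ⟨i', hi'⟩
      exact this
    · rw [hBA]
      apply x.2
      have : J i ≤ J i' := hJ.monotone (by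
        rw [Fin.le_def]; omega)
      have : (J i : ℕ) ≤ (J i' : ℕ) := this
      omega
  have := LinearMap.finrank_le_finrank_of_injective hh
  simpa using this

open Classical in
lemma bwd (A : Matrix (Fin d) (Fin n) K) (hA : LinearIndependent K (fun i : Fin d => A i))
    (j : ℕ) (i : Fin d) (hN : finrank K (Nsub A j) ≤ (i : ℕ)) :
    ∃ J : Fin d → Fin n, StrictMono J ∧ j ≤ (J i : ℕ) ∧ (A.submatrix id J).det ≠ 0 := by
  set col : Fin n → (Fin d → K) := A.col with hcol
  have hdot : ∀ (x : Fin d → K) (l : Fin n), (x ᵥ* A) l = x ⬝ᵥ col l := fun x l => rfl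
  -- step 1, 2 : independent columns
  obtain ⟨b₁, hb₁S, -, hspan₁, hli₁⟩ := exists_linearIndepOn_extension (K := K) (v := col)
    (s := ∅) (t := {l : Fin n | j ≤ (l : ℕ)}) (linearIndepOn_empty K col) (Set.empty_subset _)
  obtain ⟨b, -, hb₁b, hspan, hli⟩ := exists_linearIndepOn_extension (K := K) (v := col)
    hli₁ (Set.subset_univ b₁)
  -- step 3 : columns span everything
  have hcolspan : Submodule.span K (Set.range col) = ⊤ := by
    apply Submodule.eq_top_of_finrank_eq
    rw [hcol, ← Matrix.rank_eq_finrank_span_cols, LinearIndependent.rank_matrix hA]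
    simp
  have hbspan : Submodule.span K (col '' b) = ⊤ := by
    rw [eq_top_iff, ← hcolspan, Submodule.span_le, ← Set.image_univ]
    exact hspan
  -- step 5 : cardinality
  have hliF : LinearIndependent K (fun x : b => col x) := hli
  have hcardb : Fintype.card b = d := by
    rw [linearIndependent_iff_card_eq_finrank_span.mp hliF, Set.finrank]
    have : Set.range (fun x : b => col x) = col '' b := by
      ext y; simp
    rw [this, hbspan, finrank_top]
    simp
  set T : Finset (Fin n) := b.toFinset with hT
  have hcardT : T.card = d := by rw [hT, Set.toFinset_card, hcardb]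
  set J : Fin d ↪o Fin n := T.orderEmbOfFin hcardT with hJ
  have hJmem : ∀ i', J i' ∈ b := fun i' => by
    have := Finset.orderEmbOfFin_mem T hcardT i'
    exact (Set.mem_toFinset (s := b)).1 this
  refine ⟨J, J.strictMono, ?_, ?_⟩
  · -- step 8
    by_contra hlt
    push Not at hlt
    -- count
    have hcount : d ≤ Fintype.card b₁ + i := by
      let f : (Fin d → K) →ₗ[K] (b₁ → K) :=
        LinearMap.funLeft K K (Subtype.val : b₁ → Fin n) ∘ₗ A.vecMulLinear
      have hker : LinearMap.ker f ≤ Nsub A j := by
        intro x hx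
        rw [LinearMap.mem_ker] at hx
        rw [mem_Nsub]
        intro l hl
        have hmem : col l ∈ Submodule.span K (col '' b₁) := hspan₁ ⟨l, hl, rfl⟩
        rw [hdot]
        refine Submodule.span_induction (p := fun y _ => x ⬝ᵥ y = 0) ?_ ?_ ?_ ?_ hmem
        · rintro _ ⟨l', hl', rfl⟩
          have := congrFun hx ⟨l', hl'⟩
          exact this
        · simp
        · intro y z _ _ hy hz
          rw [dotProduct_add, hy, hz, add_zero]
        · intro c y _ hy
          rw [dotProduct_smul, hy, smul_zero]
      have h1 := LinearMap.finrank_range_add_finrank_ker f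
      have h2 : finrank K (LinearMap.range f) ≤ Fintype.card b₁ := by
        have := Submodule.finrank_le (LinearMap.range f)
        simpa using this
      have h3 : finrank K (LinearMap.ker f) ≤ finrank K (Nsub A j) := Submodule.finrank_mono hker
      have h4 : finrank K (Fin d → K) = d := by simp
      omega
    -- the elements of b₁ are among J i' with i < i'
    have hsub : b₁.toFinset ⊆ (Finset.Ioi i).image J := by
      intro l hl
      rw [Set.mem_toFinset] at hl
      have hlT : l ∈ T := by rw [hT, Set.mem_toFinset]; exact hb₁b hl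
      have hlr : l ∈ Set.range J := by
        rw [hJ, Finset.range_orderEmbOfFin]; exact hlT
      obtain ⟨i', rfl⟩ := hlr
      rw [Finset.mem_image]
      refine ⟨i', ?_, rfl⟩
      rw [Finset.mem_Ioi]
      have hj' : j ≤ (J i' : ℕ) := hb₁S hl
      have : J i < J i' := by
        rw [Fin.lt_def]; omega
      exact J.lt_iff_lt.1 this
    have hc := Finset.card_le_card hsub
    rw [Set.toFinset_card] at hc
    have hc2 := Finset.card_image_le (s := Finset.Ioi i) (f := J)
    rw [Fin.card_Ioi] at hc2
    have := i.2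
    omega
  · -- step 7
    have hcols : LinearIndependent K (A.submatrix id J).col := by
      have := hliF.comp (fun i' : Fin d => (⟨J i', hJmem i'⟩ : b)) (by
        intro a a' h
        have h' : J a = J a' := by
          have := Subtype.ext_iff.1 h
          exact this
        exact J.injective h')
      exact this
    have hunit := Matrix.linearIndependent_cols_iff_isUnit.1 hcols
    exact ((Matrix.isUnit_iff_isUnit_det _).1 hunit).ne_zero

end


theorem main (K : Type u) [Field K] (n d : ℕ)
    (hdn : d ≤ n) (V : ℕ → Submodule K (Fin n → K))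
    (hV : ∀ (j : ℕ) (v : Fin n → K), v ∈ V j ↔ ∀ l : Fin n, j ≤ (l : ℕ) → v l = 0)
    (lam : Fin d → ℕ) (hlam : Antitone lam) (A : Matrix (Fin d) (Fin n) K)
    (hA : LinearIndependent K (fun i : Fin d => A i)) :
    (∀ i : Fin d, (i : ℕ) + 1 ≤
        Module.finrank K ↥(Submodule.span K (Set.range fun i : Fin d => A i) ⊓
          V (n - d + ((i : ℕ) + 1) - lam i))) ↔
      ∀ J : Fin d → Fin n, StrictMono J →
        (∃ i : Fin d, n - d + ((i : ℕ) + 1) - lam i < (J i : ℕ) + 1) →
          (A.submatrix id J).det = 0 := by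
  simp_rw [finrank_inter A hA V hV]
  constructor
  · intro h J hJ ⟨i, hi⟩
    by_contra hdet
    have := fwd A (n - d + ((i : ℕ) + 1) - lam i) i J hJ (by omega) hdet
    have := h i
    omega
  · intro h i
    by_contra hlt
    push Not at hlt
    obtain ⟨J, hJ, hj, hdet⟩ := bwd A hA (n - d + ((i : ℕ) + 1) - lam i) i (by omega)
    exact hdet (h J hJ ⟨i, by omega⟩)

end Aux

/-- Let K be a field, d ≤ n, λ = (λ₁ ≥ ⋯ ≥ λ_d) a non-increasing sequence of natural numbers, d_i = n −
d + i − λ_i, and V_j ⊆ K^n the span of the first j standard basis vectors. For a d × n matrix A over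
K with linearly independent rows spanning the subspace W: one has dim(W ∩ V_{d_i}) ≥ i for every i =
1, …, d if and only if every d × d minor of A taken on strictly increasing columns j₁ < ⋯ < j_d
(1-indexed) with j_i > d_i for some i vanishes. (Indices are 0-based in the formal statement: row i
: Fin d stands for i + 1 and column l : Fin n for l + 1.) -/
theorem result (K : Type u) [Field K] (n d : ℕ)
    (hdn : d ≤ n) (V : ℕ → Submodule K (Fin n → K))
    (hV : ∀ (j : ℕ) (v : Fin n → K), v ∈ V j ↔ ∀ l : Fin n, j ≤ (l : ℕ) → v l = 0)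
    (lam : Fin d → ℕ) (hlam : Antitone lam) (A : Matrix (Fin d) (Fin n) K)
    (hA : LinearIndependent K (fun i : Fin d => A i)) :
    (∀ i : Fin d, (i : ℕ) + 1 ≤
        Module.finrank K ↥(Submodule.span K (Set.range fun i : Fin d => A i) ⊓
          V (n - d + ((i : ℕ) + 1) - lam i))) ↔
      ∀ J : Fin d → Fin n, StrictMono J →
        (∃ i : Fin d, n - d + ((i : ℕ) + 1) - lam i < (J i : ℕ) + 1) →
          (A.submatrix id J).det = 0 := by
  exact main K n d hdn V hV lam hlam A hA

end Groth.Agent.S14504
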