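import Groth.Statements.S14509
import Mathlib
-- import your own Groth.Agent.* helpers here

set_option autoImplicit false
set_option linter.unusedSectionVars false
set_option linter.style.haveILetI false
open IntTh

namespace Groth.Agent.S14509

open PowerSeries

/-- `e^{at}` -/
noncomputable abbrev E (a : ℚ) : PowerSeries ℚ := rescale a (exp ℚ)

theorem E_mul (a b : ℚ) : E a * E b = E (a + b) := exp_mul_exp_eq_exp_add a b

theorem E_zero : E 0 = 1 := by
  ext n
  simp only [E, coeff_rescale, coeff_exp, coeff_one]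
  by_cases hn : n = 0
  · subst hn; simp
  · simp [hn]

theorem E_one : E 1 = exp ℚ := by simp [E]

theorem constantCoeff_E (a : ℚ) : constantCoeff (E a) = 1 := by
  rw [← coeff_zero_eq_constantCoeff_apply]
  simp [E, coeff_rescale, coeff_exp]

theorem derivative_E (a : ℚ) : d⁄dX ℚ (E a) = C a * E a := by
  ext n
  rw [coeff_derivative, coeff_C_mul]
  simp only [E, coeff_rescale, coeff_exp]
  have h : ((n + 1).factorial : ℚ) = (n + 1 : ℚ) * (n.factorial : ℚ) := by
    rw [Nat.factorial_succ]; push_cast; ring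
  have h1 : (n.factorial : ℚ) ≠ 0 := Nat.cast_ne_zero.2 n.factorial_ne_zero
  have h2 : ((n : ℚ) + 1) ≠ 0 := by positivity
  simp only [Algebra.algebraMap_self, RingHom.id_apply, h]
  field_simp
  ring

/-- `f (1 - e^{-t}) = t` -/
theorem f_mul (f : PowerSeries ℚ) (hf : f * (exp ℚ - 1) = X * exp ℚ) : f * (1 - E (-1)) = X := by
  have h1 : exp ℚ * E (-1) = 1 := by
    rw [← E_one, E_mul]; simp [E_zero]
  calc f * (1 - E (-1)) = f * (exp ℚ - 1) * E (-1) := by
        rw [mul_assoc, sub_mul, h1, one_mul]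
    _ = X * (exp ℚ * E (-1)) := by rw [hf, mul_assoc]
    _ = X := by rw [h1, mul_one]


theorem one_sub_E : (1 : PowerSeries ℚ) - E (-1) = X * PowerSeries.mk (fun n => - (-1 : ℚ) ^ (n + 1) / ((n + 1).factorial : ℚ)) := by
  ext n
  cases n with
  | zero =>
    rw [coeff_zero_X_mul, map_sub, coeff_zero_eq_constantCoeff_apply,
      coeff_zero_eq_constantCoeff_apply, constantCoeff_E, map_one, sub_self]
  | succ n =>
    rw [coeff_succ_X_mul, coeff_mk]
    simp only [E, map_sub, coeff_one, coeff_rescale, coeff_exp, Algebra.algebraMap_self,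
      RingHom.id_apply, Nat.succ_ne_zero, if_false]
    ring

theorem constantCoeff_f (f : PowerSeries ℚ) (hf : f * (exp ℚ - 1) = X * exp ℚ) :
    constantCoeff f = 1 := by
  have h := f_mul f hf
  rw [one_sub_E, ← mul_assoc, mul_comm f X, mul_assoc] at h
  have h2 : f * PowerSeries.mk (fun n => - (-1 : ℚ) ^ (n + 1) / ((n + 1).factorial : ℚ)) = 1 := by
    have hX : (X : PowerSeries ℚ) ≠ 0 := X_ne_zero
    exact mul_left_cancel₀ hX (by rw [h, mul_one])
  have h3 := congrArg constantCoeff h2
  rw [map_mul, map_one] at h3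
  have h4 : constantCoeff (PowerSeries.mk (fun n => - (-1 : ℚ) ^ (n + 1) / ((n + 1).factorial : ℚ))) = 1 := by
    rw [← coeff_zero_eq_constantCoeff_apply, coeff_mk]
    simp
  rw [h4, mul_one] at h3
  exact h3

/-- the differential equation `t f' = f - e^{-t} f²` -/
theorem ode (f : PowerSeries ℚ) (hf : f * (exp ℚ - 1) = X * exp ℚ) :
    X * d⁄dX ℚ f = f - E (-1) * f ^ 2 := by
  have h := f_mul f hf
  have h1 := congrArg (d⁄dX ℚ) h
  rw [Derivation.leibniz, derivative_X, map_sub, derivative_one, derivative_E, zero_sub,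
    smul_eq_mul, smul_eq_mul] at h1
  -- h1 : f * -(C (-1) * E (-1)) + (1 - E (-1)) * f' = 1
  have h2 : (1 - E (-1)) * d⁄dX ℚ f = 1 - f * E (-1) := by
    have : f * -(C (-1 : ℚ) * E (-1)) = f * E (-1) := by
      rw [map_neg, map_one]; ring
    rw [this] at h1
    linear_combination h1
  calc X * d⁄dX ℚ f = f * ((1 - E (-1)) * d⁄dX ℚ f) := by rw [← h]; ring
    _ = f - E (-1) * f ^ 2 := by rw [h2]; ring

/-- `[t^n] e^{-t} f^{n+1} = 0` for `n ≥ 1` -/
theorem coeff_neg_one (f : PowerSeries ℚ) (hf : f * (exp ℚ - 1) = X * exp ℚ) (n : ℕ) :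
    coeff (n + 1) (E (-1) * f ^ (n + 2)) = 0 := by
  have h1 : E (-1) * f ^ (n + 2) = f ^ (n + 1) - X * (f ^ n * d⁄dX ℚ f) := by
    have := ode f hf
    calc E (-1) * f ^ (n + 2) = f ^ n * (E (-1) * f ^ 2) := by ring
      _ = f ^ n * (f - X * d⁄dX ℚ f) := by rw [this]; ring
      _ = f ^ (n + 1) - X * (f ^ n * d⁄dX ℚ f) := by ring
  have h2 : d⁄dX ℚ (f ^ (n + 1)) = C ((n : ℚ) + 1) * (f ^ n * d⁄dX ℚ f) := by
    rw [Derivation.leibniz_pow, Nat.add_sub_cancel, smul_eq_mul, nsmul_eq_mul]
    push_cast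
    rw [map_add, map_one, map_natCast]
  have h3 : coeff (n + 1) (X * (f ^ n * d⁄dX ℚ f)) = coeff (n + 1) (f ^ (n + 1)) := by
    rw [coeff_succ_X_mul]
    have := congrArg (coeff n) h2
    rw [coeff_derivative, coeff_C_mul] at this
    have hn : ((n : ℚ) + 1) ≠ 0 := by positivity
    field_simp at this ⊢
    linarith
  rw [h1, map_sub, h3, sub_self]

/-- the recurrence in `m` -/
theorem recurrence (f : PowerSeries ℚ) (hf : f * (exp ℚ - 1) = X * exp ℚ) (a : ℚ) (n : ℕ) :
    coeff (n + 1) (E a * f ^ (n + 2)) - coeff (n + 1) (E (a - 1) * f ^ (n + 2)) =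
      coeff n (E a * f ^ (n + 1)) := by
  have h := f_mul f hf
  have h1 : E (a - 1) = E a * E (-1) := by rw [E_mul]; ring_nf
  have h2 : E a * f ^ (n + 2) - E (a - 1) * f ^ (n + 2) = (E a * f ^ (n + 1)) * X := by
    rw [h1, ← h]; ring
  rw [← map_sub, h2, coeff_succ_mul_X]

theorem main (f : PowerSeries ℚ) (hf : f * (exp ℚ - 1) = X * exp ℚ) :
    ∀ (n : ℕ) (m : ℤ), coeff n (E (m : ℚ) * f ^ (n + 1)) = ((Ring.choose (m + n : ℤ) n : ℤ) : ℚ) := by
  intro n
  induction n with
  | zero =>
    intro m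
    rw [coeff_zero_eq_constantCoeff_apply, map_mul, constantCoeff_E, zero_add, pow_one,
      constantCoeff_f f hf, Ring.choose_zero_right]
    simp
  | succ n ih =>
    set G : ℤ → ℚ := fun m => coeff (n + 1) (E (m : ℚ) * f ^ (n + 1 + 1)) -
      ((Ring.choose (m + (n + 1 : ℕ) : ℤ) (n + 1) : ℤ) : ℚ) with hG
    have key : ∀ m : ℤ, G m = G (m - 1) := by
      intro m
      have h1 := recurrence f hf (m : ℚ) n
      rw [ih m] at h1
      have h2 : Ring.choose (m + (n + 1 : ℕ) : ℤ) (n + 1) =
          Ring.choose (m + n : ℤ) n + Ring.choose (m - 1 + (n + 1 : ℕ) : ℤ) (n + 1) := by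
        have : (m + (n + 1 : ℕ) : ℤ) = (m + n) + 1 := by push_cast; ring
        rw [this, Ring.choose_succ_succ]
        congr 2
        push_cast; ring
      have h3 : ((m - 1 : ℤ) : ℚ) = (m : ℚ) - 1 := by push_cast; ring
      simp only [hG]
      rw [h2, h3]
      push_cast
      linarith
    have hbase : G (-1) = 0 := by
      simp only [hG]
      have h1 := coeff_neg_one f hf n
      have h2 : ((-1 : ℤ) : ℚ) = -1 := by norm_num
      rw [h2, h1]
      have h3 : (-1 + (n + 1 : ℕ) : ℤ) = (n : ℤ) := by push_cast; ring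
      rw [h3, Ring.choose_natCast, Nat.choose_succ_self]
      simp
    have hall : ∀ m : ℤ, G m = 0 := by
      intro m
      refine Int.inductionOn' (motive := fun m => G m = 0) m (-1) hbase ?_ ?_
      · intro k _ ihk
        rw [key (k + 1), add_sub_cancel_right]
        exact ihk
      · intro k _ ihk
        rw [← key k]
        exact ihk
    intro m
    have := hall m
    simp only [hG] at this
    push_cast at this ⊢
    linarith

/-- Let f(t) ∈ ℚ⟦t⟧ be the Todd series, characterised by f(t)·(e^t − 1) = t·e^t, i.e. f(t) = t/(1 −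
e^(−t)). Then for every m ∈ ℤ and n ∈ ℕ the coefficient of t^n in e^(mt)·f(t)^(n+1) is the binomial
coefficient C(m+n, n), understood as the polynomial (m+n)(m+n−1)⋯(m+1)/n! in m (so for all integers
m). (The published statement is the Hirzebruch–Riemann–Roch formula χ(E) = ∫ ch(E)·td for vector
bundles on projective n-space; this row is the identity of formal power series to which its proof
reduces it for E = O(m): the degree-n part of ch(O(m))·td(P^n) = e^(mζ)(ζ/(1 − e^(−ζ)))^(n+1)
against χ(P^n, O(m)) = C(m+n, n).) -/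
theorem result (f : PowerSeries ℚ)
    (hf : f * (PowerSeries.exp ℚ - 1) = PowerSeries.X * PowerSeries.exp ℚ) (m : ℤ) (n : ℕ) :
    PowerSeries.coeff n (PowerSeries.rescale (m : ℚ) (PowerSeries.exp ℚ) * f ^ (n + 1)) =
      ((Ring.choose (m + n : ℤ) n : ℤ) : ℚ) := by
  exact main f hf n m

end Groth.Agent.S14509
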