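import Groth.Statements.S14506
import Mathlib
import Groth.Agent.S14509
-- import your own Groth.Agent.* helpers here

set_option autoImplicit false
set_option linter.unusedSectionVars false
set_option linter.style.haveILetI false
open IntTh

namespace Groth.Agent.S14506

open PowerSeries

/-- the coefficient conditions determine the series -/
theorem unique_of_coeff (f g : PowerSeries ℚ)
    (hf : ∀ n : ℕ, coeff n (f ^ (n + 1)) = 1) (hg : ∀ n : ℕ, coeff n (g ^ (n + 1)) = 1) :
    f = g := by
  have hf0 : constantCoeff f = 1 := by
    have := hf 0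
    rwa [zero_add, pow_one, coeff_zero_eq_constantCoeff_apply] at this
  have hg0 : constantCoeff g = 1 := by
    have := hg 0
    rwa [zero_add, pow_one, coeff_zero_eq_constantCoeff_apply] at this
  ext n
  induction n using Nat.strong_induction_on with
  | _ n ih =>
    have hdvd : (X : PowerSeries ℚ) ^ n ∣ f - g := by
      rw [X_pow_dvd_iff]
      intro m hm
      rw [map_sub, ih m hm, sub_self]
    obtain ⟨u, hu⟩ := hdvd
    set s : PowerSeries ℚ := ∑ i ∈ Finset.range (n + 1), f ^ i * g ^ (n + 1 - 1 - i) with hs
    have h1 : s * (f - g) = f ^ (n + 1) - g ^ (n + 1) := geom_sum₂_mul f g (n + 1)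
    have h2 : coeff n (s * (f - g)) = 0 := by
      rw [h1, map_sub, hf n, hg n, sub_self]
    have h3 : s * (f - g) = X ^ n * (s * u) := by rw [hu]; ring
    have h4 : coeff n (X ^ n * (s * u)) = constantCoeff s * constantCoeff u := by
      have := coeff_X_pow_mul (s * u) n 0
      rw [zero_add] at this
      rw [this, coeff_zero_eq_constantCoeff_apply, map_mul]
    have h5 : constantCoeff s = (n : ℚ) + 1 := by
      rw [hs, map_sum]
      simp only [map_mul, map_pow, hf0, hg0, one_pow, mul_one, Finset.sum_const, Finset.card_range,
        nsmul_eq_mul]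
      push_cast
      ring
    have h6 : constantCoeff u = coeff n f - coeff n g := by
      have := coeff_X_pow_mul u n 0
      rw [zero_add, ← hu, map_sub] at this
      rw [← coeff_zero_eq_constantCoeff_apply, ← this]
    rw [h3, h4, h5, h6] at h2
    have hn : ((n : ℚ) + 1) ≠ 0 := by positivity
    have := (mul_eq_zero.1 h2).resolve_left hn
    linarith

/-- `(e^t - 1)/t` -/
noncomputable def e1 : PowerSeries ℚ := PowerSeries.mk fun n => 1 / ((n + 1).factorial : ℚ)

theorem X_mul_e1 : X * e1 = exp ℚ - 1 := by
  ext n
  cases n with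
  | zero =>
    rw [coeff_zero_X_mul, map_sub, coeff_zero_eq_constantCoeff_apply,
      coeff_zero_eq_constantCoeff_apply, constantCoeff_exp, map_one, sub_self]
  | succ n =>
    rw [coeff_succ_X_mul, e1, coeff_mk, map_sub, coeff_exp, coeff_one]
    simp

theorem constantCoeff_e1 : constantCoeff e1 = 1 := by
  rw [← coeff_zero_eq_constantCoeff_apply, e1, coeff_mk]
  simp

/-- A formal power series f(t) ∈ ℚ⟦t⟧ satisfies, for every n ≥ 0, that the coefficient of t^n in
f(t)^(n+1) is 1, if and only if f(t)·(e^t − 1) = t·e^t, that is f(t) = t/(1 − e^(−t)) = 1 + t/2 +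
t²/12 − ⋯. (The published statement is the existence and uniqueness of the Todd class of vector
bundles normalised by multiplicativity, td(O) = 1 and the Riemann–Roch identity for the structure
sheaf of every projective space; this row is the power-series fact its proof establishes: the
normalisation forces exactly these coefficient conditions on the one-variable series.) -/
theorem result (f : PowerSeries ℚ) :
    (∀ n : ℕ, PowerSeries.coeff n (f ^ (n + 1)) = 1) ↔
      f * (PowerSeries.exp ℚ - 1) = PowerSeries.X * PowerSeries.exp ℚ := by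
  have hdir : ∀ g : PowerSeries ℚ, g * (exp ℚ - 1) = X * exp ℚ →
      ∀ n : ℕ, coeff n (g ^ (n + 1)) = 1 := by
    intro g hg n
    have := Groth.Agent.S14509.main g hg n 0
    rw [Int.cast_zero, Groth.Agent.S14509.E_zero, one_mul, zero_add, Ring.choose_natCast,
      Nat.choose_self] at this
    simpa using this
  constructor
  · intro h
    -- the Todd series
    set f₀ : PowerSeries ℚ := exp ℚ * e1⁻¹ with hf₀
    have h0 : f₀ * (exp ℚ - 1) = X * exp ℚ := by
      rw [hf₀, ← X_mul_e1]
      have : e1 * e1⁻¹ = 1 := PowerSeries.mul_inv_cancel e1 (by rw [constantCoeff_e1]; exact one_ne_zero)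
      calc exp ℚ * e1⁻¹ * (X * e1) = X * exp ℚ * (e1 * e1⁻¹) := by ring
        _ = X * exp ℚ := by rw [this, mul_one]
    rw [unique_of_coeff f f₀ h (hdir f₀ h0)]
    exact h0
  · exact hdir f

end Groth.Agent.S14506
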