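import Groth.Statements.S1458
import Mathlib.RingTheory.Finiteness.ModuleFinitePresentation
import Mathlib.LinearAlgebra.TensorProduct.RightExactness
-- import your own Groth.Agent.* helpers here

set_option autoImplicit false
universe u
open FlatMor

namespace Groth.Agent.S1458

section Helpers

open TensorProduct

variable {A : Type u} [CommRing A]

lemma exists_sum_tmul {M A' : Type*} [AddCommGroup M] [Module A M] [CommRing A'] [Algebra A A']
    {m : ℕ} (g : Fin m → M) (hg : Submodule.span A (Set.range g) = ⊤) (w : M ⊗[A] A') :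
    ∃ y : Fin m → A', w = ∑ l, g l ⊗ₜ[A] y l := by
  induction w using TensorProduct.induction_on with
  | zero => exact ⟨0, by simp⟩
  | tmul x a =>
    have hx : x ∈ Submodule.span A (Set.range g) := hg ▸ Submodule.mem_top
    obtain ⟨c, rfl⟩ := (Submodule.mem_span_range_iff_exists_fun A).mp hx
    refine ⟨fun l => c l • a, ?_⟩
    rw [TensorProduct.sum_tmul]
    simp [TensorProduct.smul_tmul]
  | add w₁ w₂ h₁ h₂ =>
    obtain ⟨y₁, rfl⟩ := h₁
    obtain ⟨y₂, rfl⟩ := h₂
    exact ⟨y₁ + y₂, by simp [TensorProduct.tmul_add, Finset.sum_add_distrib]⟩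

lemma kernel_lemma {B A' : Type*} [AddCommGroup B] [Module A B] [CommRing A'] [Algebra A A']
    {n m : ℕ} (b : Fin n → B) (hb : Submodule.span A (Set.range b) = ⊤)
    (r : Fin m → LinearMap.ker (Fintype.linearCombination A b))
    (hr : Submodule.span A (Set.range r) = ⊤)
    (d : Fin n → A') (hd : ∑ k, b k ⊗ₜ[A] d k = 0) :
    ∃ y : Fin m → A', ∀ k, d k = ∑ l, (r l).1 k • y l := by
  classical
  have hπ : Function.Surjective (Fintype.linearCombination A b) := by
    rw [← LinearMap.range_eq_top, Fintype.range_linearCombination, hb]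
  have hex : Function.Exact
      ((LinearMap.ker (Fintype.linearCombination A b)).subtype.rTensor A')
      ((Fintype.linearCombination A b).rTensor A') :=
    rTensor_exact A' (LinearMap.exact_subtype_ker_map (Fintype.linearCombination A b)) hπ
  set z : (Fin n → A) ⊗[A] A' := ∑ k, (Pi.single k 1 : Fin n → A) ⊗ₜ[A] d k with hz
  have hz0 : (Fintype.linearCombination A b).rTensor A' z = 0 := by
    simpa [z] using hd
  obtain ⟨w, hw⟩ := (hex z).mp hz0
  obtain ⟨y, rfl⟩ := exists_sum_tmul r hr w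
  refine ⟨y, fun k => ?_⟩
  let ev : (Fin n → A) ⊗[A] A' →ₗ[A] A' :=
    TensorProduct.lift ((LinearMap.lsmul A A').comp (LinearMap.proj k))
  have h2 := congrArg ev hw
  simp only [map_sum, LinearMap.rTensor_tmul, Submodule.subtype_apply, z] at h2
  simp only [ev, TensorProduct.lift.tmul, LinearMap.comp_apply, LinearMap.proj_apply,
    LinearMap.lsmul_apply, Pi.single_apply] at h2
  rw [h2]
  simp

variable {B : Type u} [CommRing B] [Algebra A B]

lemma sq_formula {A' : Type*} [CommRing A'] [Algebra A A'] {n : ℕ} (b : Fin n → B)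
    (c : Fin n → Fin n → Fin n → A) (hc : ∀ i j, b i * b j = ∑ k, c i j k • b k)
    (a : Fin n → A') :
    (∑ i, b i ⊗ₜ[A] a i) * (∑ j, b j ⊗ₜ[A] a j) =
      ∑ k, b k ⊗ₜ[A] (∑ i, ∑ j, c i j k • (a i * a j)) := by
  simp only [Finset.sum_mul_sum, Algebra.TensorProduct.tmul_mul_tmul, hc, TensorProduct.sum_tmul,
    TensorProduct.smul_tmul, TensorProduct.tmul_sum]
  calc _ = ∑ i, ∑ k, ∑ j, b k ⊗ₜ[A] (c i j k • (a i * a j)) :=
        Finset.sum_congr rfl fun i _ => Finset.sum_comm
    _ = _ := Finset.sum_comm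

/-- The system of equations. -/
def Sol {n m : ℕ} (c : Fin n → Fin n → Fin n → A) (r : Fin m → (Fin n → A))
    {A' : Type*} [CommRing A'] [Algebra A A'] (a : Fin n → A') (y : Fin m → A') : Prop :=
  ∀ k, ∑ i, ∑ j, c i j k • (a i * a j) = a k + ∑ l, r l k • y l

lemma idem_of_sol {A' : Type*} [CommRing A'] [Algebra A A'] {n m : ℕ} (b : Fin n → B)
    (c : Fin n → Fin n → Fin n → A) (hc : ∀ i j, b i * b j = ∑ k, c i j k • b k)
    (r : Fin m → LinearMap.ker (Fintype.linearCombination A b))
    (a : Fin n → A') (y : Fin m → A') (h : Sol c (fun l => (r l).1) a y) :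
    IsIdempotentElem (∑ i, b i ⊗ₜ[A] a i) := by
  unfold IsIdempotentElem
  rw [sq_formula b c hc a]
  have h1 : ∑ k, b k ⊗ₜ[A] (∑ i, ∑ j, c i j k • (a i * a j)) =
      ∑ k, b k ⊗ₜ[A] (a k + ∑ l, (r l).1 k • y l) :=
    Finset.sum_congr rfl fun k _ => by rw [h k]
  rw [h1]
  simp only [TensorProduct.tmul_add, Finset.sum_add_distrib, add_eq_left, TensorProduct.tmul_sum]
  rw [Finset.sum_comm]
  refine Finset.sum_eq_zero fun l _ => ?_
  have hl : ∑ k, (r l).1 k • b k = 0 := (r l).2
  have h3 : ∑ k, b k ⊗ₜ[A] ((r l).1 k • y l) = (∑ k, (r l).1 k • b k) ⊗ₜ[A] y l := by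
    rw [TensorProduct.sum_tmul]
    exact Finset.sum_congr rfl fun k _ => (TensorProduct.smul_tmul _ _ _).symm
  rw [h3, hl, TensorProduct.zero_tmul]

lemma sol_of_idem {A' : Type*} [CommRing A'] [Algebra A A'] {n m : ℕ} (b : Fin n → B)
    (hb : Submodule.span A (Set.range b) = ⊤)
    (c : Fin n → Fin n → Fin n → A) (hc : ∀ i j, b i * b j = ∑ k, c i j k • b k)
    (r : Fin m → LinearMap.ker (Fintype.linearCombination A b))
    (hr : Submodule.span A (Set.range r) = ⊤)
    (e : B ⊗[A] A') (he : IsIdempotentElem e) :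
    ∃ (a : Fin n → A') (y : Fin m → A'), e = ∑ i, b i ⊗ₜ[A] a i ∧ Sol c (fun l => (r l).1) a y := by
  obtain ⟨a, rfl⟩ := exists_sum_tmul b hb e
  unfold IsIdempotentElem at he
  rw [sq_formula b c hc a] at he
  have hd : ∑ k, b k ⊗ₜ[A] ((∑ i, ∑ j, c i j k • (a i * a j)) - a k) = 0 := by
    simp only [TensorProduct.tmul_sub, Finset.sum_sub_distrib, he, sub_self]
  obtain ⟨y, hy⟩ := kernel_lemma b hb r hr _ hd
  exact ⟨a, y, rfl, fun k => by rw [← hy k]; ring⟩

end Helpers


open TensorProduct in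
/-- Let A → B be a finite ring map of finite presentation. Then there are a finitely presented A-algebra
A_u and an idempotent e_u of B ⊗_A A_u such that for every A-algebra A' and every idempotent e of B
⊗_A A' there is an A-algebra map A_u → A' whose induced map B ⊗ A_u → B ⊗ A' sends e_u to e. -/
theorem result {A B : Type u} [CommRing A] [CommRing B] [Algebra A B] [Module.Finite A B] [Algebra.FinitePresentation A B] :
    ∃ (Au : Type u) (_ : CommRing Au) (_ : Algebra A Au) (eu : B ⊗[A] Au), Algebra.FinitePresentation A Au ∧ IsIdempotentElem eu ∧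
      ∀ (A' : Type u) [CommRing A'] [Algebra A A'] (e : B ⊗[A] A'), IsIdempotentElem e →
        ∃ φ : Au →ₐ[A] A', Algebra.TensorProduct.map (AlgHom.id A B) φ eu = e := by
  classical
  have hfp : Module.FinitePresentation A B :=
    Module.FinitePresentation.of_finite_of_finitePresentation A B
  obtain ⟨n, b, hb⟩ := Module.Finite.exists_fin (R := A) (M := B)
  have hπ : Function.Surjective (Fintype.linearCombination A b) := by
    rw [← LinearMap.range_eq_top, Fintype.range_linearCombination, hb]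
  have hK : (LinearMap.ker (Fintype.linearCombination A b)).FG :=
    Module.FinitePresentation.fg_ker _ hπ
  have : Module.Finite A (LinearMap.ker (Fintype.linearCombination A b)) :=
    Module.Finite.iff_fg.mpr hK
  obtain ⟨m, r, hr⟩ := Module.Finite.exists_fin (R := A)
    (M := LinearMap.ker (Fintype.linearCombination A b))
  choose c hc using fun i j => hπ (b i * b j)
  have hc' : ∀ i j, b i * b j = ∑ k, c i j k • b k := fun i j => (hc i j).symm
  let rel : Fin n → MvPolynomial (Fin n ⊕ Fin m) A := fun k =>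
    (∑ i, ∑ j, c i j k • (MvPolynomial.X (Sum.inl i) * MvPolynomial.X (Sum.inl j))) -
      (MvPolynomial.X (Sum.inl k) + ∑ l, (r l).1 k • MvPolynomial.X (Sum.inr l))
  let I : Ideal (MvPolynomial (Fin n ⊕ Fin m) A) := Ideal.span (Set.range rel)
  let x : Fin n → MvPolynomial (Fin n ⊕ Fin m) A ⧸ I :=
    fun i => Ideal.Quotient.mk I (MvPolynomial.X (Sum.inl i))
  let yv : Fin m → MvPolynomial (Fin n ⊕ Fin m) A ⧸ I :=
    fun l => Ideal.Quotient.mk I (MvPolynomial.X (Sum.inr l))
  have hsol : Sol c (fun l => (r l).1) x yv := by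
    intro k
    have h0 : Ideal.Quotient.mkₐ A I (rel k) = 0 := by
      simp only [Ideal.Quotient.mkₐ_eq_mk]
      exact Ideal.Quotient.eq_zero_iff_mem.mpr (Ideal.subset_span ⟨k, rfl⟩)
    simp only [rel, map_sub, map_add, map_sum, map_smul, map_mul, Ideal.Quotient.mkₐ_eq_mk] at h0
    exact sub_eq_zero.mp h0
  refine ⟨MvPolynomial (Fin n ⊕ Fin m) A ⧸ I, inferInstance, inferInstance, ∑ i, b i ⊗ₜ[A] x i, ?_,
    idem_of_sol b c hc' r x yv hsol, ?_⟩
  · exact Algebra.FinitePresentation.quotient (Submodule.fg_span (Set.finite_range rel))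
  · intro A' _ _ e he
    obtain ⟨a, y, rfl, hs⟩ := sol_of_idem b hb c hc' r hr e he
    let φ₀ : MvPolynomial (Fin n ⊕ Fin m) A →ₐ[A] A' := MvPolynomial.aeval (Sum.elim a y)
    have hle : I ≤ RingHom.ker φ₀.toRingHom := by
      refine Ideal.span_le.mpr ?_
      rintro _ ⟨k, rfl⟩
      have := hs k
      simp only [SetLike.mem_coe, RingHom.mem_ker, AlgHom.toRingHom_eq_coe, RingHom.coe_coe, rel,
        φ₀, map_sub, map_add, map_sum, map_smul, map_mul, MvPolynomial.aeval_X, Sum.elim_inl,
        Sum.elim_inr]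
      exact sub_eq_zero.mpr this
    refine ⟨Ideal.Quotient.liftₐ I φ₀ (fun p hp => hle hp), ?_⟩
    simp [x, φ₀]

end Groth.Agent.S1458
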