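import Groth.Statements.S14587
import Groth.Agent.Lib.Helper14.GrpBridgeHom
import Groth.Agent.Lib.Helper14.RedSplitC

set_option autoImplicit false
universe u
open CategoryTheory MonoidalCategory CartesianMonoidalCategory MonObj GrpObj AlgebraicGeometry CategoryTheory.Limits
open AlgGrp

namespace Groth.Agent.S14587

open Groth.Agent.Lib.Helper14.GrpBridge Groth.Agent.Lib.Helper14


/-- Let k be a perfect field and G a finite k-group scheme, r : G_red → G its reduced subgroup scheme (a
homomorphism and closed immersion from a reduced k-group scheme, surjective on underlying spaces)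
and i₀ : G⁰ → G its neutral component (a homomorphism and open immersion from a connected k-group
scheme). Then the multiplication morphism G_red × G⁰ → G is an isomorphism, exhibiting G as the
semi-direct product of G⁰ by G_red. -/
theorem result (k : Type u) [Field k] [PerfectField k]
    (G Gr G₀ : Over (Spec (CommRingCat.of k))) [GrpObj G] [GrpObj Gr] [GrpObj G₀] [IsFinite G.hom]
    (r : Gr ⟶ G) [IsMonHom r] [IsClosedImmersion r.left] [IsReduced Gr.left] [Surjective r.left]
    (i₀ : G₀ ⟶ G) [IsMonHom i₀] [IsOpenImmersion i₀.left] [ConnectedSpace ↥G₀.left] :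
    IsIso ((r ⊗ₘ i₀) ≫ μ[G]) := by
  have hG : IsAffine G.left := isAffine_of_isAffineHom G.hom
  obtain ⟨E, _, _, φ, hφ⟩ := exists_hopf (CommRingCat.of k) G
  -- finite-dimensionality of E
  have hfin : Module.Finite k E := by
    let f : CommRingCat.of k ⟶ CommRingCat.of E := CommRingCat.ofHom (algebraMap k E)
    let g : Spec (CommRingCat.of E) ⟶ G.left := φ.hom.left
    have hg : IsIso g := inferInstanceAs (IsIso ((Over.forget _).mapIso φ).hom)
    have hP : Spec.map f = g ≫ G.hom := (Over.w φ.hom).symm
    have hfin : IsFinite (Spec.map f) := by rw [hP]; infer_instance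
    have := (IsFinite.SpecMap_iff f).mp hfin
    exact RingHom.finite_algebraMap.mp this
  have hart : IsArtinianRing E := IsArtinianRing.of_finite k E
  have hdisc : DiscreteTopology G.left := by
    have h1 : DiscreteTopology (Spec (CommRingCat.of E)) :=
      inferInstanceAs (DiscreteTopology (PrimeSpectrum E))
    let g : Spec (CommRingCat.of E) ⟶ G.left := φ.hom.left
    have hg : IsIso g := inferInstanceAs (IsIso ((Over.forget _).mapIso φ).hom)
    exact (Scheme.homeoOfIso (asIso g)).discreteTopology
  have hcl : IsClosedImmersion i₀.left :=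
    IsClosedImmersion.of_isPreimmersion _ (isClosed_discrete _)
  have hGr : IsAffine Gr.left := isAffine_of_isAffineHom r.left
  have hG₀ : IsAffine G₀.left := isAffine_of_isAffineHom i₀.left
  obtain ⟨Er, _, _, φr, hφr⟩ := exists_hopf (CommRingCat.of k) Gr
  obtain ⟨E0, _, _, φ0, hφ0⟩ := exists_hopf (CommRingCat.of k) G₀
  have hφi : IsMonHom φ.inv := inferInstance
  obtain ⟨r', hr'def⟩ : ∃ r' : (Spec (.of Er)).asOver (Spec (.of k)) ⟶
      (Spec (.of E)).asOver (Spec (.of k)), r' = φr.hom ≫ r ≫ φ.inv := ⟨_, rfl⟩
  obtain ⟨i', hi'def⟩ : ∃ i' : (Spec (.of E0)).asOver (Spec (.of k)) ⟶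
      (Spec (.of E)).asOver (Spec (.of k)), i' = φ0.hom ≫ i₀ ≫ φ.inv := ⟨_, rfl⟩
  have hr'mon : IsMonHom r' := by rw [hr'def]; infer_instance
  have hi'mon : IsMonHom i' := by rw [hi'def]; infer_instance
  obtain ⟨fr, hfr⟩ := exists_bialgHom k E Er r'
  obtain ⟨f0, hf0⟩ := exists_bialgHom k E E0 i'
  have hisoφ : IsIso φ.inv.left := inferInstanceAs (IsIso ((Over.forget _).mapIso φ).inv)
  have hisoφr : IsIso φr.hom.left := inferInstanceAs (IsIso ((Over.forget _).mapIso φr).hom)
  have hisoφ0 : IsIso φ0.hom.left := inferInstanceAs (IsIso ((Over.forget _).mapIso φ0).hom)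
  have hr'left : Spec.map (CommRingCat.ofHom (fr : E →+* Er)) = φr.hom.left ≫ r.left ≫ φ.inv.left :=
    (congrArg (fun t => t.left) (hfr.symm.trans hr'def))
  have hi'left : Spec.map (CommRingCat.ofHom (f0 : E →+* E0)) = φ0.hom.left ≫ i₀.left ≫ φ.inv.left :=
    (congrArg (fun t => t.left) (hf0.symm.trans hi'def))
  -- surjectivity of `fr`
  have hr : Function.Surjective fr := by
    have t4 : IsClosedImmersion (φr.hom.left ≫ r.left ≫ φ.inv.left) := inferInstance
    have h1 : IsClosedImmersion (Spec.map (CommRingCat.ofHom (fr : E →+* Er))) := by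
      rw [hr'left]; exact t4
    exact (HasAffineProperty.SpecMap_iff_of_affineAnd (P := @IsClosedImmersion)
      (Q := fun f => Function.Surjective f) IsClosedImmersion.hasAffineProperty
      RingHom.surjective_respectsIso _).mp h1
  -- surjectivity of `f0`
  have h0 : Function.Surjective f0 := by
    have t4 : IsClosedImmersion (φ0.hom.left ≫ i₀.left ≫ φ.inv.left) := inferInstance
    have h1 : IsClosedImmersion (Spec.map (CommRingCat.ofHom (f0 : E →+* E0))) := by
      rw [hi'left]; exact t4
    exact (HasAffineProperty.SpecMap_iff_of_affineAnd (P := @IsClosedImmersion)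
      (Q := fun f => Function.Surjective f) IsClosedImmersion.hasAffineProperty
      RingHom.surjective_respectsIso _).mp h1
  -- flatness of `f0`
  have hflat : (f0 : E →+* E0).Flat := by
    have t4 : Flat (φ0.hom.left ≫ i₀.left ≫ φ.inv.left) := inferInstance
    have h1 : Flat (Spec.map (CommRingCat.ofHom (f0 : E →+* E0))) := by
      rw [hi'left]; exact t4
    exact Flat.SpecMap_iff.mp h1
  -- `Er` is reduced
  have hred : _root_.IsReduced Er := by
    have t1 : IsOpenImmersion φr.hom.left := inferInstance
    have h1 : IsReduced ((Spec (CommRingCat.of Er)).asOver (Spec (CommRingCat.of k))).left :=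
      isReduced_of_isOpenImmersion φr.hom.left
    exact (affine_isReduced_iff _).mp h1
  -- kernel of `fr`
  have hker : RingHom.ker (fr : E →+* Er) = nilradical E := by
    apply le_antisymm
    · have t4 : Surjective (φr.hom.left ≫ r.left ≫ φ.inv.left) := inferInstance
      have hsurj : Surjective (Spec.map (CommRingCat.ofHom (fr : E →+* Er))) := by
        rw [hr'left]; exact t4
      intro a ha
      rw [nilradical_eq_sInf, Ideal.mem_sInf]
      intro p hp
      obtain ⟨q, hq⟩ := hsurj.surj ⟨p, hp⟩
      have h2 : (PrimeSpectrum.comap (fr : E →+* Er) q).asIdeal = p := by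
        have := congrArg PrimeSpectrum.asIdeal hq
        exact this
      rw [← h2]
      show (fr : E →+* Er) a ∈ q.asIdeal
      rw [RingHom.mem_ker.mp ha]
      exact zero_mem _
    · intro a ha
      have h1 : IsNilpotent ((fr : E →+* Er) a) := (mem_nilradical.mp ha).map _
      exact RingHom.mem_ker.mpr h1.eq_zero
  -- `E0` is local
  have hloc : IsLocalRing E0 := by
    have hart0 : IsArtinianRing E0 := Function.Surjective.isArtinianRing (f := (f0 : E →+* E0)) h0
    have h1 : DiscreteTopology (Spec (CommRingCat.of E0)) :=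
      inferInstanceAs (DiscreteTopology (PrimeSpectrum E0))
    have h2 : ConnectedSpace (Spec (CommRingCat.of E0)) :=
      (Scheme.homeoOfIso (asIso φ0.hom.left)).symm.surjective.connectedSpace
        (Scheme.homeoOfIso (asIso φ0.hom.left)).symm.continuous
    have h3 : Subsingleton (Spec (CommRingCat.of E0)) := PreconnectedSpace.trivial_of_discrete
    have h4 : Subsingleton (PrimeSpectrum E0) := h3
    have h5 : Nonempty (PrimeSpectrum E0) := h2.toNonempty
    have h6 : Nontrivial E0 := (PrimeSpectrum.nonempty_iff_nontrivial).mp h5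
    have : Subsingleton (MaximalSpectrum E0) :=
      MaximalSpectrum.toPrimeSpectrum_injective.subsingleton
    exact .of_singleton_maximalSpectrum
  have hbij := RedSplit.bijective_of_props k E Er E0 fr f0 hr hker h0 hflat
  have hiso := isIso_mul_of_bijective k E Er E0 (fr : E →ₐ[k] Er) (f0 : E →ₐ[k] E0) hbij
  rw [← hfr, ← hf0] at hiso
  have hr1 : φr.inv ≫ r' ≫ φ.hom = r := by simp [hr'def]
  have hi1 : φ0.inv ≫ i' ≫ φ.hom = i₀ := by simp [hi'def]
  have e : (r ⊗ₘ i₀) ≫ μ[G] = (φr.inv ⊗ₘ φ0.inv) ≫ ((r' ⊗ₘ i') ≫ μ) ≫ φ.hom := by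
    rw [Category.assoc, IsMonHom.mul_hom (f := φ.hom), ← Category.assoc, ← Category.assoc,
      tensorHom_comp_tensorHom, tensorHom_comp_tensorHom, Category.assoc, Category.assoc, hr1, hi1]
  rw [e]
  infer_instance

end Groth.Agent.S14587
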