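import Groth.Statements.S14588
import Groth.Agent.Lib.Helper4.RedNbhd
import Groth.Agent.Lib.Helper4.GrpSmooth

set_option autoImplicit false
universe u
open CategoryTheory MonoidalCategory CartesianMonoidalCategory MonObj GrpObj AlgebraicGeometry CategoryTheory.Limits
open AlgGrp

namespace Groth.Agent.S14588

/-- Let k be a field with algebraic closure K and G a k-group scheme locally of finite type. If the
local ring of G_K at its unit point is reduced, then G is smooth over k. -/
theorem result (k : Type u) [Field k]
    (G : Over (Spec (CommRingCat.of k))) [GrpObj G] [LocallyOfFiniteType G.hom]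
    (t : ↥((𝟙_ (Over (Spec (CommRingCat.of (AlgebraicClosure k))))).left))
    (h : _root_.IsReduced ↑((Red.bc (Spec.map (CommRingCat.ofHom (algebraMap k (AlgebraicClosure k)))) G).left.presheaf.stalk ((η[Red.bc (Spec.map (CommRingCat.ofHom (algebraMap k (AlgebraicClosure k)))) G]).left.base t))) :
    Smooth G.hom := by
  let g := Spec.map (CommRingCat.ofHom (algebraMap k (AlgebraicClosure k)))
  let G' := Red.bc g G
  haveI : LocallyOfFiniteType G'.hom := by
    dsimp [G', Red.bc]; infer_instance
  haveI : GrpObj (Over.mk G'.hom) := (inferInstance : GrpObj G')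
  have hne := Groth.Agent.Lib.Helper4.RedNbhd.nonempty_smoothLocus_of_isReduced_stalk
    (K := AlgebraicClosure k) G'.hom (η[G'].left.base t) (hx := h)
  have hsm : Smooth G'.hom :=
    Groth.Agent.Lib.Helper4.GrpSmooth.smooth_of_nonempty_smoothLocus G'.hom hne
  apply MorphismProperty.of_pullback_snd_of_descendsAlong
    (Q := @Surjective ⊓ @Flat ⊓ @QuasiCompact) (g := g)
  · exact ⟨⟨inferInstance, inferInstance⟩, inferInstance⟩
  · exact hsm

end Groth.Agent.S14588
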