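import Groth.Statements.S14606
import Mathlib
-- import your own Groth.Agent.* helpers here

set_option autoImplicit false
universe u
open FrobAlg

namespace Groth.Agent.S14606

/-- Let k be a field of characteristic p > 0 and R a finitely generated commutative k-algebra. The
scheme-theoretic image of the n-th relative Frobenius morphism of Spec R is the spectrum of the
k-subalgebra k[R^(p^n)] generated by all p^n-th powers; for n large enough this image is
geometrically reduced: there is an n such that k[R^(p^n)] is a geometrically reduced k-algebra.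
(Stated in affine, ring-theoretic form.) -/
theorem result (k : Type u) [Field k] (p : ℕ) [Fact p.Prime] [CharP k p]
    (R : Type u) [CommRing R] [Algebra k R] [Algebra.FiniteType k R] :
    ∃ n : ℕ, Algebra.IsGeometricallyReduced k ↥(Algebra.adjoin k (Set.range (fun x : R => x ^ (p ^ n)))) := by
  classical
  open TensorProduct in
  let Ω := AlgebraicClosure k
  haveI : CharP Ω p := charP_of_injective_algebraMap (algebraMap k Ω).injective p
  haveI : PerfectRing Ω p := inferInstance
  let T := Ω ⊗[k] R
  rcases subsingleton_or_nontrivial T with hT | hT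
  · -- degenerate case
    refine ⟨0, ?_⟩
    rw [Algebra.isGeometricallyReduced_field_iff]
    set B := Algebra.adjoin k (Set.range (fun x : R => x ^ (p ^ 0))) with hB
    let ι : Ω ⊗[k] B →ₐ[Ω] T := Algebra.TensorProduct.map (AlgHom.id Ω Ω) B.val
    have hι : Function.Injective ι :=
      Module.Flat.lTensor_preserves_injective_linearMap (M := Ω) B.val.toLinearMap
        Subtype.val_injective
    haveI : Subsingleton (Ω ⊗[k] B) := hι.subsingleton
    exact ⟨fun x _ => Subsingleton.elim _ _⟩
  · haveI : CharP T p := charP_of_injective_algebraMap (algebraMap Ω T).injective p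
    haveI : Algebra.FiniteType Ω T := inferInstance
    haveI : IsNoetherianRing T := Algebra.FiniteType.isNoetherianRing Ω T
    obtain ⟨m, hm⟩ := IsNoetherianRing.isNilpotent_nilradical T
    refine ⟨m, ?_⟩
    rw [Algebra.isGeometricallyReduced_field_iff]
    set B := Algebra.adjoin k (Set.range (fun x : R => x ^ (p ^ m))) with hB
    let ι : Ω ⊗[k] B →ₐ[Ω] T := Algebra.TensorProduct.map (AlgHom.id Ω Ω) B.val
    have hι : Function.Injective ι :=
      Module.Flat.lTensor_preserves_injective_linearMap (M := Ω) B.val.toLinearMap
        Subtype.val_injective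
    -- every `c ⊗ b` with `b ∈ B` is a `p^m`-th power in `T`
    have hroot : ∀ c : Ω, ∃ d : Ω, d ^ p ^ m = c := fun c => by
      obtain ⟨d, hd⟩ := (bijective_iterateFrobenius Ω p m).surjective c
      exact ⟨d, by rw [← hd, iterateFrobenius_def]⟩
    have hgen : ∀ b ∈ B, ∀ c : Ω, (c ⊗ₜ[k] b : T) ∈ (iterateFrobenius T p m).range := by
      intro b hb
      induction hb using Algebra.adjoin_induction with
      | mem x hx =>
        obtain ⟨r, rfl⟩ := hx
        intro c
        obtain ⟨d, rfl⟩ := hroot c
        refine ⟨d ⊗ₜ[k] r, ?_⟩
        rw [iterateFrobenius_def, Algebra.TensorProduct.tmul_pow]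
      | algebraMap a =>
        intro c
        obtain ⟨d, hd⟩ := hroot (c * algebraMap k Ω a)
        refine ⟨d ⊗ₜ[k] (1 : R), ?_⟩
        have e1 : c * algebraMap k Ω a = a • c := by rw [Algebra.smul_def, mul_comm]
        have e2 : algebraMap k R a = a • (1 : R) := Algebra.algebraMap_eq_smul_one a
        rw [iterateFrobenius_def, Algebra.TensorProduct.tmul_pow, hd, one_pow, e1, e2,
          TensorProduct.smul_tmul]
      | add x y _ _ hx hy =>
        intro c
        rw [TensorProduct.tmul_add]
        exact Subring.add_mem _ (hx c) (hy c)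
      | mul x y _ _ hx hy =>
        intro c
        have : (c ⊗ₜ[k] (x * y) : T) = (c ⊗ₜ[k] x) * ((1 : Ω) ⊗ₜ[k] y) := by
          rw [Algebra.TensorProduct.tmul_mul_tmul, mul_one]
        rw [this]
        exact Subring.mul_mem _ (hx c) (hy 1)
    have hrange : ∀ z : Ω ⊗[k] B, ι z ∈ (iterateFrobenius T p m).range := by
      intro z
      induction z using TensorProduct.induction_on with
      | zero => rw [map_zero]; exact Subring.zero_mem _
      | tmul c b => exact hgen b.1 b.2 c
      | add x y hx hy => rw [map_add]; exact Subring.add_mem _ hx hy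
    constructor
    intro z hz
    obtain ⟨t, ht⟩ := hrange z
    rw [iterateFrobenius_def] at ht
    have h1 : IsNilpotent (t ^ p ^ m) := by rw [ht]; exact hz.map ι
    have h2 : IsNilpotent t :=
      (IsNilpotent.pow_iff_pos (pow_ne_zero _ (Fact.out : p.Prime).ne_zero)).mp h1
    have h3 : t ∈ nilradical T := mem_nilradical.mpr h2
    have h4 : t ^ m ∈ (nilradical T) ^ m := Ideal.pow_mem_pow h3 m
    rw [hm] at h4
    have h5 : t ^ m = 0 := h4
    have hle : m ≤ p ^ m := (Nat.lt_pow_self (Fact.out : p.Prime).one_lt).le
    have h6 : t ^ p ^ m = 0 := by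
      rw [← Nat.sub_add_cancel hle, pow_add, h5, mul_zero]
    apply hι
    rw [map_zero, ← ht, h6]

end Groth.Agent.S14606
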