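import Groth.Statements.S14608
import Groth.Agent.Lib.helper11.KerBC3

set_option autoImplicit false
universe u v
open CAlg

namespace Groth.Agent.S14608

open TensorProduct in
/-- Let A be a Noetherian ring, M a finitely generated A-module, F a finitely generated free A-module, δ
: M → F an A-linear map and p a prime of A with residue field κ(p). The following are equivalent:
(a) the natural map (ker δ) ⊗ κ(p) → ker(δ ⊗ κ(p)) is surjective (its image is the whole kernel);
(b) that map is bijective; (c) (F / im δ) localized at p is a free module over the local ring A_p.
Moreover, if these hold then (im δ) localized at p is free over A_p. (The published statement takes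
M to be the cokernel of a map of finitely generated free modules; over a Noetherian ring this is
every finitely generated M, which is what this row takes.) -/
theorem result (A : Type u) [CommRing A] [IsNoetherianRing A]
    (M : Type v) (F : Type v) [AddCommGroup M] [Module A M] [Module.Finite A M]
    [AddCommGroup F] [Module A F] [Module.Finite A F] [Module.Free A F]
    (δ : M →ₗ[A] F) (p : Ideal A) [p.IsPrime] :
    [ Function.Exact (LinearMap.lTensor p.ResidueField (LinearMap.ker δ).subtype)
        (LinearMap.lTensor p.ResidueField δ),
      Function.Exact (LinearMap.lTensor p.ResidueField (LinearMap.ker δ).subtype)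
        (LinearMap.lTensor p.ResidueField δ) ∧
        Function.Injective (LinearMap.lTensor p.ResidueField (LinearMap.ker δ).subtype),
      Module.Free (Localization.AtPrime p)
        (LocalizedModule p.primeCompl (F ⧸ LinearMap.range δ)) ].TFAE ∧
    (Function.Exact (LinearMap.lTensor p.ResidueField (LinearMap.ker δ).subtype)
        (LinearMap.lTensor p.ResidueField δ) →
      Module.Free (Localization.AtPrime p)
        (LocalizedModule p.primeCompl (LinearMap.range δ))) := by
  let pp : PrimeSpectrum A := ⟨p, inferInstance⟩
  have hproj : Module.Projective A F := inferInstance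
  -- (a) iff membership in the free locus
  have hac : Function.Exact (LinearMap.lTensor p.ResidueField (LinearMap.ker δ).subtype)
      (LinearMap.lTensor p.ResidueField δ) ↔
      pp ∈ Module.freeLocus A (F ⧸ LinearMap.range δ) := by
    rw [Groth.Agent.Lib.helper11.KerBC.mem_freeLocus_iff δ pp]
    constructor
    · intro ha x hx
      rw [LinearMap.mem_ker, LinearMap.baseChange_eq_ltensor] at hx
      obtain ⟨w, hw⟩ := (ha x).mp hx
      exact ⟨w, by rw [LinearMap.baseChange_eq_ltensor]; exact hw⟩
    · intro h x
      constructor
      · intro hx
        have hx' : x ∈ LinearMap.ker (δ.baseChange pp.asIdeal.ResidueField) := by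
          rw [LinearMap.mem_ker, LinearMap.baseChange_eq_ltensor]
          exact hx
        obtain ⟨w, hw⟩ := h hx'
        exact ⟨w, by rw [LinearMap.baseChange_eq_ltensor] at hw; exact hw⟩
      · rintro ⟨w, rfl⟩
        rw [← LinearMap.comp_apply, ← LinearMap.lTensor_comp]
        have : δ ∘ₗ (LinearMap.ker δ).subtype = 0 := by
          ext k
          exact k.2
        rw [this, LinearMap.lTensor_zero, LinearMap.zero_apply]
  -- consequences of membership in the free locus
  have hflatB : pp ∈ Module.freeLocus A (F ⧸ LinearMap.range δ) →
      Module.Flat (Localization.AtPrime p) ((Localization.AtPrime p) ⊗[A] LinearMap.range δ) := by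
    intro hc
    rw [Module.mem_freeLocus_iff_tensor pp (Localization.AtPrime p)] at hc
    have hfl : Module.Flat (Localization.AtPrime p)
        ((Localization.AtPrime p) ⊗[A] (F ⧸ LinearMap.range δ)) := inferInstance
    exact Groth.Agent.Lib.helper11.KerBC.flat_baseChange_range δ (Localization.AtPrime p) hfl
  have hcinj : pp ∈ Module.freeLocus A (F ⧸ LinearMap.range δ) →
      Function.Injective (LinearMap.lTensor p.ResidueField (LinearMap.ker δ).subtype) := by
    intro hc
    have := Groth.Agent.Lib.helper11.KerBC.injective_ker_baseChange δ (Localization.AtPrime p)
      p.ResidueField (hflatB hc)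
    rw [LinearMap.baseChange_eq_ltensor] at this
    exact this
  constructor
  · tfae_have 1 → 3 := fun ha => hac.mp ha
    tfae_have 3 → 2 := fun hc => ⟨hac.mpr hc, hcinj hc⟩
    tfae_have 2 → 1 := fun hb => hb.1
    tfae_finish
  · intro ha
    have hfl := hflatB (hac.mp ha)
    have hfree : Module.Free (Localization.AtPrime p)
        ((Localization.AtPrime p) ⊗[A] LinearMap.range δ) := Module.free_of_flat_of_isLocalRing
    exact Module.Free.of_equiv
      (LocalizedModule.equivTensorProduct p.primeCompl (LinearMap.range δ)).symm

end Groth.Agent.S14608
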