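import Groth.Statements.S14609
import Groth.Agent.Lib.helper11.FibDim

set_option autoImplicit false
universe u v
open CAlg

namespace Groth.Agent.S14609

open TensorProduct in
/-- Let A be a Noetherian ring, M a finitely generated A-module, F a finitely generated free A-module
and δ : M → F an A-linear map. Then the function on Spec A sending a prime p with residue field κ(p)
to the κ(p)-dimension of the kernel of δ ⊗ κ(p) : M ⊗ κ(p) → F ⊗ κ(p) is upper semicontinuous. -/
theorem result (A : Type u) [CommRing A]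
    [IsNoetherianRing A] (M : Type v) (F : Type v) [AddCommGroup M] [Module A M] [Module.Finite A M]
    [AddCommGroup F] [Module A F] [Module.Finite A F] [Module.Free A F] (δ : M →ₗ[A] F) :
    UpperSemicontinuous (fun x : PrimeSpectrum A =>
      Module.finrank x.asIdeal.ResidueField
        (LinearMap.ker (δ.baseChange x.asIdeal.ResidueField))) := by
  have : Module.FinitePresentation A F := Module.finitePresentation_of_finite A F
  apply Groth.Agent.Lib.helper11.FibDim.upperSemicontinuous_of_local
  intro x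
  obtain ⟨U₁, hU₁, hx₁, h₁⟩ := Groth.Agent.Lib.helper11.FibDim.exists_open_fibDim_le M x
  obtain ⟨U₂, hU₂, hx₂, h₂⟩ :=
    Groth.Agent.Lib.helper11.FibDim.exists_open_fibDim_le (F ⧸ LinearMap.range δ) x
  obtain ⟨U₃, hU₃, hx₃, h₃⟩ := Groth.Agent.Lib.helper11.FibDim.exists_open_fibDim_eq (N := F) x
  refine ⟨U₁ ∩ U₂ ∩ U₃, (hU₁.inter hU₂).inter hU₃, ⟨⟨hx₁, hx₂⟩, hx₃⟩, ?_⟩
  rintro y ⟨⟨hy₁, hy₂⟩, hy₃⟩
  have a1 := Groth.Agent.Lib.helper11.FibDim.finrank_ker_add_fibRank δ x
  have a2 := Groth.Agent.Lib.helper11.FibDim.finrank_ker_add_fibRank δ y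
  have b1 := Groth.Agent.Lib.helper11.FibDim.fibRank_add_fibDim_coker δ x
  have b2 := Groth.Agent.Lib.helper11.FibDim.fibRank_add_fibDim_coker δ y
  have c1 := h₁ y hy₁
  have c2 := h₂ y hy₂
  have c3 := h₃ y hy₃
  change Module.finrank y.asIdeal.ResidueField
      (LinearMap.ker (δ.baseChange y.asIdeal.ResidueField)) ≤
    Module.finrank x.asIdeal.ResidueField
      (LinearMap.ker (δ.baseChange x.asIdeal.ResidueField))
  omega

end Groth.Agent.S14609
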