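import Groth.Statements.S1461
import Groth.Agent.Lib.Helper25.LocusApprox
import Groth.Agent.Lib.Helper25.GeomRedLocus

set_option autoImplicit false
universe u
open FlatMor

namespace Groth.Agent.S1461

open AlgebraicGeometry CategoryTheory Limits in
/-- Let f : X → S be a morphism of finite presentation between affine schemes whose fibres are
geometrically reduced. Then f is the base change of a morphism of finite type f₀ : X₀ → S₀ between
affine schemes with S₀ of finite type over ℤ, where f₀ can be chosen with the same property. -/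
theorem result {X S : Scheme.{u}} (f : X ⟶ S) [IsAffine X] [IsAffine S] [LocallyOfFinitePresentation f] [GeometricallyReduced f] :
    ∃ (X₀ S₀ : Scheme.{u}) (f₀ : X₀ ⟶ S₀) (g : S ⟶ S₀) (g' : X ⟶ X₀), IsAffine X₀ ∧ IsAffine S₀ ∧ IsPullback g' f f₀ g ∧
      Algebra.FiniteType ℤ Γ(S₀, ⊤) ∧ LocallyOfFiniteType f₀ ∧ GeometricallyReduced f₀ := by
  have hmain := Groth.Agent.Lib.Helper25.LocusApprox.exists_model f
    (fun X S f => {s : S | GeometricallyReduced (f.fiberToSpecResidueField s)})
    (fun X S X' S' f g f' g' _ _ hc => Groth.Agent.S9735.result f g f' g' hc)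
    (fun X S f _ _ _ => Groth.Agent.Lib.Helper25.GeomRedLocus.isLocallyConstructible_grLocus f)
    (by
      rw [Set.eq_univ_iff_forall]
      intro s
      exact Groth.Agent.Lib.Helper25.GeomRedLocus.geomRed_fiber_of_geomRed f s)
  obtain ⟨X₀, S₀, f₀, g, g', h1, h2, h3, h4, h5, h6⟩ := hmain
  refine ⟨X₀, S₀, f₀, g, g', h1, h2, h3, h4, h5, ?_⟩
  rw [geometricallyReduced_iff, geometrically_iff_forall_fiberToSpecResidueField]
  intro s
  rw [← geometricallyReduced_iff]
  have hs : s ∈ (Set.univ : Set S₀) := trivial
  rw [← h6] at hs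
  exact hs

end Groth.Agent.S1461
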