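import Groth.Statements.S14610
import Groth.Agent.Lib.helper11.RedFree

set_option autoImplicit false
universe u v
open CAlg

namespace Groth.Agent.S14610

open TensorProduct in
/-- Let A be a reduced Noetherian ring, M a finitely generated A-module, F a finitely generated free
A-module and δ : M → F an A-linear map such that the function p ↦ dim_{κ(p)} ker(δ ⊗ κ(p)) is
locally constant on Spec A. Then M, ker δ and coker δ = F / im δ are projective A-modules, and for
every A-module N the natural map (ker δ) ⊗ N → M ⊗ N is injective with image equal to the kernel of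
δ ⊗ N. -/
theorem result (A : Type u) [CommRing A]
    [IsNoetherianRing A] [IsReduced A] (M : Type v) (F : Type v) [AddCommGroup M] [Module A M]
    [Module.Finite A M] [AddCommGroup F] [Module A F] [Module.Finite A F] [Module.Free A F]
    (δ : M →ₗ[A] F)
    (h : IsLocallyConstant (fun x : PrimeSpectrum A =>
      Module.finrank x.asIdeal.ResidueField
        (LinearMap.ker (δ.baseChange x.asIdeal.ResidueField)))) :
    Module.Projective A M ∧ Module.Projective A (LinearMap.ker δ) ∧
      Module.Projective A (F ⧸ LinearMap.range δ) ∧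
      ∀ (N : Type v) [AddCommGroup N] [Module A N],
        Function.Injective (LinearMap.rTensor N (LinearMap.ker δ).subtype) ∧
        Function.Exact (LinearMap.rTensor N (LinearMap.ker δ).subtype) (LinearMap.rTensor N δ) := by
  have hfpM : Module.FinitePresentation A M := Module.finitePresentation_of_finite A M
  have hfpF : Module.FinitePresentation A F := Module.finitePresentation_of_finite A F
  have hfpC : Module.FinitePresentation A (F ⧸ LinearMap.range δ) :=
    Module.finitePresentation_of_finite A _
  rw [IsLocallyConstant.iff_exists_open] at h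
  have key : ∀ x : PrimeSpectrum A, ∃ U : Set (PrimeSpectrum A), IsOpen U ∧ x ∈ U ∧
      ∀ y ∈ U, Groth.Agent.Lib.helper11.FibDim.fibDim M y =
          Groth.Agent.Lib.helper11.FibDim.fibDim M x ∧
        Groth.Agent.Lib.helper11.FibDim.fibDim (F ⧸ LinearMap.range δ) y =
          Groth.Agent.Lib.helper11.FibDim.fibDim (F ⧸ LinearMap.range δ) x := by
    intro x
    obtain ⟨U₀, hU₀, hx₀, h₀⟩ := h x
    obtain ⟨U₁, hU₁, hx₁, h₁⟩ := Groth.Agent.Lib.helper11.FibDim.exists_open_fibDim_le M x
    obtain ⟨U₂, hU₂, hx₂, h₂⟩ := Groth.Agent.Lib.helper11.FibDim.exists_open_fibRank_ge δ x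
    obtain ⟨U₃, hU₃, hx₃, h₃⟩ := Groth.Agent.Lib.helper11.FibDim.exists_open_fibDim_eq (N := F) x
    refine ⟨U₀ ∩ U₁ ∩ U₂ ∩ U₃, ((hU₀.inter hU₁).inter hU₂).inter hU₃,
      ⟨⟨⟨hx₀, hx₁⟩, hx₂⟩, hx₃⟩, ?_⟩
    rintro y ⟨⟨⟨hy₀, hy₁⟩, hy₂⟩, hy₃⟩
    have a1 := Groth.Agent.Lib.helper11.FibDim.finrank_ker_add_fibRank δ x
    have a2 := Groth.Agent.Lib.helper11.FibDim.finrank_ker_add_fibRank δ y
    have b1 := Groth.Agent.Lib.helper11.FibDim.fibRank_add_fibDim_coker δ x
    have b2 := Groth.Agent.Lib.helper11.FibDim.fibRank_add_fibDim_coker δ y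
    have e0 : Module.finrank y.asIdeal.ResidueField
        (LinearMap.ker (δ.baseChange y.asIdeal.ResidueField)) =
        Module.finrank x.asIdeal.ResidueField
        (LinearMap.ker (δ.baseChange x.asIdeal.ResidueField)) := h₀ y hy₀
    have e1 := h₁ y hy₁
    have e2 := h₂ y hy₂
    have e3 := h₃ y hy₃
    constructor <;> omega
  have hM : Module.Projective A M := by
    apply Groth.Agent.Lib.helper11.RedFree.projective_of_fibDim_locallyConstant
    intro x
    obtain ⟨U, hU, hxU, hc⟩ := key x
    exact ⟨U, hU, hxU, fun y hy => (hc y hy).1⟩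
  have hC : Module.Projective A (F ⧸ LinearMap.range δ) := by
    apply Groth.Agent.Lib.helper11.RedFree.projective_of_fibDim_locallyConstant
    intro x
    obtain ⟨U, hU, hxU, hc⟩ := key x
    exact ⟨U, hU, hxU, fun y hy => (hc y hy).2⟩
  -- retraction of the inclusion of the range
  obtain ⟨s, hs⟩ := Module.projective_lifting_property (LinearMap.range δ).mkQ LinearMap.id
    (Submodule.mkQ_surjective _)
  have hmem : ∀ x : F, x - s ((LinearMap.range δ).mkQ x) ∈ LinearMap.range δ := by
    intro x
    rw [← Submodule.Quotient.mk_eq_zero, Submodule.Quotient.mk_sub, sub_eq_zero]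
    have := LinearMap.congr_fun hs ((LinearMap.range δ).mkQ x)
    simp only [LinearMap.comp_apply, LinearMap.id_apply, Submodule.mkQ_apply] at this
    exact this.symm
  let r : F →ₗ[A] LinearMap.range δ :=
    (LinearMap.id - s ∘ₗ (LinearMap.range δ).mkQ).codRestrict (LinearMap.range δ) hmem
  have hr : r ∘ₗ (LinearMap.range δ).subtype = LinearMap.id := by
    ext ⟨y, hy⟩
    have h0 : (LinearMap.range δ).mkQ y = 0 := by
      rw [Submodule.mkQ_apply, Submodule.Quotient.mk_eq_zero]
      exact hy
    simp [r, h0]
  have hR : Module.Projective A (LinearMap.range δ) :=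
    Module.Projective.of_split (LinearMap.range δ).subtype r hr
  -- retraction of the inclusion of the kernel
  obtain ⟨t, ht⟩ := Module.projective_lifting_property δ.rangeRestrict LinearMap.id
    δ.surjective_rangeRestrict
  have hmem' : ∀ m : M, m - t (δ.rangeRestrict m) ∈ LinearMap.ker δ := by
    intro m
    rw [LinearMap.mem_ker, map_sub, sub_eq_zero]
    have := LinearMap.congr_fun ht (δ.rangeRestrict m)
    simp only [LinearMap.comp_apply, LinearMap.id_apply] at this
    have h2 := congrArg Subtype.val this
    exact h2.symm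
  let ρ : M →ₗ[A] LinearMap.ker δ :=
    (LinearMap.id - t ∘ₗ δ.rangeRestrict).codRestrict (LinearMap.ker δ) hmem'
  have hρ : ρ ∘ₗ (LinearMap.ker δ).subtype = LinearMap.id := by
    ext ⟨y, hy⟩
    have h0 : δ.rangeRestrict y = 0 := by
      apply Subtype.ext
      exact hy
    simp [ρ, h0]
  have hK : Module.Projective A (LinearMap.ker δ) :=
    Module.Projective.of_split (LinearMap.ker δ).subtype ρ hρ
  refine ⟨hM, hK, hC, fun N _ _ => ⟨?_, ?_⟩⟩
  · have h1 : (ρ.rTensor N) ∘ₗ ((LinearMap.ker δ).subtype.rTensor N) = LinearMap.id := by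
      rw [← LinearMap.rTensor_comp, hρ, LinearMap.rTensor_id]
    exact Function.LeftInverse.injective (g := ρ.rTensor N) (fun x => LinearMap.congr_fun h1 x)
  · have hex : Function.Exact (LinearMap.ker δ).subtype δ.rangeRestrict := by
      intro m
      constructor
      · intro hm
        have : m ∈ LinearMap.ker δ := by
          rw [LinearMap.mem_ker]
          exact congrArg Subtype.val hm
        exact ⟨⟨m, this⟩, rfl⟩
      · rintro ⟨k, rfl⟩
        apply Subtype.ext
        exact k.2
    have hex' := rTensor_exact N hex δ.surjective_rangeRestrict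
    have hinj : Function.Injective ((LinearMap.range δ).subtype.rTensor N) := by
      have h1 : (r.rTensor N) ∘ₗ ((LinearMap.range δ).subtype.rTensor N) = LinearMap.id := by
        rw [← LinearMap.rTensor_comp, hr, LinearMap.rTensor_id]
      exact Function.LeftInverse.injective (g := r.rTensor N) (fun x => LinearMap.congr_fun h1 x)
    have hcomp : LinearMap.rTensor N δ =
        (LinearMap.range δ).subtype.rTensor N ∘ₗ δ.rangeRestrict.rTensor N := by
      rw [← LinearMap.rTensor_comp]
      rfl
    rw [hcomp]
    exact hex'.comp_injective _ hinj (map_zero _)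

end Groth.Agent.S14610
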