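import Groth.Statements.S14611
import Mathlib

set_option autoImplicit false
universe u
open FlatCx

namespace Groth.Agent.S14611

section Aux
open CategoryTheory CategoryTheory.Limits TensorProduct

section Local
variable {R : Type u} [CommRing R] [IsLocalRing R]

/-- local criterion: `M → N → P → 0` exact over a local ring, `N` finite free, `M` finite, and
`h` reflects membership in `𝔪 • ⊤`; then `P` is free. -/
theorem free_of_reflects {M N P : Type u} [AddCommGroup M] [Module R M] [AddCommGroup N] [Module R N]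
    [AddCommGroup P] [Module R P] [Module.Finite R M] [Module.Finite R N] [Module.Free R N]
    (h : M →ₗ[R] N) (g : N →ₗ[R] P) (hg : Function.Surjective g) (hex : Function.Exact h g)
    (H : ∀ x : M, h x ∈ (IsLocalRing.maximalIdeal R) • (⊤ : Submodule R N) →
      x ∈ (IsLocalRing.maximalIdeal R) • (⊤ : Submodule R M)) :
    Module.Free R P := by
  refine Module.free_of_lTensor_residueField_injective h g hg hex ?_
  set I := IsLocalRing.maximalIdeal R with hI
  show Function.Injective (h.lTensor (R ⧸ I))
  have hle : I • (⊤ : Submodule R M) ≤ (I • (⊤ : Submodule R N)).comap h := by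
    rw [Submodule.smul_le]
    intro r hr x _
    rw [Submodule.mem_comap, map_smul]
    exact Submodule.smul_mem_smul hr trivial
  have key : (quotTensorEquivQuotSMul N I).toLinearMap ∘ₗ h.lTensor (R ⧸ I) =
      (Submodule.mapQ _ _ h hle) ∘ₗ (quotTensorEquivQuotSMul M I).toLinearMap := by
    apply TensorProduct.ext'
    intro a x
    obtain ⟨a, rfl⟩ := Ideal.Quotient.mk_surjective a
    simp
  have hinj : Function.Injective (Submodule.mapQ _ _ h hle) := by
    rw [injective_iff_map_eq_zero]
    intro x hx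
    obtain ⟨x, rfl⟩ := Submodule.Quotient.mk_surjective _ x
    rw [Submodule.mapQ_apply, Submodule.Quotient.mk_eq_zero] at hx
    rw [Submodule.Quotient.mk_eq_zero]
    exact H x hx
  have : Function.Injective ((quotTensorEquivQuotSMul N I).toLinearMap ∘ₗ h.lTensor (R ⧸ I)) := by
    rw [key]
    exact hinj.comp (quotTensorEquivQuotSMul M I).injective
  rw [LinearMap.coe_comp] at this
  exact Function.Injective.of_comp this

end Local

section Global
variable {A : Type u} [CommRing A]

theorem smul_top_localized (m : Ideal A) [m.IsPrime] (N₀ : Type u) [AddCommGroup N₀] [Module A N₀] :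
    (IsLocalRing.maximalIdeal (Localization.AtPrime m)) •
        (⊤ : Submodule (Localization.AtPrime m) (LocalizedModule m.primeCompl N₀)) =
      (m • (⊤ : Submodule A N₀)).localized' (Localization.AtPrime m) m.primeCompl
        (LocalizedModule.mkLinearMap m.primeCompl N₀) := by
  rw [Submodule.localized'_smul, Ideal.localized'_eq_map, Submodule.localized'_top,
    IsLocalization.AtPrime.map_eq_maximalIdeal]

theorem proj_coker {M₀ N₀ : Type u} [AddCommGroup M₀] [Module A M₀] [AddCommGroup N₀] [Module A N₀]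
    [Module.Finite A M₀] [Module.Finite A N₀] [Module.Projective A N₀] (h₀ : M₀ →ₗ[A] N₀)
    [Module.FinitePresentation A (N₀ ⧸ LinearMap.range h₀)]
    (H : ∀ m : Ideal A, m.IsMaximal → ∀ x, h₀ x ∈ m • (⊤ : Submodule A N₀) →
      x ∈ m • (⊤ : Submodule A M₀)) :
    Module.Projective A (N₀ ⧸ LinearMap.range h₀) := by
  apply Module.projective_of_localization_maximal
  intro m hm
  set S := m.primeCompl with hS
  let h := LocalizedModule.map S h₀
  let g := LocalizedModule.map S (LinearMap.range h₀).mkQ
  have hg : Function.Surjective g :=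
    LocalizedModule.map_surjective _ _ (Submodule.mkQ_surjective _)
  have hex : Function.Exact h g :=
    LocalizedModule.map_exact S h₀ _ (LinearMap.exact_map_mkQ_range h₀)
  have : Module.Free (Localization.AtPrime m) (LocalizedModule S N₀) :=
    Module.free_of_flat_of_isLocalRing
  have : Module.Free (Localization.AtPrime m) (LocalizedModule S (N₀ ⧸ LinearMap.range h₀)) := by
    refine free_of_reflects h g hg hex ?_
    intro x hx
    rw [smul_top_localized] at hx ⊢
    induction x using LocalizedModule.induction_on with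
    | h y s =>
    rw [show h (LocalizedModule.mk y s) = LocalizedModule.mk (h₀ y) s from
      LocalizedModule.map_mk _ _ _ _] at hx
    obtain ⟨n, hn, t, hnt⟩ := hx
    rw [← IsLocalizedModule.mk_eq_mk', LocalizedModule.mk_eq] at hnt
    obtain ⟨u, hu⟩ := hnt
    -- `u • s • n = u • t • h₀ y`
    simp only [Submonoid.smul_def] at hu
    have h1 : h₀ (((u : A) * (t : A)) • y) ∈ m • (⊤ : Submodule A N₀) := by
      rw [map_smul, mul_smul, ← hu]
      exact Submodule.smul_mem _ _ (Submodule.smul_mem _ _ hn)
    have h2 := H m hm _ h1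
    refine ⟨((u : A) * (t : A)) • y, h2, u * t * s, ?_⟩
    rw [← IsLocalizedModule.mk_eq_mk', LocalizedModule.mk_eq]
    refine ⟨1, ?_⟩
    simp only [one_smul, Submonoid.smul_def, Submonoid.coe_mul, mul_smul]
    rw [smul_comm (s : A) (u : A), smul_comm (s : A) (t : A)]
  infer_instance

/-- from exactness of the tensored complex to the elementwise condition -/
theorem reflects_of_tensor_exact {P₀ P₁ P₂ : Type u} [AddCommGroup P₀] [Module A P₀]
    [AddCommGroup P₁] [Module A P₁] [AddCommGroup P₂] [Module A P₂]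
    (f : P₀ →ₗ[A] P₁) (g : P₁ →ₗ[A] P₂) (m : Ideal A)
    (hex : ∀ x₂ : P₁ ⊗[A] (A ⧸ m), g.rTensor (A ⧸ m) x₂ = 0 → ∃ x₁, f.rTensor (A ⧸ m) x₁ = x₂)
    (x : P₁) (hx : g x ∈ m • (⊤ : Submodule A P₂)) :
    x ∈ LinearMap.range f ⊔ m • (⊤ : Submodule A P₁) := by
  have h0 : g.rTensor (A ⧸ m) (x ⊗ₜ[A] (1 : A ⧸ m)) = 0 := by
    rw [LinearMap.rTensor_tmul]
    apply (tensorQuotEquivQuotSMul P₂ m).injective
    rw [map_zero, ← map_one (Ideal.Quotient.mk m), tensorQuotEquivQuotSMul_tmul_mk, one_smul,
      Submodule.Quotient.mk_eq_zero]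
    exact hx
  obtain ⟨w, hw⟩ := hex _ h0
  have hle : m • (⊤ : Submodule A P₀) ≤ (m • (⊤ : Submodule A P₁)).comap f := by
    rw [Submodule.smul_le]
    intro r hr x _
    rw [Submodule.mem_comap, map_smul]
    exact Submodule.smul_mem_smul hr trivial
  have key : (tensorQuotEquivQuotSMul P₁ m).toLinearMap ∘ₗ f.rTensor (A ⧸ m) =
      (Submodule.mapQ _ _ f hle) ∘ₗ (tensorQuotEquivQuotSMul P₀ m).toLinearMap := by
    apply TensorProduct.ext'
    intro y a
    obtain ⟨a, rfl⟩ := Ideal.Quotient.mk_surjective a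
    simp
  have h1 := congrArg (tensorQuotEquivQuotSMul P₁ m) hw
  rw [← LinearEquiv.coe_coe, ← LinearMap.comp_apply, key, LinearMap.comp_apply,
    ← map_one (Ideal.Quotient.mk m), LinearEquiv.coe_coe, LinearEquiv.coe_coe,
    tensorQuotEquivQuotSMul_tmul_mk, one_smul] at h1
  obtain ⟨w₀, hw₀⟩ := Submodule.Quotient.mk_surjective _ (tensorQuotEquivQuotSMul P₀ m w)
  rw [← hw₀, Submodule.mapQ_apply, Submodule.Quotient.eq] at h1
  have : x = f w₀ + (x - f w₀) := by abel
  rw [this]
  refine Submodule.add_mem_sup ⟨w₀, rfl⟩ ?_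
  have := Submodule.neg_mem _ h1
  rwa [neg_sub] at this

theorem proj_coker₃ [IsNoetherianRing A] {P₀ P₁ P₂ : Type u} [AddCommGroup P₀] [Module A P₀]
    [AddCommGroup P₁] [Module A P₁] [AddCommGroup P₂] [Module A P₂]
    [Module.Finite A P₁] [Module.Finite A P₂] [Module.Projective A P₂]
    (f : P₀ →ₗ[A] P₁) (g : P₁ →ₗ[A] P₂) (hgf : g ∘ₗ f = 0)
    (hex : ∀ m : Ideal A, m.IsMaximal → ∀ x₂ : P₁ ⊗[A] (A ⧸ m), g.rTensor (A ⧸ m) x₂ = 0 →
      ∃ x₁, f.rTensor (A ⧸ m) x₁ = x₂) :
    Module.Projective A (P₂ ⧸ LinearMap.range g) := by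
  have hle : LinearMap.range f ≤ LinearMap.ker g := by
    rintro _ ⟨y, rfl⟩
    exact LinearMap.congr_fun hgf y
  let h₀ : (P₁ ⧸ LinearMap.range f) →ₗ[A] P₂ := (LinearMap.range f).liftQ g hle
  have hr : LinearMap.range h₀ = LinearMap.range g := Submodule.range_liftQ _ _ _
  have : Module.FinitePresentation A (P₂ ⧸ LinearMap.range h₀) :=
    Module.finitePresentation_of_finite A _
  have hp := proj_coker h₀ (by
    intro m hm x hx
    obtain ⟨x, rfl⟩ := Submodule.Quotient.mk_surjective _ x
    have hx' : g x ∈ m • (⊤ : Submodule A P₂) := hx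
    have h1 := reflects_of_tensor_exact f g m (hex m hm) x hx'
    obtain ⟨y, ⟨w, rfl⟩, z, hz, rfl⟩ := Submodule.mem_sup.mp h1
    have h2 : (Submodule.Quotient.mk (f w + z) : P₁ ⧸ LinearMap.range f) =
        (LinearMap.range f).mkQ z := by
      have : (Submodule.Quotient.mk (f w) : P₁ ⧸ LinearMap.range f) = 0 :=
        (Submodule.Quotient.mk_eq_zero _).mpr (LinearMap.mem_range_self f w)
      rw [Submodule.Quotient.mk_add, this, zero_add]
      rfl
    rw [h2]
    have h3 : (LinearMap.range f).mkQ z ∈ (m • (⊤ : Submodule A P₁)).map (LinearMap.range f).mkQ :=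
      Submodule.mem_map_of_mem hz
    rw [Submodule.map_smul''] at h3
    exact Submodule.smul_mono le_rfl le_top h3)
  exact Module.Projective.of_equiv (Submodule.quotEquivOfEq _ _ hr)

end Global

section Main

theorem main (A : Type u) [CommRing A] [IsNoetherianRing A]
    (Q : CochainComplex (ModuleCat.{u} A) ℤ)
    (hQ : ∀ i, Module.Finite A (Q.X i) ∧ Module.Projective A (Q.X i)) (d : ℤ)
    (h2 : ∀ (m : Ideal A) [m.IsMaximal], ∀ p < d,
      IsZero ((CohIII.tensorObj Q (ModuleCat.of A (A ⧸ m))).homology p)) :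
    Module.Projective A (Q.opcycles d) := by
  have hrel : (ComplexShape.up ℤ).Rel (d - 1) d := by simp
  have hrel0 : (ComplexShape.up ℤ).Rel (d - 2) (d - 1) := by
    show d - 2 + 1 = d - 1
    omega
  let e : Q.opcycles d ≅ ModuleCat.of A (Q.X d ⧸ LinearMap.range (Q.d (d - 1) d).hom) :=
    IsColimit.coconePointUniqueUpToIso
      (Q.opcyclesIsCokernel (d - 1) d ((ComplexShape.up ℤ).prev_eq' hrel))
      (ModuleCat.cokernelIsColimit (Q.d (d - 1) d))
  have := (hQ (d - 1)).1
  have := (hQ d).1
  have := (hQ d).2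
  have hp : Module.Projective A (Q.X d ⧸ LinearMap.range (Q.d (d - 1) d).hom) := by
    refine proj_coker₃ (Q.d (d - 2) (d - 1)).hom (Q.d (d - 1) d).hom ?_ ?_
    · rw [← ModuleCat.hom_comp, Q.d_comp_d]
      rfl
    · intro m hm x₂ hx₂
      have hz := h2 m (d - 1) (by omega)
      have hex : (CohIII.tensorObj Q (ModuleCat.of A (A ⧸ m))).ExactAt (d - 1) :=
        (HomologicalComplex.exactAt_iff_isZero_homology _ _).mpr hz
      rw [HomologicalComplex.exactAt_iff' _ (d - 2) (d - 1) d
        ((ComplexShape.up ℤ).prev_eq' hrel0) ((ComplexShape.up ℤ).next_eq' hrel)] at hex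
      rw [ShortComplex.moduleCat_exact_iff] at hex
      exact hex x₂ hx₂
  exact Module.Projective.of_equiv e.symm.toLinearEquiv

end Main

end Aux

open CategoryTheory CategoryTheory.Limits in
/-- Let A be a Noetherian ring, Q a cochain complex whose terms are finitely generated projective
A-modules, and d an integer such that H^p(Q) = 0 for every p < d and H^p(Q ⊗_A A/m) = 0 for every p
< d and every maximal ideal m of A. Then Q^d / im(Q^{d-1} → Q^d), the degree-d term of the
truncation τ_{≥ d} Q, is a projective A-module, so that τ_{≥ d} Q is again a complex of projective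
modules. (The published statement also asserts that Q → τ_{≥ d} Q is a quasi-isomorphism when H^p(Q)
= 0 for p < d; this row omits that clause.) -/
theorem result (A : Type u) [CommRing A] [IsNoetherianRing A]
    (Q : CochainComplex (ModuleCat.{u} A) ℤ)
    (hQ : ∀ i, Module.Finite A (Q.X i) ∧ Module.Projective A (Q.X i)) (d : ℤ)
    (h1 : ∀ p < d, IsZero (Q.homology p))
    (h2 : ∀ (m : Ideal A) [m.IsMaximal], ∀ p < d,
      IsZero ((CohIII.tensorObj Q (ModuleCat.of A (A ⧸ m))).homology p)) :
    Module.Projective A (Q.opcycles d) := by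
  exact main A Q hQ d h2

end Groth.Agent.S14611
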