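import Groth.Statements.S14612
import Groth.Agent.Lib.helper11.FlatKer

set_option autoImplicit false
universe u
open FlatCx

namespace Groth.Agent.S14612

open CategoryTheory CategoryTheory.Limits in
/-- Let A be a commutative ring and F a cochain complex of flat A-modules which is bounded above (F^i =
0 for all large i) and whose cohomology H^p(F) vanishes for every p > d. Then the module of
d-cocycles Z^d = ker(F^d → F^{d+1}) is flat over A; hence the truncation τ_{≤ d} F is again a
complex of flat modules (and τ_{≤ d} F → F is a quasi-isomorphism, which is not restated).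
Boundedness cannot be dropped. -/
theorem result (A : Type u) [CommRing A]
    (F : CochainComplex (ModuleCat.{u} A) ℤ) (hF : ∀ i, Module.Flat A (F.X i))
    (hb : ∃ b : ℤ, ∀ i, b < i → IsZero (F.X i)) (d : ℤ) (hac : ∀ p, d < p → IsZero (F.homology p)) :
    Module.Flat A (F.cycles d) := by
  obtain ⟨b, hb⟩ := hb
  -- the inductive step
  have step : ∀ i : ℤ, d ≤ i → Module.Flat A (F.cycles (i + 1)) → Module.Flat A (F.cycles i) := by
    intro i hi hflat
    have hrel : (ComplexShape.up ℤ).Rel i (i + 1) := rfl
    have hnext : (ComplexShape.up ℤ).next i = i + 1 := (ComplexShape.up ℤ).next_eq' hrel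
    have hprev : (ComplexShape.up ℤ).prev (i + 1) = i := (ComplexShape.up ℤ).prev_eq' hrel
    have hXi := hF i
    have hepi : Epi (F.toCycles i (i + 1)) :=
      Preadditive.epi_of_isZero_cokernel' _ (F.homologyIsCokernel i (i + 1) hprev)
        (hac (i + 1) (by omega))
    have hsurj : Function.Surjective (F.toCycles i (i + 1)).hom :=
      (ModuleCat.epi_iff_surjective _).mp hepi
    have hinj : Function.Injective (F.iCycles i).hom :=
      (ModuleCat.mono_iff_injective _).mp inferInstance
    have hinj' : Function.Injective (F.iCycles (i + 1)).hom :=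
      (ModuleCat.mono_iff_injective _).mp inferInstance
    have hex : Function.Exact (F.iCycles i).hom (F.toCycles i (i + 1)).hom := by
      intro x
      have hd : ∀ y, (F.iCycles (i + 1)).hom ((F.toCycles i (i + 1)).hom y) = (F.d i (i + 1)).hom y :=
        fun y => congrArg (fun t => t.hom y) (F.toCycles_i i (i + 1))
      constructor
      · intro hx
        have hdx : (F.d i (i + 1)).hom x = 0 := by rw [← hd, hx, map_zero]
        let e := IsLimit.conePointUniqueUpToIso (F.cyclesIsKernel i (i + 1) hnext)
          (ModuleCat.kernelIsLimit (F.d i (i + 1)))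
        have he : e.inv ≫ F.iCycles i = ModuleCat.ofHom (LinearMap.ker (F.d i (i + 1)).hom).subtype :=
          IsLimit.conePointUniqueUpToIso_inv_comp (F.cyclesIsKernel i (i + 1) hnext)
            (ModuleCat.kernelIsLimit (F.d i (i + 1))) WalkingParallelPair.zero
        refine ⟨e.inv.hom ⟨x, hdx⟩, ?_⟩
        exact congrArg (fun t => t.hom (⟨x, hdx⟩ : LinearMap.ker (F.d i (i + 1)).hom)) he
      · rintro ⟨z, rfl⟩
        apply hinj'
        rw [hd, map_zero]
        exact congrArg (fun t => t.hom z) (F.iCycles_d i (i + 1))
    exact Groth.Agent.Lib.helper11.FlatKer.flat_of_exact_of_flat hex hsurj hinj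
  -- the base case
  have base : ∀ i : ℤ, b < i → Module.Flat A (F.cycles i) := by
    intro i hi
    have hz : IsZero (F.cycles i) := by
      have hmono : Mono (F.iCycles i) := inferInstance
      exact IsZero.of_mono (F.iCycles i) (hb i hi)
    have : Subsingleton (F.cycles i) := ModuleCat.subsingleton_of_isZero hz
    infer_instance
  -- descending induction
  have key : ∀ n : ℕ, ∀ i : ℤ, d ≤ i → b < i + n → Module.Flat A (F.cycles i) := by
    intro n
    induction n with
    | zero =>
      intro i _ hi
      exact base i (by simpa using hi)
    | succ n ih =>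
      intro i hdi hi
      exact step i hdi (ih (i + 1) (by omega) (by push_cast at hi; omega))
  exact key (b - d + 1).toNat d le_rfl (by omega)

end Groth.Agent.S14612
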