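import Groth.Statements.S14614
import Mathlib
-- import your own Groth.Agent.* helpers here

set_option autoImplicit false
universe u
open Mor

namespace Groth.Agent.S14614

section H
open CategoryTheory CategoryTheory.Limits AlgebraicGeometry
namespace W16
set_option backward.isDefEq.respectTransparency.types false

theorem isArtinian_quot_pow {R : Type u} [CommRing R] [IsNoetherianRing R] [IsLocalRing R] (n : ℕ) :
    IsArtinianRing (R ⧸ (IsLocalRing.maximalIdeal R) ^ (n + 1)) := by
  apply IsLocalRing.quotient_artinian_of_mem_minimalPrimes_of_isLocalRing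
  rw [← Ideal.radical_minimalPrimes, Ideal.radical_pow _ (Nat.succ_ne_zero n),
    Ideal.radical_minimalPrimes, Ideal.minimalPrimes_eq_subsingleton_self]
  exact Set.mem_singleton _

theorem aux_germ {S : Scheme.{u}} {A : CommRingCat.{u}} [IsLocalRing A] {x : S}
    (f : S.presheaf.stalk x ⟶ A) [IsLocalHom f.hom] (q : Spec A ⟶ S)
    (hq : q = Spec.map f ≫ S.fromSpecStalk x) (U : S.Opens) (hU : q (IsLocalRing.closedPoint A) ∈ U)
    (hxU : x ∈ U) :
    S.presheaf.germ U _ hU ≫ Scheme.stalkClosedPointTo q = S.presheaf.germ U x hxU ≫ f := by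
  subst hq
  exact Scheme.germ_stalkClosedPointTo_Spec_fromSpecStalk f U hU

theorem stalk_injective (S : Scheme.{u}) [IsLocallyNoetherian S]
    {Z : Scheme.{u}} (i : Z ⟶ S) [IsClosedImmersion i]
    (h : ∀ (A : Type u) [CommRing A] [IsArtinianRing A] [IsLocalRing A]
      (g : Spec (CommRingCat.of A) ⟶ S),
      (∃ t : Spec (CommRingCat.of (IsLocalRing.ResidueField A)) ⟶ Z,
          t ≫ i = Spec.map (CommRingCat.ofHom (IsLocalRing.residue A)) ≫ g) →
        ∃ g' : Spec (CommRingCat.of A) ⟶ Z, g' ≫ i = g) (z : Z) :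
    Function.Injective (i.stalkMap z) := by
  obtain ⟨V, hV, hzV⟩ : ∃ V : S.Opens, IsAffineOpen V ∧ i z ∈ V := by
    obtain ⟨_, ⟨V, hV, rfl⟩, hxV, -⟩ :=
      S.isBasis_affineOpens.exists_subset_of_mem_open (Set.mem_univ (i z)) isOpen_univ
    exact ⟨V, hV, hxV⟩
  apply IsAffineOpen.stalkMap_injective i hV z hzV
  intro c hc
  let R : CommRingCat.{u} := S.presheaf.stalk (i z)
  let T : CommRingCat.{u} := Z.presheaf.stalk z
  let ψ : R ⟶ T := i.stalkMap z
  have hψs : Function.Surjective ψ.hom := i.stalkMap_surjective z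
  let m : Ideal R := IsLocalRing.maximalIdeal R
  have hkrull : (⨅ n : ℕ, m ^ n) = ⊥ :=
    Ideal.iInf_pow_eq_bot_of_isLocalRing m (IsLocalRing.maximalIdeal.isMaximal R).ne_top
  have hmem : S.presheaf.germ V (i z) hzV c ∈ ⨅ n : ℕ, m ^ n := by
    rw [Ideal.mem_iInf]
    intro n
    apply Ideal.pow_le_pow_right (Nat.le_succ n)
    -- Artinian quotient
    have hle : m ^ (n + 1) ≤ m := Ideal.pow_le_self (Nat.succ_ne_zero n)
    have hne : m ^ (n + 1) ≠ ⊤ := fun h' =>
      (IsLocalRing.maximalIdeal.isMaximal R).ne_top (top_le_iff.1 (h' ▸ hle))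
    have hnt : Nontrivial (R ⧸ m ^ (n + 1)) := Ideal.Quotient.nontrivial_iff.2 hne
    have hloc : IsLocalRing (R ⧸ m ^ (n + 1)) :=
      IsLocalRing.of_surjective' (Ideal.Quotient.mk _) Ideal.Quotient.mk_surjective
    have hart : IsArtinianRing (R ⧸ m ^ (n + 1)) := isArtinian_quot_pow n
    let π : R →+* (R ⧸ m ^ (n + 1)) := Ideal.Quotient.mk _
    have hπloc : IsLocalHom π := isLocalHom_of_le_jacobson_bot _ (by
      rw [IsLocalRing.jacobson_eq_maximalIdeal ⊥ bot_ne_top]; exact hle)
    let ρ : R →+* IsLocalRing.ResidueField (R ⧸ m ^ (n + 1)) :=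
      (IsLocalRing.residue (R ⧸ m ^ (n + 1))).comp π
    have hker : RingHom.ker ψ.hom ≤ RingHom.ker ρ := by
      intro r hr
      have hrm : r ∈ m := by
        by_contra hcon
        have hu : IsUnit r := by
          by_contra hnu
          exact hcon ((IsLocalRing.mem_maximalIdeal r).2 hnu)
        have hu' : IsUnit (ψ.hom r) := hu.map ψ.hom
        rw [RingHom.mem_ker.1 hr] at hu'
        exact not_isUnit_zero hu'
      rw [RingHom.mem_ker]
      show IsLocalRing.residue _ (π r) = 0
      rw [IsLocalRing.residue_eq_zero_iff, IsLocalRing.mem_maximalIdeal]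
      intro hu
      exact (IsLocalRing.mem_maximalIdeal r).1 hrm (hπloc.map_nonunit r hu)
    let θ : T →+* IsLocalRing.ResidueField (R ⧸ m ^ (n + 1)) :=
      ψ.hom.liftOfSurjective hψs ⟨ρ, hker⟩
    have hθ : θ.comp ψ.hom = ρ := RingHom.liftOfSurjective_comp ψ.hom hψs ⟨ρ, hker⟩
    let g : Spec (CommRingCat.of (R ⧸ m ^ (n + 1))) ⟶ S :=
      Spec.map (CommRingCat.ofHom π) ≫ S.fromSpecStalk (i z)
    let t : Spec (CommRingCat.of (IsLocalRing.ResidueField (R ⧸ m ^ (n + 1)))) ⟶ Z :=
      Spec.map (CommRingCat.ofHom θ) ≫ Z.fromSpecStalk z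
    have ht : t ≫ i = Spec.map (CommRingCat.ofHom (IsLocalRing.residue (R ⧸ m ^ (n + 1)))) ≫ g := by
      show (Spec.map (CommRingCat.ofHom θ) ≫ Z.fromSpecStalk z) ≫ i = _ ≫ Spec.map _ ≫ _
      rw [Category.assoc, ← Scheme.SpecMap_stalkMap_fromSpecStalk, ← Category.assoc,
        ← Category.assoc, ← Spec.map_comp, ← Spec.map_comp]
      congr 2
      ext r
      exact congrArg (fun k => k r) hθ
    obtain ⟨g', hg'⟩ := h (R ⧸ m ^ (n + 1)) g ⟨t, ht⟩
    have hgc : g (IsLocalRing.closedPoint (R ⧸ m ^ (n + 1))) = i z := by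
      show (Spec.map (CommRingCat.ofHom π) ≫ S.fromSpecStalk (i z))
        (IsLocalRing.closedPoint (R ⧸ m ^ (n + 1))) = i z
      rw [Scheme.Hom.comp_apply]
      erw [Spec_closedPoint]
      rw [Scheme.fromSpecStalk_closedPoint]
    have hz : g' (IsLocalRing.closedPoint (R ⧸ m ^ (n + 1))) = z := by
      apply i.injective
      rw [← Scheme.Hom.comp_apply, hg', hgc]
    have hU : (g' ≫ i) (IsLocalRing.closedPoint (R ⧸ m ^ (n + 1))) ∈ V := by
      rw [hg', hgc]; exact hzV
    have key := aux_germ (CommRingCat.ofHom π) (g' ≫ i) hg' V hU hzV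
    rw [Scheme.stalkClosedPointTo_comp] at key
    have h0 : ∀ (w : Z) (hw : i w ∈ V), w = z →
        Z.presheaf.germ (i ⁻¹ᵁ V) w hw (i.app V c) = 0 := by
      rintro w hw rfl
      have h1 := congrArg (fun k => k.hom c) (Scheme.Hom.germ_stalkMap i V w hw)
      have h2 : (i.stalkMap w).hom (S.presheaf.germ V (i w) hw c) =
          Z.presheaf.germ (i ⁻¹ᵁ V) w hw (i.app V c) := h1
      rw [← h2]
      exact hc
    have key2 := congrArg (fun k => k.hom c) key
    have key3 : (Scheme.stalkClosedPointTo g').hom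
        ((i.stalkMap (g' (IsLocalRing.closedPoint (R ⧸ m ^ (n + 1))))).hom
          (S.presheaf.germ V (i (g' (IsLocalRing.closedPoint (R ⧸ m ^ (n + 1))))) hU c)) =
        π (S.presheaf.germ V (i z) hzV c) := key2
    have h3 := congrArg (fun k => k.hom c)
      (Scheme.Hom.germ_stalkMap i V (g' (IsLocalRing.closedPoint (R ⧸ m ^ (n + 1)))) hU)
    have h4 : (i.stalkMap (g' (IsLocalRing.closedPoint (R ⧸ m ^ (n + 1))))).hom
          (S.presheaf.germ V (i (g' (IsLocalRing.closedPoint (R ⧸ m ^ (n + 1))))) hU c) =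
        Z.presheaf.germ (i ⁻¹ᵁ V) (g' (IsLocalRing.closedPoint (R ⧸ m ^ (n + 1)))) hU
          (i.app V c) := h3
    rw [h4] at key3
    have h5 := h0 _ hU hz
    have key4 : π (S.presheaf.germ V (i z) hzV c) = 0 :=
      key3.symm.trans ((congrArg (Scheme.stalkClosedPointTo g').hom h5).trans (map_zero _))
    exact Ideal.Quotient.eq_zero_iff_mem.1 key4
  rw [hkrull] at hmem
  exact hmem

theorem main (S : Scheme.{u}) [IsLocallyNoetherian S]
    {Z : Scheme.{u}} (i : Z ⟶ S) [IsClosedImmersion i]
    (h : ∀ (A : Type u) [CommRing A] [IsArtinianRing A] [IsLocalRing A]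
      (g : Spec (CommRingCat.of A) ⟶ S),
      (∃ t : Spec (CommRingCat.of (IsLocalRing.ResidueField A)) ⟶ Z,
          t ≫ i = Spec.map (CommRingCat.ofHom (IsLocalRing.residue A)) ≫ g) →
        ∃ g' : Spec (CommRingCat.of A) ⟶ Z, g' ≫ i = g) :
    IsOpenImmersion i := by
  have hflat : Flat i := by
    rw [Flat.iff_flat_stalkMap]
    intro z
    exact RingHom.Flat.of_bijective ⟨stalk_injective S i h z, i.stalkMap_surjective z⟩
  have hlfp : LocallyOfFinitePresentation i := inferInstance
  exact IsOpenImmersion.of_flat_of_mono i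

end W16
end H


open CategoryTheory AlgebraicGeometry in
/-- Let S be a locally Noetherian scheme and i : Z → S a closed immersion with the following property:
for every Artinian local ring A with residue field k and every morphism g : Spec A → S, if the
restriction Spec k → Spec A → S of g factors through i then so does g. Then i is also an open
immersion, i.e. the closed subscheme Z is open in S as a subscheme. (The published hypothesis is an
equivalence; its other direction always holds, so this row assumes only the implication.) -/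
theorem result (S : Scheme.{u}) [IsLocallyNoetherian S]
    {Z : Scheme.{u}} (i : Z ⟶ S) [IsClosedImmersion i]
    (h : ∀ (A : Type u) [CommRing A] [IsArtinianRing A] [IsLocalRing A] (g : Spec (CommRingCat.of A) ⟶ S),
      (∃ t : Spec (CommRingCat.of (IsLocalRing.ResidueField A)) ⟶ Z,
          t ≫ i = Spec.map (CommRingCat.ofHom (IsLocalRing.residue A)) ≫ g) →
        ∃ g' : Spec (CommRingCat.of A) ⟶ Z, g' ≫ i = g) :
    IsOpenImmersion i := by
  exact W16.main S i h

end Groth.Agent.S14614
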