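import Groth.Statements.S14615
import Mathlib.Tactic

set_option autoImplicit false
universe u
open Formal2

namespace Groth.Agent.S14615


section
variable {G : ℕ → Type u} [∀ n, AddCommGroup (G n)] (t : ∀ n, G (n + 1) →+ G n)
  (y : ∀ n, G n)

/-- partial sums: `S d n = y_n + t_n(y_{n+1} + t_{n+1}(… ))` with `d` terms. -/
private def S : ℕ → ∀ n, G n
  | 0, _ => 0
  | d + 1, n => y n + t n (S d (n + 1))

/-- differences `S (d+1) n - S d n`. -/
private def D (d : ℕ) (n : ℕ) : G n := S t y (d + 1) n - S t y d n

private lemma D_succ (d n : ℕ) : D t y (d + 1) n = t n (D t y d (n + 1)) := by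
  simp only [D, S, map_sub]
  abel

private lemma D_vanish
    (i j : ℕ)
    (hj : ∀ x : ∀ n, G n, (∀ n, i ≤ n → n < j → x n = t n (x (n + 1))) → x i = 0)
    (d : ℕ) (hd : j ≤ i + d) : D t y d i = 0 := by
  have := hj (fun m => D t y (i + d - m) m) (by
    intro n hin hnj
    have h1 : i + d - n = (i + d - (n + 1)) + 1 := by omega
    show D t y (i + d - n) n = t n (D t y (i + d - (n + 1)) (n + 1))
    rw [h1, D_succ])
  simpa using this

end

/-- Let … → G_2 → G_1 → G_0 be an inverse system of abelian groups with transition maps t_n : G_{n+1} →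
G_n, and suppose that for every i there is j ≥ i such that the composite transition map G_j → G_i is
zero; this is expressed by asking that every sequence (x_n) ∈ ∏ G_n satisfying x_n = t_n(x_{n+1})
for i ≤ n < j has x_i = 0. Then both lim G_n and lim¹ G_n vanish: the map (x_n) ↦ (x_n −
t_n(x_{n+1})) on ∏ G_n, whose kernel is lim and whose cokernel is lim¹, is injective and surjective. -/
theorem result (G : ℕ → Type u)
    [∀ n, AddCommGroup (G n)] (t : ∀ n, G (n + 1) →+ G n)
    (h : ∀ i : ℕ, ∃ j : ℕ, i ≤ j ∧
      ∀ x : ∀ n, G n, (∀ n, i ≤ n → n < j → x n = t n (x (n + 1))) → x i = 0) :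
    Formal2.limZero G t = ⊥ ∧ Function.Surjective (Formal2.towerDiff G t) := by
  constructor
  · rw [eq_bot_iff]
    intro x hx
    rw [AddSubgroup.mem_bot]
    have hx' : ∀ n, x n = t n (x (n + 1)) := by
      intro n
      have := congrFun ((AddMonoidHom.mem_ker).1 hx) n
      exact sub_eq_zero.1 this
    ext i
    obtain ⟨j, _, hj⟩ := h i
    exact hj x (fun n _ _ => hx' n)
  · intro y
    choose j hij hj using h
    have hstab : ∀ n d, j n - n ≤ d → S t y d n = S t y (j n - n) n := by
      intro n d hd
      induction d, hd using Nat.le_induction with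
      | base => rfl
      | succ d hd ih =>
        have h0 := D_vanish t y n (j n) (hj n) d (by omega)
        rw [D, sub_eq_zero] at h0
        rw [h0, ih]
    refine ⟨fun n => S t y (j n - n) n, ?_⟩
    ext n
    show S t y (j n - n) n - t n (S t y (j (n + 1) - (n + 1)) (n + 1)) = y n
    set d := max (j n - n) (j (n + 1) - (n + 1) + 1) with hd
    have h1 : S t y (j n - n) n = S t y d n := (hstab n d (le_max_left _ _)).symm
    obtain ⟨d', hd'⟩ : ∃ d', d = d' + 1 := ⟨d - 1, by
      have : 1 ≤ d := le_trans (Nat.le_add_left 1 _) (le_max_right _ _)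
      omega⟩
    have h2 : S t y (j (n + 1) - (n + 1)) (n + 1) = S t y d' (n + 1) := by
      refine (hstab (n + 1) d' ?_).symm
      have : j (n + 1) - (n + 1) + 1 ≤ d := le_max_right _ _
      omega
    rw [h1, h2, hd']
    simp only [S]
    abel

end Groth.Agent.S14615
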