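import Groth.Statements.S14617
-- import your own Groth.Agent.* helpers here
import Groth.Agent.Lib.Helper26.Snake6

set_option autoImplicit false
universe u
open Formal2

namespace Groth.Agent.S14617

/-- Let 0 → (G'_n) → (G_n) → (G''_n) → 0 be a short exact sequence of inverse systems of abelian groups
indexed by ℕ: maps u_n : G'_n → G_n and v_n : G_n → G''_n commuting with the transition maps, with
u_n injective, v_n surjective and ker v_n = im u_n for every n. Writing lim and lim¹ for the kernel
and cokernel of (x_n) ↦ (x_n − t_n(x_{n+1})) on the product, there is an exact sequence 0 → lim G' →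
lim G → lim G'' → lim¹ G' → lim¹ G → lim¹ G'' → 0 in which the four outer maps are the ones induced
by u and v on products and the connecting map δ sends a compatible sequence (z_n) to the class of
the unique (w_n) with u_n(w_n) = y_n − t_n(y_{n+1}), for any levelwise lift (y_n) of (z_n). -/
theorem result (G' G G'' : ℕ → Type u)
    [∀ n, AddCommGroup (G' n)] [∀ n, AddCommGroup (G n)] [∀ n, AddCommGroup (G'' n)]
    (t' : ∀ n, G' (n + 1) →+ G' n) (t : ∀ n, G (n + 1) →+ G n) (t'' : ∀ n, G'' (n + 1) →+ G'' n)
    (u : ∀ n, G' n →+ G n) (v : ∀ n, G n →+ G'' n)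
    (hu : ∀ n x, t n (u (n + 1) x) = u n (t' n x)) (hv : ∀ n x, t'' n (v (n + 1) x) = v n (t n x))
    (hinj : ∀ n, Function.Injective (u n)) (hsurj : ∀ n, Function.Surjective (v n))
    (hex : ∀ n, (v n).ker = (u n).range) :
    ∃ (α : Formal2.limZero G' t' →+ Formal2.limZero G t) (β : Formal2.limZero G t →+ Formal2.limZero G'' t'')
      (δ : Formal2.limZero G'' t'' →+ Formal2.limOne G' t')
      (ε : Formal2.limOne G' t' →+ Formal2.limOne G t) (ζ : Formal2.limOne G t →+ Formal2.limOne G'' t''),
      (∀ (x : Formal2.limZero G' t') (n : ℕ), (α x : ∀ n, G n) n = u n ((x : ∀ n, G' n) n)) ∧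
      (∀ (x : Formal2.limZero G t) (n : ℕ), (β x : ∀ n, G'' n) n = v n ((x : ∀ n, G n) n)) ∧
      (∀ (z : Formal2.limZero G'' t'') (y : ∀ n, G n) (w : ∀ n, G' n),
          (∀ n, v n (y n) = (z : ∀ n, G'' n) n) → (∀ n, u n (w n) = Formal2.towerDiff G t y n) →
            δ z = (QuotientAddGroup.mk w : Formal2.limOne G' t')) ∧
      (∀ y : ∀ n, G' n, ε (QuotientAddGroup.mk y : Formal2.limOne G' t') =
          (QuotientAddGroup.mk (fun n => u n (y n)) : Formal2.limOne G t)) ∧
      (∀ y : ∀ n, G n, ζ (QuotientAddGroup.mk y : Formal2.limOne G t) =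
          (QuotientAddGroup.mk (fun n => v n (y n)) : Formal2.limOne G'' t'')) ∧
      Function.Injective α ∧ α.range = β.ker ∧ β.range = δ.ker ∧ δ.range = ε.ker ∧ ε.range = ζ.ker ∧
      Function.Surjective ζ := by
  classical
  let U : (∀ n, G' n) →+ (∀ n, G n) :=
    { toFun := fun x n => u n (x n)
      map_zero' := by ext n; simp
      map_add' := fun x y => by ext n; simp }
  let V : (∀ n, G n) →+ (∀ n, G'' n) :=
    { toFun := fun x n => v n (x n)
      map_zero' := by ext n; simp
      map_add' := fun x y => by ext n; simp }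
  have hU : Function.Injective U := by
    intro x y hxy
    funext n
    exact hinj n (congrFun hxy n)
  have hV : Function.Surjective V := by
    intro z
    choose y hy using fun n => hsurj n (z n)
    exact ⟨y, funext hy⟩
  have hUV : V.ker = U.range := by
    ext x
    constructor
    · intro hx
      rw [AddMonoidHom.mem_ker] at hx
      have : ∀ n, x n ∈ (u n).range := fun n => by
        rw [← hex n, AddMonoidHom.mem_ker]
        exact congrFun hx n
      choose w hw using this
      exact ⟨w, funext hw⟩
    · rintro ⟨w, rfl⟩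
      rw [AddMonoidHom.mem_ker]
      funext n
      have : u n (w n) ∈ (v n).ker := by rw [hex n]; exact ⟨_, rfl⟩
      exact this
  have c₁ : ∀ x, Formal2.towerDiff G t (U x) = U (Formal2.towerDiff G' t' x) := by
    intro x
    funext n
    show u n (x n) - t n (u (n + 1) (x (n + 1))) = u n (x n - t' n (x (n + 1)))
    rw [hu, map_sub]
  have c₂ : ∀ x, Formal2.towerDiff G'' t'' (V x) = V (Formal2.towerDiff G t x) := by
    intro x
    funext n
    show v n (x n) - t'' n (v (n + 1) (x (n + 1))) = v n (x n - t n (x (n + 1)))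
    rw [hv, map_sub]
  obtain ⟨α, β, δ, ε, ζ, h1, h2, h3, h4, h5, h6, h7, h8, h9, h10, h11⟩ :=
    Groth.Agent.Lib.Helper26.Snake6.six_term U V U V (Formal2.towerDiff G' t')
      (Formal2.towerDiff G t) (Formal2.towerDiff G'' t'') hU hV hUV hU hV hUV c₁ c₂
  refine ⟨α, β, δ, ε, ζ, fun x n => congrFun (h1 x) n, fun x n => congrFun (h2 x) n, ?_, h4, h5,
    h6, h7, h8, h9, h10, h11⟩
  intro z y w hy hw
  exact h3 z y w (funext hy) (funext hw)

end Groth.Agent.S14617
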