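import Groth.Statements.S14619
import Groth.Agent.Lib.Helper6.FibreLinkD
import Groth.Agent.Lib.Helper2.GT2

set_option autoImplicit false
universe u
open Coherent

namespace Groth.Agent.S14619

open CategoryTheory CategoryTheory.Limits AlgebraicGeometry in
/-- Let A be a Noetherian ring, X a proper scheme over Spec A and F a coherent O_X-module flat over Spec
A. Suppose H^p(X, F) = 0 for all p > d and H^p(X_y, F|X_y) = 0 for every point y of Spec A and every
p < d'. Then there is a cochain complex L of finitely generated projective A-modules, with L^i = 0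
unless d' ≤ i ≤ d and with L = 0 when all H^p(X, F) vanish, such that for every A-algebra B and
every p the cohomology H^p(X ×_A Spec B, ξ^*F) of the pulled-back module is isomorphic to H^p(L ⊗_A
B). Only the existence of these isomorphisms of abelian groups is asserted (no naturality in B). -/
theorem result (A : Type u) [CommRing A] [IsNoetherianRing A] (X : Scheme.{u}) [X.Over (Spec (CommRingCat.of A))]
    [IsProper (X ↘ Spec (CommRingCat.of A))] (F : X.Modules) (hF : Coh.IsCoh F)
    (hfl : FlatMod.IsFlatOver (X ↘ Spec (CommRingCat.of A)) F) (d' d : ℕ)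
    (hd : ∀ p : ℕ, d < p → Subsingleton (Coh.HH X F p))
    (hd' : ∀ (y : ↑(Spec (CommRingCat.of A))) (p : ℕ), p < d' →
      Subsingleton (CohIII.fiberH (X ↘ Spec (CommRingCat.of A)) F y p)) :
    ∃ L : CochainComplex (ModuleCat.{u} A) ℤ,
      (∀ i, Module.Finite A (L.X i) ∧ Module.Projective A (L.X i)) ∧
      (∀ i : ℤ, i < (d' : ℤ) ∨ (d : ℤ) < i → IsZero (L.X i)) ∧
      ((∀ p : ℕ, Subsingleton (Coh.HH X F p)) → ∀ i, IsZero (L.X i)) ∧
      ∀ (B : Type u) [CommRing B] [Algebra A B] (p : ℕ),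
        Nonempty (Coh.HH (pullback (X ↘ Spec (CommRingCat.of A)) (Spec.map (CommRingCat.ofHom (algebraMap A B))))
            ((Scheme.Modules.pullback (pullback.fst (X ↘ Spec (CommRingCat.of A))
              (Spec.map (CommRingCat.ofHom (algebraMap A B))))).obj F) p ≃+
          CohIII.T L (p : ℤ) (ModuleCat.of A B)) := by
  open Groth.Agent.Lib.Helper2.BC1 Groth.Agent.Lib.Helper2.BC3 Groth.Agent.Lib.Helper2.BC4
    Groth.Agent.Lib.Helper2.BC5 Groth.Agent.Lib.Helper2.GC3 Groth.Agent.Lib.Helper2.GC4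
    Groth.Agent.Lib.Helper2.GN1 Groth.Agent.Lib.Helper2.BN1 Groth.Agent.Lib.Helper2.BN3
    Groth.Agent.Lib.Helper6.FibreLink in
  haveI : F.IsQuasicoherent := hF.1
  haveI : CompactSpace X := QuasiCompact.compactSpace_of_compactSpace (X ↘ Spec (CommRingCat.of A))
  obtain ⟨t₀, U0, hU0, hcov0⟩ := exists_finite_affine_cover X
  let U : ULift.{u} (Fin t₀) → X.Opens := fun i => U0 i.down
  have hcov : ⨆ i, U i = ⊤ := by
    rw [← hcov0]
    apply le_antisymm
    · exact iSup_le fun i => le_iSup U0 i.down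
    · exact iSup_le fun i => le_iSup U ⟨i⟩
  have hdI : ∀ V W : X.Opens, IsAffineOpen V → IsAffineOpen W → IsAffineOpen (V ⊓ W) :=
    isAffineOpen_inf_of_isSeparated (X ↘ Spec (CommRingCat.of A))
  have hU : ∀ s : Finset (ULift.{u} (Fin t₀)), s.Nonempty → IsAffineOpen (⨅ i ∈ s, U i) :=
    isAffineOpen_biInf hdI U (fun i => hU0 i.down)
  have hnat := fun p => nonempty_natIso A F U hcov hU p
  have hflatC := flat_cechA_X A U F hfl hU
  have hfinC : ∀ n, Module.Finite A ((cechA A F U).homology n) := fun n => by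
    obtain ⟨e⟩ := nonempty_linearEquiv A F U hcov hU n
    haveI := Groth.Agent.Lib.Helper4.ProperFinal.finite_HH A X F hF n
    exact Module.Finite.equiv e.symm
  have hvan₀ : ∀ (M : ModuleCat.{u} A) (p : ℕ), t₀ ≤ p →
      IsZero ((CohIII.tensorObj (cechA A F U) M).homology p) := fun M p hp => by
    obtain ⟨e⟩ := hnat p
    have e1 := e.app M
    haveI hq : Coh.IsQCoh (TA A F M) := (inferInstance : (TA A F M).IsQuasicoherent)
    haveI : Subsingleton (Coh.HH X (TA A F M) p) :=
      Groth.Agent.S0010.result X t₀ U0 hU0 hcov0 hdI _ p hp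
    have hz : IsZero ((CohIII.tensorAFunctor A F ⋙ CohIII.HAb X p).obj M) := by
      haveI : Subsingleton ((CohIII.tensorAFunctor A F ⋙ CohIII.HAb X p).obj M : AddCommGrpCat.{u}) :=
        (inferInstance : Subsingleton (Coh.HH X (TA A F M) p))
      exact AddCommGrpCat.isZero_of_subsingleton _
    have hz2 : IsZero ((forget₂ (ModuleCat.{u} A) AddCommGrpCat.{u}).obj
        ((CohIII.tensorObj (cechA A F U) M).homology p)) := hz.of_iso e1.symm
    haveI : Subsingleton ((CohIII.tensorObj (cechA A F U) M).homology p : ModuleCat.{u} A) :=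
      AddCommGrpCat.subsingleton_of_isZero hz2
    exact ModuleCat.isZero_of_subsingleton _
  -- the upper bound
  obtain ⟨t, ht, ht2, ht3⟩ : ∃ t : ℕ, (∀ p : ℕ, t ≤ p → Subsingleton (Coh.HH X F p)) ∧ t ≤ d + 1 ∧
      ((∀ p : ℕ, Subsingleton (Coh.HH X F p)) → t = 0) := by
    by_cases hall : ∀ p : ℕ, Subsingleton (Coh.HH X F p)
    · exact ⟨0, fun p _ => hall p, by omega, fun _ => rfl⟩
    · exact ⟨d + 1, fun p hp => hd p (by omega), le_refl _, fun h => absurd h hall⟩
  have hvanC0 : ∀ p : ℕ, t ≤ p → IsZero ((cechA A F U).homology p) := fun p hp => by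
    obtain ⟨e⟩ := nonempty_linearEquiv A F U hcov hU p
    haveI := ht p hp
    haveI := e.toEquiv.subsingleton
    exact ModuleCat.isZero_of_subsingleton _
  have hvan := Groth.Agent.Lib.Helper2.GT1.isZero_tensor_homology_of_ge (cechA A F U) hflatC t₀ t
    hvan₀ hvanC0
  obtain ⟨L, hL1, hL2, hL3, hLneg⟩ := Groth.Agent.Lib.Helper2.GT1.exists_finFree_complex_natural'
    (cechA A F U) hflatC hfinC t hvanC0 hvan
  have hbc : BaseChangeProp A X F L := by
    intro B _ _ X' _ g' h p
    obtain ⟨e, he⟩ := exists_addEquiv_of_isPullback A B X X' g' h F U hcov hU p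
    obtain ⟨e2⟩ := hL3 p
    let j := (e2.app (ModuleCat.of A B)).toLinearEquiv
    refine ⟨e.trans j.toAddEquiv, fun a x => ?_⟩
    change j (e (algebraMap A B a • x)) = a • j (e x)
    rw [he]
    exact j.map_smul a _
  have hLff : ∀ i, Module.Finite A (L.X i) ∧ Module.Flat A (L.X i) := fun i =>
    ⟨(hL1 i).1, haveI := (hL1 i).2; inferInstance⟩
  have hLfp : ∀ i, Module.Finite A (L.X i) ∧ Module.Projective A (L.X i) := fun i =>
    ⟨(hL1 i).1, haveI := (hL1 i).2; Module.Projective.of_free⟩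
  have hfib : ∀ (m : Ideal A) [m.IsMaximal] (p : ℕ), p < d' →
      IsZero ((CohIII.TFun L (p : ℤ)).obj (ModuleCat.of A m.ResidueField)) := by
    intro m _ p hp
    let y : PrimeSpectrum A := ⟨m, inferInstance⟩
    exact (isZero_TFun_residueField_iff F L hbc p y).2 (hd' y p hp)
  have hlow := Groth.Agent.Lib.Helper2.GT1.isZero_TFun_of_fibres L hLff hLneg d' hfib
  obtain ⟨K, hK1, hK2, hK3, hK4⟩ := Groth.Agent.Lib.Helper2.GT2.exists_trim L hLfp ((t : ℤ) - 1)
    (fun i hi => hL2 i (by omega)) (d' : ℤ) hlow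
  refine ⟨K, hK1, ?_, ?_, ?_⟩
  · rintro i (hi | hi)
    · exact hK2 i hi
    · exact hK3 i (hL2 i (by omega))
  · intro hall i
    have h0 := ht3 hall
    by_cases hi : i < (d' : ℤ)
    · exact hK2 i hi
    · exact hK3 i (hL2 i (by omega))
  · intro B _ _ p
    letI : (pullback (X ↘ Spec (CommRingCat.of A))
        (Spec.map (CommRingCat.ofHom (algebraMap A B)))).Over (Spec (CommRingCat.of B)) :=
      ⟨pullback.snd _ _⟩
    obtain ⟨e, -⟩ := hbc B (pullback (X ↘ Spec (CommRingCat.of A))
        (Spec.map (CommRingCat.ofHom (algebraMap A B)))) (pullback.fst _ _)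
      (IsPullback.of_hasPullback _ _) p
    obtain ⟨e2⟩ := hK4 (ModuleCat.of A B) (p : ℤ)
    exact ⟨e.trans e2.toLinearEquiv.toAddEquiv⟩

end Groth.Agent.S14619
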