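import Groth.Statements.S14625
-- import your own Groth.Agent.* helpers here
import Groth.Agent.Lib.Helper23.MuConst
import Mathlib.RingTheory.Henselian
import Mathlib.FieldTheory.IsSepClosed

set_option autoImplicit false
open CategoryTheory AlgebraicGeometry
universe u
open EtBase

namespace Groth.Agent.S14625

open Polynomial in
lemma exists_root_cyclotomic (A : Type u) [CommRing A]
    (hA : EtCoh.IsStrictlyHenselianLocalRing A) (n : ℕ) (hn : 1 ≤ n) (hu : IsUnit (n : A)) :
    ∃ z : A, aeval z (cyclotomic n ℤ) = 0 := by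
  obtain ⟨hH, hS⟩ := hA
  let k := IsLocalRing.ResidueField A
  have huk : IsUnit (n : k) := by
    have := hu.map (IsLocalRing.residue A)
    rwa [map_natCast] at this
  haveI : NeZero (n : k) := ⟨huk.ne_zero⟩
  have hdeg : (cyclotomic n k).degree ≠ 0 := by
    rw [degree_cyclotomic]
    exact_mod_cast (Nat.totient_pos.2 (by omega)).ne'
  obtain ⟨x, hx⟩ := IsSepClosed.exists_root (cyclotomic n k) hdeg (separable_cyclotomic n k)
  have hsepA : (cyclotomic n A).Separable := by
    have h1 : (X ^ n - C ((1 : Aˣ) : A) : A[X]).Separable :=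
      separable_X_pow_sub_C_unit 1 hu
    rw [Units.val_one, C_1] at h1
    exact h1.of_dvd (cyclotomic.dvd_X_pow_sub_one n A)
  have h₁ : aeval x (cyclotomic n A) = 0 := by
    rw [aeval_def, ← Polynomial.eval_map, map_cyclotomic]
    exact hx
  have h₂ : aeval x (derivative (cyclotomic n A)) ≠ 0 :=
    hsepA.aeval_derivative_ne_zero h₁
  have hT := (HenselianLocalRing.TFAE A).out 0 1
  obtain ⟨a, ha, -⟩ := hT.1 hH (cyclotomic n A) (cyclotomic.monic n A) x h₁ h₂
  refine ⟨a, ?_⟩
  rw [aeval_def, ← Polynomial.eval_map, map_cyclotomic]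
  exact ha

/-- Let A be a strictly henselian local ring, n ≥ 1 an integer invertible in A, and X a scheme over Spec
A. Then the étale sheaf μ_n of n-th roots of unity on X is isomorphic to the constant sheaf with
value ℤ/n. Only the existence of an isomorphism is asserted; it depends on the choice of a primitive
n-th root of unity in A. -/
theorem result (A : Type u) [CommRing A]
    (hA : EtCoh.IsStrictlyHenselianLocalRing A) (n : ℕ) (hn : 1 ≤ n) (hu : IsUnit (n : A))
    (X : Scheme.{u}) (f : X ⟶ Spec (CommRingCat.of A)) :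
    Nonempty (EtCoh.mu X n ≅ EtCoh.const X (ZMod n)) := by
  obtain ⟨z, hz⟩ := exists_root_cyclotomic A hA n hn hu
  let ψ : A →+* Γ(X, ⊤) := ((Scheme.ΓSpecIso (CommRingCat.of A)).inv ≫ f.appTop).hom
  have hζ : Polynomial.aeval (ψ z) (Polynomial.cyclotomic n ℤ) = 0 := by
    rw [Groth.Agent.Lib.Helper23.MuConst.aeval_ringHom, hz, map_zero]
  have hunit : IsUnit (n : Γ(X, ⊤)) := by
    have := hu.map ψ
    rwa [map_natCast] at this
  exact Groth.Agent.Lib.Helper23.MuConst.nonempty_iso (ψ z) hζ hunit (by omega)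

end Groth.Agent.S14625
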