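import Groth.Statements.S14628
import Groth.Agent.Lib.Helper14.CechGlue
import Mathlib.CategoryTheory.Sites.EpiMono

set_option autoImplicit false
open CategoryTheory CategoryTheory.Limits AlgebraicGeometry
universe u
open EtBase

namespace Groth.Agent.S14628

open Groth.Agent.Lib.Helper14 Groth.Agent.Lib.Helper14.CechPsh Opposite

section Sec

variable {X : Scheme.{u}}

/-- evaluation of abelian étale sheaves at an object -/
noncomputable abbrev Φ (V : X.Etaleᵒᵖ) : EtCoh.Ab X ⥤ AddCommGrpCat.{u + 1} :=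
  sheafToPresheaf X.smallEtaleTopology AddCommGrpCat.{u + 1} ⋙
    (evaluation X.Etaleᵒᵖ AddCommGrpCat.{u + 1}).obj V

lemma sec_exact_mono (S : ShortComplex (EtCoh.Ab X)) (hS : S.ShortExact) (V : X.Etaleᵒᵖ) :
    (S.map (Φ V)).Exact ∧ Mono ((Φ (X := X) V).map S.f) := by
  have hle : ∀ (S : ShortComplex (EtCoh.Ab X)), S.ShortExact →
      (S.map (Φ V)).Exact ∧ Mono ((Φ (X := X) V).map S.f) :=
    ((Functor.preservesFiniteLimits_tfae (Φ (X := X) V)).out 3 0).1
      (inferInstance : PreservesFiniteLimits (Φ (X := X) V))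
  exact hle S hS

lemma sec_inj (S : ShortComplex (EtCoh.Ab X)) (hS : S.ShortExact) (W : X.Etale) :
    Function.Injective (S.f.hom.app (op W)) :=
  (AddCommGrpCat.mono_iff_injective _).1 (sec_exact_mono S hS (op W)).2

lemma sec_ex (S : ShortComplex (EtCoh.Ab X)) (hS : S.ShortExact) (W : X.Etale)
    (z : S.X₂.obj.obj (op W)) (hz : S.g.hom.app (op W) z = 0) :
    ∃ c, S.f.hom.app (op W) c = z :=
  (ShortComplex.ab_exact_iff _).1 (sec_exact_mono S hS (op W)).1 z hz

set_option backward.isDefEq.respectTransparency.types false in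
/-- sections of `S.X₂ → S.X₃` are surjective when `S.X₁` has vanishing Čech `H¹` -/
theorem sec_surj [∀ U : X.Etale, HasFiniteProducts (Over U)]
    (S : ShortComplex (EtCoh.Ab X)) (hS : S.ShortExact)
    (h1 : (∀ (U : X.Etale) (ι : Type (u + 1)) (Uf : ι → Over U),
      (∀ x : ↥(U.left), ∃ (i : ι) (y : ↥((Uf i).left.left)), (Uf i).hom.left.base y = x) →
      ∀ p : ℕ, 0 < p → IsZero (EtCech.cechH Uf S.X₁.obj p)))
    (W : X.Etale) : Function.Surjective (S.g.hom.app (op W)) := by
  intro s
  have hepi : Epi S.g := hS.epi_g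
  have hls : Sheaf.IsLocallySurjective S.g :=
    (Sheaf.isLocallySurjective_iff_epi' AddCommGrpCat.{u + 1} S.g).2 hepi
  have hmem : Presheaf.imageSieve S.g.hom s ∈ X.smallEtaleTopology W :=
    Presheaf.imageSieve_mem X.smallEtaleTopology S.g.hom s
  let ι' : Type (u + 1) := Σ V : Over W, PLift ((Presheaf.imageSieve S.g.hom s).arrows V.hom)
  let Vf : ι' → Over W := fun i => i.1
  have hcov : Sieve.ofArrows (fun i => (Vf i).left) (fun i => (Vf i).hom) ∈
      X.smallEtaleTopology W := by
    refine X.smallEtaleTopology.superset_covering ?_ hmem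
    intro V g hg
    exact ⟨V, 𝟙 V, g, Presieve.ofArrows.mk (⟨Over.mk g, ⟨hg⟩⟩ : ι'), Category.id_comp _⟩
  have hsurj : ∀ x : ↥(W.left), ∃ (i : ι') (y : ↥((Vf i).left.left)),
      (Vf i).hom.left.base y = x := by
    intro x
    have eX : X.smallEtaleTopology =
        (X.smallPretopology (P := EtCoh.etaleMP) (Q := EtCoh.etaleMP)).toGrothendieck :=
      Scheme.smallGrothendieckTopology_eq_toGrothendieck_smallPretopology X le_rfl
    have hmem' : Presheaf.imageSieve S.g.hom s ∈
        (X.smallPretopology (P := EtCoh.etaleMP) (Q := EtCoh.etaleMP)).toGrothendieck W := by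
      rw [← eX]; exact hmem
    obtain ⟨V, g, v, hg, -, hv⟩ := (Scheme.mem_toGrothendieck_smallPretopology W _).1 hmem' x
    exact ⟨⟨Over.mk g, ⟨hg⟩⟩, v, hv⟩
  have hH : IsZero ((cech Vf S.X₁.obj).homology 1) := h1 W ι' Vf hsurj 1 one_pos
  choose t ht using fun i : ι' => i.2.down
  exact CechGlue.exists_lift_of_cechH1 Vf X.smallEtaleTopology S.f.hom S.g.hom S.X₂.property S.X₃.property
    (congrArg (fun φ => φ.hom) S.zero) (sec_inj S hS) (sec_ex S hS) hcov hH s t ht

end Sec


/-- On the small étale site of a scheme, let 0 → F' → F → F'' → 0 be a short exact sequence of abelian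
étale sheaves on a scheme X. If F' and F are flasque in the Čech sense (for every étale U over X and
every jointly surjective family of étale U-schemes, Čech cohomology in positive degrees vanishes),
then so is F''. The finite products of the over categories (the fibre products entering the Čech
complexes) are carried as instance hypotheses. -/
theorem result {X : Scheme.{u}}
    [∀ U : X.Etale, HasFiniteProducts (Over U)] (S : ShortComplex (EtCoh.Ab X)) (hS : S.ShortExact)
    (h1 : (∀ (U : X.Etale) (ι : Type (u + 1)) (Uf : ι → Over U),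
      (∀ x : ↥(U.left), ∃ (i : ι) (y : ↥((Uf i).left.left)), (Uf i).hom.left.base y = x) →
      ∀ p : ℕ, 0 < p → IsZero (EtCech.cechH Uf S.X₁.obj p)))
    (h2 : (∀ (U : X.Etale) (ι : Type (u + 1)) (Uf : ι → Over U),
      (∀ x : ↥(U.left), ∃ (i : ι) (y : ↥((Uf i).left.left)), (Uf i).hom.left.base y = x) →
      ∀ p : ℕ, 0 < p → IsZero (EtCech.cechH Uf S.X₂.obj p)))
    (U : X.Etale) (ι : Type (u + 1)) (Uf : ι → Over U)
    (hU : ∀ x : ↥(U.left), ∃ (i : ι) (y : ↥((Uf i).left.left)), (Uf i).hom.left.base y = x)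
    (p : ℕ) (hp : 0 < p) :
    IsZero (EtCech.cechH Uf S.X₃.obj p) := by
  let T : ShortComplex (X.Etaleᵒᵖ ⥤ AddCommGrpCat.{u + 1}) :=
    S.map (sheafToPresheaf X.smallEtaleTopology AddCommGrpCat.{u + 1})
  have hT : T.ShortExact := by
    have hex : T.Exact := hS.exact.map_of_mono_of_preservesKernel _ hS.mono_f inferInstance
    have hmono : Mono T.f := by
      have := hS.mono_f
      exact (sheafToPresheaf X.smallEtaleTopology AddCommGrpCat.{u + 1}).map_mono S.f
    have hepi : Epi T.g := by
      have : ∀ W : X.Etaleᵒᵖ, Epi (T.g.app W) := fun W =>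
        (AddCommGrpCat.epi_iff_surjective _).2 (sec_surj S hS h1 W.unop)
      exact NatTrans.epi_of_epi_app _
    exact ShortComplex.ShortExact.mk' hex hmono hepi
  have hC := shortExact_cxF Uf T hT
  have e3 := hC.homology_exact₃ p (p + 1) rfl
  have z2 : IsZero (((T.map (cxF Uf)).X₂).homology p) := h2 U ι Uf hU p hp
  have z1 : IsZero (((T.map (cxF Uf)).X₁).homology (p + 1)) := h1 U ι Uf hU (p + 1) (Nat.succ_pos p)
  exact e3.isZero_X₂ (z2.eq_of_src _ _) (z1.eq_of_tgt _ _)

end Groth.Agent.S14628
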