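import Groth.Statements.S1463
import Groth.Agent.Lib.Helper25.LocusApprox
import Groth.Agent.Lib.helper11.AbsIrr.CountOne
import Groth.Agent.S1339

set_option autoImplicit false
universe u
open FlatMor

namespace Groth.Agent.S1463

open AlgebraicGeometry CategoryTheory Limits in
/-- Let f : X → S be a morphism of finite presentation between affine schemes whose fibres are
geometrically connected. Then f is the base change of a morphism of finite type f₀ : X₀ → S₀ between
affine schemes with S₀ of finite type over ℤ, where f₀ can be chosen with the same property. -/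
theorem result {X S : Scheme.{u}} (f : X ⟶ S) [IsAffine X] [IsAffine S] [LocallyOfFinitePresentation f] [GeometricallyConnected f] :
    ∃ (X₀ S₀ : Scheme.{u}) (f₀ : X₀ ⟶ S₀) (g : S ⟶ S₀) (g' : X ⟶ X₀), IsAffine X₀ ∧ IsAffine S₀ ∧ IsPullback g' f f₀ g ∧
      Algebra.FiniteType ℤ Γ(S₀, ⊤) ∧ LocallyOfFiniteType f₀ ∧ GeometricallyConnected f₀ := by
  have hmain := Groth.Agent.Lib.Helper25.LocusApprox.exists_model f
    (fun X S f => {s : S | MoreMor.nGeomConnComp f s = 1})
    (fun X S X' S' f g f' g' _ _ hc => by
      ext y'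
      simp only [Set.mem_setOf_eq, Set.mem_preimage]
      rw [Groth.Agent.Lib.Helper18.GeomFib.nGeomConnComp_eq f f' g' g hc y'])
    (fun X S f _ _ _ => Groth.Agent.S1339.result f 1)
    (by
      rw [Set.eq_univ_iff_forall]
      intro s
      exact (Groth.Agent.Lib.helper11.AbsIrr.geometricallyConnected_iff_nGeomConnComp f).mp
        inferInstance s)
  obtain ⟨X₀, S₀, f₀, g, g', h1, h2, h3, h4, h5, h6⟩ := hmain
  refine ⟨X₀, S₀, f₀, g, g', h1, h2, h3, h4, h5, ?_⟩
  rw [Groth.Agent.Lib.helper11.AbsIrr.geometricallyConnected_iff_nGeomConnComp]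
  intro s
  have hs : s ∈ (Set.univ : Set S₀) := trivial
  rw [← h6] at hs
  exact hs

end Groth.Agent.S1463
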