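import Groth.Statements.S14631
import Mathlib.AlgebraicGeometry.Morphisms.QuasiSeparated
-- import your own Groth.Agent.* helpers here

set_option autoImplicit false
open CategoryTheory AlgebraicGeometry
universe u
open EtBase

namespace Groth.Agent.S14631

/-- Let X be a quasi-separated scheme and U an étale X-scheme. Then there is a jointly surjective family
of étale U-schemes each of which is quasi-compact and quasi-separated, hence of finite presentation,
over X. (Sheaves on the small étale site are therefore determined by their values on étale X-schemes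
of finite presentation; that equivalence is not stated here.) -/
theorem result (X : Scheme.{u})
    [QuasiSeparatedSpace ↥X] (U : X.Etale) :
    ∃ (ι : Type u) (V : ι → Over U), (∀ i, QuasiCompact (V i).left.hom ∧ QuasiSeparated (V i).left.hom) ∧
      ∀ x : ↥(U.left), ∃ (i : ι) (y : ↥((V i).left.left)), (V i).hom.left.base y = x := by
  let ι : Type u := U.left.affineOpens
  let VE : ι → X.Etale := fun W => Scheme.Etale.mk (W.1.ι ≫ U.hom)
  let Vh : ∀ W : ι, VE W ⟶ U := fun W => MorphismProperty.Over.homMk W.1.ι rfl trivial
  refine ⟨ι, fun W => Over.mk (Vh W), fun W => ?_, fun x => ?_⟩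
  · have hA : IsAffine (W.1 : Scheme) := W.2
    have hXq : QuasiSeparatedSpace ↥((Functor.fromPUnit X).obj (VE W).right) := ‹QuasiSeparatedSpace ↥X›
    have h1 : CompactSpace ↥((VE W).left) := by
      show CompactSpace ↥(W.1 : Scheme)
      infer_instance
    have h2 : QuasiSeparatedSpace ↥((VE W).left) := by
      show QuasiSeparatedSpace ↥(W.1 : Scheme)
      infer_instance
    exact ⟨@quasiCompact_of_compactSpace _ _ (VE W).hom h1 hXq,
      @QuasiSeparated.of_quasiSeparatedSpace _ _ (VE W).hom h2⟩
  · obtain ⟨W, hW, hxW, -⟩ := exists_isAffineOpen_mem_and_subset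
      (TopologicalSpace.Opens.mem_top x)
    refine ⟨⟨W, hW⟩, ⟨x, hxW⟩, ?_⟩
    rfl

end Groth.Agent.S14631
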