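import Groth.Statements.S14655
import Groth.Agent.Lib.Helper20.ProjLoc5
import Groth.Agent.Lib.Helper20.ProjGor3
import Groth.Agent.Lib.Helper5.CMFlatLocal
-- import your own Groth.Agent.* helpers here

set_option autoImplicit false
universe u
open FiltBl

namespace Groth.Agent.S14655

open AlgebraicGeometry in
/-- Let A be a Noetherian ℕ-graded commutative ring which is a Cohen–Macaulay ring. Then the scheme Proj
A is Cohen–Macaulay: every local ring of Proj A is a Cohen–Macaulay local ring. -/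
theorem result (A : Type u) [CommRing A]
    (𝒜 : ℕ → AddSubgroup A) [GradedRing 𝒜] [LocCoh.IsCohenMacaulayRing A] (x : Proj 𝒜) :
    LocCoh.IsCohenMacaulayLocalRing ((Proj 𝒜).presheaf.stalk x) := by
  have hp : x.asHomogeneousIdeal.toIdeal.IsPrime := x.isPrime
  have hpH : x.asHomogeneousIdeal.toIdeal.IsHomogeneous 𝒜 := x.asHomogeneousIdeal.isHomogeneous
  obtain ⟨N', f, hN', hf, hfp⟩ := Groth.Agent.Lib.Helper20.ProjGor.exists_homogeneous_pos_notMem 𝒜
    x.asHomogeneousIdeal.toIdeal hpH x.not_irrelevant_le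
  have hS : LocCoh.IsCohenMacaulayLocalRing (Localization.AtPrime x.asHomogeneousIdeal.toIdeal) :=
    LocCoh.IsCohenMacaulayRing.isCohenMacaulayLocalRing_localization _
  have h1 := Groth.Agent.Lib.Helper20.ProjLoc.isCM_atPrime 𝒜 x.asHomogeneousIdeal.toIdeal hpH
    N' hN' f hf hfp
  let e : (HomogeneousLocalization.AtPrime 𝒜 x.asHomogeneousIdeal.toIdeal) ≃+*
      ((Proj 𝒜).presheaf.stalk x) := (Proj.stalkIso 𝒜 x).commRingCatIsoToRingEquiv.symm
  exact Groth.Agent.Lib.Helper5.CMFlatLocal.isCohenMacaulayLocalRing_of_ringEquiv e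

end Groth.Agent.S14655
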