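import Groth.Statements.S14656
import Groth.Agent.Lib.Helper20.ProjLoc2
import Groth.Agent.Lib.Helper20.ProjGor3
import Groth.Agent.Lib.Helper21.SkKit
-- import your own Groth.Agent.* helpers here

set_option autoImplicit false
universe u
open FiltBl

namespace Groth.Agent.S14656

open AlgebraicGeometry in
/-- Let A be a Noetherian ℕ-graded commutative ring satisfying Serre's condition (S_1) (every
localization A_p has depth at least min(1, dim A_p)). Then every local ring of the scheme Proj A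
satisfies (S_1). -/
theorem result (A : Type u) [CommRing A] [IsNoetherianRing A]
    (𝒜 : ℕ → AddSubgroup A) [GradedRing 𝒜] (hA : LocCoh.HasSk 1 A A) (x : Proj 𝒜) :
    LocCoh.HasSk 1 ((Proj 𝒜).presheaf.stalk x) ((Proj 𝒜).presheaf.stalk x) := by
  have hp : x.asHomogeneousIdeal.toIdeal.IsPrime := x.isPrime
  have hpH : x.asHomogeneousIdeal.toIdeal.IsHomogeneous 𝒜 := x.asHomogeneousIdeal.isHomogeneous
  obtain ⟨N', f, hN', hf, hfp⟩ := Groth.Agent.Lib.Helper20.ProjGor.exists_homogeneous_pos_notMem 𝒜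
    x.asHomogeneousIdeal.toIdeal hpH x.not_irrelevant_le
  have hT : IsNoetherianRing (HomogeneousLocalization.AtPrime 𝒜 x.asHomogeneousIdeal.toIdeal) :=
    Groth.Agent.Lib.Helper20.ProjLoc.isNoetherianRing_atPrime 𝒜 _ hpH
  have h1 := Groth.Agent.Lib.Helper20.ProjLoc.hasSk_one_atPrime 𝒜 x.asHomogeneousIdeal.toIdeal hpH
    N' hN' f hf hfp hA
  let e : (HomogeneousLocalization.AtPrime 𝒜 x.asHomogeneousIdeal.toIdeal) ≃+*
      ((Proj 𝒜).presheaf.stalk x) := (Proj.stalkIso 𝒜 x).commRingCatIsoToRingEquiv.symm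
  have hN : IsNoetherianRing ((Proj 𝒜).presheaf.stalk x) := isNoetherianRing_of_ringEquiv _ e
  exact Groth.Agent.Lib.Helper21.SkKit.hasSk_of_ringEquiv e 1 h1

end Groth.Agent.S14656
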