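import Groth.Statements.S14677
import Mathlib.RingTheory.AdicCompletion.AsTensorProduct
import Mathlib.RingTheory.AdicCompletion.Exactness

set_option autoImplicit false
universe u
open CAlg

namespace Groth.Agent.S14677

/-- Let A be a Noetherian commutative ring, I and J ideals of A and M a finitely generated A-module.
Then the map of I-adic completions induced by the inclusion of the submodule JM into M is injective
with image exactly J·M̂, where M̂ is the I-adic completion of M; that is, the completion of JM is J
times the completion of M. (The published statement does not say that A is Noetherian; its proof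
uses exactness of completion on finitely generated modules, which needs it, so this row assumes A
Noetherian.) -/
theorem result (A : Type u) [CommRing A] [IsNoetherianRing A] (I J : Ideal A)
    (M : Type u) [AddCommGroup M] [Module A M] [Module.Finite A M] :
    Function.Injective (AdicCompletion.map I (J • (⊤ : Submodule A M)).subtype) ∧
      LinearMap.range (AdicCompletion.map I (J • (⊤ : Submodule A M)).subtype) =
        (J.map (algebraMap A (AdicCompletion I A))) • (⊤ : Submodule (AdicCompletion I A) (AdicCompletion I M)) := by
  classical
  refine ⟨AdicCompletion.map_injective I (Submodule.injective_subtype _), ?_⟩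
  have hsurjM : Function.Surjective (AdicCompletion.ofTensorProduct I M) :=
    AdicCompletion.ofTensorProduct_surjective_of_finite I M
  haveI : Module.Finite A (J • (⊤ : Submodule A M) : Submodule A M) :=
    Module.Finite.of_fg (IsNoetherian.noetherian _)
  have hsurjJM : Function.Surjective
      (AdicCompletion.ofTensorProduct I (J • (⊤ : Submodule A M) : Submodule A M)) :=
    AdicCompletion.ofTensorProduct_surjective_of_finite I _
  apply le_antisymm
  · rintro _ ⟨x, rfl⟩
    obtain ⟨t, rfl⟩ := hsurjJM x
    induction t using TensorProduct.induction_on with
    | zero => simp
    | add a b ha hb =>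
      rw [map_add, map_add]
      exact Submodule.add_mem _ ha hb
    | tmul r x =>
      rw [AdicCompletion.ofTensorProduct_tmul, map_smul, AdicCompletion.map_of]
      apply Submodule.smul_mem
      obtain ⟨x, hx⟩ := x
      show AdicCompletion.of I M x ∈ _
      refine Submodule.smul_induction_on hx ?_ ?_
      · intro j hj m _
        rw [map_smul, ← algebraMap_smul (AdicCompletion I A) j]
        exact Submodule.smul_mem_smul (Ideal.mem_map_of_mem _ hj) trivial
      · intro a b ha hb
        rw [map_add]
        exact add_mem ha hb
  · rw [Submodule.smul_le]
    have key : ∀ j ∈ J, ∀ y : AdicCompletion I M,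
        (algebraMap A (AdicCompletion I A) j) • y ∈
          LinearMap.range (AdicCompletion.map I (J • (⊤ : Submodule A M)).subtype) := by
      intro j hj y
      obtain ⟨t, rfl⟩ := hsurjM y
      induction t using TensorProduct.induction_on with
      | zero => simp
      | add a b ha hb =>
        rw [map_add, smul_add]
        exact Submodule.add_mem _ ha hb
      | tmul r m =>
        rw [AdicCompletion.ofTensorProduct_tmul, smul_comm]
        apply Submodule.smul_mem
        rw [algebraMap_smul, ← map_smul]
        have hjm : j • m ∈ J • (⊤ : Submodule A M) := Submodule.smul_mem_smul hj trivial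
        refine ⟨AdicCompletion.of I _ ⟨j • m, hjm⟩, ?_⟩
        rw [AdicCompletion.map_of]
        rfl
    intro r hr
    unfold Ideal.map at hr
    induction hr using Submodule.span_induction with
    | mem r hr =>
      obtain ⟨j, hj, rfl⟩ := hr
      intro y _
      exact key j hj y
    | zero =>
      intro y _
      rw [zero_smul]
      exact Submodule.zero_mem _
    | add r r' _ _ h1 h2 =>
      intro y hy
      rw [add_smul]
      exact Submodule.add_mem _ (h1 y hy) (h2 y hy)
    | smul a r _ h1 =>
      intro y hy
      rw [smul_eq_mul, mul_smul]
      exact Submodule.smul_mem _ _ (h1 y hy)

end Groth.Agent.S14677
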