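import Groth.Statements.S14678
import Mathlib

set_option autoImplicit false
universe u
open CategoryTheory CategoryTheory.Limits AlgebraicGeometry
open EtBase

namespace Groth.Agent.S14678

/-- Let S be a scheme, s a point of S and ℓ a finite field extension of the residue field κ(s). Then,
fppf-locally around s, ℓ occurs as a residue field: there are an affine scheme U', a flat morphism b
: U' ⟶ S locally of finite presentation (so with open image containing s) and a morphism t : Spec ℓ
⟶ U' over the canonical morphism Spec ℓ ⟶ Spec κ(s) ⟶ S which is a preimmersion, i.e. the inclusion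
of a point s' of U' above s together with an identification of κ(s') with ℓ over κ(s); such a point
is closed in its fibre over s. (The published statement gives an affine open neighbourhood U of s
and an fppf morphism U' ⟶ U; this row asks only for a flat, locally finitely presented U' ⟶ S, whose
open image then contains s.) -/
theorem result (S : Scheme.{u}) (s : ↥S)
    (ℓ : Type u) [Field ℓ] [Algebra (S.residueField s) ℓ] [Module.Finite (S.residueField s) ℓ] :
    ∃ (U' : Scheme.{u}) (b : U' ⟶ S) (t : Spec (CommRingCat.of ℓ) ⟶ U'),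
      IsAffine U' ∧ Flat b ∧ LocallyOfFinitePresentation b ∧ IsPreimmersion t ∧
        t ≫ b = Spec.map (CommRingCat.ofHom (algebraMap (S.residueField s) ℓ)) ≫ S.fromSpecResidueField s := by
  classical
  obtain ⟨U, hU, hsU, -⟩ := exists_isAffineOpen_mem_and_subset (x := s) (U := ⊤) trivial
  let κ := S.residueField s
  let ev : Γ(S, U) ⟶ S.residueField s := S.presheaf.germ U s hsU ≫ S.residue s
  have claim1 : S.fromSpecResidueField s = Spec.map ev ≫ hU.fromSpec := by
    rw [Scheme.fromSpecResidueField, ← hU.fromSpecStalk_eq_fromSpecStalk hsU,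
      IsAffineOpen.fromSpecStalk, Spec.map_comp, Category.assoc]
  have hpre : IsPreimmersion (Spec.map ev) := by
    haveI : IsPreimmersion (Spec.map ev ≫ hU.fromSpec) := by
      rw [← claim1]; infer_instance
    exact IsPreimmersion.of_comp (Spec.map ev) hU.fromSpec
  have hev : ev.hom.SurjectiveOnStalks := ((IsPreimmersion.SpecMap_iff ev).1 hpre).2
  have hfrac : ∀ c : S.residueField s, ∃ a d : Γ(S, U), ev.hom d ≠ 0 ∧ ev.hom d * c = ev.hom a := by
    intro c
    obtain ⟨x, r, c', hc', hr, e⟩ :=
      (RingHom.surjectiveOnStalks_iff_forall_ideal.1 hev) ⊥ bot_ne_top c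
    have hc0 : c' ≠ 0 := fun h0 => hc' (by rw [h0]; exact Submodule.zero_mem _)
    have hr0 : ev.hom r ≠ 0 := fun h0 => hr (by rw [h0]; exact Submodule.zero_mem _)
    refine ⟨x, r, hr0, ?_⟩
    rw [mul_assoc] at e
    exact mul_left_cancel₀ hc0 e
  let r := Module.finrank (S.residueField s) ℓ
  let b : Module.Basis (Fin r) (S.residueField s) ℓ := Module.finBasis _ _
  let P := MvPolynomial (Fin r) Γ(S, U)
  let f : P →+* ℓ := MvPolynomial.eval₂Hom ((algebraMap (S.residueField s) ℓ).comp ev.hom) b
  have hfC : ∀ a : Γ(S, U), f (MvPolynomial.C a) = algebraMap (S.residueField s) ℓ (ev.hom a) :=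
    fun a => MvPolynomial.eval₂Hom_C _ _ a
  have hfX : ∀ i, f (MvPolynomial.X i) = b i := fun i => MvPolynomial.eval₂Hom_X' _ _ i
  -- every element of ℓ is a fraction
  have hgood : ∀ y : ℓ, ∃ p q : P, f q ≠ 0 ∧ f q * y = f p := by
    intro y
    have hy : y ∈ Submodule.span (S.residueField s) (Set.range b) := by
      rw [b.span_eq]; exact Submodule.mem_top
    induction hy using Submodule.span_induction with
    | mem y hy =>
      obtain ⟨i, rfl⟩ := hy
      exact ⟨MvPolynomial.X i, 1, by rw [map_one]; exact one_ne_zero, by rw [map_one, one_mul, hfX]⟩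
    | zero => exact ⟨0, 1, by rw [map_one]; exact one_ne_zero, by rw [map_zero, mul_zero]⟩
    | add y z _ _ hy hz =>
      obtain ⟨p₁, q₁, h1, e1⟩ := hy
      obtain ⟨p₂, q₂, h2, e2⟩ := hz
      refine ⟨p₁ * q₂ + p₂ * q₁, q₁ * q₂, by rw [map_mul]; exact mul_ne_zero h1 h2, ?_⟩
      rw [map_mul, map_add, map_mul, map_mul, ← e1, ← e2]
      ring
    | smul c y _ hy =>
      obtain ⟨p₁, q₁, h1, e1⟩ := hy
      obtain ⟨a, d, hd, e⟩ := hfrac c
      refine ⟨p₁ * MvPolynomial.C a, q₁ * MvPolynomial.C d, ?_, ?_⟩
      · rw [map_mul, hfC]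
        refine mul_ne_zero h1 ?_
        rw [Ne, map_eq_zero_iff _ (algebraMap (S.residueField s) ℓ).injective]
        exact hd
      · rw [map_mul, map_mul, hfC, hfC, ← e1, ← e, map_mul, Algebra.smul_def]
        ring
  have hsurj : f.SurjectiveOnStalks := by
    refine RingHom.surjectiveOnStalks_of_exists_div fun y => ?_
    obtain ⟨p, q, hq, e⟩ := hgood y
    exact ⟨p, q, isUnit_iff_ne_zero.2 hq, e⟩
  have hemb : Topology.IsEmbedding (PrimeSpectrum.comap f) :=
    Topology.IsEmbedding.of_subsingleton _
  let t : Spec (CommRingCat.of ℓ) ⟶ Spec (CommRingCat.of P) := Spec.map (CommRingCat.ofHom f)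
  let b' : Spec (CommRingCat.of P) ⟶ S :=
    Spec.map (CommRingCat.ofHom (MvPolynomial.C : Γ(S, U) →+* P)) ≫ hU.fromSpec
  refine ⟨Spec (CommRingCat.of P), b', t, inferInstance, ?_, ?_, ?_, ?_⟩
  · haveI : Flat (Spec.map (CommRingCat.ofHom (MvPolynomial.C : Γ(S, U) →+* P))) := by
      rw [Flat.SpecMap_iff]
      change (algebraMap Γ(S, U) P).Flat
      rw [RingHom.flat_algebraMap_iff]
      infer_instance
    infer_instance
  · haveI : LocallyOfFinitePresentation
        (Spec.map (CommRingCat.ofHom (MvPolynomial.C : Γ(S, U) →+* P))) := by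
      rw [HasRingHomProperty.Spec_iff (P := @LocallyOfFinitePresentation)]
      change (algebraMap Γ(S, U) P).FinitePresentation
      rw [RingHom.finitePresentation_algebraMap]
      infer_instance
    infer_instance
  · exact IsPreimmersion.mk_SpecMap hemb hsurj
  · change Spec.map (CommRingCat.ofHom f) ≫
      Spec.map (CommRingCat.ofHom (MvPolynomial.C : Γ(S, U) →+* P)) ≫ hU.fromSpec = _
    rw [claim1, ← Spec.map_comp_assoc, ← Spec.map_comp_assoc]
    congr 2
    refine CommRingCat.hom_ext (RingHom.ext fun a => ?_)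
    exact hfC a

end Groth.Agent.S14678
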