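import Groth.Statements.S14679
import Mathlib
-- import your own Groth.Agent.* helpers here

set_option autoImplicit false
universe u
open CategoryTheory CategoryTheory.Limits AlgebraicGeometry
open EtBase

namespace Groth.Agent.S14679

section H
open CategoryTheory CategoryTheory.Limits AlgebraicGeometry
namespace W5
set_option backward.isDefEq.respectTransparency.types false
open Scheme.Pullback

theorem subsingleton_tensor {X Y S : Scheme.{u}} {f : X ⟶ S} {g : Y ⟶ S} (T : Triplet f g)
    (hT : Function.Bijective (f.residueFieldMap T.x).hom) : Subsingleton (Spec T.tensor) := by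
  have h1 : IsIso (f.residueFieldMap T.x) := by
    rw [ConcreteCategory.isIso_iff_bijective]
    exact hT
  have h2 : IsIso ((S.residueFieldCongr T.hx).inv ≫ f.residueFieldMap T.x) := inferInstance
  have h3 : IsIso T.tensorInr := by
    unfold Triplet.tensorInr
    exact pushout_inr_iso_of_left_iso _ _
  have h4 : IsIso (Spec.map T.tensorInr) := inferInstance
  have : Subsingleton (Spec (Y.residueField T.y)) :=
    inferInstanceAs (Subsingleton (PrimeSpectrum (Y.residueField T.y)))
  exact (Spec.map T.tensorInr).homeomorph.injective.subsingleton

end W5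


end H

open AlgebraicGeometry.Scheme.Pullback in
/-- Given a morphism of schemes f : X ⟶ Y and a point x ∈ X with image y = f(x), such that the residue
field map κ(y) → κ(x) is bijective; let ℓ be an algebraic extension field of κ(y) and form the base
change X ×_Y Spec ℓ along Spec ℓ ⟶ Spec κ(y) ⟶ Y. Then there is exactly one point of X ×_Y Spec ℓ
mapping to x under the first projection. (The published statement takes ℓ to be an algebraic closure
of κ(y), noting that any algebraic extension works, and also identifies the local ring at the point
with O_{X,x} ⊗_{O_{Y,y}} ℓ; this row allows any algebraic extension ℓ and states only the first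
assertion.) -/
theorem result {X Y : Scheme.{u}} (f : X ⟶ Y) (x : ↥X)
    (hx : Function.Bijective (f.residueFieldMap x).hom)
    (ℓ : Type u) [Field ℓ] [Algebra (Y.residueField (f.base x)) ℓ] [Algebra.IsAlgebraic (Y.residueField (f.base x)) ℓ] :
    ∃! z : ↥(pullback f (Spec.map (CommRingCat.ofHom (algebraMap (Y.residueField (f.base x)) ℓ)) ≫ Y.fromSpecResidueField (f.base x))),
      (pullback.fst f (Spec.map (CommRingCat.ofHom (algebraMap (Y.residueField (f.base x)) ℓ)) ≫ Y.fromSpecResidueField (f.base x))).base z = x := by
  set g := Spec.map (CommRingCat.ofHom (algebraMap (Y.residueField (f.base x)) ℓ)) ≫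
    Y.fromSpecResidueField (f.base x) with hg
  have : Nonempty (Spec (CommRingCat.of ℓ)) := inferInstanceAs (Nonempty (PrimeSpectrum ℓ))
  obtain ⟨pt⟩ := this
  have hss : Subsingleton (Spec (CommRingCat.of ℓ)) := inferInstanceAs (Subsingleton (PrimeSpectrum ℓ))
  have hgpt : f x = g pt := by
    rw [hg, Scheme.Hom.comp_apply, Scheme.fromSpecResidueField_apply]
  obtain ⟨z, hz1, hz2⟩ := exists_preimage_pullback x pt hgpt
  refine ⟨z, hz1, ?_⟩
  intro z' hz'
  apply (carrierEquiv (f := f) (g := g)).injective
  rw [carrierEquiv_eq_iff]
  have e : Triplet.ofPoint z' = Triplet.ofPoint z := by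
    apply Triplet.ext
    · exact hz'.trans hz1.symm
    · exact Subsingleton.elim _ _
  refine ⟨e, ?_⟩
  have hTx : (Triplet.ofPoint z).x = x := hz1
  have : Subsingleton (Spec (Triplet.ofPoint z).tensor) :=
    W5.subsingleton_tensor _ (hTx ▸ hx)
  exact @Subsingleton.elim _ this _ _

end Groth.Agent.S14679
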