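import Groth.Statements.S14684
import Groth.Agent.Lib.Helper26.H90g

set_option autoImplicit false
universe u
open CategoryTheory AlgebraicGeometry
open SekSuwa

namespace Groth.Agent.S14684

/-- Let R be a discrete valuation ring of characteristic zero and residue characteristic p, λ ≠ 0 in R,
and X a scheme which is faithfully flat over Spec R. Then every torsor for the fppf topology over X
under (the base change to X of) the affine R-group G^(λ) = Spec R[T, 1/(1+λT)], with group law s + t
+ λst, is locally trivial for the Zariski topology; that is, the first higher direct image of G^(λ)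
under the morphism from the flat site to the Zariski site of X vanishes, and fppf and Zariski H¹ of
X with coefficients in G^(λ) agree. -/
theorem result (R : Type u) [CommRing R] [IsDomain R] [IsDiscreteValuationRing R] [CharZero R]
    (p : ℕ) [Fact p.Prime] [CharP (IsLocalRing.ResidueField R) p]
    (lam : R) (hlam : lam ≠ 0)
    (X : Scheme.{u}) (f : X ⟶ Spec (CommRingCat.of R)) [Flat f] [Surjective f]
    (P : Over X) (a : AlgGrp.Action (Red.bc f (SekSuwa.G R lam)) P)
    (hP : NonAbH1.IsTorsorFor Scheme.fppfPrecoverage a) :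
    NonAbH1.IsTorsorFor Scheme.zariskiPrecoverage a := by
  obtain ⟨hps, R', hR', hsec⟩ := hP
  refine ⟨hps, ?_⟩
  have hR'' : R' ∈ Scheme.fpqcPrecoverage X := Scheme.fppfPrecoverage_le_fpqcPrecoverage _ hR'
  have key : ∀ (k : X.affineCover.I₀) (z : X.affineCover.X k),
      ∃ (U : Scheme.{u}) (j : U ⟶ X.affineCover.X k), IsOpenImmersion j ∧ z ∈ Set.range j ∧
        ∃ s : U ⟶ P.left, s ≫ P.hom = j ≫ X.affineCover.f k := by
    intro k z
    obtain ⟨W, hW, π, hπf, hπs, s', hs'⟩ :=
      Groth.Agent.Lib.Helper26.H90c.exists_affine_flat_cover P (X.affineCover.f k) hR'' hsec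
    exact Groth.Agent.Lib.Helper26.H90g.exists_local_section_affine lam f a
      (IsRegular.of_ne_zero hlam) hps π (X.affineCover.f k) s' hs' z
  choose U j hj hz s hs using key
  refine ⟨Presieve.ofArrows (fun i : Σ k : X.affineCover.I₀, X.affineCover.X k => U i.1 i.2)
    (fun i => j i.1 i.2 ≫ X.affineCover.f i.1), ?_, ?_⟩
  · rw [Scheme.ofArrows_mem_precoverage_iff]
    refine ⟨fun x => ?_, fun i => ?_⟩
    · obtain ⟨z, hz'⟩ := X.affineCover.covers x
      obtain ⟨y, hy⟩ := hz (X.affineCover.idx x) z
      refine ⟨⟨X.affineCover.idx x, z⟩, y, ?_⟩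
      rw [Scheme.Hom.comp_apply, hy, hz']
    · have := hj i.1 i.2
      infer_instance
  · rintro S' f' ⟨i⟩
    exact ⟨s i.1 i.2, hs i.1 i.2⟩

end Groth.Agent.S14684
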