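import Groth.Statements.S14691
import Groth.Agent.Lib.Helper26.ExtKill
import Groth.Agent.Lib.Helper14.GrpBridge

set_option autoImplicit false
universe u
open CategoryTheory AlgebraicGeometry
open SekSuwa

namespace Groth.Agent.S14691

/-- Let R be a discrete valuation ring of characteristic zero and residue characteristic p, and G a
commutative finite flat R-group scheme of order m (finite locally free of degree m over Spec R).
Then the endomorphism of Ext¹(G, 𝔾_m) induced by the m-th power map of the multiplicative group —
that is, multiplication by m on this group — is zero. Here Ext¹ is taken between the abelian sheaves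
of points of G and of the split multiplicative group on the big fppf site of Spec R. (The published
statement is made under a standing assumption that R contains a primitive p²-th root of unity; this
row does not assume it, the argument not using it.) -/
theorem result (R : Type u) [CommRing R] [IsDomain R] [IsDiscreteValuationRing R] [CharZero R]
    (p : ℕ) [Fact p.Prime] [CharP (IsLocalRing.ResidueField R) p]
    (G : Over (Spec (CommRingCat.of R))) [GrpObj G] [IsCommMonObj G]
    (m : ℕ) (hG : Mor2.IsFinLocFreeOfDeg m G.hom)
    (x : CGrpSh.ExtS Scheme.fppfPrecoverage G (Red.diag R ℤ) 1) : m • x = 0 := by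
  obtain ⟨⟨hfin, hfl, hfp⟩, hr⟩ := hG
  have hpow := Groth.Agent.Lib.Helper14.GrpBridge.affine_pow_eq_one (CommRingCat.of R) G m hr
  exact Groth.Agent.Lib.Helper26.ExtKill.ext_nsmul_eq_zero m
    (Groth.Agent.Lib.Helper26.ExtKill.nsmul_id_pts_eq_zero Scheme.fppfPrecoverage G m hpow) x

end Groth.Agent.S14691
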