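import Groth.Statements.S14693
import Mathlib

set_option autoImplicit false
universe u
open CategoryTheory AlgebraicGeometry
open SekSuwa

namespace Groth.Agent.S14693

section Aux
open CategoryTheory AlgebraicGeometry Limits MonObj CartesianMonoidalCategory

variable (R : Type u) [CommRing R] (lam : R) (N : ℕ) (h : SekSuwa.DivCond lam N)

theorem ring_pushout :
    IsPushout (CommRingCat.ofHom ((psiHom R lam N h : A R (lam ^ N) →ₐc[R] A R lam) : A R (lam ^ N) →+* A R lam))
      (CommRingCat.ofHom ((Bialgebra.counitAlgHom R (A R (lam ^ N)) : A R (lam ^ N) →ₐ[R] R) : A R (lam ^ N) →+* R))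
      (CommRingCat.ofHom ((AK.mkHom R lam N h : A R lam →ₐc[R] AK R lam N h) : A R lam →+* AK R lam N h))
      (CommRingCat.ofHom (algebraMap R (AK R lam N h))) := by
  have hcomm : CommRingCat.ofHom ((psiHom R lam N h : A R (lam ^ N) →ₐc[R] A R lam) : A R (lam ^ N) →+* A R lam) ≫
      CommRingCat.ofHom ((AK.mkHom R lam N h : A R lam →ₐc[R] AK R lam N h) : A R lam →+* AK R lam N h) =
      CommRingCat.ofHom ((Bialgebra.counitAlgHom R (A R (lam ^ N)) : A R (lam ^ N) →ₐ[R] R) : A R (lam ^ N) →+* R) ≫
      CommRingCat.ofHom (algebraMap R (AK R lam N h)) := by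
    have := mkHom_comp_psiHom R lam N h
    apply CommRingCat.hom_ext
    apply RingHom.ext
    intro x
    exact congrArg (fun f : A R (lam ^ N) →ₐc[R] AK R lam N h => f x) this
  refine IsPushout.of_isColimit (c := PushoutCocone.mk _ _ hcomm) ?_
  have key : ∀ s : PushoutCocone
      (CommRingCat.ofHom ((psiHom R lam N h : A R (lam ^ N) →ₐc[R] A R lam) : A R (lam ^ N) →+* A R lam))
      (CommRingCat.ofHom ((Bialgebra.counitAlgHom R (A R (lam ^ N)) : A R (lam ^ N) →ₐ[R] R) : A R (lam ^ N) →+* R)),
      ∀ a ∈ kerIdeal lam N h, s.inl.hom a = 0 := by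
    intro s a ha
    obtain ⟨b, rfl⟩ := Ideal.mem_span_singleton'.mp ha
    rw [map_mul]
    have h1 : s.inl.hom (kerGen lam N h) = s.inr.hom (Bialgebra.counitAlgHom R (A R (lam ^ N)) A.t) := by
      have := congrArg (fun f => f.hom A.t) s.condition
      simp only [CommRingCat.hom_comp, CommRingCat.hom_ofHom, RingHom.comp_apply] at this
      rw [← psiHom_t R lam N h]
      exact this
    have h2 : Bialgebra.counitAlgHom R (A R (lam ^ N)) A.t = 0 := A.counit_t
    rw [h1, h2, map_zero, mul_zero]
  refine PushoutCocone.IsColimit.mk _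
    (fun s => CommRingCat.ofHom (Ideal.Quotient.lift (kerIdeal lam N h) s.inl.hom (key s))) ?_ ?_ ?_
  · intro s
    apply CommRingCat.hom_ext
    apply RingHom.ext
    intro x
    rfl
  · intro s
    apply CommRingCat.hom_ext
    apply RingHom.ext
    intro r
    show s.inl.hom (algebraMap R (A R lam) r) = s.inr.hom r
    have := congrArg (fun f => f.hom (algebraMap R (A R (lam ^ N)) r)) s.condition
    simp only [CommRingCat.hom_comp, CommRingCat.hom_ofHom, RingHom.comp_apply] at this
    have e1 : (psiHom R lam N h : A R (lam ^ N) →+* A R lam) (algebraMap R (A R (lam ^ N)) r) =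
        algebraMap R (A R lam) r := (psiHom R lam N h : A R (lam ^ N) →ₐ[R] A R lam).commutes r
    have e2 : (Bialgebra.counitAlgHom R (A R (lam ^ N)) : A R (lam ^ N) →+* R)
        (algebraMap R (A R (lam ^ N)) r) = r := (Bialgebra.counitAlgHom R (A R (lam ^ N))).commutes r
    rw [e1, e2] at this
    exact this
  · intro s m hm _
    apply CommRingCat.hom_ext
    apply Ideal.Quotient.ringHom_ext
    apply RingHom.ext
    intro x
    have := congrArg (fun f => f.hom x) hm
    exact this

theorem main : AlgGrp.IsKernel (SekSuwa.incl R lam N h) (SekSuwa.psi R lam N h) := by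
  have hpb := isPullback_SpecMap_of_isPushout _ _ _ _ (ring_pushout R lam N h)
  have comm : SekSuwa.incl R lam N h ≫ SekSuwa.psi R lam N h =
      toUnit (GK R lam N h) ≫ η[G R (lam ^ N)] := by
    rw [incl_psi]; rfl
  exact IsPullback.of_map (Over.forget _) comm hpb


end Aux

/-- For any commutative ring R, λ ∈ R and N such that λ is a non-zero-divisor and λ^N divides (1 + λX)^N
− 1 in R[X] with quotient P_{λ,N}, the closed subgroup scheme G_{λ,N} = Spec R[T]/(P_{λ,N}(T)) of
the affine R-group G^(λ) = Spec R[T, 1/(1+λT)] (group law s + t + λst) is the kernel of the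
homomorphism ψ_{λ,N} : G^(λ) → G^(λ^N), T ↦ P_{λ,N}(T): the square with sides the inclusion G_{λ,N}
→ G^(λ), ψ_{λ,N}, the unit section of G^(λ^N) and G_{λ,N} → Spec R is cartesian. (The published
text, over a discrete valuation ring and with N = p^n, introduces G_{λ,n} as the kernel of the
isogeny ψ_{λ,n}; this row is that assertion for every N, including the degenerate N = 0 where ψ is
trivial and G_{λ,0} = G^(λ).) -/
theorem result (R : Type u) [CommRing R] (lam : R) (N : ℕ) (h : SekSuwa.DivCond lam N) :
    AlgGrp.IsKernel (SekSuwa.incl R lam N h) (SekSuwa.psi R lam N h) := by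
  exact main R lam N h

end Groth.Agent.S14693
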