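import Groth.Statements.S14694
import Mathlib

set_option autoImplicit false
universe u
open CategoryTheory AlgebraicGeometry
open SekSuwa

namespace Groth.Agent.S14694

section Aux
open CategoryTheory AlgebraicGeometry Polynomial

theorem scheme_level_gen (R S : Type u) [CommRing R] [CommRing S] [Algebra R S]
    [Module.Finite R S] [Module.Free R S] (N : ℕ)
    (hrk : Nontrivial R → Module.finrank R S = N) :
    Mor2.IsFinLocFreeOfDeg N (Spec.map (CommRingCat.ofHom (algebraMap R S))) := by
  refine ⟨⟨?_, ?_, ?_⟩, fun y => ?_⟩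
  · rw [IsFinite.SpecMap_iff]
    simpa [RingHom.finite_algebraMap]
  · rw [Flat.SpecMap_iff]
    simpa [RingHom.flat_algebraMap_iff] using (inferInstance : Module.Flat R S)
  · rw [HasRingHomProperty.Spec_iff (P := @LocallyOfFinitePresentation)]
    simp only [CommRingCat.hom_ofHom]
    rw [RingHom.finitePresentation_algebraMap]
    haveI : Module.FinitePresentation R S := Module.finitePresentation_of_projective R S
    infer_instance
  · have h1 := Scheme.Hom.finrank_SpecMap_algebraMap R S y
    have hnt : Nontrivial R := by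
      by_contra hcon
      rw [not_nontrivial_iff_subsingleton] at hcon
      exact (y : PrimeSpectrum R).isPrime.ne_top (Subsingleton.elim _ _)
    rw [Module.rankAtStalk_eq_finrank_of_free, hrk hnt] at h1
    exact h1


variable {R : Type u} [CommRing R] {lam : R} {N : ℕ} (h : SekSuwa.DivCond lam N)

lemma coeff_one_add_C_mul_X_pow (a : R) (n k : ℕ) :
    ((1 + C a * X : R[X]) ^ n).coeff k = (n.choose k : R) * a ^ k := by
  have : (1 + C a * X : R[X]) ^ n = ((1 + X : R[X]) ^ n).comp (C a * X) := by
    simp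
  rw [this, comp_C_mul_X_coeff, coeff_one_add_X_pow]

lemma coeff_psiPoly_self (hN : 0 < N) : (psiPoly lam N h).coeff N = 1 := by
  have := congrArg (fun p => p.coeff N) (psiPoly_spec h)
  simp only [coeff_C_mul, coeff_sub, coeff_one_add_C_mul_X_pow, Nat.choose_self, Nat.cast_one,
    one_mul, coeff_one, hN.ne', if_false, sub_zero] at this
  exact cancel_nzd h.pow_nzd (this.trans (mul_one _).symm)

lemma coeff_psiPoly_of_lt (k : ℕ) (hk : N < k) : (psiPoly lam N h).coeff k = 0 := by
  have := congrArg (fun p => p.coeff k) (psiPoly_spec h)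
  have hk0 : k ≠ 0 := by omega
  simp only [coeff_C_mul, coeff_sub, coeff_one_add_C_mul_X_pow, Nat.choose_eq_zero_of_lt hk,
    Nat.cast_zero, zero_mul, coeff_one, hk0, if_false, sub_zero] at this
  exact cancel_nzd h.pow_nzd (this.trans (mul_zero _).symm)

lemma natDegree_psiPoly_le : (psiPoly lam N h).natDegree ≤ N :=
  natDegree_le_iff_coeff_eq_zero.mpr fun k hk => coeff_psiPoly_of_lt h k hk

lemma monic_psiPoly (hN : 0 < N) : (psiPoly lam N h).Monic :=
  monic_of_natDegree_le_of_coeff_eq_one N (natDegree_psiPoly_le h) (coeff_psiPoly_self h hN)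

lemma natDegree_psiPoly [Nontrivial R] (hN : 0 < N) : (psiPoly lam N h).natDegree = N := by
  apply le_antisymm (natDegree_psiPoly_le h)
  apply le_natDegree_of_ne_zero
  rw [coeff_psiPoly_self h hN]
  exact one_ne_zero


section Equiv

local notation "PP" => psiPoly lam N h

lemma root_rel (hN : 0 < N) : (1 + lam • AdjoinRoot.root PP) * (1 + lam • AdjoinRoot.root PP) ^ (N - 1) = 1 := by
  rw [← pow_succ', Nat.sub_add_cancel hN]
  have := aeval_psiPoly h (B := AdjoinRoot PP) (AdjoinRoot.root PP)
  rw [AdjoinRoot.aeval_eq, AdjoinRoot.mk_self, mul_zero] at this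
  rw [Algebra.smul_def]
  exact (sub_eq_zero.mp this.symm)

/-- forward map -/
noncomputable def fwd (hN : 0 < N) : AK R lam N h →ₐ[R] AdjoinRoot PP :=
  Ideal.Quotient.liftₐ (kerIdeal lam N h)
    (A.lift R lam (AdjoinRoot.root PP) ((1 + lam • AdjoinRoot.root PP) ^ (N - 1)) (root_rel h hN))
    (by
      intro a ha
      obtain ⟨b, rfl⟩ := Ideal.mem_span_singleton'.mp ha
      rw [map_mul, kerGen, ← Polynomial.aeval_algHom_apply, A.lift_t, AdjoinRoot.aeval_eq,
        AdjoinRoot.mk_self, mul_zero])

lemma fwd_t (hN : 0 < N) : fwd h hN AK.t = AdjoinRoot.root PP := by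
  exact A.lift_t (R := R) (lam := lam) (AdjoinRoot.root PP) _ (root_rel h hN)

lemma fwd_inv (hN : 0 < N) : fwd h hN AK.inv = (1 + lam • AdjoinRoot.root PP) ^ (N - 1) := by
  exact A.lift_inv (R := R) (lam := lam) (AdjoinRoot.root PP) _ (root_rel h hN)

/-- backward map -/
noncomputable def bwd : AdjoinRoot PP →ₐ[R] AK R lam N h :=
  AdjoinRoot.liftAlgHom PP (Algebra.ofId R (AK R lam N h)) AK.t (by
    have := AK.aeval_t (R := R) (lam := lam) (N := N) (h := h)
    rw [Polynomial.aeval_def] at this
    exact this)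

lemma bwd_root : bwd h (AdjoinRoot.root PP) = AK.t := AdjoinRoot.liftAlgHom_root _ _ _ _

lemma ak_inv_eq (hN : 0 < N) : (AK.inv : AK R lam N h) = (1 + lam • AK.t) ^ (N - 1) := by
  have e1 : (1 + lam • (AK.t : AK R lam N h)) * AK.inv = 1 := by
    have := congrArg (AK.mkHom R lam N h) (A.u_mul_inv (R := R) (lam := lam))
    rw [map_mul, map_one, A.u, map_add, map_one, map_smul] at this
    exact this
  have e2 : (1 + lam • (AK.t : AK R lam N h)) ^ (N - 1) * (1 + lam • AK.t) = 1 := by
    rw [← pow_succ, Nat.sub_add_cancel hN, AK.u_pow]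
  calc (AK.inv : AK R lam N h) = ((1 + lam • AK.t) ^ (N - 1) * (1 + lam • AK.t)) * AK.inv := by
        rw [e2, one_mul]
    _ = (1 + lam • AK.t) ^ (N - 1) * ((1 + lam • AK.t) * AK.inv) := by ring
    _ = _ := by rw [e1, mul_one]

noncomputable def equiv (hN : 0 < N) : AK R lam N h ≃ₐ[R] AdjoinRoot PP :=
  AlgEquiv.ofAlgHom (fwd h hN) (bwd h)
    (by
      apply AdjoinRoot.algHom_ext
      rw [AlgHom.comp_apply, bwd_root, fwd_t]; rfl)
    (by
      apply AK.algHom_ext
      · rw [AlgHom.comp_apply, fwd_t, bwd_root]; rfl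
      · rw [AlgHom.comp_apply, fwd_inv, map_pow, map_add, map_one, map_smul, bwd_root]
        exact (ak_inv_eq h hN).symm)

end Equiv

theorem main (R : Type u) [CommRing R] (lam : R) (N : ℕ) (hN : 0 < N) (h : SekSuwa.DivCond lam N) :
    Mor2.IsFinLocFreeOfDeg N (SekSuwa.GK R lam N h).hom := by
  have hmonic := monic_psiPoly h hN
  let pb := AdjoinRoot.powerBasis' hmonic
  let e := equiv h hN
  haveI : Module.Free R (AdjoinRoot (psiPoly lam N h)) := Module.Free.of_basis pb.basis
  haveI : Module.Finite R (AdjoinRoot (psiPoly lam N h)) := pb.finite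
  haveI : Module.Free R (AK R lam N h) := Module.Free.of_equiv e.symm.toLinearEquiv
  haveI : Module.Finite R (AK R lam N h) := Module.Finite.equiv e.symm.toLinearEquiv
  refine scheme_level_gen R (AK R lam N h) N fun hnt => ?_
  rw [LinearEquiv.finrank_eq e.toLinearEquiv, pb.finrank]
  show (psiPoly lam N h).natDegree = N
  exact natDegree_psiPoly h hN


end Aux

/-- For any commutative ring R, λ ∈ R and N ≥ 1 such that λ is a non-zero-divisor and λ^N divides (1 +
λX)^N − 1 in R[X] with quotient P_{λ,N}, the R-group scheme G_{λ,N}, defined as the closed subscheme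
of the affine R-group G^(λ) = Spec R[T, 1/(1+λT)] cut out by P_{λ,N}(T), is finite locally free of
degree N over Spec R (its coordinate ring is R[T]/(P_{λ,N}(T)) with P_{λ,N} monic of degree N). (The
published text states this over a discrete valuation ring with N = p^n: G_{λ,n} is a commutative
finite flat group scheme of rank p^n.) -/
theorem result (R : Type u) [CommRing R] (lam : R) (N : ℕ) (hN : 0 < N) (h : SekSuwa.DivCond lam N) :
    Mor2.IsFinLocFreeOfDeg N (SekSuwa.GK R lam N h).hom := by
  exact main R lam N hN h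

end Groth.Agent.S14694
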