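import Groth.Statements.S1471
import Groth.Agent.S4368
import Mathlib.RingTheory.LocalRing.ResidueField.Fiber
import Mathlib.AlgebraicGeometry.Fiber
import Mathlib.RingTheory.LocalProperties.Reduced
import Mathlib.RingTheory.Ideal.MinimalPrime.Localization
-- import your own Groth.Agent.* helpers here

set_option autoImplicit false
universe u
open FlatMor

namespace Groth.Agent.S1471

section Algebra

open TensorProduct

lemma isReduced_fiber {R C : Type u} [CommRing R] [CommRing C] [Algebra R C] [IsReduced C]
    (p : Ideal R) [p.IsPrime] (hp : p ∈ minimalPrimes R) : IsReduced (p.Fiber C) := by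
  let _ : Algebra C (p.Fiber C) := Algebra.TensorProduct.rightAlgebra
  let e := Ideal.Fiber.algEquivQuotient (S := C) p
  have hnil : ∀ x ∈ IsLocalRing.maximalIdeal (Localization p.primeCompl), IsNilpotent x := by
    intro x hx
    have h1 := IsLocalization.AtPrime.radical_map_of_mem_minimalPrimes
      (A := Localization p.primeCompl) p ⊥ hp
    rw [IsLocalization.AtPrime.map_eq_maximalIdeal p (Localization p.primeCompl)] at h1
    rw [← h1, Ideal.map_bot] at hx
    exact mem_nilradical.mp hx
  have hbot : (IsLocalRing.maximalIdeal (Localization p.primeCompl)).map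
      (algebraMap (Localization p.primeCompl)
        (Localization (Algebra.algebraMapSubmonoid C p.primeCompl))) = ⊥ := by
    rw [eq_bot_iff, Ideal.map_le_iff_le_comap]
    intro x hx
    rw [Ideal.mem_comap, Ideal.mem_bot]
    exact ((hnil x hx).map _).eq_zero
  have hred : IsReduced (Localization (Algebra.algebraMapSubmonoid C p.primeCompl) ⧸
      (IsLocalRing.maximalIdeal (Localization p.primeCompl)).map
      (algebraMap (Localization p.primeCompl)
        (Localization (Algebra.algebraMapSubmonoid C p.primeCompl)))) := by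
    rw [← Ideal.isRadical_iff_quotient_reduced, hbot]
    exact Ideal.isRadical_bot
  exact isReduced_of_injective e.toRingHom e.injective

end Algebra

section Geometry

open AlgebraicGeometry CategoryTheory Limits

lemma fiber_iso_of_isPullback {P X Y Z : Scheme.{u}} {fst : P ⟶ X} {snd : P ⟶ Y} {f : X ⟶ Z}
    {g : Y ⟶ Z} (h : IsPullback fst snd f g) (y : Y) [IsIso (g.residueFieldMap y)] :
    Nonempty (snd.fiber y ≅ f.fiber (g y)) := by
  have h1 := isPullback_fiberToSpecResidueField_of_isPullback h y
  have hi := h1.isIso_fst_of_isIso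
  exact ⟨@asIso _ _ _ _ _ hi⟩

lemma isReduced_iff_of_iso {X Y : Scheme.{u}} (e : X ≅ Y) : IsReduced X ↔ IsReduced Y :=
  ⟨fun _ => isReduced_of_isOpenImmersion e.inv, fun _ => isReduced_of_isOpenImmersion e.hom⟩

/-- Ring-level statement. -/
lemma fiber_reduced_Spec {R C : Type u} [CommRing R] [CommRing C] [Algebra R C] [IsReduced C]
    (p : PrimeSpectrum R) (hp : p.asIdeal ∈ minimalPrimes R) :
    IsReduced ((Spec.map (CommRingCat.ofHom (algebraMap R C))).fiber p) := by
  have e := Spec.fiberToSpecResidueFieldIso R C p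
  have e1 : (Spec.map (CommRingCat.ofHom (algebraMap R C))).fiber p ≅
      Spec (CommRingCat.of (p.asIdeal.Fiber C)) := (Arrow.leftFunc).mapIso e
  have : _root_.IsReduced (p.asIdeal.Fiber C) := isReduced_fiber p.asIdeal hp
  rw [isReduced_iff_of_iso e1]
  infer_instance

lemma minimal_of_no_gen {R : Type u} [CommRing R] (p : PrimeSpectrum R)
    (h : ∀ q : PrimeSpectrum R, q ⤳ p → q = p) : p.asIdeal ∈ minimalPrimes R := by
  refine ⟨⟨p.isPrime, bot_le⟩, fun q hq hle => ?_⟩
  have := h ⟨q, hq.1⟩ ((PrimeSpectrum.le_iff_specializes _ _).mp hle)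
  rw [← this]

lemma no_gen {Y : Type*} [TopologicalSpace Y] [T0Space Y] {η : Y} {W : Set Y}
    (hW : W ∈ irreducibleComponents Y) (hη : IsGenericPoint η W) (y : Y) (h : y ⤳ η) : y = η := by
  have h1 : closure {η} ⊆ closure {y} := specializes_iff_closure_subset.mp h
  have h2 : closure {y} ⊆ W := hW.2 isIrreducible_singleton.closure (hη.def ▸ h1)
  have h3 : closure {y} = closure {η} := le_antisymm (hη.def ▸ h2) h1
  exact (inseparable_iff_closure_eq.mpr h3).eq

lemma fiber_reduced_affine {W V : Scheme.{u}} [IsAffine W] [IsAffine V] [IsReduced W]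
    (φ : W ⟶ V) (y : V) (hy : ∀ y' : V, y' ⤳ y → y' = y) : IsReduced (φ.fiber y) := by
  algebraize [φ.appTop.hom]
  have hsq : IsPullback W.isoSpec.hom φ (Spec.map φ.appTop) V.isoSpec.hom :=
    IsPullback.of_horiz_isIso ⟨Scheme.isoSpec_hom_naturality φ⟩
  obtain ⟨e⟩ := fiber_iso_of_isPullback hsq y
  rw [isReduced_iff_of_iso e]
  have hp : (V.isoSpec.hom y).asIdeal ∈ minimalPrimes Γ(V, ⊤) := by
    apply minimal_of_no_gen
    intro q hq
    have h1 : V.isoSpec.inv q ⤳ V.isoSpec.inv (V.isoSpec.hom y) :=
      hq.map V.isoSpec.inv.continuous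
    have h2 : V.isoSpec.inv (V.isoSpec.hom y) = y := by simp
    rw [h2] at h1
    have h3 := hy _ h1
    rw [← h3]
    simp
  exact fiber_reduced_Spec (R := Γ(V, ⊤)) (C := Γ(W, ⊤)) (V.isoSpec.hom y) hp

lemma fiber_reduced_affine_base {Z V : Scheme.{u}} [IsAffine V] [IsReduced Z]
    (g : Z ⟶ V) (y : V) (hy : ∀ y' : V, y' ⤳ y → y' = y) : IsReduced (g.fiber y) := by
  have : ∀ i, IsReduced
      ((Scheme.Pullback.openCoverOfLeft Z.affineCover g (V.fromSpecResidueField y)).X i) := by
    intro i
    have : IsReduced (Z.affineCover.X i) := isReduced_of_isOpenImmersion (Z.affineCover.f i)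
    exact fiber_reduced_affine (Z.affineCover.f i ≫ g) y hy
  exact IsReduced.of_openCover _
    (Scheme.Pullback.openCoverOfLeft Z.affineCover g (V.fromSpecResidueField y))

lemma fiber_reduced {Z Y : Scheme.{u}} [IsReduced Z] (g : Z ⟶ Y) (η : Y)
    (hη : ∀ y : Y, y ⤳ η → y = η) : IsReduced (g.fiber η) := by
  obtain ⟨_, ⟨(V : Y.Opens), hV, rfl⟩, hηV, -⟩ := Y.isBasis_affineOpens.exists_subset_of_mem_open
    (Set.mem_univ η) isOpen_univ
  have : IsAffine V := hV
  have hsq := (isPullback_morphismRestrict g V).flip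
  obtain ⟨e⟩ := fiber_iso_of_isPullback hsq ⟨η, hηV⟩
  have hred : IsReduced ((g ∣_ V).fiber ⟨η, hηV⟩) := by
    apply fiber_reduced_affine_base
    intro y' hy'
    have h1 : (Scheme.Opens.ι V) y' ⤳ (Scheme.Opens.ι V) ⟨η, hηV⟩ :=
      hy'.map (Scheme.Opens.ι V).continuous
    have h2 := hη _ h1
    exact Subtype.ext h2
  exact (isReduced_iff_of_iso e).mp hred

end Geometry



open AlgebraicGeometry CategoryTheory Limits in
/-- Let f : X → Y and η a generic point of an irreducible component of Y. Then the fibre over η of the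
composite X_red → X → Y is reduced; since it is a closed subscheme of X_η with the same underlying
set, this says (X_η)_red = (X_red)_η. -/
theorem result {X Y : Scheme.{u}} (f : X ⟶ Y) (η : Y) (W : Set ↑Y) (hW : W ∈ irreducibleComponents ↑Y) (hη : IsGenericPoint η W) :
    IsReduced ((X.nilradical.subschemeι ≫ f).fiber η) := by
  have : IsReduced X.nilradical.subscheme :=
    (Groth.Agent.S4368.result X X.nilradical X.support_nilradical).mpr rfl
  exact fiber_reduced _ η (fun y hy => no_gen hW hη y hy)

end Groth.Agent.S1471
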