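import Groth.Statements.S14730
import Mathlib
import Groth.Agent.Lib.Helper12.FinValInterC
import Groth.Agent.Lib.Helper12.FinValInterE
import Groth.Agent.Lib.Helper12.FinValInterF

set_option autoImplicit false
universe u
open ValPrufer

namespace Groth.Agent.S14730

/-- Let R be a semilocal Prüfer domain (an integral domain with finitely many maximal ideals whose
localisations at primes are valuation rings). Then R is the increasing union of subrings that are
semilocal Prüfer domains of finite Krull dimension; equivalently, every finite subset of R is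
contained in such a subring. -/
theorem result
    (R : Type u) [CommRing R] [IsDomain R]
    (hR : ∀ (p : Ideal R) [p.IsPrime], ValuationRing (Localization.AtPrime p))
    (hfin : Finite (MaximalSpectrum R)) (s : Finset R) :
    ∃ R' : Subring R, (↑s : Set R) ⊆ R' ∧
      (∀ (p : Ideal R') [p.IsPrime], ValuationRing (Localization.AtPrime p)) ∧
      Finite (MaximalSpectrum R') ∧ ringKrullDim R' < ⊤ := by
  classical
  haveI := hfin
  haveI : Nonempty (MaximalSpectrum R) := by
    obtain ⟨m, hm⟩ := Ideal.exists_maximal R
    exact ⟨⟨m, hm⟩⟩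
  obtain ⟨K, hK⟩ : ∃ K : Subfield (FractionRing R),
      K = Subfield.closure (algebraMap R (FractionRing R) '' (s : Set R)) := ⟨_, rfl⟩
  have hA : ∀ x : FractionRing R, x ∈ (algebraMap R (FractionRing R)).range ⊓ K.toSubring ↔
      x ∈ K ∧ ∀ m : MaximalSpectrum R,
        x ∈ Groth.Agent.Lib.Helper12.FinValInter.valSub R (FractionRing R) m.asIdeal
          (hR m.asIdeal) := by
    intro x
    rw [Subring.mem_inf,
      Groth.Agent.Lib.Helper12.FinValInter.mem_range_iff R (FractionRing R) hR x, and_comm]
    rfl
  obtain ⟨d, hd⟩ := Groth.Agent.Lib.Helper12.FinValInter.exists_trdeg_le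
    (algebraMap R (FractionRing R) '' (s : Set R)) (s.finite_toSet.image _)
  rw [← hK] at hd
  have hdim := Groth.Agent.Lib.Helper12.FinValInter.ringKrullDim_le _ K _ hA d hd
  have hinj : Function.Injective (algebraMap R (FractionRing R)) :=
    IsFractionRing.injective R (FractionRing R)
  let f : K.toSubring.comap (algebraMap R (FractionRing R)) →+*
      ↥((algebraMap R (FractionRing R)).range ⊓ K.toSubring) :=
    RingHom.codRestrict ((algebraMap R (FractionRing R)).comp
      (K.toSubring.comap (algebraMap R (FractionRing R))).subtype) _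
      (fun r => ⟨⟨r.1, rfl⟩, r.2⟩)
  have hf : Function.Bijective f := by
    constructor
    · intro a b hab
      apply Subtype.ext
      apply hinj
      exact congrArg Subtype.val hab
    · rintro ⟨x, ⟨r, rfl⟩, hxK⟩
      exact ⟨⟨r, hxK⟩, rfl⟩
  refine ⟨K.toSubring.comap (algebraMap R (FractionRing R)), ?_, ?_⟩
  · intro r hr
    show algebraMap R (FractionRing R) r ∈ K
    rw [hK]
    exact Subfield.subset_closure ⟨r, hr, rfl⟩
  · refine Groth.Agent.Lib.Helper12.FinValInter.transfer (RingEquiv.ofBijective f hf) ?_ ?_ ?_
    · intro p _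
      exact Groth.Agent.Lib.Helper12.FinValInter.valuationRing_localization _ K _ hA p
    · exact Groth.Agent.Lib.Helper12.FinValInter.finite_maximalSpectrum _ K _ hA
    · exact lt_of_le_of_lt hdim (WithBot.coe_lt_coe.2 (ENat.coe_lt_top _))

end Groth.Agent.S14730
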