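import Groth.Statements.S14731
import Mathlib

set_option autoImplicit false
set_option linter.style.haveILetI false
universe u
open ValPrufer

namespace Groth.Agent.S14731

theorem formallySmooth_int_of_charZero (K : Type u) [Field K] [CharZero K]
    [Algebra.EssFiniteType ℤ K] : Algebra.FormallySmooth ℤ K := by
  haveI : Algebra.EssFiniteType ℚ K := Algebra.EssFiniteType.of_comp ℤ ℚ K
  haveI : Algebra.FormallySmooth ℚ K := inferInstance
  haveI : Algebra.FormallySmooth ℤ ℚ := .of_isLocalization (nonZeroDivisors ℤ)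
  exact .comp ℤ ℚ K

theorem exists_subring_of_injective (K : Type u) [Field K] (B : Type u) [CommRing B] [Algebra ℤ B]
    [Algebra.Smooth ℤ B] (φ : B →+* K) (hφ : Function.Injective φ)
    (hsurj : ∀ z : K, ∃ x y : B, z = φ x / φ y) :
    ∃ A : Subring K, Algebra.FiniteType ℤ A ∧ Algebra.Smooth ℤ A ∧ IsFractionRing A K := by
  let e₀ : B ≃+* φ.range := RingEquiv.ofBijective φ.rangeRestrict
    ⟨fun a b h => hφ (by simpa using congrArg Subtype.val h), φ.rangeRestrict_surjective⟩
  let e : B ≃ₐ[ℤ] φ.range := AlgEquiv.ofRingEquiv (f := e₀) (fun r => by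
    rw [eq_intCast (algebraMap ℤ B) r, eq_intCast (algebraMap ℤ φ.range) r, map_intCast])
  refine ⟨φ.range, ?_, ?_, ?_⟩
  · haveI : Algebra.FiniteType ℤ B := inferInstance
    exact Algebra.FiniteType.equiv this e
  · exact Algebra.Smooth.of_equiv e
  · haveI : FaithfulSMul φ.range K :=
      (faithfulSMul_iff_algebraMap_injective _ _).mpr Subtype.val_injective
    refine IsFractionRing.of_field (R := φ.range) (K := K) ?_
    intro z
    obtain ⟨x, y, rfl⟩ := hsurj z
    exact ⟨⟨φ x, ⟨x, rfl⟩⟩, ⟨φ y, ⟨y, rfl⟩⟩, rfl⟩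


/-- In characteristic zero, every field K generated as a field by a finite set is the fraction field of
a subring A of K of finite type and smooth over the integers. -/
theorem result
    (K : Type u) [Field K] [CharZero K] (s : Finset K)
    (hs : Subfield.closure (↑s : Set K) = ⊤) :
    ∃ A : Subring K, Algebra.FiniteType ℤ A ∧ Algebra.Smooth ℤ A ∧ IsFractionRing A K := by
  classical
  let A₀ : Subalgebra ℤ K := Algebra.adjoin ℤ (s : Set K)
  haveI hft : Algebra.FiniteType ℤ A₀ :=
    (Subalgebra.fg_iff_finiteType _).mp ⟨s, rfl⟩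
  haveI hfp : Algebra.FinitePresentation ℤ A₀ := Algebra.FinitePresentation.of_finiteType.mp hft
  have hsurj : ∀ z : K, ∃ x y : A₀, z = algebraMap A₀ K x / algebraMap A₀ K y := by
    intro z
    have hz : z ∈ Subfield.closure (s : Set K) := by rw [hs]; trivial
    obtain ⟨y, hy, w, hw, rfl⟩ := Subfield.mem_closure_iff.mp hz
    have hle : Subring.closure (s : Set K) ≤ A₀.toSubring := by
      rw [Subring.closure_le]
      exact Algebra.subset_adjoin
    exact ⟨⟨y, hle hy⟩, ⟨w, hle hw⟩, rfl⟩
  haveI hfrac : IsFractionRing A₀ K := IsFractionRing.of_field (R := A₀) (K := K) hsurj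
  -- smoothness at the generic point
  haveI : IsLocalization.AtPrime K (⊥ : Ideal A₀) := by
    show IsLocalization (⊥ : Ideal A₀).primeCompl K
    rw [Ideal.primeCompl_bot]; exact hfrac
  haveI : Algebra.EssFiniteType A₀ K := .of_isLocalization K (nonZeroDivisors A₀)
  haveI : Algebra.EssFiniteType ℤ K := Algebra.EssFiniteType.comp ℤ A₀ K
  have hK : Algebra.FormallySmooth ℤ K := formallySmooth_int_of_charZero K
  haveI : Algebra.IsSmoothAt ℤ (⊥ : Ideal A₀) := by
    let e : K ≃ₐ[A₀] Localization.AtPrime (⊥ : Ideal A₀) :=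
      IsLocalization.algEquiv (⊥ : Ideal A₀).primeCompl K _
    exact Algebra.FormallySmooth.of_equiv (e.restrictScalars ℤ)
  obtain ⟨f, hf, hsm⟩ := Algebra.IsSmoothAt.exists_notMem_smooth ℤ (⊥ : Ideal A₀)
  have hf0 : f ≠ 0 := fun h => hf (by simp [h])
  have hinjA : Function.Injective (algebraMap A₀ K) := FaithfulSMul.algebraMap_injective A₀ K
  have hfu : IsUnit (algebraMap A₀ K f) :=
    IsUnit.mk0 _ ((map_ne_zero_iff _ hinjA).mpr hf0)
  let φ : Localization.Away f →+* K := IsLocalization.Away.lift f hfu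
  have hφ : ∀ a : A₀, φ (algebraMap A₀ (Localization.Away f) a) = algebraMap A₀ K a :=
    fun a => IsLocalization.Away.lift_eq f hfu a
  have hinjL : Function.Injective (algebraMap A₀ (Localization.Away f)) :=
    IsLocalization.injective _ (powers_le_nonZeroDivisors_of_noZeroDivisors hf0)
  have hφinj : Function.Injective φ := by
    simp only [φ, IsLocalization.Away.lift]
    rw [IsLocalization.lift_injective_iff]
    intro x y
    rw [hinjL.eq_iff, hinjA.eq_iff]
  refine exists_subring_of_injective K (Localization.Away f) φ hφinj ?_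
  intro z
  obtain ⟨x, y, rfl⟩ := hsurj z
  exact ⟨algebraMap A₀ _ x, algebraMap A₀ _ y, by rw [hφ, hφ]⟩

end Groth.Agent.S14731
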