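import Groth.Statements.S14738
import Mathlib
import Groth.Agent.Lib.Helper12.FinValInterD

set_option autoImplicit false
universe u
open ValPrufer

namespace Groth.Agent.S14738

/-- Let R be a semilocal Prüfer domain (an integral domain with finitely many maximal ideals whose
localisations at primes are valuation rings) of finite Krull dimension, and m a maximal ideal of R.
Then there is a ∈ R with V(a) = {m}, i.e. m is the only prime ideal containing a, and there is b ∉ m
such that R[1/b] is the localisation R_m (every element outside m becomes invertible after inverting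
b); consequently the spectra of the local rings R_m form a Zariski open covering of Spec R. (The
published remark assumes positive Krull dimension to construct a; for R a field the assertions hold
with a = 0 and b = 1. It also takes b to be the product of the elements a_n chosen in the same way
for the other maximal ideals n; that choice fails as soon as a non-maximal prime lies in another
maximal ideal but not in m, e.g. for the intersection of two independent rank-two valuation rings of
a field, so this row asserts only that some such b exists.) -/
theorem result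
    (R : Type u) [CommRing R] [IsDomain R]
    (hR : ∀ (p : Ideal R) [p.IsPrime], ValuationRing (Localization.AtPrime p))
    (hfin : Finite (MaximalSpectrum R)) (hdim : ringKrullDim R < ⊤)
    (m : Ideal R) [m.IsMaximal] :
    (∃ a : R, ∀ (p : Ideal R), p.IsPrime → (a ∈ p ↔ p = m)) ∧
      ∃ b : R, b ∉ m ∧ IsLocalization.AtPrime (Localization.Away b) m := by
  classical
  haveI : Finite (PrimeSpectrum R) :=
    Groth.Agent.Lib.Helper12.FinValInter.finite_primeSpectrum R hR hfin hdim
  cases nonempty_fintype (PrimeSpectrum R)
  constructor
  · let s : Finset (PrimeSpectrum R) := Finset.univ.filter (fun p => p.asIdeal ≠ m)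
    have h1 : ¬ ((m : Set R) ⊆ ⋃ p ∈ (s : Set (PrimeSpectrum R)), (p.asIdeal : Set R)) := by
      rw [Ideal.subset_union_prime (⟨m, inferInstance⟩ : PrimeSpectrum R) ⟨m, inferInstance⟩
        (fun p _ _ _ => p.isPrime)]
      rintro ⟨p, hp, hmp⟩
      have hp' : p.asIdeal ≠ m := (Finset.mem_filter.1 hp).2
      exact hp' (Ideal.IsMaximal.eq_of_le inferInstance p.isPrime.ne_top hmp).symm
    obtain ⟨a, ham, ha⟩ := Set.not_subset.1 h1
    refine ⟨a, fun p hp => ⟨fun hap => ?_, fun h => h ▸ ham⟩⟩
    by_contra hne
    apply ha
    simp only [Set.mem_iUnion]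
    exact ⟨⟨p, hp⟩, Finset.mem_filter.2 ⟨Finset.mem_univ _, hne⟩, hap⟩
  · let s : Finset (PrimeSpectrum R) := Finset.univ.filter (fun p => ¬ p.asIdeal ≤ m)
    have h1 : ¬ (s.inf (fun p => p.asIdeal) ≤ m) := by
      rw [Ideal.IsPrime.inf_le' inferInstance]
      rintro ⟨p, hp, hpm⟩
      exact (Finset.mem_filter.1 hp).2 hpm
    obtain ⟨b, hb, hbm⟩ := Set.not_subset.1 h1
    refine ⟨b, hbm, ?_⟩
    apply IsLocalization.of_le (Submonoid.powers b) m.primeCompl
    · rintro _ ⟨n, rfl⟩
      exact fun h => hbm (Ideal.IsPrime.mem_of_pow_mem inferInstance n h)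
    · intro r hr
      by_contra hu
      obtain ⟨Q, hQ, hrQ⟩ := exists_max_ideal_of_mem_nonunits hu
      have hp : (Ideal.comap (algebraMap R (Localization.Away b)) Q).IsPrime := inferInstance
      have hbp : b ∉ Ideal.comap (algebraMap R (Localization.Away b)) Q := fun h =>
        hQ.ne_top (Ideal.eq_top_of_isUnit_mem _ h (IsLocalization.Away.algebraMap_isUnit b))
      have hpm : Ideal.comap (algebraMap R (Localization.Away b)) Q ≤ m := by
        by_contra hnot
        have hmem : (⟨_, hp⟩ : PrimeSpectrum R) ∈ s :=
          Finset.mem_filter.2 ⟨Finset.mem_univ _, hnot⟩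
        exact hbp ((Finset.inf_le hmem : s.inf (fun p => p.asIdeal) ≤ _) hb)
      exact hr (hpm hrQ)

end Groth.Agent.S14738
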