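import Groth.Statements.S14741
import Groth.Agent.Lib.Helper2.Bridge2
import Groth.Agent.Lib.Helper29.FPDict
import Groth.Agent.Lib.Helper28.QCohPush
import Groth.Agent.S0022

set_option autoImplicit false
universe u
open CategoryTheory AlgebraicGeometry
open ValPrufer

namespace Groth.Agent.S14741

/-- Let R be a semilocal Prüfer domain (an integral domain with finitely many maximal ideals whose
localisations at primes are valuation rings) of finite Krull dimension, m ≥ 1, X a closed subscheme
of projective (m-1)-space over R which is flat over R, and F a finitely presented (equivalently,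
coherent) O_X-module. Then H^q(X, F) = 0 for all q > m. -/
theorem result
    (R : Type u) [CommRing R] [IsDomain R]
    (hR : ∀ (p : Ideal R) [p.IsPrime], ValuationRing (Localization.AtPrime p))
    (hfin : Finite (MaximalSpectrum R)) (hdim : ringKrullDim R < ⊤)
    (m : ℕ) (hm : 1 ≤ m) (X : Scheme.{u}) (ι : X ⟶ CohB1.ProjSpace (m - 1) R) [IsClosedImmersion ι]
    [Flat (ι ≫ CohB1.ProjSpace.toSpec (m - 1) R)]
    (F : X.Modules) (hF : CohB1.IsFP F) (q : ℕ) (hq : m < q) :
    Subsingleton (Coh.HH X F q) := by
  haveI : F.IsQuasicoherent :=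
    Groth.Agent.Lib.Helper29.FPDict.isQuasicoherent_of_isFinitePresentation F
  haveI hq : ((Scheme.Modules.pushforward ι).obj F).IsQuasicoherent :=
    Groth.Agent.Lib.Helper28.QCohLoc.isQuasicoherent_pushforward ι F
  obtain ⟨e, -⟩ := Groth.Agent.Lib.Helper2.Bridge2.exists_natural_equiv ι q
  haveI : Coh.IsQCoh ((Scheme.Modules.pushforward ι).obj F) := hq
  haveI : Subsingleton (Coh.HH (CohB1.ProjSpace (m - 1) R) ((Scheme.Modules.pushforward ι).obj F) q) :=
    Groth.Agent.S0022.result (m - 1) R _ q (by omega)
  exact (e F inferInstance).symm.injective.subsingleton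

end Groth.Agent.S14741
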