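import Groth.Statements.S14743
-- import your own Groth.Agent.* helpers here

set_option autoImplicit false
universe u
open CategoryTheory MonoidalCategory CartesianMonoidalCategory MonObj GrpObj AlgebraicGeometry
open AlgGrp

namespace Groth.Agent.S14743

/-- Over an algebraically closed field k let L, G, B be commutative k-group schemes, i : L → G and π : G
→ B homomorphisms with i the kernel of π, and suppose that every k-morphism B × B → L is constant
(factors through a k-point of L). If π admits a section which is a morphism of k-schemes, then it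
admits a section which is a homomorphism, so the extension splits. (The published statement is for
algebraic groups, that is, of finite type over k; finiteness plays no role and is not assumed here.) -/
theorem result (k : Type u) [Field k] [IsAlgClosed k]
    (L G B : Over (Spec (CommRingCat.of k))) [GrpObj L] [GrpObj G] [GrpObj B]
    [IsCommMonObj L] [IsCommMonObj G] [IsCommMonObj B]
    (i : L ⟶ G) [IsMonHom i] (π : G ⟶ B) [IsMonHom π] (hker : AlgGrp.IsKernel i π)
    (hconst : ∀ f : B ⊗ B ⟶ L, ∃ l : 𝟙_ (Over (Spec (CommRingCat.of k))) ⟶ L, f = toUnit (B ⊗ B) ≫ l)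
    (s : B ⟶ G) (hs : s ≫ π = 𝟙 B) :
    ∃ s' : B ⟶ G, IsMonHom s' ∧ s' ≫ π = 𝟙 B := by
  classical
  -- the 2-cocycle c(b,b') = s(bb') s(b)⁻¹ s(b')⁻¹
  let c : B ⊗ B ⟶ G := (μ[B] ≫ s) * (fst B B ≫ s)⁻¹ * (snd B B ≫ s)⁻¹
  have hcπ : c ≫ π = toUnit (B ⊗ B) ≫ η[B] := by
    have : c ≫ π = (μ[B] ≫ s ≫ π) * (fst B B ≫ s ≫ π)⁻¹ * (snd B B ≫ s ≫ π)⁻¹ := by
      simp only [c, MonObj.mul_comp, GrpObj.inv_comp, Category.assoc]
    rw [this, hs, Category.comp_id, Category.comp_id, Category.comp_id, MonObj.mul_eq_mul,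
      ← Hom.one_def]
    rw [_root_.mul_comm (fst B B) (snd B B), mul_inv_cancel_right, mul_inv_cancel]
  obtain ⟨f, hf, -⟩ : ∃ f : B ⊗ B ⟶ L, f ≫ i = c ∧ True := by
    refine ⟨hker.lift c (toUnit _) hcπ, hker.lift_fst _ _ _, trivial⟩
  obtain ⟨l, hl⟩ := hconst f
  -- the constant K
  have hK : toUnit (B ⊗ B) ≫ l ≫ i = c := by rw [← hf, hl, Category.assoc]
  let s' : B ⟶ G := s * (toUnit B ≫ l ≫ i)
  have hiπ : i ≫ π = toUnit L ≫ η[B] := hker.w
  have hs'π : s' ≫ π = 𝟙 B := by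
    have : s' ≫ π = (s ≫ π) * (toUnit B ≫ l ≫ i ≫ π) := by
      simp only [s', MonObj.mul_comp, Category.assoc]
    rw [this, hs, hiπ]
    have : toUnit B ≫ l ≫ toUnit L ≫ η[B] = (1 : B ⟶ B) := by
      rw [Hom.one_def, ← Category.assoc, ← Category.assoc]
      congr 1
      exact toUnit_unique _ _
    rw [this, _root_.mul_one]
  have hmulhom : μ[B] ≫ s' = (s' ⊗ₘ s') ≫ μ[G] := by
    have e1 : μ[B] ≫ s' = (μ[B] ≫ s) * c := by
      have hu : μ[B] ≫ (toUnit B ≫ l ≫ i) = c := by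
        rw [← hK, ← Category.assoc, toUnit_unique (μ[B] ≫ toUnit B) (toUnit (B ⊗ B))]
      rw [MonObj.comp_mul, hu]
    have e2 : (s' ⊗ₘ s') ≫ μ[G] = (fst B B ≫ s') * (snd B B ≫ s') := by
      have : (s' ⊗ₘ s') = lift (fst B B ≫ s') (snd B B ≫ s') := by
        apply CartesianMonoidalCategory.hom_ext <;> simp
      rw [Hom.mul_def, this]
    have e3 : fst B B ≫ s' = (fst B B ≫ s) * c := by
      have hu : fst B B ≫ (toUnit B ≫ l ≫ i) = c := by
        rw [← hK, ← Category.assoc, toUnit_unique (fst B B ≫ toUnit B) (toUnit (B ⊗ B))]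
      rw [MonObj.comp_mul, hu]
    have e4 : snd B B ≫ s' = (snd B B ≫ s) * c := by
      have hu : snd B B ≫ (toUnit B ≫ l ≫ i) = c := by
        rw [← hK, ← Category.assoc, toUnit_unique (snd B B ≫ toUnit B) (toUnit (B ⊗ B))]
      rw [MonObj.comp_mul, hu]
    rw [e1, e2, e3, e4]
    -- now group algebra in the commutative group `B ⊗ B ⟶ G`
    have hc : (μ[B] ≫ s) = c * (fst B B ≫ s) * (snd B B ≫ s) := by
      simp only [c]
      rw [mul_right_comm (μ[B] ≫ s * (fst B B ≫ s)⁻¹) (snd B B ≫ s)⁻¹ (fst B B ≫ s),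
        inv_mul_cancel_right, inv_mul_cancel_right]
    generalize (fst B B ≫ s) = A at hc ⊢
    generalize (snd B B ≫ s) = A' at hc ⊢
    generalize (μ[B] ≫ s) = Mm at hc ⊢
    generalize c = cc at hc ⊢
    rw [hc]
    ac_rfl
  refine ⟨s', ?_, hs'π⟩
  -- unit: u = u * u ⟹ u = 1
  have hone : η[B] ≫ s' = η[G] := by
    have h : lift η[B] η[B] ≫ μ[B] ≫ s' = lift η[B] η[B] ≫ (s' ⊗ₘ s') ≫ μ[G] := by
      rw [hmulhom]
    have l1 : lift η[B] η[B] ≫ μ[B] = η[B] := by
      rw [← Hom.mul_def, MonObj.one_eq_one, _root_.mul_one]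
    have l2 : lift η[B] η[B] ≫ (s' ⊗ₘ s') ≫ μ[G] = (η[B] ≫ s') * (η[B] ≫ s') := by
      rw [Hom.mul_def, ← Category.assoc]
      congr 1
      apply CartesianMonoidalCategory.hom_ext <;> simp
    rw [← Category.assoc, l1, l2] at h
    have : η[B] ≫ s' = 1 := by
      have h' : (η[B] ≫ s') * 1 = (η[B] ≫ s') * (η[B] ≫ s') := by rw [_root_.mul_one]; exact h
      exact (mul_left_cancel h').symm
    rw [this, MonObj.one_eq_one]
  exact ⟨hone, hmulhom⟩

end Groth.Agent.S14743
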