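import Groth.Statements.S14754
import Groth.Agent.Lib.Helper14.MTField

set_option autoImplicit false
universe u
open CategoryTheory CategoryTheory.Limits MonoidalCategory CartesianMonoidalCategory MonObj GrpObj AlgebraicGeometry
open AlgGrp

namespace Groth.Agent.S14754

open Groth.Agent.Lib.Helper14


/-- Over an algebraically closed field k, every exact sequence of split tori splits: if K, G, Q are
split tori over k, i : K → G a closed subgroup scheme which is the kernel of a flat surjective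
homomorphism π : G → Q, then π has a section which is a homomorphism. -/
theorem result (k : Type u) [Field k] [IsAlgClosed k]
    (K G Q : Over (Spec (CommRingCat.of k))) [GrpObj K] [GrpObj G] [GrpObj Q] (nK nG nQ : ℕ)
    (hK : Red.IsSplitTorusWith (Fin nK → ℤ) K) (hG : Red.IsSplitTorusWith (Fin nG → ℤ) G)
    (hQ : Red.IsSplitTorusWith (Fin nQ → ℤ) Q)
    (i : K ⟶ G) [IsMonHom i] [IsClosedImmersion i.left]
    (π : G ⟶ Q) [IsMonHom π] [Flat π.left] [Surjective π.left] (hker : AlgGrp.IsKernel i π) :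
    ∃ s : Q ⟶ G, IsMonHom s ∧ s ≫ π = 𝟙 Q := by
  obtain ⟨eK₀⟩ := hK
  obtain ⟨eG₀⟩ := hG
  obtain ⟨eQ₀⟩ := hQ
  obtain ⟨eK, heK⟩ := MTDescent.exists_iso_of_grp_iso eK₀
  obtain ⟨eG, heG⟩ := MTDescent.exists_iso_of_grp_iso eG₀
  obtain ⟨eQ, heQ⟩ := MTDescent.exists_iso_of_grp_iso eQ₀
  letI : Algebra (ULift.{u} ℤ) k :=
    RingHom.toAlgebra ((Int.castRingHom k).comp (ULift.ringEquiv : ULift.{u} ℤ ≃+* ℤ).toRingHom)
  have hterm : Limits.IsTerminal.from specULiftZIsTerminal (Spec (CommRingCat.of k)) =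
      Spec.map (CommRingCat.ofHom (algebraMap (ULift.{u} ℤ) k)) :=
    specULiftZIsTerminal.hom_ext _ _
  obtain ⟨cK, hcK⟩ := MTHom4.exists_bc_congr _ _ hterm (Red.diag (ULift.{u} ℤ) (Fin nK → ℤ))
  obtain ⟨cG, hcG⟩ := MTHom4.exists_bc_congr _ _ hterm (Red.diag (ULift.{u} ℤ) (Fin nG → ℤ))
  obtain ⟨cQ, hcQ⟩ := MTHom4.exists_bc_congr _ _ hterm (Red.diag (ULift.{u} ℤ) (Fin nQ → ℤ))
  haveI : IsMonHom (eK ≪≫ cK).hom := by
    dsimp only [Iso.trans_hom]
    infer_instance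
  haveI : IsMonHom (eG ≪≫ cG).hom := by
    dsimp only [Iso.trans_hom]
    infer_instance
  haveI : IsMonHom (eQ ≪≫ cQ).hom := by
    dsimp only [Iso.trans_hom]
    infer_instance
  exact MTField.split_exact (ULift.{u} ℤ) k (Fin nK → ℤ) (Fin nG → ℤ) (Fin nQ → ℤ)
    (eK ≪≫ cK) (eG ≪≫ cG) (eQ ≪≫ cQ) i π hker

end Groth.Agent.S14754
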