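import Groth.Statements.S1477
import Mathlib
import Groth.Agent.Lib.Helper13.NaOpenStage
import Groth.Agent.Lib.Helper13.NaFinite
import Groth.Agent.Lib.Helper13.ZMTFinMain

set_option autoImplicit false
universe u
open FlatMor

namespace Groth.Agent.S1477

section helpers

open CategoryTheory CategoryTheory.Limits AlgebraicGeometry Opposite


open Groth.Agent.Lib.Helper13.NaOver Groth.Agent.Lib.Helper13.NaFinite
  Groth.Agent.Lib.Helper13.NaOpenStage

theorem main {X S : Scheme.{u}} (f : X ⟶ S) [CompactSpace ↑S] [QuasiSeparatedSpace ↑S]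
    [IsSeparated f] [QuasiCompact f] [LocallyQuasiFinite f] [LocallyOfFinitePresentation f] :
    ∃ (T : Scheme.{u}) (j : X ⟶ T) (π : T ⟶ S), IsOpenImmersion j ∧ QuasiCompact j ∧ IsFinite π ∧
      LocallyOfFinitePresentation π ∧ j ≫ π = f := by
  obtain ⟨T, j, π, hj, hjq, -, hπ, hfac⟩ :=
    Groth.Agent.Lib.Helper13.ZMTFin.exists_finite_factorization f
  haveI : CompactSpace X := QuasiCompact.compactSpace_of_compactSpace f
  obtain ⟨I, _, _, _, G, s, ρ, ⟨hρ⟩, h1, h2, h3, h4⟩ := exists_finite_approx π
  have hq : ∀ i, QuasiSeparatedSpace (G.obj i) := fun i => by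
    let si : G.obj i ⟶ S := s.app i
    haveI : IsFinite si := (h2 i).1
    exact quasiSeparatedSpace_of_quasiSeparated si
  obtain ⟨i, hi⟩ := exists_isOpenImmersion_stage j G s ρ hρ h3 h4 hq
    (fun i => by have := (h2 i).2; infer_instance)
    (fun i => by rw [h1 i, hfac]; infer_instance)
  have := hq i
  exact ⟨G.obj i, j ≫ pr ρ i, s.app i, hi, quasiCompact_of_compactSpace _, (h2 i).1, (h2 i).2, by
    rw [Category.assoc, h1 i, hfac]⟩


end helpers

open AlgebraicGeometry CategoryTheory Limits in
/-- Let S be quasi-compact and quasi-separated and f : X → S separated, quasi-compact, locally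
quasi-finite and locally of finite presentation. Then f factors as a quasi-compact open immersion X
→ T followed by a morphism T → S which is finite and of finite presentation. -/
theorem result {X S : Scheme.{u}} (f : X ⟶ S) [CompactSpace ↑S] [QuasiSeparatedSpace ↑S]
    [IsSeparated f] [QuasiCompact f] [LocallyQuasiFinite f] [LocallyOfFinitePresentation f] :
    ∃ (T : Scheme.{u}) (j : X ⟶ T) (π : T ⟶ S), IsOpenImmersion j ∧ QuasiCompact j ∧ IsFinite π ∧ LocallyOfFinitePresentation π ∧ j ≫ π = f := by
  exact main f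

end Groth.Agent.S1477
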