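import Groth.Statements.S9750
import Groth.Agent.S1487
import Groth.Agent.Lib.Helper15.SmoothSecSch
import Groth.Agent.Lib.Helper17.ModPullback
import Groth.Agent.Lib.Helper17.Serre
-- import your own Groth.Agent.* helpers here

set_option autoImplicit false
universe u
open FlatMor

namespace Groth.Agent.S9750

section H
namespace W1
open CategoryTheory CategoryTheory.Limits AlgebraicGeometry Opposite TensorProduct
open Groth.Agent.Lib.Helper15.UnivThick Groth.Agent.Lib.Helper15.UnivThickAffine
open Groth.Agent.Lib.Helper15.SmoothSecSch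
set_option backward.isDefEq.respectTransparency.types false

theorem isFirstOrderThickening_id (X : Scheme.{u}) : MoreMor.IsFirstOrderThickening (𝟙 X) := by
  refine ⟨⟨inferInstance, inferInstance⟩, ?_⟩
  rw [Scheme.Hom.ker_eq_bot_of_isIso]
  apply le_antisymm _ bot_le
  exact mul_self_le ⊥

theorem formallyUnramified_of_isFormallyEtaleHom {X S : Scheme.{u}} (f : X ⟶ S)
    (hf : MoreMor.IsFormallyEtaleHom f) : FormallyUnramified f := by
  rw [HasRingHomProperty.iff_appLE (P := @FormallyUnramified)]
  intro V U e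
  have := (Groth.Agent.S1487.result f).1 hf U.1 V.1 U.2 V.2 e
  letI := (f.appLE V.1 U.1 e).hom.toAlgebra
  change Algebra.FormallyUnramified Γ(S, V.1) Γ(X, U.1)
  infer_instance

theorem part1 {X S : Scheme.{u}} (f : X ⟶ S) :
    MoreMor.IsFormallyEtaleHom f ↔ FormallyUnramified f ∧ OmegaSh.IsUnivThickening f (𝟙 X) f := by
  constructor
  · intro hf
    refine ⟨formallyUnramified_of_isFormallyEtaleHom f hf, ?_⟩
    apply isUnivThickening_of_standard_tests f (𝟙 X) f (isFirstOrderThickening_id X)
      (Category.id_comp f)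
    intro A _ I hI b a hab
    obtain ⟨l, ⟨h1, h2⟩, hu⟩ := hf A I hI a b hab
    refine ⟨l, ⟨by rw [h1, Category.comp_id], h2⟩, ?_⟩
    rintro l' ⟨k1, k2⟩
    exact hu l' ⟨by rw [k1, Category.comp_id], k2⟩
  · rintro ⟨-, hu⟩ A _ I hI a b hab
    have hfo := isFirstOrderThickening_SpecMap (CommRingCat.ofHom (Ideal.Quotient.mk I))
      Ideal.Quotient.mk_surjective (by simpa using hI)
    obtain ⟨l, ⟨h1, h2⟩, hl⟩ := hu.2.2 _ _ _ b a hfo hab
    refine ⟨l, ⟨by rw [h1, Category.comp_id], h2⟩, ?_⟩
    rintro l' ⟨k1, k2⟩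
    exact hl l' ⟨by rw [k1, Category.comp_id], k2⟩

open Groth.Agent.Lib.Helper17.ModPullback Groth.Agent.Lib.Helper17.CohKer
  Groth.Agent.Lib.Helper17.Serre in
/-- sections of the ideal module over an affine open: an injective semilinear map onto the ideal -/
theorem idealMod_sections {Y : Scheme.{u}} (I : Y.IdealSheafData) (V : Y.Opens)
    (hV : IsAffineOpen V) :
    ∃ ι : Γ(ClSub.idealMod I, V) → Γ(Y, V), Function.Injective ι ∧
      (∀ (r : Γ(Y, V)) (n : Γ(ClSub.idealMod I, V)), ι (r • n) = r * ι n) ∧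
      (∀ n, ι n ∈ I.ideal ⟨V, hV⟩) ∧ (∀ y ∈ I.ideal ⟨V, hV⟩, ∃ n, ι n = y) := by
  have hker : ∀ y : Γ(Y, V), (ClSub.toSubscheme I).app V y = 0 ↔ y ∈ I.ideal ⟨V, hV⟩ := by
    intro y
    rw [toSubscheme_app]
    have h1 : I.subschemeι.ker.ideal ⟨V, hV⟩ = I.ideal ⟨V, hV⟩ := by
      rw [Scheme.IdealSheafData.ker_subschemeι]
    rw [← h1, Scheme.Hom.ker_apply, RingHom.mem_ker]
    rfl
  refine ⟨fun n => (ClSub.idealModι I).app V n, ?_, ?_, ?_, ?_⟩
  · exact kernel_ι_app_injective (ClSub.toSubscheme I) V
  · intro r n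
    have h1 : (ClSub.idealModι I).app V (r • n) = r • (ClSub.idealModι I).app V n :=
      Scheme.Modules.Hom.app_smul _ r n
    exact h1.trans (structureModule_smul V r _)
  · intro n
    rw [← hker]
    exact app_kernel_ι_app (ClSub.toSubscheme I) V n
  · intro y hy
    exact exists_kernel_app_eq (ClSub.toSubscheme I) V y ((hker y).2 hy)

/-- a module killed by the kernel of a surjection with trivial base change is trivial -/
theorem subsingleton_of_tensor {A B N : Type u} [CommRing A] [CommRing B] [Algebra A B]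
    [AddCommGroup N] [Module A N] (hsurj : Function.Surjective (algebraMap A B))
    (hK : ∀ r ∈ RingHom.ker (algebraMap A B), ∀ n : N, r • n = 0)
    (h : Subsingleton (B ⊗[A] N)) : Subsingleton N := by
  let K : Ideal A := RingHom.ker (algebraMap A B)
  let e : (A ⧸ K) ≃ₐ[A] B := Ideal.quotientKerAlgEquivOfSurjective (f := Algebra.ofId A B) hsurj
  have hle : (K : Submodule A A) ≤ LinearMap.ker (LinearMap.lsmul A N) := by
    intro r hr
    rw [LinearMap.mem_ker]
    ext n
    exact hK r hr n
  let g : (A ⧸ K) →ₗ[A] (N →ₗ[A] N) := Submodule.liftQ (K : Submodule A A) (LinearMap.lsmul A N) hle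
  let f : B →ₗ[A] (N →ₗ[A] N) := g ∘ₗ e.symm.toLinearMap
  let θ : B ⊗[A] N →ₗ[A] N := TensorProduct.lift f
  refine ⟨fun n m => ?_⟩
  have key : ∀ n : N, θ ((1 : B) ⊗ₜ[A] n) = n := by
    intro n
    simp only [θ, TensorProduct.lift.tmul, f, LinearMap.coe_comp, Function.comp_apply]
    have h1 : e.symm.toLinearMap (1 : B) = (1 : A ⧸ K) := map_one e.symm
    rw [h1]
    change g (Submodule.Quotient.mk (1 : A)) n = n
    simp only [g, Submodule.liftQ_apply, LinearMap.lsmul_apply, one_smul]
  rw [← key n, ← key m, Subsingleton.elim ((1 : B) ⊗ₜ[A] n) ((1 : B) ⊗ₜ[A] m)]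


open Groth.Agent.Lib.Helper17.ModPullback Groth.Agent.Lib.Helper17.CohKer
  Groth.Agent.Lib.Helper17.Serre in
theorem part2 {X S X' : Scheme.{u}} (f : X ⟶ S) (i : X ⟶ X') (h' : X' ⟶ S)
    (hfu : FormallyUnramified f) (hu : OmegaSh.IsUnivThickening f i h') :
    MoreMor.IsFormallyEtaleHom f ↔ IsZero (Omega.conormal i) := by
  haveI : IsClosedImmersion i := hu.1.1.1
  constructor
  · intro hf
    have hu₁ := ((part1 f).1 hf).2
    haveI : IsIso i :=
      isIso_of_isUnivThickening f (𝟙 X) f hu₁ i h' hu i (Category.id_comp i) hu.2.1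
    have hker : i.ker = ⊥ := i.ker_eq_bot_of_isIso
    have hG : IsZero (ClSub.idealMod i.ker) := by
      apply isZero_of_subsingleton_sections_affine
      intro V hV
      obtain ⟨ι, hinj, -, hmem, -⟩ := idealMod_sections i.ker V hV
      refine ⟨fun a b => hinj ?_⟩
      have ha := hmem a
      have hb := hmem b
      rw [hker, Scheme.IdealSheafData.ideal_bot, Pi.bot_apply, Ideal.mem_bot] at ha hb
      rw [ha, hb]
    exact (Scheme.Modules.pullback i).map_isZero hG
  · intro hz
    have hkerV : ∀ (V : X'.Opens) (hV : IsAffineOpen V), i.ker.ideal ⟨V, hV⟩ = ⊥ := by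
      intro V hV
      have hU : IsAffineOpen (i ⁻¹ᵁ V) := hV.preimage i
      obtain ⟨ι, hinj, hsmul, hmem, hsurj⟩ := idealMod_sections i.ker V hV
      haveI hsub : Subsingleton Γ((Scheme.Modules.pullback i).obj (ClSub.idealMod i.ker), i ⁻¹ᵁ V) :=
        subsingleton_sections_of_isZero _ hz (i ⁻¹ᵁ V)
      obtain ⟨eq⟩ := nonempty_linearEquiv_pullback_sections i (ClSub.idealMod i.ker) hU hV le_rfl
      letI := (i.appLE V (i ⁻¹ᵁ V) le_rfl).hom.toAlgebra
      have hT : Subsingleton (Γ(X, i ⁻¹ᵁ V) ⊗[Γ(X', V)] Γ(ClSub.idealMod i.ker, V)) :=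
        eq.symm.injective.subsingleton
      have hι0 : ι 0 = 0 := by
        have := hsmul 0 0
        rwa [zero_smul, zero_mul] at this
      have hN : Subsingleton Γ(ClSub.idealMod i.ker, V) := by
        refine subsingleton_of_tensor (A := Γ(X', V)) (B := Γ(X, i ⁻¹ᵁ V)) ?_ ?_ hT
        · have := i.app_surjective V hV
          rw [Scheme.Hom.app_eq_appLE] at this
          exact this
        · intro r hr n
          apply hinj
          rw [hsmul, hι0]
          have hr' : r ∈ i.ker.ideal ⟨V, hV⟩ := by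
            rw [Scheme.Hom.ker_apply, RingHom.mem_ker, Scheme.Hom.app_eq_appLE]
            exact hr
          have h2 : r * ι n ∈ (i.ker * i.ker).ideal ⟨V, hV⟩ := by
            rw [Scheme.IdealSheafData.ideal_mul, Pi.mul_apply]
            exact Ideal.mul_mem_mul hr' (hmem n)
          rw [hu.1.2, Scheme.IdealSheafData.ideal_bot, Pi.bot_apply, Ideal.mem_bot] at h2
          exact h2
      rw [eq_bot_iff]
      intro y hy
      obtain ⟨n, rfl⟩ := hsurj y hy
      rw [Subsingleton.elim n 0, hι0]
      exact Ideal.zero_mem _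
    have hker : i.ker = ⊥ := by
      apply Scheme.IdealSheafData.ext
      funext V
      rw [hkerV V.1 V.2, Scheme.IdealSheafData.ideal_bot, Pi.bot_apply]
    haveI : IsIso i := IsClosedImmersion.isIso_iff_ker_eq_bot.2 hker
    have hu₁ := isUnivThickening_of_iso f i h' hu (asIso i).symm
    simp only [Iso.symm_hom, asIso_inv, IsIso.hom_inv_id, Iso.symm_inv, asIso_hom, hu.2.1] at hu₁
    exact (part1 f).2 ⟨hfu, hu₁⟩

theorem main {X S : Scheme.{u}} (f : X ⟶ S) :
    (MoreMor.IsFormallyEtaleHom f ↔ FormallyUnramified f ∧ OmegaSh.IsUnivThickening f (𝟙 X) f) ∧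
    (∀ {X' : Scheme.{u}} (i : X ⟶ X') (h' : X' ⟶ S) [QuasiCompact i], FormallyUnramified f →
      OmegaSh.IsUnivThickening f i h' →
        (MoreMor.IsFormallyEtaleHom f ↔ IsZero (Omega.conormal i))) :=
  ⟨part1 f, fun i h' _ hfu hu => part2 f i h' hfu hu⟩

end W1
end H


open AlgebraicGeometry CategoryTheory Limits in
/-- (1) ⇔ (2) ⇔ (3): a morphism f : X ⟶ S is formally étale (unique infinitesimal lifting against
square-zero thickenings of affine schemes) if and only if f is formally unramified and X, through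
the identity and f, is its own universal square-zero (first order) thickening relative to f; and,
for f formally unramified with universal first order thickening data (i : X ⟶ X', h' : X' ⟶ S), f is
formally étale if and only if the conormal sheaf of i (the conormal sheaf of f) is zero. The
published statement also lists a fourth equivalent condition, the vanishing of both the sheaf of
differentials and the conormal sheaf; this row omits it. -/
theorem result {X S : Scheme.{u}} (f : X ⟶ S) :
    (MoreMor.IsFormallyEtaleHom f ↔ FormallyUnramified f ∧ OmegaSh.IsUnivThickening f (𝟙 X) f) ∧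
    (∀ {X' : Scheme.{u}} (i : X ⟶ X') (h' : X' ⟶ S) [QuasiCompact i], FormallyUnramified f →
      OmegaSh.IsUnivThickening f i h' → (MoreMor.IsFormallyEtaleHom f ↔ IsZero (Omega.conormal i))) := by
  exact W1.main f

end Groth.Agent.S9750
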