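import Groth.Statements.S1478
import Groth.Agent.S9750
-- import your own Groth.Agent.* helpers here

set_option autoImplicit false
universe u
open FlatMor

namespace Groth.Agent.S1478

section H
namespace W1
open CategoryTheory CategoryTheory.Limits AlgebraicGeometry Opposite TensorProduct
open Groth.Agent.Lib.Helper15.UnivThick Groth.Agent.Lib.Helper15.UnivThickAffine
set_option backward.isDefEq.respectTransparency.types false

theorem mem_smul_top_of_subsingleton_tensor {A B N : Type u} [CommRing A] [CommRing B] [Algebra A B]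
    [AddCommGroup N] [Module A N] (hsurj : Function.Surjective (algebraMap A B))
    (h : Subsingleton (B ⊗[A] N)) (n : N) :
    n ∈ (RingHom.ker (algebraMap A B)) • (⊤ : Submodule A N) := by
  let K : Ideal A := RingHom.ker (algebraMap A B)
  let e : (A ⧸ K) ≃ₐ[A] B := Ideal.quotientKerAlgEquivOfSurjective (f := Algebra.ofId A B) hsurj
  let e1 : (A ⧸ K) ⊗[A] N ≃ₗ[A] B ⊗[A] N := TensorProduct.congr e.toLinearEquiv (LinearEquiv.refl A N)
  let e2 := TensorProduct.quotTensorEquivQuotSMul N K
  have hs : Subsingleton (N ⧸ (K • (⊤ : Submodule A N))) :=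
    (e1.symm.trans e2).symm.injective.subsingleton
  have : (Submodule.Quotient.mk n : N ⧸ (K • (⊤ : Submodule A N))) = 0 := Subsingleton.elim _ _
  exact (Submodule.Quotient.mk_eq_zero _).1 this

theorem subsingleton_tensor_of_smul_top {A B N : Type u} [CommRing A] [CommRing B] [Algebra A B]
    [AddCommGroup N] [Module A N] (J : Ideal A) (hJ : ∀ r ∈ J, algebraMap A B r = 0)
    (h : ∀ n : N, n ∈ J • (⊤ : Submodule A N)) : Subsingleton (B ⊗[A] N) := by
  refine ⟨fun x y => ?_⟩
  have key : ∀ z : B ⊗[A] N, z = 0 := by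
    intro z
    induction z with
    | zero => rfl
    | tmul b n =>
      refine Submodule.smul_induction_on (h n) ?_ ?_
      · intro r hr m _
        have h0 : (r • b : B) = 0 := by rw [Algebra.smul_def, hJ r hr, zero_mul]
        rw [TensorProduct.tmul_smul, TensorProduct.smul_tmul', h0, TensorProduct.zero_tmul]
      · intro x y hx hy
        rw [TensorProduct.tmul_add, hx, hy, add_zero]
    | add x y hx hy => rw [hx, hy, add_zero]
  rw [key x, key y]

open Groth.Agent.Lib.Helper17.ModPullback Groth.Agent.Lib.Helper17.CohKer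
  Groth.Agent.Lib.Helper17.Serre in
/-- sections of the ideal module over an affine open: an injective additive semilinear map onto the ideal -/
theorem idealMod_sections' {Y : Scheme.{u}} (I : Y.IdealSheafData) (V : Y.Opens)
    (hV : IsAffineOpen V) :
    ∃ ι : Γ(ClSub.idealMod I, V) → Γ(Y, V), Function.Injective ι ∧
      (∀ (r : Γ(Y, V)) (n : Γ(ClSub.idealMod I, V)), ι (r • n) = r * ι n) ∧
      (∀ a b, ι (a + b) = ι a + ι b) ∧
      (∀ n, ι n ∈ I.ideal ⟨V, hV⟩) ∧ (∀ y ∈ I.ideal ⟨V, hV⟩, ∃ n, ι n = y) := by
  have hker : ∀ y : Γ(Y, V), (ClSub.toSubscheme I).app V y = 0 ↔ y ∈ I.ideal ⟨V, hV⟩ := by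
    intro y
    rw [toSubscheme_app]
    have h1 : I.subschemeι.ker.ideal ⟨V, hV⟩ = I.ideal ⟨V, hV⟩ := by
      rw [Scheme.IdealSheafData.ker_subschemeι]
    rw [← h1, Scheme.Hom.ker_apply, RingHom.mem_ker]
    rfl
  refine ⟨fun n => (ClSub.idealModι I).app V n, ?_, ?_, ?_, ?_, ?_⟩
  · exact kernel_ι_app_injective (ClSub.toSubscheme I) V
  · intro r n
    have h1 : (ClSub.idealModι I).app V (r • n) = r • (ClSub.idealModι I).app V n :=
      Scheme.Modules.Hom.app_smul _ r n
    exact h1.trans (structureModule_smul V r _)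
  · intro a b
    exact map_add _ a b
  · intro n
    rw [← hker]
    exact app_kernel_ι_app (ClSub.toSubscheme I) V n
  · intro y hy
    exact exists_kernel_app_eq (ClSub.toSubscheme I) V y ((hker y).2 hy)

open Groth.Agent.Lib.Helper17.ModPullback Groth.Agent.Lib.Helper17.CohKer
  Groth.Agent.Lib.Helper17.Serre in
theorem conormal_isZero_iff {Z P : Scheme.{u}} (i : Z ⟶ P) [IsClosedImmersion i] :
    IsZero (Omega.conormal i) ↔ i.ker ≤ i.ker * i.ker := by
  constructor
  · intro hz
    rw [Scheme.IdealSheafData.le_def]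
    intro V
    have hU : IsAffineOpen (i ⁻¹ᵁ V.1) := V.2.preimage i
    obtain ⟨ι, hinj, hsmul, hadd, hmem, hsurj⟩ := idealMod_sections' i.ker V.1 V.2
    haveI hsub : Subsingleton Γ((Scheme.Modules.pullback i).obj (ClSub.idealMod i.ker), i ⁻¹ᵁ V.1) :=
      subsingleton_sections_of_isZero _ hz (i ⁻¹ᵁ V.1)
    obtain ⟨eq⟩ := nonempty_linearEquiv_pullback_sections i (ClSub.idealMod i.ker) hU V.2 le_rfl
    letI := (i.appLE V.1 (i ⁻¹ᵁ V.1) le_rfl).hom.toAlgebra
    have hT : Subsingleton (Γ(Z, i ⁻¹ᵁ V.1) ⊗[Γ(P, V.1)] Γ(ClSub.idealMod i.ker, V.1)) :=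
      eq.symm.injective.subsingleton
    have hsurjA : Function.Surjective (algebraMap Γ(P, V.1) Γ(Z, i ⁻¹ᵁ V.1)) := by
      have := i.app_surjective V.1 V.2
      rw [Scheme.Hom.app_eq_appLE] at this
      exact this
    intro y hy
    obtain ⟨n, rfl⟩ := hsurj y hy
    have hn := mem_smul_top_of_subsingleton_tensor hsurjA hT n
    have hker : ∀ r ∈ RingHom.ker (algebraMap Γ(P, V.1) Γ(Z, i ⁻¹ᵁ V.1)), r ∈ i.ker.ideal V := by
      intro r hr
      rw [Scheme.Hom.ker_apply, RingHom.mem_ker, Scheme.Hom.app_eq_appLE]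
      exact hr
    rw [Scheme.IdealSheafData.ideal_mul, Pi.mul_apply]
    refine Submodule.smul_induction_on hn ?_ ?_
    · intro r hr m _
      rw [hsmul]
      exact Ideal.mul_mem_mul (hker r hr) (hmem m)
    · intro x y hx hy
      rw [hadd]
      exact add_mem hx hy
  · intro hK
    rw [IsZero.iff_id_eq_zero]
    apply Scheme.Modules.hom_ext
    intro U
    ext x
    have hx : x = 0 := by
      refine Groth.Agent.Lib.Helper28.QCohLoc.eq_of_locally_eq _
        (fun W : {W : Z.affineOpens // W.1 ≤ U ∧ ∃ V : P.affineOpens, W.1 ≤ i ⁻¹ᵁ V.1} => W.1.1) U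
        (fun W => W.2.1) ?_ x 0 (fun W => ?_)
      · intro y hy
        obtain ⟨U', V', hU', hV', hyU', hUV'⟩ := exists_affine_pair i y
        obtain ⟨W, hW, hyW, hWU⟩ := TopologicalSpace.Opens.isBasis_iff_nbhd.mp Z.isBasis_affineOpens
          (show y ∈ U ⊓ U' from ⟨hy, hyU'⟩)
        exact TopologicalSpace.Opens.mem_iSup.mpr
          ⟨⟨⟨W, hW⟩, hWU.trans inf_le_left, ⟨V', hV'⟩, (hWU.trans inf_le_right).trans hUV'⟩, hyW⟩
      · obtain ⟨⟨W, hW⟩, hWU, V, hWV⟩ := W
        obtain ⟨ι, hinj, hsmul, hadd, hmem, hsurj⟩ := idealMod_sections' i.ker V.1 V.2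
        obtain ⟨eq⟩ := nonempty_linearEquiv_pullback_sections i (ClSub.idealMod i.ker) hW V.2 hWV
        letI := (i.appLE V.1 W hWV).hom.toAlgebra
        have hT : Subsingleton (Γ(Z, W) ⊗[Γ(P, V.1)] Γ(ClSub.idealMod i.ker, V.1)) := by
          refine subsingleton_tensor_of_smul_top (i.ker.ideal V) ?_ ?_
          · intro r hr
            rw [Scheme.Hom.ker_apply, RingHom.mem_ker] at hr
            change (i.appLE V.1 W hWV).hom r = 0
            rw [Scheme.Hom.appLE, CommRingCat.hom_comp, RingHom.comp_apply, hr, map_zero]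
          · intro n
            have hKV : i.ker.ideal V ≤ i.ker.ideal V * i.ker.ideal V := by
              have := (Scheme.IdealSheafData.le_def.mp hK) V
              rwa [Scheme.IdealSheafData.ideal_mul, Pi.mul_apply] at this
            have key : ∀ y ∈ i.ker.ideal V * i.ker.ideal V,
                ∃ n' ∈ (i.ker.ideal V) • (⊤ : Submodule Γ(P, V.1) Γ(ClSub.idealMod i.ker, V.1)),
                  ι n' = y := by
              intro y hy
              refine Submodule.mul_induction_on hy ?_ ?_
              · intro a ha b hb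
                obtain ⟨m, rfl⟩ := hsurj b hb
                exact ⟨a • m, Submodule.smul_mem_smul ha Submodule.mem_top, hsmul a m⟩
              · rintro y₁ y₂ ⟨n₁, hn₁, rfl⟩ ⟨n₂, hn₂, rfl⟩
                exact ⟨n₁ + n₂, add_mem hn₁ hn₂, hadd n₁ n₂⟩
            obtain ⟨n', hn', hnn'⟩ := key (ι n) (hKV (hmem n))
            rw [← hinj hnn']
            exact hn'
        have hs : Subsingleton Γ(Omega.conormal i, W) := eq.injective.subsingleton
        exact @Subsingleton.elim _ hs _ _
    rw [hx, map_zero, map_zero]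

theorem formallyUnramified_iff_ker {X S : Scheme.{u}} (f : X ⟶ S) [IsSeparated f] :
    FormallyUnramified f ↔
      (pullback.diagonal f).ker ≤ (pullback.diagonal f).ker * (pullback.diagonal f).ker := by
  constructor
  · intro hf
    let K := (pullback.diagonal f).ker
    change K ≤ K * K
    let j := Scheme.IdealSheafData.inclusion (mul_self_le K)
    have hj : MoreMor.IsFirstOrderThickening j := isFirstOrderThickening_inclusion K
    have : IsClosedImmersion j := hj.1.1
    have hnil : IsNilpotent j.ker := ⟨2, by rw [pow_two]; exact hj.2⟩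
    let l := IsClosedImmersion.lift (pullback.diagonal f) K.subschemeι
      (by rw [Scheme.IdealSheafData.ker_subschemeι])
    have hl : l ≫ pullback.diagonal f = K.subschemeι := IsClosedImmersion.lift_fac _ _ _
    have hjι : j ≫ (K * K).subschemeι = K.subschemeι :=
      Scheme.IdealSheafData.inclusion_subschemeι _
    have h12 : j ≫ ((K * K).subschemeι ≫ pullback.fst f f) =
        j ≫ ((K * K).subschemeι ≫ pullback.snd f f) := by
      rw [← Category.assoc, ← Category.assoc, hjι, ← hl]
      simp
    have hgf : ((K * K).subschemeι ≫ pullback.fst f f) ≫ f =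
        ((K * K).subschemeι ≫ pullback.snd f f) ≫ f := by
      rw [Category.assoc, Category.assoc, pullback.condition]
    have heq := FormallyUnramified.hom_ext j hnil f h12 hgf
    have hfac : (K * K).subschemeι =
        ((K * K).subschemeι ≫ pullback.fst f f) ≫ pullback.diagonal f := by
      apply pullback.hom_ext
      · simp
      · rw [Category.assoc, pullback.diagonal_snd, Category.comp_id]
        exact heq.symm
    have h3 : K ≤ ((K * K).subschemeι).ker := by
      rw [hfac]
      exact Scheme.Hom.le_ker_comp _ _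
    rwa [Scheme.IdealSheafData.ker_subschemeι] at h3
  · intro hK
    apply FormallyUnramified.of_hom_ext
    intro R S' φ hφ hker g₁ g₂ h12 hg
    have : IsClosedImmersion (Spec.map φ) := IsClosedImmersion.spec_of_surjective φ hφ
    let K := (pullback.diagonal f).ker
    have hII : (Spec.map φ).ker * (Spec.map φ).ker = ⊥ := ker_SpecMap_sq φ hker
    let g : Spec R ⟶ pullback f f := pullback.lift g₁ g₂ hg
    have hgΔ : Spec.map φ ≫ g = (Spec.map φ ≫ g₁) ≫ pullback.diagonal f := by
      have hg1 : g ≫ pullback.fst f f = g₁ := pullback.lift_fst g₁ g₂ hg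
      have hg2 : g ≫ pullback.snd f f = g₂ := pullback.lift_snd g₁ g₂ hg
      apply pullback.hom_ext
      · rw [Category.assoc, hg1, Category.assoc, pullback.diagonal_fst, Category.comp_id]
      · rw [Category.assoc, hg2, Category.assoc, pullback.diagonal_snd, Category.comp_id, h12]
    have h1 : K ≤ (Spec.map φ ≫ g).ker := by
      rw [hgΔ]
      exact Scheme.Hom.le_ker_comp _ _
    rw [Scheme.Hom.ker_comp, Scheme.IdealSheafData.le_map_iff_comap_le] at h1
    have h2 : K.comap g ≤ ⊥ := by
      calc K.comap g ≤ (K * K).comap g := Scheme.IdealSheafData.comap_mono g hK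
        _ = K.comap g * K.comap g := comap_mul K K g
        _ ≤ (Spec.map φ).ker * (Spec.map φ).ker := mul_mono' h1 h1
        _ = ⊥ := hII
    have h3 : K ≤ g.ker := by
      rw [← Scheme.IdealSheafData.map_bot g, Scheme.IdealSheafData.le_map_iff_comap_le]
      exact h2
    let l := IsClosedImmersion.lift (pullback.diagonal f) g h3
    have hl : l ≫ pullback.diagonal f = g := IsClosedImmersion.lift_fac _ _ _
    have hg1 : g ≫ pullback.fst f f = g₁ := pullback.lift_fst g₁ g₂ hg
    have hg2 : g ≫ pullback.snd f f = g₂ := pullback.lift_snd g₁ g₂ hg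
    have e1 : g₁ = l := by
      rw [← hg1, ← hl, Category.assoc, pullback.diagonal_fst, Category.comp_id]
    have e2 : g₂ = l := by
      rw [← hg2, ← hl, Category.assoc, pullback.diagonal_snd, Category.comp_id]
    rw [e1, e2]

theorem main {X S : Scheme.{u}} (f : X ⟶ S) [IsSeparated f] :
    FormallyUnramified f ↔ IsZero (Omega.sheaf f) := by
  rw [formallyUnramified_iff_ker]
  exact (conormal_isZero_iff (pullback.diagonal f)).symm

end W1
end H


open AlgebraicGeometry CategoryTheory Limits in
/-- For separated morphisms (where the sheaf of differentials is literally the conormal sheaf of the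
closed diagonal): a separated morphism f : X → S is formally unramified if and only if Ω_{X/S}, the
conormal sheaf of the diagonal, is the zero O_X-module. -/
theorem result {X S : Scheme.{u}} (f : X ⟶ S) [IsSeparated f] :
    FormallyUnramified f ↔ IsZero (Omega.sheaf f) := by
  exact W1.main f

end Groth.Agent.S1478
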