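import Groth.Statements.S14789
import Mathlib.AlgebraicGeometry.Properties

set_option autoImplicit false
universe u
open CategoryTheory CategoryTheory.Limits AlgebraicGeometry
open Subtr

namespace Groth.Agent.S14789

/-- every point of a quasi-sober T0 space has a maximal generization. -/
lemma exists_maximal_generization {Y : Type*} [TopologicalSpace Y] [QuasiSober Y] [T0Space Y]
    (y : Y) : ∃ η : Y, η ⤳ y ∧ ∀ y' : Y, y' ⤳ η → y' = η := by
  have hirr : IsIrreducible (irreducibleComponent y) := isIrreducible_irreducibleComponent
  have hcl : IsClosed (irreducibleComponent y) := isClosed_irreducibleComponent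
  have hgen : closure {hirr.genericPoint} = irreducibleComponent y := hirr.closure_genericPoint hcl
  refine ⟨hirr.genericPoint, ?_, ?_⟩
  · rw [specializes_iff_mem_closure, hgen]
    exact mem_irreducibleComponent
  · intro y' hy'
    have h1 : irreducibleComponent y ⊆ closure {y'} := by
      rw [← hgen]
      exact Specializes.closure_subset hy'
    have h2 : closure {y'} = irreducibleComponent y :=
      eq_irreducibleComponent (isIrreducible_singleton.closure).isPreirreducible h1
    have h3 : IsGenericPoint y' (irreducibleComponent y) := h2
    have h4 : IsGenericPoint hirr.genericPoint (irreducibleComponent y) := hgen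
    exact h3.eq h4

/-- Let f : X ⟶ Y be a morphism of schemes with the lifting property for ordered pairs of points, and U
⊆ Y a subset containing every maximal point of Y (every point all of whose generizations are equal
to it). Then the closure of f⁻¹(U) maps onto Y. -/
theorem result {X Y : Scheme.{u}} (f : X ⟶ Y)
    (hf : Subtr.IsSSubtrusive f) (U : Set Y) (hU : ∀ y : Y, (∀ y' : Y, y' ⤳ y → y' = y) → y ∈ U) :
    f '' closure (f ⁻¹' U) = Set.univ := by
  apply Set.eq_univ_of_forall
  intro y
  obtain ⟨η, hηy, hη⟩ := exists_maximal_generization y
  obtain ⟨x, x', hxx', hx, hx'⟩ := hf hηy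
  refine ⟨x, ?_, hx⟩
  have hx'U : x' ∈ f ⁻¹' U := by
    change f x' ∈ U
    rw [hx']
    exact hU η hη
  exact hxx'.mem_closed isClosed_closure (subset_closure hx'U)

end Groth.Agent.S14789
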