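import Groth.Statements.S14797
import Groth.Agent.Lib.Helper28.SubmDescent

set_option autoImplicit false
universe u
open CategoryTheory CategoryTheory.Limits AlgebraicGeometry
open Subtr

namespace Groth.Agent.S14797

/-- Let g : S' ⟶ S be a quasi-compact universally submersive morphism of schemes and f : X ⟶ S an étale
morphism whose base change X ×_S S' ⟶ S' is finite. Then f is finite. (The published statement
treats the properties universally closed, separated and quasi-compact one at a time as well; this
row is the finite case. It assumes g universally subtrusive, using it only through universal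
submersiveness and, for quasi-compactness, through the constructible topology; for quasi-compact g
universal submersiveness suffices by the same proof.) -/
theorem result {X S S' : Scheme.{u}} (g : S' ⟶ S)
    [QuasiCompact g] (hg : SGA1.UnivSubmersive g) (f : X ⟶ S) [Etale f]
    [IsFinite (pullback.snd f g)] : IsFinite f := by
  have hq : Topology.IsQuotientMap g :=
    Groth.Agent.Lib.Helper28.SubmDescent.isQuotientMap_of_univSubmersive hg
  have hsurj : Surjective g := ⟨hq.surjective⟩
  have sq : IsPullback (pullback.snd f g) (pullback.fst f g) g f := (IsPullback.of_hasPullback f g).flip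
  have h1 : UniversallyClosed f :=
    MorphismProperty.DescendsAlong.of_isPullback (P := @UniversallyClosed) (Q := SGA1.UnivSubmersive) sq hg inferInstance
  have h2 : IsSeparated f :=
    MorphismProperty.DescendsAlong.of_isPullback (P := @IsSeparated) (Q := SGA1.UnivSubmersive) sq hg inferInstance
  have h3 : QuasiCompact f := by
    refine ⟨fun U hU hUc ↦ ?_⟩
    have h1 : IsCompact ((pullback.snd f g) ⁻¹' (g ⁻¹' U)) :=
      QuasiCompact.isCompact_preimage _ (hU.preimage g.continuous)
        (QuasiCompact.isCompact_preimage _ hU hUc)
    have h2 : (pullback.snd f g) ⁻¹' (g ⁻¹' U) = (pullback.fst f g) ⁻¹' (f ⁻¹' U) := by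
      rw [← Set.preimage_comp, ← Set.preimage_comp]
      have : (g ∘ pullback.snd f g : ↥(pullback f g) → S) = (f ∘ pullback.fst f g : ↥(pullback f g) → S) := by
        ext a
        simp only [Function.comp_apply, ← Scheme.Hom.comp_apply, pullback.condition]
      rw [this]
    have hsnd : Surjective (pullback.fst f g) := inferInstance
    rw [h2] at h1
    have := h1.image (pullback.fst f g).continuous
    rwa [Set.image_preimage_eq _ hsnd.surj] at this
  have : IsProper f := { }
  have : LocallyQuasiFinite f := by
    rw [HasRingHomProperty.iff_appLE (P := @LocallyQuasiFinite)]
    intro U V e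
    have h1 := HasRingHomProperty.appLE (P := @LocallyOfFiniteType) f inferInstance U V e
    have h2 := HasRingHomProperty.appLE (P := @FormallyUnramified) f inferInstance U V e
    algebraize [(f.appLE U V e).hom]
    change Algebra.QuasiFinite _ _
    infer_instance
  exact IsFinite.of_isProper_of_locallyQuasiFinite f

end Groth.Agent.S14797
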