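import Groth.Statements.S14803
import Groth.Agent.Lib.Helper25.MatTree
import Groth.Agent.Lib.Helper25.DetRed
import Groth.Agent.Lib.Helper25.CokerCard
-- import your own Groth.Agent.* helpers here

set_option autoImplicit false
universe u
open Finset
open LabGraph

namespace Groth.Agent.S14803

open Finset
open LabGraph
open Groth.Agent.Lib.Helper25 Groth.Agent.Lib.Helper25.GraphInc Groth.Agent.Lib.Helper25.LabContract
  Groth.Agent.Lib.Helper25.MatTree

open Classical in
/-- Let (G, β) be a connected finite multigraph with a multiplicity function, α its matrix (α_{vw} =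
#edges(v, w) for v ≠ w, Σ_w β(w) α_{vw} = 0) and Φ(G) = ker β / im α its component group; let m be
the gcd of all the values β(v). Then Φ(G) is finite of order m² · Σ_T Π_v β(v)^{#N_T(v) - 2}, where
T runs over the spanning trees of G and N_T(v) is the set of neighbours of v in T. (The published
statement gives this order for the Néron component group of a curve's Jacobian, G being the weighted
dual graph of a proper regular model and β its component multiplicities; this row states the
identity for every connected pair (G, β) with a positive multiplicity function.) -/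
theorem result {V E : Type u} [Fintype V] [Fintype E] [DecidableEq V] [DecidableEq E]
    (ends : E → V × V) (β : V → ℤ) (hβ : LabGraph.IsMultFn ends β) (hG : LabGraph.Connected ends) :
    (Nat.card (LabGraph.CompGrp ends β) : ℚ) =
      ((univ.gcd β : ℤ) : ℚ) ^ 2 *
        ∑ T ∈ univ.powerset.filter (fun T : Finset E => LabGraph.IsSpanningTree ends T),
          ∏ v : V, ((β v : ℚ) ^ ((LabGraph.nbrCount ends T v : ℤ) - 2)) := by
  obtain ⟨v₀⟩ := hG.1
  obtain ⟨s, hs⟩ := Finset.gcd_eq_sum_mul univ β
  have hdvd : ∀ v, univ.gcd β ∣ β v := fun v => Finset.gcd_dvd (mem_univ v)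
  have hβpos : ∀ v, 0 < β v := fun v => (hβ v).1
  have hm0 : univ.gcd β ≠ 0 := by
    intro h
    have := hdvd v₀
    rw [h, zero_dvd_iff] at this
    exact (hβpos v₀).ne' this
  have hA : (-(mfMatrix ends β)).transpose = -(mfMatrix ends β) := by
    rw [Matrix.transpose_neg, mfMatrix_symm]
  have hAβ : (-(mfMatrix ends β)).mulVec β = 0 := by
    rw [Matrix.neg_mulVec, mulVec_beta ends β hβ, neg_zero]
  have hred := DetRed.det_reduce (-(mfMatrix ends β)) hA β s (univ.gcd β) hAβ hs.symm v₀
  -- the Laplacian identity on the reduced matrices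
  have hx : ∀ e, 0 < xw ends β e := fun e => mul_pos (hβpos _) (hβpos _)
  have hL : Matrix.diagonal (fun i : {v : V // v ≠ v₀} => β i.1) *
      (-(mfMatrix ends β)).submatrix (Subtype.val : {v : V // v ≠ v₀} → V) Subtype.val *
      Matrix.diagonal (fun i : {v : V // v ≠ v₀} => β i.1) =
      N0 ends v₀ * (Matrix.diagonal (xw ends β) * (N0 ends v₀).transpose) := by
    ext i j
    rw [Matrix.mul_diagonal, Matrix.diagonal_mul, Matrix.mul_apply]
    simp only [Matrix.diagonal_mul, Matrix.transpose_apply, N0, Matrix.submatrix_apply,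
      Matrix.neg_apply]
    exact (lap_entry ends β hβ i.1 j.1).symm
  have hdetL := congrArg Matrix.det hL
  rw [Matrix.det_mul, Matrix.det_mul, Matrix.det_diagonal] at hdetL
  have hLne := det_L0_ne_zero ends hG v₀ (xw ends β) hx
  have hP0 : (∏ i : {v : V // v ≠ v₀}, β i.1) ≠ 0 :=
    Finset.prod_ne_zero_iff.mpr fun i _ => (hβpos i.1).ne'
  have hA0ne : ((-(mfMatrix ends β)).submatrix (Subtype.val : {v : V // v ≠ v₀} → V)
      Subtype.val).det ≠ 0 := by
    intro h
    rw [h] at hdetL
    apply hLne
    rw [← hdetL]; ring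
  have hFne : (-(mfMatrix ends β) + Matrix.of fun v w => s v * s w).det ≠ 0 := by
    intro h
    rw [h, mul_zero] at hred
    rcases mul_eq_zero.mp hred.symm with h1 | h1
    · exact hm0 ((pow_eq_zero_iff (two_ne_zero)).mp h1)
    · exact hA0ne h1
  have hcard := CokerCard.card_compGrp ends β hβ s (univ.gcd β) hm0 hs.symm hdvd hFne
  have hsum := det_L0_eq_sum ends v₀ (xw ends β)
  have hP : ∏ v, β v = β v₀ * ∏ i : {v : V // v ≠ v₀}, β i.1 :=
    Fintype.prod_eq_mul_prod_subtype_ne (fun v => β v) v₀
  -- the integer identity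
  have hZ : (∏ v, β v) ^ 2 * (-(mfMatrix ends β) + Matrix.of fun v w => s v * s w).det =
      univ.gcd β ^ 2 * ∑ T ∈ (univ : Finset (Finset E)).filter
        (fun T => IsSpanningTree ends T), ∏ v, β v ^ nbrCount ends T v := by
    have h1 : ∑ T ∈ (univ : Finset (Finset E)).filter (fun T => IsSpanningTree ends T),
        ∏ v, β v ^ nbrCount ends T v =
        ∑ T ∈ (univ : Finset (Finset E)).filter (fun T => IsSpanningTree ends T),
          ∏ e ∈ T, xw ends β e := by
      refine Finset.sum_congr rfl fun T hT => ?_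
      rw [prod_xw]
      refine Finset.prod_congr rfl fun v _ => ?_
      rw [nbrCount_eq_endCount ends T (Finset.mem_filter.mp hT).2 v]
    rw [h1, ← hsum, ← hdetL, hP]
    calc (β v₀ * ∏ i : {v : V // v ≠ v₀}, β i.1) ^ 2 *
          (-(mfMatrix ends β) + Matrix.of fun v w => s v * s w).det
        = (∏ i : {v : V // v ≠ v₀}, β i.1) ^ 2 *
          (β v₀ ^ 2 * (-(mfMatrix ends β) + Matrix.of fun v w => s v * s w).det) := by ring
      _ = _ := by rw [hred]; ring
  -- positivity of the determinant
  have hPpos : 0 < (∏ v, β v) ^ 2 := pow_pos (Finset.prod_pos fun v _ => hβpos v) 2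
  have hFnn : 0 ≤ (-(mfMatrix ends β) + Matrix.of fun v w => s v * s w).det := by
    have h0 : 0 ≤ (∏ v, β v) ^ 2 *
        (-(mfMatrix ends β) + Matrix.of fun v w => s v * s w).det := by
      rw [hZ]
      refine mul_nonneg (sq_nonneg _) (Finset.sum_nonneg fun T _ => ?_)
      exact Finset.prod_nonneg fun v _ => pow_nonneg (hβpos v).le _
    exact (mul_nonneg_iff_of_pos_left hPpos).mp h0
  rw [hcard, Nat.cast_natAbs, abs_of_nonneg hFnn, Finset.powerset_univ]
  have hPq : ((∏ v, β v : ℤ) : ℚ) ^ 2 ≠ 0 := by
    have : ((∏ v, β v : ℤ) : ℚ) ≠ 0 := by exact_mod_cast hPpos.ne' ∘ fun h => by rw [h]; ring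
    exact pow_ne_zero 2 this
  apply mul_left_cancel₀ hPq
  have hZq := congrArg (fun z : ℤ => (z : ℚ)) hZ
  simp only [Int.cast_mul, Int.cast_pow, Int.cast_sum, Int.cast_prod] at hZq
  rw [Int.cast_prod, hZq]
  rw [mul_left_comm]
  congr 1
  rw [Finset.mul_sum]
  refine Finset.sum_congr rfl fun T _ => ?_
  rw [← Finset.prod_pow, ← Finset.prod_mul_distrib]
  refine Finset.prod_congr rfl fun v _ => ?_
  have hne : (β v : ℚ) ≠ 0 := by exact_mod_cast (hβpos v).ne'
  rw [← zpow_natCast (β v : ℚ) 2, ← zpow_add₀ hne]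
  have : ((2 : ℕ) : ℤ) + ((nbrCount ends T v : ℤ) - 2) = (nbrCount ends T v : ℤ) := by ring
  rw [this, zpow_natCast]

end Groth.Agent.S14803
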