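import Groth.Statements.S14804
import Groth.Agent.Lib.Helper25.GraphTree
-- import your own Groth.Agent.* helpers here

set_option autoImplicit false
universe u
open Finset
open LabGraph

namespace Groth.Agent.S14804

open Finset
open LabGraph
open DualGr Groth.Agent.Lib.Helper25.GraphInc Groth.Agent.Lib.Helper25.GraphTree

/-- In a connected finite multigraph G, a vertex v belongs to some cycle of G (here: v is an endpoint of
an edge of some circuit, a circuit being a minimal nonempty edge set meeting every vertex in an even
number of edge-ends, which includes loops and pairs of parallel edges) if and only if G has a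
spanning tree T such that some edge outside T has v as an endpoint. (The published statement is for
an arbitrary multigraph; when G is disconnected it has no spanning tree while a vertex may lie on a
cycle, so G is taken connected here, the case of dual graphs for which it is used.) -/
theorem result
    {V E : Type u} [Fintype V] [Fintype E] [DecidableEq V] [DecidableEq E]
    (ends : E → V × V) (hG : LabGraph.Connected ends) (v : V) :
    (∃ C : Finset E, LabGraph.IsCircuit ends C ∧ LabGraph.endCount ends C v ≠ 0) ↔
      ∃ T : Finset E, LabGraph.IsSpanningTree ends T ∧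
        ∃ e : E, e ∉ T ∧ ((ends e).1 = v ∨ (ends e).2 = v) := by
  constructor
  · rintro ⟨C, hC, hv⟩
    obtain ⟨e₀, he₀, hne⟩ := Finset.exists_ne_zero_of_sum_ne_zero hv
    have hend : (ends e₀).1 = v ∨ (ends e₀).2 = v := by
      by_contra h
      push Not at h
      simp [h.1, h.2] at hne
    have hfor : IsForestSet ends (C.erase e₀) := by
      intro D hD hDc
      have hss : D ⊂ C := by
        refine ⟨hD.trans (Finset.erase_subset _ _), fun h => ?_⟩
        exact Finset.notMem_erase e₀ C (hD (h he₀))
      obtain ⟨w, hw⟩ := hC.2.2 D hss hDc.1
      exact hw (hDc.2.1 w)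
    obtain ⟨T, hST, hT⟩ := exists_spanningTree_extending ends hG _ hfor
    refine ⟨T, hT, e₀, ?_, hend⟩
    intro heT
    have hTfor : IsForestSet ends T := (isForest_sub_iff ends T).mp hT.2
    apply hTfor C _ hC
    intro x hx
    by_cases hxe : x = e₀
    · rw [hxe]; exact heT
    · exact hST (Finset.mem_erase.mpr ⟨hxe, hx⟩)
  · rintro ⟨T, hT, e, heT, hend⟩
    have hTfor : IsForestSet ends T := (isForest_sub_iff ends T).mp hT.2
    have hnot : ¬ IsForestSet ends (insert e T) := by
      intro hfor
      have hconn' : Connected (sub ends (insert e T)) :=
        ⟨hT.1.1, fun a b => reach_sub_mono ends (Finset.subset_insert e T) (hT.1.2 a b)⟩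
      have h1 := card_of_isTree (sub ends (insert e T)) hconn'
        ((isForest_sub_iff ends _).mpr hfor)
      have h2 := card_of_isTree (sub ends T) hT.1 hT.2
      rw [Fintype.card_coe] at h1 h2
      rw [Finset.card_insert_of_notMem heT] at h1
      omega
    unfold IsForestSet at hnot
    push Not at hnot
    obtain ⟨C, hCS, hC⟩ := hnot
    have heC : e ∈ C := by
      by_contra heC
      apply hTfor C _ hC
      intro x hx
      rcases Finset.mem_insert.mp (hCS hx) with h | h
      · exact absurd (h ▸ hx) heC
      · exact h
    refine ⟨C, hC, ?_⟩
    rw [endCount, ← Finset.add_sum_erase _ _ heC]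
    rcases hend with h | h
    · simp [h]
    · simp [h]

end Groth.Agent.S14804
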