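import Groth.Statements.S14807
import Mathlib.GroupTheory.OrderOfElement
import Mathlib.Data.Nat.Factorization.Basic

set_option autoImplicit false
universe u
open CAlg

namespace Groth.Agent.S14807

/-- Let G be a finite abelian group, written additively, and ℓ a prime number. Every sequence (g_n)_{n ≥
0} of elements of G with ℓ^n · g_n = 0 and ℓ · g_{n+1} = g_n for all n is identically zero; in other
words the inverse limit of the subgroups of ℓ^n-torsion elements, with transition maps
multiplication by ℓ, vanishes. -/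
theorem result (G : Type u) [AddCommGroup G] [Finite G]
    (ℓ : ℕ) (hℓ : ℓ.Prime) (g : ℕ → G) (htor : ∀ n : ℕ, ℓ ^ n • g n = 0)
    (hcomp : ∀ n : ℕ, ℓ • g (n + 1) = g n) (n : ℕ) : g n = 0 := by
  classical
  have hiter : ∀ k n : ℕ, ℓ ^ k • g (n + k) = g n := by
    intro k
    induction k with
    | zero => intro n; simp
    | succ k ih =>
      intro n
      rw [pow_succ, mul_smul, ← add_assoc, hcomp, ih]
  set e := (Nat.card G).factorization ℓ with he
  have hcard : Nat.card G ≠ 0 := Nat.card_pos.ne'
  have h1 : addOrderOf (g (n + e)) ∣ ℓ ^ (n + e) := addOrderOf_dvd_of_nsmul_eq_zero (htor _)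
  have h2 : addOrderOf (g (n + e)) ∣ Nat.card G := addOrderOf_dvd_natCard _
  obtain ⟨j, -, hj⟩ := (Nat.dvd_prime_pow hℓ).1 h1
  have hj' : j ≤ e := by
    rw [hj] at h2
    exact (hℓ.pow_dvd_iff_le_factorization hcard).1 h2
  have h3 : ℓ ^ e • g (n + e) = 0 := by
    apply addOrderOf_dvd_iff_nsmul_eq_zero.1
    rw [hj]
    exact pow_dvd_pow ℓ hj'
  rw [← hiter e n, h3]

end Groth.Agent.S14807
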