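import Groth.Statements.S14808
import Groth.Agent.Lib.Helper29.FreeIso2
import Groth.Agent.Lib.Helper29.QCohStruct

set_option autoImplicit false
universe u
open CategoryTheory CategoryTheory.Limits AlgebraicGeometry
open PicF

namespace Groth.Agent.S14808

open Groth.Agent.Lib.Helper28.QCohLoc Groth.Agent.Lib.Helper28.TwistGen Groth.Agent.Lib.Helper29.FreeIso
open Groth.Agent.Lib.Helper29.QCohStalk

/-- a local generator of an invertible module: every section over a smaller open is a unique multiple -/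
theorem exists_generator {X : Scheme.{u}} (L : X.Modules) (hL : PicF.IsInvertible L) (x : X) :
    ∃ (U : X.Opens) (ℓ : Γ(L, U)), x ∈ U ∧
      (∀ (T : X.Opens) (hT : T ≤ U) (l : Γ(L, T)), ∃ c : Γ(X, T), l = c • res L hT ℓ) := by
  obtain ⟨U, hxU, ⟨e⟩⟩ := hL x
  obtain ⟨τ, -, hgen⟩ := exists_isBasisOn_of_iso' L U 1
    (e ≪≫ (coproductUniqueIso (fun _ : Fin 1 => Coh.structureModule (↑U : Scheme.{u}))).symm)
  refine ⟨U, τ 0, hxU, fun T hT l => ?_⟩
  obtain ⟨c, hc⟩ := hgen T hT l
  refine ⟨c 0, ?_⟩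
  rw [hc, Fin.sum_univ_one]

theorem resO_injective {X : Scheme.{u}} [IsIntegral X] {U V : X.Opens} (h : V ≤ U) (hne : (V : Set X).Nonempty) :
    Function.Injective (resO (X := X) h) := by
  haveI : Nonempty V := hne.to_subtype
  exact map_injective_of_isIntegral X (homOfLE h)

theorem app_generator_ne_zero {X : Scheme.{u}} [IsIntegral X] (L : X.Modules)
    (t : L ⟶ Coh.structureModule X) (ht : t ≠ 0) {U : X.Opens} (hU : (U : Set X).Nonempty) (ℓ : Γ(L, U))
    (hgen : ∀ (T : X.Opens) (hT : T ≤ U) (l : Γ(L, T)), ∃ c : Γ(X, T), l = c • res L hT ℓ) :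
    t.app U ℓ ≠ 0 := by
  intro h0
  apply ht
  apply Scheme.Modules.hom_ext
  intro W₀
  ext l₀
  show t.app W₀ l₀ = 0
  by_contra hne
  have hW₀ : (W₀ : Set X).Nonempty := by
    by_contra hemp
    apply hne
    have h1 : ofSM (t.app W₀ l₀) = 0 := by
      apply Groth.Agent.Lib.Helper29.QCohStalk.eq_zero_of_forall_gm_eq_zero (F := Coh.structureModule X) W₀
      intro y hy
      exact absurd ⟨y, hy⟩ hemp
    exact h1
  have hT : ((W₀ ⊓ U : X.Opens) : Set X).Nonempty :=
    nonempty_preirreducible_inter W₀.2 U.2 hW₀ hU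
  obtain ⟨c, hc⟩ := hgen (W₀ ⊓ U) inf_le_right (res L inf_le_left l₀)
  have h2 : res (Coh.structureModule X) (inf_le_left : W₀ ⊓ U ≤ W₀) (t.app W₀ l₀) = 0 := by
    rw [← app_res, hc, Scheme.Modules.Hom.app_smul, app_res, h0, res_zero, smul_zero]
  apply hne
  have h3 : resO (inf_le_left : W₀ ⊓ U ≤ W₀) (ofSM (t.app W₀ l₀)) = 0 := h2
  have h4 := resO_injective (inf_le_left : W₀ ⊓ U ≤ W₀) hT (h3.trans (map_zero _).symm)
  exact h4

/-- Let X be an integral scheme such that Γ(X, O_X) is a field and L an invertible O_X-module. If L has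
a nonzero global section (a nonzero morphism O_X → L) and its dual has a nonzero global section (a
nonzero morphism L → O_X), then L is isomorphic to O_X. -/
theorem result (X : Scheme.{u}) [IsIntegral X]
    (hfield : IsField (Γ(X, ⊤) : Type u)) (L : X.Modules) (hL : PicF.IsInvertible L)
    (s : Coh.structureModule X ⟶ L) (hs : s ≠ 0) (t : L ⟶ Coh.structureModule X) (ht : t ≠ 0) :
    Nonempty (L ≅ Coh.structureModule X) := by
  choose U ℓ hxU hgen using exists_generator L hL
  -- t is a monomorphism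
  haveI hmono : Mono t := by
    refine Groth.Agent.S8889.mono_of_injective_app t fun W => ?_
    rw [injective_iff_map_eq_zero]
    intro l hl
    refine eq_of_locally_eq L (fun x : W => W ⊓ U x.1) W (fun x => inf_le_left)
      (fun y hy => TopologicalSpace.Opens.mem_iSup.2 ⟨⟨y, hy⟩, hy, hxU y⟩) l 0 fun x => ?_
    rw [res_zero]
    obtain ⟨c, hc⟩ := hgen x.1 (W ⊓ U x.1) inf_le_right (res L inf_le_left l)
    have hT : ((W ⊓ U x.1 : X.Opens) : Set X).Nonempty := ⟨x.1, x.2, hxU x.1⟩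
    have h1 : res (Coh.structureModule X) (inf_le_left : W ⊓ U x.1 ≤ W) (t.app W l) = 0 := by
      rw [hl, res_zero]
    rw [← app_res, hc, Scheme.Modules.Hom.app_smul, app_res] at h1
    have hτ := app_generator_ne_zero L t ht ⟨x.1, hxU x.1⟩ (ℓ x.1) (hgen x.1)
    have h2 : c * resO (inf_le_right : W ⊓ U x.1 ≤ U x.1) (ofSM (t.app (U x.1) (ℓ x.1))) = 0 := h1
    haveI : Nonempty (W ⊓ U x.1 : X.Opens) := hT.to_subtype
    rcases mul_eq_zero.1 h2 with h3 | h3
    · rw [hc, h3, zero_smul]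
    · exfalso
      apply hτ
      exact resO_injective (inf_le_right : W ⊓ U x.1 ≤ U x.1) hT (h3.trans (map_zero _).symm)
  -- the scalar t ∘ s
  let a : Γ(X, ⊤) := ofSM (t.app ⊤ (s.app ⊤ (toSM 1)))
  have ha : a ≠ 0 := by
    intro h0
    apply hs
    rw [← cancel_mono t, zero_comp]
    refine hom_ext_unit _ _ ?_
    exact h0
  obtain ⟨b, hb⟩ := hfield.mul_inv_cancel ha
  let s' : Coh.structureModule X ⟶ L := ofSection L (b • s.app ⊤ (toSM 1))
  have hs' : s' ≫ t = 𝟙 _ := by
    refine hom_ext_unit _ _ ?_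
    show t.app ⊤ (s'.app ⊤ (1 : Γ(X, ⊤))) = (1 : Γ(X, ⊤))
    have h1 : s'.app ⊤ (1 : Γ(X, ⊤)) = b • s.app ⊤ (toSM 1) := by
      have := ofSection_app_one L (b • s.app ⊤ (toSM 1)) ⊤
      rw [res_self] at this
      exact this
    rw [h1, Scheme.Modules.Hom.app_smul]
    show b * a = 1
    rw [mul_comm]; exact hb
  haveI : IsSplitEpi t := IsSplitEpi.mk' ⟨s', hs'⟩
  haveI : IsIso t := isIso_of_mono_of_isSplitEpi t
  exact ⟨asIso t⟩



end Groth.Agent.S14808
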