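import Groth.Statements.S14809
import Groth.Agent.Lib.Helper17.InvDescLoc
import Groth.Agent.Lib.Helper28.GenIso
import Groth.Agent.Lib.Helper28.TensorPowGen
import Mathlib
set_option backward.isDefEq.respectTransparency.types false

set_option autoImplicit false
universe u
open CategoryTheory CategoryTheory.Limits AlgebraicGeometry
open PicF

namespace Groth.Agent.S14809

open TopologicalSpace
open Groth.Agent.Lib.Helper28 Groth.Agent.Lib.Helper28.QCohLoc Groth.Agent.Lib.Helper28.GenLocus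
open Groth.Agent.Lib.Helper17 Groth.Agent.Lib.Helper17.InvDescLoc

theorem isGen_of_iso {Z : Scheme.{u}} {M N : Z.Modules} (φ : M ≅ N) {U : Z.Opens} {g : Γ(M, U)}
    (hg : IsGen M U g) : IsGen N U (φ.hom.app U g) := by
  intro W hW
  have hfun : (fun c : Γ(Z, W) => (c • res N hW (φ.hom.app U g) : Γ(N, W))) =
      (φ.hom.app W) ∘ (fun c : Γ(Z, W) => (c • res M hW g : Γ(M, W))) := by
    funext c
    rw [Function.comp_apply, Scheme.Modules.Hom.app_smul, app_res]
  rw [hfun]
  exact (app_bijective_of_isIso φ.hom W).comp (hg W hW)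


/-- Let X be an integral scheme such that Γ(X, O_X) is a field and L an invertible O_X-module with a
nonzero global section (a nonzero morphism O_X → L). If some tensor power L^{⊗d} with d ≥ 1 is
isomorphic to O_X, then L itself is isomorphic to O_X. -/
theorem result (X : Scheme.{u}) [IsIntegral X]
    (hfield : IsField (Γ(X, ⊤) : Type u)) (L : X.Modules) (hL : PicF.IsInvertible L)
    (s : Coh.structureModule X ⟶ L) (hs : s ≠ 0) (d : ℕ) (hd : 0 < d)
    (htriv : Nonempty (CohB1.tensorPow L d ≅ Coh.structureModule X)) :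
    Nonempty (L ≅ Coh.structureModule X) := by
  obtain ⟨φ⟩ := htriv
  set σ : Γ(L, ⊤) := s.app ⊤ (oneSec X ⊤) with hσ
  set τ : Γ(CohB1.tensorPow L d, ⊤) := gpow L σ d with hτ
  set c : Γ(X, ⊤) := φ.hom.app ⊤ τ with hc
  -- local description
  have hlocal : ∀ (U : X.Opens) (g : Γ(L, U)) (hg : IsGen L U g),
      res (CohB1.tensorPow L d) (le_top : U ≤ ⊤) τ =
        ((hg.coef le_rfl (res L (le_top : U ≤ ⊤) σ)) ^ d • gpow L g d : Γ(CohB1.tensorPow L d, U)) := by
    intro U g hg
    rw [hτ, gpow_res]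
    have h1 := hg.coef_smul le_rfl (res L (le_top : U ≤ ⊤) σ)
    rw [res_self] at h1
    conv_lhs => rw [← h1]
    rw [gpow_smul]
  -- charts
  have hex := fun x : X => exists_isGen L hL x
  choose U g hxU hg using hex
  haveI : ∀ x : X, Nonempty ((U x : X.Opens) : Type u) := fun x => ⟨⟨x, hxU x⟩⟩
  -- `c ≠ 0`
  have hc0 : c ≠ 0 := by
    intro h0
    have hτ0 : τ = 0 := by
      apply (app_bijective_of_isIso φ.hom ⊤).1
      rw [map_zero]
      exact h0
    have hσ0 : σ = 0 := by
      refine eq_of_locally_eq L U ⊤ (fun x => le_top) (fun x _ => Opens.mem_iSup.2 ⟨x, hxU x⟩) σ 0 ?_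
      intro x
      have h1 := hlocal (U x) (g x) (hg x)
      rw [hτ0, res_zero] at h1
      have h2 : ((hg x).coef le_rfl (res L (le_top : U x ≤ ⊤) σ)) ^ d = 0 := by
        apply ((isGen_gpow (hg x) d) (U x) le_rfl).1
        show (_ • res (CohB1.tensorPow L d) le_rfl (gpow L (g x) d) : Γ(CohB1.tensorPow L d, U x)) =
          (0 • res (CohB1.tensorPow L d) le_rfl (gpow L (g x) d) : Γ(CohB1.tensorPow L d, U x))
        rw [res_self, zero_smul]
        exact h1.symm
      have h3 : (hg x).coef le_rfl (res L (le_top : U x ≤ ⊤) σ) = 0 := pow_eq_zero_iff (Nat.pos_iff_ne_zero.mp hd) |>.mp h2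
      have h4 := (hg x).coef_smul le_rfl (res L (le_top : U x ≤ ⊤) σ)
      rw [h3, zero_smul] at h4
      rw [res_zero]
      exact h4.symm
    apply hs
    apply Scheme.Modules.hom_ext
    intro W
    ext w
    have h5 := hom_app_eq_smul s W (show Γ(X, W) from w)
    have h6 : s.app ⊤ (show Γ(Coh.structureModule X, ⊤) from (1 : Γ(X, ⊤))) = 0 := hσ0
    rw [h6, res_zero, smul_zero] at h5
    exact h5
  have hcu : IsUnit c := by
    letI := hfield.toField
    exact IsUnit.mk0 c hc0
  -- `τ` generates `L^d`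
  have hτgen : IsGen (CohB1.tensorPow L d) ⊤ τ := by
    have h1 : IsGen (Coh.structureModule X) ⊤ (c • oneSec X ⊤ : Γ(Coh.structureModule X, ⊤)) :=
      IsGen.smul_unit (isGen_oneSec (X := X) ⊤) c hcu
    have h2 := isGen_of_iso φ.symm h1
    have h3 : φ.symm.hom.app ⊤ (c • oneSec X ⊤ : Γ(Coh.structureModule X, ⊤)) = τ := by
      rw [smul_oneSec]
      show φ.inv.app ⊤ (φ.hom.app ⊤ τ) = τ
      have := congrArg (fun ψ => (Scheme.Modules.Hom.app ψ ⊤) τ) φ.hom_inv_id
      exact this
    rwa [h3] at h2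
  -- `σ` generates `L`
  have hσgen : IsGen L ⊤ σ := by
    refine isGen_of_locally σ fun p _ => ⟨U p, le_top, hxU p, ?_⟩
    have h1 := hlocal (U p) (g p) (hg p)
    have h2 : IsGen (CohB1.tensorPow L d) (U p) (res (CohB1.tensorPow L d) (le_top : U p ≤ ⊤) τ) := hτgen.res le_top
    rw [h1] at h2
    have h3 : IsUnit (((hg p).coef le_rfl (res L (le_top : U p ≤ ⊤) σ)) ^ d) :=
      isUnit_of_isGen_smul (isGen_gpow (hg p) d) _ h2
    have h4 : IsUnit ((hg p).coef le_rfl (res L (le_top : U p ≤ ⊤) σ)) :=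
      (isUnit_pow_iff (Nat.pos_iff_ne_zero.mp hd)).mp h3
    have h5 := (hg p).coef_smul le_rfl (res L (le_top : U p ≤ ⊤) σ)
    rw [res_self] at h5
    rw [← h5]
    exact IsGen.smul_unit (hg p) _ h4
  obtain ⟨ψ, -⟩ := exists_iso_of_cocycle_gen (M := L) (N := Coh.structureModule X)
    (fun _ : Unit => (⊤ : X.Opens)) (fun _ => σ) (fun _ => oneSec X ⊤)
    (fun _ => hσgen) (fun _ => isGen_oneSec ⊤)
    (fun z => ⟨(), trivial⟩)
    (fun _ _ => ⟨1, by rw [one_smul], by rw [one_smul]⟩)
  exact ⟨ψ⟩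

end Groth.Agent.S14809
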