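import Groth.Statements.S1481
import Groth.Agent.Lib.Helper21.ValGen1

set_option autoImplicit false
universe u
open FlatMor

namespace Groth.Agent.S1481

open AlgebraicGeometry CategoryTheory Limits in
/-- Let f : X → S, y a point of X with image t, Y the closure of y, s a point of S and x a point of Y
over s which is generic in an irreducible component of the fibre of Y over s (fibres as subspaces).
Then there are a valuation ring R and a morphism g : Spec R → S sending the generic point to t and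
the closed point to s, such that, writing X' for the base change with projections g' : X' → X and f'
: X' → Spec R, there is a point y' of X' over the generic point with g' y' = y which is generic in
an irreducible component of the generic fibre of g'⁻¹(Y), and a point x' in the closure of y' over
the closed point with g' x' = x which is generic in an irreducible component of the special fibre of
the closure of y'. -/
theorem result {X S : Scheme.{u}} (f : X ⟶ S) (y : X) (s : S) (x : X)
    (hx : x ∈ closure ({y} : Set ↑X)) (hxs : f x = s)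
    (hgen : ∃ C ∈ irreducibleComponents ↑(closure ({y} : Set ↑X) ∩ f ⁻¹' {s}), IsGenericPoint (⟨x, hx, hxs⟩ : ↑(closure ({y} : Set ↑X) ∩ f ⁻¹' {s})) C) :
    ∃ (R : Type u) (_ : CommRing R) (_ : IsDomain R) (_ : ValuationRing R) (g : Spec (CommRingCat.of R) ⟶ S),
      g (⊥ : PrimeSpectrum R) = f y ∧ g (IsLocalRing.closedPoint R) = s ∧
      ∃ (y' : ↑(pullback f g)) (hy't : pullback.snd f g y' = (⊥ : PrimeSpectrum R)) (hy'Y : pullback.fst f g y' ∈ closure ({y} : Set ↑X)),
        pullback.fst f g y' = y ∧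
        (∃ C ∈ irreducibleComponents ↑((pullback.fst f g) ⁻¹' closure ({y} : Set ↑X) ∩ (pullback.snd f g) ⁻¹' {(⊥ : PrimeSpectrum R)}),
          IsGenericPoint (⟨y', hy'Y, hy't⟩ : ↑((pullback.fst f g) ⁻¹' closure ({y} : Set ↑X) ∩ (pullback.snd f g) ⁻¹' {(⊥ : PrimeSpectrum R)})) C) ∧
        ∃ (x' : ↑(pullback f g)) (hx' : x' ∈ closure ({y'} : Set ↑(pullback f g))) (hx's : pullback.snd f g x' = IsLocalRing.closedPoint R),
          pullback.fst f g x' = x ∧
          ∃ C ∈ irreducibleComponents ↑(closure ({y'} : Set ↑(pullback f g)) ∩ (pullback.snd f g) ⁻¹' {IsLocalRing.closedPoint R}),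
            IsGenericPoint (⟨x', hx', hx's⟩ : ↑(closure ({y'} : Set ↑(pullback f g)) ∩ (pullback.snd f g) ⁻¹' {IsLocalRing.closedPoint R})) C := by
  classical
  have hyx : y ⤳ x := specializes_iff_mem_closure.2 hx
  obtain ⟨R, iR, iD, iV, φ, hφy, hφx⟩ :=
    Groth.Agent.Lib.Helper21.ValGen.exists_valuationRing_hom_of_specializes hyx
  let g : Spec (CommRingCat.of R) ⟶ S := φ ≫ f
  have hgy : g (⊥ : PrimeSpectrum R) = f y := by
    change f (φ (⊥ : PrimeSpectrum R)) = f y
    rw [hφy]
  have hgx : g (IsLocalRing.closedPoint R) = s := by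
    change f (φ (IsLocalRing.closedPoint R)) = s
    rw [hφx, hxs]
  refine ⟨R, iR, iD, iV, g, hgy, hgx, ?_⟩
  -- the graph section
  let σ : Spec (CommRingCat.of R) ⟶ pullback f g :=
    pullback.lift φ (𝟙 _) (by simp [g])
  have hσf : σ ≫ pullback.fst f g = φ := pullback.lift_fst _ _ _
  have hσs : σ ≫ pullback.snd f g = 𝟙 _ := pullback.lift_snd _ _ _
  have hσ1 : ∀ p : PrimeSpectrum R, pullback.fst f g (σ p) = φ p := by
    intro p
    rw [← Scheme.Hom.comp_apply, hσf]
  have hσ2 : ∀ p : PrimeSpectrum R, pullback.snd f g (σ p) = p := by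
    intro p
    rw [← Scheme.Hom.comp_apply, hσs]
    rfl
  set y₀ : ↑(pullback f g) := σ (⊥ : PrimeSpectrum R) with hy₀
  set x₀ : ↑(pullback f g) := σ (IsLocalRing.closedPoint R) with hx₀
  have hy₀x₀ : y₀ ⤳ x₀ := by
    have h1 : (⊥ : PrimeSpectrum R) ⤳ IsLocalRing.closedPoint R := by
      rw [← PrimeSpectrum.le_iff_specializes]
      exact bot_le
    exact h1.map σ.continuous
  -- the first quasi-sober subspace
  haveI qs1 : QuasiSober ↑((pullback.fst f g) ⁻¹' closure ({y} : Set ↑X) ∩
      (pullback.snd f g) ⁻¹' {(⊥ : PrimeSpectrum R)}) :=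
    Groth.Agent.Lib.Helper21.ValGen.quasiSober_closed_inter_fibre (pullback.snd f g)
      (pullback.snd f g).continuous (⊥ : PrimeSpectrum R) _
      (isClosed_closure.preimage (pullback.fst f g).continuous)
  have hy₀mem : y₀ ∈ (pullback.fst f g) ⁻¹' closure ({y} : Set ↑X) ∩
      (pullback.snd f g) ⁻¹' {(⊥ : PrimeSpectrum R)} := by
    refine ⟨?_, hσ2 _⟩
    change pullback.fst f g y₀ ∈ closure ({y} : Set ↑X)
    rw [hy₀, hσ1, hφy]
    exact subset_closure rfl
  obtain ⟨⟨y', hy'Y, hy't⟩, hy'y₀, C₁, hC₁, hgen₁⟩ :=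
    Groth.Agent.Lib.Helper21.ValGen.exists_generic_of_component
      (⟨y₀, hy₀mem⟩ : ↑((pullback.fst f g) ⁻¹' closure ({y} : Set ↑X) ∩
      (pullback.snd f g) ⁻¹' {(⊥ : PrimeSpectrum R)}))
  have hy'y₀' : y' ⤳ y₀ := (subtype_specializes_iff _ _).1 hy'y₀
  have hfst_y' : pullback.fst f g y' = y := by
    have h1 : pullback.fst f g y' ⤳ pullback.fst f g y₀ := hy'y₀'.map (pullback.fst f g).continuous
    rw [hy₀, hσ1, hφy] at h1
    have h2 : y ⤳ pullback.fst f g y' := specializes_iff_mem_closure.2 hy'Y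
    exact (h1.antisymm h2).eq
  refine ⟨y', hy't, hy'Y, hfst_y', ⟨C₁, hC₁, hgen₁⟩, ?_⟩
  -- the second quasi-sober subspace
  haveI qs2 : QuasiSober ↑(closure ({y'} : Set ↑(pullback f g)) ∩
      (pullback.snd f g) ⁻¹' {IsLocalRing.closedPoint R}) :=
    Groth.Agent.Lib.Helper21.ValGen.quasiSober_closed_inter_fibre (pullback.snd f g)
      (pullback.snd f g).continuous (IsLocalRing.closedPoint R) _ isClosed_closure
  have hx₀mem : x₀ ∈ closure ({y'} : Set ↑(pullback f g)) ∩
      (pullback.snd f g) ⁻¹' {IsLocalRing.closedPoint R} := by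
    refine ⟨?_, hσ2 _⟩
    exact specializes_iff_mem_closure.1 (hy'y₀'.trans hy₀x₀)
  obtain ⟨⟨x', hx', hx's⟩, hx'x₀, C₂, hC₂, hgen₂⟩ :=
    Groth.Agent.Lib.Helper21.ValGen.exists_generic_of_component
      (⟨x₀, hx₀mem⟩ : ↑(closure ({y'} : Set ↑(pullback f g)) ∩
      (pullback.snd f g) ⁻¹' {IsLocalRing.closedPoint R}))
  have hx'x₀' : x' ⤳ x₀ := (subtype_specializes_iff _ _).1 hx'x₀
  refine ⟨x', hx', hx's, ?_, C₂, hC₂, hgen₂⟩
  -- `g' x' = x`
  obtain ⟨C, hC, hxC⟩ := hgen
  have hw1 : pullback.fst f g x' ∈ closure ({y} : Set ↑X) := by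
    have h1 : y' ⤳ x' := specializes_iff_mem_closure.2 hx'
    have h2 := h1.map (pullback.fst f g).continuous
    rw [hfst_y'] at h2
    exact specializes_iff_mem_closure.1 h2
  have hw2 : f (pullback.fst f g x') = s := by
    have h1 : f (pullback.fst f g x') = g (pullback.snd f g x') := by
      rw [← Scheme.Hom.comp_apply, ← Scheme.Hom.comp_apply, pullback.condition]
    rw [h1]
    have h2 : pullback.snd f g x' = IsLocalRing.closedPoint R := hx's
    rw [h2, hgx]
  have hw3 : pullback.fst f g x' ⤳ x := by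
    have h1 := hx'x₀'.map (pullback.fst f g).continuous
    rwa [hx₀, hσ1, hφx] at h1
  have hw4 : (⟨pullback.fst f g x', hw1, hw2⟩ : ↑(closure ({y} : Set ↑X) ∩ f ⁻¹' {s})) ⤳
      ⟨x, hx, hxs⟩ := (subtype_specializes_iff _ _).2 hw3
  have hw5 := Groth.Agent.Lib.Helper21.ValGen.eq_of_specializes_generic hC hxC hw4
  exact congrArg Subtype.val hw5

end Groth.Agent.S1481
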