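import Groth.Statements.S14818
import Groth.Agent.Lib.Helper17.NormPb
import Groth.Agent.Lib.Helper17.NormFLF
import Groth.Agent.Lib.Helper28.TensorIso
import Groth.Agent.Lib.Helper28.ModIsoApp
import Mathlib
set_option backward.isDefEq.respectTransparency.types false

set_option autoImplicit false
universe u
open CategoryTheory CategoryTheory.Limits AlgebraicGeometry
open PicF

namespace Groth.Agent.S14818

open Groth.Agent.Lib.Helper28 Groth.Agent.Lib.Helper28.QCohLoc Groth.Agent.Lib.Helper28.GenLocus
open Groth.Agent.Lib.Helper17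


/-- Let X be a connected locally Noetherian scheme, f : X' → X a finite locally free morphism of
constant degree d (a finite flat covering of X of degree d) and L an invertible O_X-module whose
pullback f^*L is isomorphic to O_{X'}. Then L^{⊗d} ≅ O_X; in particular L has finite order in Pic(X)
dividing the degree of f. -/
theorem result (X X' : Scheme.{u})
    [IsLocallyNoetherian X] [ConnectedSpace X] (f : X' ⟶ X) (d : ℕ) (hf : Mor2.IsFinLocFreeOfDeg d f)
    (L : X.Modules) (hL : PicF.IsInvertible L)
    (htriv : Nonempty ((Scheme.Modules.pullback f).obj L ≅ Coh.structureModule X')) :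
    Nonempty (CohB1.tensorPow L d ≅ Coh.structureModule X) := by
  rcases Nat.eq_zero_or_pos d with rfl | hd
  · exact ⟨Iso.refl _⟩
  · haveI : IsFinite f := hf.1.1
    obtain ⟨Nm⟩ := NormFLF.hasNorm f d hd hf
    obtain ⟨e⟩ := htriv
    obtain ⟨t, ht1, -⟩ := NormPb.exists_norm_section_pullback Nm L hL e.inv
    have htop : ∀ y : X, y ∈ CohB1.genLocus _ t := fun y => ht1 y (fun x _ =>
      (mem_genLocus_iff e.inv x).2 ⟨⊤, trivial, fun W _ => app_bijective_of_isIso e.inv W⟩)
    haveI : IsIso t := by
      refine TensorIso.isIso_of_bijective_on_basis t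
        (fun W => ∀ W' : X.Opens, W' ≤ W → Function.Bijective (t.app W')) ?_ (fun W hW => hW W le_rfl)
      intro U x hx
      obtain ⟨U₀, hxU₀, hU₀⟩ := (mem_genLocus_iff t x).1 (htop x)
      exact ⟨U₀ ⊓ U, fun W' hW' => hU₀ W' (hW'.trans inf_le_left), ⟨hxU₀, hx⟩, inf_le_right⟩
    exact ⟨(asIso t).symm⟩

end Groth.Agent.S14818
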