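import Groth.Statements.S14821
import Groth.Agent.S2422
import Groth.Agent.Lib.Helper18.FFGlue
import Groth.Agent.Lib.Helper18.Stein
import Groth.Agent.Lib.Helper28.NormalSection
open Groth.Agent.Lib.Helper18

set_option autoImplicit false
universe u
open CategoryTheory CategoryTheory.Limits AlgebraicGeometry
open CohIII

namespace Groth.Agent.S14821

/-- Let k be a field and f : X → Y a surjective k-morphism between integral proper k-schemes which are
both normal (all local rings integrally closed domains). Then f is a fibration, i.e. O_Y → f_*O_X is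
an isomorphism (Γ(U, O_Y) → Γ(f⁻¹U, O_X) is bijective for every open U ⊆ Y), exactly when K(Y) is
algebraically closed inside K(X): every element of the function field of X which is integral over
the function field of Y, embedded through the stalk map of f at the generic points, lies in the
image of K(Y). (The published statement assumes only Y normal; without normality of X the forward
implication fails — for a quadratic field extension k ⊂ k', the projective line over k' with one
k'-rational point pinched to a k-rational point, mapped to Spec k, has ring of global functions k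
although k is not algebraically closed in its function field k'(t) — and the published proof
resolves the indeterminacy of a rational map on the generic fibre by a graph whose projection is a
fibration, which needs X normal; so this row assumes X normal as well. The reverse implication holds
without it.) -/
theorem result (k : Type u) [Field k]
    (X Y : Scheme.{u}) [X.Over (Spec (CommRingCat.of k))] [Y.Over (Spec (CommRingCat.of k))]
    [IsProper (X ↘ Spec (CommRingCat.of k))] [IsProper (Y ↘ Spec (CommRingCat.of k))] [IsIntegral X] [IsIntegral Y]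
    (hX : Pi1.IsNormalScheme X) (hY : Pi1.IsNormalScheme Y) (f : X ⟶ Y) [Surjective f] (hf : f ≫ (Y ↘ Spec (CommRingCat.of k)) = X ↘ Spec (CommRingCat.of k))
    (h : f.base (genericPoint ↥X) ⤳ genericPoint ↥Y) :
    (∀ U : Y.Opens, IsIso (f.app U)) ↔
      ∀ x : ↑X.functionField, (CohIII.stalkToFunctionField f (genericPoint ↥Y) h).IsIntegralElem x → x ∈ (CohIII.stalkToFunctionField f (genericPoint ↥Y) h).range := by
  haveI : IsLocallyNoetherian X := LocallyOfFiniteType.isLocallyNoetherian (X ↘ Spec (CommRingCat.of k))
  haveI : IsLocallyNoetherian Y := LocallyOfFiniteType.isLocallyNoetherian (Y ↘ Spec (CommRingCat.of k))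
  haveI : IsProper f := by
    haveI : IsProper (f ≫ (Y ↘ Spec (CommRingCat.of k))) := by rw [hf]; infer_instance
    exact IsProper.of_comp f (Y ↘ Spec (CommRingCat.of k))
  constructor
  · intro hiso x hx
    obtain ⟨_, ⟨U, hU, rfl⟩, hgU, -⟩ := Y.isBasis_affineOpens.exists_subset_of_mem_open
      (Set.mem_univ (genericPoint Y)) isOpen_univ
    haveI : Nonempty U := ⟨⟨_, hgU⟩⟩
    have hWne : ((f ⁻¹ᵁ U : X.Opens) : Set X).Nonempty :=
      ⟨genericPoint X, Stein.genericPoint_mem_preimage f h U⟩
    set φ := CohIII.stalkToFunctionField f (genericPoint Y) h with hφ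
    haveI := functionField_isFractionRing_of_isAffineOpen Y U hU
    letI : Algebra Y.functionField X.functionField := φ.toAlgebra
    letI : Algebra Γ(Y, U) X.functionField :=
      (φ.comp (algebraMap Γ(Y, U) Y.functionField)).toAlgebra
    haveI : IsScalarTower Γ(Y, U) Y.functionField X.functionField :=
      IsScalarTower.of_algebraMap_eq (fun _ => rfl)
    have hx' : IsIntegral Y.functionField x := hx
    obtain ⟨m, hm⟩ := IsIntegral.exists_multiple_integral_of_isLocalization
      (nonZeroDivisors Γ(Y, U)) x hx'
    have hgerm : ∀ a : Γ(Y, U), algebraMap Γ(Y, U) X.functionField a =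
        (X.presheaf.germ (f ⁻¹ᵁ U) (genericPoint X)
          (FFGlue.genericPoint_mem_of_nonempty _ hWne)).hom ((f.app U).hom a) := by
      intro a
      exact Stein.stalkToFF_germ f h U a
    have hz : ∃ s : Γ(X, f ⁻¹ᵁ U),
        (X.presheaf.germ (f ⁻¹ᵁ U) (genericPoint X)
          (FFGlue.genericPoint_mem_of_nonempty _ hWne)).hom s = m • x := by
      refine FFGlue.exists_section_of_locally (f ⁻¹ᵁ U) hWne (m • x) (fun x' hx'W => ?_)
      obtain ⟨_, ⟨V, hV, rfl⟩, hxV, hVW⟩ := X.isBasis_affineOpens.exists_subset_of_mem_open
        hx'W (f ⁻¹ᵁ U).isOpen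
      have hVW' : V ≤ f ⁻¹ᵁ U := hVW
      haveI : Nonempty V := ⟨⟨x', hxV⟩⟩
      haveI := Groth.Agent.Lib.Helper28.NormalSection.isIntegrallyClosed_of_isAffineOpen X V
        (fun x _ => (hX x).2) hV
      haveI := functionField_isFractionRing_of_isAffineOpen X V hV
      have hint : IsIntegral Γ(X, V) (m • x) := by
        obtain ⟨p, hp, hpz⟩ := hm
        refine ⟨p.map ((f.app U).hom.comp (RingHom.id _) |>.comp (RingHom.id _) |> fun ψ =>
          (X.presheaf.map (homOfLE hVW').op).hom.comp ψ), hp.map _, ?_⟩
        rw [Polynomial.eval₂_map]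
        convert hpz using 2
        ext a
        simp only [RingHom.comp_apply, RingHom.id_apply]
        rw [hgerm a]
        exact X.presheaf.germ_res_apply (homOfLE hVW') (genericPoint X)
          (FFGlue.genericPoint_mem_of_nonempty V ⟨x', hxV⟩) ((f.app U).hom a)
      obtain ⟨s, hs⟩ := IsIntegrallyClosed.isIntegral_iff.mp hint
      exact ⟨V, hxV, hVW', s, hs⟩
    obtain ⟨s, hs⟩ := hz
    haveI := hiso U
    obtain ⟨a, ha⟩ : ∃ a : Γ(Y, U), (f.app U).hom a = s :=
      (ConcreteCategory.bijective_of_isIso (f.app U)).2 s
    have h1 : algebraMap Γ(Y, U) X.functionField a = m • x := by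
      rw [hgerm a, ha, hs]
    have hm0 : algebraMap Γ(Y, U) Y.functionField (m : Γ(Y, U)) ≠ 0 := by
      intro h0
      have := (IsFractionRing.injective Γ(Y, U) Y.functionField)
        (h0.trans (map_zero _).symm)
      exact nonZeroDivisors.coe_ne_zero m this
    refine ⟨algebraMap Γ(Y, U) Y.functionField a / algebraMap Γ(Y, U) Y.functionField (m : Γ(Y, U)), ?_⟩
    rw [map_div₀]
    have h2 : φ (algebraMap Γ(Y, U) Y.functionField a) = m • x := h1
    have h3 : m • x = φ (algebraMap Γ(Y, U) Y.functionField (m : Γ(Y, U))) * x := by
      rw [Submonoid.smul_def, Algebra.smul_def]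
      rfl
    rw [h2, h3]
    have h4 : φ (algebraMap Γ(Y, U) Y.functionField (m : Γ(Y, U))) ≠ 0 := by
      intro h0
      exact hm0 ((map_eq_zero φ).mp h0)
    field_simp
  · intro hR
    refine Groth.Agent.S2422.result hY f h (fun x hx => ?_)
    obtain ⟨p, hp0, hpx⟩ := hx
    have hlc : p.leadingCoeff ≠ 0 := Polynomial.leadingCoeff_ne_zero.mpr hp0
    have hmem := hR x ⟨p * Polynomial.C p.leadingCoeff⁻¹, Polynomial.monic_mul_leadingCoeff_inv hp0, by
      rw [Polynomial.eval₂_mul, hpx, zero_mul]⟩
    exact RingHom.mem_range.mp hmem

end Groth.Agent.S14821
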