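import Groth.Statements.S14822
import Groth.Agent.S2422
import Groth.Agent.Lib.Helper18.GenFinite
import Groth.Agent.Lib.Helper18.Stein
open Groth.Agent.Lib.Helper18

set_option autoImplicit false
universe u
open CategoryTheory CategoryTheory.Limits AlgebraicGeometry
open CohIII

namespace Groth.Agent.S14822

/-- Let k be a field and f : X → Y a surjective k-morphism between integral proper k-schemes of the same
dimension, with Y normal (all local rings integrally closed domains). Then f is a fibration (Γ(U,
O_Y) → Γ(f⁻¹U, O_X) bijective for every open U ⊆ Y) if and only if f is birational: the embedding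
K(Y) → K(X) of function fields given by the stalk map at the generic points is bijective. -/
theorem result (k : Type u) [Field k]
    (X Y : Scheme.{u}) [X.Over (Spec (CommRingCat.of k))] [Y.Over (Spec (CommRingCat.of k))]
    [IsProper (X ↘ Spec (CommRingCat.of k))] [IsProper (Y ↘ Spec (CommRingCat.of k))] [IsIntegral X] [IsIntegral Y]
    (hY : Pi1.IsNormalScheme Y) (f : X ⟶ Y) [Surjective f] (hf : f ≫ (Y ↘ Spec (CommRingCat.of k)) = X ↘ Spec (CommRingCat.of k))
    (hdim : topologicalKrullDim ↥X = topologicalKrullDim ↥Y)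
    (h : f.base (genericPoint ↥X) ⤳ genericPoint ↥Y) :
    (∀ U : Y.Opens, IsIso (f.app U)) ↔ Function.Bijective (CohIII.stalkToFunctionField f (genericPoint ↥Y) h) := by
  haveI : IsLocallyNoetherian X := LocallyOfFiniteType.isLocallyNoetherian (X ↘ Spec (CommRingCat.of k))
  haveI : IsLocallyNoetherian Y := LocallyOfFiniteType.isLocallyNoetherian (Y ↘ Spec (CommRingCat.of k))
  haveI : IsProper f := by
    haveI : IsProper (f ≫ (Y ↘ Spec (CommRingCat.of k))) := by rw [hf]; infer_instance
    exact IsProper.of_comp f (Y ↘ Spec (CommRingCat.of k))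
  set φ := CohIII.stalkToFunctionField f (genericPoint Y) h with hφ
  constructor
  · intro hiso
    refine ⟨RingHom.injective φ, ?_⟩
    -- the fibre over the generic point is the generic point
    have hfib : (f ⁻¹' {genericPoint Y}).Finite := by
      refine (Set.finite_singleton (genericPoint X)).subset ?_
      intro x hx
      exact GenFinite.eq_genericPoint_of_map_eq k f hf hdim x hx
    obtain ⟨V, hηV, hVfin⟩ :=
      exists_isFinite_morphismRestrict_of_finite_preimage_singleton f (genericPoint Y) hfib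
    -- an affine open of `V` containing the generic point
    obtain ⟨_, ⟨V₀, hV₀, rfl⟩, hηV₀, -⟩ := (V : Scheme.{u}).isBasis_affineOpens.exists_subset_of_mem_open
      (Set.mem_univ (⟨genericPoint Y, hηV⟩ : V)) isOpen_univ
    have hV₀ : IsAffineOpen V₀ := hV₀
    have hW₀ : IsAffineOpen ((f ∣_ V) ⁻¹ᵁ V₀) := hV₀.preimage (f ∣_ V)
    have hW : IsAffineOpen (f ⁻¹ᵁ (V.ι ''ᵁ V₀)) := by
      rw [← image_morphismRestrict_preimage]
      exact hW₀.image_of_isOpenImmersion _
    have hV' : IsAffineOpen (V.ι ''ᵁ V₀) := hV₀.image_of_isOpenImmersion _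
    set V' : Y.Opens := V.ι ''ᵁ V₀ with hV'def
    have hηV' : genericPoint Y ∈ V' := ⟨⟨genericPoint Y, hηV⟩, hηV₀, rfl⟩
    haveI : Nonempty V' := ⟨⟨_, hηV'⟩⟩
    have hηW : genericPoint X ∈ f ⁻¹ᵁ V' := Stein.genericPoint_mem_preimage f h V'
    haveI : Nonempty (f ⁻¹ᵁ V' : X.Opens) := ⟨⟨_, hηW⟩⟩
    haveI := functionField_isFractionRing_of_isAffineOpen X (f ⁻¹ᵁ V') hW
    intro α
    obtain ⟨a, b, hb, rfl⟩ := IsFractionRing.div_surjective (A := Γ(X, f ⁻¹ᵁ V')) α
    haveI := hiso V'
    obtain ⟨a', ha'⟩ := (ConcreteCategory.bijective_of_isIso (f.app V')).2 a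
    obtain ⟨b', hb'⟩ := (ConcreteCategory.bijective_of_isIso (f.app V')).2 b
    refine ⟨(Y.presheaf.germ V' (genericPoint Y) (Stein.genericPoint_mem V')).hom a' /
      (Y.presheaf.germ V' (genericPoint Y) (Stein.genericPoint_mem V')).hom b', ?_⟩
    rw [map_div₀, Stein.stalkToFF_germ f h V' a', Stein.stalkToFF_germ f h V' b', ha', hb']
    rfl
  · intro hbij
    refine Groth.Agent.S2422.result hY f h (fun x _ => ?_)
    exact hbij.2 x

end Groth.Agent.S14822
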