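import Groth.Statements.S14825
import Groth.Agent.Lib.Helper13.AlbTriv

set_option autoImplicit false
universe u
open CategoryTheory MonoidalCategory CartesianMonoidalCategory MonObj GrpObj AlgebraicGeometry
open AbVar
open Groth.Agent.Lib.Helper13.AlbTriv

namespace Groth.Agent.S14825

/-- In the pointed case, let k be a field and X a proper k-scheme with H^0(X, O_X) one-dimensional and a
k-rational point x₀; let alb : X → A be the Albanese morphism (A an abelian variety over k — proper,
geometrically integral group scheme — with alb(x₀) = 0, universal among pointed k-morphisms from X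
to abelian varieties, the latter being geometrically reduced, connected, proper group schemes). Then
X has Albanese dimension zero, i.e. the image of alb is a single point of A (X is connected, so this
says the image is zero-dimensional), if and only if A is the trivial abelian variety, i.e. A → Spec
k is an isomorphism. (The published statement does not assume a rational point (it works with the
Albanese torsor); this row assumes one.) -/
theorem result (k : Type u) [Field k] (X : Scheme.{u}) [X.Over (Spec (CommRingCat.of k))]
    [IsProper (X ↘ Spec (CommRingCat.of k))] (h0 : Module.finrank k (Coh.HH X (Coh.structureModule X) 0) = 1)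
    (x₀ : 𝟙_ (Over (Spec (CommRingCat.of k))) ⟶ Over.mk (X ↘ Spec (CommRingCat.of k)))
    (A : Over (Spec (CommRingCat.of k))) [GrpObj A] [IsProper A.hom] [GeometricallyIntegral A.hom]
    (alb : Over.mk (X ↘ Spec (CommRingCat.of k)) ⟶ A) (halb : x₀ ≫ alb = η[A])
    (huniv : ∀ (B : Over (Spec (CommRingCat.of k))) [GrpObj B] [IsProper B.hom] [GeometricallyReduced B.hom] [ConnectedSpace ↥B.left]
      (g : Over.mk (X ↘ Spec (CommRingCat.of k)) ⟶ B), x₀ ≫ g = η[B] → ∃! h : A ⟶ B, IsMonHom h ∧ alb ≫ h = g) :
    (Set.range alb.left.base).Subsingleton ↔ IsIso A.hom := by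
  have hsub : Subsingleton ↥(Spec (CommRingCat.of k)) := inferInstanceAs (Subsingleton (PrimeSpectrum k))
  have hne : Nonempty ↥(Spec (CommRingCat.of k)) := inferInstanceAs (Nonempty (PrimeSpectrum k))
  constructor
  · intro hsing
    -- the section
    have hsec : x₀.left ≫ (X ↘ Spec (CommRingCat.of k)) = 𝟙 (Spec (CommRingCat.of k)) := by
      have := Over.w x₀
      simpa using this
    have hsurj : Function.Surjective (X ↘ Spec (CommRingCat.of k)).appTop.hom := by
      intro y
      obtain ⟨c, hc⟩ := surjective_toGlobal_of_finrank_eq_one k X h0 y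
      exact ⟨_, hc⟩
    have hηl : x₀.left ≫ alb.left = η[A].left := by
      rw [← halb]; rfl
    -- the constant morphism
    obtain ⟨z⟩ := hne
    set a₀ : ↥A.left := alb.left (x₀.left z) with ha₀
    have hall : ∀ y : X, alb.left y = a₀ := fun y => hsing ⟨y, rfl⟩ ⟨_, rfl⟩
    obtain ⟨_, ⟨U, hU : IsAffineOpen U, rfl⟩, ha₀U, -⟩ :=
      A.left.isBasis_affineOpens.exists_subset_of_mem_open (Set.mem_univ a₀) isOpen_univ
    have halbl : alb.left = (X ↘ Spec (CommRingCat.of k)) ≫ η[A].left := by
      refine eq_of_section (X ↘ Spec (CommRingCat.of k)) x₀.left hsec hsurj _ _ ?_ U hU ?_ ?_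
      · rw [← Category.assoc, hsec, Category.id_comp, hηl]
      · rintro _ ⟨y, rfl⟩
        rw [hall y]; exact ha₀U
      · rintro _ ⟨y, rfl⟩
        rw [← hηl, Scheme.Hom.comp_apply, Scheme.Hom.comp_apply, hall]
        exact ha₀U
    have halb' : alb = toUnit _ ≫ η[A] := by
      apply Over.OverMorphism.ext
      rw [halbl]
      rfl
    -- apply uniqueness
    have : IrreducibleSpace ↥A.left :=
      GeometricallyIrreducible.irreducibleSpace_of_subsingleton (f := A.hom)
    obtain ⟨h, -, huniq⟩ := huniv A alb halb
    have h1 : 𝟙 A = h := huniq _ ⟨inferInstance, Category.comp_id _⟩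
    have h2 : toUnit A ≫ η[A] = h := by
      refine huniq _ ⟨inferInstance, ?_⟩
      rw [halb', Category.assoc, ← Category.assoc η[A], toUnit_unique (η[A] ≫ toUnit A) (𝟙 _),
        Category.id_comp]
    have h3 : toUnit A ≫ η[A] = 𝟙 A := h2.trans h1.symm
    have h4 : η[A] ≫ toUnit A = 𝟙 _ := toUnit_unique _ _
    have h5 : IsIso (toUnit A) := ⟨η[A], h3, h4⟩
    have h6 : IsIso (toUnit A).left := Functor.map_isIso (Over.forget _) (toUnit A)
    have h7 : (toUnit A).left = A.hom := by
      have := Over.w (toUnit A)
      rw [← this]
      exact (Category.comp_id _).symm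
    rwa [h7] at h6
  · intro hiso a ha b hb
    have hinj : Function.Injective A.hom.base := by
      have : IsIso A.hom := hiso
      exact (A.hom.homeomorph).injective
    exact hinj (hsub.elim _ _)

end Groth.Agent.S14825
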