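import Groth.Statements.S14826
import Mathlib
import Groth.Agent.Lib.Helper4.RigidOver

set_option autoImplicit false
universe u
open CategoryTheory MonoidalCategory CartesianMonoidalCategory MonObj GrpObj AlgebraicGeometry
open AbVar

namespace Groth.Agent.S14826

section helpers

theorem isMonHom_of_one_comp (K : Type u) [Field K] (A B : Over (Spec (CommRingCat.of K)))
    [GrpObj A] [IsProper A.hom] [GeometricallyIntegral A.hom]
    [GrpObj B] [IsSeparated B.hom]
    (f : A ⟶ B) (hf : η[A] ≫ f = η[B]) : IsMonHom f := by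
  set i₁ : A ⟶ A ⊗ A := lift (𝟙 A) (toUnit A ≫ η[A]) with hi₁
  set i₂ : A ⟶ A ⊗ A := lift (toUnit A ≫ η[A]) (𝟙 A) with hi₂
  have h11 : i₁ ≫ fst A A = 𝟙 A := by simp [hi₁]
  have h12 : i₁ ≫ snd A A = toUnit A ≫ η[A] := by simp [hi₁]
  have h21 : i₂ ≫ fst A A = toUnit A ≫ η[A] := by simp [hi₂]
  have h22 : i₂ ≫ snd A A = 𝟙 A := by simp [hi₂]
  have h1μ : i₁ ≫ μ[A] = 𝟙 A := by
    simp [hi₁]
  have h2μ : i₂ ≫ μ[A] = 𝟙 A := by
    simp [hi₂]
  let φ : A ⊗ A ⟶ B := (fst A A ≫ f)⁻¹ * (μ[A] ≫ f) * (snd A A ≫ f)⁻¹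
  have hφ : φ = toUnit (A ⊗ A) ≫ η[B] := by
    refine Groth.Agent.Lib.Helper4.RigidOver.rigidity A A B φ η[A] η[A] η[B] ?_ ?_
    · rw [← hi₁, ← Hom.one_def]
      simp only [φ, comp_mul, comp_inv]
      rw [← Category.assoc i₁, h11, Category.id_comp, ← Category.assoc i₁ (snd A A), h12,
        Category.assoc, hf, ← Hom.one_def, ← Category.assoc i₁, h1μ, Category.id_comp]
      simp
    · rw [← hi₂, ← Hom.one_def]
      simp only [φ, comp_mul, comp_inv]
      rw [← Category.assoc i₂, h21, ← Category.assoc i₂ (snd A A), h22, Category.id_comp,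
        Category.assoc, hf, ← Hom.one_def, ← Category.assoc i₂, h2μ, Category.id_comp]
      simp
  rw [← Hom.one_def] at hφ
  have h3 : (fst A A ≫ f)⁻¹ * (μ[A] ≫ f) * (snd A A ≫ f)⁻¹ = 1 := hφ
  rw [mul_inv_eq_one, inv_mul_eq_iff_eq_mul] at h3
  refine ⟨hf, ?_⟩
  rw [h3, Hom.mul_def]
  congr 1


theorem main (k : Type u) [Field k] (X' : Over (Spec (CommRingCat.of k)))
    (x₀ : 𝟙_ (Over (Spec (CommRingCat.of k))) ⟶ X')
    (A : Over (Spec (CommRingCat.of k))) [GrpObj A] [IsProper A.hom] [GeometricallyIntegral A.hom]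
    (alb : X' ⟶ A) (halb : x₀ ≫ alb = η[A])
    (huniv : ∀ (B : Over (Spec (CommRingCat.of k))) [GrpObj B] [IsProper B.hom] [GeometricallyReduced B.hom] [ConnectedSpace ↥B.left]
      (g : X' ⟶ B), x₀ ≫ g = η[B] → ∃! h : A ⟶ B, IsMonHom h ∧ alb ≫ h = g)
    (A' : Over (Spec (CommRingCat.of k))) [GrpObj A'] [IsProper A'.hom] [GeometricallyReduced A'.hom] [ConnectedSpace ↥A'.left]
    (φ : X' ⟶ A') :
    ∃ h : A ⟶ A', IsMonHom h ∧ (alb ≫ h) * (toUnit X' ≫ x₀ ≫ φ) = φ ∧
      ∀ g : A ⟶ A', alb ≫ g = φ → g = h * (toUnit A ≫ x₀ ≫ φ) := by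
  set a' : 𝟙_ (Over (Spec (CommRingCat.of k))) ⟶ A' := x₀ ≫ φ with ha'
  have hx₀ : x₀ ≫ toUnit X' = 𝟙 _ := toUnit_unique _ _
  have hone : (1 : 𝟙_ (Over (Spec (CommRingCat.of k))) ⟶ A') = η[A'] := by
    rw [Hom.one_def]
    have : toUnit (𝟙_ (Over (Spec (CommRingCat.of k)))) = 𝟙 _ := toUnit_unique _ _
    rw [this, Category.id_comp]
  set g₀ : X' ⟶ A' := φ * (toUnit X' ≫ a')⁻¹ with hg₀
  have hg₀1 : x₀ ≫ g₀ = η[A'] := by
    rw [hg₀, comp_mul, comp_inv, ← Category.assoc x₀, hx₀, Category.id_comp, ← ha', mul_inv_cancel, hone]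
  obtain ⟨h, ⟨hh, hh2⟩, huniq⟩ := huniv A' g₀ hg₀1
  refine ⟨h, hh, ?_, ?_⟩
  · rw [hh2, hg₀, inv_mul_cancel_right]
  · intro g hg
    have halbU : alb ≫ toUnit A = toUnit X' := toUnit_unique _ _
    set h' : A ⟶ A' := g * (toUnit A ≫ a')⁻¹ with hh'
    have h'alb : alb ≫ h' = g₀ := by
      rw [hh', comp_mul, comp_inv, hg, ← Category.assoc alb, halbU]
    have h'one : η[A] ≫ h' = η[A'] := by
      rw [← halb, Category.assoc, h'alb, hg₀1]
    have h'mon : IsMonHom h' := isMonHom_of_one_comp k A A' h' h'one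
    have := huniq h' ⟨h'mon, h'alb⟩
    rw [← this, hh', inv_mul_cancel_right]

end helpers

/-- Over a field k (the published statement is over a base scheme S), let X be a proper k-scheme with
H^0(X, O_X) one-dimensional and a k-rational point x₀, and alb : X → A the Albanese morphism (A an
abelian variety — proper, geometrically integral group scheme — with alb(x₀) = 0, universal among
pointed morphisms from X to geometrically reduced, connected, proper group schemes). Let φ : X → A'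
be an arbitrary k-morphism to such an abelian variety A', not necessarily pointed. Then φ factors
through alb by exactly one k-morphism A → A', and that morphism is a homomorphism h followed by the
translation of A' by the k-point φ(x₀): there is a homomorphism h : A → A' with φ = (alb ≫ h) ·
(constant map with value φ(x₀)) in the group of morphisms into A', and every k-morphism g : A → A'
with alb ≫ g = φ equals h · (constant map A → A' with value φ(x₀)). -/
theorem result (k : Type u) [Field k] (X : Scheme.{u}) [X.Over (Spec (CommRingCat.of k))]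
    [IsProper (X ↘ Spec (CommRingCat.of k))] (h0 : Module.finrank k (Coh.HH X (Coh.structureModule X) 0) = 1)
    (x₀ : 𝟙_ (Over (Spec (CommRingCat.of k))) ⟶ Over.mk (X ↘ Spec (CommRingCat.of k)))
    (A : Over (Spec (CommRingCat.of k))) [GrpObj A] [IsProper A.hom] [GeometricallyIntegral A.hom]
    (alb : Over.mk (X ↘ Spec (CommRingCat.of k)) ⟶ A) (halb : x₀ ≫ alb = η[A])
    (huniv : ∀ (B : Over (Spec (CommRingCat.of k))) [GrpObj B] [IsProper B.hom] [GeometricallyReduced B.hom] [ConnectedSpace ↥B.left]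
      (g : Over.mk (X ↘ Spec (CommRingCat.of k)) ⟶ B), x₀ ≫ g = η[B] → ∃! h : A ⟶ B, IsMonHom h ∧ alb ≫ h = g)
    (A' : Over (Spec (CommRingCat.of k))) [GrpObj A'] [IsProper A'.hom] [GeometricallyReduced A'.hom] [ConnectedSpace ↥A'.left]
    (φ : Over.mk (X ↘ Spec (CommRingCat.of k)) ⟶ A') :
    ∃ h : A ⟶ A', IsMonHom h ∧ (alb ≫ h) * (toUnit (Over.mk (X ↘ Spec (CommRingCat.of k))) ≫ x₀ ≫ φ) = φ ∧
      ∀ g : A ⟶ A', alb ≫ g = φ → g = h * (toUnit A ≫ x₀ ≫ φ) := by
  exact main k (Over.mk (X ↘ Spec (CommRingCat.of k))) x₀ A alb halb huniv A' φ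

end Groth.Agent.S14826
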