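import Groth.Statements.S14834
import Mathlib
-- import your own Groth.Agent.* helpers here

set_option autoImplicit false
universe u
open CategoryTheory MonoidalCategory CartesianMonoidalCategory MonObj GrpObj AlgebraicGeometry
open AbVar

namespace Groth.Agent.S14834

section H
open CategoryTheory.Limits
namespace W6

/-- cancellation: a morphism `r` that is qc with all `app U` iso is "epi" for maps into separated -/
theorem cancel_of_app_iso {X Y B S : Scheme.{u}} (r : X ⟶ Y) [QuasiCompact r]
    (hr : ∀ U : Y.Opens, IsIso (r.app U)) (p : B ⟶ S) [IsSeparated p]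
    (a b : Y ⟶ B) (hab : a ≫ p = b ≫ p) (h : r ≫ a = r ≫ b) : a = b := by
  let l : Y ⟶ pullback p p := pullback.lift a b hab
  let E := pullback (pullback.diagonal p) l
  let e : E ⟶ Y := pullback.snd _ _
  have he : IsClosedImmersion e := inferInstance
  let t : X ⟶ E := pullback.lift (r ≫ a) r (by
    apply pullback.hom_ext
    · simp only [Category.assoc, pullback.diagonal_fst, pullback.lift_fst, Category.comp_id, l]
    · simp only [Category.assoc, pullback.diagonal_snd, pullback.lift_snd, Category.comp_id, l, h])
  have ht : t ≫ e = r := pullback.lift_snd _ _ _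
  have hker : r.ker = ⊥ := by
    ext U : 2
    rw [Scheme.Hom.ker_apply]
    have := hr U.1
    simp only [Scheme.IdealSheafData.ideal_bot, Pi.bot_apply]
    rw [RingHom.ker_eq_bot_iff_eq_zero]
    intro x hx
    have hinj : Function.Injective (r.app U.1).hom :=
      ((ConcreteCategory.isIso_iff_bijective (r.app U.1)).1 this).1
    exact hinj (by rw [hx, map_zero])
  have hek : e.ker = ⊥ := by
    have h1 : e.ker ≤ (t ≫ e).ker := Scheme.Hom.le_ker_comp t e
    rw [ht, hker] at h1
    exact le_bot_iff.1 h1
  have hiso : IsIso e := IsClosedImmersion.isIso_iff_ker_eq_bot.2 hek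
  have h3 : e ≫ a = e ≫ b := by
    have c : pullback.fst (pullback.diagonal p) l ≫ pullback.diagonal p = e ≫ l := pullback.condition
    have c1 := congrArg (· ≫ pullback.fst p p) c
    have c2 := congrArg (· ≫ pullback.snd p p) c
    simp only [Category.assoc, pullback.diagonal_fst, pullback.diagonal_snd, Category.comp_id, l,
      pullback.lift_fst, pullback.lift_snd] at c1 c2
    rw [← c1, ← c2]
  exact (cancel_epi e).1 h3

end W6


end H

/-- Let k be a field, X a proper k-scheme with H^0(X, O_X) = k (k → Γ(X, O_X) bijective) and a
k-rational point x₀, and alb : X → A the Albanese morphism (A an abelian variety — proper,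
geometrically integral group scheme — with alb(x₀) = 0, universal among pointed k-morphisms from X
to geometrically reduced, connected, proper group schemes). Let X → Y → A be a Stein factorisation
of alb: Y proper over k, r : X → Y a k-morphism with O_Y → r_*O_X an isomorphism, s : Y → A finite
with r ≫ s = alb. Then s is the Albanese morphism of Y pointed at r(x₀): for every abelian variety B
and every k-morphism g : Y → B with g(r(x₀)) = 0 there is a unique homomorphism h : A → B with s ≫ h
= g. (The published statement has no rational point and also identifies the maximal abelian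
subschemes of the Picard schemes of the Albanese, of Y and of X by pullback; this row is the pointed
statement about the Albanese of Y only.) -/
theorem result (k : Type u) [Field k] (X Y : Over (Spec (CommRingCat.of k)))
    [IsProper X.hom] [IsProper Y.hom] (h0 : Function.Bijective (X.hom.appTop).hom)
    (x₀ : 𝟙_ (Over (Spec (CommRingCat.of k))) ⟶ X)
    (A : Over (Spec (CommRingCat.of k))) [GrpObj A] [IsProper A.hom] [GeometricallyIntegral A.hom]
    (alb : X ⟶ A) (halb : x₀ ≫ alb = η[A])
    (huniv : ∀ (B : Over (Spec (CommRingCat.of k))) [GrpObj B] [IsProper B.hom] [GeometricallyReduced B.hom] [ConnectedSpace ↥B.left]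
      (g : X ⟶ B), x₀ ≫ g = η[B] → ∃! h : A ⟶ B, IsMonHom h ∧ alb ≫ h = g)
    (r : X ⟶ Y) (hr : ∀ U : Y.left.Opens, IsIso (r.left.app U)) (s : Y ⟶ A) [IsFinite s.left]
    (hrs : r ≫ s = alb)
    (B : Over (Spec (CommRingCat.of k))) [GrpObj B] [IsProper B.hom] [GeometricallyReduced B.hom] [ConnectedSpace ↥B.left]
    (g : Y ⟶ B) (hg : x₀ ≫ r ≫ g = η[B]) :
    ∃! h : A ⟶ B, IsMonHom h ∧ s ≫ h = g := by
  obtain ⟨h, ⟨hmon, hh⟩, huniq⟩ := huniv B (r ≫ g) hg
  have hqc : QuasiCompact r.left := by
    have h1 : QuasiCompact (r.left ≫ Y.hom) := by rw [Over.w r]; infer_instance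
    exact MorphismProperty.of_postcomp (W := @QuasiCompact) (W' := @QuasiSeparated)
      r.left Y.hom inferInstance h1
  have hcancel : ∀ a b : Y ⟶ B, r ≫ a = r ≫ b → a = b := by
    intro a b hab
    apply Over.OverMorphism.ext
    apply W6.cancel_of_app_iso r.left hr B.hom a.left b.left (by rw [Over.w a, Over.w b])
    have := congrArg CommaMorphism.left hab
    simpa using this
  refine ⟨h, ⟨hmon, ?_⟩, ?_⟩
  · apply hcancel
    rw [← Category.assoc, hrs, hh]
  · rintro h' ⟨hmon', hh'⟩
    apply huniq
    refine ⟨hmon', ?_⟩
    rw [← hrs, Category.assoc, hh']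

end Groth.Agent.S14834
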