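import Groth.Statements.S14839
-- import your own Groth.Agent.* helpers here
import Groth.Agent.Lib.Helper26.CoalgFin

set_option autoImplicit false
universe u v
open HopfRep

namespace Groth.Agent.S14839

open TensorProduct in
/-- Over a field K, every simple coalgebra is finite-dimensional. Here a subcoalgebra of C is a subspace
B whose comultiplication lands in the image of B ⊗ B in C ⊗ C, and C is simple when it is nonzero
and its only subcoalgebras are 0 and C. -/
theorem result {K : Type u} {C : Type v} [Field K] [AddCommGroup C]
    [Module K C] [Coalgebra K C] [Nontrivial C]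
    (hsimple : ∀ B : Submodule K C,
      (∀ b ∈ B, CoalgebraStruct.comul (R := K) b ∈ LinearMap.range (TensorProduct.map B.subtype B.subtype)) →
        B = ⊥ ∨ B = ⊤) :
    Module.Finite K C := by
  obtain ⟨c, hc⟩ := exists_ne (0 : C)
  have h1 := Groth.Agent.Lib.Helper26.Comod.isSubcoalg_cogen (k := K) c
  have h2 := Groth.Agent.Lib.Helper26.Comod.finite_cogen (k := K) c
  have h3 := Groth.Agent.Lib.Helper26.Comod.mem_cogen (k := K) c
  rcases hsimple _ h1 with h | h
  · exfalso
    rw [h] at h3
    exact hc ((Submodule.mem_bot K).mp h3)
  · rw [h] at h2
    exact Module.Finite.equiv (Submodule.topEquiv (R := K) (M := C))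

end Groth.Agent.S14839
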