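import Groth.Statements.S1484
import Mathlib.RingTheory.Algebraic.Integral
import Mathlib.Tactic.FieldSimp
import Mathlib.RingTheory.Ideal.Operations

set_option autoImplicit false
universe u
open FlatMor

namespace Groth.Agent.S1484

/-- Let R be a ring, p_1, …, p_r primes of R none of which is contained in another, k_i ⊆ κ(p_i)
subfields over which κ(p_i) is not algebraic, and J an ideal of R contained in none of the p_i. Then
some x ∈ J has image in κ(p_i) transcendental over k_i for every i. -/
theorem result {R : Type u} [CommRing R] {r : ℕ} (p : Fin r → Ideal R) [∀ i, (p i).IsPrime]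
    (hp : ∀ i j, i ≠ j → ¬ p i ≤ p j) (k : ∀ i, Subfield (p i).ResidueField)
    (hk : ∀ i, ¬ Algebra.IsAlgebraic ↥(k i) (p i).ResidueField) (J : Ideal R) (hJ : ∀ i, ¬ J ≤ p i) :
    ∃ x ∈ J, ∀ i, Transcendental ↥(k i) (algebraMap R (p i).ResidueField x) := by
  classical
  have h1 : ∀ i, ∃ a : R, Transcendental ↥(k i) (algebraMap R (p i).ResidueField a) := by
    intro i
    by_contra hcon
    push Not at hcon
    apply hk i
    refine ⟨fun z => ?_⟩
    obtain ⟨a, b, hb, rfl⟩ := IsFractionRing.div_surjective (A := R ⧸ p i) z
    obtain ⟨a, rfl⟩ := Ideal.Quotient.mk_surjective a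
    obtain ⟨b, rfl⟩ := Ideal.Quotient.mk_surjective b
    have ha : IsAlgebraic (k i) (algebraMap R (p i).ResidueField a) := by
      have := hcon a
      rwa [Transcendental, not_not] at this
    have hb' : IsAlgebraic (k i) (algebraMap R (p i).ResidueField b) := by
      have := hcon b
      rwa [Transcendental, not_not] at this
    have e1 : algebraMap (R ⧸ p i) (p i).ResidueField (Ideal.Quotient.mk (p i) a) =
        algebraMap R (p i).ResidueField a := by
      rw [← Ideal.Quotient.algebraMap_eq, ← IsScalarTower.algebraMap_apply]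
    have e2 : algebraMap (R ⧸ p i) (p i).ResidueField (Ideal.Quotient.mk (p i) b) =
        algebraMap R (p i).ResidueField b := by
      rw [← Ideal.Quotient.algebraMap_eq, ← IsScalarTower.algebraMap_apply]
    rw [e1, e2, div_eq_mul_inv]
    exact IsAlgebraic.mul ha (IsAlgebraic.inv_iff.mpr hb')
  choose a ha using h1
  have h2 : ∀ i, ∃ x ∈ J, x ∉ p i ∧ ∀ j, j ≠ i → x ∈ p j := by
    intro i
    by_contra hcon
    push Not at hcon
    have hle : J * ∏ j ∈ Finset.univ.erase i, p j ≤ p i := by
      intro x hx
      by_contra hxi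
      obtain ⟨j, hji, hxj⟩ := hcon x (Ideal.mul_le_left hx) hxi
      apply hxj
      have h3 : x ∈ ∏ j ∈ Finset.univ.erase i, p j := Ideal.mul_le_right hx
      have h4 : x ∈ (Finset.univ.erase i).inf p := Ideal.prod_le_inf h3
      have h5 : (Finset.univ.erase i).inf p ≤ p j :=
        Finset.inf_le (Finset.mem_erase.mpr ⟨hji, Finset.mem_univ j⟩)
      exact h5 h4
    have hpi : (p i).IsPrime := inferInstance
    rcases (Ideal.IsPrime.mul_le hpi).mp hle with h | h
    · exact hJ i h
    · obtain ⟨j, hj, hle'⟩ := (Ideal.IsPrime.prod_le hpi).mp h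
      exact hp j i (Finset.ne_of_mem_erase hj) hle'
  choose x hxJ hxi hxj using h2
  let y : Fin r → R := fun i =>
    if IsAlgebraic (k i) (algebraMap R (p i).ResidueField (x i)) then a i else 1
  refine ⟨∑ i, x i * y i, sum_mem (fun i _ => Ideal.mul_mem_right _ _ (hxJ i)),
    fun i => ?_⟩
  have himg : algebraMap R (p i).ResidueField (∑ j, x j * y j) =
      algebraMap R (p i).ResidueField (x i) * algebraMap R (p i).ResidueField (y i) := by
    rw [map_sum, Finset.sum_eq_single i]
    · rw [map_mul]
    · intro j _ hji
      rw [map_mul, Ideal.algebraMap_residueField_eq_zero.mpr (hxj j i hji.symm), zero_mul]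
    · simp
  rw [himg]
  have hne : algebraMap R (p i).ResidueField (x i) ≠ 0 := fun h =>
    hxi i (Ideal.algebraMap_residueField_eq_zero.mp h)
  by_cases halg : IsAlgebraic (k i) (algebraMap R (p i).ResidueField (x i))
  · simp only [y, if_pos halg]
    intro hmul
    apply ha i
    have : algebraMap R (p i).ResidueField (a i) = (algebraMap R (p i).ResidueField (x i))⁻¹ *
        (algebraMap R (p i).ResidueField (x i) * algebraMap R (p i).ResidueField (a i)) := by
      field_simp
    rw [this]
    exact IsAlgebraic.mul (IsAlgebraic.inv_iff.mpr halg) hmul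
  · simp only [y, if_neg halg, map_one, mul_one]
    exact halg

end Groth.Agent.S1484
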