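import Groth.Statements.S14846
import Mathlib

set_option autoImplicit false
universe u v w
open Brauer

namespace Groth.Agent.S14846

section helpers
open TensorProduct

variable {K : Type u} {L : Type v} [Field K] [Field L] [Algebra K L]
  {A : Type w} [Ring A] [Algebra K A]

/-- The automorphism of `L ⊗ A` induced by `γ`. -/
noncomputable def Φ (γ : L ≃ₐ[K] L) : (L ⊗[K] A) ≃ₐ[K] (L ⊗[K] A) :=
  Algebra.TensorProduct.congr γ (AlgEquiv.refl : A ≃ₐ[K] A)

lemma Φ_apply (γ : L ≃ₐ[K] L) (x : L ⊗[K] A) :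
    Φ γ x = Algebra.TensorProduct.map (γ : L →ₐ[K] L) (AlgHom.id K A) x := rfl

@[simp] lemma Φ_tmul (γ : L ≃ₐ[K] L) (l : L) (a : A) : Φ γ (l ⊗ₜ[K] a) = γ l ⊗ₜ a := by
  simp [Φ]

lemma Φ_mul (δ γ : L ≃ₐ[K] L) (x : L ⊗[K] A) : Φ (δ * γ) x = Φ δ (Φ γ x) := by
  induction x using TensorProduct.induction_on with
  | zero => simp
  | tmul l a => simp
  | add x y hx hy => simp [map_add, hx, hy]

theorem one_mem_of_stable [IsGalois K L] [IsSimpleRing A] (W : TwoSidedIdeal (L ⊗[K] A)) (hW : W ≠ ⊥)
    (hstab : ∀ (γ : L ≃ₐ[K] L) (w : L ⊗[K] A), w ∈ W → Φ γ w ∈ W) : (1 : L ⊗[K] A) ∈ W := by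
  classical
  let b := Module.Free.chooseBasis K A
  let B := b.baseChange L
  have hrepr : ∀ (γ : L ≃ₐ[K] L) (w : L ⊗[K] A) (i), B.repr (Φ γ w) i = γ (B.repr w i) := by
    intro γ w i
    induction w using TensorProduct.induction_on with
    | zero => simp
    | tmul l a =>
      rw [Φ_tmul, Module.Basis.baseChange_repr_tmul, Module.Basis.baseChange_repr_tmul, map_smul]
    | add x y hx hy => simp [map_add, hx, hy]
  have hsmul : ∀ (c : L) (w : L ⊗[K] A), w ∈ W → c • w ∈ W := by
    intro c w hw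
    rw [Algebra.smul_def]
    exact W.mul_mem_left _ _ hw
  have key : ∀ m : ℕ, ∀ w ∈ W, w ≠ 0 → (B.repr w).support.card = m →
      ∃ a : A, a ≠ 0 ∧ (1 : L) ⊗ₜ[K] a ∈ W := by
    intro m
    induction m using Nat.strong_induction_on with
    | _ m ih =>
      intro w hw hw0 hcard
      have hsupp : (B.repr w).support.Nonempty := by
        rw [Finsupp.support_nonempty_iff]
        intro h; apply hw0; exact B.repr.map_eq_zero_iff.mp h
      obtain ⟨i₀, hi₀⟩ := hsupp
      set c₀ := B.repr w i₀ with hc₀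
      have hc₀0 : c₀ ≠ 0 := Finsupp.mem_support_iff.mp hi₀
      set w' := c₀⁻¹ • w with hw'
      have hw'W : w' ∈ W := hsmul _ _ hw
      have hw'0 : w' ≠ 0 := smul_ne_zero (inv_ne_zero hc₀0) hw0
      have hrepr' : B.repr w' = c₀⁻¹ • B.repr w := map_smul _ _ _
      have hsupp' : (B.repr w').support = (B.repr w).support := by
        rw [hrepr', Finsupp.support_smul_eq (inv_ne_zero hc₀0)]
      have hi₀' : B.repr w' i₀ = 1 := by
        rw [hrepr', Finsupp.smul_apply, ← hc₀, smul_eq_mul, inv_mul_cancel₀ hc₀0]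
      by_cases hfix : ∀ (γ : L ≃ₐ[K] L) (i), γ (B.repr w' i) = B.repr w' i
      · have hk : ∀ i, ∃ k : K, algebraMap K L k = B.repr w' i := fun i =>
          (InfiniteGalois.mem_range_algebraMap_iff_fixed _).mpr (fun γ => hfix γ i)
        choose k hk using hk
        have hsum : (1 : L) ⊗ₜ[K] (∑ i ∈ (B.repr w').support, k i • b i) = w' := by
          conv_rhs => rw [← B.linearCombination_repr w', Finsupp.linearCombination_apply,
            Finsupp.sum]
          rw [TensorProduct.tmul_sum]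
          refine Finset.sum_congr rfl fun i _ => ?_
          rw [TensorProduct.tmul_smul, ← hk i, algebraMap_smul, Module.Basis.baseChange_apply]
        refine ⟨∑ i ∈ (B.repr w').support, k i • b i, ?_, ?_⟩
        · intro h0
          rw [h0, TensorProduct.tmul_zero] at hsum
          exact hw'0 hsum.symm
        · rw [hsum]; exact hw'W
      · push Not at hfix
        obtain ⟨γ, i, hγi⟩ := hfix
        set u := Φ γ w' - w' with hu
        have huW : u ∈ W := W.sub_mem (hstab γ w' hw'W) hw'W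
        have hu_repr : ∀ j, B.repr u j = γ (B.repr w' j) - B.repr w' j := by
          intro j; rw [hu, map_sub, Finsupp.sub_apply, hrepr]
        have hu0 : u ≠ 0 := by
          intro h
          apply hγi
          have := hu_repr i
          rw [h, map_zero, Finsupp.zero_apply] at this
          exact (sub_eq_zero.mp this.symm)
        have hsub : (B.repr u).support ⊆ (B.repr w').support.erase i₀ := by
          intro j hj
          rw [Finsupp.mem_support_iff, hu_repr] at hj
          rw [Finset.mem_erase, Finsupp.mem_support_iff]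
          refine ⟨?_, ?_⟩
          · rintro rfl; apply hj; rw [hi₀', map_one, sub_self]
          · intro h0; apply hj; rw [h0, map_zero, sub_self]
        have hlt : (B.repr u).support.card < m := by
          calc (B.repr u).support.card ≤ ((B.repr w').support.erase i₀).card :=
                Finset.card_le_card hsub
            _ < (B.repr w').support.card :=
                Finset.card_erase_lt_of_mem (hsupp' ▸ hi₀)
            _ = m := by rw [hsupp', hcard]
        exact ih _ hlt u huW hu0 rfl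
  have hex : ∃ w ∈ W, w ≠ 0 := by
    by_contra h
    push Not at h
    apply hW
    rw [eq_bot_iff]
    intro x hx
    rw [h x hx]; exact zero_mem _
  obtain ⟨w, hw, hw0⟩ := hex
  obtain ⟨a, ha0, haW⟩ := key _ w hw hw0 rfl
  let W₀ : TwoSidedIdeal A :=
    W.comap (Algebra.TensorProduct.includeRight : A →ₐ[K] L ⊗[K] A)
  have haW₀ : a ∈ W₀ := by
    rw [TwoSidedIdeal.mem_comap]; exact haW
  have h1 : (1 : A) ∈ W₀ := IsSimpleRing.one_mem_of_ne_zero_mem W₀ ha0 haW₀
  rw [TwoSidedIdeal.mem_comap, map_one] at h1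
  exact h1


end helpers

open TensorProduct in
/-- Let L/K be a Galois extension with group Γ = Aut_K(L), and A a K-algebra which is a simple ring. If
L ⊗_K A is semisimple, then Γ, acting on L ⊗_K A through the first tensor factor, permutes its
simple components, i.e. its minimal nonzero two-sided ideals, transitively: any minimal two-sided
ideal is carried onto any other by some γ ⊗ id. -/
theorem result
    {K : Type u} {L : Type v} [Field K] [Field L] [Algebra K L] [IsGalois K L]
    {A : Type w} [Ring A] [Algebra K A] [IsSimpleRing A]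
    [IsSemisimpleRing (L ⊗[K] A)]
    (I J : TwoSidedIdeal (L ⊗[K] A)) (hI : IsAtom I) (hJ : IsAtom J) :
    ∃ γ : L ≃ₐ[K] L, (J : Set (L ⊗[K] A)) =
      Algebra.TensorProduct.map (γ : L →ₐ[K] L) (AlgHom.id K A) '' (I : Set (L ⊗[K] A)) := by
  classical
  let Iγ : (L ≃ₐ[K] L) → TwoSidedIdeal (L ⊗[K] A) := fun γ =>
    (Φ (A := A) γ).toRingEquiv.mapTwoSidedIdeal I
  have hmem : ∀ (γ : L ≃ₐ[K] L) (x : L ⊗[K] A), x ∈ Iγ γ ↔ (Φ (A := A) γ).symm x ∈ I := by
    intro γ x
    simp only [Iγ, RingEquiv.mapTwoSidedIdeal, OrderIso.ofHomInv_apply, TwoSidedIdeal.mem_comap]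
    rfl
  have hatom : ∀ γ, IsAtom (Iγ γ) := fun γ => (OrderIso.isAtom_iff _ _).mpr hI
  by_contra hne
  push Not at hne
  have hJne : ∀ γ, J ≠ Iγ γ := by
    intro γ h
    apply hne γ
    rw [h]
    ext x
    simp only [SetLike.mem_coe, hmem, Set.mem_image]
    constructor
    · intro hx
      exact ⟨(Φ (A := A) γ).symm x, hx, by rw [← Φ_apply]; simp⟩
    · rintro ⟨y, hy, rfl⟩
      rw [← Φ_apply]
      simpa using hy
  have hdisj : ∀ γ, J ⊓ Iγ γ = ⊥ := by
    intro γ
    rcases hJ.le_iff.mp (inf_le_left : J ⊓ Iγ γ ≤ J) with h | h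
    · exact h
    · exfalso
      have hle : J ≤ Iγ γ := inf_eq_left.mp h
      rcases (hatom γ).le_iff.mp hle with h' | h'
      · exact hJ.1 h'
      · exact hJne γ h'
  let Ann : TwoSidedIdeal (L ⊗[K] A) := TwoSidedIdeal.mk' {w | ∀ x ∈ J, x * w = 0}
    (by intro x _; exact mul_zero x)
    (by intro a b ha hb x hx; rw [mul_add, ha x hx, hb x hx, add_zero])
    (by intro a ha x hx; rw [mul_neg, ha x hx, neg_zero])
    (by intro a b hb x hx; rw [← mul_assoc]; exact hb _ (J.mul_mem_right _ _ hx))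
    (by intro a b ha x hx; rw [← mul_assoc, ha x hx, zero_mul])
  have hAnn : ∀ γ, Iγ γ ≤ Ann := by
    intro γ y hy
    rw [TwoSidedIdeal.mem_mk']
    intro x hx
    have : x * y ∈ J ⊓ Iγ γ := ⟨J.mul_mem_right _ _ hx, (Iγ γ).mul_mem_left _ _ hy⟩
    rw [hdisj] at this
    exact (TwoSidedIdeal.mem_bot _).mp this
  let W : TwoSidedIdeal (L ⊗[K] A) := ⨆ γ, Iγ γ
  have hWAnn : W ≤ Ann := iSup_le hAnn
  have hWne : W ≠ ⊥ := ne_bot_of_le_ne_bot (hatom 1).1 (le_iSup Iγ 1)
  have hstab : ∀ (δ : L ≃ₐ[K] L) (w : L ⊗[K] A), w ∈ W → Φ δ w ∈ W := by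
    intro δ w hw
    have hle : W ≤ TwoSidedIdeal.comap (Φ (A := A) δ) W := by
      refine iSup_le fun γ y hy => ?_
      rw [TwoSidedIdeal.mem_comap]
      refine (le_iSup Iγ (δ * γ)) ?_
      rw [hmem] at hy ⊢
      have : Φ (A := A) δ y = Φ (δ * γ) ((Φ (A := A) γ).symm y) := by
        rw [Φ_mul]; simp
      rw [this]
      simpa using hy
    have := hle hw
    rwa [TwoSidedIdeal.mem_comap] at this
  have hW1 : (1 : L ⊗[K] A) ∈ W := one_mem_of_stable W hWne hstab
  have h1Ann : (1 : L ⊗[K] A) ∈ Ann := hWAnn hW1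
  rw [TwoSidedIdeal.mem_mk'] at h1Ann
  apply hJ.1
  rw [eq_bot_iff]
  intro x hx
  have := h1Ann x hx
  rw [mul_one] at this
  rw [this]; exact zero_mem _

end Groth.Agent.S14846
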