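import Groth.Statements.S14848
import Mathlib.LinearAlgebra.Matrix.Charpoly.Coeff
import Mathlib.Algebra.Polynomial.FieldDivision

set_option autoImplicit false
universe u v
open McKay

namespace Groth.Agent.S14848

section aux
open Polynomial Matrix

variable {K : Type u} {L : Type v} [Field K] [Field L] [Algebra K L]

/-- the companion matrix -/
private def MM (c : K) : Matrix (Fin 2) (Fin 2) K := !![0, -1; 1, 2 * c]

private theorem MM_det (c : K) : (MM c).det = 1 := by
  simp [MM, Matrix.det_fin_two]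

private theorem MM_charpoly (c : K) : (MM c).charpoly = X ^ 2 - C (2 * c) * X + 1 := by
  rw [Matrix.charpoly_fin_two, MM_det]
  simp [MM, Matrix.trace_fin_two]

private theorem dvd_key (n : ℕ) (ξ : L) (hξn : ξ ^ n = 1) (hne : ξ ≠ ξ⁻¹) (hξ0 : ξ ≠ 0) (c : K)
    (hc : algebraMap K L (2 * c) = ξ + ξ⁻¹) :
    (X ^ 2 - C (2 * c) * X + 1 : K[X]) ∣ X ^ n - 1 := by
  rw [← Polynomial.map_dvd_map' (algebraMap K L)]
  have h1 : (X ^ 2 - C (2 * c) * X + 1 : K[X]).map (algebraMap K L) = (X - C ξ) * (X - C ξ⁻¹) := by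
    simp only [Polynomial.map_add, Polynomial.map_sub, Polynomial.map_mul, Polynomial.map_pow,
      Polynomial.map_X, Polynomial.map_C, Polynomial.map_one, hc]
    have : (C ξ * C ξ⁻¹ : L[X]) = 1 := by rw [← C_mul, mul_inv_cancel₀ hξ0, C_1]
    rw [C_add]
    linear_combination (-1 : L[X]) * this
  have h2 : (X ^ n - 1 : K[X]).map (algebraMap K L) = X ^ n - 1 := by
    simp
  rw [h1, h2]
  refine IsCoprime.mul_dvd (Polynomial.isCoprime_X_sub_C_of_isUnit_sub (sub_ne_zero.2 hne).isUnit) ?_ ?_
  · rw [Polynomial.dvd_iff_isRoot]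
    simp [hξn]
  · rw [Polynomial.dvd_iff_isRoot]
    simp [hξn]

private theorem MM_pow_n (n : ℕ) (ξ : L) (hξn : ξ ^ n = 1) (hne : ξ ≠ ξ⁻¹) (hξ0 : ξ ≠ 0) (c : K)
    (hc : algebraMap K L (2 * c) = ξ + ξ⁻¹) : (MM c) ^ n = 1 := by
  obtain ⟨q, hq⟩ := dvd_key n ξ hξn hne hξ0 c hc
  have h1 := Matrix.aeval_self_charpoly (MM c)
  rw [MM_charpoly] at h1
  have h2 := congrArg (aeval (MM c)) hq
  rw [map_mul, h1, zero_mul] at h2
  simpa [sub_eq_zero] using h2

private theorem MM_pow_eq_one (k : ℕ) (ξ : L) (hξ0 : ξ ≠ 0) (c : K)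
    (hc : algebraMap K L (2 * c) = ξ + ξ⁻¹) (h : (MM c) ^ k = 1) : ξ ^ k = 1 := by
  set ML : Matrix (Fin 2) (Fin 2) L := (MM c).map (algebraMap K L) with hML
  have hMLk : ML ^ k = 1 := by
    have := congrArg (fun N : Matrix (Fin 2) (Fin 2) K => N.map (algebraMap K L)) h
    beta_reduce at this
    rw [← RingHom.mapMatrix_apply, map_pow, RingHom.mapMatrix_apply] at this
    rw [this]
    simp
  set v : Fin 2 → L := ![1, -ξ] with hv
  have hev : ML.mulVec v = ξ • v := by
    have hc' : algebraMap K L 2 * algebraMap K L c = ξ + ξ⁻¹ := by rw [← map_mul]; exact hc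
    ext i
    fin_cases i
    · simp [ML, MM, v, Matrix.mulVec, dotProduct, Fin.sum_univ_two]
    · simp [ML, MM, v, Matrix.mulVec, dotProduct, Fin.sum_univ_two]
      rw [hc']
      field_simp
      ring
  have hpow : ∀ j : ℕ, (ML ^ j).mulVec v = ξ ^ j • v := by
    intro j
    induction j with
    | zero => simp
    | succ j ih =>
      rw [pow_succ, ← Matrix.mulVec_mulVec, hev, Matrix.mulVec_smul, ih, smul_smul, pow_succ, mul_comm]
  have := hpow k
  rw [hMLk, Matrix.one_mulVec] at this
  have h0 := congrFun this 0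
  simpa [v] using h0.symm

end aux

/-- Let K be a field of characteristic zero, L an extension field of K and ξ ∈ L a primitive n-th root
of unity (n ≥ 1) with ξ + ξ⁻¹ ∈ K, say ξ + ξ⁻¹ = 2c with c ∈ K (the character of the natural
two-dimensional representation of the cyclic group of order n takes values in K). Then the cyclic
group of order n is realisable over K as a subgroup of SL(2, K): there is an element of SL(2, K) of
order n. -/
theorem result {K : Type u} {L : Type v} [Field K] [Field L]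
    [CharZero K] [Algebra K L] (n : ℕ) (hn : 1 ≤ n) (ξ : L) (hξ : IsPrimitiveRoot ξ n) (c : K)
    (hc : algebraMap K L (2 * c) = ξ + ξ⁻¹) :
    ∃ M : Matrix.SpecialLinearGroup (Fin 2) K, orderOf M = n := by
  have hξ0 : ξ ≠ 0 := hξ.ne_zero (by omega)
  rcases Nat.lt_or_ge n 3 with hlt | hge
  · -- n = 1 or 2
    have : n = 1 ∨ n = 2 := by omega
    rcases this with rfl | rfl
    · exact ⟨1, orderOf_one⟩
    · let N0 : Matrix.SpecialLinearGroup (Fin 2) K :=
        ⟨(!![-1, 0; 0, -1] : Matrix (Fin 2) (Fin 2) K), by simp [Matrix.det_fin_two]⟩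
      have hN0 : (N0 : Matrix (Fin 2) (Fin 2) K) = !![-1, 0; 0, -1] := rfl
      refine ⟨N0, ?_⟩
      apply orderOf_eq_prime
      · apply Subtype.ext
        rw [Matrix.SpecialLinearGroup.coe_pow, Matrix.SpecialLinearGroup.coe_one, hN0, pow_two]
        ext i j
        fin_cases i <;> fin_cases j <;> simp [Matrix.mul_apply, Fin.sum_univ_two]
      · intro h
        have h1 : (N0 : Matrix (Fin 2) (Fin 2) K) 0 0 = (1 : Matrix (Fin 2) (Fin 2) K) 0 0 := by
          rw [h]; rfl
        rw [hN0] at h1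
        have h2 : (-1 : K) = 1 := by simpa using h1
        have h3 : (2 : K) = 0 := by linear_combination (-1 : K) * h2
        exact two_ne_zero h3
  · -- n ≥ 3
    have hne : ξ ≠ ξ⁻¹ := by
      intro h
      have h2 : ξ ^ 2 = 1 := by
        rw [pow_two]
        nth_rewrite 2 [h]
        exact mul_inv_cancel₀ hξ0
      have := hξ.dvd_of_pow_eq_one 2 h2
      have := Nat.le_of_dvd (by omega) this
      omega
    let M0 : Matrix.SpecialLinearGroup (Fin 2) K := ⟨MM c, MM_det c⟩
    have hM0 : (M0 : Matrix (Fin 2) (Fin 2) K) = MM c := rfl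
    refine ⟨M0, ?_⟩
    have hnpos : 0 < n := by omega
    rw [orderOf_eq_iff hnpos]
    constructor
    · apply Subtype.ext
      rw [Matrix.SpecialLinearGroup.coe_pow, Matrix.SpecialLinearGroup.coe_one, hM0]
      exact MM_pow_n n ξ hξ.pow_eq_one hne hξ0 c hc
    · intro m hm hm0 h
      have h1 : (MM c) ^ m = 1 := by
        have := congrArg Subtype.val h
        rw [Matrix.SpecialLinearGroup.coe_pow, Matrix.SpecialLinearGroup.coe_one, hM0] at this
        exact this
      have h2 := MM_pow_eq_one m ξ hξ0 c hc h1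
      have := Nat.le_of_dvd hm0 (hξ.dvd_of_pow_eq_one m h2)
      omega

end Groth.Agent.S14848
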