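import Groth.Statements.S14849
import Mathlib

set_option autoImplicit false
universe u v
open McKay

namespace Groth.Agent.S14849

open QuaternionGroup Matrix


theorem exists_injective_hom {G : Type*} [Group G] {n : ℕ} (hn : 2 ≤ n) (s t : G)
    (hs : orderOf s = 2 * n) (ht : t * t = s ^ n) (hst : s * t * s = t) :
    ∃ f : QuaternionGroup n →* G, Function.Injective f := by
  have : NeZero (2 * n) := ⟨by omega⟩
  -- E i = s ^ i.val
  let E : ZMod (2 * n) → G := fun i => s ^ i.val
  have hE_add : ∀ i j, E (i + j) = E i * E j := by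
    intro i j
    simp only [E]
    rw [← pow_add, ZMod.val_add]
    have := pow_mod_orderOf s (i.val + j.val)
    rw [hs] at this
    exact this
  have hE_zero : E 0 = 1 := by simp [E]
  have hE_sub : ∀ i j, E (j - i) = (E i)⁻¹ * E j := by
    intro i j
    have := hE_add i (j - i)
    rw [add_sub_cancel] at this
    rw [this, inv_mul_cancel_left]
  have hE_n : E (n : ZMod (2 * n)) = s ^ n := by
    simp only [E]
    rw [ZMod.val_natCast, Nat.mod_eq_of_lt (by omega)]
  have hsemi : ∀ m : ℕ, s ^ m * t = t * (s ^ m)⁻¹ := by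
    have h1 : SemiconjBy t s⁻¹ s := by
      change t * s⁻¹ = s * t
      calc t * s⁻¹ = (s * t * s) * s⁻¹ := by rw [hst]
        _ = s * t := by group
    intro m
    have := h1.pow_right m
    rw [inv_pow] at this
    exact this.eq.symm
  have hEt : ∀ i, E i * t = t * (E i)⁻¹ := fun i => hsemi _
  have hE_one : ∀ i, E i = 1 → i = 0 := by
    intro i hi
    simp only [E] at hi
    have h1 := orderOf_dvd_of_pow_eq_one hi
    rw [hs] at h1
    have h2 := ZMod.val_lt i
    have h3 : i.val = 0 := Nat.eq_zero_of_dvd_of_lt h1 h2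
    exact (ZMod.val_eq_zero i).mp h3
  let f : QuaternionGroup n → G := fun g => match g with
    | a i => E i
    | xa i => t * E i
  have hf_mul : ∀ g h, f (g * h) = f g * f h := by
    rintro (i | i) (j | j)
    · simp only [a_mul_a, f]; exact hE_add i j
    · simp only [a_mul_xa, f]
      rw [hE_sub, ← mul_assoc (E i), hEt, mul_assoc]
    · simp only [xa_mul_a, f]
      rw [hE_add, mul_assoc]
    · simp only [xa_mul_xa, f]
      rw [add_sub_assoc, hE_add, hE_n, hE_sub, ← ht]
      have := hEt i
      calc t * t * ((E i)⁻¹ * E j) = t * (t * (E i)⁻¹) * E j := by group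
        _ = t * (E i * t) * E j := by rw [this]
        _ = t * E i * (t * E j) := by group
  refine ⟨MonoidHom.mk' f hf_mul, ?_⟩
  rw [injective_iff_map_eq_one]
  rintro (i | i) hg
  · change E i = 1 at hg
    rw [hE_one i hg, a_zero]
  · exfalso
    change t * E i = 1 at hg
    -- t = (E i)⁻¹ commutes with s
    have ht' : t = (E i)⁻¹ := eq_inv_of_mul_eq_one_left hg
    have hcomm : s * t = t * s := by
      rw [ht']
      simp only [E]
      rw [← inv_pow]
      exact ((Commute.refl s).inv_right.pow_right _).eq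
    have hs2 : s ^ 2 = 1 := by
      have : s * t * s = t * s * s := by rw [hcomm]
      rw [hst] at this
      have h2 : t * 1 = t * (s * s) := by rw [mul_one, ← mul_assoc]; exact this
      have := mul_left_cancel h2
      rw [sq]; exact this.symm
    have := orderOf_dvd_of_pow_eq_one hs2
    rw [hs] at this
    have := Nat.le_of_dvd (by norm_num) this
    omega



theorem matrix_facts {K L : Type*} [Field K] [Field L] [Algebra K L] (n : ℕ) (hn : 2 ≤ n) (ξ : L)
    (hξ : IsPrimitiveRoot ξ (2 * n)) (c : K) (hc : algebraMap K L (2 * c) = ξ + ξ⁻¹) :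
    (!![c, c ^ 2 - 1; 1, c] : Matrix (Fin 2) (Fin 2) K) ^ n = -1 ∧
    ∀ m : ℕ, (!![c, c ^ 2 - 1; 1, c] : Matrix (Fin 2) (Fin 2) K) ^ m = 1 → 2 * n ∣ m := by
  set φ := algebraMap K L with hφ
  set c' := φ c with hc'
  set η := ξ⁻¹ with hη
  have hξ0 : ξ ≠ 0 := hξ.ne_zero (by omega)
  have hξη : ξ * η = 1 := mul_inv_cancel₀ hξ0
  have h2c : 2 * c' = ξ + η := by
    rw [← hc, map_mul, map_ofNat]
  set Sm : Matrix (Fin 2) (Fin 2) K := !![c, c ^ 2 - 1; 1, c] with hSm
  set SL : Matrix (Fin 2) (Fin 2) L := !![c', c' ^ 2 - 1; 1, c'] with hSL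
  have hmap : φ.mapMatrix Sm = SL := by
    ext i j
    fin_cases i <;> fin_cases j <;> simp [Sm, SL, c']
  set P : Matrix (Fin 2) (Fin 2) L := !![1, ξ - c'; 1, η - c'] with hP
  set Λ : Matrix (Fin 2) (Fin 2) L := Matrix.diagonal ![ξ, η] with hΛ
  have hsemi : SemiconjBy P SL Λ := by
    change P * SL = Λ * P
    ext i j
    fin_cases i <;> fin_cases j
    · simp [P, SL, Λ, Matrix.mul_apply, Fin.sum_univ_two]
    · simp [P, SL, Λ, Matrix.mul_apply, Fin.sum_univ_two]
      linear_combination ξ * h2c + hξη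
    · simp [P, SL, Λ, Matrix.mul_apply, Fin.sum_univ_two]
    · simp [P, SL, Λ, Matrix.mul_apply, Fin.sum_univ_two]
      linear_combination η * h2c + hξη
  have hpow : ∀ m : ℕ, P * SL ^ m = (Matrix.diagonal ![ξ ^ m, η ^ m] : Matrix (Fin 2) (Fin 2) L) * P := by
    intro m
    have := (hsemi.pow_right m).eq
    rw [this, hΛ, Matrix.diagonal_pow]
    congr 2
    ext i; fin_cases i <;> simp
  have hmap_pow : ∀ m : ℕ, φ.mapMatrix (Sm ^ m) = SL ^ m := by
    intro m; rw [map_pow, hmap]
  have hinj : Function.Injective (φ.mapMatrix : Matrix (Fin 2) (Fin 2) K →+* Matrix (Fin 2) (Fin 2) L) := by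
    intro A B hAB
    ext i j
    have := congrFun (congrFun hAB i) j
    simp only [RingHom.mapMatrix_apply, Matrix.map_apply] at this
    exact (algebraMap K L).injective this
  refine ⟨?_, ?_⟩
  · -- S^n = -1
    have hn0 : n ≠ 0 := by omega
    have h2 : IsPrimitiveRoot (ξ ^ n) 2 := by
      have := hξ.pow_of_dvd hn0 (dvd_mul_left n 2)
      rwa [Nat.mul_div_cancel _ (by omega : 0 < n)] at this
    have hξn : ξ ^ n = -1 := h2.eq_neg_one_of_two_right
    have hηn : η ^ n = -1 := by
      rw [hη, inv_pow, hξn]; norm_num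
    have h3 := hpow n
    rw [hξn, hηn] at h3
    have hd : (Matrix.diagonal ![(-1 : L), -1] : Matrix (Fin 2) (Fin 2) L) = -1 := by
      ext i j
      fin_cases i <;> fin_cases j <;> simp
    rw [hd] at h3
    have hdet : IsUnit P.det := by
      rw [isUnit_iff_ne_zero, hP, Matrix.det_fin_two_of]
      intro h0
      have h4 : ξ = η := by linear_combination -h0
      have h5 : ξ ^ 2 = 1 := by rw [sq]; nth_rewrite 2 [h4]; exact hξη
      have := hξ.dvd_of_pow_eq_one 2 h5
      have := Nat.le_of_dvd (by norm_num) this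
      omega
    have h6 : SL ^ n = -1 := by
      have : P⁻¹ * (P * SL ^ n) = P⁻¹ * (-1 * P) := by rw [h3]
      rw [← Matrix.mul_assoc, Matrix.nonsing_inv_mul _ hdet, Matrix.one_mul, neg_one_mul,
        Matrix.mul_neg, Matrix.nonsing_inv_mul _ hdet] at this
      exact this
    apply hinj
    rw [hmap_pow, h6, map_neg, map_one]
  · intro m hm
    have h1 : SL ^ m = 1 := by rw [← hmap_pow, hm, map_one]
    have h3 := hpow m
    rw [h1, Matrix.mul_one] at h3
    have h4 := congrFun (congrFun h3 0) 0
    simp [P, Matrix.mul_apply, Fin.sum_univ_two] at h4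
    exact hξ.dvd_of_pow_eq_one m h4.symm


/-- Let K be a field of characteristic zero, L an extension field of K, n ≥ 2, and ξ ∈ L a primitive
2n-th root of unity with ξ + ξ⁻¹ = 2c for some c ∈ K. If the Hilbert symbol of -1 and c² - 1 over K
equals 1, i.e. x² - (c² - 1) y² = -1 has a solution in K, then the binary dihedral group of order 4n
(generators σ, τ with τ² = σⁿ = (τσ)²) is isomorphic to a subgroup of SL(2, K). (The published
statement is an equivalence; this row is the direction realising the group from a solution of the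
conic.) -/
theorem result {K : Type u} {L : Type v}
    [Field K] [Field L] [CharZero K] [Algebra K L] (n : ℕ) (hn : 2 ≤ n) (ξ : L)
    (hξ : IsPrimitiveRoot ξ (2 * n)) (c : K) (hc : algebraMap K L (2 * c) = ξ + ξ⁻¹)
    (hsol : ∃ x y : K, x ^ 2 - (c ^ 2 - 1) * y ^ 2 = -1) :
    ∃ f : QuaternionGroup n →* Matrix.SpecialLinearGroup (Fin 2) K, Function.Injective f := by
  obtain ⟨x, y, hxy⟩ := hsol
  obtain ⟨hSn, hSord⟩ := matrix_facts n hn ξ hξ c hc
  set Sm : Matrix (Fin 2) (Fin 2) K := !![c, c ^ 2 - 1; 1, c] with hSm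
  set Tm : Matrix (Fin 2) (Fin 2) K := !![x, (c ^ 2 - 1) * y; -y, -x] with hTm
  have hSdet : Sm.det = 1 := by
    rw [hSm, Matrix.det_fin_two_of]; ring
  have hTdet : Tm.det = 1 := by
    rw [hTm, Matrix.det_fin_two_of]; linear_combination -hxy
  let S : Matrix.SpecialLinearGroup (Fin 2) K := ⟨Sm, hSdet⟩
  let T : Matrix.SpecialLinearGroup (Fin 2) K := ⟨Tm, hTdet⟩
  have hA : Sm * Tm * Sm = Tm := by
    ext i j
    fin_cases i <;> fin_cases j <;>
      simp [Sm, Tm, Matrix.mul_apply, Fin.sum_univ_two] <;> ring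
  have hB : Tm * Tm = -1 := by
    ext i j
    fin_cases i <;> fin_cases j <;>
      simp [Tm, Matrix.mul_apply, Fin.sum_univ_two] <;> first | linear_combination hxy | ring1
  have hpowS : ∀ m : ℕ, ((S ^ m : Matrix.SpecialLinearGroup (Fin 2) K) : Matrix (Fin 2) (Fin 2) K) = Sm ^ m :=
    fun m => Matrix.SpecialLinearGroup.coe_pow S m
  refine exists_injective_hom hn S T ?_ ?_ ?_
  · apply Nat.dvd_antisymm
    · apply orderOf_dvd_of_pow_eq_one
      apply Subtype.ext
      rw [hpowS, Matrix.SpecialLinearGroup.coe_one, mul_comm 2 n, pow_mul, hSn]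
      simp
    · apply hSord
      have := pow_orderOf_eq_one S
      have h2 := congrArg (fun A : Matrix.SpecialLinearGroup (Fin 2) K => (A : Matrix (Fin 2) (Fin 2) K)) this
      simp only [hpowS, Matrix.SpecialLinearGroup.coe_one] at h2
      exact h2
  · apply Subtype.ext
    rw [hpowS, Matrix.SpecialLinearGroup.coe_mul, hSn]
    exact hB
  · apply Subtype.ext
    rw [Matrix.SpecialLinearGroup.coe_mul, Matrix.SpecialLinearGroup.coe_mul]
    exact hA

end Groth.Agent.S14849
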