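import Groth.Statements.S1485
import Groth.Agent.Lib.lead.FibOneH

set_option autoImplicit false
universe u
open FlatMor

namespace Groth.Agent.S1485

open AlgebraicGeometry CategoryTheory Limits in
/-- Let f : X → Y be proper and y a point with fibre of dimension ≤ 1. Suppose there is a morphism g :
Y' → Y whose image contains y such that, for the base change f' : X' → Y', H^1 of the structure
sheaf vanishes over the preimage of every affine open of Y' (that is, R^1 f'_* O = 0; taking g the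
identity covers the case R^1 f_* O_X = 0). Then H^1(X_y, O_{X_y}) = 0. -/
theorem result {X Y Y' : Scheme.{u}} (f : X ⟶ Y) [IsProper f] (y : Y) (hdim : topologicalKrullDim ↑(f.fiber y) ≤ 1)
    (g : Y' ⟶ Y) (hy : y ∈ Set.range ⇑g)
    (hR1 : ∀ U : Y'.Opens, IsAffineOpen U → Subsingleton (Coh.HHon (pullback f g) (Coh.structureModule (pullback f g)) (pullback.snd f g ⁻¹ᵁ U) 1)) :
    Subsingleton (Coh.HH (f.fiber y) (Coh.structureModule (f.fiber y)) 1) := by
  obtain ⟨y', rfl⟩ := hy
  refine (Groth.Agent.Lib.lead.FibOne.subsingleton_HH_fiber_iff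
    (IsPullback.of_hasPullback f g) y' 1).1 ?_
  obtain ⟨V, hyV, hV, hE⟩ :=
    Groth.Agent.Lib.Helper21.FibVan.exists_egood_nhd f (g y') 1 hdim
  obtain ⟨U, hU, hy'U, hUV⟩ := exists_isAffineOpen_mem_and_subset (X := Y') (x := y')
    (U := g ⁻¹ᵁ V) hyV
  have hrange : Set.range (U.ι ≫ g) ⊆ Set.range V.ι := by
    rintro _ ⟨u, rfl⟩
    rw [Scheme.Opens.range_ι]
    exact hUV u.2
  let gU : (↑U : Scheme.{u}) ⟶ (↑V : Scheme.{u}) := IsOpenImmersion.lift V.ι (U.ι ≫ g) hrange
  have hgU : gU ≫ V.ι = U.ι ≫ g := IsOpenImmersion.lift_fac _ _ _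
  obtain ⟨q, hq⟩ := Groth.Agent.Lib.lead.FibOne.exists_isPullback_restrict f g U V gU hgU
  have hV' : IsAffine (↑V : Scheme.{u}) := hV
  have hU' : IsAffine (↑U : Scheme.{u}) := hU
  have hE' := Groth.Agent.Lib.lead.FibOne.egood_of_isPullback hE hq
  have hW := (Groth.Agent.Lib.lead.FibOne.subsingleton_HHon_iff _ 1).1 (hR1 U hU)
  let y'U : (↑U : Scheme.{u}) := ⟨y', hy'U⟩
  have hfibU := Groth.Agent.Lib.lead.FibOne.subsingleton_HH_baseChange
    (IsPullback.of_hasPullback (pullback.snd f g ∣_ U) ((↑U : Scheme.{u}).fromSpecResidueField y'U))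
    1 hE' hW
  exact (Groth.Agent.Lib.lead.FibOne.subsingleton_HH_fiber_iff
    (isPullback_morphismRestrict (pullback.snd f g) U).flip y'U 1).1 hfibU

end Groth.Agent.S1485
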