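import Groth.Statements.S14850
-- import your own Groth.Agent.* helpers here
import Groth.Agent.Lib.Helper26.CoalgIso4

set_option autoImplicit false
universe u v
open HopfRep

namespace Groth.Agent.S14850

open TensorProduct in
/-- Over a field K, a nonzero coalgebra C is simple if and only if C is isotypic as a right comodule
over itself, i.e. C is the internal direct sum of the images of a family of injective comodule maps
from one simple right C-comodule E. Here a subcoalgebra of C is a subspace B whose comultiplication
lands in the image of B ⊗ B, and C is simple when its only subcoalgebras are 0 and C. (Stated for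
the right regular comodule; the published statement allows left or right.) -/
theorem result {K : Type u} {C : Type v} [Field K] [AddCommGroup C]
    [Module K C] [Coalgebra K C] [Nontrivial C] :
    (∀ B : Submodule K C, (∀ b ∈ B, CoalgebraStruct.comul (R := K) b ∈ LinearMap.range (TensorProduct.map B.subtype B.subtype)) → B = ⊥ ∨ B = ⊤) ↔
    ∃ (E : Type v) (_ : AddCommGroup E) (_ : Module K E) (_ : HopfRep.Comod K C E),
      HopfRep.IsSimpleComod K C E ∧
      ∃ (ι : Type v) (f : ι → (E →ₗ[K] C)),
        (∀ i, Hoch.IsComodHom C (f i) ∧ Function.Injective (f i)) ∧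
        iSupIndep (fun i => LinearMap.range (f i)) ∧ (⨆ i, LinearMap.range (f i)) = ⊤ := by
  constructor
  · intro hsimple
    obtain ⟨E₀, hE₀, h1, ι, f, h2, h3, h4⟩ :=
      Groth.Agent.Lib.Helper26.Comod.exists_isotypic_of_simple (k := K) (A := C) hsimple
    exact ⟨↥E₀, inferInstance, inferInstance,
      ComodSub.Comod.restr (HopfRep.Comod.regular K C) E₀ hE₀, h1, ι, f, h2, h3, h4⟩
  · rintro ⟨E, _, _, _, hE, ι, f, hf, -, htop⟩ B hB
    exact Groth.Agent.Lib.Helper26.Comod.eq_bot_or_eq_top_of_isotypic hE f hf htop B hB

end Groth.Agent.S14850
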