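import Groth.Statements.S14852
-- import your own Groth.Agent.* helpers here
import Groth.Agent.Lib.Helper26.Cosemisimple

set_option autoImplicit false
universe u v w w'
open HopfRep

namespace Groth.Agent.S14852

open Groth.Agent.Lib.Helper26.Comod


open TensorProduct Groth.Agent.Lib.Helper26.Comod in
theorem lslice_mem_of_mem_range_lTensor {K : Type*} [Field K] {C : Type*} [AddCommGroup C]
    [Module K C] {W : Type*} [AddCommGroup W] [Module K W] (D : Submodule K C) (z : W ⊗[K] C)
    (hz : z ∈ LinearMap.range (LinearMap.lTensor W D.subtype)) (ψ : W →ₗ[K] K) :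
    lslice ψ z ∈ D := by
  obtain ⟨y, rfl⟩ := hz
  induction y using TensorProduct.induction_on with
  | zero => simp
  | tmul w d => simpa using D.smul_mem _ d.2
  | add x y hx hy => rw [map_add, map_add]; exact D.add_mem hx hy

open TensorProduct Groth.Agent.Lib.Helper26.Comod in
theorem eq_zero_of_lslice_eq_zero {K : Type*} [Field K] {C : Type*} [AddCommGroup C]
    [Module K C] {W : Type*} [AddCommGroup W] [Module K W] (z : W ⊗[K] C)
    (hz : ∀ ψ : W →ₗ[K] K, lslice ψ z = 0) : z = 0 := by
  apply (TensorProduct.comm K W C).injective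
  rw [map_zero]
  apply eq_zero_of_slice_eq_zero
  intro ψ
  rw [slice_comm]
  exact hz ψ

open TensorProduct Groth.Agent.Lib.Helper26.Comod in
theorem slice_mem_of_mem_range_map {K : Type*} [Field K] {C : Type*} [AddCommGroup C]
    [Module K C] (D : Submodule K C) (z : C ⊗[K] C)
    (hz : z ∈ LinearMap.range (TensorProduct.map D.subtype D.subtype)) (ψ : C →ₗ[K] K) :
    slice ψ z ∈ D := by
  obtain ⟨y, rfl⟩ := hz
  induction y using TensorProduct.induction_on with
  | zero => simp
  | tmul w d => simpa using D.smul_mem _ w.2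
  | add x y hx hy => rw [map_add, map_add]; exact D.add_mem hx hy

open TensorProduct in
/-- Over a field K, let C be a cosemisimple coalgebra and D₁ ≠ D₂ simple subcoalgebras of C. If V is a
right C-comodule whose coaction lands in V ⊗ D₁ and W one whose coaction lands in W ⊗ D₂, then the
only comodule map V → W is zero. Here a subcoalgebra of C is a subspace B whose comultiplication
lands in the image of B ⊗ B, and a simple subcoalgebra is a nonzero subcoalgebra D whose only
subcoalgebras contained in D are 0 and D; cosemisimple means C is the internal direct sum of a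
family of simple subcoalgebras. (The published statement is for quasi-coherent G-sheaves on a scheme
with trivial action of G = Spec C; this row is the statement on spaces of sections to which its
proof reduces.) -/
theorem result {K : Type u} {C : Type v} [Field K]
    [AddCommGroup C] [Module K C] [Coalgebra K C]
    (hC : ∃ (ι : Type v) (D : ι → Submodule K C), iSupIndep D ∧ iSup D = ⊤ ∧ ∀ i,
        D i ≠ ⊥ ∧ (∀ b ∈ (D i), CoalgebraStruct.comul (R := K) b ∈ LinearMap.range (TensorProduct.map (D i).subtype (D i).subtype)) ∧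
        ∀ B : Submodule K C, B ≤ D i → (∀ b ∈ B, CoalgebraStruct.comul (R := K) b ∈ LinearMap.range (TensorProduct.map B.subtype B.subtype)) → B = ⊥ ∨ B = D i)
    (D₁ D₂ : Submodule K C) (hne : D₁ ≠ D₂)
    (h₁ : D₁ ≠ ⊥ ∧ (∀ b ∈ D₁, CoalgebraStruct.comul (R := K) b ∈ LinearMap.range (TensorProduct.map D₁.subtype D₁.subtype)) ∧ ∀ B : Submodule K C, B ≤ D₁ → (∀ b ∈ B, CoalgebraStruct.comul (R := K) b ∈ LinearMap.range (TensorProduct.map B.subtype B.subtype)) → B = ⊥ ∨ B = D₁)
    (h₂ : D₂ ≠ ⊥ ∧ (∀ b ∈ D₂, CoalgebraStruct.comul (R := K) b ∈ LinearMap.range (TensorProduct.map D₂.subtype D₂.subtype)) ∧ ∀ B : Submodule K C, B ≤ D₂ → (∀ b ∈ B, CoalgebraStruct.comul (R := K) b ∈ LinearMap.range (TensorProduct.map B.subtype B.subtype)) → B = ⊥ ∨ B = D₂)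
    {V : Type w} [AddCommGroup V] [Module K V] [HopfRep.Comod K C V]
    {W : Type w'} [AddCommGroup W] [Module K W] [HopfRep.Comod K C W]
    (hV : ∀ v : V, HopfRep.Comod.coact (k := K) (A := C) v ∈ LinearMap.range (LinearMap.lTensor V D₁.subtype))
    (hW : ∀ w : W, HopfRep.Comod.coact (k := K) (A := C) w ∈ LinearMap.range (LinearMap.lTensor W D₂.subtype))
    (φ : V →ₗ[K] W) (hφ : Hoch.IsComodHom C φ) : φ = 0 := by
  classical
  have hsub : ∀ b ∈ D₁ ⊓ D₂, CoalgebraStruct.comul (R := K) b ∈
      LinearMap.range (TensorProduct.map (D₁ ⊓ D₂).subtype (D₁ ⊓ D₂).subtype) := by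
    intro b hb
    apply mem_range_map_subtype
    · rw [mem_range_rTensor_iff]
      intro ψ
      exact ⟨slice_mem_of_mem_range_map D₁ _ (h₁.2.1 b hb.1) ψ,
        slice_mem_of_mem_range_map D₂ _ (h₂.2.1 b hb.2) ψ⟩
    · apply mem_range_lTensor_of_lslice_mem
      intro ψ
      exact ⟨lslice_mem_of_mem_range_map D₁ _ (h₁.2.1 b hb.1) ψ,
        lslice_mem_of_mem_range_map D₂ _ (h₂.2.1 b hb.2) ψ⟩
  have hbot : D₁ ⊓ D₂ = ⊥ := by
    rcases h₁.2.2 (D₁ ⊓ D₂) inf_le_left hsub with h | h
    · exact h
    · exfalso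
      have hle : D₁ ≤ D₂ := by rw [← h]; exact inf_le_right
      rcases h₂.2.2 D₁ hle h₁.2.1 with h' | h'
      · exact h₁.1 h'
      · exact hne h'
  ext v
  rw [LinearMap.zero_apply]
  have hz : HopfRep.Comod.coact (k := K) (A := C) (φ v) = 0 := by
    apply eq_zero_of_lslice_eq_zero
    intro ψ
    have h1 : lslice ψ (HopfRep.Comod.coact (k := K) (A := C) (φ v)) ∈ D₂ :=
      lslice_mem_of_mem_range_lTensor D₂ _ (hW (φ v)) ψ
    have h2 : lslice ψ (HopfRep.Comod.coact (k := K) (A := C) (φ v)) ∈ D₁ := by
      have hφv := LinearMap.congr_fun hφ v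
      simp only [LinearMap.comp_apply] at hφv
      rw [hφv]
      obtain ⟨y, hy⟩ := hV v
      rw [← hy]
      clear hy
      induction y using TensorProduct.induction_on with
      | zero => simp
      | tmul w d => simpa using D₁.smul_mem _ d.2
      | add x y hx hy => simp only [map_add]; exact D₁.add_mem hx hy
    have : lslice ψ (HopfRep.Comod.coact (k := K) (A := C) (φ v)) ∈ D₁ ⊓ D₂ := ⟨h2, h1⟩
    rw [hbot] at this
    exact this
  have hcu := LinearMap.congr_fun (HopfRep.Comod.counit_comp (k := K) (A := C) (V := W)) (φ v)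
  simp only [LinearMap.comp_apply, LinearMap.flip_apply, TensorProduct.mk_apply] at hcu
  rw [hz, map_zero] at hcu
  have := congrArg (TensorProduct.rid K W) hcu
  simpa using this.symm

end Groth.Agent.S14852
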