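import Groth.Statements.S14859
import Groth.Agent.Lib.Helper18.Disp
import Mathlib.LinearAlgebra.Dimension.OrzechProperty
import Mathlib.RingTheory.FiniteType
import Mathlib.RingTheory.Finiteness.Cardinality
import Mathlib.LinearAlgebra.Projection
open Groth.Agent.Lib.Helper18.DispLib

set_option autoImplicit false
universe u v w
open Disp

namespace Groth.Agent.S14859

/-- Let p be a prime, R a commutative ring with p-typical Witt vectors W = W(R), and (P, Q, F, V⁻¹) a
3n-display over R with a normal decomposition P = L ⊕ T, Q = L + I_R·T. Then V⁻¹ ⊕ F : L ⊕ T → P is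
a Frobenius-linear isomorphism; stated here in the case where L and T are free with bases (l_i) and
(t_j): the family consisting of the V⁻¹(l_i) and the F(t_j) is a basis of the W-module P, i.e. it is
linearly independent over W and spans P. -/
theorem result (p : ℕ) [Fact p.Prime] (R : Type u) [CommRing R]
    (P : Type v) [AddCommGroup P] [Module (WittVector p R) P] (D : W4c1extbt610.Display3n p R P)
    (L T : Submodule (WittVector p R) P) (hLT : IsCompl L T)
    (hQ : D.Q = L ⊔ W4c1extbt610.IV p R • T) (hLQ : L ≤ D.Q)
    (ιL ιT : Type w) (bL : Module.Basis ιL (WittVector p R) L) (bT : Module.Basis ιT (WittVector p R) T) :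
    LinearIndependent (WittVector p R)
        (Sum.elim (fun i : ιL => D.Vinv ⟨(bL i : P), hLQ (bL i).2⟩) (fun j : ιT => D.F (bT j : P))) ∧
      Submodule.span (WittVector p R)
        (Set.range (Sum.elim (fun i : ιL => D.Vinv ⟨(bL i : P), hLQ (bL i).2⟩) (fun j : ιT => D.F (bT j : P)))) = ⊤ := by
  set v : ιL ⊕ ιT → P :=
    Sum.elim (fun i : ιL => D.Vinv ⟨(bL i : P), hLQ (bL i).2⟩) (fun j : ιT => D.F (bT j : P)) with hv
  have hspan : Submodule.span (WittVector p R) (Set.range v) = ⊤ := by
    rw [eq_top_iff, ← D.span_range_Vinv, Submodule.span_le]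
    rintro _ ⟨y, rfl⟩
    refine Vinv_mem_of_normal D L T hQ _ ?_ ?_ y
    · -- `Vinv` on `L`
      let g : L →ₛₗ[(WittVector.frobenius : WittVector p R →+* WittVector p R)] P :=
        D.Vinv.comp (Submodule.inclusion hLQ)
      have hg : (⊤ : Submodule (WittVector p R) L) ≤
          (Submodule.span (WittVector p R) (Set.range v)).comap g := by
        rw [← bL.span_eq, Submodule.span_le]
        rintro _ ⟨i, rfl⟩
        exact Submodule.subset_span ⟨Sum.inl i, rfl⟩
      intro l hl h
      exact hg (Submodule.mem_top : (⟨l, hl⟩ : L) ∈ ⊤)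
    · -- `F` on `T`
      let g : T →ₛₗ[(WittVector.frobenius : WittVector p R →+* WittVector p R)] P :=
        D.F.comp T.subtype
      have hg : (⊤ : Submodule (WittVector p R) T) ≤
          (Submodule.span (WittVector p R) (Set.range v)).comap g := by
        rw [← bT.span_eq, Submodule.span_le]
        rintro _ ⟨j, rfl⟩
        exact Submodule.subset_span ⟨Sum.inr j, rfl⟩
      intro t ht
      exact hg (Submodule.mem_top : (⟨t, ht⟩ : T) ∈ ⊤)
  refine ⟨?_, hspan⟩
  rcases subsingleton_or_nontrivial (WittVector p R) with hW | hW
  · exact linearIndependent_of_subsingleton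
  · haveI := D.finite
    have : Module.Finite (WittVector p R) L :=
      Module.Finite.of_surjective (Submodule.linearProjOfIsCompl L T hLT)
        (Submodule.linearProjOfIsCompl_surjective hLT)
    have : Module.Finite (WittVector p R) T :=
      Module.Finite.of_surjective (Submodule.linearProjOfIsCompl T L hLT.symm)
        (Submodule.linearProjOfIsCompl_surjective hLT.symm)
    have : Finite ιL := Module.Finite.finite_basis bL
    have : Finite ιT := Module.Finite.finite_basis bT
    have := Fintype.ofFinite ιL
    have := Fintype.ofFinite ιT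
    let bP : Module.Basis (ιL ⊕ ιT) (WittVector p R) P :=
      (bL.prod bT).map (Submodule.prodEquivOfIsCompl L T hLT)
    apply linearIndependent_of_top_le_span_of_card_eq_finrank hspan.ge
    rw [Module.finrank_eq_card_basis bP]

end Groth.Agent.S14859
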