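import Groth.Statements.S14869
import Mathlib
-- import your own Groth.Agent.* helpers here

set_option autoImplicit false
universe u v w
open CAlg

namespace Groth.Agent.S14869

open TensorProduct in
/-- Let S → R be a surjective homomorphism of commutative rings, let π : P_1 → P_2 be a surjective
homomorphism of S-modules with P_2 projective, and let π̄ : R ⊗_S P_1 → R ⊗_S P_2 be its base
change. Then every R-linear section σ̄ of π̄ lifts to a section of π: there is an S-linear map σ :
P_2 → P_1 with π ∘ σ = id whose base change R ⊗_S σ is σ̄. -/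
theorem result (S R : Type u) [CommRing S] [CommRing R] [Algebra S R]
    (hSR : Function.Surjective (algebraMap S R))
    (P₁ : Type v) [AddCommGroup P₁] [Module S P₁]
    (P₂ : Type w) [AddCommGroup P₂] [Module S P₂] [Module.Projective S P₂]
    (π : P₁ →ₗ[S] P₂) (hπ : Function.Surjective π)
    (σ' : R ⊗[S] P₂ →ₗ[R] R ⊗[S] P₁) (hσ' : (π.baseChange R).comp σ' = LinearMap.id) :
    ∃ σ : P₂ →ₗ[S] P₁, π.comp σ = LinearMap.id ∧ σ.baseChange R = σ' := by
  classical
  obtain ⟨τ, hτ⟩ := Module.projective_lifting_property π LinearMap.id hπ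
  have hsurj : Function.Surjective (TensorProduct.mk S R P₁ 1) := by
    intro z
    induction z using TensorProduct.induction_on with
    | zero => exact ⟨0, map_zero _⟩
    | tmul r x =>
      obtain ⟨s, rfl⟩ := hSR r
      refine ⟨s • x, ?_⟩
      simp only [TensorProduct.mk_apply, TensorProduct.tmul_smul]
      rw [TensorProduct.smul_tmul', Algebra.smul_def, mul_one]
    | add a b ha hb =>
      obtain ⟨a', rfl⟩ := ha
      obtain ⟨b', rfl⟩ := hb
      exact ⟨a' + b', map_add _ _ _⟩
  obtain ⟨σ₀, hσ₀⟩ := Module.projective_lifting_property (TensorProduct.mk S R P₁ 1)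
    (σ'.restrictScalars S ∘ₗ TensorProduct.mk S R P₂ 1) hsurj
  have hσ₀' : σ₀.baseChange R = σ' := by
    apply TensorProduct.AlgebraTensorModule.ext
    intro r x
    have h1 : σ' (r ⊗ₜ[S] x) = r • σ' ((1 : R) ⊗ₜ[S] x) := by
      rw [← map_smul, TensorProduct.smul_tmul', smul_eq_mul, mul_one]
    have h2 : (1 : R) ⊗ₜ[S] σ₀ x = σ' ((1 : R) ⊗ₜ[S] x) := LinearMap.congr_fun hσ₀ x
    rw [LinearMap.baseChange_tmul, h1, ← h2, TensorProduct.smul_tmul', smul_eq_mul, mul_one]
  refine ⟨σ₀ + τ ∘ₗ (LinearMap.id - π ∘ₗ σ₀), ?_, ?_⟩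
  · rw [LinearMap.comp_add, ← LinearMap.comp_assoc, hτ, LinearMap.id_comp]
    abel
  · rw [LinearMap.baseChange_add, LinearMap.baseChange_comp, LinearMap.baseChange_sub,
      LinearMap.baseChange_comp, LinearMap.baseChange_id, hσ₀', hσ']
    apply LinearMap.ext
    intro z
    simp only [LinearMap.add_apply, LinearMap.comp_apply, LinearMap.sub_apply, LinearMap.id_apply,
      sub_self, map_zero, add_zero]

end Groth.Agent.S14869
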