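import Groth.Statements.S14871
import Groth.Agent.S14870
import Mathlib.Algebra.Lie.Solvable
import Mathlib.Algebra.Lie.Quotient
import Mathlib.Tactic

set_option autoImplicit false
universe u v
open PLie

namespace Groth.Agent.S14871

/-- The quotient map as a morphism of Lie algebras. -/
def mkHom {k : Type u} [CommRing k] {L : Type v} [LieRing L] [LieAlgebra k L] (I : LieIdeal k L) :
    L →ₗ⁅k⁆ L ⧸ I :=
  { (LieSubmodule.Quotient.mk' I : L →ₗ[k] L ⧸ I) with
    map_lie' := fun {x y} => LieSubmodule.Quotient.mk_bracket I x y }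

theorem mkHom_apply {k : Type u} [CommRing k] {L : Type v} [LieRing L] [LieAlgebra k L]
    (I : LieIdeal k L) (x : L) : mkHom I x = LieSubmodule.Quotient.mk' I x := rfl

open LieAlgebra in
theorem center_quot_radical {k : Type u} [CommRing k] {L : Type v} [LieRing L] [LieAlgebra k L]
    [IsNoetherian k L] : LieAlgebra.center k (L ⧸ LieAlgebra.radical k L) = ⊥ := by
  let π := mkHom (LieAlgebra.radical k L)
  let I : LieIdeal k L := LieIdeal.comap π (LieAlgebra.center k (L ⧸ LieAlgebra.radical k L))
  have h1 : ⁅I, I⁆ ≤ LieAlgebra.radical k L := by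
    rw [LieSubmodule.lie_le_iff]
    intro a _ b hb
    have hb' : π b ∈ LieAlgebra.center k (L ⧸ LieAlgebra.radical k L) := LieIdeal.mem_comap.mp hb
    rw [LieModule.mem_maxTrivSubmodule] at hb'
    have h0 : π ⁅a, b⁆ = 0 := by rw [LieHom.map_lie]; exact hb' (π a)
    exact (LieSubmodule.Quotient.mk_eq_zero (N := LieAlgebra.radical k L)).mp h0
  obtain ⟨n, hn⟩ := (LieAlgebra.isSolvable_iff k (LieAlgebra.radical k L)).mp inferInstance
  have hn' : derivedSeriesOfIdeal k L n (LieAlgebra.radical k L) = ⊥ :=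
    (LieIdeal.derivedSeries_eq_bot_iff (LieAlgebra.radical k L) n).mp hn
  have h2 : derivedSeriesOfIdeal k L (n + 1) I = ⊥ := by
    rw [derivedSeriesOfIdeal_add, eq_bot_iff, ← hn']
    apply derivedSeriesOfIdeal_mono
    rw [derivedSeriesOfIdeal_succ, derivedSeriesOfIdeal_zero]
    exact h1
  have h3 : LieAlgebra.IsSolvable I :=
    LieAlgebra.IsSolvable.mk ((LieIdeal.derivedSeries_eq_bot_iff I (n + 1)).mpr h2)
  have h4 : I ≤ LieAlgebra.radical k L := (LieIdeal.solvable_iff_le_radical k L I).mp h3
  rw [eq_bot_iff]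
  intro c hc
  obtain ⟨a, rfl⟩ := LieSubmodule.Quotient.surjective_mk' (LieAlgebra.radical k L) c
  have ha : a ∈ I := LieIdeal.mem_comap.mpr hc
  rw [LieSubmodule.mem_bot]
  exact (LieSubmodule.Quotient.mk_eq_zero (N := LieAlgebra.radical k L)).mpr (h4 ha)

/-- Let `L` be a finite-dimensional Lie algebra over a field of characteristic `p` equipped with a
`p`-mapping `φ`. Then the solvable radical of `L` is stable under `φ` (it is a `p`-subalgebra). -/
theorem result
    (k : Type u) [Field k] (p : ℕ) [Fact p.Prime] [CharP k p]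
    (L : Type v) [LieRing L] [LieAlgebra k L] [Module.Finite k L]
    (φ : PLie.PMap k p L) (x : L) (hx : x ∈ LieAlgebra.radical k L) :
    φ x ∈ LieAlgebra.radical k L := by
  have h := Groth.Agent.S14870.result k p L (L ⧸ LieAlgebra.radical k L) φ
    (mkHom (LieAlgebra.radical k L))
    (LieSubmodule.Quotient.surjective_mk' (LieAlgebra.radical k L)) center_quot_radical x
    ((LieSubmodule.Quotient.mk_eq_zero (N := LieAlgebra.radical k L)).mpr hx)
  exact (LieSubmodule.Quotient.mk_eq_zero (N := LieAlgebra.radical k L)).mp h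

end Groth.Agent.S14871
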