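import Groth.Statements.S14873
import Mathlib.Algebra.Lie.Engel
import Mathlib.Tactic

set_option autoImplicit false
universe u v
open PLie

namespace Groth.Agent.S14873

theorem ad_iterate {R : Type u} [CommRing R] {p : ℕ} [CharP R p] {L : Type v} [LieRing L]
    [LieAlgebra R L] (φ : PLie.PMap R p L) (x : L) (n : ℕ) :
    LieAlgebra.ad R L (φ.toFun^[n] x) = LieAlgebra.ad R L x ^ (p ^ n) := by
  induction n with
  | zero => simp
  | succ n ih =>
    rw [Function.iterate_succ_apply', φ.ad_map, ih, ← pow_mul, pow_succ]

theorem coe_ad_pow {R : Type u} [CommRing R] {L : Type v} [LieRing L] [LieAlgebra R L]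
    (I : LieIdeal R L) (x y : I) (m : ℕ) :
    (((LieAlgebra.ad R I x) ^ m) y : L) = ((LieAlgebra.ad R L (x : L)) ^ m) (y : L) := by
  induction m with
  | zero => simp
  | succ m ih =>
    rw [pow_succ', pow_succ', Module.End.mul_apply, Module.End.mul_apply, LieAlgebra.ad_apply,
      LieAlgebra.ad_apply, LieIdeal.coe_bracket_of_module, LieSubmodule.coe_bracket, ih]

/-- Let `L` be a finite-dimensional Lie algebra over a field of characteristic `p` equipped with a
`p`-mapping `φ`, and let `I` be an ideal of `L` stable under `φ` all of whose elements are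
`p`-nilpotent (for instance the `p`-radical, the largest such ideal). Then `I` is nilpotent as a Lie
ring, hence lies in the nilradical of `L`. (The published item also records that the nilradical lies
in the solvable radical, which is immediate since nilpotent ideals are solvable.) -/
theorem result
    (k : Type u) [Field k] (p : ℕ) [Fact p.Prime] [CharP k p]
    (L : Type v) [LieRing L] [LieAlgebra k L] [Module.Finite k L]
    (φ : PLie.PMap k p L) (I : LieIdeal k L) (hsub : ∀ x ∈ I, φ x ∈ I)
    (hnil : ∀ x ∈ I, PLie.IsPNilpotent φ x) : LieRing.IsNilpotent I := by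
  rw [LieAlgebra.isNilpotent_iff_forall (R := k)]
  intro x
  obtain ⟨n, hn⟩ := hnil x x.2
  refine ⟨p ^ n, ?_⟩
  ext y
  rw [coe_ad_pow, ← ad_iterate φ, hn]
  simp

end Groth.Agent.S14873
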