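import Groth.Statements.S14872
import Groth.Agent.S14873
import Mathlib.Algebra.Lie.Engel
import Mathlib.Tactic

set_option autoImplicit false
universe u v
open PLie

namespace Groth.Agent.S14872

variable {k : Type u} [Field k] {L : Type v} [LieRing L] [LieAlgebra k L]

/-- Elements of a nilpotent ideal are ad-nilpotent on the ambient algebra, uniformly. -/
theorem exists_ad_pow_eq_zero (N : LieIdeal k L) (hN : LieRing.IsNilpotent N) :
    ∃ m : ℕ, ∀ n ∈ N, LieAlgebra.ad k L n ^ m = 0 := by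
  obtain ⟨m, hm⟩ := LieAlgebra.nilpotent_ad_of_nilpotent_algebra k ↥N
  refine ⟨m + 1, fun n hn => ?_⟩
  ext y
  rw [pow_succ, Module.End.mul_apply, LieAlgebra.ad_apply]
  have h1 : ⁅n, y⁆ ∈ N := by
    rw [← lie_skew]; exact N.neg_mem (N.lie_mem hn)
  have := Groth.Agent.S14873.coe_ad_pow N ⟨n, hn⟩ ⟨⁅n, y⁆, h1⟩ m
  rw [hm] at this
  simpa using this.symm

theorem exists_lcs_eq_bot [IsNoetherian k L] (N : LieIdeal k L) (hN : LieRing.IsNilpotent N) :
    ∃ m : ℕ, N.lcs L m = ⊥ := by
  obtain ⟨m, hm⟩ := exists_ad_pow_eq_zero N hN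
  have hnil : LieModule.IsNilpotent ↥N L := by
    rw [LieModule.isNilpotent_iff_forall' (R := k)]
    intro x
    refine ⟨m, ?_⟩
    have : LieModule.toEnd k ↥N L x = LieAlgebra.ad k L (x : L) := by
      ext y
      simp [LieIdeal.coe_bracket_of_module]
    rw [this, hm _ x.2]
  obtain ⟨j, hj⟩ := LieModule.IsNilpotent.nilpotent k ↥N L
  refine ⟨j, ?_⟩
  rw [← LieSubmodule.toSubmodule_inj, LieIdeal.coe_lcs_eq, hj]
  simp

theorem ad_pow_mem_lcs (N : LieIdeal k L) (w : L)
    (hw : ∀ i : ℕ, ∀ y ∈ N.lcs L i, ⁅w, y⁆ ∈ N.lcs L (i + 1)) (m : ℕ) (y : L) :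
    (LieAlgebra.ad k L w ^ m) y ∈ N.lcs L m := by
  induction m with
  | zero => simp
  | succ m ih =>
    rw [pow_succ', Module.End.mul_apply, LieAlgebra.ad_apply]
    exact hw m _ ih

theorem ad_pow_mem (F : LieSubmodule k L L) (x y : L) (hy : y ∈ F) (q : ℕ) :
    (LieAlgebra.ad k L x ^ q) y ∈ F := by
  induction q with
  | zero => simpa using hy
  | succ q ih =>
    rw [pow_succ', Module.End.mul_apply, LieAlgebra.ad_apply]
    exact F.lie_mem ih

theorem result' (p : ℕ) [Fact p.Prime] [CharP k p] [Module.Finite k L]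
    (φ : PLie.PMap k p L) (N : LieIdeal k L) (hN : LieRing.IsNilpotent N)
    (hmax : ∀ I : LieIdeal k L, LieRing.IsNilpotent I → I ≤ N)
    (x : L) (hx : x ∈ N) : φ x ∈ N := by
  have hp : 0 < p := (Fact.out : p.Prime).pos
  have hpow : LieAlgebra.ad k L x ^ p = LieAlgebra.ad k L x * LieAlgebra.ad k L x ^ (p - 1) := by
    rw [← pow_succ', Nat.sub_add_cancel hp]
  set z := φ x with hz
  -- bracket with z
  have hzb : ∀ y : L, ⁅z, y⁆ = ⁅x, (LieAlgebra.ad k L x ^ (p - 1)) y⁆ := by
    intro y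
    have h1 := congrArg (fun g => g y) (φ.ad_map x)
    simp only [LieAlgebra.ad_apply] at h1
    rw [hz]
    change ⁅φ.toFun x, y⁆ = _
    rw [h1, hpow, Module.End.mul_apply, LieAlgebra.ad_apply]
  have hzN : ∀ y : L, ⁅z, y⁆ ∈ N := by
    intro y
    rw [hzb, ← lie_skew]
    exact N.neg_mem (N.lie_mem hx)
  -- the filtration step for elements n + c z
  have hstep : ∀ n ∈ N, ∀ c : k, ∀ i : ℕ, ∀ y ∈ N.lcs L i, ⁅n + c • z, y⁆ ∈ N.lcs L (i + 1) := by
    intro n hn c i y hy
    rw [add_lie, smul_lie, LieIdeal.lcs_succ]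
    apply add_mem
    · exact LieSubmodule.lie_mem_lie hn hy
    · apply (⁅N, N.lcs L i⁆).smul_mem
      rw [hzb]
      exact LieSubmodule.lie_mem_lie hx (ad_pow_mem _ x y hy _)
  obtain ⟨m, hm⟩ := exists_lcs_eq_bot N hN
  have hnilw : ∀ n ∈ N, ∀ c : k, LieAlgebra.ad k L (n + c • z) ^ m = 0 := by
    intro n hn c
    ext y
    have := ad_pow_mem_lcs N (n + c • z) (hstep n hn c) m y
    rw [hm] at this
    simpa using this
  -- the ideal J = N + k z
  let J : LieIdeal k L :=
    { toSubmodule := N.toSubmodule ⊔ Submodule.span k {z}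
      lie_mem := by
        intro y w hw
        obtain ⟨n, hn, u, hu, rfl⟩ := Submodule.mem_sup.mp hw
        obtain ⟨c, rfl⟩ := Submodule.mem_span_singleton.mp hu
        apply Submodule.mem_sup_left
        rw [lie_add, lie_smul]
        apply add_mem
        · exact N.lie_mem hn
        · apply N.smul_mem
          rw [← lie_skew]
          exact N.neg_mem (hzN y) }
  have hJmem : ∀ w ∈ J, ∃ n ∈ N, ∃ c : k, w = n + c • z := by
    intro w hw
    obtain ⟨n, hn, u, hu, rfl⟩ := Submodule.mem_sup.mp hw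
    obtain ⟨c, rfl⟩ := Submodule.mem_span_singleton.mp hu
    exact ⟨n, hn, c, rfl⟩
  have hJnil : LieRing.IsNilpotent J := by
    rw [LieAlgebra.isNilpotent_iff_forall (R := k)]
    intro w
    obtain ⟨n, hn, c, hw⟩ := hJmem w w.2
    refine ⟨m, ?_⟩
    ext y
    rw [Groth.Agent.S14873.coe_ad_pow, hw, hnilw n hn c]
    simp
  have hzJ : z ∈ J := Submodule.mem_sup_right (Submodule.mem_span_singleton_self z)
  exact hmax J hJnil hzJ


/-- Let `L` be a finite-dimensional Lie algebra over a field of characteristic `p` equipped with a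
`p`-mapping `φ`, and let `N` be its nilradical, i.e. the ideal of `L` that is nilpotent as a Lie
ring and contains every ideal of `L` nilpotent as a Lie ring. Then `N` is stable under `φ` (it is a
`p`-subalgebra). (The nilradical is given here through its characterising property; it is not the
largest submodule on which `L` acts nilpotently.) -/
theorem result
    (k : Type u) [Field k] (p : ℕ) [Fact p.Prime] [CharP k p]
    (L : Type v) [LieRing L] [LieAlgebra k L] [Module.Finite k L]
    (φ : PLie.PMap k p L) (N : LieIdeal k L) (hN : LieRing.IsNilpotent N)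
    (hmax : ∀ I : LieIdeal k L, LieRing.IsNilpotent I → I ≤ N)
    (x : L) (hx : x ∈ N) : φ x ∈ N := by
  exact result' p φ N hN hmax x hx

end Groth.Agent.S14872
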