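import Groth.Statements.S14875
import Groth.Agent.S14873
import Mathlib.Algebra.Lie.Engel
import Mathlib.Algebra.Lie.Killing
import Mathlib.Algebra.Lie.Normalizer
import Mathlib.Tactic

set_option autoImplicit false
universe u v
open PLie

namespace Groth.Agent.S14875

variable {k : Type u} [Field k] {L : Type v} [LieRing L] [LieAlgebra k L]

/-- The filtration `F 0 = ⊤`, `F (i+1) = span {⁅u, m⁆ | u ∈ U, m ∈ F i}`. -/
noncomputable def filt (U : LieSubalgebra k L) : ℕ → Submodule k L
  | 0 => ⊤
  | (i + 1) => Submodule.span k {x | ∃ u ∈ U, ∃ m ∈ filt U i, ⁅u, m⁆ = x}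

theorem filt_stable (U H : LieSubalgebra k L) (hHU : ∀ h ∈ H, ∀ u ∈ U, ⁅h, u⁆ ∈ U) (i : ℕ) :
    ∀ h ∈ H, ∀ m ∈ filt U i, ⁅h, m⁆ ∈ filt U i := by
  induction i with
  | zero => intro h _ m _; simp [filt]
  | succ i ih =>
    intro h hh m hm
    simp only [filt] at hm ⊢
    induction hm using Submodule.span_induction with
    | mem x hx =>
      obtain ⟨u, hu, m', hm', rfl⟩ := hx
      rw [leibniz_lie]
      refine Submodule.add_mem _ ?_ ?_
      · exact Submodule.subset_span ⟨_, hHU h hh u hu, m', hm', rfl⟩
      · exact Submodule.subset_span ⟨u, hu, _, ih h hh m' hm', rfl⟩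
    | zero => simp
    | add x y _ _ hx hy => rw [lie_add]; exact Submodule.add_mem _ hx hy
    | smul a x _ hx => rw [lie_smul]; exact Submodule.smul_mem _ a hx

theorem filt_le_lcs (U : LieSubalgebra k L) (i : ℕ) :
    filt U i ≤ (LieModule.lowerCentralSeries k U L i).toSubmodule := by
  induction i with
  | zero => simp [filt]
  | succ i ih =>
    simp only [filt]
    rw [Submodule.span_le]
    rintro x ⟨u, hu, m, hm, rfl⟩
    rw [LieModule.lowerCentralSeries_succ]
    have : ⁅u, m⁆ = ⁅(⟨u, hu⟩ : U), m⁆ := rfl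
    rw [this]
    exact LieSubmodule.lie_mem_lie (LieSubmodule.mem_top _) (ih hm)

theorem exists_filt_eq_bot [Module.Finite k L] (U : LieSubalgebra k L)
    (hnil : ∀ u ∈ U, IsNilpotent (LieAlgebra.ad k L u)) : ∃ n, filt U n = ⊥ := by
  have hN : LieModule.IsNilpotent ↥U L := by
    rw [LieModule.isNilpotent_iff_forall' (R := k)]
    intro x
    have : LieModule.toEnd k ↥U L x = LieAlgebra.ad k L (x : L) := by
      ext y; rfl
    rw [this]
    exact hnil _ x.2
  obtain ⟨j, hj⟩ := LieModule.IsNilpotent.nilpotent k ↥U L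
  refine ⟨j, ?_⟩
  have := filt_le_lcs U j
  rw [hj] at this
  simpa using this

theorem comp_pow_mem (U H : LieSubalgebra k L) (hHU : ∀ h ∈ H, ∀ u ∈ U, ⁅h, u⁆ ∈ U)
    (h u : L) (hh : h ∈ H) (hu : u ∈ U) (n : ℕ) (y : L) :
    ((LieAlgebra.ad k L h ∘ₗ LieAlgebra.ad k L u) ^ n) y ∈ filt U n := by
  induction n with
  | zero => simp [filt]
  | succ n ih =>
    rw [pow_succ', Module.End.mul_apply, LinearMap.comp_apply, LieAlgebra.ad_apply,
      LieAlgebra.ad_apply]
    apply filt_stable U H hHU (n + 1) h hh
    simp only [filt]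
    exact Submodule.subset_span ⟨u, hu, _, ih, rfl⟩

theorem killing_eq_zero [Module.Finite k L] (U H : LieSubalgebra k L)
    (hHU : ∀ h ∈ H, ∀ u ∈ U, ⁅h, u⁆ ∈ U)
    (hnil : ∀ u ∈ U, IsNilpotent (LieAlgebra.ad k L u))
    (h u : L) (hh : h ∈ H) (hu : u ∈ U) : killingForm k L h u = 0 := by
  obtain ⟨n, hn⟩ := exists_filt_eq_bot U hnil
  rw [killingForm_apply_apply]
  have hnilp : IsNilpotent (LieAlgebra.ad k L h ∘ₗ LieAlgebra.ad k L u) := by
    refine ⟨n, ?_⟩
    ext y
    have := comp_pow_mem U H hHU h u hh hu n y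
    rw [hn] at this
    simpa using this
  exact (LinearMap.isNilpotent_trace_of_isNilpotent hnilp).eq_zero


/-- Let `L` be a finite-dimensional Lie algebra over a field of characteristic `p` equipped with a
`p`-mapping `φ`, whose Killing form is non-degenerate. Let `U` and `H` be Lie subalgebras of `L`
such that `H` is the normaliser of `U`, `U` is the set of elements of `H` that lie in the solvable
radical of `H` and are `p`-nilpotent, and the orthogonal of `U` for the Killing form is closed under
the bracket. Then `U` is the orthogonal of `H` for the Killing form. (The published statement is for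
the Lie algebra of a reductive group over a field of characteristic `p` with its canonical
`p`-structure; this row states it for any finite-dimensional Lie algebra with a `p`-mapping.) -/
theorem result
    (k : Type u) [Field k] (p : ℕ) [Fact p.Prime] [CharP k p]
    (L : Type v) [LieRing L] [LieAlgebra k L] [Module.Finite k L]
    (φ : PLie.PMap k p L) (hκ : (killingForm k L).Nondegenerate)
    (U H : LieSubalgebra k L) (hH : H = U.normalizer)
    (hU : ∀ x : L, x ∈ U ↔ ∃ hx : x ∈ H, (⟨x, hx⟩ : ↥H) ∈ LieAlgebra.radical k ↥H ∧ PLie.IsPNilpotent φ x)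
    (hperp : ∀ a b : L, (∀ y ∈ U, killingForm k L a y = 0) → (∀ y ∈ U, killingForm k L b y = 0) →
      ∀ y ∈ U, killingForm k L ⁅a, b⁆ y = 0) :
    ∀ x : L, x ∈ U ↔ ∀ h ∈ H, killingForm k L h x = 0 := by
  intro x
  have hHU : ∀ h ∈ H, ∀ u ∈ U, ⁅h, u⁆ ∈ U := by
    intro h hh u hu
    rw [hH, LieSubalgebra.mem_normalizer_iff] at hh
    exact hh u hu
  have hnil : ∀ u ∈ U, IsNilpotent (LieAlgebra.ad k L u) := by
    intro u hu
    obtain ⟨_, _, n, hn⟩ := (hU u).1 hu
    refine ⟨p ^ n, ?_⟩
    rw [← Groth.Agent.S14873.ad_iterate φ, hn]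
    simp
  have hsymm : ∀ a b : L, killingForm k L a b = killingForm k L b a :=
    fun a b => LieModule.traceForm_comm k L L a b
  have hrefl : (killingForm k L).IsRefl := (LieModule.traceForm_isSymm k L L).isRefl
  have hdd := LinearMap.BilinForm.orthogonal_orthogonal hκ hrefl U.toSubmodule
  have key := killing_eq_zero U H hHU hnil
  -- Q ⊆ H
  have hQH : ∀ q : L, (∀ y ∈ U, killingForm k L q y = 0) → q ∈ H := by
    intro q hq
    rw [hH, LieSubalgebra.mem_normalizer_iff]
    intro u hu
    have : ⁅q, u⁆ ∈ (killingForm k L).orthogonal ((killingForm k L).orthogonal U.toSubmodule) := by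
      rw [LinearMap.BilinForm.mem_orthogonal_iff]
      intro n hn
      rw [LinearMap.BilinForm.mem_orthogonal_iff] at hn
      have hnQ : ∀ y ∈ U, killingForm k L n y = 0 := by
        intro y hy
        rw [hsymm]
        exact hn y hy
      change killingForm k L n ⁅q, u⁆ = 0
      have := LieModule.traceForm_apply_lie_apply k L L n q u
      change killingForm k L ⁅n, q⁆ u = killingForm k L n ⁅q, u⁆ at this
      rw [← this]
      exact hperp n q hnQ hq u hu
    rw [hdd] at this
    exact this
  constructor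
  · intro hx h hh
    exact key h x hh hx
  · intro hx
    have : x ∈ (killingForm k L).orthogonal ((killingForm k L).orthogonal U.toSubmodule) := by
      rw [LinearMap.BilinForm.mem_orthogonal_iff]
      intro n hn
      rw [LinearMap.BilinForm.mem_orthogonal_iff] at hn
      have hnQ : ∀ y ∈ U, killingForm k L n y = 0 := by
        intro y hy
        rw [hsymm]
        exact hn y hy
      exact hx n (hQH n hnQ)
    rw [hdd] at this
    exact this

end Groth.Agent.S14875
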