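import Groth.Statements.S14877
import Groth.Agent.Lib.Helper26.PB5
import Groth.Agent.Lib.Helper9.FpqcLoc2

set_option autoImplicit false
universe u
open CategoryTheory MonoidalCategory CartesianMonoidalCategory MonObj GrpObj AlgebraicGeometry CategoryTheory.Limits
open AlgGrp

namespace Groth.Agent.S14877

/-- Over an algebraically closed field k of characteristic zero, let G be an algebraic group (a smooth
k-group scheme of finite type) acting on a variety P (reduced, separated, of finite type over k),
and let π : P → X be a geometric quotient by this action onto a variety X: π is invariant,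
surjective and open, the map (g, p) ↦ (g·p, p) from G × P to P ×_X P is surjective on points, and
for every open U of X the sections of O_X over U are exactly the invariant sections of O_P over
π⁻¹U. Suppose the bundle is locally isotrivial: every point of X has an open neighbourhood U with a
finite étale surjective morphism U' → U and a morphism s : U' → P lifting U' → U → X such that (u,
g) ↦ g·s(u) exhibits U' × G as the fibre product U' ×_X P. Then the bundle is principal: (g, p) ↦
(g·p, p) is an isomorphism of G × P onto P ×_X P, and π is flat. (The published definition of an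
étale covering asks only for a finite étale morphism; this row also requires it to be surjective,
since an empty cover would make every bundle isotrivial.) -/
theorem result (k : Type u) [Field k] [IsAlgClosed k] [CharZero k]
    (G P X : Over (Spec (CommRingCat.of k))) [GrpObj G] [Smooth G.hom] [QuasiCompact G.hom]
    [LocallyOfFiniteType P.hom] [QuasiCompact P.hom] [IsSeparated P.hom] [IsReduced P.left]
    [LocallyOfFiniteType X.hom] [QuasiCompact X.hom] [IsSeparated X.hom] [IsReduced X.left]
    (a : AlgGrp.Action G P) (π : P ⟶ X) (hinv : GIT.IsInvariant a π)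
    (hq : Function.Surjective π.left.base ∧ IsOpenMap π.left.base ∧
      Function.Surjective (GIT.PsiY a π hinv).base ∧
      ∀ U : X.left.Opens, Function.Injective (π.left.app U) ∧
        Set.range (π.left.app U) = {f | GIT.IsInvSection a π U f})
    (hli : ∀ x : ↥X.left, ∃ (U : X.left.Opens) (_ : x ∈ U) (U' : Scheme.{u}) (φ : U' ⟶ ↑U)
      (_ : IsFinite φ) (_ : Etale φ) (_ : Surjective φ) (s : Over.mk (φ ≫ U.ι ≫ X.hom) ⟶ P),
      s.left ≫ π.left = φ ≫ U.ι ∧
      IsPullback (fst (Over.mk (φ ≫ U.ι ≫ X.hom)) G).left (lift (snd (Over.mk (φ ≫ U.ι ≫ X.hom)) G) (fst (Over.mk (φ ≫ U.ι ≫ X.hom)) G ≫ s) ≫ a.act).left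
        (φ ≫ U.ι) π.left) :
    IsIso (GIT.PsiY a π hinv) ∧ Flat π.left := by
  choose U hxU U' φ hfin het hsurj s hs hsq using hli
  have hEt : ∀ x, Etale (φ x ≫ (U x).ι) := fun x => by
    have := het x
    infer_instance
  have hcov : ∀ x : ↥X.left, ∃ (j : ↥X.left) (y : ↥(U' j)), (φ j ≫ (U j).ι) y = x := by
    intro x
    have := hsurj x
    obtain ⟨y, hy⟩ := (φ x).surjective ⟨x, hxU x⟩
    refine ⟨x, y, ?_⟩
    rw [Scheme.Hom.comp_apply, hy]
    rfl
  let 𝒰 : X.left.Cover (Scheme.precoverage @Etale) :=
    Scheme.Cover.mkOfCovers ↥X.left (fun x => U' x) (fun x => φ x ≫ (U x).ι) hcov hEt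
  have hqc : QuasiCompactCover 𝒰.toPreZeroHypercover :=
    QuasiCompactCover.of_isOpenMap (fun i => by
      have : Etale (𝒰.f i) := hEt i
      exact (𝒰.f i).isOpenMap)
  have hflat𝒰 : ∀ i, Flat (𝒰.toPreZeroHypercover.f i) := fun i => by
    have : Etale (𝒰.f i) := hEt i
    infer_instance
  have hψ : ∀ x, (φ x ≫ (U x).ι) ≫ X.hom = (Over.mk (φ x ≫ (U x).ι ≫ X.hom)).hom := fun x =>
    Category.assoc _ _ _
  constructor
  · -- PsiY is an isomorphism
    let ρ := Lib.Helper26.PB5.ρ π
    have hflat' : ∀ i, Flat ((𝒰.toPreZeroHypercover.pullback₁ ρ).f i) := fun i => by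
      have := hflat𝒰 i
      change Flat (Limits.pullback.fst ρ (𝒰.toPreZeroHypercover.f i))
      infer_instance
    have hiso : ∀ i, (MorphismProperty.isomorphisms Scheme.{u})
        (Limits.pullback.snd (GIT.PsiY a π hinv) ((𝒰.toPreZeroHypercover.pullback₁ ρ).f i)) := fun i =>
      Lib.Helper26.PB5.isIso_snd_psiY a π hinv (Over.mk (φ i ≫ (U i).ι ≫ X.hom)) (φ i ≫ (U i).ι)
        (hψ i) (s i) (hsq i)
    exact Lib.Helper9.FpqcLoc.of_quasiCompactCover (P := MorphismProperty.isomorphisms Scheme.{u})
      (GIT.PsiY a π hinv) (𝒰.toPreZeroHypercover.pullback₁ ρ) hflat' hiso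
  · -- flatness
    have := Lib.Helper9.FpqcLoc.descendsAlong_flat_fpqc.{u}
    refine Lib.Helper9.FpqcLoc.of_quasiCompactCover (P := @Flat) π.left 𝒰.toPreZeroHypercover
      hflat𝒰 (fun i => ?_)
    have hG : Flat G.hom := inferInstance
    have h1 : Flat (fst (Over.mk (φ i ≫ (U i).ι ≫ X.hom)) G).left := by
      change Flat (Limits.pullback.fst (Over.mk (φ i ≫ (U i).ι ≫ X.hom)).hom G.hom)
      infer_instance
    exact Lib.Helper9.FpqcLoc.prop_snd_of_isPullback (P := @Flat) (hsq i).flip
      (IsPullback.of_hasPullback π.left (φ i ≫ (U i).ι)) h1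

end Groth.Agent.S14877
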