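import Groth.Statements.S14879
import Mathlib
-- import your own Groth.Agent.* helpers here

set_option autoImplicit false
universe u
open Finset
open AlgGrp

namespace Groth.Agent.S14879

open Matrix Equiv


section general
variable {k : Type*} [CommRing k] {p r : ℕ}

def blockPerm (σ : Perm (Fin p)) (τ : Perm (Fin r)) : Perm (Fin (p + r)) :=
  finSumFinEquiv.permCongr (Equiv.Perm.sumCongr σ τ)

lemma blockPerm_castAdd (σ : Perm (Fin p)) (τ : Perm (Fin r)) (i : Fin p) :
    blockPerm σ τ (Fin.castAdd r i) = Fin.castAdd r (σ i) := by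
  simp [blockPerm, Equiv.permCongr_apply]

lemma blockPerm_natAdd (σ : Perm (Fin p)) (τ : Perm (Fin r)) (j : Fin r) :
    blockPerm σ τ (Fin.natAdd p j) = Fin.natAdd p (τ j) := by
  simp [blockPerm, Equiv.permCongr_apply]

lemma sign_blockPerm (σ : Perm (Fin p)) (τ : Perm (Fin r)) :
    Perm.sign (blockPerm σ τ) = Perm.sign σ * Perm.sign τ := by
  simp [blockPerm, Equiv.Perm.sign_permCongr, Equiv.Perm.sign_sumCongr]

lemma sum_sign_prod {n : ℕ} (N : Matrix (Fin n) (Fin n) k) (s : Perm (Fin n)) :
    ∑ π : Perm (Fin n), (((Perm.sign π : ℤˣ) : ℤ) : k) * ∏ i, N (s i) (π.symm i)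
      = (((Perm.sign s : ℤˣ) : ℤ) : k) * N.det := by
  rw [← det_permute, ← det_transpose, det_apply']
  refine Fintype.sum_equiv (Equiv.inv (Perm _)) _ _ fun π => ?_
  simp [Perm.inv_def]

lemma key (M : Matrix (Fin (p + r)) (Fin (p + r)) k) (f : Fin p → Fin (p + r))
    (g : Fin r → Fin (p + r)) :
    ∑ π : Perm (Fin (p + r)), (((Perm.sign π : ℤˣ) : ℤ) : k) *
      ((M * π.permMatrix k).submatrix f (Fin.castAdd r)).det *
      ((M * π.permMatrix k).submatrix g (Fin.natAdd p)).det =
    ((p.factorial * r.factorial : ℕ) : k) * (M.submatrix (Fin.append f g) id).det := by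
  set N := M.submatrix (Fin.append f g) id with hN
  have h1 : ∀ π : Perm (Fin (p + r)), ((M * π.permMatrix k).submatrix f (Fin.castAdd r)).det
      = ∑ σ : Perm (Fin p), (((Perm.sign σ : ℤˣ) : ℤ) : k) *
          ∏ i, N (Fin.castAdd r (σ i)) (π.symm (Fin.castAdd r i)) := by
    intro π
    rw [det_apply']
    refine Finset.sum_congr rfl fun σ _ => ?_
    congr 1
    refine Finset.prod_congr rfl fun i _ => ?_
    simp [hN, PEquiv.mul_toMatrix_toPEquiv]
  have h2 : ∀ π : Perm (Fin (p + r)), ((M * π.permMatrix k).submatrix g (Fin.natAdd p)).det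
      = ∑ τ : Perm (Fin r), (((Perm.sign τ : ℤˣ) : ℤ) : k) *
          ∏ j, N (Fin.natAdd p (τ j)) (π.symm (Fin.natAdd p j)) := by
    intro π
    rw [det_apply']
    refine Finset.sum_congr rfl fun σ _ => ?_
    congr 1
    refine Finset.prod_congr rfl fun i _ => ?_
    simp [hN, PEquiv.mul_toMatrix_toPEquiv]
  simp_rw [h1, h2]
  calc ∑ π : Perm (Fin (p + r)), (((Perm.sign π : ℤˣ) : ℤ) : k) *
        (∑ σ : Perm (Fin p), (((Perm.sign σ : ℤˣ) : ℤ) : k) *
          ∏ i, N (Fin.castAdd r (σ i)) (π.symm (Fin.castAdd r i))) *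
        (∑ τ : Perm (Fin r), (((Perm.sign τ : ℤˣ) : ℤ) : k) *
          ∏ j, N (Fin.natAdd p (τ j)) (π.symm (Fin.natAdd p j)))
      = ∑ π : Perm (Fin (p + r)), ∑ σ : Perm (Fin p), ∑ τ : Perm (Fin r),
          ((((Perm.sign σ : ℤˣ) : ℤ) : k) * (((Perm.sign τ : ℤˣ) : ℤ) : k)) *
          ((((Perm.sign π : ℤˣ) : ℤ) : k) *
            ((∏ i, N (Fin.castAdd r (σ i)) (π.symm (Fin.castAdd r i))) *
             (∏ j, N (Fin.natAdd p (τ j)) (π.symm (Fin.natAdd p j))))) := by
        refine Finset.sum_congr rfl fun π _ => ?_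
        rw [mul_assoc, Finset.sum_mul_sum, Finset.mul_sum]
        refine Finset.sum_congr rfl fun σ _ => ?_
        rw [Finset.mul_sum]
        refine Finset.sum_congr rfl fun τ _ => ?_
        ring
    _ = ∑ σ : Perm (Fin p), ∑ τ : Perm (Fin r),
          ((((Perm.sign σ : ℤˣ) : ℤ) : k) * (((Perm.sign τ : ℤˣ) : ℤ) : k)) *
          ∑ π : Perm (Fin (p + r)), ((((Perm.sign π : ℤˣ) : ℤ) : k) *
            ((∏ i, N (Fin.castAdd r (σ i)) (π.symm (Fin.castAdd r i))) *
             (∏ j, N (Fin.natAdd p (τ j)) (π.symm (Fin.natAdd p j))))) := by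
        rw [Finset.sum_comm]
        refine Finset.sum_congr rfl fun σ _ => ?_
        rw [Finset.sum_comm]
        refine Finset.sum_congr rfl fun τ _ => ?_
        rw [Finset.mul_sum]
    _ = ∑ σ : Perm (Fin p), ∑ τ : Perm (Fin r),
          ((((Perm.sign σ : ℤˣ) : ℤ) : k) * (((Perm.sign τ : ℤˣ) : ℤ) : k)) *
          ((((Perm.sign (blockPerm σ τ) : ℤˣ) : ℤ) : k) * N.det) := by
        refine Finset.sum_congr rfl fun σ _ => Finset.sum_congr rfl fun τ _ => ?_
        congr 1
        rw [← sum_sign_prod]
        refine Finset.sum_congr rfl fun π _ => ?_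
        congr 1
        rw [Fin.prod_univ_add]
        simp [blockPerm_castAdd, blockPerm_natAdd]
    _ = ∑ σ : Perm (Fin p), ∑ τ : Perm (Fin r), N.det := by
        refine Finset.sum_congr rfl fun σ _ => Finset.sum_congr rfl fun τ _ => ?_
        rw [sign_blockPerm]
        have h : (((Perm.sign σ : ℤˣ) : ℤ) * ((Perm.sign τ : ℤˣ) : ℤ)) *
            (((Perm.sign σ : ℤˣ) : ℤ) * ((Perm.sign τ : ℤˣ) : ℤ)) = 1 := by
          rw [← Units.val_mul, ← Units.val_mul, Int.units_mul_self]; rfl
        have h' := congrArg (Int.cast (R := k)) h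
        push_cast at h' ⊢
        rw [← mul_assoc, h', one_mul]
    _ = ((p.factorial * r.factorial : ℕ) : k) * N.det := by
        simp [Finset.card_univ, Fintype.card_perm, mul_assoc]

end general


section sign
variable {k : Type*} [CommRing k] {p r : ℕ}

lemma det_append_of_ne (M : Matrix (Fin (p + r)) (Fin (p + r)) k)
    (A : Finset (Fin (p + r))) (hA : A.card = p) (B : Finset (Fin (p + r))) (hB : B.card = r)
    (hne : B ≠ Aᶜ) :
    (M.submatrix (Fin.append (A.orderEmbOfFin hA) (B.orderEmbOfFin hB)) id).det = 0 := by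
  obtain ⟨x, hxA, hxB⟩ : ∃ x, x ∈ A ∧ x ∈ B := by
    by_contra hcon
    apply hne
    apply Finset.eq_of_subset_of_card_le
    · intro x hx
      rw [Finset.mem_compl]
      exact fun h => hcon ⟨x, h, hx⟩
    · rw [Finset.card_compl, hA, hB, Fintype.card_fin]; omega
  obtain ⟨i, rfl⟩ : ∃ i, A.orderEmbOfFin hA i = x := by
    have hx : x ∈ Set.range (A.orderEmbOfFin hA) := by
      rw [Finset.range_orderEmbOfFin A hA]; exact hxA
    exact hx
  obtain ⟨j, hj⟩ : ∃ j, B.orderEmbOfFin hB j = A.orderEmbOfFin hA i := by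
    have hx : A.orderEmbOfFin hA i ∈ Set.range (B.orderEmbOfFin hB) := by
      rw [Finset.range_orderEmbOfFin B hB]; exact hxB
    exact hx
  apply det_zero_of_row_eq (i := Fin.castAdd r i) (j := Fin.natAdd p j)
  · intro h
    have := congrArg Fin.val h
    simp at this
    omega
  · ext c
    simp [hj]

def rho (A : Finset (Fin (p + r))) (hA : A.card = p) (hB : Aᶜ.card = r) : Perm (Fin (p + r)) :=
  finSumFinEquiv.symm.trans (finSumEquivOfFinset hA hB)

lemma rho_castAdd (A : Finset (Fin (p + r))) (hA : A.card = p) (hB : Aᶜ.card = r) (i : Fin p) :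
    rho A hA hB (Fin.castAdd r i) = A.orderEmbOfFin hA i := by
  simp [rho]

lemma rho_natAdd (A : Finset (Fin (p + r))) (hA : A.card = p) (hB : Aᶜ.card = r) (j : Fin r) :
    rho A hA hB (Fin.natAdd p j) = Aᶜ.orderEmbOfFin hB j := by
  simp [rho]

lemma coe_rho (A : Finset (Fin (p + r))) (hA : A.card = p) (hB : Aᶜ.card = r) :
    ⇑(rho A hA hB) = Fin.append (A.orderEmbOfFin hA) (Aᶜ.orderEmbOfFin hB) := by
  funext x
  induction x using Fin.addCases with
  | left i => simp [rho_castAdd]
  | right j => simp [rho_natAdd]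

lemma sign_rho (A : Finset (Fin (p + r))) (hA : A.card = p) (hB : Aᶜ.card = r) :
    Perm.sign (rho A hA hB) =
      (-1) ^ ((A ×ˢ Aᶜ).filter (fun ab => ab.2 < ab.1)).card := by
  rw [Equiv.Perm.sign_eq_prod_prod_Ioi, Finset.prod_sigma']
  have hite : ∀ x : (_ : Fin (p + r)) × Fin (p + r),
      (if rho A hA hB x.1 < rho A hA hB x.2 then (1 : ℤˣ) else -1) =
        if ¬ (rho A hA hB x.1 < rho A hA hB x.2) then -1 else 1 := by
    intro x; split_ifs <;> rfl
  simp_rw [hite]
  rw [← Finset.prod_filter, Finset.prod_const]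
  congr 1
  refine Finset.card_equiv ((Equiv.sigmaEquivProd _ _).trans
    (Equiv.prodCongr (rho A hA hB) (rho A hA hB))) ?_
  rintro ⟨i, j⟩
  have hAm : ∀ a, A.orderEmbOfFin hA a ∈ A := fun a => Finset.orderEmbOfFin_mem A hA a
  have hBm : ∀ b, Aᶜ.orderEmbOfFin hB b ∉ A := fun b =>
    Finset.mem_compl.mp (Finset.orderEmbOfFin_mem Aᶜ hB b)
  simp only [Finset.mem_filter, Finset.mem_sigma, Finset.mem_univ, true_and, Finset.mem_Ioi,
    Equiv.trans_apply, Equiv.sigmaEquivProd_apply, Equiv.prodCongr_apply, Prod.map,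
    Finset.mem_product, Finset.mem_compl]
  induction i using Fin.addCases with
  | left a =>
    induction j using Fin.addCases with
    | left a' =>
      simp only [rho_castAdd, hAm, not_true_eq_false, and_false, false_and, iff_false, not_and,
        not_not, OrderEmbedding.lt_iff_lt]
      intro h
      rw [Fin.lt_def] at h ⊢; simpa using h
    | right b =>
      simp only [rho_castAdd, rho_natAdd, hAm, hBm, not_false_eq_true, and_self, true_and]
      have hlt : Fin.castAdd r a < Fin.natAdd p b := by
        rw [Fin.lt_def]; simp; omega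
      have hne : A.orderEmbOfFin hA a ≠ Aᶜ.orderEmbOfFin hB b := fun h => hBm b (h ▸ hAm a)
      simp only [hlt, true_and, not_lt]
      exact ⟨fun h => lt_of_le_of_ne h (Ne.symm hne), le_of_lt⟩
  | right b =>
    induction j using Fin.addCases with
    | left a =>
      simp only [rho_castAdd, rho_natAdd, hBm, false_and, iff_false, not_and, not_not]
      intro h
      exfalso
      rw [Fin.lt_def] at h; simp at h; omega
    | right b' =>
      simp only [rho_natAdd, hBm, false_and, iff_false, not_and, not_not,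
        OrderEmbedding.lt_iff_lt]
      intro h
      rw [Fin.lt_def] at h ⊢; simpa using h

lemma det_append_compl (M : Matrix (Fin (p + r)) (Fin (p + r)) k)
    (A : Finset (Fin (p + r))) (hA : A.card = p) (hB : Aᶜ.card = r) :
    (M.submatrix (Fin.append (A.orderEmbOfFin hA) (Aᶜ.orderEmbOfFin hB)) id).det =
      (-1 : k) ^ ((A ×ˢ Aᶜ).filter (fun ab => ab.2 < ab.1)).card * M.det := by
  rw [← coe_rho, det_permute, sign_rho]
  simp

end sign

/-- Let k be a field of characteristic zero, n = p + r with p, r ≥ 1, M an n × n matrix over k, A a set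
of p row indices and B a set of r row indices, both listed increasingly. For a permutation π of the
indices, with permutation matrix P_π, let Y_A(M·P_π) be the minor of M·P_π on the rows A and the
first p columns, and Z_B(M·P_π) the minor on the rows B and the last r columns. Then the sum over
all π of sign(π)·Y_A(M·P_π)·Z_B(M·P_π) equals p!·r!·(−1)^N·det M when B is the complement of A,
where N is the number of pairs (a, b) with a in A, b outside A and b < a, and equals 0 otherwise.
Taking det M = 1 this says that the pairing (f, h) ↦ Σ_π sign(π) f(π) h(π) between the spans of the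
left p-minors and of the right r-minors is invariant under left translation by matrices of
determinant one and pairs Y_A with the signed complementary minor to p!·r!. (The published statement
asserts that the two families of minors are dual bases for this pairing, that is, the value 1 in
place of p!·r!; the p!·r! permutations preserving the two column blocks each contribute the same
signed term, so this row carries that factor, which is 1 only for n = 2.) -/
theorem result (k : Type u) [Field k] [CharZero k]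
    (p r : ℕ) (hp : 1 ≤ p) (hr : 1 ≤ r) (M : Matrix (Fin (p + r)) (Fin (p + r)) k)
    (A : Finset (Fin (p + r))) (hA : A.card = p) (B : Finset (Fin (p + r))) (hB : B.card = r) :
    ∑ π : Equiv.Perm (Fin (p + r)), (((Equiv.Perm.sign π : ℤˣ) : ℤ) : k) *
      ((M * π.permMatrix k).submatrix (A.orderEmbOfFin hA) (Fin.castAdd r)).det *
      ((M * π.permMatrix k).submatrix (B.orderEmbOfFin hB) (Fin.natAdd p)).det =
    if B = Aᶜ then ((p.factorial * r.factorial : ℕ) : k) *
      (-1 : k) ^ ((A ×ˢ Aᶜ).filter (fun ab => ab.2 < ab.1)).card * M.det else 0 := by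
  rw [key M (A.orderEmbOfFin hA) (B.orderEmbOfFin hB)]
  split_ifs with hBA
  · subst hBA
    rw [det_append_compl M A hA hB, mul_assoc]
  · rw [det_append_of_ne M A hA B hB hBA, mul_zero]

end Groth.Agent.S14879
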