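import Groth.Statements.S14882
import Groth.Agent.S14876
import Mathlib.Tactic.Group

set_option autoImplicit false
universe u
open CategoryTheory MonoidalCategory CartesianMonoidalCategory MonObj GrpObj AlgebraicGeometry CategoryTheory.Limits
open AlgGrp

namespace Groth.Agent.S14882

section
variable {C : Type*} [Category C] [CartesianMonoidalCategory C] {X G : C} [GrpObj G]

/-- the shear map `(x, g) ↦ (x, ψ(x) * g)`. -/
def shear (ψ : X ⟶ G) : X ⊗ G ⟶ X ⊗ G := lift (fst X G) ((fst X G ≫ ψ) * snd X G)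

theorem lift_shear (ψ : X ⟶ G) {T : C} (x : T ⟶ X) (g : T ⟶ G) :
    lift x g ≫ shear ψ = lift x ((x ≫ ψ) * g) := by
  rw [shear, comp_lift, lift_fst, MonObj.comp_mul, lift_fst_assoc, lift_snd]

theorem shear_shear (ψ ψ' : X ⟶ G) : shear ψ ≫ shear ψ' = shear (ψ' * ψ) := by
  conv_lhs => rw [shear, lift_shear]
  rw [shear, MonObj.comp_mul, _root_.mul_assoc]

theorem shear_one : shear (1 : X ⟶ G) = 𝟙 (X ⊗ G) := by
  rw [shear, MonObj.comp_one, _root_.one_mul, lift_fst_snd]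

end

/-- Over an algebraically closed field k of characteristic zero, let G be an algebraic group (a smooth
k-group scheme of finite type), X a variety (reduced, separated, of finite type over k) and Γ a
finite group acting on X on the right (x ↦ x·σ, with x·(στ) = (x·σ)·τ). Let φ and φ' be 1-cocycles Γ
→ G(X), φ_{στ} = φ_σ · (φ_τ ∘ (·σ)), with attached Γ-linearizations of X × G given on points by
λ_σ(x, g) = (x·σ, φ_σ(x)⁻¹·g) and λ'_σ(x, g) = (x·σ, φ'_σ(x)⁻¹·g). Then the two Γ-linearized trivial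
bundles are isomorphic, meaning that there is an automorphism Φ of X × G over X, commuting with the
action of G by right multiplication, with Φ ∘ λ_σ = λ'_σ ∘ Φ for every σ, if and only if the
cocycles are cohomologous: there is ψ in G(X) with φ_σ = ψ⁻¹ · φ'_σ · (ψ ∘ (·σ)) for every σ. Hence
isomorphism classes of Γ-linearizations of the trivial bundle correspond to H¹(Γ, G(X)). -/
theorem result (k : Type u) [Field k] [IsAlgClosed k] [CharZero k]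
    (G X : Over (Spec (CommRingCat.of k))) [GrpObj G] [Smooth G.hom] [QuasiCompact G.hom]
    [LocallyOfFiniteType X.hom] [QuasiCompact X.hom] [IsSeparated X.hom] [IsReduced X.left]
    (Γ : Type) [Group Γ] [Finite Γ] (ρ : Γ → (X ⟶ X)) (hρ₁ : ρ 1 = 𝟙 X) (hρ : ∀ σ τ : Γ, ρ (σ * τ) = ρ σ ≫ ρ τ)
    (φ φ' : Γ → (X ⟶ G)) (hφ : ∀ σ τ : Γ, φ (σ * τ) = φ σ * (ρ σ ≫ φ τ))
    (hφ' : ∀ σ τ : Γ, φ' (σ * τ) = φ' σ * (ρ σ ≫ φ' τ))
    (lam lam' : Γ → (X ⊗ G ⟶ X ⊗ G))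
    (hlam : ∀ (σ : Γ) (T : Over (Spec (CommRingCat.of k))) (x : T ⟶ X) (g : T ⟶ G),
      lift x g ≫ lam σ = lift (x ≫ ρ σ) ((x ≫ φ σ)⁻¹ * g))
    (hlam' : ∀ (σ : Γ) (T : Over (Spec (CommRingCat.of k))) (x : T ⟶ X) (g : T ⟶ G),
      lift x g ≫ lam' σ = lift (x ≫ ρ σ) ((x ≫ φ' σ)⁻¹ * g)) :
    (∃ Φ : X ⊗ G ⟶ X ⊗ G, IsIso Φ ∧ Φ ≫ fst X G = fst X G ∧
      (∀ (T : Over (Spec (CommRingCat.of k))) (x : T ⟶ X) (g h : T ⟶ G),
        lift x (g * h) ≫ Φ ≫ snd X G = (lift x g ≫ Φ ≫ snd X G) * h) ∧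
      ∀ σ : Γ, lam σ ≫ Φ = Φ ≫ lam' σ) ↔
    ∃ ψ : X ⟶ G, ∀ σ : Γ, φ σ = ψ⁻¹ * φ' σ * (ρ σ ≫ ψ) := by
  have hformlam : ∀ σ : Γ, lam σ = lift (fst X G ≫ ρ σ) ((fst X G ≫ φ σ)⁻¹ * snd X G) := by
    intro σ
    have := hlam σ (X ⊗ G) (fst X G) (snd X G)
    rwa [lift_fst_snd, Category.id_comp] at this
  constructor
  · rintro ⟨Φ, -, hΦ₁, hΦ₂, hΦ₃⟩
    let ψ : X ⟶ G := lift (𝟙 X) 1 ≫ Φ ≫ snd X G
    have hform : ∀ (T : Over (Spec (CommRingCat.of k))) (x : T ⟶ X) (g : T ⟶ G),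
        lift x g ≫ Φ = lift x ((x ≫ ψ) * g) := by
      intro T x g
      have := Groth.Agent.S14876.formula Φ (𝟙 X) (by rw [hΦ₁, Category.comp_id]) hΦ₂ T x g
      rwa [Category.comp_id] at this
    refine ⟨ψ, fun σ => ?_⟩
    have h1 : lift (𝟙 X) (1 : X ⟶ G) ≫ lam σ ≫ Φ = lift (ρ σ) ((ρ σ ≫ ψ) * (φ σ)⁻¹) := by
      rw [← Category.assoc, hlam, Category.id_comp, Category.id_comp, _root_.mul_one, hform]
    have h2 : lift (𝟙 X) (1 : X ⟶ G) ≫ Φ ≫ lam' σ = lift (ρ σ) ((φ' σ)⁻¹ * ψ) := by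
      rw [← Category.assoc, hform, Category.id_comp, _root_.mul_one, hlam', Category.id_comp,
        Category.id_comp]
    rw [hΦ₃ σ, h2] at h1
    have h3 := congrArg (· ≫ snd X G) h1
    simp only [lift_snd] at h3
    -- h3 : (φ' σ)⁻¹ * ψ = (ρ σ ≫ ψ) * (φ σ)⁻¹
    have : φ σ = ((φ' σ)⁻¹ * ψ)⁻¹ * (ρ σ ≫ ψ) := by
      rw [h3]; group
    rw [this]; group
  · rintro ⟨ψ, hψ⟩
    refine ⟨shear ψ, ⟨⟨shear ψ⁻¹, ?_, ?_⟩⟩, ?_, ?_, ?_⟩
    · rw [shear_shear, inv_mul_cancel, shear_one]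
    · rw [shear_shear, mul_inv_cancel, shear_one]
    · rw [shear, lift_fst]
    · intro T x g h
      rw [← Category.assoc, ← Category.assoc, lift_shear, lift_shear, lift_snd, lift_snd,
        _root_.mul_assoc]
    · intro σ
      have h1 : lam σ ≫ shear ψ = lift (fst X G ≫ ρ σ)
          (((fst X G ≫ ρ σ) ≫ ψ) * ((fst X G ≫ φ σ)⁻¹ * snd X G)) := by
        rw [hformlam, lift_shear]
      have h2 : shear ψ ≫ lam' σ = lift (fst X G ≫ ρ σ)
          ((fst X G ≫ φ' σ)⁻¹ * ((fst X G ≫ ψ) * snd X G)) := by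
        rw [shear, hlam']
      rw [h1, h2, hψ σ, MonObj.comp_mul, MonObj.comp_mul, GrpObj.comp_inv, Category.assoc]
      congr 1
      group

end Groth.Agent.S14882
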