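import Groth.Statements.S14888
import Mathlib
import Groth.Agent.Lib.Helper12.FinSpecAway

set_option autoImplicit false
universe u
open CategoryTheory AlgebraicGeometry
open CAlg

namespace Groth.Agent.S14888

/-- Let R be a valuation ring whose spectrum is finite (finite height) and let f : X → Spec R be locally
of finite type with locally quasi-finite fibres. For every x ∈ X the canonical morphism Spec O_{X,x}
→ X is an open immersion, and the composite Spec O_{X,x} → Spec R is locally of finite type; in
particular O_{X,x} is finitely generated as an R-algebra. (The published statement takes X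
quasi-finite over Spec R; the assertions are local at x, so this row assumes only that X is locally
of finite type with discrete fibres.) -/
theorem result
    (R : Type u) [CommRing R] [IsDomain R] [ValuationRing R] [Finite (PrimeSpectrum R)]
    {X : Scheme.{u}} (f : X ⟶ Spec (CommRingCat.of R)) [LocallyOfFiniteType f] [LocallyQuasiFinite f]
    (x : X) :
    IsOpenImmersion (X.fromSpecStalk x) ∧ LocallyOfFiniteType (X.fromSpecStalk x ≫ f) := by
  classical
  obtain ⟨U, hU, hxU, -⟩ := (TopologicalSpace.Opens.isBasis_iff_nbhd.mp X.isBasis_affineOpens)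
    (show x ∈ (⊤ : X.Opens) from trivial)
  have hU' : IsAffineOpen U := hU
  have hle : U ≤ f ⁻¹ᵁ ⊤ := le_top
  have hQF : (f.appLE ⊤ U hle).hom.QuasiFinite :=
    HasRingHomProperty.appLE @LocallyQuasiFinite f inferInstance ⟨⊤, isAffineOpen_top _⟩ ⟨U, hU'⟩ hle
  letI : Algebra Γ(Spec (CommRingCat.of R), ⊤) Γ(X, U) := (f.appLE ⊤ U hle).hom.toAlgebra
  haveI : Algebra.QuasiFinite Γ(Spec (CommRingCat.of R), ⊤) Γ(X, U) := hQF
  haveI : Finite (PrimeSpectrum Γ(Spec (CommRingCat.of R), ⊤)) :=
    Finite.of_equiv (PrimeSpectrum R) (PrimeSpectrum.comapEquiv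
      (Scheme.ΓSpecIso (CommRingCat.of R)).commRingCatIsoToRingEquiv).toEquiv.symm
  haveI : Finite (PrimeSpectrum Γ(X, U)) :=
    Algebra.QuasiFinite.finite_primeSpectrum Γ(Spec (CommRingCat.of R), ⊤) Γ(X, U)
  letI : Algebra Γ(X, U) (X.presheaf.stalk x) := (X.presheaf.germ U x hxU).hom.toAlgebra
  haveI := hU'.isLocalization_stalk ⟨x, hxU⟩
  obtain ⟨g, -, hg⟩ := Groth.Agent.Lib.Helper12.FinSpecAway.exists_away
    (B := Γ(X, U)) (S := X.presheaf.stalk x) (hU'.primeIdealOf ⟨x, hxU⟩).asIdeal
  have h1 : IsOpenImmersion (Spec.map (X.presheaf.germ U x hxU)) :=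
    IsOpenImmersion.of_isLocalization (R := Γ(X, U)) (S := X.presheaf.stalk x) g
  have h2 : IsOpenImmersion (X.fromSpecStalk x) := by
    rw [← hU'.fromSpecStalk_eq_fromSpecStalk hxU, IsAffineOpen.fromSpecStalk]
    infer_instance
  exact ⟨h2, inferInstance⟩

end Groth.Agent.S14888
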