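import Groth.Statements.S14892
import Mathlib
import Groth.Agent.Lib.Helper12.ValRankC

set_option autoImplicit false
universe u
open CAlg

namespace Groth.Agent.S14892

/-- If the field K has finite transcendence degree d over its prime subfield, then every valuation
subring of K has height (Krull dimension) at most d + 1. -/
theorem result
    (K : Type u) [Field K] (A : ValuationSubring K) (d : ℕ)
    (hd : Algebra.trdeg (⊥ : Subfield K) K = d) :
    ringKrullDim A ≤ ((d + 1 : ℕ) : WithBot ℕ∞) := by
  unfold ringKrullDim Order.krullDim
  refine iSup_le fun p => ?_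
  have hstep : ∀ j : Fin p.length, ∃ y : A, y ∈ (p j.succ).asIdeal ∧ y ∉ (p j.castSucc).asIdeal := by
    intro j
    have hlt : (p j.castSucc).asIdeal < (p j.succ).asIdeal := p.step j
    exact SetLike.exists_of_lt hlt
  choose y hy1 hy2 using hstep
  have hr := Groth.Agent.Lib.Helper12.ValRank.card_le_trdeg_add_one A.valuation p.length
    (fun j => (y j : K)) ?_ ?_ ?_ d hd.le
  · exact_mod_cast hr
  · intro j h0
    apply hy2 j
    have : y j = 0 := Subtype.ext h0
    rw [this]
    exact Ideal.zero_mem _
  · intro j
    rw [← A.valuation_lt_one_iff]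
    exact IsLocalRing.le_maximalIdeal (p j.succ).isPrime.ne_top (hy1 j)
  · intro i j hij M
    by_contra hcon
    rw [not_le] at hcon
    have hle : A.valuation ((y j : K) ^ M) ≤ A.valuation (y i : K) := by
      rw [map_pow]
      exact hcon.le
    rw [A.valuation_le_iff] at hle
    obtain ⟨a, ha⟩ := hle
    have hmono : (p i.succ).asIdeal ≤ (p j.castSucc).asIdeal := by
      have h1 : i.succ ≤ j.castSucc := by
        rw [Fin.le_def]
        simp only [Fin.val_succ, Fin.val_castSucc]
        exact hij
      exact p.monotone h1
    have hmem : y j ^ M ∈ (p j.castSucc).asIdeal := by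
      have : y j ^ M = a * y i := by
        apply Subtype.ext
        push_cast
        exact ha.symm
      rw [this]
      exact Ideal.mul_mem_left _ _ (hmono (hy1 i))
    exact hy2 j ((p j.castSucc).isPrime.mem_of_pow_mem M hmem)

end Groth.Agent.S14892
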