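import Groth.Statements.S14893
import Mathlib
import Groth.Agent.Lib.Helper12.FinValInterD
import Groth.Agent.Lib.Helper12.FinValInterE
import Groth.Agent.Lib.Helper12.FinValInterF

set_option autoImplicit false
universe u
open CAlg

namespace Groth.Agent.S14893

/-- Every valuation ring R is a filtered union of subrings which are valuation rings with finite
spectrum (finite height): there is a nonempty directed index type and a monotone family of such
subrings of R whose supremum is R. -/
theorem result
    (R : Type u) [CommRing R] [IsDomain R] [ValuationRing R] :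
    ∃ (ι : Type u) (_ : Preorder ι) (_ : IsDirected ι (fun a b ↦ a ≤ b)) (_ : Nonempty ι)
      (F : ι → Subring R), Monotone F ∧ (⨆ i, F i) = ⊤ ∧
        ∀ i, ValuationRing (F i) ∧ Finite (PrimeSpectrum (F i)) := by
  classical
  obtain ⟨L, hL⟩ : ∃ L : Type u, L = FractionRing R := ⟨_, rfl⟩
  subst hL
  have hinj : Function.Injective (algebraMap R (FractionRing R)) :=
    IsFractionRing.injective R (FractionRing R)
  let Ks : Finset R → Subfield (FractionRing R) := fun s =>
    Subfield.closure (algebraMap R (FractionRing R) '' (s : Set R))
  let F : Finset R → Subring R := fun s => (Ks s).toSubring.comap (algebraMap R (FractionRing R))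
  have hmemF : ∀ s (r : R), r ∈ F s ↔ algebraMap R (FractionRing R) r ∈ Ks s := fun s r => Iff.rfl
  refine ⟨Finset R, inferInstance, inferInstance, inferInstance, F, ?_, ?_, ?_⟩
  · intro s t hst r hr
    rw [hmemF] at hr ⊢
    exact Subfield.closure_mono (Set.image_mono (Finset.coe_subset.2 hst)) hr
  · rw [eq_top_iff]
    intro r _
    have h1 : r ∈ F {r} := by
      rw [hmemF]
      exact Subfield.subset_closure ⟨r, by simp, rfl⟩
    exact (le_iSup F {r}) h1
  · intro s
    have hval : ValuationRing (F s) := by
      refine { toPreValuationRing := ⟨fun x y => ?_⟩ }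
      obtain ⟨c, hc⟩ := ValuationRing.cond (x : R) (y : R)
      rcases hc with hc | hc
      · by_cases hx : (x : R) = 0
        · refine ⟨0, Or.inl ?_⟩
          apply Subtype.ext
          have : (y : R) = 0 := by rw [← hc, hx, zero_mul]
          simp [this]
        · have hc' : c ∈ F s := by
            rw [hmemF]
            have h2 : algebraMap R (FractionRing R) c =
                algebraMap R (FractionRing R) y / algebraMap R (FractionRing R) x := by
              rw [eq_div_iff (fun h => hx (hinj (by rw [h, map_zero]))), ← map_mul, mul_comm, hc]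
            rw [h2]
            exact div_mem y.2 x.2
          exact ⟨⟨c, hc'⟩, Or.inl (Subtype.ext hc)⟩
      · by_cases hy : (y : R) = 0
        · refine ⟨0, Or.inr ?_⟩
          apply Subtype.ext
          have : (x : R) = 0 := by rw [← hc, hy, zero_mul]
          simp [this]
        · have hc' : c ∈ F s := by
            rw [hmemF]
            have h2 : algebraMap R (FractionRing R) c =
                algebraMap R (FractionRing R) x / algebraMap R (FractionRing R) y := by
              rw [eq_div_iff (fun h => hy (hinj (by rw [h, map_zero]))), ← map_mul, mul_comm, hc]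
            rw [h2]
            exact div_mem x.2 y.2
          exact ⟨⟨c, hc'⟩, Or.inr (Subtype.ext hc)⟩
    refine ⟨hval, ?_⟩
    let V : Unit → ValuationSubring (FractionRing R) := fun _ =>
      (ValuationRing.valuation R (FractionRing R)).valuationSubring
    have hV : ∀ (i : Unit) (x : FractionRing R), x ∈ V i ↔ ∃ a : R, algebraMap R _ a = x :=
      fun i x => ValuationRing.mem_integer_iff R (FractionRing R) x
    have hA : ∀ x : FractionRing R,
        x ∈ (algebraMap R (FractionRing R)).range ⊓ (Ks s).toSubring ↔
        x ∈ Ks s ∧ ∀ i : Unit, x ∈ V i := by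
      intro x
      rw [Subring.mem_inf, and_comm]
      constructor
      · rintro ⟨h1, a, rfl⟩
        exact ⟨h1, fun i => (hV i _).2 ⟨a, rfl⟩⟩
      · rintro ⟨h1, h2⟩
        obtain ⟨a, rfl⟩ := (hV () x).1 (h2 ())
        exact ⟨h1, a, rfl⟩
    obtain ⟨d, hd⟩ := Groth.Agent.Lib.Helper12.FinValInter.exists_trdeg_le
      (algebraMap R (FractionRing R) '' (s : Set R)) (s.finite_toSet.image _)
    have hdim := Groth.Agent.Lib.Helper12.FinValInter.ringKrullDim_le V (Ks s) _ hA d hd
    let f : F s →+* ↥((algebraMap R (FractionRing R)).range ⊓ (Ks s).toSubring) :=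
      RingHom.codRestrict ((algebraMap R (FractionRing R)).comp (F s).subtype) _
        (fun r => ⟨⟨r.1, rfl⟩, r.2⟩)
    have hf : Function.Bijective f := by
      constructor
      · intro a b hab
        apply Subtype.ext
        apply hinj
        exact congrArg Subtype.val hab
      · rintro ⟨x, ⟨r, rfl⟩, hxK⟩
        exact ⟨⟨r, hxK⟩, rfl⟩
    obtain ⟨h1, h2, h3⟩ := Groth.Agent.Lib.Helper12.FinValInter.transfer
      (RingEquiv.ofBijective f hf)
      (fun p _ => Groth.Agent.Lib.Helper12.FinValInter.valuationRing_localization V (Ks s) _ hA p)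
      (Groth.Agent.Lib.Helper12.FinValInter.finite_maximalSpectrum V (Ks s) _ hA)
      (lt_of_le_of_lt hdim (WithBot.coe_lt_coe.2 (ENat.coe_lt_top _)))
    exact Groth.Agent.Lib.Helper12.FinValInter.finite_primeSpectrum (F s) h1 h2 h3

end Groth.Agent.S14893
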