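import Groth.Statements.S14896
import Mathlib

set_option autoImplicit false
universe u
open CAlg

namespace Groth.Agent.S14896

/-- Let L/K be a finite extension of valued fields, v_L extending v_K, with K° = the valuation ring of
v_K having finite spectrum (finite height), and L° the valuation ring of v_L. If L° is local-étale
over K°, i.e. L° is the localization at a prime ideal of some étale K°-algebra B compatibly with the
K°-algebra structures, then L° is étale over K°. (For valued fields of finite height 'unramified' in
the local-étale sense is thus the same as K° → L° étale; the published lemma phrases the hypothesis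
as 'L/K unramified'.) -/
theorem result
    {K L Γ₀ Γ₁ : Type u} [Field K] [Field L] [Algebra K L] [FiniteDimensional K L]
    [LinearOrderedCommGroupWithZero Γ₀] [LinearOrderedCommGroupWithZero Γ₁]
    (vK : Valuation K Γ₀) (vL : Valuation L Γ₁) [vK.HasExtension vL]
    [Finite (PrimeSpectrum vK.valuationSubring)]
    (B : Type u) [CommRing B] [Algebra vK.valuationSubring B] [Algebra.Etale vK.valuationSubring B]
    [Algebra B vL.valuationSubring] [IsScalarTower vK.valuationSubring B vL.valuationSubring]
    (P : Ideal B) [P.IsPrime] [IsLocalization.AtPrime vL.valuationSubring P] :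
    Algebra.Etale vK.valuationSubring vL.valuationSubring := by
  classical
  haveI : Algebra.QuasiFinite vK.valuationSubring B := inferInstance
  haveI : Finite (PrimeSpectrum B) := Algebra.QuasiFinite.finite_primeSpectrum vK.valuationSubring B
  haveI : Fintype (PrimeSpectrum B) := Fintype.ofFinite _
  let T : Finset (PrimeSpectrum B) := Finset.univ.filter (fun q => ¬ q.asIdeal ≤ P)
  have h1 : ¬ T.inf (fun q => q.asIdeal) ≤ P := by
    intro h
    obtain ⟨q, hq, hqP⟩ := (Ideal.IsPrime.inf_le' inferInstance).1 h
    exact (Finset.mem_filter.1 hq).2 hqP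
  obtain ⟨f, hfT, hfP⟩ := Set.not_subset.1 h1
  have hfT' : ∀ q : PrimeSpectrum B, ¬ q.asIdeal ≤ P → f ∈ q.asIdeal := by
    intro q hq
    have : T.inf (fun q => q.asIdeal) ≤ q.asIdeal :=
      Finset.inf_le (Finset.mem_filter.2 ⟨Finset.mem_univ _, hq⟩)
    exact this hfT
  have hle : Submonoid.powers f ≤ P.primeCompl := by
    rintro _ ⟨n, rfl⟩
    exact fun h => hfP (Ideal.IsPrime.mem_of_pow_mem inferInstance n h)
  have hdvd : ∀ n ∈ P.primeCompl, ∃ m ∈ Submonoid.powers f, n ∣ m := by
    intro n hn
    by_contra hcon
    push Not at hcon
    have hdisj : Disjoint (Ideal.span {n} : Set B) (Submonoid.powers f : Set B) := by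
      rw [Set.disjoint_left]
      intro x hx hxf
      exact hcon x hxf (Ideal.mem_span_singleton.1 hx)
    obtain ⟨q, hq, hnq, hqf⟩ := Ideal.exists_le_prime_disjoint _ _ hdisj
    have hfq : f ∉ q := fun h => Set.disjoint_left.1 hqf h ⟨1, pow_one f⟩
    have hqP : q ≤ P := by
      by_contra hqP
      exact hfq (hfT' ⟨q, hq⟩ hqP)
    exact hn (hqP (hnq (Ideal.subset_span rfl)))
  haveI : IsLocalization.Away f vL.valuationSubring :=
    (IsLocalization.iff_of_le_of_exists_dvd (Submonoid.powers f) P.primeCompl hle hdvd).2 inferInstance
  haveI : Algebra.Etale B vL.valuationSubring := Algebra.Etale.of_isLocalizationAway f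
  exact Algebra.Etale.comp vK.valuationSubring B vL.valuationSubring

end Groth.Agent.S14896
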