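import Groth.Statements.S1491
import Groth.Agent.Lib.Helper5.LciL

set_option autoImplicit false
universe u
attribute [local instance] HasDerivedCategory.standard
open FlatMor

namespace Groth.Agent.S1491

open AlgebraicGeometry CategoryTheory Limits in
/-- Let f : X → Y and g : Y → Z be local complete intersection morphisms, in the affine-local sense that
all ring maps between affine opens are local complete intersection homomorphisms. Then f ≫ g is a
local complete intersection morphism. -/
theorem result {X Y Z : Scheme.{u}} (f : X ⟶ Y) (g : Y ⟶ Z)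
    (hf : (∀ (U : X.Opens) (V : Y.Opens) (hU : IsAffineOpen U) (hV : IsAffineOpen V) (hUV : U ≤ f ⁻¹ᵁ V),
        letI := (f.appLE V U hUV).hom.toAlgebra
        LCI.IsLCI Γ(Y, V) Γ(X, U)))
    (hg : (∀ (U : Y.Opens) (V : Z.Opens) (hU : IsAffineOpen U) (hV : IsAffineOpen V) (hUV : U ≤ g ⁻¹ᵁ V),
        letI := (g.appLE V U hUV).hom.toAlgebra
        LCI.IsLCI Γ(Z, V) Γ(Y, U))) :
    (∀ (U : X.Opens) (V : Z.Opens) (hU : IsAffineOpen U) (hV : IsAffineOpen V) (hUV : U ≤ (f ≫ g) ⁻¹ᵁ V),
        letI := ((f ≫ g).appLE V U hUV).hom.toAlgebra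
        LCI.IsLCI Γ(Z, V) Γ(X, U)) := by
  let P : MorphismProperty Scheme.{u} :=
    AlgebraicGeometry.affineLocally @Groth.Agent.Lib.Helper5.Lci.IsLciHom
  have hP : AlgebraicGeometry.HasRingHomProperty P @Groth.Agent.Lib.Helper5.Lci.IsLciHom :=
    ⟨Groth.Agent.Lib.Helper5.Lci.isLciHom_propertyIsLocal, rfl⟩
  have hPf : P f := by
    rw [AlgebraicGeometry.HasRingHomProperty.iff_appLE (P := P)]
    intro V U e
    exact hf U.1 V.1 U.2 V.2 e
  have hPg : P g := by
    rw [AlgebraicGeometry.HasRingHomProperty.iff_appLE (P := P)]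
    intro V U e
    exact hg U.1 V.1 U.2 V.2 e
  have hcomp : P (f ≫ g) :=
    (AlgebraicGeometry.HasRingHomProperty.stableUnderComposition (P := P)
      Groth.Agent.Lib.Helper5.Lci.isLciHom_stableUnderComposition).comp_mem f g hPf hPg
  intro U V hU hV hUV
  exact (AlgebraicGeometry.HasRingHomProperty.iff_appLE (P := P)).1 hcomp ⟨V, hV⟩ ⟨U, hU⟩ hUV

end Groth.Agent.S1491
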