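import Groth.Statements.S14916
import Groth.Agent.Lib.Helper9.Perf11
import Mathlib.AlgebraicGeometry.Morphisms.Immersion

set_option autoImplicit false
universe u
open CategoryTheory AlgebraicGeometry
open PerfSch

namespace Groth.Agent.S14916

/-- Let p be a prime and let X, Y, X', Y' be schemes of characteristic p (p = 0 in the structure sheaf).
Let π_X : X' ⟶ X and π_Y : Y' ⟶ Y be perfections: X' is perfect (its absolute Frobenius is an
isomorphism) and every morphism from a perfect scheme of characteristic p to X factors uniquely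
through π_X, and likewise for π_Y. Let f : X ⟶ Y be a morphism and f' : X' ⟶ Y' the induced morphism
of perfections, the one with f' ≫ π_Y = π_X ≫ f. Then f is separated if and only if f' is separated. -/
theorem result (p : ℕ) [Fact p.Prime] {X Y XP YP : Scheme.{u}}
    [FrobSch.IsCharP X p] [FrobSch.IsCharP Y p] [FrobSch.IsCharP XP p] [FrobSch.IsCharP YP p]
    (πX : XP ⟶ X) (πY : YP ⟶ Y) (hX : FrobSch.IsPerfection πX p) (hY : FrobSch.IsPerfection πY p)
    (f : X ⟶ Y) (fP : XP ⟶ YP) (w : fP ≫ πY = πX ≫ f) :
    AlgebraicGeometry.IsSeparated f ↔ AlgebraicGeometry.IsSeparated fP := by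
  haveI : FrobSch.IsCharP (Limits.pullback fP fP) p := FrobSch.IsCharP.of_hom (Limits.pullback.fst _ _) p
  haveI : FrobSch.IsCharP (Limits.pullback f f) p := FrobSch.IsCharP.of_hom (Limits.pullback.fst _ _) p
  have hρ := Groth.Agent.Lib.Helper9.Perf.isPerfection_pullback_map p πX πY hX hY f fP w
  have hw := Groth.Agent.Lib.Helper9.Perf.diagonal_comp_pullback_map πX πY f fP w
  constructor
  · intro hf
    refine ⟨?_⟩
    exact Groth.Agent.Lib.Helper9.Perf.isClosedImmersion_of_isPerfection p πX _ hX hρ
      (Limits.pullback.diagonal f) (Limits.pullback.diagonal fP) hw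
  · intro hf
    refine ⟨?_⟩
    haveI : AlgebraicGeometry.IsPreimmersion (Limits.pullback.diagonal f) :=
      (inferInstance : AlgebraicGeometry.IsImmersion (Limits.pullback.diagonal f)).toIsPreimmersion
    apply AlgebraicGeometry.IsClosedImmersion.of_isPreimmersion
    have hs := (Groth.Agent.Lib.Helper9.Perf.surjective_of_isPerfection p πX hX).surj
    have hh := Groth.Agent.Lib.Helper9.Perf.isHomeomorph_of_isPerfection p _ hρ
    have hr : Set.range (Limits.pullback.diagonal f).base =
        (Limits.pullback.map fP fP f f πX πX πY w w).base '' Set.range (Limits.pullback.diagonal fP).base := by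
      ext z
      constructor
      · rintro ⟨x, rfl⟩
        obtain ⟨x', rfl⟩ := hs x
        refine ⟨_, ⟨x', rfl⟩, ?_⟩
        rw [← AlgebraicGeometry.Scheme.Hom.comp_apply, hw, AlgebraicGeometry.Scheme.Hom.comp_apply]
      · rintro ⟨_, ⟨x', rfl⟩, rfl⟩
        refine ⟨πX x', ?_⟩
        rw [← AlgebraicGeometry.Scheme.Hom.comp_apply, ← hw, AlgebraicGeometry.Scheme.Hom.comp_apply]
    rw [hr]
    exact hh.isClosedMap _ (Limits.pullback.diagonal fP).isClosedEmbedding.isClosed_range

end Groth.Agent.S14916
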