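import Groth.Statements.S14918
import Groth.Agent.Lib.Helper9.Perf12
import Groth.Agent.Lib.Helper9.Perf2

set_option autoImplicit false
universe u
open CategoryTheory AlgebraicGeometry
open PerfSch

namespace Groth.Agent.S14918

/-- Let p be a prime and let X, Y, X', Y' be schemes of characteristic p (p = 0 in the structure sheaf).
Let π_X : X' ⟶ X and π_Y : Y' ⟶ Y be perfections: X' is perfect (its absolute Frobenius is an
isomorphism) and every morphism from a perfect scheme of characteristic p to X factors uniquely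
through π_X, and likewise for π_Y. Let f : X ⟶ Y be a morphism and f' : X' ⟶ Y' the induced morphism
of perfections, the one with f' ≫ π_Y = π_X ≫ f. Then f is a universal homeomorphism (every base
change is a homeomorphism of underlying spaces) if and only if f' is a universal homeomorphism
(every base change is a homeomorphism of underlying spaces). -/
theorem result (p : ℕ) [Fact p.Prime] {X Y XP YP : Scheme.{u}}
    [FrobSch.IsCharP X p] [FrobSch.IsCharP Y p] [FrobSch.IsCharP XP p] [FrobSch.IsCharP YP p]
    (πX : XP ⟶ X) (πY : YP ⟶ Y) (hX : FrobSch.IsPerfection πX p) (hY : FrobSch.IsPerfection πY p)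
    (f : X ⟶ Y) (fP : XP ⟶ YP) (w : fP ≫ πY = πX ≫ f) :
    FlatMor.IsUnivHomeo f ↔ FlatMor.IsUnivHomeo fP := by
  have uX := Groth.Agent.Lib.Helper9.Perf.isUnivHomeo_of_isPerfection p πX hX
  have uY := Groth.Agent.Lib.Helper9.Perf.isUnivHomeo_of_isPerfection p πY hY
  obtain ⟨iX, jX, sX⟩ := (Groth.Agent.S0415.result πX).mp uX
  obtain ⟨iY, jY, sY⟩ := (Groth.Agent.S0415.result πY).mp uY
  constructor
  · intro hf
    obtain ⟨i1, j1, s1⟩ := (Groth.Agent.S0415.result f).mp hf
    rw [Groth.Agent.S0415.result]
    have a1 : AlgebraicGeometry.IsIntegralHom (fP ≫ πY) := by rw [w]; infer_instance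
    have a2 : AlgebraicGeometry.UniversallyInjective (fP ≫ πY) := by
      rw [w]; exact MorphismProperty.comp_mem _ _ _ jX j1
    refine ⟨AlgebraicGeometry.IsIntegralHom.of_comp fP πY,
      Groth.Agent.Lib.Helper9.Perf.universallyInjective_of_comp fP πY, ⟨fun y' => ?_⟩⟩
    obtain ⟨x, hx⟩ := s1.surj (πY y')
    obtain ⟨x', rfl⟩ := sX.surj x
    refine ⟨x', ?_⟩
    apply πY.injective
    rw [← hx, ← AlgebraicGeometry.Scheme.Hom.comp_apply, w, AlgebraicGeometry.Scheme.Hom.comp_apply]
  · intro hf
    obtain ⟨i1, j1, s1⟩ := (Groth.Agent.S0415.result fP).mp hf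
    apply Groth.Agent.Lib.Helper9.Perf.isUnivHomeo_of_comp_left πX f _ uX
    rw [← w, Groth.Agent.S0415.result]
    exact ⟨inferInstance, MorphismProperty.comp_mem _ _ _ j1 jY, inferInstance⟩

end Groth.Agent.S14918
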