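import Groth.Statements.S14921
import Groth.Agent.Lib.Helper9.Perf10
import Mathlib.AlgebraicGeometry.Morphisms.Immersion

set_option autoImplicit false
universe u
open CategoryTheory AlgebraicGeometry
open PerfSch

namespace Groth.Agent.S14921

/-- Let p be a prime and let X, Y, X', Y' be schemes of characteristic p (p = 0 in the structure sheaf).
Let π_X : X' ⟶ X and π_Y : Y' ⟶ Y be perfections: X' is perfect (its absolute Frobenius is an
isomorphism) and every morphism from a perfect scheme of characteristic p to X factors uniquely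
through π_X, and likewise for π_Y. Let f : X ⟶ Y be a morphism and f' : X' ⟶ Y' the induced morphism
of perfections, the one with f' ≫ π_Y = π_X ≫ f. If f is an immersion (a closed immersion into an
open subscheme), then so is f'. -/
theorem result (p : ℕ) [Fact p.Prime] {X Y XP YP : Scheme.{u}}
    [FrobSch.IsCharP X p] [FrobSch.IsCharP Y p] [FrobSch.IsCharP XP p] [FrobSch.IsCharP YP p]
    (πX : XP ⟶ X) (πY : YP ⟶ Y) (hX : FrobSch.IsPerfection πX p) (hY : FrobSch.IsPerfection πY p)
    (f : X ⟶ Y) (fP : XP ⟶ YP) (w : fP ≫ πY = πX ≫ f)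
    [AlgebraicGeometry.IsImmersion f] : AlgebraicGeometry.IsImmersion fP := by
  let U := f.coborderRange
  haveI : FrobSch.IsCharP (Limits.pullback πY U.ι) p := FrobSch.IsCharP.of_hom (Limits.pullback.fst _ _) p
  haveI : FrobSch.IsCharP (U : Scheme.{u}) p := FrobSch.IsCharP.of_hom U.ι p
  have h1 : FrobSch.IsPerfection (Limits.pullback.snd πY U.ι) p :=
    Groth.Agent.Lib.Helper9.Perf.isPerfection_of_isPullback_of_isOpenImmersion p πY U.ι _ _
      (IsPullback.of_hasPullback _ _) hY
  obtain ⟨c', hc'⟩ := (h1.2 XP hX.1).2 (πX ≫ f.liftCoborder)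
  dsimp only at hc'
  have h2 : AlgebraicGeometry.IsClosedImmersion c' :=
    Groth.Agent.Lib.Helper9.Perf.isClosedImmersion_of_isPerfection p πX _ hX h1 f.liftCoborder c' hc'
  have h3 : fP = c' ≫ Limits.pullback.fst πY U.ι := by
    apply Groth.Agent.Lib.Helper9.Perf.isPerfection_hom_ext p πY hY hX.1
    rw [w, Category.assoc, Limits.pullback.condition, reassoc_of% hc', f.liftCoborder_ι]
  rw [h3]
  infer_instance

end Groth.Agent.S14921
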