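import Groth.Statements.S14933
import Mathlib

set_option autoImplicit false
universe u
open CategoryTheory CategoryTheory.Limits AlgebraicGeometry TopologicalSpace Opposite
open Variety

namespace Groth.Agent.S14933

section Helpers

variable {X S : Scheme.{u}} {f : X ⟶ S} {Ω : X.Modules} (d : OmegaSh.Der f Ω)

theorem der_mul (U : X.Opens) (a b : Γ(X, U)) :
    d.app U (a * b) = a • d.app U b + b • d.app U a := d.d_mul a b

theorem der_one (U : X.Opens) : d.app U 1 = 0 := d.d_one (op U)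

theorem der_res {U V : X.Opens} (h : V ≤ U) (a : Γ(X, U)) :
    d.app V (X.presheaf.map (homOfLE h).op a) = Ω.presheaf.map (homOfLE h).op (d.app U a) :=
  d.d_map (homOfLE h).op a

theorem der_map {U V : X.Opens} (i : V ⟶ U) (a : Γ(X, U)) :
    d.app V (X.presheaf.map i.op a) = Ω.presheaf.map i.op (d.app U a) :=
  d.d_map i.op a

/-- a section of a module vanishing locally vanishes -/
theorem eq_zero_of_locally (M : X.Modules) (W : X.Opens) (s : Γ(M, W))
    (h : ∀ x ∈ W, ∃ (V : X.Opens) (hV : V ≤ W), x ∈ V ∧ M.presheaf.map (homOfLE hV).op s = 0) :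
    s = 0 := by
  choose V hV hx hs using h
  refine TopCat.Sheaf.eq_of_locally_eq' (⟨M.presheaf, M.isSheaf⟩ : TopCat.Sheaf Ab X)
    (fun x : W => V x.1 x.2) W (fun x => homOfLE (hV x.1 x.2)) ?_ s 0 ?_
  · intro q hq
    exact Opens.mem_iSup.mpr ⟨⟨q, hq⟩, hx q hq⟩
  · intro x
    rw [map_zero]
    exact hs x.1 x.2

variable {Y : Scheme.{u}} (g : X ⟶ Y)

/-- the subring of sections of `Y` whose pullback to `X` is killed by `d`. -/
def K (V : Y.Opens) : Subring Γ(Y, V) where
  carrier := {c | d.app (g ⁻¹ᵁ V) (g.app V c) = 0}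
  mul_mem' := by
    intro a b ha hb
    simp only [Set.mem_ofPred_eq] at ha hb ⊢
    rw [map_mul, der_mul, ha, hb, smul_zero, smul_zero, add_zero]
  one_mem' := by
    simp only [Set.mem_ofPred_eq]
    rw [map_one, der_one]
  add_mem' := by
    intro a b ha hb
    simp only [Set.mem_ofPred_eq] at ha hb ⊢
    rw [map_add, map_add, ha, hb, add_zero]
  zero_mem' := by
    simp only [Set.mem_ofPred_eq]
    rw [map_zero, map_zero]
  neg_mem' := by
    intro a ha
    simp only [Set.mem_ofPred_eq] at ha ⊢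
    rw [map_neg, map_neg, ha, neg_zero]

theorem mem_K {V : Y.Opens} (c : Γ(Y, V)) : c ∈ K d g V ↔ d.app (g ⁻¹ᵁ V) (g.app V c) = 0 := Iff.rfl

theorem K_res {V V' : Y.Opens} (h : V' ≤ V) {c : Γ(Y, V)} (hc : c ∈ K d g V) :
    Y.presheaf.map (homOfLE h).op c ∈ K d g V' := by
  rw [mem_K] at hc ⊢
  have hn := g.naturality (homOfLE h).op
  have h1 : g.app V' (Y.presheaf.map (homOfLE h).op c) =
      X.presheaf.map ((Opens.map g.base).map (homOfLE h)).op (g.app V c) := by
    have := congrArg (fun t => t c) (congrArg (fun t => (ConcreteCategory.hom t)) hn)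
    exact this
  rw [h1, der_map, hc, map_zero]

theorem K_local {V : Y.Opens} (c : Γ(Y, V))
    (h : ∀ y ∈ V, ∃ (V' : Y.Opens) (hV : V' ≤ V), y ∈ V' ∧
      Y.presheaf.map (homOfLE hV).op c ∈ K d g V') : c ∈ K d g V := by
  rw [mem_K]
  apply eq_zero_of_locally
  intro x hx
  obtain ⟨V', hV, hy, hc⟩ := h (g x) hx
  refine ⟨g ⁻¹ᵁ V', (Opens.map g.base).monotone hV, hy, ?_⟩
  rw [mem_K] at hc
  have hn := g.naturality (homOfLE hV).op
  have h1 : g.app V' (Y.presheaf.map (homOfLE hV).op c) =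
      X.presheaf.map ((Opens.map g.base).map (homOfLE hV)).op (g.app V c) := by
    have := congrArg (fun t => t c) (congrArg (fun t => (ConcreteCategory.hom t)) hn)
    exact this
  rw [h1, der_map] at hc
  exact hc

theorem K_inv {V : Y.Opens} {u v : Γ(Y, V)} (hu : u ∈ K d g V) (huv : u * v = 1) :
    v ∈ K d g V := by
  rw [mem_K] at hu ⊢
  have h1 : g.app V u * g.app V v = 1 := by rw [← map_mul, huv, map_one]
  have h2 := der_mul d _ (g.app V u) (g.app V v)
  rw [h1, der_one, hu, smul_zero, add_zero] at h2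
  have h3 : d.app (g ⁻¹ᵁ V) (g.app V v) =
      (g.app V v * g.app V u) • d.app (g ⁻¹ᵁ V) (g.app V v) := by
    rw [mul_comm, h1, one_smul]
  rw [h3, mul_smul, ← h2, smul_zero]

theorem K_of_mul_unit {V : Y.Opens} {z u : Γ(Y, V)} (hu : u ∈ K d g V) (hunit : IsUnit u)
    (hzu : z * u ∈ K d g V) : z ∈ K d g V := by
  obtain ⟨v, hv⟩ := hunit.exists_right_inv
  have hvK := K_inv d g hu hv
  have : z = (z * u) * v := by rw [mul_assoc, hv, mul_one]
  rw [this]
  exact (K d g V).mul_mem hzu hvK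

theorem K_basicOpen {W : Y.Opens} (hW : IsAffineOpen W) (hK : K d g W = ⊤) (h : Γ(Y, W)) :
    K d g (Y.basicOpen h) = ⊤ := by
  rw [eq_top_iff]
  intro z _
  have := hW.isLocalization_basicOpen h
  obtain ⟨n, a, hz⟩ := IsLocalization.Away.surj h z
  have ha : algebraMap Γ(Y, W) Γ(Y, Y.basicOpen h) a ∈ K d g (Y.basicOpen h) :=
    K_res d g (Y.basicOpen_le h) (hK ▸ Subring.mem_top a)
  have hh : algebraMap Γ(Y, W) Γ(Y, Y.basicOpen h) h ∈ K d g (Y.basicOpen h) :=
    K_res d g (Y.basicOpen_le h) (hK ▸ Subring.mem_top h)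
  refine K_of_mul_unit d g ((K d g _).pow_mem hh n)
    ((IsLocalization.Away.algebraMap_isUnit h).pow n) ?_
  rw [hz]
  exact ha

theorem subring_eq_top_of_isPushout {R A B P : CommRingCat.{u}} {f : R ⟶ A} {g : R ⟶ B}
    {inl : A ⟶ P} {inr : B ⟶ P} (h : IsPushout f g inl inr) (K : Subring P)
    (h₁ : ∀ a, inl a ∈ K) (h₂ : ∀ b, inr b ∈ K) : K = ⊤ := by
  let Kc : CommRingCat.{u} := CommRingCat.of K
  let ι : Kc ⟶ P := CommRingCat.ofHom K.subtype
  let j₁ : A ⟶ Kc := CommRingCat.ofHom (inl.hom.codRestrict K h₁)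
  let j₂ : B ⟶ Kc := CommRingCat.ofHom (inr.hom.codRestrict K h₂)
  have e₁ : j₁ ≫ ι = inl := by ext x; rfl
  have e₂ : j₂ ≫ ι = inr := by ext x; rfl
  have comm : f ≫ j₁ = g ≫ j₂ := by
    ext x
    have := congrArg (fun t => t x) (congrArg (fun t => ConcreteCategory.hom t) h.w)
    exact this
  have hdesc : h.desc j₁ j₂ comm ≫ ι = 𝟙 P := by
    apply h.hom_ext
    · rw [← Category.assoc, h.inl_desc, e₁, Category.comp_id]
    · rw [← Category.assoc, h.inr_desc, e₂, Category.comp_id]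
  rw [eq_top_iff]
  intro c _
  have : ι (h.desc j₁ j₂ comm c) = c := by
    have := congrArg (fun t => t c) (congrArg (fun t => ConcreteCategory.hom t) hdesc)
    exact this
  rw [← this]
  exact (h.desc j₁ j₂ comm c).2

theorem K_eq_top_of_isPullback {A B T : Scheme.{u}} {p₁ : Y ⟶ A} {p₂ : Y ⟶ B} {a : A ⟶ T}
    {b : B ⟶ T} (H : IsPullback p₁ p₂ a b)
    (h₁ : ∀ (U : A.Opens) (c : Γ(A, U)), p₁.app U c ∈ K d g (p₁ ⁻¹ᵁ U))
    (h₂ : ∀ (U : B.Opens) (c : Γ(B, U)), p₂.app U c ∈ K d g (p₂ ⁻¹ᵁ U))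
    (V : Y.Opens) : K d g V = ⊤ := by
  rw [eq_top_iff]
  intro c _
  apply K_local
  intro y hy
  obtain ⟨US, hUS, hyS, -⟩ := exists_isAffineOpen_mem_and_subset (x := a (p₁ y)) (U := ⊤) trivial
  obtain ⟨UA, hUA, hyA, hUSX⟩ :=
    exists_isAffineOpen_mem_and_subset (x := p₁ y) (U := a ⁻¹ᵁ US) hyS
  have hyS' : b (p₂ y) ∈ US := by
    have : b (p₂ y) = a (p₁ y) := by
      rw [← Scheme.Hom.comp_apply, ← Scheme.Hom.comp_apply, H.w]
    rw [this]; exact hyS
  obtain ⟨UB, hUB, hyB, hUST⟩ :=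
    exists_isAffineOpen_mem_and_subset (x := p₂ y) (U := b ⁻¹ᵁ US) hyS'
  have hpo := (isIso_pushoutSection_iff H hUST hUSX rfl).mp
    (isIso_pushoutSection_of_isAffineOpen H hUST hUSX rfl hUS hUB hUA)
  have hW : IsAffineOpen (p₁ ⁻¹ᵁ UA ⊓ p₂ ⁻¹ᵁ UB) := by
    have : IsAffine _ := hUS
    have : IsAffine _ := hUB
    have : IsAffine _ := hUA
    exact .of_isIso (Scheme.Hom.isPullback_resLE H hUST hUSX rfl).isoPullback.hom
  have hKW : K d g (p₁ ⁻¹ᵁ UA ⊓ p₂ ⁻¹ᵁ UB) = ⊤ := by
    refine subring_eq_top_of_isPushout hpo _ (fun x => ?_) (fun x => ?_)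
    · exact K_res d g inf_le_left (h₁ UA x)
    · exact K_res d g inf_le_right (h₂ UB x)
  obtain ⟨h, hle, hyh⟩ := hW.exists_basicOpen_le ⟨y, hy⟩ ⟨hyA, hyB⟩
  refine ⟨Y.basicOpen h, hle, hyh, ?_⟩
  rw [K_basicOpen d g hW hKW h]
  exact Subring.mem_top _

theorem der_pow (U : X.Opens) (c : Γ(X, U)) (n : ℕ) :
    d.app U (c ^ (n + 1)) = ((n + 1 : ℕ) : Γ(X, U)) • c ^ n • d.app U c := by
  induction n with
  | zero => simp
  | succ n ih =>
    rw [pow_succ, der_mul, ih]
    simp only [smul_smul, ← add_smul]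
    congr 1
    push_cast
    ring

theorem K_of_comp {A : Scheme.{u}} (q : Y ⟶ A) (k : X ⟶ A) (e : g ≫ q = k) (U : A.Opens)
    (c : Γ(A, U)) (hk : d.app (k ⁻¹ᵁ U) (k.app U c) = 0) : q.app U c ∈ K d g (q ⁻¹ᵁ U) := by
  subst e
  rw [mem_K]
  exact hk

theorem der_comp_app {G : X.Modules} (D : OmegaSh.Der g G) {A : Scheme.{u}} (q : Y ⟶ A)
    (k : X ⟶ A) (e : g ≫ q = k) (U : A.Opens) (c : Γ(A, U)) :
    D.app (k ⁻¹ᵁ U) (k.app U c) = 0 := by
  subst e
  exact D.d_app (q.app U c)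


end Helpers

/-- Let p be a prime, S a scheme of characteristic p (p is zero in the structure sheaf) and f : X → S a
morphism of schemes, with relative Frobenius F_{X/S} : X → X^(p) = X ×_{S,F_S} S over S. Then the
sheaf of differentials of X over S is also the sheaf of differentials of X over X^(p): if Ω is an
O_X-module and d : O_X → Ω a universal S-derivation, then d kills every section coming from X^(p),
i.e. there is a derivation O_X → Ω relative to F_{X/S} with the same values as d, and that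
derivation is universal among derivations relative to F_{X/S}. -/
theorem result (p : ℕ) [Fact p.Prime]
    {X S : Scheme.{u}} [FrobSch.IsCharP S p] (f : X ⟶ S)
    (Ω : X.Modules) (d : OmegaSh.Der f Ω) (hd : OmegaSh.IsUniversal d) :
    ∃ d' : OmegaSh.Der (FrobSch.relFrob f p) Ω,
      (∀ (U : X.Opens) (s : Γ(X, U)), d'.app U s = d.app U s) ∧ OmegaSh.IsUniversal d' := by
  haveI : FrobSch.IsCharP X p := FrobSch.IsCharP.of_hom f p
  have key : ∀ V : (FrobSch.frobTwist f p).Opens, K d (FrobSch.relFrob f p) V = ⊤ := by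
    intro V
    refine K_eq_top_of_isPullback d (FrobSch.relFrob f p)
      (IsPullback.of_hasPullback f (FrobSch.frob S p)) ?_ ?_ V
    · intro U c
      refine K_of_comp d (FrobSch.relFrob f p) _ (FrobSch.frob X p) (FrobSch.relFrob_fst f p) U c ?_
      change d.app U (c ^ p) = 0
      obtain ⟨n, hn⟩ : ∃ n, p = n + 1 := ⟨p - 1, (Nat.succ_pred_eq_of_pos (Fact.out : p.Prime).pos).symm⟩
      rw [hn, der_pow, ← hn, FrobSch.natCast_eq_zero_app X p U, zero_smul]
    · intro U c
      refine K_of_comp d (FrobSch.relFrob f p) _ f (FrobSch.relFrob_snd f p) U c ?_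
      exact d.d_app c
  let d' : OmegaSh.Der (FrobSch.relFrob f p) Ω :=
    { d := d.d
      d_mul := d.d_mul
      d_map := d.d_map
      d_app := fun {V} a => by
        have h : a ∈ K d (FrobSch.relFrob f p) V.unop := key V.unop ▸ Subring.mem_top a
        exact h }
  refine ⟨d', fun U s => rfl, ?_⟩
  intro G D
  let D₀ : OmegaSh.Der f G :=
    { d := D.d
      d_mul := D.d_mul
      d_map := D.d_map
      d_app := fun {T} r =>
        der_comp_app (FrobSch.relFrob f p) D _ f (FrobSch.relFrob_snd f p) T.unop r }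
  obtain ⟨α, hα, huniq⟩ := hd G D₀
  refine ⟨α, ?_, ?_⟩
  · have h1 := (PresheafOfModules.Derivation.ext_iff).mp hα
    exact PresheafOfModules.Derivation.ext h1
  · intro α' hα'
    apply huniq
    have h1 := (PresheafOfModules.Derivation.ext_iff).mp hα'
    exact PresheafOfModules.Derivation.ext h1

end Groth.Agent.S14933
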