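import Groth.Statements.S14954
-- import your own Groth.Agent.* helpers here
import Groth.Agent.S14952
import Groth.Agent.S14953
import Groth.Agent.S2003

set_option autoImplicit false
universe u
open TensorProduct
open EtAlg

namespace Groth.Agent.S14954

/-- Let B' = B ×_A A' be a fibre product of commutative rings with A' → A surjective and L' a B'-module.
If B ⊗_{B'} L' is flat and finitely presented over B and A' ⊗_{B'} L' is flat and finitely presented
over A', then L' is finitely presented over B'. (Together with descent of flatness, L' is then flat
of finite presentation, i.e. finite locally free.) -/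
theorem result (B' B A' A : Type u) [CommRing B'] [CommRing B] [CommRing A'] [CommRing A]
    [Algebra B' B] [Algebra B' A'] [Algebra B A] [Algebra A' A] [Algebra B' A] [IsScalarTower B' B A] [IsScalarTower B' A' A]
    (hsq : EtMil.IsFibreSquare B' B A' A)
    (L' : Type u) [AddCommGroup L'] [Module B' L']
    [Module.Flat B (B ⊗[B'] L')] [Module.FinitePresentation B (B ⊗[B'] L')]
    [Module.Flat A' (A' ⊗[B'] L')] [Module.FinitePresentation A' (A' ⊗[B'] L')] :
    Module.FinitePresentation B' L' := by
  haveI hfin : Module.Finite B' L' := Groth.Agent.S14953.result B' B A' A hsq L'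
  haveI hflat : Module.Flat B' L' := Groth.Agent.S14952.result B' B A' A hsq L'
  obtain ⟨n, q, hq⟩ := Module.Finite.exists_fin' B' L'
  have hj : Function.Injective (LinearMap.ker q).subtype := Submodule.injective_subtype _
  have hjq : Function.Exact (LinearMap.ker q).subtype q := LinearMap.exact_subtype_ker_map q
  haveI : Module.Finite B (B ⊗[B'] LinearMap.ker q) :=
    Groth.Agent.S2003.finite_baseChange_ker B _ q hjq hq
      (LinearMap.lTensor_injective_of_exact_of_flat q hq _ hj hjq B)
  haveI : Module.Finite A' (A' ⊗[B'] LinearMap.ker q) :=
    Groth.Agent.S2003.finite_baseChange_ker A' _ q hjq hq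
      (LinearMap.lTensor_injective_of_exact_of_flat q hq _ hj hjq A')
  have hK : Module.Finite B' (LinearMap.ker q) :=
    Groth.Agent.S14953.result B' B A' A hsq (LinearMap.ker q)
  exact Module.finitePresentation_of_surjective q hq (Module.Finite.iff_fg.mp hK)

end Groth.Agent.S14954
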