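import Groth.Statements.S14955
-- import your own Groth.Agent.* helpers here

set_option autoImplicit false
universe u
open TensorProduct
open EtAlg

namespace Groth.Agent.S14955

/-- Let B' = B ×_A A' be a fibre product of commutative rings with A' → A surjective. Then the square is
also a pushout of commutative rings: the canonical map B ⊗_{B'} A' → A is an isomorphism. -/
theorem result (B' B A' A : Type u) [CommRing B'] [CommRing B] [CommRing A'] [CommRing A]
    [Algebra B' B] [Algebra B' A'] [Algebra B A] [Algebra A' A] [Algebra B' A] [IsScalarTower B' B A] [IsScalarTower B' A' A]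
    (hsq : EtMil.IsFibreSquare B' B A' A) : Algebra.IsPushout B' B A' A := by
  obtain ⟨hsurj, hfib⟩ := hsq
  constructor
  apply IsBaseChange.of_lift_unique
  intro Q _ _ _ _ g
  have hker : ∀ a' : A', algebraMap A' A a' = 0 → g a' = 0 := by
    intro a' ha'
    obtain ⟨b', ⟨hb'1, hb'2⟩, -⟩ := hfib 0 a' (by rw [map_zero, ha'])
    have : a' = b' • (1 : A') := by rw [Algebra.smul_def, mul_one, hb'2]
    rw [this, map_smul, ← algebraMap_smul B b' (g 1), hb'1, zero_smul]
  let s : A → A' := Function.surjInv hsurj
  have hs : ∀ a, algebraMap A' A (s a) = a := Function.surjInv_eq hsurj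
  have hg'eq : ∀ (a : A) (a' : A'), algebraMap A' A a' = a → g (s a) = g a' := by
    rintro a a' rfl
    have h0 := hker (s (algebraMap A' A a') - a') (by rw [map_sub, hs, sub_self])
    have h1 : s (algebraMap A' A a') = a' + (s (algebraMap A' A a') - a') := by ring
    rw [h1, map_add, h0, add_zero]
  refine ⟨{ toFun := fun a => g (s a), map_add' := ?_, map_smul' := ?_ }, ?_, ?_⟩
  · intro x y
    rw [hg'eq (x + y) (s x + s y) (by rw [map_add, hs, hs]), map_add]
  · intro b x
    simp only [RingHom.id_apply]
    obtain ⟨b', ⟨hb'1, hb'2⟩, -⟩ := hfib b (s (algebraMap B A b)) (by rw [hs])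
    have h1 : algebraMap A' A (b' • s x) = b • x := by
      rw [Algebra.smul_def, map_mul, hs, ← IsScalarTower.algebraMap_apply,
        IsScalarTower.algebraMap_apply B' B A, hb'1, Algebra.smul_def]
    rw [hg'eq (b • x) (b' • s x) h1, map_smul, ← algebraMap_smul B b' (g (s x)), hb'1]
  · ext a'
    simp only [LinearMap.coe_comp, LinearMap.coe_restrictScalars, Function.comp_apply,
      AlgHom.toLinearMap_apply, IsScalarTower.coe_toAlgHom', LinearMap.coe_mk, AddHom.coe_mk]
    exact hg'eq _ a' rfl
  · intro g'' hg''
    ext a
    simp only [LinearMap.coe_mk, AddHom.coe_mk]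
    have := LinearMap.congr_fun hg'' (s a)
    simp only [LinearMap.coe_comp, LinearMap.coe_restrictScalars, Function.comp_apply,
      AlgHom.toLinearMap_apply, IsScalarTower.coe_toAlgHom', hs] at this
    exact this

end Groth.Agent.S14955
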