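import Groth.Statements.S14956
-- import your own Groth.Agent.* helpers here
import Groth.Agent.S19588
import Groth.Agent.S14952
import Groth.Agent.S14953
import Groth.Agent.S14954
import Groth.Agent.Lib.Helper17.AzumayaBC
import Groth.Agent.Lib.Helper23.MilnorBij

set_option autoImplicit false
universe u
open TensorProduct
open Brauer

namespace Groth.Agent.S14956


open TensorProduct in
theorem faithful_of_pair {B' B A' A : Type u} [CommRing B'] [CommRing B] [CommRing A'] [CommRing A]
    [Algebra B' B] [Algebra B' A'] [Algebra B A] [Algebra A' A] [Algebra B' A] [IsScalarTower B' B A]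
    [IsScalarTower B' A' A] (hsq : EtMil.IsFibreSquare B' B A' A)
    (D' : Type u) [AddCommGroup D'] [Module B' D'] [FaithfulSMul B (B ⊗[B'] D')]
    [FaithfulSMul A' (A' ⊗[B'] D')] : FaithfulSMul B' D' := by
  refine ⟨fun {b₁ b₂} h => ?_⟩
  have key : ∀ (S : Type u) [CommRing S] [Algebra B' S] [FaithfulSMul S (S ⊗[B'] D')],
      algebraMap B' S b₁ = algebraMap B' S b₂ := by
    intro S _ _ _
    apply FaithfulSMul.eq_of_smul_eq_smul (α := S ⊗[B'] D')
    intro x
    induction x using TensorProduct.induction_on with
    | zero => simp
    | add x y hx hy => rw [smul_add, smul_add, hx, hy]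
    | tmul β d =>
      rw [TensorProduct.smul_tmul', TensorProduct.smul_tmul', smul_eq_mul, smul_eq_mul,
        ← Algebra.smul_def, ← Algebra.smul_def, TensorProduct.smul_tmul, TensorProduct.smul_tmul,
        h d]
  rw [← sub_eq_zero]
  apply Helper23.Mil.eq_zero_of_maps hsq
  · rw [map_sub, key B, sub_self]
  · rw [map_sub, key A', sub_self]

/-- Let B' = B ×_A A' be a fibre product of commutative rings with A' → A surjective and D' a B'-algebra
(associative, unital, not necessarily commutative). Then D' is an Azumaya algebra over B' if and
only if B ⊗_{B'} D' is an Azumaya algebra over B and A' ⊗_{B'} D' is an Azumaya algebra over A'.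
(The published statement is for a quasi-coherent algebra on the pushout scheme Y of a closed
immersion and an affine morphism; this row is the case of an affine Y. Azumaya is taken in the
finite-projective-faithful sense.) -/
theorem result (B' B A' A : Type u) [CommRing B'] [CommRing B] [CommRing A'] [CommRing A]
    [Algebra B' B] [Algebra B' A'] [Algebra B A] [Algebra A' A] [Algebra B' A] [IsScalarTower B' B A] [IsScalarTower B' A' A]
    (hsq : EtMil.IsFibreSquare B' B A' A)
    (D' : Type u) [Ring D'] [Algebra B' D'] :
    IsAzumaya B' D' ↔ IsAzumaya B (B ⊗[B'] D') ∧ IsAzumaya A' (A' ⊗[B'] D') := by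
  constructor
  · intro h
    exact ⟨Groth.Agent.S19588.result B' B D', Groth.Agent.S19588.result B' A' D'⟩
  · rintro ⟨hB, hA'⟩
    haveI : Module.FinitePresentation B (B ⊗[B'] D') := Module.finitePresentation_of_projective _ _
    haveI : Module.FinitePresentation A' (A' ⊗[B'] D') := Module.finitePresentation_of_projective _ _
    haveI hflat : Module.Flat B' D' := Groth.Agent.S14952.result B' B A' A hsq D'
    haveI hfin : Module.Finite B' D' := Groth.Agent.S14953.result B' B A' A hsq D'
    haveI hfp : Module.FinitePresentation B' D' := Groth.Agent.S14954.result B' B A' A hsq D'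
    haveI hproj : Module.Projective B' D' := Module.Flat.projective_of_finitePresentation
    haveI hfaith : FaithfulSMul B' D' := faithful_of_pair hsq D'
    haveI : Module.Projective B' (Module.End B' D') :=
      Groth.Agent.Lib.Helper17.AzumayaBC.projective_end B' D'
    have h1 : Function.Bijective ((AlgHom.mulLeftRight B' D').toLinearMap.lTensor B) :=
      (Groth.Agent.Lib.Helper17.AzumayaBC.bijective_iff B' B D').mp IsAzumaya.bij
    have h2 : Function.Bijective ((AlgHom.mulLeftRight B' D').toLinearMap.lTensor A') :=
      (Groth.Agent.Lib.Helper17.AzumayaBC.bijective_iff B' A' D').mp IsAzumaya.bij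
    have hbij : Function.Bijective (AlgHom.mulLeftRight B' D') :=
      Helper23.MilBij.bijective_of_pair hsq (AlgHom.mulLeftRight B' D').toLinearMap h1 h2
    exact { hfaith with bij := hbij }

end Groth.Agent.S14956
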