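import Groth.Statements.S14958
import Mathlib
import Groth.Agent.Lib.Helper8.TorBal7

set_option autoImplicit false
universe u
open TensorProduct CategoryTheory CategoryTheory.Limits
open EtAlg

namespace Groth.Agent.S14958

open MonoidalCategory

section setup

variable (B' B A' A : Type u) [CommRing B'] [CommRing B] [CommRing A'] [CommRing A]
    [Algebra B' B] [Algebra B' A'] [Algebra B A] [Algebra A' A] [Algebra B' A]
    [IsScalarTower B' B A] [IsScalarTower B' A' A]

noncomputable def fL : B' →ₗ[B'] (B × A') :=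
  LinearMap.prod (Algebra.linearMap B' B) (-(Algebra.linearMap B' A'))

noncomputable def ιB : B →ₗ[B'] A := (IsScalarTower.toAlgHom B' B A).toLinearMap

noncomputable def ιA' : A' →ₗ[B'] A := (IsScalarTower.toAlgHom B' A' A).toLinearMap

noncomputable def gL : (B × A') →ₗ[B'] A :=
  ιB B' B A ∘ₗ LinearMap.fst B' B A' + ιA' B' A' A ∘ₗ LinearMap.snd B' B A'

lemma gL_fL : gL B' B A' A ∘ₗ fL B' B A' = 0 := by
  ext
  simp [gL, fL, ιB, ιA', ← IsScalarTower.algebraMap_apply]

noncomputable def sc : ShortComplex (ModuleCat.{u} B') :=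
  ShortComplex.mk (ModuleCat.ofHom (fL B' B A')) (ModuleCat.ofHom (gL B' B A' A)) (by
    rw [← ModuleCat.ofHom_comp, gL_fL]; rfl)

variable {B' B A' A}

lemma sc_shortExact (hsq : EtMil.IsFibreSquare B' B A' A) : (sc B' B A' A).ShortExact := by
  obtain ⟨hsurj, huniq⟩ := hsq
  refine ShortComplex.ShortExact.mk' ?_ ?_ ?_
  · rw [ShortComplex.moduleCat_exact_iff]
    rintro ⟨b, a'⟩ hx
    have hx' : algebraMap B A b + algebraMap A' A a' = 0 := hx
    obtain ⟨b', ⟨h1, h2⟩, -⟩ := huniq b (-a') (by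
      rw [map_neg]; exact eq_neg_of_add_eq_zero_left hx')
    refine ⟨b', ?_⟩
    change (algebraMap B' B b', -algebraMap B' A' b') = (b, a')
    rw [h1, h2, neg_neg]
  · rw [ModuleCat.mono_iff_injective]
    intro (x : B') (y : B') hxy
    have hxy' : (algebraMap B' B x, -algebraMap B' A' x) =
        (algebraMap B' B y, -algebraMap B' A' y) := hxy
    rw [Prod.mk.injEq, neg_inj] at hxy'
    obtain ⟨z, -, hz⟩ := huniq (algebraMap B' B y) (algebraMap B' A' y) (by
      rw [← IsScalarTower.algebraMap_apply, ← IsScalarTower.algebraMap_apply])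
    rw [hz x ⟨hxy'.1, hxy'.2⟩, hz y ⟨rfl, rfl⟩]
  · rw [ModuleCat.epi_iff_surjective]
    intro (a : A)
    obtain ⟨a', ha'⟩ := hsurj a
    refine ⟨((0 : B), a'), ?_⟩
    change algebraMap B A 0 + algebraMap A' A a' = a
    rw [map_zero, ha', zero_add]

end setup

section tor0

variable {R : Type u} [CommRing R] (L : ModuleCat.{u} R)

/-- `Tor_0(L, -) ≅ L ⊗ -`. -/
noncomputable def tor0Iso : (Tor (ModuleCat.{u} R) 0).obj L ≅ (tensoringLeft (ModuleCat.{u} R)).obj L :=
  Functor.leftDerivedZeroIsoSelf _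

lemma mono_tor0_iff {X Y : ModuleCat.{u} R} (f : X ⟶ Y) :
    Mono (((Tor (ModuleCat.{u} R) 0).obj L).map f) ↔ Function.Injective (LinearMap.lTensor (L : Type u) (ModuleCat.Hom.hom f)) := by
  have hnat := (tor0Iso L).hom.naturality f
  have h1 : ((Tor (ModuleCat.{u} R) 0).obj L).map f =
      (tor0Iso L).hom.app X ≫ (L ◁ f) ≫ (tor0Iso L).inv.app Y := by
    rw [← Category.assoc]
    have : (tor0Iso L).hom.app X ≫ (L ◁ f) =
        ((Tor (ModuleCat.{u} R) 0).obj L).map f ≫ (tor0Iso L).hom.app Y := hnat.symm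
    rw [this, Category.assoc, Iso.hom_inv_id_app, Category.comp_id]
  have h2 : (L ◁ f) = (tor0Iso L).inv.app X ≫ ((Tor (ModuleCat.{u} R) 0).obj L).map f ≫
      (tor0Iso L).hom.app Y := by
    rw [h1]
    simp
  rw [← ModuleCat.hom_whiskerLeft, ← ModuleCat.mono_iff_injective]
  constructor
  · intro h
    rw [h2]
    haveI h3 : Mono ((tor0Iso L).inv.app X) := IsIso.mono_of_iso _
    haveI h4 : Mono ((tor0Iso L).hom.app Y) := IsIso.mono_of_iso _
    haveI h5 : Mono (((Tor (ModuleCat.{u} R) 0).obj L).map f ≫ (tor0Iso L).hom.app Y) :=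
      mono_comp _ _
    exact mono_comp _ _
  · intro h
    rw [h1]
    haveI h3 : Mono ((tor0Iso L).hom.app X) := IsIso.mono_of_iso _
    haveI h4 : Mono ((tor0Iso L).inv.app Y) := IsIso.mono_of_iso _
    haveI h5 : Mono ((L ◁ f) ≫ (tor0Iso L).inv.app Y) := mono_comp _ _
    exact mono_comp _ _

end tor0

section main

variable {B' B A' A : Type u} [CommRing B'] [CommRing B] [CommRing A'] [CommRing A]
    [Algebra B' B] [Algebra B' A'] [Algebra B A] [Algebra A' A] [Algebra B' A]
    [IsScalarTower B' B A] [IsScalarTower B' A' A]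

lemma lTensor_fL_injective_iff (L' : Type u) [AddCommGroup L'] [Module B' L'] :
    Function.Injective (LinearMap.lTensor L' (fL B' B A')) ↔
      (∀ l : L', ((1 : B) ⊗ₜ[B'] l : B ⊗[B'] L') = 0 → ((1 : A') ⊗ₜ[B'] l : A' ⊗[B'] L') = 0 →
        l = 0) := by
  have hfst : ∀ l : L', (LinearMap.lTensor L' (LinearMap.fst B' B A'))
      ((LinearMap.lTensor L' (fL B' B A')) (l ⊗ₜ[B'] (1 : B'))) = l ⊗ₜ[B'] (1 : B) := by
    intro l
    simp [fL]
  have hsnd : ∀ l : L', (LinearMap.lTensor L' (LinearMap.snd B' B A'))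
      ((LinearMap.lTensor L' (fL B' B A')) (l ⊗ₜ[B'] (1 : B'))) = -(l ⊗ₜ[B'] (1 : A')) := by
    intro l
    simp [fL, TensorProduct.tmul_neg]
  have hdecomp : ∀ z : L' ⊗[B'] (B × A'),
      z = (LinearMap.lTensor L' (LinearMap.inl B' B A')) ((LinearMap.lTensor L' (LinearMap.fst B' B A')) z) +
        (LinearMap.lTensor L' (LinearMap.inr B' B A')) ((LinearMap.lTensor L' (LinearMap.snd B' B A')) z) := by
    intro z
    rw [← LinearMap.comp_apply, ← LinearMap.comp_apply, ← LinearMap.lTensor_comp,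
      ← LinearMap.lTensor_comp, ← LinearMap.add_apply, ← LinearMap.lTensor_add]
    have : LinearMap.inl B' B A' ∘ₗ LinearMap.fst B' B A' +
        LinearMap.inr B' B A' ∘ₗ LinearMap.snd B' B A' = LinearMap.id := by
      ext <;> simp
    rw [this, LinearMap.lTensor_id, LinearMap.id_apply]
  constructor
  · intro hinj l h1 h2
    have hz : (LinearMap.lTensor L' (fL B' B A')) (l ⊗ₜ[B'] (1 : B')) = 0 := by
      rw [hdecomp ((LinearMap.lTensor L' (fL B' B A')) (l ⊗ₜ[B'] (1 : B'))), hfst, hsnd]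
      have e1 : (l ⊗ₜ[B'] (1 : B) : L' ⊗[B'] B) = 0 := by
        have := congrArg (TensorProduct.comm B' B L') h1
        simpa using this
      have e2 : (l ⊗ₜ[B'] (1 : A') : L' ⊗[B'] A') = 0 := by
        have := congrArg (TensorProduct.comm B' A' L') h2
        simpa using this
      rw [e1, e2, neg_zero, map_zero, map_zero, add_zero]
    have h0 := hinj (hz.trans (map_zero _).symm)
    have := congrArg (TensorProduct.rid B' L') h0
    simpa using this
  · intro h
    rw [injective_iff_map_eq_zero]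
    intro z hz
    obtain ⟨l, rfl⟩ : ∃ l : L', z = l ⊗ₜ[B'] (1 : B') :=
      ⟨TensorProduct.rid B' L' z,
        ((TensorProduct.rid B' L').symm_apply_apply z).symm.trans (TensorProduct.rid_symm_apply _)⟩
    have h1 : (l ⊗ₜ[B'] (1 : B) : L' ⊗[B'] B) = 0 := by rw [← hfst, hz, map_zero]
    have h2 : (l ⊗ₜ[B'] (1 : A') : L' ⊗[B'] A') = 0 := by
      rw [← neg_eq_zero, ← hsnd, hz, map_zero]
    have hl := h l (by
      have := congrArg (TensorProduct.comm B' L' B) h1
      simpa using this) (by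
      have := congrArg (TensorProduct.comm B' L' A') h2
      simpa using this)
    rw [hl, TensorProduct.zero_tmul]

end main

section additivity

open Groth.Agent.Lib.Helper8.TorBal1 Groth.Agent.Lib.Helper8.TorBal2 Groth.Agent.Lib.Helper8.TorBal7

variable {R : Type u} [CommRing R]

lemma TCmap_add {N N' : ModuleCat.{u} R} (g₁ g₂ : N ⟶ N') (M : ModuleCat.{u} R) :
    (TCmap R (g₁ + g₂)).app M = (TCmap R g₁).app M + (TCmap R g₂).app M := by
  ext k : 1
  simp [TCmap]
  rfl

lemma B_map_add (n : ℕ) {N N' : ModuleCat.{u} R} (g₁ g₂ : N ⟶ N') (M : ModuleCat.{u} R) :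
    ((B R n).map (g₁ + g₂)).app M = ((B R n).map g₁).app M + ((B R n).map g₂).app M := by
  change HomologicalComplex.homologyMap ((TCmap R (g₁ + g₂)).app M) n =
    HomologicalComplex.homologyMap ((TCmap R g₁).app M) n +
      HomologicalComplex.homologyMap ((TCmap R g₂).app M) n
  rw [TCmap_add, HomologicalComplex.homologyMap_add]

lemma tor_map_add (n : ℕ) (M : ModuleCat.{u} R) {N N' : ModuleCat.{u} R} (g₁ g₂ : N ⟶ N') :
    ((Tor (ModuleCat.{u} R) n).obj M).map (g₁ + g₂) =
      ((Tor (ModuleCat.{u} R) n).obj M).map g₁ + ((Tor (ModuleCat.{u} R) n).obj M).map g₂ := by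
  have h : ∀ g : N ⟶ N', ((Tor (ModuleCat.{u} R) n).obj M).map g =
      (θ R n M N).hom ≫ ((B R n).map g).app M ≫ (θ R n M N').inv := by
    intro g
    rw [← Category.assoc, ← θ_natural, Category.assoc, Iso.hom_inv_id, Category.comp_id]
  rw [h, h g₁, h g₂, B_map_add, Preadditive.add_comp, Preadditive.comp_add]

end additivity


/-- Let B' = B ×_A A' be a fibre product of commutative rings with A' → A surjective and L' a B'-module.
Then L' is a fixed point of the glueing adjunction, i.e. the canonical map from L' to the compatible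
pairs in (B ⊗_{B'} L') × (A' ⊗_{B'} L') is injective (it is always surjective), if and only if the
map Tor_1(L', B) ⊕ Tor_1(L', A') → Tor_1(L', A) over B' induced by B → A and A' → A is surjective.
Here Tor_1(L', –) is the first left derived functor of L' ⊗_{B'} – on B'-modules. -/
theorem result (B' B A' A : Type u) [CommRing B'] [CommRing B] [CommRing A'] [CommRing A]
    [Algebra B' B] [Algebra B' A'] [Algebra B A] [Algebra A' A] [Algebra B' A] [IsScalarTower B' B A] [IsScalarTower B' A' A]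
    (hsq : EtMil.IsFibreSquare B' B A' A)
    (L' : Type u) [AddCommGroup L'] [Module B' L'] :
    (∀ l : L', ((1 : B) ⊗ₜ[B'] l : B ⊗[B'] L') = 0 → ((1 : A') ⊗ₜ[B'] l : A' ⊗[B'] L') = 0 → l = 0) ↔
    Epi (biprod.desc
      (((Tor (ModuleCat.{u} B') 1).obj (ModuleCat.of B' L')).map
        (ModuleCat.ofHom (IsScalarTower.toAlgHom B' B A).toLinearMap))
      (((Tor (ModuleCat.{u} B') 1).obj (ModuleCat.of B' L')).map
        (ModuleCat.ofHom (IsScalarTower.toAlgHom B' A' A).toLinearMap))) := by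
  have hS := sc_shortExact hsq
  obtain ⟨-, -, δ, w₁, w₂, e₁, e₂⟩ :=
    Groth.Agent.Lib.Helper8.TorBal7.tor_les B' (ModuleCat.of B' L') (sc B' B A' A) hS 0
  have hA := e₁.epi_f_iff
  have hB := e₂.mono_g_iff
  have hC := (mono_tor0_iff (ModuleCat.of B' L') (sc B' B A' A).f).trans
    (lTensor_fL_injective_iff (B' := B') (B := B) (A' := A') L')
  rw [← hC, hB, ← hA]
  -- now relate `Tor_1(g)` to the `biprod.desc`
  set T := (Tor (ModuleCat.{u} B') 1).obj (ModuleCat.of B' L') with hT
  let iB : ModuleCat.of B' B ⟶ ModuleCat.of B' A := ModuleCat.ofHom (ιB B' B A)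
  let iA : ModuleCat.of B' A' ⟶ ModuleCat.of B' A := ModuleCat.ofHom (ιA' B' A' A)
  let inl' : ModuleCat.of B' B ⟶ ModuleCat.of B' (B × A') := ModuleCat.ofHom (LinearMap.inl B' B A')
  let inr' : ModuleCat.of B' A' ⟶ ModuleCat.of B' (B × A') := ModuleCat.ofHom (LinearMap.inr B' B A')
  let fst' : ModuleCat.of B' (B × A') ⟶ ModuleCat.of B' B := ModuleCat.ofHom (LinearMap.fst B' B A')
  let snd' : ModuleCat.of B' (B × A') ⟶ ModuleCat.of B' A' := ModuleCat.ofHom (LinearMap.snd B' B A')
  let g' : ModuleCat.of B' (B × A') ⟶ ModuleCat.of B' A := (sc B' B A' A).g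
  have hg1 : inl' ≫ g' = iB := by
    ext x
    simp [inl', g', iB, sc, gL]
  have hg2 : inr' ≫ g' = iA := by
    ext x
    simp [inr', g', iA, sc, gL]
  have hg3 : g' = fst' ≫ iB + snd' ≫ iA := by
    apply ModuleCat.hom_ext
    apply LinearMap.ext
    rintro ⟨b, a'⟩
    simp [fst', snd', g', iB, iA, sc, gL, ModuleCat.hom_add]
  have h1 : biprod.desc (T.map iB) (T.map iA) = biprod.desc (T.map inl') (T.map inr') ≫ T.map g' := by
    apply biprod.hom_ext'
    · rw [biprod.inl_desc, biprod.inl_desc_assoc, ← T.map_comp, hg1]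
    · rw [biprod.inr_desc, biprod.inr_desc_assoc, ← T.map_comp, hg2]
  have h2 : T.map g' = biprod.lift (T.map fst') (T.map snd') ≫ biprod.desc (T.map iB) (T.map iA) := by
    rw [biprod.lift_desc, ← T.map_comp, ← T.map_comp, ← tor_map_add, ← hg3]
  change Epi (T.map g') ↔ Epi (biprod.desc (T.map iB) (T.map iA))
  constructor
  · intro h
    rw [h2] at h
    exact epi_of_epi (biprod.lift (T.map fst') (T.map snd')) _
  · intro h
    rw [h1] at h
    exact epi_of_epi (biprod.desc (T.map inl') (T.map inr')) _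

end Groth.Agent.S14958
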