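import Groth.Statements.S14959
import Groth.Agent.Lib.Helper17.ModPullback
import Groth.Agent.Lib.Helper17.PinchAlg
import Mathlib
set_option backward.isDefEq.respectTransparency.types false

set_option autoImplicit false
universe u
open AlgebraicGeometry CategoryTheory CategoryTheory.Limits
open Pinch

namespace Groth.Agent.S14959
open Groth.Agent.Lib.Helper17.ModPullback Groth.Agent.Lib.Helper17.PinchAlg TensorProduct


/-- Let w : X' → X, g : X' → Y', f : X → Y, u : Y' → Y be a cartesian square of schemes with f affine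
and u a closed immersion which is a pinching square: for every affine open V of Y, with I(V) the
kernel of Γ(V, O_Y) → Γ(u⁻¹V, O_Y'), the kernel of Γ(V, O_Y) → Γ(f⁻¹V, O_X) meets I(V) in 0 and the
ideal generated by the image of I(V) in Γ(f⁻¹V, O_X) consists of images of elements of I(V)
(equivalently Γ(V, O_Y) is the fibre product of Γ(u⁻¹V, O_Y') and Γ(f⁻¹V, O_X) over Γ(h⁻¹V, O_X'),
i.e. O_Y = u_*O_Y' ×_{h_*O_X'} f_*O_X). If G is a quasi-coherent O_Y-module whose pullbacks u*G and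
f*G are zero, then G = 0. -/
theorem result {X X' Y Y' : Scheme.{u}} (f : X ⟶ Y) (u : Y' ⟶ Y) (w : X' ⟶ X) (g : X' ⟶ Y')
    (hP : IsPullback w g f u) [IsAffineHom f] [IsClosedImmersion u]
    (hM : ∀ V ∈ Y.affineOpens,
      RingHom.ker (f.app V).hom ⊓ RingHom.ker (u.app V).hom = ⊥ ∧
      ∀ a ∈ Ideal.map (f.app V).hom (RingHom.ker (u.app V).hom),
        ∃ i ∈ RingHom.ker (u.app V).hom, (f.app V).hom i = a)
    (G : Y.Modules) [G.IsQuasicoherent]
    (h1 : IsZero ((Scheme.Modules.pullback u).obj G)) (h2 : IsZero ((Scheme.Modules.pullback f).obj G)) :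
    IsZero G := by
  refine isZero_of_subsingleton_sections_affine G (fun V hV => ?_)
  have hV' : IsAffineOpen V := hV
  have hUa : IsAffineOpen (u ⁻¹ᵁ V) := hV'.preimage u
  have hFa : IsAffineOpen (f ⁻¹ᵁ V) := hV'.preimage f
  obtain ⟨e1⟩ := nonempty_linearEquiv_pullback_sections u G hUa hV' le_rfl
  obtain ⟨e2⟩ := nonempty_linearEquiv_pullback_sections f G hFa hV' le_rfl
  have s1 := subsingleton_sections_of_isZero _ h1 (u ⁻¹ᵁ V)
  have s2 := subsingleton_sections_of_isZero _ h2 (f ⁻¹ᵁ V)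
  letI algB' : Algebra Γ(Y, V) Γ(Y', u ⁻¹ᵁ V) := (u.appLE V (u ⁻¹ᵁ V) le_rfl).hom.toAlgebra
  letI algA : Algebra Γ(Y, V) Γ(X, f ⁻¹ᵁ V) := (f.appLE V (f ⁻¹ᵁ V) le_rfl).hom.toAlgebra
  have hu : u.appLE V (u ⁻¹ᵁ V) le_rfl = u.app V := (Scheme.Hom.app_eq_appLE (f := u) (U := V)).symm
  have hf : f.appLE V (f ⁻¹ᵁ V) le_rfl = f.app V := (Scheme.Hom.app_eq_appLE (f := f) (U := V)).symm
  obtain ⟨hm1, hm2⟩ := hM V hV
  have a1 : algebraMap Γ(Y, V) Γ(Y', u ⁻¹ᵁ V) = (u.app V).hom := by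
    rw [RingHom.algebraMap_toAlgebra, hu]
  have a2 : algebraMap Γ(Y, V) Γ(X, f ⁻¹ᵁ V) = (f.app V).hom := by
    rw [RingHom.algebraMap_toAlgebra, hf]
  refine subsingleton_of_pinch (B := Γ(Y, V)) (B' := Γ(Y', u ⁻¹ᵁ V)) (A := Γ(X, f ⁻¹ᵁ V)) Γ(G, V)
    ?_ ?_ ?_ e1.symm.toEquiv.subsingleton e2.symm.toEquiv.subsingleton
  · rw [a1]; exact u.app_surjective V hV'
  · rw [a1, a2]; exact hm1
  · rw [a1, a2]; exact hm2

end Groth.Agent.S14959
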