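import Groth.Statements.S14960
import Groth.Agent.Lib.Helper17.ModPullback
import Groth.Agent.Lib.Helper17.ModStalk
import Groth.Agent.Lib.Helper17.FlatDict2
import Groth.Agent.Lib.Helper17.PinchFlat
import Mathlib
set_option backward.isDefEq.respectTransparency.types false

set_option autoImplicit false
universe u
open AlgebraicGeometry CategoryTheory CategoryTheory.Limits
open Pinch

namespace Groth.Agent.S14960

open TopologicalSpace TensorProduct
open Groth.Agent.Lib.Helper17.ModPullback Groth.Agent.Lib.Helper17.ModStalk Groth.Agent.Lib.Helper17.FlatDict2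

/-- the inverse image of a flat quasi-coherent module is flat -/
theorem isFlat_pullback {X Y : Scheme.{u}} (f : X ⟶ Y) (G : Y.Modules) [G.IsQuasicoherent]
    (hG : FlatMod.IsFlat G) : FlatMod.IsFlat ((Scheme.Modules.pullback f).obj G) := by
  intro x
  letI := (f.stalkMap x).hom.toAlgebra
  obtain ⟨e⟩ := nonempty_linearEquiv_stalk_pullback f G x
  haveI : Module.Flat (Y.presheaf.stalk (f x)) (G.presheaf.stalk (f x)) := hG (f x)
  exact Module.Flat.of_linearEquiv e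


/-- Let w : X' → X, g : X' → Y', f : X → Y, u : Y' → Y be a cartesian square of schemes with f affine
and u a closed immersion which is a pinching square: for every affine open V of Y, with I(V) the
kernel of Γ(V, O_Y) → Γ(u⁻¹V, O_Y'), the kernel of Γ(V, O_Y) → Γ(f⁻¹V, O_X) meets I(V) in 0 and the
ideal generated by the image of I(V) in Γ(f⁻¹V, O_X) consists of images of elements of I(V)
(equivalently Γ(V, O_Y) is the fibre product of Γ(u⁻¹V, O_Y') and Γ(f⁻¹V, O_X) over Γ(h⁻¹V, O_X'),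
i.e. O_Y = u_*O_Y' ×_{h_*O_X'} f_*O_X). A quasi-coherent O_Y-module G is a flat O_Y-module if and
only if u*G is a flat O_Y'-module and f*G is a flat O_X-module. -/
theorem result {X X' Y Y' : Scheme.{u}} (f : X ⟶ Y) (u : Y' ⟶ Y) (w : X' ⟶ X) (g : X' ⟶ Y')
    (hP : IsPullback w g f u) [IsAffineHom f] [IsClosedImmersion u]
    (hM : ∀ V ∈ Y.affineOpens,
      RingHom.ker (f.app V).hom ⊓ RingHom.ker (u.app V).hom = ⊥ ∧
      ∀ a ∈ Ideal.map (f.app V).hom (RingHom.ker (u.app V).hom),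
        ∃ i ∈ RingHom.ker (u.app V).hom, (f.app V).hom i = a)
    (G : Y.Modules) [G.IsQuasicoherent] :
    FlatMod.IsFlat G ↔
      FlatMod.IsFlat ((Scheme.Modules.pullback u).obj G) ∧ FlatMod.IsFlat ((Scheme.Modules.pullback f).obj G) := by
  constructor
  · intro hG
    exact ⟨isFlat_pullback u G hG, isFlat_pullback f G hG⟩
  · rintro ⟨hu, hf⟩ y
    obtain ⟨V, hV, hyV, -⟩ := Opens.isBasis_iff_nbhd.mp Y.isBasis_affineOpens
      (show y ∈ (⊤ : Y.Opens) from trivial)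
    obtain ⟨h1, h2⟩ := hM V hV
    have hUf : IsAffineOpen (f ⁻¹ᵁ V) := hV.preimage f
    have hUu : IsAffineOpen (u ⁻¹ᵁ V) := hV.preimage u
    letI algB : Algebra Γ(Y, V) Γ(X, f ⁻¹ᵁ V) := (f.appLE V (f ⁻¹ᵁ V) le_rfl).hom.toAlgebra
    letI algA' : Algebra Γ(Y, V) Γ(Y', u ⁻¹ᵁ V) := (u.appLE V (u ⁻¹ᵁ V) le_rfl).hom.toAlgebra
    have hB : algebraMap Γ(Y, V) Γ(X, f ⁻¹ᵁ V) = (f.app V).hom := by
      show (f.appLE V (f ⁻¹ᵁ V) le_rfl).hom = (f.app V).hom
      rw [Scheme.Hom.app_eq_appLE]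
    have hA' : algebraMap Γ(Y, V) Γ(Y', u ⁻¹ᵁ V) = (u.app V).hom := by
      show (u.appLE V (u ⁻¹ᵁ V) le_rfl).hom = (u.app V).hom
      rw [Scheme.Hom.app_eq_appLE]
    obtain ⟨Ef⟩ := nonempty_linearEquiv_pullback_sections f G hUf hV le_rfl
    obtain ⟨Eu⟩ := nonempty_linearEquiv_pullback_sections u G hUu hV le_rfl
    haveI : Module.Flat Γ(X, f ⁻¹ᵁ V) Γ((Scheme.Modules.pullback f).obj G, f ⁻¹ᵁ V) :=
      (flat_sections_iff_isFlatAt _ hUf).2 (fun x _ => hf x)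
    haveI : Module.Flat Γ(Y', u ⁻¹ᵁ V) Γ((Scheme.Modules.pullback u).obj G, u ⁻¹ᵁ V) :=
      (flat_sections_iff_isFlatAt _ hUu).2 (fun x _ => hu x)
    haveI : Module.Flat Γ(X, f ⁻¹ᵁ V) (Γ(X, f ⁻¹ᵁ V) ⊗[Γ(Y, V)] Γ(G, V)) := Module.Flat.of_linearEquiv Ef.symm
    haveI : Module.Flat Γ(Y', u ⁻¹ᵁ V) (Γ(Y', u ⁻¹ᵁ V) ⊗[Γ(Y, V)] Γ(G, V)) := Module.Flat.of_linearEquiv Eu.symm
    have hflat : Module.Flat Γ(Y, V) Γ(G, V) := by
      refine Groth.Agent.Lib.Helper17.PinchFlat.flat_of_flat_tensor (A := Γ(Y, V)) (B := Γ(X, f ⁻¹ᵁ V))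
        (A' := Γ(Y', u ⁻¹ᵁ V)) Γ(G, V) ?_ ?_ ?_
      · rw [hA']
        exact u.app_surjective V hV
      · rw [hA', hB]
        exact h1
      · rw [hA', hB]
        exact h2
    exact (flat_sections_iff_isFlatAt G hV).1 hflat y hyV

end Groth.Agent.S14960
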