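import Groth.Statements.S14961
import Groth.Agent.S14960
import Groth.Agent.Lib.Helper17.ModPullback
import Groth.Agent.Lib.Helper17.FlatDict2
import Groth.Agent.Lib.Helper17.PinchFP
import Groth.Agent.Lib.Helper29.FPFree
import Groth.Agent.Lib.Helper29.FPDict
import Groth.Agent.Lib.Helper16.RS6
import Mathlib
set_option backward.isDefEq.respectTransparency.types false

set_option autoImplicit false
universe u
open AlgebraicGeometry CategoryTheory CategoryTheory.Limits
open Pinch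

namespace Groth.Agent.S14961

open TopologicalSpace TensorProduct
open Groth.Agent.Lib.Helper17.ModPullback Groth.Agent.Lib.Helper17.FlatDict2
  Groth.Agent.Lib.Helper29.FPFree Groth.Agent.Lib.Helper29.FPDict

/-- a finite locally free module is flat -/
theorem isFlat_of_isFinLocFree {X : Scheme.{u}} (M : X.Modules) (h : FlatMod.IsFinLocFree M) :
    FlatMod.IsFlat M := fun x => by
  haveI := free_stalk_of_isFinLocFree M h x
  exact (inferInstance : Module.Flat (X.presheaf.stalk x) (M.presheaf.stalk x))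


/-- Let w : X' → X, g : X' → Y', f : X → Y, u : Y' → Y be a cartesian square of schemes with f affine
and u a closed immersion which is a pinching square: for every affine open V of Y, with I(V) the
kernel of Γ(V, O_Y) → Γ(u⁻¹V, O_Y'), the kernel of Γ(V, O_Y) → Γ(f⁻¹V, O_X) meets I(V) in 0 and the
ideal generated by the image of I(V) in Γ(f⁻¹V, O_X) consists of images of elements of I(V)
(equivalently Γ(V, O_Y) is the fibre product of Γ(u⁻¹V, O_Y') and Γ(f⁻¹V, O_X) over Γ(h⁻¹V, O_X'),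
i.e. O_Y = u_*O_Y' ×_{h_*O_X'} f_*O_X). A quasi-coherent O_Y-module G is finite locally free if and
only if u*G and f*G are finite locally free. -/
theorem result {X X' Y Y' : Scheme.{u}} (f : X ⟶ Y) (u : Y' ⟶ Y) (w : X' ⟶ X) (g : X' ⟶ Y')
    (hP : IsPullback w g f u) [IsAffineHom f] [IsClosedImmersion u]
    (hM : ∀ V ∈ Y.affineOpens,
      RingHom.ker (f.app V).hom ⊓ RingHom.ker (u.app V).hom = ⊥ ∧
      ∀ a ∈ Ideal.map (f.app V).hom (RingHom.ker (u.app V).hom),
        ∃ i ∈ RingHom.ker (u.app V).hom, (f.app V).hom i = a)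
    (G : Y.Modules) [G.IsQuasicoherent] :
    FlatMod.IsFinLocFree G ↔
      FlatMod.IsFinLocFree ((Scheme.Modules.pullback u).obj G) ∧
        FlatMod.IsFinLocFree ((Scheme.Modules.pullback f).obj G) := by
  constructor
  · intro hG
    exact ⟨Groth.Agent.Lib.Helper16.RS.isFinLocFree_pullback u G hG,
      Groth.Agent.Lib.Helper16.RS.isFinLocFree_pullback f G hG⟩
  · rintro ⟨hu, hf⟩
    have hflat : FlatMod.IsFlat G :=
      (Groth.Agent.S14960.result f u w g hP hM G).2 ⟨isFlat_of_isFinLocFree _ hu, isFlat_of_isFinLocFree _ hf⟩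
    haveI fpu := isFinitePresentation_of_isFinLocFree _ hu
    haveI fpf := isFinitePresentation_of_isFinLocFree _ hf
    haveI : SheafOfModules.IsFinitePresentation.{u} (R := Y.ringCatSheaf) G := by
      refine isFinitePresentation_of_fp_cover G (fun V : Y.affineOpens => V.1)
        (IsOpenCover.mk (iSup_affineOpens_eq_top Y)) (fun V => V.2) ?_
      rintro ⟨V, hV⟩
      obtain ⟨h1, h2⟩ := hM V hV
      have hUf : IsAffineOpen (f ⁻¹ᵁ V) := hV.preimage f
      have hUu : IsAffineOpen (u ⁻¹ᵁ V) := hV.preimage u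
      letI algB : Algebra Γ(Y, V) Γ(X, f ⁻¹ᵁ V) := (f.appLE V (f ⁻¹ᵁ V) le_rfl).hom.toAlgebra
      letI algA' : Algebra Γ(Y, V) Γ(Y', u ⁻¹ᵁ V) := (u.appLE V (u ⁻¹ᵁ V) le_rfl).hom.toAlgebra
      have hB : algebraMap Γ(Y, V) Γ(X, f ⁻¹ᵁ V) = (f.app V).hom := by
        show (f.appLE V (f ⁻¹ᵁ V) le_rfl).hom = (f.app V).hom
        rw [Scheme.Hom.app_eq_appLE]
      have hA' : algebraMap Γ(Y, V) Γ(Y', u ⁻¹ᵁ V) = (u.app V).hom := by
        show (u.appLE V (u ⁻¹ᵁ V) le_rfl).hom = (u.app V).hom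
        rw [Scheme.Hom.app_eq_appLE]
      obtain ⟨Ef⟩ := nonempty_linearEquiv_pullback_sections f G hUf hV le_rfl
      obtain ⟨Eu⟩ := nonempty_linearEquiv_pullback_sections u G hUu hV le_rfl
      haveI : Module.Flat Γ(Y, V) Γ(G, V) := (flat_sections_iff_isFlatAt G hV).2 (fun y _ => hflat y)
      haveI : Module.FinitePresentation Γ(X, f ⁻¹ᵁ V) Γ((Scheme.Modules.pullback f).obj G, f ⁻¹ᵁ V) :=
        fp_of_isAffineOpen _ hUf
      haveI : Module.FinitePresentation Γ(Y', u ⁻¹ᵁ V) Γ((Scheme.Modules.pullback u).obj G, u ⁻¹ᵁ V) :=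
        fp_of_isAffineOpen _ hUu
      haveI : Module.FinitePresentation Γ(X, f ⁻¹ᵁ V) (Γ(X, f ⁻¹ᵁ V) ⊗[Γ(Y, V)] Γ(G, V)) :=
        Module.FinitePresentation.of_equiv Ef
      haveI : Module.FinitePresentation Γ(Y', u ⁻¹ᵁ V) (Γ(Y', u ⁻¹ᵁ V) ⊗[Γ(Y, V)] Γ(G, V)) :=
        Module.FinitePresentation.of_equiv Eu
      refine Groth.Agent.Lib.Helper17.PinchFP.fp_of_fp_tensor (A := Γ(Y, V)) (B := Γ(X, f ⁻¹ᵁ V))
        (A' := Γ(Y', u ⁻¹ᵁ V)) Γ(G, V) ?_ ?_ ?_
      · rw [hA']
        exact u.app_surjective V hV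
      · rw [hA', hB]
        exact h1
      · rw [hA', hB]
        exact h2
    exact isFinLocFree_of_free_stalks G fun y => free_stalk_of_isFlatAt G y (hflat y)

end Groth.Agent.S14961
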