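import Groth.Statements.S14962
import Groth.Agent.Lib.Helper17.ModPullback
import Groth.Agent.Lib.Helper17.MilnorFin
import Groth.Agent.Lib.Helper28.FinType
import Groth.Agent.Lib.Helper28.FinTypeConv
import Mathlib
set_option backward.isDefEq.respectTransparency.types false

set_option autoImplicit false
universe u
open AlgebraicGeometry CategoryTheory CategoryTheory.Limits
open Pinch

namespace Groth.Agent.S14962

open TopologicalSpace TensorProduct
open Groth.Agent.Lib.Helper17.ModPullback Groth.Agent.Lib.Helper28.FinType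

/-- the inverse image of a quasi-coherent module of finite type is of finite type -/
theorem isFiniteType_pullback {X Y : Scheme.{u}} (f : X ⟶ Y) (G : Y.Modules) [G.IsQuasicoherent]
    [SheafOfModules.IsFiniteType.{u} (R := Y.ringCatSheaf) G] :
    SheafOfModules.IsFiniteType.{u} (R := X.ringCatSheaf) ((Scheme.Modules.pullback f).obj G) := by
  let ι := {p : X.Opens × Y.Opens // IsAffineOpen p.1 ∧ IsAffineOpen p.2 ∧ p.1 ≤ f ⁻¹ᵁ p.2}
  refine isFiniteType_of_finite_cover _ (fun i : ι => i.1.1) ?_ (fun i => i.2.1) ?_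
  · refine eq_top_iff.mpr fun x _ => ?_
    obtain ⟨U, V, hU, hV, hxU, hUV⟩ := exists_affine_pair f x
    exact Opens.mem_iSup.mpr ⟨⟨(U, V), hU, hV, hUV⟩, hxU⟩
  · rintro ⟨⟨U, V⟩, hU, hV, e⟩
    letI := (f.appLE V U e).hom.toAlgebra
    obtain ⟨E⟩ := nonempty_linearEquiv_pullback_sections f G hU hV e
    haveI : Module.Finite Γ(Y, V) Γ(G, V) := finite_of_isAffineOpen G hV
    exact Module.Finite.equiv E.symm


/-- Let w : X' → X, g : X' → Y', f : X → Y, u : Y' → Y be a cartesian square of schemes with f affine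
and u a closed immersion which is a pinching square: for every affine open V of Y, with I(V) the
kernel of Γ(V, O_Y) → Γ(u⁻¹V, O_Y'), the kernel of Γ(V, O_Y) → Γ(f⁻¹V, O_X) meets I(V) in 0 and the
ideal generated by the image of I(V) in Γ(f⁻¹V, O_X) consists of images of elements of I(V)
(equivalently Γ(V, O_Y) is the fibre product of Γ(u⁻¹V, O_Y') and Γ(f⁻¹V, O_X) over Γ(h⁻¹V, O_X'),
i.e. O_Y = u_*O_Y' ×_{h_*O_X'} f_*O_X). A quasi-coherent O_Y-module G is of finite type if and only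
if u*G and f*G are of finite type. (The published clause is for flat modules of finite type;
flatness descends separately and the finiteness part does not use it.) -/
theorem result {X X' Y Y' : Scheme.{u}} (f : X ⟶ Y) (u : Y' ⟶ Y) (w : X' ⟶ X) (g : X' ⟶ Y')
    (hP : IsPullback w g f u) [IsAffineHom f] [IsClosedImmersion u]
    (hM : ∀ V ∈ Y.affineOpens,
      RingHom.ker (f.app V).hom ⊓ RingHom.ker (u.app V).hom = ⊥ ∧
      ∀ a ∈ Ideal.map (f.app V).hom (RingHom.ker (u.app V).hom),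
        ∃ i ∈ RingHom.ker (u.app V).hom, (f.app V).hom i = a)
    (G : Y.Modules) [G.IsQuasicoherent] :
    SheafOfModules.IsFiniteType G ↔
      SheafOfModules.IsFiniteType ((Scheme.Modules.pullback u).obj G) ∧
        SheafOfModules.IsFiniteType ((Scheme.Modules.pullback f).obj G) := by
  constructor
  · intro hG
    haveI := hG
    exact ⟨isFiniteType_pullback u G, isFiniteType_pullback f G⟩
  · rintro ⟨hu, hf⟩
    haveI := hu
    haveI := hf
    refine isFiniteType_of_finite_cover G (fun V : Y.affineOpens => V.1) ?_ (fun V => V.2) ?_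
    · refine eq_top_iff.mpr fun y _ => ?_
      obtain ⟨V, hV, hyV, -⟩ := Opens.isBasis_iff_nbhd.mp Y.isBasis_affineOpens
        (show y ∈ (⊤ : Y.Opens) from trivial)
      exact Opens.mem_iSup.mpr ⟨⟨V, hV⟩, hyV⟩
    · rintro ⟨V, hV⟩
      obtain ⟨h1, h2⟩ := hM V hV
      have hUf : IsAffineOpen (f ⁻¹ᵁ V) := hV.preimage f
      have hUu : IsAffineOpen (u ⁻¹ᵁ V) := hV.preimage u
      letI algB : Algebra Γ(Y, V) Γ(X, f ⁻¹ᵁ V) := (f.appLE V (f ⁻¹ᵁ V) le_rfl).hom.toAlgebra
      letI algA' : Algebra Γ(Y, V) Γ(Y', u ⁻¹ᵁ V) := (u.appLE V (u ⁻¹ᵁ V) le_rfl).hom.toAlgebra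
      have hB : algebraMap Γ(Y, V) Γ(X, f ⁻¹ᵁ V) = (f.app V).hom := by
        show (f.appLE V (f ⁻¹ᵁ V) le_rfl).hom = (f.app V).hom
        rw [Scheme.Hom.app_eq_appLE]
      have hA' : algebraMap Γ(Y, V) Γ(Y', u ⁻¹ᵁ V) = (u.app V).hom := by
        show (u.appLE V (u ⁻¹ᵁ V) le_rfl).hom = (u.app V).hom
        rw [Scheme.Hom.app_eq_appLE]
      obtain ⟨Ef⟩ := nonempty_linearEquiv_pullback_sections f G hUf hV le_rfl
      obtain ⟨Eu⟩ := nonempty_linearEquiv_pullback_sections u G hUu hV le_rfl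
      haveI : Module.Finite Γ(X, f ⁻¹ᵁ V) Γ((Scheme.Modules.pullback f).obj G, f ⁻¹ᵁ V) :=
        finite_of_isAffineOpen _ hUf
      haveI : Module.Finite Γ(Y', u ⁻¹ᵁ V) Γ((Scheme.Modules.pullback u).obj G, u ⁻¹ᵁ V) :=
        finite_of_isAffineOpen _ hUu
      haveI : Module.Finite Γ(X, f ⁻¹ᵁ V) (Γ(X, f ⁻¹ᵁ V) ⊗[Γ(Y, V)] Γ(G, V)) := Module.Finite.equiv Ef
      haveI : Module.Finite Γ(Y', u ⁻¹ᵁ V) (Γ(Y', u ⁻¹ᵁ V) ⊗[Γ(Y, V)] Γ(G, V)) := Module.Finite.equiv Eu
      refine Groth.Agent.Lib.Helper17.MilnorFin.finite_of_finite_tensor (A := Γ(Y, V)) (B := Γ(X, f ⁻¹ᵁ V))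
        (A' := Γ(Y', u ⁻¹ᵁ V)) Γ(G, V) ?_ ?_ ?_
      · rw [hA']
        exact u.app_surjective V hV
      · rw [hA', hB]
        exact h1
      · rw [hA', hB]
        exact h2

end Groth.Agent.S14962
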