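import Groth.Statements.S14963
import Groth.Agent.Lib.Helper17.AzumayaBC

set_option autoImplicit false
universe u v w
open TensorProduct
open Brauer

namespace Groth.Agent.S14963


/-- Let R → S be a ring homomorphism with Spec S → Spec R surjective and B an R-algebra which is
finitely generated and projective as an R-module. If S ⊗_R B is an Azumaya S-algebra, then B is an
Azumaya R-algebra. (The published statement is for a surjective morphism of schemes X → Y and a
finite locally free O_Y-algebra; this row is the case of affine X and Y. The converse direction,
base change, is omitted.) -/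
theorem result (R : Type u) [CommRing R]
    (S : Type v) [CommRing S] [Algebra R S]
    (hS : Function.Surjective (PrimeSpectrum.comap (algebraMap R S)))
    (B : Type w) [Ring B] [Algebra R B] [Module.Finite R B] [Module.Projective R B]
    [IsAzumaya S (S ⊗[R] B)] : IsAzumaya R B := by
  have hfaith : FaithfulSMul R B :=
    Groth.Agent.Lib.Helper17.AzumayaBC.faithful_of_baseChange_faithful hS B
  have hfin : Module.Finite R (Module.End R B) := Groth.Agent.Lib.Helper17.AzumayaBC.finite_end R B
  have hproj : Module.Projective R (Module.End R B) :=
    Groth.Agent.Lib.Helper17.AzumayaBC.projective_end R B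
  have h1 : Function.Bijective ((AlgHom.mulLeftRight R B).toLinearMap.lTensor S) :=
    (Groth.Agent.Lib.Helper17.AzumayaBC.bijective_iff R S B).mp IsAzumaya.bij
  have hbij : Function.Bijective (AlgHom.mulLeftRight R B) :=
    Groth.Agent.Lib.Helper17.AzumayaBC.bijective_of_lTensor_bijective hS
      (AlgHom.mulLeftRight R B).toLinearMap h1
  exact { hfaith with bij := hbij }

end Groth.Agent.S14963
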