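import Groth.Statements.S14965
-- import your own Groth.Agent.* helpers here
import Groth.Agent.S14956
import Groth.Agent.S2019

set_option autoImplicit false
universe u
open TensorProduct
open Brauer

namespace Groth.Agent.S14965


open TensorProduct in
/-- If `π : D' → N` is a `B'`-algebra map to a `B`-algebra whose linear base change `B ⊗ D' → N` is
bijective then `B ⊗ D' ≃ₐ N`. -/
noncomputable def baseChangeAlgEquiv {B' S : Type u} [CommRing B'] [CommRing S] [Algebra B' S]
    {D' N : Type u} [Ring D'] [Algebra B' D'] [Ring N] [Algebra S N] [Algebra B' N]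
    [IsScalarTower B' S N] (π : D' →ₐ[B'] N)
    (h : Function.Bijective (LinearMap.liftBaseChange S π.toLinearMap)) : S ⊗[B'] D' ≃ₐ[S] N :=
  AlgEquiv.ofBijective
    (Algebra.TensorProduct.lift (Algebra.ofId S N) π (fun x y => Algebra.commutes x (π y)))
    (by
      have : ⇑(Algebra.TensorProduct.lift (Algebra.ofId S N) π
          (fun x y => Algebra.commutes x (π y))) = ⇑(LinearMap.liftBaseChange S π.toLinearMap) := by
        ext t
        induction t using TensorProduct.induction_on with
        | zero => simp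
        | add x y hx hy => rw [map_add, map_add, hx, hy]
        | tmul s d =>
          rw [Algebra.TensorProduct.lift_tmul, LinearMap.liftBaseChange_tmul, Algebra.ofId_apply,
            Algebra.smul_def]
          rfl
      rw [this]
      exact h)

/-- Let B' = B ×_A A' be a fibre product of commutative rings with A' → A surjective, N an Azumaya
B-algebra, M' an Azumaya A'-algebra and φ : A ⊗_B N ≅ A ⊗_{A'} M' an isomorphism of A-algebras. If a
B'-algebra D' with B'-algebra homomorphisms π₁ : D' → N and π₂ : D' → M' is the glued algebra N ×_φ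
M', in the sense that (π₁, π₂) is injective with image the pairs (n, m') satisfying φ(1 ⊗ n) = 1 ⊗
m', then D' is an Azumaya B'-algebra. (The published statement is for Azumaya algebras on the
pushout scheme of a closed immersion and an affine morphism, glued as u_*B' ×_{h_*} f_*A; this row
is the case of an affine pushout.) -/
theorem result (B' B A' A : Type u) [CommRing B'] [CommRing B] [CommRing A'] [CommRing A]
    [Algebra B' B] [Algebra B' A'] [Algebra B A] [Algebra A' A] [Algebra B' A] [IsScalarTower B' B A] [IsScalarTower B' A' A]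
    (hsq : EtMil.IsFibreSquare B' B A' A)
    (N : Type u) [Ring N] [Algebra B N] [Algebra B' N] [IsScalarTower B' B N] [IsAzumaya B N]
    (M' : Type u) [Ring M'] [Algebra A' M'] [Algebra B' M'] [IsScalarTower B' A' M'] [IsAzumaya A' M']
    (φ : A ⊗[B] N ≃ₐ[A] A ⊗[A'] M')
    (D' : Type u) [Ring D'] [Algebra B' D'] (π₁ : D' →ₐ[B'] N) (π₂ : D' →ₐ[B'] M')
    (hinj : ∀ d : D', π₁ d = 0 → π₂ d = 0 → d = 0)
    (himg : ∀ (n : N) (m' : M'), φ ((1 : A) ⊗ₜ[B] n) = (1 : A) ⊗ₜ[A'] m' ↔ ∃ d : D', π₁ d = n ∧ π₂ d = m') :
    IsAzumaya B' D' := by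
  classical
  let φl : A ⊗[B] N ≃ₗ[A] A ⊗[A'] M' := φ.toLinearEquiv
  have hmem : ∀ d : D', ((π₁ d, π₂ d) : N × M') ∈ EtMil.glue B' φl := fun d =>
    (himg (π₁ d) (π₂ d)).mpr ⟨d, rfl, rfl⟩
  let e0 : D' →ₗ[B'] EtMil.glue B' φl :=
    LinearMap.codRestrict (EtMil.glue B' φl) (π₁.toLinearMap.prod π₂.toLinearMap) hmem
  have he0 : Function.Bijective e0 := by
    constructor
    · rw [injective_iff_map_eq_zero]
      intro d hd
      have h1 := congrArg (fun g : EtMil.glue B' φl => g.1.1) hd
      have h2 := congrArg (fun g : EtMil.glue B' φl => g.1.2) hd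
      exact hinj d h1 h2
    · rintro ⟨⟨n, m'⟩, hg⟩
      obtain ⟨d, hd1, hd2⟩ := (himg n m').mp hg
      refine ⟨d, Subtype.ext ?_⟩
      exact Prod.ext hd1 hd2
  let e : D' ≃ₗ[B'] EtMil.glue B' φl := LinearEquiv.ofBijective e0 he0
  obtain ⟨hb1, hb2⟩ := Groth.Agent.S2019.result B' B A' A hsq N M' φl
  have hB : Function.Bijective (LinearMap.liftBaseChange B π₁.toLinearMap) := by
    have : LinearMap.liftBaseChange B π₁.toLinearMap =
        (LinearMap.liftBaseChange B (EtMil.glueFst B' φl)) ∘ₗ
          (TensorProduct.AlgebraTensorModule.congr (LinearEquiv.refl B B) e).toLinearMap := by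
      apply TensorProduct.AlgebraTensorModule.curry_injective
      ext d
      simp [e, e0, EtMil.glueFst]
    rw [this, LinearMap.coe_comp]
    exact hb1.comp (LinearEquiv.bijective _)
  have hA' : Function.Bijective (LinearMap.liftBaseChange A' π₂.toLinearMap) := by
    have : LinearMap.liftBaseChange A' π₂.toLinearMap =
        (LinearMap.liftBaseChange A' (EtMil.glueSnd B' φl)) ∘ₗ
          (TensorProduct.AlgebraTensorModule.congr (LinearEquiv.refl A' A') e).toLinearMap := by
      apply TensorProduct.AlgebraTensorModule.curry_injective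
      ext d
      simp [e, e0, EtMil.glueSnd]
    rw [this, LinearMap.coe_comp]
    exact hb2.comp (LinearEquiv.bijective _)
  have : IsAzumaya B (B ⊗[B'] D') := IsAzumaya.of_AlgEquiv _ _ _ (baseChangeAlgEquiv π₁ hB).symm
  have : IsAzumaya A' (A' ⊗[B'] D') := IsAzumaya.of_AlgEquiv _ _ _ (baseChangeAlgEquiv π₂ hA').symm
  exact (Groth.Agent.S14956.result B' B A' A hsq D').mpr ⟨inferInstance, inferInstance⟩

end Groth.Agent.S14965
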