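import Groth.Statements.S14966
import Mathlib.Tactic

set_option autoImplicit false
universe u
open EtAlg

namespace Groth.Agent.S14966

/-- Let A → A' be an injective homomorphism of commutative rings and let I ⊆ A be the conductor, i.e.
the annihilator of the A-module A'/A. Then the conductor square formed by A → A/I, A → A', A/I →
A'/IA' and A' → A'/IA' is a fibre product square of rings with A' → A'/IA' surjective: A = A/I
×_{A'/IA'} A'. (The published Lemma is for the conductor square of a finite modification of schemes;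
this row is the underlying statement for one injective ring map, which needs no finiteness.) -/
theorem result (A A' : Type u) [CommRing A] [CommRing A'] [Algebra A A']
    (hinj : Function.Injective (algebraMap A A')) :
    EtMil.IsFibreSquare A (A ⧸ Module.annihilator A (A' ⧸ LinearMap.range (Algebra.linearMap A A'))) A'
      (A' ⧸ Ideal.map (algebraMap A A') (Module.annihilator A (A' ⧸ LinearMap.range (Algebra.linearMap A A')))) := by
  set I := Module.annihilator A (A' ⧸ LinearMap.range (Algebra.linearMap A A')) with hI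
  have memI : ∀ i : A, i ∈ I ↔ ∀ a' : A', ∃ a : A, algebraMap A A' a = i • a' := by
    intro i
    rw [hI, Module.mem_annihilator]
    constructor
    · intro h a'
      have := h (Submodule.Quotient.mk a')
      rw [← Submodule.Quotient.mk_smul, Submodule.Quotient.mk_eq_zero] at this
      obtain ⟨a, ha⟩ := this
      exact ⟨a, ha⟩
    · intro h x
      obtain ⟨a', rfl⟩ := Submodule.Quotient.mk_surjective _ x
      rw [← Submodule.Quotient.mk_smul, Submodule.Quotient.mk_eq_zero]
      obtain ⟨a, ha⟩ := h a'
      exact ⟨a, ha⟩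
  have key : ∀ y ∈ Ideal.map (algebraMap A A') I, ∃ j ∈ I, algebraMap A A' j = y := by
    intro y hy
    rw [Ideal.map] at hy
    induction hy using Submodule.span_induction with
    | mem y hy =>
      obtain ⟨i, hi, rfl⟩ := hy
      exact ⟨i, hi, rfl⟩
    | zero => exact ⟨0, I.zero_mem, map_zero _⟩
    | add y z _ _ hy hz =>
      obtain ⟨j, hj, rfl⟩ := hy
      obtain ⟨j', hj', rfl⟩ := hz
      exact ⟨j + j', I.add_mem hj hj', map_add _ _ _⟩
    | smul a' y _ hy =>
      obtain ⟨j, hj, rfl⟩ := hy
      obtain ⟨a, ha⟩ := (memI j).mp hj a'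
      refine ⟨a, (memI a).mpr ?_, ?_⟩
      · intro a''
        obtain ⟨c, hc⟩ := (memI j).mp hj (a' * a'')
        refine ⟨c, ?_⟩
        rw [hc, Algebra.smul_def, Algebra.smul_def, ha, Algebra.smul_def]
        ring
      · rw [ha, Algebra.smul_def, smul_eq_mul, mul_comm]
  refine ⟨Ideal.Quotient.mk_surjective, ?_⟩
  intro b a' hba
  obtain ⟨a₀, rfl⟩ := Ideal.Quotient.mk_surjective b
  have h1 : algebraMap A A' a₀ - a' ∈ Ideal.map (algebraMap A A') I := by
    rw [← Ideal.Quotient.eq]
    exact hba
  obtain ⟨j, hj, hj'⟩ := key _ h1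
  refine ⟨a₀ - j, ⟨?_, ?_⟩, ?_⟩
  · change Ideal.Quotient.mk I (a₀ - j) = Ideal.Quotient.mk I a₀
    rw [Ideal.Quotient.eq]
    have : a₀ - j - a₀ = -j := by ring
    rw [this]
    exact I.neg_mem hj
  · rw [map_sub, hj']
    ring
  · rintro c ⟨-, hc⟩
    apply hinj
    rw [hc, map_sub, hj']
    ring

end Groth.Agent.S14966
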