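import Groth.Statements.S14973
-- import your own Groth.Agent.* helpers here

set_option autoImplicit false
universe u v
open Diff16

namespace Groth.Agent.S14973

/-- In ring form. Let B be a commutative ring, L a ring with a ring homomorphism f from B, and L_0, L_1,
L_2, … additive subgroups of L exhausting L such that for every b in B, f(b) commutes with every
element of L_0 and, for each i, the commutator f(b) x - x f(b) of f(b) with an element x of L_(i+1)
lies in L_i. Let M be a multiplicative subset of B. Then M acts invertibly on the right of the left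
localisation of L at M (L viewed as a B-module through left multiplication): in elementwise terms,
(a) if x is in L and m, u are in M with f(u) x f(m) = 0, then f(u') x = 0 for some u' in M; (b) for
every x in L and m in M there are e in M and y in L with f(e) x = y f(m). (The published statement
assumes a filtration satisfying all the axioms of a filtered ring of differential operators on an
affine scheme; this row assumes only an exhaustive family of additive subgroups on which commutators
with the image of B lower the index.) -/
theorem result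
    {B : Type u} [CommRing B] {L : Type v} [Ring L] (f : B →+* L) (F : ℕ → AddSubgroup L)
    (hex : ∀ x : L, ∃ i : ℕ, x ∈ F i)
    (h0 : ∀ x ∈ F 0, ∀ b : B, f b * x = x * f b)
    (hS : ∀ (i : ℕ), ∀ x ∈ F (i + 1), ∀ b : B, f b * x - x * f b ∈ F i)
    (M : Submonoid B) :
    (∀ (x : L) (m u : B), m ∈ M → u ∈ M → f u * x * f m = 0 → ∃ u' ∈ M, f u' * x = 0) ∧
    (∀ (x : L) (m : B), m ∈ M → ∃ e ∈ M, ∃ y : L, f e * x = y * f m) := by
  have keyB : ∀ (i : ℕ) (x : L), x ∈ F i → ∀ m : B, m ∈ M →
      ∃ e ∈ M, ∃ y : L, f e * x = y * f m := by
    intro i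
    induction i with
    | zero =>
      intro x hx m hm
      exact ⟨m, hm, x, h0 x hx m⟩
    | succ i ih =>
      intro x hx m hm
      obtain ⟨e', he', y', hy'⟩ := ih _ (hS i x hx m) m hm
      refine ⟨e' * m, M.mul_mem he' hm, f e' * x + y', ?_⟩
      rw [map_mul, add_mul, ← hy', mul_sub, mul_assoc, mul_assoc]
      exact (add_sub_cancel _ _).symm
  have keyA : ∀ (i : ℕ) (w : L), w ∈ F i → ∀ m : B, m ∈ M → w * f m = 0 →
      ∃ u' ∈ M, f u' * w = 0 := by
    intro i
    induction i with
    | zero =>
      intro w hw m hm hwm
      exact ⟨m, hm, by rw [h0 w hw m, hwm]⟩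
    | succ i ih =>
      intro w hw m hm hwm
      have hz : (f m * w - w * f m) * f m = 0 := by
        rw [sub_mul, mul_assoc, hwm, mul_zero, zero_mul, sub_zero]
      obtain ⟨u'', hu'', h⟩ := ih _ (hS i w hw m) m hm hz
      refine ⟨u'' * m, M.mul_mem hu'' hm, ?_⟩
      rw [hwm, sub_zero] at h
      rw [map_mul, mul_assoc, h]
  constructor
  · intro x m u hm hu h
    obtain ⟨i, hi⟩ := hex (f u * x)
    obtain ⟨u', hu', h'⟩ := keyA i _ hi m hm h
    refine ⟨u' * u, M.mul_mem hu' hu, ?_⟩
    rw [map_mul, mul_assoc, h']
  · intro x m hm
    obtain ⟨i, hi⟩ := hex x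
    exact keyB i x hi m hm

end Groth.Agent.S14973
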