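import Groth.Statements.S14989
import Groth.Agent.Lib.Helper6.DevLift
import Groth.Agent.Lib.Helper28.SymPowC
import Groth.Agent.Lib.Helper29.QCohStalk
import Groth.Agent.Lib.Helper28.QCohGen
import Groth.Agent.Lib.Helper28.FinType
import Groth.Agent.Lib.Helper1.RefHull8

set_option autoImplicit false
universe u
open CategoryTheory CategoryTheory.Limits AlgebraicGeometry
open ResProp

namespace Groth.Agent.S14989

open TopologicalSpace Opposite
open Groth.Agent.Lib.Helper28 Groth.Agent.Lib.Helper28.QCohLoc Groth.Agent.Lib.Helper17.StalkExact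
open Groth.Agent.Lib.Helper29.QCohStalk Groth.Agent.Lib.Helper28.GenLocus

variable {Y : Scheme.{u}}

theorem restrict_map_app {U : Scheme.{u}} (j : U ⟶ Y) [IsOpenImmersion j] {M N : Y.Modules} (ψ : M ⟶ N)
    (V : U.Opens) :
    ((Scheme.Modules.restrictFunctor j).map ψ).app V = ψ.app (j ''ᵁ V) := rfl

/-- a local section `t ∈ F(U)` of a quasi-coherent module on a Noetherian scheme is, over `U`, in the image of a
morphism `T ⟶ F` from a coherent ideal sheaf `T ⊆ O_Y`. -/
theorem exists_extension_section [IsNoetherian Y] (F : Y.Modules) (hF : Coh.IsQCoh F) (U : Y.Opens) (t : Γ(F, U)) :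
    ∃ (T : Y.Modules) (ι : T ⟶ Coh.structureModule Y) (ψ : T ⟶ F), Mono ι ∧ Coh.IsCoh T ∧
      ∀ z (hz : z ∈ U), gm F U z hz t ∈ Set.range (stalkHom ψ z) := by
  classical
  let Z : Closeds Y := ⟨(U : Set Y)ᶜ, U.2.isClosed_compl⟩
  let I := Scheme.IdealSheafData.vanishingIdeal Z
  have hU : (U : Set Y) = (I.support : Set Y)ᶜ := by
    simp [I, Z]
  let G := Coh.structureModule Y
  have hG : Coh.IsCoh G := Groth.Agent.Lib.Helper6.DevRed.isCoh_structureModule
  let φ : (Scheme.Modules.restrictFunctor U.ι).obj G ⟶ (Scheme.Modules.restrictFunctor U.ι).obj F :=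
    (Scheme.Modules.restrictUnitIso U.ι).hom ≫ Groth.Agent.Lib.Helper28.SymPow.secOpen U t
  obtain ⟨n, ψ, hψ⟩ := Groth.Agent.Lib.Helper6.DevLift.exists_hom_restrict_compl F G hF hG I U hU φ
  refine ⟨(Dual3.idealMul (I ^ n)).obj G, Dual3.idealMulι (I ^ n) G, ψ, inferInstance, ?_, ?_⟩
  · haveI : G.IsQuasicoherent := hG.1
    haveI : SheafOfModules.IsFiniteType.{u} (R := Y.ringCatSheaf) G := hG.2
    haveI : ((Dual3.idealMul (I ^ n)).obj G).IsQuasicoherent :=
      Groth.Agent.Lib.Helper6.IdealMul.isQuasicoherent_idealMul (I ^ n) G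
    exact ⟨inferInstance, Groth.Agent.Lib.Helper17.CohKer.isFiniteType_of_mono (Dual3.idealMulι (I ^ n) G)⟩
  · intro z hz
    have hzs : z ∉ ((I ^ n).support : Set Y) := by
      rcases n with _ | k
      · rw [pow_zero, Scheme.IdealSheafData.one_eq_top, Scheme.IdealSheafData.support_top]
        exact fun h => h
      · rw [Scheme.IdealSheafData.support_pow_succ]
        have hz' : z ∈ (U : Set Y) := hz
        rw [hU] at hz'
        exact hz'
    obtain ⟨V₀, hzV₀, hV₀⟩ := Groth.Agent.Lib.Helper6.DevRoots.exists_basicOpen_ideal_eq_top (I ^ n) z hzs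
    obtain ⟨_, ⟨W₁, hW₁, rfl⟩, hzW₁, hW₁le⟩ := Y.isBasis_affineOpens.exists_subset_of_mem_open
      (show z ∈ ((V₀ ⊓ U : Y.Opens) : Set Y) from ⟨hzV₀, hz⟩) (V₀ ⊓ U).2
    have hW₁V₀ : W₁ ≤ V₀ := fun x hx => (hW₁le hx).1
    have hW₁U : W₁ ≤ U := fun x hx => (hW₁le hx).2
    have hmem : oneSec Y W₁ ∈ ((I ^ n).ideal ⟨W₁, hW₁⟩) • (⊤ : Submodule Γ(Y, W₁) Γ(G, W₁)) := by
      rw [hV₀ ⟨W₁, hW₁⟩ hW₁V₀, Submodule.top_smul]
      trivial
    obtain ⟨x₁, hx₁⟩ := Groth.Agent.Lib.Helper6.IdealMul.exists_idealMul_app_eq (I ^ n) G ⟨W₁, hW₁⟩ _ hmem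
    -- pass to an open of the form `U.ι ''ᵁ V'`
    let V' : (U : Scheme.{u}).Opens := U.ι ⁻¹ᵁ W₁
    have hW' : U.ι ''ᵁ V' ≤ W₁ := U.ι.image_preimage_le W₁
    have hzW' : z ∈ U.ι ''ᵁ V' := ⟨⟨z, hz⟩, hzW₁, rfl⟩
    let x' : Γ((Dual3.idealMul (I ^ n)).obj G, U.ι ''ᵁ V') := res _ hW' x₁
    have hx' : (Dual3.idealMulι (I ^ n) G).app (U.ι ''ᵁ V') x' = oneSec Y (U.ι ''ᵁ V') := by
      show (Dual3.idealMulι (I ^ n) G).app (U.ι ''ᵁ V') (res _ hW' x₁) = _
      rw [app_res, hx₁, res_oneSec]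
    have hkey : ψ.app (U.ι ''ᵁ V') x' = res F (hW'.trans hW₁U) t := by
      have h1 := congr_arg (fun α => α.app V' x') hψ
      simp only [restrict_map_app, Scheme.Modules.Hom.comp_app] at h1
      refine h1.trans ?_
      show (φ.app V') ((Dual3.idealMulι (I ^ n) G).app (U.ι ''ᵁ V') x') = _
      rw [hx']
      have h2 : (Scheme.Modules.restrictUnitIso U.ι).hom.app V' (oneSec Y (U.ι ''ᵁ V')) =
          oneSec (U : Scheme.{u}) V' := by
        change (U.ι.appIso V').hom (1 : Γ(Y, U.ι ''ᵁ V')) = 1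
        exact map_one _
      show (φ.app V') (oneSec Y (U.ι ''ᵁ V')) = _
      show ((Scheme.Modules.restrictUnitIso U.ι).hom ≫ Groth.Agent.Lib.Helper28.SymPow.secOpen U t).app V'
        (oneSec Y (U.ι ''ᵁ V')) = _
      rw [Scheme.Modules.Hom.comp_app, ConcreteCategory.comp_apply, h2, app_oneSec,
        Groth.Agent.Lib.Helper28.SymPow.secOf_secOpen]
      exact res_res F _ _ t
    refine ⟨gm _ (U.ι ''ᵁ V') z hzW' x', ?_⟩
    rw [stalkHom_germ, hkey]
    exact gm_res F _ z hzW' t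

theorem epi_of_stalkHom_surjective {G F : Y.Modules} (p : G ⟶ F)
    (h : ∀ z : Y, Function.Surjective (stalkHom p z)) : Epi p := by
  apply epi_of_locally_in_range
  intro U x pt hpt
  obtain ⟨ν, hν⟩ := h pt (gm F U pt hpt x)
  obtain ⟨V₁, hptV₁, y₁, rfl⟩ := TopCat.Presheaf.exists_germ_eq G.presheaf ν
  rw [stalkHom_germ] at hν
  obtain ⟨W, hptW, iV, iU, hres⟩ := TopCat.Presheaf.germ_eq F.presheaf pt hptV₁ hpt _ _ hν
  refine ⟨W, iU.le, hptW, res G iV.le y₁, ?_⟩
  rw [app_res]
  exact hres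

attribute [local instance] Abelian.hasFiniteBiproducts

theorem stalk_biproduct_total' {J : Type u} [Fintype J] (f : J → Y.Modules) (x : Y)
    (z : (⨁ f).presheaf.stalk x) :
    z = ∑ k, stalkHom (biproduct.ι f k) x (stalkHom (biproduct.π f k) x z) := by
  classical
  have h := Groth.Agent.Lib.Helper6.DevPow.stalkHom_sum Finset.univ
    (fun k => biproduct.π f k ≫ biproduct.ι f k) x z
  have htot : ∑ k, biproduct.π f k ≫ biproduct.ι f k = 𝟙 (⨁ f) :=
    IsBilimit.total (biproduct.isBilimit f)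
  rw [htot, Groth.Agent.Lib.Helper6.DevSub.stalkHom_id] at h
  refine h.trans ?_
  exact Finset.sum_congr rfl fun k _ => Groth.Agent.Lib.Helper6.DevSub.stalkHom_comp _ _ _ _

/-- In the case of schemes, on a Noetherian integral scheme Y with affine diagonal (any two affine opens
meet in an affine open) every coherent module is a quotient of a torsion-free coherent module,
torsion-freeness meaning that each stalk is a torsion-free module over the local ring. (The
published statement is for Noetherian integral algebraic stacks with affine diagonal; this row is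
the case of schemes.) -/
theorem result (Y : Scheme.{u}) [IsNoetherian Y] [IsIntegral Y]
    (hd : ∀ V W : Y.Opens, IsAffineOpen V → IsAffineOpen W → IsAffineOpen (V ⊓ W))
    (F : Y.Modules) (hF : Coh.IsCoh F) :
    ∃ (F' : Y.Modules) (π : F' ⟶ F), Coh.IsCoh F' ∧
      (∀ y : Y, NoZeroSMulDivisors ↥(Y.presheaf.stalk y) ↥(F'.presheaf.stalk y)) ∧ Epi π := by
  classical
  haveI : F.IsQuasicoherent := hF.1
  haveI : SheafOfModules.IsFiniteType.{u} (R := Y.ringCatSheaf) F := hF.2
  -- affine neighbourhoods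
  have hU : ∀ y : Y, ∃ U : Y.Opens, IsAffineOpen U ∧ y ∈ U := fun y => by
    obtain ⟨_, ⟨U, hU, rfl⟩, hyU, -⟩ :=
      Y.isBasis_affineOpens.exists_subset_of_mem_open (Set.mem_univ y) isOpen_univ
    exact ⟨U, hU, hyU⟩
  choose U hUaff hyU using hU
  obtain ⟨t, ht⟩ := CompactSpace.elim_nhds_subcover (fun y => (U y : Set Y))
    (fun y => (U y).2.mem_nhds (hyU y))
  -- generators
  have hgen : ∀ y : Y, ∃ s : Finset Γ(F, U y), Submodule.span Γ(Y, U y) (s : Set Γ(F, U y)) = ⊤ := fun y => by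
    haveI := Groth.Agent.Lib.Helper28.FinType.finite_of_isAffineOpen F (hUaff y)
    exact (Module.Finite.fg_top (R := Γ(Y, U y)) (M := Γ(F, U y)))
  choose gens hgens using hgen
  let J := Σ y : {y // y ∈ t}, {g // g ∈ gens y.1}
  letI : Fintype J := Fintype.ofFinite J
  have hL := fun j : J => exists_extension_section F hF.1 (U j.1.1) j.2.1
  choose T ι ψ hmono hcoh hrange using hL
  refine ⟨⨁ T, biproduct.desc ψ, ?_, ?_, ?_⟩
  · let r := Nat.card J
    let e : Fin r ≃ J := (Finite.equivFin J).symm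
    have h1 : Coh.IsCoh (∐ (T ∘ e)) :=
      Groth.Agent.Lib.Helper6.DevPow.isCoh_sigma_fin r (T ∘ e) (fun k => hcoh (e k))
    exact Groth.Agent.Lib.Helper6.DevCore.isCoh_of_iso
      (Sigma.reindex e T ≪≫ (biproduct.isoCoproduct T).symm) h1
  · intro z
    have htf := Groth.Agent.Lib.Helper1.RefHullLib.isTorsionFree_structureModule (X := Y) z
    refine ⟨fun {c m} hcm => ?_⟩
    by_cases hc : c = 0
    · exact Or.inl hc
    right
    have hreg : IsRegular c := IsRegular.of_ne_zero hc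
    have hmk : ∀ k, stalkHom (biproduct.π T k) z m = 0 := by
      intro k
      haveI := hmono k
      apply stalkHom_injective_of_mono (ι k) z
      rw [map_zero]
      apply htf.isSMulRegular hreg
      show c • _ = c • 0
      rw [smul_zero, ← stalkHom_smul, ← stalkHom_smul, hcm, map_zero, map_zero]
    rw [stalk_biproduct_total' T z m]
    apply Finset.sum_eq_zero
    intro k _
    rw [hmk k, map_zero]
  · apply epi_of_stalkHom_surjective
    intro z μ
    have hz : z ∈ ⋃ y ∈ t, (U y : Set Y) := by rw [ht]; trivial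
    obtain ⟨y, hyt, hzy⟩ := Set.mem_iUnion₂.1 hz
    obtain ⟨s, m, hs, hsm⟩ := exists_germ_smul_eq F (hUaff y) (isLocOn_of_isQuasicoherent F (hUaff y)) z hzy μ
    let R := LinearMap.range (stalkLinearMap (biproduct.desc ψ) z)
    have hmR : ∀ m ∈ Submodule.span Γ(Y, U y) (gens y : Set Γ(F, U y)), gm F (U y) z hzy m ∈ R := by
      intro m hm
      induction hm using Submodule.span_induction with
      | mem g hg =>
        obtain ⟨ν, hν⟩ := hrange ⟨⟨y, hyt⟩, ⟨g, hg⟩⟩ z hzy
        refine ⟨stalkHom (biproduct.ι T ⟨⟨y, hyt⟩, ⟨g, hg⟩⟩) z ν, ?_⟩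
        show stalkHom (biproduct.desc ψ) z _ = _
        rw [← Groth.Agent.Lib.Helper6.DevSub.stalkHom_comp, biproduct.ι_desc]
        exact hν
      | zero => rw [gm_zero]; exact R.zero_mem
      | add a b _ _ ha hb =>
        have : gm F (U y) z hzy (a + b) = gm F (U y) z hzy a + gm F (U y) z hzy b := map_add _ _ _
        rw [this]
        exact R.add_mem ha hb
      | smul c a _ ha =>
        rw [gm_smul]
        exact R.smul_mem _ ha
    have hm : gm F (U y) z hzy m ∈ R := hmR m (by rw [hgens y]; trivial)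
    rw [← hsm] at hm
    obtain ⟨u, hu⟩ := hs
    rw [← hu] at hm
    have h2 := R.smul_mem (↑u⁻¹ : Y.presheaf.stalk z) hm
    rw [smul_smul, Units.inv_mul, one_smul] at h2
    obtain ⟨ν, hν⟩ := h2
    exact ⟨ν, hν⟩

end Groth.Agent.S14989
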