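import Groth.Statements.S14995
import Groth.Agent.S12226

set_option autoImplicit false
universe u
open CategoryTheory CategoryTheory.Limits AlgebraicGeometry
open Coherent

namespace Groth.Agent.S14995

/-- Let Y be a locally Noetherian scheme, E and F coherent O_Y-modules and U an open subset of Y such
that for every point y of Y outside U the stalk E_y has depth at least 2 as a module over the local
ring O_{Y,y}. Then restricting morphisms to U is a bijection from Hom(F, E) onto Hom(F|_U, E|_U).
(The published statement is the case F = E; this row allows any coherent F.) -/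
theorem result (Y : Scheme.{u}) [IsLocallyNoetherian Y]
    (E F : Y.Modules) (hE : Coh.IsCoh E) (hF : Coh.IsCoh F) (U : Y.Opens)
    (hdepth : ∀ y : Y, y ∉ U → (2 : ℕ∞) ≤ LocCoh.depth (Y.presheaf.stalk y) (E.presheaf.stalk y)) :
    Function.Bijective (fun φ : F ⟶ E => (Scheme.Modules.restrictFunctor U.ι).map φ) := by
  haveI : E.IsQuasicoherent := hE.1
  haveI : SheafOfModules.IsFiniteType.{u} (R := Y.ringCatSheaf) E := hE.2
  let adj := Scheme.Modules.restrictAdjunction U.ι
  haveI hunit : IsIso (adj.unit.app E) :=
    Groth.Agent.S12226.isIso_unit_of_bijective U E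
      (Groth.Agent.Lib.Helper7.ModHartogs.bijective_res_of_depth E U hdepth)
  have hnat : ∀ φ : F ⟶ E, φ ≫ adj.unit.app E =
      adj.unit.app F ≫ (Scheme.Modules.pushforward U.ι).map
        ((Scheme.Modules.restrictFunctor U.ι).map φ) := by
    intro φ
    have hnat := adj.unit.naturality φ
    simp only [Functor.id_obj, Functor.id_map, Functor.comp_obj, Functor.comp_map] at hnat
    exact hnat
  constructor
  · intro φ₁ φ₂ h12
    have h12' : (Scheme.Modules.restrictFunctor U.ι).map φ₁ =
        (Scheme.Modules.restrictFunctor U.ι).map φ₂ := h12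
    have : φ₁ ≫ adj.unit.app E = φ₂ ≫ adj.unit.app E := by
      rw [hnat, hnat, h12']
    exact (cancel_mono (adj.unit.app E)).1 this
  · intro ψ
    refine ⟨adj.unit.app F ≫ (Scheme.Modules.pushforward U.ι).map ψ ≫ inv (adj.unit.app E), ?_⟩
    show (Scheme.Modules.restrictFunctor U.ι).map _ = ψ
    apply (adj.homEquiv _ _).injective
    rw [Adjunction.homEquiv_unit, Adjunction.homEquiv_unit, ← hnat, Category.assoc,
      Category.assoc, IsIso.inv_hom_id, Category.comp_id]

end Groth.Agent.S14995
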