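import Groth.Statements.S1500
import Groth.Agent.Lib.Helper28.IdealDual
import Groth.Agent.Lib.Helper28.AmpleFamily

set_option autoImplicit false
universe u
open FlatMor

open AlgebraicGeometry CategoryTheory CategoryTheory.Limits Groth.Agent.Lib.Helper28.GenLocus Groth.Agent.Lib.Helper28.HomMod Groth.Agent.Lib.Helper28.IdealDual Groth.Agent.Lib.Helper28.AmpleCompose Groth.Agent.Lib.Helper28.AmpleFamily

namespace Groth.Agent.S1500

open AlgebraicGeometry CategoryTheory Limits in
/-- Let D_1, …, D_m be effective Cartier divisors on X (ideal sheaves locally generated by a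
nonzerodivisor) with empty common support, and L_1, …, L_m invertible O_X-modules with L_i ample on
the open complement of D_i. Then X has an ample family of invertible modules. -/
theorem result {X : Scheme.{u}} {m : ℕ} (D : Fin m → X.IdealSheafData)
    (hD : ∀ i, BlowUp.IsEffCartierIdeal (D i)) (hcap : ⋂ i, ((D i).support : Set ↑X) = ∅)
    (L : Fin m → X.Modules) (hL : ∀ i, PicF.IsInvertible (L i)) (hamp : ∀ i, CohB1.IsAmple ((L i).restrict (Scheme.Opens.ι (D i).support.compl))) :
    MoreMor.HasAmpleFamily X := by
  classical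
  have hM : ∀ i, PicF.IsInvertible (dual (ClSub.idealMod (D i))) := fun i =>
    isInvertible_dual (isInvertible_idealMod (D i) (hD i))
  have hA : ∀ i, CohB1.IsAmple ((L i).restrict (CohB1.genLocus _ (tI (D i))).ι) := by
    intro i
    have key : ∀ W : X.Opens, W = (D i).support.compl → CohB1.IsAmple ((L i).restrict W.ι) := by
      rintro W rfl
      exact hamp i
    exact key _ (genLocus_tI (D i) (hD i))
  have hcov : ∀ x : X, ∃ i, x ∈ CohB1.genLocus _ (tI (D i)) := by
    intro x
    by_contra hcon
    push Not at hcon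
    have hx : x ∈ ⋂ i, ((D i).support : Set ↑X) := by
      refine Set.mem_iInter.2 fun i => ?_
      have h1 := hcon i
      rw [genLocus_tI (D i) (hD i)] at h1
      by_contra h2
      exact h1 h2
    rw [hcap] at hx
    exact hx
  have hcomp : CompactSpace X := by
    rw [← isCompact_univ_iff]
    have hU : (Set.univ : Set X) = ⋃ i, ((CohB1.genLocus _ (tI (D i)) : X.Opens) : Set X) := by
      ext x
      simp only [Set.mem_univ, Set.mem_iUnion, true_iff]
      exact hcov x
    rw [hU]
    refine isCompact_iUnion fun i => ?_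
    have : CompactSpace ↥(CohB1.genLocus _ (tI (D i))) := (hA i).2.1
    exact isCompact_iff_compactSpace.2 this
  have hqs : QuasiSeparatedSpace X := by
    refine quasiSeparatedSpace_of_cover (fun i => CohB1.genLocus _ (tI (D i))) hcov ?_ ?_
    · intro i R
      have h1 := isAffineOpen_genLocus_inf (hM i) (tI (D i)) R.2
      rw [inf_comm] at h1
      exact h1.isCompact
    · intro i
      have : (↑(CohB1.genLocus _ (tI (D i))) : Scheme.{u}).IsSeparated := isSeparated_of_isAmple (hA i)
      infer_instance
  refine ⟨hcomp, fun x => ?_⟩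
  obtain ⟨i, hxi⟩ := hcov x
  obtain ⟨n, k₀, V, hxV, hVaff, hτ⟩ := exists_sections_of_ample_locus (hL i) (hM i) (tI (D i)) (hA i) x hxi
  obtain ⟨τ, hτV⟩ := hτ k₀ le_rfl
  obtain ⟨τ', hτ'⟩ := exists_tensorPow_one_section τ
  refine ⟨_, 1, τ', ?_, le_rfl, ?_, ?_⟩
  · exact isInvertible_tensorMod (isInvertible_tensorMod (isInvertible_tensorPow (hL i) (n + 1))
      (isInvertible_tensorPow (hM i) k₀)) (hM i)
  · rw [hτ', hτV]
    exact hxV
  · rw [hτ', hτV]
    exact hVaff

end Groth.Agent.S1500
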