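import Groth.Statements.S15004
import Mathlib
-- import your own Groth.Agent.* helpers here

set_option autoImplicit false
universe u v
open Harb

namespace Groth.Agent.S15004

/-- Let C be a finite family of d curves, recorded as an incidence relation between a type of points and
a finite index type, such that any two distinct curves of the family meet in exactly h points; for a
point p write r_p for the number of curves of the family through p. Then for every curve C_i of the
family, Σ_{p ∈ C_i} (r_p − 1) = h (d − 1), the sum being finitely supported. (The published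
statement is for a transversal arrangement of curves on a geometrically ruled surface with invariant
e, all numerically equivalent to a C₀ + b f, where any two of the curves meet transversally in h =
2ab − a²e points; only this common pairwise intersection count enters the proof, and this row states
the identity for an abstract incidence relation.) -/
theorem result (P : Type u) (ι : Type v) [Fintype ι]
    (inc : P → ι → Prop) (h : ℕ)
    (hfin : ∀ i j : ι, i ≠ j → {p : P | inc p i ∧ inc p j}.Finite)
    (hcount : ∀ i j : ι, i ≠ j → {p : P | inc p i ∧ inc p j}.ncard = h) (i : ι) :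
    ∑ᶠ p ∈ {p : P | inc p i}, (Nat.card {j : ι // inc p j} - 1) = h * (Fintype.card ι - 1) := by
  classical
  -- pairwise intersections as finsets
  let S : ι → Finset P := fun j => if hj : i ≠ j then (hfin i j hj).toFinset else ∅
  have hS_mem : ∀ j, i ≠ j → ∀ p, p ∈ S j ↔ inc p i ∧ inc p j := by
    intro j hj p
    simp only [S, dif_pos hj, Set.Finite.mem_toFinset, Set.mem_setOf_eq]
  have hS_card : ∀ j, i ≠ j → (S j).card = h := by
    intro j hj
    rw [← hcount i j hj, Set.ncard_eq_toFinset_card _ (hfin i j hj)]
    simp only [S, dif_pos hj]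
  let T : Finset P := (Finset.univ.erase i).biUnion S
  have hT_mem : ∀ p, p ∈ T ↔ inc p i ∧ ∃ j, j ≠ i ∧ inc p j := by
    intro p
    simp only [T, Finset.mem_biUnion, Finset.mem_erase, Finset.mem_univ, and_true]
    constructor
    · rintro ⟨j, hj, hp⟩
      have := (hS_mem j (Ne.symm hj) p).mp hp
      exact ⟨this.1, j, hj, this.2⟩
    · rintro ⟨hi, j, hj, hp⟩
      exact ⟨j, hj, (hS_mem j (Ne.symm hj) p).mpr ⟨hi, hp⟩⟩
  -- r_p - 1 as a count over j ≠ i
  have hr : ∀ p, inc p i → Nat.card {j : ι // inc p j} - 1 =
      ((Finset.univ.erase i).filter (fun j => inc p j)).card := by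
    intro p hp
    rw [Nat.card_eq_fintype_card, Fintype.card_subtype]
    have : (Finset.univ.filter (fun j => inc p j)) =
        insert i ((Finset.univ.erase i).filter (fun j => inc p j)) := by
      ext j
      simp only [Finset.mem_filter, Finset.mem_univ, true_and, Finset.mem_insert, Finset.mem_erase,
        ne_eq, and_true]
      constructor
      · intro hj
        by_cases hji : j = i
        · exact Or.inl hji
        · exact Or.inr ⟨hji, hj⟩
      · rintro (rfl | ⟨_, hj⟩)
        · exact hp
        · exact hj
    rw [this, Finset.card_insert_of_notMem (by simp)]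
    simp
  rw [finsum_mem_eq_sum_of_inter_support_eq (t := T)]
  · have h1 : ∀ p ∈ T, Nat.card {j : ι // inc p j} - 1 =
        ∑ j ∈ Finset.univ.erase i, if inc p j then 1 else 0 := by
      intro p hp
      rw [hr p ((hT_mem p).mp hp).1, Finset.card_filter]
    rw [Finset.sum_congr rfl h1, Finset.sum_comm]
    have h2 : ∀ j ∈ Finset.univ.erase i, (∑ p ∈ T, if inc p j then 1 else 0) = h := by
      intro j hj
      have hji : j ≠ i := (Finset.mem_erase.mp hj).1
      rw [← Finset.card_filter, ← hS_card j (Ne.symm hji)]
      congr 1
      ext p
      rw [Finset.mem_filter, hT_mem, hS_mem j (Ne.symm hji)]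
      constructor
      · rintro ⟨⟨hi, _⟩, hj'⟩; exact ⟨hi, hj'⟩
      · rintro ⟨hi, hj'⟩; exact ⟨⟨hi, j, hji, hj'⟩, hj'⟩
    rw [Finset.sum_congr rfl h2, Finset.sum_const, Finset.card_erase_of_mem (Finset.mem_univ i),
      Finset.card_univ, smul_eq_mul, mul_comm]
  · ext p
    simp only [Set.mem_inter_iff, Set.mem_setOf_eq, Function.mem_support, Finset.mem_coe]
    constructor
    · rintro ⟨hi, hne⟩
      refine ⟨(hT_mem p).mpr ⟨hi, ?_⟩, hne⟩
      rw [hr p hi] at hne
      obtain ⟨j, hj⟩ := Finset.card_pos.mp (Nat.pos_of_ne_zero hne)
      simp only [Finset.mem_filter, Finset.mem_erase, Finset.mem_univ, and_true] at hj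
      exact ⟨j, hj.1, hj.2⟩
    · rintro ⟨hT, hne⟩
      exact ⟨((hT_mem p).mp hT).1, hne⟩

end Groth.Agent.S15004
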