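import Groth.Statements.S15005
import Mathlib
-- import your own Groth.Agent.* helpers here

set_option autoImplicit false
universe u v
open Harb

namespace Groth.Agent.S15005

/-- Let C be a finite family of d curves, recorded as an incidence relation between a type of points and
a finite index type, such that any two distinct curves of the family meet in exactly h points; let
t_k be the number of k-fold points (points lying on exactly k curves of the family). Then f₂ − f₁ =
Σ_{k ≥ 2} k(k − 1) t_k equals h d(d − 1), where f_i = Σ_{k ≥ 2} k^i t_k. (The published statement is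
for a transversal arrangement of curves on a geometrically ruled surface with invariant e, all
numerically equivalent to a C₀ + b f, where any two of the curves meet transversally in h = 2ab −
a²e points; only this common pairwise intersection count enters the proof, and this row states the
identity for an abstract incidence relation.) -/
theorem result (P : Type u) (ι : Type v) [Fintype ι]
    (inc : P → ι → Prop) (h : ℕ)
    (hfin : ∀ i j : ι, i ≠ j → {p : P | inc p i ∧ inc p j}.Finite)
    (hcount : ∀ i j : ι, i ≠ j → {p : P | inc p i ∧ inc p j}.ncard = h) :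
    ∑ k ∈ Finset.Icc 2 (Fintype.card ι), k * (k - 1) * Nat.card {p : P // Nat.card {j : ι // inc p j} = k} =
      h * (Fintype.card ι * (Fintype.card ι - 1)) := by
  classical
  let S : ι × ι → Finset P := fun ij => if hj : ij.1 ≠ ij.2 then (hfin ij.1 ij.2 hj).toFinset else ∅
  have hS_mem : ∀ ij : ι × ι, ij.1 ≠ ij.2 → ∀ p, p ∈ S ij ↔ inc p ij.1 ∧ inc p ij.2 := by
    intro ij hj p
    simp only [S, dif_pos hj, Set.Finite.mem_toFinset, Set.mem_setOf_eq]
  have hS_card : ∀ ij : ι × ι, ij.1 ≠ ij.2 → (S ij).card = h := by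
    intro ij hj
    rw [← hcount ij.1 ij.2 hj, Set.ncard_eq_toFinset_card _ (hfin ij.1 ij.2 hj)]
    simp only [S, dif_pos hj]
  let T : Finset P := (Finset.univ : Finset ι).offDiag.biUnion S
  have hT_mem : ∀ p, p ∈ T ↔ ∃ i j, i ≠ j ∧ inc p i ∧ inc p j := by
    intro p
    simp only [T, Finset.mem_biUnion, Finset.mem_offDiag, Finset.mem_univ, true_and, Prod.exists]
    constructor
    · rintro ⟨i, j, hij, hp⟩
      exact ⟨i, j, hij, (hS_mem (i, j) hij p).mp hp⟩
    · rintro ⟨i, j, hij, hp⟩
      exact ⟨i, j, hij, (hS_mem (i, j) hij p).mpr hp⟩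
  let r : P → ℕ := fun p => Nat.card {j : ι // inc p j}
  have hr_eq : ∀ p, r p = (Finset.univ.filter (fun j => inc p j)).card := by
    intro p
    simp only [r]
    rw [Nat.card_eq_fintype_card, Fintype.card_subtype]
  have hr_le : ∀ p, r p ≤ Fintype.card ι := by
    intro p; rw [hr_eq]; exact Finset.card_le_univ _
  have hT_r : ∀ p, p ∈ T ↔ 2 ≤ r p := by
    intro p
    rw [hT_mem, hr_eq, ← Nat.succ_le_iff.symm, Finset.one_lt_card]
    simp only [Finset.mem_filter, Finset.mem_univ, true_and]
    constructor
    · rintro ⟨i, j, hij, hi, hj⟩; exact ⟨i, hi, j, hj, hij⟩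
    · rintro ⟨i, hi, j, hj, hij⟩; exact ⟨i, j, hij, hi, hj⟩
  -- t_k as finset card
  have ht : ∀ k ∈ Finset.Icc 2 (Fintype.card ι),
      Nat.card {p : P // Nat.card {j : ι // inc p j} = k} = (T.filter (fun p => r p = k)).card := by
    intro k hk
    have hk2 : 2 ≤ k := (Finset.mem_Icc.mp hk).1
    have : {p : P | Nat.card {j : ι // inc p j} = k} = ↑(T.filter (fun p => r p = k)) := by
      ext p
      simp only [Set.mem_setOf_eq, Finset.coe_filter, hT_r]
      constructor
      · intro hp; exact ⟨by simp only [r]; omega, hp⟩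
      · rintro ⟨_, hp⟩; exact hp
    have e := Nat.card_coe_set_eq {p : P | Nat.card {j : ι // inc p j} = k}
    rw [this, Set.ncard_coe_finset] at e
    rw [← e, ← this]
    rfl
  rw [Finset.sum_congr rfl (fun k hk => by rw [ht k hk])]
  have h1 : ∀ k ∈ Finset.Icc 2 (Fintype.card ι),
      k * (k - 1) * (T.filter (fun p => r p = k)).card =
      ∑ p ∈ T with r p = k, r p * (r p - 1) := by
    intro k _
    rw [Finset.sum_congr rfl (fun p hp => by rw [(Finset.mem_filter.mp hp).2]), Finset.sum_const,
      smul_eq_mul, mul_comm]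
  rw [Finset.sum_congr rfl h1, Finset.sum_fiberwise_of_maps_to]
  · -- Σ_{p∈T} r_p (r_p - 1)
    have h2 : ∀ p ∈ T, r p * (r p - 1) =
        ∑ ij ∈ (Finset.univ : Finset ι).offDiag, if inc p ij.1 ∧ inc p ij.2 then 1 else 0 := by
      intro p _
      rw [← Finset.card_filter, hr_eq, Nat.mul_sub_one, ← Finset.offDiag_card]
      congr 1
      ext ⟨i, j⟩
      simp only [Finset.mem_offDiag, Finset.mem_filter, Finset.mem_univ, true_and]
      tauto
    rw [Finset.sum_congr rfl h2, Finset.sum_comm]
    have h3 : ∀ ij ∈ (Finset.univ : Finset ι).offDiag,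
        (∑ p ∈ T, if inc p ij.1 ∧ inc p ij.2 then 1 else 0) = h := by
      intro ij hij
      have hne : ij.1 ≠ ij.2 := (Finset.mem_offDiag.mp hij).2.2
      rw [← Finset.card_filter, ← hS_card ij hne]
      congr 1
      ext p
      rw [Finset.mem_filter, hT_mem, hS_mem ij hne]
      constructor
      · rintro ⟨_, hp⟩; exact hp
      · rintro hp; exact ⟨⟨ij.1, ij.2, hne, hp⟩, hp⟩
    rw [Finset.sum_congr rfl h3, Finset.sum_const, Finset.offDiag_card, Finset.card_univ,
      smul_eq_mul, mul_comm, Nat.mul_sub_one]
  · intro p hp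
    rw [Finset.mem_Icc]
    exact ⟨(hT_r p).mp hp, hr_le p⟩

end Groth.Agent.S15005
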