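import Groth.Statements.S15006
import Mathlib
-- import your own Groth.Agent.* helpers here

set_option autoImplicit false
universe u v
open Harb

namespace Groth.Agent.S15006

/-- Let C be a finite family of d ≥ 2 curves, recorded as an incidence relation between a type of points
and a finite index type, such that any two distinct curves of the family meet in exactly h ≥ 1
points and no point lies on every curve of the family. Then f₀ ≥ d: the number of multiple points
(points lying on at least two of the curves) is at least the number of curves. (The published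
statement is for a transversal arrangement of d ≥ 4 curves on a geometrically ruled surface with
invariant e ≥ 4, all numerically equivalent to a C₀ + b f with a ≥ 1 and b ≥ ae and with no point
common to all of them, satisfying in addition either a ≥ 2, or a = 1 with some four of the curves
having no point in common, where any two of the curves meet transversally in h = 2ab − a²e ≥ 1
points; only d ≥ 2, h ≥ 1 and the absence of a common point enter the proof, and this row states the
bound for an abstract incidence relation.) -/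
theorem result (P : Type u) (ι : Type v) [Fintype ι]
    (inc : P → ι → Prop) (h : ℕ) (hh : 0 < h) (hd : 2 ≤ Fintype.card ι)
    (hfin : ∀ i j : ι, i ≠ j → {p : P | inc p i ∧ inc p j}.Finite)
    (hcount : ∀ i j : ι, i ≠ j → {p : P | inc p i ∧ inc p j}.ncard = h)
    (hnone : ∀ p : P, ∃ i : ι, ¬ inc p i) :
    Fintype.card ι ≤ Nat.card {p : P // 2 ≤ Nat.card {j : ι // inc p j}} := by
  classical
  let S : ι × ι → Finset P := fun ij => if hj : ij.1 ≠ ij.2 then (hfin ij.1 ij.2 hj).toFinset else ∅
  have hS_mem : ∀ ij : ι × ι, ij.1 ≠ ij.2 → ∀ p, p ∈ S ij ↔ inc p ij.1 ∧ inc p ij.2 := by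
    intro ij hj p
    simp only [S, dif_pos hj, Set.Finite.mem_toFinset, Set.mem_setOf_eq]
  have hS_card : ∀ ij : ι × ι, ij.1 ≠ ij.2 → (S ij).card = h := by
    intro ij hj
    rw [← hcount ij.1 ij.2 hj, Set.ncard_eq_toFinset_card _ (hfin ij.1 ij.2 hj)]
    simp only [S, dif_pos hj]
  let T : Finset P := (Finset.univ : Finset ι).offDiag.biUnion S
  have hT_mem : ∀ p, p ∈ T ↔ ∃ i j, i ≠ j ∧ inc p i ∧ inc p j := by
    intro p
    simp only [T, Finset.mem_biUnion, Finset.mem_offDiag, Finset.mem_univ, true_and, Prod.exists]
    constructor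
    · rintro ⟨i, j, hij, hp⟩
      exact ⟨i, j, hij, (hS_mem (i, j) hij p).mp hp⟩
    · rintro ⟨i, j, hij, hp⟩
      exact ⟨i, j, hij, (hS_mem (i, j) hij p).mpr hp⟩
  let r : P → ℕ := fun p => Nat.card {j : ι // inc p j}
  have hr_eq : ∀ p, r p = (Finset.univ.filter (fun j => inc p j)).card := by
    intro p
    simp only [r]
    rw [Nat.card_eq_fintype_card, Fintype.card_subtype]
  have hT_r : ∀ p, p ∈ T ↔ 2 ≤ r p := by
    intro p
    rw [hT_mem, hr_eq, ← Nat.succ_le_iff.symm, Finset.one_lt_card]
    simp only [Finset.mem_filter, Finset.mem_univ, true_and]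
    constructor
    · rintro ⟨i, j, hij, hi, hj⟩; exact ⟨i, hi, j, hj, hij⟩
    · rintro ⟨i, hi, j, hj, hij⟩; exact ⟨i, j, hij, hi, hj⟩
  have hMult : {p : P | 2 ≤ Nat.card {j : ι // inc p j}} = ↑T := by
    ext p
    simp only [Set.mem_setOf_eq, Finset.mem_coe, hT_r]
    rfl
  have hcardT : Nat.card {p : P // 2 ≤ Nat.card {j : ι // inc p j}} = T.card := by
    have e := Nat.card_coe_set_eq {p : P | 2 ≤ Nat.card {j : ι // inc p j}}
    rw [hMult, Set.ncard_coe_finset] at e
    rw [← e, ← hMult]
    rfl
  rw [hcardT]
  -- the sets A_i and their sizes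
  let a : ι → ℕ := fun i => (T.filter (fun p => inc p i)).card
  have hS_sub : ∀ i j, i ≠ j → S (i, j) ⊆ T.filter (fun p => inc p i) := by
    intro i j hij p hp
    have := (hS_mem (i, j) hij p).mp hp
    exact Finset.mem_filter.mpr ⟨(hT_mem p).mpr ⟨i, j, hij, this⟩, this.1⟩
  have ha : ∀ i, h < a i := by
    intro i
    by_contra hle
    push Not at hle
    obtain ⟨j, hji⟩ := Fintype.exists_ne_of_one_lt_card (by omega : 1 < Fintype.card ι) i
    have hij : i ≠ j := hji.symm
    have heq : ∀ k, i ≠ k → S (i, k) = T.filter (fun p => inc p i) := fun k hik =>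
      Finset.eq_of_subset_of_card_le (hS_sub i k hik) (by rw [hS_card (i, k) hik]; exact hle)
    have hne : (S (i, j)).Nonempty := by
      rw [← Finset.card_pos, hS_card (i, j) hij]; exact hh
    obtain ⟨p, hp⟩ := hne
    obtain ⟨k, hk⟩ := hnone p
    have hpi : inc p i := ((hS_mem (i, j) hij p).mp hp).1
    have hik : i ≠ k := fun e => hk (e ▸ hpi)
    have : p ∈ S (i, k) := by rw [heq k hik, ← heq j hij]; exact hp
    exact hk ((hS_mem (i, k) hik p).mp this).2
  -- incidence vectors
  let v : ι → (T → ℝ) := fun i p => if inc p.1 i then 1 else 0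
  have hG : ∀ i j, ∑ p : T, v i p * v j p = if i = j then (a j : ℝ) else (h : ℝ) := by
    intro i j
    have e1 : ∀ p : T, v i p * v j p = if (inc p.1 i ∧ inc p.1 j) then (1 : ℝ) else 0 := by
      intro p
      simp only [v]
      by_cases h1 : inc p.1 i <;> by_cases h2 : inc p.1 j <;> simp [h1, h2]
    rw [Finset.sum_congr rfl (fun p _ => e1 p),
      Finset.sum_coe_sort T (fun p => if (inc p i ∧ inc p j) then (1 : ℝ) else 0), Finset.sum_boole]
    split_ifs with hij
    · subst hij
      simp only [and_self, a]
    · rw [← hS_card (i, j) hij]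
      congr 2
      ext p
      rw [Finset.mem_filter, hS_mem (i, j) hij, hT_mem]
      constructor
      · rintro ⟨_, hp⟩; exact hp
      · intro hp; exact ⟨⟨i, j, hij, hp⟩, hp⟩
  have hli : LinearIndependent ℝ v := by
    rw [Fintype.linearIndependent_iff]
    intro g hg
    set s := ∑ i, g i with hs
    have hj : ∀ j, g j * ((a j : ℝ) - h) + h * s = 0 := by
      intro j
      have h0 : ∑ p : T, (∑ i, g i • v i) p * v j p = 0 := by
        rw [hg]; simp
      have h1 : ∑ p : T, (∑ i, g i • v i) p * v j p = ∑ i, g i * (∑ p : T, v i p * v j p) := by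
        simp only [Finset.sum_apply, Pi.smul_apply, smul_eq_mul, Finset.sum_mul, Finset.mul_sum]
        rw [Finset.sum_comm]
        apply Finset.sum_congr rfl; intro i _
        apply Finset.sum_congr rfl; intro p _
        ring
      rw [h1] at h0
      simp only [hG] at h0
      rw [← Finset.add_sum_erase _ _ (Finset.mem_univ j), if_pos rfl] at h0
      have h2 : ∑ i ∈ Finset.univ.erase j, g i * (if i = j then (a j : ℝ) else (h : ℝ)) =
          (s - g j) * h := by
        rw [Finset.sum_congr rfl (fun i hi => by rw [if_neg (Finset.mem_erase.mp hi).1]),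
          ← Finset.sum_mul, hs, ← Finset.add_sum_erase _ _ (Finset.mem_univ j)]
        ring
      rw [h2] at h0
      linear_combination h0
    have hapos : ∀ j, (0 : ℝ) < (a j : ℝ) - h := by
      intro j
      have : (h : ℝ) < a j := by exact_mod_cast ha j
      linarith
    have hgj : ∀ j, g j = - (h * s) / ((a j : ℝ) - h) := by
      intro j
      rw [eq_div_iff (hapos j).ne']
      linear_combination hj j
    have hs0 : s = 0 := by
      have h3 : s = - (h * s) * ∑ j, 1 / ((a j : ℝ) - h) := by
        conv_lhs => rw [hs]
        rw [Finset.mul_sum]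
        apply Finset.sum_congr rfl
        intro j _
        rw [hgj j]; ring
      have hpos : 0 ≤ ∑ j, 1 / ((a j : ℝ) - h) :=
        Finset.sum_nonneg (fun j _ => by have := hapos j; positivity)
      have h4 : s * (1 + h * ∑ j, 1 / ((a j : ℝ) - h)) = 0 := by linear_combination h3
      have h5 : (0 : ℝ) < 1 + h * ∑ j, 1 / ((a j : ℝ) - h) := by positivity
      exact (mul_eq_zero.mp h4).resolve_right h5.ne'
    intro j
    rw [hgj j, hs0]; simp
  have := hli.fintype_card_le_finrank
  rw [Module.finrank_fintype_fun_eq_card, Fintype.card_coe] at this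
  exact this

end Groth.Agent.S15006
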