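import Groth.Statements.S15007
import Mathlib
-- import your own Groth.Agent.* helpers here

set_option autoImplicit false
universe u v
open Harb

namespace Groth.Agent.S15007

/-- Let C be a finite family of d ≥ 2 curves, recorded as an incidence relation between a type of points
and a finite index type, such that any two distinct curves of the family meet in exactly h ≥ 1
points and no point lies on every curve of the family. Then f₀ ≥ h + 2: the number of multiple
points (points lying on at least two of the curves) is at least h + 2. (The published claim reads f₀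
≥ 2ab − a²e + 2 for a transversal arrangement of d ≥ 4 curves on a geometrically ruled surface with
invariant e ≥ 4, all numerically equivalent to a C₀ + b f with a ≥ 1 and b ≥ ae and with no point
common to all of them, satisfying in addition either a ≥ 2, or a = 1 with some four of the curves
having no point in common, where any two of the curves meet transversally in h = 2ab − a²e ≥ 1
points; only d ≥ 2, h ≥ 1 and the absence of a common point enter the proof, and this row states the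
bound for an abstract incidence relation.) -/
theorem result (P : Type u) (ι : Type v) [Fintype ι]
    (inc : P → ι → Prop) (h : ℕ) (hh : 0 < h) (hd : 2 ≤ Fintype.card ι)
    (hfin : ∀ i j : ι, i ≠ j → {p : P | inc p i ∧ inc p j}.Finite)
    (hcount : ∀ i j : ι, i ≠ j → {p : P | inc p i ∧ inc p j}.ncard = h)
    (hnone : ∀ p : P, ∃ i : ι, ¬ inc p i) :
    h + 2 ≤ Nat.card {p : P // 2 ≤ Nat.card {j : ι // inc p j}} := by
  classical
  let S : ι × ι → Finset P := fun ij => if hj : ij.1 ≠ ij.2 then (hfin ij.1 ij.2 hj).toFinset else ∅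
  have hS_mem : ∀ ij : ι × ι, ij.1 ≠ ij.2 → ∀ p, p ∈ S ij ↔ inc p ij.1 ∧ inc p ij.2 := by
    intro ij hj p
    simp only [S, dif_pos hj, Set.Finite.mem_toFinset, Set.mem_setOf_eq]
  have hS_card : ∀ ij : ι × ι, ij.1 ≠ ij.2 → (S ij).card = h := by
    intro ij hj
    rw [← hcount ij.1 ij.2 hj, Set.ncard_eq_toFinset_card _ (hfin ij.1 ij.2 hj)]
    simp only [S, dif_pos hj]
  let T : Finset P := (Finset.univ : Finset ι).offDiag.biUnion S
  have hT_mem : ∀ p, p ∈ T ↔ ∃ i j, i ≠ j ∧ inc p i ∧ inc p j := by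
    intro p
    simp only [T, Finset.mem_biUnion, Finset.mem_offDiag, Finset.mem_univ, true_and, Prod.exists]
    constructor
    · rintro ⟨i, j, hij, hp⟩
      exact ⟨i, j, hij, (hS_mem (i, j) hij p).mp hp⟩
    · rintro ⟨i, j, hij, hp⟩
      exact ⟨i, j, hij, (hS_mem (i, j) hij p).mpr hp⟩
  let r : P → ℕ := fun p => Nat.card {j : ι // inc p j}
  have hr_eq : ∀ p, r p = (Finset.univ.filter (fun j => inc p j)).card := by
    intro p
    simp only [r]
    rw [Nat.card_eq_fintype_card, Fintype.card_subtype]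
  have hT_r : ∀ p, p ∈ T ↔ 2 ≤ r p := by
    intro p
    rw [hT_mem, hr_eq, ← Nat.succ_le_iff.symm, Finset.one_lt_card]
    simp only [Finset.mem_filter, Finset.mem_univ, true_and]
    constructor
    · rintro ⟨i, j, hij, hi, hj⟩; exact ⟨i, hi, j, hj, hij⟩
    · rintro ⟨i, hi, j, hj, hij⟩; exact ⟨i, j, hij, hi, hj⟩
  have hMult : {p : P | 2 ≤ Nat.card {j : ι // inc p j}} = ↑T := by
    ext p
    simp only [Set.mem_setOf_eq, Finset.mem_coe, hT_r]
    rfl
  have hcardT : Nat.card {p : P // 2 ≤ Nat.card {j : ι // inc p j}} = T.card := by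
    have e := Nat.card_coe_set_eq {p : P | 2 ≤ Nat.card {j : ι // inc p j}}
    rw [hMult, Set.ncard_coe_finset] at e
    rw [← e, ← hMult]
    rfl
  rw [hcardT]
  obtain ⟨i₁, i₂, h12⟩ := Fintype.one_lt_card_iff.mp (by omega : 1 < Fintype.card ι)
  have hS12 : (S (i₁, i₂)).Nonempty := by
    rw [← Finset.card_pos, hS_card (i₁, i₂) h12]; exact hh
  obtain ⟨p, hp⟩ := hS12
  have hp' := (hS_mem (i₁, i₂) h12 p).mp hp
  obtain ⟨i₃, h3⟩ := hnone p
  have h31 : i₃ ≠ i₁ := fun e => h3 (e ▸ hp'.1)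
  have h32 : i₃ ≠ i₂ := fun e => h3 (e ▸ hp'.2)
  -- q₁
  have hq₁ : ∃ q, q ∈ S (i₃, i₁) ∧ q ∉ S (i₁, i₂) := by
    by_contra hcon
    push Not at hcon
    have hsub : S (i₃, i₁) ⊆ S (i₁, i₂) := hcon
    have heq := Finset.eq_of_subset_of_card_le hsub
      (by rw [hS_card (i₃, i₁) h31, hS_card (i₁, i₂) h12])
    have : p ∈ S (i₃, i₁) := heq ▸ hp
    exact h3 ((hS_mem (i₃, i₁) h31 p).mp this).1
  have hq₂ : ∃ q, q ∈ S (i₃, i₂) ∧ q ∉ S (i₁, i₂) := by
    by_contra hcon
    push Not at hcon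
    have hsub : S (i₃, i₂) ⊆ S (i₁, i₂) := hcon
    have heq := Finset.eq_of_subset_of_card_le hsub
      (by rw [hS_card (i₃, i₂) h32, hS_card (i₁, i₂) h12])
    have : p ∈ S (i₃, i₂) := heq ▸ hp
    exact h3 ((hS_mem (i₃, i₂) h32 p).mp this).1
  obtain ⟨q₁, hq₁m, hq₁n⟩ := hq₁
  obtain ⟨q₂, hq₂m, hq₂n⟩ := hq₂
  have hq₁' := (hS_mem (i₃, i₁) h31 q₁).mp hq₁m
  have hq₂' := (hS_mem (i₃, i₂) h32 q₂).mp hq₂m
  have hq₁2 : ¬ inc q₁ i₂ := fun h2 => hq₁n ((hS_mem (i₁, i₂) h12 q₁).mpr ⟨hq₁'.2, h2⟩)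
  have hq₂1 : ¬ inc q₂ i₁ := fun h1 => hq₂n ((hS_mem (i₁, i₂) h12 q₂).mpr ⟨h1, hq₂'.2⟩)
  have hne : q₁ ≠ q₂ := fun e => hq₂1 (e ▸ hq₁'.2)
  have hsubT : insert q₁ (insert q₂ (S (i₁, i₂))) ⊆ T := by
    intro x hx
    rw [Finset.mem_insert, Finset.mem_insert] at hx
    rw [hT_mem]
    rcases hx with rfl | rfl | hx
    · exact ⟨i₃, i₁, h31, hq₁'⟩
    · exact ⟨i₃, i₂, h32, hq₂'⟩
    · exact ⟨i₁, i₂, h12, (hS_mem (i₁, i₂) h12 x).mp hx⟩
  have hcard : (insert q₁ (insert q₂ (S (i₁, i₂)))).card = h + 2 := by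
    rw [Finset.card_insert_of_notMem, Finset.card_insert_of_notMem hq₂n, hS_card (i₁, i₂) h12]
    rw [Finset.mem_insert]
    rintro (e | hx)
    · exact hne e
    · exact hq₁n hx
  rw [← hcard]
  exact Finset.card_le_card hsubT

end Groth.Agent.S15007
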