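import Groth.Statements.S15016
-- import your own Groth.Agent.* helpers here

set_option autoImplicit false
universe u
open TFCurv

namespace Groth.Agent.S15016


/-- successive approximation -/
lemma approx (k : Type u) [Field k] (A : Subalgebra k (PowerSeries k)) (Γ : Set ℕ)
    (hΓ : ∀ n : ℕ, n ∈ Γ ↔ ∃ f ∈ A, PowerSeries.order f = n) (c : ℕ)
    (hc : ∀ n : ℕ, c ≤ n → n ∈ Γ) (h : PowerSeries k) (hh : (c : ℕ∞) ≤ PowerSeries.order h)
    (n : ℕ) : ∃ g ∈ A, ((c + n : ℕ) : ℕ∞) ≤ PowerSeries.order (h - g) := by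
  induction n with
  | zero => exact ⟨0, A.zero_mem, by simpa using hh⟩
  | succ n ih =>
    obtain ⟨g, hgA, hg⟩ := ih
    obtain ⟨a, haA, ha⟩ := (hΓ (c + n)).mp (hc _ (Nat.le_add_right c n))
    have ha0 : a ≠ 0 := by
      rintro rfl
      rw [PowerSeries.order_zero] at ha
      exact ENat.top_ne_natCast _ ha
    have hca : PowerSeries.coeff (c + n) a ≠ 0 := by
      have := PowerSeries.coeff_order ha0
      rwa [ha, ENat.toNat_natCast] at this
    set d := h - g with hd
    set l : k := PowerSeries.coeff (c + n) d / PowerSeries.coeff (c + n) a with hl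
    refine ⟨g + l • a, A.add_mem hgA (A.smul_mem haA l), ?_⟩
    have e : h - (g + l • a) = d - l • a := by rw [hd]; ring
    rw [e]
    apply PowerSeries.nat_le_order
    intro i hi
    rw [map_sub, PowerSeries.coeff_smul]
    rcases Nat.lt_succ_iff_lt_or_eq.mp hi with hi' | rfl
    · rw [PowerSeries.coeff_of_lt_order i (lt_of_lt_of_le (by exact_mod_cast hi') hg),
        PowerSeries.coeff_of_lt_order i (by rw [ha]; exact_mod_cast hi')]
      simp
    · change PowerSeries.coeff (c + n) d - l • PowerSeries.coeff (c + n) a = 0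
      rw [hl, smul_eq_mul, div_mul_cancel₀ _ hca, sub_self]

/-- Let k be an algebraically closed field and A ≠ k[[t]] a k-subalgebra of k[[t]] that is closed in the
t-adic topology and over which k[[t]] is a finite module (as for the complete local ring of a
unibranch curve singularity inside its normalisation), and let Γ ⊆ ℕ be the set of t-orders of the
nonzero elements of A (its value semigroup); let c be the conductor of Γ, so that every n ≥ c lies
in Γ and c − 1 does not. Then for a power series f, f · k[[t]] ⊆ A holds exactly when the order of f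
is at least c: the conductor of A in k[[t]] is t^c · k[[t]], of codimension c. -/
theorem result (k : Type u) [Field k] [IsAlgClosed k] (A : Subalgebra k (PowerSeries k)) (hA : Module.Finite ↥A (PowerSeries k)) (hcl : ∀ f : PowerSeries k, (∀ n : ℕ, ∃ g ∈ A, (n : ℕ∞) ≤ PowerSeries.order (f - g)) → f ∈ A) (hsing : A ≠ ⊤) (Γ : Set ℕ) (hΓ : ∀ n : ℕ, n ∈ Γ ↔ ∃ f ∈ A, PowerSeries.order f = n) (c : ℕ) (hc : ∀ n : ℕ, c ≤ n → n ∈ Γ) (hc0 : c ≠ 0) (hc1 : c - 1 ∉ Γ) (f : PowerSeries k) : (∀ g : PowerSeries k, g * f ∈ A) ↔ (c : ℕ∞) ≤ PowerSeries.order f := by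
  constructor
  · intro hf
    by_contra hlt
    rw [not_le] at hlt
    have hf0 : f ≠ 0 := by
      rintro rfl
      simp at hlt
    obtain ⟨m, hm⟩ : ∃ m : ℕ, PowerSeries.order f = m := by
      have := (PowerSeries.order_finite_iff_ne_zero).mpr hf0
      exact ⟨f.order.toNat, (ENat.natCast_toNat (ne_of_lt this)).symm⟩
    rw [hm] at hlt
    have hmc : m < c := by exact_mod_cast hlt
    apply hc1
    rw [hΓ]
    refine ⟨PowerSeries.X ^ (c - 1 - m) * f, hf _, ?_⟩
    rw [PowerSeries.order_mul, PowerSeries.order_X_pow, hm]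
    have : c - 1 - m + m = c - 1 := by omega
    exact_mod_cast this
  · intro hf g
    apply hcl
    intro n
    have hh : (c : ℕ∞) ≤ PowerSeries.order (g * f) := by
      rw [PowerSeries.order_mul]
      exact le_trans hf le_add_self
    obtain ⟨a, haA, ha⟩ := approx k A Γ hΓ c hc (g * f) hh n
    refine ⟨a, haA, le_trans ?_ ha⟩
    exact_mod_cast Nat.le_add_left n c

end Groth.Agent.S15016
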