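import Groth.Statements.S15019
import Mathlib.Tactic
-- import your own Groth.Agent.* helpers here

set_option autoImplicit false
open TFCurv

namespace Groth.Agent.S15019

/-- Let Γ be a numerical semigroup (a submonoid of (ℕ, +) with finite complement), Γ ≠ ℕ, with conductor
c (every n ≥ c lies in Γ, c − 1 does not), let e be its multiplicity (the least nonzero element of
Γ), and let S ⊆ ℕ be a Γ-module in normal form: 0 ∈ S and γ + s ∈ S for all γ ∈ Γ, s ∈ S. Then the
set of gaps n of S with S ∪ {n} again a Γ-module (n + γ ∈ S for every nonzero γ ∈ Γ) has at most e −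
1 elements, and so does the set of nonzero s ∈ S with S ∖ {s} again a Γ-module (s − γ ∉ S for every
nonzero γ ∈ Γ with γ ≤ s). -/
theorem result (Γ : AddSubmonoid ℕ) (c : ℕ) (hc : ∀ n : ℕ, c ≤ n → n ∈ Γ) (hc0 : c ≠ 0) (hc1 : c - 1 ∉ Γ) (e : ℕ) (he : e ∈ Γ) (he0 : e ≠ 0) (hemin : ∀ γ : ℕ, γ ∈ Γ → γ ≠ 0 → e ≤ γ) (S : Set ℕ) (hS0 : (0 : ℕ) ∈ S) (hS : ∀ γ : ℕ, γ ∈ Γ → ∀ s : ℕ, s ∈ S → γ + s ∈ S) : {n : ℕ | n ∉ S ∧ ∀ γ : ℕ, γ ∈ Γ → γ ≠ 0 → n + γ ∈ S}.encard ≤ ((e - 1 : ℕ) : ℕ∞) ∧ {s : ℕ | s ∈ S ∧ s ≠ 0 ∧ ∀ γ : ℕ, γ ∈ Γ → γ ≠ 0 → γ ≤ s → s - γ ∉ S}.encard ≤ ((e - 1 : ℕ) : ℕ∞) := by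
  have hepos : 0 < e := Nat.pos_of_ne_zero he0
  have hmul : ∀ k : ℕ, e * k ∈ Γ := by
    intro k
    have := Γ.nsmul_mem he k
    rwa [smul_eq_mul, mul_comm] at this
  have hcard : (↑(Finset.Ico 1 e) : Set ℕ).encard = ((e - 1 : ℕ) : ℕ∞) := by
    rw [Set.encard_coe_eq_coe_finsetCard, Nat.card_Ico]
  constructor
  · rw [← hcard]
    apply Set.encard_le_encard_of_injOn (f := fun n => n % e)
    · rintro n ⟨hnS, hn⟩
      simp only [Finset.coe_Ico, Set.mem_Ico]
      refine ⟨?_, Nat.mod_lt _ hepos⟩
      by_contra h0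
      have h0' : n % e = 0 := by omega
      apply hnS
      have hn' : n = e * (n / e) := by
        have := Nat.div_add_mod n e
        omega
      have := hS _ (hmul (n / e)) 0 hS0
      rw [add_zero, ← hn'] at this
      exact this
    · have key : ∀ n n', n ∉ S → (∀ γ : ℕ, γ ∈ Γ → γ ≠ 0 → n + γ ∈ S) → n' ∉ S →
          n % e = n' % e → n < n' → False := by
        intro n n' _ hn hn'S hmod hlt
        apply hn'S
        have h1 := Nat.div_add_mod n e
        have h2 := Nat.div_add_mod n' e
        have hk : n' = n + e * (n' / e - n / e) := by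
          have hle : n / e ≤ n' / e := Nat.div_le_div_right hlt.le
          have : e * (n' / e - n / e) = e * (n' / e) - e * (n / e) := Nat.mul_sub e _ _
          have hle2 : e * (n / e) ≤ e * (n' / e) := Nat.mul_le_mul_left e hle
          omega
        rw [hk]
        apply hn _ (hmul _)
        intro h0
        rw [h0] at hk
        omega
      rintro n ⟨hnS, hn⟩ n' ⟨hn'S, hn'⟩ hmod
      simp only at hmod
      rcases lt_trichotomy n n' with hlt | heq | hgt
      · exact (key n n' hnS hn hn'S hmod hlt).elim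
      · exact heq
      · exact (key n' n hn'S hn' hnS hmod.symm hgt).elim
  · rw [← hcard]
    apply Set.encard_le_encard_of_injOn (f := fun n => n % e)
    · rintro s ⟨hsS, hs0, hs⟩
      simp only [Finset.coe_Ico, Set.mem_Ico]
      refine ⟨?_, Nat.mod_lt _ hepos⟩
      by_contra h0
      have h0' : s % e = 0 := by omega
      have hs' : s = e * (s / e) := by
        have := Nat.div_add_mod s e
        omega
      have := hs s (hs' ▸ hmul (s / e)) hs0 le_rfl
      rw [Nat.sub_self] at this
      exact this hS0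
    · have key : ∀ s s', s ∈ S → s' ∈ S →
          (∀ γ : ℕ, γ ∈ Γ → γ ≠ 0 → γ ≤ s' → s' - γ ∉ S) →
          s % e = s' % e → s < s' → False := by
        intro s s' hsS _ hs' hmod hlt
        have h1 := Nat.div_add_mod s e
        have h2 := Nat.div_add_mod s' e
        have hk : s' = s + e * (s' / e - s / e) := by
          have hle : s / e ≤ s' / e := Nat.div_le_div_right hlt.le
          have : e * (s' / e - s / e) = e * (s' / e) - e * (s / e) := Nat.mul_sub e _ _
          have hle2 : e * (s / e) ≤ e * (s' / e) := Nat.mul_le_mul_left e hle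
          omega
        have hne : e * (s' / e - s / e) ≠ 0 := by
          intro h0
          rw [h0] at hk
          omega
        have := hs' _ (hmul (s' / e - s / e)) hne (by omega)
        apply this
        have : s' - e * (s' / e - s / e) = s := by omega
        rw [this]
        exact hsS
      rintro s ⟨hsS, _, hs⟩ s' ⟨hs'S, _, hs'⟩ hmod
      simp only at hmod
      rcases lt_trichotomy s s' with hlt | heq | hgt
      · exact (key s s' hsS hs'S hs' hmod hlt).elim
      · exact heq
      · exact (key s' s hs'S hsS hs hmod.symm hgt).elim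

end Groth.Agent.S15019
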