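import Groth.Statements.S15029
import Mathlib.Tactic
-- import your own Groth.Agent.* helpers here

set_option autoImplicit false
open TFCurv

namespace Groth.Agent.S15029

/-- Let Γ be a numerical semigroup (a submonoid of (ℕ, +) with finite complement), Γ ≠ ℕ, with conductor
c (every n ≥ c lies in Γ, c − 1 does not), and let S ⊆ ℕ be a Γ-module in normal form (0 ∈ S and γ +
s ∈ S for γ ∈ Γ, s ∈ S). If S ≠ ℕ then some gap n of S can be added (n + γ ∈ S for every nonzero γ ∈
Γ, so S ∪ {n} is a Γ-module), and if S ≠ Γ then some s ∈ S outside Γ can be removed (s − γ ∉ S for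
every nonzero γ ∈ Γ with γ ≤ s, so S ∖ {s} is a Γ-module containing Γ); iterating, S is joined to ℕ
and to Γ by chains in the diagram of Γ-modules, which is therefore connected. -/
theorem result (Γ : AddSubmonoid ℕ) (c : ℕ) (hc : ∀ n : ℕ, c ≤ n → n ∈ Γ) (hc0 : c ≠ 0) (hc1 : c - 1 ∉ Γ) (S : Set ℕ) (hS0 : (0 : ℕ) ∈ S) (hS : ∀ γ : ℕ, γ ∈ Γ → ∀ s : ℕ, s ∈ S → γ + s ∈ S) : (S ≠ Set.univ → ∃ n : ℕ, n ∉ S ∧ ∀ γ : ℕ, γ ∈ Γ → γ ≠ 0 → n + γ ∈ S) ∧ ((↑Γ : Set ℕ) ≠ S → ∃ s : ℕ, s ∈ S ∧ s ∉ Γ ∧ ∀ γ : ℕ, γ ∈ Γ → γ ≠ 0 → γ ≤ s → s - γ ∉ S) := by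
  have hΓS : (↑Γ : Set ℕ) ⊆ S := by
    intro γ hγ
    have := hS γ hγ 0 hS0
    simpa using this
  constructor
  · intro hne
    -- largest gap of S
    have hex : ∃ n, n ∉ S := by
      by_contra hcon
      push_neg at hcon
      exact hne (Set.eq_univ_of_forall hcon)
    have hbdd : ∀ n, n ∉ S → n < c := by
      intro n hn
      by_contra hge
      push_neg at hge
      exact hn (hΓS (hc n hge))
    classical
    let P : ℕ → Prop := fun n => n ∉ S
    have hfin : (setOf P).Finite := (Set.finite_lt_nat c).subset (fun n hn => hbdd n hn)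
    obtain ⟨n0, hn0⟩ := hex
    have hne' : (hfin.toFinset).Nonempty := ⟨n0, (Set.Finite.mem_toFinset hfin).2 hn0⟩
    refine ⟨hfin.toFinset.max' hne', ?_, ?_⟩
    · exact (Set.Finite.mem_toFinset hfin).1 (hfin.toFinset.max'_mem hne')
    · intro γ hγ hγ0
      by_contra hcon
      have hmem : hfin.toFinset.max' hne' + γ ∈ hfin.toFinset :=
        (Set.Finite.mem_toFinset hfin).2 hcon
      have := hfin.toFinset.le_max' _ hmem
      omega
  · intro hne
    have hex : ∃ s, s ∈ S ∧ s ∉ Γ := by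
      by_contra hcon
      push_neg at hcon
      exact hne (Set.Subset.antisymm hΓS (fun s hs => hcon s hs))
    classical
    refine ⟨Nat.find hex, (Nat.find_spec hex).1, (Nat.find_spec hex).2, ?_⟩
    intro γ hγ hγ0 hle hmem
    have hlt : Nat.find hex - γ < Nat.find hex := by omega
    have := Nat.find_min hex hlt
    push_neg at this
    have h2 := this hmem
    apply (Nat.find_spec hex).2
    have heq : Nat.find hex = γ + (Nat.find hex - γ) := by omega
    rw [heq]
    exact Γ.add_mem hγ h2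

end Groth.Agent.S15029
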