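import Groth.Statements.S1503
import Groth.Agent.S6942
-- import your own Groth.Agent.* helpers here

set_option autoImplicit false
universe u
attribute [local instance] HasDerivedCategory.standard
open FlatMor

namespace Groth.Agent.S1503

section H
namespace W1
open CategoryTheory CategoryTheory.Limits AlgebraicGeometry Opposite
set_option backward.isDefEq.respectTransparency.types false

theorem main {X S : Scheme.{u}} (f : X ⟶ S) [IsLocallyNoetherian S] :
    MoreMor.IsPseudoCoherentMor f ↔ LocallyOfFiniteType f := by
  constructor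
  · intro h
    rw [HasRingHomProperty.iff_appLE (P := @LocallyOfFiniteType)]
    intro V U e
    obtain ⟨n, φ, hφ, -⟩ := h U.1 V.1 U.2 V.2 e
    letI := (f.appLE V.1 U.1 e).hom.toAlgebra
    have : Algebra.FiniteType Γ(S, V.1) Γ(X, U.1) := Algebra.FiniteType.of_surjective φ hφ
    exact this
  · intro h U V hU hV e
    letI := (f.appLE V U e).hom.toAlgebra
    have hft : Algebra.FiniteType Γ(S, V) Γ(X, U) :=
      HasRingHomProperty.appLE (P := @LocallyOfFiniteType) f h ⟨V, hV⟩ ⟨U, hU⟩ e
    haveI : IsNoetherianRing Γ(S, V) := IsLocallyNoetherian.component_noetherian ⟨V, hV⟩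
    obtain ⟨n, φ, hφ⟩ := Algebra.FiniteType.iff_quotient_mvPolynomial''.1 hft
    refine ⟨n, φ, hφ, ?_⟩
    letI := φ.toRingHom.toAlgebra
    refine ((Groth.Agent.S6942.result (MvPolynomial (Fin n) Γ(S, V)) 0
      (Dual.inD _ Γ(X, U)) Γ(X, U)).2).2 ?_
    exact Module.Finite.of_surjective (Algebra.linearMap (MvPolynomial (Fin n) Γ(S, V)) Γ(X, U)) hφ

end W1
end H


open AlgebraicGeometry CategoryTheory Limits in
/-- Let f : X → S with S locally Noetherian. Then f is pseudo-coherent (affine-locally: pseudo-coherent
ring maps) if and only if f is locally of finite type. -/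
theorem result {X S : Scheme.{u}} (f : X ⟶ S) [IsLocallyNoetherian S] :
    MoreMor.IsPseudoCoherentMor f ↔ LocallyOfFiniteType f := by
  exact W1.main f

end Groth.Agent.S1503
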