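import Groth.Statements.S15036
-- import your own Groth.Agent.* helpers here

set_option autoImplicit false
open TFCurv

namespace Groth.Agent.S15036

section aux

private theorem nth_le_iff_count {p q : ℕ → Prop} [DecidablePred p] [DecidablePred q]
    (hp : (Set.ofPred p).Infinite) (hq : (Set.ofPred q).Infinite) :
    (∀ i, Nat.nth p i ≤ Nat.nth q i + 1) ↔ ∀ b, Nat.count q b ≤ Nat.count p (b + 1) := by
  constructor
  · intro h b
    by_contra hlt
    push Not at hlt
    have h1 : Nat.nth q (Nat.count p (b+1)) < b := (Nat.lt_nth_iff_count_lt hq).1 hlt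
    have h2 : ¬ Nat.nth p (Nat.count p (b+1)) < b + 1 :=
      fun h' => lt_irrefl _ ((Nat.lt_nth_iff_count_lt hp).2 h')
    have := h (Nat.count p (b+1))
    omega
  · intro h i
    have h1 : i < Nat.count q (Nat.nth q i + 1) :=
      (Nat.lt_nth_iff_count_lt hq).2 (Nat.lt_succ_self _)
    have h2 := h (Nat.nth q i + 1)
    have h3 : Nat.nth p i < Nat.nth q i + 1 + 1 :=
      (Nat.lt_nth_iff_count_lt hp).1 (lt_of_lt_of_le h1 h2)
    omega

private theorem count_insert (S : Set ℕ) (s : ℕ) (hs : s ∉ S) [DecidablePred (fun m => m ∈ S)]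
    [DecidablePred (fun m => m ∈ insert s S)] (b : ℕ) :
    Nat.count (fun m => m ∈ insert s S) b = Nat.count (fun m => m ∈ S) b + if s < b then 1 else 0 := by
  induction b with
  | zero => simp
  | succ b ih =>
    rw [Nat.count_succ, Nat.count_succ, ih]
    by_cases hb : b = s
    · subst hb
      simp [hs]
    · by_cases hbS : b ∈ S
      · have : b ∈ insert s S := Set.mem_insert_of_mem _ hbS
        simp only [this, hbS, if_true]
        by_cases h1 : s < b
        · have : s < b + 1 := by omega
          simp [h1, this]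
        · have : ¬ s < b + 1 := by omega
          simp [h1, this]
      · have : b ∉ insert s S := by
          rw [Set.mem_insert_iff]; tauto
        simp only [this, hbS, if_false]
        by_cases h1 : s < b
        · have : s < b + 1 := by omega
          simp [h1, this]
        · have : ¬ s < b + 1 := by omega
          simp [h1, this]

end aux

/-- Let Γ be a numerical semigroup (a submonoid of (ℕ, +) with finite complement), Γ ≠ ℕ, with conductor
c (every n ≥ c lies in Γ, c − 1 does not); let S ⊆ ℕ be a Γ-module in normal form (0 ∈ S, γ + s ∈ S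
for γ ∈ Γ, s ∈ S) with conductor c(S) (all n ≥ c(S) in S, c(S) − 1 ∉ S), and let s be a gap of S
such that S ∪ {s} is again a Γ-module. Enumerate S increasingly as s_0 < s_1 < ⋯ and put τ_i(S) =
s_i + ℓ(S), where ℓ counts the gaps of Γ filled; since ℓ(S ∪ {s}) = ℓ(S) + 1, the termwise
comparison τ(S) ≤ τ(S ∪ {s}) says that the i-th element of S is at most one more than the i-th
element of S ∪ {s} for every i. This holds if and only if s = c(S) − 1, the largest gap of S. -/
theorem result (Γ : AddSubmonoid ℕ) (c : ℕ) (hc : ∀ n : ℕ, c ≤ n → n ∈ Γ) (hc0 : c ≠ 0) (hc1 : c - 1 ∉ Γ) (S : Set ℕ) (hS0 : (0 : ℕ) ∈ S) (hS : ∀ γ : ℕ, γ ∈ Γ → ∀ s : ℕ, s ∈ S → γ + s ∈ S) (cS : ℕ) (hcS : ∀ n : ℕ, cS ≤ n → n ∈ S) (hcS0 : cS ≠ 0) (hcS1 : cS - 1 ∉ S) (s : ℕ) (hs : s ∉ S) (hs' : ∀ γ : ℕ, γ ∈ Γ → γ ≠ 0 → s + γ ∈ S) : (∀ i : ℕ, Nat.nth (fun m => m ∈ S) i ≤ Nat.nth (fun m => m ∈ insert s S) i + 1) ↔ s + 1 = cS := by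
  classical
  have hinfS : (Set.ofPred (fun m => m ∈ S)).Infinite := by
    refine Set.infinite_of_not_bddAbove ?_
    rintro ⟨N, hN⟩
    have := hN (hcS (max cS (N + 1)) (le_max_left _ _))
    have := le_max_right cS (N + 1)
    omega
  have hinfT : (Set.ofPred (fun m => m ∈ insert s S)).Infinite :=
    hinfS.mono (fun m hm => Set.mem_insert_of_mem _ hm)
  rw [nth_le_iff_count hinfS hinfT]
  constructor
  · intro h
    have key : ∀ b, s < b → b ∈ S := by
      intro b hb
      have := h b
      rw [count_insert S s hs, Nat.count_succ] at this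
      by_contra hbS
      simp [hb, hbS] at this
    have h1 : s < cS := by
      by_contra hlt
      exact hs (hcS s (by omega))
    have h2 : ¬ s < cS - 1 := fun hlt => hcS1 (key _ hlt)
    omega
  · intro h b
    rw [count_insert S s hs, Nat.count_succ]
    by_cases hb : s < b
    · have : b ∈ S := hcS b (by omega)
      simp [hb, this]
    · simp [hb]

end Groth.Agent.S15036
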