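import Groth.Statements.S15037
-- import your own Groth.Agent.* helpers here

set_option autoImplicit false
open TFCurv

namespace Groth.Agent.S15037

section aux

private theorem setup (S : Set ℕ) (cS : ℕ) (hcS : ∀ n, cS ≤ n → n ∈ S) (hcS1 : cS = 0 ∨ cS - 1 ∉ S) :
    (∀ i, Nat.nth (fun m => m ∈ S) i ≤ i + Sᶜ.ncard) ∧
    (∀ i, (S ∩ Set.Iio cS).ncard ≤ i → Nat.nth (fun m => m ∈ S) i = i + Sᶜ.ncard) ∧
    (1 ≤ (S ∩ Set.Iio cS).ncard → Nat.nth (fun m => m ∈ S) ((S ∩ Set.Iio cS).ncard - 1) + 2 ≤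
      (S ∩ Set.Iio cS).ncard + Sᶜ.ncard) := by
  classical
  set p : ℕ → Prop := fun m => m ∈ S with hp
  have hinf : (Set.ofPred p).Infinite := by
    refine Set.infinite_of_not_bddAbove ?_
    rintro ⟨N, hN⟩
    have := hN (hcS (max cS (N + 1)) (le_max_left _ _))
    have := le_max_right cS (N + 1)
    omega
  have hr : (S ∩ Set.Iio cS).ncard = Nat.count p cS := by
    rw [Nat.count_eq_card_filter_range, ← Set.ncard_coe_finset]
    congr 1
    ext m
    simp [hp, and_comm]
  have hd : Sᶜ.ncard + Nat.count p cS = cS := by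
    have h1 : Sᶜ = ((Finset.range cS).filter (fun m => ¬ p m) : Finset ℕ) := by
      ext m
      simp only [Set.mem_compl_iff, Finset.coe_filter, Finset.mem_range, Set.mem_ofPred_eq, hp]
      constructor
      · intro hm
        refine ⟨?_, hm⟩
        by_contra hlt
        exact hm (hcS m (by omega))
      · exact fun h => h.2
    rw [h1, Set.ncard_coe_finset, Nat.count_eq_card_filter_range, add_comm,
      Finset.card_filter_add_card_filter_not, Finset.card_range]
  have hge : ∀ k, Nat.count p (cS + k) = Nat.count p cS + k := by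
    intro k
    induction k with
    | zero => rfl
    | succ k ih =>
      rw [← add_assoc, Nat.count_succ, ih, if_pos (hcS _ (by omega))]
      omega
  have hle : ∀ n k, Nat.count p (n + k) ≤ Nat.count p n + k := by
    intro n k
    induction k with
    | zero => exact le_rfl
    | succ k ih =>
      rw [← add_assoc, Nat.count_succ]
      split_ifs <;> omega
  have hbound : ∀ n, n ≤ Nat.count p n + Sᶜ.ncard := by
    intro n
    rcases le_total n cS with h | h
    · have := hle n (cS - n)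
      rw [Nat.add_sub_cancel' h] at this
      omega
    · have := hge (n - cS)
      rw [Nat.add_sub_cancel' h] at this
      omega
  refine ⟨?_, ?_, ?_⟩
  · intro i
    have := hbound (Nat.nth p i)
    rwa [Nat.count_nth_of_infinite hinf] at this
  · intro i hi
    rw [hr] at hi
    have hmem : p (cS + (i - Nat.count p cS)) := hcS _ (by omega)
    have := Nat.nth_count hmem
    rw [hge, Nat.add_sub_cancel' hi] at this
    rw [this]
    omega
  · intro h1
    rw [hr] at h1 ⊢
    have hlt : Nat.nth p (Nat.count p cS - 1) < cS := (Nat.lt_nth_iff_count_lt hinf).1 (by omega)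
    have hmem : p (Nat.nth p (Nat.count p cS - 1)) := Nat.nth_mem_of_infinite hinf _
    have hc0 : cS ≠ 0 := by omega
    have hne : Nat.nth p (Nat.count p cS - 1) ≠ cS - 1 := by
      intro he
      rcases hcS1 with h | h
      · exact hc0 h
      · exact h (he ▸ hmem)
    omega

end aux

/-- Let Γ be a numerical semigroup (a submonoid of (ℕ, +) with finite complement), Γ ≠ ℕ, with conductor
c (every n ≥ c lies in Γ, c − 1 does not); let S and S' ⊆ ℕ be Γ-modules in normal form with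
conductors c(S), c(S'), let δ(S), δ(S') be their numbers of gaps and r(S), r(S') their numbers of
elements below the conductor, and enumerate them increasingly as s_i, s'_i (i ≥ 0). With τ_i(S) =
s_i + ℓ(S) and ℓ(S) = δ(Γ) − δ(S), the termwise order τ(S) ≤ τ(S') reads s_i + δ(S') ≤ s'_i + δ(S)
for all i. It holds if and only if r(S') ≤ r(S) and s_i + δ(S') ≤ s'_i + δ(S) for all i < r(S')
(beyond r(S) the entries τ_i(S) = i + δ(Γ) are the largest possible). -/
theorem result (Γ : AddSubmonoid ℕ) (c : ℕ) (hc : ∀ n : ℕ, c ≤ n → n ∈ Γ) (hc0 : c ≠ 0) (hc1 : c - 1 ∉ Γ) (S : Set ℕ) (hS0 : (0 : ℕ) ∈ S) (hS : ∀ γ : ℕ, γ ∈ Γ → ∀ s : ℕ, s ∈ S → γ + s ∈ S) (cS : ℕ) (hcS : ∀ n : ℕ, cS ≤ n → n ∈ S) (hcS1 : cS = 0 ∨ cS - 1 ∉ S) (S' : Set ℕ) (hS'0 : (0 : ℕ) ∈ S') (hS' : ∀ γ : ℕ, γ ∈ Γ → ∀ s : ℕ, s ∈ S' → γ + s ∈ S') (cS' : ℕ) (hcS' : ∀ n : ℕ, cS' ≤ n → n ∈ S') (hcS'1 : cS' = 0 ∨ cS' - 1 ∉ S') : (∀ i : ℕ, Nat.nth (fun m => m ∈ S) i + S'ᶜ.ncard ≤ Nat.nth (fun m => m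 ∈ S') i + Sᶜ.ncard) ↔ ((S' ∩ Set.Iio cS').ncard ≤ (S ∩ Set.Iio cS).ncard ∧ ∀ i : ℕ, i < (S' ∩ Set.Iio cS').ncard → Nat.nth (fun m => m ∈ S) i + S'ᶜ.ncard ≤ Nat.nth (fun m => m ∈ S') i + Sᶜ.ncard) := by
  obtain ⟨a1, a2, a3⟩ := setup S cS hcS hcS1
  obtain ⟨b1, b2, b3⟩ := setup S' cS' hcS' hcS'1
  constructor
  · intro h
    refine ⟨?_, fun i _ => h i⟩
    by_contra hlt
    push Not at hlt
    have h1 : 1 ≤ (S' ∩ Set.Iio cS').ncard := by omega
    have h2 := b3 h1
    have h3 := a2 ((S' ∩ Set.Iio cS').ncard - 1) (by omega)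
    have h4 := h ((S' ∩ Set.Iio cS').ncard - 1)
    omega
  · rintro ⟨_, h⟩ i
    by_cases hi : i < (S' ∩ Set.Iio cS').ncard
    · exact h i hi
    · have h1 := b2 i (by omega)
      have h2 := a1 i
      omega

end Groth.Agent.S15037
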