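import Groth.Statements.S15042
import Mathlib
import Groth.Agent.Lib.Helper25.QuietNF
import Groth.Agent.Lib.Helper25.QuietBC
-- import your own Groth.Agent.* helpers here

set_option autoImplicit false
set_option linter.unusedSectionVars false
set_option linter.style.haveILetI false
set_option linter.unusedVariables false
open CategoryTheory AlgebraicGeometry
universe u
open Quiet

namespace Groth.Agent.S15042

/-- Over a scheme `X` of prime characteristic `p`, if `f : Y ⟶ X` is quasi-etale (locally on the source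
an extraction of `p`-th roots followed by an etale morphism) and `Y'` with its projections `g' : Y'
⟶ Y`, `f' : Y' ⟶ X'` is the fibre product of `f` and a morphism `g : X' ⟶ X`, then `f'` is
quasi-etale. -/
theorem result (p : ℕ) [Fact p.Prime] {X Y X' Y' : Scheme.{u}} [FrobSch.IsCharP X p]
    (f : Y ⟶ X) (g : X' ⟶ X) (f' : Y' ⟶ X') (g' : Y' ⟶ Y) (H : IsPullback g' f' f g)
    (hf : Quiet.IsQuiet p f) : Quiet.IsQuiet p f' := by
  refine Groth.Agent.Lib.Helper25.QuietNF.isQuiet_of_nf fun y' => ?_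
  obtain ⟨_, ⟨U, hU, rfl⟩, hyU, -⟩ :=
    X.isBasis_affineOpens.exists_subset_of_mem_open (Set.mem_univ (f (g' y'))) isOpen_univ
  have hpt : g (f' y') = f (g' y') := by
    have := congrArg (fun φ => φ.base y') H.w
    simpa using this.symm
  have hmem : f' y' ∈ g ⁻¹ᵁ U := by
    change g (f' y') ∈ U
    rw [hpt]
    exact hyU
  obtain ⟨_, ⟨U', hU', rfl⟩, hyU', hU'U⟩ :=
    X'.isBasis_affineOpens.exists_subset_of_mem_open hmem (g ⁻¹ᵁ U).isOpen
  obtain ⟨V, hVU, hyV, A', e, t, n, he, ht, hcomp⟩ :=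
    Groth.Agent.Lib.Helper25.QuietNF.exists_nf hf (g' y') ⟨U, hU⟩ hyU
  obtain ⟨hV', hpo⟩ := Groth.Agent.Lib.Helper25.QuietBC.isPushout_appLE_of_isPullback H hU hU' V.2
    hU'U hVU
  have hleft : IsPushout e (g.appLE U U' hU'U) (Limits.pushout.inl _ _) (Limits.pushout.inr _ _) :=
    IsPushout.of_hasPushout _ _
  have hbig : IsPushout (e ≫ t) (g.appLE U U' hU'U)
      (g'.appLE V.1 (g' ⁻¹ᵁ V.1 ⊓ f' ⁻¹ᵁ U') inf_le_left)
      (f'.appLE U' (g' ⁻¹ᵁ V.1 ⊓ f' ⁻¹ᵁ U') inf_le_right) := by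
    rw [hcomp]
    exact hpo
  have hright := IsPushout.of_left' hbig hleft
  refine ⟨⟨_, hV'⟩, ⟨U', hU'⟩, inf_le_right, ⟨hyV, hyU'⟩, _, Limits.pushout.inr _ _, _, n,
    Groth.Agent.Lib.Helper25.QuietBC.etale_of_isPushout hleft.flip he,
    Groth.Agent.Lib.Helper25.QuietBC.towerHom_of_isPushout hright.flip ht, ?_⟩
  exact hleft.inr_desc _ _ _

end Groth.Agent.S15042
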