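import Groth.Statements.S15043
import Mathlib
import Groth.Agent.Lib.Helper25.QuietNF
import Groth.Agent.Lib.Helper25.QuietDescent
-- import your own Groth.Agent.* helpers here

set_option autoImplicit false
set_option linter.unusedSectionVars false
set_option linter.style.haveILetI false
set_option linter.unusedVariables false
open CategoryTheory AlgebraicGeometry
universe u
open Quiet

namespace Groth.Agent.S15043

/-- Over a scheme `X` of prime characteristic `p`, the composite of quasi-etale morphisms `g : Z ⟶ Y`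
and `f : Y ⟶ X` (each locally on its source an extraction of `p`-th roots followed by an etale
morphism) is quasi-etale. -/
theorem result (p : ℕ) [Fact p.Prime] {X Y Z : Scheme.{u}} [FrobSch.IsCharP X p]
    (f : Y ⟶ X) (g : Z ⟶ Y) (hf : Quiet.IsQuiet p f) (hg : Quiet.IsQuiet p g) :
    Quiet.IsQuiet p (g ≫ f) := by
  refine Groth.Agent.Lib.Helper25.QuietNF.isQuiet_of_nf fun z => ?_
  obtain ⟨_, ⟨U, hU, rfl⟩, hzU, -⟩ :=
    X.isBasis_affineOpens.exists_subset_of_mem_open (Set.mem_univ (f (g z))) isOpen_univ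
  obtain ⟨VY, hVYU, hgzVY, A', e, t, n, he, ht, hcomp⟩ := Groth.Agent.Lib.Helper25.QuietNF.exists_nf hf (g z) ⟨U, hU⟩ hzU
  obtain ⟨VZ, hVZ, hzVZ, A'', e₂, t₂, m, he₂, ht₂, hcomp₂⟩ := Groth.Agent.Lib.Helper25.QuietNF.exists_nf hg z VY hgzVY
  have hpU : (p : Γ(X, U)) = 0 := FrobSch.natCast_eq_zero_app X p U
  have hpA' : (p : A') = 0 := by rw [← map_natCast e.hom, hpU, map_zero]
  obtain ⟨D', _, e₃, t₃, he₃, ht₃, hc₃⟩ := Groth.Agent.Lib.Helper25.QuietDescent.exists_descent p n hpA' t.hom e₂.hom ht he₂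
  have hle : VZ.1 ≤ (g ≫ f) ⁻¹ᵁ U := fun x hx => hVYU (hVZ hx)
  refine ⟨VZ, ⟨U, hU⟩, hle, hzVZ, CommRingCat.of D', e ≫ CommRingCat.ofHom e₃,
    CommRingCat.ofHom t₃ ≫ t₂, n + m, ?_, ?_, ?_⟩
  · exact RingHom.Etale.stableUnderComposition _ _ he he₃
  · exact ht₃.comp ht₂
  · have h3 : CommRingCat.ofHom e₃ ≫ CommRingCat.ofHom t₃ = t ≫ e₂ := by
      ext x
      exact RingHom.congr_fun hc₃ x
    rw [Category.assoc, ← Category.assoc (CommRingCat.ofHom e₃), h3, Category.assoc,
      ← Category.assoc e, hcomp, hcomp₂, Scheme.Hom.appLE_comp_appLE]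

end Groth.Agent.S15043
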