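import Groth.Statements.S15044
import Mathlib
import Groth.Agent.Lib.Helper25.QuietNF
import Groth.Agent.Lib.Helper25.QuietSynt
import Groth.Agent.Lib.Helper25.SyntLocal
-- import your own Groth.Agent.* helpers here

set_option autoImplicit false
set_option linter.unusedSectionVars false
set_option linter.style.haveILetI false
set_option linter.unusedVariables false
open CategoryTheory AlgebraicGeometry
universe u
open Quiet

namespace Groth.Agent.S15044

theorem mem_basicOpen_iff_primeIdealOf {Y : Scheme.{u}} {V : Y.Opens} (hV : IsAffineOpen V)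
    (y : Y) (hyV : y ∈ V) (h : Γ(Y, V)) :
    y ∈ Y.basicOpen h ↔ h ∉ (hV.primeIdealOf ⟨y, hyV⟩).asIdeal := by
  have h1 : hV.fromSpec (hV.primeIdealOf ⟨y, hyV⟩) = y := hV.fromSpec_primeIdealOf ⟨y, hyV⟩
  have h2 := hV.fromSpec_preimage_basicOpen h
  have h3 : y ∈ Y.basicOpen h ↔ hV.primeIdealOf ⟨y, hyV⟩ ∈ hV.fromSpec ⁻¹ᵁ Y.basicOpen h := by
    change _ ↔ hV.fromSpec (hV.primeIdealOf ⟨y, hyV⟩) ∈ Y.basicOpen h
    rw [h1]
  rw [h3, h2]
  rfl

/-- Over a scheme `X` of prime characteristic `p`, a quasi-etale morphism `f : Y ⟶ X` (locally on the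
source an extraction of `p`-th roots followed by an etale morphism) is syntomic: every point of `Y`
has an affine open neighbourhood mapping into an affine open of `X` such that the induced ring map
is flat, finitely presented and has local complete intersection fibres. -/
theorem result (p : ℕ) [Fact p.Prime] {X Y : Scheme.{u}} [FrobSch.IsCharP X p]
    (f : Y ⟶ X) (hf : Quiet.IsQuiet p f) : Synt.IsSyntomicMor f := by
  intro y
  obtain ⟨_, ⟨U, hU, rfl⟩, hyU, -⟩ :=
    X.isBasis_affineOpens.exists_subset_of_mem_open (Set.mem_univ (f y)) isOpen_univ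
  obtain ⟨V, hVU, hyV, A', e, t, n, he, ht, hcomp⟩ :=
    Groth.Agent.Lib.Helper25.QuietNF.exists_nf hf y ⟨U, hU⟩ hyU
  have hV : IsAffineOpen V.1 := V.2
  haveI : (hV.primeIdealOf ⟨y, hyV⟩).asIdeal.IsPrime := (hV.primeIdealOf ⟨y, hyV⟩).isPrime
  obtain ⟨h, hhQ, hsyn⟩ := Groth.Agent.Lib.Helper25.QuietSynt.exists_isSyntomic_away p e.hom he
    t.hom n ht (hV.primeIdealOf ⟨y, hyV⟩).asIdeal
  have hV' : IsAffineOpen (Y.basicOpen h) := hV.basicOpen h
  have hle : Y.basicOpen h ≤ f ⁻¹ᵁ U := (Y.basicOpen_le h).trans hVU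
  refine ⟨⟨_, hV'⟩, ⟨U, hU⟩, hle, (mem_basicOpen_iff_primeIdealOf hV y hyV h).mpr hhQ, ?_⟩
  haveI := hV.isLocalization_basicOpen h
  letI alg1 : Algebra Γ(X, U) (Localization.Away h) :=
    ((algebraMap Γ(Y, V.1) (Localization.Away h)).comp (t.hom.comp e.hom)).toAlgebra
  letI alg2 : Algebra Γ(X, U) Γ(Y, Y.basicOpen h) := (f.appLE U (Y.basicOpen h) hle).hom.toAlgebra
  change Synt.IsSyntomic Γ(X, U) Γ(Y, Y.basicOpen h)
  let ψ : Localization.Away h ≃ₐ[Γ(Y, V.1)] Γ(Y, Y.basicOpen h) :=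
    IsLocalization.algEquiv (Submonoid.powers h) _ _
  refine Groth.Agent.Lib.Helper25.SyntLocal.isSyntomic_of_algEquiv
    (AlgEquiv.ofRingEquiv (f := ψ.toRingEquiv) fun x => ?_) hsyn
  change ψ (algebraMap Γ(Y, V.1) (Localization.Away h) (t.hom (e.hom x))) =
    (f.appLE U (Y.basicOpen h) hle).hom x
  rw [ψ.commutes]
  have : t.hom (e.hom x) = (f.appLE U V.1 hVU).hom x := by
    rw [← hcomp]
    rfl
  rw [this]
  change (Y.presheaf.map (homOfLE (Y.basicOpen_le h)).op).hom ((f.appLE U V.1 hVU).hom x) = _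
  rw [← RingHom.comp_apply, ← CommRingCat.hom_comp, Scheme.Hom.appLE_map]

end Groth.Agent.S15044
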