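import Groth.Statements.S15045
import Mathlib
import Groth.Agent.Lib.Helper25.QuietNF
import Groth.Agent.Lib.Helper25.QuietBC
import Groth.Agent.Lib.Helper25.QuietLift
-- import your own Groth.Agent.* helpers here

set_option autoImplicit false
set_option linter.unusedSectionVars false
set_option linter.style.haveILetI false
set_option linter.unusedVariables false
open CategoryTheory AlgebraicGeometry
universe u
open Quiet

namespace Groth.Agent.S15045

/-- cobase change of a surjective map in `CommRingCat` -/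
theorem surjective_of_isPushout {A A' B B' : CommRingCat.{u}} {f : A ⟶ A'} {g : A ⟶ B}
    {f' : B ⟶ B'} {g' : A' ⟶ B'} (sq : IsPushout g f f' g') (hf : Function.Surjective f.hom) :
    Function.Surjective f'.hom := by
  have := (RingHom.isStableUnderCobaseChange_toMorphismProperty_iff
    (P := fun {R S : Type u} [CommRing R] [CommRing S] (f : R →+* S) => Function.Surjective f)).mpr
    RingHom.surjective_isStableUnderBaseChange
  exact this.of_isPushout sq hf

/-- Let `T` be a scheme of prime characteristic `p`, `i : U ⟶ T` a closed immersion which is surjective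
on points, and `f' : U' ⟶ U` quasi-etale (locally on `U'` an extraction of `p`-th roots followed by
an etale morphism). Then every point of `U'` has an open neighbourhood `V` which is the base change
along `i` of a quasi-etale `T`-scheme: there are a quasi-etale `q : T' ⟶ T` and `j : V ⟶ T'` making
`V`, with `j` and `V ⟶ U' ⟶ U`, the fibre product of `q` and `i`. (The published statement asks `U ⟶
T` to be a closed nil-immersion, a term it does not define; this row takes any closed immersion that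
is surjective on points, which is all the printed argument uses.) -/
theorem result (p : ℕ) [Fact p.Prime] {T U U' : Scheme.{u}}
    [FrobSch.IsCharP T p] (i : U ⟶ T) [IsClosedImmersion i] [Surjective i] (f' : U' ⟶ U)
    (hf' : Quiet.IsQuiet p f') (u : U') :
    ∃ (V : U'.Opens) (T' : Scheme.{u}) (q : T' ⟶ T) (j : (V : Scheme.{u}) ⟶ T'),
      u ∈ V ∧ Quiet.IsQuiet p q ∧ IsPullback j (V.ι ≫ f') q i := by
  obtain ⟨_, ⟨T₁, hT₁', rfl⟩, huT₁, -⟩ :=
    T.isBasis_affineOpens.exists_subset_of_mem_open (Set.mem_univ (i (f' u))) isOpen_univ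
  have hT₁ : IsAffineOpen T₁ := hT₁'
  have hW : IsAffineOpen (i ⁻¹ᵁ T₁) := hT₁.preimage i
  obtain ⟨V, hVW, huV, A', e, t, n, hstd, ht, hcomp⟩ :=
    Groth.Agent.Lib.Helper25.QuietNF.exists_nf_standard hf' u ⟨i ⁻¹ᵁ T₁, hW⟩ huT₁
  have hV : IsAffineOpen V.1 := V.2
  letI algWA' : Algebra Γ(U, i ⁻¹ᵁ T₁) A' := e.hom.toAlgebra
  have hπ : Function.Surjective (i.app T₁).hom := i.app_surjective T₁ hT₁
  obtain ⟨⟨P⟩⟩ := hstd
  obtain ⟨At, _, _, hAt, ρ, hpo1⟩ :=
    Groth.Agent.Lib.Helper25.QuietLift.exists_lift_standardEtale (i.app T₁).hom hπ P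
  have hρ : Function.Surjective ρ := surjective_of_isPushout hpo1 hπ
  obtain ⟨Bt, _, tt, ρ', htt, hpo2⟩ :=
    Groth.Agent.Lib.Helper25.QuietLift.exists_lift_tower p n ρ hρ t.hom ht
  have hpo := hpo1.paste_horiz hpo2
  have e1 : CommRingCat.ofHom (algebraMap Γ(U, i ⁻¹ᵁ T₁) A') ≫ CommRingCat.ofHom t.hom =
      f'.appLE (i ⁻¹ᵁ T₁) V.1 hVW := by
    rw [← hcomp]
    rfl
  have e0 : CommRingCat.ofHom (i.app T₁).hom = i.appLE T₁ (i ⁻¹ᵁ T₁) le_rfl := by
    rw [Scheme.Hom.appLE_eq_app]
    rfl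
  rw [e1, e0] at hpo
  have hpb1 := isPullback_SpecMap_of_isPushout _ _ _ _ hpo
  have hpb2 : IsPullback (Spec.map (i.appLE T₁ (i ⁻¹ᵁ T₁) le_rfl)) hW.fromSpec hT₁.fromSpec i :=
    IsOpenImmersion.isPullback _ _ _ _
      (IsAffineOpen.SpecMap_appLE_fromSpec i hT₁ hW le_rfl).symm
      (by rw [hT₁.opensRange_fromSpec, hW.opensRange_fromSpec])
  have hpb := (hpb1.flip.paste_horiz hpb2.flip).flip
  refine ⟨V.1, Spec (CommRingCat.of Bt),
    Spec.map (CommRingCat.ofHom (algebraMap Γ(T, T₁) At) ≫ CommRingCat.ofHom tt) ≫ hT₁.fromSpec,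
    hV.isoSpec.hom ≫ Spec.map (CommRingCat.ofHom ρ'), huV, ?_, ?_⟩
  · exact Groth.Agent.Lib.Helper25.QuietNF.isQuiet_spec (CommRingCat.ofHom (algebraMap Γ(T, T₁) At))
      (CommRingCat.ofHom tt) (RingHom.etale_algebraMap.mpr hAt) htt hT₁.fromSpec
  · refine hpb.of_iso hV.isoSpec.symm (Iso.refl _) (Iso.refl _) (Iso.refl _) ?_ ?_ ?_ ?_
    · simp
    · simp only [Iso.refl_hom, Category.comp_id, Iso.symm_hom]
      rw [IsAffineOpen.SpecMap_appLE_fromSpec f' hW hV hVW, ← Category.assoc]
      rfl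
    · simp
    · simp

end Groth.Agent.S15045
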