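import Groth.Statements.S15046
import Mathlib
import Groth.Agent.Lib.Helper25.QuietTower
import Groth.Agent.Lib.Helper25.FrobEtale
import Groth.Agent.Lib.Helper25.RelFrobFlat
-- import your own Groth.Agent.* helpers here

set_option autoImplicit false
set_option linter.unusedSectionVars false
set_option linter.style.haveILetI false
set_option linter.unusedVariables false
open CategoryTheory AlgebraicGeometry
universe u
open Quiet

namespace Groth.Agent.S15046

section Helpers
open Polynomial TensorProduct
open Groth.Agent.Lib.Helper25.QuietTower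

section Poly

variable (p : ℕ) {σ : Type} [DecidableEq σ] (R : Type u) [CommRing R]

/-- partial expansion: `X j ↦ X j ^ p` for `j ∈ S` -/
noncomputable def pexp (S : Finset σ) : MvPolynomial σ R →ₐ[R] MvPolynomial σ R :=
  MvPolynomial.aeval (fun j => if j ∈ S then MvPolynomial.X j ^ p else MvPolynomial.X j)

theorem pexp_X (S : Finset σ) (j : σ) :
    pexp p R S (MvPolynomial.X j) = if j ∈ S then MvPolynomial.X j ^ p else MvPolynomial.X j := by
  simp [pexp]

theorem pexp_C (S : Finset σ) (r : R) : pexp p R S (MvPolynomial.C r) = MvPolynomial.C r := by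
  simp [pexp]

theorem pexp_empty : pexp p R (∅ : Finset σ) = AlgHom.id R _ := by
  refine MvPolynomial.algHom_ext fun j => ?_
  simp [pexp_X]

theorem pexp_insert (S : Finset σ) (i : σ) (hi : i ∉ S) :
    pexp p R (insert i S) = (pexp p R S).comp (pexp p R {i}) := by
  refine MvPolynomial.algHom_ext fun j => ?_
  rw [AlgHom.comp_apply, pexp_X, pexp_X]
  by_cases hj : j = i
  · subst hj
    simp [pexp_X, hi]
  · by_cases hjS : j ∈ S
    · simp [hj, hjS, pexp_X]
    · simp [hj, hjS, pexp_X]

/-- one step -/
theorem towerHom_pexp_single (i : σ) :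
    TowerHom p 1 (pexp p R {i} : MvPolynomial σ R →+* MvPolynomial σ R) := by
  have h0 : (X ^ p - C (MvPolynomial.X i : MvPolynomial σ R) : (MvPolynomial σ R)[X]).eval₂
      (pexp p R {i} : MvPolynomial σ R →+* MvPolynomial σ R) (MvPolynomial.X i) = 0 := by
    rw [eval₂_sub, eval₂_pow, eval₂_X, eval₂_C]
    change _ - pexp p R {i} (MvPolynomial.X i) = 0
    rw [pexp_X]
    simp
  let fwd : RootRing p (MvPolynomial σ R) (MvPolynomial.X i) →+* MvPolynomial σ R :=
    AdjoinRoot.lift (pexp p R {i} : MvPolynomial σ R →+* MvPolynomial σ R) (MvPolynomial.X i) h0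
  let bwd : MvPolynomial σ R →ₐ[R] RootRing p (MvPolynomial σ R) (MvPolynomial.X i) :=
    MvPolynomial.aeval (fun j => if j = i then AdjoinRoot.root _ else AdjoinRoot.of _ (MvPolynomial.X j))
  have hbwdC : ∀ r, bwd (MvPolynomial.C r) = AdjoinRoot.of _ (MvPolynomial.C r) := by
    intro r
    simp only [bwd, MvPolynomial.aeval_C]
    rfl
  have h1 : fwd.comp (bwd : MvPolynomial σ R →+* _) = RingHom.id _ := by
    refine MvPolynomial.ringHom_ext (fun r => ?_) (fun j => ?_)
    · simp only [RingHom.comp_apply, RingHom.coe_coe, hbwdC, RingHom.id_apply, fwd,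
        AdjoinRoot.lift_of, pexp_C]
    · simp only [RingHom.comp_apply, RingHom.coe_coe, RingHom.id_apply, bwd, MvPolynomial.aeval_X]
      by_cases hj : j = i
      · subst hj
        simp [fwd]
      · simp [fwd, hj, pexp_X]
  have h2 : (bwd : MvPolynomial σ R →+* _).comp fwd = RingHom.id _ := by
    refine AdjoinRoot.ringHom_ext ?_ ?_
    · refine MvPolynomial.ringHom_ext (fun r => ?_) (fun j => ?_)
      · simp only [RingHom.comp_apply, RingHom.coe_coe, RingHom.id_apply, fwd,
          AdjoinRoot.lift_of, pexp_C, hbwdC]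
      · simp only [RingHom.comp_apply, RingHom.coe_coe, RingHom.id_apply, fwd,
          AdjoinRoot.lift_of, pexp_X]
        by_cases hj : j = i
        · subst hj
          simp [bwd, root_pow]
        · simp [bwd, hj]
    · simp [fwd, bwd]
  exact TowerHom.one p _ (MvPolynomial.X i) (RingEquiv.ofRingHom fwd (bwd : MvPolynomial σ R →+* _) h1 h2)
    (fun x => by simp [fwd])

theorem towerHom_pexp (S : Finset σ) :
    TowerHom p S.card (pexp p R S : MvPolynomial σ R →+* MvPolynomial σ R) := by
  induction S using Finset.induction_on with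
  | empty =>
    rw [pexp_empty, Finset.card_empty]
    exact TowerHom.zero_of_bijective p _ Function.bijective_id
  | insert i S hi ih =>
    rw [Finset.card_insert_of_notMem hi, Nat.add_comm, pexp_insert p R S i hi]
    exact (towerHom_pexp_single p R i).comp ih

end Poly

section Frob
open FrobAlg Groth.Agent.Lib.Helper25.FrobEtale

variable (p : ℕ) [Fact p.Prime]

theorem towerHom_frobenius_mvPolynomial {σ : Type} [DecidableEq σ] [Fintype σ] (k : Type u)
    [CommRing k] [CharP k p] [PerfectRing k p] :
    TowerHom p (Fintype.card σ) (frobenius (MvPolynomial σ k) p) := by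
  have h := towerHom_pexp p k (Finset.univ : Finset σ)
  rw [Finset.card_univ] at h
  refine h.of_ringEquiv (RingEquiv.refl _) (MvPolynomial.mapEquiv σ (frobeniusEquiv k p)) _
    (fun x => ?_)
  have : ((MvPolynomial.mapEquiv σ (frobeniusEquiv k p)) : MvPolynomial σ k →+* _).comp
      (pexp p k (Finset.univ : Finset σ) : MvPolynomial σ k →+* MvPolynomial σ k) =
      frobenius (MvPolynomial σ k) p := by
    refine MvPolynomial.ringHom_ext (fun r => ?_) (fun j => ?_)
    · simp [pexp_C, frobenius_def]
    · simp [pexp_X, frobenius_def]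
  exact RingHom.congr_fun this x

theorem towerHom_frobenius_of_etale (n : ℕ) (k : Type u) [CommRing k] [CharP k p]
    [PerfectRing k p] (C : Type u) [CommRing C] [Algebra (MvPolynomial (Fin n) k) C]
    [Algebra.Etale (MvPolynomial (Fin n) k) C] [CharP C p] :
    TowerHom p n (frobenius C p) := by
  have h0 := towerHom_frobenius_mvPolynomial p (σ := Fin n) k
  rw [Fintype.card_fin] at h0
  have h1 : IsRootTower p n (MvPolynomial (Fin n) k) (Twist p (MvPolynomial (Fin n) k)) :=
    (towerHom_algebraMap p n).mp
      (h0.of_ringEquiv (RingEquiv.refl _) (toTwist p (MvPolynomial (Fin n) k))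
        (algebraMap _ (Twist p (MvPolynomial (Fin n) k))) (fun x => rfl))
  have h2 : IsRootTower p n C (C ⊗[MvPolynomial (Fin n) k] Twist p (MvPolynomial (Fin n) k)) :=
    baseChange p n h1
  have hbij := relFrob_bijective_of_etale p (MvPolynomial (Fin n) k) C
  refine ((towerHom_algebraMap p n).mpr h2).of_ringEquiv (RingEquiv.refl C)
    (RingEquiv.ofBijective (relFrob p (MvPolynomial (Fin n) k) C) hbij) (frobenius C p)
    (fun x => ?_)
  change relFrob p (MvPolynomial (Fin n) k) C (x ⊗ₜ 1) = _
  rw [relFrob_tmul, map_one, map_one, mul_one, frobenius_def]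
  rfl

end Frob

section Local

variable (p : ℕ) [Fact p.Prime] (k : Type u) [Field k] [CharP k p] [PerfectRing k p]
  (A : Type u) [CommRing A] [Algebra k A] [CharP A p] [Algebra.Smooth k A]

theorem charP_away (f : A) (q : Ideal A) [q.IsPrime] (hf : f ∉ q) :
    CharP (Localization.Away f) p := by
  haveI : Nontrivial (Localization.Away f) := by
    rw [← not_subsingleton_iff_nontrivial, IsLocalization.subsingleton_iff (M := Submonoid.powers f)]
    rintro ⟨n, hn⟩
    exact hf (Ideal.IsPrime.mem_of_pow_mem ‹_› n (by rw [show f ^ n = 0 from hn]; exact q.zero_mem))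
  exact (CharP.charP_iff_prime_eq_zero Fact.out).mpr (by
    rw [← map_natCast (algebraMap A (Localization.Away f)), CharP.cast_eq_zero, map_zero])

include k in
theorem exists_local (q : Ideal A) [q.IsPrime] :
    ∃ f ∉ q, ∃ n : ℕ, ∀ [CharP (Localization.Away f) p],
      TowerHom p n (frobenius (Localization.Away f) p) := by
  haveI : Algebra.IsSmoothAt k q := by
    have := Algebra.smoothLocus_eq_univ (R := k) (A := A)
    exact Set.eq_univ_iff_forall.mp this ⟨q, inferInstance⟩
  obtain ⟨f, hf, n, alg, tow, he⟩ := Algebra.IsSmoothAt.exists_isStandardEtale_mvPolynomial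
    (R := k) (S := A) (p := q)
  refine ⟨f, hf, n, ?_⟩
  intro _
  haveI : Algebra.Etale (MvPolynomial (Fin n) k) (Localization.Away f) := inferInstance
  exact towerHom_frobenius_of_etale p n k (Localization.Away f)

end Local

section Sch

variable (p : ℕ) [Fact p.Prime] (A : Type u) [CommRing A] [CharP A p]

theorem frob_appTop (a : A) :
    (Spec.map (CommRingCat.ofHom (frobenius A p))).appTop
      ((Scheme.ΓSpecIso (CommRingCat.of A)).inv a) =
    (Scheme.ΓSpecIso (CommRingCat.of A)).inv (a ^ p) := by
  have := Scheme.ΓSpecIso_inv_naturality (CommRingCat.ofHom (frobenius A p))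
  have h2 := congrArg (fun φ => φ.hom a) this
  simp only [CommRingCat.hom_comp, RingHom.comp_apply] at h2
  rw [← h2]
  rfl

theorem frob_preimage (f : A) :
    (Spec.map (CommRingCat.ofHom (frobenius A p))) ⁻¹ᵁ
      ((Spec (CommRingCat.of A)).basicOpen ((Scheme.ΓSpecIso (CommRingCat.of A)).inv f)) =
    (Spec (CommRingCat.of A)).basicOpen ((Scheme.ΓSpecIso (CommRingCat.of A)).inv f) := by
  rw [Scheme.preimage_basicOpen_top, frob_appTop, map_pow,
    Scheme.basicOpen_pow _ _ (Fact.out : p.Prime).pos]

theorem spec_frob_tower (f : A) (n : ℕ) [CharP (Localization.Away f) p]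
    (h : TowerHom p n (frobenius (Localization.Away f) p)) :
    TowerHom p n ((Spec.map (CommRingCat.ofHom (frobenius A p))).app
      ((Spec (CommRingCat.of A)).basicOpen ((Scheme.ΓSpecIso (CommRingCat.of A)).inv f))).hom := by
  set X := Spec (CommRingCat.of A) with hX
  set F := Spec.map (CommRingCat.ofHom (frobenius A p)) with hF
  set r := (Scheme.ΓSpecIso (CommRingCat.of A)).inv f with hr
  let ι : A ≃+* Γ(X, ⊤) := (Scheme.ΓSpecIso (CommRingCat.of A)).symm.commRingCatIsoToRingEquiv
  have hι : ∀ a, ι a = (Scheme.ΓSpecIso (CommRingCat.of A)).inv a := fun a => rfl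
  let σ : Localization.Away f ≃+* Γ(X, X.basicOpen r) :=
    IsLocalization.ringEquivOfRingEquiv (M := Submonoid.powers f) (T := Submonoid.powers r)
      (Localization.Away f) Γ(X, X.basicOpen r) ι (by
        rw [Submonoid.map_powers]
        rfl)
  have hσ : ∀ a, σ (algebraMap A _ a) = algebraMap Γ(X, ⊤) Γ(X, X.basicOpen r) (ι a) :=
    fun a => IsLocalization.ringEquivOfRingEquiv_eq _ a
  have hUV : F ⁻¹ᵁ (X.basicOpen r) = X.basicOpen r := frob_preimage p A f
  let ρ : Γ(X, X.basicOpen r) ≃+* Γ(X, F ⁻¹ᵁ (X.basicOpen r)) :=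
    (X.presheaf.mapIso (eqToIso hUV).op).commRingCatIsoToRingEquiv
  refine h.of_ringEquiv σ (σ.trans ρ) _ (fun c => ?_)
  have : ((σ.trans ρ : Localization.Away f →+* _).comp (frobenius (Localization.Away f) p)) =
      (F.app (X.basicOpen r)).hom.comp (σ : Localization.Away f →+* _) := by
    refine IsLocalization.ringHom_ext (Submonoid.powers f) ?_
    refine RingHom.ext fun a => ?_
    simp only [RingHom.comp_apply, RingHom.coe_coe, frobenius_def, ← map_pow, hσ,
      RingEquiv.trans_apply]
    change (X.presheaf.map (eqToHom hUV).op).hom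
        ((X.presheaf.map (homOfLE (X.basicOpen_le r)).op).hom (ι (a ^ p))) =
      (F.app (X.basicOpen r)).hom ((X.presheaf.map (homOfLE (X.basicOpen_le r)).op).hom (ι a))
    have e1 := congrArg (fun φ => φ.hom (ι a))
      (Scheme.Hom.naturality F (homOfLE (X.basicOpen_le r)).op)
    simp only [CommRingCat.hom_comp, RingHom.comp_apply] at e1
    rw [e1]
    have e2 := frob_appTop p A a
    change (F.app ⊤).hom (ι a) = ι (a ^ p) at e2
    rw [e2, ← CommRingCat.comp_apply, ← Functor.map_comp]
    rfl
  exact RingHom.congr_fun this c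

end Sch

section Final
open FrobAlg Groth.Agent.Lib.Helper25.FrobEtale

variable (p : ℕ) [Fact p.Prime] (k : Type u) [Field k] [CharP k p] [PerfectRing k p]
  (A : Type u) [CommRing A] [Algebra k A] [CharP A p] [Algebra.Smooth k A]

include k in
theorem frobenius_flat : (frobenius A p).Flat := by
  have hb : Function.Bijective (algebraMap k (Twist p k)) := by
    change Function.Bijective ((toTwist p k : k →+* Twist p k).comp (frobenius k p))
    exact (toTwist p k).bijective.comp (bijective_frobenius k p)
  let e : k ≃ₐ[k] Twist p k := AlgEquiv.ofBijective (Algebra.ofId k (Twist p k)) hb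
  let E : A ≃ₐ[A] A ⊗[k] Twist p k :=
    (Algebra.TensorProduct.rid k A A).symm.trans
      (Algebra.TensorProduct.congr (AlgEquiv.refl : A ≃ₐ[A] A) e)
  have hcomp : frobenius A p = (relFrob p k A).comp (E : A →+* A ⊗[k] Twist p k) := by
    refine RingHom.ext fun a => ?_
    have hE : E a = a ⊗ₜ (1 : Twist p k) := by
      simp [E, e]
    rw [RingHom.comp_apply]
    change _ = relFrob p k A (E a)
    rw [hE, relFrob_tmul, map_one, map_one, mul_one, frobenius_def]
  rw [hcomp]
  exact RingHom.Flat.comp (RingHom.Flat.of_bijective E.bijective)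
    (Groth.Agent.Lib.Helper25.RelFrobFlat.flat_relFrob_of_smooth p k A)

theorem comap_frobenius_eq (q : PrimeSpectrum A) :
    PrimeSpectrum.comap (frobenius A p) q = q := by
  ext a
  change a ^ p ∈ q.asIdeal ↔ a ∈ q.asIdeal
  exact ⟨fun h => q.isPrime.mem_of_pow_mem _ h, fun h => Ideal.pow_mem_of_mem _ h _ (Fact.out : p.Prime).pos⟩

end Final

end Helpers

open Groth.Agent.Lib.Helper25.QuietTower in
/-- Let `k` be a perfect field of prime characteristic `p` and `A` a smooth `k`-algebra of
characteristic `p`. Then the Frobenius endomorphism `a ↦ a ^ p` of `A` is faithfully flat, and the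
endomorphism of `Spec A` it induces is an extraction of `p`-th roots: every point has an affine open
neighbourhood with affine preimage over which the induced ring map is a tower of finitely many
elementary extractions `B → B[x]/(x^p - b)`. -/
theorem result (p : ℕ) [Fact p.Prime]
    (k : Type u) [Field k] [CharP k p] [PerfectRing k p] (A : Type u) [CommRing A] [Algebra k A]
    [CharP A p] [Algebra.Smooth k A] :
    (frobenius A p).FaithfullyFlat ∧
      Quiet.IsPthRoot p (Spec.map (CommRingCat.ofHom (frobenius A p))) := by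
  refine ⟨?_, ?_⟩
  · rw [RingHom.FaithfullyFlat.iff_flat_and_comap_surjective]
    exact ⟨frobenius_flat p k A, fun q => ⟨q, comap_frobenius_eq p A q⟩⟩
  · intro x
    haveI : x.asIdeal.IsPrime := x.isPrime
    obtain ⟨f, hf, n, hn⟩ := exists_local p k A x.asIdeal
    haveI := charP_away p A f x.asIdeal hf
    have hU : IsAffineOpen ((Spec (CommRingCat.of A)).basicOpen
        ((Scheme.ΓSpecIso (CommRingCat.of A)).inv f)) :=
      (isAffineOpen_top _).basicOpen _
    refine ⟨⟨_, hU⟩, ?_, ?_, n, spec_frob_tower p A f n hn⟩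
    · change x ∈ (Spec (CommRingCat.of A)).basicOpen
        ((Scheme.ΓSpecIso (CommRingCat.of A)).inv f)
      rw [basicOpen_eq_of_affine]
      exact hf
    · exact hU.preimage _

end Groth.Agent.S15046
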