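import Groth.Statements.S15047
import Mathlib.RingTheory.Flat.FaithfullyFlat.Algebra
import Mathlib.LinearAlgebra.TensorProduct.Associator

set_option autoImplicit false
universe u
open TensorProduct
open Desc

namespace Groth.Agent.S15047


section aux

variable (A A' : Type u) [CommRing A] [CommRing A'] [Algebra A A']
variable (N : Type u) [AddCommGroup N] [Module A N]

/-- `a ⊗ y ↦ a • y` -/
private noncomputable def μ (P : Type u) [AddCommGroup P] [Module A P] :
    A' ⊗[A] (A' ⊗[A] P) →ₗ[A] A' ⊗[A] P :=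
  TensorProduct.lift (Algebra.lsmul A A (A' ⊗[A] P)).toLinearMap

private lemma μ_tmul (P : Type u) [AddCommGroup P] [Module A P] (a b : A') (n : P) :
    μ A A' P (a ⊗ₜ[A] (b ⊗ₜ[A] n)) = (a * b) ⊗ₜ[A] n := by
  simp [μ, TensorProduct.smul_tmul']

private noncomputable def α : N →ₗ[A] A' ⊗[A] N := TensorProduct.mk A A' N 1

private noncomputable def β : A' ⊗[A] N →ₗ[A] (A' ⊗[A] A') ⊗[A] N :=
  LinearMap.rTensor N (Algebra.TensorProduct.includeLeft : A' →ₐ[A] A' ⊗[A] A').toLinearMap -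
    LinearMap.rTensor N (Algebra.TensorProduct.includeRight : A' →ₐ[A] A' ⊗[A] A').toLinearMap

private lemma β_tmul (b : A') (n : N) :
    β A A' N (b ⊗ₜ[A] n) = (b ⊗ₜ[A] (1 : A')) ⊗ₜ[A] n - ((1 : A') ⊗ₜ[A] b) ⊗ₜ[A] n := by
  simp [β]

/-- `a ⊗ ((b ⊗ c) ⊗ n) ↦ ab ⊗ (c ⊗ n)` -/
private noncomputable def ν : A' ⊗[A] ((A' ⊗[A] A') ⊗[A] N) →ₗ[A] A' ⊗[A] (A' ⊗[A] N) :=
  (μ A A' (A' ⊗[A] N)).comp (LinearMap.lTensor A' (TensorProduct.assoc A A' A' N).toLinearMap)

private lemma ν_tmul (a b c : A') (n : N) :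
    ν A A' N (a ⊗ₜ[A] ((b ⊗ₜ[A] c) ⊗ₜ[A] n)) = (a * b) ⊗ₜ[A] (c ⊗ₜ[A] n) := by
  simp [ν, μ_tmul]

private lemma homotopy (z : A' ⊗[A] (A' ⊗[A] N)) :
    ν A A' N ((β A A' N).lTensor A' z) = (α A A' N).lTensor A' (μ A A' N z) - z := by
  induction z using TensorProduct.induction_on with
  | zero => simp
  | tmul a y =>
    induction y using TensorProduct.induction_on with
    | zero => simp
    | tmul b n =>
      rw [LinearMap.lTensor_tmul, β_tmul, TensorProduct.tmul_sub, map_sub, ν_tmul, ν_tmul, μ_tmul,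
        LinearMap.lTensor_tmul, mul_one]
      rfl
    | add y₁ y₂ h₁ h₂ =>
      rw [TensorProduct.tmul_add, map_add, map_add, h₁, h₂, map_add, map_add]; abel
  | add z₁ z₂ h₁ h₂ => rw [map_add, map_add, h₁, h₂, map_add, map_add]; abel

private lemma amitsur [Module.FaithfullyFlat A A'] (y : A' ⊗[A] N)
    (hy : LinearMap.rTensor N (Algebra.TensorProduct.includeLeft : A' →ₐ[A] A' ⊗[A] A').toLinearMap y =
      LinearMap.rTensor N (Algebra.TensorProduct.includeRight : A' →ₐ[A] A' ⊗[A] A').toLinearMap y) :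
    ∃ n : N, (1 : A') ⊗ₜ[A] n = y := by
  have hex : Function.Exact (α A A' N) (β A A' N) := by
    apply Module.FaithfullyFlat.lTensor_reflects_exact A A'
    intro z
    constructor
    · intro hz
      refine ⟨μ A A' N z, ?_⟩
      have := homotopy A A' N z
      rw [hz, map_zero] at this
      exact (sub_eq_zero.1 this.symm)
    · rintro ⟨w, rfl⟩
      induction w using TensorProduct.induction_on with
      | zero => simp
      | tmul a n =>
        rw [LinearMap.lTensor_tmul, LinearMap.lTensor_tmul]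
        have : β A A' N (α A A' N n) = 0 := by
          change β A A' N ((1 : A') ⊗ₜ[A] n) = 0
          rw [β_tmul, sub_self]
        rw [this, TensorProduct.tmul_zero]
      | add w₁ w₂ h₁ h₂ => rw [map_add, map_add, h₁, h₂, add_zero]
  have h0 : β A A' N y = 0 := by
    rw [β, LinearMap.sub_apply, hy, sub_self]
  obtain ⟨n, hn⟩ := (hex y).1 h0
  exact ⟨n, hn⟩

end aux

/-- Let A → A' be a faithfully flat homomorphism of commutative rings and M, N any A-modules. An
A'-linear map f : A' ⊗_A M → A' ⊗_A N whose two base changes to A' ⊗_A A' (along a ↦ a ⊗ 1 and a ↦ 1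
⊗ a) coincide is the base change of a unique A-linear map h : M → N. Since (A' ⊗_A A') ⊗_A M is
generated over A' ⊗_A A' by the elements 1 ⊗ m, the agreement of the two base changes is stated on
these generators: for every m, the two images of f (1 ⊗ m) in (A' ⊗_A A') ⊗_A N agree. Equivalently,
the sequence Hom_A(M, N) → Hom_{A'}(A' ⊗ M, A' ⊗ N) ⇉ Hom_{A' ⊗ A'}(A' ⊗ A' ⊗ M, A' ⊗ A' ⊗ N) is an
equalizer diagram. -/
theorem result (A A' : Type u) [CommRing A] [CommRing A'] [Algebra A A']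
    [Module.FaithfullyFlat A A'] (M N : Type u) [AddCommGroup M] [Module A M] [AddCommGroup N] [Module A N]
    (f : A' ⊗[A] M →ₗ[A'] A' ⊗[A] N)
    (hf : ∀ m : M,
      LinearMap.rTensor N (Algebra.TensorProduct.includeLeft : A' →ₐ[A] A' ⊗[A] A').toLinearMap (f (1 ⊗ₜ[A] m)) =
        LinearMap.rTensor N (Algebra.TensorProduct.includeRight : A' →ₐ[A] A' ⊗[A] A').toLinearMap (f (1 ⊗ₜ[A] m))) :
    ∃! h : M →ₗ[A] N, h.baseChange A' = f := by
  have hinj : Function.Injective (TensorProduct.mk A A' N 1) :=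
    Module.FaithfullyFlat.tensorProduct_mk_injective (A := A) (B := A') N
  choose h₀ hh₀ using fun m => amitsur A A' N (f (1 ⊗ₜ[A] m)) (hf m)
  let h : M →ₗ[A] N :=
    { toFun := h₀
      map_add' := fun x y => by
        apply hinj
        change (1 : A') ⊗ₜ[A] h₀ (x + y) = (1 : A') ⊗ₜ[A] (h₀ x + h₀ y)
        rw [TensorProduct.tmul_add, hh₀, hh₀, hh₀, TensorProduct.tmul_add, map_add]
      map_smul' := fun a x => by
        apply hinj
        change (1 : A') ⊗ₜ[A] h₀ (a • x) = (1 : A') ⊗ₜ[A] (a • h₀ x)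
        rw [TensorProduct.tmul_smul, hh₀, hh₀, TensorProduct.tmul_smul,
          ← algebraMap_smul A' a ((1 : A') ⊗ₜ[A] x), map_smul, algebraMap_smul] }
  have hh : ∀ m, h m = h₀ m := fun m => rfl
  refine ⟨h, ?_, ?_⟩
  · apply TensorProduct.AlgebraTensorModule.ext
    intro a m
    rw [LinearMap.baseChange_tmul, hh]
    have : a ⊗ₜ[A] m = a • ((1 : A') ⊗ₜ[A] m) := by
      rw [TensorProduct.smul_tmul', smul_eq_mul, mul_one]
    rw [this, map_smul, ← hh₀ m, TensorProduct.smul_tmul', smul_eq_mul, mul_one]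
  · intro h' hh'
    ext m
    apply hinj
    change (1 : A') ⊗ₜ[A] h' m = (1 : A') ⊗ₜ[A] h m
    rw [hh, hh₀, ← hh', LinearMap.baseChange_tmul]

end Groth.Agent.S15047
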