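import Groth.Statements.S15056
import Mathlib

set_option autoImplicit false
universe u
open scoped TensorProduct
open FrobAlg

namespace Groth.Agent.S15056

/-- the augmentation `K ⊗ A → K` -/
noncomputable def φ (R : Type u) [CommRing R] (A : Type u) [CommRing A] [HopfAlgebra R A]
    (K : Type u) [Field K] [Algebra R K] : K ⊗[R] A →ₐ[K] K :=
  Algebra.TensorProduct.lift (AlgHom.id K K)
    ((Algebra.ofId R K).comp (Bialgebra.counitAlgHom R A)) (fun _ _ => .all _ _)

theorem sub_nilpotent (p : ℕ) (R : Type u) [CommRing R]
    (A : Type u) [CommRing A] [HopfAlgebra R A] (K : Type u) [Field K] [Algebra R K] (n : ℕ)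
    (hn : ∀ a : A, Bialgebra.counitAlgHom R A a = 0 → a ^ p ^ n = 0) (z : K ⊗[R] A) :
    IsNilpotent (z - algebraMap K (K ⊗[R] A) (φ R A K z)) := by
  induction z using TensorProduct.induction_on with
  | zero => simp
  | tmul c a =>
    have e : c ⊗ₜ[R] a - algebraMap K (K ⊗[R] A) (φ R A K (c ⊗ₜ[R] a)) =
        (c ⊗ₜ[R] (1 : A)) * ((1 : K) ⊗ₜ[R] (a - algebraMap R A (Bialgebra.counitAlgHom R A a))) := by
      rw [Algebra.TensorProduct.tmul_mul_tmul, mul_one, one_mul, TensorProduct.tmul_sub]
      congr 1
      simp only [φ, Algebra.TensorProduct.lift_tmul, AlgHom.coe_id, id_eq, AlgHom.comp_apply,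
        Algebra.ofId_apply, Algebra.TensorProduct.algebraMap_apply, Algebra.algebraMap_self,
        RingHom.id_apply]
      rw [Algebra.algebraMap_eq_smul_one (R := R) (A := K), mul_smul_comm, mul_one,
        TensorProduct.smul_tmul, Algebra.algebraMap_eq_smul_one]
    rw [e]
    apply Commute.isNilpotent_mul_left (Commute.all _ _)
    refine ⟨p ^ n, ?_⟩
    rw [Algebra.TensorProduct.tmul_pow, one_pow, hn, TensorProduct.tmul_zero]
    rw [map_sub, AlgHom.commutes, Algebra.algebraMap_self, RingHom.id_apply, sub_self]
  | add z w hz hw =>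
    have e : z + w - algebraMap K (K ⊗[R] A) (φ R A K (z + w)) =
        (z - algebraMap K (K ⊗[R] A) (φ R A K z)) + (w - algebraMap K (K ⊗[R] A) (φ R A K w)) := by
      rw [map_add, map_add]; ring
    rw [e]
    exact Commute.isNilpotent_add (Commute.all _ _) hz hw


/-- Let p be a prime number, R a Noetherian ring of characteristic p and A a finitely generated
commutative Hopf algebra over R (an affine algebraic R-group G = Spec A). The n-fold relative
Frobenius of G is the trivial homomorphism exactly when a^(p^n) = 0 for every a in the augmentation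
ideal; G has finite Frobenius height when this holds for some n. Then G has finite Frobenius height
if and only if A is a finite R-module and, for every algebraically closed field K and every ring
homomorphism R → K, the base change K ⊗_R A is a local ring (G is finite over R with connected
geometric fibres). -/
theorem result (p : ℕ) [Fact p.Prime] (R : Type u) [CommRing R] [CharP R p]
    [IsNoetherianRing R] (A : Type u) [CommRing A] [HopfAlgebra R A] [Algebra.FiniteType R A] :
    (∃ n : ℕ, ∀ a : A, Bialgebra.counitAlgHom R A a = 0 → a ^ p ^ n = 0) ↔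
      (Module.Finite R A ∧ ∀ (K : Type u) [Field K] [IsAlgClosed K] [Algebra R K], IsLocalRing (K ⊗[R] A)) := by
  constructor
  · rintro ⟨n, hn⟩
    refine ⟨?_, ?_⟩
    · have hint : Algebra.IsIntegral R A := by
        constructor
        intro a
        have h1 : IsIntegral R (a - algebraMap R A (Bialgebra.counitAlgHom R A a)) := by
          apply IsIntegral.of_pow (n := p ^ n) (pow_pos (Fact.out : p.Prime).pos n)
          rw [hn _ (by rw [map_sub, AlgHom.commutes, Algebra.algebraMap_self, RingHom.id_apply,
            sub_self])]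
          exact isIntegral_zero
        have h2 : IsIntegral R (algebraMap R A (Bialgebra.counitAlgHom R A a)) :=
          isIntegral_algebraMap
        have := h1.add h2
        rwa [sub_add_cancel] at this
      exact Algebra.IsIntegral.finite
    · intro K _ _ _
      have hsurj : Function.Surjective (φ R A K) := by
        intro c
        exact ⟨c ⊗ₜ[R] (1 : A), by simp [φ]⟩
      have hnt : Nontrivial (K ⊗[R] A) := by
        refine ⟨⟨0, 1, fun h => ?_⟩⟩
        have := congrArg (φ R A K) h
        simp at this
      apply IsLocalRing.of_isUnit_or_isUnit_one_sub_self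
      have key : ∀ z : K ⊗[R] A, φ R A K z ≠ 0 → IsUnit z := by
        intro z hz
        have h1 := sub_nilpotent p R A K n hn z
        have h2 : IsUnit (algebraMap K (K ⊗[R] A) (φ R A K z)) :=
          (isUnit_iff_ne_zero.mpr hz).map _
        have := h1.isUnit_add_left_of_commute h2 (Commute.all _ _)
        rwa [add_sub_cancel] at this
      intro z
      by_cases hz : φ R A K z = 0
      · right
        apply key
        rw [map_sub, map_one, hz, sub_zero]
        exact one_ne_zero
      · left
        exact key z hz
  · rintro ⟨hfin, hloc⟩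
    have hnoeth : IsNoetherianRing A := Algebra.FiniteType.isNoetherianRing R A
    set I := RingHom.ker (Bialgebra.counitAlgHom R A) with hI
    have hle : I ≤ nilradical A := by
      intro a ha
      rw [nilradical_eq_sInf, Ideal.mem_sInf]
      intro 𝔮 h𝔮
      have h𝔮' : 𝔮.IsPrime := h𝔮
      let K := AlgebraicClosure 𝔮.ResidueField
      let g₀ : A →+* K := (algebraMap 𝔮.ResidueField K).comp (algebraMap A 𝔮.ResidueField)
      let _ : Algebra R K := (g₀.comp (algebraMap R A)).toAlgebra
      let g : A →ₐ[R] K := { g₀ with commutes' := fun r => rfl }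
      have hl : IsLocalRing (K ⊗[R] A) := hloc K
      let ψ : K ⊗[R] A →ₐ[K] K :=
        Algebra.TensorProduct.lift (AlgHom.id K K) g (fun _ _ => .all _ _)
      have hψsurj : Function.Surjective ψ := by
        intro c
        exact ⟨c ⊗ₜ[R] (1 : A), by simp [ψ]⟩
      have hφsurj : Function.Surjective (φ R A K) := by
        intro c
        exact ⟨c ⊗ₜ[R] (1 : A), by simp [φ]⟩
      have h1 : (RingHom.ker (ψ : K ⊗[R] A →+* K)).IsMaximal :=
        RingHom.ker_isMaximal_of_surjective _ hψsurj
      have h2 : (RingHom.ker (φ R A K : K ⊗[R] A →+* K)).IsMaximal :=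
        RingHom.ker_isMaximal_of_surjective _ hφsurj
      have h3 : RingHom.ker (ψ : K ⊗[R] A →+* K) = RingHom.ker (φ R A K : K ⊗[R] A →+* K) := by
        rw [IsLocalRing.eq_maximalIdeal h1, IsLocalRing.eq_maximalIdeal h2]
      have h4 : (1 : K) ⊗ₜ[R] a ∈ RingHom.ker (φ R A K : K ⊗[R] A →+* K) := by
        rw [RingHom.mem_ker]
        have ha' : Bialgebra.counitAlgHom R A a = 0 := ha
        show φ R A K ((1 : K) ⊗ₜ[R] a) = 0
        simp [φ, ha']
      rw [← h3, RingHom.mem_ker] at h4
      have h5 : g₀ a = 0 := by
        have : ψ ((1 : K) ⊗ₜ[R] a) = g a := by simp [ψ]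
        have h6 : ψ ((1 : K) ⊗ₜ[R] a) = 0 := h4
        rw [this] at h6
        exact h6
      have h6 : algebraMap A 𝔮.ResidueField a = 0 :=
        (map_eq_zero_iff _ (algebraMap 𝔮.ResidueField K).injective).mp h5
      exact Ideal.algebraMap_residueField_eq_zero.mp h6
    have hfg : I.FG := IsNoetherian.noetherian _
    obtain ⟨N, hN⟩ := (Ideal.FG.isNilpotent_iff_le_nilradical hfg).mpr hle
    refine ⟨N, ?_⟩
    intro a ha
    have haI : a ∈ I := ha
    have h1 : a ^ p ^ N ∈ I ^ (p ^ N) := Ideal.pow_mem_pow haI _
    have h2 : N ≤ p ^ N := (Nat.lt_pow_self (Fact.out : p.Prime).one_lt).le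
    have h3 := Ideal.pow_le_pow_right h2 h1
    rw [hN] at h3
    exact h3

end Groth.Agent.S15056
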