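import Groth.Statements.S15057
import Mathlib
-- import your own Groth.Agent.* helpers here

set_option autoImplicit false
set_option linter.unusedSectionVars false
set_option linter.style.haveILetI false
set_option linter.unusedVariables false
universe u
open CategoryTheory CategoryTheory.Limits
open Desc

namespace Groth.Agent.S15057

noncomputable section

variable (R A : Type u) [CommRing R] [CommRing A] [Algebra R A]

abbrev arr : Arrow CommRingCat.{u} := Arrow.mk (CommRingCat.ofHom (algebraMap R A))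

abbrev X : CosimplicialObject CommRingCat.{u} := (arr R A).cechConerve

def Xn (n : ℕ) : Type u := ((X R A).obj (SimplexCategory.mk n) : CommRingCat.{u})

instance (n : ℕ) : CommRing (Xn R A n) :=
  inferInstanceAs (CommRing ((X R A).obj (SimplexCategory.mk n) : CommRingCat.{u}))

/-- head -/
def hd (n : ℕ) : R →+* Xn R A n :=
  (WidePushout.head (fun _ : Fin (n+1) => (arr R A).hom)).hom

/-- inclusions -/
def inc (n : ℕ) (i : Fin (n+1)) : A →+* Xn R A n :=
  (WidePushout.ι (fun _ : Fin (n+1) => (arr R A).hom) i).hom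

lemma inc_algebraMap (n : ℕ) (i : Fin (n+1)) (r : R) :
    inc R A n i (algebraMap R A r) = hd R A n r := by
  have := WidePushout.arrow_ι (fun _ : Fin (n+1) => (arr R A).hom) i
  exact congr($(this).hom r)

lemma xn_hom_ext {S : Type u} [CommRing S] (n : ℕ) (f g : Xn R A n →+* S)
    (h : ∀ i a, f (inc R A n i a) = g (inc R A n i a)) : f = g := by
  have key : (CommRingCat.ofHom f : (X R A).obj (SimplexCategory.mk n) ⟶ CommRingCat.of S) =
      CommRingCat.ofHom g := by
    apply WidePushout.hom_ext
    · intro j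
      ext a
      exact h j a
    · ext r
      have := h 0 (algebraMap R A r)
      rw [inc_algebraMap] at this
      exact this
  exact congr($(key).hom)

/-- descent -/
def xdesc {S : Type u} [CommRing S] (n : ℕ) (g : Fin (n+1) → (A →+* S))
    (hg : ∀ i r, g i (algebraMap R A r) = g 0 (algebraMap R A r)) : Xn R A n →+* S :=
  (WidePushout.desc (arrows := fun _ : Fin (n+1) => (arr R A).hom)
    (X := CommRingCat.of S)
    (CommRingCat.ofHom ((g 0).comp (algebraMap R A)))
    (fun i => CommRingCat.ofHom (g i))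
    (fun i => by ext r; exact hg i r)).hom

lemma xdesc_inc {S : Type u} [CommRing S] (n : ℕ) (g : Fin (n+1) → (A →+* S))
    (hg : ∀ i r, g i (algebraMap R A r) = g 0 (algebraMap R A r)) (i : Fin (n+1)) (a : A) :
    xdesc R A n g hg (inc R A n i a) = g i a := by
  have := WidePushout.ι_desc (arrows := fun _ : Fin (n+1) => (arr R A).hom)
    (X := CommRingCat.of S)
    (CommRingCat.ofHom ((g 0).comp (algebraMap R A)))
    (fun i => CommRingCat.ofHom (g i))
    (fun i => by ext r; exact hg i r) i
  exact congr($(this).hom a)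

/-- general structure map -/
def xmap {n m : ℕ} (g : SimplexCategory.mk n ⟶ SimplexCategory.mk m) : Xn R A n →+* Xn R A m :=
  ((X R A).map g).hom

lemma xmap_inc {n m : ℕ} (g : SimplexCategory.mk n ⟶ SimplexCategory.mk m) (j : Fin (n+1)) (a : A) :
    xmap R A g (inc R A n j a) = inc R A m (g.toOrderHom j) a := by
  have := WidePushout.ι_desc (arrows := fun _ : Fin (n+1) => (arr R A).hom)
    (WidePushout.head (fun _ : Fin (m+1) => (arr R A).hom))
    (fun i => WidePushout.ι (fun _ : Fin (m+1) => (arr R A).hom) (g.toOrderHom i))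
    (fun j => by rw [← WidePushout.arrow_ι]) j
  exact congr($(this).hom a)

/-- coface maps -/
def cof (n : ℕ) (i : Fin (n+2)) : Xn R A n →+* Xn R A (n+1) := ((X R A).δ i).hom

/-- codegeneracies -/
def cod (n : ℕ) (i : Fin (n+1)) : Xn R A (n+1) →+* Xn R A n := ((X R A).σ i).hom

lemma cof_inc (n : ℕ) (i : Fin (n+2)) (j : Fin (n+1)) (a : A) :
    cof R A n i (inc R A n j a) = inc R A (n+1) (i.succAbove j) a := 
  xmap_inc R A (SimplexCategory.δ i) j a

lemma cod_inc (n : ℕ) (i : Fin (n+1)) (j : Fin (n+2)) (a : A) :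
    cod R A n i (inc R A (n+1) j a) = inc R A n (i.predAbove j) a := 
  xmap_inc R A (SimplexCategory.σ i) j a

/-! cosimplicial identities -/

lemma cof_cof_zero (n : ℕ) (i : Fin (n+2)) (x : Xn R A n) :
    cof R A (n+1) i.succ (cof R A n 0 x) = cof R A (n+1) 0 (cof R A n i x) := by
  have := (X R A).δ_comp_δ (i := 0) (j := i) (Fin.zero_le _)
  exact congr($(this).hom x)

lemma cod_cof_one (n : ℕ) (x : Xn R A (n+1)) :
    cod R A (n+1) 0 (cof R A (n+1) 1 x) = x := by
  have := (X R A).δ_comp_σ_succ (i := (0 : Fin (n+2)))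
  exact congr($(this).hom x)

lemma cod_cof_succ_succ (n : ℕ) (j : Fin (n+2)) (x : Xn R A (n+2)) :
    cod R A (n+2) 0 (cof R A (n+2) j.succ.succ x) = cof R A (n+1) j.succ (cod R A (n+1) 0 x) := by
  have := (X R A).δ_comp_σ_of_gt (i := j.succ) (j := (0 : Fin (n+2))) (by simp)
  exact congr($(this).hom x)

/-! algebra structures -/

instance algR (n : ℕ) : Algebra R (Xn R A n) := (hd R A n).toAlgebra

lemma algebraMap_Xn (n : ℕ) (r : R) : algebraMap R (Xn R A n) r = hd R A n r := rfl

lemma cof_hd (n : ℕ) (i : Fin (n+2)) (r : R) : cof R A n i (hd R A n r) = hd R A (n+1) r := by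
  rw [← inc_algebraMap R A n 0, cof_inc, inc_algebraMap]

/-- inclusions as algebra homs -/
def incA (n : ℕ) (i : Fin (n+1)) : A →ₐ[R] Xn R A n :=
  { inc R A n i with commutes' := fun r => inc_algebraMap R A n i r }

/-- cofaces as algebra homs -/
def cofA (n : ℕ) (i : Fin (n+2)) : Xn R A n →ₐ[R] Xn R A (n+1) :=
  { cof R A n i with commutes' := fun r => cof_hd R A n i r }

@[simp] lemma incA_apply (n : ℕ) (i : Fin (n+1)) (a : A) : incA R A n i a = inc R A n i a := rfl
@[simp] lemma cofA_apply (n : ℕ) (i : Fin (n+2)) (x : Xn R A n) : cofA R A n i x = cof R A n i x := rfl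

open TensorProduct

/-- the comparison map -/
def phi (n : ℕ) : A ⊗[R] Xn R A n →ₐ[R] Xn R A (n+1) :=
  Algebra.TensorProduct.productMap (incA R A (n+1) 0) (cofA R A n 0)

lemma phi_tmul (n : ℕ) (a : A) (x : Xn R A n) :
    phi R A n (a ⊗ₜ x) = inc R A (n+1) 0 a * cof R A n 0 x := by
  simp [phi]

/-- the inverse -/
def psi (n : ℕ) : Xn R A (n+1) →+* A ⊗[R] Xn R A n :=
  xdesc R A (n+1)
    (Fin.cases (Algebra.TensorProduct.includeLeftRingHom)
      (fun j => (Algebra.TensorProduct.includeRight (R := R) (A := A) (B := Xn R A n)).toRingHom.comp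
        (inc R A n j)))
    (by
      intro i r
      refine Fin.cases ?_ (fun j => ?_) i
      · rfl
      · simp only [Fin.cases_succ, Fin.cases_zero, RingHom.coe_comp, Function.comp_apply,
          AlgHom.toRingHom_eq_coe, RingHom.coe_coe, Algebra.TensorProduct.includeRight_apply,
          Algebra.TensorProduct.includeLeftRingHom_apply]
        rw [inc_algebraMap, ← algebraMap_Xn, Algebra.algebraMap_eq_smul_one,
          Algebra.algebraMap_eq_smul_one, TensorProduct.tmul_smul, TensorProduct.smul_tmul'])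

lemma psi_inc_zero (n : ℕ) (a : A) : psi R A n (inc R A (n+1) 0 a) = a ⊗ₜ 1 := by
  rw [psi, xdesc_inc]; rfl

lemma psi_inc_succ (n : ℕ) (j : Fin (n+1)) (a : A) :
    psi R A n (inc R A (n+1) j.succ a) = 1 ⊗ₜ inc R A n j a := by
  rw [psi, xdesc_inc]; rfl

lemma psi_cof_zero (n : ℕ) (x : Xn R A n) : psi R A n (cof R A n 0 x) = 1 ⊗ₜ x := by
  have : (psi R A n).comp (cof R A n 0) =
      (Algebra.TensorProduct.includeRight (R := R) (A := A) (B := Xn R A n)).toRingHom := by
    apply xn_hom_ext
    intro i a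
    simp only [RingHom.coe_comp, Function.comp_apply, cof_inc, Fin.succAbove_zero, psi_inc_succ]
    rfl
  exact congr($this x)

lemma psi_phi (n : ℕ) (z : A ⊗[R] Xn R A n) : psi R A n (phi R A n z) = z := by
  induction z using TensorProduct.induction_on with
  | zero => simp
  | tmul a x =>
    rw [phi_tmul, map_mul, psi_inc_zero, psi_cof_zero, Algebra.TensorProduct.tmul_mul_tmul,
      mul_one, one_mul]
  | add z w hz hw => rw [map_add, map_add, hz, hw]

lemma phi_psi (n : ℕ) (y : Xn R A (n+1)) : phi R A n (psi R A n y) = y := by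
  have : (phi R A n).toRingHom.comp (psi R A n) = RingHom.id _ := by
    apply xn_hom_ext
    intro i a
    refine Fin.cases ?_ (fun j => ?_) i
    · simp only [RingHom.coe_comp, Function.comp_apply, psi_inc_zero, AlgHom.toRingHom_eq_coe,
        RingHom.coe_coe, phi_tmul, map_one, mul_one, RingHom.id_apply]
    · simp only [RingHom.coe_comp, Function.comp_apply, psi_inc_succ, AlgHom.toRingHom_eq_coe,
        RingHom.coe_coe, phi_tmul, map_one, one_mul, RingHom.id_apply, cof_inc, Fin.succAbove_zero]
  exact congr($this y)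

/-! differentials -/

/-- the differential, `R`-linear -/
def dd (n : ℕ) : Xn R A n →ₗ[R] Xn R A (n+1) :=
  ∑ i : Fin (n+2), ((-1 : ℤ) ^ (i : ℕ)) • (cofA R A n i).toLinearMap

lemma dd_apply (n : ℕ) (x : Xn R A n) :
    dd R A n x = ∑ i : Fin (n+2), ((-1 : ℤ) ^ (i : ℕ)) • cof R A n i x := by
  simp [dd, LinearMap.sum_apply]

/-- the shifted differential -/
def dd' (n : ℕ) : Xn R A (n+1) →+ Xn R A (n+2) :=
  ∑ i : Fin (n+2), ((-1 : ℤ) ^ (i : ℕ)) • (cof R A (n+1) i.succ).toAddMonoidHom

lemma dd'_apply (n : ℕ) (y : Xn R A (n+1)) :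
    dd' R A n y = ∑ i : Fin (n+2), ((-1 : ℤ) ^ (i : ℕ)) • cof R A (n+1) i.succ y := by
  simp [dd']

lemma dd'_inc_mul (n : ℕ) (a : A) (y : Xn R A (n+1)) :
    dd' R A n (inc R A (n+1) 0 a * y) = inc R A (n+2) 0 a * dd' R A n y := by
  rw [dd'_apply, dd'_apply, Finset.mul_sum]
  refine Finset.sum_congr rfl fun i _ => ?_
  rw [map_mul, cof_inc, Fin.succ_succAbove_zero, mul_smul_comm]

lemma dd'_cof_zero (n : ℕ) (x : Xn R A n) :
    dd' R A n (cof R A n 0 x) = cof R A (n+1) 0 (dd R A n x) := by
  rw [dd'_apply, dd_apply, map_sum]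
  refine Finset.sum_congr rfl fun i _ => ?_
  rw [cof_cof_zero, map_zsmul]

lemma phi_lTensor (n : ℕ) (z : A ⊗[R] Xn R A n) :
    phi R A (n+1) ((dd R A n).lTensor A z) = dd' R A n (phi R A n z) := by
  induction z using TensorProduct.induction_on with
  | zero => simp
  | tmul a x =>
    rw [LinearMap.lTensor_tmul, phi_tmul, phi_tmul, dd'_inc_mul, dd'_cof_zero]
  | add z w hz hw => rw [map_add, map_add, map_add, map_add, hz, hw]

lemma homotopy (n : ℕ) (y : Xn R A (n+2)) :
    cod R A (n+2) 0 (dd' R A (n+1) y) + dd' R A n (cod R A (n+1) 0 y) = y := by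
  rw [dd'_apply, dd'_apply, map_sum, Fin.sum_univ_succ]
  simp only [Fin.val_zero, pow_zero, one_smul, map_zsmul, Fin.val_succ, pow_succ]
  have h1 : cod R A (n+2) 0 (cof R A (n+2) (Fin.succ 0) y) = y := cod_cof_one R A (n+1) y
  rw [h1, add_assoc, ← Finset.sum_add_distrib]
  rw [Finset.sum_eq_zero, add_zero]
  intro i _
  rw [cod_cof_succ_succ]
  simp

/-! translation to the categorical complex -/

lemma hom_sum' {M N : AddCommGrpCat.{u}} {ι : Type} (s : Finset ι) (f : ι → (M ⟶ N)) :
    (∑ i ∈ s, f i).hom = ∑ i ∈ s, (f i).hom := map_sum AddCommGrpCat.homAddEquiv f s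

/-- the cosimplicial abelian group -/
abbrev F : CosimplicialObject AddCommGrpCat.{u} :=
  X R A ⋙ forget₂ CommRingCat RingCat ⋙ forget₂ RingCat AddCommGrpCat

lemma objD_hom (n : ℕ) :
    ((AlgebraicTopology.AlternatingCofaceMapComplex.objD (F R A) n).hom :
      Xn R A n →+ Xn R A (n+1)) =
      ∑ i : Fin (n+2), ((-1 : ℤ) ^ (i : ℕ)) • (cof R A n i).toAddMonoidHom :=
  hom_sum' Finset.univ (fun i : Fin (n+2) => ((-1 : ℤ) ^ (i : ℕ)) • (F R A).δ i)

lemma objD_apply (n : ℕ) (x : Xn R A n) :
    ((AlgebraicTopology.AlternatingCofaceMapComplex.objD (F R A) n).hom :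
      Xn R A n →+ Xn R A (n+1)) x = dd R A n x := by
  have h1 := congrArg (fun f : Xn R A n →+ Xn R A (n+1) => f x) (objD_hom R A n)
  refine h1.trans ?_
  rw [dd_apply]
  simp only [AddMonoidHom.finsetSum_apply]
  rfl

lemma dd_comp (n : ℕ) (x : Xn R A n) : dd R A (n+1) (dd R A n x) = 0 := by
  have h := AlgebraicTopology.AlternatingCofaceMapComplex.d_squared (F R A) n
  have h2 : ((AlgebraicTopology.AlternatingCofaceMapComplex.objD (F R A) (n+1)).hom :
      Xn R A (n+1) →+ Xn R A (n+2))
      (((AlgebraicTopology.AlternatingCofaceMapComplex.objD (F R A) n).hom :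
      Xn R A n →+ Xn R A (n+1)) x) = 0 := congr($(h).hom x)
  rwa [objD_apply, objD_apply] at h2

lemma exact_dd [Module.FaithfullyFlat R A] (m : ℕ) :
    Function.Exact (dd R A m) (dd R A (m+1)) := by
  rw [← Module.FaithfullyFlat.lTensor_exact_iff_exact R A]
  intro z
  constructor
  · intro hz
    have h1 : dd' R A (m+1) (phi R A (m+1) z) = 0 := by
      rw [← phi_lTensor, hz, map_zero]
    have h2 := homotopy R A m (phi R A (m+1) z)
    rw [h1, map_zero, zero_add] at h2
    refine ⟨psi R A m (cod R A (m+1) 0 (phi R A (m+1) z)), ?_⟩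
    have h3 : phi R A (m+1) ((dd R A m).lTensor A (psi R A m (cod R A (m+1) 0 (phi R A (m+1) z)))) =
        phi R A (m+1) z := by
      rw [phi_lTensor, phi_psi, h2]
    have := congrArg (psi R A (m+1)) h3
    rwa [psi_phi, psi_phi] at this
  · rintro ⟨w, rfl⟩
    rw [← LinearMap.comp_apply, ← LinearMap.lTensor_comp]
    have : dd R A (m+1) ∘ₗ dd R A m = 0 := by
      ext x
      exact dd_comp R A m x
    rw [this, LinearMap.lTensor_zero, LinearMap.zero_apply]

lemma key [Module.FaithfullyFlat R A] (m : ℕ) (x : Xn R A (m+1))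
    (hx : (((AlgebraicTopology.AlternatingCofaceMapComplex.obj (F R A)).d (m+1) (m+2)).hom :
      Xn R A (m+1) →+ Xn R A (m+2)) x = 0) :
    ∃ y : Xn R A m, (((AlgebraicTopology.AlternatingCofaceMapComplex.obj (F R A)).d m (m+1)).hom :
      Xn R A m →+ Xn R A (m+1)) y = x := by
  have e1 : (AlgebraicTopology.AlternatingCofaceMapComplex.obj (F R A)).d (m+1) (m+2) =
      AlgebraicTopology.AlternatingCofaceMapComplex.objD (F R A) (m+1) :=
    CochainComplex.of_d (fun n => (F R A).obj (SimplexCategory.mk n))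
      (AlgebraicTopology.AlternatingCofaceMapComplex.objD (F R A)) (m+1)
  have e0 : (AlgebraicTopology.AlternatingCofaceMapComplex.obj (F R A)).d m (m+1) =
      AlgebraicTopology.AlternatingCofaceMapComplex.objD (F R A) m :=
    CochainComplex.of_d (fun n => (F R A).obj (SimplexCategory.mk n))
      (AlgebraicTopology.AlternatingCofaceMapComplex.objD (F R A)) m
  have hx1 : ((AlgebraicTopology.AlternatingCofaceMapComplex.objD (F R A) (m+1)).hom :
      Xn R A (m+1) →+ Xn R A (m+2)) x = 0 :=
    (congrArg (fun f => (AddCommGrpCat.Hom.hom f : Xn R A (m+1) →+ Xn R A (m+2)) x) e1).symm.trans hx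
  have hx2 : dd R A (m+1) x = 0 := (objD_apply R A (m+1) x).symm.trans hx1
  obtain ⟨y, hy⟩ := (exact_dd R A m x).1 hx2
  refine ⟨y, ?_⟩
  exact (congrArg (fun f => (AddCommGrpCat.Hom.hom f : Xn R A m →+ Xn R A (m+1)) y) e0).trans
    ((objD_apply R A m y).trans hy)

end

/-- Let R → A be a faithfully flat homomorphism of commutative rings. The Amitsur complex A → A ⊗_R A →
A ⊗_R A ⊗_R A → ⋯, whose differential is the alternating sum of the maps inserting a unit in each
tensor slot, is realised here as the alternating coface complex (of underlying abelian groups) of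
the Čech conerve of R → A in the category of commutative rings, whose degree-n term is the
(n+1)-fold coproduct of A under R, i.e. the (n+1)-fold tensor power over R. Then this complex is
exact in every degree n ≥ 1. (Exactness at the start, namely that R → A is injective with image the
equaliser of the two maps A → A ⊗_R A, is the degree-0 statement and is not part of this row.) -/
theorem result (R A : Type u) [CommRing R] [CommRing A] [Algebra R A] [Module.FaithfullyFlat R A]
    (n : ℕ) (hn : 0 < n) :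
    (AlgebraicTopology.AlternatingCofaceMapComplex.obj
      ((Arrow.mk (CommRingCat.ofHom (algebraMap R A))).cechConerve ⋙ forget₂ CommRingCat RingCat ⋙
        forget₂ RingCat AddCommGrpCat)).ExactAt n := by
  obtain ⟨m, rfl⟩ : ∃ m, n = m + 1 := ⟨n - 1, by omega⟩
  rw [HomologicalComplex.exactAt_iff' _ m (m+1) (m+2) (by simp) (by simp),
    ShortComplex.ab_exact_iff]
  exact fun x hx => key R A m x hx

end Groth.Agent.S15057
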