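import Groth.Statements.S15064
-- import your own Groth.Agent.* helpers here
import Groth.Agent.Lib.Helper26.PrimElem

set_option autoImplicit false
universe u
open scoped TensorProduct
open Hopf

namespace Groth.Agent.S15064

/-- Let k be a field of characteristic p > 0 and A a finite-dimensional commutative and cocommutative
Hopf algebra over k (a finite commutative k-group G = Spec A) which is bi-infinitesimal — A is a
local ring and so is the dual algebra Hom_k(A, k) with the convolution product (G and its Cartier
dual are connected) — with dim_k A > 1, and assume G is simple: every Hopf ideal of A is either zero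
or the augmentation ideal (G has no closed subgroup schemes other than G and 1). Then G is
isomorphic to α_p: A has a primitive element x (Δ(x) = x ⊗ 1 + 1 ⊗ x) with x^p = 0 whose powers 1,
x, …, x^(p−1) are linearly independent over k, and dim_k A = p (so A = k[x]/(x^p) with x primitive). -/
theorem result (k : Type u) [Field k] (p : ℕ) [Fact p.Prime] [CharP k p]
    (A : Type u) [CommRing A] [HopfAlgebra k A] [Coalgebra.IsCocomm k A] [FiniteDimensional k A] [IsLocalRing A]
    (hdual : IsLocalRing (WithConv (A →ₗ[k] k))) (hA : 1 < Module.finrank k A)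
    (hsimple : ∀ I : Ideal A, I.IsHopfIdeal k → I = ⊥ ∨ I = RingHom.ker (Bialgebra.counitAlgHom k A)) :
    ∃ x : A, Coalgebra.comul x = x ⊗ₜ[k] (1 : A) + (1 : A) ⊗ₜ[k] x ∧ x ^ p = 0 ∧
      LinearIndependent k (fun i : Fin p => x ^ (i : ℕ)) ∧ Module.finrank k A = p := by
  classical
  have hinj : Function.Injective (algebraMap k A) := (algebraMap k A).injective
  haveI : CharP A p := charP_of_injective_algebraMap hinj p
  obtain ⟨x, hx0, hxp⟩ := Groth.Agent.Lib.Helper26.PrimElem.exists_prim_ne_zero hdual hA
  have hnil : IsNilpotent x :=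
    Groth.Agent.Lib.Helper26.SimpleGrp.isNilpotent_of_counit_eq_zero (k := k) hxp.counit_eq_zero
  obtain ⟨N, hN⟩ := hnil
  have hpow : ∃ j, x ^ (p ^ j) = 0 :=
    ⟨N, pow_eq_zero_of_le (Nat.lt_pow_self (Fact.out : p.Prime).one_lt).le hN⟩
  have hj : x ^ (p ^ (Nat.find hpow)) = 0 := Nat.find_spec hpow
  have hj0 : Nat.find hpow ≠ 0 := by
    intro h0
    rw [h0, pow_zero, pow_one] at hj
    exact hx0 hj
  obtain ⟨j', hj'⟩ : ∃ j', Nat.find hpow = j' + 1 := Nat.exists_eq_succ_of_ne_zero hj0
  set x' := x ^ (p ^ j') with hx'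
  have hx'0 : x' ≠ 0 := fun h => Nat.find_min hpow (m := j') (by omega) h
  have hx'p : x' ^ p = 0 := by
    rw [hx', ← pow_mul, ← pow_succ, ← hj']
    exact hj
  have hprim : Groth.Agent.Lib.Helper26.PrimElem.IsPrim (k := k) x' := hxp.pow_char_pow p j'
  have hI := hsimple (Ideal.span {x'})
    (Groth.Agent.Lib.Helper26.PrimElem.isHopfIdeal_span_prim hprim)
  have hIne : Ideal.span {x'} ≠ ⊥ := by
    rw [Ne, Ideal.span_singleton_eq_bot]
    exact hx'0
  have hker := hI.resolve_left hIne
  have hle : Module.finrank k A ≤ p :=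
    Groth.Agent.Lib.Helper26.SimpleGrp.finrank_le_of_principal (Bialgebra.counitAlgHom k A)
      x' p hx'p hker.symm
  have hnot : x' ∉ Submodule.span k {(1 : A)} := by
    intro h
    obtain ⟨c, hc⟩ := Submodule.mem_span_singleton.mp h
    have h1 := congrArg (Coalgebra.counit (R := k) (A := A)) hc
    rw [map_smul, Bialgebra.counit_one, smul_eq_mul, mul_one, hprim.counit_eq_zero] at h1
    rw [h1, zero_smul] at hc
    exact hx'0 hc.symm
  obtain ⟨f, hfx, hf1⟩ := Submodule.exists_le_ker_of_notMem hnot
  have hli : LinearIndependent k (fun i : Fin p => x' ^ (i : ℕ)) :=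
    Groth.Agent.Lib.Helper26.PrimElem.linearIndependent_pow p hprim (WithConv.toConv f)
      (LinearMap.mem_ker.mp (hf1 (Submodule.mem_span_singleton_self _))) hfx
  refine ⟨x', hprim, hx'p, hli, le_antisymm hle ?_⟩
  have h5 := hli.fintype_card_le_finrank
  simpa using h5

end Groth.Agent.S15064
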