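import Groth.Statements.S15065
import Groth.Agent.S11935

set_option autoImplicit false
universe u
open Hopf

namespace Groth.Agent.S15065

open TensorProduct WithConv Groth.Agent.S11935

/-- coideal criterion by a finite separating family of functionals -/
lemma map_mkQ_comul_eq_zero_of_sep (k : Type u) [Field k] (C : Type u) [AddCommGroup C] [Module k C]
    [Coalgebra k C] (ι : Type u) [Finite ι] (F : ι → (C →ₗ[k] k)) (I : Submodule k C)
    (hI : ∀ x, x ∈ I ↔ ∀ i, F i x = 0) (x : C)
    (hx : ∀ i j, LinearMap.mul' k k (TensorProduct.map (F i) (F j) (Coalgebra.comul (R := k) x)) = 0) :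
    TensorProduct.map I.mkQ I.mkQ (Coalgebra.comul (R := k) x) = 0 := by
  classical
  haveI := Fintype.ofFinite ι
  let ρ : C →ₗ[k] (ι → k) := LinearMap.pi F
  have hker : I ≤ LinearMap.ker ρ := by
    intro y hy
    rw [LinearMap.mem_ker]
    funext i
    exact (hI y).mp hy i
  let ρb : (C ⧸ I) →ₗ[k] (ι → k) := I.liftQ ρ hker
  have hρb : Function.Injective ρb := by
    rw [← LinearMap.ker_eq_bot, Submodule.ker_liftQ, eq_bot_iff]
    rintro _ ⟨y, hy, rfl⟩
    rw [Submodule.mem_bot, Submodule.mkQ_apply, Submodule.Quotient.mk_eq_zero, hI]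
    intro i
    exact congrFun (LinearMap.mem_ker.mp hy) i
  have hinj : Function.Injective (TensorProduct.map ρb ρb) :=
    TensorProduct.map_injective_of_flat_flat ρb ρb hρb hρb
  apply hinj
  rw [map_zero, ← LinearMap.comp_apply, ← TensorProduct.map_comp]
  have hcomp : ρb ∘ₗ I.mkQ = ρ := Submodule.liftQ_mkQ I ρ hker
  rw [hcomp]
  apply (Algebra.TensorProduct.piScalarRight k k (ι → k) ι).injective
  rw [map_zero]
  funext j i
  have key : ∀ z : C ⊗[k] C,
      (Algebra.TensorProduct.piScalarRight k k (ι → k) ι) (TensorProduct.map ρ ρ z) j i =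
      LinearMap.mul' k k (TensorProduct.map (F i) (F j) z) := by
    intro z
    induction z using TensorProduct.induction_on with
    | zero => simp
    | tmul a b =>
      rw [TensorProduct.map_tmul, Algebra.TensorProduct.piScalarRight_tmul_apply,
        TensorProduct.map_tmul, LinearMap.mul'_apply]
      simp only [Pi.smul_apply, smul_eq_mul]
      rw [mul_comm]
      rfl
    | add a b ha hb => rw [map_add, map_add, Pi.add_apply, Pi.add_apply, ha, hb, map_add, map_add]
  rw [key]
  exact hx i j


/-- Let k be an algebraically closed field and A a finite-dimensional commutative and cocommutative Hopf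
algebra over k which is reduced (a finite étale commutative k-group G = Spec A), with dim_k A > 1,
and assume G is simple: every Hopf ideal of A is either zero or the augmentation ideal (no closed
subgroup schemes other than G and 1). Then the order dim_k A is a prime number ℓ, so that G is the
constant group ℤ/ℓℤ. (The published statement lists the simple finite commutative groups over an
algebraically closed field of characteristic p > 0; the étale case does not use the characteristic
and is stated here for any algebraically closed field.) -/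
theorem result (k : Type u) [Field k] [IsAlgClosed k] (A : Type u) [CommRing A] [HopfAlgebra k A]
    [Coalgebra.IsCocomm k A] [FiniteDimensional k A] [IsReduced A] (hA : 1 < Module.finrank k A)
    (hsimple : ∀ I : Ideal A, I.IsHopfIdeal k → I = ⊥ ∨ I = RingHom.ker (Bialgebra.counitAlgHom k A)) :
    (Module.finrank k A).Prime := by
  classical
  haveI hfinP := finite_ps k A
  haveI := Fintype.ofFinite (PrimeSpectrum A)
  -- points versus primes
  have hsingle : ∀ p q : PrimeSpectrum A,
      pt k A q ((coordEquiv k A).symm (Pi.single p 1)) = if q = p then 1 else 0 := by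
    intro p q
    simp only [pt, AlgHom.comp_apply, AlgEquiv.coe_toAlgHom, AlgEquiv.apply_symm_apply]
    show (Pi.single p (1 : k) : PrimeSpectrum A → k) q = _
    rw [Pi.single_apply]
  have hpt_inj : Function.Injective (fun p => (toConv (pt k A p) : WithConv (A →ₐ[k] k))) := by
    intro p q hpq
    by_contra hne
    have hpq' : pt k A p = pt k A q := WithConv.toConv_injective hpq
    have h1 := hsingle p p
    have h2 := hsingle p q
    rw [if_pos rfl] at h1
    rw [if_neg (fun h => hne h.symm), ← hpq', h1] at h2
    exact one_ne_zero h2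
  have hpt_surj : Function.Surjective (fun p => (toConv (pt k A p) : WithConv (A →ₐ[k] k))) := by
    intro χ
    obtain ⟨p, hp⟩ := exists_pt k A χ.ofConv
    exact ⟨p, by show toConv (pt k A p) = χ; rw [← hp, toConv_ofConv]⟩
  have hcard : Nat.card (WithConv (A →ₐ[k] k)) = Module.finrank k A := by
    rw [← Nat.card_congr (Equiv.ofBijective _ ⟨hpt_inj, hpt_surj⟩),
      (coordEquiv k A).toLinearEquiv.finrank_eq, Module.finrank_fintype_fun_eq_card,
      Nat.card_eq_fintype_card]
  haveI hfinΓ : Finite (WithConv (A →ₐ[k] k)) := Finite.of_surjective _ hpt_surj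
  haveI hnt : Nontrivial (WithConv (A →ₐ[k] k)) := by
    rw [← Finite.one_lt_card_iff_nontrivial, hcard]; exact hA
  haveI hsimp : IsSimpleGroup (WithConv (A →ₐ[k] k)) := by
    refine ⟨fun H _ => ?_⟩
    let I_H : Ideal A := ⨅ χ : H, RingHom.ker (χ.1.ofConv : A →+* k)
    have hmem : ∀ a : A, a ∈ I_H ↔ ∀ χ : H, χ.1.ofConv a = 0 := by
      intro a
      simp only [I_H, Ideal.mem_iInf, RingHom.mem_ker]
      rfl
    have hIH : I_H.IsHopfIdeal k := by
      refine { toIsCoideal := ⟨?_, ?_⟩, antipode_mem := ?_ }
      · intro a ha
        exact (hmem a).mp ha ⟨1, H.one_mem⟩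
      · intro a ha
        apply map_mkQ_comul_eq_zero_of_sep k A H (fun χ => χ.1.ofConv.toLinearMap)
          (I_H.restrictScalars k) (fun x => hmem x)
        intro χ₁ χ₂
        have h1 := (hmem a).mp ha ⟨χ₁.1 * χ₂.1, H.mul_mem χ₁.2 χ₂.2⟩
        exact h1
      · intro a ha
        rw [hmem]
        intro χ
        exact (hmem a).mp ha ⟨χ.1⁻¹, H.inv_mem χ.2⟩
    rcases hsimple I_H hIH with h0 | h1
    · right
      rw [eq_top_iff]
      intro χ _
      by_contra hχ
      obtain ⟨p, rfl⟩ := hpt_surj χ
      have ha : (coordEquiv k A).symm (Pi.single p 1) ∈ I_H := by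
        rw [hmem]
        intro ψ
        obtain ⟨q, hq⟩ := hpt_surj ψ.1
        rw [← hq]
        show pt k A q _ = 0
        rw [hsingle, if_neg]
        rintro rfl
        exact hχ (hq ▸ ψ.2)
      rw [h0, Ideal.mem_bot] at ha
      have h2 := hsingle p p
      rw [ha, map_zero, if_pos rfl] at h2
      exact zero_ne_one h2
    · left
      rw [eq_bot_iff]
      intro χ hχ
      rw [Subgroup.mem_bot]
      apply WithConv.ofConv_injective
      ext a
      have h2 : a - algebraMap k A (Coalgebra.counit (R := k) a) ∈ I_H := by
        rw [h1, RingHom.mem_ker, map_sub, AlgHom.commutes]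
        simp
      have h3 := (hmem _).mp h2 ⟨χ, hχ⟩
      rw [map_sub, AlgHom.commutes, sub_eq_zero] at h3
      rw [h3]
      rfl
  have := IsSimpleGroup.prime_card (α := WithConv (A →ₐ[k] k))
  rwa [hcard] at this

end Groth.Agent.S15065
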