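import Groth.Statements.S15066
-- import your own Groth.Agent.* helpers here
import Groth.Agent.Lib.Helper26.SimpleGrp

set_option autoImplicit false
universe u
open Hopf

namespace Groth.Agent.S15066

/-- Let k be an algebraically closed field of characteristic p > 0 and A a finite-dimensional
commutative and cocommutative Hopf algebra over k (a finite commutative k-group G = Spec A) which is
a local ring (G connected) and whose dual algebra Hom_k(A, k) with the convolution product is
reduced (the Cartier dual of G is étale, i.e. G is multiplicative), with dim_k A > 1, and assume G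
is simple: every Hopf ideal of A is either zero or the augmentation ideal (no closed subgroup
schemes other than G and 1). Then G is isomorphic to μ_p: A has a group-like element g (Δ(g) = g ⊗
g, ε(g) = 1) with g^p = 1 whose powers 1, g, …, g^(p−1) are linearly independent over k, and dim_k A
= p (so A = k[g]/(g^p − 1)). -/
theorem result (k : Type u) [Field k] [IsAlgClosed k] (p : ℕ) [Fact p.Prime]
    [CharP k p] (A : Type u) [CommRing A] [HopfAlgebra k A] [Coalgebra.IsCocomm k A] [FiniteDimensional k A]
    [IsLocalRing A] (hdual : IsReduced (WithConv (A →ₗ[k] k))) (hA : 1 < Module.finrank k A)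
    (hsimple : ∀ I : Ideal A, I.IsHopfIdeal k → I = ⊥ ∨ I = RingHom.ker (Bialgebra.counitAlgHom k A)) :
    ∃ g : A, IsGroupLikeElem k g ∧ g ^ p = 1 ∧ LinearIndependent k (fun i : Fin p => g ^ (i : ℕ)) ∧
      Module.finrank k A = p := by
  classical
  have hinj : Function.Injective (algebraMap k A) := (algebraMap k A).injective
  haveI : CharP A p := charP_of_injective_algebraMap hinj p
  obtain ⟨χ, hχ⟩ := Groth.Agent.Lib.Helper26.SimpleGrp.exists_algHom_ne hdual hA
  set g := Groth.Agent.Lib.Helper26.SimpleGrp.rep k A χ.toLinearMap with hg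
  have hgl : IsGroupLikeElem k g := Groth.Agent.Lib.Helper26.SimpleGrp.isGroupLikeElem_rep χ
  have hg1 : g ≠ 1 := by
    intro h1
    apply hχ
    apply AlgHom.ext
    intro x
    have := Groth.Agent.Lib.Helper26.SimpleGrp.apply_rep χ.toLinearMap x
    rw [← hg, h1] at this
    exact this.symm
  have hnil : IsNilpotent (g - 1) :=
    Groth.Agent.Lib.Helper26.SimpleGrp.isNilpotent_of_counit_eq_zero (k := k) (by
      rw [map_sub, hgl.counit_eq_one, Bialgebra.counit_one, sub_self])
  obtain ⟨N, hN⟩ := hnil
  have hpow : ∃ j, g ^ (p ^ j) = 1 := by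
    refine ⟨N, ?_⟩
    have h1 : (g - 1) ^ (p ^ N) = 0 :=
      pow_eq_zero_of_le (Nat.lt_pow_self (Fact.out : p.Prime).one_lt).le hN
    rw [sub_pow_char_pow, one_pow, sub_eq_zero] at h1
    exact h1
  have hj : g ^ (p ^ (Nat.find hpow)) = 1 := Nat.find_spec hpow
  have hj0 : Nat.find hpow ≠ 0 := by
    intro h0
    rw [h0, pow_zero, pow_one] at hj
    exact hg1 hj
  obtain ⟨j', hj'⟩ : ∃ j', Nat.find hpow = j' + 1 := Nat.exists_eq_succ_of_ne_zero hj0
  set g' := g ^ (p ^ j') with hg'
  have hg'1 : g' ≠ 1 := fun h => Nat.find_min hpow (m := j') (by omega) h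
  have hg'p : g' ^ p = 1 := by
    rw [hg', ← pow_mul, ← pow_succ, ← hj']
    exact hj
  have hgl' : IsGroupLikeElem k g' := hgl.pow
  have hI := hsimple (Ideal.span {g' - 1})
    (Groth.Agent.Lib.Helper26.SimpleGrp.isHopfIdeal_span_sub_one hgl')
  have hIne : Ideal.span {g' - 1} ≠ ⊥ := by
    rw [Ne, Ideal.span_singleton_eq_bot, sub_eq_zero]
    exact hg'1
  have hker := hI.resolve_left hIne
  have htp : (g' - 1) ^ p = 0 := by rw [sub_pow_char, hg'p, one_pow, sub_self]
  have hle : Module.finrank k A ≤ p :=
    Groth.Agent.Lib.Helper26.SimpleGrp.finrank_le_of_principal (Bialgebra.counitAlgHom k A)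
      (g' - 1) p htp hker.symm
  have hord : orderOf g' = p := orderOf_eq_prime hg'p hg'1
  have hli : LinearIndependent k (fun i : Fin p => g' ^ (i : ℕ)) := by
    have h0 := linearIndep_groupLikeVal (R := k) (A := A)
    let φ : Fin p → GroupLike k A := fun i => ⟨g' ^ (i : ℕ), hgl'.pow⟩
    have hφ : Function.Injective φ := by
      intro a b hab
      have h3 : g' ^ (a : ℕ) = g' ^ (b : ℕ) := congrArg GroupLike.val hab
      apply Fin.ext
      exact pow_injOn_Iio_orderOf (by rw [hord]; exact a.2) (by rw [hord]; exact b.2) h3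
    exact h0.comp φ hφ
  refine ⟨g', hgl', hg'p, hli, le_antisymm hle ?_⟩
  have h5 := hli.fintype_card_le_finrank
  simpa using h5

end Groth.Agent.S15066
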