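import Groth.Statements.S15067
import Mathlib
import Groth.Agent.Lib.Helper12.ConnEtE
import Groth.Agent.Lib.Helper15.FlatUnram

set_option autoImplicit false
universe u
open scoped TensorProduct
open Hopf

namespace Groth.Agent.S15067

/-- Let R be a henselian Noetherian local ring, A and A'' commutative Hopf algebras over R which are
finite and flat as R-modules (finite flat R-groups G = Spec A, G'' = Spec A''), and A'' → A an
R-algebra homomorphism compatible with the comultiplications and counits (a homomorphism π : G →
G'') making A a faithfully flat A''-module (π faithfully flat). Let J ⊆ A be the ideal generated by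
the image of the augmentation ideal of A'', so that G' = Spec A/J is the kernel of π and 1 → G' → G
→ G'' → 1 is an exact sequence of finite flat R-groups. Then: (2) if A'' and A/J are local rings
(G'' and G' connected), A is a local ring (G is connected); (3) if A'' and A/J are étale over R (G''
and G' finite étale), A is étale over R (G is finite étale). -/
theorem result (R : Type u) [CommRing R] [HenselianLocalRing R] [IsNoetherianRing R]
    (A A'' : Type u) [CommRing A] [HopfAlgebra R A] [Module.Finite R A] [Module.Flat R A]
    [CommRing A''] [HopfAlgebra R A''] [Module.Finite R A''] [Module.Flat R A'']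
    [Algebra A'' A] [IsScalarTower R A'' A] [Module.FaithfullyFlat A'' A]
    (hΔ : (Bialgebra.comulAlgHom R A).comp (IsScalarTower.toAlgHom R A'' A) =
      (Algebra.TensorProduct.map (IsScalarTower.toAlgHom R A'' A) (IsScalarTower.toAlgHom R A'' A)).comp
        (Bialgebra.comulAlgHom R A''))
    (hε : (Bialgebra.counitAlgHom R A).comp (IsScalarTower.toAlgHom R A'' A) = Bialgebra.counitAlgHom R A'') :
    ((IsLocalRing A'' ∧
        IsLocalRing (A ⧸ (RingHom.ker (Bialgebra.counitAlgHom R A'')).map (algebraMap A'' A))) → IsLocalRing A) ∧
      ((Algebra.Etale R A'' ∧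
        Algebra.Etale R (A ⧸ (RingHom.ker (Bialgebra.counitAlgHom R A'')).map (algebraMap A'' A))) →
        Algebra.Etale R A) := by
  haveI : Module.Finite A'' A := Module.Finite.of_restrictScalars_finite R A'' A
  have hcounit : ∀ x : A'', Bialgebra.counitAlgHom R A (algebraMap A'' A x) =
      Bialgebra.counitAlgHom R A'' x := fun x =>
    congrArg (fun f : A'' →ₐ[R] R => f x) hε
  have hJ : ∀ a ∈ (RingHom.ker (Bialgebra.counitAlgHom R A'')).map (algebraMap A'' A),
      Bialgebra.counitAlgHom R A a = 0 := by
    intro a ha
    have hle : (RingHom.ker (Bialgebra.counitAlgHom R A'')).map (algebraMap A'' A) ≤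
        RingHom.ker (Bialgebra.counitAlgHom R A) := by
      rw [Ideal.map_le_iff_le_comap]
      intro x hx
      rw [Ideal.mem_comap, RingHom.mem_ker, hcounit]
      exact hx
    exact hle ha
  refine ⟨?_, ?_⟩
  · rintro ⟨h1, h2⟩
    haveI := h1
    haveI := h2
    refine Groth.Agent.Lib.Helper12.ConnEtE.isLocalRing_of_isIntegral_of_quotient A'' A
      (RingHom.ker (Bialgebra.counitAlgHom R A'')) ?_
    intro x hx
    rw [IsLocalRing.mem_maximalIdeal, mem_nonunits_iff]
    intro hu
    have := hu.map (Bialgebra.counitAlgHom R A'')
    rw [RingHom.mem_ker.mp hx] at this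
    exact not_isUnit_zero this
  · rintro ⟨h1, h2⟩
    haveI := h1
    haveI := h2
    obtain ⟨u'', -, hu''ε, hu''ker⟩ :=
      Groth.Agent.Lib.Helper12.ConnEtE.exists_idempotent_of_formallyUnramified R A''
        (Bialgebra.counitAlgHom R A'')
    obtain ⟨u', -, hu'ε, hu'ker⟩ :=
      Groth.Agent.Lib.Helper12.ConnEtE.exists_idempotent_of_formallyUnramified R
        (A ⧸ (RingHom.ker (Bialgebra.counitAlgHom R A'')).map (algebraMap A'' A))
        (Groth.Agent.Lib.Helper12.ConnEtB.epsBar _ hJ)
    obtain ⟨w, rfl⟩ := Ideal.Quotient.mk_surjective u'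
    have hJu : ∀ j ∈ (RingHom.ker (Bialgebra.counitAlgHom R A'')).map (algebraMap A'' A),
        j * algebraMap A'' A u'' = 0 := by
      intro j hj
      refine Submodule.span_induction ?_ ?_ ?_ ?_ hj
      · rintro _ ⟨y, hy, rfl⟩
        rw [← map_mul, hu''ker y (RingHom.mem_ker.mp hy), map_zero]
      · rw [zero_mul]
      · intro a b _ _ ha hb
        rw [add_mul, ha, hb, add_zero]
      · intro a b _ hb
        rw [smul_eq_mul, mul_assoc, hb, mul_zero]
    have hεe : Coalgebra.counit (R := R) (algebraMap A'' A u'' * w) = 1 := by
      have h3 : Bialgebra.counitAlgHom R A (algebraMap A'' A u'' * w) = 1 := by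
        rw [map_mul, hcounit, hu''ε, one_mul]
        exact hu'ε
      exact h3
    have hker : ∀ x : A, Coalgebra.counit (R := R) x = 0 → x * (algebraMap A'' A u'' * w) = 0 := by
      intro x hx
      have h3 : Ideal.Quotient.mk ((RingHom.ker (Bialgebra.counitAlgHom R A'')).map
          (algebraMap A'' A)) x * Ideal.Quotient.mk _ w = 0 := hu'ker _ hx
      rw [← map_mul, Ideal.Quotient.eq_zero_iff_mem] at h3
      have h4 := hJu _ h3
      rw [← h4]
      ring
    haveI : Algebra.FormallyUnramified R A :=
      Groth.Agent.Lib.Helper12.ConnEtE.formallyUnramified_of_counit_ker R A _ hεe hker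
    haveI : Algebra.FormallyEtale R A := Groth.Agent.Lib.Helper15.FlatUnram.formallyEtale_of_flat
    haveI : Algebra.FinitePresentation R A :=
      Algebra.FinitePresentation.of_finiteType.mp inferInstance
    exact {}

end Groth.Agent.S15067
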