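import Groth.Statements.S15068
import Mathlib
import Groth.Agent.Lib.Helper12.ConnEtF

set_option autoImplicit false
universe u
open scoped TensorProduct
open Hopf

namespace Groth.Agent.S15068

/-- Let R be a henselian Noetherian local ring, A and A'' commutative Hopf algebras over R which are
finite and flat as R-modules, and A'' → A an R-algebra homomorphism compatible with
comultiplications and counits making A faithfully flat over A'' (a faithfully flat homomorphism π :
G → G'' of finite flat R-groups); let J ⊆ A be the ideal generated by the image of the augmentation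
ideal of A'' (G' = Spec A/J = ker π, so 1 → G' → G → G'' → 1 is exact). Assume A'' is a local ring
(G'' connected) and A/J is étale over R (G' finite étale), and let e ∈ A be an idempotent with ε(e)
= 1 such that A/(1 − e) is local (G⁰ = Spec A/(1 − e), the unit component of G). Then the composite
A'' → A → A/(1 − e) is bijective: the restriction G⁰ → G'' of π is an isomorphism, whose inverse
splits the extension, G ≅ G' × G''. -/
theorem result (R : Type u) [CommRing R] [HenselianLocalRing R]
    [IsNoetherianRing R] (A A'' : Type u) [CommRing A] [HopfAlgebra R A] [Module.Finite R A] [Module.Flat R A]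
    [CommRing A''] [HopfAlgebra R A''] [Module.Finite R A''] [Module.Flat R A'']
    [Algebra A'' A] [IsScalarTower R A'' A] [Module.FaithfullyFlat A'' A]
    (hΔ : (Bialgebra.comulAlgHom R A).comp (IsScalarTower.toAlgHom R A'' A) =
      (Algebra.TensorProduct.map (IsScalarTower.toAlgHom R A'' A) (IsScalarTower.toAlgHom R A'' A)).comp
        (Bialgebra.comulAlgHom R A''))
    (hε : (Bialgebra.counitAlgHom R A).comp (IsScalarTower.toAlgHom R A'' A) = Bialgebra.counitAlgHom R A'')
    [IsLocalRing A''] [Algebra.Etale R (A ⧸ (RingHom.ker (Bialgebra.counitAlgHom R A'')).map (algebraMap A'' A))]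
    (e : A) (he : IsIdempotentElem e) (heε : Bialgebra.counitAlgHom R A e = 1)
    [IsLocalRing (A ⧸ Ideal.span ({1 - e} : Set A))] :
    Function.Bijective ((Ideal.Quotient.mkₐ R (Ideal.span ({1 - e} : Set A))).comp (IsScalarTower.toAlgHom R A'' A)) := by
  haveI : Module.Finite A'' A := Module.Finite.of_restrictScalars_finite R A'' A
  haveI : Module.Finite A'' (A ⧸ Ideal.span ({1 - e} : Set A)) :=
    Module.Finite.of_restrictScalars_finite R A'' _
  have hcounit : ∀ x : A'', Bialgebra.counitAlgHom R A (algebraMap A'' A x) =
      Bialgebra.counitAlgHom R A'' x := fun x =>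
    congrArg (fun f : A'' →ₐ[R] R => f x) hε
  have hJ : ∀ a ∈ (RingHom.ker (Bialgebra.counitAlgHom R A'')).map (algebraMap A'' A),
      Bialgebra.counitAlgHom R A a = 0 := by
    intro a ha
    have hle : (RingHom.ker (Bialgebra.counitAlgHom R A'')).map (algebraMap A'' A) ≤
        RingHom.ker (Bialgebra.counitAlgHom R A) := by
      rw [Ideal.map_le_iff_le_comap]
      intro x hx
      rw [Ideal.mem_comap, RingHom.mem_ker, hcounit]
      exact hx
    exact hle ha
  have hI'' : RingHom.ker (Bialgebra.counitAlgHom R A'') ≤ IsLocalRing.maximalIdeal A'' := by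
    intro x hx
    rw [IsLocalRing.mem_maximalIdeal, mem_nonunits_iff]
    intro hu
    have := hu.map (Bialgebra.counitAlgHom R A'')
    rw [RingHom.mem_ker.mp hx] at this
    exact not_isUnit_zero this
  have hfun : ⇑((Ideal.Quotient.mkₐ R (Ideal.span ({1 - e} : Set A))).comp
      (IsScalarTower.toAlgHom R A'' A)) = ⇑(algebraMap A'' (A ⧸ Ideal.span ({1 - e} : Set A))) := rfl
  rw [hfun]
  constructor
  · -- injective: flat local homomorphism
    haveI : Module.Flat A'' (A ⧸ Ideal.span ({1 - e} : Set A)) :=
      Groth.Agent.Lib.Helper12.ConnEtF.flat_quotient_idempotent A'' A he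
    haveI : IsLocalHom (algebraMap A'' (A ⧸ Ideal.span ({1 - e} : Set A))) :=
      Groth.Agent.Lib.Helper12.HensInt.isLocalHom_of_isIntegral A'' _
    haveI : Module.FaithfullyFlat A'' (A ⧸ Ideal.span ({1 - e} : Set A)) :=
      Module.FaithfullyFlat.of_flat_of_isLocalHom
    exact FaithfulSMul.algebraMap_injective A'' (A ⧸ Ideal.span ({1 - e} : Set A))
  · -- surjective: Nakayama
    have hN : (⊤ : Submodule A'' (A ⧸ Ideal.span ({1 - e} : Set A))) ≤
        LinearMap.range (Algebra.linearMap A'' (A ⧸ Ideal.span ({1 - e} : Set A))) := by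
      apply Submodule.le_of_le_smul_of_le_jacobson_bot (I := IsLocalRing.maximalIdeal A'')
        Module.Finite.fg_top
      · rw [IsLocalRing.jacobson_eq_maximalIdeal ⊥ bot_ne_top]
      · intro y _
        obtain ⟨a, rfl⟩ := Ideal.Quotient.mk_surjective y
        have hmem := Groth.Agent.Lib.Helper12.ConnEtF.sub_algebraMap_mem_sup
          (Bialgebra.counitAlgHom R A) _ hJ e heε a
        obtain ⟨j, hj, i, hi, hsum⟩ := Submodule.mem_sup.mp hmem
        have h1 : Ideal.Quotient.mk (Ideal.span ({1 - e} : Set A)) a =
            algebraMap A'' (A ⧸ Ideal.span ({1 - e} : Set A))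
              (algebraMap R A'' (Bialgebra.counitAlgHom R A a)) +
            Ideal.Quotient.mk (Ideal.span ({1 - e} : Set A)) j := by
          have h2 : a = algebraMap R A (Bialgebra.counitAlgHom R A a) + j + i := by
            rw [add_assoc, hsum]; ring
          conv_lhs => rw [h2]
          rw [map_add, map_add, Ideal.Quotient.eq_zero_iff_mem.mpr hi, add_zero,
            IsScalarTower.algebraMap_apply R A'' A]
          rfl
        rw [h1]
        refine Submodule.add_mem_sup ⟨_, rfl⟩ ?_
        rw [Ideal.smul_top_eq_map, Submodule.restrictScalars_mem]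
        have h3 : Ideal.Quotient.mk (Ideal.span ({1 - e} : Set A)) j ∈
            Ideal.map (Ideal.Quotient.mk (Ideal.span ({1 - e} : Set A)))
              ((RingHom.ker (Bialgebra.counitAlgHom R A'')).map (algebraMap A'' A)) :=
          Ideal.mem_map_of_mem _ hj
        rw [Ideal.map_map] at h3
        exact Ideal.map_mono hI'' h3
    intro y
    obtain ⟨x, hx⟩ := hN (Submodule.mem_top (x := y))
    exact ⟨x, hx⟩

end Groth.Agent.S15068
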