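import Groth.Statements.S1507
import Groth.Agent.S7068
import Groth.Agent.Lib.Helper15.RelPC16
import Groth.Agent.Lib.Helper15.RelPC9
import Groth.Agent.Lib.Helper16.RestrictD3
import Groth.Agent.Lib.Helper16.PC7e

set_option autoImplicit false
universe u
attribute [local instance] HasDerivedCategory.standard
open FlatMor

namespace Groth.Agent.S1507

open CategoryTheory CategoryTheory.Limits DerivedCategory CategoryTheory.Pretriangulated
open Groth.Agent.Lib.Helper16.PC

/-- an ideal is pseudo-coherent iff the quotient is -/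
theorem pc_ideal_iff_pc_quotient {B : Type u} [CommRing B] (I : Ideal B) :
    (∀ m : ℤ, DRing.IsPseudoCoherent B m (Dual.inD B I)) ↔
      (∀ m : ℤ, DRing.IsPseudoCoherent B m (Dual.inD B (B ⧸ I))) := by
  let S : ShortComplex (ModuleCat.{u} B) :=
    ShortComplex.mk (ModuleCat.ofHom I.subtype : ModuleCat.of B I ⟶ ModuleCat.of B B)
      (ModuleCat.ofHom I.mkQ : ModuleCat.of B B ⟶ ModuleCat.of B (B ⧸ I)) (by
        ext x
        exact (Submodule.Quotient.mk_eq_zero I).2 x.2)
  have hS : S.ShortExact := by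
    refine ShortComplex.ShortExact.mk' ?_ ?_ ?_
    · rw [ShortComplex.ShortExact.moduleCat_exact_iff_function_exact]
      exact LinearMap.exact_subtype_mkQ I
    · rw [ModuleCat.mono_iff_injective]
      exact Submodule.subtype_injective _
    · rw [ModuleCat.epi_iff_surjective]
      exact Submodule.mkQ_surjective I
  have hT := hS.singleTriangle_distinguished
  have hF : ∀ m' : ℤ, DRing.IsPseudoCoherent B m' (Dual.inD B B) :=
    fun m' => (isPseudoCoherent_iff _ _).2
      (isPC_single finFree_zero finFree_iso _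
        ⟨(inferInstance : Module.Finite B B), (inferInstance : Module.Free B B)⟩ 0 m')
  constructor
  · intro h m
    exact (isPseudoCoherent_two_of_three _ hT m).1 (h (m + 1)) (hF m)
  · intro h m
    have := (isPseudoCoherent_two_of_three _ hT (m - 1)).2.2 (hF _) (h (m - 1))
    rwa [sub_add_cancel] at this

/-- Let A → B be flat and of finite presentation and I an ideal of B. Then A → B/I is a pseudo-coherent
ring map if and only if I is a pseudo-coherent B-module. -/
theorem result {A B : Type u} [CommRing A] [CommRing B] [Algebra A B] [Module.Flat A B] [Algebra.FinitePresentation A B] (I : Ideal B) :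
    MoreMor.IsPseudoCoherentHom A (B ⧸ I) ↔ DRing.IsPseudoCoherentModule' B ↥I := by
  obtain ⟨n, α, hα, hpc⟩ := (Groth.Agent.S7068.result A B).1
  let φ : B →ₐ[A] B ⧸ I := IsScalarTower.toAlgHom A B (B ⧸ I)
  have hφ : Function.Surjective φ := Ideal.Quotient.mk_surjective
  -- the restriction of `B/I` to `B`
  let e : (DRing.restrictD (algebraMap B (B ⧸ I))).obj (Dual.inD (B ⧸ I) (B ⧸ I)) ≅
      Dual.inD B (B ⧸ I) :=
    ((ModuleCat.restrictScalars.{u} (algebraMap B (B ⧸ I))).mapDerivedCategorySingleFunctor 0).app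
        (ModuleCat.of (B ⧸ I) (B ⧸ I)) ≪≫
      (singleFunctor (ModuleCat.{u} B) 0).mapIso
        (Groth.Agent.Lib.Helper16.RestrictD.ofIsoRestrict (A := B) (B := B ⧸ I)).symm
  have key : ∀ m : ℤ, DerCA.IsRelPseudoCoherent A (B ⧸ I) m (Dual.inD (B ⧸ I) (B ⧸ I)) ↔
      DRing.IsPseudoCoherent B m (Dual.inD B (B ⧸ I)) := by
    intro m
    rw [Groth.Agent.Lib.Helper16.RelPC.rel_iff_via (φ.comp α) (hφ.comp hα),
      Groth.Agent.Lib.Helper15.RelPC16.via_comp_iff]
    have h3 : DerCA.IsRelPseudoCoherentVia α m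
        ((DRing.restrictD (algebraMap B (B ⧸ I))).obj (Dual.inD (B ⧸ I) (B ⧸ I))) ↔
        DRing.IsPseudoCoherent B m
          ((DRing.restrictD (algebraMap B (B ⧸ I))).obj (Dual.inD (B ⧸ I) (B ⧸ I))) := by
      letI := α.toRingHom.toAlgebra
      have hB' : ∀ m : ℤ, DRing.IsPseudoCoherent (MvPolynomial (Fin n) A) m
          (Dual.inD (MvPolynomial (Fin n) A) B) :=
        fun m => pc_of_pc' hpc m
      exact ⟨Groth.Agent.Lib.Helper16.RestrictD.pc_of_pc_restrict hB' _ m,
        Groth.Agent.Lib.Helper16.RestrictD.pc_restrict_of_pc hB' _ m⟩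
    exact h3.trans ⟨fun h => pc_of_iso h e, fun h => pc_of_iso h e.symm⟩
  rw [Groth.Agent.Lib.Helper15.RelPC9.pch_iff_relAll]
  constructor
  · intro h
    exact pc'_of_pc ((pc_ideal_iff_pc_quotient I).2 (fun m => (key m).1 (h m)))
  · intro h m
    exact (key m).2 ((pc_ideal_iff_pc_quotient I).1 (fun m => pc_of_pc' h m) m)

end Groth.Agent.S1507
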