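import Groth.Statements.S15070
import Groth.Agent.S16240
import Groth.Agent.S11499
import Groth.Agent.Lib.Helper5.RegSmoothScheme2
import Groth.Agent.Lib.Helper7.StalkFree

set_option autoImplicit false
universe u
open CategoryTheory CategoryTheory.Limits AlgebraicGeometry
open OrdSurf

namespace Groth.Agent.S15070

/-- a finitely generated torsion-free module over a regular local ring of dimension `≤ 2` has
projective dimension `≤ 1`: embed it in a finite free module and shift dimensions. -/
theorem pd_lt_two_of_torsionFree {R : Type u} [CommRing R] [IsDomain R]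
    (hgl : ∀ M : ModuleCat.{u} R, HasProjectiveDimensionLT M 3)
    (P : Type u) [AddCommGroup P] [Module R P] [Module.Finite R P]
    [Module.IsTorsionFree R P] : HasProjectiveDimensionLT (ModuleCat.of R P) 2 := by
  haveI : NoZeroSMulDivisors R P :=
    ⟨fun {c x} h => (Module.isTorsionFree_iff_smul_eq_zero.1 inferInstance) c x h⟩
  obtain ⟨r, f, hf⟩ : ∃ (r : ℕ) (f : P →ₗ[R] (Fin r → R)), Function.Injective f := by
    obtain ⟨f, hf⟩ := Groth.Agent.S11499.result R P _ rfl
    exact ⟨_, f, hf⟩
  let S : ShortComplex (ModuleCat.{u} R) :=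
    ShortComplex.mk (ModuleCat.ofHom f) (ModuleCat.ofHom (LinearMap.range f).mkQ) (by
      ext p
      simp)
  have hS : S.ShortExact :=
    { exact := by
        rw [ShortComplex.ShortExact.moduleCat_exact_iff_function_exact]
        exact LinearMap.exact_map_mkQ_range f
      mono_f := (ModuleCat.mono_iff_injective _).2 hf
      epi_g := (ModuleCat.epi_iff_surjective _).2 (Submodule.mkQ_surjective _) }
  have h2 : HasProjectiveDimensionLT S.X₂ 2 := by
    haveI : Projective S.X₂ := by
      change Projective (ModuleCat.of R (Fin r → R))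
      exact (IsProjective.iff_projective (R := R) (P := (Fin r → R))).1 inferInstance
    exact hasProjectiveDimensionLT_of_ge S.X₂ 1 2 (by omega)
  exact hS.hasProjectiveDimensionLT_X₁ 2 h2 (hgl S.X₃)

/-- Let k be an algebraically closed field of characteristic zero and X a smooth projective surface over
k (an integral k-scheme, smooth over k, of dimension two, admitting a closed immersion over k into
some projective space P^n_k). Let N be a coherent O_X-module all of whose stalks are torsion-free
modules over the local rings, M a finite locally free O_X-module and φ : M → N an epimorphism of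
O_X-modules. Then the kernel of φ is a finite locally free O_X-module. -/
theorem result (k : Type u) [Field k] [IsAlgClosed k] [CharZero k]
    (X : Scheme.{u}) [X.Over (Spec (CommRingCat.of k))] [IsIntegral X]
    [Smooth (X ↘ Spec (CommRingCat.of k))] (hdim : topologicalKrullDim X = 2)
    (hproj : ∃ (n : ℕ) (ι : X ⟶ CohB1.ProjSpace n k), IsClosedImmersion ι ∧
      ι ≫ CohB1.ProjSpace.toSpec n k = X ↘ Spec (CommRingCat.of k))
    (N : X.Modules) (hN : Coh.IsCoh N) (hNtf : TorSh.IsTorsionFree N)
    (M : X.Modules) (hM : FlatMod.IsFinLocFree M) (φ : M ⟶ N) [Epi φ] :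
    FlatMod.IsFinLocFree (kernel φ) := by
  haveI : IsLocallyNoetherian X :=
    LocallyOfFiniteType.isLocallyNoetherian (X ↘ Spec (CommRingCat.of k))
  have hreg : ∀ x : X, IsRegularLocalRing (X.presheaf.stalk x) := fun x =>
    Groth.Agent.Lib.Helper5.RegSmooth.regular_stalk_of_smooth k X (X ↘ Spec (CommRingCat.of k)) x
  have hdim' : topologicalKrullDim ↥X ≤ ((2 : ℕ) : WithBot ℕ∞) := by
    rw [hdim]; rfl
  have hcoh : Coh.IsCoh (kernel φ) :=
    Groth.Agent.S16240.isCoh_kernel' φ (Groth.Agent.S16240.isCoh_of_isFinLocFree M hM) hN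
  refine Groth.Agent.S16240.flf_of_coh_of_projective_stalks _ hcoh fun x => ?_
  haveI := Groth.Agent.Lib.Helper7.StalkFree.finite_stalk_of_isCoh X N hN x
  haveI : Module.IsTorsionFree (X.presheaf.stalk x) (N.presheaf.stalk x) := hNtf x
  have hN2 : HasProjectiveDimensionLT ((DerSch.stalkFunctor X x).obj N) 2 :=
    pd_lt_two_of_torsionFree (fun Q => Groth.Agent.S16240.pd_stalk_of_regular hreg 2 hdim' x Q)
      (N.presheaf.stalk x)
  let T : ShortComplex X.Modules := ShortComplex.mk (kernel.ι φ) φ (kernel.condition φ)
  have hT : T.ShortExact :=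
    { exact := ShortComplex.exact_of_f_is_kernel _ (kernelIsKernel φ)
      mono_f := inferInstanceAs (Mono (kernel.ι φ))
      epi_g := inferInstanceAs (Epi φ) }
  have h1 := Groth.Agent.S16240.pd_step T hT hM x 0 hN2
  exact projective_iff_hasProjectiveDimensionLT_one.2 h1

end Groth.Agent.S15070
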