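import Groth.Statements.S15081
import Groth.Agent.Lib.Helper4.Shuffle

set_option autoImplicit false
open W4c2movlemaddchow

namespace Groth.Agent.S15081
open Groth.Agent.Lib.Helper4.Shuffle

/-- Let r, s, t ≥ 1. For an (r, s+t)-shuffle τ' of r+s+t letters and an (s, t)-shuffle σ' of the last
s+t letters, the composite τ' ∘ (id × σ'), where id × σ' fixes the first r letters and acts as σ' on
the last s+t, is an (r, s, t)-shuffle, and (τ', σ') ↦ τ' ∘ (id × σ') is a bijection from such pairs
onto the set of all (r, s, t)-shuffles. (Shuffles are permutations monotone on each consecutive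
block; composites apply the right-hand factor first.) -/
theorem result (r s t : ℕ) (hr : 1 ≤ r) (hs : 1 ≤ s) (ht : 1 ≤ t) :
    Set.BijOn
      (fun p : Equiv.Perm (Fin (r + s + t)) × Equiv.Perm (Fin (s + t)) =>
        p.1 * W4c2movlemaddchow.extLeft r s t p.2)
      ({τ | W4c2movlemaddchow.IsShuffle₂ r (s + t) ((finCongr (Nat.add_assoc r s t)).permCongr τ)} ×ˢ
        {σ | W4c2movlemaddchow.IsShuffle₂ s t σ})
      {ν | W4c2movlemaddchow.IsShuffle₃ r s t ν} := by
  have hassoc := (Nat.add_assoc r s t).symm
  have := bijOn_generic (fun i : Fin (s + t) => Fin.cast hassoc (Fin.natAdd r i))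
    ((Fin.cast_injective _).comp (Fin.natAdd_injective _ _))
    (extLeft r s t) (extLeft_natAdd _ _ _)
    (by
      intro σ x hx
      obtain ⟨y, rfl⟩ : ∃ y, x = Fin.cast hassoc y := ⟨Fin.cast hassoc.symm x, by simp⟩
      induction y using Fin.addCases with
      | left i => exact extLeft_castAdd _ _ _ _ _
      | right l => exact absurd ⟨l, rfl⟩ hx)
    (Fin.castAdd t : Fin s → Fin (s + t)) (Fin.natAdd s : Fin t → Fin (s + t))
    (fun i : Fin r => Fin.castAdd t (Fin.castAdd s i))
    (by
      rintro l ⟨i, hi⟩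
      have := congrArg Fin.val hi
      simp at this
      omega)
  have e1 : ∀ j : Fin s, Fin.cast hassoc (Fin.natAdd r (Fin.castAdd t j)) =
      Fin.castAdd t (Fin.natAdd r j) := by
    intro j; ext; simp
  have e2 : ∀ l : Fin t, Fin.cast hassoc (Fin.natAdd r (Fin.natAdd s l)) =
      Fin.natAdd (r + s) l := by
    intro l; ext; simp [Nat.add_assoc]
  have e3 : ∀ i : Fin r, (finCongr (Nat.add_assoc r s t)).symm (Fin.castAdd (s + t) i) =
      Fin.castAdd t (Fin.castAdd s i) := by
    intro i; ext; simp
  have e4 : ∀ i : Fin (s + t), (finCongr (Nat.add_assoc r s t)).symm (Fin.natAdd r i) =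
      Fin.cast hassoc (Fin.natAdd r i) := by
    intro i; ext; simp
  have hmono : ∀ {k : ℕ} (f : Fin k → Fin (r + s + t)),
      Monotone (fun i => (finCongr (Nat.add_assoc r s t)) (f i)) ↔ Monotone f := by
    intro k f
    constructor
    · intro h i j hij
      have := h hij
      simpa using this
    · intro h i j hij
      have := h hij
      simpa using this
  have hS : {τ : Equiv.Perm (Fin (r + s + t)) |
      W4c2movlemaddchow.IsShuffle₂ r (s + t) ((finCongr (Nat.add_assoc r s t)).permCongr τ)} =
      {τ | Monotone (fun i : Fin (s + t) => τ (Fin.cast hassoc (Fin.natAdd r i))) ∧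
        Monotone (fun i : Fin r => τ (Fin.castAdd t (Fin.castAdd s i)))} := by
    ext τ
    simp only [Set.mem_setOf_eq, IsShuffle₂, Equiv.permCongr_apply, e3, e4]
    rw [hmono, hmono]
    exact and_comm
  have hT : {ν : Equiv.Perm (Fin (r + s + t)) | W4c2movlemaddchow.IsShuffle₃ r s t ν} =
      {ν | Monotone (fun j : Fin s => ν (Fin.cast hassoc (Fin.natAdd r (Fin.castAdd t j)))) ∧
        Monotone (fun l : Fin t => ν (Fin.cast hassoc (Fin.natAdd r (Fin.natAdd s l)))) ∧
        Monotone (fun i : Fin r => ν (Fin.castAdd t (Fin.castAdd s i)))} := by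
    ext ν
    simp only [Set.mem_setOf_eq, IsShuffle₃, e1, e2]
    tauto
  rw [hS, hT]
  exact this

end Groth.Agent.S15081
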