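import Groth.Statements.S15082
import Groth.Agent.S15080
import Groth.Agent.S15081
import Groth.Agent.Lib.Helper4.Shuffle

set_option autoImplicit false
open W4c2movlemaddchow

namespace Groth.Agent.S15082
open Groth.Agent.Lib.Helper4.Shuffle

theorem sum_of_bijOn {n a : ℕ} (ext : Equiv.Perm (Fin a) → Equiv.Perm (Fin n))
    (hsign : ∀ σ, Equiv.Perm.sign (ext σ) = Equiv.Perm.sign σ)
    (PT : Equiv.Perm (Fin n) → Prop) (PS : Equiv.Perm (Fin a) → Prop) (PN : Equiv.Perm (Fin n) → Prop)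
    [DecidablePred PT] [DecidablePred PS] [DecidablePred PN]
    (hbij : Set.BijOn (fun p : Equiv.Perm (Fin n) × Equiv.Perm (Fin a) => p.1 * ext p.2)
      ({τ | PT τ} ×ˢ {σ | PS σ}) {ν | PN ν}) :
    ((∑ ν ∈ Finset.univ.filter PN,
        MonoidAlgebra.single ν (((Equiv.Perm.sign ν : ℤˣ) : ℤ)) :
          MonoidAlgebra ℤ (Equiv.Perm (Fin n))) =
      ∑ τ ∈ Finset.univ.filter PT,
        ∑ σ ∈ Finset.univ.filter PS,
          MonoidAlgebra.single (τ * ext σ)
            (((Equiv.Perm.sign τ : ℤˣ) : ℤ) * ((Equiv.Perm.sign σ : ℤˣ) : ℤ))) := by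
  rw [← Finset.sum_product']
  symm
  apply Finset.sum_nbij (fun p : Equiv.Perm (Fin n) × Equiv.Perm (Fin a) => p.1 * ext p.2)
  · rintro ⟨τ, σ⟩ hp
    simp only [Finset.mem_product, Finset.mem_filter, Finset.mem_univ, true_and] at hp
    have := hbij.mapsTo (show (τ, σ) ∈ ({τ | PT τ} ×ˢ {σ | PS σ} : Set _) from ⟨hp.1, hp.2⟩)
    simpa using this
  · intro p hp q hq h
    simp only [Finset.coe_product, Finset.coe_filter, Finset.mem_univ, true_and] at hp hq
    exact hbij.injOn hp hq h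
  · intro ν hν
    simp only [Finset.coe_filter, Finset.mem_univ, true_and, Set.mem_setOf_eq] at hν
    obtain ⟨p, hp, rfl⟩ := hbij.surjOn hν
    refine ⟨p, ?_, rfl⟩
    simpa using hp
  · rintro ⟨τ, σ⟩ -
    simp only [map_mul, hsign, Units.val_mul]


/-- Let r, s, t ≥ 1. In the group ring ℤ[S_{r+s+t}] the element Σ_ν sgn(ν) ν, summed over all (r, s,
t)-shuffles ν, equals Σ_τ Σ_σ sgn(τ) sgn(σ) τ ∘ (σ × id), summed over (r+s, t)-shuffles τ and (r,
s)-shuffles σ of the first r+s letters, and also equals Σ_{τ'} Σ_{σ'} sgn(τ') sgn(σ') τ' ∘ (id ×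
σ'), summed over (r, s+t)-shuffles τ' and (s, t)-shuffles σ' of the last s+t letters. (Shuffles are
permutations monotone on each consecutive block; composites apply the right-hand factor first.) -/
theorem result (r s t : ℕ) (hr : 1 ≤ r) (hs : 1 ≤ s) (ht : 1 ≤ t) :
    ((∑ ν ∈ Finset.univ.filter (W4c2movlemaddchow.IsShuffle₃ r s t),
        MonoidAlgebra.single ν (((Equiv.Perm.sign ν : ℤˣ) : ℤ)) :
          MonoidAlgebra ℤ (Equiv.Perm (Fin (r + s + t)))) =
      ∑ τ ∈ Finset.univ.filter (W4c2movlemaddchow.IsShuffle₂ (r + s) t),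
        ∑ σ ∈ Finset.univ.filter (W4c2movlemaddchow.IsShuffle₂ r s),
          MonoidAlgebra.single (τ * W4c2movlemaddchow.extRight (r + s) t σ)
            (((Equiv.Perm.sign τ : ℤˣ) : ℤ) * ((Equiv.Perm.sign σ : ℤˣ) : ℤ))) ∧
    ((∑ ν ∈ Finset.univ.filter (W4c2movlemaddchow.IsShuffle₃ r s t),
        MonoidAlgebra.single ν (((Equiv.Perm.sign ν : ℤˣ) : ℤ)) :
          MonoidAlgebra ℤ (Equiv.Perm (Fin (r + s + t)))) =
      ∑ τ ∈ Finset.univ.filter (fun τ : Equiv.Perm (Fin (r + s + t)) =>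
          W4c2movlemaddchow.IsShuffle₂ r (s + t) ((finCongr (Nat.add_assoc r s t)).permCongr τ)),
        ∑ σ ∈ Finset.univ.filter (W4c2movlemaddchow.IsShuffle₂ s t),
          MonoidAlgebra.single (τ * W4c2movlemaddchow.extLeft r s t σ)
            (((Equiv.Perm.sign τ : ℤˣ) : ℤ) * ((Equiv.Perm.sign σ : ℤˣ) : ℤ))) := by
  constructor
  · exact sum_of_bijOn (extRight (r + s) t) (sign_extRight _ _) _ _ _
      (Groth.Agent.S15080.result r s t hr hs ht)
  · exact sum_of_bijOn (extLeft r s t) (sign_extLeft _ _ _) _ _ _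
      (Groth.Agent.S15081.result r s t hr hs ht)

end Groth.Agent.S15082
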