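import Groth.Statements.S15083
import Mathlib.Tactic
import Mathlib.Algebra.Polynomial.Eval.Coeff

set_option autoImplicit false
universe u
open MovLem

namespace Groth.Agent.S15083


section aux
open Matrix

variable {ι F : Type*} [DecidableEq ι] [Fintype ι] [Field F]

private lemma tv_mulVec {i j : ι} (b : F) (v : ι → F) :
    (Matrix.transvection i j b) *ᵥ v = v + Pi.single i (b * v j) := by
  ext k
  simp only [Matrix.transvection, add_mulVec, one_mulVec, Pi.add_apply]
  congr 1
  by_cases hk : k = i
  · subst hk
    simp [Matrix.mulVec, dotProduct, Matrix.single_apply]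
  · simp [Matrix.mulVec, dotProduct, Matrix.single_apply, Pi.single_apply, hk, Ne.symm hk]

private lemma diag2n_decompose {i j : ι} (hij : i ≠ j) (c : F) (hc : c ≠ 0) :
    SpecialLinearGroup.diag2n hij c hc =
      SpecialLinearGroup.transvection hij c * SpecialLinearGroup.transvection hij.symm (-c⁻¹) *
        SpecialLinearGroup.transvection hij (c - 1) * SpecialLinearGroup.transvection hij.symm 1 *
        SpecialLinearGroup.transvection hij (-1) := by
  apply Subtype.ext
  apply Matrix.ext_of_mulVec_single
  intro k
  simp only [SpecialLinearGroup.coe_mul, SpecialLinearGroup.diag2n_coe]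
  simp only [← Matrix.mulVec_mulVec]
  change _ = (Matrix.transvection i j c) *ᵥ ((Matrix.transvection j i (-c⁻¹)) *ᵥ
    ((Matrix.transvection i j (c - 1)) *ᵥ ((Matrix.transvection j i 1) *ᵥ
      ((Matrix.transvection i j (-1)) *ᵥ (Pi.single k 1)))))
  simp only [tv_mulVec]
  ext l
  simp only [mulVec_single, Pi.add_apply, Pi.single_apply, Matrix.col_apply, diagonal_apply, MulOpposite.op_one, Pi.smul_apply, one_smul]
  by_cases hki : k = i
  · subst hki
    by_cases hlk : l = k
    · subst hlk; (try simp [hij, hij.symm]) <;> (try field_simp) <;> (try ring_nf) <;> (try simp)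
    · by_cases hlj : l = j
      · subst hlj; (try simp [hij, hij.symm, hlk]) <;> (try field_simp) <;> (try ring_nf) <;> (try simp)
      · (try simp [hij, hij.symm, hlk, hlj, Ne.symm hlk, Ne.symm hlj]) <;> (try field_simp) <;> (try ring_nf) <;> (try simp)
  · by_cases hkj : k = j
    · subst hkj
      by_cases hlk : l = k
      · subst hlk; (try simp [hij, hij.symm]) <;> (try field_simp) <;> (try ring_nf) <;> (try simp)
      · by_cases hli : l = i
        · subst hli; (try simp [hij, hij.symm, hlk]) <;> (try field_simp) <;> (try ring_nf) <;> (try simp)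
        · (try simp [hij, hij.symm, hlk, hli, Ne.symm hlk, Ne.symm hli]) <;> (try field_simp) <;> (try ring_nf) <;> (try simp)
    · by_cases hlk : l = k
      · subst hlk; (try simp [hij, hij.symm, hki, hkj, Ne.symm hki, Ne.symm hkj]) <;> (try field_simp) <;> (try ring_nf) <;> (try simp)
      · (try simp [hij, hij.symm, hki, hkj, Ne.symm hki, Ne.symm hkj, hlk, Ne.symm hlk]) <;> (try field_simp) <;> (try ring_nf) <;> (try simp)

private lemma map_transvection {R S : Type*} [CommRing R] [CommRing S] (f : R →+* S) {i j : ι} (hij : i ≠ j)
    (b : R) : SpecialLinearGroup.map f (SpecialLinearGroup.transvection hij b) =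
      SpecialLinearGroup.transvection hij (f b) := by
  apply Subtype.ext
  change f.mapMatrix ((1 : Matrix ι ι R) + Matrix.single i j b) = (1 : Matrix ι ι S) + Matrix.single i j (f b)
  rw [map_add, map_one]
  congr 1
  ext k l
  simp only [RingHom.mapMatrix_apply, Matrix.map_apply, Matrix.single_apply]
  split_ifs <;> simp

end aux

/-- Let K be a field and r ≥ 1. For every element A of the special linear group SL_{r+1}(K) there is an
algebraic path in SL_{r+1} from the identity to A defined over K: a matrix M of determinant 1 with
entries in the polynomial ring K[y] such that M(0) is the identity matrix and M(1) = A. (The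
published statement takes K to be the function field of SL_{r+1} over the ground field, A its
generic point viewed as a K-rational point, and the parameter space to be the projective line minus
the point 1, with endpoints 0 and ∞; this row gives the path for an arbitrary K-point A on the
affine line with endpoints 0 and 1, which is what the published construction provides before
composing with the coordinate change y ↦ y/(y − 1).) -/
theorem result
    (K : Type u) [Field K] (r : ℕ) (hr : 1 ≤ r)
    (A : Matrix.SpecialLinearGroup (Fin (r + 1)) K) :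
    ∃ M : Matrix.SpecialLinearGroup (Fin (r + 1)) (Polynomial K),
      Matrix.SpecialLinearGroup.map (Polynomial.evalRingHom (0 : K)) M = 1 ∧
      Matrix.SpecialLinearGroup.map (Polynomial.evalRingHom (1 : K)) M = A := by
  haveI : Nontrivial (Fin (r + 1)) := Fin.nontrivial_iff_two_le.2 (by omega)
  have htv : ∀ (i j : Fin (r + 1)) (hij : i ≠ j) (a : K),
      ∃ M : Matrix.SpecialLinearGroup (Fin (r + 1)) (Polynomial K),
        Matrix.SpecialLinearGroup.map (Polynomial.evalRingHom (0 : K)) M = 1 ∧
        Matrix.SpecialLinearGroup.map (Polynomial.evalRingHom (1 : K)) M =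
          Matrix.SpecialLinearGroup.transvection hij a := by
    intro i j hij a
    refine ⟨Matrix.SpecialLinearGroup.transvection hij (Polynomial.C a * Polynomial.X), ?_, ?_⟩
    · rw [map_transvection]
      simp
    · rw [map_transvection]
      simp
  have hmul : ∀ A B : Matrix.SpecialLinearGroup (Fin (r + 1)) K,
      (∃ M : Matrix.SpecialLinearGroup (Fin (r + 1)) (Polynomial K),
        Matrix.SpecialLinearGroup.map (Polynomial.evalRingHom (0 : K)) M = 1 ∧
        Matrix.SpecialLinearGroup.map (Polynomial.evalRingHom (1 : K)) M = A) →
      (∃ M : Matrix.SpecialLinearGroup (Fin (r + 1)) (Polynomial K),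
        Matrix.SpecialLinearGroup.map (Polynomial.evalRingHom (0 : K)) M = 1 ∧
        Matrix.SpecialLinearGroup.map (Polynomial.evalRingHom (1 : K)) M = B) →
      ∃ M : Matrix.SpecialLinearGroup (Fin (r + 1)) (Polynomial K),
        Matrix.SpecialLinearGroup.map (Polynomial.evalRingHom (0 : K)) M = 1 ∧
        Matrix.SpecialLinearGroup.map (Polynomial.evalRingHom (1 : K)) M = A * B := by
    rintro A B ⟨M, hM0, hM1⟩ ⟨N, hN0, hN1⟩
    exact ⟨M * N, by rw [map_mul, hM0, hN0, one_mul], by rw [map_mul, hM1, hN1]⟩
  refine Matrix.SpecialLinearGroup.diagonal_transvection_induction'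
    (fun A => ∃ M : Matrix.SpecialLinearGroup (Fin (r + 1)) (Polynomial K),
        Matrix.SpecialLinearGroup.map (Polynomial.evalRingHom (0 : K)) M = 1 ∧
        Matrix.SpecialLinearGroup.map (Polynomial.evalRingHom (1 : K)) M = A) A ?_ htv hmul
  intro i j hij c hc
  rw [diag2n_decompose hij c hc]
  exact hmul _ _ (hmul _ _ (hmul _ _ (hmul _ _ (htv _ _ _ _) (htv _ _ _ _)) (htv _ _ _ _))
    (htv _ _ _ _)) (htv _ _ _ _)

end Groth.Agent.S15083
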