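import Groth.Statements.S1510
import Mathlib
import Groth.Prelude.Def_MoreMor
import Groth.Prelude.Def_Mor2
import Groth.Prelude.Def_LCI2
import Groth.Agent.Lib.Helper15.RelPC20
-- import your own Groth.Agent.* helpers here

set_option autoImplicit false
universe u
attribute [local instance] HasDerivedCategory.standard
open FlatMor

namespace Groth.Agent.S1510

section H
namespace W1
open AlgebraicGeometry CategoryTheory Limits

theorem main {X Y S : Scheme.{u}} (f : X ⟶ Y) (g : Y ⟶ S) [Smooth g] (h : MoreMor.IsPerfectMor (f ≫ g)) :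
    MoreMor.IsPerfectMor f :=
  Groth.Agent.Lib.Helper15.RelPC20.isPerfectMor_of_comp_smooth f g h

end W1
end H


open AlgebraicGeometry CategoryTheory Limits in
/-- Let f : X → Y and g : Y → S with g smooth and f ≫ g perfect. Then f is perfect. -/
theorem result {X Y S : Scheme.{u}} (f : X ⟶ Y) (g : Y ⟶ S) [Smooth g] (h : MoreMor.IsPerfectMor (f ≫ g)) :
    MoreMor.IsPerfectMor f := by
  exact W1.main f g h

end Groth.Agent.S1510
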