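import Groth.Statements.S15115
-- import your own Groth.Agent.* helpers here
import Groth.Agent.Lib.Helper26.ComodReynolds
import Mathlib.RingTheory.IsTensorProduct

set_option autoImplicit false
universe u
open HopfRep

namespace Groth.Agent.S15115

open Groth.Agent.Lib.Helper26.Comod in
theorem reyn_smul_of_coact_smul {k : Type*} [Field k] {A : Type*} [CommRing A] [HopfAlgebra k A]
    {V : Type*} [AddCommGroup V] [Module k V] [HopfRep.Comod k A V]
    {B : Type*} [CommRing B] [Algebra k B] [Module B V] [IsScalarTower k B V] (I : A →ₗ[k] k)
    (h : ∀ (b : B) (v : V), HopfRep.Comod.coact (k := k) (A := A) (b • v) =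
      b • HopfRep.Comod.coact (k := k) (A := A) v)
    (b : B) (v : V) : reyn V I (b • v) = b • reyn V I v := by
  rw [reyn, Groth.Agent.Lib.Helper23.reynolds_eq, Groth.Agent.Lib.Helper23.reynolds_eq, h]
  generalize HopfRep.Comod.coact (k := k) (A := A) v = y
  induction y using TensorProduct.induction_on with
  | zero => simp
  | tmul m a =>
    rw [TensorProduct.smul_tmul', Groth.Agent.Lib.Helper23.phi_tmul,
      Groth.Agent.Lib.Helper23.phi_tmul, smul_comm]
  | add x y hx hy => simp only [smul_add, map_add, hx, hy]

open TensorProduct in
/-- Let k be an algebraically closed field, H a finite-dimensional commutative Hopf algebra over k all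
of whose finite-dimensional comodules are semisimple (a finite linearly reductive group scheme G
over k), A a commutative k-algebra, and M an A-module with an H-coaction that is A-linear (G acts on
M by A-module maps, A carrying the trivial action). Let A' be a commutative A-algebra and N = A' ⊗_A
M its base change, exhibited by an A-linear map φ : M → N, with the induced coaction: A'-linear and
compatible with φ. Then invariants commute with this base change: writing M^G for the A-submodule of
coinvariant elements of M, the natural map A' ⊗_A M^G → N, a' ⊗ m ↦ a' φ(m), is injective and its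
image is exactly the set of coinvariant elements of N. (The published statement is the isomorphism
ρ^* π_* F → π'_* σ^* F for a tame Deligne–Mumford stack with coarse moduli space π and any base
change ρ of the coarse space; this row is the statement about invariants to which its proof reduces
it, for modules that need not be finitely generated.) -/
theorem result (k : Type u) [Field k] [IsAlgClosed k]
    (H : Type u) [CommRing H] [HopfAlgebra k H] [Module.Finite k H] (hred : HopfRep.IsLinearlyReductive k H)
    (A : Type u) [CommRing A] [Algebra k A]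
    (M : Type u) [AddCommGroup M] [Module k M] [Module A M] [IsScalarTower k A M] [HopfRep.Comod k H M]
    (hlin : ∀ (a : A) (m : M), HopfRep.Comod.coact (k := k) (A := H) (a • m) = a • HopfRep.Comod.coact (k := k) (A := H) m)
    (A' : Type u) [CommRing A'] [Algebra k A'] [Algebra A A'] [IsScalarTower k A A']
    (N : Type u) [AddCommGroup N] [Module k N] [Module A N] [Module A' N]
    [IsScalarTower k A N] [IsScalarTower A A' N] [IsScalarTower k A' N] [HopfRep.Comod k H N]
    (φ : M →ₗ[A] N) (hφ : IsBaseChange A' φ)
    (hcomp : ∀ m : M, HopfRep.Comod.coact (k := k) (A := H) (φ m) =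
      LinearMap.rTensor H (φ.restrictScalars k) (HopfRep.Comod.coact (k := k) (A := H) m))
    (hlinN : ∀ (a' : A') (n : N), HopfRep.Comod.coact (k := k) (A := H) (a' • n) = a' • HopfRep.Comod.coact (k := k) (A := H) n)
    (P : Submodule A M) (hP : (P : Set M) = (HopfRep.fixedPts k H M : Set M)) :
    Function.Injective (TensorProduct.lift (((Algebra.lsmul A A N : A' →ₐ[A] Module.End A N).toLinearMap).compl₂ (φ ∘ₗ P.subtype))) ∧
      Set.range (TensorProduct.lift (((Algebra.lsmul A A N : A' →ₐ[A] Module.End A N).toLinearMap).compl₂ (φ ∘ₗ P.subtype))) =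
        (HopfRep.fixedPts k H N : Set N) := by
  classical
  obtain ⟨I, hI, hI1⟩ := Groth.Agent.Lib.Helper26.Comod.exists_isIntegral hred
  have hEM_lin := reyn_smul_of_coact_smul (V := M) (B := A) I hlin
  have hEN_lin := reyn_smul_of_coact_smul (V := N) (B := A') I hlinN
  have hφE : ∀ m, φ (Groth.Agent.Lib.Helper26.Comod.reyn M I m) =
      Groth.Agent.Lib.Helper26.Comod.reyn N I (φ m) := fun m =>
    Groth.Agent.Lib.Helper26.Comod.reyn_comm I (φ.restrictScalars k)
      (LinearMap.ext fun m => hcomp m) m
  have hPmem : ∀ m : M, m ∈ P ↔ m ∈ HopfRep.fixedPts k H M := by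
    intro m
    rw [← SetLike.mem_coe, hP, SetLike.mem_coe]
  let e : M →ₗ[A] P :=
    { toFun := fun m => ⟨Groth.Agent.Lib.Helper26.Comod.reyn M I m,
        (hPmem _).mpr (Groth.Agent.Lib.Helper26.Comod.reyn_mem_fixedPts hI m)⟩
      map_add' := fun x y => Subtype.ext (map_add _ x y)
      map_smul' := fun a x => Subtype.ext (hEM_lin a x) }
  have he : e ∘ₗ P.subtype = LinearMap.id := by
    ext p
    exact Groth.Agent.Lib.Helper26.Comod.reyn_eq_self hI1 _ ((hPmem _).mp p.2)
  set L := TensorProduct.lift
    (((Algebra.lsmul A A N : A' →ₐ[A] Module.End A N).toLinearMap).compl₂ (φ ∘ₗ P.subtype)) with hLdef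
  have hL : ∀ (a' : A') (p : P), L (a' ⊗ₜ[A] p) = a' • φ (p : M) := by
    intro a' p
    simp [hLdef]
  have hLeq : ∀ x, L x = hφ.equiv (P.subtype.lTensor A' x) := by
    intro x
    induction x using TensorProduct.induction_on with
    | zero => simp
    | tmul a' p => rw [hL, LinearMap.lTensor_tmul, IsBaseChange.equiv_tmul]; rfl
    | add x y hx hy => simp only [map_add, hx, hy]
  have hLsmul : ∀ (a' : A') x, L (a' • x) = a' • L x := by
    intro a' x
    induction x using TensorProduct.induction_on with
    | zero => simp
    | tmul b p => rw [TensorProduct.smul_tmul', hL, hL, smul_eq_mul, mul_smul]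
    | add x y hx hy => simp only [smul_add, map_add, hx, hy]
  constructor
  · intro x y hxy
    rw [hLeq, hLeq] at hxy
    have h1 := hφ.equiv.injective hxy
    have h2 := congrArg (e.lTensor A') h1
    rw [← LinearMap.lTensor_comp_apply, ← LinearMap.lTensor_comp_apply, he, LinearMap.lTensor_id] at h2
    exact h2
  · apply Set.eq_of_subset_of_subset
    · rintro _ ⟨x, rfl⟩
      change L x ∈ HopfRep.fixedPts k H N
      induction x using TensorProduct.induction_on with
      | zero => rw [map_zero]; exact Submodule.zero_mem _
      | tmul a' p =>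
        rw [hL]
        change HopfRep.Comod.coact (k := k) (A := H) (a' • φ (p : M)) = (a' • φ (p : M)) ⊗ₜ[k] (1 : H)
        have hp : HopfRep.Comod.coact (k := k) (A := H) (p : M) = (p : M) ⊗ₜ[k] (1 : H) :=
          (hPmem _).mp p.2
        rw [hlinN, hcomp, hp, LinearMap.rTensor_tmul, TensorProduct.smul_tmul']
        rfl
      | add x y hx hy => rw [map_add]; exact Submodule.add_mem _ hx hy
    · intro n hn
      have hn' : Groth.Agent.Lib.Helper26.Comod.reyn N I n = n :=
        Groth.Agent.Lib.Helper26.Comod.reyn_eq_self hI1 n hn
      rw [← hn']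
      clear hn hn'
      induction n using hφ.inductionOn with
      | zero => exact ⟨0, by simp⟩
      | tmul m =>
        refine ⟨(1 : A') ⊗ₜ[A] e m, ?_⟩
        change L _ = _
        rw [hL, one_smul, ← hφE]
        rfl
      | smul a' n hn =>
        obtain ⟨x, hx⟩ := hn
        refine ⟨a' • x, ?_⟩
        change L _ = _
        rw [hLsmul, hEN_lin]
        congr 1
      | add n₁ n₂ h₁ h₂ =>
        obtain ⟨x, hx⟩ := h₁
        obtain ⟨y, hy⟩ := h₂
        refine ⟨x + y, ?_⟩
        rw [map_add, map_add, hx, hy]

end Groth.Agent.S15115
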