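import Groth.Statements.S15121
-- import your own Groth.Agent.* helpers here
import Mathlib.RingTheory.GradedAlgebra.Basic
import Mathlib.RingTheory.Derivation.Basic
import Mathlib.RingTheory.Ideal.Maximal

set_option autoImplicit false
universe u v w
open InvQ

namespace Groth.Agent.S15121

section Aux

variable {k : Type u} [Field k] {A : Type v} [CommRing A] [Algebra k A]
  {Λ : Type w} [AddCommGroup Λ] [DecidableEq Λ] (𝒜 : Λ → Submodule k A) [GradedAlgebra 𝒜]

theorem proj_zero_mul_mem (hpos : ∀ w : Λ, 𝒜 w ≠ ⊥ → 𝒜 (-w) ≠ ⊥ → w = 0)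
    (D : Submodule k A) {u v : Λ} {a x : A} (ha : a ∈ 𝒜 u) (hx : x ∈ 𝒜 v)
    (h0 : u = 0 → v = 0 → a * x ∈ D) : GradedRing.proj 𝒜 0 (a * x) ∈ D := by
  have hax : a * x ∈ 𝒜 (u + v) := SetLike.mul_mem_graded ha hx
  rw [GradedRing.proj_apply]
  by_cases huv : u + v = 0
  · rw [DirectSum.decompose_of_mem_same 𝒜 (huv ▸ hax)]
    by_cases hu : u = 0
    · have hv : v = 0 := by rw [hu, zero_add] at huv; exact huv
      exact h0 hu hv
    · have hv : v = -u := eq_neg_of_add_eq_zero_right huv
      have : 𝒜 u = ⊥ ∨ 𝒜 (-u) = ⊥ := by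
        by_contra hh
        push Not at hh
        exact hu (hpos u hh.1 hh.2)
      rcases this with h | h
      · rw [h] at ha
        rw [(Submodule.mem_bot k).mp ha, zero_mul]
        exact D.zero_mem
      · rw [hv, h] at hx
        rw [(Submodule.mem_bot k).mp hx, mul_zero]
        exact D.zero_mem
  · rw [DirectSum.decompose_of_mem_ne 𝒜 hax huv]
    exact D.zero_mem

theorem exists_slice (hpos : ∀ w : Λ, 𝒜 w ≠ ⊥ → 𝒜 (-w) ≠ ⊥ → w = 0)
    (δ : Derivation k A A)
    (d : Λ) (hhom : ∀ (w : Λ) (a : A), a ∈ 𝒜 w → δ a ∈ 𝒜 (w + d)) (hd : 𝒜 d = ⊥)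
    (hfix : ∀ m : Ideal A, m.IsMaximal → (∀ w : Λ, w ≠ 0 → (𝒜 w : Set A) ⊆ m) →
      ¬ (Set.range δ ⊆ m)) :
    ∃ s ∈ 𝒜 (-d), δ s = 1 := by
  let D : Submodule k A := Submodule.map (δ : A →ₗ[k] A) (𝒜 (-d))
  -- the ideal of elements all of whose multiples have degree-zero part in D
  let M : Ideal A :=
    { carrier := {y | ∀ a : A, GradedRing.proj 𝒜 0 (a * y) ∈ D}
      add_mem' := by
        intro y z hy hz a
        rw [mul_add, map_add]
        exact D.add_mem (hy a) (hz a)
      zero_mem' := by
        intro a
        rw [mul_zero, map_zero]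
        exact D.zero_mem
      smul_mem' := by
        intro b y hy a
        rw [smul_eq_mul, ← mul_assoc]
        exact hy (a * b) }
  have hgen1 : ∀ w : Λ, w ≠ 0 → ∀ x ∈ 𝒜 w, x ∈ M := by
    intro w hw x hx a
    induction a using DirectSum.Decomposition.inductionOn 𝒜 with
    | zero => rw [zero_mul, map_zero]; exact D.zero_mem
    | homogeneous a =>
      exact proj_zero_mul_mem 𝒜 hpos D a.2 hx (fun _ hv => absurd hv hw)
    | add a b ha hb => rw [add_mul, map_add]; exact D.add_mem ha hb
  have hgen2 : ∀ c : A, δ c ∈ M := by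
    intro c a
    induction c using DirectSum.Decomposition.inductionOn 𝒜 with
    | zero => rw [map_zero, mul_zero, map_zero]; exact D.zero_mem
    | add c c' hc hc' => rw [map_add, mul_add, map_add]; exact D.add_mem hc hc'
    | homogeneous c =>
      rename_i t
      induction a using DirectSum.Decomposition.inductionOn 𝒜 with
      | zero => rw [zero_mul, map_zero]; exact D.zero_mem
      | add a b ha hb => rw [add_mul, map_add]; exact D.add_mem ha hb
      | homogeneous a =>
        rename_i u
        apply proj_zero_mul_mem 𝒜 hpos D a.2 (hhom t c c.2)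
        intro hu htd
        have ht : t = -d := eq_neg_of_add_eq_zero_left htd
        have ha0 : (a : A) ∈ 𝒜 0 := hu ▸ a.2
        have hcd : (c : A) ∈ 𝒜 (-d) := ht ▸ c.2
        have hδa : δ (a : A) = 0 := by
          have := hhom 0 a ha0
          rw [zero_add, hd] at this
          exact (Submodule.mem_bot k).mp this
        refine ⟨(a : A) * (c : A), ?_, ?_⟩
        · have := SetLike.mul_mem_graded ha0 hcd
          rwa [zero_add] at this
        · change δ ((a : A) * (c : A)) = _
          rw [Derivation.leibniz, hδa, smul_zero, add_zero, smul_eq_mul]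
  have hJ : M = ⊤ := by
    by_contra hne
    obtain ⟨m, hm, hMm⟩ := Ideal.exists_le_maximal M hne
    refine hfix m hm (fun w hw x hx => hMm (hgen1 w hw x hx)) ?_
    rintro _ ⟨c, rfl⟩
    exact hMm (hgen2 c)
  have h1 : (1 : A) ∈ M := by rw [hJ]; trivial
  have h2 := h1 1
  rw [mul_one, GradedRing.proj_apply,
    DirectSum.decompose_of_mem_same 𝒜 (SetLike.GradedOne.one_mem)] at h2
  obtain ⟨s, hs, hs1⟩ := h2
  exact ⟨s, hs, hs1⟩

end Aux


/-- Let k be a field of characteristic zero and A a commutative k-algebra graded by a finitely generated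
free abelian group Λ (the character group of a torus acting on Spec A) whose grading monoid is
positive: if the pieces of degrees w and −w are both non-zero then w = 0. Let δ be a locally
nilpotent k-derivation of A (an action of the additive group) that is homogeneous of degree d, with
the piece of degree d equal to zero (the graded condition on the Lie algebra weight). Suppose that
no maximal ideal of A contains both all graded pieces of non-zero degree and the image of δ (every
torus-fixed closed point has trivial stabiliser under the additive group). Then δ has a homogeneous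
slice: some s of degree −d with δ s = 1. (The published statement is for the coordinate ring of an
affine variety over an algebraically closed field of characteristic zero and concludes moreover that
the quotient map by the additive group is a trivial principal bundle, which follows from the slice
by a standard argument not restated here; this row keeps the algebraic content, for any such graded
algebra.) -/
theorem result
    (k : Type u) [Field k] [CharZero k]
    (A : Type v) [CommRing A] [Algebra k A]
    (Λ : Type w) [AddCommGroup Λ] [DecidableEq Λ] [Module.Free ℤ Λ] [Module.Finite ℤ Λ]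
    (𝒜 : Λ → Submodule k A) [GradedAlgebra 𝒜]
    (hpos : ∀ w : Λ, 𝒜 w ≠ ⊥ → 𝒜 (-w) ≠ ⊥ → w = 0)
    (δ : Derivation k A A) (hnil : ∀ a : A, ∃ n : ℕ, ((δ : A →ₗ[k] A) ^ n) a = 0)
    (d : Λ) (hhom : ∀ (w : Λ) (a : A), a ∈ 𝒜 w → δ a ∈ 𝒜 (w + d)) (hd : 𝒜 d = ⊥)
    (hfix : ∀ m : Ideal A, m.IsMaximal → (∀ w : Λ, w ≠ 0 → (𝒜 w : Set A) ⊆ m) → ¬ (Set.range δ ⊆ m)) :
    ∃ s ∈ 𝒜 (-d), δ s = 1 := by
  exact exists_slice 𝒜 hpos δ d hhom hd hfix

end Groth.Agent.S15121
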