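import Groth.Statements.S15125
import Mathlib
-- import your own Groth.Agent.* helpers here

set_option autoImplicit false
set_option linter.unusedSectionVars false
set_option linter.style.haveILetI false
universe u
open scoped TensorProduct
open Fields

namespace Groth.Agent.S15125

open scoped TensorProduct
open Polynomial

section back

variable (K L : Type u) [Field K] [Field L] [Algebra K L]

theorem d_mem (x : L) : (x ⊗ₜ[K] (1 : L) - (1 : L) ⊗ₜ[K] x) ∈ KaehlerDifferential.ideal K L := by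
  rw [KaehlerDifferential.ideal, RingHom.mem_ker, map_sub]
  simp

theorem d_eq_mul_sq (x : L) (hx : IsSeparable K x) :
    ∃ c : L ⊗[K] L, (x ⊗ₜ[K] (1 : L) - (1 : L) ⊗ₜ[K] x) =
      c * (x ⊗ₜ[K] (1 : L) - (1 : L) ⊗ₜ[K] x) ^ 2 := by
  set f := minpoly K x with hf
  set u : L ⊗[K] L := x ⊗ₜ[K] (1 : L) with hu
  set v : L ⊗[K] L := (1 : L) ⊗ₜ[K] x with hv
  have hfx : aeval x f = 0 := minpoly.aeval K x
  have hfu : aeval u f = 0 := by
    have := Polynomial.aeval_algHom_apply (Algebra.TensorProduct.includeLeft : L →ₐ[K] L ⊗[K] L) x f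
    rw [hfx, map_zero] at this
    exact this
  have hfv : aeval v f = 0 := by
    have := Polynomial.aeval_algHom_apply (Algebra.TensorProduct.includeRight : L →ₐ[K] L ⊗[K] L) x f
    rw [hfx, map_zero] at this
    exact this
  have hder : aeval x (derivative f) ≠ 0 := Polynomial.Separable.aeval_derivative_ne_zero hx hfx
  have hfv' : aeval v (derivative f) = (1 : L) ⊗ₜ[K] (aeval x (derivative f)) := by
    have := Polynomial.aeval_algHom_apply (Algebra.TensorProduct.includeRight : L →ₐ[K] L ⊗[K] L) x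
      (derivative f)
    exact this
  obtain ⟨k, hk⟩ := Polynomial.binomExpansion (f.map (algebraMap K (L ⊗[K] L))) v (u - v)
  rw [add_sub_cancel, Polynomial.eval_map_algebraMap, Polynomial.eval_map_algebraMap,
    Polynomial.derivative_map, Polynomial.eval_map_algebraMap, hfu, hfv, hfv', zero_add] at hk
  refine ⟨-((1 : L) ⊗ₜ[K] (aeval x (derivative f))⁻¹) * k, ?_⟩
  have h1 : ((1 : L) ⊗ₜ[K] (aeval x (derivative f))⁻¹) * ((1 : L) ⊗ₜ[K] (aeval x (derivative f)))
      = (1 : L ⊗[K] L) := by
    rw [Algebra.TensorProduct.tmul_mul_tmul, one_mul, inv_mul_cancel₀ hder]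
    rfl
  have h2 : (1 : L) ⊗ₜ[K] (aeval x (derivative f)) * (u - v) = - (k * (u - v) ^ 2) := by
    rw [eq_neg_iff_add_eq_zero]
    exact hk.symm
  calc u - v = ((1 : L) ⊗ₜ[K] (aeval x (derivative f))⁻¹ *
        ((1 : L) ⊗ₜ[K] (aeval x (derivative f)))) * (u - v) := by rw [h1, one_mul]
    _ = (1 : L) ⊗ₜ[K] (aeval x (derivative f))⁻¹ *
        ((1 : L) ⊗ₜ[K] (aeval x (derivative f)) * (u - v)) := by ring
    _ = _ := by rw [h2]; ring

theorem d_mem_pow (x : L) (hx : IsSeparable K x) (n : ℕ) :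
    (x ⊗ₜ[K] (1 : L) - (1 : L) ⊗ₜ[K] x) ∈ (KaehlerDifferential.ideal K L) ^ n := by
  obtain ⟨c, hc⟩ := d_eq_mul_sq K L x hx
  induction n with
  | zero => simp
  | succ n ih =>
    rw [hc, pow_two, ← mul_assoc, pow_succ']
    exact Ideal.mul_mem_mul (Ideal.mul_mem_left _ _ (d_mem K L x)) ih

theorem of_eq_iff (x : L) :
    AdicCompletion.of (KaehlerDifferential.ideal K L) (L ⊗[K] L) (x ⊗ₜ[K] (1 : L)) =
        AdicCompletion.of (KaehlerDifferential.ideal K L) (L ⊗[K] L) ((1 : L) ⊗ₜ[K] x) ↔
      ∀ n : ℕ, (x ⊗ₜ[K] (1 : L) - (1 : L) ⊗ₜ[K] x) ∈ (KaehlerDifferential.ideal K L) ^ n := by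
  constructor
  · intro h n
    have := congrArg (fun z => AdicCompletion.eval _ _ n z) h
    simp only [AdicCompletion.eval_of] at this
    have h2 := (Submodule.Quotient.eq _).mp this
    simpa using h2
  · intro h
    refine AdicCompletion.ext (fun n => ?_)
    rw [AdicCompletion.of_apply, AdicCompletion.of_apply]
    refine (Submodule.Quotient.eq _).mpr ?_
    simpa using h n

end back

section core

variable (K : Type u) [Field K] (L : Type u) [Field L] [Algebra K L]
  (A : Type u) [CommRing A] [Algebra K A]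
  {M : Type u} [AddCommGroup M] [Module K M] [Module A M] [IsScalarTower K A M]

theorem lmul_eq_zero_of_mul_eq_zero (D : Derivation K A M) (a : A)
    (hD : ∀ c : A, c • D a = 0 → c = 0) (e' : A ⊗[K] A)
    (h : e' * (a ⊗ₜ[K] (1 : A) - (1 : A) ⊗ₜ[K] a) = 0) :
    Algebra.TensorProduct.lmul' (S := A) K e' = 0 := by
  have h1 := D.tensorProductTo_mul e' (a ⊗ₜ[K] (1 : A) - (1 : A) ⊗ₜ[K] a)
  rw [h, map_zero, map_sub, map_sub, Derivation.tensorProductTo_tmul, Derivation.tensorProductTo_tmul,
    Algebra.TensorProduct.lmul'_apply_tmul, Algebra.TensorProduct.lmul'_apply_tmul] at h1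
  simp only [Derivation.map_one_eq_zero, smul_zero, one_smul, zero_sub, mul_one, one_mul, sub_self,
    zero_smul, add_zero, smul_neg] at h1
  exact hD _ (neg_eq_zero.mp h1.symm)

variable {K L A}

theorem lmul_eq_zero_of_flat (φ : A →ₐ[K] L) (hflat : φ.toRingHom.Flat)
    (D : Derivation K A M) (a : A)
    (hD : ∀ c : A, c • D a = 0 → c = 0) (e : L ⊗[K] L)
    (h : e * (φ a ⊗ₜ[K] (1 : L) - (1 : L) ⊗ₜ[K] φ a) = 0) :
    Algebra.TensorProduct.lmul' (S := L) K e = 0 := by
  set Φ : A ⊗[K] A →ₐ[K] L ⊗[K] L := Algebra.TensorProduct.map φ φ with hΦ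
  have hΦflat : Φ.toRingHom.Flat := RingHom.Flat.tensorProductMap (S := K) (R := K) hflat hflat
  letI : Algebra (A ⊗[K] A) (L ⊗[K] L) := Φ.toRingHom.toAlgebra
  haveI : Module.Flat (A ⊗[K] A) (L ⊗[K] L) := hΦflat
  have halg : ∀ y : A ⊗[K] A, algebraMap (A ⊗[K] A) (L ⊗[K] L) y = Φ y := fun _ => rfl
  have hμΦ : ∀ y : A ⊗[K] A, Algebra.TensorProduct.lmul' (S := L) K (Φ y) =
      φ (Algebra.TensorProduct.lmul' (S := A) K y) := by
    intro y
    induction y using TensorProduct.induction_on with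
    | zero => simp
    | tmul y1 y2 => simp [hΦ]
    | add y1 y2 h1 h2 => simp only [map_add, h1, h2]
  set d' : A ⊗[K] A := a ⊗ₜ[K] (1 : A) - (1 : A) ⊗ₜ[K] a with hd'
  have hΦd : Φ d' = φ a ⊗ₜ[K] (1 : L) - (1 : L) ⊗ₜ[K] φ a := by
    simp [hd', hΦ]
  let f : A ⊗[K] A →ₗ[A ⊗[K] A] A ⊗[K] A := LinearMap.mulLeft (A ⊗[K] A) d'
  have hker := Module.Flat.ker_lTensor_eq (L ⊗[K] L) (L ⊗[K] L) f
  have hz0 : e ⊗ₜ[A ⊗[K] A] (1 : A ⊗[K] A) ∈
      LinearMap.ker (TensorProduct.AlgebraTensorModule.lTensor (L ⊗[K] L) (L ⊗[K] L) f) := by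
    rw [LinearMap.mem_ker, TensorProduct.AlgebraTensorModule.lTensor_tmul]
    change e ⊗ₜ[A ⊗[K] A] (d' * 1) = 0
    rw [mul_one]
    have : e ⊗ₜ[A ⊗[K] A] d' = (d' • e) ⊗ₜ[A ⊗[K] A] (1 : A ⊗[K] A) := by
      rw [TensorProduct.smul_tmul, smul_eq_mul, mul_one]
    rw [this, Algebra.smul_def, halg, hΦd, mul_comm, h, TensorProduct.zero_tmul]
  rw [hker] at hz0
  obtain ⟨z, hz⟩ := hz0
  have key : ∀ z : (L ⊗[K] L) ⊗[A ⊗[K] A] (LinearMap.ker f),
      Algebra.TensorProduct.lmul' (S := L) K
        ((TensorProduct.AlgebraTensorModule.rid (A ⊗[K] A) (L ⊗[K] L) (L ⊗[K] L))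
          ((TensorProduct.AlgebraTensorModule.lTensor (L ⊗[K] L) (L ⊗[K] L)
            (LinearMap.ker f).subtype) z)) = 0 := by
    intro z
    induction z using TensorProduct.induction_on with
    | zero => simp
    | tmul r k =>
      rw [TensorProduct.AlgebraTensorModule.lTensor_tmul, TensorProduct.AlgebraTensorModule.rid_tmul,
        Algebra.smul_def, halg, map_mul, hμΦ]
      have hk : k.1 * d' = 0 := by
        have := k.2
        rw [LinearMap.mem_ker] at this
        rw [mul_comm]
        exact this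
      rw [show (LinearMap.ker f).subtype k = k.1 from rfl,
        lmul_eq_zero_of_mul_eq_zero K A D a hD k.1 hk, map_zero, zero_mul]
    | add z1 z2 h1 h2 => simp only [map_add, h1, h2, add_zero]
  have := key z
  rw [hz, TensorProduct.AlgebraTensorModule.rid_tmul, one_smul] at this
  exact this

end core

section cases

variable {K L : Type u} [Field K] [Field L] [Algebra K L]

theorem lmul_eq_zero_of_transcendental (x : L) (hx : Transcendental K x) (e : L ⊗[K] L)
    (h : e * (x ⊗ₜ[K] (1 : L) - (1 : L) ⊗ₜ[K] x) = 0) :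
    Algebra.TensorProduct.lmul' (S := L) K e = 0 := by
  have hflat : (aeval x : K[X] →ₐ[K] L).toRingHom.Flat := by
    letI : Algebra K[X] L := (aeval x : K[X] →ₐ[K] L).toRingHom.toAlgebra
    change Module.Flat K[X] L
    rw [Module.Flat.flat_iff_torsion_eq_bot_of_isBezout, eq_bot_iff]
    rintro m ⟨⟨r, hr⟩, hrm⟩
    have hr0 : r ≠ 0 := nonZeroDivisors.ne_zero hr
    have h1 : aeval x r * m = 0 := hrm
    have h2 : aeval x r ≠ 0 := fun h0 => hr0 ((transcendental_iff.mp hx) r h0)
    exact (mul_eq_zero.mp h1).resolve_left h2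
  have := lmul_eq_zero_of_flat (aeval x : K[X] →ₐ[K] L) hflat
    (Polynomial.derivative' : Derivation K K[X] K[X]) X (fun c hc => by simpa using hc) e
  rw [aeval_X] at this
  exact this h

theorem lmul_eq_zero_of_not_isSeparable (x : L) (hx : IsIntegral K x) (hns : ¬ IsSeparable K x)
    (e : L ⊗[K] L) (h : e * (x ⊗ₜ[K] (1 : L) - (1 : L) ⊗ₜ[K] x) = 0) :
    Algebra.TensorProduct.lmul' (S := L) K e = 0 := by
  haveI : Fact (Irreducible (minpoly K x)) := ⟨minpoly.irreducible hx⟩
  let φ : AdjoinRoot (minpoly K x) →ₐ[K] L :=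
    AdjoinRoot.liftAlgHom (minpoly K x) (Algebra.ofId K L) x (by
      have := minpoly.aeval K x
      rwa [aeval_def] at this)
  have hφ : φ (AdjoinRoot.root (minpoly K x)) = x := AdjoinRoot.liftAlgHom_root _ _ _ _
  have hflat : φ.toRingHom.Flat := by
    letI : Algebra (AdjoinRoot (minpoly K x)) L := φ.toRingHom.toAlgebra
    change Module.Flat (AdjoinRoot (minpoly K x)) L
    infer_instance
  have hDa : KaehlerDifferential.D K (AdjoinRoot (minpoly K x)) (AdjoinRoot.root (minpoly K x)) ≠ 0 := by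
    intro h0
    have hall : ∀ b : AdjoinRoot (minpoly K x), KaehlerDifferential.D K _ b = 0 := by
      intro b
      obtain ⟨g, rfl⟩ := AdjoinRoot.mk_surjective b
      rw [← AdjoinRoot.aeval_eq, Derivation.map_aeval, h0, smul_zero]
    haveI : Subsingleton (Ω[AdjoinRoot (minpoly K x)⁄K]) := by
      have htop : (⊤ : Submodule (AdjoinRoot (minpoly K x)) (Ω[AdjoinRoot (minpoly K x)⁄K])) = ⊥ := by
        rw [← KaehlerDifferential.span_range_derivation, Submodule.span_eq_bot]
        rintro _ ⟨b, rfl⟩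
        exact hall b
      refine subsingleton_of_forall_eq 0 (fun ω => ?_)
      have hω : ω ∈ (⊤ : Submodule (AdjoinRoot (minpoly K x)) (Ω[AdjoinRoot (minpoly K x)⁄K])) :=
        Submodule.mem_top
      rw [htop] at hω
      exact (Submodule.mem_bot _).mp hω
    haveI : Algebra.FormallyUnramified K (AdjoinRoot (minpoly K x)) := ⟨inferInstance⟩
    haveI : Algebra.IsSeparable K (AdjoinRoot (minpoly K x)) :=
      Algebra.FormallyUnramified.isSeparable K _
    have h1 := Algebra.IsSeparable.isSeparable K (AdjoinRoot.root (minpoly K x))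
    have h2 := h1.map φ φ.toRingHom.injective
    rw [hφ] at h2
    exact hns h2
  have := lmul_eq_zero_of_flat φ hflat (KaehlerDifferential.D K (AdjoinRoot (minpoly K x)))
    (AdjoinRoot.root (minpoly K x))
    (fun c hc => (smul_eq_zero.mp hc).resolve_right hDa) e
  rw [hφ] at this
  exact this h

end cases

section main

variable (K L : Type u) [Field K] [Field L] [Algebra K L]

theorem main_result (hfg : (⊤ : IntermediateField K L).FG) (x : L) :
    AdicCompletion.of (KaehlerDifferential.ideal K L) (L ⊗[K] L) (x ⊗ₜ[K] (1 : L)) =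
        AdicCompletion.of (KaehlerDifferential.ideal K L) (L ⊗[K] L) ((1 : L) ⊗ₜ[K] x) ↔
      x ∈ separableClosure K L := by
  rw [of_eq_iff, mem_separableClosure_iff]
  constructor
  · intro h
    by_contra hns
    haveI : Algebra.EssFiniteType K L := IntermediateField.fg_top_iff.mp hfg
    haveI : Algebra.EssFiniteType L (L ⊗[K] L) := inferInstance
    haveI : IsNoetherianRing (L ⊗[K] L) := Algebra.EssFiniteType.isNoetherianRing L _
    have hd : (x ⊗ₜ[K] (1 : L) - (1 : L) ⊗ₜ[K] x) ∈
        (⨅ i : ℕ, (KaehlerDifferential.ideal K L) ^ i • ⊤ : Submodule (L ⊗[K] L) (L ⊗[K] L)) := by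
      rw [Submodule.mem_iInf]
      intro n
      simpa using h n
    obtain ⟨r, hr⟩ := (Ideal.mem_iInf_smul_pow_eq_bot_iff _ _).mp hd
    have he : (1 - (r : L ⊗[K] L)) * (x ⊗ₜ[K] (1 : L) - (1 : L) ⊗ₜ[K] x) = 0 := by
      rw [sub_mul, one_mul, sub_eq_zero]
      exact hr.symm
    have hμ : Algebra.TensorProduct.lmul' (S := L) K (1 - (r : L ⊗[K] L)) = 1 := by
      have hr0 : Algebra.TensorProduct.lmul' (S := L) K (r : L ⊗[K] L) = 0 := r.2
      rw [map_sub, map_one, hr0, sub_zero]
    by_cases hint : IsIntegral K x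
    · have := lmul_eq_zero_of_not_isSeparable x hint hns _ he
      rw [hμ] at this
      exact one_ne_zero this
    · have htr : Transcendental K x := fun halg => hint halg.isIntegral
      have := lmul_eq_zero_of_transcendental x htr _ he
      rw [hμ] at this
      exact one_ne_zero this
  · intro hx n
    exact d_mem_pow K L x hx n

end main

/-- Let L be a finitely generated field extension of K, and I ⊆ L ⊗_K L the kernel of multiplication L
⊗_K L → L. An element x of L has the property that x ⊗ 1 and 1 ⊗ x have the same image in the I-adic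
completion of L ⊗_K L if and only if x is separable algebraic over K. Equivalently, the equaliser of
the two natural maps from L to that completion is the separable algebraic closure of K in L. -/
theorem result
    (K L : Type u) [Field K] [Field L] [Algebra K L]
    (hfg : (⊤ : IntermediateField K L).FG) (x : L) :
    AdicCompletion.of (KaehlerDifferential.ideal K L) (L ⊗[K] L) (x ⊗ₜ[K] (1 : L)) =
        AdicCompletion.of (KaehlerDifferential.ideal K L) (L ⊗[K] L) ((1 : L) ⊗ₜ[K] x) ↔
      x ∈ separableClosure K L := by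
  exact main_result K L hfg x

end Groth.Agent.S15125
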