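import Groth.Statements.S15126
-- import your own Groth.Agent.* helpers here
import Mathlib.RingTheory.MvPowerSeries.Basic
import Mathlib.RingTheory.Ideal.Quotient.Operations
import Mathlib.Algebra.MvPolynomial.Eval
import Mathlib.Data.Finsupp.Encodable

set_option autoImplicit false
universe u
open Formal

namespace Groth.Agent.S15126


noncomputable section

open MvPolynomial in
/-- the set of relations. -/
def rel (k : Type u) [Field k] (n : ℕ) (R : Type u) [CommRing R] [Algebra (MvPowerSeries (Fin n) k) R] :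
    Set (MvPolynomial (R × (Fin n →₀ ℕ)) k) :=
  {p | ∃ r s m, p = X (r + s, m) - (X (r, m) + X (s, m))} ∪
  {p | ∃ r s m, p = X (r * s, m) - ∑ ab ∈ Finset.antidiagonal m, X (r, ab.1) * X (s, ab.2)} ∪
  {p | ∃ (φ : MvPowerSeries (Fin n) k) (m : Fin n →₀ ℕ),
      p = X (algebraMap _ R φ, m) - C (MvPowerSeries.coeff m φ)}

/-- the corepresenting algebra. -/
abbrev PP (k : Type u) [Field k] (n : ℕ) (R : Type u) [CommRing R] [Algebra (MvPowerSeries (Fin n) k) R] :
    Type u :=
  MvPolynomial (R × (Fin n →₀ ℕ)) k ⧸ Ideal.span (rel k n R)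

variable (k : Type u) [Field k] (n : ℕ) (R : Type u) [CommRing R] [Algebra (MvPowerSeries (Fin n) k) R]

/-- the generator `c(r,m)`. -/
def gen (r : R) (m : Fin n →₀ ℕ) : PP k n R :=
  Ideal.Quotient.mk (Ideal.span (rel k n R)) (MvPolynomial.X (r, m))

/-- the universal map on elements. -/
def uFun (r : R) : MvPowerSeries (Fin n) (PP k n R) := fun m => gen k n R r m

lemma coeff_uFun (r : R) (m : Fin n →₀ ℕ) :
    MvPowerSeries.coeff m (uFun k n R r) = gen k n R r m := rfl

lemma gen_add (r s : R) (m : Fin n →₀ ℕ) :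
    gen k n R (r + s) m = gen k n R r m + gen k n R s m := by
  unfold gen
  rw [← map_add, Ideal.Quotient.eq]
  exact Ideal.subset_span (Or.inl (Or.inl ⟨r, s, m, rfl⟩))

lemma gen_mul (r s : R) (m : Fin n →₀ ℕ) :
    gen k n R (r * s) m = ∑ ab ∈ Finset.antidiagonal m, gen k n R r ab.1 * gen k n R s ab.2 := by
  unfold gen
  simp_rw [← map_mul]
  rw [← map_sum, Ideal.Quotient.eq]
  exact Ideal.subset_span (Or.inl (Or.inr ⟨r, s, m, rfl⟩))

lemma gen_algebraMap (φ : MvPowerSeries (Fin n) k) (m : Fin n →₀ ℕ) :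
    gen k n R (algebraMap _ R φ) m = algebraMap k (PP k n R) (MvPowerSeries.coeff m φ) := by
  unfold gen
  rw [← Ideal.Quotient.mk_algebraMap, MvPolynomial.algebraMap_eq, Ideal.Quotient.eq]
  exact Ideal.subset_span (Or.inr ⟨φ, m, rfl⟩)

lemma uFun_algebraMap (φ : MvPowerSeries (Fin n) k) :
    uFun k n R (algebraMap _ R φ) = algebraMap _ (MvPowerSeries (Fin n) (PP k n R)) φ := by
  ext m
  rw [coeff_uFun, gen_algebraMap, MvPowerSeries.algebraMap_apply'', MvPowerSeries.coeff_map]

/-- the universal homomorphism. -/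
def uHom : R →ₐ[MvPowerSeries (Fin n) k] MvPowerSeries (Fin n) (PP k n R) where
  toFun := uFun k n R
  map_one' := by
    have := uFun_algebraMap k n R 1
    rwa [map_one, map_one] at this
  map_zero' := by
    have := uFun_algebraMap k n R 0
    rwa [map_zero, map_zero] at this
  map_add' r s := by
    ext m
    rw [map_add, coeff_uFun, coeff_uFun, coeff_uFun, gen_add]
  map_mul' r s := by
    classical
    ext m
    rw [MvPowerSeries.coeff_mul, coeff_uFun, gen_mul]
    rfl
  commutes' φ := uFun_algebraMap k n R φ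

lemma coeff_uHom (r : R) (m : Fin n →₀ ℕ) :
    MvPowerSeries.coeff m (uHom k n R r) = gen k n R r m := rfl

variable {k n R}

/-- the pre-classifying map. -/
def g₀ (Q : Type u) [CommRing Q] [Algebra k Q]
    (f : R →ₐ[MvPowerSeries (Fin n) k] MvPowerSeries (Fin n) Q) :
    MvPolynomial (R × (Fin n →₀ ℕ)) k →ₐ[k] Q :=
  MvPolynomial.aeval (fun x => MvPowerSeries.coeff x.2 (f x.1))

lemma g₀_rel (Q : Type u) [CommRing Q] [Algebra k Q]
    (f : R →ₐ[MvPowerSeries (Fin n) k] MvPowerSeries (Fin n) Q) :
    ∀ p ∈ Ideal.span (rel k n R), g₀ Q f p = 0 := by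
  classical
  intro p hp
  have : Ideal.span (rel k n R) ≤ RingHom.ker (g₀ Q f : _ →+* Q) := by
    rw [Ideal.span_le]
    rintro p ((⟨r, s, m, rfl⟩ | ⟨r, s, m, rfl⟩) | ⟨φ, m, rfl⟩)
    · simp only [SetLike.mem_coe, RingHom.mem_ker, AlgHom.coe_toRingHom, g₀, map_sub, map_add,
        MvPolynomial.aeval_X]
      simp
    · simp only [SetLike.mem_coe, RingHom.mem_ker, AlgHom.coe_toRingHom, g₀, map_sub, map_sum,
        map_mul, MvPolynomial.aeval_X, MvPowerSeries.coeff_mul]
      simp
    · simp only [SetLike.mem_coe, RingHom.mem_ker, AlgHom.coe_toRingHom, g₀, map_sub,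
        MvPolynomial.aeval_X, MvPolynomial.aeval_C, AlgHom.commutes,
        MvPowerSeries.algebraMap_apply'', MvPowerSeries.coeff_map]
      simp
  exact this hp

/-- the classifying map. -/
def gCl (Q : Type u) [CommRing Q] [Algebra k Q]
    (f : R →ₐ[MvPowerSeries (Fin n) k] MvPowerSeries (Fin n) Q) : PP k n R →ₐ[k] Q :=
  Ideal.Quotient.liftₐ _ (g₀ Q f) (g₀_rel Q f)

lemma gCl_gen (Q : Type u) [CommRing Q] [Algebra k Q]
    (f : R →ₐ[MvPowerSeries (Fin n) k] MvPowerSeries (Fin n) Q) (r : R) (m : Fin n →₀ ℕ) :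
    gCl Q f (gen k n R r m) = MvPowerSeries.coeff m (f r) := by
  unfold gCl gen
  rw [Ideal.Quotient.liftₐ_apply, Ideal.Quotient.lift_mk]
  simp [g₀]

lemma algHom_ext_gen (Q : Type u) [CommRing Q] [Algebra k Q] (g g' : PP k n R →ₐ[k] Q)
    (h : ∀ r m, g (gen k n R r m) = g' (gen k n R r m)) : g = g' := by
  apply Ideal.Quotient.algHom_ext
  apply MvPolynomial.algHom_ext
  rintro ⟨r, m⟩
  exact h r m

lemma adjoin_gen_eq_top (S : Subalgebra k (PP k n R)) (h : ∀ r m, gen k n R r m ∈ S) : S = ⊤ := by
  rw [eq_top_iff]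
  have h1 : (⊤ : Subalgebra k (PP k n R)) =
      (⊤ : Subalgebra k (MvPolynomial (R × (Fin n →₀ ℕ)) k)).map
        (Ideal.Quotient.mkₐ k (Ideal.span (rel k n R))) := by
    rw [Algebra.map_top, eq_comm, AlgHom.range_eq_top]
    exact Ideal.Quotient.mkₐ_surjective _ _
  rw [h1, ← MvPolynomial.adjoin_range_X, AlgHom.map_adjoin, Algebra.adjoin_le_iff]
  rintro _ ⟨_, ⟨⟨r, m⟩, rfl⟩, rfl⟩
  exact h r m

end

/-- Affine case. Let k be a field, n > 0, and R a commutative algebra over the power series ring
k[[z_1,…,z_n]]; for a commutative k-algebra Q regard Q[[z_1,…,z_n]] as a k[[z]]-algebra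
coefficientwise. Then the functor Q ↦ Hom_{k[[z]]-alg}(R, Q[[z]]) on commutative k-algebras is
corepresentable: there exist a commutative k-algebra P and a k[[z]]-algebra homomorphism u : R →
P[[z]] such that every k[[z]]-algebra homomorphism R → Q[[z]] arises from u by applying a unique
k-algebra homomorphism P → Q coefficientwise. If moreover R is countably generated as a
k[[z]]-algebra, P may be taken countably generated over k. (The published statement is for an adic
formal scheme Y over the formal disc Spf k[[z]], asserting that the sheaf of sections of Y over the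
disc is a scheme, affine over the fibre of Y at the origin, and of pro-finite type when Y is; this
row is the case Y = Spf R, to which the published argument reduces, stated for the underlying
algebra R; k is algebraically closed there, which is not used.) -/
theorem result
    (k : Type u) [Field k] (n : ℕ) (hn : 0 < n)
    (R : Type u) [CommRing R] [Algebra (MvPowerSeries (Fin n) k) R] :
    ∃ (P : Type u) (_ : CommRing P) (_ : Algebra k P)
      (u : R →ₐ[MvPowerSeries (Fin n) k] MvPowerSeries (Fin n) P),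
      (∀ (Q : Type u) [CommRing Q] [Algebra k Q]
          (f : R →ₐ[MvPowerSeries (Fin n) k] MvPowerSeries (Fin n) Q),
          ∃! g : P →ₐ[k] Q,
            (MvPowerSeries.map (σ := Fin n) (g : P →+* Q)).comp (u : R →+* MvPowerSeries (Fin n) P) =
              (f : R →+* MvPowerSeries (Fin n) Q)) ∧
      ((∃ s : Set R, s.Countable ∧ Algebra.adjoin (MvPowerSeries (Fin n) k) s = ⊤) →
        ∃ t : Set P, t.Countable ∧ Algebra.adjoin k t = ⊤) := by
  classical
  refine ⟨PP k n R, inferInstance, inferInstance, uHom k n R, ?_, ?_⟩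
  · intro Q _ _ f
    refine ⟨gCl Q f, ?_, ?_⟩
    · ext r m
      simp only [RingHom.comp_apply, MvPowerSeries.coeff_map, RingHom.coe_coe, coeff_uHom, gCl_gen]
    · intro g' hg'
      apply algHom_ext_gen
      intro r m
      rw [gCl_gen]
      have := congrArg (fun F => MvPowerSeries.coeff m (F r)) hg'
      simpa only [RingHom.comp_apply, MvPowerSeries.coeff_map, RingHom.coe_coe, coeff_uHom] using this
  · rintro ⟨s, hs, hst⟩
    refine ⟨(fun x : R × (Fin n →₀ ℕ) => gen k n R x.1 x.2) '' (s ×ˢ Set.univ),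
      (hs.prod Set.countable_univ).image _, ?_⟩
    set P' := Algebra.adjoin k ((fun x : R × (Fin n →₀ ℕ) => gen k n R x.1 x.2) '' (s ×ˢ Set.univ))
      with hP'
    apply adjoin_gen_eq_top
    let R' : Subalgebra (MvPowerSeries (Fin n) k) R :=
      { carrier := {r | ∀ m, gen k n R r m ∈ P'}
        mul_mem' := by
          intro a b ha hb m
          rw [gen_mul]
          exact sum_mem fun ab _ => mul_mem (ha _) (hb _)
        add_mem' := by
          intro a b ha hb m
          rw [gen_add]
          exact add_mem (ha _) (hb _)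
        algebraMap_mem' := by
          intro φ m
          rw [gen_algebraMap]
          exact Subalgebra.algebraMap_mem _ _ }
    have hR' : R' = ⊤ := by
      rw [eq_top_iff, ← hst, Algebra.adjoin_le_iff]
      intro r hr m
      exact Algebra.subset_adjoin ⟨(r, m), ⟨hr, Set.mem_univ _⟩, rfl⟩
    intro r m
    have : r ∈ R' := hR' ▸ Algebra.mem_top
    exact this m

end Groth.Agent.S15126
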