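import Groth.Statements.S15134
import Groth.Agent.Lib.Helper1.ArtFunTangent
import Mathlib

set_option autoImplicit false
universe u v
open CategoryTheory
open ArtFun

namespace Groth.Agent.S15134

section Aux

open ArtFun.Art Groth.Agent.Lib.Helper1.ArtFunBasic Groth.Agent.Lib.Helper1.ArtFunFib
  Groth.Agent.Lib.Helper1.ArtFunTangent

theorem main
    {k : Type u} [Field k] (F : ArtFun.Art k k ⥤ Type v)
    (h2' : ∀ ⦃P A' A'' : ArtFun.Art k k⦄ (p' : P ⟶ A') (p'' : P ⟶ A'')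
      (h : ArtFun.Art.IsFibreProd p' p'' (ArtFun.Art.toBase A') (ArtFun.Art.toBase A'')),
      Function.Bijective (ArtFun.cmp F h))
    ⦃B A : ArtFun.Art k k⦄ (f : B ⟶ A) (hf : ArtFun.Art.IsSmallExt f)
    ⦃P : ArtFun.Art k k⦄ (p₁ p₂ : P ⟶ B)
    (hP : ArtFun.Art.IsFibreProd p₁ p₂ (ArtFun.Art.toBase B) (ArtFun.Art.toBase B))
    ⦃Q : ArtFun.Art k k⦄ (q₁ q₂ : Q ⟶ A)
    (hQ : ArtFun.Art.IsFibreProd q₁ q₂ (ArtFun.Art.toBase A) (ArtFun.Art.toBase A))
    (r : P ⟶ Q) (hr₁ : r ≫ q₁ = p₁ ≫ f) (hr₂ : r ≫ q₂ = p₂ ≫ f)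
    (hK : Ideal.span {z : P | p₁ z = p₂ z ∧ f (p₁ z) = 0} ≤ IsLocalRing.maximalIdeal P)
    (hKr : Ideal.span {z : P | p₁ z = p₂ z ∧ f (p₁ z) = 0} ≤ RingHom.ker r.toAlgHom)
    (y : F.obj Q) (hy : F.map q₁ y = F.map q₂ y) :
    ∃ z : F.obj (ArtFun.Art.quot P (Ideal.span {z : P | p₁ z = p₂ z ∧ f (p₁ z) = 0}) hK),
      F.map (ArtFun.Art.quotFactor hK r hKr) z = y := by
  obtain ⟨d, hd1, hd2⟩ := exists_lift hP (𝟙 B) (𝟙 B) rfl
  have hd1' : ∀ b : B, p₁ (d b) = b := fun b =>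
    congrArg (fun g : B ⟶ B => g.toAlgHom b) hd1
  have hd2' : ∀ b : B, p₂ (d b) = b := fun b =>
    congrArg (fun g : B ⟶ B => g.toAlgHom b) hd2
  set K := Ideal.span {z : P | p₁ z = p₂ z ∧ f (p₁ z) = 0} with hKdef
  let g : B ⟶ quot P K hK := d ≫ quotMk P K hK
  have hgker : RingHom.ker f.toAlgHom.toRingHom ≤ RingHom.ker g.toAlgHom.toRingHom := by
    intro b hb
    have hb' : f b = 0 := hb
    change Ideal.Quotient.mk K (d b) = 0
    refine Ideal.Quotient.eq_zero_iff_mem.2 (Ideal.subset_span ?_)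
    refine ⟨by rw [hd1', hd2'], by rw [hd1']; exact hb'⟩
  let sA : A →ₐ[k] quot P K hK := AlgHom.liftOfSurjective f.toAlgHom hf.1 g.toAlgHom hgker
  have hsA : ∀ b : B, sA (f b) = g b := fun b =>
    AlgHom.liftOfSurjective_apply f.toAlgHom hf.1 g.toAlgHom hgker b
  let s : A ⟶ quot P K hK := ⟨sA, by
    apply AlgHom.ext
    intro a
    obtain ⟨b, rfl⟩ := hf.1 a
    change (quot P K hK).res (sA (f b)) = A.res (f b)
    rw [hsA, res_app, res_app]⟩
  have hs : ∀ b : B, s (f b) = g b := hsA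
  have hΔ1 : s ≫ quotFactor hK r hKr ≫ q₁ = 𝟙 A := by
    apply hom_ext; apply AlgHom.ext; intro a
    obtain ⟨b, rfl⟩ := hf.1 a
    change q₁ (quotFactor hK r hKr (s (f b))) = f b
    rw [hs]
    change q₁ (r (d b)) = f b
    have := congrArg (fun g : P ⟶ A => g.toAlgHom (d b)) hr₁
    change q₁ (r (d b)) = f (p₁ (d b)) at this
    rw [this, hd1']
  have hΔ2 : s ≫ quotFactor hK r hKr ≫ q₂ = 𝟙 A := by
    apply hom_ext; apply AlgHom.ext; intro a
    obtain ⟨b, rfl⟩ := hf.1 a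
    change q₂ (quotFactor hK r hKr (s (f b))) = f b
    rw [hs]
    change q₂ (r (d b)) = f b
    have := congrArg (fun g : P ⟶ A => g.toAlgHom (d b)) hr₂
    change q₂ (r (d b)) = f (p₂ (d b)) at this
    rw [this, hd2']
  refine ⟨F.map s (F.map q₁ y), ?_⟩
  apply (h2' q₁ q₂ hQ).1
  apply FibProd.ext
  · change F.map q₁ (F.map (quotFactor hK r hKr) (F.map s (F.map q₁ y))) = F.map q₁ y
    rw [← map_comp_apply, ← map_comp_apply, hΔ1, map_id_apply]
  · change F.map q₂ (F.map (quotFactor hK r hKr) (F.map s (F.map q₁ y))) = F.map q₂ y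
    rw [← map_comp_apply, ← map_comp_apply, hΔ2, map_id_apply, hy]


end Aux

/-- Let k be a field and F a functor on local Artinian k-algebras with residue field k with F(k) a
point. If F satisfies (H2') — the comparison map F(A₁ ×_k A₂) → F(A₁) × F(A₂) is bijective for every
pair of objects — then F satisfies condition (L): for every small extension f : B → A with kernel J,
writing P = B ×_k B, Q = A ×_k A, r : P → Q for the map induced by f, and C = P/K with K the ideal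
of P consisting of the pairs (b, b) with b ∈ J, every element of F(Q) whose two images in F(A) agree
lifts along F(C) → F(Q). Here P and Q are pinned as fibre products over k, K is described through
the two projections, and the two inequalities on K (it lies in the maximal ideal of P and is killed
by r), which always hold, are taken as hypotheses so that the quotient object and the factored map
can be named. -/
theorem result
    {k : Type u} [Field k] (F : ArtFun.Art k k ⥤ Type v) (h0 : ArtFun.H0 F)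
    (h2' : ∀ ⦃P A' A'' : ArtFun.Art k k⦄ (p' : P ⟶ A') (p'' : P ⟶ A'')
      (h : ArtFun.Art.IsFibreProd p' p'' (ArtFun.Art.toBase A') (ArtFun.Art.toBase A'')),
      Function.Bijective (ArtFun.cmp F h))
    ⦃B A : ArtFun.Art k k⦄ (f : B ⟶ A) (hf : ArtFun.Art.IsSmallExt f)
    ⦃P : ArtFun.Art k k⦄ (p₁ p₂ : P ⟶ B)
    (hP : ArtFun.Art.IsFibreProd p₁ p₂ (ArtFun.Art.toBase B) (ArtFun.Art.toBase B))
    ⦃Q : ArtFun.Art k k⦄ (q₁ q₂ : Q ⟶ A)
    (hQ : ArtFun.Art.IsFibreProd q₁ q₂ (ArtFun.Art.toBase A) (ArtFun.Art.toBase A))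
    (r : P ⟶ Q) (hr₁ : r ≫ q₁ = p₁ ≫ f) (hr₂ : r ≫ q₂ = p₂ ≫ f)
    (hK : Ideal.span {z : P | p₁ z = p₂ z ∧ f (p₁ z) = 0} ≤ IsLocalRing.maximalIdeal P)
    (hKr : Ideal.span {z : P | p₁ z = p₂ z ∧ f (p₁ z) = 0} ≤ RingHom.ker r.toAlgHom)
    (y : F.obj Q) (hy : F.map q₁ y = F.map q₂ y) :
    ∃ z : F.obj (ArtFun.Art.quot P (Ideal.span {z : P | p₁ z = p₂ z ∧ f (p₁ z) = 0}) hK),
      F.map (ArtFun.Art.quotFactor hK r hKr) z = y := by
  exact main F h2' f hf p₁ p₂ hP q₁ q₂ hQ r hr₁ hr₂ hK hKr y hy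

end Groth.Agent.S15134
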