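import Groth.Statements.S2206
import Groth.Agent.Lib.Helper5.DiagC
import Groth.Agent.Lib.Helper5.NLFtd

set_option autoImplicit false
universe u
open TensorProduct
open LCI

namespace Groth.Agent.S2206

/-- Let A be a Noetherian ring and B a flat A-algebra of finite type, viewed as an algebra over B
tensor_A B through the multiplication map. If B, as a module over B tensor_A B, has finite
Tor-dimension (the diagonal is a perfect ring map), then B is smooth over A. -/
theorem result {A B : Type u} [CommRing A] [CommRing B]
    [Algebra A B] [IsNoetherianRing A] [Algebra.FiniteType A B] [Module.Flat A B]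
    [Algebra (B ⊗[A] B) B]
    (hmul : ∀ x y : B, algebraMap (B ⊗[A] B) B (x ⊗ₜ[A] y) = x * y)
    (h : DRing.HasFiniteTorDim (B ⊗[A] B) B) : Algebra.Smooth A B := by
  classical
  haveI := Groth.Agent.Lib.Helper5.Diag.isScalarTower_of_hmul hmul
  haveI hfp : Algebra.FinitePresentation A B :=
    Algebra.FinitePresentation.of_finiteType.mp inferInstance
  haveI hftE : Algebra.FiniteType A (B ⊗[A] B) :=
    Algebra.FiniteType.trans (inferInstance : Algebra.FiniteType A B)
      (inferInstance : Algebra.FiniteType B (B ⊗[A] B))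
  haveI hNE : IsNoetherianRing (B ⊗[A] B) := Algebra.FiniteType.isNoetherianRing A _
  have hsurj : Function.Surjective (algebraMap (B ⊗[A] B) B) := fun b =>
    ⟨b ⊗ₜ[A] 1, by rw [hmul, mul_one]⟩
  haveI hfin : Module.Finite (B ⊗[A] B) B :=
    Module.Finite.of_surjective (Algebra.linearMap (B ⊗[A] B) B) hsurj
  obtain ⟨d, hd⟩ := h
  have hpd := Groth.Agent.Lib.Helper5.NLFtd.hasProjectiveDimensionLT_of_hasTorDimLE
    (S := B ⊗[A] B) B d hd
  refine Algebra.Smooth.of_formallySmooth_fiber (fun I _ => ?_)
  refine Algebra.smoothLocus_eq_univ_iff.mp (Set.eq_univ_iff_forall.mpr fun q => ?_)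
  exact Groth.Agent.Lib.Helper5.Diag.formallySmooth_fibre_atPrime hmul I.ResidueField d hpd
    q.asIdeal

end Groth.Agent.S2206
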