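import Groth.Statements.S1515
import Groth.Agent.Lib.Helper16.DiagPerf
import Groth.Agent.S1676
import Groth.Agent.S1509
import Groth.Agent.S2206

set_option autoImplicit false
universe u
attribute [local instance] HasDerivedCategory.standard
open FlatMor

namespace Groth.Agent.S1515

open AlgebraicGeometry CategoryTheory Limits TensorProduct Groth.Agent.Lib.Helper16.DiagPerf
  Groth.Agent.Lib.Helper15.RelPC11 in
/-- a flat morphism of finite type to a locally Noetherian scheme with perfect diagonal is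
smooth. -/
theorem smooth_of_flat_of_isPerfectMor_diagonal {X Y : Scheme.{u}} (f : X ⟶ Y)
    [LocallyOfFiniteType f] [IsLocallyNoetherian Y] [Flat f]
    (hΔ : MoreMor.IsPerfectMor (pullback.diagonal f)) : Smooth f := by
  rw [HasRingHomProperty.iff_exists_appLE (P := @Smooth)
    ((RingHom.Smooth.stableUnderComposition.stableUnderCompositionWithLocalizationAway
      RingHom.Smooth.holdsForLocalizationAway).1)]
  intro x
  obtain ⟨V, hV, hxV, -⟩ := exists_isAffineOpen_mem_and_subset (x := f x) (U := ⊤) trivial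
  obtain ⟨U, hU, hxU, e⟩ := exists_isAffineOpen_mem_and_subset (x := x) (U := f ⁻¹ᵁ V) hxV
  refine ⟨⟨V, hV⟩, ⟨U, hU⟩, hxU, e, ?_⟩
  letI := (f.appLE V U e).hom.toAlgebra
  haveI : IsNoetherianRing Γ(Y, V) := IsLocallyNoetherian.component_noetherian ⟨V, hV⟩
  haveI : Algebra.FiniteType Γ(Y, V) Γ(X, U) :=
    LocallyOfFiniteType.finiteType_appLE f hV hU e
  haveI : Module.Flat Γ(Y, V) Γ(X, U) := Flat.flat_appLE f hV hU e
  have h1 := (perfH_mulHom_of_isPerfectMor_diagonal f hΔ hU hV e).2
  letI : Algebra (Γ(X, U) ⊗[Γ(Y, V)] Γ(X, U)) Γ(X, U) :=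
    (mulHom Γ(Y, V) Γ(X, U)).toAlgebra
  have h2 : DRing.HasFiniteTorDim (Γ(X, U) ⊗[Γ(Y, V)] Γ(X, U)) Γ(X, U) := h1
  have h3 : Algebra.Smooth Γ(Y, V) Γ(X, U) :=
    Groth.Agent.S2206.result (fun a b => by
      change (mulHom Γ(Y, V) Γ(X, U)) (a ⊗ₜ[Γ(Y, V)] b) = a * b
      simp [mulHom]) h2
  exact h3

open AlgebraicGeometry CategoryTheory Limits in
/-- (1) ⇔ (2) ⇔ (4): let f : X → Y be separated and of finite type between locally Noetherian schemes,
with diagonal Δ (a closed immersion). Then f is smooth iff f is flat and Δ is a regular closed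
immersion, iff f is flat and Δ is a perfect morphism. -/
theorem result {X Y : Scheme.{u}} (f : X ⟶ Y) [IsSeparated f] [LocallyOfFiniteType f] [QuasiCompact f] [IsLocallyNoetherian X] [IsLocallyNoetherian Y] :
    (Smooth f ↔ Flat f ∧ Mor2.IsRegularClosedImmersion (pullback.diagonal f)) ∧
    (Smooth f ↔ Flat f ∧ MoreMor.IsPerfectMor (pullback.diagonal f)) := by
  haveI : IsClosedImmersion (pullback.diagonal f) := inferInstance
  have hA : Smooth f → Flat f ∧ Mor2.IsRegularClosedImmersion (pullback.diagonal f) := by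
    intro hsm
    haveI := hsm
    exact ⟨inferInstance, Groth.Agent.S1676.result (pullback.snd f f) (pullback.diagonal f)
      (pullback.diagonal_snd f)⟩
  have hC : Flat f ∧ MoreMor.IsPerfectMor (pullback.diagonal f) → Smooth f := by
    rintro ⟨hfl, hΔ⟩
    haveI := hfl
    exact smooth_of_flat_of_isPerfectMor_diagonal f hΔ
  refine ⟨⟨hA, fun h => hC ⟨h.1, Groth.Agent.S1509.result _ h.2⟩⟩,
    ⟨fun h => ⟨(hA h).1, Groth.Agent.S1509.result _ (hA h).2⟩, hC⟩⟩

end Groth.Agent.S1515
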