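import Groth.Statements.S15150

set_option autoImplicit false
universe u
open HilbZeta

namespace Groth.Agent.S15150

open TensorProduct

section nil
variable (κ B : Type*) [Field κ] [CommRing B] [Algebra κ B] [FiniteDimensional κ B]

theorem nil_aux (i : ℕ) : (nilradical B) ^ i = ⊥ ∨
    Module.finrank κ (((nilradical B) ^ i).restrictScalars κ) + i ≤ Module.finrank κ B := by
  have hnoeth : IsNoetherianRing B := isNoetherian_of_tower κ (inferInstance : IsNoetherian κ B)
  induction i with
  | zero =>
    right
    rw [add_zero]
    exact Submodule.finrank_le _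
  | succ i ih =>
    rcases ih with h | h
    · left; rw [pow_succ, h, Ideal.bot_mul]
    · by_cases heq : (nilradical B) ^ (i + 1) = (nilradical B) ^ i
      · left
        have hbot : (nilradical B) ^ i = ⊥ := by
          refine Submodule.eq_bot_of_le_smul_of_le_jacobson_bot (nilradical B) _
            (IsNoetherian.noetherian _) ?_ ?_
          · rw [smul_eq_mul, ← pow_succ', heq]
          · rw [nilradical, Ideal.radical_eq_sInf]
            exact sInf_le_sInf fun J hJ => ⟨hJ.1, hJ.2.isPrime⟩
        rw [pow_succ, hbot, Ideal.bot_mul]
      · right
        have hlt : (nilradical B) ^ (i + 1) < (nilradical B) ^ i :=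
          lt_of_le_of_ne (Ideal.pow_le_pow_right (Nat.le_succ i)) heq
        have hlt' : ((nilradical B) ^ (i + 1)).restrictScalars κ <
            ((nilradical B) ^ i).restrictScalars κ := by
          refine lt_of_le_of_ne (fun x hx => hlt.le hx) fun e => heq ?_
          exact Submodule.restrictScalars_injective κ _ _ e
        have := Submodule.finrank_lt_finrank_of_lt hlt'
        omega

theorem nil_pow : (nilradical B) ^ (Module.finrank κ B) = ⊥ := by
  rcases nil_aux κ B (Module.finrank κ B) with h | h
  · exact h
  · have h0 : Module.finrank κ (((nilradical B) ^ (Module.finrank κ B)).restrictScalars κ) = 0 := by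
      omega
    rw [Submodule.finrank_eq_zero] at h0
    rwa [Submodule.restrictScalars_eq_bot_iff] at h0

end nil


/-- Let A be a reduced commutative ring, S an A-algebra together with an A-algebra homomorphism π : S →
A (a section of Spec S → Spec A), with kernel m, and I an ideal of S such that S/I is a finite
projective A-module of constant rank d and m is contained in the radical of I (the finite flat
subscheme Spec S/I of degree d lies, as a set, on the section). Then m^d ⊆ I: the subscheme lies in
the (d−1)-st infinitesimal neighbourhood of the section. (The published statement is for a closed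
subscheme, flat and proper of degree d over a Noetherian base, of a family of reduced curve
singularities with a section, with no reducedness assumption on the base; over the dual numbers k[ε]
the ideal (x − ε) of k[ε][x] has quotient free of rank one and radical containing x but does not
contain x, so the base is taken reduced here, and the statement is given in its affine form, to
which the argument reduces at once; the curve hypotheses play no role and are dropped; the condition
that Spec S/I lies set-theoretically on the section, which the published argument deduces from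
properness of Z inside the germ, is a hypothesis here.) -/
theorem result (A : Type u) [CommRing A] [IsReduced A]
    (S : Type u) [CommRing S] [Algebra A S] (π : S →ₐ[A] A) (I : Ideal S) (d : ℕ)
    [Module.Finite A (S ⧸ I)] [Module.Projective A (S ⧸ I)]
    (hrank : ∀ p : PrimeSpectrum A, Module.rankAtStalk (R := A) (S ⧸ I) p = d)
    (hsupp : RingHom.ker π ≤ I.radical) :
    RingHom.ker π ^ d ≤ I := by
  intro x hx
  rw [← Ideal.Quotient.eq_zero_iff_mem]
  -- image of x in Q lies in (nilradical Q)^d
  have hmap : (RingHom.ker π).map (Ideal.Quotient.mk I) ≤ nilradical (S ⧸ I) := by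
    rw [Ideal.map_le_iff_le_comap]
    intro y hy
    have := hsupp hy
    rw [Ideal.mem_comap, mem_nilradical]
    obtain ⟨n, hn⟩ := this
    exact ⟨n, by rw [← map_pow]; exact Ideal.Quotient.eq_zero_iff_mem.2 hn⟩
  have hxQ : Ideal.Quotient.mk I x ∈ (nilradical (S ⧸ I)) ^ d := by
    have : Ideal.Quotient.mk I x ∈ ((RingHom.ker π) ^ d).map (Ideal.Quotient.mk I) :=
      Ideal.mem_map_of_mem _ hx
    rw [Ideal.map_pow] at this
    exact Ideal.pow_right_mono hmap d this
  -- projective: embed in free module
  obtain ⟨n, f, g, hf, hfg⟩ := Module.Finite.exists_comp_eq_id_of_projective A (S ⧸ I)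
  have hginj : Function.Injective g := hfg.1
  apply hginj
  rw [map_zero]
  ext i
  rw [Pi.zero_apply]
  by_contra hne
  set a : A := g (Ideal.Quotient.mk I x) i with ha
  have hnn : ¬ IsNilpotent a := fun h => hne (h.eq_zero)
  rw [nilpotent_iff_mem_prime] at hnn
  push Not at hnn
  obtain ⟨p, hp, hap⟩ := hnn
  let κ := p.ResidueField
  let B := κ ⊗[A] (S ⧸ I)
  have hfin : Module.finrank κ B = d := by
    rw [← hrank ⟨p, hp⟩, Module.rankAtStalk_eq]
  have hB : (nilradical B) ^ d = ⊥ := by
    have := nil_pow κ B
    rwa [hfin] at this
  -- image of mk x in B is zero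
  let inc : (S ⧸ I) →ₐ[A] B := Algebra.TensorProduct.includeRight
  have hinc : inc (Ideal.Quotient.mk I x) = 0 := by
    have h1 : inc (Ideal.Quotient.mk I x) ∈ ((nilradical (S ⧸ I)) ^ d).map inc.toRingHom :=
      Ideal.mem_map_of_mem _ hxQ
    rw [Ideal.map_pow] at h1
    have h2 : (nilradical (S ⧸ I)).map inc.toRingHom ≤ nilradical B := by
      rw [Ideal.map_le_iff_le_comap]
      intro y hy
      rw [Ideal.mem_comap, mem_nilradical]
      exact (mem_nilradical.1 hy).map inc.toRingHom
    have h3 := Ideal.pow_right_mono h2 d h1
    rwa [hB, Ideal.mem_bot] at h3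
  -- apply the functional
  let φ : (S ⧸ I) →ₗ[A] A := (LinearMap.proj i).comp g
  have h4 : (TensorProduct.rid A κ) (LinearMap.lTensor κ φ (inc (Ideal.Quotient.mk I x))) = 0 := by
    rw [hinc, map_zero, map_zero]
  have h5 : (TensorProduct.rid A κ) (LinearMap.lTensor κ φ (inc (Ideal.Quotient.mk I x))) =
      algebraMap A κ a := by
    change (TensorProduct.rid A κ) ((LinearMap.lTensor κ φ) ((1 : κ) ⊗ₜ[A] (Ideal.Quotient.mk I x))) = _
    rw [LinearMap.lTensor_tmul, TensorProduct.rid_tmul, Algebra.smul_def, mul_one]
    rfl
  rw [h5, Ideal.algebraMap_residueField_eq_zero] at h4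
  exact hap h4

end Groth.Agent.S15150
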