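import Groth.Statements.S15151
import Mathlib
-- import your own Groth.Agent.* helpers here

set_option autoImplicit false
universe u
open CategoryTheory AlgebraicGeometry
open HilbZeta

namespace Groth.Agent.S15151

section H
namespace W21
set_option backward.isDefEq.respectTransparency.types false
open scoped nonZeroDivisors

theorem section_eq_zero {X : Scheme.{u}} (U : X.Opens) (c : Γ(X, U))
    (h : ∀ (W : X.affineOpens) (hW : W.1 ≤ U), X.presheaf.map (homOfLE hW).op c = 0) : c = 0 := by
  apply TopCat.Presheaf.section_ext X.sheaf U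
  intro x hx
  obtain ⟨_, ⟨W, hWa : IsAffineOpen W, rfl⟩, hxW, hWU⟩ :=
    (X.isBasis_affineOpens).exists_subset_of_mem_open hx U.isOpen
  have h1 := h ⟨W, hWa⟩ hWU
  have h2 := X.presheaf.germ_res_apply (homOfLE hWU) x hxW c
  rw [h1, map_zero] at h2
  exact h2.symm.trans (map_zero _).symm

theorem main (k : Type u) [Field k]
    (X Y : Scheme.{u}) (f : X ⟶ Y) (g : Y ⟶ Spec (CommRingCat.of (Polynomial k)))
    [QuasiCompact f] (hker : f.ker = ⊥) [Flat (f ≫ g)] : Flat g := by
  let R := Γ(Spec (CommRingCat.of (Polynomial k)), ⊤)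
  haveI : IsBezout R :=
    Function.Surjective.isBezout (Scheme.ΓSpecIso (CommRingCat.of (Polynomial k))).inv.hom
      (Scheme.ΓSpecIso (CommRingCat.of (Polynomial k))).symm.commRingCatIsoToRingEquiv.surjective
  haveI : IsDomain R := inferInstance
  rw [HasRingHomProperty.iff_of_iSup_eq_top (P := @Flat) (fun V : Y.affineOpens => V)
    (iSup_affineOpens_eq_top Y)]
  intro V
  algebraize [(g.appLE ⊤ V.1 le_top).hom]
  show Module.Flat R Γ(Y, V.1)
  rw [Module.Flat.flat_iff_torsion_eq_bot_of_isBezout, eq_bot_iff]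
  rintro b ⟨⟨r, hr⟩, hrb⟩
  rw [Submodule.mem_bot]
  have hrb' : (g.appLE ⊤ V.1 le_top).hom r * b = 0 := hrb
  -- injectivity of f.app V
  have hinj : Function.Injective (f.app V.1).hom := by
    rw [injective_iff_map_eq_zero]
    intro a ha
    have h1 : a ∈ f.ker.ideal V := by
      rw [Scheme.Hom.ker_apply]; exact ha
    rw [hker] at h1
    exact h1
  apply hinj
  rw [map_zero]
  apply section_eq_zero
  intro W hW
  have hfl : RingHom.Flat ((f ≫ g).appLE ⊤ W.1 le_top).hom :=
    HasRingHomProperty.appLE (P := @Flat) (f ≫ g) inferInstance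
      ⟨⊤, isAffineOpen_top _⟩ W le_top
  have hcomp : (f ≫ g).appLE ⊤ W.1 le_top = g.appLE ⊤ V.1 le_top ≫ f.appLE V.1 W.1 hW := by
    rw [Scheme.Hom.appLE_comp_appLE]
  letI : Algebra R Γ(X, W.1) := ((f ≫ g).appLE ⊤ W.1 le_top).hom.toAlgebra
  have hfl' : Module.Flat R Γ(X, W.1) := hfl
  have hreg := Module.Flat.isSMulRegular_of_nonZeroDivisors (M := Γ(X, W.1)) hr
  apply hreg
  show r • _ = r • (0 : Γ(X, W.1))
  rw [smul_zero]
  show ((f ≫ g).appLE ⊤ W.1 le_top).hom r * _ = 0
  have h3 := congrArg (fun z => (f.appLE V.1 W.1 hW).hom z) hrb'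
  simp only [map_mul, map_zero] at h3
  have e1 : (X.presheaf.map (homOfLE hW).op) ((f.app V.1).hom b) = (f.appLE V.1 W.1 hW).hom b := rfl
  have e2 : ((f ≫ g).appLE ⊤ W.1 le_top).hom r =
      (f.appLE V.1 W.1 hW).hom ((g.appLE ⊤ V.1 le_top).hom r) := by
    rw [hcomp]; rfl
  rw [e2]
  exact h3

end W21
end H


/-- Let k be a field, and let f : X → Y and g : Y → Spec k[t] be morphisms of schemes with f
quasi-compact and with zero kernel ideal sheaf (Y is the scheme-theoretic image of f), such that the
composite X → Spec k[t] is flat. Then g is flat; in particular a k[t]-subalgebra of a flat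
k[t]-algebra is flat. (The published statement has no quasi-compactness hypothesis on f and is over
an algebraically closed field; this row assumes f quasi-compact and allows any field.) -/
theorem result (k : Type u) [Field k]
    (X Y : Scheme.{u}) (f : X ⟶ Y) (g : Y ⟶ Spec (CommRingCat.of (Polynomial k)))
    [QuasiCompact f] (hker : f.ker = ⊥) [Flat (f ≫ g)] : Flat g := by
  exact W21.main k X Y f g hker

end Groth.Agent.S15151
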