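import Groth.Statements.S15153
import Groth.Agent.S14336
import Groth.Agent.Lib.helper10.FibreSpanRank

set_option autoImplicit false
universe u
open TensorProduct
open HilbZeta

namespace Groth.Agent.S15153

/-- Let A be a Noetherian commutative ring, S a commutative A-algebra and Q an S-module which is finite
and flat as an A-module. For a prime p of A with residue field κ(p), multiplication by an element of
S induces a κ(p)-linear endomorphism of the fibre κ(p) ⊗_A Q; let φ(p) be the κ(p)-dimension of the
span of these endomorphisms, which is the colength of the annihilator of the fibre module κ(p) ⊗_A Q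
in the fibre algebra κ(p) ⊗_A S (the length of the smallest subscheme of the fibre carrying it).
Then p ↦ φ(p) is a constructible function: for every n the primes with φ(p) = n form a constructible
subset of Spec A. (The published statement is for a coherent sheaf, flat and finite over a
Noetherian base, on a family of reduced curve singularities with a section, and its function of the
base point is this colength; the curve hypotheses play no role and the row is the affine form over
any Noetherian ring.) -/
theorem result (A : Type u) [CommRing A] [IsNoetherianRing A]
    (S : Type u) [CommRing S] [Algebra A S]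
    (Q : Type u) [AddCommGroup Q] [Module A Q] [Module S Q] [IsScalarTower A S Q]
    [Module.Finite A Q] [Module.Flat A Q] (n : ℕ) :
    Topology.IsConstructible {p : PrimeSpectrum A |
      Module.finrank p.asIdeal.ResidueField
        (Submodule.span p.asIdeal.ResidueField
          (Set.range fun s : S =>
            LinearMap.baseChange p.asIdeal.ResidueField (DistribSMul.toLinearMap A Q s))) = n} := by
  rename' n => N0
  classical
  obtain ⟨r, q, hq⟩ := Module.Finite.exists_fin (R := A) (M := Q)
  have hN : (Submodule.span A (Set.range fun s : S => (fun j : Fin r => s • q j))).FG :=
    IsNoetherian.noetherian _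
  obtain ⟨m, n, hn⟩ := Submodule.fg_iff_exists_fin_generating_family.mp hN
  have : Module.Flat A (Fin r → Q) :=
    Module.Flat.of_linearEquiv
      (DFinsupp.linearEquivFunOnFintype (R := A) (ι := Fin r) (M := fun _ => Q)).symm
  have hlsc := Groth.Agent.S14336.result A (Fin m → A) (Fin r → Q) (Fintype.linearCombination A n)
  set g : PrimeSpectrum A → ℕ := fun y => Module.finrank y.asIdeal.ResidueField
    ↥(LinearMap.range ((Fintype.linearCombination A n).baseChange y.asIdeal.ResidueField)) with hg
  have hset : {p : PrimeSpectrum A |
      Module.finrank p.asIdeal.ResidueField
        (Submodule.span p.asIdeal.ResidueField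
          (Set.range fun s : S =>
            LinearMap.baseChange p.asIdeal.ResidueField (DistribSMul.toLinearMap A Q s))) = N0} =
      {p | N0 ≤ g p} ∩ {p | N0 + 1 ≤ g p}ᶜ := by
    ext p
    simp only [Set.mem_ofPred_eq, Set.mem_inter_iff, Set.mem_compl_iff, hg]
    rw [Groth.Agent.Lib.helper10.FibreSpanRank.finrank_span_eq p.asIdeal.ResidueField q hq n hn]
    omega
  rw [hset]
  have hopen : ∀ k : ℕ, IsOpen {p | k ≤ g p} := by
    intro k
    cases k with
    | zero => simp
    | succ k =>
      have := hlsc.isOpen_preimage k
      convert this using 1
      ext p
      simp
  have hcons : ∀ k : ℕ, Topology.IsConstructible {p | k ≤ g p} := fun k =>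
    IsRetrocompact.isConstructible (hopen k)
      (fun U _ _ => TopologicalSpace.NoetherianSpace.isCompact _)
  exact (hcons N0).inter (hcons (N0 + 1)).compl

end Groth.Agent.S15153
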