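import Groth.Statements.S15164
import Mathlib.Algebra.CharP.Lemmas
import Mathlib.Tactic.LinearCombination
import Mathlib.Tactic.Abel
import Mathlib.Algebra.Polynomial.AlgebraMap
import Mathlib.Algebra.CharP.Algebra

set_option autoImplicit false
universe u v
open BddFin

namespace Groth.Agent.S15164

/-- Let K be a field of characteristic p > 2, V a finite-dimensional K-vector space and q a quadratic
form on V that does not represent zero (q x = 0 only for x = 0). Then the group of K-linear
automorphisms of V preserving q has no element of order p: if g preserves q and g ^ p = 1 then g =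
1. (Non-degeneracy of q, also assumed in the published statement, follows from anisotropy since 2 is
invertible, so it is not repeated here.) -/
theorem result
    (K : Type u) [Field K] (p : ℕ) [Fact p.Prime] [CharP K p] (hp : p ≠ 2)
    (V : Type v) [AddCommGroup V] [Module K V] [FiniteDimensional K V]
    (q : QuadraticForm K V) (hq : q.Anisotropic)
    (g : V ≃ₗ[K] V) (hg : ∀ x : V, q (g x) = q x) (hgp : g ^ p = 1) : g = 1 := by
  have h2 : (2 : K) ≠ 0 := by
    intro h
    have h' : ((2 : ℕ) : K) = 0 := by exact_mod_cast h
    rw [CharP.cast_eq_zero_iff K p 2] at h'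
    exact hp ((Nat.prime_dvd_prime_iff_eq (Fact.out : p.Prime) Nat.prime_two).1 h')
  set G : Module.End K V := (g : V →ₗ[K] V) with hG
  have hGp : G ^ p = 1 := by
    have := congrArg (fun e : V ≃ₗ[K] V => (e : V →ₗ[K] V)) hgp
    ext x
    have h1 := LinearMap.congr_fun this x
    simpa [hG, Module.End.pow_apply, LinearEquiv.coe_pow] using h1
  have hNp : (G - 1) ^ p = 0 := by
    have h1 : ((Polynomial.X - 1 : Polynomial K)) ^ p = Polynomial.X ^ p - 1 := by
      rw [sub_pow_char, one_pow]
    have h3 := congrArg (Polynomial.aeval G) h1
    simpa [hGp] using h3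
  have hGq : ∀ x : V, q (G x) = q x := fun x => hg x
  have key : ∀ j : ℕ, 1 ≤ j → (G - 1) ^ (j + 1) = 0 → (G - 1) ^ j = 0 := by
    intro j hj hN
    ext v
    obtain ⟨i, rfl⟩ : ∃ i, j = i + 1 := ⟨j - 1, by omega⟩
    set u := ((G - 1) ^ i) v with hu
    set w := ((G - 1) ^ (i + 1)) v with hw
    have hwu : w = (G - 1) u := by rw [hw, hu, pow_succ', Module.End.mul_apply]
    have hNw : (G - 1) w = 0 := by
      have := LinearMap.congr_fun hN v
      rw [pow_succ', Module.End.mul_apply] at this
      exact this
    have hGw : G w = w := by
      have : (G - 1) w = G w - w := by simp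
      rw [this] at hNw
      exact sub_eq_zero.1 hNw
    have hGu : G u = u + w := by
      have : (G - 1) u = G u - u := by simp
      rw [hwu, this]; abel
    have e1 : q (u + w) = q u := by rw [← hGu, hGq]
    have e2 : q (u + (w + w)) = q u := by
      have : G (u + w) = u + (w + w) := by rw [map_add, hGu, hGw]; abel
      rw [← this, hGq, e1]
    have f1 : q (u + w) = q u + q w + QuadraticMap.polar q u w := by
      simp [QuadraticMap.polar]
    have f2 : q (u + (w + w)) = q u + q (w + w) + QuadraticMap.polar q u (w + w) := by
      simp [QuadraticMap.polar]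
    rw [QuadraticMap.polar_add_right, QuadraticMap.map_add_self] at f2
    have hqw : q w = 0 := by
      have g1 : q w + QuadraticMap.polar q u w = 0 := by
        have := f1.symm.trans e1; linear_combination this
      have g2 : 4 • q w + (QuadraticMap.polar q u w + QuadraticMap.polar q u w) = 0 := by
        have := f2.symm.trans e2; linear_combination this
      have g3 : (2 : K) * q w = 0 := by
        simp only [nsmul_eq_mul] at g2
        linear_combination g2 - 2 * g1
      rcases mul_eq_zero.1 g3 with h | h
      · exact absurd h h2
      · exact h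
    rw [LinearMap.zero_apply]
    exact hq w hqw
  have hN1 : ∀ n : ℕ, (G - 1) ^ (n + 1) = 0 → G - 1 = 0 := by
    intro n
    induction n with
    | zero => intro h; simpa using h
    | succ n ih => intro h; exact ih (key (n + 1) (by omega) h)
  have hp1 : p = (p - 1) + 1 := by
    have := (Fact.out : p.Prime).pos; omega
  rw [hp1] at hNp
  have hG1 : G = 1 := sub_eq_zero.1 (hN1 _ hNp)
  ext x
  have := LinearMap.congr_fun hG1 x
  simpa [hG] using this

end Groth.Agent.S15164
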