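import Groth.Statements.S15165
import Groth.Agent.S15164
import Mathlib.LinearAlgebra.Eigenspace.Minpoly
import Mathlib.FieldTheory.Separable
import Mathlib.Algebra.CharP.Basic

set_option autoImplicit false
universe u v
open Polynomial
open BddFin

namespace Groth.Agent.S15165


section aux

variable {K : Type u} [Field K] {V : Type v} [AddCommGroup V] [Module K V]

private lemma pow_preserves (q : QuadraticForm K V) (g : V ≃ₗ[K] V) (hg : ∀ x : V, q (g x) = q x) :
    ∀ (k : ℕ) (x : V), q ((g ^ k) x) = q x := by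
  intro k
  induction k with
  | zero => intro x; simp
  | succ k ih =>
    intro x
    rw [pow_succ, LinearEquiv.mul_apply, ih, hg]

private lemma ppow_trivial [FiniteDimensional K V] (p : ℕ) [Fact p.Prime] [CharP K p] (hp : p ≠ 2)
    (q : QuadraticForm K V) (hq : q.Anisotropic) :
    ∀ (a : ℕ) (g : V ≃ₗ[K] V), (∀ x : V, q (g x) = q x) → g ^ (p ^ a) = 1 → g = 1 := by
  intro a
  induction a with
  | zero => intro g _ h; simpa using h
  | succ a ih =>
    intro g hg h
    have h1 : (g ^ p) ^ (p ^ a) = 1 := by rw [← pow_mul, ← pow_succ']; exact h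
    have h2 : g ^ p = 1 := ih (g ^ p) (pow_preserves q g hg p) h1
    exact Groth.Agent.S15164.result K p hp V q hq g hg h2

end aux

/-- Let K be a field of characteristic different from 2 such that K contains all roots of unity (for
every n ≥ 1 the polynomial X^n − 1 splits into linear factors over K), V a finite-dimensional
K-vector space and q a quadratic form on V that does not represent zero. If a K-linear automorphism
g of V preserves q and has finite order (g ^ d = 1 for some d ≥ 1), then g ^ 2 = 1. (The published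
statement also covers perfect fields of characteristic 2; this row is the case of characteristic ≠
2.) -/
theorem result
    (K : Type u) [Field K] (hK : ∀ n : ℕ, 0 < n → (X ^ n - 1 : K[X]).Splits) (h2 : (2 : K) ≠ 0)
    (V : Type v) [AddCommGroup V] [Module K V] [FiniteDimensional K V]
    (q : QuadraticForm K V) (hq : q.Anisotropic)
    (g : V ≃ₗ[K] V) (hg : ∀ x : V, q (g x) = q x) (d : ℕ) (hd : 0 < d) (hgd : g ^ d = 1) :
    g ^ 2 = 1 := by
  classical
  -- Step 1: reduce to an exponent invertible in K
  obtain ⟨m, hm0, hmK, hgm⟩ : ∃ m : ℕ, 0 < m ∧ (m : K) ≠ 0 ∧ g ^ m = 1 := by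
    obtain ⟨p, hpK⟩ := CharP.exists K
    rcases CharP.char_is_prime_or_zero K p with hp | hp
    · haveI : Fact p.Prime := ⟨hp⟩
      have hp2 : p ≠ 2 := by
        rintro rfl
        apply h2
        have := CharP.cast_eq_zero K 2
        exact_mod_cast this
      obtain ⟨a, m, hpm, hdm⟩ := Nat.exists_eq_pow_mul_and_not_dvd hd.ne' p hp.ne_one
      have hm0 : 0 < m := by
        rcases Nat.eq_zero_or_pos m with h | h
        · subst h; simp at hpm
        · exact h
      refine ⟨m, hm0, ?_, ?_⟩
      · rw [Ne, CharP.cast_eq_zero_iff K p]; exact hpm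
      · apply ppow_trivial p hp2 q hq a (g ^ m) (pow_preserves q g hg m)
        rw [← pow_mul, mul_comm, ← hdm]; exact hgd
    · subst hp
      haveI : CharZero K := CharP.charP_to_charZero K
      exact ⟨d, hd, Nat.cast_ne_zero.2 hd.ne', hgd⟩
  -- Step 2: minimal polynomial
  set f : Module.End K V := (g : V →ₗ[K] V) with hf
  have hfpow : ∀ k : ℕ, ((g ^ k : V ≃ₗ[K] V) : V →ₗ[K] V) = f ^ k := fun k =>
    map_pow (LinearEquiv.automorphismGroup.toLinearMapMonoidHom (R := K) (M := V)) g k
  have hfm : f ^ m = 1 := by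
    rw [← hfpow, hgm]; rfl
  have haeval : Polynomial.aeval f (X ^ m - 1 : K[X]) = 0 := by
    rw [map_sub, map_pow, Polynomial.aeval_X, map_one, hfm, sub_self]
  have hdvd : minpoly K f ∣ (X ^ m - 1 : K[X]) := minpoly.dvd K f haeval
  have hXm0 : (X ^ m - 1 : K[X]) ≠ 0 := by
    have := Polynomial.X_pow_sub_C_ne_zero hm0 (1 : K)
    simpa using this
  have hsep : (minpoly K f).Separable := by
    have : (X ^ m - Polynomial.C (1 : K)).Separable := Polynomial.separable_X_pow_sub_C 1 hmK one_ne_zero
    rw [map_one] at this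
    exact this.of_dvd hdvd
  have hsplit : (minpoly K f).Splits := (hK m hm0).of_dvd hXm0 hdvd
  have hmin0 : minpoly K f ≠ 0 := minpoly.ne_zero (Algebra.IsIntegral.isIntegral f)
  have hX2 : (X ^ 2 - 1 : K[X]) ≠ 0 := by
    have := Polynomial.X_pow_sub_C_ne_zero (show 0 < 2 by norm_num) (1 : K)
    simpa using this
  have hroots : (minpoly K f).roots ≤ (X ^ 2 - 1 : K[X]).roots := by
    rw [Multiset.le_iff_subset (Polynomial.nodup_roots hsep)]
    intro ζ hζ
    rw [Polynomial.mem_roots hmin0] at hζ
    have hev : f.HasEigenvalue ζ := Module.End.hasEigenvalue_of_isRoot hζ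
    obtain ⟨v, hv⟩ := hev.exists_hasEigenvector
    have hfv : g v = ζ • v := hv.apply_eq_smul
    have hqv : q v ≠ 0 := fun h => hv.2 (hq v h)
    have h1 : q v = ζ * ζ * q v := by
      conv_lhs => rw [← hg v, hfv, QuadraticMap.map_smul, smul_eq_mul]
    have h3 : ζ * ζ = 1 := by
      have : (ζ * ζ - 1) * q v = 0 := by rw [sub_mul, one_mul, ← h1, sub_self]
      rcases mul_eq_zero.1 this with h | h
      · exact sub_eq_zero.1 h
      · exact absurd h hqv
    rw [Polynomial.mem_roots hX2, Polynomial.IsRoot.def]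
    simp [pow_two, h3]
  have hdvd2 : minpoly K f ∣ (X ^ 2 - 1 : K[X]) :=
    (hsplit.dvd_iff_roots_le_roots hmin0 hX2).2 hroots
  obtain ⟨c, hc⟩ := hdvd2
  have hf2 : f ^ 2 = 1 := by
    have : Polynomial.aeval f (X ^ 2 - 1 : K[X]) = 0 := by
      rw [hc, map_mul, minpoly.aeval, zero_mul]
    rw [map_sub, map_pow, Polynomial.aeval_X, map_one] at this
    exact sub_eq_zero.1 this
  apply LinearEquiv.toLinearMap_injective
  rw [hfpow, hf2]; rfl

end Groth.Agent.S15165
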