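import Groth.Statements.S15166
import Mathlib
import Groth.Agent.S15165

set_option autoImplicit false
universe u v
open Polynomial
open BddFin

namespace Groth.Agent.S15166

section aux
open Polynomial

-- universes declared above

theorem card_le (K : Type u) [Field K] (h2 : (2:K) ≠ 0) : ∀ (n : ℕ) (V : Type v) [AddCommGroup V]
    [Module K V] [FiniteDimensional K V], Module.finrank K V = n → ∀ (S : Set (V →ₗ[K] V)),
    S.Finite → (∀ g ∈ S, g * g = 1) → (∀ g ∈ S, ∀ h ∈ S, g * h = h * g) → S.ncard ≤ 2 ^ n := by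
  intro n
  induction n using Nat.strong_induction_on with
  | _ n ih =>
  intro V _ _ _ hn S hfin hinv hcomm
  by_cases hcase : ∀ g ∈ S, g = 1 ∨ g = -1
  · rcases Nat.eq_zero_or_pos n with h0 | hpos
    · subst h0
      have hsv : Subsingleton V := Module.finrank_zero_iff.mp hn
      have : Subsingleton (V →ₗ[K] V) := ⟨fun a b => LinearMap.ext fun x => Subsingleton.elim _ _⟩
      simpa using Set.ncard_le_one_of_subsingleton S
    · have hsub : S ⊆ {1, -1} := fun g hg => by rcases hcase g hg with h | h <;> simp [h]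
      calc S.ncard ≤ ({1, -1} : Set (V →ₗ[K] V)).ncard := Set.ncard_le_ncard hsub (Set.toFinite _)
        _ ≤ 2 := by
          refine (Set.ncard_insert_le _ _).trans ?_
          rw [Set.ncard_singleton]
        _ = 2 ^ 1 := rfl
        _ ≤ 2 ^ n := Nat.pow_le_pow_right (by norm_num) hpos
  · push Not at hcase
    obtain ⟨g, hgS, hg1, hgm1⟩ := hcase
    have hgg : ∀ v, g (g v) = v := fun v => by
      have := LinearMap.congr_fun (hinv g hgS) v
      simpa using this
    set P : Submodule K V := LinearMap.ker (g - 1) with hP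
    set M : Submodule K V := LinearMap.ker (g + 1) with hM
    have memP : ∀ v, v ∈ P ↔ g v = v := fun v => by
      rw [hP, LinearMap.mem_ker, LinearMap.sub_apply, sub_eq_zero]; rfl
    have memM : ∀ v, v ∈ M ↔ g v = -v := fun v => by
      rw [hM, LinearMap.mem_ker, LinearMap.add_apply, add_eq_zero_iff_eq_neg]; rfl
    have hc : IsCompl P M := by
      constructor
      · rw [disjoint_iff, eq_bot_iff]
        rintro v ⟨hvP, hvM⟩
        have h1 := (memP v).mp hvP
        have h2' := (memM v).mp hvM
        have h3 : v = -v := h1.symm.trans h2'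
        have : (2:K) • v = 0 := by
          rw [two_smul]
          nth_rewrite 1 [h3]
          exact neg_add_cancel v
        exact (smul_eq_zero.mp this).resolve_left h2
      · rw [codisjoint_iff, eq_top_iff]
        intro v _
        have : v = (2:K)⁻¹ • (v + g v) + (2:K)⁻¹ • (v - g v) := by
          rw [← smul_add]
          have : v + g v + (v - g v) = (2:K) • v := by rw [two_smul]; abel
          rw [this, smul_smul, inv_mul_cancel₀ h2, one_smul]
        rw [this]
        refine Submodule.add_mem_sup (P.smul_mem _ ?_) (M.smul_mem _ ?_)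
        · rw [memP, map_add, hgg, add_comm]
        · rw [memM, map_sub, hgg]; abel
    have hdim : Module.finrank K P + Module.finrank K M = n := by
      rw [← hn]; exact Submodule.finrank_add_eq_of_isCompl hc
    have hPlt : Module.finrank K P < n := by
      by_contra hge
      have hPe : Module.finrank K P = Module.finrank K V := by omega
      have hPtop : P = ⊤ := Submodule.eq_top_of_finrank_eq hPe
      apply hg1
      ext v
      have : v ∈ P := hPtop ▸ Submodule.mem_top
      rw [(memP v).mp this]; rfl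
    have hMlt : Module.finrank K M < n := by
      by_contra hge
      have hMe : Module.finrank K M = Module.finrank K V := by omega
      have hMtop : M = ⊤ := Submodule.eq_top_of_finrank_eq hMe
      apply hgm1
      ext v
      have : v ∈ M := hMtop ▸ Submodule.mem_top
      rw [(memM v).mp this]; rfl
    let prP : V →ₗ[K] P := Submodule.projectionOnto P M hc
    let prM : V →ₗ[K] M := Submodule.projectionOnto M P hc.symm
    let rP : (V →ₗ[K] V) → (P →ₗ[K] P) := fun h => prP ∘ₗ h ∘ₗ P.subtype
    let rM : (V →ₗ[K] V) → (M →ₗ[K] M) := fun h => prM ∘ₗ h ∘ₗ M.subtype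
    have hgh : ∀ h ∈ S, ∀ v, g (h v) = h (g v) := fun h hh v => by
      have := LinearMap.congr_fun (hcomm g hgS h hh) v
      simpa using this
    have stabP : ∀ h ∈ S, ∀ v ∈ P, h v ∈ P := fun h hh v hv => by
      rw [memP] at hv ⊢
      rw [hgh h hh, hv]
    have stabM : ∀ h ∈ S, ∀ v ∈ M, h v ∈ M := fun h hh v hv => by
      rw [memM] at hv ⊢
      rw [hgh h hh, hv, map_neg]
    have rP_val : ∀ h ∈ S, ∀ v : P, ((rP h v : P) : V) = h v := fun h hh v => by
      show ((prP (h v) : P) : V) = h v
      exact congrArg Subtype.val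
        (Submodule.projectionOnto_apply_left hc ⟨h v, stabP h hh v v.2⟩)
    have rM_val : ∀ h ∈ S, ∀ v : M, ((rM h v : M) : V) = h v := fun h hh v => by
      show ((prM (h v) : M) : V) = h v
      exact congrArg Subtype.val
        (Submodule.projectionOnto_apply_left hc.symm ⟨h v, stabM h hh v v.2⟩)
    have rP_mul : ∀ h ∈ S, ∀ h' ∈ S, rP h * rP h' = rP (h * h') := by
      intro h hh h' hh'
      ext v
      show ((prP (h ((rP h' v : P) : V)) : P) : V) = ((prP (h (h' v)) : P) : V)
      rw [rP_val h' hh' v]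
    have rM_mul : ∀ h ∈ S, ∀ h' ∈ S, rM h * rM h' = rM (h * h') := by
      intro h hh h' hh'
      ext v
      show ((prM (h ((rM h' v : M) : V)) : M) : V) = ((prM (h (h' v)) : M) : V)
      rw [rM_val h' hh' v]
    have rP_one : rP 1 = 1 := by
      ext v
      show ((prP (v : V) : P) : V) = v
      exact congrArg Subtype.val (Submodule.projectionOnto_apply_left hc v)
    have rM_one : rM 1 = 1 := by
      ext v
      show ((prM (v : V) : M) : V) = v
      exact congrArg Subtype.val (Submodule.projectionOnto_apply_left hc.symm v)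
    have ihP : (rP '' S).ncard ≤ 2 ^ Module.finrank K P := by
      refine ih _ hPlt P rfl (rP '' S) (hfin.image _) ?_ ?_
      · rintro _ ⟨h, hh, rfl⟩
        rw [rP_mul h hh h hh, hinv h hh, rP_one]
      · rintro _ ⟨h, hh, rfl⟩ _ ⟨h', hh', rfl⟩
        rw [rP_mul h hh h' hh', rP_mul h' hh' h hh, hcomm h hh h' hh']
    have ihM : (rM '' S).ncard ≤ 2 ^ Module.finrank K M := by
      refine ih _ hMlt M rfl (rM '' S) (hfin.image _) ?_ ?_
      · rintro _ ⟨h, hh, rfl⟩
        rw [rM_mul h hh h hh, hinv h hh, rM_one]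
      · rintro _ ⟨h, hh, rfl⟩ _ ⟨h', hh', rfl⟩
        rw [rM_mul h hh h' hh', rM_mul h' hh' h hh, hcomm h hh h' hh']
    have hinjOn : Set.InjOn (fun h => (rP h, rM h)) S := by
      intro h hh h' hh' heq
      have e1 : rP h = rP h' := congrArg Prod.fst heq
      have e2 : rM h = rM h' := congrArg Prod.snd heq
      ext v
      have hv : v ∈ P ⊔ M := hc.sup_eq_top ▸ Submodule.mem_top
      obtain ⟨p, hp, m, hm, rfl⟩ := Submodule.mem_sup.mp hv
      rw [map_add, map_add]
      have a1 : h p = h' p := by
        rw [← rP_val h hh ⟨p, hp⟩, ← rP_val h' hh' ⟨p, hp⟩, e1]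
      have a2 : h m = h' m := by
        rw [← rM_val h hh ⟨m, hm⟩, ← rM_val h' hh' ⟨m, hm⟩, e2]
      rw [a1, a2]
    calc S.ncard ≤ ((rP '' S) ×ˢ (rM '' S)).ncard :=
          Set.ncard_le_ncard_of_injOn (fun h => (rP h, rM h))
            (fun h hh => ⟨⟨h, hh, rfl⟩, ⟨h, hh, rfl⟩⟩) hinjOn
            ((hfin.image _).prod (hfin.image _))
      _ = (rP '' S).ncard * (rM '' S).ncard := Set.ncard_prod
      _ ≤ 2 ^ Module.finrank K P * 2 ^ Module.finrank K M := Nat.mul_le_mul ihP ihM
      _ = 2 ^ n := by rw [← pow_add, hdim]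

theorem main
    (K : Type u) [Field K] (hK : ∀ n : ℕ, 0 < n → (X ^ n - 1 : K[X]).Splits) (h2 : (2 : K) ≠ 0)
    (V : Type v) [AddCommGroup V] [Module K V] [FiniteDimensional K V]
    (q : QuadraticForm K V) (hq : q.Anisotropic)
    (G : Subgroup (V ≃ₗ[K] V)) [Finite G] (hG : ∀ g ∈ G, ∀ x : V, q (g x) = q x) :
    (∀ g ∈ G, ∀ h ∈ G, g * h = h * g) ∧ Nat.card G ≤ 2 ^ Module.finrank K V := by
  have hsq : ∀ g ∈ G, g ^ 2 = 1 := by
    intro g hg
    have hpos : 0 < Nat.card G := Nat.card_pos
    have h1 : g ^ Nat.card G = 1 := by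
      have := pow_card_eq_one' (G := G) (x := ⟨g, hg⟩)
      exact congrArg Subtype.val this
    exact Groth.Agent.S15165.result K hK h2 V q hq g (hG g hg) _ hpos h1
  have hinvs : ∀ g ∈ G, g⁻¹ = g := fun g hg => by
    rw [inv_eq_iff_eq_inv, eq_inv_iff_mul_eq_one, ← sq, hsq g hg]
  have hcomm : ∀ g ∈ G, ∀ h ∈ G, g * h = h * g := by
    intro g hg h hh
    calc g * h = (g * h)⁻¹ := (hinvs _ (G.mul_mem hg hh)).symm
      _ = h⁻¹ * g⁻¹ := mul_inv_rev _ _
      _ = h * g := by rw [hinvs g hg, hinvs h hh]
  refine ⟨hcomm, ?_⟩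
  let φ : (V ≃ₗ[K] V) → (V →ₗ[K] V) := fun g => (g : V →ₗ[K] V)
  have hφinj : Function.Injective φ := LinearEquiv.toLinearMap_injective
  have hcard : Nat.card G = (φ '' (G : Set (V ≃ₗ[K] V))).ncard := by
    rw [Set.ncard_image_of_injective _ hφinj, ← Nat.card_coe_set_eq]
    rfl
  rw [hcard]
  refine card_le K h2 _ V rfl _ ((Set.toFinite (G : Set (V ≃ₗ[K] V))).image _) ?_ ?_
  · rintro _ ⟨g, hg, rfl⟩
    ext v
    have := hsq g hg
    have h3 := congrArg (fun e : V ≃ₗ[K] V => e v) this
    simpa [φ, sq] using h3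
  · rintro _ ⟨g, hg, rfl⟩ _ ⟨h, hh, rfl⟩
    ext v
    have h3 := congrArg (fun e : V ≃ₗ[K] V => e v) (hcomm g hg h hh)
    simpa [φ] using h3

end aux

/-- Let K be a field of characteristic different from 2 such that K contains all roots of unity (for
every n ≥ 1 the polynomial X^n − 1 splits into linear factors over K), V a finite-dimensional
K-vector space and q a quadratic form on V that does not represent zero. Then every finite subgroup
of the group of K-linear automorphisms of V preserving q is abelian and has order at most 2 ^ (dim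
V). (The published statement also covers perfect fields of characteristic 2; this row is the case of
characteristic ≠ 2.) -/
theorem result
    (K : Type u) [Field K] (hK : ∀ n : ℕ, 0 < n → (X ^ n - 1 : K[X]).Splits) (h2 : (2 : K) ≠ 0)
    (V : Type v) [AddCommGroup V] [Module K V] [FiniteDimensional K V]
    (q : QuadraticForm K V) (hq : q.Anisotropic)
    (G : Subgroup (V ≃ₗ[K] V)) [Finite G] (hG : ∀ g ∈ G, ∀ x : V, q (g x) = q x) :
    (∀ g ∈ G, ∀ h ∈ G, g * h = h * g) ∧ Nat.card G ≤ 2 ^ Module.finrank K V := by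
  exact main K hK h2 V q hq G hG

end Groth.Agent.S15166
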