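import Groth.Statements.S15167
import Groth.Agent.Lib.Helper17.ReducedNorm
import Mathlib

set_option autoImplicit false
universe u v
open Polynomial
open BddFin

namespace Groth.Agent.S15167

open IntermediateField

section
variable {K : Type u} [Field K] (hK : ∀ n : ℕ, 0 < n → (X ^ n - 1 : K[X]).Splits)
  {Ω : Type*} [Field Ω] [Algebra K Ω]
include hK

/-- roots of unity in an extension lie in `K` -/
lemma mem_range_of_pow_eq_one {m : ℕ} (hm : 0 < m) {ζ : Ω} (hζ : ζ ^ m = 1) :
    ζ ∈ (algebraMap K Ω).range := by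
  have hroot : ((X ^ m - 1 : K[X]).map (algebraMap K Ω)).IsRoot ζ := by simp [hζ]
  have hne : (X ^ m - 1 : K[X]) ≠ 0 := by simpa using X_pow_sub_C_ne_zero hm (1 : K)
  exact (hK m hm).mem_range_of_isRoot hne hroot

/-- if `β ^ m = a` and `ν ^ m = a ^ j` with `ν ∈ K` then `β ^ j ∈ K` -/
lemma pow_mem_of_pow_eq {m : ℕ} (hm : 0 < m) {a ν : K} (ha : a ≠ 0) {β : Ω}
    (hβ : β ^ m = algebraMap K Ω a) {j : ℕ} (hν : ν ^ m = a ^ j) :
    β ^ j ∈ (algebraMap K Ω).range := by
  have hν0 : ν ≠ 0 := by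
    rintro rfl
    rw [zero_pow (by omega)] at hν
    exact pow_ne_zero j ha hν.symm
  have h1 : (β ^ j * algebraMap K Ω ν⁻¹) ^ m = 1 := by
    rw [mul_pow, ← pow_mul, mul_comm j m, pow_mul, hβ, ← map_pow, ← map_pow, ← map_mul, inv_pow,
      hν, mul_inv_cancel₀ (pow_ne_zero j ha), map_one]
  obtain ⟨c, hc⟩ := mem_range_of_pow_eq_one hK hm h1
  refine ⟨c * ν, ?_⟩
  rw [map_mul, hc, mul_assoc, ← map_mul, inv_mul_cancel₀ hν0, map_one, mul_one]

omit hK in
lemma isIntegral_of_pow {m : ℕ} (hm : 0 < m) {a : K} {β : Ω}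
    (hβ : β ^ m = algebraMap K Ω a) : IsIntegral K β :=
  ⟨X ^ m - C a, monic_X_pow_sub_C a hm.ne', by simp [hβ]⟩

lemma pow_natDegree_minpoly_mem {m : ℕ} (hm : 0 < m) {a : K} (ha : a ≠ 0) {β : Ω}
    (hβ : β ^ m = algebraMap K Ω a) :
    β ^ (minpoly K β).natDegree ∈ (algebraMap K Ω).range := by
  have hint : IsIntegral K β := isIntegral_of_pow hm hβ
  haveI : FiniteDimensional K K⟮β⟯ := IntermediateField.adjoin.finiteDimensional hint
  have hgen : (IntermediateField.AdjoinSimple.gen K β) ^ m = algebraMap K K⟮β⟯ a := by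
    apply Subtype.ext
    simp [hβ]
  have hν : (Algebra.norm K (IntermediateField.AdjoinSimple.gen K β)) ^ m =
      a ^ (minpoly K β).natDegree := by
    rw [← map_pow, hgen, Algebra.norm_algebraMap, IntermediateField.adjoin.finrank hint]
  exact pow_mem_of_pow_eq hK hm ha hβ hν

lemma minpoly_eq {m : ℕ} (hm : 0 < m) {a : K} (ha : a ≠ 0) {β : Ω}
    (hβ : β ^ m = algebraMap K Ω a) :
    ∃ b : K, minpoly K β = X ^ (minpoly K β).natDegree - C b := by
  obtain ⟨b, hb⟩ := pow_natDegree_minpoly_mem hK hm ha hβ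
  refine ⟨b, ?_⟩
  have hint : IsIntegral K β := isIntegral_of_pow hm hβ
  have hd : 0 < (minpoly K β).natDegree := minpoly.natDegree_pos hint
  have hdvd : minpoly K β ∣ X ^ (minpoly K β).natDegree - C b :=
    minpoly.dvd K β (by simp [hb])
  exact (eq_of_monic_of_dvd_of_natDegree_le (minpoly.monic hint) (monic_X_pow_sub_C b hd.ne') hdvd
    (by rw [natDegree_X_pow_sub_C])).symm

lemma natDegree_minpoly_le {m : ℕ} (hm : 0 < m) {a : K} (ha : a ≠ 0) {β β' : Ω}
    (hβ : β ^ m = algebraMap K Ω a) (hβ' : β' ^ m = algebraMap K Ω a) :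
    (minpoly K β').natDegree ≤ (minpoly K β).natDegree := by
  have hint : IsIntegral K β := isIntegral_of_pow hm hβ
  have ha' : algebraMap K Ω a ≠ 0 := by simpa using ha
  have hβ0 : β ≠ 0 := by
    rintro rfl
    rw [zero_pow hm.ne'] at hβ
    exact ha' hβ.symm
  obtain ⟨c, hc⟩ := mem_range_of_pow_eq_one hK hm (show (β' * β⁻¹) ^ m = 1 by
    rw [mul_pow, inv_pow, hβ, hβ', mul_inv_cancel₀ ha'])
  obtain ⟨b, hb⟩ := pow_natDegree_minpoly_mem hK hm ha hβ
  have hd : 0 < (minpoly K β).natDegree := minpoly.natDegree_pos hint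
  have h1 : β' = algebraMap K Ω c * β := by
    rw [hc, mul_assoc, inv_mul_cancel₀ hβ0, mul_one]
  have h2 : β' ^ (minpoly K β).natDegree = algebraMap K Ω (c ^ (minpoly K β).natDegree * b) := by
    rw [h1, mul_pow, map_mul, map_pow, hb]
  have hdvd : minpoly K β' ∣ X ^ (minpoly K β).natDegree - C (c ^ (minpoly K β).natDegree * b) :=
    minpoly.dvd K β' (by simp [h2])
  calc (minpoly K β').natDegree
      ≤ (X ^ (minpoly K β).natDegree - C (c ^ (minpoly K β).natDegree * b)).natDegree :=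
        natDegree_le_of_dvd hdvd (X_pow_sub_C_ne_zero hd _)
    _ = (minpoly K β).natDegree := natDegree_X_pow_sub_C

lemma natDegree_minpoly_dvd {m : ℕ} (hm : 0 < m) {a ν : K} (ha : a ≠ 0) {β : Ω}
    (hβ : β ^ m = algebraMap K Ω a) {n : ℕ} (hν : ν ^ m = a ^ n) :
    (minpoly K β).natDegree ∣ n := by
  have hint : IsIntegral K β := isIntegral_of_pow hm hβ
  have ha' : algebraMap K Ω a ≠ 0 := by simpa using ha
  have hβ0 : β ≠ 0 := by
    rintro rfl
    rw [zero_pow hm.ne'] at hβ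
    exact ha' hβ.symm
  obtain ⟨c, hc⟩ := pow_mem_of_pow_eq hK hm ha hβ hν
  obtain ⟨b, hb⟩ := pow_natDegree_minpoly_mem hK hm ha hβ
  obtain ⟨d, hddef⟩ : ∃ d, d = (minpoly K β).natDegree := ⟨_, rfl⟩
  rw [← hddef] at hb ⊢
  have hd : 0 < d := hddef ▸ minpoly.natDegree_pos hint
  by_contra hnd
  have hr : 0 < n % d := Nat.pos_of_ne_zero (fun h => hnd (Nat.dvd_of_mod_eq_zero h))
  have hrd : n % d < d := Nat.mod_lt _ hd
  have hb0 : b ≠ 0 := by
    rintro rfl
    rw [map_zero] at hb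
    exact pow_ne_zero d hβ0 hb.symm
  have h0 : β ^ n = β ^ (n % d) * (β ^ d) ^ (n / d) := by
    rw [← pow_mul, ← pow_add, Nat.mod_add_div]
  have h1 : β ^ (n % d) = algebraMap K Ω (c * (b ^ (n / d))⁻¹) := by
    rw [← hc, ← hb] at h0
    rw [map_mul, h0, map_inv₀, map_pow, mul_assoc, mul_inv_cancel₀, mul_one]
    exact pow_ne_zero _ (by simpa using hb0)
  have hdvd : minpoly K β ∣ X ^ (n % d) - C (c * (b ^ (n / d))⁻¹) :=
    minpoly.dvd K β (by simp [h1])
  have := natDegree_le_of_dvd hdvd (X_pow_sub_C_ne_zero hr _)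
  rw [natDegree_X_pow_sub_C, ← hddef] at this
  omega

lemma exists_multiset [IsAlgClosed Ω] {m : ℕ} (hm : 0 < m) {a : K} (ha : a ≠ 0) (r : ℕ)
    (hr : ∀ β : Ω, β ^ m = algebraMap K Ω a → (minpoly K β).natDegree = r) :
    ∀ (k : ℕ) (h : K[X]), h.natDegree = k → h.Monic →
      (∀ β : Ω, aeval β h = 0 → β ^ m = algebraMap K Ω a) →
      ∃ s : Multiset K, h = (s.map fun b : K => X ^ r - C b).prod := by
  intro k
  induction k using Nat.strong_induction_on with
  | _ k ih =>
    intro h hk hmon hroots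
    by_cases hk0 : k = 0
    · refine ⟨0, ?_⟩
      rw [Multiset.map_zero, Multiset.prod_zero]
      exact (Polynomial.Monic.natDegree_eq_zero hmon).mp (hk0 ▸ hk)
    · obtain ⟨β, hβroot⟩ : ∃ β : Ω, aeval β h = 0 :=
        IsAlgClosed.exists_aeval_eq_zero Ω h (by
          rw [degree_eq_natDegree hmon.ne_zero, hk]
          exact_mod_cast hk0)
      have hβ := hroots β hβroot
      have hint : IsIntegral K β := isIntegral_of_pow hm hβ
      obtain ⟨b, hb⟩ := minpoly_eq hK hm ha hβ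
      rw [hr β hβ] at hb
      obtain ⟨h', rfl⟩ : minpoly K β ∣ h := minpoly.dvd K β hβroot
      have hmon' : h'.Monic := (minpoly.monic hint).of_mul_monic_left hmon
      have hdeg : (minpoly K β * h').natDegree = r + h'.natDegree := by
        rw [Monic.natDegree_mul (minpoly.monic hint) hmon', hr β hβ]
      have hr0 : 0 < r := hr β hβ ▸ minpoly.natDegree_pos hint
      obtain ⟨s, hs⟩ := ih h'.natDegree (by omega) h' rfl hmon'
        (fun γ hγ => hroots γ (by rw [map_mul, hγ, mul_zero]))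
      refine ⟨b ::ₘ s, ?_⟩
      rw [Multiset.map_cons, Multiset.prod_cons, ← hs, hb]

end


/-- Let K be a field such that K contains all roots of unity (for every n ≥ 1 the polynomial X^n − 1
splits into linear factors over K), A a central simple K-algebra of dimension n ^ 2, and x an
invertible element of A some power x ^ m (m ≥ 1) of which lies in K. Then there are a positive
integer r dividing n and elements a_i of K such that the minimal polynomial of x over K is the
product of the polynomials X ^ r − a_i. -/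
theorem result
    (K : Type u) [Field K] (hK : ∀ n : ℕ, 0 < n → (X ^ n - 1 : K[X]).Splits)
    (A : Type v) [Ring A] [Algebra K A] [Algebra.IsCentral K A] [IsSimpleRing A] [FiniteDimensional K A]
    (n : ℕ) (hn : Module.finrank K A = n ^ 2)
    (x : A) (hx : IsUnit x) (hxm : ∃ m : ℕ, 0 < m ∧ x ^ m ∈ (algebraMap K A).range) :
    ∃ r : ℕ, 0 < r ∧ r ∣ n ∧ ∃ s : Multiset K, minpoly K x = (s.map fun a : K => X ^ r - C a).prod := by
  obtain ⟨m, hm, a, ha⟩ := hxm
  have ha0 : a ≠ 0 := by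
    rintro rfl
    rw [map_zero] at ha
    exact (hx.pow m).ne_zero ha.symm
  obtain ⟨nrd, hnrd⟩ := Groth.Agent.Lib.Helper17.ReducedNorm.exists_nrd K A n hn
  have hν : (nrd x) ^ m = a ^ n := by rw [← map_pow, ← ha, hnrd]
  obtain ⟨β₀, hβ₀⟩ : ∃ β₀ : AlgebraicClosure K, β₀ ^ m = algebraMap K (AlgebraicClosure K) a :=
    IsAlgClosed.exists_pow_nat_eq _ hm
  have hr : ∀ β : AlgebraicClosure K, β ^ m = algebraMap K (AlgebraicClosure K) a →
      (minpoly K β).natDegree = (minpoly K β₀).natDegree := fun β hβ =>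
    le_antisymm (natDegree_minpoly_le hK hm ha0 hβ₀ hβ) (natDegree_minpoly_le hK hm ha0 hβ hβ₀)
  have hrn : (minpoly K β₀).natDegree ∣ n := natDegree_minpoly_dvd hK hm ha0 hβ₀ hν
  have hr0 : 0 < (minpoly K β₀).natDegree := minpoly.natDegree_pos (isIntegral_of_pow hm hβ₀)
  refine ⟨_, hr0, hrn, ?_⟩
  have hxint : IsIntegral K x := IsIntegral.of_finite K x
  have hdvd : minpoly K x ∣ X ^ m - C a := minpoly.dvd K x (by simp [ha])
  refine exists_multiset hK (Ω := AlgebraicClosure K) hm ha0 _ hr _ (minpoly K x) rfl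
    (minpoly.monic hxint) (fun β hβ => ?_)
  obtain ⟨q, hq⟩ := hdvd
  have := congrArg (aeval β) hq
  rw [map_mul, hβ, zero_mul] at this
  simpa [sub_eq_zero] using this

end Groth.Agent.S15167
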