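import Groth.Statements.S15168
import Groth.Agent.Lib.Helper7.CSADivision
import Mathlib

set_option autoImplicit false
universe u v
open Polynomial
open BddFin

namespace Groth.Agent.S15168

section
variable {K : Type u} [Field K] {D : Type v} [DivisionRing D] [Algebra K D]

lemma adjoin_singleton_comm (x : D) :
    ∀ a ∈ Algebra.adjoin K {x}, ∀ b ∈ Algebra.adjoin K {x}, a * b = b * a := by
  intro a ha b hb
  rw [Algebra.adjoin_singleton_eq_range_aeval] at ha hb
  obtain ⟨p, rfl⟩ := ha
  obtain ⟨q, rfl⟩ := hb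
  rw [← map_mul, ← map_mul, mul_comm]

variable [FiniteDimensional K D]

lemma exists_maximal_comm (x : D) : ∃ M : Subalgebra K D, x ∈ M ∧
    (∀ a ∈ M, ∀ b ∈ M, a * b = b * a) ∧
    (∀ L' : Subalgebra K D, (∀ a ∈ L', ∀ b ∈ L', a * b = b * a) → M ≤ L' → L' = M) := by
  let S : Set (Subalgebra K D) := {L | x ∈ L ∧ ∀ a ∈ L, ∀ b ∈ L, a * b = b * a}
  have hne : S.Nonempty :=
    ⟨Algebra.adjoin K {x}, Algebra.subset_adjoin rfl, adjoin_singleton_comm x⟩
  obtain ⟨M, hM, hmax⟩ := WellFounded.has_min
    (measure (fun L : Subalgebra K D => Module.finrank K D - Module.finrank K L)).wf S hne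
  refine ⟨M, hM.1, hM.2, fun L' hL' hle => ?_⟩
  have h1 := hmax L' ⟨hle hM.1, hL'⟩
  have h2 : Module.finrank K M ≤ Module.finrank K L' :=
    Submodule.finrank_mono (Subalgebra.toSubmodule.monotone hle)
  have h3 : Module.finrank K L' ≤ Module.finrank K D := Submodule.finrank_le (Subalgebra.toSubmodule L')
  have h4 : Module.finrank K L' ≤ Module.finrank K M := by
    by_contra hcon
    apply h1
    show Module.finrank K D - Module.finrank K L' < Module.finrank K D - Module.finrank K M
    omega
  have h5 : Subalgebra.toSubmodule M = Subalgebra.toSubmodule L' :=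
    Submodule.eq_of_le_of_finrank_le (Subalgebra.toSubmodule.monotone hle) h4
  exact (Subalgebra.toSubmodule_injective h5).symm

end


/-- Let K be a field such that K contains all roots of unity (for every n ≥ 1 the polynomial X^n − 1
splits into linear factors over K), A a central division algebra of dimension n ^ 2 over K, and x an
element of A some power x ^ m (m ≥ 1) of which lies in K. Then x ^ n lies in K; that is, the order
of the class of x in the quotient of the unit group of A by that of K divides n. -/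
theorem result
    (K : Type u) [Field K] (hK : ∀ n : ℕ, 0 < n → (X ^ n - 1 : K[X]).Splits)
    (A : Type v) [DivisionRing A] [Algebra K A] [Algebra.IsCentral K A] [FiniteDimensional K A]
    (n : ℕ) (hn : Module.finrank K A = n ^ 2)
    (x : A) (hxm : ∃ m : ℕ, 0 < m ∧ x ^ m ∈ (algebraMap K A).range) :
    x ^ n ∈ (algebraMap K A).range := by
  obtain ⟨m, hm, a, ha⟩ := hxm
  obtain ⟨M, hxM, hcomm, hmax⟩ := exists_maximal_comm (K := K) x
  have hdim := Groth.Agent.Lib.Helper7.CSA.finrank_eq_sq_of_maximal_comm M hcomm hmax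
  have hMn : Module.finrank K M = n := by
    rw [hn] at hdim
    exact (Nat.pow_left_injective (by norm_num : 2 ≠ 0) hdim).symm
  have hn0 : n ≠ 0 := by
    rintro rfl
    have : 0 < Module.finrank K A := Module.finrank_pos
    rw [hn] at this
    simp at this
  letI : CommRing M :=
    { (inferInstance : Ring M) with mul_comm := fun a b => Subtype.ext (hcomm a a.2 b b.2) }
  obtain ⟨x', hx'⟩ : ∃ x' : M, (x' : A) = x := ⟨⟨x, hxM⟩, rfl⟩
  have hx'm : x' ^ m = algebraMap K M a := by
    apply Subtype.ext
    simp [hx', ha]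
  by_cases hx0 : x' = 0
  · refine ⟨0, ?_⟩
    rw [← hx', hx0]
    simp [hn0]
  have ha0 : a ≠ 0 := by
    rintro rfl
    rw [map_zero] at hx'm
    exact hx0 (pow_eq_zero_iff (by omega) |>.mp hx'm)
  have hN : (Algebra.norm K x') ^ m = a ^ n := by
    rw [← map_pow, hx'm, Algebra.norm_algebraMap, hMn]
  have hN0 : Algebra.norm K x' ≠ 0 := by
    intro h0
    rw [h0, zero_pow (by omega)] at hN
    exact pow_ne_zero n ha0 hN.symm
  obtain ⟨ζ, hζdef⟩ : ∃ ζ : M, ζ = x' ^ n * algebraMap K M (Algebra.norm K x')⁻¹ := ⟨_, rfl⟩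
  have hζ : ζ ^ m = 1 := by
    rw [hζdef, mul_pow, ← pow_mul, mul_comm n m, pow_mul, hx'm, ← map_pow, ← map_pow, ← map_mul,
      inv_pow, hN, mul_inv_cancel₀ (pow_ne_zero n ha0), map_one]
  have hroot : ((X ^ m - 1 : K[X]).map (algebraMap K M)).IsRoot ζ := by
    simp [hζ]
  have hne : (X ^ m - 1 : K[X]) ≠ 0 := by
    have := X_pow_sub_C_ne_zero hm (1 : K)
    simpa using this
  obtain ⟨c, hc⟩ := (hK m hm).mem_range_of_isRoot hne hroot
  refine ⟨c * Algebra.norm K x', ?_⟩
  have h6 : x' ^ n = algebraMap K M (c * Algebra.norm K x') := by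
    rw [map_mul, hc, hζdef, mul_assoc, ← map_mul, inv_mul_cancel₀ hN0, map_one, mul_one]
  have := congrArg Subtype.val h6
  rw [← hx']
  simpa using this.symm

end Groth.Agent.S15168
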