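import Groth.Statements.S15169
import Groth.Agent.Lib.Helper13.Wedderburn3
import Mathlib.Algebra.CharP.Lemmas
import Mathlib.Algebra.Polynomial.Expand
-- import your own Groth.Agent.* helpers here

set_option autoImplicit false
universe u v
open BddFin

namespace Groth.Agent.S15169

section helpers

open Polynomial Module Groth.Agent.Lib.Helper13.DivDim Groth.Agent.Lib.Helper13.Wedderburn3

variable {K : Type u} [Field K] {p : ℕ} [Fact p.Prime] [CharP K p]
  {A : Type v} [DivisionRing A] [Algebra K A]

/-- `(ad a)^p = ad (a^p)` in characteristic `p`. -/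
theorem ad_pow (a : A) :
    (LinearMap.mulLeft K a - LinearMap.mulRight K a) ^ p =
      LinearMap.mulLeft K (a ^ p) - LinearMap.mulRight K (a ^ p) := by
  have : CharP (Module.End K A) p :=
    charP_of_injective_algebraMap (FaithfulSMul.algebraMap_injective K (Module.End K A)) p
  rw [sub_pow_char_of_commute p (LinearMap.commute_mulLeft_right a a), LinearMap.pow_mulLeft,
    LinearMap.pow_mulRight]

variable [Algebra.IsCentral K A] [FiniteDimensional K A]

theorem pow_mem_of_not_isSeparable (hA : finrank K A = p ^ 2) {v : A} (hv : ¬ IsSeparable K v) :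
    v ∉ (algebraMap K A).range ∧ v ^ p ∈ (algebraMap K A).range := by
  have hp : p.Prime := Fact.out
  have hvK : v ∉ (algebraMap K A).range := by
    rintro ⟨k, rfl⟩
    apply hv
    rw [IsSeparable, minpoly.eq_X_sub_C]
    exact separable_X_sub_C
  refine ⟨hvK, ?_⟩
  have hint : IsIntegral K v := Algebra.IsIntegral.isIntegral v
  have hirr : Irreducible (minpoly K v) := minpoly.irreducible hint
  rcases separable_or p hirr with h | ⟨-, g, hg, hgf⟩
  · exact absurd h hv
  · obtain ⟨q, hqm, hqd, hqx⟩ := exists_monic_relation (K := K) v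
    rw [finrank_adjoin_singleton hp hA hvK] at hqd
    have hdeg : (minpoly K v).natDegree ≤ p := by
      have := natDegree_le_of_dvd (minpoly.dvd K v hqx) hqm.ne_zero
      rwa [hqd] at this
    rw [← hgf, natDegree_expand] at hdeg
    have hg1 : 0 < g.natDegree := hg.natDegree_pos
    have hgd : g.natDegree = 1 := by
      have : g.natDegree * p ≤ 1 * p := by rwa [one_mul]
      have := Nat.le_of_mul_le_mul_right this hp.pos
      omega
    have hgm : g.Monic := by
      have : (expand K p g).Monic := hgf ▸ minpoly.monic hint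
      exact (monic_expand_iff hp.pos).mp this
    have hgX : g = X + C (g.coeff 0) := hgm.eq_X_add_C hgd
    have hv0 : aeval v (expand K p g) = 0 := hgf ▸ minpoly.aeval K v
    rw [hgX] at hv0
    simp only [map_add, expand_X, expand_C, map_pow, aeval_X, aeval_C] at hv0
    refine ⟨-(g.coeff 0), ?_⟩
    rw [map_neg]
    exact (eq_neg_of_add_eq_zero_left hv0).symm

end helpers

/-- (1) ⇒ (2): let K be a field with char K = p > 0 and A a central division K-algebra with dim_K A = p
^ 2. If some element of A is not separable over K, then there are v, u in A with v ^ p and u ^ p in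
K and v * u - u * v = 1 which generate A as a K-algebra. -/
theorem result
    (K : Type u) [Field K] (p : ℕ) [Fact p.Prime] [CharP K p]
    (A : Type v) [DivisionRing A] [Algebra K A] [Algebra.IsCentral K A] [FiniteDimensional K A]
    (hA : Module.finrank K A = p ^ 2) (h : ∃ v : A, ¬ IsSeparable K v) :
    ∃ v u : A, v ^ p ∈ (algebraMap K A).range ∧ u ^ p ∈ (algebraMap K A).range ∧ v * u - u * v = 1 ∧
      Algebra.adjoin K {v, u} = ⊤ := by
  classical
  have hp : p.Prime := Fact.out
  obtain ⟨v, hv⟩ := h
  obtain ⟨hvK, k, hk⟩ := pow_mem_of_not_isSeparable hA hv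
  set D : Module.End K A := LinearMap.mulLeft K v - LinearMap.mulRight K v with hD
  have hDapp : ∀ z, D z = v * z - z * v := fun z => rfl
  have hDp : D ^ p = 0 := by
    rw [hD, ad_pow, ← hk]
    ext z
    simp only [LinearMap.sub_apply, LinearMap.mulLeft_apply, LinearMap.mulRight_apply,
      LinearMap.zero_apply]
    rw [Algebra.commutes, sub_self]
  obtain ⟨z₀, hz₀⟩ := Groth.Agent.Lib.Helper13.Wedderburn3.exists_commutator_ne_zero hvK
  have hex : ∃ n, (D ^ n) z₀ = 0 := ⟨p, by rw [hDp]; rfl⟩
  set n := Nat.find hex with hn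
  have hnspec : (D ^ n) z₀ = 0 := Nat.find_spec hex
  have hn0 : n ≠ 0 := by
    intro h0
    rw [h0, pow_zero] at hnspec
    have : z₀ = 0 := hnspec
    rw [this] at hz₀
    simp at hz₀
  have hn1 : n ≠ 1 := by
    intro h1
    rw [h1, pow_one] at hnspec
    exact hz₀ hnspec
  set z := (D ^ (n - 2)) z₀ with hz
  have hDz : D z = (D ^ (n - 1)) z₀ := by
    rw [hz, ← Module.End.mul_apply, ← pow_succ']
    congr 2
    omega
  have hDDz : D (D z) = 0 := by
    rw [hDz, ← Module.End.mul_apply, ← pow_succ', show n - 1 + 1 = n by omega]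
    exact hnspec
  set c := D z with hc
  have hc0 : c ≠ 0 := by
    rw [hDz]
    exact Nat.find_min hex (by omega : n - 1 < n)
  have hcv : v * c = c * v := sub_eq_zero.mp hDDz
  have hcv' : c⁻¹ * v = v * c⁻¹ := by
    have : c⁻¹ * (v * c) * c⁻¹ = c⁻¹ * (c * v) * c⁻¹ := by rw [hcv]
    rw [← mul_assoc, mul_assoc, mul_inv_cancel₀ hc0, mul_one, ← mul_assoc, inv_mul_cancel₀ hc0,
      one_mul] at this
    exact this
  set u := z * c⁻¹ with hu
  have hvu : v * u - u * v = 1 := by
    have : v * u - u * v = (v * z - z * v) * c⁻¹ := by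
      rw [hu, sub_mul, mul_assoc z, hcv', mul_assoc, mul_assoc]
    rw [this, ← hDapp, ← hc, mul_inv_cancel₀ hc0]
  have hne : v * u ≠ u * v := by
    intro h
    rw [h, sub_self] at hvu
    exact zero_ne_one hvu
  have hup : u ^ p ∈ (algebraMap K A).range := by
    set E : Module.End K A := LinearMap.mulLeft K u - LinearMap.mulRight K u with hE
    have hEapp : ∀ z, E z = u * z - z * u := fun z => rfl
    have hEv : E v = -1 := by rw [hEapp, ← hvu]; abel
    have hEEv : E (E v) = 0 := by rw [hEv, hEapp]; simp
    have hEpv : (E ^ p) v = 0 := by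
      have : p = (p - 2) + 2 := by have := hp.two_le; omega
      rw [this, pow_add, Module.End.mul_apply, pow_two, Module.End.mul_apply, hEEv, map_zero]
    rw [hE, ad_pow] at hEpv
    have hcomm1 : u ^ p * v = v * u ^ p := sub_eq_zero.mp hEpv
    have hcomm2 : u ^ p * u = u * u ^ p := (pow_succ u p).symm.trans (pow_succ' u p)
    exact Groth.Agent.Lib.Helper13.DivDim.mem_range_of_commute_pair hp hA hne hcomm1 hcomm2
  exact ⟨v, u, ⟨k, hk⟩, hup, hvu, Groth.Agent.Lib.Helper13.DivDim.adjoin_pair_eq_top hp hA hne⟩

end Groth.Agent.S15169
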