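import Groth.Statements.S1517
-- import your own Groth.Agent.* helpers here

set_option autoImplicit false
universe u
open Brauer

namespace Groth.Agent.S1517

theorem mul_mem_right' {A : Type u} [Ring A] (M : Submodule Aᵐᵒᵖ A) {m : A} (hm : m ∈ M) (b : A) :
    m * b ∈ M := by
  have := M.smul_mem (MulOpposite.op b) hm
  rwa [MulOpposite.smul_eq_mul_unop, MulOpposite.unop_op] at this

theorem key {A : Type u} [Ring A] [IsSimpleRing A] (M : Submodule Aᵐᵒᵖ A) (hM : M ≠ ⊥)
    (P : A → Prop) (h0 : P 0) (hadd : ∀ x y, P x → P y → P (x + y)) (hneg : ∀ x, P x → P (-x))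
    (hleft : ∀ a x, P x → P (a * x)) (hMP : ∀ m ∈ M, P m) : P 1 := by
  let T : TwoSidedIdeal A := TwoSidedIdeal.mk' {x | ∀ b, P (x * b)}
    (by intro b; simpa using h0)
    (by intro x y hx hy b; rw [add_mul]; exact hadd _ _ (hx b) (hy b))
    (by intro x hx b; rw [neg_mul]; exact hneg _ (hx b))
    (by intro x y hy b; rw [mul_assoc]; exact hleft _ _ (hy b))
    (by intro x y hx b; rw [mul_assoc]; exact hx _)
  obtain ⟨m, hm, hm0⟩ := (Submodule.ne_bot_iff M).mp hM
  have hmT : m ∈ T := by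
    rw [TwoSidedIdeal.mem_mk']
    intro b
    exact hMP _ (mul_mem_right' M hm b)
  have h1 : (1 : A) ∈ T := IsSimpleRing.one_mem_of_ne_zero_mem T hm0 hmT
  rw [TwoSidedIdeal.mem_mk'] at h1
  simpa using h1 1

/-- Let A be a ring with no nontrivial two-sided ideals and M a nonzero right ideal, viewed as a right
A-module with endomorphism ring A'. Then every A'-linear endomorphism of M is right multiplication
by exactly one element of A; that is, the natural map from A to the bicommutant of M is a bijection. -/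
theorem result (A : Type u) [Ring A] [IsSimpleRing A]
    (M : Submodule Aᵐᵒᵖ A) (hM : M ≠ ⊥)
    (g : Module.End (Module.End Aᵐᵒᵖ M) M) :
    ∃! a : A, ∀ m : M, (g m : A) = (m : A) * a := by
  have hex : ∃ y : A, ∀ (m : M) (hm : (m : A) * 1 ∈ M), (g ⟨(m : A) * 1, hm⟩ : A) = (m : A) * y := by
    refine key M hM (fun x => ∃ y : A, ∀ (m : M) (hm : (m : A) * x ∈ M),
      (g ⟨(m : A) * x, hm⟩ : A) = (m : A) * y) ?_ ?_ ?_ ?_ ?_
    · refine ⟨0, fun m hm => ?_⟩
      have : (⟨(m : A) * 0, hm⟩ : M) = 0 := Subtype.ext (mul_zero _)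
      rw [this, map_zero, mul_zero]; rfl
    · rintro x₁ x₂ ⟨y₁, h₁⟩ ⟨y₂, h₂⟩
      refine ⟨y₁ + y₂, fun m hm => ?_⟩
      have hm₁ := mul_mem_right' M m.2 x₁
      have hm₂ := mul_mem_right' M m.2 x₂
      have : (⟨(m : A) * (x₁ + x₂), hm⟩ : M) = ⟨(m : A) * x₁, hm₁⟩ + ⟨(m : A) * x₂, hm₂⟩ :=
        Subtype.ext (mul_add _ _ _)
      rw [this, map_add, Submodule.coe_add, h₁ m hm₁, h₂ m hm₂, mul_add]
    · rintro x ⟨y, h⟩
      refine ⟨-y, fun m hm => ?_⟩
      have hm₁ := mul_mem_right' M m.2 x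
      have : (⟨(m : A) * (-x), hm⟩ : M) = -⟨(m : A) * x, hm₁⟩ :=
        Subtype.ext (mul_neg _ _)
      rw [this, map_neg, Submodule.coe_neg, h m hm₁, mul_neg]
    · rintro a x ⟨y, h⟩
      refine ⟨a * y, fun m hm => ?_⟩
      have hma := mul_mem_right' M m.2 a
      have hm₁ : (m : A) * a * x ∈ M := mul_mem_right' M hma x
      have : (⟨(m : A) * (a * x), hm⟩ : M) = ⟨((⟨(m : A) * a, hma⟩ : M) : A) * x, hm₁⟩ :=
        Subtype.ext (mul_assoc _ _ _).symm
      rw [this, h ⟨(m : A) * a, hma⟩ hm₁, mul_assoc]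
    · intro x hx
      refine ⟨(g ⟨x, hx⟩ : A), fun m hm => ?_⟩
      let L : Module.End Aᵐᵒᵖ M :=
        { toFun := fun z => ⟨(m : A) * (z : A), mul_mem_right' M m.2 _⟩
          map_add' := fun z w => Subtype.ext (mul_add _ _ _)
          map_smul' := fun c z => Subtype.ext (by
            simp only [Submodule.coe_smul, MulOpposite.smul_eq_mul_unop, RingHom.id_apply, mul_assoc]) }
      have h1 : (⟨(m : A) * x, hm⟩ : M) = L • (⟨x, hx⟩ : M) := rfl
      rw [h1, map_smul]
      rfl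
  obtain ⟨y, hy⟩ := hex
  have hy' : ∀ m : M, (g m : A) = (m : A) * y := by
    intro m
    have hm : (m : A) * 1 ∈ M := by rw [mul_one]; exact m.2
    have := hy m hm
    have e : (⟨(m : A) * 1, hm⟩ : M) = m := Subtype.ext (mul_one _)
    rwa [e] at this
  refine ⟨y, hy', fun y' hy'' => ?_⟩
  have hd : (1 : A) * (y' - y) = 0 := by
    refine key M hM (fun x => x * (y' - y) = 0) ?_ ?_ ?_ ?_ ?_
    · simp
    · intro x₁ x₂ h₁ h₂
      change (x₁ + x₂) * (y' - y) = 0
      rw [add_mul, h₁, h₂, add_zero]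
    · intro x h
      change (-x) * (y' - y) = 0
      rw [neg_mul, h, neg_zero]
    · intro a x h
      change a * x * (y' - y) = 0
      rw [mul_assoc, h, mul_zero]
    · intro m hm
      change m * (y' - y) = 0
      rw [mul_sub, ← hy'' ⟨m, hm⟩, ← hy' ⟨m, hm⟩, sub_self]
  rw [one_mul, sub_eq_zero] at hd
  exact hd

end Groth.Agent.S1517
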