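import Groth.Statements.S15170
-- import your own Groth.Agent.* helpers here
import Mathlib.LinearAlgebra.Dimension.Free
import Mathlib.LinearAlgebra.Dimension.FreeAndStrongRankCondition
import Mathlib.FieldTheory.Separable
import Mathlib.Tactic.IntervalCases
import Mathlib.Tactic.Abel
import Mathlib.LinearAlgebra.FiniteDimensional.Basic
import Mathlib.FieldTheory.SplittingField.IsSplittingField
import Mathlib.Algebra.CharP.Algebra
import Mathlib.FieldTheory.Minpoly.Field

set_option autoImplicit false
universe u v
open BddFin

namespace Groth.Agent.S15170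

open Polynomial in
/-- If `v * a = b * v` then `v * q(a) = q(b) * v` for every polynomial `q`. -/
theorem semiconj_aeval {K : Type u} [Field K] {A : Type v} [Ring A] [Algebra K A]
    (v a b : A) (h : v * a = b * v) (q : K[X]) : v * aeval a q = aeval b q * v := by
  have hpow : ∀ n : ℕ, v * a ^ n = b ^ n * v := by
    intro n
    induction n with
    | zero => simp
    | succ n ih => rw [pow_succ, ← mul_assoc, ih, mul_assoc, h, ← mul_assoc, ← pow_succ]
  induction q using Polynomial.induction_on' with
  | add q r hq hr => rw [map_add, map_add, mul_add, add_mul, hq, hr]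
  | monomial n c =>
    rw [aeval_monomial, aeval_monomial, ← mul_assoc, ← Algebra.commutes, mul_assoc, hpow, mul_assoc]

open Polynomial in
open scoped IsMulCommutative in
/-- (2) ⇒ (3): let K be a field with char K = p > 0 and A a central division K-algebra with dim_K A = p
^ 2. If v, u in A satisfy v ^ p ∈ K, u ^ p ∈ K and v * u - u * v = 1, then some Galois extension L
of K with [L : K] = p admits a K-algebra embedding into A (so A has a Galois subfield of degree p
over K). -/
theorem result
    (K : Type u) [Field K] (p : ℕ) [Fact p.Prime] [CharP K p]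
    (A : Type v) [DivisionRing A] [Algebra K A] [Algebra.IsCentral K A] [FiniteDimensional K A]
    (hA : Module.finrank K A = p ^ 2) (v u : A) (hv : v ^ p ∈ (algebraMap K A).range)
    (hu : u ^ p ∈ (algebraMap K A).range) (hvu : v * u - u * v = 1) :
    ∃ (L : Type v) (_ : Field L) (_ : Algebra K L), IsGalois K L ∧ Module.finrank K L = p ∧
      Nonempty (L →ₐ[K] A) := by
  classical
  have hp : p.Prime := Fact.out
  have hv0 : v ≠ 0 := by
    rintro rfl
    simp at hvu
  have hvu' : v * u = u * v + 1 := by rw [← hvu]; abel
  set w : A := u * v with hw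
  have hsc : v * w = (w + 1) * v := by
    rw [hw, ← mul_assoc, hvu']
  -- shifted semiconjugation
  have hsci : ∀ i : ℕ, v * (w + (i : A)) = (w + ((i + 1 : ℕ) : A)) * v := by
    intro i
    rw [mul_add, hsc, Nat.cast_succ, ← add_assoc, add_mul, add_mul, add_mul,
      (Nat.cast_commute i v).eq.symm]
    abel
  let L : Subalgebra K A := Algebra.adjoin K {w}
  have hwL : w ∈ L := Algebra.subset_adjoin (Set.mem_singleton w)
  let _ : Field L := fieldOfFiniteDimensional K L
  let w' : L := ⟨w, hwL⟩
  -- the degree
  have hfr : Module.finrank K L = p := by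
    have hmul := Module.finrank_mul_finrank K L A
    rw [hA] at hmul
    have hdvd : Module.finrank K L ∣ p ^ 2 := ⟨_, hmul.symm⟩
    obtain ⟨k, hk, hk'⟩ := (Nat.dvd_prime_pow hp).mp hdvd
    interval_cases k
    · -- finrank = 1, so `w` is central, impossible
      exfalso
      rw [pow_zero, Subalgebra.finrank_eq_one_iff] at hk'
      have hwb : w ∈ (⊥ : Subalgebra K A) := hk' ▸ hwL
      obtain ⟨c, hc⟩ := Algebra.mem_bot.mp hwb
      have hcomm : v * w = w * v := by rw [← hc]; exact (Algebra.commutes c v).symm
      rw [hsc, add_mul, one_mul] at hcomm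
      exact hv0 (by simpa using hcomm)
    · simpa using hk'
    · -- finrank = p ^ 2, so `L = A` is commutative, impossible
      exfalso
      have htop : L = ⊤ := by
        apply Algebra.toSubmodule_eq_top.mp
        apply Submodule.eq_top_of_finrank_eq
        rw [hA]; exact hk'
      have hu' : u ∈ L := htop ▸ Algebra.mem_top
      have hv' : v ∈ L := htop ▸ Algebra.mem_top
      have hcomm := congrArg Subtype.val (mul_comm (⟨u, hu'⟩ : L) ⟨v, hv'⟩)
      simp only [Subalgebra.coe_mul] at hcomm
      rw [← hcomm] at hvu'
      change w = w + 1 at hvu'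
      simp at hvu'
  -- the minimal polynomial of `w'` and its roots `w' + i`
  set m : K[X] := minpoly K w' with hm
  have hint : IsIntegral K w' := Algebra.IsIntegral.isIntegral w'
  have hm0 : m ≠ 0 := minpoly.ne_zero hint
  have hmdeg : m.natDegree ≤ p := hfr ▸ minpoly.natDegree_le w'
  have hrootA : ∀ i : ℕ, aeval (w + (i : A)) m = 0 := by
    intro i
    induction i with
    | zero =>
      have h1 : aeval (L.val w') m = L.val (aeval w' m) := aeval_algHom_apply L.val w' m
      rw [minpoly.aeval, map_zero] at h1
      simpa using h1
    | succ i ih =>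
      have h2 := semiconj_aeval (K := K) v _ _ (hsci i) m
      rw [ih, mul_zero] at h2
      exact (mul_eq_zero.mp h2.symm).resolve_right hv0
  let r : ℕ → L := fun i => w' + (i : L)
  have hroot : ∀ i : ℕ, aeval (r i) m = 0 := by
    intro i
    apply Subtype.val_injective
    have h1 : aeval (L.val (r i)) m = L.val (aeval (r i) m) := aeval_algHom_apply L.val (r i) m
    have h3 : L.val (r i) = w + (i : A) := by simp [r, w']
    rw [h3, hrootA i] at h1
    simpa using h1.symm
  have : CharP L p := charP_of_injective_algebraMap (algebraMap K L).injective p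
  have hrinj : Set.InjOn r (Finset.range p : Set ℕ) := by
    intro i hi j hj hij
    have hij' : (i : L) = (j : L) := add_left_cancel hij
    exact CharP.natCast_injOn_Iio L p (by simpa using hi) (by simpa using hj) hij'
  let T : Finset L := (Finset.range p).image r
  have hTcard : T.card = p := by
    rw [Finset.card_image_of_injOn hrinj, Finset.card_range]
  set mL : L[X] := m.map (algebraMap K L) with hmL
  have hmL0 : mL ≠ 0 := (Polynomial.map_ne_zero_iff (algebraMap K L).injective).mpr hm0
  have hmLdeg : mL.natDegree = m.natDegree := natDegree_map _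
  have hTle : T.val ≤ mL.roots := by
    rw [Multiset.le_iff_subset T.nodup]
    intro x hx
    obtain ⟨i, -, rfl⟩ := Finset.mem_image.mp (Finset.mem_val.mp hx)
    rw [mem_roots hmL0, IsRoot.def, hmL, eval_map_algebraMap]
    exact hroot i
  have hcard1 : p ≤ mL.roots.card := hTcard ▸ Multiset.card_le_card hTle
  have hcard2 : mL.roots.card ≤ mL.natDegree := card_roots' mL
  have hcard : mL.roots.card = mL.natDegree := by omega
  have hsplits : mL.Splits := splits_iff_card_roots.mpr hcard
  have hroots : T.val = mL.roots :=
    Multiset.eq_of_le_of_card_le hTle (by rw [Finset.card_val, hTcard]; omega)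
  have hsepL : mL.Separable := (nodup_roots_iff_of_splits hmL0 hsplits).mp (hroots ▸ T.nodup)
  have hsep : m.Separable := (separable_map (algebraMap K L)).mp hsepL
  have : m.IsSplittingField K L := by
    refine ⟨hsplits, ?_⟩
    have htop : Algebra.adjoin K ({w'} : Set L) = ⊤ := by
      have := Algebra.adjoin_adjoin_coe_preimage (R := K) (s := ({w} : Set A))
      convert this using 2
      ext x
      simp [w', Subtype.ext_iff]
    rw [eq_top_iff, ← htop]
    apply Algebra.adjoin_mono
    intro x hx
    rw [Set.mem_singleton_iff] at hx
    subst hx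
    rw [mem_rootSet]
    exact ⟨hm0, minpoly.aeval K w'⟩
  exact ⟨L, inferInstance, inferInstance, IsGalois.of_separable_splitting_field hsep, hfr, ⟨L.val⟩⟩

end Groth.Agent.S15170
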