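import Groth.Statements.S15171
import Groth.Agent.Lib.Helper5.DivAlg

set_option autoImplicit false
universe u v w
open BddFin

namespace Groth.Agent.S15171

/-- (3) ⇒ (1): let K be a field with char K = p > 0 and A a central division K-algebra with dim_K A = p
^ 2. If some Galois extension L of K with [L : K] = p admits a K-algebra embedding into A, then some
element of A is not separable over K. -/
theorem result
    (K : Type u) [Field K] (p : ℕ) [Fact p.Prime] [CharP K p]
    (A : Type v) [DivisionRing A] [Algebra K A] [Algebra.IsCentral K A] [FiniteDimensional K A]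
    (hA : Module.finrank K A = p ^ 2) (L : Type w) [Field L] [Algebra K L] [IsGalois K L]
    (hL : Module.finrank K L = p) (ι : L →ₐ[K] A) :
    ∃ v : A, ¬ IsSeparable K v := by
  have hp : p.Prime := Fact.out
  have : ExpChar K p := ExpChar.prime hp
  have : FiniteDimensional K L := Module.finite_of_finrank_pos (by rw [hL]; exact hp.pos)
  obtain ⟨θ, hθ⟩ := Field.exists_primitive_element K L
  have hint : IsIntegral K θ := Algebra.IsIntegral.isIntegral θ
  have hθ' : Algebra.adjoin K {θ} = ⊤ := by
    rw [← IntermediateField.adjoin_simple_toSubalgebra_of_isAlgebraic hint.isAlgebraic, hθ,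
      IntermediateField.top_toSubalgebra]
  have hnc : ∃ x₀ : A, x₀ * ι θ ≠ ι θ * x₀ := by
    by_contra hcon
    push Not at hcon
    have hc : ι θ ∈ Subalgebra.center K A := Subalgebra.mem_center_iff.2 (fun x => hcon x)
    obtain ⟨k, hk⟩ := Algebra.mem_bot.1 (Algebra.IsCentral.out hc)
    have hθk : θ = algebraMap K L k := ι.injective (by
      show ι θ = ι (algebraMap K L k)
      rw [AlgHom.commutes]; exact hk.symm)
    have hbot : IntermediateField.adjoin K {θ} = ⊥ :=
      IntermediateField.adjoin_simple_eq_bot_iff.2 (hθk ▸ IntermediateField.algebraMap_mem _ k)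
    rw [hθ] at hbot
    have h1 : Module.finrank K L = 1 := by
      rw [← IntermediateField.finrank_top', hbot, IntermediateField.finrank_bot]
    rw [hL] at h1
    exact hp.one_lt.ne' h1
  obtain ⟨x₀, hx₀⟩ := hnc
  obtain ⟨u, lam, hu, hlam, hroot, hul⟩ :=
    Groth.Agent.Lib.Helper5.DivAlg.exists_eigen ι θ hint (Normal.splits inferInstance θ)
      (Algebra.IsSeparable.isSeparable K θ) x₀ hx₀
  have hconj : IsConjRoot K lam θ := ((isConjRoot_iff_aeval_eq_zero hint).2 hroot).symm
  obtain ⟨τ, hτ⟩ := isConjRoot_iff_exists_algEquiv.1 hconj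
  have hall : ∀ ℓ, u * ι ℓ = ι (τ ℓ) * u :=
    Groth.Agent.Lib.Helper5.DivAlg.intertwine_all ι θ hθ' τ.toAlgHom u (by
      show u * ι θ = ι (τ θ) * u
      rw [hτ]; exact hul)
  have hpow := Groth.Agent.Lib.Helper5.DivAlg.intertwine_pow ι τ u hall p
  have hτp : τ ^ p = 1 := by
    have hcard : Nat.card (L ≃ₐ[K] L) = p := by rw [IsGalois.card_aut_eq_finrank, hL]
    rw [← hcard]
    exact pow_card_eq_one'
  refine ⟨u, fun hsep => ?_⟩
  have hmem := Groth.Agent.Lib.Helper5.DivAlg.mem_adjoin_pow_of_isSeparable p u hsep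
  have hle : Algebra.adjoin K {u ^ p} ≤ Subalgebra.centralizer K {ι θ} := Algebra.adjoin_le (by
    intro y hy
    rw [Set.mem_singleton_iff] at hy
    subst hy
    rw [SetLike.mem_coe, Subalgebra.mem_centralizer_iff K]
    intro g hg
    rw [Set.mem_singleton_iff] at hg
    subst hg
    have := hpow θ
    rw [hτp] at this
    simpa using this.symm)
  have h2 := (Subalgebra.mem_centralizer_iff K).1 (hle hmem) (ι θ) rfl
  rw [← h2] at hul
  exact hlam (ι.injective (mul_right_cancel₀ hu hul).symm)

end Groth.Agent.S15171
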