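import Groth.Statements.S15172
-- import your own Groth.Agent.* helpers here
import Mathlib.LinearAlgebra.Lagrange
import Mathlib.Tactic.Ring

set_option autoImplicit false
universe u v
open Polynomial
open BddFin

namespace Groth.Agent.S15172

/-- Let L be a field of characteristic p > 0 and s a finite subset of L containing 0 and closed under
addition (a finite additive subgroup). Then the polynomial f = ∏_{a ∈ s} (X - a) is additive: f (x +
y) = f x + f y for all x, y in any commutative L-algebra (equivalently, as an identity of
polynomials in two variables). -/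
theorem result
    (L : Type u) [Field L] (p : ℕ) [Fact p.Prime] [CharP L p] (s : Finset L) (h0 : (0 : L) ∈ s)
    (hadd : ∀ a ∈ s, ∀ b ∈ s, a + b ∈ s) (R : Type v) [CommRing R] [Algebra L R] (x y : R) :
    aeval (x + y) (∏ a ∈ s, (X - C a)) = aeval x (∏ a ∈ s, (X - C a)) + aeval y (∏ a ∈ s, (X - C a)) := by
  classical
  -- `s` is closed under negation
  have hnsmul : ∀ (n : ℕ) (a : L), a ∈ s → n • a ∈ s := by
    intro n a ha
    induction n with
    | zero => simpa using h0
    | succ n ih => rw [succ_nsmul]; exact hadd _ ih _ ha
  have hneg : ∀ a ∈ s, -a ∈ s := by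
    intro a ha
    have h1 : (p - 1) • a = -a := by
      have hp : (p : L) = 0 := CharP.cast_eq_zero L p
      have hp1 : 1 ≤ p := (Fact.out : p.Prime).one_le
      rw [nsmul_eq_mul, Nat.cast_sub hp1, hp]; simp
    rw [← h1]; exact hnsmul _ _ ha
  set f : L[X] := ∏ a ∈ s, (X - C a) with hf
  let F : L[X][X] := ∏ a ∈ s, (X - C (C a))
  have hFmap : F = f.map C := by simp [F, hf, Polynomial.map_prod]
  have hFmonic : F.Monic := monic_prod_X_sub_C _ _
  have hFdeg : F.natDegree = s.card := by
    simp only [F]
    rw [natDegree_prod_of_monic _ _ (fun a _ => monic_X_sub_C _)]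
    simp
  have hspos : 0 < s.card := Finset.card_pos.mpr ⟨0, h0⟩
  have hG1monic : (F.comp (X + C X)).Monic := hFmonic.comp_X_add_C _
  have hG1deg : (F.comp (X + C X)).natDegree = s.card := by
    rw [natDegree_comp, natDegree_X_add_C, mul_one, hFdeg]
  have hCf : (C f : L[X][X]).degree < F.degree := by
    rw [degree_eq_natDegree hFmonic.ne_zero, hFdeg]
    exact lt_of_le_of_lt degree_C_le (by exact_mod_cast hspos)
  have hG2monic : (F + C f).Monic := hFmonic.add_of_left hCf
  have hG2deg : (F + C f).natDegree = s.card := by
    rw [natDegree_add_C, hFdeg]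
  have key : F.comp (X + C X) = F + C f := by
    apply eq_of_degree_le_of_eval_index_eq s (v := fun a : L => (C a : L[X]))
    · intro a _ b _ h
      exact C_injective h
    · rw [degree_eq_natDegree hG1monic.ne_zero, hG1deg]
    · rw [degree_eq_natDegree hG1monic.ne_zero, degree_eq_natDegree hG2monic.ne_zero, hG1deg,
        hG2deg]
    · rw [hG1monic.leadingCoeff, hG2monic.leadingCoeff]
    · intro a ha
      have e1 : eval (C a) F = 0 := by
        simp only [F, eval_prod, eval_sub, eval_X, eval_C]
        exact Finset.prod_eq_zero ha (sub_self _)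
      have e2 : eval (C a) (F.comp (X + C X)) = f := by
        simp only [F, eval_comp, eval_prod, eval_sub, eval_X, eval_C, eval_add, hf]
        refine Finset.prod_nbij' (fun b => b - a) (fun c => c + a) ?_ ?_ ?_ ?_ ?_
        · intro b hb
          rw [sub_eq_add_neg]; exact hadd _ hb _ (hneg _ ha)
        · intro c hc
          exact hadd _ hc _ ha
        · intro b _; simp
        · intro c _; simp
        · intro b _
          simp only [C_sub]; ring
      rw [e2, eval_add, e1, eval_C, zero_add]
  -- specialise
  let φ : L[X] →+* R := (aeval y : L[X] →ₐ[L] R)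
  have hφC : φ.comp C = algebraMap L R := by
    ext a; simp [φ]
  have hev : ∀ z : R, eval₂ φ z F = aeval z f := by
    intro z
    rw [hFmap, eval₂_map, hφC]; rfl
  have := congrArg (eval₂ φ x) key
  rw [eval₂_comp, eval₂_add, eval₂_add, eval₂_X, eval₂_C, eval₂_C, hev, hev] at this
  rw [show φ X = y by simp [φ]] at this
  rw [this]; rfl

end Groth.Agent.S15172
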