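import Groth.Statements.S15173
import Mathlib

set_option autoImplicit false
universe u v
open Polynomial
open BddFin

namespace Groth.Agent.S15173

section Aux
open Polynomial

theorem exists_finset (K : Type u) [Field K] (p : ℕ) [Fact p.Prime] [CharP K p]
    (hK : ∀ n : ℕ, 0 < n → (X ^ n - 1 : K[X]).Splits) (N : ℕ) : ∃ S : Finset K, N < S.card := by
  classical
  set n := N * p + 1 with hn
  have hn0 : (n : K) ≠ 0 := by
    rw [hn]; push_cast; rw [CharP.cast_eq_zero K p]; simp
  have hsep : (X ^ n - 1 : K[X]).Separable := by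
    have := Polynomial.separable_X_pow_sub_C (1 : K) hn0 one_ne_zero
    simpa using this
  have hcard := (Polynomial.splits_iff_card_roots.1 (hK n (by omega)))
  have hnd := Polynomial.nodup_roots hsep
  refine ⟨(X ^ n - 1 : K[X]).roots.toFinset, ?_⟩
  rw [Multiset.toFinset_card_of_nodup hnd, hcard]
  have : (X ^ n - 1 : K[X]).natDegree = n := by
    have := Polynomial.natDegree_X_pow_sub_C (R := K) (n := n) (r := 1)
    simpa using this
  rw [this, hn]
  have hp : 0 < p := (Fact.out : p.Prime).pos
  nlinarith

theorem main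
    (K : Type u) [Field K] (p : ℕ) [Fact p.Prime] [CharP K p] (hK : ∀ n : ℕ, 0 < n → (X ^ n - 1 : K[X]).Splits)
    (A : Type v) [DivisionRing A] [Algebra K A] [Algebra.IsCentral K A] [FiniteDimensional K A]
    (w : A) (hw : w ^ p ∈ (algebraMap K A).range) (hwK : w ∉ (algebraMap K A).range) (N : ℕ) :
    ∃ H : Subgroup Aˣ, (Units.map (algebraMap K A : K →* A)).range ≤ H ∧
      N < ((Units.map (algebraMap K A : K →* A)).range).relIndex H := by
  classical
  set a : K →+* A := algebraMap K A with ha
  set K' : Subgroup Aˣ := (Units.map (algebraMap K A : K →* A)).range with hK'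
  have hcomm : ∀ (c : K) (x : A), a c * x = x * a c := fun c x => Algebra.commutes c x
  haveI : K'.Normal := by
    refine ⟨fun n hn g => ?_⟩
    obtain ⟨k, rfl⟩ := hn
    refine ⟨k, ?_⟩
    apply Units.ext
    simp only [Units.coe_map, MonoidHom.coe_coe, Units.val_mul]
    rw [← hcomm, mul_assoc, Units.mul_inv, mul_one]
  haveI : CharP A p := charP_of_injective_algebraMap (algebraMap K A).injective p
  obtain ⟨S, hS⟩ := exists_finset K p hK N
  have hne : ∀ c : K, w + a c ≠ 0 := by
    intro c h
    apply hwK
    refine ⟨-c, ?_⟩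
    rw [map_neg]; exact (eq_neg_of_add_eq_zero_left h).symm
  let u : K → Aˣ := fun c => Units.mk0 _ (hne c)
  let g : K → Aˣ ⧸ K' := fun c => QuotientGroup.mk (u c)
  have hwa : ∀ c c' : K, (w + a c) * (w + a c') = (w + a c') * (w + a c) := by
    intro c c'
    have h1 := hcomm c w
    have h2 := hcomm c' w
    have h3 := hcomm c (a c')
    simp only [add_mul, mul_add]
    rw [h1, h2, h3]; abel
  have hgcomm : ∀ c c', g c * g c' = g c' * g c := by
    intro c c'
    show (QuotientGroup.mk (u c * u c') : Aˣ ⧸ K') = QuotientGroup.mk (u c' * u c)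
    congr 1
    apply Units.ext
    exact hwa c c'
  obtain ⟨k0, hk0⟩ := hw
  have hgp : ∀ c, g c ^ p = 1 := by
    intro c
    show (QuotientGroup.mk ((u c) ^ p) : Aˣ ⧸ K') = 1
    rw [QuotientGroup.eq_one_iff]
    have h1 : (w + a c) ^ p = a (k0 + c ^ p) := by
      rw [add_pow_char_of_commute (x := w) (y := a c) (p := p) (hcomm c w).symm, map_add, hk0, map_pow]
    have h2 : k0 + c ^ p ≠ 0 := by
      intro h0
      rw [h0, map_zero] at h1
      exact hne c (pow_eq_zero_iff (Fact.out : p.Prime).ne_zero |>.1 h1)
    refine ⟨Units.mk0 _ h2, ?_⟩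
    apply Units.ext
    simp only [Units.coe_map, MonoidHom.coe_coe, Units.val_mk0, Units.val_pow_eq_pow_val, u]
    exact h1.symm
  have hginj : Function.Injective g := by
    intro c c' h
    have h1 : (u c)⁻¹ * u c' ∈ K' := QuotientGroup.eq.1 h
    obtain ⟨l, hl⟩ := h1
    have h2 : a (l : K) = (w + a c)⁻¹ * (w + a c') := by
      have := congrArg Units.val hl
      simpa [u] using this
    have h3 : (w + a c) * a (l : K) = w + a c' := by
      rw [h2, ← mul_assoc, mul_inv_cancel₀ (hne c), one_mul]
    have h4 : w * a ((l : K) - 1) = a (c' - c * l) := by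
      rw [map_sub, map_sub, map_mul, map_one, mul_sub, mul_one]
      rw [add_mul] at h3
      rw [eq_sub_iff_add_eq, sub_add_eq_add_sub, sub_eq_iff_eq_add, h3, add_comm]
    by_cases hl1 : (l : K) - 1 = 0
    · rw [hl1, map_zero, mul_zero] at h4
      have h5 : c' - c * l = 0 := (map_eq_zero a).1 h4.symm
      have h6 : (l : K) = 1 := sub_eq_zero.1 hl1
      rw [h6, mul_one, sub_eq_zero] at h5
      exact h5.symm
    · exfalso
      apply hwK
      refine ⟨(c' - c * l) * ((l : K) - 1)⁻¹, ?_⟩
      rw [map_mul, ← h4, mul_assoc, ← map_mul, mul_inv_cancel₀ hl1, map_one, mul_one]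
  set T : Subgroup (Aˣ ⧸ K') := Subgroup.closure (g '' (S : Set K)) with hT
  have hTcomm : ∀ x ∈ g '' (S : Set K), ∀ y ∈ g '' (S : Set K), x * y = y * x := by
    rintro _ ⟨c, _, rfl⟩ _ ⟨c', _, rfl⟩; exact hgcomm c c'
  letI : CommGroup T := Subgroup.closureCommGroupOfComm hTcomm
  haveI : Group.FG T := Group.closure_finite_fg _
  have hpow : ∀ (x : Aˣ ⧸ K') (hx : x ∈ T), (⟨x, hx⟩ : T) ^ p = 1 := by
    intro x hx
    induction hx using Subgroup.closure_induction with
    | mem y hy =>
      obtain ⟨c, _, rfl⟩ := hy
      apply Subtype.ext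
      exact hgp c
    | one => exact one_pow p
    | mul y z hy hz ihy ihz =>
      have : (⟨y * z, T.mul_mem hy hz⟩ : T) = ⟨y, hy⟩ * ⟨z, hz⟩ := rfl
      rw [this, mul_pow, ihy, ihz, one_mul]
    | inv y hy ih =>
      have : (⟨y⁻¹, T.inv_mem hy⟩ : T) = (⟨y, hy⟩ : T)⁻¹ := rfl
      rw [this, inv_pow, ih, inv_one]
  have hp0 : 0 < p := (Fact.out : p.Prime).pos
  haveI hTfin : Finite T := by
    apply CommGroup.finite_of_fg_isMulTorsion
    intro x
    exact isOfFinOrder_iff_pow_eq_one.2 ⟨p, hp0, hpow x.1 x.2⟩
  have hTcard : N < Nat.card T := by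
    let φ : S → T := fun c => ⟨g c.1, Subgroup.subset_closure ⟨c.1, c.2, rfl⟩⟩
    have hφ : Function.Injective φ := by
      intro c c' h
      apply Subtype.ext
      exact hginj (congrArg Subtype.val h)
    have := Nat.card_le_card_of_injective φ hφ
    rw [Nat.card_eq_fintype_card, Fintype.card_coe] at this
    omega
  refine ⟨T.comap (QuotientGroup.mk' K'), ?_, ?_⟩
  · intro x hx
    rw [Subgroup.mem_comap]
    have : (QuotientGroup.mk' K') x = 1 := (QuotientGroup.eq_one_iff x).2 hx
    rw [this]; exact T.one_mem
  · have hbot : K' = (⊥ : Subgroup (Aˣ ⧸ K')).comap (QuotientGroup.mk' K') := by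
      rw [MonoidHom.comap_bot, QuotientGroup.ker_mk']
    have h1 : (Subgroup.comap (QuotientGroup.mk' K') ⊥).relIndex
        (Subgroup.comap (QuotientGroup.mk' K') T) = Nat.card T := by
      rw [Subgroup.relIndex_comap,
        Subgroup.map_comap_eq_self_of_surjective (QuotientGroup.mk'_surjective K'),
        Subgroup.relIndex_bot_left]
    rw [← hbot] at h1
    rw [h1]
    exact hTcard

end Aux

/-- Let K be a field of characteristic p > 0 such that K contains all roots of unity (for every n ≥ 1
the polynomial X^n − 1 splits into linear factors over K), and A a finite-dimensional central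
division algebra over K. If A contains an element w not in K with w ^ p in K, then the quotient of
the unit group of A by that of K has unbounded finite subgroups: for every N there is a subgroup H
of the units of A containing the units of K as a subgroup of finite index greater than N. (The
published statement assumes only that some element of A is inseparable over K and passes at once to
a purely inseparable subfield of degree p; this row assumes an element generating such a subfield
directly, which is what the rest of the printed argument uses.) -/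
theorem result
    (K : Type u) [Field K] (p : ℕ) [Fact p.Prime] [CharP K p] (hK : ∀ n : ℕ, 0 < n → (X ^ n - 1 : K[X]).Splits)
    (A : Type v) [DivisionRing A] [Algebra K A] [Algebra.IsCentral K A] [FiniteDimensional K A]
    (w : A) (hw : w ^ p ∈ (algebraMap K A).range) (hwK : w ∉ (algebraMap K A).range) (N : ℕ) :
    ∃ H : Subgroup Aˣ, (Units.map (algebraMap K A : K →* A)).range ≤ H ∧
      N < ((Units.map (algebraMap K A : K →* A)).range).relIndex H := by
  exact main K p hK A w hw hwK N

end Groth.Agent.S15173
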