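import Groth.Statements.S15177
import Groth.Agent.Lib.Helper25.Comod
-- import your own Groth.Agent.* helpers here

set_option autoImplicit false
universe u v
open BddFin

namespace Groth.Agent.S15177

open TensorProduct

open Groth.Agent.Lib.Helper25.Comod

theorem counit_act {K : Type u} [Field K] {A : Type v} [CommRing A] [Bialgebra K A]
    (g : A →ₐ[K] K) (a : A) :
    Coalgebra.counit (R := K) (HopfRep.Comod.act K A A g a) = g a := by
  have h : ∀ t : A ⊗[K] A, Coalgebra.counit (R := K) (TensorProduct.rid K A (LinearMap.lTensor A g.toLinearMap t)) =
      g (TensorProduct.lid K A (LinearMap.rTensor A (Coalgebra.counit (R := K) (A := A)) t)) := by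
    intro t
    induction t using TensorProduct.induction_on with
    | zero => simp
    | tmul x y => simp [mul_comm]
    | add x y hx hy => simp only [map_add, hx, hy]
  rw [act_apply, h]
  change g (TensorProduct.lid K A (LinearMap.rTensor A Coalgebra.counit (Coalgebra.comul (R := K) a))) = _
  rw [Coalgebra.rTensor_counit_comul]
  simp

/-- Let K be a field and Γ a unipotent linear algebraic group over K, given here by its coordinate Hopf
algebra A (a finitely generated, formally smooth commutative Hopf algebra over K all of whose
non-zero finite-dimensional comodules have a non-zero fixed vector). Then the group Γ(K) of K-points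
(K-algebra maps A → K under convolution) has no non-trivial element of finite order coprime to the
characteristic of K: an element of finite order whose order is non-zero in K is the identity. -/
theorem result
    (K : Type u) [Field K] (A : Type v) [CommRing A] [HopfAlgebra K A] [Algebra.FiniteType K A]
    [Algebra.FormallySmooth K A] (hU : HopfRep.IsUnipotent K A)
    (g : WithConv (A →ₐ[K] K)) (hg : IsOfFinOrder g) (hcop : ((orderOf g : ℕ) : K) ≠ 0) : g = 1 := by
  have hpow : g ^ orderOf g = 1 := pow_orderOf_eq_one g
  -- the action of g on every f.d. comodule is trivial
  have htriv : ∀ (W : Type v) [AddCommGroup W] [Module K W] [HopfRep.Comod K A W] [Module.Finite K W],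
      HopfRep.Comod.act K A W g.ofConv = 1 := by
    intro W _ _ _ _
    have hnil := isNilpotent_act_sub_one hU g.ofConv W
    have hun : (HopfRep.Comod.act K A W g.ofConv) ^ orderOf g = 1 := by
      rw [← act_pow, hpow, act_one]; rfl
    have hss : Module.End.IsSemisimple (HopfRep.Comod.act K A W g.ofConv) := by
      apply Module.End.isSemisimple_of_squarefree_aeval_eq_zero
        (p := (Polynomial.X ^ orderOf g - 1 : Polynomial K))
      · exact (Polynomial.X_pow_sub_one_separable_iff.mpr hcop).squarefree
      · simp [hun]
    have hss' : Module.End.IsSemisimple (HopfRep.Comod.act K A W g.ofConv - 1) := by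
      have := (Module.End.isSemisimple_sub_algebraMap_iff (f := HopfRep.Comod.act K A W g.ofConv)
        (μ := (1 : K))).mpr hss
      simpa using this
    have := Module.End.eq_zero_of_isNilpotent_isSemisimple hnil hss'
    exact sub_eq_zero.mp this
  -- hence g acts trivially on the regular comodule
  have hreg : ∀ a : A, HopfRep.Comod.act K A A g.ofConv a = a := by
    intro a
    obtain ⟨W, hW, hfg, haW⟩ := exists_fg_subcomod (k := K) (C := A) (V := A) a
    let _ : HopfRep.Comod K A W := subComod W hW
    have : Module.Finite K W := Module.Finite.iff_fg.mpr hfg
    have h1 := act_comodHom g.ofConv W.subtype (isComodHom_subtype W hW) ⟨a, haW⟩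
    rw [htriv W] at h1
    exact h1
  apply WithConv.ext
  apply AlgHom.ext
  intro a
  rw [← counit_act g.ofConv a, hreg a]
  rfl

end Groth.Agent.S15177
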