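import Groth.Statements.S15183
import Mathlib

set_option autoImplicit false
universe u v
open Polynomial
open BddFin

namespace Groth.Agent.S15183

section aux
open Polynomial

theorem exists_prim (K : Type*) [Field K] (hK : ∀ n : ℕ, 0 < n → (X ^ n - 1 : K[X]).Splits)
    (d : ℕ) (hd : 0 < d) (hdK : (d : K) ≠ 0) : ∃ ζ : K, IsPrimitiveRoot ζ d := by
  classical
  have : NeZero d := ⟨hd.ne'⟩
  rw [← card_rootsOfUnity_eq_iff_exists_isPrimitiveRoot]
  have hsep : (X ^ d - 1 : K[X]).Separable := (X_pow_sub_one_separable_iff).mpr hdK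
  have hsp := hK d hd
  rw [Nat.card_congr (rootsOfUnityEquivNthRoots K d)]
  have hroots : nthRoots d (1 : K) = (X ^ d - 1 : K[X]).roots := by
    rw [nthRoots, map_one]
  have hcard : Multiset.card (nthRoots d (1 : K)) = d := by
    rw [hroots, splits_iff_card_roots.mp hsp]
    have : (X ^ d - 1 : K[X]) = X ^ d - C 1 := by simp
    rw [this, natDegree_X_pow_sub_C]
  have hnodup : (nthRoots d (1 : K)).Nodup := by
    rw [hroots]; exact nodup_roots hsep
  rw [Nat.card_congr (Equiv.subtypeEquivRight (fun x => (Multiset.mem_toFinset (s := nthRoots d (1:K)) (a := x)).symm)),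
    Nat.card_eq_fintype_card, Fintype.card_coe, Multiset.toFinset_card_of_nodup hnodup, hcard]

theorem main (K : Type*) [Field K] (hK : ∀ n : ℕ, 0 < n → (X ^ n - 1 : K[X]).Splits)
    (A : Type*) [Ring A] [Algebra K A] [Algebra.IsCentral K A] [IsSimpleRing A] [FiniteDimensional K A]
    (hA : ∃ y : A, y ≠ 0 ∧ ¬ IsUnit y) (d : ℕ) (hd : 0 < d) (hdK : (d : K) ≠ 0) :
    ∃ x : A, IsUnit x ∧ x ^ d ∈ (algebraMap K A).range ∧
      ∀ k : ℕ, 0 < k → k < d → x ^ k ∉ (algebraMap K A).range := by
  classical
  obtain ⟨ζ, hζ⟩ := exists_prim K hK d hd hdK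
  obtain ⟨y, hy0, hyu⟩ := hA
  have : IsArtinianRing A := IsArtinianRing.of_finite K A
  have : IsNoetherianRing A := IsNoetherianRing.of_finite K A
  obtain ⟨e, he, hspan⟩ := IsSemisimpleRing.ideal_eq_span_idempotent (Ideal.span {y})
  have he0 : e ≠ 0 := by
    rintro rfl
    have : y ∈ Ideal.span ({0} : Set A) := hspan ▸ Ideal.subset_span (Set.mem_singleton y)
    rw [Ideal.span_singleton_eq_bot.mpr rfl, Ideal.mem_bot] at this
    exact hy0 this
  have he1 : e ≠ 1 := by
    rintro rfl
    have : (1 : A) ∈ Ideal.span ({y} : Set A) := hspan ▸ Ideal.subset_span (Set.mem_singleton 1)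
    rw [Ideal.mem_span_singleton'] at this
    obtain ⟨a, ha⟩ := this
    exact hyu (IsUnit.of_mul_eq_one_right a ha)
  have hee : e * e = e := he
  have hinj : Function.Injective (algebraMap K A) := (algebraMap K A).injective
  -- x^k formula
  have hpow : ∀ k : ℕ, (algebraMap K A ζ * e + (1 - e)) ^ k = algebraMap K A (ζ ^ k) * e + (1 - e) := by
    intro k
    induction k with
    | zero => simp
    | succ k ih =>
      rw [pow_succ, ih, pow_succ, map_mul]
      have c1 : ∀ c : K, e * algebraMap K A c = algebraMap K A c * e := fun c => (Algebra.commutes c e).symm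
      have h1 : (algebraMap K A (ζ ^ k) * e + (1 - e)) * (algebraMap K A ζ * e + (1 - e)) =
        algebraMap K A (ζ ^ k) * (e * algebraMap K A ζ) * e + algebraMap K A (ζ ^ k) * (e - e * e)
          + ((algebraMap K A ζ * e - e * algebraMap K A ζ * e) + (1 - e - e + e * e)) := by noncomm_ring
      rw [h1, c1, hee]
      have h2 : algebraMap K A (ζ ^ k) * (algebraMap K A ζ * e) * e = algebraMap K A (ζ ^ k) * algebraMap K A ζ * (e * e) := by noncomm_ring
      have h3 : algebraMap K A ζ * e * e = algebraMap K A ζ * (e * e) := by noncomm_ring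
      rw [h2, h3, hee]
      noncomm_ring
  refine ⟨algebraMap K A ζ * e + (1 - e), ?_, ?_, ?_⟩
  · have hz : ζ ≠ 0 := hζ.ne_zero hd.ne'
    refine IsUnit.of_mul_eq_one (algebraMap K A ζ⁻¹ * e + (1 - e)) ?_
    have c1 : ∀ c : K, e * algebraMap K A c = algebraMap K A c * e := fun c => (Algebra.commutes c e).symm
    have h1 : (algebraMap K A ζ * e + (1 - e)) * (algebraMap K A ζ⁻¹ * e + (1 - e)) =
        algebraMap K A ζ * (e * algebraMap K A ζ⁻¹) * e + algebraMap K A ζ * (e - e * e)
          + ((algebraMap K A ζ⁻¹ * e - e * algebraMap K A ζ⁻¹ * e) + (1 - e - e + e * e)) := by noncomm_ring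
    rw [h1, c1, hee]
    have h2 : algebraMap K A ζ * (algebraMap K A ζ⁻¹ * e) * e = (algebraMap K A ζ * algebraMap K A ζ⁻¹) * (e * e) := by noncomm_ring
    have h3 : algebraMap K A ζ⁻¹ * e * e = algebraMap K A ζ⁻¹ * (e * e) := by noncomm_ring
    rw [h2, h3, hee, ← map_mul, mul_inv_cancel₀ hz, map_one]
    noncomm_ring
  · rw [hpow, hζ.pow_eq_one, map_one, one_mul]
    exact ⟨1, by simp⟩
  · intro k hk0 hkd ⟨c, hc⟩
    rw [hpow] at hc
    -- multiply by e on the right
    have h1 : algebraMap K A c * e = algebraMap K A (ζ ^ k) * e := by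
      rw [hc]
      have : (algebraMap K A (ζ ^ k) * e + (1 - e)) * e = algebraMap K A (ζ ^ k) * (e * e) + (e - e * e) := by noncomm_ring
      rw [this, hee]; noncomm_ring
    have h2 : algebraMap K A c * (1 - e) = (1 - e) := by
      rw [hc]
      have : (algebraMap K A (ζ ^ k) * e + (1 - e)) * (1 - e) = algebraMap K A (ζ ^ k) * (e - e * e) + (1 - e - e + e * e) := by noncomm_ring
      rw [this, hee]; noncomm_ring
    have hc1 : c = 1 := by
      by_contra hne
      have h3 : algebraMap K A (c - 1) * (1 - e) = 0 := by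
        rw [map_sub, map_one, sub_mul, h2, one_mul, sub_self]
      have hu : IsUnit (algebraMap K A (c - 1)) := (IsUnit.mk0 _ (sub_ne_zero.mpr hne)).map _
      have := hu.mul_right_eq_zero.mp h3
      exact he1 (sub_eq_zero.mp this).symm
    have hc2 : c = ζ ^ k := by
      by_contra hne
      have h3 : algebraMap K A (c - ζ ^ k) * e = 0 := by
        rw [map_sub, sub_mul, h1, sub_self]
      have hu : IsUnit (algebraMap K A (c - ζ ^ k)) := (IsUnit.mk0 _ (sub_ne_zero.mpr hne)).map _
      exact he0 (hu.mul_right_eq_zero.mp h3)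
    have : ζ ^ k = 1 := hc2 ▸ hc1
    exact hζ.pow_ne_one_of_pos_of_lt hk0.ne' hkd this

end aux

/-- Let K be a field such that K contains all roots of unity (for every n ≥ 1 the polynomial X^n − 1
splits into linear factors over K), and A a finite-dimensional central simple K-algebra which is not
a division algebra (some non-zero element is not a unit). Then the quotient of the unit group of A
by that of K has elements of every finite order invertible in K: for every d ≥ 1 with d ≠ 0 in K
there is a unit x of A with x ^ d in K and x ^ k not in K for 0 < k < d. (The published assertion is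
phrased for the automorphism group of the Severi–Brauer variety of A, which is isomorphic to the
units of A modulo those of K; this row is the algebra-side statement its proof establishes.) -/
theorem result
    (K : Type u) [Field K] (hK : ∀ n : ℕ, 0 < n → (X ^ n - 1 : K[X]).Splits)
    (A : Type v) [Ring A] [Algebra K A] [Algebra.IsCentral K A] [IsSimpleRing A] [FiniteDimensional K A]
    (hA : ∃ y : A, y ≠ 0 ∧ ¬ IsUnit y) (d : ℕ) (hd : 0 < d) (hdK : (d : K) ≠ 0) :
    ∃ x : A, IsUnit x ∧ x ^ d ∈ (algebraMap K A).range ∧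
      ∀ k : ℕ, 0 < k → k < d → x ^ k ∉ (algebraMap K A).range := by
  exact main K hK A hA d hd hdK

end Groth.Agent.S15183
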