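import Groth.Statements.S15184
import Groth.Agent.Lib.Helper13.Wedderburn3
import Groth.Agent.S15171
import Mathlib.FieldTheory.SplittingField.IsSplittingField
import Mathlib.FieldTheory.Galois.Basic
-- import your own Groth.Agent.* helpers here

set_option autoImplicit false
universe u v
open BddFin

namespace Groth.Agent.S15184

open Polynomial Groth.Agent.Lib.Helper13.DivDim Groth.Agent.Lib.Helper13.Wedderburn3 in
open scoped IsMulCommutative in
/-- The Galois case: a conjugate `x₂ ≠ x` of a separable `x` commuting with `x`. -/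
theorem galois_case (K : Type u) [Field K] [Fact (Nat.Prime 3)] [CharP K 3]
    (A : Type v) [DivisionRing A] [Algebra K A] [Algebra.IsCentral K A] [FiniteDimensional K A]
    (hA : Module.finrank K A = 3 ^ 2) {x x₂ c : A} (hx : x ∉ (algebraMap K A).range)
    (hsep : IsSeparable K x) (hc0 : c ≠ 0) (hcx : c * x = x₂ * c) (hne : x₂ ≠ x)
    (hcomm : x * x₂ = x₂ * x) : ∃ v : A, ¬ IsSeparable K v := by
  classical
  have hp : (3 : ℕ).Prime := Nat.prime_three
  let L : Subalgebra K A := Algebra.adjoin K {x}
  have hxL : x ∈ L := Algebra.subset_adjoin (Set.mem_singleton x)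
  have hx2L : x₂ ∈ L := by
    change x₂ ∈ Algebra.adjoin K {x}
    rw [← centralizer_singleton_eq hp hA hx, Subalgebra.mem_centralizer_iff]
    intro g hg
    rw [Set.mem_singleton_iff] at hg
    subst hg
    exact hcomm
  let _ : Field L := fieldOfFiniteDimensional K L
  let x' : L := ⟨x, hxL⟩
  let x₂' : L := ⟨x₂, hx2L⟩
  have hfr : Module.finrank K L = 3 := finrank_adjoin_singleton hp hA hx
  set m : K[X] := minpoly K x' with hm
  have hint : IsIntegral K x' := Algebra.IsIntegral.isIntegral x'
  have hm0 : m ≠ 0 := minpoly.ne_zero hint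
  have hmdeg : m.natDegree ≤ 3 := hfr ▸ minpoly.natDegree_le x'
  have hmx : m = minpoly K x := (minpoly.algHom_eq L.val Subtype.val_injective x').symm
  have hmsep : m.Separable := hmx ▸ hsep
  have hroot1 : aeval x' m = 0 := minpoly.aeval K x'
  have hrootA : aeval x m = 0 := by rw [hmx]; exact minpoly.aeval K x
  have hroot2A : aeval x₂ m = 0 := by
    have h := semiconj_aeval (K := K) c x x₂ hcx m
    rw [hrootA, mul_zero] at h
    exact (mul_eq_zero.mp h.symm).resolve_right hc0
  have hroot2 : aeval x₂' m = 0 := by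
    apply Subtype.val_injective
    have h1 : aeval (L.val x₂') m = L.val (aeval x₂' m) := aeval_algHom_apply L.val x₂' m
    have h3 : L.val x₂' = x₂ := rfl
    rw [h3, hroot2A] at h1
    simpa using h1.symm
  have hne' : x₂' ≠ x' := fun h => hne (congrArg Subtype.val h)
  set mL : L[X] := m.map (algebraMap K L) with hmL
  have hmL0 : mL ≠ 0 := (Polynomial.map_ne_zero_iff (algebraMap K L).injective).mpr hm0
  have hmLdeg : mL.natDegree = m.natDegree := natDegree_map _
  have hr1 : mL.IsRoot x' := by rw [IsRoot.def, hmL, eval_map_algebraMap]; exact hroot1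
  have hr2 : mL.IsRoot x₂' := by rw [IsRoot.def, hmL, eval_map_algebraMap]; exact hroot2
  obtain ⟨q₁, hq₁⟩ := dvd_iff_isRoot.mpr hr1
  have hr2' : q₁.IsRoot x₂' := by
    rw [IsRoot.def] at hr2 ⊢
    rw [hq₁, eval_mul, eval_sub, eval_X, eval_C] at hr2
    exact (mul_eq_zero.mp hr2).resolve_left (sub_ne_zero.mpr hne')
  obtain ⟨q₂, hq₂⟩ := dvd_iff_isRoot.mpr hr2'
  have hq20 : q₂ ≠ 0 := by
    rintro rfl
    rw [hq₂, mul_zero, mul_zero] at hq₁
    exact hmL0 hq₁
  have hq2deg : q₂.natDegree ≤ 1 := by
    have h1 : mL.natDegree = 1 + (1 + q₂.natDegree) := by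
      rw [hq₁, hq₂, natDegree_mul (X_sub_C_ne_zero _) (mul_ne_zero (X_sub_C_ne_zero _) hq20),
        natDegree_mul (X_sub_C_ne_zero _) hq20, natDegree_X_sub_C, natDegree_X_sub_C]
    omega
  have hsplits : mL.Splits := by
    rw [hq₁, hq₂]
    exact (Splits.X_sub_C _).mul ((Splits.X_sub_C _).mul (Splits.of_natDegree_le_one hq2deg))
  have : m.IsSplittingField K L := by
    refine ⟨hsplits, ?_⟩
    have htop : Algebra.adjoin K ({x'} : Set L) = ⊤ := by
      have := Algebra.adjoin_adjoin_coe_preimage (R := K) (s := ({x} : Set A))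
      convert this using 2
      ext z
      simp [x', Subtype.ext_iff]
    rw [eq_top_iff, ← htop]
    apply Algebra.adjoin_mono
    intro z hz
    rw [Set.mem_singleton_iff] at hz
    subst hz
    rw [mem_rootSet]
    exact ⟨hm0, minpoly.aeval K x'⟩
  have : IsGalois K L := IsGalois.of_separable_splitting_field hmsep
  exact Groth.Agent.S15171.result K 3 A hA L hfr L.val

/-- Let K be a field with char K = p > 0 and A a central division K-algebra with dim_K A = p ^ 2. If p =
2 or p = 3, then some element of A is not separable over K. -/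
theorem result
    (K : Type u) [Field K] (p : ℕ) [Fact p.Prime] [CharP K p]
    (A : Type v) [DivisionRing A] [Algebra K A] [Algebra.IsCentral K A] [FiniteDimensional K A]
    (hA : Module.finrank K A = p ^ 2) (hp : p = 2 ∨ p = 3) :
    ∃ v : A, ¬ IsSeparable K v := by
  have hprime : p.Prime := Fact.out
  rcases hp with rfl | rfl
  · exact Groth.Agent.Lib.Helper13.Wedderburn3.exists_inseparable_two hA
  · have : ExpChar K 3 := ExpChar.prime hprime
    obtain ⟨x, hx⟩ := Groth.Agent.Lib.Helper13.Wedderburn3.exists_not_mem_range (K := K) (A := A)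
      (by rw [hA]; norm_num)
    by_cases hsep : IsSeparable K x
    · obtain ⟨y, hy⟩ := Groth.Agent.Lib.Helper13.Wedderburn3.exists_commutator_not_commute hA hx
      have hc0 : x * y - y * x ≠ 0 := by
        intro h
        rw [h] at hy
        simp at hy
      by_cases hw : x * ((x * y - y * x) * x * (x * y - y * x)⁻¹) =
          ((x * y - y * x) * x * (x * y - y * x)⁻¹) * x
      · refine galois_case K A hA hx hsep hc0 (x₂ := (x * y - y * x) * x * (x * y - y * x)⁻¹)
          ?_ ?_ hw
        · rw [mul_assoc ((x * y - y * x) * x), inv_mul_cancel₀ hc0, mul_one]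
        · intro h
          apply hy
          have : (x * y - y * x) * x * (x * y - y * x)⁻¹ * (x * y - y * x) = x * (x * y - y * x) := by
            rw [h]
          rw [mul_assoc ((x * y - y * x) * x), inv_mul_cancel₀ hc0, mul_one] at this
          exact this
      · obtain ⟨w, hwK, hw3⟩ := Groth.Agent.Lib.Helper13.Wedderburn3.wedderburn_core hA hx hc0 hw
        exact ⟨w, Groth.Agent.Lib.Helper13.DivDim.not_isSeparable_of_pow_mem (p := 3) hwK hw3⟩
    · exact ⟨x, hsep⟩

end Groth.Agent.S15184
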