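import Groth.Statements.S15185
import Groth.Agent.S15168
import Mathlib

set_option autoImplicit false
universe u v
open Polynomial
open BddFin

namespace Groth.Agent.S15185

open TensorProduct in
lemma redNorm_algebraMap (K : Type u) [Field K] (A : Type v) [Ring A] [Algebra K A]
    [FiniteDimensional K A] (n : ℕ) (hA : Module.finrank K A = n ^ 2)
    (N : A →* K) (hN : CSAGal.IsRedNorm K A N) (c : K) : N (algebraMap K A c) = c ^ n := by
  obtain ⟨K', _, _, _, n₁, φ, hφ⟩ := hN
  have hdim : n₁ = n := by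
    have h1 : Module.finrank K' (K' ⊗[K] A) = Module.finrank K A := Module.finrank_baseChange
    have h2 : Module.finrank K' (K' ⊗[K] A) = n₁ * n₁ := by
      rw [φ.toLinearEquiv.finrank_eq, Module.finrank_matrix]; simp
    rw [h1, hA, ← pow_two] at h2
    exact (Nat.pow_left_injective (by norm_num : 2 ≠ 0) h2).symm
  apply (algebraMap K K').injective
  rw [hφ, map_pow]
  have h1 : ((1 : K') ⊗ₜ[K] (algebraMap K A c)) = algebraMap K K' c • (1 : K' ⊗[K] A) := by
    rw [Algebra.algebraMap_eq_smul_one, TensorProduct.tmul_smul, algebraMap_smul]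
    rfl
  rw [h1, map_smul, map_one, Matrix.det_smul, Matrix.det_one, mul_one, Fintype.card_fin, hdim]


/-- Let K be a field of characteristic p > 0 such that K contains all roots of unity (for every n ≥ 1
the polynomial X^n − 1 splits into linear factors over K), A a central division algebra of dimension
n ^ 2 over K, and write n = n' · p ^ m with n' prime to p; let N be the reduced norm of A. Consider
the kernel of the homomorphism from the units of A modulo those of K to Kˣ/(Kˣ)^(p^m) induced by N.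
Every element of finite order of that kernel has order dividing n': if x ≠ 0 in A has x ^ r in K for
some r ≥ 1 and N x is a (p ^ m)-th power of a non-zero element of K, then x ^ n' lies in K. -/
theorem result
    (K : Type u) [Field K] (p : ℕ) [Fact p.Prime] [CharP K p] (hK : ∀ n : ℕ, 0 < n → (X ^ n - 1 : K[X]).Splits)
    (A : Type v) [DivisionRing A] [Algebra K A] [Algebra.IsCentral K A] [FiniteDimensional K A]
    (n n' m : ℕ) (hA : Module.finrank K A = n ^ 2) (hn : n = n' * p ^ m) (hn' : ¬ p ∣ n')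
    (N : A →* K) (hN : CSAGal.IsRedNorm K A N)
    (x : A) (hx : x ≠ 0) (hxr : ∃ r : ℕ, 0 < r ∧ x ^ r ∈ (algebraMap K A).range)
    (hNx : ∃ b : K, b ≠ 0 ∧ N x = b ^ (p ^ m)) :
    x ^ n' ∈ (algebraMap K A).range := by
  obtain ⟨b, hb0, hNx⟩ := hNx
  have hp : p.Prime := Fact.out
  obtain ⟨c, hc⟩ := Groth.Agent.S15168.result K hK A n hA x hxr
  have hNc := redNorm_algebraMap K A n hA N hN c
  have hc0 : c ≠ 0 := by
    rintro rfl
    rw [map_zero] at hc
    exact pow_ne_zero n hx hc.symm
  have hbp : b ^ p ^ m ≠ 0 := pow_ne_zero _ hb0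
  -- (b^{p^m})^n = c^n
  have h1 : (b ^ p ^ m) ^ n = c ^ n := by
    rw [← hNx, ← map_pow, ← hc, hNc]
  have h2 : ((b ^ p ^ m) ^ n') ^ p ^ m = (c ^ n') ^ p ^ m := by
    rw [← pow_mul (b ^ p ^ m), ← pow_mul c, ← hn]
    exact h1
  have h3 : (b ^ p ^ m) ^ n' = c ^ n' := by
    have := iterateFrobenius_inj K p m
    apply this
    rw [iterateFrobenius_def, iterateFrobenius_def]
    exact h2
  obtain ⟨ζ, hζdef⟩ : ∃ ζ : K, ζ = c * (b ^ p ^ m)⁻¹ := ⟨_, rfl⟩
  have hζ : ζ ^ n' = 1 := by
    rw [hζdef, mul_pow, inv_pow, h3, mul_inv_cancel₀ (pow_ne_zero _ hc0)]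
  have hord : orderOf ζ ∣ n' := orderOf_dvd_of_pow_eq_one hζ
  have hcop : (p ^ m).Coprime (orderOf ζ) := by
    apply Nat.Coprime.pow_left
    apply Nat.Coprime.coprime_dvd_right hord
    exact (Nat.Prime.coprime_iff_not_dvd hp).mpr hn'
  obtain ⟨u, hu⟩ := exists_pow_eq_self_of_coprime hcop
  have hξ : (ζ ^ u * b) ^ p ^ m = c := by
    rw [mul_pow, ← pow_mul, mul_comm u, pow_mul, hu, hζdef, mul_assoc, inv_mul_cancel₀ hbp, mul_one]
  haveI : CharP A p := charP_of_injective_algebraMap (algebraMap K A).injective p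
  have h4 : (x ^ n' - algebraMap K A (ζ ^ u * b)) ^ p ^ m = 0 := by
    rw [sub_pow_char_pow_of_commute _ _ (Algebra.commutes _ _).symm, ← pow_mul, ← hn, ← hc, ← map_pow, hξ,
      sub_self]
  refine ⟨ζ ^ u * b, ?_⟩
  have := pow_eq_zero_iff (pow_ne_zero m hp.ne_zero) |>.mp h4
  exact (sub_eq_zero.mp this).symm

end Groth.Agent.S15185
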