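import Groth.Statements.S1519
import Groth.Agent.Lib.Helper8.CurveDeg1

set_option autoImplicit false
universe u
open CategoryTheory CategoryTheory.Limits AlgebraicGeometry
open Variety

namespace Groth.Agent.S1519

/-- On a proper curve over a field, if an invertible module has a nonzero global section which vanishes
at some point (the section does not generate the module near that point), then the degree is
positive. -/
theorem result (k : Type u) [Field k] (X : Scheme.{u}) [X.Over (Spec (CommRingCat.of k))]
    [IsIntegral X] [IsProper (X ↘ (Spec (CommRingCat.of k)))] (hdim : topologicalKrullDim X = 1)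
    (L : X.Modules) (hL : PicF.IsInvertible L) (s : Coh.structureModule X ⟶ L) (hs : s ≠ 0)
    (x : X) (hx : x ∉ CohB1.genLocus L s) :
    0 < Curv2.deg k X L 1 := by
  obtain ⟨h1, h2⟩ := Groth.Agent.Lib.Helper8.CurveDeg.deg_le k X hdim.le (Coh.structureModule X) L
    (Groth.Agent.Lib.Helper8.CurveDeg.isInvertible_structureModule X) hL s hs
  rw [Groth.Agent.Lib.Helper8.CurveDeg.deg_structureModule k X] at h1 h2
  rcases h1.lt_or_eq with h | h
  · exact h
  · exfalso
    haveI : IsIso s := h2 h
    apply hx
    have hmem : (⊤ : X.Opens) ∈
        {U : X.Opens | IsIso ((Scheme.Modules.restrictFunctor U.ι).map s)} := by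
      change IsIso ((Scheme.Modules.restrictFunctor (⊤ : X.Opens).ι).map s)
      infer_instance
    exact (le_sSup hmem : (⊤ : X.Opens) ≤ CohB1.genLocus L s) (show x ∈ (⊤ : X.Opens) from trivial)

end Groth.Agent.S1519
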