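import Groth.Statements.S1520
import Groth.Agent.Lib.Helper8.CurveDeg1

set_option autoImplicit false
universe u
open CategoryTheory CategoryTheory.Limits AlgebraicGeometry
open Variety

namespace Groth.Agent.S1520

/-- On a proper curve over a field, an invertible module of degree at most zero which has a nonzero
global section is isomorphic to the structure sheaf. -/
theorem result (k : Type u) [Field k] (X : Scheme.{u}) [X.Over (Spec (CommRingCat.of k))]
    [IsIntegral X] [IsProper (X ↘ (Spec (CommRingCat.of k)))] (hdim : topologicalKrullDim X = 1)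
    (L : X.Modules) (hL : PicF.IsInvertible L) (s : Coh.structureModule X ⟶ L) (hs : s ≠ 0)
    (hdeg : Curv2.deg k X L 1 ≤ 0) :
    Nonempty (L ≅ Coh.structureModule X) := by
  obtain ⟨h1, h2⟩ := Groth.Agent.Lib.Helper8.CurveDeg.deg_le k X hdim.le (Coh.structureModule X) L
    (Groth.Agent.Lib.Helper8.CurveDeg.isInvertible_structureModule X) hL s hs
  rw [Groth.Agent.Lib.Helper8.CurveDeg.deg_structureModule k X] at h1 h2
  haveI : IsIso s := h2 (le_antisymm h1 hdeg)
  exact ⟨(asIso s).symm⟩

end Groth.Agent.S1520
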