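import Groth.Statements.S15224
import Mathlib.Data.Nat.Choose.Sum
import Mathlib.Algebra.BigOperators.Intervals
import Mathlib.Tactic
-- import your own Groth.Agent.* helpers here

set_option autoImplicit false
open Finset
open W4c2rk2extmaps

namespace Groth.Agent.S15224

theorem rat_identity (k : ℕ) (hk : 2 ≤ k) :
    (∑ i ∈ Finset.Ico 1 k, (-1 : ℚ) ^ (i - 1) * ((Nat.factorial i : ℚ)⁻¹ * (Nat.factorial (k - i) : ℚ)⁻¹))
      + (-1 : ℚ) ^ (k - 1) * (Nat.factorial k : ℚ)⁻¹ = (Nat.factorial k : ℚ)⁻¹ := by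
  have hk0 : k ≠ 0 := by omega
  have hfac : (Nat.factorial k : ℚ) ≠ 0 := by exact_mod_cast Nat.factorial_ne_zero k
  have h0 : (∑ i ∈ Finset.range (k + 1), ((-1 : ℚ) ^ i * (k.choose i : ℚ))) = 0 := by
    have := Int.alternating_sum_range_choose_of_ne hk0
    have h2 := congrArg (fun z : ℤ => (z : ℚ)) this
    simpa using h2
  rw [Finset.sum_range_succ, Finset.sum_range_eq_add_Ico _ (by omega : 0 < k)] at h0
  simp only [pow_zero, Nat.choose_zero_right, Nat.cast_one, mul_one, Nat.choose_self] at h0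
  have hterm : ∀ i ∈ Finset.Ico 1 k, (-1 : ℚ) ^ (i - 1) *
      ((Nat.factorial i : ℚ)⁻¹ * (Nat.factorial (k - i) : ℚ)⁻¹) =
      -((-1 : ℚ) ^ i * (k.choose i : ℚ)) * (Nat.factorial k : ℚ)⁻¹ := by
    intro i hi
    rw [Finset.mem_Ico] at hi
    have hik : i ≤ k := by omega
    have h1 : ((k.choose i : ℚ)) * (Nat.factorial i : ℚ) * (Nat.factorial (k - i) : ℚ) =
        (Nat.factorial k : ℚ) := by exact_mod_cast Nat.choose_mul_factorial_mul_factorial hik
    have hi0 : (Nat.factorial i : ℚ) ≠ 0 := by exact_mod_cast Nat.factorial_ne_zero i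
    have hki0 : (Nat.factorial (k - i) : ℚ) ≠ 0 := by exact_mod_cast Nat.factorial_ne_zero (k - i)
    have hpow : (-1 : ℚ) ^ i = -(-1 : ℚ) ^ (i - 1) := by
      obtain ⟨j, rfl⟩ : ∃ j, i = j + 1 := ⟨i - 1, by omega⟩
      simp [pow_succ]
    have hc0 : (k.choose i : ℚ) ≠ 0 := by exact_mod_cast (Nat.choose_pos hik).ne'
    rw [hpow, ← h1]
    field_simp
  rw [Finset.sum_congr rfl hterm, ← Finset.sum_mul, Finset.sum_neg_distrib]
  have hpk : (-1 : ℚ) ^ k = -(-1 : ℚ) ^ (k - 1) := by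
    obtain ⟨j, rfl⟩ : ∃ j, k = j + 1 := ⟨k - 1, by omega⟩
    simp [pow_succ]
  have h3 : (∑ i ∈ Finset.Ico 1 k, (-1 : ℚ) ^ i * (k.choose i : ℚ)) = -1 + (-1 : ℚ) ^ (k - 1) := by
    rw [hpk] at h0
    linarith
  rw [h3]
  ring

/-- In a commutative ℚ-algebra R let y be an element and put c_k = y^k / k! for every k. Then for k ≥ 2,
Σ_{i=1}^{k-1} (-1)^(i-1) c_i c_(k-i) + (-1)^(k-1) c_k = c_k. (The published statement concerns the
Chern classes of a specific vector bundle on a Jacobian, which are of the form c_k = (4θ)^k / k!;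
the printed argument establishes the identity for every sequence of this form in a commutative
ℚ-algebra, which is the form stated here.) -/
theorem result (R : Type*) [CommRing R] [Algebra ℚ R] (y : R)
    (c : ℕ → R) (hc : ∀ k : ℕ, c k = ((Nat.factorial k : ℚ)⁻¹) • y ^ k)
    (k : ℕ) (hk : 2 ≤ k) :
    (∑ i ∈ Finset.Ico 1 k, (-1 : R) ^ (i - 1) * c i * c (k - i)) + (-1 : R) ^ (k - 1) * c k = c k := by
  have hk' := rat_identity k hk
  have h := congrArg (fun q : ℚ => algebraMap ℚ R q * y ^ k) hk'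
  simp only [map_add, map_mul, map_sum, map_pow, map_neg, map_one, add_mul, Finset.sum_mul] at h
  have hck : ∀ j, c j = algebraMap ℚ R ((Nat.factorial j : ℚ)⁻¹) * y ^ j := fun j => by
    rw [hc, Algebra.smul_def]
  calc (∑ i ∈ Finset.Ico 1 k, (-1 : R) ^ (i - 1) * c i * c (k - i)) + (-1 : R) ^ (k - 1) * c k
      = ∑ i ∈ Finset.Ico 1 k, (-1 : R) ^ (i - 1) * (algebraMap ℚ R ((Nat.factorial i : ℚ)⁻¹) *
          algebraMap ℚ R ((Nat.factorial (k - i) : ℚ)⁻¹)) * y ^ k +
        (-1 : R) ^ (k - 1) * algebraMap ℚ R ((Nat.factorial k : ℚ)⁻¹) * y ^ k := by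
        congr 1
        · refine Finset.sum_congr rfl fun i hi => ?_
          rw [Finset.mem_Ico] at hi
          rw [hck i, hck (k - i)]
          have : y ^ k = y ^ i * y ^ (k - i) := by rw [← pow_add]; congr 1; omega
          rw [this]
          ring
        · rw [hck k]; ring
    _ = algebraMap ℚ R ((Nat.factorial k : ℚ)⁻¹) * y ^ k := h
    _ = c k := (hck k).symm

end Groth.Agent.S15224
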