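import Groth.Statements.S15231
import Groth.Agent.Lib.Helper16.KPR5
-- import your own Groth.Agent.* helpers here

set_option autoImplicit false
universe u
open CategoryTheory CategoryTheory.Limits
attribute [local instance] HasDerivedCategory.standard
open DRing

namespace Groth.Agent.S15231

open Groth.Agent.Lib.Helper16.KPR Groth.Agent.Lib.Helper16.TorAmp DerivedCategory

/-- the residue field as an `R`-module is `R ⧸ m`. -/
noncomputable def asModResidueIso (R : Type u) [CommRing R] [IsLocalRing R] :
    asMod (IsLocalRing.residue R) ≅ ModuleCat.of R (R ⧸ IsLocalRing.maximalIdeal R) :=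
  LinearEquiv.toModuleIso
    { toFun := fun x => x
      invFun := fun x => x
      left_inv := fun _ => rfl
      right_inv := fun _ => rfl
      map_add' := fun _ _ => rfl
      map_smul' := fun r x => by
        induction x using Quotient.inductionOn' with
        | h y => rfl }

lemma key (R : Type u) [CommRing R] [IsLocalRing R] (Pr : DRing.Cx R) (hfl : DRing.TermwiseFlat Pr)
    (i : ℤ) (hκ : ((tensCx (asMod (IsLocalRing.residue R))).obj Pr).ExactAt i)
    (N : Type u) [AddCommGroup N] [Module R N] (hN : IsFiniteLength R N) :
    ((tensCx (ModuleCat.of R N)).obj Pr).ExactAt i := by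
  induction hN with
  | of_subsingleton => exact exactAt_tensCx_of_subsingleton _ Pr i
  | @of_simple_quotient M _ _ N' hs _ ih =>
    let T : ShortComplex (ModuleCat.{u} R) :=
      ShortComplex.mk (ModuleCat.ofHom N'.subtype) (ModuleCat.ofHom N'.mkQ) (by
        ext x
        exact (Submodule.Quotient.mk_eq_zero _).2 x.2)
    have hT : T.ShortExact := by
      have h1 : Mono T.f := (ModuleCat.mono_iff_injective _).2 (Submodule.injective_subtype _)
      have h2 : Epi T.g := (ModuleCat.epi_iff_surjective _).2 (Submodule.mkQ_surjective _)
      refine ShortComplex.ShortExact.mk' ?_ h1 h2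
      rw [ShortComplex.moduleCat_exact_iff_range_eq_ker]
      change LinearMap.range N'.subtype = LinearMap.ker N'.mkQ
      rw [Submodule.range_subtype, Submodule.ker_mkQ]
    refine exactAt_tensCx_middle T hT Pr hfl i ih ?_
    obtain ⟨I, hI, ⟨e⟩⟩ := isSimpleModule_iff_quot_maximal.1 hs
    have hIm : I = IsLocalRing.maximalIdeal R := IsLocalRing.eq_maximalIdeal hI
    subst hIm
    exact (exactAt_tensCx_of_iso (e.toModuleIso ≪≫ (asModResidueIso R).symm) Pr i).2 hκ



/-- Let R be a Noetherian local commutative ring with residue field κ, let P be any object of D(R) and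
a, b integers. Suppose that H^i(P ⊗^L_R κ) = 0 for every i outside [a, b] (over the field κ this
says exactly that P ⊗^L_R κ has tor amplitude in [a, b] as an object of D(κ)). Then for every
R-module N of finite length, H^i(P ⊗^L_R N) = 0 for every i outside [a, b]. The derived base change
to κ and the derived tensor products with R-modules are the total left derived functors on D(R),
assumed to exist for every R-module (as they do). -/
theorem result (R : Type u) [CommRing R] [IsNoetherianRing R]
    [IsLocalRing R] [DRing.HasLBaseChange (IsLocalRing.residue R)] [∀ M : ModuleCat.{u} R, DRing.HasLTensor R M]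
    (P : Dual.D R) (a b : ℤ)
    (h : ∀ i : ℤ, (i < a ∨ b < i) →
      Subsingleton (Dual.HD (IsLocalRing.ResidueField R) ((DRing.LBaseChange (IsLocalRing.residue R)).obj P) i))
    (N : Type u) [AddCommGroup N] [Module R N] (hN : IsFiniteLength R N) (i : ℤ) (hi : i < a ∨ b < i) :
    Subsingleton (Dual.HD R ((DRing.LTensor R (ModuleCat.of R N)).obj P) i) := by
  obtain ⟨Pr, hKP, hproj, ⟨e⟩⟩ := exists_kprojective_module P
  haveI := hKP
  rw [subsingleton_HD_LTensor_iff (ModuleCat.of R N) Pr e i]
  have hκ : ((tensCx (asMod (IsLocalRing.residue R))).obj Pr).ExactAt i :=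
    (subsingleton_HD_LBaseChange_iff _ Pr e i).1 (h i hi)
  exact key R Pr (Groth.Agent.Lib.Helper16.KPR.termwiseFlat_of_projective Pr hproj) i hκ N hN

end Groth.Agent.S15231
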