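import Groth.Statements.S15235
-- import your own Groth.Agent.* helpers here

set_option autoImplicit false
universe u
open CategoryTheory Opposite
open HomAlg3

namespace Groth.Agent.S15235

/-- transition map -/
def T (G : ℕᵒᵖ ⥤ AddCommGrpCat.{u}) {m n : ℕ} (h : n ≤ m) : G.obj (op m) → G.obj (op n) :=
  fun x => (G.map (homOfLE h).op).hom x

theorem T_refl (G : ℕᵒᵖ ⥤ AddCommGrpCat.{u}) (n : ℕ) (x : G.obj (op n)) : T G (le_refl n) x = x := by
  have : (homOfLE (le_refl n)).op = 𝟙 (op n) := Subsingleton.elim _ _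
  simp [T, this]

theorem T_trans (G : ℕᵒᵖ ⥤ AddCommGrpCat.{u}) {k m n : ℕ} (h₁ : n ≤ m) (h₂ : m ≤ k)
    (x : G.obj (op k)) : T G h₁ (T G h₂ x) = T G (h₁.trans h₂) x := by
  have : (homOfLE (h₁.trans h₂)).op = (homOfLE h₂).op ≫ (homOfLE h₁).op := Subsingleton.elim _ _
  simp [T, this]

theorem map_eq_T (G : ℕᵒᵖ ⥤ AddCommGrpCat.{u}) {m n : ℕ} (h : n ≤ m) (g : op m ⟶ op n)
    (z : G.obj (op m)) : (G ⋙ forget AddCommGrpCat.{u}).map g z = T G h z := by
  have : g = (homOfLE h).op := Subsingleton.elim _ _
  subst this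
  rfl

theorem T_surj (G : ℕᵒᵖ ⥤ AddCommGrpCat.{u}) (j₀ : ℕ)
    (hs : ∀ j : ℕ, j₀ ≤ j → Function.Surjective (G.map (homOfLE (Nat.le_succ j)).op).hom)
    {n m : ℕ} (hn : j₀ ≤ n) (h : n ≤ m) : Function.Surjective (T G h) := by
  induction m, h using Nat.le_induction with
  | base => intro x; exact ⟨x, T_refl G n x⟩
  | succ m hnm ih =>
    intro x
    obtain ⟨y, rfl⟩ := ih x
    obtain ⟨z, rfl⟩ := hs m (hn.trans hnm) y
    exact ⟨z, (T_trans G hnm (Nat.le_succ m) z).symm⟩

theorem T_inj (G : ℕᵒᵖ ⥤ AddCommGrpCat.{u}) (j₀ : ℕ)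
    (hi : ∀ j : ℕ, j₀ ≤ j → Function.Injective (G.map (homOfLE (Nat.le_succ j)).op).hom)
    {n m : ℕ} (hn : j₀ ≤ n) (h : n ≤ m) : Function.Injective (T G h) := by
  induction m, h using Nat.le_induction with
  | base => intro x y hxy; rwa [T_refl, T_refl] at hxy
  | succ m hnm ih =>
    intro x y hxy
    rw [← T_trans G hnm (Nat.le_succ m), ← T_trans G hnm (Nat.le_succ m)] at hxy
    exact hi m (hn.trans hnm) (ih hxy)

/-- Let (G_j) be an inverse system of abelian groups indexed by the natural numbers, with transition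
maps G_{j+1} → G_j, and let j₀ be a natural number such that the transition map G_{j+1} → G_j is
surjective for every j ≥ j₀. Then: (a) the system satisfies the Mittag-Leffler condition; (b) the
evaluation map from the inverse limit (realised as the set of compatible families) to G_{j₀} is
surjective; (c) if in addition the transition maps G_{j+1} → G_j are injective for every j ≥ j₀,
that evaluation map is bijective. (The published statement indexes the system by the negative
integers and assumes j₀ ≥ 1; this row indexes it by the natural numbers and allows j₀ = 0, which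
changes nothing.) -/
theorem result (G : ℕᵒᵖ ⥤ AddCommGrpCat.{u})
    (j₀ : ℕ) (hs : ∀ j : ℕ, j₀ ≤ j → Function.Surjective (G.map (homOfLE (Nat.le_succ j)).op).hom) :
    (G ⋙ forget AddCommGrpCat.{u}).IsMittagLeffler ∧
      Function.Surjective (fun s : (G ⋙ forget AddCommGrpCat.{u}).sections => s.1 (op j₀)) ∧
      ((∀ j : ℕ, j₀ ≤ j → Function.Injective (G.map (homOfLE (Nat.le_succ j)).op).hom) →
        Function.Bijective (fun s : (G ⋙ forget AddCommGrpCat.{u}).sections => s.1 (op j₀))) := by
  have hsurj : Function.Surjective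
      (fun s : (G ⋙ forget AddCommGrpCat.{u}).sections => s.1 (op j₀)) := ?surj
  refine ⟨?_, hsurj, ?_⟩
  · intro j
    induction j using Opposite.rec with | op n => ?_
    refine ⟨op (max n j₀), (homOfLE (le_max_left n j₀)).op, ?_⟩
    intro k g
    induction k using Opposite.rec with | op m => ?_
    rintro _ ⟨y, rfl⟩
    have hnm : n ≤ m := g.unop.le
    rw [map_eq_T G (le_max_left n j₀)]
    by_cases hm : m ≤ max n j₀
    · refine ⟨T G hm y, ?_⟩
      rw [map_eq_T G hnm, T_trans]
    · rw [not_le] at hm
      obtain ⟨z, rfl⟩ := T_surj G j₀ hs (le_max_right n j₀) hm.le y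
      refine ⟨z, ?_⟩
      rw [map_eq_T G hnm, T_trans]
  case surj =>
    intro x₀
    -- build a compatible sequence above `j₀`
    have hstep : ∀ n : ℕ, ∀ y : G.obj (op (j₀ + n)), ∃ z : G.obj (op (j₀ + (n + 1))),
        T G (Nat.le_succ (j₀ + n)) z = y := fun n y => hs (j₀ + n) (Nat.le_add_right _ _) y
    choose next hnext using hstep
    let y : ∀ n : ℕ, G.obj (op (j₀ + n)) := fun n => Nat.rec x₀ (fun n yn => next n yn) n
    have hy_succ : ∀ n, T G (Nat.le_succ (j₀ + n)) (y (n + 1)) = y n := fun n => hnext n (y n)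
    have hy : ∀ n m (h : n ≤ m), T G (Nat.add_le_add_left h j₀) (y m) = y n := by
      intro n m h
      induction m, h using Nat.le_induction with
      | base => exact T_refl G _ _
      | succ m hnm ih =>
        rw [← ih, ← hy_succ m, T_trans]
    refine ⟨⟨fun j => T G (Nat.le_add_left j.unop j₀) (y j.unop), ?_⟩, ?_⟩
    · intro j j' f
      induction j using Opposite.rec with | op m => ?_
      induction j' using Opposite.rec with | op n => ?_
      have hnm : n ≤ m := f.unop.le
      simp only [unop_op]
      rw [map_eq_T G hnm, T_trans, ← hy n m hnm, T_trans]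
    · simp only [unop_op]
      exact hy 0 j₀ (Nat.zero_le _)
  · intro hi
    refine ⟨?_, ?_⟩
    · intro s s' hss'
      simp only at hss'
      apply Subtype.ext
      funext j
      induction j using Opposite.rec with | op n => ?_
      by_cases hn : n ≤ j₀
      · have h1 := s.2 (homOfLE hn).op
        have h2 := s'.2 (homOfLE hn).op
        rw [← h1, ← h2, hss']
      · rw [not_le] at hn
        apply T_inj G j₀ hi le_rfl hn.le
        have h1 := s.2 (homOfLE hn.le).op
        have h2 := s'.2 (homOfLE hn.le).op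
        rw [map_eq_T G hn.le] at h1 h2
        rw [h1, h2, hss']
    · exact hsurj

end Groth.Agent.S15235
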