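import Groth.Statements.S15245
import Groth.Agent.Lib.lead.WordPerm

set_option autoImplicit false
universe u
open CategoryTheory AlgebraicGeometry
open RedSub

namespace Groth.Agent.S15245


open Groth.Agent.Lib.lead.WordPerm in
private lemma key {idx M N : Type} [AddCommGroup M] [AddCommGroup N] [Finite idx]
    (P : RootPairing idx ℤ M N) (b : P.Base) (l : List idx) (c : idx) (hc : b.IsPos c)
    (hδ : b.IsPos ((RedSub.wordPerm P l)⁻¹ c)) :
    Set.ncard {a : idx | b.IsPos a ∧ ¬ b.IsPos (RedSub.wordPerm P l a)} <
      Set.ncard {a : idx | b.IsPos a ∧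
        ¬ b.IsPos ((P.reflectionPerm c * RedSub.wordPerm P l) a)} := by
  classical
  set w := RedSub.wordPerm P l with hw
  set δ := w⁻¹ c with hδdef
  have hwδ : w δ = c := by simp [hδdef]
  have hcomm : P.reflectionPerm c * w = w * P.reflectionPerm δ := by
    rw [← hwδ, hw, reflPerm_word]
    simp [mul_assoc]
  rw [hcomm]
  set A := {a : idx | b.IsPos a ∧ ¬ b.IsPos (w a)} with hA
  set B := {a : idx | b.IsPos a ∧ ¬ b.IsPos ((w * P.reflectionPerm δ) a)} with hB
  have hcpos : 0 < b.height c := hc
  have hδpos : 0 < b.height δ := hδ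
  have hmaps : ∀ a ∈ A \ B, P.reflectionPerm δ a ∈ (B \ A) \ {δ} := by
    rintro a ⟨⟨ha1, ha2⟩, haB⟩
    have ha3 : b.IsPos (w (P.reflectionPerm δ a)) := by
      by_contra h
      exact haB ⟨ha1, h⟩
    have hrel := root_reflPerm_rel P δ a
    have h1 := b.height_add_zsmul hrel
    have h2 := height_rel P b l hrel
    rw [← hw, hwδ] at h2
    rw [b.isPos_iff] at ha1 ha3
    have ha2' : b.height (w a) < 0 :=
      lt_of_le_of_ne (not_lt.1 ha2) (b.height_ne_zero _)
    have hp : 0 < -(P.pairing a δ) := by
      by_contra hp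
      push Not at hp
      have : -(P.pairing a δ) * b.height c ≤ 0 :=
        mul_nonpos_of_nonpos_of_nonneg hp hcpos.le
      linarith
    have ha'pos : b.IsPos (P.reflectionPerm δ a) := by
      rw [b.isPos_iff, h1, smul_eq_mul]
      have : 0 < -(P.pairing a δ) * b.height δ := mul_pos hp hδpos
      linarith
    refine ⟨⟨⟨ha'pos, ?_⟩, ?_⟩, ?_⟩
    · simpa [Equiv.Perm.mul_apply] using ha2
    · rintro ⟨_, h⟩
      exact h ha3
    · intro h
      rw [Set.mem_singleton_iff] at h
      have h3 : a = P.reflectionPerm δ δ := by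
        have h5 := congrArg (P.reflectionPerm δ) h
        rw [RootPairing.reflectionPerm_self] at h5
        exact h5
      have h4 := b.height_add_zsmul (root_reflPerm_self_rel P δ)
      rw [← h3] at h4
      rw [h4, smul_eq_mul] at ha1
      linarith
  have hδmem : δ ∈ B \ A := by
    refine ⟨⟨hδ, ?_⟩, ?_⟩
    · rw [Equiv.Perm.mul_apply, b.isPos_iff]
      have h2 := height_rel P b l (root_reflPerm_self_rel P δ)
      rw [← hw, hwδ] at h2
      rw [h2]
      linarith
    · rintro ⟨_, h⟩
      apply h
      rw [hwδ]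
      exact hc
  have hlt : (A \ B).ncard < (B \ A).ncard := by
    calc (A \ B).ncard = (P.reflectionPerm δ '' (A \ B)).ncard :=
          (Set.ncard_image_of_injective _ (P.reflectionPerm δ).injective).symm
      _ ≤ ((B \ A) \ {δ}).ncard :=
          Set.ncard_le_ncard (by rintro _ ⟨a, ha, rfl⟩; exact hmaps a ha) (Set.toFinite _)
      _ < (B \ A).ncard := Set.ncard_sdiff_singleton_lt_of_mem hδmem (Set.toFinite _)
  have e1 := Set.ncard_inter_add_ncard_sdiff_eq_ncard A B (Set.toFinite _)
  have e2 := Set.ncard_inter_add_ncard_sdiff_eq_ncard B A (Set.toFinite _)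
  rw [Set.inter_comm] at e2
  omega

/-- Let Φ be a finite reduced root system (a reduced root pairing over ℤ on a finite index set) with a
base b, w an element of its Weyl group, given as the product of the reflections along a word l and
acting on the roots, and γ a positive root. Writing ℓ(u) for the number of positive roots a with
u(a) negative, one has ℓ(w) < ℓ(σ_γ w) if and only if w⁻¹(γ) is positive. (Here the length is taken
as the number of inverted positive roots.) -/
theorem result {idx M N : Type}
    [AddCommGroup M] [AddCommGroup N] [Finite idx]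
    (P : RootPairing idx ℤ M N) [P.IsReduced] (b : P.Base) (l : List idx) (c : idx)
    (hc : c ∈ RedSub.posRoots P b) :
    Set.ncard {a : idx | a ∈ RedSub.posRoots P b ∧ RedSub.wordPerm P l a ∈ RedSub.negRoots P b} <
        Set.ncard {a : idx | a ∈ RedSub.posRoots P b ∧
          (P.reflectionPerm c * RedSub.wordPerm P l) a ∈ RedSub.negRoots P b} ↔
      (RedSub.wordPerm P l)⁻¹ c ∈ RedSub.posRoots P b := by
  simp only [Groth.Agent.Lib.lead.WordPerm.mem_posRoots_iff,
    Groth.Agent.Lib.lead.WordPerm.mem_negRoots_iff]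
  have hc' : b.IsPos c := (Groth.Agent.Lib.lead.WordPerm.mem_posRoots_iff P b c).1 hc
  constructor
  · intro hlt
    by_contra hneg
    have hh : b.height ((RedSub.wordPerm P l)⁻¹ c) < 0 :=
      lt_of_le_of_ne (not_lt.1 hneg) (b.height_ne_zero _)
    have hpos' : b.IsPos ((RedSub.wordPerm P (c :: l))⁻¹ c) := by
      rw [Groth.Agent.Lib.lead.WordPerm.wordPerm_cons, mul_inv_rev,
        RootPairing.reflectionPerm_inv, Equiv.Perm.mul_apply,
        Groth.Agent.Lib.lead.WordPerm.wordPerm_inv, b.isPos_iff,
        Groth.Agent.Lib.lead.WordPerm.height_rel P b l.reverse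
          (Groth.Agent.Lib.lead.WordPerm.root_reflPerm_self_rel P c)]
      rw [Groth.Agent.Lib.lead.WordPerm.wordPerm_inv] at hh
      linarith
    have h1 := key P b (c :: l) c hc' hpos'
    rw [Groth.Agent.Lib.lead.WordPerm.wordPerm_cons, ← mul_assoc,
      show P.reflectionPerm c * P.reflectionPerm c = 1 by
        rw [← sq]; exact P.reflectionPerm_sq c, one_mul] at h1
    omega
  · intro h
    exact key P b l c hc' h

end Groth.Agent.S15245
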