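import Groth.Statements.S1527
import Groth.Agent.Lib.Helper17.ZeroSupp
import Groth.Agent.Lib.Helper17.FTExt
import Groth.Agent.S0020
import Groth.Agent.S1526
import Mathlib
set_option backward.isDefEq.respectTransparency.types false

set_option autoImplicit false
universe u
open CategoryTheory CategoryTheory.Limits AlgebraicGeometry
open Variety

namespace Groth.Agent.S1527
open Opposite
open Groth.Agent.Lib.Helper17.ZeroSupp Groth.Agent.Lib.Helper17.FTExt Groth.Agent.Lib.Helper28.QCohLoc

/-- a module all of whose restriction maps from global sections are surjective is globally generated. -/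
theorem isGloballyGenerated_of_res_surjective {X : Scheme.{u}} (F : X.Modules)
    (h : ∀ U : X.Opens, Function.Surjective (res F (le_top : U ≤ ⊤))) :
    Curv2.IsGloballyGenerated F := by
  let n : Γ(F, ⊤) → F.val.obj (op ⊤) := fun s => s
  refine ⟨Γ(F, ⊤), fam F n, ?_⟩
  refine epi_of_locally_in_range (fam F n) ?_
  intro U x pt hpt
  obtain ⟨s, hs⟩ := h U x
  obtain ⟨e, he⟩ := exists_fromFreeFamily_app_eq F n U s
  refine ⟨U, le_rfl, hpt, e, ?_⟩
  rw [he, res_self]
  exact hs


/-- On a proper scheme over a field, a coherent module whose support has dimension at most zero is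
globally generated (a quotient of a free module). -/
theorem result (k : Type u) [Field k] (X : Scheme.{u}) [X.Over (Spec (CommRingCat.of k))] [IsProper (X ↘ (Spec (CommRingCat.of k)))]
    (F : X.Modules) (hF : Coh.IsCoh F) (hsupp : topologicalKrullDim (CohB1.support F) ≤ 0) :
    Curv2.IsGloballyGenerated F := by
  haveI : F.IsQuasicoherent := hF.1
  haveI : SheafOfModules.IsFiniteType.{u} (R := X.ringCatSheaf) F := hF.2
  haveI : IsLocallyNoetherian X :=
    LocallyOfFiniteType.isLocallyNoetherian (X ↘ (Spec (CommRingCat.of k)))
  have hcl : IsClosed (CohB1.support F) := Groth.Agent.S0020.result X F hF.2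
  haveI hfl := isFlasque_of_support_closedPoints F
    (fun x hx => Groth.Agent.S1526.isClosed_singleton_of_dim_le_zero _ hcl hsupp x hx)
  refine isGloballyGenerated_of_res_surjective F fun U => ?_
  have := hfl.epi (homOfLE (le_top : U ≤ ⊤)).op
  exact (AddCommGrpCat.epi_iff_surjective _).1 this

end Groth.Agent.S1527
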