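import Groth.Statements.S15285
import Mathlib

set_option autoImplicit false
universe v v' u u'
open PicCat

namespace Groth.Agent.S15285

section Aux

open CategoryTheory MonoidalCategory

section
variable {C : Type u} [Category.{v} C] [MonoidalCategory C]

/-- every endomorphism of `X` comes from a unique endomorphism of the unit when `- ⊗ X` is fully faithful -/
lemma exists_unit_end (X : C) [(tensorRight X).Full] (g : X ⟶ X) :
    ∃ φ : 𝟙_ C ⟶ 𝟙_ C, g = (λ_ X).inv ≫ φ ▷ X ≫ (λ_ X).hom := by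
  obtain ⟨φ, hφ⟩ := (tensorRight X).map_surjective ((λ_ X).hom ≫ g ≫ (λ_ X).inv)
  refine ⟨φ, ?_⟩
  have : φ ▷ X = (λ_ X).hom ≫ g ≫ (λ_ X).inv := hφ
  rw [this]; simp

lemma whiskerRight_injective (X : C) [(tensorRight X).Faithful] {A B : C} (φ ψ : A ⟶ B)
    (h : φ ▷ X = ψ ▷ X) : φ = ψ :=
  (tensorRight X).map_injective h

end

theorem main
    {C : Type u} [Category.{v} C] [MonoidalCategory C] [IsGroupoid C]
    {D : Type u'} [Category.{v'} D] [MonoidalCategory D] [IsGroupoid D]
    (hC : ∀ X : C, (tensorLeft X).IsEquivalence ∧ (tensorRight X).IsEquivalence)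
    (hD : ∀ X : D, (tensorLeft X).IsEquivalence ∧ (tensorRight X).IsEquivalence)
    (F : C ⥤ D) [F.LaxMonoidal] [F.EssSurj]
    (h0 : ∀ X Y : C, Nonempty (F.obj X ≅ F.obj Y) → Nonempty (X ≅ Y))
    (h1 : Function.Bijective (fun φ : 𝟙_ C ⟶ 𝟙_ C => F.map φ)) :
    F.IsEquivalence := by
  have hCR : ∀ X : C, (tensorRight X).IsEquivalence := fun X => (hC X).2
  have hDR : ∀ X : D, (tensorRight X).IsEquivalence := fun X => (hD X).2
  -- key: F.map (φ ▷ X) in terms of F.map φ
  have hkey : ∀ (X : C) (φ : 𝟙_ C ⟶ 𝟙_ C),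
      F.map (φ ▷ X) = inv (Functor.LaxMonoidal.μ F (𝟙_ C) X) ≫ (F.map φ ▷ F.obj X) ≫
        Functor.LaxMonoidal.μ F (𝟙_ C) X := by
    intro X φ
    rw [Functor.LaxMonoidal.μ_natural_left, IsIso.inv_hom_id_assoc]
  have hfaith : F.Faithful := by
    refine ⟨fun {X Y} f g hfg => ?_⟩
    haveI := hCR X
    haveI := hDR (F.obj X)
    obtain ⟨φ, hφ⟩ := exists_unit_end X (f ≫ inv g)
    have h2 : F.map (f ≫ inv g) = 𝟙 _ := by
      rw [F.map_comp, hfg, ← F.map_comp, IsIso.hom_inv_id, F.map_id]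
    rw [hφ, F.map_comp, F.map_comp, hkey] at h2
    have h3 : F.map φ ▷ F.obj X = 𝟙 _ := by
      set μ := Functor.LaxMonoidal.μ F (𝟙_ C) X with hμ
      set W := F.map φ ▷ F.obj X with hW
      have h4 : inv μ ≫ W ≫ μ = 𝟙 _ := by
        generalize inv μ ≫ W ≫ μ = Z at h2
        calc Z = F.map (λ_ X).hom ≫ (F.map (λ_ X).inv ≫ Z ≫ F.map (λ_ X).hom) ≫
              F.map (λ_ X).inv := by
              simp only [Category.assoc, ← F.map_comp, ← F.map_comp_assoc, Iso.hom_inv_id,
                F.map_id, Category.comp_id, Category.id_comp]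
          _ = 𝟙 _ := by
              rw [h2, Category.id_comp, ← F.map_comp, Iso.hom_inv_id, F.map_id]
      calc W = μ ≫ (inv μ ≫ W ≫ μ) ≫ inv μ := by
            simp only [Category.assoc, IsIso.hom_inv_id_assoc, IsIso.hom_inv_id, Category.comp_id]
        _ = 𝟙 _ := by rw [h4, Category.id_comp, IsIso.hom_inv_id]
    have h5 : F.map φ = 𝟙 _ := by
      apply whiskerRight_injective (F.obj X)
      rw [h3, id_whiskerRight]
    have h6 : φ = 𝟙 _ := by
      apply h1.1
      show F.map φ = F.map (𝟙 _)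
      rw [h5, F.map_id]
    rw [h6] at hφ
    simp at hφ
    exact hφ
  have hfull : F.Full := by
    refine ⟨fun {X Y} k => ?_⟩
    haveI := hCR X
    haveI := hDR (F.obj X)
    obtain ⟨e⟩ := h0 X Y ⟨asIso k⟩
    set k' : F.obj X ⟶ F.obj X := k ≫ inv (F.map e.hom) with hk'
    set μ := Functor.LaxMonoidal.μ F (𝟙_ C) X with hμ
    obtain ⟨ψ, hψ⟩ := (tensorRight (F.obj X)).map_surjective
      (μ ≫ F.map (λ_ X).hom ≫ k' ≫ F.map (λ_ X).inv ≫ inv μ)
    have hψ' : ψ ▷ F.obj X = μ ≫ F.map (λ_ X).hom ≫ k' ≫ F.map (λ_ X).inv ≫ inv μ := hψ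
    obtain ⟨φ, hφ⟩ := h1.2 ψ
    have hφ' : F.map φ = ψ := hφ
    refine ⟨((λ_ X).inv ≫ φ ▷ X ≫ (λ_ X).hom) ≫ e.hom, ?_⟩
    rw [F.map_comp, F.map_comp, F.map_comp, hkey, hφ', hψ']
    rw [← hμ]
    have e1 : F.map (λ_ X).inv ≫ F.map (λ_ X).hom = 𝟙 _ := by
      rw [← F.map_comp, Iso.inv_hom_id, F.map_id]
    simp only [Category.assoc, IsIso.inv_hom_id_assoc, IsIso.inv_hom_id, Category.comp_id]
    rw [reassoc_of% e1, reassoc_of% e1, hk', Category.assoc, IsIso.inv_hom_id, Category.comp_id]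
  exact { faithful := hfaith, full := hfull, essSurj := inferInstance }

end Aux

open CategoryTheory MonoidalCategory in
/-- Let C and D be Picard categories (monoidal groupoids in which tensoring on either side with any
object is an equivalence of categories) and F : C ⥤ D a lax monoidal functor. If F induces a
bijection on isomorphism classes of objects (it is essentially surjective, and F X ≅ F Y only when X
≅ Y) and a bijection on endomorphisms of the unit object, then F is an equivalence of categories. -/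
theorem result
    {C : Type u} [Category.{v} C] [MonoidalCategory C] [IsGroupoid C]
    {D : Type u'} [Category.{v'} D] [MonoidalCategory D] [IsGroupoid D]
    (hC : ∀ X : C, (tensorLeft X).IsEquivalence ∧ (tensorRight X).IsEquivalence)
    (hD : ∀ X : D, (tensorLeft X).IsEquivalence ∧ (tensorRight X).IsEquivalence)
    (F : C ⥤ D) [F.LaxMonoidal] [F.EssSurj]
    (h0 : ∀ X Y : C, Nonempty (F.obj X ≅ F.obj Y) → Nonempty (X ≅ Y))
    (h1 : Function.Bijective (fun φ : 𝟙_ C ⟶ 𝟙_ C => F.map φ)) :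
    F.IsEquivalence := by
  exact main hC hD F h0 h1

end Groth.Agent.S15285
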