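import Groth.Statements.S15286
import Groth.Agent.S15285
import Mathlib

set_option autoImplicit false
universe v v' u u'
open PicCat

namespace Groth.Agent.S15286

section Aux

open CategoryTheory MonoidalCategory

section act
variable {D : Type u'} [Category.{v'} D] [MonoidalCategory D]

/-- the action of an endomorphism of the unit on an object -/
def act (φ : 𝟙_ D ⟶ 𝟙_ D) (Z : D) : Z ⟶ Z := (λ_ Z).inv ≫ (φ ▷ Z) ≫ (λ_ Z).hom

lemma act_id (Z : D) : act (𝟙 (𝟙_ D)) Z = 𝟙 Z := by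
  unfold act; simp

lemma act_comp (φ ψ : 𝟙_ D ⟶ 𝟙_ D) (Z : D) : act (φ ≫ ψ) Z = act φ Z ≫ act ψ Z := by
  unfold act; simp

lemma act_natural (φ : 𝟙_ D ⟶ 𝟙_ D) {Z W : D} (f : Z ⟶ W) : act φ Z ≫ f = f ≫ act φ W := by
  unfold act
  rw [Category.assoc, Category.assoc, ← leftUnitor_naturality, ← whisker_exchange_assoc,
    ← leftUnitor_inv_naturality_assoc]

lemma act_comm (φ ψ : 𝟙_ D ⟶ 𝟙_ D) (Z : D) : act φ Z ≫ act ψ Z = act ψ Z ≫ act φ Z :=
  act_natural φ (act ψ Z)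

lemma act_tensor_left (φ : 𝟙_ D ⟶ 𝟙_ D) (Z W : D) : act φ (Z ⊗ W) = act φ Z ▷ W := by
  unfold act
  simp

lemma act_injective (Z : D) [(tensorRight Z).Faithful] (φ ψ : 𝟙_ D ⟶ 𝟙_ D)
    (h : act φ Z = act ψ Z) : φ = ψ := by
  apply Groth.Agent.S15285.whiskerRight_injective Z
  unfold act at h
  simpa using h

variable [BraidedCategory D]

lemma act_eq_right (φ : 𝟙_ D ⟶ 𝟙_ D) (Z : D) :
    act φ Z = (ρ_ Z).inv ≫ (Z ◁ φ) ≫ (ρ_ Z).hom := by
  unfold act
  have h1 : (λ_ Z).hom = (β_ (𝟙_ D) Z).hom ≫ (ρ_ Z).hom := by simp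
  have h2 : (λ_ Z).inv = (ρ_ Z).inv ≫ (β_ (𝟙_ D) Z).inv := by
    rw [← cancel_mono (λ_ Z).hom, Iso.inv_hom_id, h1]; simp
  rw [h1, h2, Category.assoc, BraidedCategory.braiding_naturality_left_assoc,
    Iso.inv_hom_id_assoc]

lemma act_tensor_right (φ : 𝟙_ D ⟶ 𝟙_ D) (Z W : D) : act φ (Z ⊗ W) = Z ◁ act φ W := by
  rw [act_tensor_left, act_eq_right φ Z]
  unfold act
  simp

lemma act_tensorHom (φ ψ : 𝟙_ D ⟶ 𝟙_ D) (Z W : D) :
    act φ Z ⊗ₘ act ψ W = act (φ ≫ ψ) (Z ⊗ W) := by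
  rw [MonoidalCategory.tensorHom_def, ← act_tensor_left, ← act_tensor_right, ← act_comp]

end act

section unitcomm
variable {D : Type u'} [Category.{v'} D] [MonoidalCategory D]

lemma unit_end_comm [(tensorRight (𝟙_ D)).Faithful] (φ ψ : 𝟙_ D ⟶ 𝟙_ D) : φ ≫ ψ = ψ ≫ φ :=
  act_injective (𝟙_ D) _ _ (by rw [act_comp, act_comp, act_comm])

end unitcomm

theorem main
    {C : Type u} [Category.{v} C] [MonoidalCategory C] [IsGroupoid C]
    {D : Type u'} [Category.{v'} D] [MonoidalCategory D] [BraidedCategory D] [IsGroupoid D]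
    (hD : ∀ X : D, (tensorLeft X).IsEquivalence ∧ (tensorRight X).IsEquivalence)
    (F G : C ⥤ D) [F.LaxMonoidal] [G.LaxMonoidal] (θ₀ : F ⟶ G) [NatTrans.IsMonoidal θ₀] :
    (∀ θ : F ⟶ G, NatTrans.IsMonoidal θ →
      ∃! χ : Skeleton C →* End (𝟙_ D), ∀ X : C,
        θ.app X = θ₀.app X ≫ act (χ (toSkeleton X) : 𝟙_ D ⟶ 𝟙_ D) (G.obj X)) ∧
    (∀ χ : Skeleton C →* End (𝟙_ D), ∃ θ : F ⟶ G, NatTrans.IsMonoidal θ ∧ ∀ X : C,
        θ.app X = θ₀.app X ≫ act (χ (toSkeleton X) : 𝟙_ D ⟶ 𝟙_ D) (G.obj X)) := by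
  have hDR : ∀ Z : D, (tensorRight Z).IsEquivalence := fun Z => (hD Z).2
  haveI := hDR (𝟙_ D)
  constructor
  · intro θ hθ
    have hex : ∀ X : C, ∃ φ : 𝟙_ D ⟶ 𝟙_ D, θ.app X = θ₀.app X ≫ act φ (G.obj X) := by
      intro X
      haveI := hDR (G.obj X)
      obtain ⟨φ, hφ⟩ := Groth.Agent.S15285.exists_unit_end (G.obj X) (inv (θ₀.app X) ≫ θ.app X)
      refine ⟨φ, ?_⟩
      have : act φ (G.obj X) = inv (θ₀.app X) ≫ θ.app X := hφ.symm
      rw [this, IsIso.hom_inv_id_assoc]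
    choose φ hφ using hex
    have huniq : ∀ (X : C) (ψ ψ' : 𝟙_ D ⟶ 𝟙_ D),
        θ₀.app X ≫ act ψ (G.obj X) = θ₀.app X ≫ act ψ' (G.obj X) → ψ = ψ' := by
      intro X ψ ψ' h
      haveI := hDR (G.obj X)
      exact act_injective _ _ _ ((cancel_epi _).mp h)
    have hiso : ∀ {X Y : C} (f : X ⟶ Y), φ X = φ Y := by
      intro X Y f
      apply huniq X
      rw [← hφ X, ← cancel_mono (G.map f), ← θ.naturality, hφ Y, Category.assoc, act_natural,
        ← θ₀.naturality_assoc]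
    have hone : φ (𝟙_ C) = 𝟙 _ := by
      apply huniq (𝟙_ C)
      rw [← hφ, act_id, Category.comp_id, ← cancel_epi (Functor.LaxMonoidal.ε F),
        NatTrans.IsMonoidal.unit, NatTrans.IsMonoidal.unit]
    have hmul : ∀ X Y : C, φ (X ⊗ Y) = φ X ≫ φ Y := by
      intro X Y
      apply huniq (X ⊗ Y)
      rw [← hφ, ← cancel_epi (Functor.LaxMonoidal.μ F X Y), NatTrans.IsMonoidal.tensor,
        NatTrans.IsMonoidal.tensor_assoc, ← act_natural, ← act_tensorHom, hφ X, hφ Y,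
        ← tensorHom_comp_tensorHom, Category.assoc]
    have hχ0 : ∀ X : C, φ ((fromSkeleton C).obj (toSkeleton X)) = φ X := fun X =>
      hiso (fromSkeletonToSkeletonIso X).hom
    let χ : Skeleton C →* End (𝟙_ D) :=
      { toFun := fun s => φ ((fromSkeleton C).obj s)
        map_one' := by
          show φ ((fromSkeleton C).obj 1) = 𝟙 _
          rw [Skeleton.one_eq, hχ0, hone]
        map_mul' := by
          intro s t
          show φ ((fromSkeleton C).obj (s * t)) =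
            φ ((fromSkeleton C).obj t) ≫ φ ((fromSkeleton C).obj s)
          conv_lhs => rw [← toSkeleton_fromSkeleton_obj s, ← toSkeleton_fromSkeleton_obj t,
            ← Skeleton.toSkeleton_tensorObj]
          rw [hχ0, hmul, unit_end_comm] }
    refine ⟨χ, fun X => ?_, ?_⟩
    · show θ.app X = θ₀.app X ≫ act (φ ((fromSkeleton C).obj (toSkeleton X))) (G.obj X)
      rw [hχ0, ← hφ]
    · intro χ' hχ'
      apply MonoidHom.ext
      intro s
      rw [← toSkeleton_fromSkeleton_obj s]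
      show χ' (toSkeleton _) = φ ((fromSkeleton C).obj (toSkeleton _))
      rw [hχ0]
      apply huniq ((fromSkeleton C).obj s)
      rw [← hχ', ← hφ]
  · intro χ
    have hsk : ∀ {X Y : C} (f : X ⟶ Y), toSkeleton X = toSkeleton Y :=
      fun f => congr_toSkeleton_of_iso (asIso f)
    refine ⟨{ app := fun X => θ₀.app X ≫ act (χ (toSkeleton X) : 𝟙_ D ⟶ 𝟙_ D) (G.obj X),
              naturality := ?_ }, ?_, fun X => rfl⟩
    · intro X Y f
      rw [← hsk f, θ₀.naturality_assoc, Category.assoc, act_natural]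
    · constructor
      · show Functor.LaxMonoidal.ε F ≫ θ₀.app (𝟙_ C) ≫
          act (χ (toSkeleton (𝟙_ C)) : 𝟙_ D ⟶ 𝟙_ D) (G.obj (𝟙_ C)) = Functor.LaxMonoidal.ε G
        rw [← Skeleton.one_eq, map_one]
        show Functor.LaxMonoidal.ε F ≫ θ₀.app (𝟙_ C) ≫ act (𝟙 _) (G.obj (𝟙_ C)) = _
        rw [act_id, Category.comp_id, NatTrans.IsMonoidal.unit]
      · intro X Y
        show Functor.LaxMonoidal.μ F X Y ≫ θ₀.app (X ⊗ Y) ≫
          act (χ (toSkeleton (X ⊗ Y)) : 𝟙_ D ⟶ 𝟙_ D) (G.obj (X ⊗ Y)) =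
          ((θ₀.app X ≫ act (χ (toSkeleton X) : 𝟙_ D ⟶ 𝟙_ D) (G.obj X)) ⊗ₘ
            (θ₀.app Y ≫ act (χ (toSkeleton Y) : 𝟙_ D ⟶ 𝟙_ D) (G.obj Y))) ≫
            Functor.LaxMonoidal.μ G X Y
        rw [Skeleton.toSkeleton_tensorObj, map_mul]
        show Functor.LaxMonoidal.μ F X Y ≫ θ₀.app (X ⊗ Y) ≫
          act ((χ (toSkeleton Y) : 𝟙_ D ⟶ 𝟙_ D) ≫ (χ (toSkeleton X) : 𝟙_ D ⟶ 𝟙_ D)) (G.obj (X ⊗ Y)) = _
        rw [← tensorHom_comp_tensorHom, act_tensorHom, NatTrans.IsMonoidal.tensor_assoc,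
          Category.assoc, act_natural, unit_end_comm]

end Aux

open CategoryTheory MonoidalCategory in
/-- Let C be a Picard category, D a commutative (braided) Picard category, F, G : C ⥤ D lax monoidal
functors and θ₀ : F ⟶ G a monoidal natural transformation. Identify an endomorphism φ of the unit of
D with the automorphism λ⁻¹ ≫ (φ ▷ Z) ≫ λ of any object Z. Then the monoidal natural transformations
F ⟶ G form a torsor under the monoid homomorphisms χ from the monoid of isomorphism classes of C to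
End(𝟙_D): every monoidal θ : F ⟶ G is X ↦ θ₀_X ≫ (action of χ[X] on G X) for a unique such χ, and
for every χ this formula defines a monoidal natural transformation. (The published statement allows
D non-commutative; for a non-braided monoidal groupoid the classes so obtained are crossed rather
than plain homomorphisms, so D is taken braided here.) -/
theorem result
    {C : Type u} [Category.{v} C] [MonoidalCategory C] [IsGroupoid C]
    {D : Type u'} [Category.{v'} D] [MonoidalCategory D] [BraidedCategory D] [IsGroupoid D]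
    (hC : ∀ X : C, (tensorLeft X).IsEquivalence ∧ (tensorRight X).IsEquivalence)
    (hD : ∀ X : D, (tensorLeft X).IsEquivalence ∧ (tensorRight X).IsEquivalence)
    (F G : C ⥤ D) [F.LaxMonoidal] [G.LaxMonoidal] (θ₀ : F ⟶ G) [NatTrans.IsMonoidal θ₀] :
    (∀ θ : F ⟶ G, NatTrans.IsMonoidal θ →
      ∃! χ : Skeleton C →* End (𝟙_ D), ∀ X : C,
        θ.app X = θ₀.app X ≫ (λ_ (G.obj X)).inv ≫
          ((χ (toSkeleton X) : 𝟙_ D ⟶ 𝟙_ D) ▷ G.obj X) ≫ (λ_ (G.obj X)).hom) ∧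
    (∀ χ : Skeleton C →* End (𝟙_ D), ∃ θ : F ⟶ G, NatTrans.IsMonoidal θ ∧ ∀ X : C,
        θ.app X = θ₀.app X ≫ (λ_ (G.obj X)).inv ≫
          ((χ (toSkeleton X) : 𝟙_ D ⟶ 𝟙_ D) ▷ G.obj X) ≫ (λ_ (G.obj X)).hom) := by
  exact main hD F G θ₀

end Groth.Agent.S15286
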