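import Groth.Statements.S15287
import Groth.Agent.Lib.Helper17.SemiLocalTriv
import Groth.Agent.Lib.Helper28.AmpleFinite
import Groth.Agent.Lib.Helper28.SecExtend2
import Groth.Agent.Lib.Helper28.AmpleGG
import Mathlib
set_option backward.isDefEq.respectTransparency.types false

set_option autoImplicit false
universe u
open CategoryTheory AlgebraicGeometry
open PicF

namespace Groth.Agent.S15287
open Groth.Agent.Lib.Helper28 Groth.Agent.Lib.Helper28.QCohLoc Groth.Agent.Lib.Helper28.GenLocus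
open Groth.Agent.Lib.Helper28.TensorGen Groth.Agent.Lib.Helper28.InvTensor Groth.Agent.Lib.Helper28.AmpleUnit
open Groth.Agent.Lib.Helper17

/-- `(L ⊗ A^r) ⊗ (A^d)^K ≅ L ⊗ A^(r + dK)` -/
theorem exists_twist_iso {Y : Scheme.{u}} {L A : Y.Modules} (hL : PicF.IsInvertible L) (hA : PicF.IsInvertible A)
    (r d K : ℕ) :
    Nonempty (CohB1.tensorMod (CohB1.tensorMod L (CohB1.tensorPow A r)) (CohB1.tensorPow (CohB1.tensorPow A d) K) ≅
      CohB1.tensorMod L (CohB1.tensorPow A (r + d * K))) := by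
  refine (exists_iso_of_homogeneous₂ L A hL hA
    (CohB1.tensorMod (CohB1.tensorMod L (CohB1.tensorPow A r)) (CohB1.tensorPow (CohB1.tensorPow A d) K))
    (CohB1.tensorMod L (CohB1.tensorPow A (r + d * K)))
    (fun U g g' => tmulSec _ _ (tmulSec L (CohB1.tensorPow A r) g (gpow A g' r))
      (gpow (CohB1.tensorPow A d) (gpow A g' d) K))
    (fun U g g' => tmulSec L (CohB1.tensorPow A (r + d * K)) g (gpow A g' (r + d * K)))
    (fun U g g' hg hg' => isGen_tmulSec _ _ (isGen_tmulSec _ _ hg (isGen_gpow hg' r))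
      (isGen_gpow (isGen_gpow hg' d) K))
    (fun U g g' hg hg' => isGen_tmulSec _ _ hg (isGen_gpow hg' _)) 1 (r + d * K) ?_ ?_ ?_ ?_).elim
      fun ψ _ => ⟨ψ⟩
  · intro U V h g g'
    rw [tmulSec_res, tmulSec_res, gpow_res, gpow_res, gpow_res]
  · intro U V h g g'
    rw [tmulSec_res, gpow_res]
  · intro U u u' g g'
    simp only [gpow_smul, tmulSec_smul_left, tmulSec_smul_right, smul_smul]
    congr 1
    ring
  · intro U u u' g g'
    rw [gpow_smul, tmulSec_smul_left, tmulSec_smul_right, ← mul_smul, pow_one]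


/-- Let Y be a scheme proper over a field k carrying an ample invertible O_Y-module A, let L be an
invertible O_Y-module and y_1, …, y_m finitely many points of Y. Then there is N₀ such that for
every N ≥ N₀ the module L ⊗ A^{⊗ N} has a global section generating it at every y_i (each y_i lies
in the largest open over which the section is a basis). (The published statement takes Y projective
over k and A very ample; this row takes Y proper over k and A ample.) -/
theorem result
    (k : Type u) [Field k] (Y : Scheme.{u}) (f : Y ⟶ Spec (CommRingCat.of k)) [IsProper f]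
    (A : Y.Modules) (hA : CohB1.IsAmple A) (L : Y.Modules) (hL : PicF.IsInvertible L)
    (ι : Type) [Finite ι] (y : ι → ↥Y) :
    ∃ N₀ : ℕ, ∀ N : ℕ, N₀ ≤ N →
      ∃ s : Coh.structureModule Y ⟶ CohB1.tensorMod L (CohB1.tensorPow A N),
        ∀ i : ι, y i ∈ CohB1.genLocus (CohB1.tensorMod L (CohB1.tensorPow A N)) s := by
  classical
  have hAi : PicF.IsInvertible A := hA.1
  haveI : CompactSpace Y := hA.2.1
  haveI : QuasiSeparatedSpace Y := quasiSeparatedSpace_of_quasiSeparated f
  have hZ : (Set.range y).Finite := Set.finite_range y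
  obtain ⟨n0, s0, hZ0, -, hA0⟩ := exists_affine_genLocus_of_finite hA (Set.range y) hZ ⊤ (fun _ _ => trivial)
  obtain ⟨U₁, e, hZU₁, -, he⟩ := SemiLocalTriv.exists_isGen_of_finite Y L hL hA0 (Set.range y) hZ hZ0
  obtain ⟨U₂, α, hZU₂, -, hα⟩ := SemiLocalTriv.exists_isGen_of_finite Y A hAi hA0 (Set.range y) hZ hZ0
  obtain ⟨a, s, hZs, hsU', -⟩ := exists_affine_genLocus_of_finite hA (Set.range y) hZ (U₁ ⊓ U₂)
    (fun z hz => ⟨hZU₁ hz, hZU₂ hz⟩)
  have hM : PicF.IsInvertible (CohB1.tensorPow A (a + 1)) := isInvertible_tensorPow hAi (a + 1)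
  have hG₁ : CohB1.genLocus (CohB1.tensorPow A (a + 1)) s ≤ U₁ := fun z hz => (hsU' hz).1
  have hG₂ : CohB1.genLocus (CohB1.tensorPow A (a + 1)) s ≤ U₂ := fun z hz => (hsU' hz).2
  have hF : ∀ r : ℕ, PicF.IsInvertible (CohB1.tensorMod L (CohB1.tensorPow A r)) := fun r =>
    isInvertible_tensorMod hL (isInvertible_tensorPow hAi r)
  have hξ : ∀ r : ℕ, IsGen (CohB1.tensorMod L (CohB1.tensorPow A r)) (CohB1.genLocus (CohB1.tensorPow A (a + 1)) s)
      (tmulSec L (CohB1.tensorPow A r) (res L hG₁ e) (gpow A (res A hG₂ α) r)) := fun r =>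
    isGen_tmulSec _ _ (he.res hG₁) (isGen_gpow (hα.res hG₂) r)
  choose k₀ hk₀ using fun r : ℕ => exists_extension_tmul (hF r) hM s
    (tmulSec L (CohB1.tensorPow A r) (res L hG₁ e) (gpow A (res A hG₂ α) r))
  let K₀ : ℕ := (Finset.range (a + 1)).sup k₀
  refine ⟨(a + 1) * K₀, fun N hN => ?_⟩
  obtain ⟨r, K, hr, rfl⟩ : ∃ r K, r < a + 1 ∧ N = r + (a + 1) * K :=
    ⟨N % (a + 1), N / (a + 1), Nat.mod_lt _ (Nat.succ_pos a), (Nat.mod_add_div N (a + 1)).symm⟩
  have hK : k₀ r ≤ K := by
    have h1 : k₀ r ≤ K₀ := Finset.le_sup (f := k₀) (Finset.mem_range.2 hr)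
    have h2 : K₀ ≤ K := by
      by_contra hlt
      rw [not_le] at hlt
      have : r + (a + 1) * K < (a + 1) * K₀ := by nlinarith
      omega
    exact h1.trans h2
  obtain ⟨T, hT⟩ := hk₀ r K hK
  obtain ⟨ψ⟩ := exists_twist_iso hL hAi r (a + 1) K
  refine ⟨T ≫ ψ.hom, fun i => ?_⟩
  rw [genLocus_comp_iso T ψ]
  have hgen : IsGen (CohB1.tensorMod (CohB1.tensorMod L (CohB1.tensorPow A r))
        (CohB1.tensorPow (CohB1.tensorPow A (a + 1)) K))
      (CohB1.genLocus (CohB1.tensorPow A (a + 1)) s) (res _ le_top (secOf T)) := by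
    rw [hT]
    exact isGen_tmulSec _ _ (hξ r) (isGen_gpow (isGen_genLocus s) _)
  exact le_genLocus_of_isGen_res T _ hgen (hZs ⟨i, rfl⟩)

end Groth.Agent.S15287
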