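import Groth.Statements.S15299
import Mathlib
import Groth.Agent.Lib.Helper25.DeRhamTotal
import Groth.Agent.Lib.Helper25.DeRhamEigen
-- import your own Groth.Agent.* helpers here

set_option autoImplicit false
set_option linter.unusedSectionVars false
set_option linter.style.haveILetI false
set_option linter.unusedVariables false
universe u
open Omega

namespace Groth.Agent.S15299

open exteriorPower DeRham Groth.Agent.Lib.Helper25.DeRhamTotal Groth.Agent.Lib.Helper25.DeRhamEigen

section
variable {k : Type u} [Field k] [CharZero k] {n : ℕ}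

local notation "A" => MvPolynomial (Fin n) k
local notation "Ωk" => KaehlerDifferential k (MvPolynomial (Fin n) k)
local notation "Λ" => ExteriorAlgebra (MvPolynomial (Fin n) k) (KaehlerDifferential k (MvPolynomial (Fin n) k))
local notation "δ'" => KaehlerDifferential.D k (MvPolynomial (Fin n) k)
local notation "hsp" => KaehlerDifferential.span_range_derivation k (MvPolynomial (Fin n) k)

/-- constants: all partial derivatives vanish -/
lemma const_of_D_eq_zero (a : A) (h : δ' a = 0) : ∃ c : k, a = MvPolynomial.C c := by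
  have hp : ∀ i, MvPolynomial.pderiv i a = 0 := by
    intro i
    rw [← KaehlerDifferential.mvPolynomialBasis_repr_apply, h, map_zero]
    rfl
  refine ⟨MvPolynomial.coeff 0 a, ?_⟩
  ext m
  rw [MvPolynomial.coeff_C]
  split_ifs with h0
  · rw [h0]
  · have : ∃ i, m i ≠ 0 := by
      by_contra hcon
      push Not at hcon
      exact h0 (Finsupp.ext fun i => (hcon i).symm)
    obtain ⟨i, hi⟩ := this
    have h1 := congrArg (MvPolynomial.coeff (m - Finsupp.single i 1)) (hp i)
    rw [MvPolynomial.coeff_pderiv, MvPolynomial.coeff_zero] at h1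
    have hm : m - Finsupp.single i 1 + Finsupp.single i 1 = m := by
      apply tsub_add_cancel_of_le
      intro j
      by_cases hj : j = i
      · subst hj; simp; omega
      · simp [Ne.symm hj]
    rw [hm] at h1
    rcases mul_eq_zero.mp h1 with h2 | h2
    · exact h2
    · exfalso
      have h3 : (m - Finsupp.single i 1 : Fin n →₀ ℕ) i + 1 = 0 := by exact_mod_cast h2
      omega

/-- the Euler dual vector -/
noncomputable def θE : Module.Dual A Ωk :=
  (MvPolynomial.mkDerivation k (fun i : Fin n => (MvPolynomial.X i : A))).liftKaehlerDifferential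

lemma θE_D_X (i : Fin n) : θE (δ' (MvPolynomial.X i)) = (MvPolynomial.X i : A) := by
  unfold θE
  rw [Derivation.liftKaehlerDifferential_comp_D, MvPolynomial.mkDerivation_X]

lemma θE_D_C (c : k) : θE (δ' (MvPolynomial.C c)) = (0 : A) := by
  unfold θE
  rw [Derivation.liftKaehlerDifferential_comp_D, MvPolynomial.derivation_C]

variable (d' : ∀ p : ℕ, ↥(⋀[MvPolynomial (Fin n) k]^p (KaehlerDifferential k (MvPolynomial (Fin n) k))) →ₗ[k]
      ↥(⋀[MvPolynomial (Fin n) k]^(p + 1) (KaehlerDifferential k (MvPolynomial (Fin n) k))))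
    (hd' : DeRham.IsDiff (KaehlerDifferential.D k (MvPolynomial (Fin n) k)) d')

/-- sums of eigenvectors with eigenvalue at least `q` -/
noncomputable def Sq (q : ℕ) : AddSubmonoid Λ :=
  AddSubmonoid.closure {g : Λ | ∃ m : ℕ, q ≤ m ∧ L d' θE g = m • g}

include hd' in
lemma X_smul_mem (q : ℕ) (i : Fin n) (g : Λ) (hg : g ∈ Sq d' q) :
    (MvPolynomial.X i : A) • g ∈ Sq d' q := by
  induction hg using AddSubmonoid.closure_induction with
  | mem g hg =>
    obtain ⟨m, hm, hg⟩ := hg
    refine AddSubmonoid.subset_closure ⟨m + 1, by omega, ?_⟩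
    rw [L_smul d' δ' hsp hd', θE_D_X, hg, succ_nsmul, smul_comm (MvPolynomial.X i : A) m g]
    abel
  | zero =>
    rw [smul_zero]
    exact zero_mem _
  | add x y _ _ hx hy =>
    rw [smul_add]
    exact add_mem hx hy

include hd' in
lemma C_smul_mem (q : ℕ) (c : k) (g : Λ) (hg : g ∈ Sq d' q) :
    (MvPolynomial.C c : A) • g ∈ Sq d' q := by
  induction hg using AddSubmonoid.closure_induction with
  | mem g hg =>
    obtain ⟨m, hm, hg⟩ := hg
    refine AddSubmonoid.subset_closure ⟨m, hm, ?_⟩
    rw [L_smul d' δ' hsp hd', θE_D_C, zero_smul, zero_add, hg, smul_comm]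
  | zero =>
    rw [smul_zero]
    exact zero_mem _
  | add x y _ _ hx hy =>
    rw [smul_add]
    exact add_mem hx hy

include hd' in
lemma smul_mem_Sq (q : ℕ) (b : A) (g : Λ) (hg : g ∈ Sq d' q) : b • g ∈ Sq d' q := by
  induction b using MvPolynomial.induction_on generalizing g with
  | C c => exact C_smul_mem d' hd' q c g hg
  | add p r hp hr =>
    rw [add_smul]
    exact add_mem (hp g hg) (hr g hg)
  | mul_X p i hp =>
    rw [mul_smul]
    exact hp _ (X_smul_mem d' hd' q i g hg)

include hd' in
lemma L_gwX (p : ℕ) (s : Fin p → Fin n) :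
    L d' θE (gw δ' p (fun j => (MvPolynomial.X (s j) : A))) =
      p • gw δ' p (fun j => (MvPolynomial.X (s j) : A)) := by
  induction p with
  | zero =>
    rw [gw_zero, L_one d' δ' hsp hd', zero_smul]
  | succ p ih =>
    have e1 : gw δ' (p + 1) (fun j => (MvPolynomial.X (s j) : A)) =
        ExteriorAlgebra.ι A (δ' (MvPolynomial.X (s 0))) *
          gw δ' p (fun j => (MvPolynomial.X (s j.succ) : A)) := by
      unfold gw
      rw [ιMulti_succ]
    rw [e1, L_ι_δ_mul d' δ' hsp hd', θE_D_X, ih (fun j => s j.succ), mul_smul_comm, succ_nsmul]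
    abel

include hd' in
lemma coe_mem_Sq (p : ℕ) (y : ↥(⋀[A]^p Ωk)) : (y : Λ) ∈ Sq d' p := by
  have hs : Submodule.span A (Set.range (fun i : Fin n => δ' (MvPolynomial.X i))) = ⊤ := by
    have := (KaehlerDifferential.mvPolynomialBasis k (Fin n)).span_eq
    convert this using 3
    funext i
    rw [KaehlerDifferential.mvPolynomialBasis_apply]
  have hy : y ∈ Submodule.span A (ιMulti A p '' {a : Fin p → Ωk |
      Set.range a ⊆ Set.range (fun i : Fin n => δ' (MvPolynomial.X i))}) := by
    rw [ιMulti_span_of_span A p _ hs]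
    trivial
  induction hy using Submodule.span_induction with
  | mem y hy =>
    obtain ⟨a', ha', rfl⟩ := hy
    have : ∀ j, ∃ i : Fin n, δ' (MvPolynomial.X i) = a' j := fun j => ha' ⟨j, rfl⟩
    choose s hs' using this
    have e1 : ((ιMulti A p a' : ↥(⋀[A]^p Ωk)) : Λ) =
        gw δ' p (fun j => (MvPolynomial.X (s j) : A)) := by
      rw [exteriorPower.ιMulti_apply_coe]
      unfold gw
      congr 1
      funext j
      exact (hs' j).symm
    rw [e1]
    exact AddSubmonoid.subset_closure ⟨p, le_rfl, L_gwX d' hd' p s⟩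
  | zero => exact zero_mem _
  | add y z _ _ hy hz =>
    rw [Submodule.coe_add]
    exact add_mem hy hz
  | smul b y _ hy =>
    rw [Submodule.coe_smul]
    exact smul_mem_Sq d' hd' p b _ hy

include hd' in
theorem poincare (p : ℕ) : DeRham.cocycles d' (p + 1) ≤ DeRham.coboundaries d' (p + 1) := by
  letI : Algebra ℚ k := DivisionRing.toRatAlgebra
  refine cocycles_le_coboundaries_of_eigen d' θE δ' hsp hd' p (fun y => ?_)
  have := coe_mem_Sq d' hd' (p + 1) y
  refine AddSubmonoid.closure_mono ?_ this
  rintro g ⟨m, hm, hg⟩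
  exact ⟨m, by omega, hg⟩

end

/-- Let k be a field of characteristic zero, A = k[x_1, …, x_n] and Ω = Ω_{A/k}. Let d be a k-linear
endomorphism of the exterior algebra ⋀_A Ω which agrees with the universal derivation on A, sends
⋀^p Ω into ⋀^(p+1) Ω, is a graded derivation and satisfies d ∘ d = 0 (these properties characterise
the de Rham differential). Then the de Rham complex 0 → k → A → Ω → ⋀^2 Ω → ⋯ → ⋀^n Ω → 0 is exact:
an element of A with d a = 0 is a constant, and every d-closed element of ⋀^(p+1) Ω is d of some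
element of ⋀^p Ω. -/
theorem result (k : Type u) [Field k] [CharZero k] (n : ℕ)
    (d : ExteriorAlgebra (MvPolynomial (Fin n) k) (KaehlerDifferential k (MvPolynomial (Fin n) k)) →ₗ[k]
      ExteriorAlgebra (MvPolynomial (Fin n) k) (KaehlerDifferential k (MvPolynomial (Fin n) k)))
    (h0 : ∀ a : MvPolynomial (Fin n) k,
      d (algebraMap (MvPolynomial (Fin n) k) _ a) =
        ExteriorAlgebra.ι (MvPolynomial (Fin n) k) (KaehlerDifferential.D k (MvPolynomial (Fin n) k) a))
    (hdeg : ∀ (p : ℕ) (ω : ExteriorAlgebra (MvPolynomial (Fin n) k) (KaehlerDifferential k (MvPolynomial (Fin n) k))),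
      ω ∈ ExteriorAlgebra.exteriorPower (MvPolynomial (Fin n) k) p (KaehlerDifferential k (MvPolynomial (Fin n) k)) →
        d ω ∈ ExteriorAlgebra.exteriorPower (MvPolynomial (Fin n) k) (p + 1) (KaehlerDifferential k (MvPolynomial (Fin n) k)))
    (hder : ∀ (p : ℕ) (ω η : ExteriorAlgebra (MvPolynomial (Fin n) k) (KaehlerDifferential k (MvPolynomial (Fin n) k))),
      ω ∈ ExteriorAlgebra.exteriorPower (MvPolynomial (Fin n) k) p (KaehlerDifferential k (MvPolynomial (Fin n) k)) →
        d (ω * η) = d ω * η + (-1) ^ p * ω * d η)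
    (hdd : ∀ ω, d (d ω) = 0) :
    (∀ a : MvPolynomial (Fin n) k, d (algebraMap (MvPolynomial (Fin n) k) _ a) = 0 →
        ∃ c : k, a = MvPolynomial.C c) ∧
    ∀ (p : ℕ) (ω : ExteriorAlgebra (MvPolynomial (Fin n) k) (KaehlerDifferential k (MvPolynomial (Fin n) k))),
      ω ∈ ExteriorAlgebra.exteriorPower (MvPolynomial (Fin n) k) (p + 1) (KaehlerDifferential k (MvPolynomial (Fin n) k)) →
        d ω = 0 →
          ∃ θ ∈ ExteriorAlgebra.exteriorPower (MvPolynomial (Fin n) k) p (KaehlerDifferential k (MvPolynomial (Fin n) k)),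
            d θ = ω := by
  constructor
  · intro a ha
    rw [h0] at ha
    have : KaehlerDifferential.D k (MvPolynomial (Fin n) k) a = 0 := by
      apply (ExteriorAlgebra.ι_leftInverse (R := MvPolynomial (Fin n) k)).injective
      rw [ha, map_zero]
    exact const_of_D_eq_zero a this
  · -- rules
    have d_smul : ∀ (g : MvPolynomial (Fin n) k) (x : ExteriorAlgebra (MvPolynomial (Fin n) k)
        (KaehlerDifferential k (MvPolynomial (Fin n) k))),
        d (g • x) = ExteriorAlgebra.ι _ (KaehlerDifferential.D k _ g) * x + g • d x := by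
      intro g x
      have hm : algebraMap (MvPolynomial (Fin n) k) (ExteriorAlgebra (MvPolynomial (Fin n) k)
          (KaehlerDifferential k (MvPolynomial (Fin n) k))) g ∈
          ExteriorAlgebra.exteriorPower (MvPolynomial (Fin n) k) 0
            (KaehlerDifferential k (MvPolynomial (Fin n) k)) := by
        change _ ∈ (LinearMap.range (ExteriorAlgebra.ι (MvPolynomial (Fin n) k))) ^ 0
        rw [pow_zero, Submodule.mem_one]
        exact ⟨g, rfl⟩
      have := hder 0 _ x hm
      rw [h0, pow_zero, one_mul, ← Algebra.smul_def, ← Algebra.smul_def] at this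
      exact this
    have d_ι : ∀ (g : MvPolynomial (Fin n) k) (x : ExteriorAlgebra (MvPolynomial (Fin n) k)
        (KaehlerDifferential k (MvPolynomial (Fin n) k))),
        d (ExteriorAlgebra.ι _ (KaehlerDifferential.D k _ g) * x) =
          -(ExteriorAlgebra.ι _ (KaehlerDifferential.D k _ g) * d x) := by
      intro g x
      have hm : ExteriorAlgebra.ι (MvPolynomial (Fin n) k) (KaehlerDifferential.D k _ g) ∈
          ExteriorAlgebra.exteriorPower (MvPolynomial (Fin n) k) 1
            (KaehlerDifferential k (MvPolynomial (Fin n) k)) := by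
        change _ ∈ (LinearMap.range (ExteriorAlgebra.ι (MvPolynomial (Fin n) k))) ^ 1
        rw [pow_one]
        exact LinearMap.mem_range_self _ _
      have := hder 1 _ x hm
      rw [← h0, hdd, zero_mul, zero_add, pow_one, neg_one_mul, neg_mul, h0] at this
      exact this
    have d_one : d 1 = 0 := by
      have := h0 1
      rw [map_one, Derivation.map_one_eq_zero, map_zero] at this
      exact this
    have d_gw : ∀ (p : ℕ) (b : Fin p → MvPolynomial (Fin n) k),
        d (gw (KaehlerDifferential.D k (MvPolynomial (Fin n) k)) p b) = 0 := by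
      intro p
      induction p with
      | zero => intro b; rw [gw_zero, d_one]
      | succ p ih =>
        intro b
        have e1 : gw (KaehlerDifferential.D k (MvPolynomial (Fin n) k)) (p + 1) b =
            ExteriorAlgebra.ι _ (KaehlerDifferential.D k _ (b 0)) *
              gw (KaehlerDifferential.D k (MvPolynomial (Fin n) k)) p (fun j => b j.succ) := by
          unfold gw
          rw [ιMulti_succ]
        rw [e1, d_ι, ih, mul_zero, neg_zero]
    -- degreewise family
    let d' : ∀ p : ℕ, ↥(⋀[MvPolynomial (Fin n) k]^p (KaehlerDifferential k (MvPolynomial (Fin n) k))) →ₗ[k]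
        ↥(⋀[MvPolynomial (Fin n) k]^(p + 1) (KaehlerDifferential k (MvPolynomial (Fin n) k))) :=
      fun p =>
        { toFun := fun y => ⟨d y, hdeg p y y.2⟩
          map_add' := fun x y => by
            apply Subtype.ext
            simp
          map_smul' := fun c x => by
            apply Subtype.ext
            change d ((c • x : ↥(⋀[MvPolynomial (Fin n) k]^p _)) : ExteriorAlgebra _ _) = c • d x
            rw [← map_smul]
            rfl }
    have hd'coe : ∀ (p : ℕ) (y : ↥(⋀[MvPolynomial (Fin n) k]^p
        (KaehlerDifferential k (MvPolynomial (Fin n) k)))),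
        ((d' p y : ↥(⋀[MvPolynomial (Fin n) k]^(p + 1) _)) : ExteriorAlgebra _ _) = d y :=
      fun p y => rfl
    have hd' : DeRham.IsDiff (KaehlerDifferential.D k (MvPolynomial (Fin n) k)) d' := by
      constructor
      · intro p b₀ b
        apply Subtype.ext
        rw [hd'coe, gen_coe, d_smul, d_gw, smul_zero, add_zero, exteriorPower.ιMulti_apply_coe,
          ιMulti_succ]
        simp [gw]
      · intro p
        apply LinearMap.ext
        intro y
        apply Subtype.ext
        simp only [LinearMap.comp_apply, LinearMap.zero_apply]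
        rw [hd'coe, hd'coe, hdd]
        rfl
    intro p ω hω hdω
    have hmem : (⟨ω, hω⟩ : ↥(⋀[MvPolynomial (Fin n) k]^(p + 1)
        (KaehlerDifferential k (MvPolynomial (Fin n) k)))) ∈ DeRham.cocycles d' (p + 1) := by
      change d' (p + 1) ⟨ω, hω⟩ = 0
      apply Subtype.ext
      rw [hd'coe]
      exact hdω
    obtain ⟨z, hz⟩ := poincare d' hd' p hmem
    refine ⟨z, z.2, ?_⟩
    have := congrArg Subtype.val hz
    rw [hd'coe] at this
    exact this

end Groth.Agent.S15299
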