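import Groth.Statements.S15527
import Groth.Agent.Lib.Helper29.HyperAcyclic
import Groth.Agent.Lib.Helper29.SemilinExt
import Groth.Agent.Lib.Helper29.DeRhamVanish1
import Groth.Agent.Lib.Helper29.DeRhamVanish3
import Groth.Agent.Lib.helper19.RestrUniv
import Groth.Agent.Lib.Helper29.OmegaUniv
import Groth.Agent.Lib.Helper29.OmegaCan
import Groth.Agent.Lib.Helper17.AffineVanish
import Groth.Agent.Lib.Helper24.DeRhamLemmas
import Groth.Prelude.Def_FreeSh

set_option autoImplicit false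
universe u
open DeRhamSh

namespace Groth.Agent.S15527



section Helpers

open CategoryTheory CategoryTheory.Limits AlgebraicGeometry Opposite TopologicalSpace exteriorPower
open Groth.Agent.Lib.Helper29 Groth.Agent.Lib.Helper29.HyperAcyclic

variable {X S : Scheme.{u}} {f : X ⟶ S} {Ω' : X.Modules} {δ : OmegaSh.Der f Ω'}

/-- the free abelian sheaf `ℤ_X` -/
noncomputable abbrev TT (X : Scheme.{u}) : Sheaf (Opens.grothendieckTopology X) AddCommGrpCat.{u} :=
  CohCx.freeSheaf (Opens.grothendieckTopology X) (⊤ : X.Opens)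

/-- the extended complex is bounded below by `0` with acyclic terms, on an affine scheme with
quasi-coherent terms -/
theorem nice_KZ [IsAffine X] (D : DeRhamSh.Cx f Ω' δ) [Ω'.IsQuasicoherent]
    [HasDerivedCategory.{u} (Sheaf (Opens.grothendieckTopology X) AddCommGrpCat.{u})] :
    Nice (TT X) D.KZ 0 where
  lo p hp := by
    refine D.K.isZero_extend_X ComplexShape.embeddingUpNat p ?_
    intro m hm
    have : (m : ℤ) = p := hm
    omega
  acyc p := by
    by_cases hp : p < 0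
    · refine acyc_of_isZero _ (D.K.isZero_extend_X ComplexShape.embeddingUpNat p ?_)
      intro m hm
      have : (m : ℤ) = p := hm
      omega
    · obtain ⟨m, rfl⟩ : ∃ m : ℕ, (m : ℤ) = p := ⟨p.toNat, by omega⟩
      refine Acyc.of_iso (TT X) ((D.iso m).symm ≪≫
        (D.K.extendXIso ComplexShape.embeddingUpNat (i := m) rfl).symm) ?_
      refine acyc_of_ext.{u} (TT X) _ fun q hq => ?_
      refine DeRhamVanish.subsingleton_ext_free _ q ?_
      haveI := DeRhamVanish.isQuasicoherent_term D m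
      obtain ⟨q', rfl⟩ : ∃ q' : ℕ, q = q' + 1 := ⟨q - 1, by omega⟩
      exact Groth.Agent.Lib.Helper17.AffineVanish.subsingleton_H_of_isAffine (D.term m) q'

section Sections

lemma iso_inv_hom_app {F G : Sheaf (Opens.grothendieckTopology X) AddCommGrpCat.{u}}
    (e : F ≅ G) (U : X.Opens) (x : F.obj.obj (op U)) :
    e.inv.hom.app (op U) (e.hom.hom.app (op U) x) = x := by
  have h := congrArg (fun t => t.hom.app (op U)) e.hom_inv_id
  exact ConcreteCategory.congr_hom h x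

lemma iso_hom_inv_app {F G : Sheaf (Opens.grothendieckTopology X) AddCommGrpCat.{u}}
    (e : F ≅ G) (U : X.Opens) (x : G.obj.obj (op U)) :
    e.hom.hom.app (op U) (e.inv.hom.app (op U) x) = x := by
  have h := congrArg (fun t => t.hom.app (op U)) e.inv_hom_id
  exact ConcreteCategory.congr_hom h x

lemma evalGen_comp {F G : Sheaf (Opens.grothendieckTopology X) AddCommGrpCat.{u}} (U : X.Opens)
    (φ : CohCx.freeSheaf (Opens.grothendieckTopology X) U ⟶ F) (g : F ⟶ G) :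
    CohFree.evalGen (Opens.grothendieckTopology X) U G (φ ≫ g) =
      g.hom.app (op U) (CohFree.evalGen (Opens.grothendieckTopology X) U F φ) := rfl

variable (D : DeRhamSh.Cx f Ω' δ)

/-- `KZ^p ≅ K^p` for `p ≥ 0` -/
noncomputable abbrev ξ (p : ℕ) : D.KZ.X (p : ℤ) ≅ D.K.X p :=
  D.K.extendXIso ComplexShape.embeddingUpNat (i := p) rfl

lemma KZ_d (p : ℕ) : D.KZ.d (p : ℤ) ((p + 1 : ℕ) : ℤ) =
    (ξ D p).hom ≫ D.K.d p (p + 1) ≫ (ξ D (p + 1)).inv :=
  D.K.extend_d_eq ComplexShape.embeddingUpNat (i := p) (j := p + 1) rfl rfl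

/-- the differential on global sections of the terms -/
noncomputable def dSec (p : ℕ) (x : Γ(D.term p, ⊤)) : Γ(D.term (p + 1), ⊤) :=
  (D.iso (p + 1)).hom.hom.app (op ⊤)
    ((D.K.d p (p + 1)).hom.app (op ⊤) ((D.iso p).inv.hom.app (op ⊤) x))

lemma dSec_add (p : ℕ) (u v : Γ(D.term p, ⊤)) : dSec D p (u + v) = dSec D p u + dSec D p v := by
  have e1 : (D.iso p).inv.hom.app (op ⊤) (u + v) =
      (D.iso p).inv.hom.app (op ⊤) u + (D.iso p).inv.hom.app (op ⊤) v :=
    map_add ((D.iso p).inv.hom.app (op ⊤)).hom u v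
  unfold dSec
  rw [e1, map_add]
  exact map_add ((D.iso (p + 1)).hom.hom.app (op ⊤)).hom _ _

lemma dSec_zero (p : ℕ) : dSec D p 0 = 0 := by
  have e1 : (D.iso p).inv.hom.app (op ⊤) (0 : Γ(D.term p, ⊤)) = 0 :=
    map_zero ((D.iso p).inv.hom.app (op ⊤)).hom
  unfold dSec
  rw [e1, map_zero]
  exact map_zero ((D.iso (p + 1)).hom.hom.app (op ⊤)).hom

/-- global sections of the terms as morphisms out of `ℤ_X` -/
noncomputable def secEquiv (p : ℕ) : (TT X ⟶ D.KZ.X (p : ℤ)) ≃+ Γ(D.term p, ⊤) where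
  toFun φ := (D.iso p).hom.hom.app (op ⊤)
    (CohFree.evalGen (Opens.grothendieckTopology X) ⊤ (D.K.X p) (φ ≫ (ξ D p).hom))
  invFun x := CohFree.ofSect (Opens.grothendieckTopology X) ⊤ (D.K.X p)
    ((D.iso p).inv.hom.app (op ⊤) x) ≫ (ξ D p).inv
  left_inv φ := by
    change CohFree.ofSect (Opens.grothendieckTopology X) ⊤ (D.K.X p)
      ((D.iso p).inv.hom.app (op ⊤) ((D.iso p).hom.hom.app (op ⊤) _)) ≫ (ξ D p).inv = φ
    rw [iso_inv_hom_app, CohFree.ofSect_evalGen, Category.assoc, Iso.hom_inv_id, Category.comp_id]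
  right_inv x := by
    change (D.iso p).hom.hom.app (op ⊤) (CohFree.evalGen (Opens.grothendieckTopology X) ⊤ (D.K.X p)
      ((CohFree.ofSect (Opens.grothendieckTopology X) ⊤ (D.K.X p) _ ≫ (ξ D p).inv) ≫ (ξ D p).hom)) = x
    rw [Category.assoc, Iso.inv_hom_id, Category.comp_id, CohFree.evalGen_ofSect, iso_hom_inv_app]
  map_add' φ ψ := by
    change (D.iso p).hom.hom.app (op ⊤) (CohFree.evalGen (Opens.grothendieckTopology X) ⊤ (D.K.X p)
      ((φ + ψ) ≫ (ξ D p).hom)) = _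
    rw [Preadditive.add_comp, map_add, map_add]
    rfl

lemma secEquiv_apply (p : ℕ) (φ : TT X ⟶ D.KZ.X (p : ℤ)) :
    secEquiv D p φ = (D.iso p).hom.hom.app (op ⊤)
      (CohFree.evalGen (Opens.grothendieckTopology X) ⊤ (D.K.X p) (φ ≫ (ξ D p).hom)) := rfl

/-- compatibility of `secEquiv` with the differentials -/
lemma secEquiv_d (p : ℕ) (φ : TT X ⟶ D.KZ.X (p : ℤ)) :
    secEquiv D (p + 1) (φ ≫ D.KZ.d (p : ℤ) ((p + 1 : ℕ) : ℤ)) = dSec D p (secEquiv D p φ) := by
  rw [secEquiv_apply, secEquiv_apply, dSec, iso_inv_hom_app, KZ_d]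
  have : (φ ≫ (ξ D p).hom ≫ D.K.d p (p + 1) ≫ (ξ D (p + 1)).inv) ≫ (ξ D (p + 1)).hom =
      (φ ≫ (ξ D p).hom) ≫ D.K.d p (p + 1) := by
    simp only [Category.assoc, Iso.inv_hom_id, Category.comp_id]
  erw [this]
  rw [evalGen_comp]

end Sections

section Affine

open Groth.Agent.Lib.Helper29.SemilinExt

variable (R A : Type u) [CommRing R] [CommRing A] [Algebra R A]

/-- the structure morphism -/
noncomputable abbrev ff : Spec (CommRingCat.of A) ⟶ Spec (CommRingCat.of R) :=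
  Spec.map (CommRingCat.ofHom (algebraMap R A))

/-- `A ≃ Γ(Spec A, ⊤)` -/
noncomputable abbrev γA : A ≃+* Γ(Spec (CommRingCat.of A), ⊤) :=
  (Scheme.ΓSpecIso (CommRingCat.of A)).symm.commRingCatIsoToRingEquiv

lemma top_le : (⊤ : (Spec (CommRingCat.of A)).Opens) ≤ (ff R A) ⁻¹ᵁ ⊤ := le_top

lemma hsq (r : R) : letI := OmegaLoc.alg (ff R A) (top_le R A)
    γA A (algebraMap R A r) =
      algebraMap Γ(Spec (CommRingCat.of R), ⊤) Γ(Spec (CommRingCat.of A), ⊤) (γA R r) := by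
  letI := OmegaLoc.alg (ff R A) (top_le R A)
  have h := Scheme.ΓSpecIso_inv_naturality (CommRingCat.ofHom (algebraMap R A))
  have h2 := ConcreteCategory.congr_hom h r
  change (Scheme.ΓSpecIso (CommRingCat.of A)).inv.hom (algebraMap R A r) =
    ((ff R A).appLE ⊤ ⊤ (top_le R A)).hom ((Scheme.ΓSpecIso (CommRingCat.of R)).inv.hom r)
  have h3 : (ff R A).appLE ⊤ ⊤ (top_le R A) = (ff R A).appTop :=
    (Scheme.Hom.app_eq_appLE (f := ff R A) (U := ⊤)).symm
  rw [h3]
  exact h2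

/-- the semilinear identification `Ω[A/R] ≃ Γ(Ω_{X/S}, ⊤)` -/
theorem exists_omega :
    ∃ ω : Ω[A⁄R] ≃+ Γ(Omega.sheaf (ff R A), ⊤),
      (∀ (a : A) (x : Ω[A⁄R]), ω (a • x) = γA A a • ω x) ∧
      ∀ a : A, ω (KaehlerDifferential.D R A a) = OmegaSh.dSect (ff R A) ⊤ (γA A a) := by
  letI := OmegaLoc.alg (ff R A) (top_le R A)
  obtain ⟨κ, hκs, hκD⟩ := exists_kaehler_equiv (γA R) (γA A) (hsq R A)
  obtain ⟨Φ, hΦs, hΦD⟩ := OmegaCan.exists_sections_equiv_can (ff R A)
    (isAffineOpen_top (Spec (CommRingCat.of A))) (isAffineOpen_top (Spec (CommRingCat.of R)))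
    (top_le R A)
  refine ⟨κ.trans Φ.symm, fun a x => ?_, fun a => ?_⟩
  · apply Φ.injective
    rw [AddEquiv.trans_apply, AddEquiv.apply_symm_apply, hΦs, AddEquiv.trans_apply,
      AddEquiv.apply_symm_apply, hκs]
  · apply Φ.injective
    rw [AddEquiv.trans_apply, AddEquiv.apply_symm_apply, hΦD, hκD]

/-- the affine open `⊤` -/
noncomputable abbrev U₀ : (Spec (CommRingCat.of A)).affineOpens :=
  ⟨⊤, isAffineOpen_top (Spec (CommRingCat.of A))⟩

/-- **the comparison of the complex of global sections with the ring-level de Rham complex** -/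
theorem exists_theta (D : DeRhamSh.OmegaCx (ff R A))
    (d : ∀ p : ℕ, ↥(⋀[A]^p (Ω[A⁄R])) →ₗ[R] ↥(⋀[A]^(p + 1) (Ω[A⁄R])))
    (hd : DeRham.IsDiff (KaehlerDifferential.D R A) d) :
    ∃ Θ : ∀ p : ℕ, (TT (Spec (CommRingCat.of A)) ⟶ D.KZ.X (p : ℤ)) ≃+ ↥(⋀[A]^p (Ω[A⁄R])),
      ∀ (p : ℕ) (φ : TT (Spec (CommRingCat.of A)) ⟶ D.KZ.X (p : ℤ)),
        Θ (p + 1) (φ ≫ D.KZ.d (p : ℤ) ((p + 1 : ℕ) : ℤ)) = d p (Θ p φ) := by
  obtain ⟨ω, hωs, hωD⟩ := exists_omega R A
  choose Ψ hΨs hΨι using fun p => exists_extEquiv (γA A) ω hωs p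
  -- the key compatibility
  have key : ∀ (p : ℕ) (x : ↥(⋀[A]^p (Ω[A⁄R]))),
      dSec D p ((D.loc p (U₀ A)).symm (Ψ p x)) = (D.loc (p + 1) (U₀ A)).symm (Ψ (p + 1) (d p x)) := by
    intro p
    refine Groth.Agent.Lib.Helper24.DeRhamL.kaehler_induction (fun b₀ b => ?_) ?_ ?_
    · have h1 : Ψ p (DeRham.gen (KaehlerDifferential.D R A) p b₀ b) =
          γA A b₀ • ιMulti _ p (fun i => (OmegaSh.dOmega (ff R A)).app (U₀ A).1 (γA A (b i))) := by
        rw [DeRham.gen, hΨs, hΨι]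
        congr 2
        funext i
        exact hωD (b i)
      have h2 : Ψ (p + 1) (d p (DeRham.gen (KaehlerDifferential.D R A) p b₀ b)) =
          ιMulti _ (p + 1) (Fin.cons ((OmegaSh.dOmega (ff R A)).app (U₀ A).1 (γA A b₀))
            (fun i => (OmegaSh.dOmega (ff R A)).app (U₀ A).1 (γA A (b i)))) := by
        rw [hd.1 p b₀ b, hΨι]
        congr 1
        funext i
        refine Fin.cases ?_ (fun j => ?_) i
        · simp only [Fin.cons_zero]
          exact hωD b₀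
        · simp only [Fin.cons_succ]
          exact hωD (b j)
      rw [h1, h2, dSec, D.rule p (U₀ A) (γA A b₀) (fun i => γA A (b i)), iso_hom_inv_app]
    · rw [map_zero, map_zero, map_zero, map_zero, dSec_zero, map_zero]
    · intro x y hx hy
      rw [map_add, map_add, dSec_add, hx, hy, map_add, map_add, map_add]
  refine ⟨fun p => (secEquiv D p).trans ((D.loc p (U₀ A)).toAddEquiv.trans (Ψ p).symm), ?_⟩
  intro p φ
  change (Ψ (p + 1)).symm ((D.loc (p + 1) (U₀ A)) (secEquiv D (p + 1) _)) =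
    d p ((Ψ p).symm ((D.loc p (U₀ A)) (secEquiv D p φ)))
  rw [secEquiv_d]
  apply (Ψ (p + 1)).injective
  rw [AddEquiv.apply_symm_apply]
  apply (D.loc (p + 1) (U₀ A)).symm.injective
  rw [LinearEquiv.symm_apply_apply, ← key, AddEquiv.apply_symm_apply, LinearEquiv.symm_apply_apply]

variable {R A}

/-- transport of the cohomology, given the abstract comparison -/
theorem final_aux (D : DeRhamSh.OmegaCx (ff R A))
    [HasDerivedCategory.{u} (Sheaf (Opens.grothendieckTopology ↥(Spec (CommRingCat.of A))) AddCommGrpCat.{u})]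
    (hN : Nice (TT (Spec (CommRingCat.of A))) D.KZ 0)
    (d : ∀ p : ℕ, ↥(⋀[A]^p (Ω[A⁄R])) →ₗ[R] ↥(⋀[A]^(p + 1) (Ω[A⁄R])))
    (hd : DeRham.IsDiff (KaehlerDifferential.D R A) d)
    (Θ : ∀ p : ℕ, (TT (Spec (CommRingCat.of A)) ⟶ D.KZ.X (p : ℤ)) ≃+ ↥(⋀[A]^p (Ω[A⁄R])))
    (hΘ : ∀ (p : ℕ) (φ : TT (Spec (CommRingCat.of A)) ⟶ D.KZ.X (p : ℤ)),
        Θ (p + 1) (φ ≫ D.KZ.d (p : ℤ) ((p + 1 : ℕ) : ℤ)) = d p (Θ p φ))
    (n i : ℕ) (j : ℤ) (hj : j + 1 = (n : ℤ)) (hprev : (ComplexShape.up ℕ).prev n = i)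
    (hB : ∀ x : cocycleSub (TT (Spec (CommRingCat.of A))) D.KZ (n : ℤ),
      x ∈ coboundSub (TT (Spec (CommRingCat.of A))) D.KZ j (n : ℤ) ↔
        ∃ z : (DeRham.cx hd).X i, ((DeRham.cx hd).d i n).hom z = Θ n x.1) :
    Nonempty (DeRhamSh.HdR D (n : ℤ) ≃+ ↑(DeRham.H hd n)) := by
  let S := (DeRham.cx hd).sc' i n (n + 1)
  have hEd' : ∀ p : ℕ, (DeRham.cx hd).d p (p + 1) = ModuleCat.ofHom (d p) := fun p =>
    CochainComplex.of_d (fun p => ModuleCat.of R ↥(⋀[A]^p (Ω[A⁄R]))) (fun p => ModuleCat.ofHom (d p)) p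
  have hEd : ∀ (p : ℕ) (y : ↥(⋀[A]^p (Ω[A⁄R]))), ((DeRham.cx hd).d p (p + 1)).hom y = d p y := fun p y => by
    rw [hEd' p]
    rfl
  let Θ' : ∀ p : ℕ, (TT (Spec (CommRingCat.of A)) ⟶ D.KZ.X (p : ℤ)) → (DeRham.cx hd).X p := fun p φ => Θ p φ
  have hcyc : ∀ x : cocycleSub (TT (Spec (CommRingCat.of A))) D.KZ (n : ℤ),
      Θ' n x.1 ∈ LinearMap.ker S.g.hom := by
    intro x
    have h0 : ((DeRham.cx hd).d n (n + 1)).hom (Θ n x.1) = 0 := by
      rw [hEd, ← hΘ]
      have hx : x.1 ≫ D.KZ.d (n : ℤ) ((n + 1 : ℕ) : ℤ) = 0 := x.2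
      rw [hx, map_zero]
      rfl
    exact h0
  let π : cocycleSub (TT (Spec (CommRingCat.of A))) D.KZ (n : ℤ) →+
      (LinearMap.ker S.g.hom ⧸ LinearMap.range S.moduleCatToCycles) :=
    { toFun := fun x => Submodule.Quotient.mk ⟨Θ' n x.1, hcyc x⟩
      map_zero' := by
        rw [← Submodule.Quotient.mk_zero]
        congr 1
        exact Subtype.ext (map_zero (Θ n))
      map_add' := fun x y => by
        rw [← Submodule.Quotient.mk_add]
        congr 1
        exact Subtype.ext (map_add (Θ n) x.1 y.1) }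
  have hπs : Function.Surjective π := by
    intro y
    obtain ⟨⟨y, hy⟩, rfl⟩ := Submodule.Quotient.mk_surjective _ y
    have hy' : d n y = 0 := by
      rw [← hEd]
      exact hy
    have hc : (Θ n).symm y ∈ cocycleSub (TT (Spec (CommRingCat.of A))) D.KZ (n : ℤ) := by
      change (Θ n).symm y ≫ D.KZ.d (n : ℤ) ((n + 1 : ℕ) : ℤ) = 0
      apply (Θ (n + 1)).injective
      rw [hΘ, AddEquiv.apply_symm_apply, hy', map_zero]
    refine ⟨⟨(Θ n).symm y, hc⟩, ?_⟩
    change Submodule.Quotient.mk _ = Submodule.Quotient.mk _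
    congr 1
    exact Subtype.ext ((Θ n).apply_symm_apply y)
  have hπk : ∀ x, π x = 0 ↔ x ∈ coboundSub (TT (Spec (CommRingCat.of A))) D.KZ j (n : ℤ) := by
    intro x
    rw [hB x]
    change Submodule.Quotient.mk _ = 0 ↔ _
    rw [Submodule.Quotient.mk_eq_zero, LinearMap.mem_range]
    constructor
    · rintro ⟨z, hz⟩
      exact ⟨z, congrArg Subtype.val hz⟩
    · rintro ⟨z, hz⟩
      exact ⟨z, Subtype.ext hz⟩
  have isoH : (DeRham.cx hd).homology n ≅
      ModuleCat.of R (LinearMap.ker S.g.hom ⧸ LinearMap.range S.moduleCatToCycles) :=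
    ShortComplex.homologyMapIso ((DeRham.cx hd).isoSc' i n (n + 1) hprev (by simp)) ≪≫ S.moduleCatHomologyIso
  exact ⟨((hyperQuotEquiv (TT (Spec (CommRingCat.of A))) D.KZ 0 hN j (n : ℤ) hj).trans
    (quotEquivOfSurjective (TT (Spec (CommRingCat.of A))) D.KZ j (n : ℤ) π hπs hπk)).trans
    isoH.symm.toLinearEquiv.toAddEquiv⟩

end Affine

end Helpers

open CategoryTheory AlgebraicGeometry exteriorPower in
/-- For a ring map R → A with X = Spec A → S = Spec R, a de Rham complex D of the sheaf of differentials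
of X → S and a de Rham differential d of the Kähler differentials of A over R, the de Rham
cohomology group H^n(X, D) = H^n_dR(X/S) is isomorphic, as an additive group, to the n-th cohomology
of the ring-level de Rham complex (⋀^• Ω_{A/R}, d), for every n ≥ 0. (Existence of an additive
isomorphism only: the published statement is a canonical identification, and it also identifies
RΓ(X, Ω^•_{X/S}) with Ω^•_{A/R} in D(R), which is not stated here.) -/
theorem result (R A : Type u) [CommRing R] [CommRing A] [Algebra R A]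
    (D : DeRhamSh.OmegaCx (Spec.map (CommRingCat.ofHom (algebraMap R A))))
    [HasDerivedCategory.{u} (Sheaf (Opens.grothendieckTopology ↥(Spec (CommRingCat.of A))) AddCommGrpCat.{u})]
    (d : ∀ p : ℕ, ↥(⋀[A]^p (Ω[A⁄R])) →ₗ[R] ↥(⋀[A]^(p + 1) (Ω[A⁄R])))
    (hd : DeRham.IsDiff (KaehlerDifferential.D R A) d) (n : ℕ) :
    Nonempty (DeRhamSh.HdR D (n : ℤ) ≃+ ↑(DeRham.H hd n)) := by
  haveI : (Omega.sheaf (ff R A)).IsQuasicoherent :=
    Groth.Agent.Lib.Helper19.RestrUniv.isQuasicoherent (ff R A) (OmegaSh.dOmega (ff R A))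
      (Groth.Agent.Lib.Helper29.OmegaUniv.isUniversal_dOmega (ff R A))
  have hN := nice_KZ D
  obtain ⟨Θ, hΘ⟩ := exists_theta R A D d hd
  cases n with
  | zero =>
    refine final_aux D hN d hd Θ hΘ 0 0 (-1) (by simp) (by simp) ?_
    intro x
    have hz : CategoryTheory.Limits.IsZero (D.KZ.X (-1)) := hN.lo (-1) (by omega)
    have hd0 : (DeRham.cx hd).d 0 0 = 0 := (DeRham.cx hd).shape 0 0 (by simp)
    constructor
    · rintro ⟨g, hg⟩
      refine ⟨0, ?_⟩
      rw [hd0]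
      have : x.1 = 0 := by rw [← hg, hz.eq_of_tgt g 0, CategoryTheory.Limits.zero_comp]
      rw [this, map_zero]
      exact (map_zero (Θ 0)).symm
    · rintro ⟨z, hz'⟩
      rw [hd0] at hz'
      have : x.1 = 0 := by
        apply (Θ 0).injective
        rw [map_zero]
        exact hz'.symm
      exact ⟨0, by rw [CategoryTheory.Limits.zero_comp, this]⟩
  | succ m =>
    refine final_aux D hN d hd Θ hΘ (m + 1) m (m : ℤ) (by simp) (by simp) ?_
    intro x
    have hEd : ∀ (y : ↥(⋀[A]^m (Ω[A⁄R]))), ((DeRham.cx hd).d m (m + 1)).hom y = d m y := fun y => by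
      have : (DeRham.cx hd).d m (m + 1) = ModuleCat.ofHom (d m) :=
        CochainComplex.of_d (fun p => ModuleCat.of R ↥(⋀[A]^p (Ω[A⁄R])))
          (fun p => ModuleCat.ofHom (d p)) m
      rw [this]
      rfl
    constructor
    · rintro ⟨g, hg⟩
      refine ⟨Θ m g, ?_⟩
      rw [hEd, ← hΘ]
      exact congrArg (Θ (m + 1)) hg
    · rintro ⟨z, hz⟩
      refine ⟨(Θ m).symm z, ?_⟩
      apply (Θ (m + 1)).injective
      have h1 := hΘ m ((Θ m).symm z)
      rw [AddEquiv.apply_symm_apply] at h1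
      rw [← hEd] at h1
      exact h1.trans hz



end Groth.Agent.S15527
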