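import Groth.Statements.S15311
import Groth.Agent.S15527
import Groth.Agent.Lib.Helper29.DeRhamRing

set_option autoImplicit false
universe u
open DeRhamSh

namespace Groth.Agent.S15311



section Helpers

open CategoryTheory CategoryTheory.Limits AlgebraicGeometry Opposite TopologicalSpace exteriorPower
open Groth.Agent.Lib.Helper29 Groth.Agent.Lib.Helper29.HyperAcyclic Groth.Agent.S15527
  Groth.Agent.Lib.Helper29.SemilinExt Groth.Agent.Lib.Helper29.DeRhamRing

variable (R A : Type u) [CommRing R] [CommRing A] [Algebra R A]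

/-- a de Rham complex of sheaves on `Spec A` gives a ring-level de Rham differential -/
theorem exists_isDiff_of_cx (D : DeRhamSh.OmegaCx (ff R A)) :
    ∃ d : ∀ p : ℕ, ↥(⋀[A]^p (Ω[A⁄R])) →ₗ[R] ↥(⋀[A]^(p + 1) (Ω[A⁄R])),
      DeRham.IsDiff (KaehlerDifferential.D R A) d := by
  obtain ⟨ω, hωs, hωD⟩ := exists_omega R A
  choose Ψ hΨs hΨι using fun p => exists_extEquiv (γA A) ω hωs p
  let δ : ∀ p : ℕ, ↥(⋀[A]^p (Ω[A⁄R])) → ↥(⋀[A]^(p + 1) (Ω[A⁄R])) := fun p x =>
    (Ψ (p + 1)).symm ((D.loc (p + 1) (U₀ A)) (dSec D p ((D.loc p (U₀ A)).symm (Ψ p x))))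
  have hδadd : ∀ p x y, δ p (x + y) = δ p x + δ p y := by
    intro p x y
    simp only [δ, map_add, dSec_add]
  have hδzero : ∀ p, δ p 0 = 0 := by
    intro p
    simp only [δ, map_zero, dSec_zero]
  have hrule : ∀ (p : ℕ) (b₀ : A) (b : Fin p → A),
      δ p (DeRham.gen (KaehlerDifferential.D R A) p b₀ b) =
        ιMulti A (p + 1) (Fin.cons (KaehlerDifferential.D R A b₀)
          (fun i => KaehlerDifferential.D R A (b i))) := by
    intro p b₀ b
    have h1 : Ψ p (DeRham.gen (KaehlerDifferential.D R A) p b₀ b) =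
        γA A b₀ • ιMulti _ p (fun i => (OmegaSh.dOmega (ff R A)).app (U₀ A).1 (γA A (b i))) := by
      rw [DeRham.gen, hΨs, hΨι]
      congr 2
      funext i
      exact hωD (b i)
    have h2 : Ψ (p + 1) (ιMulti A (p + 1) (Fin.cons (KaehlerDifferential.D R A b₀)
          (fun i => KaehlerDifferential.D R A (b i)))) =
        ιMulti _ (p + 1) (Fin.cons ((OmegaSh.dOmega (ff R A)).app (U₀ A).1 (γA A b₀))
          (fun i => (OmegaSh.dOmega (ff R A)).app (U₀ A).1 (γA A (b i)))) := by
      rw [hΨι]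
      congr 1
      funext i
      refine Fin.cases ?_ (fun j => ?_) i
      · simp only [Fin.cons_zero]
        exact hωD b₀
      · simp only [Fin.cons_succ]
        exact hωD (b j)
    change (Ψ (p + 1)).symm ((D.loc (p + 1) (U₀ A)) (dSec D p ((D.loc p (U₀ A)).symm (Ψ p _)))) = _
    rw [h1, dSec, D.rule p (U₀ A) (γA A b₀) (fun i => γA A (b i)), iso_hom_inv_app,
      LinearEquiv.apply_symm_apply, ← h2, AddEquiv.symm_apply_apply]
  have hlin : ∀ (p : ℕ) (r : R) (x : ↥(⋀[A]^p (Ω[A⁄R]))), δ p (r • x) = r • δ p x := by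
    intro p r
    refine Groth.Agent.Lib.Helper24.DeRhamL.kaehler_induction (fun b₀ b => ?_) ?_ ?_
    · have h3 : r • DeRham.gen (KaehlerDifferential.D R A) p b₀ b =
          DeRham.gen (KaehlerDifferential.D R A) p (r • b₀) b := by
        rw [DeRham.gen, DeRham.gen, smul_assoc]
      rw [h3, hrule, hrule, Derivation.map_smul, ← algebraMap_smul A r (KaehlerDifferential.D R A b₀),
        ← algebraMap_smul A r (ιMulti A (p + 1) _)]
      exact (ιMulti A (p + 1) (M := Ω[A⁄R])).toMultilinearMap.cons_smul _ _ _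
    · rw [smul_zero, hδzero, smul_zero]
    · intro x y hx hy
      rw [smul_add, hδadd, hx, hy, hδadd, smul_add]
  let d : ∀ p : ℕ, ↥(⋀[A]^p (Ω[A⁄R])) →ₗ[R] ↥(⋀[A]^(p + 1) (Ω[A⁄R])) := fun p =>
    { toFun := δ p, map_add' := hδadd p, map_smul' := hlin p }
  exact ⟨d, Groth.Agent.S15292.result R A d hrule⟩

/-- de Rham cohomology vanishes in negative degrees -/
theorem subsingleton_neg {X S : Scheme.{u}} {f : X ⟶ S} {Ω' : X.Modules} {δ : OmegaSh.Der f Ω'}
    (D : DeRhamSh.Cx f Ω' δ)
    [HasDerivedCategory.{u} (Sheaf (Opens.grothendieckTopology X) AddCommGrpCat.{u})]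
    (i : ℤ) (hi : i < 0) : Subsingleton (DeRhamSh.HdR D i) := by
  have hlo : ∀ p : ℤ, p < 0 → IsZero (D.KZ.X p) := by
    intro p hp
    refine D.K.isZero_extend_X ComplexShape.embeddingUpNat p ?_
    intro m hm
    have : (m : ℤ) = p := hm
    omega
  haveI : D.KZ.IsStrictlyGE 0 := by
    rw [CochainComplex.isStrictlyGE_iff]
    exact hlo
  haveI : (DerivedCategory.Q.obj D.KZ).IsGE 0 := inferInstance
  haveI : ((shiftFunctor (DerivedCategory _) i).obj (DerivedCategory.Q.obj D.KZ)).IsGE (0 - i) :=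
    DerivedCategory.TStructure.t.isGE_shift (DerivedCategory.Q.obj D.KZ) 0 i (0 - i) (by omega)
  refine subsingleton_of_forall_eq 0 fun φ => ?_
  exact DerivedCategory.TStructure.t.zero_of_isLE_of_isGE φ 0 (0 - i) (by omega) inferInstance inferInstance

end Helpers

open CategoryTheory AlgebraicGeometry TopologicalSpace in
/-- Let k be a field of characteristic zero and n ≥ 0. Then the algebraic de Rham cohomology of affine
n-space Spec k[x_1, …, x_n] over k, the hypercohomology of its de Rham complex, vanishes in every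
degree i ≠ 0, and in degree 0 it is additively isomorphic to k (existence of an additive
isomorphism; the identification of H^0 with the constants is canonical). (The published computation
also gives the de Rham homology of affine space; this row is the cohomology statement, for any de
Rham complex of affine n-space over k.) -/
theorem result (k : Type u) [Field k] [CharZero k] (n : ℕ)
    [QuasiSeparated (Spec.map (CommRingCat.ofHom (algebraMap k (MvPolynomial (Fin n) k))))]
    (D : DeRhamSh.OmegaCx (Spec.map (CommRingCat.ofHom (algebraMap k (MvPolynomial (Fin n) k)))))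
    [HasDerivedCategory.{u} (Sheaf (Opens.grothendieckTopology ↥(Spec (CommRingCat.of (MvPolynomial (Fin n) k)))) AddCommGrpCat.{u})] :
    (∀ i : ℤ, i ≠ 0 → Subsingleton (DeRhamSh.HdR D i)) ∧ Nonempty (DeRhamSh.HdR D 0 ≃+ k) := by
  obtain ⟨d, hd⟩ := exists_isDiff_of_cx k (MvPolynomial (Fin n) k) D
  have hP := Groth.Agent.Lib.Helper29.DeRhamRing.poincare_mvPolynomial k n d hd
  refine ⟨fun i hi => ?_, ?_⟩
  · rcases lt_trichotomy i 0 with h | h | h
    · exact subsingleton_neg D i h
    · exact absurd h hi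
    · obtain ⟨m, rfl⟩ : ∃ m : ℕ, i = ((m + 1 : ℕ) : ℤ) := ⟨(i - 1).toNat, by omega⟩
      obtain ⟨e⟩ := Groth.Agent.S15527.result k (MvPolynomial (Fin n) k) D d hd (m + 1)
      haveI := Groth.Agent.Lib.Helper29.DeRhamRing.subsingleton_H_succ hd hP m
      exact e.toEquiv.subsingleton
  · obtain ⟨e⟩ := Groth.Agent.S15527.result k (MvPolynomial (Fin n) k) D d hd 0
    obtain ⟨e'⟩ := Groth.Agent.Lib.Helper29.DeRhamRing.nonempty_H_zero hd hP
      (by rw [MvPolynomial.algebraMap_eq]; exact MvPolynomial.C_injective (Fin n) k)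
    exact ⟨e.trans e'⟩



end Groth.Agent.S15311
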