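import Groth.Statements.S15315
import Mathlib
-- import your own Groth.Agent.* helpers here

set_option autoImplicit false
universe u
open ArLef

namespace Groth.Agent.S15315

/-- For a Noetherian commutative ring A, elements a, b with a a non-zero-divisor on A/(b), and an ideal
I, one has length(A/(aI + bA)) = length(A/(a, b)) + length(A/(I + bA)) as extended natural numbers;
in particular when two of the three quotients have finite length so does the third. -/
theorem result (A : Type u) [CommRing A] [IsNoetherianRing A] (a b : A) (I : Ideal A)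
    (ha : IsSMulRegular (A ⧸ Ideal.span ({b} : Set A)) a) :
    Module.length A (A ⧸ (Ideal.span {a} * I ⊔ Ideal.span {b})) =
      Module.length A (A ⧸ Ideal.span ({a, b} : Set A)) + Module.length A (A ⧸ (I ⊔ Ideal.span {b})) := by
  let J₁ : Ideal A := I ⊔ Ideal.span {b}
  let J₂ : Ideal A := Ideal.span {a} * I ⊔ Ideal.span {b}
  let J₃ : Ideal A := Ideal.span ({a, b} : Set A)
  have hb2 : b ∈ J₂ := Ideal.mem_sup_right (Ideal.subset_span rfl)
  let f : (A ⧸ J₁) →ₗ[A] (A ⧸ J₂) :=
    Submodule.mapQ J₁ J₂ (LinearMap.mulLeft A a) (by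
      intro x hx
      obtain ⟨i, hi, z, hz, rfl⟩ := Submodule.mem_sup.mp hx
      obtain ⟨c, rfl⟩ := Ideal.mem_span_singleton'.mp hz
      show a * (i + c * b) ∈ J₂
      rw [mul_add]
      refine J₂.add_mem (Ideal.mem_sup_left (Ideal.mul_mem_mul (Ideal.subset_span rfl) hi)) ?_
      have : a * (c * b) = (a * c) * b := by ring
      rw [this]
      exact J₂.mul_mem_left _ hb2)
  let g : (A ⧸ J₂) →ₗ[A] (A ⧸ J₃) :=
    Submodule.mapQ J₂ J₃ LinearMap.id (by
      intro x hx
      obtain ⟨y, hy, z, hz, rfl⟩ := Submodule.mem_sup.mp hx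
      obtain ⟨i, hi, rfl⟩ := Ideal.mem_span_singleton_mul.mp hy
      obtain ⟨c, rfl⟩ := Ideal.mem_span_singleton'.mp hz
      show a * i + c * b ∈ J₃
      exact Ideal.mem_span_pair.mpr ⟨i, c, by ring⟩)
  have hfmk : ∀ x : A, f (Submodule.Quotient.mk x) = Submodule.Quotient.mk (a * x) := fun x => rfl
  have hgmk : ∀ x : A, g (Submodule.Quotient.mk x) = Submodule.Quotient.mk x := fun x => rfl
  have hf : Function.Injective f := by
    rw [injective_iff_map_eq_zero]
    intro q hq
    obtain ⟨x, rfl⟩ := Submodule.Quotient.mk_surjective _ q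
    rw [hfmk, Submodule.Quotient.mk_eq_zero] at hq
    obtain ⟨y, hy, z, hz, hyz⟩ := Submodule.mem_sup.mp hq
    obtain ⟨i, hi, rfl⟩ := Ideal.mem_span_singleton_mul.mp hy
    rw [Submodule.Quotient.mk_eq_zero]
    have h1 : a • (Ideal.Quotient.mk (Ideal.span ({b} : Set A)) (x - i)) = a • 0 := by
      have h0 : a • (Ideal.Quotient.mk (Ideal.span ({b} : Set A)) (x - i)) =
          Ideal.Quotient.mk (Ideal.span ({b} : Set A)) (a * (x - i)) := rfl
      rw [smul_zero, h0]
      rw [Ideal.Quotient.eq_zero_iff_mem]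
      have : a * (x - i) = z := by rw [mul_sub, ← hyz]; ring
      rw [this]; exact hz
    have h2 := ha h1
    rw [Ideal.Quotient.eq_zero_iff_mem] at h2
    have : x = i + (x - i) := by ring
    rw [this]
    exact J₁.add_mem (Ideal.mem_sup_left hi) (Ideal.mem_sup_right h2)
  have hg : Function.Surjective g := by
    intro q
    obtain ⟨x, rfl⟩ := Submodule.Quotient.mk_surjective _ q
    exact ⟨Submodule.Quotient.mk x, hgmk x⟩
  have H : Function.Exact f g := by
    intro q
    obtain ⟨x, rfl⟩ := Submodule.Quotient.mk_surjective _ q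
    rw [hgmk, Submodule.Quotient.mk_eq_zero]
    constructor
    · intro hx
      obtain ⟨c, d, hcd⟩ := Ideal.mem_span_pair.mp hx
      refine ⟨Submodule.Quotient.mk c, ?_⟩
      rw [hfmk, Submodule.Quotient.eq]
      have : a * c - x = (-d) * b := by rw [← hcd]; ring
      rw [this]
      exact J₂.mul_mem_left _ hb2
    · rintro ⟨q', hq'⟩
      obtain ⟨y, rfl⟩ := Submodule.Quotient.mk_surjective _ q'
      rw [hfmk, Submodule.Quotient.eq] at hq'
      obtain ⟨u, hu, z, hz, huz⟩ := Submodule.mem_sup.mp hq'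
      obtain ⟨i, hi, rfl⟩ := Ideal.mem_span_singleton_mul.mp hu
      obtain ⟨c, rfl⟩ := Ideal.mem_span_singleton'.mp hz
      have : x = (y - i) * a + (-c) * b := by
        have : x = a * y - (a * i + c * b) := by rw [huz]; ring
        rw [this]; ring
      rw [this]
      exact Ideal.mem_span_pair.mpr ⟨_, _, rfl⟩
  rw [add_comm]
  exact Module.length_eq_add_of_exact f g hf hg H

end Groth.Agent.S15315
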