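import Groth.Statements.S15316
import Groth.Agent.Lib.helper11.NodeAlgPrime

set_option autoImplicit false
universe u
open ArLef ArLef.NodeAlg

namespace Groth.Agent.S15316

/-- Let B be a discrete valuation ring with uniformizer π and N = B[[t, e]]/(te - π) the complete local
ring of a semi-stable arithmetic surface at a singular point of the closed fibre. A ring
automorphism σ of N with σ(π) associated to π (for instance a B-algebra automorphism, or one lying
over an automorphism of B) either stabilizes the two branches, σ(t) = α t and σ(e) = β e for units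
α, β, or switches them, σ(t) = α e and σ(e) = β t for units α, β. (The published setting has B
complete with algebraically closed residue field and σ linear over B or over an automorphism of B;
the argument uses only that σ(π) generates (π).) -/
theorem result (B : Type u) [CommRing B] [IsDomain B] [IsDiscreteValuationRing B] (π : B) (hπ : Irreducible π)
    (σ : ArLef.NodeAlg B π ≃+* ArLef.NodeAlg B π)
    (hσ : Associated (σ (algebraMap B (ArLef.NodeAlg B π) π)) (algebraMap B (ArLef.NodeAlg B π) π)) :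
    (∃ α β : (ArLef.NodeAlg B π)ˣ, σ (ArLef.NodeAlg.t π) = (α : ArLef.NodeAlg B π) * ArLef.NodeAlg.t π ∧ σ (ArLef.NodeAlg.e π) = (β : ArLef.NodeAlg B π) * ArLef.NodeAlg.e π) ∨
      (∃ α β : (ArLef.NodeAlg B π)ˣ, σ (ArLef.NodeAlg.t π) = (α : ArLef.NodeAlg B π) * ArLef.NodeAlg.e π ∧ σ (ArLef.NodeAlg.e π) = (β : ArLef.NodeAlg B π) * ArLef.NodeAlg.t π) := by
  classical
  have hπp : Prime π := hπ.prime
  have h01 : (0 : Fin 2) ≠ 1 := by decide
  have hIeq : Ideal.span {(MvPowerSeries.X 1 * MvPowerSeries.X 0 - MvPowerSeries.C π :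
      MvPowerSeries (Fin 2) B)} = Ideal.span {(MvPowerSeries.X 0 * MvPowerSeries.X 1 -
        MvPowerSeries.C π : MvPowerSeries (Fin 2) B)} := by
    rw [mul_comm]
  have hte : ArLef.NodeAlg.t π * ArLef.NodeAlg.e π = algebraMap B (ArLef.NodeAlg B π) π := by
    show Ideal.Quotient.mk _ (MvPowerSeries.X 0) * Ideal.Quotient.mk _ (MvPowerSeries.X 1) =
      Ideal.Quotient.mk _ (MvPowerSeries.C π)
    rw [← map_mul, Ideal.Quotient.eq]
    exact Ideal.subset_span rfl
  have he1 : ∀ a b : ArLef.NodeAlg B π, ArLef.NodeAlg.e π ∣ a * b →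
      ArLef.NodeAlg.e π ∣ a ∨ ArLef.NodeAlg.e π ∣ b := by
    have := Groth.Agent.Lib.helper11.NodeAlgPrime.mk_X_dvd_mul (B := B) (ι := Fin 2)
      (π := π) (i := 1) (j := 0) hπp h01.symm
    rw [hIeq] at this
    exact this
  refine Groth.Agent.Lib.helper11.NodeAlgPrime.aut_lemma (ArLef.NodeAlg.t π) (ArLef.NodeAlg.e π)
    σ (by rw [hte]; exact hσ)
    (Groth.Agent.Lib.helper11.NodeAlgPrime.mk_X_dvd_mul hπp h01) he1
    (Groth.Agent.Lib.helper11.NodeAlgPrime.mk_X_mul_eq_zero hπp.ne_zero h01)
    (Groth.Agent.Lib.helper11.NodeAlgPrime.not_mk_X_dvd hπp.not_unit h01)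

end Groth.Agent.S15316
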