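import Groth.Statements.S15317
import Groth.Agent.Lib.helper11.NodeAlgFix

set_option autoImplicit false
universe u
open ArLef ArLef.NodeAlg

open Groth.Agent.Lib.helper11
namespace Groth.Agent.S15317

/-- Let B be a discrete valuation ring with uniformizer π, N = B[[t, e]]/(te - π), and σ a non-trivial
B-algebra automorphism of N stabilizing both branches of the closed fibre (σ(t) associated to t,
σ(e) associated to e). Then the fixed-point ideal of σ, generated by all σ(r) - r, is g·(t, e) for a
non-zero g: the divisorial part of the fixed locus is cut out by g and its residual part is the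
reduced closed point, of multiplicity one. (Stated in the complete local ring, where the published
argument takes place; the published setting has B complete with algebraically closed residue field.) -/
theorem result (B : Type u) [CommRing B] [IsDomain B] [IsDiscreteValuationRing B] (π : B) (hπ : Irreducible π)
    (σ : ArLef.NodeAlg B π ≃ₐ[B] ArLef.NodeAlg B π) (hσ : σ ≠ AlgEquiv.refl)
    (ht : Associated (σ (ArLef.NodeAlg.t π)) (ArLef.NodeAlg.t π))
    (he : Associated (σ (ArLef.NodeAlg.e π)) (ArLef.NodeAlg.e π)) :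
    ∃ g : ArLef.NodeAlg B π, g ≠ 0 ∧
      ArLef.fixIdeal σ = Ideal.span {g} * Ideal.span ({ArLef.NodeAlg.t π, ArLef.NodeAlg.e π} : Set (ArLef.NodeAlg B π)) := by
  classical
  have hπp : Prime π := hπ.prime
  obtain ⟨u, hu⟩ := ht
  obtain ⟨v, hv⟩ := he
  -- `σ t = α t`, `σ e = β e`
  have hα : σ (NodeAlg.t π) = ((u⁻¹ : (NodeAlg B π)ˣ) : NodeAlg B π) * NodeAlg.t π := by
    exact ((Units.eq_mul_inv_iff_mul_eq u).mpr hu).trans (mul_comm _ _)
  have hβ : σ (NodeAlg.e π) = ((v⁻¹ : (NodeAlg B π)ˣ) : NodeAlg B π) * NodeAlg.e π := by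
    exact ((Units.eq_mul_inv_iff_mul_eq v).mpr hv).trans (mul_comm _ _)
  set α : NodeAlg B π := ((u⁻¹ : (NodeAlg B π)ˣ) : NodeAlg B π) with hαdef
  set β : NodeAlg B π := ((v⁻¹ : (NodeAlg B π)ˣ) : NodeAlg B π) with hβdef
  have hαβ : α * β = 1 := by
    apply NodeAlgFix.mul_eq_one_of_commutes hπp.ne_zero σ
    rw [hα, hβ]; ring
  have hF := NodeAlgFix.fixIdeal_eq hπp.not_unit σ
  rw [hα, hβ] at hF
  refine ⟨α - 1, ?_, ?_⟩
  · intro h0
    have hα1 : α = 1 := by linear_combination h0
    have hβ1 : β = 1 := by rw [hα1, one_mul] at hαβ; exact hαβ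
    rw [hα1, hβ1, one_mul, one_mul, sub_self, sub_self] at hF
    apply hσ
    ext r
    have : σ r - r ∈ ArLef.fixIdeal σ := Ideal.subset_span ⟨r, rfl⟩
    rw [hF] at this
    have h2 : σ r - r = 0 := by
      have h3 : Ideal.span ({0, 0} : Set (NodeAlg B π)) = ⊥ := by
        rw [Ideal.span_eq_bot]
        rintro x (rfl | rfl) <;> rfl
      rw [h3] at this
      exact this
    show σ r = r
    linear_combination h2
  · rw [hF]
    apply le_antisymm
    · rw [Ideal.span_le]
      rintro x (rfl | rfl)
      · have : α * NodeAlg.t π - NodeAlg.t π = (α - 1) * NodeAlg.t π := by ring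
        rw [this]
        exact Ideal.mul_mem_mul (Ideal.subset_span rfl) (Ideal.subset_span (Set.mem_insert _ _))
      · have : β * NodeAlg.e π - NodeAlg.e π = (α - 1) * (-β * NodeAlg.e π) := by
          linear_combination (NodeAlg.e π) * hαβ
        rw [this]
        exact Ideal.mul_mem_mul (Ideal.subset_span rfl)
          (Ideal.mul_mem_left _ _ (Ideal.subset_span (Set.mem_insert_of_mem _ rfl)))
    · rw [Ideal.span_mul_span', Ideal.span_le]
      rintro _ ⟨x, hx, y, hy, rfl⟩
      rw [Set.mem_singleton_iff] at hx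
      subst hx
      rcases hy with rfl | rfl
      · have : (α - 1) * NodeAlg.t π = α * NodeAlg.t π - NodeAlg.t π := by ring
        show (α - 1) * NodeAlg.t π ∈ _
        rw [this]
        exact Ideal.subset_span (Set.mem_insert _ _)
      · have : (α - 1) * NodeAlg.e π = (-α) * (β * NodeAlg.e π - NodeAlg.e π) := by
          linear_combination (NodeAlg.e π) * hαβ
        show (α - 1) * NodeAlg.e π ∈ _
        rw [this]
        exact Ideal.mul_mem_left _ _ (Ideal.subset_span (Set.mem_insert_of_mem _ rfl))

end Groth.Agent.S15317
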