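import Groth.Statements.S15318
import Groth.Agent.Lib.helper11.NodeAlgFix

set_option autoImplicit false
universe u
open ArLef ArLef.NodeAlg

open Groth.Agent.Lib.helper11
namespace Groth.Agent.S15318

/-- Let B be a discrete valuation ring with uniformizer π, N = B[[t, e]]/(te - π), and σ a B-algebra
automorphism of N switching the two branches of the closed fibre (σ(t) associated to e, σ(e)
associated to t). Then the fixed-point ideal of σ is principal, generated by an element h of order
one (h is not in (t, e)²), and π is a non-zero-divisor modulo h: the fixed locus is a horizontal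
regular divisor through the point with empty residual part. (Stated in the complete local ring,
where the published argument takes place; the published setting has B complete with algebraically
closed residue field.) -/
theorem result (B : Type u) [CommRing B] [IsDomain B] [IsDiscreteValuationRing B] (π : B) (hπ : Irreducible π)
    (σ : ArLef.NodeAlg B π ≃ₐ[B] ArLef.NodeAlg B π)
    (ht : Associated (σ (ArLef.NodeAlg.t π)) (ArLef.NodeAlg.e π))
    (he : Associated (σ (ArLef.NodeAlg.e π)) (ArLef.NodeAlg.t π)) :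
    ∃ h : ArLef.NodeAlg B π, ArLef.fixIdeal σ = Ideal.span {h} ∧
      h ∉ (Ideal.span ({ArLef.NodeAlg.t π, ArLef.NodeAlg.e π} : Set (ArLef.NodeAlg B π))) ^ 2 ∧
      IsSMulRegular (ArLef.NodeAlg B π ⧸ Ideal.span ({h} : Set (ArLef.NodeAlg B π))) π := by
  classical
  have hπp : Prime π := hπ.prime
  haveI := NodeAlgFix.isLocalRing_nodeAlg (B := B) hπp.not_unit
  obtain ⟨u, hu⟩ := ht
  obtain ⟨v, hv⟩ := he
  have hα : σ (NodeAlg.t π) = ((u⁻¹ : (NodeAlg B π)ˣ) : NodeAlg B π) * NodeAlg.e π :=
    ((Units.eq_mul_inv_iff_mul_eq u).mpr hu).trans (mul_comm _ _)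
  have hβ : σ (NodeAlg.e π) = ((v⁻¹ : (NodeAlg B π)ˣ) : NodeAlg B π) * NodeAlg.t π :=
    ((Units.eq_mul_inv_iff_mul_eq v).mpr hv).trans (mul_comm _ _)
  set α : NodeAlg B π := ((u⁻¹ : (NodeAlg B π)ˣ) : NodeAlg B π) with hαdef
  set β : NodeAlg B π := ((v⁻¹ : (NodeAlg B π)ˣ) : NodeAlg B π) with hβdef
  have hαβ : α * β = 1 := by
    apply NodeAlgFix.mul_eq_one_of_commutes hπp.ne_zero σ
    rw [hα, hβ]; ring
  have hF := NodeAlgFix.fixIdeal_eq hπp.not_unit σ
  rw [hα, hβ] at hF
  -- cancellation facts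
  have htc : ∀ a b : NodeAlg B π, NodeAlg.t π * a = NodeAlg.t π * b → a = b := by
    intro a b hab
    have := NodeAlgFix.t_mul_eq_zero hπp.ne_zero (a - b) (by linear_combination hab)
    linear_combination this
  have hec : ∀ a b : NodeAlg B π, NodeAlg.e π * a = NodeAlg.e π * b → a = b := by
    intro a b hab
    have := NodeAlgFix.e_mul_eq_zero hπp.ne_zero (a - b) (by linear_combination hab)
    linear_combination this
  set h : NodeAlg B π := α * NodeAlg.e π - NodeAlg.t π with hh
  -- claim A
  have hA : ∀ r : NodeAlg B π, h ∣ NodeAlg.t π * r → h ∣ r := by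
    rintro r ⟨s, hs⟩
    have h1 : NodeAlg.t π ∣ (α * s) * NodeAlg.e π :=
      ⟨r + s, by rw [hh] at hs; linear_combination -hs⟩
    have h2 : NodeAlg.t π ∣ α * s :=
      (NodeAlgFix.t_dvd_mul hπp _ _ h1).resolve_right (NodeAlgFix.not_t_dvd_e hπp.not_unit)
    have h3 : NodeAlg.t π ∣ s := by
      have : s = β * (α * s) := by linear_combination (-s) * hαβ
      rw [this]
      exact Dvd.dvd.mul_left h2 _
    obtain ⟨s', rfl⟩ := h3
    refine ⟨s', htc _ _ ?_⟩
    rw [hs, hh]; ring
  have hB : ∀ r : NodeAlg B π, h ∣ NodeAlg.e π * r → h ∣ r := by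
    rintro r ⟨s, hs⟩
    have h1 : NodeAlg.e π ∣ NodeAlg.t π * s :=
      ⟨α * s - r, by rw [hh] at hs; linear_combination hs⟩
    have h3 : NodeAlg.e π ∣ s :=
      (NodeAlgFix.e_dvd_mul hπp _ _ h1).resolve_left (NodeAlgFix.not_e_dvd_t hπp.not_unit)
    obtain ⟨s', rfl⟩ := h3
    refine ⟨s', hec _ _ ?_⟩
    rw [hs, hh]; ring
  refine ⟨h, ?_, ?_, ?_⟩
  · rw [hF]
    apply le_antisymm
    · rw [Ideal.span_le]
      rintro x (rfl | rfl)
      · exact Ideal.subset_span rfl
      · have : β * NodeAlg.t π - NodeAlg.e π = (-β) * h := by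
          rw [hh]; linear_combination (NodeAlg.e π) * hαβ
        rw [this]
        exact Ideal.mul_mem_left _ _ (Ideal.subset_span rfl)
    · rw [Ideal.span_le, Set.singleton_subset_iff]
      exact Ideal.subset_span (Set.mem_insert _ _)
  · intro hmem
    have hle : (Ideal.span ({NodeAlg.t π, NodeAlg.e π} : Set (NodeAlg B π))) ^ 2 ≤
        Ideal.span ({NodeAlg.e π, NodeAlg.t π * NodeAlg.t π} : Set (NodeAlg B π)) := by
      rw [pow_two, Ideal.span_pair_mul_span_pair, Ideal.span_le]
      rintro x (rfl | rfl | rfl | rfl)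
      · exact Ideal.subset_span (Set.mem_insert_of_mem _ rfl)
      · exact Ideal.mul_mem_left _ _ (Ideal.subset_span (Set.mem_insert _ _))
      · exact Ideal.mul_mem_right _ _ (Ideal.subset_span (Set.mem_insert _ _))
      · exact Ideal.mul_mem_right _ _ (Ideal.subset_span (Set.mem_insert _ _))
    obtain ⟨a, b, hab⟩ := Ideal.mem_span_pair.mp (hle hmem)
    -- `a e + b t² = α e - t`
    have h1 : NodeAlg.e π ∣ NodeAlg.t π * (1 + b * NodeAlg.t π) :=
      ⟨α - a, by rw [hh] at hab; linear_combination hab⟩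
    rcases NodeAlgFix.e_dvd_mul hπp _ _ h1 with h2 | h2
    · exact NodeAlgFix.not_e_dvd_t hπp.not_unit h2
    · have hunit : IsUnit (1 + b * NodeAlg.t π) := by
        have := IsLocalRing.isUnit_one_sub_self_of_mem_nonunits (-(b * NodeAlg.t π)) (by
          show ¬ IsUnit _
          intro hu
          exact NodeAlgFix.t_not_isUnit hπp.not_unit
            (IsUnit.mul_iff.mp ((IsUnit.neg_iff _).mp hu)).2)
        simpa using this
      exact NodeAlgFix.e_not_isUnit hπp.not_unit (isUnit_of_dvd_unit h2 hunit)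
  · rw [isSMulRegular_iff_right_eq_zero_of_smul]
    intro z hz
    obtain ⟨z, rfl⟩ := Ideal.Quotient.mk_surjective z
    have h1 : π • (Ideal.Quotient.mk (Ideal.span {h}) z) =
        Ideal.Quotient.mk (Ideal.span {h}) (NodeAlg.t π * (NodeAlg.e π * z)) := by
      rw [← mul_assoc, NodeAlgFix.t_mul_e, ← Algebra.smul_def]
      rfl
    rw [h1, Ideal.Quotient.eq_zero_iff_mem, Ideal.mem_span_singleton] at hz
    rw [Ideal.Quotient.eq_zero_iff_mem, Ideal.mem_span_singleton]
    exact hB _ (hA _ hz)

end Groth.Agent.S15318
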