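import Groth.Statements.S15319
import Mathlib.RingTheory.MvPowerSeries.Inverse

set_option autoImplicit false
universe u
open ArLef ArLef.NodeAlg

namespace Groth.Agent.S15319

open MvPowerSeries in
/-- If `C c = g * (X0 X1 - C π)` then for all k, `c = - π^(k+1) * d_k` where d_k = coeff (k,k) g. -/
theorem coeff_key {B : Type u} [CommRing B] (π c : B) (g : MvPowerSeries (Fin 2) B)
    (h : (C c : MvPowerSeries (Fin 2) B) = g * (X 0 * X 1 - C π)) (k : ℕ) :
    c = - π ^ (k + 1) * coeff (k • (Finsupp.single 0 1 + Finsupp.single 1 1)) g := by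
  classical
  set m : Fin 2 →₀ ℕ := Finsupp.single 0 1 + Finsupp.single 1 1 with hm
  have hX : (X 0 * X 1 : MvPowerSeries (Fin 2) B) = monomial m 1 := by
    rw [X_def, X_def, monomial_mul_monomial, one_mul]
  have hm0 : m ≠ 0 := by
    intro h0
    have := DFunLike.congr_fun h0 0
    simp [hm] at this
  have hcoef : ∀ n : Fin 2 →₀ ℕ, coeff n (C c : MvPowerSeries (Fin 2) B) =
      (if m ≤ n then coeff (n - m) g else 0) - coeff n g * π := by
    intro n
    rw [h, mul_sub, map_sub, hX, coeff_mul_monomial, coeff_mul_C, mul_one]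
  induction k with
  | zero =>
    have := hcoef 0
    rw [coeff_zero_C] at this
    have hle : ¬ m ≤ 0 := by
      intro hle
      exact hm0 (nonpos_iff_eq_zero.mp hle)
    rw [if_neg hle] at this
    rw [this]; simp; ring
  | succ k ih =>
    have := hcoef ((k+1) • m)
    have hne : (k + 1) • m ≠ 0 := by
      intro h0
      exact hm0 ((smul_eq_zero.mp h0).resolve_left (by omega))
    rw [coeff_C, if_neg hne] at this
    have hle : m ≤ (k + 1) • m := by
      rw [add_smul, one_smul]; exact le_add_self
    rw [if_pos hle] at this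
    have hsub : (k + 1) • m - m = k • m := by
      rw [add_smul, one_smul]; exact add_tsub_cancel_right _ _
    rw [hsub] at this
    have h2 : coeff (k • m) g = coeff ((k + 1) • m) g * π := by
      linear_combination -this
    rw [ih, h2]; ring


/-- Let B be a discrete valuation ring with uniformizer π, N = B[[t, e]]/(te - π) the complete local
ring of a semi-stable arithmetic surface over B at a singular point of the closed fibre, and σ a
ring automorphism of N sending π to π + γ π^j with γ a unit of B and j ≥ 1 (σ lies over an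
automorphism τ of B with v(τ(π) - π) = j). Then the fixed-point ideal of σ is not contained in (π^j)
= (t^j e^j): the two branches through the point cannot both occur with multiplicity j in the
divisorial part of the fixed locus. (The published setting has B complete with algebraically closed
residue field.) -/
theorem result (B : Type u) [CommRing B] [IsDomain B] [IsDiscreteValuationRing B] (π : B) (hπ : Irreducible π)
    (j : ℕ) (hj : 1 ≤ j) (γ : B) (hγ : IsUnit γ)
    (σ : ArLef.NodeAlg B π ≃+* ArLef.NodeAlg B π)
    (hσ : σ (algebraMap B (ArLef.NodeAlg B π) π) = algebraMap B (ArLef.NodeAlg B π) (π + γ * π ^ j)) :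
    ¬ ArLef.fixIdeal σ ≤ Ideal.span ({algebraMap B (ArLef.NodeAlg B π) (π ^ j)} : Set (ArLef.NodeAlg B π)) := by
  intro hle
  set I : Ideal (MvPowerSeries (Fin 2) B) :=
    Ideal.span {(MvPowerSeries.X 0 * MvPowerSeries.X 1 - MvPowerSeries.C π : MvPowerSeries (Fin 2) B)} with hI
  set P : NodeAlg B π := algebraMap B (ArLef.NodeAlg B π) (π ^ j) with hP
  have halg : ∀ b : B, algebraMap B (NodeAlg B π) b = Ideal.Quotient.mk I (MvPowerSeries.C b) := fun b => rfl
  -- t * e = π
  have hte : t π * e π = algebraMap B (NodeAlg B π) π := by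
    rw [halg]
    show Ideal.Quotient.mk I _ * Ideal.Quotient.mk I _ = _
    rw [← map_mul, Ideal.Quotient.eq]
    exact Ideal.subset_span rfl
  have hmem : ∀ r, σ r - r ∈ Ideal.span ({P} : Set (NodeAlg B π)) := fun r =>
    hle (Ideal.subset_span ⟨r, rfl⟩)
  obtain ⟨a, ha⟩ := Ideal.mem_span_singleton'.mp (hmem (t π))
  obtain ⟨b, hb⟩ := Ideal.mem_span_singleton'.mp (hmem (e π))
  have h1 : σ (t π) = t π + a * P := by rw [ha]; ring
  have h2 : σ (e π) = e π + b * P := by rw [hb]; ring
  have h3 : P * (algebraMap B (NodeAlg B π) γ - (a * e π + b * t π + P * a * b)) = 0 := by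
    have e1 : σ (algebraMap B (NodeAlg B π) π) = (t π + a * P) * (e π + b * P) := by
      rw [← hte, map_mul, h1, h2]
    have e2 : algebraMap B (NodeAlg B π) (π + γ * π ^ j) =
        t π * e π + algebraMap B (NodeAlg B π) γ * P := by
      rw [map_add, map_mul, hte]
    rw [e1, e2] at hσ
    linear_combination -hσ
  -- lifts
  obtain ⟨a', rfl⟩ := Ideal.Quotient.mk_surjective a
  obtain ⟨b', rfl⟩ := Ideal.Quotient.mk_surjective b
  set u : MvPowerSeries (Fin 2) B := MvPowerSeries.C γ -
    (a' * MvPowerSeries.X 1 + b' * MvPowerSeries.X 0 + MvPowerSeries.C (π ^ j) * a' * b') with hu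
  have hu_unit : IsUnit u := by
    rw [MvPowerSeries.isUnit_iff_constantCoeff]
    have : MvPowerSeries.constantCoeff u = γ - π ^ j * MvPowerSeries.constantCoeff a' *
        MvPowerSeries.constantCoeff b' := by
      simp [hu]
    rw [this]
    by_contra hnu
    have hπj : π ^ j * MvPowerSeries.constantCoeff a' * MvPowerSeries.constantCoeff b' ∈ nonunits B := by
      have hπn : π ∈ IsLocalRing.maximalIdeal B := hπ.not_isUnit
      have : π ^ j ∈ IsLocalRing.maximalIdeal B := Ideal.pow_mem_of_mem _ hπn j (by omega)
      have := Ideal.mul_mem_right (MvPowerSeries.constantCoeff b') _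
        (Ideal.mul_mem_right (MvPowerSeries.constantCoeff a') _ this)
      exact this
    have := IsLocalRing.nonunits_add hnu hπj
    rw [sub_add_cancel] at this
    exact this hγ
  have hmku : Ideal.Quotient.mk I u = algebraMap B (NodeAlg B π) γ -
      (Ideal.Quotient.mk I a' * e π + Ideal.Quotient.mk I b' * t π +
        P * Ideal.Quotient.mk I a' * Ideal.Quotient.mk I b') := by
    rw [hu, hP, halg, halg]
    simp only [map_sub, map_add, map_mul]
    rfl
  rw [← hmku] at h3
  have hP0 : P = 0 := by
    have := (hu_unit.map (Ideal.Quotient.mk I)).mul_left_eq_zero.mp h3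
    exact this
  rw [hP, halg, Ideal.Quotient.eq_zero_iff_mem, hI, Ideal.mem_span_singleton'] at hP0
  obtain ⟨g, hg⟩ := hP0
  have key := coeff_key π (π ^ j) g hg.symm j
  -- π^j = -π^(j+1) d  ⇒ π^j (1 + π d) = 0
  set d := MvPowerSeries.coeff (j • (Finsupp.single 0 1 + Finsupp.single 1 1)) g
  have h4 : π ^ j * (1 + π * d) = 0 := by
    rw [pow_succ] at key
    linear_combination key
  rcases mul_eq_zero.mp h4 with h5 | h5
  · exact hπ.ne_zero (pow_eq_zero_iff (by omega) |>.mp h5)
  · apply hπ.not_isUnit
    exact IsUnit.of_mul_eq_one (-d) (by linear_combination -h5)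

end Groth.Agent.S15319
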