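import Groth.Statements.S15320
import Groth.Agent.Lib.helper11.NodeAlgFix2

set_option autoImplicit false
universe u
open ArLef ArLef.NodeAlg

open Groth.Agent.Lib.helper11
namespace Groth.Agent.S15320

/-- Let B be a discrete valuation ring with uniformizer π, N = B[[t, e]]/(te - π) the complete local
ring of a semi-stable arithmetic surface over B at a singular point x of the closed fibre, and σ a
ring automorphism of N over an automorphism τ of B with v(τ(π) - π) = j ≥ 1, that is σ(π) = π + γ
π^j with γ a unit of B, and with σ(b) - b ∈ π^j N for every b ∈ B (automatic when B is totally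
ramified over the fixed ring of τ, as in the published setting, where the residue field is
algebraically closed). If σ switches the two branches through x (σ(t) associated to e and σ(e) to
t), then the fixed-point ideal I of σ is contained in no proper principal ideal (x is not on the
divisorial part of the fixed locus) and N/I has length 2j - 1 (the multiplicity of x in the residual
fixed-point scheme). -/
theorem result (B : Type u) [CommRing B] [IsDomain B] [IsDiscreteValuationRing B] (π : B) (hπ : Irreducible π)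
    (j : ℕ) (hj : 1 ≤ j) (γ : B) (hγ : IsUnit γ)
    (σ : ArLef.NodeAlg B π ≃+* ArLef.NodeAlg B π)
    (hσB : ∀ b : B, σ (algebraMap B (ArLef.NodeAlg B π) b) - algebraMap B (ArLef.NodeAlg B π) b ∈
      Ideal.span ({algebraMap B (ArLef.NodeAlg B π) (π ^ j)} : Set (ArLef.NodeAlg B π)))
    (hσπ : σ (algebraMap B (ArLef.NodeAlg B π) π) = algebraMap B (ArLef.NodeAlg B π) (π + γ * π ^ j))
    (ht : Associated (σ (ArLef.NodeAlg.t π)) (ArLef.NodeAlg.e π)) (he : Associated (σ (ArLef.NodeAlg.e π)) (ArLef.NodeAlg.t π)) :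
    (∀ g : ArLef.NodeAlg B π, ArLef.fixIdeal σ ≤ Ideal.span ({g} : Set (ArLef.NodeAlg B π)) → IsUnit g) ∧
      Module.length (ArLef.NodeAlg B π) (ArLef.NodeAlg B π ⧸ ArLef.fixIdeal σ) = ((2 * j - 1 : ℕ) : ℕ∞) := by
  classical
  have hπp : Prime π := hπ.prime
  have hmax : IsLocalRing.maximalIdeal B = Ideal.span {π} := hπ.maximalIdeal_eq
  haveI := NodeAlgFix.isLocalRing_nodeAlg (B := B) hπp.not_unit
  obtain ⟨u, hu⟩ := ht
  obtain ⟨v, hv⟩ := he
  have hα : σ (NodeAlg.t π) = ((u⁻¹ : (NodeAlg B π)ˣ) : NodeAlg B π) * NodeAlg.e π :=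
    ((Units.eq_mul_inv_iff_mul_eq u).mpr hu).trans (mul_comm _ _)
  have hβ : σ (NodeAlg.e π) = ((v⁻¹ : (NodeAlg B π)ˣ) : NodeAlg B π) * NodeAlg.t π :=
    ((Units.eq_mul_inv_iff_mul_eq v).mpr hv).trans (mul_comm _ _)
  have hαu : ((u⁻¹ : (NodeAlg B π)ˣ) : NodeAlg B π) * (u : NodeAlg B π) = 1 := by simp
  set α : NodeAlg B π := ((u⁻¹ : (NodeAlg B π)ˣ) : NodeAlg B π) with hαdef
  set β : NodeAlg B π := ((v⁻¹ : (NodeAlg B π)ˣ) : NodeAlg B π) with hβdef
  obtain ⟨k, rfl⟩ : ∃ k, j = k + 1 := ⟨j - 1, by omega⟩
  have hF := NodeAlgFix2.fixIdeal_eq_ring hπp.not_unit (k + 1) γ hγ σ hσB hσπ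
  set T := NodeAlg.t π with hT
  set E := NodeAlg.e π with hE
  set Γ := algebraMap B (NodeAlg B π) γ with hΓ
  obtain ⟨γ', hγ'⟩ := hγ.exists_left_inv
  have hΓ' : algebraMap B (NodeAlg B π) γ' * Γ = 1 := by
    rw [hΓ, ← map_mul, hγ', map_one]
  have hP : algebraMap B (NodeAlg B π) π = T * E := NodeAlgFix.t_mul_e.symm
  -- `α β = 1 + Γ (T E)^k`
  have hαβ : α * β = 1 + Γ * (T * E) ^ k := by
    have h1 : σ (T * E) = α * β * (T * E) := by
      rw [map_mul, hα, hβ]; ring
    rw [← hP, hσπ, map_add, map_mul, map_pow, hP] at h1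
    have h2 : T * (E * (α * β - (1 + Γ * (T * E) ^ k))) = 0 := by
      rw [pow_succ] at h1
      linear_combination -h1
    have h3 := NodeAlgFix.e_mul_eq_zero hπp.ne_zero _ (NodeAlgFix.t_mul_eq_zero hπp.ne_zero _ h2)
    linear_combination h3
  rw [hα, hβ, map_pow, hP] at hF
  set h : NodeAlg B π := α * E - T with hh
  -- `T^k = (α E)^k - h c`
  obtain ⟨c, hc⟩ : ∃ c, T ^ k = (α * E) ^ k - h * c := by
    obtain ⟨c, hc⟩ := sub_dvd_pow_sub_pow T (α * E) k
    exact ⟨c, by rw [hh]; linear_combination hc⟩
  have hkey : (T * E) ^ k * E = α ^ k * E ^ (2 * k + 1) - h * (c * E ^ (k + 1)) := by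
    rw [mul_pow, hc]; ring
  have hβt : β * T - E = -β * h + Γ * (α ^ k * E ^ (2 * k + 1) - h * (c * E ^ (k + 1))) := by
    rw [← hkey, hh]; linear_combination (E) * hαβ
  have hI : ArLef.fixIdeal σ = Ideal.span ({E ^ (2 * k + 1), h} : Set (NodeAlg B π)) := by
    rw [hF]
    apply le_antisymm
    · rw [Ideal.span_le]
      rintro x (rfl | rfl | rfl)
      · exact Ideal.subset_span (by simp)
      · rw [hβt]
        apply Ideal.add_mem
        · exact Ideal.mul_mem_left _ _ (Ideal.subset_span (by simp))
        · apply Ideal.mul_mem_left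
          apply Ideal.sub_mem
          · exact Ideal.mul_mem_left _ _ (Ideal.subset_span (by simp))
          · exact Ideal.mul_mem_right _ _ (Ideal.subset_span (by simp))
      · have : (T * E) ^ (k + 1) = T * ((T * E) ^ k * E) := by ring
        show (T * E) ^ (k + 1) ∈ _
        rw [this, hkey]
        apply Ideal.mul_mem_left
        apply Ideal.sub_mem
        · exact Ideal.mul_mem_left _ _ (Ideal.subset_span (by simp))
        · exact Ideal.mul_mem_right _ _ (Ideal.subset_span (by simp))
    · rw [Ideal.span_le]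
      rintro x (rfl | rfl)
      · have h1 : E ^ (2 * k + 1) = (algebraMap B (NodeAlg B π) γ' * (u : NodeAlg B π) ^ k) *
            ((β * T - E) + β * h + Γ * (h * (c * E ^ (k + 1)))) := by
          rw [hβt]
          have hαu' : (u : NodeAlg B π) * α = 1 := (mul_comm _ _).trans hαu
          have h2 : (u : NodeAlg B π) ^ k * α ^ k = 1 := by
            rw [← mul_pow, hαu', one_pow]
          linear_combination (-(E ^ (2 * k + 1))) * (algebraMap B (NodeAlg B π) γ' * Γ) * h2
            - (E ^ (2 * k + 1)) * hΓ'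
        show E ^ (2 * k + 1) ∈ _
        rw [h1]
        apply Ideal.mul_mem_left
        apply Ideal.add_mem
        · apply Ideal.add_mem
          · exact Ideal.subset_span (by simp)
          · exact Ideal.mul_mem_left _ _ (Ideal.subset_span (by simp))
        · apply Ideal.mul_mem_left
          exact Ideal.mul_mem_right _ _ (Ideal.subset_span (by simp))
      · exact Ideal.subset_span (by simp)
  have hec : ∀ a b : NodeAlg B π, E * a = E * b → a = b := by
    intro a b hab
    have := NodeAlgFix.e_mul_eq_zero hπp.ne_zero (a - b) (by linear_combination hab)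
    linear_combination this
  have hB : ∀ r : NodeAlg B π, h ∣ E * r → h ∣ r := by
    rintro r ⟨s, hs⟩
    have h1 : E ∣ T * s :=
      ⟨α * s - r, by rw [hh] at hs; linear_combination hs⟩
    have h3 : E ∣ s :=
      (NodeAlgFix.e_dvd_mul hπp _ _ h1).resolve_left (NodeAlgFix.not_e_dvd_t hπp.not_unit)
    obtain ⟨s', rfl⟩ := h3
    refine ⟨s', hec _ _ ?_⟩
    rw [hs, hh]; ring
  constructor
  · intro g hg
    have hg1 : g ∣ h := by
      have : h ∈ ArLef.fixIdeal σ := by rw [hI]; exact Ideal.subset_span (by simp)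
      exact Ideal.mem_span_singleton.mp (hg this)
    have hg2 : g ∣ T ^ (k + 1) * E ^ (k + 1) := by
      have : (T * E) ^ (k + 1) ∈ ArLef.fixIdeal σ := by rw [hF]; exact Ideal.subset_span (by simp)
      rw [← mul_pow]
      exact Ideal.mem_span_singleton.mp (hg this)
    rcases NodeAlgFix2.isUnit_or_dvd_of_dvd_pow_mul_pow hπp g _ _ hg2 with h1 | h1 | h1
    · exact h1
    · exfalso
      have h2 : T ∣ α * E := by
        have := dvd_add (h1.trans hg1) (dvd_refl T)
        rwa [hh, sub_add_cancel] at this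
      rcases NodeAlgFix.t_dvd_mul hπp _ _ h2 with h3 | h3
      · exact NodeAlgFix.t_not_isUnit hπp.not_unit
          (isUnit_of_dvd_unit h3 (u⁻¹ : (NodeAlg B π)ˣ).isUnit)
      · exact NodeAlgFix.not_t_dvd_e hπp.not_unit h3
    · exfalso
      have h2 : E ∣ T := by
        have := dvd_sub (Dvd.intro_left α rfl : E ∣ α * E) (h1.trans hg1)
        rwa [hh, sub_sub_cancel] at this
      exact NodeAlgFix.not_e_dvd_t hπp.not_unit h2
  · rw [hI, NodeAlgFix2.length_pow E h hB]
    have hspan : Ideal.span ({E, h} : Set (NodeAlg B π)) = Ideal.span {T, E} := by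
      apply le_antisymm
      · rw [Ideal.span_le]
        rintro x (rfl | rfl)
        · exact Ideal.subset_span (by simp)
        · rw [hh]
          exact Ideal.sub_mem _ (Ideal.mul_mem_left _ _ (Ideal.subset_span (by simp)))
            (Ideal.subset_span (by simp))
      · rw [Ideal.span_le]
        rintro x (rfl | rfl)
        · have : T = α * E - h := by rw [hh]; ring
          rw [this]
          exact Ideal.sub_mem _ (Ideal.mul_mem_left _ _ (Ideal.subset_span (by simp)))
            (Ideal.subset_span (by simp))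
        · exact Ideal.subset_span (by simp)
    rw [hspan, NodeAlgFix2.length_quot_span_t_e hπp hmax, mul_one]
    congr 1

end Groth.Agent.S15320
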