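import Groth.Statements.S15325
import Groth.Agent.Lib.helper11.NodeZero

set_option autoImplicit false
universe u
open ArLef ArLef.NodeAlg

open Groth.Agent.Lib.helper11
namespace Groth.Agent.S15325

/-- Let k be a field, A = k[[t, e]]/(te) the complete local ring of a nodal curve at a node x, and σ a
k-algebra automorphism of A fixing the two branches, σ(t) = α t and σ(e) = β e with units α, β.
Writing I for the fixed-point ideal of σ (generated by all σ(r) - r), the fixed-point multiplicity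
length(A/I) of σ at x and the fixed-point multiplicities length(A/(I + (t))), length(A/(I + (e))) of
the automorphisms induced on the two branches satisfy length(A/I) + 1 = length(A/(I + (t))) +
length(A/(I + (e))), as extended natural numbers (both sides are infinite when σ fixes a branch
pointwise). (The published setting has k algebraically closed.) -/
theorem result (k : Type u) [Field k]
    (σ : ArLef.NodeAlg k 0 ≃ₐ[k] ArLef.NodeAlg k 0) (α β : (ArLef.NodeAlg k 0)ˣ)
    (ht : σ (ArLef.NodeAlg.t (0 : k)) = (α : ArLef.NodeAlg k 0) * ArLef.NodeAlg.t (0 : k)) (he : σ (ArLef.NodeAlg.e (0 : k)) = (β : ArLef.NodeAlg k 0) * ArLef.NodeAlg.e (0 : k)) :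
    Module.length (ArLef.NodeAlg k 0) (ArLef.NodeAlg k 0 ⧸ ArLef.fixIdeal σ) + 1 =
      Module.length (ArLef.NodeAlg k 0) (ArLef.NodeAlg k 0 ⧸ (ArLef.fixIdeal σ ⊔ Ideal.span ({ArLef.NodeAlg.t (0 : k)} : Set (ArLef.NodeAlg k 0)))) +
        Module.length (ArLef.NodeAlg k 0) (ArLef.NodeAlg k 0 ⧸ (ArLef.fixIdeal σ ⊔ Ideal.span ({ArLef.NodeAlg.e (0 : k)} : Set (ArLef.NodeAlg k 0)))) := by
  classical
  have h0 : ¬ IsUnit (0 : k) := not_isUnit_zero
  have hmax : IsLocalRing.maximalIdeal k = Ideal.span {(0 : k)} := by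
    rw [IsLocalRing.maximalIdeal_eq_bot, Ideal.span_singleton_eq_bot.mpr rfl]
  have hF := NodeAlgFix.fixIdeal_eq h0 σ
  rw [ht, he] at hF
  have h1 : (α : ArLef.NodeAlg k 0) * ArLef.NodeAlg.t (0 : k) - ArLef.NodeAlg.t (0 : k) =
      ((α : ArLef.NodeAlg k 0) - 1) * ArLef.NodeAlg.t (0 : k) := by ring
  have h2 : (β : ArLef.NodeAlg k 0) * ArLef.NodeAlg.e (0 : k) - ArLef.NodeAlg.e (0 : k) =
      ((β : ArLef.NodeAlg k 0) - 1) * ArLef.NodeAlg.e (0 : k) := by ring
  rw [h1, h2] at hF
  have hsup : (ArLef.fixIdeal σ ⊔ Ideal.span ({ArLef.NodeAlg.t (0 : k)} : Set (ArLef.NodeAlg k 0))) ⊔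
      (ArLef.fixIdeal σ ⊔ Ideal.span ({ArLef.NodeAlg.e (0 : k)} : Set (ArLef.NodeAlg k 0))) =
      Ideal.span ({ArLef.NodeAlg.t (0 : k), ArLef.NodeAlg.e (0 : k)} : Set (ArLef.NodeAlg k 0)) := by
    apply le_antisymm
    · have hle : ArLef.fixIdeal σ ≤ Ideal.span
          ({ArLef.NodeAlg.t (0 : k), ArLef.NodeAlg.e (0 : k)} : Set (ArLef.NodeAlg k 0)) := by
        rw [hF, Ideal.span_le]
        rintro x (rfl | rfl)
        · exact Ideal.mul_mem_left _ _ (Ideal.subset_span (by simp))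
        · exact Ideal.mul_mem_left _ _ (Ideal.subset_span (by simp))
      refine sup_le (sup_le hle ?_) (sup_le hle ?_)
      · rw [Ideal.span_le, Set.singleton_subset_iff]
        exact Ideal.subset_span (by simp)
      · rw [Ideal.span_le, Set.singleton_subset_iff]
        exact Ideal.subset_span (by simp)
    · rw [Ideal.span_le]
      rintro x (rfl | rfl)
      · exact Ideal.mem_sup_left (Ideal.mem_sup_right (Ideal.subset_span rfl))
      · exact Ideal.mem_sup_right (Ideal.mem_sup_right (Ideal.subset_span rfl))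
  have hinf : (ArLef.fixIdeal σ ⊔ Ideal.span ({ArLef.NodeAlg.t (0 : k)} : Set (ArLef.NodeAlg k 0))) ⊓
      (ArLef.fixIdeal σ ⊔ Ideal.span ({ArLef.NodeAlg.e (0 : k)} : Set (ArLef.NodeAlg k 0))) =
      ArLef.fixIdeal σ := by
    rw [hF]
    exact NodeZero.inf_eq _ _
  have := NodeZero.length_inf_add_sup
    (ArLef.fixIdeal σ ⊔ Ideal.span ({ArLef.NodeAlg.t (0 : k)} : Set (ArLef.NodeAlg k 0)))
    (ArLef.fixIdeal σ ⊔ Ideal.span ({ArLef.NodeAlg.e (0 : k)} : Set (ArLef.NodeAlg k 0)))
  rw [hsup, hinf, NodeZero.length_quot_span_t_e' h0 hmax] at this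
  exact this

end Groth.Agent.S15325
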