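import Groth.Statements.S15326
import Mathlib.Tactic.LinearCombination
import Mathlib.Tactic.Ring

set_option autoImplicit false
universe u
open ArLef

namespace Groth.Agent.S15326

/-- Let A be a commutative ring, t an element generating a prime ideal (a local equation of an
irreducible component C of the closed fibre), v an element outside (t) with π = vt the uniformizer,
and σ a ring automorphism of A with σ(vt) = vt whose fixed-point ideal is contained in (t^i) for
some i ≥ 1 (C has multiplicity at least i in the fixed locus). Then σ(t) - t lies in t^(i+1) A_(t),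
the localization at the prime (t): σ - 1 vanishes on (t)/(t^(i+1)) at the generic point of C. -/
theorem result (A : Type u) [CommRing A] (t v : A)
    [ht : (Ideal.span ({t} : Set A)).IsPrime] (hv : v ∉ Ideal.span ({t} : Set A))
    (σ : A ≃+* A) (hσ : σ (v * t) = v * t) (i : ℕ) (hi : 1 ≤ i)
    (hI : ArLef.fixIdeal σ ≤ Ideal.span ({t ^ i} : Set A)) :
    algebraMap A (Localization.AtPrime (Ideal.span ({t} : Set A))) (σ t - t) ∈
      Ideal.span ({algebraMap A (Localization.AtPrime (Ideal.span ({t} : Set A))) (t ^ (i + 1))} :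
        Set (Localization.AtPrime (Ideal.span ({t} : Set A)))) := by
  have hmem : ∀ r : A, σ r - r ∈ Ideal.span ({t ^ i} : Set A) := fun r =>
    hI (Ideal.subset_span ⟨r, rfl⟩)
  obtain ⟨a, ha⟩ := Ideal.mem_span_singleton'.mp (hmem v)
  obtain ⟨b, hb⟩ := Ideal.mem_span_singleton'.mp (hmem t)
  -- ha : a * t ^ i = σ v - v, hb : b * t ^ i = σ t - t
  obtain ⟨m, rfl⟩ : ∃ m, i = m + 1 := ⟨i - 1, by omega⟩
  have hσv : σ v = v + a * t ^ (m + 1) := by rw [ha]; ring
  have hσt : σ t = t + b * t ^ (m + 1) := by rw [hb]; ring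
  have key : v * (σ t - t) = t ^ (m + 1 + 1) * (-a - a * b * t ^ m) := by
    have h1 : σ v * σ t = v * t := by rw [← map_mul, hσ]
    rw [hσv, hσt] at h1
    rw [← hb]
    linear_combination h1
  set L := Localization.AtPrime (Ideal.span ({t} : Set A))
  have hvunit : IsUnit (algebraMap A L v) :=
    IsLocalization.map_units L (⟨v, hv⟩ : (Ideal.span ({t} : Set A)).primeCompl)
  obtain ⟨u, hu⟩ := hvunit
  rw [Ideal.mem_span_singleton']
  refine ⟨(↑u⁻¹ : L) * algebraMap A L (-a - a * b * t ^ m), ?_⟩
  have h2 := congrArg (algebraMap A L) key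
  rw [map_mul, map_mul, ← hu] at h2
  calc (↑u⁻¹ : L) * algebraMap A L (-a - a * b * t ^ m) * algebraMap A L (t ^ (m + 1 + 1))
      = ↑u⁻¹ * (algebraMap A L (t ^ (m + 1 + 1)) * algebraMap A L (-a - a * b * t ^ m)) := by ring
    _ = ↑u⁻¹ * (↑u * algebraMap A L (σ t - t)) := by rw [h2]
    _ = algebraMap A L (σ t - t) := by rw [← mul_assoc, Units.inv_mul, one_mul]

end Groth.Agent.S15326
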