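import Groth.Statements.S15335
import Groth.Agent.Lib.Helper4.CurveVB6

set_option autoImplicit false
universe u
open CategoryTheory CategoryTheory.Limits AlgebraicGeometry
open VBCurve

namespace Groth.Agent.S15335

/-- Let X be a smooth proper integral curve (integral, smooth and proper of dimension one) over an
algebraically closed field k, and E₁, E₂ finite locally free O_X-modules of ranks r₁ ≥ 1, r₂ ≥ 1.
The maximal slope of E₁ ⊕ E₂ is at most the larger of the maximal slopes of E₁ and E₂: if m₁, m₂ are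
rational numbers such that every finite locally free submodule of positive rank of E₁ (resp. E₂) has
slope deg/rank ≤ m₁ (resp. ≤ m₂), degree meaning χ − rank·χ(O_X), then every finite locally free
submodule F of the biproduct E₁ ⊞ E₂ of rank r' ≥ 1 has slope deg F / r' ≤ max(m₁, m₂). -/
theorem result (k : Type u) [Field k] [IsAlgClosed k] (X : Scheme.{u}) [X.Over (Spec (CommRingCat.of k))]
    [IsIntegral X] [IsProper (X ↘ Spec (CommRingCat.of k))] [Smooth (X ↘ Spec (CommRingCat.of k))]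
    (hdim : topologicalKrullDim X = 1)
    (r₁ r₂ : ℕ) (hr₁ : 0 < r₁) (hr₂ : 0 < r₂) (E₁ E₂ : X.Modules)
    (hE₁ : FlatMod.IsFinLocFreeOfRank r₁ E₁) (hE₂ : FlatMod.IsFinLocFreeOfRank r₂ E₂) (m₁ m₂ : ℚ)
    (h₁ : ∀ (G : X.Modules) (r' : ℕ) (i : G ⟶ E₁), Mono i → 0 < r' → FlatMod.IsFinLocFreeOfRank r' G →
      (Curv2.deg k X G r' : ℚ) / r' ≤ m₁)
    (h₂ : ∀ (G : X.Modules) (r' : ℕ) (i : G ⟶ E₂), Mono i → 0 < r' → FlatMod.IsFinLocFreeOfRank r' G →
      (Curv2.deg k X G r' : ℚ) / r' ≤ m₂)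
    (F : X.Modules) (r' : ℕ) (i : F ⟶ E₁ ⊞ E₂) (hi : Mono i) (hr' : 0 < r')
    (hF : FlatMod.IsFinLocFreeOfRank r' F) :
    (Curv2.deg k X F r' : ℚ) / r' ≤ max m₁ m₂ := by
  haveI := hi
  set f : F ⟶ E₂ := i ≫ biprod.snd with hf
  obtain ⟨rK, rI, hK, hI, hrr, hIs, hdg, hI0, hK0⟩ :=
    Groth.Agent.Lib.Helper4.CurveVB.ker_im k X hdim f hF hE₂
  -- the kernel embeds into `E₁`
  have hmono : Mono (kernel.ι f ≫ i ≫ biprod.fst) := by
    refine ⟨fun {Z} g h hgh => ?_⟩
    have h1 : (g ≫ kernel.ι f) ≫ i = (h ≫ kernel.ι f) ≫ i := by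
      apply biprod.hom_ext
      · simpa [Category.assoc] using hgh
      · have e1 : (g ≫ kernel.ι f) ≫ i ≫ biprod.snd = 0 := by
          rw [Category.assoc, ← hf, kernel.condition, comp_zero]
        have e2 : (h ≫ kernel.ι f) ≫ i ≫ biprod.snd = 0 := by
          rw [Category.assoc, ← hf, kernel.condition, comp_zero]
        simp only [Category.assoc]
        rw [Category.assoc] at e1 e2
        rw [e1, e2]
    have h2 := (cancel_mono i).1 h1
    exact (cancel_mono (kernel.ι f)).1 h2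
  have hr'q : (0 : ℚ) < r' := by exact_mod_cast hr'
  rw [div_le_iff₀ hr'q]
  have hsum : (r' : ℚ) = rK + rI := by exact_mod_cast hrr.symm
  have hdq : (Curv2.deg k X F r' : ℚ) = Curv2.deg k X (kernel f) rK + Curv2.deg k X (Abelian.image f) rI := by
    exact_mod_cast hdg.symm
  have hKb : (Curv2.deg k X (kernel f) rK : ℚ) ≤ m₁ * rK := by
    rcases Nat.eq_zero_or_pos rK with h0 | hpos
    · subst h0
      have hz := Groth.Agent.Lib.Helper4.CurveVB.isZero_of_rank_zero hK
      rw [Groth.Agent.Lib.Helper4.CurveVB.deg_of_isZero k X hz]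
      simp
    · have := h₁ _ rK (kernel.ι f ≫ i ≫ biprod.fst) hmono hpos hK
      have hp : (0 : ℚ) < rK := by exact_mod_cast hpos
      rwa [div_le_iff₀ hp] at this
  have hIb : (Curv2.deg k X (Abelian.image f) rI : ℚ) ≤ m₂ * rI := by
    rcases Nat.eq_zero_or_pos rI with h0 | hpos
    · subst h0
      have hz := Groth.Agent.Lib.Helper4.CurveVB.isZero_of_rank_zero hI
      rw [Groth.Agent.Lib.Helper4.CurveVB.deg_of_isZero k X hz]
      simp
    · have := h₂ _ rI (Abelian.image.ι f) inferInstance hpos hI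
      have hp : (0 : ℚ) < rI := by exact_mod_cast hpos
      rwa [div_le_iff₀ hp] at this
  have hK0' : (0 : ℚ) ≤ rK := by exact_mod_cast Nat.zero_le rK
  have hI0' : (0 : ℚ) ≤ rI := by exact_mod_cast Nat.zero_le rI
  have hm1 := le_max_left m₁ m₂
  have hm2 := le_max_right m₁ m₂
  rw [hdq, hsum]
  nlinarith [mul_le_mul_of_nonneg_right hm1 hK0', mul_le_mul_of_nonneg_right hm2 hI0']

end Groth.Agent.S15335
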