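import Groth.Statements.S15344
import Groth.Agent.Lib.Helper13.MonoLift
import Groth.Agent.Lib.Helper13.Dominant

set_option autoImplicit false
universe u
open CategoryTheory CategoryTheory.Limits AlgebraicGeometry
open Mor

namespace Groth.Agent.S15344

section
open IsLocalRing Groth.Agent.Lib.Helper13.MonoLift Groth.Agent.Lib.Helper13.Dominant

/-- a monomorphism all of whose valuative squares with liftable closed point have lifts
reflects specializations after any base change -/
theorem specializes_of_valuativeLift {X Y : Scheme.{u}} (f : Y ⟶ X) [Mono f]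
    (H : ∀ S : ValuativeCommSq f,
      (∃ l₀ : Spec (CommRingCat.of (IsLocalRing.ResidueField S.R)) ⟶ Y,
          l₀ ≫ f = Spec.map (CommRingCat.ofHom (IsLocalRing.residue S.R)) ≫ S.i₂) →
        S.commSq.HasLift)
    (X' : Scheme.{u}) (g : X' ⟶ X) (y₀ y₁ : ↥(pullback f g))
    (hsp : (pullback.snd f g).base y₁ ⤳ (pullback.snd f g).base y₀) : y₁ ⤳ y₀ := by
  obtain ⟨R, k, hk0, hkcomp⟩ := exists_valuationSubring_of_specializes (pullback.snd f g) y₁
    ((pullback.snd f g).base y₀) hsp
  -- the closed point lifts
  obtain ⟨l₀', hl₀'⟩ := exists_lift_of_mono_of_field (pullback.snd f g) y₀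
    (IsLocalRing.ResidueField R) (Spec.map (CommRingCat.ofHom (IsLocalRing.residue R)) ≫ k)
    ⟨closedPoint (IsLocalRing.ResidueField R), by
      rw [Scheme.Hom.comp_apply]
      have : (Spec.map (CommRingCat.ofHom (IsLocalRing.residue R))).base
          (closedPoint (IsLocalRing.ResidueField R)) = closedPoint R :=
        IsLocalRing.comap_closedPoint (IsLocalRing.residue R)
      rw [this, hk0]⟩
  let S : ValuativeCommSq f :=
    { R := R
      K := (pullback f g).residueField y₁
      i₁ := (pullback f g).fromSpecResidueField y₁ ≫ pullback.fst f g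
      i₂ := k ≫ g
      commSq := ⟨by
        rw [Category.assoc, pullback.condition, ← Category.assoc, ← hkcomp, Category.assoc]
        rfl⟩ }
  obtain ⟨⟨l, -, hl2⟩⟩ := H S ⟨l₀' ≫ pullback.fst f g, by
    rw [Category.assoc, pullback.condition, ← Category.assoc, hl₀', Category.assoc]⟩
  refine specializes_of_lift f g y₀ y₁ R k
    ((Spec.map (CommRingCat.ofHom R.subtype)).base (closedPoint ((pullback f g).residueField y₁)))
    ?_ hk0 l hl2
  rw [← Scheme.Hom.comp_apply, hkcomp, Scheme.Hom.comp_apply]
  congr 1
  exact Scheme.fromSpecResidueField_apply _ _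

end

/-- Let f : Y ⟶ X be a monomorphism of schemes, X quasi-separated. Then the projection Y ×_X X' ⟶ X'
reflects specializations (if the image of y₁ specializes to the image of y₀ then y₁ specializes to
y₀) after every base change X' ⟶ X if and only if, for every valuation ring A with fraction field K
and every commutative square Spec K ⟶ Y, Spec A ⟶ X over f such that, in addition, some morphism
from the spectrum of the residue field of A to Y lies over Spec A ⟶ X, the square admits a lift Spec
A ⟶ Y. -/
theorem result {X Y : Scheme.{u}} [QuasiSeparatedSpace ↥X]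
    (f : Y ⟶ X) [Mono f] :
    (∀ (X' : Scheme.{u}) (g : X' ⟶ X) (y₀ y₁ : ↥(pullback f g)),
        (pullback.snd f g).base y₁ ⤳ (pullback.snd f g).base y₀ → y₁ ⤳ y₀) ↔
      ∀ S : ValuativeCommSq f,
        (∃ l₀ : Spec (CommRingCat.of (IsLocalRing.ResidueField S.R)) ⟶ Y,
            l₀ ≫ f = Spec.map (CommRingCat.ofHom (IsLocalRing.residue S.R)) ≫ S.i₂) →
          S.commSq.HasLift := by
  constructor
  · rintro H S ⟨l₀, hl₀⟩
    exact Groth.Agent.Lib.Helper13.MonoLift.hasLift_of_reflects f S l₀ hl₀
      (fun y₀ y₁ h => H _ S.i₂ y₀ y₁ h)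
  · intro H X' g y₀ y₁ hsp
    exact specializes_of_valuativeLift f H X' g y₀ y₁ hsp

end Groth.Agent.S15344
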