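import Groth.Statements.S15347
import Mathlib

set_option autoImplicit false
universe u
open CategoryTheory CategoryTheory.Limits AlgebraicGeometry
open Mor

namespace Groth.Agent.S15347

section
open IsLocalRing

/-- closed immersions satisfy the existence part of the valuative criterion -/
theorem existence_of_isClosedImmersion {X Y : Scheme.{u}} (c : Y ⟶ X) [IsClosedImmersion c] :
    ValuativeCriterion.Existence c := by
  have h : UniversallyClosed c := inferInstance
  rw [UniversallyClosed.eq_valuativeCriterion] at h
  exact h.1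

/-- part (b) -/
theorem hasLift_of_isImmersion {X Y : Scheme.{u}} (f : Y ⟶ X) [IsImmersion f]
    (S : ValuativeCommSq f)
    (l₀ : Spec (CommRingCat.of (IsLocalRing.ResidueField S.R)) ⟶ Y)
    (hl₀ : l₀ ≫ f = Spec.map (CommRingCat.ofHom (IsLocalRing.residue S.R)) ≫ S.i₂) :
    S.commSq.HasLift := by
  -- the closed point maps into the coborder
  have hcl : S.i₂.base (closedPoint S.R) ∈ f.coborderRange := by
    have h1 : (Spec.map (CommRingCat.ofHom (IsLocalRing.residue S.R))).base
        (closedPoint (IsLocalRing.ResidueField S.R)) = closedPoint S.R :=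
      IsLocalRing.comap_closedPoint (IsLocalRing.residue S.R)
    have h3 : S.i₂.base (closedPoint S.R) =
        f.base (l₀.base (closedPoint (IsLocalRing.ResidueField S.R))) := by
      rw [← h1]
      exact (congrArg (fun k : Spec (CommRingCat.of (IsLocalRing.ResidueField S.R)) ⟶ X =>
        k.base (closedPoint (IsLocalRing.ResidueField S.R))) hl₀).symm
    have h2 : f.base (l₀.base (closedPoint (IsLocalRing.ResidueField S.R))) =
        f.coborderRange.ι.base (f.liftCoborder.base
          (l₀.base (closedPoint (IsLocalRing.ResidueField S.R)))) :=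
      (congrArg (fun k : Y ⟶ X => k.base (l₀.base (closedPoint (IsLocalRing.ResidueField S.R))))
        f.liftCoborder_ι).symm
    rw [h3, h2]
    exact Subtype.coe_prop _
  have hrange : Set.range S.i₂.base ⊆ Set.range f.coborderRange.ι.base := by
    rintro _ ⟨p, rfl⟩
    rw [Scheme.Opens.range_ι]
    exact ((IsLocalRing.specializes_closedPoint p).map S.i₂.continuous).mem_open
      f.coborderRange.isOpen hcl
  let S' : ValuativeCommSq f.liftCoborder :=
    { R := S.R
      K := S.K
      i₁ := S.i₁
      i₂ := IsOpenImmersion.lift f.coborderRange.ι S.i₂ hrange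
      commSq := ⟨by
        rw [← cancel_mono f.coborderRange.ι, Category.assoc, Category.assoc,
          Scheme.Hom.liftCoborder_ι, IsOpenImmersion.lift_fac]
        exact S.commSq.w⟩ }
  obtain ⟨⟨l, hl1, hl2⟩⟩ := existence_of_isClosedImmersion f.liftCoborder S'
  refine ⟨⟨⟨l, hl1, ?_⟩⟩⟩
  have h5 : l ≫ (f.liftCoborder ≫ f.coborderRange.ι) = S.i₂ := by
    rw [← Category.assoc, hl2]
    exact IsOpenImmersion.lift_fac _ _ _
  rwa [Scheme.Hom.liftCoborder_ι] at h5

/-- part (c) -/
theorem exists_open_lift_of_isImmersion {X Y : Scheme.{u}} (f : Y ⟶ X) [IsImmersion f]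
    (A : Type u) [CommRing A] [IsDomain A] (s : Spec (CommRingCat.of A) ⟶ X)
    (D : Set ↥(Spec (CommRingCat.of A))) (hD : Dense D)
    (hl : ∀ p ∈ D, ∃ l : Spec ((Spec (CommRingCat.of A)).residueField p) ⟶ Y,
        l ≫ f = (Spec (CommRingCat.of A)).fromSpecResidueField p ≫ s) :
    ∃ U : (Spec (CommRingCat.of A)).Opens, (U : Set ↥(Spec (CommRingCat.of A))).Nonempty ∧
      ∃ l : (U : Scheme.{u}) ⟶ Y, l ≫ f = U.ι ≫ s := by
  -- points of `D` map into the image of `f`
  have hDf : ∀ p ∈ D, ∃ y : Y, f.base y = s.base p := by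
    intro p hp
    obtain ⟨l, hl'⟩ := hl p hp
    refine ⟨l.base (closedPoint _), ?_⟩
    rw [← Scheme.Hom.comp_apply, hl', Scheme.Hom.comp_apply, Scheme.fromSpecResidueField_apply]
  have hDW : ∀ p ∈ D, p ∈ s ⁻¹ᵁ f.coborderRange := by
    intro p hp
    obtain ⟨y, hy⟩ := hDf p hp
    change s.base p ∈ f.coborderRange
    have h2 : f.base y = f.coborderRange.ι.base (f.liftCoborder.base y) :=
      (congrArg (fun k : Y ⟶ X => k.base y) f.liftCoborder_ι).symm
    rw [← hy, h2]
    exact Subtype.coe_prop _
  obtain ⟨p₀, hp₀⟩ := hD.nonempty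
  refine ⟨s ⁻¹ᵁ f.coborderRange, ⟨p₀, hDW p₀ hp₀⟩, ?_⟩
  -- the pulled back closed immersion is surjective
  haveI hsurj : Surjective (pullback.snd f.liftCoborder (s ∣_ f.coborderRange)) := by
    constructor
    have hclosed : IsClosed (Set.range (pullback.snd f.liftCoborder (s ∣_ f.coborderRange)).base) :=
      (pullback.snd f.liftCoborder (s ∣_ f.coborderRange)).isClosedEmbedding.isClosed_range
    have hdense : Dense ((s ⁻¹ᵁ f.coborderRange).ι.base ⁻¹' D) :=
      hD.preimage (s ⁻¹ᵁ f.coborderRange).ι.isOpenEmbedding.isOpenMap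
    have hsub : (s ⁻¹ᵁ f.coborderRange).ι.base ⁻¹' D ⊆
        Set.range (pullback.snd f.liftCoborder (s ∣_ f.coborderRange)).base := by
      intro v hv
      obtain ⟨y, hy⟩ := hDf _ hv
      have hyv : f.liftCoborder.base y = (s ∣_ f.coborderRange).base v := by
        apply f.coborderRange.ι.isOpenEmbedding.injective
        rw [← Scheme.Hom.comp_apply, ← Scheme.Hom.comp_apply, Scheme.Hom.liftCoborder_ι,
          morphismRestrict_ι, Scheme.Hom.comp_apply]
        exact hy
      obtain ⟨z, -, hz⟩ := Scheme.Pullback.exists_preimage_pullback _ _ hyv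
      exact ⟨z, hz⟩
    intro v
    have : Set.range (pullback.snd f.liftCoborder (s ∣_ f.coborderRange)).base = Set.univ := by
      apply Set.eq_univ_of_univ_subset
      rw [← hdense.closure_eq]
      exact closure_minimal hsub hclosed
    rw [Set.eq_univ_iff_forall] at this
    exact this v
  haveI : IsIso (pullback.snd f.liftCoborder (s ∣_ f.coborderRange)) :=
    isIso_of_isClosedImmersion_of_surjective _
  refine ⟨inv (pullback.snd f.liftCoborder (s ∣_ f.coborderRange)) ≫
    pullback.fst f.liftCoborder (s ∣_ f.coborderRange), ?_⟩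
  have h6 : (inv (pullback.snd f.liftCoborder (s ∣_ f.coborderRange)) ≫
      pullback.fst f.liftCoborder (s ∣_ f.coborderRange)) ≫
      (f.liftCoborder ≫ f.coborderRange.ι) = (s ⁻¹ᵁ f.coborderRange).ι ≫ s := by
    rw [Category.assoc, ← Category.assoc (pullback.fst _ _),
      pullback.condition, Category.assoc, IsIso.inv_hom_id_assoc, morphismRestrict_ι]
  rwa [Scheme.Hom.liftCoborder_ι] at h6

end

/-- Let f : Y ⟶ X be an immersion of schemes. Then: for every valuation ring A with fraction field K and
every commutative square Spec K ⟶ Y, Spec A ⟶ X over f such that some morphism from the spectrum of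
the residue field of A to Y lies over Spec A ⟶ X, the square admits a lift; and for every integral
domain A and every morphism s : Spec A ⟶ X such that the points of a dense subset of Spec A lift to
Y (the residue field of each such point maps to Y over s), there is a nonempty open subscheme U of
Spec A with a morphism U ⟶ Y over s. (The published statement is for a representable, locally
finitely presented morphism of algebraic stacks with locally Noetherian target and a quasi-compact
immersion, and also lists that f is a monomorphism; this row is the case of schemes, for any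
immersion and any target.) -/
theorem result {X Y : Scheme.{u}} (f : Y ⟶ X) [IsImmersion f] :
    (∀ S : ValuativeCommSq f,
        (∃ l₀ : Spec (CommRingCat.of (IsLocalRing.ResidueField S.R)) ⟶ Y,
            l₀ ≫ f = Spec.map (CommRingCat.ofHom (IsLocalRing.residue S.R)) ≫ S.i₂) →
          S.commSq.HasLift) ∧
      ∀ (A : Type u) [CommRing A] [IsDomain A] (s : Spec (CommRingCat.of A) ⟶ X) (D : Set ↥(Spec (CommRingCat.of A))),
        Dense D →
        (∀ p ∈ D, ∃ l : Spec ((Spec (CommRingCat.of A)).residueField p) ⟶ Y,
            l ≫ f = (Spec (CommRingCat.of A)).fromSpecResidueField p ≫ s) →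
          ∃ U : (Spec (CommRingCat.of A)).Opens, (U : Set ↥(Spec (CommRingCat.of A))).Nonempty ∧
            ∃ l : (U : Scheme.{u}) ⟶ Y, l ≫ f = U.ι ≫ s := by
  refine ⟨?_, ?_⟩
  · rintro S ⟨l₀, hl₀⟩
    exact hasLift_of_isImmersion f S l₀ hl₀
  · intro A _ _ s D hD hl
    exact exists_open_lift_of_isImmersion f A s D hD hl

end Groth.Agent.S15347
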