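import Groth.Statements.S15353
import Groth.Agent.Lib.Helper17.NilLift

set_option autoImplicit false
universe u
open CAlg

namespace Groth.Agent.S15353
open TensorProduct CommRing Groth.Agent.Lib.Helper17.NilLift

theorem bijective_mapAlgebra {R S : Type u} [CommRing R] [CommRing S] [Algebra R S]
    (hf : Function.Surjective (algebraMap R S))
    (hN : IsNilpotent (RingHom.ker (algebraMap R S))) :
    Function.Bijective (Pic.mapAlgebra R S) := by
  constructor
  · rw [injective_iff_map_eq_one]
    intro M hM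
    rw [Pic.mapAlgebra_apply, Pic.mk_eq_one_iff] at hM
    obtain ⟨e⟩ := hM
    obtain ⟨e'⟩ := nonempty_linearEquiv_of_baseChange hf hN M e
    rw [← Pic.mk_eq_self (M := M)]
    exact Pic.mk_eq_one_iff.mpr ⟨e'⟩
  · intro Q
    have h0 : Pic.mk S ((Q : Type u) ⊗[S] ((Q⁻¹ : Pic S) : Type u)) = 1 := by
      rw [← Pic.mul_eq_tensor, mul_inv_cancel]
    obtain ⟨e₀⟩ := Pic.mk_eq_one_iff.mp h0
    obtain ⟨M, _, _, _, _, ⟨e₁⟩⟩ := exists_lift_projective hf hN (Q : Type u)
    obtain ⟨M', _, _, _, _, ⟨e₂⟩⟩ := exists_lift_projective hf hN ((Q⁻¹ : Pic S) : Type u)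
    let e : S ⊗[R] (M ⊗[R] M') ≃ₗ[S] S :=
      AlgebraTensorModule.distribBaseChange R S M M' ≪≫ₗ TensorProduct.congr e₁ e₂ ≪≫ₗ e₀
    obtain ⟨ex⟩ := nonempty_linearEquiv_of_baseChange hf hN (M ⊗[R] M') e
    haveI : Module.Invertible R M := .left ex
    refine ⟨Pic.mk R M, ?_⟩
    rw [Pic.mapAlgebra_apply]
    exact Pic.mk_eq_iff.mpr
      ⟨AlgebraTensorModule.congr (LinearEquiv.refl S S) (Pic.mk.linearEquiv R M) ≪≫ₗ e₁⟩


/-- Let f : A' → A be a surjective ring homomorphism whose kernel is a nilpotent ideal. Then the induced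
homomorphism of Picard groups Pic(A') → Pic(A), base change of invertible modules along f, is
bijective. -/
theorem result {A' A : Type u} [CommRing A'] [CommRing A]
    (f : A' →+* A) (hf : Function.Surjective f) (hker : IsNilpotent (RingHom.ker f)) :
    Function.Bijective (CommRing.Pic.mapRingHom f) := by
  letI := f.toAlgebra
  exact bijective_mapAlgebra (R := A') (S := A) hf hker

end Groth.Agent.S15353
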