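import Groth.Statements.S15354
import Mathlib
-- import your own Groth.Agent.* helpers here

set_option autoImplicit false
universe u
open CategoryTheory CategoryTheory.Limits AlgebraicGeometry
open Mor

namespace Groth.Agent.S15354

/-- Let f : Y ⟶ X be a morphism of schemes, A a valuation ring with fraction field K and residue field
k, and ξ, η : Spec A ⟶ Y two A-points of Y over the same A-point of X. If ξ and η restrict to the
same K-point and to the same k-point of Y, then ξ = η. (The published statement is an equivalence,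
for algebraic spaces locally of finite presentation over a Noetherian scheme, between local
separatedness of f and conditions (a), (b); this row is the necessity of (a) in the case of schemes,
where no hypothesis on f is needed.) -/
theorem result {X Y : Scheme.{u}} (f : Y ⟶ X)
    (A : Type u) [CommRing A] [IsDomain A] [ValuationRing A] (K : Type u) [Field K] [Algebra A K]
    [IsFractionRing A K] (ξ η : Spec (CommRingCat.of A) ⟶ Y) (hf : ξ ≫ f = η ≫ f)
    (hK : Spec.map (CommRingCat.ofHom (algebraMap A K)) ≫ ξ = Spec.map (CommRingCat.ofHom (algebraMap A K)) ≫ η)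
    (hk : Spec.map (CommRingCat.ofHom (IsLocalRing.residue A)) ≫ ξ =
      Spec.map (CommRingCat.ofHom (IsLocalRing.residue A)) ≫ η) :
    ξ = η := by
  -- closed point
  let m : Spec (CommRingCat.of A) := IsLocalRing.closedPoint A
  have hm : ξ m = η m := by
    let pt : Spec (CommRingCat.of (IsLocalRing.ResidueField A)) :=
      IsLocalRing.closedPoint (IsLocalRing.ResidueField A)
    have h1 : Spec.map (CommRingCat.ofHom (IsLocalRing.residue A)) pt = m :=
      IsLocalRing.comap_closedPoint (IsLocalRing.residue A)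
    have := congrArg (fun t => t pt) hk
    simp only [Scheme.Hom.comp_apply] at this
    rw [h1] at this
    exact this
  obtain ⟨V, hV, hyV⟩ : ∃ V : Y.Opens, IsAffineOpen V ∧ ξ m ∈ V := by
    obtain ⟨_, ⟨V, hV, rfl⟩, hyV, -⟩ :=
      Y.isBasis_affineOpens.exists_subset_of_mem_open (Set.mem_univ (ξ m)) isOpen_univ
    exact ⟨V, hV, hyV⟩
  have hξV : ξ ⁻¹ᵁ V = ⊤ := Scheme.preimage_eq_top_of_closedPoint_mem ξ hyV
  have hηV : η ⁻¹ᵁ V = ⊤ := Scheme.preimage_eq_top_of_closedPoint_mem η (hm ▸ hyV)
  have hξr : Set.range ξ ⊆ Set.range V.ι := by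
    rintro _ ⟨a, rfl⟩
    rw [Scheme.Opens.range_ι]
    have : a ∈ ξ ⁻¹ᵁ V := by rw [hξV]; trivial
    exact this
  have hηr : Set.range η ⊆ Set.range V.ι := by
    rintro _ ⟨a, rfl⟩
    rw [Scheme.Opens.range_ι]
    have : a ∈ η ⁻¹ᵁ V := by rw [hηV]; trivial
    exact this
  let ξ' := IsOpenImmersion.lift V.ι ξ hξr
  let η' := IsOpenImmersion.lift V.ι η hηr
  have e1 : ξ' ≫ V.ι = ξ := IsOpenImmersion.lift_fac _ _ _
  have e2 : η' ≫ V.ι = η := IsOpenImmersion.lift_fac _ _ _
  have : IsAffine V := hV
  suffices h : ξ' ≫ V.toScheme.isoSpec.hom = η' ≫ V.toScheme.isoSpec.hom by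
    rw [← e1, ← e2, (cancel_mono _).1 h]
  obtain ⟨a, ha⟩ : ∃ a, Spec.map a = ξ' ≫ V.toScheme.isoSpec.hom := ⟨_, Spec.map_preimage _⟩
  obtain ⟨b, hb⟩ : ∃ b, Spec.map b = η' ≫ V.toScheme.isoSpec.hom := ⟨_, Spec.map_preimage _⟩
  rw [← ha, ← hb]
  congr 1
  have hK' : Spec.map (CommRingCat.ofHom (algebraMap A K)) ≫ Spec.map a =
      Spec.map (CommRingCat.ofHom (algebraMap A K)) ≫ Spec.map b := by
    rw [ha, hb, ← Category.assoc, ← Category.assoc]
    congr 1
    rw [← cancel_mono V.ι, Category.assoc, Category.assoc, e1, e2, hK]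
  rw [← Spec.map_comp, ← Spec.map_comp] at hK'
  have hK'' := Spec.map_injective hK'
  ext x
  have := congrArg (fun t => t.hom x) hK''
  simp only [CommRingCat.hom_comp, CommRingCat.hom_ofHom, RingHom.comp_apply] at this
  exact IsFractionRing.injective A K this

end Groth.Agent.S15354
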