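import Groth.Statements.S15355
import Mathlib
-- import your own Groth.Agent.* helpers here

set_option autoImplicit false
universe u
open CategoryTheory CategoryTheory.Limits AlgebraicGeometry
open Mor

namespace Groth.Agent.S15355

/-- Let f : Y ⟶ X be a morphism of schemes, A an integral domain and ξ, η : Spec A ⟶ Y two A-points of Y
over the same A-point of X. If ξ and η induce the same κ(p)-point of Y at every point p of some
dense subset of Spec A, then ξ and η agree on a nonempty open subscheme of Spec A. (The published
statement is an equivalence, for algebraic spaces locally of finite presentation over a Noetherian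
scheme, between local separatedness of f and conditions (a), (b); this row is the necessity of (b)
in the case of schemes, where no hypothesis on f is needed.) -/
theorem result {X Y : Scheme.{u}} (f : Y ⟶ X)
    (A : Type u) [CommRing A] [IsDomain A] (ξ η : Spec (CommRingCat.of A) ⟶ Y) (hf : ξ ≫ f = η ≫ f)
    (D : Set ↥(Spec (CommRingCat.of A))) (hD : Dense D)
    (hpt : ∀ p ∈ D, (Spec (CommRingCat.of A)).fromSpecResidueField p ≫ ξ =
      (Spec (CommRingCat.of A)).fromSpecResidueField p ≫ η) :
    ∃ U : (Spec (CommRingCat.of A)).Opens, (U : Set ↥(Spec (CommRingCat.of A))).Nonempty ∧ U.ι ≫ ξ = U.ι ≫ η := by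
  let l : Spec (CommRingCat.of A) ⟶ pullback f f := pullback.lift ξ η hf
  let E := pullback (pullback.diagonal f) l
  let e : E ⟶ Spec (CommRingCat.of A) := pullback.snd _ _
  have he : IsImmersion e := inferInstance
  have heq : e ≫ ξ = e ≫ η := by
    have c : pullback.fst (pullback.diagonal f) l ≫ pullback.diagonal f = e ≫ l := pullback.condition
    have c1 := congrArg (· ≫ pullback.fst f f) c
    have c2 := congrArg (· ≫ pullback.snd f f) c
    simp only [Category.assoc, pullback.diagonal_fst, pullback.diagonal_snd, Category.comp_id, l,
      pullback.lift_fst, pullback.lift_snd] at c1 c2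
    rw [← c1, ← c2]
  have hDr : D ⊆ Set.range e := by
    intro p hp
    let κp := (Spec (CommRingCat.of A)).fromSpecResidueField p
    let t : Spec ((Spec (CommRingCat.of A)).residueField p) ⟶ E :=
      pullback.lift (κp ≫ ξ) κp (by
        apply pullback.hom_ext
        · simp only [Category.assoc, pullback.diagonal_fst, pullback.lift_fst, Category.comp_id, l]
        · simp only [Category.assoc, pullback.diagonal_snd, pullback.lift_snd, Category.comp_id, l]
          exact hpt p hp)
    have ht : t ≫ e = κp := pullback.lift_snd _ _ _
    let pt : Spec ((Spec (CommRingCat.of A)).residueField p) :=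
      IsLocalRing.closedPoint ((Spec (CommRingCat.of A)).residueField p)
    have h2 : κp pt = p := Scheme.fromSpecResidueField_apply p pt
    have h3 : (t ≫ e) pt = κp pt := by rw [ht]
    rw [Scheme.Hom.comp_apply] at h3
    exact ⟨t pt, h3.trans h2⟩
  have hdense : Dense (Set.range e) := hD.mono hDr
  have hcob : coborder (Set.range e) = Set.range e := by
    rw [coborder, hdense.closure_eq, ← Set.compl_eq_univ_sdiff, compl_compl]
  let U := e.coborderRange
  have hsurj : Surjective e.liftCoborder := ⟨fun u => by
    have hu : u.1 ∈ coborder (Set.range e) := u.2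
    rw [hcob] at hu
    obtain ⟨x, hx⟩ := hu
    refine ⟨x, U.ι.injective ?_⟩
    rw [← Scheme.Hom.comp_apply, e.liftCoborder_ι, hx]
    rfl⟩
  have hiso : IsIso e.liftCoborder := isIso_of_isClosedImmersion_of_surjective _
  refine ⟨U, ?_, ?_⟩
  · have : Nonempty (Spec (CommRingCat.of A)) := inferInstanceAs (Nonempty (PrimeSpectrum A))
    obtain ⟨p, hp⟩ := hD.nonempty
    exact ⟨p, subset_coborder (hDr hp)⟩
  · have hU : U.ι = inv e.liftCoborder ≫ e := by
      rw [IsIso.eq_inv_comp, e.liftCoborder_ι]
    rw [hU, Category.assoc, Category.assoc, heq]

end Groth.Agent.S15355
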