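import Groth.Statements.S15362
import Mathlib
import Groth.Agent.Lib.Helper22.SigmaLin5
-- import your own Groth.Agent.* helpers here

set_option autoImplicit false
universe u v w
open CAlg

namespace Groth.Agent.S15362

/-- For an algebraically closed field L of characteristic p > 0, a commutative L-algebra R integral over
L, and a finitely presented R-module M carrying an additive endomorphism φ with φ(r·m) = r^p·φ(m)
for r ∈ R, m ∈ M, the map m ↦ φ(m) − m is onto. (R is taken of exponential characteristic p so that
its Frobenius is a ring endomorphism; for a non-zero L-algebra this is automatic.) -/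
theorem result (p : ℕ) [Fact p.Prime]
    (L : Type u) [Field L] [IsAlgClosed L] [CharP L p]
    (R : Type v) [CommRing R] [Algebra L R] [Algebra.IsIntegral L R] [ExpChar R p]
    (M : Type w) [AddCommGroup M] [Module R M] [Module.FinitePresentation R M]
    (φ : M →ₛₗ[frobenius R p] M) :
    Function.Surjective fun m : M => φ m - m := by
  classical
  obtain ⟨n, s, hs⟩ := Module.Finite.exists_fin (R := R) (M := M)
  have hmem : ∀ x : M, ∃ c : Fin n → R, ∑ i, c i • s i = x := fun x =>
    (Submodule.mem_span_range_iff_exists_fun R).mp (by rw [hs]; trivial)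
  choose a ha using fun i => hmem (φ (s i))
  intro m
  obtain ⟨r, hr⟩ := hmem m
  let S : Set R := Set.range (fun ij : Fin n × Fin n => a ij.1 ij.2) ∪ Set.range r
  have hSfin : S.Finite := (Set.finite_range _).union (Set.finite_range _)
  let R' : Subalgebra L R := Algebra.adjoin L S
  haveI : Module.Finite L R' :=
    Algebra.finite_adjoin_of_finite_of_isIntegral hSfin (fun x _ => Algebra.IsIntegral.isIntegral x)
  have haR : ∀ i j, a i j ∈ R' := fun i j =>
    Algebra.subset_adjoin (Or.inl ⟨(i, j), rfl⟩)
  have hrR : ∀ i, r i ∈ R' := fun i => Algebra.subset_adjoin (Or.inr ⟨i, rfl⟩)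
  letI : Module L M := Module.compHom M (algebraMap L R)
  haveI : IsScalarTower L R M := IsScalarTower.of_algebraMap_smul fun _ _ => rfl
  let g : (Fin n → R') →ₗ[L] M :=
    { toFun := fun f => ∑ i, (f i : R) • s i
      map_add' := fun f f' => by
        simp only [Pi.add_apply, Subalgebra.coe_add, add_smul, Finset.sum_add_distrib]
      map_smul' := fun c f => by
        simp only [Pi.smul_apply, Subalgebra.coe_smul, RingHom.id_apply, Finset.smul_sum,
          smul_assoc] }
  let V : Submodule L M := LinearMap.range g
  haveI : FiniteDimensional L V := Module.Finite.range g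
  have hφV : ∀ v ∈ V, φ v ∈ V := by
    rintro _ ⟨f, rfl⟩
    refine ⟨fun j => ∑ i, ⟨(f i : R) ^ p * a i j, R'.mul_mem (R'.pow_mem (f i).2 p) (haR i j)⟩, ?_⟩
    show ∑ j, ((∑ i, (⟨(f i : R) ^ p * a i j, _⟩ : R') : R' ) : R) • s j = φ (∑ i, (f i : R) • s i)
    rw [map_sum]
    simp only [map_smulₛₗ, frobenius_def, ← ha, Finset.smul_sum, smul_smul]
    rw [Finset.sum_comm]
    refine Finset.sum_congr rfl fun j _ => ?_
    rw [← Finset.sum_smul]
    congr 1
    simp
  let T : V →ₛₗ[frobenius L p] V :=
    { toFun := fun v => ⟨φ v, hφV v v.2⟩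
      map_add' := fun x y => Subtype.ext (by simp)
      map_smul' := fun c x => Subtype.ext (by
        show φ (c • (x : M)) = (frobenius L p c) • φ (x : M)
        rw [← algebraMap_smul R c (x : M), map_smulₛₗ, ← algebraMap_smul R (frobenius L p c),
          frobenius_def, frobenius_def, map_pow]) }
  have hgood : Groth.Agent.Lib.Helper22.SigmaLin.Good.{u, w} (frobenius L p) :=
    Groth.Agent.Lib.Helper22.SigmaLin.good_of_pow p (Fact.out : p.Prime).two_le _ (Or.inl (fun x => frobenius_def p x))
  have hmV : m ∈ V := ⟨fun i => ⟨r i, hrR i⟩, hr⟩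
  obtain ⟨v, hv⟩ := (hgood V T).1 (-⟨m, hmV⟩)
  have hv' : (v : M) - φ (v : M) = -m := congrArg Subtype.val hv
  exact ⟨v, by show φ (v : M) - (v : M) = m; rw [← neg_sub, hv', neg_neg]⟩

end Groth.Agent.S15362
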