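import Groth.Statements.S15363
import Mathlib

set_option autoImplicit false
universe u
open CategoryTheory AlgebraicGeometry
open SekSuwa

namespace Groth.Agent.S15363

section Aux
open CategoryTheory AlgebraicGeometry Limits

variable (R : Type u) [CommRing R] (lam : R) (N : ℕ) (h : SekSuwa.DivCond lam N)

/-- affine lemma -/
theorem affine_lemma (B : Type u) [CommRing B] (ρ : R →+* B) (hρ : ρ.Flat)
    (φ₁ φ₂ : AK R lam N h →+* B)
    (h₁ : φ₁.comp (algebraMap R (AK R lam N h)) = ρ) (h₂ : φ₂.comp (algebraMap R (AK R lam N h)) = ρ)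
    (hα : φ₁.comp ((alphaNHom R lam N h : MonoidAlgebra R (Multiplicative (ZMod N)) →ₐc[R] AK R lam N h) : MonoidAlgebra R (Multiplicative (ZMod N)) →+* AK R lam N h) =
      φ₂.comp ((alphaNHom R lam N h : MonoidAlgebra R (Multiplicative (ZMod N)) →ₐc[R] AK R lam N h) : MonoidAlgebra R (Multiplicative (ZMod N)) →+* AK R lam N h)) : φ₁ = φ₂ := by
  letI := ρ.toAlgebra
  haveI : Module.Flat R B := hρ
  let ψ₁ : AK R lam N h →ₐ[R] B := { φ₁ with commutes' := fun r => congrArg (fun f => f r) h₁ }
  let ψ₂ : AK R lam N h →ₐ[R] B := { φ₂ with commutes' := fun r => congrArg (fun f => f r) h₂ }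
  have hu : ψ₁ (1 + lam • AK.t) = ψ₂ (1 + lam • AK.t) := by
    have := congrArg (fun f => f (MonoidAlgebra.single (Multiplicative.ofAdd (1 : ZMod N)) 1)) hα
    simp only [RingHom.comp_apply] at this
    have e := alphaNHom_single_one R lam N h
    have e' : ((alphaNHom R lam N h : MonoidAlgebra R (Multiplicative (ZMod N)) →ₐc[R] AK R lam N h) : MonoidAlgebra R (Multiplicative (ZMod N)) →+* AK R lam N h)
        (MonoidAlgebra.single (Multiplicative.ofAdd (1 : ZMod N)) 1) = 1 + lam • AK.t := e
    rw [e'] at this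
    exact this
  have ht : ψ₁ AK.t = ψ₂ AK.t := by
    rw [map_add, map_add, map_one, map_one, map_smul, map_smul] at hu
    have h3 : lam • ψ₁ AK.t = lam • ψ₂ AK.t := add_left_cancel hu
    exact Module.Flat.isSMulRegular_of_nonZeroDivisors h.nzd h3
  have hinv : ψ₁ AK.inv = ψ₂ AK.inv := by
    have e1 : (1 + lam • (AK.t : AK R lam N h)) * AK.inv = 1 := by
      have := congrArg (AK.mkHom R lam N h) (A.u_mul_inv (R := R) (lam := lam))
      rw [map_mul, map_one, A.u, map_add, map_one, map_smul] at this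
      exact this
    have a1 := congrArg ψ₁ e1
    have a2 := congrArg ψ₂ e1
    rw [map_mul, map_one] at a1 a2
    calc ψ₁ AK.inv = ψ₁ AK.inv * (ψ₂ (1 + lam • AK.t) * ψ₂ AK.inv) := by rw [a2, mul_one]
      _ = (ψ₁ (1 + lam • AK.t) * ψ₁ AK.inv) * ψ₂ AK.inv := by rw [← hu]; ring
      _ = ψ₂ AK.inv := by rw [a1, one_mul]
  have : ψ₁ = ψ₂ := AK.algHom_ext ht hinv
  ext x
  exact congrArg (fun f : AK R lam N h →ₐ[R] B => f x) this

theorem aux (X : Scheme.{u}) (π : X ⟶ Spec (CommRingCat.of R)) [Flat π]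
    (fl gl : X ⟶ Spec (CommRingCat.of (AK R lam N h)))
    (hf : fl ≫ Spec.map (CommRingCat.ofHom (algebraMap R (AK R lam N h))) = π)
    (hg : gl ≫ Spec.map (CommRingCat.ofHom (algebraMap R (AK R lam N h))) = π)
    (hfg : fl ≫ Spec.map (CommRingCat.ofHom ((alphaNHom R lam N h : MonoidAlgebra R (Multiplicative (ZMod N)) →ₐc[R] AK R lam N h) : MonoidAlgebra R (Multiplicative (ZMod N)) →+* AK R lam N h)) =
      gl ≫ Spec.map (CommRingCat.ofHom ((alphaNHom R lam N h : MonoidAlgebra R (Multiplicative (ZMod N)) →ₐc[R] AK R lam N h) : MonoidAlgebra R (Multiplicative (ZMod N)) →+* AK R lam N h)))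
    (B : CommRingCat.{u}) (j : Spec B ⟶ X) [Flat j] : j ≫ fl = j ≫ gl := by
  obtain ⟨φ₁, hφ₁⟩ := Spec.map_surjective (j ≫ fl)
  obtain ⟨φ₂, hφ₂⟩ := Spec.map_surjective (j ≫ gl)
  suffices hsuff : φ₁ = φ₂ by
    rw [← hφ₁, ← hφ₂, hsuff]
  -- structure maps
  have hs₁ : Spec.map (CommRingCat.ofHom (algebraMap R (AK R lam N h)) ≫ φ₁) = j ≫ π := by
    rw [Spec.map_comp, hφ₁, Category.assoc, hf]
  have hs₂ : Spec.map (CommRingCat.ofHom (algebraMap R (AK R lam N h)) ≫ φ₂) = j ≫ π := by
    rw [Spec.map_comp, hφ₂, Category.assoc, hg]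
  have hflat : (CommRingCat.ofHom (algebraMap R (AK R lam N h)) ≫ φ₁).hom.Flat := by
    rw [← Flat.SpecMap_iff, hs₁]
    infer_instance
  have heq : CommRingCat.ofHom (algebraMap R (AK R lam N h)) ≫ φ₁ =
      CommRingCat.ofHom (algebraMap R (AK R lam N h)) ≫ φ₂ :=
    Spec.map_injective (hs₁.trans hs₂.symm)
  have hα : CommRingCat.ofHom ((alphaNHom R lam N h : MonoidAlgebra R (Multiplicative (ZMod N)) →ₐc[R] AK R lam N h) : MonoidAlgebra R (Multiplicative (ZMod N)) →+* AK R lam N h) ≫ φ₁ =
      CommRingCat.ofHom ((alphaNHom R lam N h : MonoidAlgebra R (Multiplicative (ZMod N)) →ₐc[R] AK R lam N h) : MonoidAlgebra R (Multiplicative (ZMod N)) →+* AK R lam N h) ≫ φ₂ := by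
    apply Spec.map_injective
    rw [Spec.map_comp, Spec.map_comp, hφ₁, hφ₂, Category.assoc, Category.assoc, hfg]
  apply CommRingCat.hom_ext
  refine affine_lemma R lam N h _ _ hflat φ₁.hom φ₂.hom rfl ?_ ?_
  · exact (congrArg (fun k => k.hom) heq).symm
  · exact congrArg (fun k => k.hom) hα

theorem main (G : Over (Spec (CommRingCat.of R))) [Flat G.hom]
    (f g : G ⟶ SekSuwa.GK R lam N h)
    (hfg : f ≫ SekSuwa.alphaN R lam N h = g ≫ SekSuwa.alphaN R lam N h) : f = g := by
  apply Over.OverMorphism.ext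
  refine Scheme.Cover.hom_ext G.left.affineOpenCover.openCover _ _ fun i => ?_
  haveI : IsOpenImmersion (G.left.affineOpenCover.f i) :=
    inferInstanceAs (IsOpenImmersion (G.left.affineOpenCover.openCover.f i))
  exact aux R lam N h G.left G.hom f.left g.left (Over.w f) (Over.w g)
    (congrArg (fun k => k.left) hfg) _ (G.left.affineOpenCover.f i)


end Aux

/-- Let R be an integral domain, p a prime and λ ∈ R a non-zero element with λ^p dividing (1 + λX)^p −
1, so that the congruence group scheme G_λ = Spec R[T]/(P_λ(T)) of level λ and its homomorphism θ_λ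
: G_λ → μ_p, X ↦ 1 + λT, are defined. For every scheme G flat over Spec R, composition with θ_λ is
injective on R-morphisms G → G_λ; in particular θ_λ induces an injective map from the homomorphisms
G → G_λ of a flat R-group scheme G to its homomorphisms G → μ_p. (The published statement is over
the ring of integers of an algebraic closure of a complete discretely valued field of mixed
characteristic, for finite flat commutative group schemes killed by p; the published argument, that
θ_λ is an isomorphism on the generic fibre and G is flat, gives the form stated here.) -/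
theorem result (R : Type u) [CommRing R] [IsDomain R]
    (p : ℕ) [Fact p.Prime] (lam : R) (h : SekSuwa.DivCond lam p)
    (G : Over (Spec (CommRingCat.of R))) [Flat G.hom]
    (f g : G ⟶ SekSuwa.GK R lam p h)
    (hfg : f ≫ SekSuwa.alphaN R lam p h = g ≫ SekSuwa.alphaN R lam p h) : f = g := by
  exact main R lam p h G f g hfg

end Groth.Agent.S15363
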