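import Groth.Statements.S15366
import Mathlib
import Groth.Agent.Lib.Helper12.CohenExistA

set_option autoImplicit false
universe u
open CAlg

namespace Groth.Agent.S15366

/-- Let k be an algebraically closed field of characteristic p > 0, R = k[[t₁, t₂]], and O = R_{(t₁)}
the local ring of Spec R at the generic point x of the divisor t₁ = 0 (a discrete valuation ring,
with uniformizer t₁ and residue field k((t₂))). Then O embeds, by an injective local k-algebra map
φ, into some complete discrete valuation ring A containing k whose residue field is algebraically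
closed and in which φ(t₁) is still a uniformizer. The prime ideal (t₁) is passed as an ideal P equal
to it together with its primality. -/
theorem result
    (p : ℕ) [Fact p.Prime] (k : Type u) [Field k] [IsAlgClosed k] [CharP k p]
    (P : Ideal (MvPowerSeries (Fin 2) k))
    (hP : P = Ideal.span {(MvPowerSeries.X 0 : MvPowerSeries (Fin 2) k)}) [P.IsPrime] :
    ∃ (A : Type u) (_ : CommRing A) (_ : IsDomain A) (_ : IsDiscreteValuationRing A) (_ : Algebra k A)
      (φ : Localization.AtPrime P →ₐ[k] A),
      IsAdicComplete (IsLocalRing.maximalIdeal A) A ∧ IsAlgClosed (IsLocalRing.ResidueField A) ∧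
        Function.Injective φ ∧ IsLocalHom φ.toRingHom ∧
          Irreducible (φ (algebraMap (MvPowerSeries (Fin 2) k) (Localization.AtPrime P)
            (MvPowerSeries.X 0))) := by
  classical
  haveI hPne : P.primeCompl ≤ nonZeroDivisors (MvPowerSeries (Fin 2) k) :=
    Ideal.primeCompl_le_nonZeroDivisors P
  have hinjO : Function.Injective (algebraMap (MvPowerSeries (Fin 2) k) (Localization.AtPrime P)) :=
    IsLocalization.injective _ hPne
  set π : Localization.AtPrime P :=
    algebraMap (MvPowerSeries (Fin 2) k) (Localization.AtPrime P) (MvPowerSeries.X 0) with hπdef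
  have hπmax : IsLocalRing.maximalIdeal (Localization.AtPrime P) = Ideal.span {π} := by
    have h1 : P.map (algebraMap (MvPowerSeries (Fin 2) k) (Localization.AtPrime P)) =
        (Ideal.span {(MvPowerSeries.X 0 : MvPowerSeries (Fin 2) k)}).map
          (algebraMap (MvPowerSeries (Fin 2) k) (Localization.AtPrime P)) :=
      congrArg (Ideal.map (algebraMap (MvPowerSeries (Fin 2) k) (Localization.AtPrime P))) hP
    rw [← Localization.AtPrime.map_eq_maximalIdeal, h1, Ideal.map_span, Set.image_singleton]
  have hπne : π ≠ 0 := by
    rw [hπdef, Ne, map_eq_zero_iff _ hinjO]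
    intro h0
    have h1 := MvPowerSeries.coeff_index_single_self_X (R := k) (0 : Fin 2)
    rw [h0, map_zero] at h1
    exact zero_ne_one h1
  have hπreg : π ∈ nonZeroDivisors (Localization.AtPrime P) := mem_nonZeroDivisors_of_ne_zero hπne
  obtain ⟨Λ, iΛ, iAlg, iDom, iDVR, hcomp, hmax, hflat, e, -⟩ :=
    Groth.Agent.Lib.Helper12.CohenExist.exists_complete_dvr (Localization.AtPrime P) π hπmax hπreg
      (AlgebraicClosure (IsLocalRing.ResidueField (Localization.AtPrime P)))
  letI algk : Algebra k Λ :=
    ((algebraMap (Localization.AtPrime P) Λ).comp (algebraMap k (Localization.AtPrime P))).toAlgebra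
  haveI : IsScalarTower k (Localization.AtPrime P) Λ := IsScalarTower.of_algebraMap_eq (fun _ => rfl)
  have hinj : Function.Injective (algebraMap (Localization.AtPrime P) Λ) := by
    rw [injective_iff_map_eq_zero]
    intro x hx
    by_contra hne
    have hreg : IsSMulRegular (Localization.AtPrime P) x := by
      intro a b hab
      exact mul_left_cancel₀ hne hab
    have hreg' : IsSMulRegular Λ (algebraMap (Localization.AtPrime P) Λ x) := hreg.of_flat
    rw [hx] at hreg'
    have h1 : (0 : Λ) • (1 : Λ) = (0 : Λ) • (0 : Λ) := by simp
    exact one_ne_zero (hreg' h1)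
  refine ⟨Λ, iΛ, iDom, iDVR, algk, IsScalarTower.toAlgHom k (Localization.AtPrime P) Λ, hcomp, ?_,
    hinj, ?_, ?_⟩
  · exact IsAlgClosed.of_ringEquiv _ _ e.symm
  · refine ⟨fun a ha => ?_⟩
    by_contra hna
    have h1 : a ∈ IsLocalRing.maximalIdeal (Localization.AtPrime P) := hna
    rw [hπmax, Ideal.mem_span_singleton] at h1
    obtain ⟨c, rfl⟩ := h1
    have h2 : algebraMap (Localization.AtPrime P) Λ (π * c) ∈ IsLocalRing.maximalIdeal Λ := by
      rw [hmax, map_mul]
      exact Ideal.mul_mem_right _ _ (Ideal.mem_span_singleton_self _)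
    exact h2 ha
  · exact (IsDiscreteValuationRing.irreducible_iff_uniformizer _).mpr hmax

end Groth.Agent.S15366
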