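import Groth.Statements.S15368
-- import your own Groth.Agent.* helpers here
import Groth.Agent.Lib.Helper26.DVRTorsion

set_option autoImplicit false
universe u v
open TensorProduct
open CAlg

namespace Groth.Agent.S15368

/-- Let R be a discrete valuation ring with uniformizer π and residue field k, n ≥ 0, M₀ a finitely
generated R-module killed by πⁿ and N₀ a submodule of M₀. Then dim_k(N₀/πN₀) ≤ dim_k(M₀/πM₀). The
published lemma is stated for a finitely presented submodule N of a finitely presented module M over
the quotient of the ring of integers of an algebraic closure of K by the elements of valuation ≥ t,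
and the published proof reduces it by descent to exactly this statement over the valuation ring of a
finite extension of K (comparing π-torsion with π-cotorsion by additivity of length); the row states
that step. -/
theorem result
    (R : Type u) [CommRing R] [IsDomain R] [IsDiscreteValuationRing R] (ϖ : R) (hϖ : Irreducible ϖ) (n : ℕ)
    (M : Type v) [AddCommGroup M] [Module R M] [Module.Finite R M] (hM : ∀ m : M, ϖ ^ n • m = 0)
    (N : Submodule R M) :
    Module.finrank (IsLocalRing.ResidueField R) (IsLocalRing.ResidueField R ⊗[R] N) ≤
      Module.finrank (IsLocalRing.ResidueField R) (IsLocalRing.ResidueField R ⊗[R] M) := by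
  haveI : IsNoetherian R M := isNoetherian_of_isNoetherianRing_of_finite R M
  haveI : Module.Finite R N := Module.Finite.of_fg (IsNoetherian.noetherian N)
  have hN : ∀ x : N, ϖ ^ n • x = 0 := fun x => Subtype.ext (hM x.1)
  have h1 := Groth.Agent.Lib.Helper26.DVRTorsion.length_torsionBy ϖ hϖ n N hN
  have h2 := Groth.Agent.Lib.Helper26.DVRTorsion.length_torsionBy ϖ hϖ n M hM
  let ι : Submodule.torsionBy R N ϖ →ₗ[R] Submodule.torsionBy R M ϖ :=
    { toFun := fun x => ⟨x.1.1, by
        have := x.2
        rw [Submodule.mem_torsionBy_iff] at this ⊢
        exact congrArg Subtype.val this⟩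
      map_add' := fun _ _ => rfl
      map_smul' := fun _ _ => rfl }
  have hι : Function.Injective ι := by
    intro x y h
    apply Subtype.ext
    apply Subtype.ext
    exact congrArg (fun z : Submodule.torsionBy R M ϖ => (z : M)) h
  have h3 := Module.length_le_of_injective ι hι
  rw [h1, h2] at h3
  exact_mod_cast h3

end Groth.Agent.S15368
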