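import Groth.Statements.S1537
import Groth.Agent.Lib.Helper18.GeomIrrGen
open Groth.Agent.Lib.Helper18

set_option autoImplicit false
universe u
open CategoryTheory CategoryTheory.Limits AlgebraicGeometry
open Variety

namespace Groth.Agent.S1537

/-- A connected k-scheme is geometrically connected as soon as it has a point whose residue field
contains no element integral over k other than the elements of k. -/
theorem result (k : Type u) [Field k] (X : Scheme.{u}) [X.Over (Spec (CommRingCat.of k))] [ConnectedSpace X]
    (x : X) (hx : ∀ a : X.residueField x, (Curv2.resMap k X x).IsIntegralElem a → a ∈ (Curv2.resMap k X x).range) :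
    GeometricallyConnected (X ↘ (Spec (CommRingCat.of k))) := by
  set f := X ↘ (Spec (CommRingCat.of k)) with hf
  refine Groth.Agent.Lib.Helper22.SchGeomConn.geometricallyConnected_of_residueFieldProp f x
    ⟨GeomIrrGen.resMap f x, (GeomIrrGen.fromSpecResidueField_comp f x).symm, ?_⟩
  letI : Algebra k (X.residueField x) := (GeomIrrGen.resMap f x).toAlgebra
  show separableClosure k (X.residueField x) = ⊥
  rw [eq_bot_iff]
  intro a ha
  have hsep : IsSeparable k a := mem_separableClosure_iff.mp ha
  have hint : IsIntegral k a := hsep.isIntegral
  obtain ⟨c, hc⟩ := RingHom.mem_range.mp (hx a hint)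
  exact IntermediateField.mem_bot.mpr ⟨c, hc⟩

end Groth.Agent.S1537
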