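import Groth.Statements.S15399
import Groth.Agent.Lib.Helper17.PicSeqC
import Groth.Agent.Lib.Helper17.PicLift2
import Groth.Agent.Lib.Helper17.SqZeroC
import Mathlib
set_option backward.isDefEq.respectTransparency.types false

set_option autoImplicit false
universe u
open CategoryTheory CategoryTheory.Limits AlgebraicGeometry
open PicGrp

namespace Groth.Agent.S15399

/-- Let X be a quasi-compact separated scheme, J a quasi-coherent ideal of O_X with J² = 0 and X₀ the
closed subscheme it cuts out, with inclusion i, and assume that the restriction of global functions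
O_X(X) → O_{X₀}(X₀) is surjective. Assume the Picard group laws on X and X₀ and that pullback of
invertible classes along i is multiplicative. Then the kernel of the pullback homomorphism Pic(X) →
Pic(X₀) is isomorphic, as a group, to the additive group H¹(X, J) (J viewed as an O_X-module),
written multiplicatively. (Existence of a group isomorphism only; the compatibility of the
isomorphism with pullback along morphisms Y → X is not stated.) -/
theorem result (X : Scheme.{u}) [CompactSpace X] [X.IsSeparated]
    (J : X.IdealSheafData) (hJ : J * J = ⊥)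
    [PicGrp.Law X] [PicGrp.Law J.subscheme] (hi : PicGrp.PullMul J.subschemeι)
    (hsurj : Function.Surjective J.subschemeι.appTop.hom) :
    Nonempty ((PicGrp.pullHom J.subschemeι hi).ker ≃* Multiplicative (Coh.HH X (ClSub.idealMod J) 1)) := by
  have hsq := Groth.Agent.Lib.Helper17.PicLift.sqZ_of_mul_eq_bot J hJ
  obtain ⟨ε, δ₀, α, δ₁, -, -, h3, h4, h5, -⟩ := Groth.Agent.Lib.Helper17.PicSeq.exists_exact_seq J.subschemeι
    (Groth.Agent.Lib.Helper17.USES.expHom hsq) (Groth.Agent.Lib.Helper17.USES.expHom_comap hsq)
    (Groth.Agent.Lib.Helper17.USES.shortExact hsq) hi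
  -- units lift
  have hunits : Function.Surjective (Units.map J.subschemeι.appTop.hom.toMonoidHom) := by
    intro v
    obtain ⟨r, hr⟩ := hsurj v.val
    have hu : IsUnit r := Groth.Agent.Lib.Helper17.SqZero.isUnit_of_isUnit_map J.subschemeι.appTop.hom hsurj
      (fun a b ha hb => hsq.mul_eq_zero ⊤ a b ha hb) r (by rw [hr]; exact v.isUnit)
    exact ⟨hu.unit, Units.ext hr⟩
  have hδ₀ : ∀ v, δ₀ v = 1 := by
    intro v
    have : v ∈ δ₀.ker := by
      rw [h3]
      exact hunits v
    exact this
  have hαinj : Function.Injective α := by
    rw [injective_iff_map_eq_one]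
    intro y hy
    have : y ∈ δ₀.range := by rw [← h4]; exact hy
    obtain ⟨v, rfl⟩ := this
    exact hδ₀ v
  let αr : Multiplicative (Coh.HH X (ClSub.idealMod J) 1) →* (PicGrp.pullHom J.subschemeι hi).ker :=
    α.codRestrict _ (fun y => by rw [h5]; exact ⟨y, rfl⟩)
  have hbij : Function.Bijective αr := by
    constructor
    · intro y y' hyy'
      exact hαinj (congrArg Subtype.val hyy')
    · rintro ⟨a, ha⟩
      rw [h5] at ha
      obtain ⟨y, rfl⟩ := ha
      exact ⟨y, rfl⟩
  exact ⟨(MulEquiv.ofBijective αr hbij).symm⟩

end Groth.Agent.S15399
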