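import Groth.Statements.S1540
import Groth.Agent.Lib.Helper18.GeomIrrGen
import Groth.Agent.Lib.Helper18.GeomIrrAlg
open Groth.Agent.Lib.Helper18

set_option autoImplicit false
universe u
open CategoryTheory CategoryTheory.Limits AlgebraicGeometry
attribute [local instance] Curv2.resAlgebra Curv2.stalkAlgebra
open Variety

namespace Groth.Agent.S1540

/-- An irreducible scheme X over k with generic point ξ is geometrically irreducible if and only if the
separable algebraic closure of k in the residue field of ξ is k itself. -/
theorem result (k : Type u) [Field k] (X : Scheme.{u}) [X.Over (Spec (CommRingCat.of k))] [IrreducibleSpace X] :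
    GeometricallyIrreducible (X ↘ (Spec (CommRingCat.of k))) ↔
      ∀ a : X.residueField (genericPoint X), IsSeparable k a → a ∈ Set.range (algebraMap k (X.residueField (genericPoint X))) := by
  set f := X ↘ (Spec (CommRingCat.of k)) with hf
  constructor
  · intro hgi a ha
    haveI : Fact (Irreducible (minpoly k a)) := ⟨minpoly.irreducible ha.isIntegral⟩
    haveI : IrreducibleSpace ↥(pullback f (Spec.map (CommRingCat.ofHom
        (algebraMap k (AdjoinRoot (minpoly k a)))))) :=
      pullback_of_geometrically
        (GeometricallyIrreducible.geometrically_irreducibleSpace (f := f)) _ _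
    have hT := GeomIrrGen.irreducibleSpace_tensor_of_bc f (AdjoinRoot (minpoly k a))
    exact GeomIrrAlg.mem_range_of_irreducible_adjoinRoot a ha hT
  · intro hsep
    refine GeomIrrGen.geometricallyIrreducible_of_generic f ?_
    exact Groth.Agent.Lib.Helper22.SchGeomConn.geometricallyIrreducible_specMap_of_sepClosedIn
      (k := k) (F := X.residueField (genericPoint X)) hsep

end Groth.Agent.S1540
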