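import Groth.Statements.S15412
import Mathlib
-- import your own Groth.Agent.* helpers here

set_option autoImplicit false
universe w v u
open CategoryTheory Opposite
open Bitors

namespace Groth.Agent.S15412


section
variable {C : Type u} [Category.{v} C] {J : GrothendieckTopology C}
    {G H : Sheaf J GrpCat.{w}} {P : NonAbH1.GSheaf G}

lemma isomFamily_ext (φ₁ φ₂ : Bitors.IsomFamily P H)
    (h : ∀ (U : Cᵒᵖ) (p : P.P.obj.obj U) (x : H.obj.obj U), φ₁.φ p x = φ₂.φ p x) : φ₁ = φ₂ := by
  cases φ₁ with | mk f1 a1 b1 =>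
  cases φ₂ with | mk f2 a2 b2 =>
  have : @f1 = @f2 := by
    funext U p
    exact MulEquiv.ext (h U p)
  subst this
  rfl

lemma rightStr_ext (ρ₁ ρ₂ : Bitors.RightStr P H)
    (h : ∀ (U : Cᵒᵖ) (p : P.P.obj.obj U) (x : H.obj.obj U), ρ₁.rsmul p x = ρ₂.rsmul p x) : ρ₁ = ρ₂ := by
  cases ρ₁ with | mk f1 a1 b1 c1 d1 e1 =>
  cases ρ₂ with | mk f2 a2 b2 c2 d2 e2 =>
  have : @f1 = @f2 := by
    funext U p x
    exact h U p x
  subst this
  rfl

/-- the isomorphism family attached to a right structure -/
noncomputable def toIsomFamily (hP : P.IsPseudoTorsor) (ρ : Bitors.RightStr P H) :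
    Bitors.IsomFamily P H := by
  classical
  let F : ∀ {U : Cᵒᵖ}, P.P.obj.obj U → H.obj.obj U → G.obj.obj U :=
    fun {U} p h => (hP U p (ρ.rsmul p h)).choose
  have hspec : ∀ {U : Cᵒᵖ} (p : P.P.obj.obj U) (h : H.obj.obj U), P.smul (F p h) p = ρ.rsmul p h :=
    fun {U} p h => (hP U p (ρ.rsmul p h)).choose_spec.1
  have huniq : ∀ {U : Cᵒᵖ} (p : P.P.obj.obj U) (h : H.obj.obj U) (g : G.obj.obj U),
      P.smul g p = ρ.rsmul p h → g = F p h :=
    fun {U} p h g hg => (hP U p (ρ.rsmul p h)).choose_spec.2 g hg
  let K : ∀ {U : Cᵒᵖ}, P.P.obj.obj U → G.obj.obj U → H.obj.obj U :=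
    fun {U} p g => (ρ.existsUnique_rsmul p (P.smul g p)).choose
  have kspec : ∀ {U : Cᵒᵖ} (p : P.P.obj.obj U) (g : G.obj.obj U), ρ.rsmul p (K p g) = P.smul g p :=
    fun {U} p g => (ρ.existsUnique_rsmul p (P.smul g p)).choose_spec.1
  have kuniq : ∀ {U : Cᵒᵖ} (p : P.P.obj.obj U) (g : G.obj.obj U) (h : H.obj.obj U),
      ρ.rsmul p h = P.smul g p → h = K p g :=
    fun {U} p g h hh => (ρ.existsUnique_rsmul p (P.smul g p)).choose_spec.2 h hh
  exact
    { φ := fun {U} p =>
        { toFun := F p
          invFun := K p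
          left_inv := fun h => (kuniq p (F p h) h (hspec p h).symm).symm
          right_inv := fun g => (huniq p (K p g) g (kspec p g).symm).symm
          map_mul' := fun h h' => by
            symm
            apply huniq
            rw [P.mul_smul, hspec, ← ρ.smul_rsmul, hspec, ← ρ.rsmul_mul] }
      map_φ := fun {U V} f p h => by
        apply huniq
        show P.smul (G.obj.map f (F p h)) (P.P.obj.map f p) = _
        rw [← P.map_smul, hspec, ρ.map_rsmul]
      φ_smul := fun {U} g p h => by
        symm
        apply huniq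
        show P.smul (g * F p h * g⁻¹) (P.smul g p) = ρ.rsmul (P.smul g p) h
        rw [← P.mul_smul, inv_mul_cancel_right, P.mul_smul, hspec, ρ.smul_rsmul] }

lemma toIsomFamily_spec (hP : P.IsPseudoTorsor) (ρ : Bitors.RightStr P H)
    (U : Cᵒᵖ) (p : P.P.obj.obj U) (h : H.obj.obj U) :
    ρ.rsmul p h = P.smul ((toIsomFamily hP ρ).φ p h) p :=
  ((hP U p (ρ.rsmul p h)).choose_spec.1).symm

/-- the right structure attached to an isomorphism family -/
def toRightStr (hP : P.IsPseudoTorsor) (φ : Bitors.IsomFamily P H) : Bitors.RightStr P H where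
  rsmul := fun {U} p h => P.smul (φ.φ p h) p
  rsmul_one := fun {U} p => by rw [map_one, P.one_smul]
  rsmul_mul := fun {U} p h h' => by
    rw [φ.φ_smul, ← P.mul_smul, inv_mul_cancel_right, map_mul]
  map_rsmul := fun {U V} f p h => by rw [P.map_smul, φ.map_φ]
  smul_rsmul := fun {U} g p h => by
    rw [φ.φ_smul, ← P.mul_smul, inv_mul_cancel_right, P.mul_smul]
  existsUnique_rsmul := fun {U} p q => by
    obtain ⟨g, hg, huniq⟩ := hP U p q
    refine ⟨(φ.φ p).symm g, ?_, ?_⟩
    · show P.smul (φ.φ p ((φ.φ p).symm g)) p = q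
      rw [MulEquiv.apply_symm_apply, hg]
    · intro h' hh'
      have := huniq (φ.φ p h') hh'
      rw [← this, MulEquiv.symm_apply_apply]

end


/-- On a site, let G and H be sheaves of groups and P a sheaf of sets with a left G-action which is
simply transitive on every set of sections P(U). The right H-actions on P that are compatible with
restriction, commute with the G-action and are simply transitive on every P(U) (for P a G-torsor:
the structures of (G, H)-bitorsor on P) correspond exactly to the families of group isomorphisms φ_p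
: H(U) ≃ G(U), one for each section p of P over each U, compatible with restriction and with φ_{g·p}
= g φ_p g⁻¹ (the equivariant maps from P to the sheaf of isomorphisms from H to G); the
correspondence is the rule p · h = φ_p(h) · p, and the statement is that every right structure
arises by this rule from exactly one family and every family from exactly one right structure. (The
published statement takes P a left G-torsor; only the simple transitivity of the G-action on
sections enters, so local existence of sections is not assumed.) -/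
theorem result
    {C : Type u} [Category.{v} C] {J : GrothendieckTopology C}
    (G H : Sheaf J GrpCat.{w}) (P : NonAbH1.GSheaf G) (hP : P.IsPseudoTorsor) :
    (∀ ρ : Bitors.RightStr P H, ∃! φ : Bitors.IsomFamily P H,
        ∀ (U : Cᵒᵖ) (p : P.P.obj.obj U) (h : H.obj.obj U), ρ.rsmul p h = P.smul (φ.φ p h) p) ∧
    (∀ φ : Bitors.IsomFamily P H, ∃! ρ : Bitors.RightStr P H,
        ∀ (U : Cᵒᵖ) (p : P.P.obj.obj U) (h : H.obj.obj U), ρ.rsmul p h = P.smul (φ.φ p h) p) := by
  constructor
  · intro ρ
    refine ⟨toIsomFamily hP ρ, toIsomFamily_spec hP ρ, ?_⟩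
    intro φ' hφ'
    apply isomFamily_ext
    intro U p x
    have h1 := hφ' U p x
    rw [toIsomFamily_spec hP ρ] at h1
    exact ((hP U p (P.smul (φ'.φ p x) p)).unique rfl h1)
  · intro φ
    refine ⟨toRightStr hP φ, fun U p h => rfl, ?_⟩
    intro ρ' hρ'
    apply rightStr_ext
    intro U p x
    rw [hρ']
    rfl


end Groth.Agent.S15412
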