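import Groth.Statements.S15423
import Mathlib
import Groth.Agent.Lib.Helper21.GrSyzCompare

set_option autoImplicit false
universe u
open GrSyz

namespace Groth.Agent.S15423

section helpers

lemma eq_bot_of_forall_le (y : WithBot (WithTop ℤ))
    (hle : ∀ r : ℤ, y ≤ ((r : WithTop ℤ) : WithBot (WithTop ℤ))) : y = ⊥ := by
  induction y using WithBot.recBotCoe with
  | bot => rfl
  | coe z =>
    exfalso
    induction z using WithTop.recTopCoe with
    | top =>
      have := hle 0
      rw [WithBot.coe_le_coe] at this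
      simp at this
    | coe t =>
      have := hle (t - 1)
      rw [WithBot.coe_le_coe, WithTop.coe_le_coe] at this
      omega

lemma iInf_coe_of_le (x : WithBot (WithTop ℤ)) :
    ⨅ (r : ℤ) (_ : x ≤ ((r : WithTop ℤ) : WithBot (WithTop ℤ))),
      ((r : WithTop ℤ) : WithBot (WithTop ℤ)) = x := by
  apply le_antisymm
  · induction x using WithBot.recBotCoe with
    | bot =>
      apply le_of_eq
      apply eq_bot_of_forall_le
      intro r
      exact iInf₂_le (f := fun (r : ℤ) (_ : (⊥ : WithBot (WithTop ℤ)) ≤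
          ((r : WithTop ℤ) : WithBot (WithTop ℤ))) => ((r : WithTop ℤ) : WithBot (WithTop ℤ)))
          r bot_le
    | coe z =>
      induction z using WithTop.recTopCoe with
      | top => exact le_top
      | coe s =>
        exact iInf₂_le (f := fun (r : ℤ) (_ : (((s : WithTop ℤ)) : WithBot (WithTop ℤ)) ≤
          ((r : WithTop ℤ) : WithBot (WithTop ℤ))) => ((r : WithTop ℤ) : WithBot (WithTop ℤ)))
          s le_rfl
  · exact le_iInf₂ fun r hr => hr

variable {R : Type u} [CommRing R] {σ' : Type u} [SetLike σ' R]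
  {𝒜 : ℤ → σ'}
  {M : Type u} [AddCommGroup M] [Module R M] {τ : Type u} [SetLike τ M] [AddSubgroupClass τ M]
  {ℳ : ℤ → τ} [DirectSum.Decomposition ℳ] [SetLike.GradedSMul 𝒜 ℳ] (F : FreeRes 𝒜 ℳ)

lemma isGenLE_iff (r : ℤ) :
    F.IsGenLE r ↔ (⨆ i : ℕ, WithBot.map (fun t : ℤ => ((t - (i : ℤ) : ℤ) : WithTop ℤ))
      (F.maxGenDeg i)) ≤ ((r : WithTop ℤ) : WithBot (WithTop ℤ)) := by
  rw [iSup_le_iff]
  unfold FreeRes.IsGenLE
  refine forall_congr' fun i => ?_
  have h1 : (∀ b : Fin (F.rk i), F.deg i b ≤ r + i) ↔ F.maxGenDeg i ≤ ((r + i : ℤ) : WithBot ℤ) := by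
    unfold FreeRes.maxGenDeg
    rw [Finset.sup_le_iff]
    constructor
    · intro h b _
      exact WithBot.coe_le_coe.2 (h b)
    · intro h b
      exact WithBot.coe_le_coe.1 (h b (Finset.mem_univ _))
  rw [h1]
  generalize F.maxGenDeg i = x
  induction x using WithBot.recBotCoe with
  | bot => simp
  | coe t =>
    rw [WithBot.map_coe, WithBot.coe_le_coe, WithBot.coe_le_coe, WithTop.coe_le_coe]
    omega

lemma betti_pos (i : ℕ) (b : Fin (F.rk i)) : 0 < F.betti i (F.deg i b) := by
  unfold FreeRes.betti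
  rw [Finset.card_pos]
  exact ⟨b, by simp⟩

lemma exists_of_betti_pos {i : ℕ} {j : ℤ} (h : 0 < F.betti i j) : ∃ c, F.deg i c = j := by
  unfold FreeRes.betti at h
  rw [Finset.card_pos] at h
  obtain ⟨c, hc⟩ := h
  exact ⟨c, (Finset.mem_filter.1 hc).2⟩

end helpers


/-- Let k be a field, S = k[x_0, …, x_r] graded by degree, 𝔪 = (x_0, …, x_r), M a finitely generated
ℤ-graded S-module and F a minimal graded free resolution of M by finite-rank free modules with
homogeneous bases (all matrix entries in 𝔪). Then the Castelnuovo–Mumford regularity of M (an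
extended integer) is the supremum over i ≥ 0 of t_i − i, where t_i is the largest degree of a basis
vector of F_i, that is the largest nonzero degree of Tor_i^S(M, k) (−∞ when F_i = 0). In particular
the value does not depend on the minimal resolution chosen. -/
theorem result (k : Type u) [Field k] (r : ℕ)
    (M : Type u) [AddCommGroup M] [Module k M] [Module (MvPolynomial (Fin (r + 1)) k) M]
    [IsScalarTower k (MvPolynomial (Fin (r + 1)) k) M] [Module.Finite (MvPolynomial (Fin (r + 1)) k) M]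
    (ℳ : ℤ → Submodule k M) [DirectSum.Decomposition ℳ] [SetLike.GradedSMul (GrSyz.stdGr k (Fin (r + 1))) ℳ]
    (F : GrSyz.FreeRes (GrSyz.stdGr k (Fin (r + 1))) ℳ) (hF : F.IsMinimal (GrSyz.irrel (GrSyz.stdGr k (Fin (r + 1)))).toIdeal) :
    GrSyz.reg (GrSyz.stdGr k (Fin (r + 1))) ℳ (GrSyz.irrel (GrSyz.stdGr k (Fin (r + 1)))).toIdeal =
      ⨆ i : ℕ, WithBot.map (fun t : ℤ => ((t - (i : ℤ) : ℤ) : WithTop ℤ)) (F.maxGenDeg i) := by
  have key : ∀ s : ℤ, IsRegLE (stdGr k (Fin (r + 1))) ℳ (irrel (stdGr k (Fin (r + 1)))).toIdeal s ↔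
      (⨆ i : ℕ, WithBot.map (fun t : ℤ => ((t - (i : ℤ) : ℤ) : WithTop ℤ)) (F.maxGenDeg i)) ≤
        ((s : WithTop ℤ) : WithBot (WithTop ℤ)) := by
    intro s
    rw [← isGenLE_iff]
    constructor
    · rintro ⟨F', hF', hgen⟩ i b
      have hb := betti_pos F i b
      rw [Groth.Agent.Lib.Helper21.GrSyzCompare.betti_eq k r F F' hF hF'] at hb
      obtain ⟨c, hc⟩ := exists_of_betti_pos F' hb
      rw [← hc]
      exact hgen i c
    · intro h
      exact ⟨F, hF, h⟩
  unfold reg
  simp_rw [key]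
  exact iInf_coe_of_le _

end Groth.Agent.S15423
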