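import Groth.Statements.S15426
import Groth.Agent.Lib.helper11.LCKit
import Groth.Agent.Lib.helper11.ExtRegular

set_option autoImplicit false
universe u
open LocCoh

namespace Groth.Agent.S15426

/-- Let A be a commutative ring, I an ideal, M an A-module and i ≥ 0. Every element of the local
cohomology module H^i_I(M), the direct limit over n of Ext^i_A(A/I^n, M), is annihilated by some
power of I. -/
theorem result (A : Type u) [CommRing A] (I : Ideal A) (i : ℕ)
    (M : Type u) [AddCommGroup M] [Module A M] :
    LocCoh.IsPowerTorsion I (LocCoh.H I i M) := by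
  intro x
  obtain ⟨k, y, rfl⟩ := Groth.Agent.Lib.helper11.LCKit.exists_rep I i (ModuleCat.of A M) x
  refine ⟨k, fun a ha => ?_⟩
  rw [← map_smul]
  have : a • y = 0 := by
    apply Groth.Agent.Lib.helper11.ExtRegular.smul_ext_eq_zero A a
    intro n
    obtain ⟨r, rfl⟩ := Ideal.Quotient.mk_surjective n
    change a • (Ideal.Quotient.mk (I ^ k) r) = 0
    rw [← Ideal.Quotient.mk_eq_mk, ← Submodule.Quotient.mk_smul, Ideal.Quotient.mk_eq_mk,
      Ideal.Quotient.eq_zero_iff_mem, smul_eq_mul]
    exact Ideal.mul_mem_right _ _ ha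
  rw [this, map_zero]

end Groth.Agent.S15426
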