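import Groth.Statements.S15427
import Groth.Agent.Lib.Helper24.GrSyzLemmas
-- import your own Groth.Agent.* helpers here

set_option autoImplicit false
universe u
open GrSyz

namespace Groth.Agent.S15427

/-- Let k be a field, S = k[x_0, …, x_r] graded by degree, 𝔪 = (x_0, …, x_r), M a finitely generated
ℤ-graded S-module and F a graded free resolution of M by free modules of finite rank with chosen
homogeneous bases, written as matrices d_i : F_{i+1} → F_i together with the images aug b ∈ M of the
basis of F_0. Then F is a minimal complex (every matrix entry lies in 𝔪) if and only if every map of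
the resolution carries its basis to an irredundant (minimal) family of generators of its image: for
each b, aug b is not in the S-span of the remaining aug b', and for each i and each column of d_i,
that column is not in the S-span of the remaining columns. -/
theorem result (k : Type u) [Field k] (r : ℕ)
    (M : Type u) [AddCommGroup M] [Module k M] [Module (MvPolynomial (Fin (r + 1)) k) M]
    [IsScalarTower k (MvPolynomial (Fin (r + 1)) k) M] [Module.Finite (MvPolynomial (Fin (r + 1)) k) M]
    (ℳ : ℤ → Submodule k M) [DirectSum.Decomposition ℳ] [SetLike.GradedSMul (GrSyz.stdGr k (Fin (r + 1))) ℳ]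
    (F : GrSyz.FreeRes (GrSyz.stdGr k (Fin (r + 1))) ℳ) :
    F.IsMinimal (GrSyz.irrel (GrSyz.stdGr k (Fin (r + 1)))).toIdeal ↔
      ((∀ b : Fin (F.rk 0), F.aug b ∉ Submodule.span (MvPolynomial (Fin (r + 1)) k) (F.aug '' {b' | b' ≠ b})) ∧
        ∀ (i : ℕ) (b : Fin (F.rk (i + 1))),
          (fun a => F.d i a b) ∉ Submodule.span (MvPolynomial (Fin (r + 1)) k) ((fun b' a => F.d i a b') '' {b' | b' ≠ b})) := by
  classical
  have h1 := Groth.Agent.Lib.Helper24.GrSyzL.one_notMem_irrel k (Fin (r + 1))
  constructor
  · intro hF
    refine ⟨fun b hb => ?_, fun i b hb => ?_⟩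
    · obtain ⟨w, hwb, hw⟩ := Groth.Agent.Lib.Helper24.GrSyzL.exists_ker_of_redundant F.aug b hb
      have hker : w ∈ LinearMap.ker (Fintype.linearCombination (MvPolynomial (Fin (r + 1)) k) F.aug) := by
        rw [LinearMap.mem_ker, Fintype.linearCombination_apply]
        exact hw
      rw [F.exact_zero] at hker
      obtain ⟨u, hu⟩ := hker
      rw [Matrix.mulVecLin_apply] at hu
      have hb' := congrFun hu b
      rw [hwb, Matrix.mulVec, dotProduct] at hb'
      apply h1
      rw [← hb']
      exact Ideal.sum_mem _ fun c _ => Ideal.mul_mem_right _ _ (hF 0 b c)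
    · obtain ⟨w, hwb, hw⟩ := Groth.Agent.Lib.Helper24.GrSyzL.exists_ker_of_redundant
        (fun b' a => F.d i a b') b hb
      have hker : w ∈ LinearMap.ker (Matrix.mulVecLin (F.d i)) := by
        rw [LinearMap.mem_ker, Matrix.mulVecLin_apply]
        funext a
        have := congrFun hw a
        simp only [Finset.sum_apply, Pi.smul_apply, smul_eq_mul, Pi.zero_apply] at this
        rw [Matrix.mulVec, dotProduct, Pi.zero_apply, ← this]
        exact Finset.sum_congr rfl fun x _ => mul_comm (F.d i a x) (w x)
      rw [F.exact_succ i] at hker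
      obtain ⟨u, hu⟩ := hker
      rw [Matrix.mulVecLin_apply] at hu
      have hb' := congrFun hu b
      rw [hwb, Matrix.mulVec, dotProduct] at hb'
      apply h1
      rw [← hb']
      exact Ideal.sum_mem _ fun c _ => Ideal.mul_mem_right _ _ (hF (i + 1) b c)
  · rintro ⟨hA, hB⟩ i a b
    by_contra hnm
    have hunit := Groth.Agent.Lib.Helper24.GrSyzL.isUnit_of_mem_stdGr_of_notMem_irrel k (Fin (r + 1))
      (F.d_mem i a b) hnm
    cases i with
    | zero =>
      apply hA a
      apply Groth.Agent.Lib.Helper24.GrSyzL.redundant_of_unit_coeff F.aug (fun a' => F.d 0 a' b) a hunit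
      have hmem : (Matrix.mulVecLin (F.d 0)) (Pi.single b 1) ∈
          LinearMap.ker (Fintype.linearCombination (MvPolynomial (Fin (r + 1)) k) F.aug) := by
        rw [F.exact_zero]
        exact LinearMap.mem_range_self _ _
      rw [LinearMap.mem_ker, Fintype.linearCombination_apply, Matrix.mulVecLin_apply,
        Matrix.mulVec_single_one] at hmem
      exact hmem
    | succ i =>
      apply hB i a
      apply Groth.Agent.Lib.Helper24.GrSyzL.redundant_of_unit_coeff (fun b' a'' => F.d i a'' b')
        (fun a' => F.d (i + 1) a' b) a hunit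
      have hmem : (Matrix.mulVecLin (F.d (i + 1))) (Pi.single b 1) ∈
          LinearMap.ker (Matrix.mulVecLin (F.d i)) := by
        rw [F.exact_succ i]
        exact LinearMap.mem_range_self _ _
      rw [LinearMap.mem_ker, Matrix.mulVecLin_apply, Matrix.mulVecLin_apply,
        Matrix.mulVec_single_one] at hmem
      funext a''
      have := congrFun hmem a''
      rw [Matrix.mulVec, dotProduct, Pi.zero_apply] at this
      simp only [Finset.sum_apply, Pi.smul_apply, smul_eq_mul, Pi.zero_apply]
      rw [← this]
      exact Finset.sum_congr rfl fun x _ => mul_comm (F.d (i + 1) x b) (F.d i a'' x)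

end Groth.Agent.S15427
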