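import Groth.Statements.S15432
import Mathlib
import Groth.Agent.Lib.Helper24.GrSyzLemmas
import Groth.Agent.Lib.Helper21.GrSyzHilb
import Groth.Agent.Lib.Helper21.HBurchBound
import Groth.Agent.Lib.Helper21.HBurchHilb
import Groth.Agent.Lib.Helper21.HBurchDeg

set_option autoImplicit false
set_option linter.unusedSectionVars false
universe u
open GrSyz

namespace Groth.Agent.S15432

section helpers
open MvPolynomial DirectSum Groth.Agent.Lib.Helper24.GrSyzL Groth.Agent.Lib.Helper21.GrSyzHilb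
  Groth.Agent.Lib.Helper21.HBurch

variable {k : Type u} [Field k] {r : ℕ}
  {M : Type u} [AddCommGroup M] [Module k M] [Module (MvPolynomial (Fin (r + 1)) k) M]
  [IsScalarTower k (MvPolynomial (Fin (r + 1)) k) M]
  {ℳ : ℤ → Submodule k M} [DirectSum.Decomposition ℳ] [SetLike.GradedSMul (stdGr k (Fin (r + 1))) ℳ]
  (F : FreeRes (stdGr k (Fin (r + 1))) ℳ)
  (π : MvPolynomial (Fin (r + 1)) k →ₗ[MvPolynomial (Fin (r + 1)) k] M)
  (hπg : GrLC.IsGrHom (stdGr k (Fin (r + 1))) ℳ π)

include hπg in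
theorem deg_zero_eq_zero (hπ : Function.Surjective π) (hrk0 : F.rk 0 = 1) (h1 : π 1 ≠ 0)
    (b0 : Fin (F.rk 0)) : F.deg 0 b0 = 0 := by
  have hsub : ∀ b : Fin (F.rk 0), b = b0 := by
    intro b
    apply Fin.ext
    have := b.2
    have := b0.2
    omega
  set g := F.aug b0 with hg
  have hgmem : g ∈ ℳ (F.deg 0 b0) := F.aug_mem b0
  have hgen : ∀ m : M, ∃ s : MvPolynomial (Fin (r + 1)) k, m = s • g := by
    intro m
    obtain ⟨v, hv⟩ := F.aug_surjective m
    refine ⟨v b0, ?_⟩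
    rw [← hv, Fintype.linearCombination_apply,
      Fintype.sum_eq_single b0 (fun b hb => absurd (hsub b) hb)]
  have h1mem : π 1 ∈ ℳ 0 := hπg 0 1 (SetLike.GradedOne.one_mem)
  obtain ⟨s, hs⟩ := hgen (π 1)
  have hg0 : g ≠ 0 := by
    intro h0
    apply h1
    rw [hs, h0, smul_zero]
  apply le_antisymm
  · by_contra hpos
    push Not at hpos
    apply h1
    have e1 : (decompose ℳ (π 1) 0 : M) = π 1 := decompose_of_mem_same ℳ h1mem
    rw [← e1, hs, decompose_smul_of_right_mem (𝒜 := stdGr k (Fin (r + 1))) s 0 hgmem]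
    have : (decompose (stdGr k (Fin (r + 1))) s (0 - F.deg 0 b0) : MvPolynomial (Fin (r + 1)) k) = 0 :=
      eq_zero_of_mem_stdGr_neg (by omega) (SetLike.coe_mem _)
    rw [this, zero_smul]
  · by_contra hneg
    push Not at hneg
    apply hg0
    obtain ⟨f, hf, hfg⟩ := exists_homogeneous_lift π hπg hπ hgmem
    rw [← hfg, eq_zero_of_mem_stdGr_neg hneg hf, map_zero]

end helpers


/-- Let k be a field, Z a nonempty finite set of nonzero vectors of k^3, regarded as points of the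
projective plane, I ⊆ S = k[x_0, x_1, x_2] the homogeneous vanishing ideal of Z (a polynomial lies
in I exactly when each of its homogeneous components vanishes at every vector of Z), M = S/I given
as a ℤ-graded S-module with a surjective degree-preserving S-linear map π : S → M with kernel I, and
F a minimal graded free resolution of M of length at most 2 whose terms F_1 and F_2 have ranks t + 1
and t, with basis degrees a_1 ≥ … ≥ a_{t+1} for F_1 and b_1 ≥ … ≥ b_t for F_2 (non-increasing along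
the chosen bases), so that the (i, j) entry of the matrix F_2 → F_1 has degree b_j − a_i. Put e_i =
b_i − a_i and f_i = b_i − a_{i+1}. Then e_i ≥ 1 and f_i ≥ 1 for every i, and Σ_i a_i = Σ_j b_j
(equivalently a_i = Σ_{j < i} e_j + Σ_{j ≥ i} f_j for every i). (The ordering of both bases is the
standing assumption under which the published statement is made; this row carries it as the
hypotheses on the basis degrees. The further inequalities f_i ≥ e_i and f_i ≥ e_{i+1} follow at once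
from the ordering and are not restated.) -/
theorem result (k : Type u) [Field k]
    (Z : Finset (Fin 3 → k)) (hZ : ∀ p ∈ Z, p ≠ 0) (hZne : Z.Nonempty) (I : Ideal (MvPolynomial (Fin 3) k))
    (hI : ∀ f : MvPolynomial (Fin 3) k, f ∈ I ↔
      ∀ p ∈ Z, ∀ j : ℕ, MvPolynomial.eval p (MvPolynomial.homogeneousComponent j f) = 0)
    (M : Type u) [AddCommGroup M] [Module k M] [Module (MvPolynomial (Fin 3) k) M] [IsScalarTower k (MvPolynomial (Fin 3) k) M]
    (ℳ : ℤ → Submodule k M) [DirectSum.Decomposition ℳ] [SetLike.GradedSMul (GrSyz.stdGr k (Fin 3)) ℳ]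
    (π : MvPolynomial (Fin 3) k →ₗ[MvPolynomial (Fin 3) k] M) (hπ : Function.Surjective π)
    (hπg : GrLC.IsGrHom (GrSyz.stdGr k (Fin 3)) ℳ π) (hker : LinearMap.ker π = I)
    (F : GrSyz.FreeRes (GrSyz.stdGr k (Fin 3)) ℳ) (hF : F.IsMinimal (GrSyz.irrel (GrSyz.stdGr k (Fin 3))).toIdeal) (hlen : F.HasLengthLE 2)
    (t : ℕ) (h1 : F.rk 1 = t + 1) (h2 : F.rk 2 = t)
    (ha : ∀ i j : Fin (t + 1), i ≤ j → F.deg 1 (Fin.cast h1.symm j) ≤ F.deg 1 (Fin.cast h1.symm i))
    (hb : ∀ i j : Fin t, i ≤ j → F.deg 2 (Fin.cast h2.symm j) ≤ F.deg 2 (Fin.cast h2.symm i)) :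
    (∀ i : Fin t, 1 ≤ F.deg 2 (Fin.cast h2.symm i) - F.deg 1 (Fin.cast h1.symm i.castSucc) ∧
        1 ≤ F.deg 2 (Fin.cast h2.symm i) - F.deg 1 (Fin.cast h1.symm i.succ)) ∧
      ∑ i : Fin (t + 1), F.deg 1 (Fin.cast h1.symm i) = ∑ j : Fin t, F.deg 2 (Fin.cast h2.symm j) := by
  refine ⟨fun i => ⟨Groth.Agent.Lib.Helper21.HBurch.one_le_e F hF hlen t h1 h2 ha hb i,
    Groth.Agent.Lib.Helper21.HBurch.one_le_f F hF hlen t h1 h2 ha hb i⟩, ?_⟩
  -- Part 2
  have hbound : ∀ d : ℤ, Module.finrank k ↥(ℳ d) ≤ Z.card :=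
    fun d => Groth.Agent.Lib.Helper21.HBurch.finrank_piece_le (r := 2) π hπg Z I hI hker hπ d
  obtain ⟨hα, hB⟩ := Groth.Agent.Lib.Helper21.HBurch.coeffs_of_bounded F hlen Z.card hbound
  have hrk0 : F.rk 0 = 1 := by
    rw [h1, h2] at hα
    push_cast at hα
    omega
  -- π 1 ≠ 0
  have hπ1 : π 1 ≠ 0 := by
    intro h0
    have hmem : (1 : MvPolynomial (Fin 3) k) ∈ I := by
      rw [← hker]; exact h0
    obtain ⟨p, hp⟩ := hZne
    have := (hI 1).1 hmem p hp 0
    simp at this
  have hsum0 : ∑ b, F.deg 0 b = 0 := by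
    apply Finset.sum_eq_zero
    intro b _
    exact deg_zero_eq_zero (r := 2) F π hπg hπ hrk0 hπ1 b
  rw [hsum0] at hB
  have e1 : ∑ i : Fin (t + 1), F.deg 1 (Fin.cast h1.symm i) = ∑ b, F.deg 1 b :=
    Fintype.sum_equiv (finCongr h1.symm) _ _ (fun i => rfl)
  have e2 : ∑ j : Fin t, F.deg 2 (Fin.cast h2.symm j) = ∑ b, F.deg 2 b :=
    Fintype.sum_equiv (finCongr h2.symm) _ _ (fun i => rfl)
  rw [e1, e2]
  omega

end Groth.Agent.S15432
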