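import Groth.Statements.S15437
import Mathlib
import Groth.Agent.S15428

set_option autoImplicit false
universe u
open GrSyz

namespace Groth.Agent.S15437

section helpers

variable {R : Type u} [CommRing R] {σ' : Type u} [SetLike σ' R]
  {𝒜 : ℤ → σ'}
  {M : Type u} [AddCommGroup M] [Module R M] {τ : Type u} [SetLike τ M] [AddSubgroupClass τ M]
  {ℳ : ℤ → τ} [DirectSum.Decomposition ℳ] [SetLike.GradedSMul 𝒜 ℳ] (F : FreeRes 𝒜 ℳ)

/-- alternating Betti sum -/
def B (m : ℕ) (j : ℤ) : ℤ := ∑ i ∈ Finset.range (m + 1), (-1 : ℤ) ^ i * (F.betti i j : ℤ)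

/-- all generator degrees up to homological degree m -/
def T (m : ℕ) : Finset ℤ := (Finset.range (m + 1)).biUnion fun i => Finset.univ.image (F.deg i)

lemma betti_eq_zero_of_notMem {m : ℕ} {j : ℤ} (hj : j ∉ T F m) {i : ℕ} (hi : i ∈ Finset.range (m + 1)) :
    F.betti i j = 0 := by
  unfold FreeRes.betti
  rw [Finset.card_eq_zero, Finset.filter_eq_empty_iff]
  intro b _ hb
  apply hj
  unfold T
  rw [Finset.mem_biUnion]
  exact ⟨i, hi, Finset.mem_image.2 ⟨b, Finset.mem_univ _, hb⟩⟩

lemma B_eq_zero_of_notMem {m : ℕ} {j : ℤ} (hj : j ∉ T F m) : B F m j = 0 := by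
  unfold B
  apply Finset.sum_eq_zero
  intro i hi
  rw [betti_eq_zero_of_notMem F hj hi]
  simp

lemma sum_deg (m : ℕ) (c : ℤ → ℤ) {i : ℕ} (hi : i ∈ Finset.range (m + 1)) :
    ∑ b : Fin (F.rk i), c (F.deg i b) = ∑ j ∈ T F m, (F.betti i j : ℤ) * c j := by
  have hmaps : ∀ b ∈ (Finset.univ : Finset (Fin (F.rk i))), F.deg i b ∈ T F m := by
    intro b _
    unfold T
    rw [Finset.mem_biUnion]
    exact ⟨i, hi, Finset.mem_image.2 ⟨b, Finset.mem_univ _, rfl⟩⟩
  rw [← Finset.sum_fiberwise_of_maps_to hmaps]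
  refine Finset.sum_congr rfl fun j _ => ?_
  unfold FreeRes.betti
  rw [Finset.card_eq_sum_ones, Nat.cast_sum, Finset.sum_mul]
  refine Finset.sum_congr rfl fun b hb => ?_
  rw [(Finset.mem_filter.1 hb).2]
  simp

lemma main (m : ℕ) (c : ℤ → ℤ) :
    ∑ i ∈ Finset.range (m + 1), (-1 : ℤ) ^ i * ∑ b : Fin (F.rk i), c (F.deg i b) =
      ∑ᶠ j : ℤ, B F m j * c j := by
  rw [finsum_eq_sum_of_support_subset (s := T F m)]
  · unfold B
    simp_rw [Finset.sum_mul]
    rw [Finset.sum_comm]
    refine Finset.sum_congr rfl fun i hi => ?_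
    rw [sum_deg F m c hi, Finset.mul_sum]
    refine Finset.sum_congr rfl fun j _ => ?_
    ring
  · intro j hj
    by_contra hjT
    apply hj
    change B F m j * c j = 0
    rw [B_eq_zero_of_notMem F (by simpa using hjT), zero_mul]

end helpers


/-- Let k be a field, S = k[x_0, …, x_r] graded by degree and M a ℤ-graded S-module with a finite graded
free resolution F of length at most m by free modules of finite rank with homogeneous bases; write
β_{i,j} for the number of basis vectors of F_i of degree j (the graded Betti numbers when F is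
minimal) and B_j = Σ_{i ≤ m} (−1)^i β_{i,j}. Then for every integer d, dim_k M_d = Σ_j B_j C(r + d −
j, r), where a binomial with d < j counts as zero and only finitely many j contribute; and the B_j
are recovered from the Hilbert function by B_j = dim_k M_j − Σ_{n < j} B_n C(r + j − n, r). (Stated
for any finite graded free resolution; the published statement takes the minimal one.) -/
theorem result (k : Type u) [Field k] (r : ℕ)
    (M : Type u) [AddCommGroup M] [Module k M] [Module (MvPolynomial (Fin (r + 1)) k) M]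
    [IsScalarTower k (MvPolynomial (Fin (r + 1)) k) M] [Module.Finite (MvPolynomial (Fin (r + 1)) k) M]
    (ℳ : ℤ → Submodule k M) [DirectSum.Decomposition ℳ] [SetLike.GradedSMul (GrSyz.stdGr k (Fin (r + 1))) ℳ]
    (F : GrSyz.FreeRes (GrSyz.stdGr k (Fin (r + 1))) ℳ) (m : ℕ) (hF : F.HasLengthLE m) :
    (∀ d : ℤ, (Module.finrank k ↥(ℳ d) : ℤ) =
        ∑ᶠ j : ℤ, (∑ i ∈ Finset.range (m + 1), (-1 : ℤ) ^ i * (F.betti i j : ℤ)) *
          (if j ≤ d then ((Nat.choose (r + (d - j).toNat) r : ℕ) : ℤ) else 0)) ∧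
      ∀ j : ℤ, (∑ i ∈ Finset.range (m + 1), (-1 : ℤ) ^ i * (F.betti i j : ℤ)) =
        (Module.finrank k ↥(ℳ j) : ℤ) -
          ∑ᶠ n : ℤ, (if n < j then (∑ i ∈ Finset.range (m + 1), (-1 : ℤ) ^ i * (F.betti i n : ℤ)) * ((Nat.choose (r + (j - n).toNat) r : ℕ) : ℤ) else 0) := by
  have part1 : ∀ d : ℤ, (Module.finrank k ↥(ℳ d) : ℤ) =
        ∑ᶠ j : ℤ, B F m j *
          (if j ≤ d then ((Nat.choose (r + (d - j).toNat) r : ℕ) : ℤ) else 0) := by
    intro d
    rw [Groth.Agent.S15428.result k r M ℳ F m hF d]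
    exact main F m (fun j => if j ≤ d then ((Nat.choose (r + (d - j).toNat) r : ℕ) : ℤ) else 0)
  refine ⟨part1, ?_⟩
  intro j
  change B F m j = _ - ∑ᶠ n : ℤ, (if n < j then B F m n * _ else 0)
  rw [part1 j]
  have hs1 : (Function.support fun n : ℤ => B F m n *
      (if n ≤ j then ((Nat.choose (r + (j - n).toNat) r : ℕ) : ℤ) else 0)) ⊆ ↑(insert j (T F m)) := by
    intro n hn
    by_contra hnT
    apply hn
    have : n ∉ T F m := fun h => hnT (by simp [h])
    change B F m n * _ = 0
    rw [B_eq_zero_of_notMem F this, zero_mul]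
  have hs2 : (Function.support fun n : ℤ => if n < j then B F m n *
      ((Nat.choose (r + (j - n).toNat) r : ℕ) : ℤ) else 0) ⊆ ↑(insert j (T F m)) := by
    intro n hn
    by_contra hnT
    apply hn
    have : n ∉ T F m := fun h => hnT (by simp [h])
    change (if n < j then B F m n * _ else 0) = 0
    rw [B_eq_zero_of_notMem F this, zero_mul]
    simp
  rw [finsum_eq_sum_of_support_subset _ hs1, finsum_eq_sum_of_support_subset _ hs2,
    eq_sub_iff_add_eq]
  have hB : B F m j = ∑ n ∈ insert j (T F m), (if n = j then B F m n else 0) := by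
    rw [Finset.sum_ite_eq' (insert j (T F m)) j (fun n => B F m n),
      if_pos (Finset.mem_insert_self _ _)]
  conv_lhs => rw [hB]
  rw [← Finset.sum_add_distrib]
  refine Finset.sum_congr rfl fun n _ => ?_
  rcases lt_trichotomy n j with h | h | h
  · simp [h, h.ne, h.le]
  · subst h; simp
  · simp [h.ne', not_lt.2 h.le, not_le.2 h]

end Groth.Agent.S15437
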