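import Groth.Statements.S15444
import Groth.Agent.Lib.Helper6.WeilPt

set_option autoImplicit false
universe u v
open CategoryTheory AlgebraicGeometry
open WeilCoh

namespace Groth.Agent.S15444

/-- For a Weil cohomology theory H^* (coefficients in K of characteristic zero, on nonsingular connected
projective varieties over an algebraically closed field k), such a variety X and a closed point x ∈
X, one has Tr_X(cl(x)) = 1. -/
theorem result (k : Type u) [Field k] [IsAlgClosed k] (K : Type v) [Field K] [CharZero K]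
    (T : WeilCoh.Theory k K) (X : WeilCoh.Var k) (x : ↥X.obj.left)
    (hx : IsClosed ({x} : Set ↥X.obj.left)) : T.tr X (T.cl X x) = 1 := by
  have hpd := Groth.Agent.Lib.Helper6.WeilPt.pdim_eq_zero_of_isClosed X.obj.left x hx
  have h1 : (1 : T.H (Groth.Agent.Lib.Helper6.WeilPt.pt k)) ∈
      T.gr (Groth.Agent.Lib.Helper6.WeilPt.pt k) (2 * (WeilCoh.pdim X.obj.left x : ℤ)) := by
    rw [hpd]; exact Groth.Agent.Lib.Helper6.Weil.one_mem_gr_zero T _
  have h := T.cl_push (Groth.Agent.Lib.Helper6.WeilPt.toPt X) x 1 h1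
  have hpt := T.point (Groth.Agent.Lib.Helper6.WeilPt.pt k) (Groth.Agent.Lib.Helper6.WeilPt.dim_pt k)
  have : Smooth X.obj.hom := X.property.1
  have hdeg : (WeilCoh.sm (Groth.Agent.Lib.Helper6.WeilPt.toPt X)).residueDegree x = 1 :=
    Groth.Agent.Lib.Helper6.WeilPt.residueDegree_eq_one X.obj.hom x hx
  rw [map_one, mul_one, hpt.1, mul_one, hpt.2, hdeg, Nat.cast_one, mul_one] at h
  exact h

end Groth.Agent.S15444
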