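import Groth.Statements.S15459
import Groth.Agent.Lib.Helper6.WeilZero
import Groth.Agent.S15444

set_option autoImplicit false
universe u v
open CategoryTheory AlgebraicGeometry
open WeilCoh

namespace Groth.Agent.S15459

open Groth.Agent.Lib.Helper6

section
variable {k : Type u} [Field k] [IsAlgClosed k] {K : Type v} [Field K] [CharZero K]
  (T : WeilCoh.Theory k K)

/-- points in the support of a zero-cycle are closed with trivial residue extension -/
theorem support_closed (X : WeilCoh.Var k)
    (δ : ↥X.obj.left → ℤ) (hδ : Cyc.DeltaCompat X.obj.hom δ (fun _ => 0))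
    (α : AlgebraicCycle X.obj.left ℤ) (hα : α ∈ Cyc.Zk X.obj.left δ 0) (ξ : ↥X.obj.left)
    (hξ : α ξ ≠ 0) :
    δ ξ = 0 ∧ IsClosed ({ξ} : Set ↥X.obj.left) ∧ X.obj.hom.residueDegree ξ = 1 := by
  have hδ0 : δ ξ = 0 := by
    by_contra h
    exact hξ (hα ξ h)
  have : Smooth X.obj.hom := X.property.1
  obtain ⟨n, hn, hn'⟩ := hδ ξ
  have hn0 : n = 0 := by
    rw [hδ0] at hn'
    simp only [zero_add] at hn'
    exact_mod_cast hn'.symm
  subst hn0
  rw [Nat.cast_zero] at hn
  exact ⟨hδ0, WeilZero.closed_of_trdeg_zero X.obj.hom ξ hn⟩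

/-- the support of a cycle on a quasi-compact scheme is finite -/
theorem support_finite (X : WeilCoh.Var k) [QuasiCompact X.obj.hom]
    (α : AlgebraicCycle X.obj.left ℤ) : (Function.support (α : ↥X.obj.left → ℤ)).Finite := by
  have : CompactSpace ↥X.obj.left := QuasiCompact.compactSpace_of_compactSpace X.obj.hom
  have := α.locallyFiniteSupport.finite_inter_support_of_isCompact (W := Set.univ) isCompact_univ
  rwa [Set.univ_inter] at this

/-- the degree of a zero-cycle is the sum of its coefficients -/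
theorem deg_eq_finsum (X : WeilCoh.Var k) [QuasiCompact X.obj.hom]
    (δ : ↥X.obj.left → ℤ) (hδ : Cyc.DeltaCompat X.obj.hom δ (fun _ => 0))
    (α : AlgebraicCycle X.obj.left ℤ) (hα : α ∈ Cyc.Zk X.obj.left δ 0) :
    ChowOps.deg X.obj.hom δ α = ∑ᶠ ξ : ↥X.obj.left, α ξ := by
  unfold ChowOps.deg AlgebraicCycle.map
  rw [Function.locallyFinsupp.map_apply]
  apply finsum_congr
  intro ξ
  have key : ∀ (S : Set ↥X.obj.left) (g : ℤ), ξ ∈ S → ∑ᶠ (_ : ξ ∈ S), g = g := by
    intro S g h
    classical
    rw [finsum_eq_if, if_pos h]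
  refine (key _ _ (Subsingleton.elim (α := PrimeSpectrum k) _ _)).trans ?_
  by_cases hξ : α ξ = 0
  · rw [hξ, zero_mul]
  · obtain ⟨h0, -, hdeg⟩ := support_closed X δ hδ α hα ξ hξ
    unfold AlgebraicCycle.mapCoeff
    rw [if_pos h0, hdeg, Nat.cast_one, mul_one]

end

/-- In the case r = 1, to which the general case reduces once the cycle class map is known to be a ring
homomorphism: for a Weil cohomology theory H^* (coefficients in K of characteristic zero, on
nonsingular connected projective varieties over an algebraically closed field k), such a variety X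
and a 0-cycle α on X, the intersection number (α) = deg(α) equals Tr_X(cl(α)). The dimension
function δ on X is the one induced from weight 0 on Spec k and deg is the degree of 0-cycles over k. -/
theorem result (k : Type u) [Field k] [IsAlgClosed k] (K : Type v) [Field K] [CharZero K]
    (T : WeilCoh.Theory k K) (X : WeilCoh.Var k) [QuasiCompact X.obj.hom]
    (δ : ↥X.obj.left → ℤ) (hδ : Cyc.DeltaCompat X.obj.hom δ (fun _ => 0))
    (α : AlgebraicCycle X.obj.left ℤ) (hα : α ∈ Cyc.Zk X.obj.left δ 0) :
    (ChowOps.deg X.obj.hom δ α : K) = T.tr X (T.clCyc X α) := by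
  rw [deg_eq_finsum X δ hδ α hα]
  have hfin := support_finite X α
  have hfin' : (Function.support fun ξ : ↥X.obj.left => ((α ξ : ℤ) : K) • T.cl X ξ).Finite := by
    apply hfin.subset
    intro ξ hξ
    simp only [Function.mem_support, ne_eq] at hξ ⊢
    intro h0
    apply hξ
    rw [h0, Int.cast_zero, zero_smul]
  unfold WeilCoh.TheoryOn.clCyc
  rw [map_finsum (T.tr X) hfin']
  have hcast : ((∑ᶠ ξ : ↥X.obj.left, α ξ : ℤ) : K) = ∑ᶠ ξ : ↥X.obj.left, ((α ξ : ℤ) : K) :=
    map_finsum (Int.castAddHom K) hfin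
  rw [hcast]
  apply finsum_congr
  intro ξ
  rw [map_smul, smul_eq_mul]
  by_cases hξ : α ξ = 0
  · rw [hξ, Int.cast_zero, zero_mul]
  · obtain ⟨-, hcl, -⟩ := support_closed X δ hδ α hα ξ hξ
    rw [Groth.Agent.S15444.result k K T X ξ hcl, mul_one]

end Groth.Agent.S15459
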