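import Groth.Statements.S15441
import Groth.Agent.S15459

set_option autoImplicit false
universe u v
open WeilCoh

namespace Groth.Agent.S15441

open AlgebraicGeometry CategoryTheory in
/-- Let k be an algebraically closed field of characteristic zero, K a field of characteristic zero and
T a Weil cohomology theory over k with coefficients in K, defined on connected smooth projective
varieties over k; let X be such a variety, δ the weight function on X induced from weight 0 on the
point Spec k, and α a zero-cycle on X for δ. Then α is homologically equivalent to zero for T, i.e.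
its cycle class in the cohomology of X vanishes, if and only if the degree of α over k is zero. -/
theorem result (k : Type u) [Field k] [IsAlgClosed k]
    [CharZero k] (K : Type v) [Field K] [CharZero K] (T : WeilCoh.Theory k K) (X : WeilCoh.Var k)
    [QuasiCompact X.obj.hom] (δ : ↥X.obj.left → ℤ) (hδ : Cyc.DeltaCompat X.obj.hom δ (fun _ => 0))
    (α : AlgebraicCycle X.obj.left ℤ) (hα : α ∈ Cyc.Zk X.obj.left δ 0) :
    T.IsHomEquivZero X α ↔ ChowOps.deg X.obj.hom δ α = 0 := by
  have htr := Groth.Agent.S15459.result k K T X δ hδ α hα
  have hmem : T.clCyc X α ∈ T.gr X (2 * (WeilCoh.dim X.obj.left : ℤ)) := by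
    unfold WeilCoh.TheoryOn.clCyc
    apply finsum_induction (fun x => x ∈ T.gr X (2 * (WeilCoh.dim X.obj.left : ℤ)))
      (Submodule.zero_mem _) (fun _ _ hx hy => Submodule.add_mem _ hx hy)
    intro ξ
    by_cases hξ : α ξ = 0
    · rw [hξ, Int.cast_zero, zero_smul]
      exact Submodule.zero_mem _
    · obtain ⟨-, hcl, -⟩ := Groth.Agent.S15459.support_closed X δ hδ α hα ξ hξ
      apply Submodule.smul_mem
      have hpd := Groth.Agent.Lib.Helper6.WeilPt.pdim_eq_zero_of_isClosed X.obj.left ξ hcl
      have hc : WeilCoh.codim X.obj.left ξ = WeilCoh.dim X.obj.left := by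
        unfold WeilCoh.codim
        rw [hpd, Nat.sub_zero]
      have := T.cl_mem X ξ
      rwa [hc] at this
  unfold WeilCoh.TheoryOn.IsHomEquivZero
  constructor
  · intro h
    rw [h, map_zero] at htr
    exact_mod_cast htr
  · intro h
    rw [h, Int.cast_zero] at htr
    have hinj := (T.tr_bijective X).injective
    have : (⟨T.clCyc X α, hmem⟩ : ↥(T.gr X (2 * (WeilCoh.dim X.obj.left : ℤ)))) = 0 := by
      apply hinj
      change T.tr X (T.clCyc X α) = T.tr X 0
      rw [← htr, map_zero]
    exact congrArg Subtype.val this

end Groth.Agent.S15441
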