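import Groth.Statements.S15451
import Groth.Agent.Lib.Helper6.WeilGraph
import Groth.Agent.Lib.Helper6.WeilKunneth

set_option autoImplicit false
universe u v
open CategoryTheory AlgebraicGeometry
open WeilCoh

namespace Groth.Agent.S15451

open Groth.Agent.Lib.Helper6

section
variable {k : Type u} [Field k] [IsAlgClosed k] {K : Type v} [Field K] [CharZero K]
  (T : WeilCoh.Theory k K)

/-- parity: for `a + b` even, `(-1)^(a*a) = (-1)^(a*b)` -/
theorem sign_eq (a b n : ℕ) (hab : a + b = 2 * n) : ((-1 : K) ^ (a * a)) = (-1 : K) ^ (a * b) := by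
  have h : a * a + a * b = 2 * (n * a) := by
    calc a * a + a * b = (a + b) * a := by ring
      _ = 2 * (n * a) := by rw [hab]; ring
  have h2 : ((-1 : K) ^ (a * a)) * ((-1 : K) ^ (a * b)) = 1 := by
    rw [← pow_add, h, pow_mul]; simp
  have h3 : ((-1 : K) ^ (a * b)) * ((-1 : K) ^ (a * b)) = 1 := by
    rw [← pow_add, ← two_mul, pow_mul]; simp
  have hne : ((-1 : K) ^ (a * b)) ≠ 0 := pow_ne_zero _ (by norm_num)
  exact mul_right_cancel₀ hne (h2.trans h3.symm)

theorem aux (X P : WeilCoh.Var k) [IrreducibleSpace ↥X.obj.left] (n : ℕ)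
    (hn : WeilCoh.dim X.obj.left = n) (φ : X ⟶ X)
    (p q : P ⟶ X) (hP : WeilCoh.IsProd p q) (j : X ⟶ P) (hjp : j ≫ p = 𝟙 X) (hjq : j ≫ q = φ)
    (ι : ℕ → Type) [∀ r, Fintype (ι r)] [∀ r, DecidableEq (ι r)]
    (e : (r : ℕ) → Module.Basis (ι r) K ↥(T.gr X (r : ℤ)))
    (f : (r : ℕ) → ι r → ↥(T.gr X (2 * (n : ℤ) - r)))
    (hef : ∀ r, r ≤ 2 * n → ∀ i l : ι r,
      T.tr X ((f r l : T.H X) * (e r i : T.H X)) = if i = l then 1 else 0) :
    T.cl P (WeilCoh.sm j (genericPoint ↥X.obj.left)) =
      ∑ r ∈ Finset.range (2 * n + 1), ∑ i : ι r,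
        T.pull p (T.pull φ (e r i : T.H X)) * T.pull q (f r i : T.H X) := by
  set γ := T.cl P (WeilCoh.sm j (genericPoint ↥X.obj.left)) with hγdef
  have hdP : (WeilCoh.dim P.obj.left : ℤ) = n + n := by
    have := Weil.dim_prod T p q hP
    rw [hn] at this
    exact_mod_cast this
  have hc := WeilGraph.codim_section T j p hjp
  rw [hn] at hc
  have hγ : γ ∈ T.gr P (2 * (n : ℤ)) := Weil.mem_of_eq T (by omega) (T.cl_mem P _)
  have hterm : ∀ (r : ℕ) (i : ι r),
      T.pull p (T.pull φ (e r i : T.H X)) * T.pull q (f r i : T.H X) ∈ T.gr P (2 * (n : ℤ)) :=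
    fun r i => Weil.mem_of_eq T (by ring) (SetLike.mul_mem_graded
      (T.pull_mem p _ _ (T.pull_mem φ _ _ (e r i).2)) (T.pull_mem q _ _ (f r i).2))
  have hR : (∑ r ∈ Finset.range (2 * n + 1), ∑ i : ι r,
      T.pull p (T.pull φ (e r i : T.H X)) * T.pull q (f r i : T.H X)) ∈ T.gr P (2 * (n : ℤ)) :=
    Submodule.sum_mem _ (fun r _ => Submodule.sum_mem _ (fun i _ => hterm r i))
  have key : ∀ b : T.H P, T.tr P (γ * b) = T.tr P ((∑ r ∈ Finset.range (2 * n + 1), ∑ i : ι r,
      T.pull p (T.pull φ (e r i : T.H X)) * T.pull q (f r i : T.H X)) * b) := by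
    apply Weil.kunneth_induction T p q hP
    · simp
    · intro a b ha hb
      rw [mul_add, mul_add, map_add, map_add, ha, hb]
    · intro s s' x y hx hy
      have hb : T.pull p x * T.pull q y ∈ T.gr P (s + s') :=
        SetLike.mul_mem_graded (T.pull_mem p s x hx) (T.pull_mem q s' y hy)
      by_cases hss : s + s' = 2 * (n : ℤ)
      swap
      · rw [T.tr_vanish P _ _ (SetLike.mul_mem_graded hγ hb) (by omega),
          T.tr_vanish P _ _ (SetLike.mul_mem_graded hR hb) (by omega)]
      by_cases hs0 : s < 0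
      · have : x = 0 := Weil.eq_zero_of_mem_of_lt T hx (Or.inl hs0)
        subst this; simp
      by_cases hs0' : s' < 0
      · have : y = 0 := Weil.eq_zero_of_mem_of_lt T hy (Or.inl hs0')
        subst this; simp
      push Not at hs0 hs0'
      obtain ⟨a, rfl⟩ := Int.eq_ofNat_of_zero_le hs0
      obtain ⟨b, rfl⟩ := Int.eq_ofNat_of_zero_le hs0'
      have hab : a + b = 2 * n := by exact_mod_cast hss
      have hL : T.tr P (γ * (T.pull p x * T.pull q y)) = T.tr X (x * T.pull φ y) := by
        rw [WeilGraph.tr_cl_section_mul T j p hjp _ (Weil.mem_of_eq T (by rw [hn]; exact hss) hb), map_mul,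
          Weil.pull_section T j p hjp, Weil.pull_pull T j q φ hjq]
      rw [hL, Finset.sum_mul, map_sum, Finset.sum_eq_single b]
      · rw [Finset.sum_mul, map_sum]
        have hterm2 : ∀ i : ι b, T.tr P (T.pull p (T.pull φ (e b i : T.H X)) *
            T.pull q (f b i : T.H X) * (T.pull p x * T.pull q y)) =
            ((-1 : K) ^ (a * a)) * (T.tr X (T.pull φ (e b i : T.H X) * x) *
              T.tr X ((f b i : T.H X) * y)) := by
          intro i
          rw [Weil.pull_mul_pull_mul T p q _ x _ y (2 * (n : ℤ) - b) a (f b i).2 hx, map_smul,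
            smul_eq_mul, T.tr_prod p q hP _ _
              (Weil.mem_of_eq T (by rw [hn]; omega)
                (SetLike.mul_mem_graded (T.pull_mem φ _ _ (e b i).2) hx))
              (Weil.mem_of_eq T (by rw [hn]; omega) (SetLike.mul_mem_graded (f b i).2 hy))]
          have h1 : (2 * (n : ℤ) - b).natAbs = a := by omega
          rw [h1, Int.natAbs_natCast]
        rw [Finset.sum_congr rfl (fun i _ => hterm2 i), ← Finset.mul_sum]
        -- expand `y` in the basis
        have hy' := (e b).sum_repr ⟨y, hy⟩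
        have hyv : y = ∑ i : ι b, (e b).repr ⟨y, hy⟩ i • (e b i : T.H X) := by
          have := congrArg Subtype.val hy'
          simp only [Submodule.coe_sum, Submodule.coe_smul] at this
          exact this.symm
        have hrepr : ∀ l : ι b, T.tr X ((f b l : T.H X) * y) = (e b).repr ⟨y, hy⟩ l := by
          intro l
          conv_lhs => rw [hyv]
          rw [Finset.mul_sum, map_sum]
          simp only [mul_smul_comm, map_smul, smul_eq_mul, hef b (by omega) _ l]
          simp
        have hsum : ∑ i : ι b, T.tr X (T.pull φ (e b i : T.H X) * x) *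
            T.tr X ((f b i : T.H X) * y) = T.tr X (T.pull φ y * x) := by
          simp only [hrepr]
          conv_rhs => rw [hyv]
          rw [map_sum, Finset.sum_mul, map_sum]
          apply Finset.sum_congr rfl
          intro i _
          rw [map_smul, smul_mul_assoc, map_smul, smul_eq_mul, mul_comm]
        rw [hsum, T.gradedComm X a b x (T.pull φ y) hx (T.pull_mem φ _ y hy), map_smul,
          smul_eq_mul, Int.natAbs_natCast, Int.natAbs_natCast, sign_eq a b n hab]
      · intro r hr hrb
        rw [Finset.sum_mul, map_sum]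
        apply Finset.sum_eq_zero
        intro i _
        rw [Weil.pull_mul_pull_mul T p q _ x _ y (2 * (n : ℤ) - r) a (f r i).2 hx]
        have hr' := Finset.mem_range.mp hr
        rcases Weil.eq_zero_or_eq_zero_of_add_eq T X X (T.pull φ (e r i : T.H X) * x)
          ((f r i : T.H X) * y) (r + a) ((2 * (n : ℤ) - r) + b)
          (SetLike.mul_mem_graded (T.pull_mem φ _ _ (e r i).2) hx)
          (SetLike.mul_mem_graded (f r i).2 hy) (by rw [hn]; omega) (by rw [hn]; omega) with h | h
        · rw [h]; simp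
        · rw [h]; simp
      · intro h
        exact absurd (Finset.mem_range.mpr (by omega)) h
  exact Weil.eq_of_forall_tr_mul_eq T P (2 * (n : ℤ)) _ _ hγ hR (fun b _ => key b)


end

/-- Let H^* be a Weil cohomology theory (coefficients in K of characteristic zero, on nonsingular
connected projective varieties over an algebraically closed field k), φ an endomorphism of such a
variety X of dimension n, p, q the projections of X × X and Γ_φ the graph of φ. If (e^r_i)_i is a
basis of H^r(X) and (f^{2n−r}_i)_i the dual basis of H^{2n−r}(X) for Poincaré duality,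
Tr_X(f^{2n−r}_ℓ ∪ e^r_i) = δ_{i,ℓ}, for every 0 ≤ r ≤ 2n, then cl(Γ_φ) = Σ_{r=0}^{2n} Σ_i
p^*(φ^*(e^r_i)) ∪ q^*(f^{2n−r}_i) in H^{2n}(X × X). Here X × X is any object P with a cartesian
square p, q : P → X over Spec k, Γ_φ is the closure of the image of the generic point of X under the
section j = (id, φ) of p, and the f^{2n−r}_i are any family satisfying the duality relations. -/
theorem result (k : Type u) [Field k] [IsAlgClosed k] (K : Type v) [Field K] [CharZero K]
    (T : WeilCoh.Theory k K)
    (X P : WeilCoh.Var k) [IrreducibleSpace ↥X.obj.left] (φ : X ⟶ X)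
    (p q : P ⟶ X) (hP : WeilCoh.IsProd p q) (j : X ⟶ P) (hjp : j ≫ p = 𝟙 X) (hjq : j ≫ q = φ)
    (ι : ℕ → Type) [∀ r, Fintype (ι r)] [∀ r, DecidableEq (ι r)]
    (e : (r : ℕ) → Module.Basis (ι r) K ↥(T.gr X (r : ℤ)))
    (f : (r : ℕ) → ι r → ↥(T.gr X (2 * (WeilCoh.dim X.obj.left : ℤ) - r)))
    (hef : ∀ r, r ≤ 2 * WeilCoh.dim X.obj.left → ∀ i l : ι r,
      T.tr X ((f r l : T.H X) * (e r i : T.H X)) = if i = l then 1 else 0) :
    T.cl P (WeilCoh.sm j (genericPoint ↥X.obj.left)) =
      ∑ r ∈ Finset.range (2 * WeilCoh.dim X.obj.left + 1), ∑ i : ι r,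
        T.pull p (T.pull φ (e r i : T.H X)) * T.pull q (f r i : T.H X) := by
  exact aux T X P (WeilCoh.dim X.obj.left) rfl φ p q hP j hjp hjq ι e f hef

end Groth.Agent.S15451
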