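import Groth.Statements.S15450
import Groth.Agent.S15451

set_option autoImplicit false
universe u v
open CategoryTheory AlgebraicGeometry
open WeilCoh

namespace Groth.Agent.S15450

open Groth.Agent.Lib.Helper6

section
variable {k : Type u} [Field k] [IsAlgClosed k] {K : Type v} [Field K] [CharZero K]
  (T : WeilCoh.Theory k K)

/-- pairing against a dual family reads off coordinates -/
theorem tr_dual_mul (X : WeilCoh.Var k) (r m : ℤ) {ι : Type} [Fintype ι] [DecidableEq ι]
    (e : Module.Basis ι K ↥(T.gr X r)) (f : ι → ↥(T.gr X m))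
    (hef : ∀ i l : ι, T.tr X ((f l : T.H X) * (e i : T.H X)) = if i = l then 1 else 0)
    (z : ↥(T.gr X r)) (l : ι) : T.tr X ((f l : T.H X) * (z : T.H X)) = e.repr z l := by
  have hz' := e.sum_repr z
  have hzv : (z : T.H X) = ∑ i : ι, e.repr z i • (e i : T.H X) := by
    have := congrArg Subtype.val hz'
    simp only [Submodule.coe_sum, Submodule.coe_smul] at this
    exact this.symm
  conv_lhs => rw [hzv]
  rw [Finset.mul_sum, map_sum]
  simp only [mul_smul_comm, map_smul, smul_eq_mul, hef _ l]
  simp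

/-- existence of a dual family for Poincaré duality -/
theorem exists_dual (X : WeilCoh.Var k) (r : ℕ) {ι : Type} [Fintype ι] [DecidableEq ι]
    (e : Module.Basis ι K ↥(T.gr X (r : ℤ))) :
    ∃ f : ι → ↥(T.gr X (2 * (WeilCoh.dim X.obj.left : ℤ) - r)),
      ∀ i l : ι, T.tr X ((f l : T.H X) * (e i : T.H X)) = if i = l then 1 else 0 := by
  have hd := T.duality X (2 * (WeilCoh.dim X.obj.left : ℤ) - r) r (by ring)
  have hsurj := hd.bijective_left.surjective
  choose f hf using fun l : ι => hsurj (e.coord l)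
  refine ⟨f, fun i l => ?_⟩
  have := congrArg (fun ψ => ψ (e i)) (hf l)
  simp only [Module.Basis.coord_apply, Module.Basis.repr_self] at this
  rw [Finsupp.single_apply] at this
  exact this

omit [CharZero K] in
theorem neg_one_pow_eq_of_even_add (a b : ℕ) (h : Even (a + b)) :
    ((-1 : K) ^ a) = (-1 : K) ^ b := by
  have h2 : ((-1 : K) ^ a) * ((-1 : K) ^ b) = 1 := by
    rw [← pow_add]; exact Even.neg_one_pow h
  have h3 : ((-1 : K) ^ b) * ((-1 : K) ^ b) = 1 := by
    rw [← pow_add]; exact Even.neg_one_pow ⟨b, rfl⟩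
  have hne : ((-1 : K) ^ b) ≠ 0 := pow_ne_zero _ (by norm_num)
  exact mul_right_cancel₀ hne (h2.trans h3.symm)

omit [CharZero K] in
theorem sign_eq2 (r n : ℕ) (hr : r ≤ 2 * n) : ((-1 : K) ^ (r * (2 * n - r))) = (-1 : K) ^ r := by
  apply neg_one_pow_eq_of_even_add
  rcases Nat.even_or_odd r with h | h
  · exact (h.mul_right _).add h
  · have h1 : r * (2 * n - r) + r = r * (2 * n - r + 1) := by ring
    rw [h1]
    apply Even.mul_left
    obtain ⟨t, ht⟩ := h
    exact ⟨n - t, by omega⟩

end

/-- Let H^* be a Weil cohomology theory (coefficients in K of characteristic zero, on nonsingular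
connected projective varieties over an algebraically closed field k), φ an endomorphism of such a
variety X, and Γ_φ, Δ ⊂ X × X the graph of φ and the diagonal. Then (Γ_φ · Δ) = Σ_{i=0}^{2 dim X}
(−1)^i trace(φ^* | H^i(X)). The intersection number is written in the form Tr_{X×X}(cl(Γ_φ) ∪ cl(Δ))
that the argument establishes (it equals the Chow-ring intersection number once the cycle class map
is known to be a ring homomorphism compatible with degrees); X × X is any object P with a cartesian
square p, q : P → X over Spec k, Γ_φ and Δ are the closures of the images of the generic point of X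
under the sections j = (id, φ) and d = (id, id) of p. -/
theorem result (k : Type u) [Field k] [IsAlgClosed k] (K : Type v) [Field K] [CharZero K]
    (T : WeilCoh.Theory k K)
    (X P : WeilCoh.Var k) [IrreducibleSpace ↥X.obj.left] (φ : X ⟶ X)
    (p q : P ⟶ X) (hP : WeilCoh.IsProd p q) (j d : X ⟶ P)
    (hjp : j ≫ p = 𝟙 X) (hjq : j ≫ q = φ) (hdp : d ≫ p = 𝟙 X) (hdq : d ≫ q = 𝟙 X) :
    T.tr P (T.cl P (WeilCoh.sm j (genericPoint ↥X.obj.left)) * T.cl P (WeilCoh.sm d (genericPoint ↥X.obj.left))) =
      ∑ i ∈ Finset.range (2 * WeilCoh.dim X.obj.left + 1),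
        (-1 : K) ^ i * LinearMap.trace K ↥(T.gr X (i : ℤ)) (T.pullDeg φ (i : ℤ)) := by
  classical
  let ι : ℕ → Type := fun r => Fin (Module.finrank K ↥(T.gr X (r : ℤ)))
  let e : (r : ℕ) → Module.Basis (ι r) K ↥(T.gr X (r : ℤ)) := fun r => Module.finBasis K _
  choose f hf using fun r : ℕ => exists_dual T X r (e r)
  have hcl := Groth.Agent.S15451.aux T X P (WeilCoh.dim X.obj.left) rfl φ p q hP j hjp hjq ι e f
    (fun r _ i l => hf r i l)
  have hdP : (WeilCoh.dim P.obj.left : ℤ) = WeilCoh.dim X.obj.left + WeilCoh.dim X.obj.left := by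
    exact_mod_cast Weil.dim_prod T p q hP
  have hcj := WeilGraph.codim_section T j p hjp
  have hcd := WeilGraph.codim_section T d p hdp
  have hγ : T.cl P (WeilCoh.sm j (genericPoint ↥X.obj.left)) ∈
      T.gr P (2 * (WeilCoh.dim X.obj.left : ℤ)) := Weil.mem_of_eq T (by omega) (T.cl_mem P _)
  have hδ : T.cl P (WeilCoh.sm d (genericPoint ↥X.obj.left)) ∈
      T.gr P (2 * (WeilCoh.dim X.obj.left : ℤ)) := Weil.mem_of_eq T (by omega) (T.cl_mem P _)
  rw [Weil.mul_comm_of_even T _ _ _ _ hγ hδ (even_two_mul _),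
    WeilGraph.tr_cl_section_mul T d p hdp _ hγ, hcl, map_sum, map_sum]
  apply Finset.sum_congr rfl
  intro r hr
  have hr' : r ≤ 2 * WeilCoh.dim X.obj.left := by
    have := Finset.mem_range.mp hr; omega
  rw [map_sum, map_sum]
  have hterm : ∀ i : ι r, T.tr X (T.pull d (T.pull p (T.pull φ (e r i : T.H X)) *
      T.pull q (f r i : T.H X))) = (-1 : K) ^ r * (e r).repr (T.pullDeg φ r (e r i)) i := by
    intro i
    rw [map_mul, Weil.pull_section T d p hdp, Weil.pull_section T d q hdq,
      T.gradedComm X r (2 * (WeilCoh.dim X.obj.left : ℤ) - r) _ _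
        (T.pull_mem φ _ _ (e r i).2) (f r i).2, map_smul, smul_eq_mul]
    have h1 := tr_dual_mul T X r _ (e r) (f r) (hf r) (T.pullDeg φ r (e r i)) i
    have h2 : T.tr X ((f r i : T.H X) * T.pull φ (e r i : T.H X)) =
        (e r).repr (T.pullDeg φ r (e r i)) i := h1
    rw [h2]
    congr 1
    have h3 : (2 * (WeilCoh.dim X.obj.left : ℤ) - r).natAbs = 2 * WeilCoh.dim X.obj.left - r := by
      omega
    rw [h3, Int.natAbs_natCast]
    exact sign_eq2 r _ hr'
  rw [Finset.sum_congr rfl (fun i _ => hterm i), ← Finset.mul_sum]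
  congr 1
  rw [LinearMap.trace_eq_matrix_trace K (e r), Matrix.trace]
  simp [LinearMap.toMatrix_apply]

end Groth.Agent.S15450
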