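import Groth.Statements.S1549
import Mathlib
import Groth.Agent.Lib.Helper22.SmoothGeomRed
import Groth.Agent.S1543
-- import your own Groth.Agent.* helpers here

set_option autoImplicit false
universe u
open CategoryTheory CategoryTheory.Limits AlgebraicGeometry
open Variety

namespace Groth.Agent.S1549

/-- For a reduced scheme locally of finite type over k, being geometrically reduced is equivalent to
having a dense open subscheme that is smooth over k. -/
theorem result (k : Type u) [Field k] (X : Scheme.{u}) [X.Over (Spec (CommRingCat.of k))] [IsReduced X] [LocallyOfFiniteType (X ↘ (Spec (CommRingCat.of k)))] :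
    GeometricallyReduced (X ↘ (Spec (CommRingCat.of k))) ↔ ∃ U : X.Opens, Dense (U : Set X) ∧ Smooth (U.ι ≫ (X ↘ (Spec (CommRingCat.of k)))) := by
  haveI : IsLocallyNoetherian X :=
    LocallyOfFiniteType.isLocallyNoetherian (X ↘ (Spec (CommRingCat.of k)))
  haveI : LocallyOfFinitePresentation (X ↘ (Spec (CommRingCat.of k))) := inferInstance
  constructor
  · intro h
    refine ⟨(X ↘ (Spec (CommRingCat.of k))).smoothLocus,
      Groth.Agent.Lib.Helper22.SmoothGeomRed.dense_smoothLocus_of_geometricallyReduced k X h, ?_⟩
    rw [← Scheme.Hom.smoothLocus_eq_top_iff, ← Scheme.Hom.preimage_smoothLocus_eq]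
    ext x
    simp
  · rintro ⟨U, hd, hsm⟩
    apply Groth.Agent.S1543.result k X
    intro Z hZ η hη
    exact Groth.Agent.Lib.Helper22.SmoothGeomRed.isGeomReducedAt_of_mem_smooth_open k X U
      (Groth.Agent.Lib.Helper22.SmoothGeomRed.mem_of_dense_open_of_isGenericPoint U hd hZ hη)

end Groth.Agent.S1549
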