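import Groth.Statements.S15495
import Mathlib.Algebra.CharP.Lemmas
import Mathlib.Tactic.Ring
-- import your own Groth.Agent.* helpers here

set_option autoImplicit false
universe u
open CAlg

namespace Groth.Agent.S15495

/-- In an Artinian local ring R whose maximal ideal m contains the prime number p, the multiplicative
group 1 + m is annihilated under some power of p: there is n with (1 + x)^(p^n) = 1 for every x in
m. (The published text makes this assertion inside a proof, for Artinian local algebras over the
Witt ring of a perfect field of characteristic p; only p ∈ m and the nilpotence of m are used.) -/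
theorem result
    (R : Type u) [CommRing R] [IsLocalRing R] [IsArtinianRing R]
    (p : ℕ) (hp : p.Prime) (hpm : (p : R) ∈ IsLocalRing.maximalIdeal R) :
    ∃ n : ℕ, ∀ x ∈ IsLocalRing.maximalIdeal R, (1 + x) ^ (p ^ n) = 1 := by
  set I := IsLocalRing.maximalIdeal R with hI
  have hnil : IsNilpotent I := by
    have := IsArtinianRing.isNilpotent_jacobson_bot (R := R)
    rwa [IsLocalRing.jacobson_eq_maximalIdeal ⊥ bot_ne_top] at this
  obtain ⟨N, hN⟩ := hnil
  -- one step: raising to the p-th power pushes one step deeper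
  have step : ∀ (j : ℕ) (y : R), y ∈ I ^ (j + 1) → ∃ z ∈ I ^ (j + 2), (1 + y) ^ p = 1 + z := by
    intro j y hy
    obtain ⟨r, hr⟩ := exists_add_pow_prime_eq hp (1 : R) y
    refine ⟨y ^ p + (p : R) * 1 * y * r, ?_, by rw [hr, one_pow]; ring⟩
    refine add_mem ?_ ?_
    · have h1 : y ^ p ∈ (I ^ (j + 1)) ^ p := Ideal.pow_mem_pow hy p
      rw [← pow_mul] at h1
      refine Ideal.pow_le_pow_right ?_ h1
      have : 2 ≤ p := hp.two_le
      nlinarith
    · have h2 : (p : R) * y ∈ I * I ^ (j + 1) := Ideal.mul_mem_mul hpm hy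
      rw [← pow_succ'] at h2
      have : (p : R) * 1 * y * r = ((p : R) * y) * r := by ring
      rw [this]
      exact Ideal.mul_mem_right _ _ h2
  have key : ∀ (k : ℕ) (x : R), x ∈ I → ∃ z ∈ I ^ (k + 1), (1 + x) ^ (p ^ k) = 1 + z := by
    intro k
    induction k with
    | zero =>
      intro x hx
      exact ⟨x, by simpa using hx, by simp⟩
    | succ k ih =>
      intro x hx
      obtain ⟨z, hz, hxz⟩ := ih x hx
      obtain ⟨z', hz', hzz'⟩ := step k z hz
      exact ⟨z', hz', by rw [pow_succ, pow_mul, hxz, hzz']⟩
  refine ⟨N, fun x hx => ?_⟩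
  obtain ⟨z, hz, hxz⟩ := key N x hx
  have : z ∈ I ^ N := Ideal.pow_le_pow_right (Nat.le_succ N) hz
  rw [hN] at this
  have hz0 : z = 0 := this
  rw [hxz, hz0, add_zero]

end Groth.Agent.S15495
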