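import Groth.Statements.S15498
import Mathlib.Tactic

set_option autoImplicit false
open NewtonPoly

namespace Groth.Agent.S15498

lemma floor_pair (m n j : ℕ) (hn : 0 < n) (hmn : Nat.Coprime m n) (hj1 : 1 ≤ j) (hjm : j < m) :
    j * n / m + (m - j) * n / m = n - 1 := by
  have hm : 0 < m := by omega
  have h1 : m * (j * n / m) + j * n % m = j * n := Nat.div_add_mod _ _
  have hr_lt : j * n % m < m := Nat.mod_lt _ hm
  have hr0 : j * n % m ≠ 0 := by
    intro h
    have hdvd : m ∣ j * n := Nat.dvd_of_mod_eq_zero h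
    have h2 : m ∣ j := hmn.dvd_of_dvd_mul_right hdvd
    have := Nat.le_of_dvd (by omega) h2
    omega
  generalize j * n / m = q at *
  generalize j * n % m = r at *
  have hqn : q < n := by
    have h3 : j * n < m * n := Nat.mul_lt_mul_of_pos_right hjm hn
    have : m * q < m * n := by omega
    exact Nat.lt_of_mul_lt_mul_left this
  obtain ⟨c, hc⟩ : ∃ c, n = q + 1 + c := ⟨n - q - 1, by omega⟩
  have h4 : (m - j) * n = m * n - j * n := Nat.sub_mul _ _ _
  have h5 : m * n = m * q + m + m * c := by rw [hc]; ring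
  have h6 : (m - j) * n / m = c := by
    apply Nat.div_eq_of_lt_le
    · rw [Nat.mul_comm c m]; omega
    · have : (c + 1) * m = m * c + m := by ring
      rw [this]; omega
  rw [h6]; omega

lemma two_S (m n : ℕ) (hn : 0 < n) (hmn : Nat.Coprime m n) :
    2 * ∑ j ∈ Finset.Ico 1 m, j * n / m = (m - 1) * (n - 1) := by
  have href := Finset.sum_Ico_reflect (fun j => j * n / m) 1 (m := m) (n := m) (by omega)
  simp only [Nat.add_sub_cancel_left, Nat.add_sub_cancel] at href
  have : 2 * ∑ j ∈ Finset.Ico 1 m, j * n / m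
      = ∑ j ∈ Finset.Ico 1 m, (j * n / m + (m - j) * n / m) := by
    rw [Finset.sum_add_distrib, href]; ring
  rw [this, Finset.sum_congr rfl (fun j hj => floor_pair m n j hn hmn (Finset.mem_Ico.mp hj).1
    (Finset.mem_Ico.mp hj).2)]
  rw [Finset.sum_const, Nat.card_Ico, smul_eq_mul]


/-- Let m, n ≥ 1 be coprime, h = m + n, δ the segment from (0,0) to (h,m) (the isoclinic Newton polygon
of slope m/h) and ρ the ordinary polygon with n slopes 0 followed with m slopes 1, so ρ(i) = max(0,
i − n). The integer points (i,j), 0 ≤ i ≤ h, on or above ρ and strictly below δ — that is max(0, i −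
n) ≤ j and j·h < i·m — are (m−1)(n−1)/2 + (m+n−1) in number (which equals mn − r for r =
(m−1)(n−1)/2). (The published text works under m ≥ n > 0 coprime; the inequality m ≥ n is not used
and not assumed.) -/
theorem result
    (m n : ℕ) (hm : 0 < m) (hn : 0 < n) (hmn : Nat.Coprime m n) :
    ((Finset.range (m + n + 1) ×ˢ Finset.range (m + 1)).filter
      (fun ij : ℕ × ℕ => ij.1 ≤ ij.2 + n ∧ ij.2 * (m + n) < ij.1 * m)).card
      = (m - 1) * (n - 1) / 2 + (m + n - 1) := by
  rw [Finset.card_filter, Finset.sum_product_right]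
  have hrow : ∀ j ∈ Finset.range (m + 1),
      (∑ i ∈ Finset.range (m + n + 1), if (i ≤ j + n ∧ j * (m + n) < i * m) then 1 else 0)
        = n - j * n / m := by
    intro j hj
    rw [Finset.mem_range] at hj
    rw [← Finset.card_filter]
    have : (Finset.range (m + n + 1)).filter (fun i => i ≤ j + n ∧ j * (m + n) < i * m)
        = Finset.Ioc (j + j * n / m) (j + n) := by
      ext i
      simp only [Finset.mem_filter, Finset.mem_range, Finset.mem_Ioc]
      have h1 : j * (m + n) / m = j + j * n / m := by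
        rw [mul_add, add_comm, Nat.add_mul_div_right _ _ hm, add_comm]
      rw [← h1, Nat.div_lt_iff_lt_mul hm]
      constructor
      · rintro ⟨_, h2, h3⟩; exact ⟨h3, h2⟩
      · rintro ⟨h3, h2⟩; exact ⟨by omega, h2, h3⟩
    rw [this, Nat.card_Ioc]
    omega
  rw [Finset.sum_congr rfl hrow]
  have hA : ∀ j ∈ Finset.range (m + 1), j * n / m ≤ n := by
    intro j hj
    rw [Finset.mem_range] at hj
    apply Nat.div_le_of_le_mul
    exact Nat.mul_le_mul_right n (by omega)
  have hsum : ∑ j ∈ Finset.range (m + 1), (n - j * n / m) + ∑ j ∈ Finset.range (m + 1), j * n / m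
      = (m + 1) * n := by
    rw [← Finset.sum_add_distrib, Finset.sum_congr rfl (fun j hj => Nat.sub_add_cancel (hA j hj))]
    rw [Finset.sum_const, Finset.card_range, smul_eq_mul]
  have hlast : ∑ j ∈ Finset.range (m + 1), j * n / m = ∑ j ∈ Finset.Ico 1 m, j * n / m + n := by
    rw [Finset.sum_range_succ, Nat.mul_div_cancel_left n hm, Finset.range_eq_Ico,
      Finset.sum_eq_sum_Ico_succ_bot hm]
    simp
  have h2S := two_S m n hn hmn
  rw [hlast] at hsum
  obtain ⟨a, rfl⟩ : ∃ a, m = a + 1 := ⟨m - 1, by omega⟩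
  obtain ⟨b, rfl⟩ : ∃ b, n = b + 1 := ⟨n - 1, by omega⟩
  simp only [Nat.add_sub_cancel] at h2S ⊢
  have h3 : (a + 1 + 1) * (b + 1) = a * b + a + 2 * b + 2 := by ring
  rw [h3] at hsum
  rw [← h2S, Nat.mul_div_cancel_left _ (by norm_num : 0 < 2)]
  generalize ∑ j ∈ Finset.Ico 1 (a + 1), j * (b + 1) / (a + 1) = S at *
  generalize ∑ j ∈ Finset.range (a + 1 + 1), (b + 1 - j * (b + 1) / (a + 1)) = X at *
  omega

end Groth.Agent.S15498
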