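import Groth.Statements.S15505
import Mathlib.FieldTheory.Finite.Basic
-- import your own Groth.Agent.* helpers here

set_option autoImplicit false
universe u v w
open FrobAlg

namespace Groth.Agent.S15505

/-- Let k be an algebraically closed field of characteristic p, V a k-vector space, φ a p⁻¹-linear
endomorphism of V (additive, φ(a·v) = a^{1/p}·φ(v)) and b a finite basis of V consisting of vectors
fixed by φ. Then the vectors fixed by φ are exactly the combinations of the b_i with coefficients in
the prime field: v is fixed if and only if v = Σ c_i·b_i with all c_i in the image of ℤ/p. -/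
theorem result (p : ℕ) [Fact p.Prime]
    (k : Type u) [Field k] [CharP k p] [IsAlgClosed k]
    (V : Type v) [AddCommGroup V] [Module k V]
    (φ : V →ₛₗ[((frobeniusEquiv k p).symm : k →+* k)] V)
    {ι : Type w} [Fintype ι] (b : Module.Basis ι k V) (hb : ∀ i, φ (b i) = b i) (v : V) :
    φ v = v ↔ ∃ c : ι → ZMod p, v = ∑ i, (ZMod.castHom (dvd_refl p) k (c i)) • b i := by
  classical
  have hfix : ∀ a : k, ((frobeniusEquiv k p).symm : k →+* k) a = a ↔
      ∃ c : ZMod p, ZMod.castHom (dvd_refl p) k c = a := by
    intro a
    have h1 : ((frobeniusEquiv k p).symm : k →+* k) a = a ↔ a ^ p = a := by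
      constructor
      · intro h
        have := congrArg (frobeniusEquiv k p) h
        simp only [RingEquiv.coe_toRingHom, RingEquiv.apply_symm_apply] at this
        rw [frobeniusEquiv_apply, frobenius_def] at this
        exact this.symm
      · intro h
        have : frobeniusEquiv k p a = a := by rw [frobeniusEquiv_apply, frobenius_def, h]
        show (frobeniusEquiv k p).symm a = a
        rw [RingEquiv.symm_apply_eq, this]
    rw [h1, ← Subfield.mem_bot_iff_pow_eq_self k p, ← ZMod.fieldRange_castHom_eq_bot p]
    rfl
  constructor
  · intro hv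
    have hrepr : ∀ i, ((frobeniusEquiv k p).symm : k →+* k) (b.repr v i) = b.repr v i := by
      intro i
      have h2 : φ v = ∑ j, ((frobeniusEquiv k p).symm : k →+* k) (b.repr v j) • b j := by
        conv_lhs => rw [← b.sum_repr v]
        rw [map_sum]
        refine Finset.sum_congr rfl fun j _ => ?_
        rw [map_smulₛₗ, hb]
      have h3 := congrArg (fun w => b.repr w i) h2
      simp only [hv] at h3
      rw [b.repr_sum_self] at h3
      exact h3.symm
    choose c hc using fun i => (hfix (b.repr v i)).mp (hrepr i)
    refine ⟨c, ?_⟩
    conv_lhs => rw [← b.sum_repr v]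
    refine Finset.sum_congr rfl fun i _ => ?_
    rw [hc]
  · rintro ⟨c, rfl⟩
    rw [map_sum]
    refine Finset.sum_congr rfl fun i _ => ?_
    rw [map_smulₛₗ, hb, (hfix _).mpr ⟨c i, rfl⟩]

end Groth.Agent.S15505
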