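import Groth.Statements.S9714
import Mathlib
-- import your own Groth.Agent.* helpers here

set_option autoImplicit false
universe u
open CategoryTheory CategoryTheory.Limits AlgebraicGeometry
open Mor

namespace Groth.Agent.S9714

namespace W3
set_option backward.isDefEq.respectTransparency.types false

theorem backward (k : Type u) [Field k] (ι : Type u) (K : ι → Type u) [∀ i, Field (K i)]
    [∀ i, Algebra k (K i)] (h : ∀ i, FiniteDimensional k (K i) ∧ Algebra.IsSeparable k (K i)) :
    FormallyUnramified (Sigma.desc (fun i => Spec.map (CommRingCat.ofHom (algebraMap k (K i))))) ∧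
    LocallyOfFiniteType (Sigma.desc (fun i => Spec.map (CommRingCat.ofHom (algebraMap k (K i))))) := by
  constructor
  · refine (IsZariskiLocalAtSource.iff_of_openCover (P := @FormallyUnramified)
      (sigmaOpenCover (fun i => Spec (CommRingCat.of (K i))))).2 ?_
    intro (i : ι)
    change FormallyUnramified (Sigma.ι (fun i => Spec (CommRingCat.of (K i))) i ≫ Sigma.desc _)
    rw [Sigma.ι_desc, HasRingHomProperty.Spec_iff (P := @FormallyUnramified)]
    have := (h i).2
    have := (h i).1
    rw [CommRingCat.hom_ofHom, RingHom.formallyUnramified_algebraMap]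
    change Algebra.FormallyUnramified k (K i)
    exact Algebra.FormallyUnramified.of_isSeparable k (K i)
  · refine (IsZariskiLocalAtSource.iff_of_openCover (P := @LocallyOfFiniteType)
      (sigmaOpenCover (fun i => Spec (CommRingCat.of (K i))))).2 ?_
    intro (i : ι)
    change LocallyOfFiniteType (Sigma.ι (fun i => Spec (CommRingCat.of (K i))) i ≫ Sigma.desc _)
    rw [Sigma.ι_desc, HasRingHomProperty.Spec_iff (P := @LocallyOfFiniteType)]
    have := (h i).1
    rw [CommRingCat.hom_ofHom, RingHom.finiteType_algebraMap]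
    change Algebra.FiniteType k (K i)
    infer_instance


/-- affine analysis -/
theorem affine_analysis (k : Type u) [Field k] {U : Scheme.{u}} [IsAffine U]
    (g : U ⟶ Spec (CommRingCat.of k)) [FormallyUnramified g] [LocallyOfFiniteType g] :
    ((Scheme.ΓSpecIso (CommRingCat.of k)).inv ≫ g.appTop).hom.FormallyUnramified ∧
    ((Scheme.ΓSpecIso (CommRingCat.of k)).inv ≫ g.appTop).hom.FiniteType ∧
    g = U.isoSpec.hom ≫ Spec.map ((Scheme.ΓSpecIso (CommRingCat.of k)).inv ≫ g.appTop) := by
  have hg : g = U.isoSpec.hom ≫ Spec.map ((Scheme.ΓSpecIso (CommRingCat.of k)).inv ≫ g.appTop) := by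
    rw [Spec.map_comp, ← Category.assoc, Scheme.isoSpec_hom_naturality, Scheme.isoSpec_Spec_hom,
      Category.assoc, ← Spec.map_comp, Iso.inv_hom_id, Spec.map_id, Category.comp_id]
  refine ⟨?_, ?_, hg⟩
  · have h1 : FormallyUnramified (U.isoSpec.hom ≫
        Spec.map ((Scheme.ΓSpecIso (CommRingCat.of k)).inv ≫ g.appTop)) := by rw [← hg]; infer_instance
    rw [MorphismProperty.cancel_left_of_respectsIso (P := @FormallyUnramified),
      HasRingHomProperty.Spec_iff (P := @FormallyUnramified)] at h1
    exact h1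
  · have h1 : LocallyOfFiniteType (U.isoSpec.hom ≫
        Spec.map ((Scheme.ΓSpecIso (CommRingCat.of k)).inv ≫ g.appTop)) := by rw [← hg]; infer_instance
    rw [MorphismProperty.cancel_left_of_respectsIso (P := @LocallyOfFiniteType),
      HasRingHomProperty.Spec_iff (P := @LocallyOfFiniteType)] at h1
    exact h1

/-- ring-level: finite -/
theorem ring_finite (k A : Type u) [Field k] [CommRing A] [Algebra k A]
    [Algebra.FormallyUnramified k A] [Algebra.FiniteType k A] : Module.Finite k A :=
  Algebra.FormallyUnramified.finite_of_free k A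

/-- ring-level: a field -/
theorem ring_isField (k A : Type u) [Field k] [CommRing A] [Algebra k A]
    [Algebra.FormallyUnramified k A] [Algebra.FiniteType k A]
    [Nonempty (PrimeSpectrum A)] [Subsingleton (PrimeSpectrum A)] : IsField A := by
  have hred : IsReduced A := Algebra.FormallyUnramified.isReduced_of_field k A
  obtain ⟨p⟩ := ‹Nonempty (PrimeSpectrum A)›
  have hnil : nilradical A = p.asIdeal := by
    rw [nilradical_eq_sInf]
    apply le_antisymm
    · exact sInf_le p.2
    · apply le_sInf
      intro q hq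
      have : (⟨q, hq⟩ : PrimeSpectrum A) = p := Subsingleton.elim _ _
      rw [← this]
  have hbot : p.asIdeal = ⊥ := by rw [← hnil]; exact nilradical_eq_zero A
  have : Nontrivial A := ⟨⟨0, 1, fun h => p.2.ne_top ((Ideal.eq_top_iff_one _).2 (by
    rw [hbot]; exact h.symm ▸ Submodule.zero_mem _))⟩⟩
  rw [← not_not (a := IsField A), Ring.not_isField_iff_exists_prime]
  rintro ⟨q, hq0, hq⟩
  have : (⟨q, hq⟩ : PrimeSpectrum A) = p := Subsingleton.elim _ _
  apply hq0
  rw [← hbot, ← this]


theorem one_point (k : Type u) [Field k] {U : Scheme.{u}} [Nonempty U] [Subsingleton U]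
    (g : U ⟶ Spec (CommRingCat.of k)) [FormallyUnramified g] [LocallyOfFiniteType g] :
    ∃ (K : Type u) (_ : Field K) (_ : Algebra k K),
      (FiniteDimensional k K ∧ Algebra.IsSeparable k K) ∧
      ∃ e : U ≅ Spec (CommRingCat.of K),
        e.hom ≫ Spec.map (CommRingCat.ofHom (algebraMap k K)) = g := by
  have : Finite U := Finite.of_subsingleton
  have : IsAffine U := inferInstance
  obtain ⟨h1, h2, h3⟩ := affine_analysis k g
  let φ := (Scheme.ΓSpecIso (CommRingCat.of k)).inv ≫ g.appTop
  let A : Type u := Γ(U, ⊤)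
  letI alg : Algebra k A := φ.hom.toAlgebra
  have hfu : Algebra.FormallyUnramified k A := h1
  have hft : Algebra.FiniteType k A := h2
  have e0 : U ≃ PrimeSpectrum A := U.isoSpec.hom.homeomorph.toEquiv
  have : Nonempty (PrimeSpectrum A) := e0.nonempty_congr.1 inferInstance
  have : Subsingleton (PrimeSpectrum A) := e0.symm.subsingleton
  have hF : IsField A := ring_isField k A
  letI : Field A := hF.toField
  have hfin : Module.Finite k A := ring_finite k A
  have hsep : Algebra.IsSeparable k A := Algebra.FormallyUnramified.isSeparable k A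
  exact ⟨A, inferInstance, alg, ⟨hfin, hsep⟩, U.isoSpec, h3.symm⟩


theorem discrete (k : Type u) [Field k] {X : Scheme.{u}} (f : X ⟶ Spec (CommRingCat.of k))
    [FormallyUnramified f] [LocallyOfFiniteType f] : DiscreteTopology X := by
  rw [discreteTopology_iff_isOpen_singleton]
  intro x
  obtain ⟨V, hV, hxV⟩ : ∃ V : X.Opens, IsAffineOpen V ∧ x ∈ V := by
    obtain ⟨_, ⟨V, hV, rfl⟩, hxV, -⟩ :=
      X.isBasis_affineOpens.exists_subset_of_mem_open (Set.mem_univ x) isOpen_univ
    exact ⟨V, hV, hxV⟩
  have : IsAffine V := hV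
  have hVι : FormallyUnramified V.ι := inferInstance
  have hVf : FormallyUnramified (V.ι ≫ f) :=
    MorphismProperty.comp_mem @FormallyUnramified _ _ hVι inferInstance
  obtain ⟨h1, h2, h3⟩ := affine_analysis k (V.ι ≫ f)
  let φ := (Scheme.ΓSpecIso (CommRingCat.of k)).inv ≫ (V.ι ≫ f).appTop
  let B : Type u := Γ(V, ⊤)
  letI alg : Algebra k B := φ.hom.toAlgebra
  have hfu : Algebra.FormallyUnramified k B := h1
  have hft : Algebra.FiniteType k B := h2
  have hfin : Module.Finite k B := ring_finite k B
  have : IsArtinianRing B := IsArtinianRing.of_finite k B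
  have : DiscreteTopology (Spec Γ(V, ⊤)) := inferInstanceAs (DiscreteTopology (PrimeSpectrum B))
  have : DiscreteTopology V := V.toScheme.isoSpec.hom.homeomorph.symm.discreteTopology
  have h := V.ι.isOpenEmbedding.isOpenMap _ (isOpen_discrete ({⟨x, hxV⟩} : Set V))
  rw [Set.image_singleton] at h
  exact h


theorem forward (k : Type u) [Field k] {X : Scheme.{u}} (f : X ⟶ Spec (CommRingCat.of k))
    [FormallyUnramified f] [LocallyOfFiniteType f] :
    ∃ (ι : Type u) (K : ι → Type u) (_ : ∀ i, Field (K i)) (_ : ∀ i, Algebra k (K i)),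
        (∀ i, FiniteDimensional k (K i) ∧ Algebra.IsSeparable k (K i)) ∧
        ∃ e : X ≅ ∐ (fun i => Spec (CommRingCat.of (K i))),
          e.hom ≫ Sigma.desc (fun i => Spec.map (CommRingCat.ofHom (algebraMap k (K i)))) = f := by
  have hd : DiscreteTopology X := discrete k f
  let U : X → X.Opens := fun x => ⟨{x}, isOpen_discrete _⟩
  have hne : ∀ x, Nonempty (U x : Scheme) := fun x => ⟨⟨x, rfl⟩⟩
  have hss : ∀ x, Subsingleton (U x : Scheme) := fun x =>
    ⟨fun a b => Subtype.ext (a.2.trans b.2.symm)⟩
  have hfu : ∀ x, FormallyUnramified ((U x).ι ≫ f) := fun x =>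
    MorphismProperty.comp_mem @FormallyUnramified _ _ inferInstance inferInstance
  have hlft : ∀ x, LocallyOfFiniteType ((U x).ι ≫ f) := fun x => inferInstance
  have key := fun x => one_point k ((U x).ι ≫ f)
  choose K hK1 hK2 hK3 e he using key
  let c : ∐ (fun x => (U x : Scheme)) ⟶ X := Sigma.desc (fun x => (U x).ι)
  have hc1 : IsOpenImmersion c := isOpenImmersion_sigmaDesc _ _ (fun x y hxy => by
    simp only [Function.onFun, Scheme.Opens.range_ι, U]
    exact Set.disjoint_singleton.2 hxy)
  have hc2 : Surjective c := ⟨fun x => ⟨Sigma.ι (fun x => (U x : Scheme)) x ⟨x, rfl⟩, by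
    rw [← Scheme.Hom.comp_apply, Sigma.ι_desc]; rfl⟩⟩
  have hc : IsIso c := (isIso_iff_isOpenImmersion_and_surjective c).2 ⟨hc1, hc2⟩
  refine ⟨X, K, hK1, hK2, hK3, (asIso c).symm ≪≫ Sigma.mapIso (fun x => e x), ?_⟩
  simp only [Iso.trans_hom, Iso.symm_hom, asIso_inv, Category.assoc, IsIso.inv_comp_eq]
  apply Sigma.hom_ext
  intro x
  rw [Sigma.ι_mapIso_hom_assoc, Sigma.ι_desc, Sigma.ι_desc_assoc]
  exact he x

end W3

/-- Let k be a field and X a scheme over k. The structure morphism X ⟶ Spec k is unramified (formally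
unramified and locally of finite type) if and only if X is isomorphic over k to a disjoint union of
spectra of finite separable field extensions of k. -/
theorem result (k : Type u) [Field k] {X : Scheme.{u}}
    (f : X ⟶ Spec (CommRingCat.of k)) :
    (FormallyUnramified f ∧ LocallyOfFiniteType f) ↔
      ∃ (ι : Type u) (K : ι → Type u) (_ : ∀ i, Field (K i)) (_ : ∀ i, Algebra k (K i)),
        (∀ i, FiniteDimensional k (K i) ∧ Algebra.IsSeparable k (K i)) ∧
        ∃ e : X ≅ ∐ (fun i => Spec (CommRingCat.of (K i))),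
          e.hom ≫ Sigma.desc (fun i => Spec.map (CommRingCat.ofHom (algebraMap k (K i)))) = f := by
  constructor
  · rintro ⟨h1, h2⟩
    exact W3.forward k f
  · rintro ⟨ι, K, hF, hA, hK, e, he⟩
    obtain ⟨b1, b2⟩ := W3.backward k ι K hK
    rw [← he]
    exact ⟨MorphismProperty.comp_mem @FormallyUnramified _ _ inferInstance b1, inferInstance⟩

end Groth.Agent.S9714
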