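import Groth.Statements.S15506
import Mathlib
import Groth.Agent.S9714
-- import your own Groth.Agent.* helpers here

set_option autoImplicit false
universe u
open CategoryTheory AlgebraicGeometry
open EtBase

namespace Groth.Agent.S15506

section H
open CategoryTheory CategoryTheory.Limits AlgebraicGeometry
namespace W4
set_option backward.isDefEq.respectTransparency.types false

theorem epi_spec_field (K Ω : Type u) [Field K] [Field Ω] [Algebra K Ω] :
    Epi (Spec.map (CommRingCat.ofHom (algebraMap K Ω))) := by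
  have h1 : Flat (Spec.map (CommRingCat.ofHom (algebraMap K Ω))) := by
    rw [HasRingHomProperty.Spec_iff (P := @Flat), CommRingCat.hom_ofHom, RingHom.flat_algebraMap_iff]
    infer_instance
  have h2 : Surjective (Spec.map (CommRingCat.ofHom (algebraMap K Ω))) := by
    constructor
    intro x
    have : Nonempty (Spec (CommRingCat.of Ω)) := inferInstanceAs (Nonempty (PrimeSpectrum Ω))
    obtain ⟨y⟩ := this
    refine ⟨y, ?_⟩
    have : Subsingleton (Spec (CommRingCat.of K)) := inferInstanceAs (Subsingleton (PrimeSpectrum K))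
    exact Subsingleton.elim _ _
  exact Flat.epi_of_flat_of_surjective _


theorem mem_range_of_isIntegral (K Ω : Type u) [Field K] [Field Ω] [Algebra K Ω] [IsAlgClosed K]
    (ω : Ω) (h : IsIntegral K ω) : ω ∈ (algebraMap K Ω).range :=
  minpoly.degree_eq_one_iff.1 (IsAlgClosed.degree_eq_one_of_irreducible K (minpoly.irreducible h))

theorem surj_part (k K Ω : Type u) [Field k] [Field K] [Field Ω] [Algebra k K] [IsAlgClosed K]
    [Algebra.IsAlgebraic k K] [Algebra K Ω] [Algebra k Ω] [IsScalarTower k K Ω]
    (Z : Scheme.{u}) (f : Z ⟶ Spec (CommRingCat.of k)) [AlgebraicGeometry.Etale f]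
    (h : Spec (CommRingCat.of Ω) ⟶ Z) (hh : h ≫ f = Spec.map (CommRingCat.ofHom (algebraMap k Ω))) :
    ∃ g : Spec (CommRingCat.of K) ⟶ Z, g ≫ f = Spec.map (CommRingCat.ofHom (algebraMap k K)) ∧
      Spec.map (CommRingCat.ofHom (algebraMap K Ω)) ≫ g = h := by
  have hd : DiscreteTopology Z := Groth.Agent.S9714.W3.discrete k f
  have : Nonempty (Spec (CommRingCat.of Ω)) := inferInstanceAs (Nonempty (PrimeSpectrum Ω))
  obtain ⟨pt⟩ := this
  have hss : Subsingleton (Spec (CommRingCat.of Ω)) := inferInstanceAs (Subsingleton (PrimeSpectrum Ω))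
  let z := h pt
  let U : Z.Opens := ⟨{z}, isOpen_discrete _⟩
  have hne : Nonempty (U : Scheme) := ⟨⟨z, rfl⟩⟩
  have hsub : Subsingleton (U : Scheme) := ⟨fun a b => Subtype.ext (a.2.trans b.2.symm)⟩
  have hfu : FormallyUnramified (U.ι ≫ f) :=
    MorphismProperty.comp_mem @FormallyUnramified _ _ inferInstance inferInstance
  have hlft : LocallyOfFiniteType (U.ι ≫ f) := inferInstance
  obtain ⟨L, hL1, hL2, ⟨hfin, hsep⟩, e, he⟩ := Groth.Agent.S9714.W3.one_point k (U.ι ≫ f)
  have hr : Set.range h ⊆ Set.range U.ι := by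
    rintro _ ⟨a, rfl⟩
    rw [Scheme.Opens.range_ι, Subsingleton.elim a pt]
    rfl
  let h' : Spec (CommRingCat.of Ω) ⟶ U := IsOpenImmersion.lift U.ι h hr
  have hh' : h' ≫ U.ι = h := IsOpenImmersion.lift_fac _ _ _
  obtain ⟨ψ', hψ'⟩ : ∃ ψ' : CommRingCat.of L ⟶ CommRingCat.of Ω, Spec.map ψ' = h' ≫ e.hom :=
    ⟨_, Spec.map_preimage _⟩
  have hψk : CommRingCat.ofHom (algebraMap k L) ≫ ψ' = CommRingCat.ofHom (algebraMap k Ω) := by
    apply Spec.map_injective
    rw [Spec.map_comp, hψ', Category.assoc, he, ← Category.assoc, hh', hh]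
  have hψk' : ∀ a : k, ψ'.hom (algebraMap k L a) = algebraMap k Ω a := fun a => by
    have := congrArg (fun t => t.hom a) hψk
    simpa using this
  let ψa : L →ₐ[k] Ω := { ψ'.hom with commutes' := hψk' }
  have hmem : ∀ l : L, ψ'.hom l ∈ (algebraMap K Ω).range := by
    intro l
    apply mem_range_of_isIntegral
    have h1 : IsIntegral k (ψa l) := (Algebra.IsIntegral.isIntegral (R := k) l).map ψa
    exact h1.tower_top
  let eK : K ≃+* (algebraMap K Ω).range :=
    RingEquiv.ofBijective (algebraMap K Ω).rangeRestrict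
      ⟨(algebraMap K Ω).rangeRestrict.injective, (algebraMap K Ω).rangeRestrict_surjective⟩
  let χ : L →+* K := eK.symm.toRingHom.comp (ψ'.hom.codRestrict (algebraMap K Ω).range hmem)
  have hχ : ∀ l, algebraMap K Ω (χ l) = ψ'.hom l := by
    intro l
    have h1 : eK (χ l) = ψ'.hom.codRestrict (algebraMap K Ω).range hmem l :=
      eK.apply_symm_apply _
    exact congrArg Subtype.val h1
  have hχ' : CommRingCat.ofHom χ ≫ CommRingCat.ofHom (algebraMap K Ω) = ψ' := by
    ext l
    exact hχ l
  have hχk : CommRingCat.ofHom (algebraMap k L) ≫ CommRingCat.ofHom χ =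
      CommRingCat.ofHom (algebraMap k K) := by
    ext a
    apply (algebraMap K Ω).injective
    change algebraMap K Ω (χ (algebraMap k L a)) = algebraMap K Ω (algebraMap k K a)
    rw [hχ, hψk', ← IsScalarTower.algebraMap_apply]
  refine ⟨Spec.map (CommRingCat.ofHom χ) ≫ e.inv ≫ U.ι, ?_, ?_⟩
  · have he' : e.inv ≫ U.ι ≫ f = Spec.map (CommRingCat.ofHom (algebraMap k L)) := by
      rw [← he, Iso.inv_hom_id_assoc]
    rw [Category.assoc, Category.assoc, he', ← Spec.map_comp, hχk]
  · rw [← Category.assoc, ← Spec.map_comp, hχ', hψ', Category.assoc, Iso.hom_inv_id_assoc, hh']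

end W4

end H

/-- Let k be a field, K an algebraic closure of k (an algebraically closed field algebraic over k), Ω a
field containing K, and Z a scheme étale over Spec k. Composition with Spec Ω → Spec K is a
bijection from the k-morphisms Spec K → Z onto the k-morphisms Spec Ω → Z: two k-morphisms Spec K →
Z that agree on Spec Ω are equal, and every k-morphism Spec Ω → Z factors through Spec K. (The
published statement is the case where k has characteristic zero with a chosen embedding of its
algebraic closure into the complex numbers, Ω = ℂ, and Z is the scheme of isomorphisms between two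
K3 surfaces over k, known there to be étale over k; this row states the fact about an arbitrary
étale k-scheme that the argument establishes.) -/
theorem result
    (k K Ω : Type u) [Field k] [Field K] [Field Ω] [Algebra k K] [IsAlgClosed K] [Algebra.IsAlgebraic k K]
    [Algebra K Ω] [Algebra k Ω] [IsScalarTower k K Ω]
    (Z : Scheme.{u}) (f : Z ⟶ Spec (CommRingCat.of k)) [AlgebraicGeometry.Etale f] :
    (∀ g₁ g₂ : Spec (CommRingCat.of K) ⟶ Z,
        g₁ ≫ f = Spec.map (CommRingCat.ofHom (algebraMap k K)) →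
        g₂ ≫ f = Spec.map (CommRingCat.ofHom (algebraMap k K)) →
        Spec.map (CommRingCat.ofHom (algebraMap K Ω)) ≫ g₁ = Spec.map (CommRingCat.ofHom (algebraMap K Ω)) ≫ g₂ →
        g₁ = g₂) ∧
    (∀ h : Spec (CommRingCat.of Ω) ⟶ Z, h ≫ f = Spec.map (CommRingCat.ofHom (algebraMap k Ω)) →
        ∃ g : Spec (CommRingCat.of K) ⟶ Z, g ≫ f = Spec.map (CommRingCat.ofHom (algebraMap k K)) ∧
          Spec.map (CommRingCat.ofHom (algebraMap K Ω)) ≫ g = h) := by
  refine ⟨?_, ?_⟩
  · intro g₁ g₂ _ _ h
    have := W4.epi_spec_field K Ω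
    exact (cancel_epi _).1 h
  · intro h hh
    exact W4.surj_part k K Ω Z f h hh

end Groth.Agent.S15506
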