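import Groth.Statements.S15512
import Groth.Agent.Lib.helper11.ExtIntoRing
import Groth.Agent.Lib.helper11.GlDimRegular

set_option autoImplicit false
universe u
open CategoryTheory
open CAlg

namespace Groth.Agent.S15512

/-- Let A be a Noetherian ring which is regular (its localization at every maximal ideal is a regular
local ring) and of finite Krull dimension, M a finitely generated A-module and d a natural number.
If Ext^i_A(M, A) vanishes for every i > d, then the projective dimension of M is at most d. -/
theorem result (A : Type u) [CommRing A]
    [IsNoetherianRing A] (hreg : ∀ m : MaximalSpectrum A, IsRegularLocalRing (Localization.AtPrime m.asIdeal))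
    (hdim : ringKrullDim A < ⊤) (M : Type u) [AddCommGroup M] [Module A M] [Module.Finite A M] (d : ℕ)
    (h : ∀ i : ℕ, d < i → Subsingleton (Abelian.Ext (ModuleCat.of A M) (ModuleCat.of A A) i)) :
    HasProjectiveDimensionLT (ModuleCat.of A M) (d + 1) := by
  by_cases hA : Subsingleton A
  · haveI : Subsingleton M := Module.subsingleton A M
    haveI := (ModuleCat.isZero_of_subsingleton (ModuleCat.of A M)).hasProjectiveDimensionLT_zero
    exact hasProjectiveDimensionLT_of_ge _ 0 (d + 1) (by omega)
  rw [not_subsingleton_iff_nontrivial] at hA
  -- the dimension is a natural number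
  obtain ⟨D, hD⟩ : ∃ D : ℕ, ringKrullDim A = D := by
    have h0 : (0 : WithBot ℕ∞) ≤ ringKrullDim A := ringKrullDim_nonneg_of_nontrivial
    generalize ringKrullDim A = x at hdim h0
    induction x using WithBot.recBotCoe with
    | bot => simp at h0
    | coe x =>
      induction x using ENat.recTopCoe with
      | top => exact absurd hdim (lt_irrefl _)
      | coe k => exact ⟨k, rfl⟩
  have hpd : HasProjectiveDimensionLE (ModuleCat.of A M) D := by
    rw [ModuleCat.hasProjectiveDimensionLE_iff_forall_maximalSpectrum]
    intro m
    haveI := hreg m
    have h1 : ringKrullDim (Localization.AtPrime m.asIdeal) =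
        ((IsLocalRing.maximalIdeal (Localization.AtPrime m.asIdeal)).spanFinrank : ℕ) :=
      (IsRegularLocalRing.spanFinrank_maximalIdeal (R := Localization.AtPrime m.asIdeal)).symm
    have h2 := Groth.Agent.Lib.helper11.GlDimRegular.hasProjectiveDimensionLT_of_isRegularLocalRing
      _ h1 ((ModuleCat.of A M).localizedModule m.asIdeal.primeCompl)
    have h3 : ringKrullDim (Localization.AtPrime m.asIdeal) ≤ ringKrullDim A := by
      rw [IsLocalization.AtPrime.ringKrullDim_eq_height m.asIdeal]
      exact Ideal.height_le_ringKrullDim_of_ne_top m.isMaximal.ne_top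
    rw [h1, hD] at h3
    have h4 : (IsLocalRing.maximalIdeal (Localization.AtPrime m.asIdeal)).spanFinrank ≤ D := by
      exact_mod_cast h3
    exact hasProjectiveDimensionLT_of_ge _
      ((IsLocalRing.maximalIdeal (Localization.AtPrime m.asIdeal)).spanFinrank + 1) (D + 1)
      (by omega)
  exact Groth.Agent.Lib.helper11.ExtIntoRing.hasProjectiveDimensionLT_of_ext_ring M d h D hpd

end Groth.Agent.S15512
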