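import Groth.Statements.S15524
import Groth.Agent.Lib.Helper18.Zeta.PowerSums
import Mathlib.Analysis.SpecialFunctions.Pow.Real

set_option autoImplicit false
open Finset
open Zeta

namespace Groth.Agent.S15524

/-- Let q ≥ 1 and let α_1, …, α_{2g} be complex numbers permuted by α ↦ q/α, i.e. α_{σ(i)} α_i = q for a
permutation σ of the indices; these play the role of the inverse roots of the numerator of the zeta
function of a curve over a field with q elements, for which #X(F_{q^N}) = q^N + 1 − Σ_i α_i^N. If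
for some d ≥ 1 and real C one has |Σ_i α_i^{dN}| ≤ C q^{dN/2} for every N ≥ 1, then |α_i|^2 = q for
every i (the Riemann hypothesis for the curve). -/
theorem result {g : ℕ} (q : ℕ) (hq : 0 < q)
    (α : Fin (2 * g) → ℂ) (σ : Equiv.Perm (Fin (2 * g))) (hσ : ∀ i, α (σ i) * α i = q)
    (d : ℕ) (hd : 0 < d) (C : ℝ)
    (hC : ∀ N : ℕ, 1 ≤ N → ‖∑ i, α i ^ (d * N)‖ ≤ C * (q : ℝ) ^ ((d : ℝ) * N / 2))
    (i : Fin (2 * g)) : ‖α i‖ ^ 2 = q := by
  have hq0 : (0 : ℝ) ≤ (q : ℝ) := Nat.cast_nonneg _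
  have hqpos : (0 : ℝ) < (q : ℝ) := by exact_mod_cast hq
  set sq := Real.sqrt (q : ℝ) with hsq
  have hsqpos : 0 < sq := Real.sqrt_pos.mpr hqpos
  have hle : ∀ j, ‖α j‖ ≤ sq := by
    intro j
    have key := Groth.Agent.Lib.Helper18.Zeta.norm_le_of_powerSum_le
      (fun i => α i ^ d) C (sq ^ d) (pow_pos hsqpos _)
      (fun m hm => by
        have h1 := hC m hm
        simp only [← pow_mul]
        have h2 : (q : ℝ) ^ ((d : ℝ) * m / 2) = sq ^ (d * m) := by
          rw [hsq, Real.sqrt_eq_rpow, ← Real.rpow_natCast, ← Real.rpow_mul hq0]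
          congr 1
          push_cast
          ring
        rw [← h2]
        exact h1) j
    simp only [norm_pow] at key
    exact le_of_pow_le_pow_left₀ hd.ne' hsqpos.le key
  have hprod : ‖α (σ i)‖ * ‖α i‖ = sq * sq := by
    rw [← norm_mul, hσ, Complex.norm_natCast, Real.mul_self_sqrt hq0]
  have heq : ‖α i‖ = sq := by
    by_contra hne
    have hlt : ‖α i‖ < sq := lt_of_le_of_ne (hle i) hne
    have : ‖α (σ i)‖ * ‖α i‖ < sq * sq := by
      calc ‖α (σ i)‖ * ‖α i‖ ≤ sq * ‖α i‖ :=
            mul_le_mul_of_nonneg_right (hle _) (norm_nonneg _)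
        _ < sq * sq := mul_lt_mul_of_pos_left hlt hsqpos
    rw [hprod] at this
    exact lt_irrefl _ this
  rw [heq, Real.sq_sqrt hq0]

end Groth.Agent.S15524
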