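import Groth.Statements.S15525
import Mathlib

set_option autoImplicit false
universe u
open Zeta

namespace Groth.Agent.S15525

section aux
open Polynomial ComplexConjugate

-- universe u declared in template

lemma rev_prod (s : Multiset ℂ) (hs : ∀ z ∈ s, ‖z‖ = 1) :
    C ((-1 : ℂ) ^ (Multiset.card s) * (s.prod)⁻¹) * reverse ((s.map fun z => X - C z).prod) =
      (s.map fun z => X - C (conj z)).prod := by
  induction s using Multiset.induction_on with
  | empty =>
    simp only [Multiset.card_zero, pow_zero, Multiset.prod_zero, inv_one, mul_one, C_1, one_mul,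
      Multiset.map_zero]
    rw [← C_1, reverse_C]
  | cons z s ih =>
    have hz : ‖z‖ = 1 := hs z (Multiset.mem_cons_self z s)
    have hz0 : z ≠ 0 := by
      intro h0; rw [h0, norm_zero] at hz; exact zero_ne_one hz
    have ih' := ih (fun w hw => hs w (Multiset.mem_cons_of_mem hw))
    simp only [Multiset.map_cons, Multiset.prod_cons, Multiset.card_cons]
    rw [← ih', reverse_mul_of_domain]
    have h1 : reverse (X - C z) = 1 + C (-z) * X := by
      have : (X - C z : ℂ[X]) = X + C (-z) := by rw [map_neg, sub_eq_add_neg]
      rw [this, reverse_add_C, natDegree_X, pow_one]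
      congr 1
      have : (X : ℂ[X]) = 1 * X := (one_mul X).symm
      rw [this, reverse_mul_X, ← C_1, reverse_C]
    rw [h1, ← Complex.inv_eq_conj hz]
    have h2 : (X - C z⁻¹ : ℂ[X]) = C (-z⁻¹) * (1 + C (-z) * X) := by
      rw [mul_add, mul_one, ← mul_assoc, ← C_mul, neg_mul_neg, inv_mul_cancel₀ hz0, C_1, one_mul,
        map_neg]
      ring
    rw [h2]
    have h3 : C ((-1 : ℂ) ^ (Multiset.card s + 1) * (z * s.prod)⁻¹) =
        C (-z⁻¹) * C ((-1 : ℂ) ^ (Multiset.card s) * (s.prod)⁻¹) := by
      rw [← C_mul]
      congr 1
      rw [mul_inv, pow_succ]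
      ring
    rw [h3]
    ring

lemma conj_prod_inv (s : Multiset ℂ) :
    (((s.map fun z => X - C z).prod * (s.map fun z => X - C (conj z)).prod).map (starRingEnd ℂ)) =
      (s.map fun z => X - C z).prod * (s.map fun z => X - C (conj z)).prod := by
  rw [Polynomial.map_mul, Polynomial.map_multiset_prod, Polynomial.map_multiset_prod,
    Multiset.map_map, Multiset.map_map, mul_comm]
  congr 1
  · congr 1
    apply Multiset.map_congr rfl
    intro z _
    simp
  · congr 1
    apply Multiset.map_congr rfl
    intro z _
    simp

theorem main (L : Type u) [Field L] (ι : L →+* ℂ)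
    {r : ℕ} (M : Matrix (Fin r) (Fin r) L)
    (hM : ∀ z ∈ ((Matrix.charpoly M).map ι).roots, ‖z‖ = 1) (n : ℕ) :
    (ι ((Matrix.fromBlocks M 0 0 (M⁻¹).transpose).charpoly.coeff n)).im = 0 := by
  set P : ℂ[X] := (Matrix.charpoly M).map ι with hP
  set s := P.roots with hs
  have hPmonic : P.Monic := (Matrix.charpoly_monic M).map ι
  have hPsplits : P.Splits := IsAlgClosed.splits P
  have hPprod : P = (s.map fun z => X - C z).prod := hPsplits.eq_prod_roots_of_monic hPmonic
  have hPdeg : P.natDegree = r := by
    rw [hP, Polynomial.natDegree_map, Matrix.charpoly_natDegree_eq_dim, Fintype.card_fin]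
  have hcard : Multiset.card s = r := by rw [← hPdeg]; exact hPsplits.natDegree_eq_card_roots.symm
  have hprod0 : s.prod ≠ 0 := by
    rw [Ne, Multiset.prod_eq_zero_iff]
    intro h0
    have := hM 0 h0
    rw [norm_zero] at this
    exact zero_ne_one this
  have hdet : ι M.det = s.prod := by
    rw [Matrix.det_eq_sign_charpoly_coeff, map_mul, map_pow, map_neg, map_one, Fintype.card_fin,
      ← Polynomial.coeff_map, ← hP, hPsplits.coeff_zero_eq_prod_roots_of_monic hPmonic, hPdeg, ← mul_assoc,
      ← pow_add, ← two_mul, pow_mul]
    simp [hs]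
  have hdet0 : M.det ≠ 0 := by
    intro h0
    rw [h0, map_zero] at hdet
    exact hprod0 hdet.symm
  have hunit : IsUnit M := (Matrix.isUnit_iff_isUnit_det M).mpr (IsUnit.mk0 _ hdet0)
  have hQ : (Matrix.charpoly M⁻¹).map ι = (s.map fun z => X - C (conj z)).prod := by
    rw [Matrix.charpoly_inv M hunit, ← Matrix.reverse_charpoly, Polynomial.map_mul, Polynomial.map_mul,
      Polynomial.map_pow, Polynomial.map_neg, Polynomial.map_one, Polynomial.map_C, Ring.inverse_eq_inv',
      map_inv₀, hdet, Fintype.card_fin]
    have hrev : (reverse (Matrix.charpoly M)).map ι = reverse P := by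
      rw [reverse, reverse, ← Polynomial.reflect_map, hP, Polynomial.natDegree_map]
    rw [hrev, ← rev_prod s hM, hcard, ← hPprod, C_mul, C_pow, C_neg, C_1]
  rw [Matrix.charpoly_fromBlocks_zero₁₂, Matrix.charpoly_transpose, ← Polynomial.coeff_map,
    Polynomial.map_mul, hQ, ← hP, hPprod]
  have h1 := congrArg (fun p => Polynomial.coeff p n) (conj_prod_inv s)
  simp only [Polynomial.coeff_map] at h1
  exact Complex.conj_eq_iff_im.mp h1

end aux

/-- Let L be a field with a ring embedding ι into ℂ and M an r × r matrix over L all of whose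
eigenvalues, the complex roots of its characteristic polynomial mapped along ι, have absolute value
1. Then every coefficient of the characteristic polynomial of the block-diagonal matrix with blocks
M and the inverse transpose of M is mapped by ι into ℝ. This is the pointwise content of the
assertion that for a lisse sheaf F pure of weight 0 the sum of F and its dual is real, the Frobenius
of the dual acting by the inverse transpose. -/
theorem result (L : Type u) [Field L] (ι : L →+* ℂ)
    {r : ℕ} (M : Matrix (Fin r) (Fin r) L)
    (hM : ∀ z ∈ ((Matrix.charpoly M).map ι).roots, ‖z‖ = 1) (n : ℕ) :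
    (ι ((Matrix.fromBlocks M 0 0 (M⁻¹).transpose).charpoly.coeff n)).im = 0 := by
  exact main L ι M hM n

end Groth.Agent.S15525
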