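import Groth.Statements.S15533
import Groth.Agent.Lib.Helper29.OmegaUniv
import Groth.Agent.Lib.Helper29.IntegralD

set_option autoImplicit false
universe u
open OmegaSh

namespace Groth.Agent.S15533



open Groth.Agent.Lib.Helper28.QCohLoc Groth.Agent.Lib.Helper29

theorem key {K0 A : Type u} [CommRing K0] [CommRing A] (φ : K0 →+* A) (hK : IsField K0)
    (hφ : φ.Smooth) (t : A) (ht : φ.IsIntegralElem t) :
    letI := φ.toAlgebra
    KaehlerDifferential.D K0 A t = 0 := by
  letI : Field K0 := hK.toField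
  letI : Algebra K0 A := φ.toAlgebra
  haveI : Algebra.Smooth K0 A := hφ
  exact IntegralD.D_eq_zero_of_isIntegral K0 A t ht

open CategoryTheory AlgebraicGeometry in
/-- For a field k and a smooth proper k-scheme X with structure morphism f, the derivation d : O_X →
Ω_{X/k} of f vanishes on global functions: d(s) = 0 in Γ(X, Ω_{X/k}) for every s ∈ Γ(X, O_X). -/
theorem result (k : Type u) [Field k] (X : Scheme.{u})
    (f : X ⟶ Spec (CommRingCat.of k)) [IsProper f] [Smooth f] (s : Γ(X, ⊤)) :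
    (OmegaSh.dOmega f).app ⊤ s = 0 := by
  refine eq_of_locally_eq (Omega.sheaf f) (fun U : X.affineOpens => U.1) ⊤ (fun _ => le_top) ?_ _ _ ?_
  · rw [iSup_affineOpens_eq_top]
  intro U
  rw [res_zero, ← OmegaUniv.der_res]
  have e : U.1 ≤ f ⁻¹ᵁ ⊤ := le_top
  letI := OmegaLoc.alg f e
  obtain ⟨Φ, hΦs, hΦd⟩ := OmegaCan.exists_sections_equiv_can f U.2
    (isAffineOpen_top (Spec (CommRingCat.of k))) e
  apply Φ.injective
  rw [map_zero]
  change Φ (OmegaSh.dSect f U.1 _) = 0
  rw [hΦd]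
  have hK : IsField Γ(Spec (CommRingCat.of k), ⊤) :=
    MulEquiv.isField (Field.toIsField k)
      (Scheme.ΓSpecIso (CommRingCat.of k)).commRingCatIsoToRingEquiv.toMulEquiv
  have hsm : (f.appLE ⊤ U.1 e).hom.Smooth :=
    HasRingHomProperty.appLE (P := @Smooth) f inferInstance
      ⟨⊤, isAffineOpen_top (Spec (CommRingCat.of k))⟩ U e
  have hint : (f.appLE ⊤ U.1 e).hom.IsIntegralElem (resO le_top s) := by
    obtain ⟨p, hp, hp0⟩ := isIntegral_appTop_of_universallyClosed f s
    refine ⟨p, hp, ?_⟩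
    have h1 : (f.appLE ⊤ U.1 e).hom =
        (X.presheaf.map (homOfLE (le_top : U.1 ≤ ⊤)).op).hom.comp f.appTop.hom := rfl
    rw [h1]
    change Polynomial.eval₂ _ ((X.presheaf.map (homOfLE (le_top : U.1 ≤ ⊤)).op).hom s) p = 0
    rw [← Polynomial.hom_eval₂, hp0, map_zero]
  exact key (f.appLE ⊤ U.1 e).hom hK hsm _ hint



end Groth.Agent.S15533
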