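import Groth.Statements.S15541
import Mathlib
import Groth.Agent.Lib.Helper25.RelFrobSynt
-- import your own Groth.Agent.* helpers here

set_option autoImplicit false
set_option linter.unusedSectionVars false
set_option linter.style.haveILetI false
set_option linter.unusedVariables false
universe u
open FrobSch

namespace Groth.Agent.S15541

open CategoryTheory AlgebraicGeometry CategoryTheory.Limits
open Groth.Agent.Lib.Helper25.RelFrobSynt

theorem charP_of_natCast_eq_zero (p : ℕ) [Fact p.Prime] (R : Type u) [CommRing R] [Nontrivial R]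
    (h : (p : R) = 0) : CharP R p :=
  (CharP.charP_iff_prime_eq_zero Fact.out).2 h

theorem appLE_of_eq {X Y : Scheme.{u}} {f g : X ⟶ Y} (h : f = g) (U : Y.Opens) (V : X.Opens)
    (e : V ≤ f ⁻¹ᵁ U) : f.appLE U V e = g.appLE U V (h ▸ e) := by
  subst h; rfl

theorem frob_appLE (p : ℕ) [Fact p.Prime] (X : Scheme.{u}) [IsCharP X p] (V : X.Opens)
    [CharP Γ(X, V) p] (le : V ≤ (frob X p) ⁻¹ᵁ V) :
    (frob X p).appLE V V le = CommRingCat.ofHom (frobenius Γ(X, V) p) := by
  have h0 : (frob X p).appLE V V le = (frob X p).app V :=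
    (Scheme.Hom.app_eq_appLE (f := frob X p) (U := V)).symm
  rw [h0]
  ext s
  rfl

open CategoryTheory AlgebraicGeometry in
/-- For a prime p, a scheme S of characteristic p and a morphism f : X → S which is smooth of relative
dimension d, the relative Frobenius F_{X/S} : X → X^{(p)} is syntomic (the published assertion is
'finite syntomic'; finiteness of the relative Frobenius of a morphism locally of finite type is a
separate known result and is not restated; the assertion about the trace maps Θ on de Rham complexes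
is not stated here). -/
theorem result (p : ℕ) [Fact p.Prime] (S X : Scheme.{u})
    [FrobSch.IsCharP S p] (f : X ⟶ S) (d : ℕ) [SmoothOfRelativeDimension d f] :
    Synt.IsSyntomicMor (FrobSch.relFrob f p) := by
  intro x
  haveI : IsCharP X p := IsCharP.of_hom f p
  obtain ⟨U, hU, V, hV, hxV, e, hstd⟩ :=
    SmoothOfRelativeDimension.exists_isStandardSmoothOfRelativeDimension (n := d) (f := f) x
  let g := pullback.fst f (frob S p)
  let iY := pullback.snd f (frob S p)
  have H : IsPullback g iY f (frob S p) := IsPullback.of_hasPullback _ _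
  let UY : (frobTwist f p).Opens := g ⁻¹ᵁ V ⊓ iY ⁻¹ᵁ U
  have hUST : U ≤ (frob S p) ⁻¹ᵁ U := le_refl _
  have hiso := isIso_pushoutSection_of_isAffineOpen H hUST e (UY := UY) rfl hU hU hV
  have hpo := (isIso_pushoutSection_iff H hUST e (UY := UY) rfl).mp hiso
  have hUYaff : IsAffineOpen UY := by
    haveI : IsAffine U.toScheme := hU
    haveI : IsAffine V.toScheme := hV
    exact .of_isIso (Scheme.Hom.isPullback_resLE H hUST e (UY := UY) rfl).isoPullback.hom
  have hle : V ≤ (relFrob f p) ⁻¹ᵁ UY := by
    intro y hy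
    refine ⟨?_, ?_⟩
    · change g ((relFrob f p) y) ∈ V
      rw [← Scheme.Hom.comp_apply, relFrob_fst]
      exact hy
    · change iY ((relFrob f p) y) ∈ U
      rw [← Scheme.Hom.comp_apply, relFrob_snd]
      exact e hy
  refine ⟨⟨V, hV⟩, ⟨UY, hUYaff⟩, hle, hxV, ?_⟩
  -- ring level
  haveI : Nonempty V := ⟨⟨x, hxV⟩⟩
  haveI hBnt : Nontrivial Γ(X, V) := Scheme.component_nontrivial X V
  letI algRB : Algebra Γ(S, U) Γ(X, V) := (f.appLE U V e).hom.toAlgebra
  haveI hRnt : Nontrivial Γ(S, U) := (f.appLE U V e).hom.domain_nontrivial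
  haveI : CharP Γ(S, U) p := charP_of_natCast_eq_zero p _ (natCast_eq_zero_app S p U)
  haveI : CharP Γ(X, V) p := charP_of_natCast_eq_zero p _ (natCast_eq_zero_app X p V)
  haveI : Algebra.IsStandardSmoothOfRelativeDimension d Γ(S, U) Γ(X, V) := hstd
  have hpo' : IsPushout (CommRingCat.ofHom (algebraMap Γ(S, U) Γ(X, V)))
      (CommRingCat.ofHom (frobenius Γ(S, U) p))
      (CommRingCat.ofHom (g.appLE V UY (by simp [UY])).hom)
      (CommRingCat.ofHom (iY.appLE U UY (by simp [UY])).hom) := by
    rw [frob_appLE p S U hUST] at hpo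
    exact hpo
  refine isSyntomic_of_isPushout p Γ(S, U) Γ(X, V) d Γ(frobTwist f p, UY) _ _
    ((relFrob f p).appLE UY V hle).hom hpo' ?_ ?_
  · rw [← CommRingCat.hom_comp, Scheme.Hom.appLE_comp_appLE,
      appLE_of_eq (relFrob_fst f p), frob_appLE p X V]
    rfl
  · rw [← CommRingCat.hom_comp, Scheme.Hom.appLE_comp_appLE,
      appLE_of_eq (relFrob_snd f p)]
    rfl

end Groth.Agent.S15541
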