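import Groth.Statements.S15546
import Mathlib

set_option autoImplicit false
open scoped TensorProduct
universe u
open Unram

namespace Groth.Agent.S15546

section aux
open TensorProduct Polynomial

-- universe u declared in template

theorem main (k E K : Type u) [Field k] [Field E]
    [Algebra k E] [FiniteDimensional k E] [Field K] [Algebra k K] [IsAlgClosure k K]
    (h : ¬ Algebra.IsSeparable k E) : ∃ x : E ⊗[k] K, x ≠ 0 ∧ IsNilpotent x := by
  classical
  have hK : IsAlgClosed K := IsAlgClosure.isAlgClosed k
  -- non-separable element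
  rw [Algebra.isSeparable_def] at h
  push Not at h
  obtain ⟨α, hα⟩ := h
  have hαint : IsIntegral k α := Algebra.IsIntegral.isIntegral α
  set f := minpoly k α with hf
  have hfsep : ¬ f.Separable := hα
  set fK : K[X] := f.map (algebraMap k K) with hfK
  have hfK0 : fK ≠ 0 := (Polynomial.map_ne_zero (minpoly.ne_zero hαint))
  have hfKsep : ¬ fK.Separable := by
    rw [hfK, Polynomial.separable_map]; exact hfsep
  have hnodup : ¬ fK.roots.Nodup := by
    rw [Polynomial.nodup_roots_iff_of_splits hfK0 (IsAlgClosed.splits fK)]; exact hfKsep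
  rw [Multiset.nodup_iff_count_le_one] at hnodup
  push Not at hnodup
  obtain ⟨a, ha⟩ := hnodup
  rw [Polynomial.count_roots] at ha
  have hdvd : (X - C a) ^ 2 ∣ fK :=
    (pow_dvd_pow _ ha).trans (Polynomial.pow_rootMultiplicity_dvd fK a)
  obtain ⟨g, hg⟩ := hdvd
  set q : K[X] := (X - C a) * g with hq
  have hfq : fK = (X - C a) * q := by rw [hg, hq]; ring
  have hq0 : q ≠ 0 := by
    intro h0
    rw [h0, mul_zero] at hfq
    exact hfK0 hfq
  have hdeg : q.natDegree < f.natDegree := by
    have h1 : fK.natDegree = f.natDegree := Polynomial.natDegree_map _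
    have h2 : fK.natDegree = (X - C a).natDegree + q.natDegree := by
      rw [hfq]; exact Polynomial.natDegree_mul (Polynomial.X_sub_C_ne_zero a) hq0
    rw [Polynomial.natDegree_X_sub_C] at h2
    omega
  -- the element θ in K ⊗ E
  set θ : K ⊗[k] E := (1 : K) ⊗ₜ[k] α with hθ
  have hθpow : ∀ i : ℕ, θ ^ i = (1 : K) ⊗ₜ[k] (α ^ i) := by
    intro i; rw [hθ, Algebra.TensorProduct.tmul_pow, one_pow]
  have hfθ : aeval θ fK = 0 := by
    rw [hfK, Polynomial.aeval_map_algebraMap]
    have : θ = (Algebra.TensorProduct.includeRight : E →ₐ[k] K ⊗[k] E) α := rfl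
    rw [this, Polynomial.aeval_algHom_apply, hf, minpoly.aeval, map_zero]
  have hli : LinearIndependent K (fun i : Fin f.natDegree => (1 : K) ⊗ₜ[k] (α ^ (i : ℕ))) :=
    Module.Flat.linearIndependent_one_tmul (S := K) (linearIndependent_pow α)
  set y : K ⊗[k] E := aeval θ q with hy
  have hy0 : y ≠ 0 := by
    intro h0
    apply hq0
    rw [hy, Polynomial.aeval_eq_sum_range' hdeg, Finset.sum_range] at h0
    simp only [hθpow] at h0
    have hc := (Fintype.linearIndependent_iff.mp hli) (fun i => q.coeff i) h0
    ext i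
    rw [Polynomial.coeff_zero]
    by_cases hi : i < f.natDegree
    · exact hc ⟨i, hi⟩
    · exact Polynomial.coeff_eq_zero_of_natDegree_lt (by omega)
  have hynil : y ^ 2 = 0 := by
    have : q ^ 2 = fK * g := by rw [hg, hq]; ring
    rw [hy, ← map_pow, this, map_mul, hfθ, zero_mul]
  refine ⟨(Algebra.TensorProduct.comm k K E) y, ?_, ?_⟩
  · intro h0
    exact hy0 ((Algebra.TensorProduct.comm k K E).injective (by rw [h0, map_zero]))
  · exact ⟨2, by rw [← map_pow, hynil, map_zero]⟩

end aux

/-- Let E be a finite extension of a field k which is not separable over k, and K an algebraic closure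
of k. Then E ⊗_k K has a nonzero nilpotent element. -/
theorem result (k E K : Type u) [Field k] [Field E]
    [Algebra k E] [FiniteDimensional k E] [Field K] [Algebra k K] [IsAlgClosure k K]
    (h : ¬ Algebra.IsSeparable k E) : ∃ x : E ⊗[k] K, x ≠ 0 ∧ IsNilpotent x := by
  exact main k E K h

end Groth.Agent.S15546
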