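import Groth.Statements.S15549
import Groth.Agent.Lib.Helper28.GrSectMod

set_option autoImplicit false
universe u
open CategoryTheory AlgebraicGeometry
open LocCoh

namespace Groth.Agent.S15549

open Groth.Agent.Lib.Helper28.GrSect Groth.Agent.Lib.Helper28.GrSectMod

theorem val_alpha {R σ : Type u} [CommRing R] [SetLike σ R] [AddSubgroupClass σ R]
    (𝒜 : ℕ → σ) [GradedRing 𝒜] {M τ : Type u} [AddCommGroup M] [Module R M] [SetLike τ M] [AddSubgroupClass τ M]
    (ℳ : ℕ → τ) [SetLike.GradedSMul 𝒜 ℳ] (i : ℕ) (m : ℳ i) (x : (⊤ : (Proj 𝒜).Opens)) :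
    GrMod.val (GrMod.alpha 𝒜 ℳ i m) x = LocalizedModule.mk (m : M) 1 := rfl

theorem pt_zero {R σ : Type u} [CommRing R] [SetLike σ R] [AddSubgroupClass σ R]
    (𝒜 : ℕ → σ) [GradedRing 𝒜] {M : Type u} [AddCommGroup M] [Module R M]
    (y : ProjectiveSpectrum 𝒜) (m : M) (r : R) (hr : r ∉ y.asHomogeneousIdeal) (h : r • m = 0) :
    (LocalizedModule.mk m 1 : LocalizedModule y.asHomogeneousIdeal.toIdeal.primeCompl M) = 0 := by
  rw [← LocalizedModule.zero_mk (1 : y.asHomogeneousIdeal.toIdeal.primeCompl), LocalizedModule.mk_eq]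
  refine ⟨⟨r, hr⟩, ?_⟩
  simp only [one_smul, smul_zero]
  exact h


/-- Let R be a Noetherian commutative ring, positively graded by additive subgroups R_d, with irrelevant
ideal R_+ and X = Proj R, and let M be a graded R-module which is the direct sum of its pieces M_i,
i ≥ 0 (non-negatively graded here). For every i and every m ∈ M_i, the global section of M(i)~
defined by m (the value m/1 at every point) is zero if and only if some power of R_+ annihilates m.
Equivalently, degree by degree, the kernel of the canonical map from M to the direct sum over all n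
of Γ(X, M(n)~) is the R_+-power-torsion submodule H^0_{R_+}(M). -/
theorem result {R σ : Type u} [CommRing R] [IsNoetherianRing R] [SetLike σ R] [AddSubgroupClass σ R]
    (𝒜 : ℕ → σ) [GradedRing 𝒜] {M τ : Type u} [AddCommGroup M] [Module R M] [SetLike τ M] [AddSubgroupClass τ M]
    (ℳ : ℕ → τ) [SetLike.GradedSMul 𝒜 ℳ] [DirectSum.Decomposition ℳ]
    (i : ℕ) (m : ℳ i) :
    GrMod.alpha 𝒜 ℳ i m = 0 ↔
      ∃ k : ℕ, ∀ r : R, r ∈ (HomogeneousIdeal.irrelevant 𝒜).toIdeal ^ k → r • (m : M) = 0 := by
  classical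
  constructor
  · intro h
    have hval : ∀ x : ProjectiveSpectrum 𝒜,
        (LocalizedModule.mk (m : M) 1 : LocalizedModule x.asHomogeneousIdeal.toIdeal.primeCompl M) = 0 := by
      intro x
      have h1 : GrMod.val (GrMod.alpha 𝒜 ℳ i m) ⟨x, trivial⟩ = 0 := by
        rw [h]
        rfl
      exact h1
    set J : Ideal R := LinearMap.ker (LinearMap.toSpanSingleton R M (m : M)) with hJ
    have hle : (HomogeneousIdeal.irrelevant 𝒜).toIdeal ≤ J.radical := by
      intro r hr
      rw [← DirectSum.sum_support_decompose 𝒜 r]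
      refine Ideal.sum_mem _ fun k _ => ?_
      by_cases hk : k = 0
      · subst hk
        have : (DirectSum.decompose 𝒜 r 0 : R) = 0 := by
          have := (HomogeneousIdeal.mem_irrelevant_iff 𝒜 r).1 hr
          rwa [GradedRing.proj_apply] at this
        rw [this]
        exact zero_mem _
      · obtain ⟨N, hN⟩ := pow_smul_eq_zero 𝒜 ℳ (Nat.pos_of_ne_zero hk)
          (SetLike.coe_mem (DirectSum.decompose 𝒜 r k)) (m : M) m.2 (fun x _ => hval x)
        refine ⟨N, ?_⟩
        rw [hJ, LinearMap.mem_ker, LinearMap.toSpanSingleton_apply]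
        exact hN
    obtain ⟨k, hk⟩ := Ideal.exists_pow_le_of_le_radical_of_fg hle
      (IsNoetherian.noetherian (HomogeneousIdeal.irrelevant 𝒜).toIdeal)
    refine ⟨k, fun r hr => ?_⟩
    have := hk hr
    rw [hJ, LinearMap.mem_ker, LinearMap.toSpanSingleton_apply] at this
    exact this
  · rintro ⟨k, hk⟩
    refine ext_val 𝒜 ℳ _ _ fun x => ?_
    rw [val_alpha, val_zero]
    have hx := x.1.not_irrelevant_le
    rw [SetLike.not_le_iff_exists] at hx
    obtain ⟨r, hr, hrx⟩ := hx
    have hrk : r ^ k • (m : M) = 0 := hk _ (Ideal.pow_mem_pow hr k)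
    have hrkx : r ^ k ∉ x.1.asHomogeneousIdeal := fun h => hrx (x.1.isPrime.mem_of_pow_mem k h)
    exact pt_zero 𝒜 x.1 (m : M) (r ^ k) hrkx hrk

end Groth.Agent.S15549
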