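import Groth.Statements.S15555
import Mathlib
import Groth.Agent.Lib.Helper25.JacobianCot2
import Groth.Agent.Lib.Helper5.RegSmoothPerfect
-- import your own Groth.Agent.* helpers here

set_option autoImplicit false
set_option linter.unusedSectionVars false
set_option linter.style.haveILetI false
set_option linter.unusedVariables false
universe u
open CategoryTheory AlgebraicGeometry
open Zeta

namespace Groth.Agent.S15555

open MvPolynomial
open Groth.Agent.Lib.Helper25.JacobianCot2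

section lin
variable {k : Type u} [Field k] {σ : Type} [Fintype σ] [DecidableEq σ]

/-- linear form -/
noncomputable def Lp (c : σ → k) : MvPolynomial σ k := ∑ v, C (c v) * X v

/-- the retraction killing `L` -/
noncomputable def piHom (c : σ → k) (v0 : σ) : MvPolynomial σ k →ₐ[k] MvPolynomial σ k :=
  aeval (fun v => X v - (if v = v0 then C (c v0)⁻¹ * Lp c else 0))

lemma piHom_X (c : σ → k) (v0 v : σ) :
    piHom c v0 (X v) = X v - (if v = v0 then C (c v0)⁻¹ * Lp c else 0) := by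
  rw [piHom, aeval_X]

lemma piHom_Lp (c : σ → k) (v0 : σ) (h0 : c v0 ≠ 0) : piHom c v0 (Lp c) = 0 := by
  have h1 : piHom c v0 (Lp c) = ∑ v, C (c v) * (X v - (if v = v0 then C (c v0)⁻¹ * Lp c else 0)) := by
    rw [Lp, map_sum]
    refine Finset.sum_congr rfl fun v _ => ?_
    rw [map_mul, piHom_X]
    congr 1
    exact (piHom c v0).commutes (c v)
  rw [h1]
  simp only [mul_sub, Finset.sum_sub_distrib, mul_ite, mul_zero, Finset.sum_ite_eq',
    Finset.mem_univ, if_true]
  rw [← mul_assoc, ← C_mul, mul_inv_cancel₀ h0, C_1, one_mul]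
  exact sub_self _

lemma sub_piHom_mem (c : σ → k) (v0 : σ) (G : MvPolynomial σ k) :
    G - piHom c v0 G ∈ Ideal.span {Lp c} := by
  induction G using MvPolynomial.induction_on with
  | C t =>
    have : piHom c v0 (C t) = C t := (piHom c v0).commutes t
    rw [this, sub_self]; exact zero_mem _
  | add F G hF hG =>
    rw [map_add, add_sub_add_comm]
    exact add_mem hF hG
  | mul_X G v hG =>
    have : G * X v - piHom c v0 (G * X v) =
        (G - piHom c v0 G) * X v + piHom c v0 G * (X v - piHom c v0 (X v)) := by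
      rw [map_mul]; ring
    rw [this]
    refine add_mem (Ideal.mul_mem_right _ _ hG) (Ideal.mul_mem_left _ _ ?_)
    rw [piHom_X, sub_sub_cancel]
    split_ifs
    · exact Ideal.mul_mem_left _ _ (Ideal.mem_span_singleton_self _)
    · exact zero_mem _

lemma ker_piHom (c : σ → k) (v0 : σ) (h0 : c v0 ≠ 0) :
    RingHom.ker (piHom c v0 : MvPolynomial σ k →+* MvPolynomial σ k) = Ideal.span {Lp c} := by
  refine le_antisymm ?_ ?_
  · intro G hG
    rw [RingHom.mem_ker] at hG
    have := sub_piHom_mem c v0 G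
    rw [RingHom.coe_coe] at hG
    rwa [hG, sub_zero] at this
  · rw [Ideal.span_le, Set.singleton_subset_iff]
    exact piHom_Lp c v0 h0

lemma isPrime_span_Lp (c : σ → k) (hc : c ≠ 0) : (Ideal.span {Lp c}).IsPrime := by
  obtain ⟨v0, h0⟩ : ∃ v0, c v0 ≠ 0 := by
    by_contra h
    exact hc (funext fun v => by_contra fun hv => h ⟨v, hv⟩)
  rw [← ker_piHom c v0 h0]
  exact RingHom.ker_isPrime _

end lin

section spec
variable {k : Type u} [Field k] [Fintype k] {n : ℕ}

/-- the form `F` -/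
noncomputable def Fp (k : Type u) [Field k] [Fintype k] (n : ℕ) :
    MvPolynomial (Fin (n + 1) ⊕ Fin (n + 1)) k :=
  ∑ i : Fin (n + 1), (X (Sum.inl i) * X (Sum.inr i) ^ Fintype.card k -
      X (Sum.inr i) * X (Sum.inl i) ^ Fintype.card k)

/-- the tangent point -/
def pt (c : Fin (n + 1) ⊕ Fin (n + 1) → k) : Fin (n + 1) ⊕ Fin (n + 1) → k :=
  Sum.elim (fun i => - c (Sum.inr i)) (fun i => c (Sum.inl i))

lemma eval_pt_Fp (c : Fin (n + 1) ⊕ Fin (n + 1) → k) : eval (pt c) (Fp k n) = 0 := by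
  rw [Fp, map_sum]
  refine Finset.sum_eq_zero fun i _ => ?_
  simp only [map_sub, map_mul, map_pow, eval_X, FiniteField.pow_card]
  ring

lemma eval_pt_Lp (c : Fin (n + 1) ⊕ Fin (n + 1) → k) : eval (pt c) (Lp c) = 0 := by
  rw [Lp, map_sum, Fintype.sum_sum_type]
  simp only [map_mul, eval_C, eval_X, pt, Sum.elim_inl, Sum.elim_inr]
  rw [← Finset.sum_add_distrib]
  refine Finset.sum_eq_zero fun i _ => ?_
  ring

lemma dA_X (a : Fin (n + 1) ⊕ Fin (n + 1) → k) (v : Fin (n + 1) ⊕ Fin (n + 1)) :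
    dA a (X v) = Pi.single v 1 := by
  funext j
  rw [dA_apply, pderiv_X, Pi.single_apply, Pi.single_apply]
  by_cases h : j = v
  · subst h; simp
  · rw [if_neg h, if_neg (Ne.symm h), map_zero]

lemma dA_pow_card (a : Fin (n + 1) ⊕ Fin (n + 1) → k) (G : MvPolynomial (Fin (n + 1) ⊕ Fin (n + 1)) k) :
    dA a (G ^ Fintype.card k) = 0 := by
  funext j
  rw [dA_apply, pderiv_pow]
  simp only [map_mul, map_natCast, FiniteField.cast_card_eq_zero, zero_mul, Pi.zero_apply]

lemma dA_Lp (a c : Fin (n + 1) ⊕ Fin (n + 1) → k) : dA a (Lp c) = c := by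
  rw [Lp, map_sum]
  have : ∀ v, dA a (C (c v) * X v) = c v • Pi.single v 1 := by
    intro v
    rw [dA_mul, dA_C, smul_zero, add_zero, eval_C, dA_X]
  simp only [this]
  funext j
  simp [Finset.sum_apply, Pi.single_apply]

lemma dA_Fp (c : Fin (n + 1) ⊕ Fin (n + 1) → k) : dA (pt c) (Fp k n) = c := by
  rw [Fp, map_sum]
  have : ∀ i : Fin (n + 1), dA (pt c) (X (Sum.inl i) * X (Sum.inr i) ^ Fintype.card k -
      X (Sum.inr i) * X (Sum.inl i) ^ Fintype.card k) =
      c (Sum.inl i) • Pi.single (Sum.inl i) 1 + c (Sum.inr i) • Pi.single (Sum.inr i) 1 := by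
    intro i
    rw [map_sub, dA_mul, dA_mul, dA_pow_card, dA_pow_card, smul_zero, smul_zero, zero_add, zero_add,
      dA_X, dA_X]
    simp only [map_pow, eval_X, FiniteField.pow_card, pt, Sum.elim_inl, Sum.elim_inr, neg_smul,
      sub_neg_eq_add]
  simp only [this]
  funext j
  rcases j with j | j <;> simp [Finset.sum_apply, Pi.single_apply, Finset.sum_add_distrib]

/-- evaluation at the `k[t]`-point `u + t w` -/
noncomputable def evb (u w : Fin (n + 1) ⊕ Fin (n + 1) → k) :
    MvPolynomial (Fin (n + 1) ⊕ Fin (n + 1)) k →ₐ[k] Polynomial k :=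
  aeval (fun v => Polynomial.C (u v) + Polynomial.C (w v) * Polynomial.X)

lemma evb_Lp (c u w : Fin (n + 1) ⊕ Fin (n + 1) → k) (hu : ∑ v, c v * u v = 0)
    (hw : ∑ v, c v * w v = 0) : evb u w (Lp c) = 0 := by
  have h1 : evb u w (Lp c) = Polynomial.C (∑ v, c v * u v) +
      Polynomial.C (∑ v, c v * w v) * Polynomial.X := by
    rw [Lp, map_sum, map_sum, map_sum, Finset.sum_mul, ← Finset.sum_add_distrib]
    refine Finset.sum_congr rfl fun v _ => ?_
    rw [map_mul, evb, aeval_X, aeval_C, Polynomial.algebraMap_eq, map_mul, map_mul]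
    ring
  rw [h1, hu, hw]
  simp

lemma pow_card_lin (a b : k) :
    (Polynomial.C a + Polynomial.C b * Polynomial.X) ^ Fintype.card k =
      Polynomial.C a + Polynomial.C b * Polynomial.X ^ Fintype.card k := by
  rw [← FiniteField.expand_card]
  simp

lemma evb_Fp (u w : Fin (n + 1) ⊕ Fin (n + 1) → k) :
    evb u w (Fp k n) =
      Polynomial.C (∑ i, (u (Sum.inl i) * w (Sum.inr i) - u (Sum.inr i) * w (Sum.inl i))) *
        (Polynomial.X ^ Fintype.card k - Polynomial.X) := by
  rw [Fp, map_sum, map_sum, Finset.sum_mul]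
  refine Finset.sum_congr rfl fun i _ => ?_
  rw [map_sub, map_mul, map_mul, map_pow, map_pow, evb, aeval_X, aeval_X, pow_card_lin,
    pow_card_lin, map_sub, map_mul, map_mul]
  ring

lemma exists_uw (hn : 1 ≤ n) (c : Fin (n + 1) ⊕ Fin (n + 1) → k) (hc : c ≠ 0) :
    ∃ u w : Fin (n + 1) ⊕ Fin (n + 1) → k, ∑ v, c v * u v = 0 ∧ ∑ v, c v * w v = 0 ∧
      ∑ i, (u (Sum.inl i) * w (Sum.inr i) - u (Sum.inr i) * w (Sum.inl i)) = 1 := by
  obtain ⟨v0, h0⟩ : ∃ v0, c v0 ≠ 0 := by
    by_contra h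
    exact hc (funext fun v => by_contra fun hv => h ⟨v, hv⟩)
  obtain ⟨m, rfl⟩ : ∃ m, n = m + 1 := ⟨n - 1, by omega⟩
  have hex : ∃ i1 : Fin (m + 1 + 1), v0 ≠ Sum.inl i1 ∧ v0 ≠ Sum.inr i1 := by
    rcases v0 with i0 | i0
    · obtain ⟨i1, hi1⟩ := exists_ne i0
      exact ⟨i1, fun h => hi1 (Sum.inl_injective h).symm, fun h => by cases h⟩
    · obtain ⟨i1, hi1⟩ := exists_ne i0
      exact ⟨i1, fun h => (by cases h), fun h => hi1 (Sum.inr_injective h).symm⟩
  obtain ⟨i1, hl, hr⟩ := hex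
  refine ⟨Pi.single (Sum.inl i1) 1 - (c (Sum.inl i1) / c v0) • Pi.single v0 1,
    Pi.single (Sum.inr i1) 1 - (c (Sum.inr i1) / c v0) • Pi.single v0 1, ?_, ?_, ?_⟩
  · simp only [Pi.sub_apply, Pi.smul_apply, smul_eq_mul, mul_sub, Finset.sum_sub_distrib,
      Pi.single_apply, mul_ite, mul_one, mul_zero, Finset.sum_ite_eq', Finset.mem_univ, if_true]
    field_simp
    ring
  · simp only [Pi.sub_apply, Pi.smul_apply, smul_eq_mul, mul_sub, Finset.sum_sub_distrib,
      Pi.single_apply, mul_ite, mul_one, mul_zero, Finset.sum_ite_eq', Finset.mem_univ, if_true]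
    field_simp
    ring
  · rw [Finset.sum_eq_single i1]
    · simp [Pi.single_apply, hl.symm, hr.symm]
    · intro i _ hi
      rcases v0 with i0 | i0
      · simp [Pi.single_apply, hi]
      · simp [Pi.single_apply, hi]
    · intro h; exact absurd (Finset.mem_univ _) h

lemma Fp_notMem (hn : 1 ≤ n) (c : Fin (n + 1) ⊕ Fin (n + 1) → k) (hc : c ≠ 0) :
    Fp k n ∉ Ideal.span {Lp c} := by
  obtain ⟨u, w, hu, hw, huw⟩ := exists_uw hn c hc
  intro hmem
  have hle : Ideal.span {Lp c} ≤ RingHom.ker (evb u w : _ →+* Polynomial k) := by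
    rw [Ideal.span_le, Set.singleton_subset_iff]
    exact evb_Lp c u w hu hw
  have h0 : evb u w (Fp k n) = 0 := hle hmem
  rw [evb_Fp, huw, map_one, one_mul] at h0
  exact FiniteField.X_pow_card_sub_X_ne_zero k Fintype.one_lt_card h0

lemma Lp_ne_zero (c : Fin (n + 1) ⊕ Fin (n + 1) → k) (hc : c ≠ 0) : Lp c ≠ 0 := by
  intro h
  have := dA_Lp (pt c) c
  rw [h, map_zero] at this
  exact hc this.symm

lemma dim_le (hn : 1 ≤ n) (c : Fin (n + 1) ⊕ Fin (n + 1) → k) (hc : c ≠ 0) :
    ringKrullDim (MvPolynomial (Fin (n + 1) ⊕ Fin (n + 1)) k ⧸ Ideal.span {Fp k n, Lp c}) + 1 + 1 ≤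
      ((2 * n + 2 : ℕ) : WithBot ℕ∞) := by
  have h1 := ringKrullDim_quotient_succ_le_of_nonZeroDivisor
    (mem_nonZeroDivisors_of_ne_zero (Lp_ne_zero c hc))
  have h2 : ringKrullDim (MvPolynomial (Fin (n + 1) ⊕ Fin (n + 1)) k) =
      ((2 * n + 2 : ℕ) : WithBot ℕ∞) := by
    rw [MvPolynomial.ringKrullDim_of_isNoetherianRing, ringKrullDim_eq_zero_of_field, zero_add,
      Nat.card_eq_fintype_card, Fintype.card_sum, Fintype.card_fin]
    congr 1
    ring
  haveI := isPrime_span_Lp c hc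
  have hle : Ideal.span {Lp c} ≤ Ideal.span {Fp k n, Lp c} :=
    Ideal.span_mono (by simp)
  have h3 : ringKrullDim (MvPolynomial (Fin (n + 1) ⊕ Fin (n + 1)) k ⧸ Ideal.span {Fp k n, Lp c}) + 1 ≤
      ringKrullDim (MvPolynomial (Fin (n + 1) ⊕ Fin (n + 1)) k ⧸ Ideal.span {Lp c}) := by
    refine ringKrullDim_succ_le_of_surjective (Ideal.Quotient.factor hle)
      (Ideal.Quotient.factor_surjective hle) (r := Ideal.Quotient.mk _ (Fp k n))
      (mem_nonZeroDivisors_of_ne_zero ?_) ?_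
    · rw [Ne, Ideal.Quotient.eq_zero_iff_mem]
      exact Fp_notMem hn c hc
    · rw [Ideal.Quotient.factor_mk, Ideal.Quotient.eq_zero_iff_mem]
      exact Ideal.subset_span (by simp)
  rw [← h2]
  refine le_trans ?_ h1
  gcongr

lemma finrank_W (c : Fin (n + 1) ⊕ Fin (n + 1) → k) (hc : c ≠ 0)
    (hN : Ideal.span {Fp k n, Lp c} ≤ N (pt c)) :
    Module.finrank k (W k (Fin (n + 1) ⊕ Fin (n + 1)) (Ideal.span {Fp k n, Lp c}) (pt c)) = 1 := by
  have h1 : W k (Fin (n + 1) ⊕ Fin (n + 1)) (Ideal.span {Fp k n, Lp c}) (pt c) =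
      Submodule.span k {c} := by
    rw [W_eq_span k _ _ (pt c) (fun i : ({Fp k n, Lp c} : Set _) => i.1)
      (by rw [Subtype.range_coe]) hN]
    refine le_antisymm ?_ ?_
    · rw [Submodule.span_le]
      rintro _ ⟨⟨G, hG⟩, rfl⟩
      rcases hG with rfl | rfl
      · change dA (pt c) (Fp k n) ∈ _
        rw [dA_Fp]; exact Submodule.mem_span_singleton_self c
      · change dA (pt c) (Lp c) ∈ _
        rw [dA_Lp]; exact Submodule.mem_span_singleton_self c
    · rw [Submodule.span_le, Set.singleton_subset_iff]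
      exact Submodule.subset_span ⟨⟨Lp c, by simp⟩, dA_Lp (pt c) c⟩
  rw [h1]
  exact finrank_span_singleton hc

end spec

/-- Let k be a finite field with q elements and n ≥ 1 a natural number; in the 2n + 2 variables X_0, …,
X_n, Y_0, …, Y_n (indexed by Fin (n+1) ⊕ Fin (n+1), the left summand carrying the X_i) let F = Σ_i
(X_i Y_i^q − Y_i X_i^q), a form of degree q + 1 defining the hypersurface Hyp ⊂ P^{2n+1}_k. Then no
hyperplane of P^{2n+1}_k defined over k meets Hyp transversally: for every linear form L = Σ_v c_v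
x_v with a nonzero coefficient vector c over k, the scheme-theoretic intersection Hyp ∩ (L = 0) ⊂
P^{2n+1}_k is not smooth over k. The intersection is presented through the standard open pieces of
its affine cone: with R = k[X, Y]/(F, L), the piece x_w ≠ 0 of the cone Spec R is (Hyp ∩ (L = 0) ∩
D₊(x_w)) × 𝔾_m, so Hyp ∩ (L = 0) is smooth over k exactly when every localisation R[1/x_w] is a
smooth k-algebra, and the row states that not all of them are. (The published example is stated for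
every n ≥ 0; for n = 0 the hypersurface is the set of the q + 1 rational points of P^1_k, it
contains every rational point H, and Hyp ∩ H = H is a reduced point, smooth over k; so this row
takes n ≥ 1, where no rational hyperplane is contained in Hyp and each one is tangent to Hyp at a
rational point, at which the intersection is singular.) -/
theorem result (k : Type u) [Field k] [Fintype k] (n : ℕ) (hn : 1 ≤ n)
    (F L : MvPolynomial (Fin (n + 1) ⊕ Fin (n + 1)) k)
    (hF : F = ∑ i : Fin (n + 1), (MvPolynomial.X (Sum.inl i) * MvPolynomial.X (Sum.inr i) ^ Fintype.card k -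
      MvPolynomial.X (Sum.inr i) * MvPolynomial.X (Sum.inl i) ^ Fintype.card k))
    (c : Fin (n + 1) ⊕ Fin (n + 1) → k) (hc : c ≠ 0)
    (hL : L = ∑ v, MvPolynomial.C (c v) * MvPolynomial.X v) :
    ¬ ∀ w : Fin (n + 1) ⊕ Fin (n + 1),
      Smooth (Spec.map (CommRingCat.ofHom (algebraMap k
        (Localization.Away (Ideal.Quotient.mk (Ideal.span {F, L}) (MvPolynomial.X w)))))) := by
  have hF' : F = Fp k n := hF
  have hL' : L = Lp c := hL
  subst hF' hL'
  intro hall
  -- a coordinate where the point is nonzero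
  obtain ⟨w, hw⟩ : ∃ w, pt c w ≠ 0 := by
    obtain ⟨v0, h0⟩ : ∃ v0, c v0 ≠ 0 := by
      by_contra h
      exact hc (funext fun v => by_contra fun hv => h ⟨v, hv⟩)
    rcases v0 with i | i
    · exact ⟨Sum.inr i, h0⟩
    · exact ⟨Sum.inl i, neg_ne_zero.2 h0⟩
  have hsm := hall w
  rw [AlgebraicGeometry.HasRingHomProperty.Spec_iff (P := @AlgebraicGeometry.Smooth)] at hsm
  simp only [CommRingCat.hom_ofHom] at hsm
  rw [RingHom.smooth_algebraMap] at hsm
  -- the maximal ideal
  have hI : Ideal.span {Fp k n, Lp c} ≤ RingHom.ker (eval (pt c)) := by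
    rw [Ideal.span_le]
    rintro G (rfl | rfl)
    · exact eval_pt_Fp c
    · exact eval_pt_Lp c
  let ψ : (MvPolynomial (Fin (n + 1) ⊕ Fin (n + 1)) k ⧸ Ideal.span {Fp k n, Lp c}) →+* k :=
    Ideal.Quotient.lift _ (eval (pt c)) hI
  have hψ : Function.Surjective ψ := fun t => ⟨Ideal.Quotient.mk _ (C t), by
    change eval (pt c) (C t) = t
    rw [eval_C]⟩
  obtain ⟨𝔪, h𝔪def⟩ : ∃ 𝔪 : Ideal _, 𝔪 = RingHom.ker ψ := ⟨_, rfl⟩
  haveI h𝔪max : 𝔪.IsMaximal := h𝔪def ▸ RingHom.ker_isMaximal_of_surjective ψ hψ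
  have h𝔪 : 𝔪.comap (Ideal.Quotient.mk (Ideal.span {Fp k n, Lp c})) = RingHom.ker (eval (pt c)) := by
    rw [h𝔪def, RingHom.comap_ker]
    congr 1
  have hN : Ideal.span {Fp k n, Lp c} ≤ N (pt c) := by rw [← ker_eval_eq_N]; exact hI
  -- cotangent dimension
  have hcot := finrank_cotangentSpace_add_finrank_W k _ _ (pt c) 𝔪 h𝔪
  rw [finrank_W c hc hN, Fintype.card_sum, Fintype.card_fin] at hcot
  -- smooth at 𝔪
  haveI hfp : Algebra.FinitePresentation k
      (MvPolynomial (Fin (n + 1) ⊕ Fin (n + 1)) k ⧸ Ideal.span {Fp k n, Lp c}) :=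
    Algebra.FinitePresentation.quotient (Submodule.fg_span (Set.toFinite _))
  have hXw : Ideal.Quotient.mk (Ideal.span {Fp k n, Lp c}) (X w) ∉ 𝔪 := by
    rw [h𝔪def, RingHom.mem_ker]
    change ¬ (eval (pt c) (X w) = 0)
    rw [eval_X]
    exact hw
  haveI hsmAt : Algebra.IsSmoothAt k 𝔪 :=
    (Algebra.basicOpen_subset_smoothLocus_iff_smooth.2 hsm)
      (show (⟨𝔪, inferInstance⟩ : PrimeSpectrum _) ∈ PrimeSpectrum.basicOpen _ from hXw)
  have hreg := Groth.Agent.Lib.Helper5.RegSmoothCore.regular_of_isSmoothAt k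
    (MvPolynomial (Fin (n + 1) ⊕ Fin (n + 1)) k ⧸ Ideal.span {Fp k n, Lp c}) 𝔪
  have hdim := (IsRegularLocalRing.iff_finrank_cotangentSpace _).1 hreg
  have hht : ringKrullDim (Localization.AtPrime 𝔪) ≤
      ringKrullDim (MvPolynomial (Fin (n + 1) ⊕ Fin (n + 1)) k ⧸ Ideal.span {Fp k n, Lp c}) := by
    rw [IsLocalization.AtPrime.ringKrullDim_eq_height 𝔪 (Localization.AtPrime 𝔪)]
    exact Ideal.height_le_ringKrullDim_of_ne_top h𝔪max.ne_top
  have hfin : Module.finrank (IsLocalRing.ResidueField (Localization.AtPrime 𝔪))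
      (IsLocalRing.CotangentSpace (Localization.AtPrime 𝔪)) = 2 * n + 1 := by omega
  rw [hfin] at hdim
  have hbound := dim_le hn c hc
  have h4 : (((2 * n + 1 : ℕ) : WithBot ℕ∞)) + 1 + 1 ≤ ((2 * n + 2 : ℕ) : WithBot ℕ∞) := by
    refine le_trans ?_ hbound
    rw [hdim]
    gcongr
  have h5 : (2 * n + 1) + 1 + 1 ≤ 2 * n + 2 := by exact_mod_cast h4
  omega

end Groth.Agent.S15555
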