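import Groth.Statements.S1868
import Groth.Agent.Lib.Helper18.Cyc.FiniteFlatDeg

set_option autoImplicit false
universe u
open CategoryTheory AlgebraicGeometry
open Cyc

namespace Groth.Agent.S1868

/-- Let f : X → Y be finite locally free of constant degree d (finite, flat, rank function constantly
d). Then f has relative dimension 0 and for every k-cycle α on Y, f_*(f^*α) = d·α (for any cycle
f^*α on X with the flat-pullback coefficients). Here a pair (X, δ) with Cyc.IsSetup plays the role
of a scheme locally of finite type over a fixed base with a dimension function (X locally Noetherian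
with universally catenary local rings, δ a dimension function), and Cyc.DeltaCompat records that the
dimension function upstairs is the induced one. -/
theorem result (X Y : Scheme.{u}) (δX : X → ℤ) (δY : Y → ℤ) (hX : Cyc.IsSetup X δX) (hY : Cyc.IsSetup Y δY) (f : X ⟶ Y) [IsFinite f] [Flat f] (d : ℕ) (hd : ∀ y : Y, f.finrank y = d) (hδ : Cyc.DeltaCompat f δX δY) (k : ℤ) : Cyc.HasRelDim f 0 ∧ ∀ (α : AlgebraicCycle Y ℤ), α ∈ Cyc.Zk Y δY k → ∀ α' : AlgebraicCycle X ℤ, ⇑α' = Cyc.pullFun f δX δY 0 ⇑α → AlgebraicCycle.map f δX δY α' = d • α := by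
  have hrel := Groth.Agent.Lib.Helper18.CycPull.hasRelDim_zero_of_isFinite f
  refine ⟨hrel, ?_⟩
  intro α _ α' hα'
  have hδeq : ∀ x, δX x = δY (f x) := fun x => by
    have h1 := Groth.Agent.Lib.Helper18.CycPull.delta_eq_add_tr f δX δY hδ x
    have h2 := Groth.Agent.Lib.Helper18.CycPull.tr_le_of_hasRelDim f 0 hrel x
    have h3 : Groth.Agent.Lib.Helper24.FibreDim.tr f x = 0 := Nat.le_zero.mp h2
    rw [h1, h3]
    simp
  ext y
  simp only [AlgebraicCycle.map, Function.locallyFinsupp.map_apply]
  have key : ∀ x ∈ f ⁻¹' {y}, α' x * ((AlgebraicCycle.mapCoeff f δX δY x : ℕ) : ℤ) =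
      α y * (((Groth.Agent.Lib.Helper18.CycPull.fibLen f x).toNat * f.residueDegree x : ℕ) : ℤ) := by
    intro x hx
    have hα'x : α' x = Cyc.pullFun f δX δY 0 (⇑α) x := congrFun hα' x
    rw [hα'x]
    unfold Cyc.pullFun AlgebraicCycle.mapCoeff
    have hfx : α (f x) = α y := congrArg (⇑α) hx
    rw [if_pos (by rw [hδeq x]; simp), if_pos (hδeq x), hfx]
    push_cast
    ring
  rw [finsum_mem_congr rfl key, ← mul_finsum_mem,
    ← Nat.cast_finsum_mem (IsFinite.finite_preimage_singleton f y),
    Groth.Agent.Lib.Helper18.CycPull.finsum_fibLen_mul_residueDegree f y, hd y]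
  simp [mul_comm]

end Groth.Agent.S1868
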