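import Groth.Statements.S15556
import Groth.Agent.S1868
import Groth.Agent.Lib.Helper18.Bivar.ProperPush

set_option autoImplicit false
universe u
open CategoryTheory AlgebraicGeometry
open CategoryTheory.Limits
open Cyc

namespace Groth.Agent.S15556

/-- Let k be a field of characteristic p > 0, E a finite purely inseparable field extension of k, X a
separated scheme of finite type over k, X' = X ×_k E with projection f : X' → X (any pullback
square), δ a dimension function on X making (X, δ) a cycle setup (X locally Noetherian with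
universally catenary local rings) and δ' the induced dimension function on X' (so (X', δ') is a
cycle setup and δ' is compatible with δ along f, which has relative dimension 0). Then flat pullback
of cycles along f induces a bijection of Chow groups of i-cycles after inverting p, in the following
two-sided sense: for every i-cycle β on X' there are an i-cycle α on X, an i-cycle α' on X' with the
flat-pullback coefficients of α, and an exponent s with [α'] = p^s · [β] in CH_i(X'); and for every
i-cycle α on X and every i-cycle α' on X' with the flat-pullback coefficients of α, if [α'] = 0 in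
CH_i(X') then p^s · [α] = 0 in CH_i(X) for some s. (The published statement allows an arbitrary
purely inseparable extension E of k; this row takes E finite over k, the case the printed argument
carries out.) -/
theorem result (k E : Type u) [Field k] [Field E] [Algebra k E] (p : ℕ) [Fact p.Prime] [CharP k p] [Module.Finite k E] [IsPurelyInseparable k E] (X X' : Scheme.{u}) (g : X ⟶ Spec (CommRingCat.of k)) [IsSeparated g] [LocallyOfFiniteType g] [QuasiCompact g] (f : X' ⟶ X) (g' : X' ⟶ Spec (CommRingCat.of E)) (hsq : IsPullback f g' g (Spec.map (CommRingCat.ofHom (algebraMap k E)))) (δ : X → ℤ) (δ' : X' → ℤ) (hX : Cyc.IsSetup X δ) (hX' : Cyc.IsSetup X' δ') (hδ : Cyc.DeltaCompat f δ' δ) (i : ℤ) : (∀ (β : AlgebraicCycle X' ℤ) (hβ : β ∈ Cyc.Zk X' δ' i), ∃ (α : AlgebraicCycle X ℤ) (hα : α ∈ Cyc.Zk X δ i) (α' : AlgebraicCycle X' ℤ) (hα' : α' ∈ Cyc.Zk X' δ' i) (s : ℕ), ⇑α' = Cyc.pullFun f δ' δ 0 ⇑α ∧ ChowOps.cl α' hα' = p ^ s • ChowOps.cl β hβ) ∧ (∀ (α : AlgebraicCycle X ℤ) (hα : α ∈ Cyc.Zk X δ i) (α' : AlgebraicCycle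 X' ℤ) (hα' : α' ∈ Cyc.Zk X' δ' i), ⇑α' = Cyc.pullFun f δ' δ 0 ⇑α → ChowOps.cl α' hα' = 0 → ∃ s : ℕ, p ^ s • ChowOps.cl α hα = 0) := by
  classical
  haveI := hX.1
  haveI := hX'.1
  set φ := CommRingCat.ofHom (algebraMap k E) with hφ
  -- properties of Spec E → Spec k
  have hfinE : IsFinite (Spec.map φ) := by
    rw [IsFinite.SpecMap_iff]
    exact RingHom.finite_algebraMap.mpr inferInstance
  have hflatE : Flat (Spec.map φ) := by
    rw [Flat.SpecMap_iff]
    exact RingHom.flat_algebraMap_iff.mpr inferInstance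
  have huE : UniversallyInjective (Spec.map φ) := by
    have h01 := (tfae_universallyInjective (Spec.map φ)).out 0 1
    rw [h01]
    intro K _ g₁ g₂ hg
    obtain ⟨ψ₁, rfl⟩ := Spec.map_surjective g₁
    obtain ⟨ψ₂, rfl⟩ := Spec.map_surjective g₂
    dsimp only at hg
    rw [← Spec.map_comp, ← Spec.map_comp] at hg
    have h := Spec.map_injective hg
    have h2 : ψ₁.hom.comp (algebraMap k E) = ψ₂.hom.comp (algebraMap k E) := by
      have := congrArg CommRingCat.Hom.hom h
      simpa [hφ] using this
    have h3 := IsPurelyInseparable.injective_comp_algebraMap k E K h2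
    congr 1
    exact CommRingCat.hom_ext h3
  haveI : IsFinite f := MorphismProperty.of_isPullback hsq.flip hfinE
  haveI : Flat f := MorphismProperty.of_isPullback hsq.flip hflatE
  haveI : UniversallyInjective f := MorphismProperty.of_isPullback hsq.flip huE
  have hinj : Function.Injective f := f.injective
  obtain ⟨e, he⟩ := IsPurelyInseparable.finrank_eq_pow (F := k) E p
  have hrank : ∀ x : X, f.finrank x = p ^ e := by
    intro x
    haveI := hflatE
    haveI := hfinE
    rw [Scheme.Hom.finrank_of_isPullback g' f (Spec.map φ) g hsq.flip x,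
      Scheme.Hom.finrank_SpecMap_algebraMap k E, Module.rankAtStalk_eq_finrank_of_free]
    exact he
  obtain ⟨hrel, hpp⟩ := Groth.Agent.S1868.result X' X δ' δ hX' hX f (p ^ e) hrank hδ i
  have hδeq : ∀ x, δ' x = δ (f x) := fun x => by
    have h1 := Groth.Agent.Lib.Helper18.CycPull.delta_eq_add_tr f δ' δ hδ x
    have h2 := Groth.Agent.Lib.Helper18.CycPull.tr_le_of_hasRelDim f 0 hrel x
    have h3 : Groth.Agent.Lib.Helper24.FibreDim.tr f x = 0 := Nat.le_zero.mp h2
    rw [h1, h3]
    simp
  refine ⟨?_, ?_⟩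
  · intro β hβ
    have hαmem : AlgebraicCycle.map f δ' δ β ∈ Cyc.Zk X δ i := Bivar.cycMap_mem_Zk f δ' δ i hβ
    refine ⟨AlgebraicCycle.map f δ' δ β, hαmem,
      Groth.Agent.Lib.Helper18.BivarFlat.pullCycle f δ' δ 0 (AlgebraicCycle.map f δ' δ β),
      Groth.Agent.Lib.Helper18.BivarFlat.pullCycle_mem f δ' δ 0 i i (add_zero i) _ hαmem, e, rfl, ?_⟩
    have hcyc : Groth.Agent.Lib.Helper18.BivarFlat.pullCycle f δ' δ 0 (AlgebraicCycle.map f δ' δ β)
        = (p ^ e : ℕ) • β := by
      ext x'
      show Cyc.pullFun f δ' δ 0 (⇑(AlgebraicCycle.map f δ' δ β)) x' = ((p ^ e : ℕ) • β) x'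
      have hfib : f ⁻¹' {f x'} = {x'} := by
        ext z
        simp only [Set.mem_preimage, Set.mem_singleton_iff]
        exact ⟨fun h => hinj h, fun h => by rw [h]⟩
      have hsum := Groth.Agent.Lib.Helper18.CycPull.finsum_fibLen_mul_residueDegree f (f x')
      rw [hfib, finsum_mem_singleton, hrank] at hsum
      unfold Cyc.pullFun
      rw [if_pos (by rw [hδeq x']; simp)]
      simp only [AlgebraicCycle.map, Function.locallyFinsupp.map_apply]
      rw [hfib, finsum_mem_singleton]
      unfold AlgebraicCycle.mapCoeff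
      rw [if_pos (hδeq x')]
      have : ((p ^ e : ℕ) • β) x' = ((p ^ e : ℕ) : ℤ) * β x' := by
        simp
      rw [this, ← hsum]
      push_cast
      ring
    have hcl : ChowOps.cl (Groth.Agent.Lib.Helper18.BivarFlat.pullCycle f δ' δ 0
        (AlgebraicCycle.map f δ' δ β))
        (Groth.Agent.Lib.Helper18.BivarFlat.pullCycle_mem f δ' δ 0 i i (add_zero i) _ hαmem) =
        (ChowOps.clHom X' δ' i) ((p ^ e : ℕ) • (⟨β, hβ⟩ : ↥(ChowOps.zk X' δ' i))) := by
      unfold ChowOps.cl
      congr 1
      apply Subtype.ext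
      exact hcyc.trans (AddSubgroup.coe_nsmul (ChowOps.zk X' δ' i) ⟨β, hβ⟩ (p ^ e)).symm
    rw [hcl, map_nsmul]
    rfl
  · intro α hα α' hα' hpull hzero
    refine ⟨e, ?_⟩
    have hmap := hpp α hα α' hpull
    have h1 := Groth.Agent.Lib.Helper18.BivarPush.pushCH_cl f δ' δ hX'.2.2 hX.2.2 hδ i α' hα'
    rw [hzero, map_zero] at h1
    have hcl : ChowOps.cl (AlgebraicCycle.map f δ' δ α') (Bivar.cycMap_mem_Zk f δ' δ i hα') =
        (ChowOps.clHom X δ i) ((p ^ e : ℕ) • (⟨α, hα⟩ : ↥(ChowOps.zk X δ i))) := by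
      unfold ChowOps.cl
      congr 1
      apply Subtype.ext
      exact hmap.trans (AddSubgroup.coe_nsmul (ChowOps.zk X δ i) ⟨α, hα⟩ (p ^ e)).symm
    rw [hcl, map_nsmul] at h1
    exact h1.symm

end Groth.Agent.S15556
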