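import Groth.Statements.S1556
import Groth.Agent.Lib.Helper5.StalkFT
import Groth.Agent.Lib.Helper5.ProjSpreadF
import Groth.Agent.Lib.Helper5.AdicRegF
import Groth.Agent.Lib.Helper5.SepCartier2
import Groth.Agent.Lib.Helper18.Curve.Places

set_option autoImplicit false
universe u
open CategoryTheory CategoryTheory.Limits AlgebraicGeometry
attribute [local instance] Curv2.resAlgebra
open Variety

namespace Groth.Agent.S1556

/-- Let X be a curve over k (integral, separated, of finite type, of dimension one) and x a closed point
whose residue field is separable over k. Then the local ring at x is a discrete valuation ring if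
and only if x lies in the smooth locus of X → Spec k. -/
theorem result (k : Type u) [Field k] (X : Scheme.{u}) [X.Over (Spec (CommRingCat.of k))] [IsIntegral X]
    [IsSeparated (X ↘ (Spec (CommRingCat.of k)))] [LocallyOfFinitePresentation (X ↘ (Spec (CommRingCat.of k)))] [QuasiCompact (X ↘ (Spec (CommRingCat.of k)))]
    (hdim : topologicalKrullDim X = 1) (x : X) (hx : IsClosed ({x} : Set X))
    [Algebra.IsSeparable k (X.residueField x)] :
    IsDiscreteValuationRing (X.presheaf.stalk x) ↔ x ∈ (X ↘ (Spec (CommRingCat.of k))).smoothLocus := by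
  let _ : Algebra k (X.presheaf.stalk x) := Curv2.stalkAlgebra k X x
  obtain ⟨C, _, _, hfin, q, _, ⟨eX⟩, hiff⟩ :=
    Groth.Agent.Lib.Helper5.StalkFT.exists_model k X x
  have hNC : IsNoetherianRing C := Algebra.FiniteType.isNoetherianRing k C
  have hNq : IsNoetherianRing (Localization.AtPrime q) :=
    IsLocalization.isNoetherianRing q.primeCompl _ hNC
  have hNs : IsNoetherianRing (X.presheaf.stalk x) :=
    isNoetherianRing_of_ringEquiv _ eX.toRingEquiv
  obtain ⟨n, f, hf⟩ := (Algebra.FiniteType.iff_quotient_mvPolynomial'' (R := k) (S := C)).mp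
    inferInstance
  let _ : Algebra (MvPolynomial (Fin n) k) C := f.toRingHom.toAlgebra
  have htow : IsScalarTower k (MvPolynomial (Fin n) k) C :=
    IsScalarTower.of_algebraMap_eq (fun r => (f.commutes r).symm)
  have htfae := Groth.Agent.Lib.Helper5.ProjSpread.tfae_local (R := k)
    (P := MvPolynomial (Fin n) k) (C := C) hf q
  have hmax : ∀ y ∈ IsLocalRing.maximalIdeal (X.presheaf.stalk x),
      eX.symm y ∈ IsLocalRing.maximalIdeal (Localization.AtPrime q) := by
    intro y hy
    rw [IsLocalRing.mem_maximalIdeal, mem_nonunits_iff] at hy ⊢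
    intro hu
    apply hy
    have := hu.map eX
    rwa [AlgEquiv.apply_symm_apply] at this
  have hmax' : ∀ y ∈ IsLocalRing.maximalIdeal (Localization.AtPrime q),
      eX y ∈ IsLocalRing.maximalIdeal (X.presheaf.stalk x) := by
    intro y hy
    rw [IsLocalRing.mem_maximalIdeal, mem_nonunits_iff] at hy ⊢
    intro hu
    apply hy
    have := hu.map eX.symm
    rwa [AlgEquiv.symm_apply_apply] at this
  rw [hiff]
  constructor
  · intro hdvr
    have hreg : IsRegularLocalRing (X.presheaf.stalk x) := inferInstance
    have halg : (Curv2.resAlgebra k X x) =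
        (inferInstance : Algebra k (IsLocalRing.ResidueField (X.presheaf.stalk x))) :=
      Algebra.algebra_ext _ _ (fun r => rfl)
    have hsep : Algebra.IsSeparable k (IsLocalRing.ResidueField (X.presheaf.stalk x)) := by
      have h0 : @Algebra.IsSeparable k (X.residueField x) _ _ (Curv2.resAlgebra k X x) :=
        inferInstance
      rw [halg] at h0
      exact h0
    have het : Algebra.FormallyEtale k (IsLocalRing.ResidueField (X.presheaf.stalk x)) :=
      Algebra.FormallyEtale.of_isSeparable k _
    have hinj := Groth.Agent.Lib.Helper5.SepSmooth.mapBaseChange_injective_of_formallySmooth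
      (k := k) (K := IsLocalRing.ResidueField (X.presheaf.stalk x)) ℤ
    have hgr : Algebra.IsGeometricallyReduced k
        (IsLocalRing.ResidueField (X.presheaf.stalk x)) :=
      Groth.Agent.Lib.Helper5.SepCartier.geomReduced_of_mapBaseChange_injective hinj
    have hadic : CAlgX.IsAdicFormallySmooth k (X.presheaf.stalk x)
        (IsLocalRing.maximalIdeal (X.presheaf.stalk x)) :=
      Groth.Agent.Lib.Helper5.AdicReg.adicSmooth_of_regular
    have hadic' := Groth.Agent.Lib.Helper5.AdicReg.adicSmooth_of_algEquiv eX.symm _
      (IsLocalRing.maximalIdeal (Localization.AtPrime q)) hmax hadic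
    exact (htfae.out 1 0).mp hadic'
  · intro hsm
    have hadic := (htfae.out 0 1).mp hsm
    have hadic' := Groth.Agent.Lib.Helper5.AdicReg.adicSmooth_of_algEquiv eX _
      (IsLocalRing.maximalIdeal (X.presheaf.stalk x)) hmax' hadic
    have hreg : IsRegularLocalRing (X.presheaf.stalk x) :=
      Groth.Agent.Lib.Helper5.AdicReg.isRegularLocalRing_of_adicSmooth hadic'
    have h1 : ringKrullDim (X.presheaf.stalk x) ≤ 1 := by
      rw [← PrimeSpectrum.topologicalKrullDim_eq_ringKrullDim]
      exact ((X.fromSpecStalk x).isEmbedding.isInducing.topologicalKrullDim_le).trans hdim.le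
    have h2 : Module.finrank (IsLocalRing.ResidueField (X.presheaf.stalk x))
        (IsLocalRing.CotangentSpace (X.presheaf.stalk x)) ≤ 1 := by
      have h3 := (IsRegularLocalRing.iff_finrank_cotangentSpace (X.presheaf.stalk x)).mp hreg
      rw [← h3] at h1
      exact_mod_cast h1
    have hne : x ≠ genericPoint X := by
      intro hxg
      have hcl : closure ({x} : Set X) = Set.univ := by
        rw [hxg]
        exact genericPoint_spec X
      rw [hx.closure_eq] at hcl
      have hsub : Subsingleton X := by
        refine ⟨fun a b => ?_⟩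
        have ha : a ∈ ({x} : Set X) := hcl ▸ Set.mem_univ a
        have hb : b ∈ ({x} : Set X) := hcl ▸ Set.mem_univ b
        rw [Set.mem_singleton_iff] at ha hb
        rw [ha, hb]
      have hd0 : topologicalKrullDim X ≤ 0 := by
        have : DiscreteTopology X := inferInstance
        exact topologicalKrullDim_zero_of_discreteTopology X
      rw [hdim] at hd0
      exact absurd hd0 (by decide)
    obtain ⟨a, ha0, hau⟩ := Groth.Agent.Lib.Helper18.Curve.exists_nonunit_stalk hne
    have hnf : ¬ IsField (X.presheaf.stalk x) := by
      intro hF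
      obtain ⟨b, hb⟩ := hF.mul_inv_cancel ha0
      exact hau (IsUnit.of_mul_eq_one b hb)
    have hval : ValuationRing (X.presheaf.stalk x) :=
      ((tfae_of_isNoetherianRing_of_isLocalRing_of_isDomain (X.presheaf.stalk x)).out 5 1).mp h2
    exact ((IsDiscreteValuationRing.TFAE (X.presheaf.stalk x) hnf).out 1 0).mp hval

end Groth.Agent.S1556
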