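import Groth.Statements.S15560
import Groth.Agent.Lib.lead.KronLib

set_option autoImplicit false
universe u v w
open KronMod

namespace Groth.Agent.S15560

/-- Let f be a Kronecker module with n arrows over a field K, from a space V of dimension d₋₁ > 0 to a
space W of dimension d₀ > 0. If n·d₋₁ < d₀ or n·d₀ < d₋₁, then f is not semistable; that is, there
are no semistable Kronecker modules of dimension vector (d₋₁, d₀). (The published statement assumes
K algebraically closed of characteristic zero and n ≥ 2; this row allows any field K and any number
n of arrows.) -/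
theorem result (K : Type u) [Field K] (V : Type v) (W : Type w)
    [AddCommGroup V] [Module K V] [FiniteDimensional K V]
    [AddCommGroup W] [Module K W] [FiniteDimensional K W]
    (n : ℕ) (f : Fin n → (V →ₗ[K] W))
    (hV : 0 < Module.finrank K V) (hW : 0 < Module.finrank K W)
    (h : n * Module.finrank K V < Module.finrank K W ∨ n * Module.finrank K W < Module.finrank K V) :
    ¬ KronMod.IsSemistable f := by
  classical
  intro hss
  obtain ⟨-, hss⟩ := hss
  rcases h with h | h
  · -- take (⊤, range Φ)
    have hle := Groth.Agent.KronLib.finrank_range_Φ_le f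
    have hne : LinearMap.range (Groth.Agent.KronLib.Φ f) ≠ ⊤ := by
      intro e
      rw [e, finrank_top] at hle
      omega
    have hVtop : (⊤ : Submodule K V) ≠ ⊥ := by
      intro e
      have : Module.finrank K (⊤ : Submodule K V) = 0 := by rw [e]; simp
      rw [finrank_top] at this; omega
    have := hss ⊤ _ (Groth.Agent.KronLib.isSubrep_top_range f) (fun e => hVtop e.1) (fun e => hne e.2)
    rw [finrank_top] at this
    have h2 : Module.finrank K W ≤ Module.finrank K (LinearMap.range (Groth.Agent.KronLib.Φ f)) := by
      rw [mul_comm] at this
      exact Nat.le_of_mul_le_mul_left this hV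
    omega
  · -- take (⋂ ker f_j, ⊥)
    let Ψ : V →ₗ[K] (Fin n → W) := LinearMap.pi f
    have hker : KronMod.IsSubrep f (LinearMap.ker Ψ) ⊥ := by
      intro j w hw
      obtain ⟨v, hv, rfl⟩ := hw
      have : Ψ v = 0 := hv
      have := congr_fun this j
      simpa [Ψ] using this
    have hrn := LinearMap.finrank_range_add_finrank_ker Ψ
    have hr : Module.finrank K (LinearMap.range Ψ) ≤ n * Module.finrank K W := by
      have := Submodule.finrank_le (LinearMap.range Ψ)
      rwa [Groth.Agent.KronLib.finrank_pi] at this
    have hkpos : 0 < Module.finrank K (LinearMap.ker Ψ) := by omega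
    have hkne : LinearMap.ker Ψ ≠ ⊥ := by
      intro e; rw [e] at hkpos; simp at hkpos
    have hWtop : (⊥ : Submodule K W) ≠ ⊤ := by
      intro e
      have : Module.finrank K (⊥ : Submodule K W) = Module.finrank K W := by rw [e, finrank_top]
      simp at this; omega
    have := hss _ ⊥ hker (fun e => hkne e.1) (fun e => hWtop e.2)
    simp only [finrank_bot, mul_zero, Nat.le_zero, mul_eq_zero] at this
    omega

end Groth.Agent.S15560
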