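import Groth.Statements.S15563
import Groth.Agent.Lib.lead.KronLib
import Groth.Agent.S15561

set_option autoImplicit false
universe u v w
open KronMod

namespace Groth.Agent.S15563

/-- Let f be a Kronecker module with n arrows over a field K, from V of dimension d₋₁ > 0 to W of
dimension n·d₋₁. Then f is stable if and only if f is semistable and d₋₁ = 1: for d₋₁ = 1 every
semistable module is stable (so the stable locus of K(n; 1, n) is the one point), while for d₋₁ > 1
no module is stable. (The published statement assumes K algebraically closed of characteristic zero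
and n ≥ 2; this row allows any field K and any number n of arrows.) -/
theorem result (K : Type u) [Field K] (V : Type v) (W : Type w)
    [AddCommGroup V] [Module K V] [FiniteDimensional K V]
    [AddCommGroup W] [Module K W] [FiniteDimensional K W]
    (n : ℕ) (f : Fin n → (V →ₗ[K] W))
    (hV : 0 < Module.finrank K V) (hW : Module.finrank K W = n * Module.finrank K V) :
    KronMod.IsStable f ↔ (KronMod.IsSemistable f ∧ Module.finrank K V = 1) := by
  classical
  have key : KronMod.IsSemistable f ↔ Function.Bijective (Groth.Agent.KronLib.Φ f) := by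
    have := Groth.Agent.S15561.result K V W n f hV hW
    have hfun : (fun v : Fin n → V => ∑ j, f j (v j)) = ⇑(Groth.Agent.KronLib.Φ f) := by
      funext v; rw [Groth.Agent.KronLib.Φ_apply]
    rwa [hfun] at this
  constructor
  · intro hst
    refine ⟨⟨hst.1, fun V' W' h h1 h2 => (hst.2 V' W' h h1 h2).le⟩, ?_⟩
    by_contra hne
    have h2 : 2 ≤ Module.finrank K V := by omega
    -- pick a nonzero vector
    obtain ⟨v, hv⟩ : ∃ v : V, v ≠ 0 := by
      have : Nontrivial V := Module.nontrivial_of_finrank_pos (R := K) hV
      exact exists_ne 0
    let V' : Submodule K V := Submodule.span K {v}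
    have hV'1 : Module.finrank K V' = 1 := finrank_span_singleton hv
    obtain ⟨W', hsub, hW'⟩ := Groth.Agent.KronLib.exists_subrep_finrank_le f V'
    have hnb : ¬ (V' = ⊥ ∧ W' = ⊥) := by
      intro e
      have : Module.finrank K V' = 0 := by rw [e.1]; simp
      omega
    have hnt : ¬ (V' = ⊤ ∧ W' = ⊤) := by
      intro e
      have : Module.finrank K V' = Module.finrank K V := by rw [e.1, finrank_top]
      omega
    have := hst.2 V' W' hsub hnb hnt
    rw [hV'1, hW, mul_one] at this
    rw [hV'1, mul_one] at hW'
    have h3 : Module.finrank K V * Module.finrank K W' ≤ Module.finrank K V * n :=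
      Nat.mul_le_mul_left _ hW'
    rw [mul_comm n] at this
    omega
  · rintro ⟨hss, h1⟩
    have hb := key.mp hss
    refine ⟨hss.1, ?_⟩
    intro V' W' hsub hnb hnt
    have hle : Module.finrank K V' ≤ 1 := h1 ▸ Submodule.finrank_le V'
    have hV'bot : V' = ⊥ := by
      by_contra hV'
      have hpos : 0 < Module.finrank K V' := by
        rw [Nat.pos_iff_ne_zero]
        intro e
        exact hV' (Submodule.finrank_eq_zero.mp e)
      have hV'top : V' = ⊤ := Submodule.eq_top_of_finrank_eq (by omega)
      apply hnt
      refine ⟨hV'top, ?_⟩
      rw [eq_top_iff]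
      intro w _
      obtain ⟨x, rfl⟩ := hb.2 w
      exact Groth.Agent.KronLib.Φ_mem_of_isSubrep f hsub x (fun j => by rw [hV'top]; trivial)
    have hW'ne : W' ≠ ⊥ := fun e => hnb ⟨hV'bot, e⟩
    have hW'pos : 0 < Module.finrank K W' := by
      rw [Nat.pos_iff_ne_zero]
      intro e
      exact hW'ne (Submodule.finrank_eq_zero.mp e)
    rw [hV'bot, h1]
    simp only [finrank_bot, mul_zero, one_mul]
    exact hW'pos

end Groth.Agent.S15563
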