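import Groth.Statements.S15564
import Groth.Agent.Lib.lead.KronLib

set_option autoImplicit false
universe u v w
open KronMod

namespace Groth.Agent.S15564

/-- For a Kronecker module f with n arrows over a field K between one-dimensional spaces V and W,
semistability, stability and f ≠ 0 are equivalent: the semistable locus and the stable locus of
dimension vector (1, 1) are both the complement of the zero module. (The published statement assumes
K algebraically closed of characteristic zero and n ≥ 2; this row allows any field K and any n.) -/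
theorem result (K : Type u) [Field K] (V : Type v) (W : Type w)
    [AddCommGroup V] [Module K V] [FiniteDimensional K V]
    [AddCommGroup W] [Module K W] [FiniteDimensional K W]
    (n : ℕ) (f : Fin n → (V →ₗ[K] W))
    (hV : Module.finrank K V = 1) (hW : Module.finrank K W = 1) :
    (KronMod.IsSemistable f ↔ f ≠ 0) ∧ (KronMod.IsStable f ↔ f ≠ 0) := by
  classical
  have bot_or_top_V : ∀ V' : Submodule K V, V' = ⊥ ∨ V' = ⊤ := by
    intro V'
    have hle : Module.finrank K V' ≤ 1 := hV ▸ Submodule.finrank_le V'
    by_cases h0 : Module.finrank K V' = 0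
    · exact Or.inl (Submodule.finrank_eq_zero.mp h0)
    · exact Or.inr (Submodule.eq_top_of_finrank_eq (by omega))
  have bot_or_top_W : ∀ W' : Submodule K W, W' = ⊥ ∨ W' = ⊤ := by
    intro W'
    have hle : Module.finrank K W' ≤ 1 := hW ▸ Submodule.finrank_le W'
    by_cases h0 : Module.finrank K W' = 0
    · exact Or.inl (Submodule.finrank_eq_zero.mp h0)
    · exact Or.inr (Submodule.eq_top_of_finrank_eq (by omega))
  have hVne : (⊤ : Submodule K V) ≠ ⊥ := by
    intro e
    have : Module.finrank K (⊤ : Submodule K V) = 0 := by rw [e]; simp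
    rw [finrank_top] at this; omega
  have hWne : (⊥ : Submodule K W) ≠ ⊤ := by
    intro e
    have : Module.finrank K (⊤ : Submodule K W) = 0 := by rw [← e]; simp
    rw [finrank_top] at this; omega
  -- C: semistable → f ≠ 0
  have hC : KronMod.IsSemistable f → f ≠ 0 := by
    rintro hss rfl
    have hsub : KronMod.IsSubrep (0 : Fin n → (V →ₗ[K] W)) ⊤ ⊥ := by
      intro j w hw
      obtain ⟨v, -, rfl⟩ := hw
      simp
    have := hss.2 ⊤ ⊥ hsub (fun e => hVne e.1) (fun e => hWne e.2)
    simp [hV, hW] at this
  -- A: f ≠ 0 → stable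
  have hA : f ≠ 0 → KronMod.IsStable f := by
    intro hf
    refine ⟨by omega, ?_⟩
    intro V' W' hsub hnb hnt
    rcases bot_or_top_V V' with rfl | rfl <;> rcases bot_or_top_W W' with rfl | rfl
    · exact absurd ⟨rfl, rfl⟩ hnb
    · simp [hV, hW]
    · exfalso
      apply hf
      funext j
      ext v
      have : f j v ∈ (⊥ : Submodule K W) := hsub j ⟨v, trivial, rfl⟩
      simpa using this
    · exact absurd ⟨rfl, rfl⟩ hnt
  have hB : KronMod.IsStable f → KronMod.IsSemistable f :=
    fun hst => ⟨hst.1, fun V' W' h h1 h2 => (hst.2 V' W' h h1 h2).le⟩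
  exact ⟨⟨hC, fun h => hB (hA h)⟩, ⟨fun h => hC (hB h), hA⟩⟩

end Groth.Agent.S15564
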