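import Groth.Statements.S15565
import Groth.Agent.Lib.lead.KronLib
import Mathlib.LinearAlgebra.Eigenspace.Triangularizable

set_option autoImplicit false
universe u v w
open KronMod

namespace Groth.Agent.S15565

/-- Over an algebraically closed field K, a Kronecker module with two arrows between spaces V and W of
the same dimension k ≥ 2 is never stable: the stable locus of dimension vector (k, k) for the
Kronecker quiver with two arrows is empty. (The published statement also assumes characteristic
zero; this row does not.) -/
theorem result (K : Type u) [Field K] [IsAlgClosed K] (V : Type v) (W : Type w)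
    [AddCommGroup V] [Module K V] [FiniteDimensional K V]
    [AddCommGroup W] [Module K W] [FiniteDimensional K W]
    (f : Fin 2 → (V →ₗ[K] W)) (k : ℕ) (hk : 2 ≤ k)
    (hV : Module.finrank K V = k) (hW : Module.finrank K W = k) :
    ¬ KronMod.IsStable f := by
  classical
  intro hst
  have hVpos : 0 < Module.finrank K V := by omega
  have : Nontrivial V := Module.nontrivial_of_finrank_pos (R := K) hVpos
  -- find v ≠ 0 and w with f 0 v, f 1 v ∈ span {w}
  obtain ⟨v, w, hv, h0, h1⟩ : ∃ (v : V) (w : W), v ≠ 0 ∧ f 0 v ∈ Submodule.span K {w} ∧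
      f 1 v ∈ Submodule.span K {w} := by
    by_cases hinj : Function.Injective (f 0)
    · have hsurj : Function.Surjective (f 0) :=
        (LinearMap.injective_iff_surjective_of_finrank_eq_finrank (hV.trans hW.symm)).mp hinj
      let e₀ : V ≃ₗ[K] W := LinearEquiv.ofBijective (f 0) ⟨hinj, hsurj⟩
      let T : Module.End K V := e₀.symm.toLinearMap.comp (f 1)
      obtain ⟨μ, hμ⟩ := Module.End.exists_eigenvalue T
      obtain ⟨v, hv⟩ := hμ.exists_hasEigenvector
      refine ⟨v, f 0 v, hv.2, Submodule.mem_span_singleton_self _, ?_⟩
      have hTv : T v = μ • v := hv.apply_eq_smul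
      have : f 1 v = μ • f 0 v := by
        have h2 : e₀ (T v) = f 1 v := by simp [T]
        rw [← h2, hTv, map_smul]
        rfl
      rw [this]
      exact Submodule.smul_mem _ _ (Submodule.mem_span_singleton_self _)
    · rw [← LinearMap.ker_eq_bot, Submodule.eq_bot_iff] at hinj
      push Not at hinj
      obtain ⟨v, hvk, hv⟩ := hinj
      refine ⟨v, f 1 v, hv, ?_, Submodule.mem_span_singleton_self _⟩
      rw [LinearMap.mem_ker.mp hvk]
      exact Submodule.zero_mem _
  let V' : Submodule K V := Submodule.span K {v}
  let W' : Submodule K W := Submodule.span K {w}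
  have hV'1 : Module.finrank K V' = 1 := finrank_span_singleton hv
  have hW'1 : Module.finrank K W' ≤ 1 := by
    have := finrank_span_le_card (R := K) ({w} : Set W)
    simpa using this
  have hsub : KronMod.IsSubrep f V' W' := by
    intro j x hx
    obtain ⟨y, hy, rfl⟩ := hx
    obtain ⟨c, rfl⟩ := Submodule.mem_span_singleton.mp hy
    rw [map_smul]
    refine Submodule.smul_mem _ _ ?_
    fin_cases j
    · exact h0
    · exact h1
  have hnb : ¬ (V' = ⊥ ∧ W' = ⊥) := by
    intro e
    have : Module.finrank K V' = 0 := by rw [e.1]; simp
    omega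
  have hnt : ¬ (V' = ⊤ ∧ W' = ⊤) := by
    intro e
    have : Module.finrank K V' = Module.finrank K V := by rw [e.1, finrank_top]
    omega
  have := hst.2 V' W' hsub hnb hnt
  rw [hV'1, hV, hW, mul_one] at this
  have h3 : k * Module.finrank K W' ≤ k * 1 := Nat.mul_le_mul_left _ hW'1
  omega

end Groth.Agent.S15565
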