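import Groth.Statements.S15566
import Mathlib.LinearAlgebra.FiniteDimensional.Lemmas
import Mathlib.LinearAlgebra.Dimension.RankNullity
import Mathlib.LinearAlgebra.FiniteDimensional.Basic

set_option autoImplicit false
universe u v w
open KronMod

namespace Groth.Agent.S15566


section aux

variable {K : Type u} [Field K]

private lemma inter_bot {U : Type*} [AddCommGroup U] [Module K U] [FiniteDimensional K U]
    (P Q : Submodule K U) (hP : Module.finrank K P = 1) (hQ : Module.finrank K Q = 1) (hne : P ≠ Q) :
    P ⊓ Q = ⊥ := by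
  by_contra h
  obtain ⟨x, hx, hx0⟩ := (Submodule.ne_bot_iff _).1 h
  have h1 : Module.finrank K (K ∙ x) = 1 := finrank_span_singleton hx0
  have hPx : K ∙ x = P := Submodule.eq_of_le_of_finrank_eq
    ((Submodule.span_singleton_le_iff_mem _ _).2 hx.1) (by rw [h1, hP])
  have hQx : K ∙ x = Q := Submodule.eq_of_le_of_finrank_eq
    ((Submodule.span_singleton_le_iff_mem _ _).2 hx.2) (by rw [h1, hQ])
  exact hne (hPx.symm.trans hQx)

variable {V : Type v} {W : Type w} [AddCommGroup V] [Module K V] [FiniteDimensional K V]
    [AddCommGroup W] [Module K W] [FiniteDimensional K W]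

private lemma rank_one (hV : Module.finrank K V = 2) (A : V →ₗ[K] W) (h0 : A ≠ 0)
    (hni : ¬ Function.Injective A) :
    Module.finrank K (LinearMap.ker A) = 1 ∧ Module.finrank K (LinearMap.range A) = 1 := by
  have h1 : LinearMap.ker A ≠ ⊥ := fun h => hni (LinearMap.ker_eq_bot.1 h)
  have h2 : LinearMap.ker A ≠ ⊤ := fun h => h0 (LinearMap.ker_eq_top.1 h)
  have h3 : 0 < Module.finrank K (LinearMap.ker A) := by
    rw [Module.finrank_pos_iff]
    exact (Submodule.nontrivial_iff_ne_bot).2 h1
  have h4 : Module.finrank K (LinearMap.ker A) < 2 := by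
    rw [← hV]
    exact Submodule.finrank_lt h2
  have h5 := LinearMap.finrank_range_add_finrank_ker A
  rw [hV] at h5
  omega

private lemma key (A B : V →ₗ[K] W)
    (hA : Module.finrank K (LinearMap.ker A) = 1) (hB : Module.finrank K (LinearMap.ker B) = 1)
    (hrA : Module.finrank K (LinearMap.range A) = 1) (hrB : Module.finrank K (LinearMap.range B) = 1)
    (hk : LinearMap.ker A ≠ LinearMap.ker B) (hr : LinearMap.range A ≠ LinearMap.range B) :
    Function.Injective (A + B) := by
  rw [← LinearMap.ker_eq_bot, eq_bot_iff]
  intro v hv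
  rw [LinearMap.mem_ker, LinearMap.add_apply] at hv
  have h1 : A v ∈ LinearMap.range A ⊓ LinearMap.range B := by
    refine ⟨⟨v, rfl⟩, ⟨-v, ?_⟩⟩
    rw [map_neg]
    exact (eq_neg_of_add_eq_zero_left hv).symm
  rw [inter_bot _ _ hrA hrB hr, Submodule.mem_bot] at h1
  have h2 : B v = 0 := by rw [h1, zero_add] at hv; exact hv
  have h3 : v ∈ LinearMap.ker A ⊓ LinearMap.ker B := ⟨h1, h2⟩
  rw [inter_bot _ _ hA hB hk] at h3
  exact h3

end aux

/-- Case of dimension vector (2, 2). Over an algebraically closed field K, if a Kronecker module f with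
n arrows between two-dimensional spaces V and W is semistable, then some linear combination Σ_j z_j
f_j of its arrows is a linear isomorphism V → W (equivalently, the determinant of the generic
combination is not identically zero): the semistable locus of dimension vector (2, 2) lies in the
open set of modules whose generic combination is invertible. (The published statement, over an
algebraically closed field of characteristic zero, covers dimension vectors (1, 1) and (2, 2) for
every n ≥ 2 and (k, k) for two arrows; this row states the (2, 2) case, for any n and without the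
characteristic assumption.) -/
theorem result (K : Type u) [Field K] [IsAlgClosed K] (V : Type v) (W : Type w)
    [AddCommGroup V] [Module K V] [FiniteDimensional K V]
    [AddCommGroup W] [Module K W] [FiniteDimensional K W]
    (n : ℕ) (f : Fin n → (V →ₗ[K] W))
    (hV : Module.finrank K V = 2) (hW : Module.finrank K W = 2)
    (hf : KronMod.IsSemistable f) :
    ∃ z : Fin n → K, Function.Bijective ((∑ j, z j • f j : V →ₗ[K] W) : V → W) := by
  classical
  have hVW : Module.finrank K V = Module.finrank K W := by rw [hV, hW]
  have bij_of_inj : ∀ g : V →ₗ[K] W, Function.Injective g → Function.Bijective g := fun g hg =>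
    ⟨hg, (LinearMap.injective_iff_surjective_of_finrank_eq_finrank hVW).1 hg⟩
  haveI : Nontrivial V := Module.nontrivial_of_finrank_pos (R := K) (by omega)
  haveI : Nontrivial W := Module.nontrivial_of_finrank_pos (R := K) (by omega)
  -- violation A
  have violA : ∀ v : V, v ≠ 0 → (∀ j, f j v = 0) → False := by
    intro v hv hkill
    have hsub : KronMod.IsSubrep f (K ∙ v) ⊥ := by
      intro j
      rw [Submodule.map_span_le]
      rintro x (rfl : x = v)
      rw [hkill j]; exact zero_mem _
    have h := hf.2 (K ∙ v) ⊥ hsub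
      (fun h => hv ((Submodule.span_singleton_eq_bot).1 h.1))
      (fun h => bot_ne_top h.2)
    rw [finrank_span_singleton hv, finrank_bot, hV, hW] at h
    omega
  -- violation B
  have violB : ∀ ℓ : Submodule K W, Module.finrank K ℓ = 1 → (∀ j, LinearMap.range (f j) ≤ ℓ) → False := by
    intro ℓ hℓ hle
    have hsub : KronMod.IsSubrep f ⊤ ℓ := by
      intro j
      rw [Submodule.map_top]; exact hle j
    have h := hf.2 ⊤ ℓ hsub (fun h => top_ne_bot h.1)
      (fun h => by
        have := h.2 ▸ hℓ
        rw [finrank_top, hW] at this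
        omega)
    rw [finrank_top, hℓ, hV, hW] at h
    omega
  -- some f j injective?
  by_cases hinj : ∃ j, Function.Injective (f j)
  · obtain ⟨j, hj⟩ := hinj
    refine ⟨Pi.single j 1, ?_⟩
    have : (∑ k, (Pi.single j (1 : K) : Fin n → K) k • f k) = f j := by
      rw [Finset.sum_eq_single j]
      · simp
      · intro k _ hk; simp [Pi.single_eq_of_ne hk]
      · intro h; exact absurd (Finset.mem_univ j) h
    rw [this]
    exact bij_of_inj _ hj
  push Not at hinj
  have hr1 : ∀ j, f j ≠ 0 → Module.finrank K (LinearMap.ker (f j)) = 1 ∧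
      Module.finrank K (LinearMap.range (f j)) = 1 := fun j h0 => rank_one hV (f j) h0 (hinj j)
  -- sum of two
  have two : ∀ i j, i ≠ j → Function.Injective (f i + f j) →
      ∃ z : Fin n → K, Function.Bijective ((∑ k, z k • f k : V →ₗ[K] W) : V → W) := by
    intro i j hij h
    refine ⟨Pi.single i 1 + Pi.single j 1, ?_⟩
    have : (∑ k, ((Pi.single i (1 : K) + Pi.single j (1 : K) : Fin n → K)) k • f k) = f i + f j := by
      simp only [Pi.add_apply, add_smul, Finset.sum_add_distrib]
      congr 1
      · rw [Finset.sum_eq_single i]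
        · simp
        · intro k _ hk; simp [Pi.single_eq_of_ne hk]
        · intro h; exact absurd (Finset.mem_univ i) h
      · rw [Finset.sum_eq_single j]
        · simp
        · intro k _ hk; simp [Pi.single_eq_of_ne hk]
        · intro h; exact absurd (Finset.mem_univ j) h
    rw [this]
    exact bij_of_inj _ h
  -- (i) two nonzero arrows with different kernels
  have hi : ∃ i j, f i ≠ 0 ∧ f j ≠ 0 ∧ LinearMap.ker (f i) ≠ LinearMap.ker (f j) := by
    by_contra hcon
    push Not at hcon
    by_cases hS : ∃ j0, f j0 ≠ 0
    · obtain ⟨j0, hj0⟩ := hS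
      have hk0 : LinearMap.ker (f j0) ≠ ⊥ := fun h => hinj j0 (LinearMap.ker_eq_bot.1 h)
      obtain ⟨v, hv, hv0⟩ := (Submodule.ne_bot_iff _).1 hk0
      refine violA v hv0 (fun j => ?_)
      by_cases hj : f j = 0
      · rw [hj]; rfl
      · have := hcon j0 j hj0 hj
        rw [this] at hv
        exact hv
    · push Not at hS
      obtain ⟨v, hv0⟩ := exists_ne (0 : V)
      exact violA v hv0 (fun j => by rw [hS j]; rfl)
  obtain ⟨i, j, hi0, hj0, hkij⟩ := hi
  have hij : i ≠ j := fun h => hkij (by rw [h])
  by_cases hrij : LinearMap.range (f i) ≠ LinearMap.range (f j)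
  · exact two i j hij (key (f i) (f j) (hr1 i hi0).1 (hr1 j hj0).1 (hr1 i hi0).2 (hr1 j hj0).2 hkij hrij)
  push Not at hrij
  -- (ii) some k with a different range
  have hk : ∃ k, f k ≠ 0 ∧ LinearMap.range (f k) ≠ LinearMap.range (f i) := by
    by_contra hcon
    push Not at hcon
    refine violB (LinearMap.range (f i)) (hr1 i hi0).2 (fun k => ?_)
    by_cases hk0 : f k = 0
    · rw [hk0, LinearMap.range_zero]; exact bot_le
    · exact (hcon k hk0).le
  obtain ⟨k, hk0, hrk⟩ := hk
  by_cases hkk : LinearMap.ker (f k) = LinearMap.ker (f i)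
  · -- then ker f k ≠ ker f j
    have hkj : LinearMap.ker (f k) ≠ LinearMap.ker (f j) := fun h => hkij (hkk.symm.trans h)
    have hkj' : k ≠ j := fun h => hkj (by rw [h])
    exact two k j hkj' (key (f k) (f j) (hr1 k hk0).1 (hr1 j hj0).1 (hr1 k hk0).2 (hr1 j hj0).2 hkj
      (by rw [← hrij]; exact hrk))
  · have hki' : k ≠ i := fun h => hkk (by rw [h])
    exact two k i hki' (key (f k) (f i) (hr1 k hk0).1 (hr1 i hi0).1 (hr1 k hk0).2 (hr1 i hi0).2 hkk hrk)

end Groth.Agent.S15566
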