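import Groth.Statements.S15567
import Mathlib
-- import your own Groth.Agent.* helpers here

set_option autoImplicit false
universe u v w
open KronMod

namespace Groth.Agent.S15567

open Module in
theorem core (K : Type u) [Field K] (V : Type v) (W : Type w)
    [AddCommGroup V] [Module K V] [FiniteDimensional K V]
    [AddCommGroup W] [Module K W] [FiniteDimensional K W]
    (n : ℕ) (f : Fin n → (V →ₗ[K] W)) (rel : ℕ → ℕ → Prop)
    (hT : ∀ a b x y : ℕ, x ≤ a → y ≤ b → (rel (a * (b - y)) (b * (a - x)) ↔ rel (b * x) (a * y))) :
    (∀ (V' : Submodule K V) (W' : Submodule K W), KronMod.IsSubrep f V' W' →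
      ¬ (V' = ⊥ ∧ W' = ⊥) → ¬ (V' = ⊤ ∧ W' = ⊤) →
      rel (finrank K W * finrank K V') (finrank K V * finrank K W')) ↔
    (∀ (Φ : Submodule K (Module.Dual K W)) (Ψ : Submodule K (Module.Dual K V)),
      KronMod.IsSubrep (fun j => (f j).dualMap) Φ Ψ →
      ¬ (Φ = ⊥ ∧ Ψ = ⊥) → ¬ (Φ = ⊤ ∧ Ψ = ⊤) →
      rel (finrank K (Module.Dual K V) * finrank K Φ)
        (finrank K (Module.Dual K W) * finrank K Ψ)) := by
  set a := finrank K V with ha
  set b := finrank K W with hb
  constructor
  · intro h Φ Ψ hsub hbot htop
    rw [Subspace.dual_finrank_eq, Subspace.dual_finrank_eq]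
    have hsub' : KronMod.IsSubrep f Ψ.dualCoannihilator Φ.dualCoannihilator := by
      intro j
      rintro _ ⟨v, hv, rfl⟩
      rw [SetLike.mem_coe] at hv
      rw [Submodule.mem_dualCoannihilator] at hv ⊢
      intro φ hφ
      have : (f j).dualMap φ ∈ Ψ := hsub j ⟨φ, hφ, rfl⟩
      have := hv _ this
      simpa using this
    have e1 := Subspace.finrank_add_finrank_dualCoannihilator_eq Ψ
    have e2 := Subspace.finrank_add_finrank_dualCoannihilator_eq Φ
    have hψ : finrank K Ψ ≤ a := by omega
    have hφ : finrank K Φ ≤ b := by omega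
    have h1 := h Ψ.dualCoannihilator Φ.dualCoannihilator hsub' ?_ ?_
    · rw [show finrank K Ψ.dualCoannihilator = a - finrank K Ψ by omega,
        show finrank K Φ.dualCoannihilator = b - finrank K Φ by omega] at h1
      exact (hT b a (finrank K Φ) (finrank K Ψ) hφ hψ).mp h1
    · rintro ⟨h1, h2⟩
      apply htop
      rw [h1, finrank_bot] at e1
      rw [h2, finrank_bot] at e2
      refine ⟨Submodule.eq_top_of_finrank_eq ?_, Submodule.eq_top_of_finrank_eq ?_⟩
      · rw [Subspace.dual_finrank_eq]; omega
      · rw [Subspace.dual_finrank_eq]; omega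
    · rintro ⟨h1, h2⟩
      apply hbot
      rw [h1, finrank_top] at e1
      rw [h2, finrank_top] at e2
      refine ⟨Submodule.finrank_eq_zero.mp (by omega), Submodule.finrank_eq_zero.mp (by omega)⟩
  · intro h V' W' hsub hbot htop
    have hsub' : KronMod.IsSubrep (fun j => (f j).dualMap) W'.dualAnnihilator
        V'.dualAnnihilator := by
      intro j
      rintro _ ⟨φ, hφ, rfl⟩
      rw [SetLike.mem_coe] at hφ
      rw [Submodule.mem_dualAnnihilator] at hφ ⊢
      intro v hv
      have : f j v ∈ W' := hsub j ⟨v, hv, rfl⟩
      simpa using hφ _ this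
    have e1 := Subspace.finrank_add_finrank_dualAnnihilator_eq V'
    have e2 := Subspace.finrank_add_finrank_dualAnnihilator_eq W'
    have hx : finrank K V' ≤ a := by omega
    have hy : finrank K W' ≤ b := by omega
    have h1 := h W'.dualAnnihilator V'.dualAnnihilator hsub' ?_ ?_
    · rw [Subspace.dual_finrank_eq, Subspace.dual_finrank_eq,
        show finrank K W'.dualAnnihilator = b - finrank K W' by omega,
        show finrank K V'.dualAnnihilator = a - finrank K V' by omega] at h1
      exact (hT a b (finrank K V') (finrank K W') hx hy).mp h1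
    · rintro ⟨h1, h2⟩
      apply htop
      rw [h1, finrank_bot] at e2
      rw [h2, finrank_bot] at e1
      exact ⟨Submodule.eq_top_of_finrank_eq (by omega), Submodule.eq_top_of_finrank_eq (by omega)⟩
    · rintro ⟨h1, h2⟩
      apply hbot
      rw [h1, finrank_top, Subspace.dual_finrank_eq] at e2
      rw [h2, finrank_top, Subspace.dual_finrank_eq] at e1
      exact ⟨Submodule.finrank_eq_zero.mp (by omega), Submodule.finrank_eq_zero.mp (by omega)⟩

theorem hT_le (a b x y : ℕ) (hx : x ≤ a) (hy : y ≤ b) :
    (a * (b - y) ≤ b * (a - x)) ↔ (b * x ≤ a * y) := by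
  have h1 : a * y ≤ a * b := Nat.mul_le_mul_left a hy
  have h2 : b * x ≤ b * a := Nat.mul_le_mul_left b hx
  rw [Nat.mul_sub, Nat.mul_sub, mul_comm b a] at *
  omega

theorem hT_lt (a b x y : ℕ) (hx : x ≤ a) (hy : y ≤ b) :
    (a * (b - y) < b * (a - x)) ↔ (b * x < a * y) := by
  have h1 : a * y ≤ a * b := Nat.mul_le_mul_left a hy
  have h2 : b * x ≤ b * a := Nat.mul_le_mul_left b hx
  rw [Nat.mul_sub, Nat.mul_sub, mul_comm b a] at *
  omega

/-- Duality of Kronecker modules. Let f be a Kronecker module with n arrows over a field K, from V to W,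
both finite-dimensional. The dual module has arrows the transposes f_j^∨ : W^∨ → V^∨, so its
dimension vector is (d₀, d₋₁). Then f is semistable if and only if its dual is, and f is stable if
and only if its dual is. This is the module-level content of the isomorphism K(n; d₋₁, d₀) ≅ K(n;
d₀, d₋₁) of moduli spaces, stated here without the moduli spaces. (The published statement assumes K
algebraically closed of characteristic zero and n ≥ 2; this row allows any field K and any number n
of arrows.) -/
theorem result (K : Type u) [Field K] (V : Type v) (W : Type w)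
    [AddCommGroup V] [Module K V] [FiniteDimensional K V]
    [AddCommGroup W] [Module K W] [FiniteDimensional K W]
    (n : ℕ) (f : Fin n → (V →ₗ[K] W)) :
    (KronMod.IsSemistable f ↔ KronMod.IsSemistable (fun j => (f j).dualMap)) ∧
    (KronMod.IsStable f ↔ KronMod.IsStable (fun j => (f j).dualMap)) := by
  have hdim : (0 < Module.finrank K V + Module.finrank K W) ↔
      (0 < Module.finrank K (Module.Dual K W) + Module.finrank K (Module.Dual K V)) := by
    rw [Subspace.dual_finrank_eq, Subspace.dual_finrank_eq, add_comm]
  constructor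
  · unfold KronMod.IsSemistable
    rw [hdim, core K V W n f (· ≤ ·) hT_le]
  · unfold KronMod.IsStable
    rw [hdim, core K V W n f (· < ·) hT_lt]

end Groth.Agent.S15567
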