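import Groth.Statements.S15570
import Groth.Agent.Lib.helper19.KronDual

set_option autoImplicit false
universe u v w
open KronMod

namespace Groth.Agent.S15570

/-- Let f be a Kronecker module with n arrows over a field K, from V of dimension n·d₀ to W of dimension
d₀ > 0. Then f is stable if and only if f is semistable and d₀ = 1: for d₀ = 1 every semistable
module is stable (the stable locus of K(n; n, 1) is the one point), while for d₀ > 1 no module is
stable. This is the case dual to dimension vector (d₋₁, n·d₋₁). (The published statement assumes K
algebraically closed of characteristic zero and n ≥ 2; this row allows any field K and any number n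
of arrows.) -/
theorem result (K : Type u) [Field K] (V : Type v) (W : Type w)
    [AddCommGroup V] [Module K V] [FiniteDimensional K V]
    [AddCommGroup W] [Module K W] [FiniteDimensional K W]
    (n : ℕ) (f : Fin n → (V →ₗ[K] W))
    (hW : 0 < Module.finrank K W) (hV : Module.finrank K V = n * Module.finrank K W) :
    KronMod.IsStable f ↔ (KronMod.IsSemistable f ∧ Module.finrank K W = 1) := by
  classical
  have hstss : KronMod.IsStable f → KronMod.IsSemistable f := fun hs =>
    ⟨hs.1, fun V' W' h h1 h2 => (hs.2 V' W' h h1 h2).le⟩
  constructor
  · intro hs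
    have hss := hstss hs
    refine ⟨hss, ?_⟩
    by_contra hne
    have h2 : 2 ≤ Module.finrank K W := by omega
    have hinj := Groth.Agent.Lib.helper19.KronDual.injective_Ψ_of_isSemistable f hW hss
    have hbij := Groth.Agent.Lib.helper19.KronDual.bijective_of_injective f hV hinj
    let e : V ≃ₗ[K] (Fin n → W) := LinearEquiv.ofBijective _ hbij
    obtain ⟨w₀, hw₀⟩ : ∃ w₀ : W, w₀ ≠ 0 := by
      have : Nontrivial W := Module.nontrivial_of_finrank_pos hW
      exact exists_ne 0
    set W' : Submodule K W := K ∙ w₀ with hW'
    have hW'1 : Module.finrank K W' = 1 := finrank_span_singleton hw₀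
    let V' : Submodule K V := ⨅ j, W'.comap (f j)
    have hsub : KronMod.IsSubrep f V' W' := by
      rintro j w ⟨v, hv, rfl⟩
      have := (Submodule.mem_iInf _).mp hv j
      exact this
    -- an injective map (W')ⁿ → V'
    let g : (Fin n → W') →ₗ[K] V' :=
      LinearMap.codRestrict V' ((e.symm : (Fin n → W) →ₗ[K] V).comp
        (LinearMap.pi fun j => W'.subtype.comp (LinearMap.proj j)))
        (fun x => by
          refine (Submodule.mem_iInf _).mpr fun j => ?_
          show f j (e.symm (fun i => (x i : W))) ∈ W'
          have : f j (e.symm (fun i => (x i : W))) = (x j : W) := by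
            have h := e.apply_symm_apply (fun i => (x i : W))
            exact congr_fun h j
          rw [this]
          exact (x j).2)
    have hg : Function.Injective g := by
      intro a b hab
      have h1 : e.symm (fun i => (a i : W)) = e.symm (fun i => (b i : W)) :=
        congrArg Subtype.val hab
      have h2 := e.symm.injective h1
      funext i
      exact Subtype.ext (congr_fun h2 i)
    have hge := LinearMap.finrank_le_finrank_of_injective hg
    rw [Module.finrank_pi_fintype] at hge
    simp only [hW'1, Finset.sum_const, Finset.card_univ, Fintype.card_fin, smul_eq_mul,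
      mul_one] at hge
    have hWbot : W' ≠ ⊥ := by
      intro e0
      rw [e0] at hW'1
      simp at hW'1
    have hWtop : W' ≠ ⊤ := by
      intro e0
      rw [e0, finrank_top] at hW'1
      omega
    have := hs.2 V' W' hsub (fun e0 => hWbot e0.2) (fun e0 => hWtop e0.2)
    rw [hV, hW'1, mul_one] at this
    have h3 : Module.finrank K W * n ≤ Module.finrank K W * Module.finrank K V' :=
      Nat.mul_le_mul_left _ hge
    rw [mul_comm n] at this
    omega
  · rintro ⟨hss, h1⟩
    refine ⟨hss.1, fun V' W' h hb ht => ?_⟩
    have hinj := Groth.Agent.Lib.helper19.KronDual.injective_Ψ_of_isSemistable f hW hss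
    have hle := Groth.Agent.Lib.helper19.KronDual.finrank_le_mul_of_injective f hinj h
    have hW'le : Module.finrank K W' ≤ 1 := h1 ▸ Submodule.finrank_le W'
    rw [h1, hV, h1, one_mul, mul_one]
    rcases Nat.eq_zero_or_pos (Module.finrank K W') with h0 | hpos
    · exfalso
      have hW'b : W' = ⊥ := Submodule.finrank_eq_zero.mp h0
      rw [h0, mul_zero, Nat.le_zero] at hle
      exact hb ⟨Submodule.finrank_eq_zero.mp hle, hW'b⟩
    · have hW'1 : Module.finrank K W' = 1 := by omega
      have hW't : W' = ⊤ := Submodule.eq_top_of_finrank_eq (hW'1.trans h1.symm)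
      have hV't : V' ≠ ⊤ := fun e0 => ht ⟨e0, hW't⟩
      have := Submodule.finrank_lt hV't
      rw [hW'1, mul_one]
      rw [hV, h1, mul_one] at this
      exact this

end Groth.Agent.S15570
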