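import Groth.Statements.S15573
import Mathlib.RingTheory.Kaehler.Basic
import Mathlib.Tactic.LinearCombination
import Mathlib.Tactic.Ring
import Mathlib.LinearAlgebra.Dimension.Constructions

set_option autoImplicit false
universe u v
open RInv

namespace Groth.Agent.S15573

/-- Let `R` be a commutative ring with an involution `lam` and let `S` be its fixed ring. If there is an
element `r` of `R` such that `r - lam r` is a unit, then `R` is a quadratic etale `S`-algebra. -/
theorem result (S : Type u) (R : Type v) [CommRing S] [CommRing R]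
    [Algebra S R] (lam : R ≃+* R) (hlam : Function.Involutive lam) (hS : RInv.IsFixedRing S R lam)
    (h : ∃ r : R, IsUnit (r - lam r)) : RInv.IsQuadEtale S R := by
  obtain ⟨hinj, hfix⟩ := hS
  obtain ⟨r, hu⟩ := h
  obtain ⟨u, hu'⟩ := hu
  have hlamlam : ∀ x, lam (lam x) = x := hlam
  have hlu : lam (u : R) = -u := by rw [hu', map_sub, hlamlam]; ring
  have huinv : (u : R) * (↑u⁻¹ : R) = 1 := u.mul_inv
  have hluinv : lam (↑u⁻¹ : R) = -(↑u⁻¹ : R) := by
    have h1 : lam (u : R) * lam (↑u⁻¹ : R) = 1 := by rw [← map_mul, huinv, map_one]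
    rw [hlu] at h1
    calc lam (↑u⁻¹ : R) = ((u : R) * ↑u⁻¹) * lam (↑u⁻¹ : R) := by rw [huinv, one_mul]
      _ = -(↑u⁻¹ : R) * (-(u : R) * lam (↑u⁻¹ : R)) := by ring
      _ = -(↑u⁻¹ : R) := by rw [h1, mul_one]
  -- coefficients
  have hb : ∀ x : R, ∃ b : S, algebraMap S R b = (x - lam x) * ↑u⁻¹ := by
    intro x
    have : lam ((x - lam x) * ↑u⁻¹) = (x - lam x) * ↑u⁻¹ := by
      rw [map_mul, map_sub, hlamlam, hluinv]; ring
    obtain ⟨b, hb⟩ := (hfix _).mp this
    exact ⟨b, hb⟩
  choose bc hbc using hb
  have ha : ∀ x : R, ∃ a : S, algebraMap S R a = x - algebraMap S R (bc x) * r := by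
    intro x
    have hfb : lam (algebraMap S R (bc x)) = algebraMap S R (bc x) := (hfix _).mpr ⟨_, rfl⟩
    have : lam (x - algebraMap S R (bc x) * r) = x - algebraMap S R (bc x) * r := by
      rw [map_sub, map_mul, hfb, hbc]
      have : lam r = r - u := by rw [hu']; ring
      rw [this]
      linear_combination (x - lam x) * huinv
    obtain ⟨a, ha⟩ := (hfix _).mp this
    exact ⟨a, ha⟩
  choose ac hac using ha
  let φ : (S × S) →ₗ[S] R := LinearMap.coprod (Algebra.linearMap S R) (LinearMap.toSpanSingleton S R r)
  have hφ : ∀ a b : S, φ (a, b) = algebraMap S R a + algebraMap S R b * r := by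
    intro a b
    simp [φ, Algebra.smul_def]
  have hφinj : Function.Injective φ := by
    rw [injective_iff_map_eq_zero]
    rintro ⟨a, b⟩ hab
    rw [hφ] at hab
    have hfa : lam (algebraMap S R a) = algebraMap S R a := (hfix _).mpr ⟨_, rfl⟩
    have hfb : lam (algebraMap S R b) = algebraMap S R b := (hfix _).mpr ⟨_, rfl⟩
    have h2 := congrArg lam hab
    rw [map_add, map_mul, hfa, hfb, map_zero] at h2
    have h3 : algebraMap S R b * u = 0 := by rw [hu']; linear_combination hab - h2
    have hb0 : algebraMap S R b = 0 := by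
      calc algebraMap S R b = algebraMap S R b * u * ↑u⁻¹ := by rw [mul_assoc, huinv, mul_one]
        _ = 0 := by rw [h3, zero_mul]
    have ha0 : algebraMap S R a = 0 := by rw [hb0, zero_mul, add_zero] at hab; exact hab
    rw [← map_zero (algebraMap S R)] at hb0 ha0
    rw [hinj ha0, hinj hb0]
    rfl
  have hφsurj : Function.Surjective φ := by
    intro x
    refine ⟨(ac x, bc x), ?_⟩
    rw [hφ, hac]; ring
  let e : (S × S) ≃ₗ[S] R := LinearEquiv.ofBijective φ ⟨hφinj, hφsurj⟩
  have hfree : Module.Free S R := Module.Free.of_equiv e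
  have hfin : Module.Finite S R := Module.Finite.equiv e
  refine ⟨hfin, inferInstance, ?_, ?_⟩
  · -- formally unramified
    constructor
    have hDr : KaehlerDifferential.D S R r = 0 := by
      obtain ⟨t, ht⟩ := (hfix (r + lam r)).mp (by rw [map_add, hlamlam, add_comm])
      obtain ⟨n, hn⟩ := (hfix (r * lam r)).mp (by rw [map_mul, hlamlam, mul_comm])
      have hrel : r * r = algebraMap S R t * r - algebraMap S R n := by rw [ht, hn]; ring
      have h1 := congrArg (KaehlerDifferential.D S R) hrel
      rw [Derivation.leibniz, map_sub, Derivation.leibniz, Derivation.map_algebraMap,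
        Derivation.map_algebraMap, smul_zero, add_zero, sub_zero] at h1
      have h2 : (u : R) • KaehlerDifferential.D S R r = 0 := by
        have : (u : R) = r + r - algebraMap S R t := by rw [ht, hu']; ring
        rw [this, sub_smul, add_smul, h1, sub_self]
      calc KaehlerDifferential.D S R r = (↑u⁻¹ : R) • ((u : R) • KaehlerDifferential.D S R r) := by
            rw [smul_smul, mul_comm, huinv, one_smul]
        _ = 0 := by rw [h2, smul_zero]
    have hD : ∀ x : R, KaehlerDifferential.D S R x = 0 := by
      intro x
      have hx : x = algebraMap S R (ac x) + algebraMap S R (bc x) * r := by rw [hac]; ring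
      rw [hx, map_add, Derivation.leibniz, Derivation.map_algebraMap, Derivation.map_algebraMap,
        hDr, smul_zero, smul_zero, add_zero, add_zero]
    have htop : (⊤ : Submodule R (Ω[R⁄S])) = ⊥ := by
      rw [← KaehlerDifferential.span_range_derivation, Submodule.span_eq_bot]
      rintro _ ⟨x, rfl⟩
      exact hD x
    exact (Submodule.subsingleton_iff R).mp (subsingleton_of_bot_eq_top htop.symm)
  · intro p
    have : Nontrivial S := p.nontrivial
    rw [Module.rankAtStalk_eq_finrank_of_free]
    simp only [Pi.natCast_apply]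
    rw [← e.finrank_eq, Module.finrank_prod, Module.finrank_self]
    norm_num

end Groth.Agent.S15573
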