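import Groth.Statements.S15574
import Mathlib
-- import your own Groth.Agent.* helpers here

set_option autoImplicit false
universe u v
open RInv

namespace Groth.Agent.S15574

/-- Let `R` be a commutative ring with an involution `lam` whose fixed ring `S` is local, and suppose
`R` is a quadratic etale `S`-algebra. Then some `r` in `R` has `r - lam r` invertible. -/
theorem result (S : Type u) (R : Type v) [CommRing S] [CommRing R]
    [Algebra S R] (lam : R ≃+* R) (hlam : Function.Involutive lam) (hS : RInv.IsFixedRing S R lam)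
    [IsLocalRing S] (hq : RInv.IsQuadEtale S R) : ∃ r : R, IsUnit (r - lam r) := by
  have hS' := hS
  obtain ⟨hinj, hfix⟩ := hS
  obtain ⟨hfin, hproj, hunr, hrank⟩ := hq
  have hlamlam : ∀ x, lam (lam x) = x := hlam
  have hlamS : ∀ s : S, lam (algebraMap S R s) = algebraMap S R s :=
    fun s => (hfix _).mpr ⟨s, rfl⟩
  haveI : Nontrivial R := hinj.nontrivial
  let lamA : R →ₐ[S] R := { (lam : R →+* R) with commutes' := hlamS }
  have hlamA : ∀ x, lamA x = lam x := fun _ => rfl
  let I : Ideal R := Ideal.span (Set.range fun r : R => lam r - r)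
  have hdI : ∀ r, lam r - r ∈ I := fun r => Ideal.subset_span ⟨r, rfl⟩
  -- unramifiedness: lam r - r ∈ I ^ 2
  have key : ∀ r, lam r - r ∈ I ^ 2 := by
    intro r
    let J : Ideal (R ⧸ I ^ 2) := I.map (Ideal.Quotient.mk (I ^ 2))
    have hJ : IsNilpotent J := by
      refine ⟨2, ?_⟩
      rw [← Ideal.map_pow, Ideal.zero_eq_bot, Ideal.map_eq_bot_iff_le_ker, Ideal.mk_ker]
    have heq : (Ideal.Quotient.mkₐ S (I ^ 2)).comp lamA = Ideal.Quotient.mkₐ S (I ^ 2) := by
      refine Algebra.FormallyUnramified.ext J hJ ?_
      intro x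
      rw [Ideal.Quotient.eq]
      simp only [AlgHom.comp_apply, Ideal.Quotient.mkₐ_eq_mk, hlamA]
      rw [← map_sub]
      exact Ideal.mem_map_of_mem _ (hdI x)
    have := AlgHom.congr_fun heq r
    simp only [AlgHom.comp_apply, Ideal.Quotient.mkₐ_eq_mk, hlamA] at this
    rwa [Ideal.Quotient.eq] at this
  have hII : I ≤ I ^ 2 := Ideal.span_le.mpr (by rintro _ ⟨r, rfl⟩; exact key r)
  have hidem : IsIdempotentElem I := by
    refine le_antisymm ?_ ?_
    · exact Ideal.mul_le_left
    · rw [← pow_two]; exact hII
  -- I is finitely generated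
  have hfg : I.FG := by
    classical
    obtain ⟨t, ht⟩ := hfin.fg_top
    refine ⟨t.image (fun r => lam r - r), ?_⟩
    refine le_antisymm (Ideal.span_le.mpr ?_) ?_
    · intro x hx
      rw [Finset.coe_image] at hx
      obtain ⟨r, -, rfl⟩ := hx
      exact hdI r
    · refine Ideal.span_le.mpr ?_
      rintro _ ⟨r, rfl⟩
      have hr : r ∈ Submodule.span S (t : Set R) := by rw [ht]; trivial
      induction hr using Submodule.span_induction with
      | mem x hx =>
        exact Ideal.subset_span (by simpa using ⟨x, hx, rfl⟩)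
      | zero => simp
      | add x y _ _ hx hy =>
        have : lam (x + y) - (x + y) = (lam x - x) + (lam y - y) := by rw [map_add]; ring
        change lam (x + y) - (x + y) ∈ _
        rw [this]; exact Ideal.add_mem _ hx hy
      | smul c x _ hx =>
        have : lam (c • x) - c • x = algebraMap S R c * (lam x - x) := by
          rw [Algebra.smul_def, map_mul, hlamS]; ring
        change lam (c • x) - c • x ∈ _
        rw [this]; exact Ideal.mul_mem_left _ _ hx
  obtain ⟨e, he, hIe⟩ := (Ideal.isIdempotentElem_iff_of_fg I hfg).mp hidem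
  -- lam e = e
  have hIlam : I ≤ I.comap (lam : R →+* R) := by
    refine Ideal.span_le.mpr ?_
    rintro _ ⟨r, rfl⟩
    change lam (lam r - r) ∈ I
    have : lam (lam r - r) = -(lam r - r) := by rw [map_sub, hlamlam]; ring
    rw [this]; exact I.neg_mem (hdI r)
  have heI : e ∈ I := by rw [hIe]; exact Ideal.mem_span_singleton_self e
  have hle : lam e = e := by
    have h1 : lam e ∈ I := hIlam heI
    rw [hIe, Ideal.mem_span_singleton'] at h1
    obtain ⟨c, hc⟩ := h1
    have h2 : lam e * e = lam e := by rw [← hc, mul_assoc, he.eq]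
    have h3 : e * lam e = e := by
      have := congrArg lam h2
      rwa [map_mul, hlamlam] at this
    rw [← h2, mul_comm, h3]
  obtain ⟨s₀, hs₀⟩ := (hfix e).mp hle
  have hs₀idem : s₀ * s₀ = s₀ := by
    apply hinj
    rw [map_mul, hs₀]; exact he.eq
  have hcases : s₀ = 0 ∨ s₀ = 1 := by
    have h0 : s₀ * (1 - s₀) = 0 := by rw [mul_sub, mul_one, hs₀idem, sub_self]
    rcases IsLocalRing.isUnit_or_isUnit_one_sub_self s₀ with hu | hu
    · right
      have := hu.mul_right_eq_zero.mp h0
      exact (sub_eq_zero.mp this).symm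
    · left
      exact hu.mul_left_eq_zero.mp h0
  rcases hcases with h0 | h1
  · -- I = ⊥, lam = id, R ≃ S: rank 1
    exfalso
    have hI0 : I = ⊥ := by rw [hIe, ← hs₀, h0, map_zero, Ideal.span_singleton_eq_bot]
    have hid : ∀ r, lam r = r := by
      intro r
      have := hdI r
      rw [hI0, Ideal.mem_bot, sub_eq_zero] at this
      exact this
    have hsurj : Function.Surjective (algebraMap S R) := fun r => (hfix r).mp (hid r)
    let eq : S ≃ₗ[S] R := LinearEquiv.ofBijective (Algebra.linearMap S R) ⟨hinj, hsurj⟩
    have h1 := Module.rankAtStalk_eq_of_equiv eq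
    have h2 := hrank (IsLocalRing.closedPoint S)
    rw [← h1, Module.rankAtStalk_self] at h2
    simp at h2
  · -- I = ⊤
    have hItop : I = ⊤ := by
      rw [hIe, ← hs₀, h1, map_one]; exact Ideal.span_singleton_one
    obtain ⟨M, hM⟩ := Ideal.exists_maximal R
    have hex : ∃ r, lam r - r ∉ M := by
      by_contra hcon
      push Not at hcon
      have : I ≤ M := Ideal.span_le.mpr (by rintro _ ⟨r, rfl⟩; exact hcon r)
      rw [hItop] at this
      exact hM.ne_top (top_le_iff.mp this)
    obtain ⟨r, hdM⟩ := hex
    have hM' : Ideal.IsMaximal M := hM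
    have hint : Algebra.IsIntegral S R := Algebra.IsIntegral.of_finite S R
    have hld : lam (lam r - r) = -(lam r - r) := by rw [map_sub, hlamlam]; ring
    have hM'max : (M.comap (lam : R →+* R)).IsMaximal :=
      Ideal.comap_isMaximal_of_surjective _ lam.surjective
    have hdM' : lam r - r ∉ M.comap (lam : R →+* R) := by
      intro hmem
      have : lam (lam r - r) ∈ M := hmem
      rw [hld] at this
      exact hdM (by simpa using M.neg_mem this)
    have hunit : IsUnit (lam r - r) := by
      by_contra hnu
      obtain ⟨N, hNmax, hdN⟩ := exists_max_ideal_of_mem_nonunits hnu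
      have hNM : ¬ N ≤ M := fun hle => hdM (hle hdN)
      have hNM' : ¬ N ≤ M.comap (lam : R →+* R) := fun hle => hdM' (hle hdN)
      have hnot : ¬ ((N : Set R) ⊆ (M : Set R) ∪ (M.comap (lam : R →+* R) : Ideal R)) := by
        intro hsub
        rcases Ideal.subset_union.mp hsub with h1 | h1
        · exact hNM h1
        · exact hNM' h1
      rw [Set.not_subset] at hnot
      obtain ⟨x, hxN, hxu⟩ := hnot
      have hxM : x ∉ M := fun hx => hxu (Or.inl hx)
      have hxM' : lam x ∉ M := fun hx => hxu (Or.inr hx)
      obtain ⟨s, hs⟩ := (hfix (x * lam x)).mp (by rw [map_mul, hlamlam, mul_comm])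
      have hsN : s ∈ N.comap (algebraMap S R) := by
        change algebraMap S R s ∈ N
        rw [hs]; exact N.mul_mem_right _ hxN
      haveI : (N.comap (algebraMap S R)).IsMaximal :=
        Ideal.isMaximal_comap_of_isIntegral_of_isMaximal N
      haveI : (M.comap (algebraMap S R)).IsMaximal :=
        Ideal.isMaximal_comap_of_isIntegral_of_isMaximal M
      have e1 := IsLocalRing.eq_maximalIdeal (R := S) (I := N.comap (algebraMap S R)) inferInstance
      have e2 := IsLocalRing.eq_maximalIdeal (R := S) (I := M.comap (algebraMap S R)) inferInstance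
      have hsM : s ∈ M.comap (algebraMap S R) := by rw [e2, ← e1]; exact hsN
      have : x * lam x ∈ M := by rw [← hs]; exact hsM
      rcases hM'.isPrime.mem_or_mem this with h1 | h1
      · exact hxM h1
      · exact hxM' h1
    refine ⟨r, ?_⟩
    have : r - lam r = -(lam r - r) := by ring
    rw [this]
    exact hunit.neg

end Groth.Agent.S15574
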