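import Groth.Statements.S15586
-- import your own Groth.Agent.* helpers here
import Mathlib

set_option autoImplicit false
universe u v w
open scoped TensorProduct
open RInv

namespace Groth.Agent.S15586

section helpers

variable {S : Type u} {R : Type v} {S' : Type w}
  [CommRing S] [CommRing R] [Algebra S R] [CommRing S'] [Algebra S S']

lemma lTensor_linearMap_eq (x : S' ⊗[S] S) :
    (Algebra.linearMap S R).lTensor S' x =
      algebraMap S' (S' ⊗[S] R) (TensorProduct.rid S S' x) := by
  induction x using TensorProduct.induction_on with
  | zero => simp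
  | tmul a b =>
    simp only [LinearMap.lTensor_tmul, Algebra.linearMap_apply, TensorProduct.rid_tmul,
      Algebra.TensorProduct.algebraMap_apply, Algebra.algebraMap_self, RingHom.id_apply]
    rw [Algebra.algebraMap_eq_smul_one, TensorProduct.smul_tmul]
  | add x y hx hy => simp only [map_add, hx, hy]

lemma algebraMap_eq_lTensor (s' : S') :
    algebraMap S' (S' ⊗[S] R) s' = (Algebra.linearMap S R).lTensor S' (s' ⊗ₜ[S] (1 : S)) := by
  simp [Algebra.TensorProduct.algebraMap_apply]

lemma congr_eq_lTensor (lam : R ≃ₐ[S] R) (z : S' ⊗[S] R) :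
    (Algebra.TensorProduct.congr (AlgEquiv.refl : S' ≃ₐ[S] S') lam).toRingEquiv z =
      lam.toLinearMap.lTensor S' z := by
  induction z using TensorProduct.induction_on with
  | zero => simp
  | tmul a b => simp
  | add x y hx hy =>
    rw [map_add, map_add, hx, hy]

end helpers


/-- Let `R` be a commutative ring with an involution `lam` and fixed ring `S`, and let `S'` be a
commutative `S`-algebra. If `S'` is flat over `S`, or if `2` is invertible in `S`, then `S'` is the
fixed ring of the base-changed involution `id ⊗ lam` of `S' ⊗_S R`: the structure map `S' → S' ⊗_S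
R` is injective with image the fixed elements. (In general the fixed ring does not commute with base
change.) -/
theorem result (S : Type u) (R : Type v) (S' : Type w)
    [CommRing S] [CommRing R] [Algebra S R] [CommRing S'] [Algebra S S']
    (lam : R ≃ₐ[S] R) (hlam : Function.Involutive lam)
    (hS : RInv.IsFixedRing S R lam.toRingEquiv)
    (h : Module.Flat S S' ∨ IsUnit (2 : S)) :
    RInv.IsFixedRing S' (S' ⊗[S] R)
      (Algebra.TensorProduct.congr (AlgEquiv.refl : S' ≃ₐ[S] S') lam).toRingEquiv := by
  obtain ⟨hinj, hfix⟩ := hS
  set i : S →ₗ[S] R := Algebra.linearMap S R with hi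
  set δ : R →ₗ[S] R := lam.toLinearMap - LinearMap.id with hδ
  have hex : Function.Exact i δ := by
    intro r
    have := hfix r
    simp only [hδ, LinearMap.sub_apply, sub_eq_zero, AlgEquiv.toLinearMap_apply,
      LinearMap.id_apply]
    exact this
  have hμ : ∀ z : S' ⊗[S] R,
      (Algebra.TensorProduct.congr (AlgEquiv.refl : S' ≃ₐ[S] S') lam).toRingEquiv z = z ↔
        δ.lTensor S' z = 0 := by
    intro z
    rw [congr_eq_lTensor, hδ, LinearMap.lTensor_sub, LinearMap.sub_apply, sub_eq_zero,
      LinearMap.lTensor_id, LinearMap.id_apply]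
  have hrange : ∀ z : S' ⊗[S] R, z ∈ Set.range (i.lTensor S') ↔
      z ∈ Set.range (algebraMap S' (S' ⊗[S] R)) := by
    intro z
    constructor
    · rintro ⟨x, rfl⟩
      exact ⟨_, (lTensor_linearMap_eq x).symm⟩
    · rintro ⟨s', rfl⟩
      exact ⟨_, (algebraMap_eq_lTensor s').symm⟩
  have hinj_of : Function.Injective (i.lTensor S') →
      Function.Injective (algebraMap S' (S' ⊗[S] R)) := by
    intro hinj' a b hab
    rw [algebraMap_eq_lTensor, algebraMap_eq_lTensor] at hab
    have := congrArg (TensorProduct.rid S S') (hinj' hab)
    simpa using this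
  rcases h with hflat | h2
  · have hex' := Module.Flat.lTensor_exact S' hex
    have hinj' : Function.Injective (i.lTensor S') :=
      Module.Flat.lTensor_preserves_injective_linearMap i hinj
    refine ⟨hinj_of hinj', fun z => ?_⟩
    rw [hμ, hex' z, hrange]
  · obtain ⟨c, hc⟩ := h2.exists_right_inv
    let p : R →ₗ[S] R := c • (LinearMap.id + lam.toLinearMap)
    have hp : ∀ r, p r ∈ LinearMap.range i := by
      intro r
      have : lam.toRingEquiv (p r) = p r := by
        simp only [p, LinearMap.smul_apply, LinearMap.add_apply, LinearMap.id_apply,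
          AlgEquiv.toLinearMap_apply]
        change lam (c • (r + lam r)) = _
        rw [map_smul, map_add, hlam r, add_comm]
      exact (hfix _).mp this
    let e := LinearEquiv.ofInjective i hinj
    let ρ : R →ₗ[S] S := e.symm.toLinearMap ∘ₗ p.codRestrict (LinearMap.range i) hp
    have hiρ : i ∘ₗ ρ = p := by
      apply LinearMap.ext
      intro r
      have h1 : e (ρ r) = p.codRestrict (LinearMap.range i) hp r := e.apply_symm_apply _
      exact congrArg Subtype.val h1
    have hρi : ρ ∘ₗ i = LinearMap.id := by
      apply LinearMap.ext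
      intro s
      apply hinj
      have h1 : i (ρ (i s)) = p (i s) := congrArg (fun f => f (i s)) hiρ
      have h2 : lam (i s) = i s := by
        have := (hfix (i s)).mpr ⟨s, rfl⟩
        exact this
      have h3 : p (i s) = i s := by
        simp only [p, LinearMap.smul_apply, LinearMap.add_apply, LinearMap.id_apply,
          AlgEquiv.toLinearMap_apply, h2]
        rw [← two_smul S (i s), smul_smul, mul_comm, hc, one_smul]
      exact h1.trans h3
    have hinj' : Function.Injective (i.lTensor S') := by
      apply Function.LeftInverse.injective (g := ρ.lTensor S')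
      intro x
      rw [← LinearMap.comp_apply, ← LinearMap.lTensor_comp, hρi, LinearMap.lTensor_id,
        LinearMap.id_apply]
    refine ⟨hinj_of hinj', fun z => ?_⟩
    rw [← hrange]
    constructor
    · intro hz
      rw [congr_eq_lTensor] at hz
      refine ⟨ρ.lTensor S' z, ?_⟩
      rw [← LinearMap.comp_apply, ← LinearMap.lTensor_comp, hiρ]
      simp only [p, LinearMap.lTensor_smul, LinearMap.lTensor_add, LinearMap.lTensor_id,
        LinearMap.smul_apply, LinearMap.add_apply, LinearMap.id_apply, hz]
      rw [← two_smul S z, smul_smul, mul_comm, hc, one_smul]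
    · rintro ⟨x, rfl⟩
      rw [hμ, ← LinearMap.comp_apply, ← LinearMap.lTensor_comp, hex.linearMap_comp_eq_zero,
        LinearMap.lTensor_zero, LinearMap.zero_apply]

end Groth.Agent.S15586
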