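import Groth.Statements.S15575
import Mathlib
import Groth.Agent.S15573
import Groth.Agent.S15574
import Groth.Agent.S15586
-- import your own Groth.Agent.* helpers here

set_option autoImplicit false
universe u v
open scoped TensorProduct
open RInv

namespace Groth.Agent.S15575

open TensorProduct in
theorem congr_tmul {S : Type u} {R : Type v} {S' : Type u} [CommRing S] [CommRing R] [Algebra S R]
    [CommRing S'] [Algebra S S'] (lamA : R ≃ₐ[S] R) (a : S') (r : R) :
    (Algebra.TensorProduct.congr (AlgEquiv.refl : S' ≃ₐ[S] S') lamA).toRingEquiv (a ⊗ₜ[S] r) =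
      a ⊗ₜ[S] lamA r := by
  simp

open TensorProduct in
theorem alg_tmul {S : Type u} {R : Type v} {S' : Type u} [CommRing S] [CommRing R] [Algebra S R]
    [CommRing S'] [Algebra S S'] (n : S) :
    algebraMap S' (S' ⊗[S] R) (algebraMap S S' n) = (1 : S') ⊗ₜ[S] (algebraMap S R n) := by
  rw [Algebra.TensorProduct.algebraMap_apply]
  simp only [Algebra.algebraMap_self, RingHom.id_apply]
  rw [Algebra.algebraMap_eq_smul_one, TensorProduct.smul_tmul, ← Algebra.algebraMap_eq_smul_one]

open TensorProduct in
theorem congr_involutive {S : Type u} {R : Type v} {S' : Type u} [CommRing S] [CommRing R]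
    [Algebra S R] [CommRing S'] [Algebra S S'] (lamA : R ≃ₐ[S] R)
    (hl : Function.Involutive lamA) :
    Function.Involutive
      (Algebra.TensorProduct.congr (AlgEquiv.refl : S' ≃ₐ[S] S') lamA).toRingEquiv := by
  intro x
  induction x using TensorProduct.induction_on with
  | zero => simp
  | tmul a r => rw [congr_tmul, congr_tmul, hl r]
  | add x y hx hy => rw [map_add, map_add, hx, hy]

/-- Let `R` be a commutative ring with an involution `lam` and fixed ring `S` (no finiteness assumed).
If the localisation of `R` at a prime `p` of `S` is quadratic etale over `S_p`, then there is `s ∉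
p` with `R[1/s]` quadratic etale over `S[1/s]`; in particular the set of such primes is open in
`Spec S`. Localisations of `R` are written as base changes `S_p ⊗ R` and `S_s ⊗ R`. -/
theorem result (S : Type u) (R : Type v) [CommRing S] [CommRing R]
    [Algebra S R] (lam : R ≃+* R) (hlam : Function.Involutive lam) (hS : RInv.IsFixedRing S R lam)
    (p : PrimeSpectrum S)
    (hp : RInv.IsQuadEtale (Localization.AtPrime p.asIdeal) (Localization.AtPrime p.asIdeal ⊗[S] R)) :
    ∃ s : S, s ∉ p.asIdeal ∧
      RInv.IsQuadEtale (Localization.Away s) (Localization.Away s ⊗[S] R) := by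
  have hS' := hS
  obtain ⟨hinj, hfix⟩ := hS
  have hlamlam : ∀ x, lam (lam x) = x := hlam
  have hlamS : ∀ s : S, lam (algebraMap S R s) = algebraMap S R s :=
    fun s => (hfix _).mpr ⟨s, rfl⟩
  let lamA : R ≃ₐ[S] R := { lam with commutes' := hlamS }
  have hlamA : ∀ x, lamA x = lam x := fun _ => rfl
  have hlA : Function.Involutive lamA := hlam
  have hSA : RInv.IsFixedRing S R lamA.toRingEquiv := ⟨hinj, hfix⟩
  -- local situation
  have hFixp := Groth.Agent.S15586.result S R (Localization.AtPrime p.asIdeal) lamA hlA hSA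
    (Or.inl inferInstance)
  have hInvp := congr_involutive (S' := Localization.AtPrime p.asIdeal) lamA hlA
  obtain ⟨ρ, hρ⟩ := Groth.Agent.S15574.result _ _ _ hInvp hFixp hp
  obtain ⟨⟨r, u⟩, hru⟩ := IsLocalizedModule.surj p.asIdeal.primeCompl
    (TensorProduct.mk S (Localization.AtPrime p.asIdeal) R 1) ρ
  simp only [TensorProduct.mk_apply] at hru
  set Lp := (Algebra.TensorProduct.congr
    (AlgEquiv.refl : Localization.AtPrime p.asIdeal ≃ₐ[S] Localization.AtPrime p.asIdeal)
      lamA).toRingEquiv with hLp
  set d : R := r - lam r with hd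
  have hu_unit : IsUnit (algebraMap S (Localization.AtPrime p.asIdeal ⊗[S] R) (u : S)) := by
    rw [IsScalarTower.algebraMap_apply S (Localization.AtPrime p.asIdeal)]
    exact (IsLocalization.map_units (Localization.AtPrime p.asIdeal) u).map _
  have hLp_smul : ∀ (c : S) (x : Localization.AtPrime p.asIdeal ⊗[S] R),
      Lp (c • x) = c • Lp x := by
    intro c x
    rw [hLp]
    exact map_smul (Algebra.TensorProduct.congr
      (AlgEquiv.refl : Localization.AtPrime p.asIdeal ≃ₐ[S] Localization.AtPrime p.asIdeal)
      lamA) c x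
  have h1d : IsUnit ((1 : Localization.AtPrime p.asIdeal) ⊗ₜ[S] d) := by
    have h1 : (1 : Localization.AtPrime p.asIdeal) ⊗ₜ[S] d = (u : S) • (ρ - Lp ρ) := by
      rw [smul_sub, ← hLp_smul]
      change _ = u • ρ - Lp (u • ρ)
      rw [hru, hLp, congr_tmul, hlamA, ← TensorProduct.tmul_sub]
    rw [h1, Algebra.smul_def]
    exact hu_unit.mul hρ
  obtain ⟨n, hn⟩ := (hfix (d * lam d)).mp (by rw [map_mul, hlamlam, mul_comm])
  -- n is a unit in S_p
  have hnp : n ∉ p.asIdeal := by
    have h2 : IsUnit (algebraMap (Localization.AtPrime p.asIdeal)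
        (Localization.AtPrime p.asIdeal ⊗[S] R) (algebraMap S _ n)) := by
      have : algebraMap (Localization.AtPrime p.asIdeal)
          (Localization.AtPrime p.asIdeal ⊗[S] R) (algebraMap S _ n) =
          ((1 : Localization.AtPrime p.asIdeal) ⊗ₜ[S] d) * Lp (1 ⊗ₜ[S] d) := by
        rw [hLp, congr_tmul, hlamA, Algebra.TensorProduct.tmul_mul_tmul, one_mul, ← hn, alg_tmul]
      rw [this]
      exact h1d.mul (h1d.map Lp)
    obtain ⟨v, hv⟩ := h2.exists_right_inv
    have hLv : Lp v = v := by
      have hfixa : Lp (algebraMap (Localization.AtPrime p.asIdeal)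
          (Localization.AtPrime p.asIdeal ⊗[S] R) (algebraMap S _ n)) =
          algebraMap (Localization.AtPrime p.asIdeal)
          (Localization.AtPrime p.asIdeal ⊗[S] R) (algebraMap S _ n) :=
        (hFixp.2 _).mpr ⟨_, rfl⟩
      have h3 := congrArg Lp hv
      rw [map_mul, hfixa, map_one] at h3
      calc Lp v = (v * algebraMap (Localization.AtPrime p.asIdeal)
          (Localization.AtPrime p.asIdeal ⊗[S] R) (algebraMap S _ n)) * Lp v := by
            rw [mul_comm v, hv, one_mul]
        _ = v * (algebraMap (Localization.AtPrime p.asIdeal)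
          (Localization.AtPrime p.asIdeal ⊗[S] R) (algebraMap S _ n) * Lp v) := by ring
        _ = v := by rw [h3, mul_one]
    obtain ⟨w, hw⟩ := (hFixp.2 v).mp hLv
    have h4 : algebraMap S (Localization.AtPrime p.asIdeal) n * w = 1 := by
      apply hFixp.1
      rw [map_mul, hw, hv, map_one]
    have h5 : IsUnit (algebraMap S (Localization.AtPrime p.asIdeal) n) :=
      isUnit_iff_exists_inv.mpr ⟨w, h4⟩
    intro hmem
    exact (IsLocalization.AtPrime.isUnit_to_map_iff (Localization.AtPrime p.asIdeal)
      p.asIdeal n).mp h5 hmem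
  refine ⟨n, hnp, ?_⟩
  have hFixs := Groth.Agent.S15586.result S R (Localization.Away n) lamA hlA hSA
    (Or.inl inferInstance)
  have hInvs := congr_involutive (S' := Localization.Away n) lamA hlA
  refine Groth.Agent.S15573.result _ _ _ hInvs hFixs ⟨(1 : Localization.Away n) ⊗ₜ[S] r, ?_⟩
  rw [congr_tmul, hlamA, ← TensorProduct.tmul_sub]
  have h6 : ((1 : Localization.Away n) ⊗ₜ[S] (r - lam r)) * (1 ⊗ₜ[S] lam (r - lam r)) =
      algebraMap (Localization.Away n) (Localization.Away n ⊗[S] R) (algebraMap S _ n) := by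
    rw [Algebra.TensorProduct.tmul_mul_tmul, one_mul, ← hd, ← hn, alg_tmul]
  have h7 : IsUnit (algebraMap (Localization.Away n) (Localization.Away n ⊗[S] R)
      (algebraMap S _ n)) :=
    (IsLocalization.Away.algebraMap_isUnit n).map _
  rw [← h6] at h7
  exact isUnit_of_mul_isUnit_left h7

end Groth.Agent.S15575
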