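import Groth.Statements.S15576
import Groth.Agent.S15573
import Mathlib.RingTheory.Jacobson.Radical
import Mathlib.RingTheory.Ideal.GoingUp
import Mathlib.RingTheory.Ideal.Operations
import Mathlib.Tactic.LinearCombination
import Mathlib.Tactic.Ring

set_option autoImplicit false
universe u v
open RInv

namespace Groth.Agent.S15576

/-- Let `R` be a commutative ring with an involution `lam` whose fixed ring `S` is local. If the
automorphism induced by `lam` on `R` modulo its Jacobson radical is not the identity, then `R` is a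
quadratic etale `S`-algebra. -/
theorem result (S : Type u) (R : Type v) [CommRing S] [CommRing R]
    [Algebra S R] (lam : R ≃+* R) (hlam : Function.Involutive lam) (hS : RInv.IsFixedRing S R lam)
    [IsLocalRing S] (h : ∃ r : R, lam r - r ∉ Ring.jacobson R) : RInv.IsQuadEtale S R := by
  have hS' := hS
  obtain ⟨hinj, hfix⟩ := hS
  obtain ⟨r, hr⟩ := h
  have hlamlam : ∀ x, lam (lam x) = x := hlam
  -- every element is integral over S
  have hint : Algebra.IsIntegral S R := by
    refine ⟨fun x => ?_⟩
    obtain ⟨t, ht⟩ := (hfix (x + lam x)).mp (by rw [map_add, hlamlam, add_comm])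
    obtain ⟨n, hn⟩ := (hfix (x * lam x)).mp (by rw [map_mul, hlamlam, mul_comm])
    refine ⟨Polynomial.X ^ 2 + (- Polynomial.C t * Polynomial.X + Polynomial.C n), ?_, ?_⟩
    · refine Polynomial.monic_X_pow_add ?_
      refine lt_of_le_of_lt (Polynomial.degree_add_le _ _) ?_
      refine max_lt ?_ (lt_of_le_of_lt Polynomial.degree_C_le (by norm_num))
      rw [← Polynomial.C_neg]
      exact lt_of_le_of_lt (Polynomial.degree_C_mul_X_le _) (by norm_num)
    · simp only [Polynomial.eval₂_add, Polynomial.eval₂_neg, Polynomial.eval₂_pow,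
        Polynomial.eval₂_X, Polynomial.eval₂_mul, Polynomial.eval₂_C, ht, hn]
      ring
  -- d is not in some maximal ideal M
  rw [Ring.jacobson_eq_sInf_isMaximal, Submodule.mem_sInf] at hr
  push Not at hr
  obtain ⟨M', hM, hdM⟩ := hr
  obtain ⟨M, rfl⟩ : ∃ M : Ideal R, M = M' := ⟨M', rfl⟩
  have hM' : Ideal.IsMaximal M := hM
  have hld : lam (lam r - r) = -(lam r - r) := by rw [map_sub, hlamlam]; ring
  -- the conjugate ideal
  have hM'max : (M.comap (lam : R →+* R)).IsMaximal :=
    Ideal.comap_isMaximal_of_surjective _ lam.surjective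
  have hdM' : lam r - r ∉ M.comap (lam : R →+* R) := by
    intro hmem
    have : lam (lam r - r) ∈ M := hmem
    rw [hld] at this
    exact hdM (by simpa using M.neg_mem this)
  -- d is a unit: it lies in no maximal ideal
  have hunit : IsUnit (lam r - r) := by
    by_contra hnu
    obtain ⟨N, hNmax, hdN⟩ := exists_max_ideal_of_mem_nonunits hnu
    have hNM : ¬ N ≤ M := fun hle => hdM (hle hdN)
    have hNM' : ¬ N ≤ M.comap (lam : R →+* R) := fun hle => hdM' (hle hdN)
    have hnot : ¬ ((N : Set R) ⊆ (M : Set R) ∪ (M.comap (lam : R →+* R) : Ideal R)) := by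
      intro hsub
      rcases Ideal.subset_union.mp hsub with h1 | h1
      · exact hNM h1
      · exact hNM' h1
    rw [Set.not_subset] at hnot
    obtain ⟨x, hxN, hxu⟩ := hnot
    have hxM : x ∉ M := fun hx => hxu (Or.inl hx)
    have hxM' : lam x ∉ M := fun hx => hxu (Or.inr hx)
    obtain ⟨s, hs⟩ := (hfix (x * lam x)).mp (by rw [map_mul, hlamlam, mul_comm])
    have hsN : s ∈ N.comap (algebraMap S R) := by
      change algebraMap S R s ∈ N
      rw [hs]; exact N.mul_mem_right _ hxN
    haveI : (N.comap (algebraMap S R)).IsMaximal :=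
      Ideal.isMaximal_comap_of_isIntegral_of_isMaximal N
    haveI : (M.comap (algebraMap S R)).IsMaximal :=
      Ideal.isMaximal_comap_of_isIntegral_of_isMaximal M
    have e1 := IsLocalRing.eq_maximalIdeal (R := S) (I := N.comap (algebraMap S R)) inferInstance
    have e2 := IsLocalRing.eq_maximalIdeal (R := S) (I := M.comap (algebraMap S R)) inferInstance
    have hsM : s ∈ M.comap (algebraMap S R) := by rw [e2, ← e1]; exact hsN
    have : x * lam x ∈ M := by rw [← hs]; exact hsM
    rcases hM'.isPrime.mem_or_mem this with h1 | h1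
    · exact hxM h1
    · exact hxM' h1
  refine Groth.Agent.S15573.result S R lam hlam hS' ⟨r, ?_⟩
  have : r - lam r = -(lam r - r) := by ring
  rw [this]
  exact hunit.neg

end Groth.Agent.S15576
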