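import Groth.Statements.S15577
import Mathlib
import Groth.Agent.S15574
-- import your own Groth.Agent.* helpers here

set_option autoImplicit false
universe u v
open RInv

namespace Groth.Agent.S15577

/-- Let `R` be a commutative ring with an involution `lam` whose fixed ring `S` is local. If `lam`
induces the identity on `R` modulo its Jacobson radical, then `R` is a local ring and is not a
quadratic etale `S`-algebra. -/
theorem result (S : Type u) (R : Type v) [CommRing S] [CommRing R]
    [Algebra S R] (lam : R ≃+* R) (hlam : Function.Involutive lam) (hS : RInv.IsFixedRing S R lam)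
    [IsLocalRing S] (h : ∀ r : R, lam r - r ∈ Ring.jacobson R) :
    IsLocalRing R ∧ ¬ RInv.IsQuadEtale S R := by
  have hS' := hS
  obtain ⟨hinj, hfix⟩ := hS
  have hlamlam : ∀ x, lam (lam x) = x := hlam
  haveI : Nontrivial R := hinj.nontrivial
  have hint : Algebra.IsIntegral S R := by
    refine ⟨fun x => ?_⟩
    obtain ⟨t, ht⟩ := (hfix (x + lam x)).mp (by rw [map_add, hlamlam, add_comm])
    obtain ⟨n, hn⟩ := (hfix (x * lam x)).mp (by rw [map_mul, hlamlam, mul_comm])
    refine ⟨Polynomial.X ^ 2 + (- Polynomial.C t * Polynomial.X + Polynomial.C n), ?_, ?_⟩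
    · refine Polynomial.monic_X_pow_add ?_
      refine lt_of_le_of_lt (Polynomial.degree_add_le _ _) ?_
      refine max_lt ?_ (lt_of_le_of_lt Polynomial.degree_C_le (by norm_num))
      rw [← Polynomial.C_neg]
      exact lt_of_le_of_lt (Polynomial.degree_C_mul_X_le _) (by norm_num)
    · simp only [Polynomial.eval₂_add, Polynomial.eval₂_neg, Polynomial.eval₂_pow,
        Polynomial.eval₂_X, Polynomial.eval₂_mul, Polynomial.eval₂_C, ht, hn]
      ring
  have hjac : ∀ (M : Ideal R), M.IsMaximal → ∀ r, lam r - r ∈ M := by
    intro M hM r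
    have h1 := h r
    rw [Ring.jacobson_eq_sInf_isMaximal, Submodule.mem_sInf] at h1
    exact h1 M hM
  have hle : ∀ (M N : Ideal R), M.IsMaximal → N.IsMaximal → M ≤ N := by
    intro M N hM hN x hxM
    obtain ⟨s, hs⟩ := (hfix (x * lam x)).mp (by rw [map_mul, hlamlam, mul_comm])
    have hsM : s ∈ M.comap (algebraMap S R) := by
      change algebraMap S R s ∈ M
      rw [hs]; exact M.mul_mem_right _ hxM
    haveI : (N.comap (algebraMap S R)).IsMaximal :=
      Ideal.isMaximal_comap_of_isIntegral_of_isMaximal N
    haveI : (M.comap (algebraMap S R)).IsMaximal :=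
      Ideal.isMaximal_comap_of_isIntegral_of_isMaximal M
    have e1 := IsLocalRing.eq_maximalIdeal (R := S) (I := N.comap (algebraMap S R)) inferInstance
    have e2 := IsLocalRing.eq_maximalIdeal (R := S) (I := M.comap (algebraMap S R)) inferInstance
    have hsN : s ∈ N.comap (algebraMap S R) := by rw [e1, ← e2]; exact hsM
    have hxN : x * lam x ∈ N := by rw [← hs]; exact hsN
    rcases hN.isPrime.mem_or_mem hxN with h1 | h1
    · exact h1
    · have h2 := hjac N hN x
      have : x = lam x - (lam x - x) := by ring
      rw [this]; exact N.sub_mem h1 h2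
  refine ⟨?_, ?_⟩
  · obtain ⟨M, hM⟩ := Ideal.exists_maximal R
    refine IsLocalRing.of_unique_max_ideal ⟨M, hM, ?_⟩
    intro N hN
    exact le_antisymm (hle N M hN hM) (hle M N hM hN)
  · intro hq
    obtain ⟨r, hr⟩ := Groth.Agent.S15574.result S R lam hlam hS' hq
    obtain ⟨M, hM⟩ := Ideal.exists_maximal R
    have h1 := hjac M hM r
    have h2 : r - lam r ∈ M := by
      have : r - lam r = -(lam r - r) := by ring
      rw [this]; exact M.neg_mem h1
    exact hM.ne_top (Ideal.eq_top_of_isUnit_mem _ h2 hr)

end Groth.Agent.S15577
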