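import Groth.Statements.S15578
import Mathlib
import Groth.Agent.Lib.Helper12.HenselIntegralLocal2
import Groth.Agent.Lib.Helper12.HenselFinite
import Groth.Agent.Lib.Helper12.IdemLiftIntegral
import Groth.Agent.Lib.Helper12.GabberHensel

set_option autoImplicit false
universe u v
open RInv

namespace Groth.Agent.S15578

/-- Let `R` be a commutative ring with an involution `lam` whose fixed ring `S` is strictly henselian
(henselian local with separably closed residue field). Then `R` is isomorphic to a product of
finitely many strictly henselian local rings (existence of a ring isomorphism with such a product). -/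
theorem result (S : Type u) (R : Type v) [CommRing S] [CommRing R]
    [Algebra S R] (lam : R ≃+* R) (hlam : Function.Involutive lam) (hS : RInv.IsFixedRing S R lam)
    [HenselianLocalRing S] [IsSepClosed (IsLocalRing.ResidueField S)] :
    ∃ (ι : Type) (_ : Fintype ι) (T : ι → Type v) (_ : ∀ i, CommRing (T i))
      (_ : ∀ i, HenselianLocalRing (T i)),
      (∀ i, IsSepClosed (IsLocalRing.ResidueField (T i))) ∧ Nonempty (R ≃+* (∀ i, T i)) := by
  classical
  obtain ⟨hinj, hfix⟩ := hS
  -- integrality
  haveI hint : Algebra.IsIntegral S R := by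
    refine ⟨fun r => ?_⟩
    have ht : lam (r + lam r) = r + lam r := by rw [map_add, hlam r, add_comm]
    have hn : lam (r * lam r) = r * lam r := by rw [map_mul, hlam r, mul_comm]
    obtain ⟨t, ht'⟩ := (hfix _).mp ht
    obtain ⟨n, hn'⟩ := (hfix _).mp hn
    refine ⟨Polynomial.X ^ 2 + (Polynomial.C (-t) * Polynomial.X + Polynomial.C n), ?_, ?_⟩
    · apply Polynomial.monic_X_pow_add
      exact lt_of_le_of_lt Polynomial.degree_linear_le (by norm_num)
    · rw [Polynomial.eval₂_add, Polynomial.eval₂_add, Polynomial.eval₂_mul, Polynomial.eval₂_pow,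
        Polynomial.eval₂_X, Polynomial.eval₂_C, Polynomial.eval₂_C, map_neg, ht', hn']
      ring
  haveI : Nontrivial R := hinj.nontrivial
  -- the conjugate of an ideal
  have hlamsurj : Function.Surjective (lam : R →+* R) := lam.surjective
  have hmaxconj : ∀ M : Ideal R, M.IsMaximal → (Ideal.comap (lam : R →+* R) M).IsMaximal :=
    fun M hM => Ideal.comap_isMaximal_of_surjective _ hlamsurj
  have hmS : ∀ M : Ideal R, M.IsMaximal →
      (IsLocalRing.maximalIdeal S).map (algebraMap S R) ≤ M := fun M hM =>
    Groth.Agent.Lib.Helper12.HensInt.map_maximalIdeal_le_of_isMaximal S R M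
  -- any two maximal ideals are equal or conjugate
  have key1 : ∀ M M' : Ideal R, M.IsMaximal → M'.IsMaximal →
      M' = M ∨ M' = Ideal.comap (lam : R →+* R) M := by
    intro M M' hM hM'
    by_contra h
    push_neg at h
    obtain ⟨h1, h2⟩ := h
    have hnot : ¬ ((M' : Set R) ⊆ (M : Set R) ∪ (Ideal.comap (lam : R →+* R) M : Set R)) := by
      intro hsub
      rcases Ideal.subset_union.mp hsub with hle | hle
      · exact h1 (hM'.eq_of_le hM.ne_top hle)
      · exact h2 (hM'.eq_of_le (hmaxconj M hM).ne_top hle)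
    obtain ⟨x, hxM', hx⟩ := Set.not_subset.mp hnot
    have hx1 : x ∉ M := fun h => hx (Or.inl h)
    have hx2 : lam x ∉ M := fun h => hx (Or.inr h)
    have hn : lam (x * lam x) = x * lam x := by rw [map_mul, hlam x, mul_comm]
    obtain ⟨s, hs⟩ := (hfix _).mp hn
    have hsm : s ∈ IsLocalRing.maximalIdeal S := by
      by_contra hns
      have hu : IsUnit s := by
        by_contra h'
        exact hns h'
      have hu' : IsUnit (x * lam x) := hs ▸ hu.map (algebraMap S R)
      exact hM'.ne_top (Ideal.eq_top_of_isUnit_mem _ (M'.mul_mem_right _ hxM') hu')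
    have hmem : x * lam x ∈ M := hs ▸ hmS M hM (Ideal.mem_map_of_mem _ hsm)
    rcases hM.isPrime.mem_or_mem hmem with h | h
    · exact hx1 h
    · exact hx2 h
  obtain ⟨M₀, hM₀⟩ := Ideal.exists_maximal R
  by_cases hcase : Ideal.comap (lam : R →+* R) M₀ = M₀
  · -- `R` is local
    haveI hloc : IsLocalRing R := by
      refine IsLocalRing.of_unique_max_ideal ⟨M₀, hM₀, fun M' hM' => ?_⟩
      rcases key1 M₀ M' hM₀ hM' with h | h
      · exact h
      · rw [h, hcase]
    have hHL : HenselianLocalRing R :=
      Groth.Agent.Lib.Helper12.HensInt.henselianLocalRing_of_isIntegral S R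
    have hsc : IsSepClosed (IsLocalRing.ResidueField R) :=
      Groth.Agent.Lib.Helper12.HensInt.isSepClosed_residueField_of_isIntegral S R
    exact ⟨Unit, inferInstance, fun _ => R, fun _ => inferInstance, fun _ => hHL, fun _ => hsc,
      ⟨(RingEquiv.piUnique (fun _ : Unit => R)).symm⟩⟩
  · -- two maximal ideals
    set M₁ : Ideal R := Ideal.comap (lam : R →+* R) M₀ with hM₁def
    have hM₁ : M₁.IsMaximal := hmaxconj M₀ hM₀
    have hne : M₀ ≠ M₁ := fun h => hcase h.symm
    have hall : ∀ Q : Ideal R, Q.IsMaximal → Q = M₀ ∨ Q = M₁ := fun Q hQ => key1 M₀ Q hM₀ hQ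
    have hcop : M₀ ⊔ M₁ = ⊤ := hM₀.coprime_of_ne hM₁ hne
    obtain ⟨a, ha, b, hb, hab⟩ := Submodule.mem_sup.mp (hcop ▸ (Submodule.mem_top : (1 : R) ∈ ⊤))
    set J : Ideal R := M₀ ⊓ M₁ with hJdef
    have hbJ : b * b - b ∈ J := by
      have : b * b - b = -(a * b) := by
        have : a = 1 - b := by rw [← hab]; ring
        rw [this]; ring
      rw [this]
      exact ⟨neg_mem (M₀.mul_mem_right _ ha), neg_mem (M₁.mul_mem_left _ hb)⟩
    haveI hH1 : HenselianRing R ((IsLocalRing.maximalIdeal S).map (algebraMap S R)) :=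
      Groth.Agent.Lib.Helper12.HensInt.henselianRing_map_of_isIntegral S
        (IsLocalRing.maximalIdeal S) R
    haveI hHJ : HenselianRing R J := by
      apply Groth.Agent.Lib.Helper12.henselianRing_of_le_radical
        ((IsLocalRing.maximalIdeal S).map (algebraMap S R)) J
        (le_inf (hmS M₀ hM₀) (hmS M₁ hM₁))
      intro x hx
      rw [Ideal.radical_eq_sInf, Ideal.mem_sInf]
      rintro P ⟨hle, hP⟩
      haveI := hP
      have hPmax : P.IsMaximal :=
        Groth.Agent.Lib.Helper12.HensInt.isMaximal_of_map_maximalIdeal_le S R P hle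
      rcases hall P hPmax with h | h
      · rw [h]; exact hx.1
      · rw [h]; exact hx.2
    have hmapid : J.map (algebraMap R R) = J := by
      have : algebraMap R R = RingHom.id R := rfl
      rw [this, Ideal.map_id]
    obtain ⟨e, he, hdiff⟩ := Groth.Agent.Lib.Helper12.exists_idempotent_lift_of_isIntegral
      (A := R) (I := J) HenselianRing.jac
      (Groth.Agent.Lib.Helper12.factorLift_of_henselianRing (I := J)) (B := R) b
      (by rw [hmapid]; exact hbJ)
    rw [hmapid] at hdiff
    have heM₁ : e ∈ M₁ := by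
      have : e = (e - b) + b := by ring
      rw [this]
      exact M₁.add_mem hdiff.2 hb
    have heM₀ : 1 - e ∈ M₀ := by
      have : 1 - e = a - (e - b) := by rw [← hab]; ring
      rw [this]
      exact M₀.sub_mem ha hdiff.1
    have hne0 : e ≠ 0 := by
      intro h
      rw [h, sub_zero] at heM₀
      exact hM₀.ne_top ((Ideal.eq_top_iff_one _).mpr heM₀)
    have hne1 : 1 - e ≠ 0 := by
      intro h
      have : e = 1 := by linear_combination -h
      rw [this] at heM₁
      exact hM₁.ne_top ((Ideal.eq_top_iff_one _).mpr heM₁)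
    have hl0 : IsLocalRing (R ⧸ Ideal.span {1 - e}) := by
      refine Groth.Agent.Lib.Helper12.isLocalRing_quotient_of_idem e he hne0 ?_
      intro Q₁ Q₂ hQ₁ hQ₂ h1 h2
      have e1 : Q₁ = M₀ := by
        rcases hall Q₁ hQ₁ with h | h
        · exact h
        · exact absurd (h ▸ heM₁) h1
      have e2 : Q₂ = M₀ := by
        rcases hall Q₂ hQ₂ with h | h
        · exact h
        · exact absurd (h ▸ heM₁) h2
      rw [e1, e2]
    have hl1 : IsLocalRing (R ⧸ Ideal.span {1 - (1 - e)}) := by
      refine Groth.Agent.Lib.Helper12.isLocalRing_quotient_of_idem (1 - e) he.one_sub hne1 ?_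
      intro Q₁ Q₂ hQ₁ hQ₂ h1 h2
      have e1 : Q₁ = M₁ := by
        rcases hall Q₁ hQ₁ with h | h
        · exact absurd (h ▸ heM₀) h1
        · exact h
      have e2 : Q₂ = M₁ := by
        rcases hall Q₂ hQ₂ with h | h
        · exact absurd (h ▸ heM₀) h2
        · exact h
      rw [e1, e2]
    have hE : CompleteOrthogonalIdempotents ![e, 1 - e] :=
      CompleteOrthogonalIdempotents.of_isIdempotentElem he
    have hloc : ∀ i : Fin 2, IsLocalRing (R ⧸ Ideal.span {1 - (![e, 1 - e] : Fin 2 → R) i}) := by
      intro i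
      fin_cases i
      · exact hl0
      · exact hl1
    refine ⟨Fin 2, inferInstance, fun i => R ⧸ Ideal.span {1 - (![e, 1 - e] : Fin 2 → R) i},
      fun i => inferInstance,
      fun i => @Groth.Agent.Lib.Helper12.HensInt.henselianLocalRing_of_isIntegral S _ _ _ _
        (hloc i) _ _,
      fun i => @Groth.Agent.Lib.Helper12.HensInt.isSepClosed_residueField_of_isIntegral S _ _ _ _ _
        (hloc i) _ _,
      ⟨RingEquiv.ofBijective _ hE.bijective_pi⟩⟩

end Groth.Agent.S15578
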