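import Groth.Statements.S15579
import Mathlib.RingTheory.Unramified.LocalRing
import Mathlib.RingTheory.Jacobson.Radical
import Mathlib.RingTheory.Artinian.Ring
import Mathlib.RingTheory.Ideal.GoingUp

set_option autoImplicit false
universe u v
open RInv

namespace Groth.Agent.S15579

set_option backward.inferInstanceAs.wrap.data false in
theorem aux (S : Type u) (R : Type v) [CommRing S]
    [CommRing R] [Algebra S R] [IsLocalRing S] (hq : RInv.IsQuadEtale S R) :
    Ring.jacobson R = (IsLocalRing.maximalIdeal S).map (algebraMap S R) := by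
  obtain ⟨hfin, _, hunr, _⟩ := hq
  apply le_antisymm
  · -- Jac R ≤ mR
    let mR := (IsLocalRing.maximalIdeal S).map (algebraMap S R)
    let _ : Algebra (IsLocalRing.ResidueField S) (R ⧸ mR) :=
      (inferInstanceAs <| Algebra (S ⧸ _) _)
    have : IsScalarTower S (IsLocalRing.ResidueField S) (R ⧸ mR) :=
      (inferInstanceAs <| IsScalarTower S (S ⧸ _) _)
    have : Algebra.FormallyUnramified (IsLocalRing.ResidueField S) (R ⧸ mR) :=
      .of_restrictScalars S _ _
    have : Module.Finite (IsLocalRing.ResidueField S) (R ⧸ mR) :=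
      Module.Finite.of_restrictScalars_finite S _ _
    have : IsReduced (R ⧸ mR) :=
      Algebra.FormallyUnramified.isReduced_of_field (IsLocalRing.ResidueField S) (R ⧸ mR)
    have : IsArtinianRing (R ⧸ mR) := isArtinian_of_tower (IsLocalRing.ResidueField S) inferInstance
    have hJ : Ring.jacobson (R ⧸ mR) = ⊥ := by
      rw [← Ideal.jacobson_bot, IsArtinianRing.jacobson_eq_radical, ← Ideal.zero_eq_bot,
        ← nilradical, nilradical_eq_zero]
    intro x hx
    have h1 := Ring.le_comap_jacobson (Ideal.Quotient.mk mR) hx
    rw [Ideal.mem_comap, hJ, Ideal.mem_bot, Ideal.Quotient.eq_zero_iff_mem] at h1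
    exact h1
  · rw [Ring.jacobson_eq_sInf_isMaximal]
    refine le_sInf fun M hM => ?_
    have hM' : M.IsMaximal := hM
    have : Algebra.IsIntegral S R := Algebra.IsIntegral.of_finite S R
    have hc : (M.comap (algebraMap S R)).IsMaximal :=
      Ideal.isMaximal_comap_of_isIntegral_of_isMaximal M
    rw [← IsLocalRing.eq_maximalIdeal hc]
    exact Ideal.map_comap_le


/-- For a local ring `S` with maximal ideal `m` and a quadratic etale `S`-algebra `R`, the Jacobson
radical of `R` is `mR`. -/
theorem result (S : Type u) (R : Type v) [CommRing S]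
    [CommRing R] [Algebra S R] [IsLocalRing S] (hq : RInv.IsQuadEtale S R) :
    Ring.jacobson R = (IsLocalRing.maximalIdeal S).map (algebraMap S R) := by
  exact aux S R hq

end Groth.Agent.S15579
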