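import Groth.Statements.S15580
import Mathlib
import Groth.Agent.S15574
-- import your own Groth.Agent.* helpers here

set_option autoImplicit false
universe u v
open RInv

namespace Groth.Agent.S15580

theorem isUnit_of_notMem (S : Type u) (R : Type v) [CommRing S] [CommRing R]
    [Algebra S R] (lam : R ≃+* R) (hlam : Function.Involutive lam)
    (hfix : ∀ r : R, lam r = r ↔ r ∈ Set.range (algebraMap S R))
    [IsLocalRing S] (M : Ideal R) (hM : M.IsMaximal) (d : R) (hdM : d ∉ M)
    (hdM' : d ∉ M.comap (lam : R →+* R)) : IsUnit d := by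
  have hlamlam : ∀ x, lam (lam x) = x := hlam
  have hint : Algebra.IsIntegral S R := by
    refine ⟨fun x => ?_⟩
    obtain ⟨t, ht⟩ := (hfix (x + lam x)).mp (by rw [map_add, hlamlam, add_comm])
    obtain ⟨n, hn⟩ := (hfix (x * lam x)).mp (by rw [map_mul, hlamlam, mul_comm])
    refine ⟨Polynomial.X ^ 2 + (- Polynomial.C t * Polynomial.X + Polynomial.C n), ?_, ?_⟩
    · refine Polynomial.monic_X_pow_add ?_
      refine lt_of_le_of_lt (Polynomial.degree_add_le _ _) ?_
      refine max_lt ?_ (lt_of_le_of_lt Polynomial.degree_C_le (by norm_num))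
      rw [← Polynomial.C_neg]
      exact lt_of_le_of_lt (Polynomial.degree_C_mul_X_le _) (by norm_num)
    · simp only [Polynomial.eval₂_add, Polynomial.eval₂_neg, Polynomial.eval₂_pow,
        Polynomial.eval₂_X, Polynomial.eval₂_mul, Polynomial.eval₂_C, ht, hn]
      ring
  by_contra hnu
  obtain ⟨N, hNmax, hdN⟩ := exists_max_ideal_of_mem_nonunits hnu
  have hNM : ¬ N ≤ M := fun hle => hdM (hle hdN)
  have hNM' : ¬ N ≤ M.comap (lam : R →+* R) := fun hle => hdM' (hle hdN)
  have hnot : ¬ ((N : Set R) ⊆ (M : Set R) ∪ (M.comap (lam : R →+* R) : Ideal R)) := by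
    intro hsub
    rcases Ideal.subset_union.mp hsub with h1 | h1
    · exact hNM h1
    · exact hNM' h1
  rw [Set.not_subset] at hnot
  obtain ⟨x, hxN, hxu⟩ := hnot
  have hxM : x ∉ M := fun hx => hxu (Or.inl hx)
  have hxM' : lam x ∉ M := fun hx => hxu (Or.inr hx)
  obtain ⟨s, hs⟩ := (hfix (x * lam x)).mp (by rw [map_mul, hlamlam, mul_comm])
  have hsN : s ∈ N.comap (algebraMap S R) := by
    change algebraMap S R s ∈ N
    rw [hs]; exact N.mul_mem_right _ hxN
  haveI : (N.comap (algebraMap S R)).IsMaximal :=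
    Ideal.isMaximal_comap_of_isIntegral_of_isMaximal N
  haveI : (M.comap (algebraMap S R)).IsMaximal :=
    Ideal.isMaximal_comap_of_isIntegral_of_isMaximal M
  have e1 := IsLocalRing.eq_maximalIdeal (R := S) (I := N.comap (algebraMap S R)) inferInstance
  have e2 := IsLocalRing.eq_maximalIdeal (R := S) (I := M.comap (algebraMap S R)) inferInstance
  have hsM : s ∈ M.comap (algebraMap S R) := by rw [e2, ← e1]; exact hsN
  have : x * lam x ∈ M := by rw [← hs]; exact hsM
  rcases hM.isPrime.mem_or_mem this with h1 | h1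
  · exact hxM h1
  · exact hxM' h1

/-- Let `S` be a local ring, `R` a quadratic etale `S`-algebra and `lam` an involution of `R` with fixed
ring `S`. Then every unit `r` of `R` with `lam r * r = 1` can be written `a⁻¹ * lam a` for a unit
`a` of `R`. -/
theorem result (S : Type u) (R : Type v) [CommRing S] [CommRing R]
    [Algebra S R] (lam : R ≃+* R) (hlam : Function.Involutive lam) (hS : RInv.IsFixedRing S R lam)
    [IsLocalRing S] (hq : RInv.IsQuadEtale S R) (r : Rˣ) (hr : lam r * r = 1) :
    ∃ a : Rˣ, (r : R) = (a⁻¹ : Rˣ) * lam a := by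
  have hS' := hS
  obtain ⟨hinj, hfix⟩ := hS
  have hlamlam : ∀ x, lam (lam x) = x := hlam
  haveI : Nontrivial R := hinj.nontrivial
  obtain ⟨u, hu⟩ := Groth.Agent.S15574.result S R lam hlam hS' hq
  obtain ⟨M, hM⟩ := Ideal.exists_maximal R
  -- a(y) = y + lam r * lam y satisfies lam a = r * a
  have hrel : ∀ y : R, lam (y + lam (r : R) * lam y) = (r : R) * (y + lam (r : R) * lam y) := by
    intro y
    rw [map_add, map_mul, hlamlam, hlamlam, mul_add, ← mul_assoc]
    have : (r : R) * lam (r : R) = 1 := by rw [mul_comm]; exact hr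
    rw [this, one_mul, add_comm]
  have hex : ∃ y : R, y + lam (r : R) * lam y ∉ M := by
    by_cases h1 : (1 : R) + lam (r : R) * lam 1 ∈ M
    · refine ⟨u, fun h2 => ?_⟩
      rw [map_one, mul_one] at h1
      have h3 : u - lam u ∈ M := by
        have : u - lam u = (u + lam (r : R) * lam u) - (1 + lam (r : R)) * lam u := by ring
        rw [this]
        exact M.sub_mem h2 (M.mul_mem_right _ h1)
      exact hM.ne_top (Ideal.eq_top_of_isUnit_mem _ h3 hu)
    · exact ⟨1, h1⟩
  obtain ⟨y, hy⟩ := hex
  have hy' : y + lam (r : R) * lam y ∉ M.comap (lam : R →+* R) := by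
    intro hmem
    have h1 : lam (y + lam (r : R) * lam y) ∈ M := hmem
    rw [hrel y] at h1
    rcases hM.isPrime.mem_or_mem h1 with h2 | h2
    · exact hM.ne_top (Ideal.eq_top_of_isUnit_mem _ h2 r.isUnit)
    · exact hy h2
  have hunit := isUnit_of_notMem S R lam hlam hfix M hM _ hy hy'
  obtain ⟨a, ha⟩ := hunit
  refine ⟨a, ?_⟩
  have h1 : lam (a : R) = (r : R) * a := by rw [ha]; exact hrel y
  rw [h1, mul_comm (r : R), ← mul_assoc, Units.inv_mul, one_mul]

end Groth.Agent.S15580
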