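import Groth.Statements.S15581
-- import your own Groth.Agent.* helpers here
import Mathlib

set_option autoImplicit false
universe u v
open RInv

namespace Groth.Agent.S15581

lemma map_mem_jacobson {A : Type*} [CommRing A] (lam : A ≃+* A) {x : A}
    (hx : x ∈ Ring.jacobson A) : lam x ∈ Ring.jacobson A := by
  rw [← Ideal.jacobson_bot, Ideal.mem_jacobson_bot] at hx ⊢
  intro y
  have := (hx (lam.symm y)).map lam
  simpa using this

lemma mem_maximalIdeal_of_mem_jacobson {B : Type*} {A : Type*} [CommRing B] [CommRing A]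
    [Algebra B A] [IsLocalRing B] (hinj : Function.Injective (algebraMap B A)) {b : B}
    (hb : algebraMap B A b ∈ Ring.jacobson A) : b ∈ IsLocalRing.maximalIdeal B := by
  rw [IsLocalRing.mem_maximalIdeal, mem_nonunits_iff]
  intro hu
  have hu' : IsUnit (algebraMap B A b) := hu.map _
  rw [← Ideal.jacobson_bot, Ideal.mem_jacobson_bot] at hb
  obtain ⟨c, hc⟩ := hu'.exists_right_inv
  have h0 := hb (-c)
  rw [mul_neg, hc, neg_add_cancel] at h0
  have h1 : (1 : A) = 0 := by
    obtain ⟨d, hd⟩ := h0.exists_right_inv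
    rw [zero_mul] at hd
    exact hd.symm
  have h2 : algebraMap B A 1 = algebraMap B A 0 := by rw [map_one, map_zero, h1]
  exact one_ne_zero (hinj h2)


/-- Let `A` be a commutative ring with an involution `lam` whose fixed ring `B` is local with `2`
invertible. Then `Jac(A)^2 ⊆ Jac(B) A`. -/
theorem result (B : Type u) (A : Type v) [CommRing B]
    [CommRing A] [Algebra B A] (lam : A ≃+* A) (hlam : Function.Involutive lam)
    (hB : RInv.IsFixedRing B A lam) [IsLocalRing B] (h2 : IsUnit (2 : B)) :
    (Ring.jacobson A) ^ 2 ≤ (IsLocalRing.maximalIdeal B).map (algebraMap B A) := by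
  obtain ⟨hinj, hfix⟩ := hB
  set I := (IsLocalRing.maximalIdeal B).map (algebraMap B A) with hI
  -- fixed elements of the Jacobson radical lie in `I`
  have hfixI : ∀ z : A, lam z = z → z ∈ Ring.jacobson A → z ∈ I := by
    intro z hz hzJ
    obtain ⟨b, rfl⟩ := (hfix z).mp hz
    exact Ideal.mem_map_of_mem _ (mem_maximalIdeal_of_mem_jacobson hinj hzJ)
  rw [sq, Ideal.mul_le]
  intro x hx y hy
  have hlx := map_mem_jacobson lam hx
  have hly := map_mem_jacobson lam hy
  have hsx : x + lam x ∈ I :=
    hfixI _ (by rw [map_add, hlam x, add_comm]) (Ideal.add_mem _ hx hlx)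
  have hsy : y + lam y ∈ I :=
    hfixI _ (by rw [map_add, hlam y, add_comm]) (Ideal.add_mem _ hy hly)
  have htt : (x - lam x) * (y - lam y) ∈ I := by
    apply hfixI
    · rw [map_mul, map_sub, map_sub, hlam x, hlam y]; ring
    · exact Ideal.mul_mem_right _ _ (Ideal.sub_mem _ hx hlx)
  have h4 : 4 * (x * y) ∈ I := by
    have : 4 * (x * y) = (x + lam x) * (y + lam y) + (x + lam x) * (y - lam y) +
        (y + lam y) * (x - lam x) + (x - lam x) * (y - lam y) := by ring
    rw [this]
    exact Ideal.add_mem _ (Ideal.add_mem _ (Ideal.add_mem _ (Ideal.mul_mem_right _ _ hsx)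
      (Ideal.mul_mem_right _ _ hsx)) (Ideal.mul_mem_right _ _ hsy)) htt
  obtain ⟨c, hc⟩ := h2.exists_right_inv
  have hc' : algebraMap B A (c * c) * (4 * (x * y)) = x * y := by
    have h4c : (4 : A) * algebraMap B A (c * c) = 1 := by
      have : (4 : B) * (c * c) = 1 := by
        have : (4 : B) * (c * c) = (2 * c) * (2 * c) := by ring
        rw [this, hc, one_mul]
      have h := congrArg (algebraMap B A) this
      rw [map_mul, map_one, map_ofNat] at h
      exact h
    calc algebraMap B A (c * c) * (4 * (x * y)) = (4 * algebraMap B A (c * c)) * (x * y) := by ring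
      _ = x * y := by rw [h4c, one_mul]
  rw [← hc']
  exact Ideal.mul_mem_left _ _ h4

end Groth.Agent.S15581
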