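import Groth.Statements.S15583
import Mathlib
-- import your own Groth.Agent.* helpers here

set_option autoImplicit false
set_option linter.unusedSectionVars false
set_option linter.style.haveILetI false
set_option linter.unusedVariables false
set_option linter.unusedSimpArgs false
universe u v
open RInv

namespace Groth.Agent.S15583

open Matrix

section E
variable {B : Type u} {A : Type v} [CommRing B] [CommRing A] [Algebra B A]
  (lam : A ≃+* A) (hlam : Function.Involutive lam) (hB : RInv.IsFixedRing B A lam)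

include hlam hB

/-- a fixed element comes from `B` -/
lemma exists_of_fixed (a : A) (ha : lam a = a) : ∃ b : B, algebraMap B A b = a :=
  (hB.2 a).1 ha

omit hlam in
lemma lam_algebraMap (b : B) : lam (algebraMap B A b) = algebraMap B A b :=
  (hB.2 _).2 ⟨b, rfl⟩

lemma norm_fixed (a : A) : lam (a * lam a) = a * lam a := by
  rw [map_mul, hlam a, mul_comm]

/-- units of `A` coming from `B` are units of `B` -/
lemma isUnit_of_isUnit_algebraMap (b : B) (h : IsUnit (algebraMap B A b)) : IsUnit b := by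
  obtain ⟨c, hc⟩ := h.exists_right_inv
  have hc' : lam c = c := by
    have h1 : algebraMap B A b * lam c = 1 := by
      have := congrArg lam hc
      rwa [map_mul, map_one, lam_algebraMap lam hB] at this
    have : c = lam c := by
      calc c = c * (algebraMap B A b * lam c) := by rw [h1, mul_one]
        _ = (algebraMap B A b * c) * lam c := by ring
        _ = lam c := by rw [hc, one_mul]
    exact this.symm
  obtain ⟨b', hb'⟩ := exists_of_fixed lam hlam hB c hc'
  refine IsUnit.of_mul_eq_one b' (hB.1 ?_)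
  rw [map_mul, hb', hc, map_one]

variable [IsLocalRing B]

/-- `ε`-symmetric non-units are closed under addition. -/
lemma not_isUnit_add (ε : A) (hε : ε = 1 ∨ ε = -1) (s t : A) (hs : lam s = ε * s)
    (ht : lam t = ε * t) (hsu : ¬ IsUnit s) (htu : ¬ IsUnit t) : ¬ IsUnit (s + t) := by
  have hεε : ε * ε = 1 := by rcases hε with rfl | rfl <;> ring
  have hlε : lam ε = ε := by rcases hε with rfl | rfl <;> simp
  intro hst
  -- norms
  obtain ⟨ns, hns⟩ := exists_of_fixed lam hlam hB _ (norm_fixed lam hlam hB s)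
  obtain ⟨nt, hnt⟩ := exists_of_fixed lam hlam hB _ (norm_fixed lam hlam hB t)
  have hc0 : lam (ε * s * t) = ε * s * t := by
    rw [map_mul, map_mul, hlε, hs, ht]
    calc ε * (ε * s) * (ε * t) = (ε * ε) * (ε * s * t) := by ring
      _ = ε * s * t := by rw [hεε, one_mul]
  obtain ⟨c, hc⟩ := exists_of_fixed lam hlam hB _ hc0
  have hnsu : ¬ IsUnit ns := by
    intro h
    have : IsUnit (s * lam s) := hns ▸ h.map (algebraMap B A)
    exact hsu (isUnit_of_mul_isUnit_left this)
  have hntu : ¬ IsUnit nt := by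
    intro h
    have : IsUnit (t * lam t) := hnt ▸ h.map (algebraMap B A)
    exact htu (isUnit_of_mul_isUnit_left this)
  have hcu : ¬ IsUnit c := by
    intro h
    have h2 : IsUnit (c * c) := h.mul h
    have : c * c = ns * nt := by
      apply hB.1
      rw [map_mul, map_mul, hc, hns, hnt, hs, ht]
      ring
    rw [this] at h2
    exact hnsu (isUnit_of_mul_isUnit_left h2)
  have hsum : ¬ IsUnit (ns + nt + (c + c)) :=
    fun h => by
      have h1 : ns + nt ∈ nonunits B := IsLocalRing.nonunits_add hnsu hntu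
      have h2 : c + c ∈ nonunits B := IsLocalRing.nonunits_add hcu hcu
      exact IsLocalRing.nonunits_add h1 h2 h
  apply hsum
  apply isUnit_of_isUnit_algebraMap lam hlam hB
  have : algebraMap B A (ns + nt + (c + c)) = (s + t) * lam (s + t) := by
    rw [map_add, map_add, map_add, hns, hnt, hc, map_add, hs, ht]
    ring
  rw [this]
  exact hst.mul (hst.map lam)

/-- unit plus non-unit (both `ε`-symmetric) is a unit -/
lemma isUnit_add (ε : A) (hε : ε = 1 ∨ ε = -1) (s t : A) (hs : lam s = ε * s)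
    (ht : lam t = ε * t) (hsu : IsUnit s) (htu : ¬ IsUnit t) : IsUnit (s + t) := by
  by_contra hcon
  have hnt : lam (-t) = ε * (-t) := by rw [map_neg, ht]; ring
  have hnt' : ¬ IsUnit (-t) := fun h => htu (by simpa using h.neg)
  have hst : lam (s + t) = ε * (s + t) := by rw [map_add, hs, ht]; ring
  have := not_isUnit_add lam hlam hB ε hε (s + t) (-t) hst hnt hcon hnt'
  apply this
  simpa using hsu

/-- `ε`-symmetric non-units lie in the Jacobson radical -/
lemma mem_jacobson (ε : A) (hε : ε = 1 ∨ ε = -1) (s : A) (hs : lam s = ε * s)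
    (hsu : ¬ IsUnit s) : s ∈ Ring.jacobson A := by
  have hεε : ε * ε = 1 := by rcases hε with rfl | rfl <;> ring
  have hlε : lam ε = ε := by rcases hε with rfl | rfl <;> simp
  rw [← Ideal.jacobson_bot, Ideal.mem_jacobson_bot]
  intro w
  -- norm of `s * w + 1` is a unit
  set z := s * w + 1 with hz
  have h1 : lam (1 : A) = 1 * 1 := by simp
  have ht : lam (s * w + lam (s * w)) = 1 * (s * w + lam (s * w)) := by
    rw [map_add, hlam, one_mul, add_comm]
  have htu : ¬ IsUnit (s * w + lam (s * w)) := by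
    intro h
    have : s * w + lam (s * w) = s * (w + ε * lam w) := by rw [map_mul, hs]; ring
    rw [this] at h
    exact hsu (isUnit_of_mul_isUnit_left h)
  have hn : lam (s * w * lam (s * w)) = 1 * (s * w * lam (s * w)) := by
    rw [one_mul]; exact norm_fixed lam hlam hB _
  have hnu : ¬ IsUnit (s * w * lam (s * w)) := by
    intro h
    exact hsu (isUnit_of_mul_isUnit_left (isUnit_of_mul_isUnit_left h))
  have hu1 := isUnit_add lam hlam hB 1 (Or.inl rfl) 1 _ h1 ht isUnit_one htu
  have h1' : lam (1 + (s * w + lam (s * w))) = 1 * (1 + (s * w + lam (s * w))) := by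
    rw [map_add, ht, map_one]; ring
  have hu2 := isUnit_add lam hlam hB 1 (Or.inl rfl) _ _ h1' hn hu1 hnu
  have : 1 + (s * w + lam (s * w)) + s * w * lam (s * w) = z * lam z := by
    rw [hz, map_add, map_one]; ring
  rw [this] at hu2
  exact isUnit_of_mul_isUnit_left hu2

end E



section Mat
variable {A : Type v} [CommRing A] [StarRing A]

/-- the sesquilinear form attached to a matrix -/
def H {ι : Type*} [Fintype ι] (h : Matrix ι ι A) (x y : ι → A) : A := star x ⬝ᵥ (h *ᵥ y)

/-- `(ε, star)`-hermitian matrices -/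
def Herm {ι : Type*} (ε : A) (h : Matrix ι ι A) : Prop := ε • hᴴ = h

/-- non-alternating: some vector has unit norm -/
def NA {ι : Type*} [Fintype ι] (h : Matrix ι ι A) : Prop := ∃ x : ι → A, IsUnit (H h x x)

/-- the key closure property of `ε`-symmetric non-units -/
def EOK (ε : A) : Prop :=
  ∀ s t : A, star s = ε * s → star t = ε * t → ¬ IsUnit s → ¬ IsUnit t → ¬ IsUnit (s + t)

variable {ι : Type*} [Fintype ι]

lemma H_add_left (h : Matrix ι ι A) (x x' y : ι → A) : H h (x + x') y = H h x y + H h x' y := by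
  unfold H; rw [star_add, add_dotProduct]

lemma H_add_right (h : Matrix ι ι A) (x y y' : ι → A) : H h x (y + y') = H h x y + H h x y' := by
  unfold H; rw [mulVec_add, dotProduct_add]

lemma H_smul_left (h : Matrix ι ι A) (a : A) (x y : ι → A) : H h (a • x) y = star a * H h x y := by
  unfold H; rw [star_smul, smul_dotProduct, smul_eq_mul]

lemma H_smul_right (h : Matrix ι ι A) (a : A) (x y : ι → A) : H h x (a • y) = a * H h x y := by
  unfold H; rw [mulVec_smul, dotProduct_smul, smul_eq_mul]

lemma H_zero_left (h : Matrix ι ι A) (y : ι → A) : H h 0 y = 0 := by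
  unfold H; rw [star_zero, zero_dotProduct]

lemma H_zero_right (h : Matrix ι ι A) (x : ι → A) : H h x 0 = 0 := by
  unfold H; rw [mulVec_zero, dotProduct_zero]

lemma H_sum_left {κ : Type*} (s : Finset κ) (h : Matrix ι ι A) (x : κ → ι → A) (y : ι → A) :
    H h (∑ k ∈ s, x k) y = ∑ k ∈ s, H h (x k) y := by
  classical
  induction s using Finset.induction_on with
  | empty => simp [H_zero_left]
  | insert a s ha ih => rw [Finset.sum_insert ha, Finset.sum_insert ha, H_add_left, ih]

variable [DecidableEq ι]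

lemma H_single (h : Matrix ι ι A) (i j : ι) : H h (Pi.single i 1) (Pi.single j 1) = h i j := by
  unfold H
  rw [mulVec_single_one, Pi.star_def]
  have : (fun k => star ((Pi.single i 1 : ι → A) k)) = Pi.single i 1 := by
    funext k
    by_cases hk : k = i
    · subst hk; simp
    · simp [Pi.single_eq_of_ne hk]
  rw [this, single_one_dotProduct]
  rfl

lemma H_single_left (h : Matrix ι ι A) (i : ι) (y : ι → A) :
    H h (Pi.single i 1) y = (h *ᵥ y) i := by
  unfold H
  have : star (Pi.single i 1 : ι → A) = Pi.single i 1 := by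
    funext k
    by_cases hk : k = i
    · subst hk; simp
    · simp [Pi.single_eq_of_ne hk]
  rw [this, single_one_dotProduct]

lemma conj_apply (h v : Matrix ι ι A) (i j : ι) :
    (vᴴ * h * v) i j = H h (fun k => v k i) (fun k => v k j) := by
  unfold H
  rw [Matrix.mul_assoc, Matrix.mul_apply, dotProduct]
  refine Finset.sum_congr rfl fun k _ => ?_
  rw [conjTranspose_apply, Pi.star_apply]
  congr 1

lemma Herm.apply {ε : A} {h : Matrix ι ι A} (hh : Herm ε h) (i j : ι) :
    h i j = ε * star (h j i) := by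
  have := congrFun (congrFun hh i) j
  rw [Matrix.smul_apply, conjTranspose_apply, smul_eq_mul] at this
  exact this.symm

lemma Herm.conj {ε : A} {h : Matrix ι ι A} (hh : Herm ε h) (v : Matrix ι ι A) :
    Herm ε (vᴴ * h * v) := by
  unfold Herm at *
  have h1 : (vᴴ * h * v)ᴴ = vᴴ * hᴴ * v := by
    rw [conjTranspose_mul, conjTranspose_mul, conjTranspose_conjTranspose, Matrix.mul_assoc]
  rw [h1, ← Matrix.smul_mul, ← Matrix.mul_smul, hh]

lemma H_symm {ε : A} (hε : ε = 1 ∨ ε = -1) {h : Matrix ι ι A} (hh : Herm ε h) (x y : ι → A) :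
    H h y x = ε * star (H h x y) := by
  have hsε : star ε = ε := by rcases hε with rfl | rfl <;> simp
  unfold H
  simp only [dotProduct, mulVec, Pi.star_apply, star_sum, star_mul', star_star, Finset.mul_sum]
  rw [Finset.sum_comm]
  refine Finset.sum_congr rfl fun i _ => Finset.sum_congr rfl fun j _ => ?_
  rw [hh.apply j i]
  ring

lemma H_self_symm {ε : A} (hε : ε = 1 ∨ ε = -1) {h : Matrix ι ι A} (hh : Herm ε h) (x : ι → A) :
    star (H h x x) = ε * H h x x := by
  have hεε : ε * ε = 1 := by rcases hε with rfl | rfl <;> ring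
  have := H_symm hε hh x x
  calc star (H h x x) = (ε * ε) * star (H h x x) := by rw [hεε, one_mul]
    _ = ε * (ε * star (H h x x)) := by ring
    _ = ε * H h x x := by rw [← this]

end Mat

section EOKsec
variable {A : Type v} [CommRing A] [StarRing A] {ε : A}

lemma EOK.isUnit_add (hE : EOK ε) {s t : A} (hs : star s = ε * s) (ht : star t = ε * t)
    (hsu : IsUnit s) (htu : ¬ IsUnit t) : IsUnit (s + t) := by
  by_contra hcon
  have hnt : star (-t) = ε * (-t) := by rw [star_neg, ht]; ring
  have hnt' : ¬ IsUnit (-t) := fun h => htu (by simpa using h.neg)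
  have hst : star (s + t) = ε * (s + t) := by rw [star_add, hs, ht]; ring
  have := hE (s + t) (-t) hst hnt hcon hnt'
  apply this
  simpa using hsu

lemma EOK.not_isUnit_sum [Nontrivial A] (hE : EOK ε) {κ : Type*} (s : Finset κ) (f : κ → A)
    (hf : ∀ k ∈ s, star (f k) = ε * f k) (hfu : ∀ k ∈ s, ¬ IsUnit (f k)) :
    star (∑ k ∈ s, f k) = ε * ∑ k ∈ s, f k ∧ ¬ IsUnit (∑ k ∈ s, f k) := by
  classical
  induction s using Finset.induction_on with
  | empty => simp
  | insert a s ha ih =>
    have ih' := ih (fun k hk => hf k (Finset.mem_insert_of_mem hk))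
      (fun k hk => hfu k (Finset.mem_insert_of_mem hk))
    rw [Finset.sum_insert ha]
    refine ⟨?_, hE _ _ (hf a (Finset.mem_insert_self a s)) ih'.1
      (hfu a (Finset.mem_insert_self a s)) ih'.2⟩
    rw [star_add, hf a (Finset.mem_insert_self a s), ih'.1]; ring

end EOKsec

section L1
variable {A : Type v} [CommRing A] [StarRing A] {ε : A}
variable {ι : Type*} [Fintype ι] [DecidableEq ι]

/-- the cross term -/
lemma cross_symm (hε : ε = 1 ∨ ε = -1) (z : A) : star (z + ε * star z) = ε * (z + ε * star z) := by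
  have hεε : ε * ε = 1 := by rcases hε with rfl | rfl <;> ring
  have hsε : star ε = ε := by rcases hε with rfl | rfl <;> simp
  rw [star_add, star_mul', star_star, hsε, mul_add, ← mul_assoc, hεε, one_mul, add_comm]

lemma H_trans (hε : ε = 1 ∨ ε = -1) {h : Matrix ι ι A} (hh : Herm ε h) (x y : ι → A) :
    H h (x + y) (x + y) = H h x x + H h y y + (H h x y + ε * star (H h x y)) := by
  rw [H_add_left, H_add_right, H_add_right, H_symm hε hh x y]
  ring

/-- **L1**: a non-alternating hermitian matrix is congruent to one with a unit diagonal entry. -/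
lemma exists_unit_diag [Nontrivial A] (hε : ε = 1 ∨ ε = -1) (hE : EOK ε) {h : Matrix ι ι A}
    (hh : Herm ε h) (hna : NA h) :
    ∃ v : Matrix ι ι A, IsUnit v ∧ ∃ i, IsUnit ((vᴴ * h * v) i i) := by
  by_contra hcon
  push Not at hcon
  have hεε : ε * ε = 1 := by rcases hε with rfl | rfl <;> ring
  -- diagonal entries are non-units
  have hdiag : ∀ i, ¬ IsUnit (h i i) := by
    intro i
    have := hcon 1 isUnit_one i
    simpa using this
  have hdsym : ∀ i, star (h i i) = ε * h i i := by
    intro i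
    have := H_self_symm hε hh (Pi.single i 1)
    rwa [H_single] at this
  -- cross terms are non-units
  have hcross : ∀ i j, i ≠ j → ∀ a : A, ¬ IsUnit (a * h i j + ε * star (a * h i j)) := by
    intro i j hij a hu
    have hv : IsUnit (Matrix.transvection j i a) := by
      rw [Matrix.isUnit_iff_isUnit_det, Matrix.det_transvection_of_ne _ _ hij.symm]
      exact isUnit_one
    have h1 := hcon _ hv i
    rw [conj_apply] at h1
    have hcol : (fun k => Matrix.transvection j i a k i) = Pi.single i 1 + a • Pi.single j 1 := by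
      funext k
      simp only [transvection, Matrix.add_apply, Matrix.one_apply, Matrix.single_apply,
        Pi.add_apply, Pi.smul_apply, Pi.single_apply, smul_eq_mul, mul_ite, mul_one, mul_zero]
      by_cases hk : k = i
      · subst hk; simp [hij, Ne.symm hij]
      · by_cases hk' : k = j
        · subst hk'; simp [hk]
        · simp [hk, hk', Ne.symm hk, Ne.symm hk']
    rw [hcol, H_trans hε hh, H_smul_left, H_smul_right, H_single, H_single, H_smul_right,
      H_single] at h1
    apply h1
    have hs1 : star (h i i + star a * (a * h j j)) = ε * (h i i + star a * (a * h j j)) := by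
      rw [star_add, star_mul', star_mul', star_star, hdsym, hdsym]; ring
    have hn1 : ¬ IsUnit (h i i + star a * (a * h j j)) := by
      refine hE _ _ (hdsym i) ?_ (hdiag i) ?_
      · rw [star_mul', star_mul', star_star, hdsym]; ring
      · intro hu'
        exact hdiag j (isUnit_of_mul_isUnit_right (isUnit_of_mul_isUnit_right hu'))
    rw [add_comm]
    exact hE.isUnit_add (cross_symm hε _) hs1 hu hn1
  -- all norms are non-units
  obtain ⟨x, hx⟩ := hna
  have key : ∀ s : Finset ι, ¬ IsUnit (H h (∑ i ∈ s, x i • Pi.single i 1)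
      (∑ i ∈ s, x i • Pi.single i 1)) := by
    intro s
    induction s using Finset.induction_on with
    | empty => simp [H_zero_left]
    | insert i s hi ih =>
      rw [Finset.sum_insert hi, add_comm, H_trans hε hh]
      have hy := H_self_symm hε hh (∑ i ∈ s, x i • (Pi.single i 1 : ι → A))
      have hi' : star (H h (x i • Pi.single i 1) (x i • Pi.single i 1)) =
          ε * H h (x i • Pi.single i 1) (x i • Pi.single i 1) := H_self_symm hε hh _
      have hiu : ¬ IsUnit (H h (x i • Pi.single i 1) (x i • Pi.single i 1)) := by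
        rw [H_smul_left, H_smul_right, H_single]
        intro hu'
        exact hdiag i (isUnit_of_mul_isUnit_right (isUnit_of_mul_isUnit_right hu'))
      have h12 := hE _ _ hy hi' ih hiu
      have h12s : star (H h (∑ i ∈ s, x i • (Pi.single i 1 : ι → A)) (∑ i ∈ s, x i • Pi.single i 1) +
          H h (x i • Pi.single i 1) (x i • Pi.single i 1)) = ε * (H h (∑ i ∈ s, x i • (Pi.single i 1 : ι → A)) (∑ i ∈ s, x i • Pi.single i 1) +
          H h (x i • Pi.single i 1) (x i • Pi.single i 1)) := by
        rw [star_add, hy, hi']; ring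
      refine hE _ _ h12s (cross_symm hε _) h12 ?_
      -- the cross term
      rw [H_sum_left, star_sum, Finset.mul_sum, ← Finset.sum_add_distrib]
      refine (hE.not_isUnit_sum s _ (fun k _ => cross_symm hε _) ?_).2
      intro k hk
      have hki : k ≠ i := fun h' => hi (h' ▸ hk)
      have := hcross k i hki (star (x k) * x i)
      rw [H_smul_left, H_smul_right, H_single]
      convert this using 2
      rw [mul_assoc]
  apply key Finset.univ
  convert hx using 2 <;>
  · funext k
    simp [Finset.sum_apply, Pi.single_apply]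

end L1

section Schur
variable {A : Type v} [CommRing A] [StarRing A] {ε : A}
variable {ι' : Type*} [Fintype ι'] [DecidableEq ι']

lemma isUnit_conjTranspose {M : Matrix ι' ι' A} (h : IsUnit M) : IsUnit Mᴴ := by
  rw [Matrix.isUnit_iff_isUnit_det] at *
  rw [det_conjTranspose]
  exact h.star

lemma herm_blocks {u : A} {Bm : Matrix Unit ι' A} {C : Matrix ι' Unit A} {D : Matrix ι' ι' A}
    (hM : Herm ε (fromBlocks (u • (1 : Matrix Unit Unit A)) Bm C D)) :
    ε * star u = u ∧ ε • Cᴴ = Bm ∧ ε • Bmᴴ = C ∧ Herm ε D := by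
  unfold Herm at hM
  rw [fromBlocks_conjTranspose, fromBlocks_smul, fromBlocks_inj] at hM
  obtain ⟨h1, h2, h3, h4⟩ := hM
  refine ⟨?_, h2, h3, h4⟩
  have := congrFun (congrFun h1 ()) ()
  simpa using this

/-- **Schur complement step.** -/
lemma schur (hε : ε = 1 ∨ ε = -1) (u : Aˣ) (Bm : Matrix Unit ι' A) (C : Matrix ι' Unit A)
    (D : Matrix ι' ι' A)
    (hM : Herm ε (fromBlocks ((u : A) • (1 : Matrix Unit Unit A)) Bm C D))
    (hMu : IsUnit (fromBlocks ((u : A) • (1 : Matrix Unit Unit A)) Bm C D)) :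
    ∃ w : Matrix (Unit ⊕ ι') (Unit ⊕ ι') A, IsUnit w ∧
      wᴴ * fromBlocks ((u : A) • (1 : Matrix Unit Unit A)) Bm C D * w =
        fromBlocks ((u : A) • (1 : Matrix Unit Unit A)) 0 0 (D - (↑u⁻¹ : A) • (C * Bm)) ∧
      IsUnit (D - (↑u⁻¹ : A) • (C * Bm)) ∧ Herm ε (D - (↑u⁻¹ : A) • (C * Bm)) := by
  have hεε : ε * ε = 1 := by rcases hε with rfl | rfl <;> ring
  obtain ⟨hu, hCB, hBC, hD⟩ := herm_blocks hM
  let w : Matrix (Unit ⊕ ι') (Unit ⊕ ι') A := fromBlocks 1 (-((↑u⁻¹ : A) • Bm)) 0 1
  have hw : IsUnit w := by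
    rw [Matrix.isUnit_iff_isUnit_det, det_fromBlocks_zero₂₁, det_one, det_one, mul_one]
    exact isUnit_one
  have hsu : star (u : A) = ε * u := by
    calc star (u : A) = (ε * ε) * star (u : A) := by rw [hεε, one_mul]
      _ = ε * (ε * star (u : A)) := by ring
      _ = ε * u := by rw [hu]
  have hsui : star (↑u⁻¹ : A) * u = ε := by
    have h1 : star (↑u⁻¹ : A) * star (u : A) = 1 := by
      rw [← star_mul', Units.inv_mul, star_one]
    calc star (↑u⁻¹ : A) * u = star (↑u⁻¹ : A) * ((ε * ε) * u) := by rw [hεε, one_mul]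
      _ = ε * (star (↑u⁻¹ : A) * (ε * u)) := by ring
      _ = ε := by rw [← hsu, h1, mul_one]
  have hsui' : star (↑u⁻¹ : A) = ε * ↑u⁻¹ := by
    calc star (↑u⁻¹ : A) = star (↑u⁻¹ : A) * u * ↑u⁻¹ := by
          rw [mul_assoc, Units.mul_inv, mul_one]
      _ = ε * ↑u⁻¹ := by rw [hsui]
  have hkey : wᴴ * fromBlocks ((u : A) • (1 : Matrix Unit Unit A)) Bm C D * w =
      fromBlocks ((u : A) • (1 : Matrix Unit Unit A)) 0 0 (D - (↑u⁻¹ : A) • (C * Bm)) := by
    simp only [w, fromBlocks_conjTranspose, conjTranspose_one, conjTranspose_zero,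
      conjTranspose_neg, conjTranspose_smul, fromBlocks_multiply, Matrix.one_mul, Matrix.mul_one,
      Matrix.zero_mul, Matrix.mul_zero, add_zero, zero_add, Matrix.neg_mul, Matrix.mul_neg,
      Matrix.smul_mul, Matrix.mul_smul]
    have h21 : (u : A) • -(star (↑u⁻¹ : A) • Bmᴴ) + C = 0 := by
      rw [smul_neg, smul_smul, mul_comm, hsui, hBC, neg_add_cancel]
    rw [fromBlocks_inj]
    refine ⟨rfl, ?_, h21, ?_⟩
    · rw [smul_smul, Units.inv_mul, one_smul, neg_add_cancel]
    · rw [h21, Matrix.zero_mul, smul_zero, neg_zero, zero_add, hsui', mul_comm, ← smul_smul,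
        ← Matrix.smul_mul, hBC]
      abel
  refine ⟨w, hw, hkey, ?_, ?_⟩
  · have h1 : IsUnit (wᴴ * fromBlocks ((u : A) • (1 : Matrix Unit Unit A)) Bm C D * w) :=
      ((isUnit_conjTranspose hw).mul hMu).mul hw
    rw [hkey, Matrix.isUnit_iff_isUnit_det, det_fromBlocks_zero₂₁] at h1
    rw [Matrix.isUnit_iff_isUnit_det]
    exact isUnit_of_mul_isUnit_right h1
  · have h1 := hM.conj w
    rw [hkey] at h1
    exact (herm_blocks h1).2.2.2

end Schur

section L5
variable {A : Type v} [CommRing A] [StarRing A] {ε : A}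
variable {ι' : Type*} [Fintype ι'] [DecidableEq ι']

lemma col_conj_apply (S : Matrix ι' ι' A) (Y : Matrix ι' Unit A) :
    (Yᴴ * S * Y) () () = H S (fun j => Y j ()) (fun j => Y j ()) := by
  unfold H
  rw [Matrix.mul_assoc, Matrix.mul_apply, dotProduct]
  refine Finset.sum_congr rfl fun k _ => ?_
  rw [conjTranspose_apply, Pi.star_apply]
  congr 1

lemma unit_mat_eq (M : Matrix Unit Unit A) : M = (M () ()) • (1 : Matrix Unit Unit A) := by
  ext ⟨⟩ ⟨⟩
  simp

lemma star_inv_of_symm (hε : ε = 1 ∨ ε = -1) (u : Aˣ) (hu : star (u : A) = ε * u) :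
    star (↑u⁻¹ : A) = ε * ↑u⁻¹ := by
  have hεε : ε * ε = 1 := by rcases hε with rfl | rfl <;> ring
  have h1 : star (↑u⁻¹ : A) * star (u : A) = 1 := by
    rw [← star_mul', Units.inv_mul, star_one]
  calc star (↑u⁻¹ : A) = star (↑u⁻¹ : A) * ((ε * ε) * (u * ↑u⁻¹)) := by
        rw [hεε, Units.mul_inv, mul_one, mul_one]
    _ = ε * (star (↑u⁻¹ : A) * (ε * u)) * ↑u⁻¹ := by ring
    _ = ε * ↑u⁻¹ := by rw [← hu, h1, mul_one]

/-- **L5**: re-pivot so that the Schur complement becomes non-alternating. -/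
lemma repivot (hε : ε = 1 ∨ ε = -1) (hE : EOK ε) (u : Aˣ) (S : Matrix ι' ι' A)
    (hg : Herm ε (fromBlocks ((u : A) • (1 : Matrix Unit Unit A)) 0 0 S))
    (hgu : IsUnit (fromBlocks ((u : A) • (1 : Matrix Unit Unit A)) 0 0 S))
    (hSu : IsUnit S) (hna : ¬ NA S) (j₁ : ι') :
    ∃ (w : Matrix (Unit ⊕ ι') (Unit ⊕ ι') A) (u' : Aˣ) (S' : Matrix ι' ι' A), IsUnit w ∧
      wᴴ * fromBlocks ((u : A) • (1 : Matrix Unit Unit A)) 0 0 S * w =
        fromBlocks ((u' : A) • (1 : Matrix Unit Unit A)) 0 0 S' ∧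
      IsUnit S' ∧ Herm ε S' ∧ NA S' := by
  have hεε : ε * ε = 1 := by rcases hε with rfl | rfl <;> ring
  have hsε : star ε = ε := by rcases hε with rfl | rfl <;> simp
  obtain ⟨hu, -, -, hS⟩ := herm_blocks hg
  have hsu : star (u : A) = ε * u := by
    calc star (u : A) = (ε * ε) * star (u : A) := by rw [hεε, one_mul]
      _ = ε * (ε * star (u : A)) := by ring
      _ = ε * u := by rw [hu]
  have hSdet : IsUnit S.det := (Matrix.isUnit_iff_isUnit_det S).mp hSu
  have hSH : Sᴴ = ε • S := by
    have : ε • (ε • Sᴴ) = ε • S := by rw [hS]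
    rwa [smul_smul, hεε, one_smul] at this
  let E : Matrix Unit ι' A := Matrix.of fun _ j => if j = j₁ then 1 else 0
  let Y : Matrix ι' Unit A := ε • (S⁻¹ * Eᴴ)
  have hSY : S * Y = ε • Eᴴ := by
    simp only [Y]
    rw [Matrix.mul_smul, ← Matrix.mul_assoc, Matrix.mul_nonsing_inv _ hSdet, Matrix.one_mul]
  clear_value Y
  have hYS : Yᴴ * S = E := by
    have h1 := congrArg conjTranspose hSY
    rw [conjTranspose_mul, conjTranspose_smul, conjTranspose_conjTranspose, hSH, hsε,
      Matrix.mul_smul] at h1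
    have h2 : ε • (ε • (Yᴴ * S)) = ε • (ε • E) := by rw [h1]
    rwa [smul_smul, smul_smul, hεε, one_smul, one_smul] at h2
  let w₃ : Matrix (Unit ⊕ ι') (Unit ⊕ ι') A := fromBlocks 1 0 Y 1
  have hw₃ : IsUnit w₃ := by
    rw [Matrix.isUnit_iff_isUnit_det, det_fromBlocks_zero₁₂, det_one, det_one, mul_one]
    exact isUnit_one
  set q : A := (Yᴴ * S * Y) () () with hq
  have hqH : q = H S (fun j => Y j ()) (fun j => Y j ()) := col_conj_apply S Y
  have hqs : star q = ε * q := by rw [hqH]; exact H_self_symm hε hS _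
  have hqu : ¬ IsUnit q := by rw [hqH]; exact fun h => hna ⟨_, h⟩
  have hu' : IsUnit ((u : A) + q) := hE.isUnit_add hsu hqs u.isUnit hqu
  let u' : Aˣ := hu'.unit
  have hu'v : (u' : A) = u + q := rfl
  have hkey : w₃ᴴ * fromBlocks ((u : A) • (1 : Matrix Unit Unit A)) 0 0 S * w₃ =
      fromBlocks ((u' : A) • (1 : Matrix Unit Unit A)) E (ε • Eᴴ) S := by
    simp only [w₃, fromBlocks_conjTranspose, conjTranspose_one, conjTranspose_zero,
      fromBlocks_multiply, Matrix.one_mul, Matrix.mul_one, Matrix.zero_mul, Matrix.mul_zero,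
      add_zero, zero_add]
    rw [fromBlocks_inj]
    refine ⟨?_, hYS, hSY, rfl⟩
    rw [hu'v, add_smul, hq]
    congr 1
    exact unit_mat_eq _
  have hM' : Herm ε (fromBlocks ((u' : A) • (1 : Matrix Unit Unit A)) E (ε • Eᴴ) S) := by
    rw [← hkey]; exact hg.conj w₃
  have hMu' : IsUnit (fromBlocks ((u' : A) • (1 : Matrix Unit Unit A)) E (ε • Eᴴ) S) := by
    rw [← hkey]; exact ((isUnit_conjTranspose hw₃).mul hgu).mul hw₃
  obtain ⟨w₄, hw₄, hkey₄, hS'u, hS'h⟩ := schur hε u' E (ε • Eᴴ) S hM' hMu'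
  refine ⟨w₃ * w₄, u', _, hw₃.mul hw₄, ?_, hS'u, hS'h, ?_⟩
  · rw [conjTranspose_mul, ← hkey₄, ← hkey]
    simp only [Matrix.mul_assoc]
  · refine ⟨Pi.single j₁ 1, ?_⟩
    rw [H_single, Matrix.sub_apply, Matrix.smul_apply, Matrix.smul_mul, Matrix.smul_apply,
      Matrix.mul_apply]
    have hEE : ∑ k : Unit, Eᴴ j₁ k * E k j₁ = 1 := by
      simp [E, conjTranspose_apply]
    rw [hEE, smul_eq_mul, smul_eq_mul, mul_one, sub_eq_add_neg, add_comm]
    have hu's : star (u' : A) = ε * u' := by rw [hu'v, star_add, hsu, hqs]; ring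
    have hinv := star_inv_of_symm hε u' hu's
    have hs1 : star (-((↑u'⁻¹ : A) * ε)) = ε * (-((↑u'⁻¹ : A) * ε)) := by
      rw [star_neg, star_mul', hinv, hsε]; ring
    have hs2 : star (S j₁ j₁) = ε * S j₁ j₁ := by
      have := H_self_symm hε hS (Pi.single j₁ 1)
      rwa [H_single] at this
    have hu1 : IsUnit (-((↑u'⁻¹ : A) * ε)) := by
      refine IsUnit.neg ?_
      refine (u'⁻¹).isUnit.mul ?_
      exact IsUnit.of_mul_eq_one ε hεε
    have hn2 : ¬ IsUnit (S j₁ j₁) := by
      intro h
      apply hna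
      exact ⟨Pi.single j₁ 1, by rwa [H_single]⟩
    exact hE.isUnit_add hs1 hs2 hu1 hn2

end L5

section Main
variable {A : Type v} [CommRing A] [StarRing A] {ε : A}

/-- splitting off the index `i₀` -/
def splitEquiv {ι : Type*} [DecidableEq ι] (i₀ : ι) : Unit ⊕ {j // j ≠ i₀} ≃ ι where
  toFun := Sum.elim (fun _ => i₀) Subtype.val
  invFun j := if h : j = i₀ then Sum.inl () else Sum.inr ⟨j, h⟩
  left_inv := by
    rintro (⟨⟩ | ⟨j, hj⟩)
    · simp
    · simp [hj]
  right_inv j := by
    by_cases h : j = i₀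
    · simp [h]
    · simp [h]

theorem diag_main [Nontrivial A] (hε : ε = 1 ∨ ε = -1) (hE : EOK ε) :
    ∀ (n : ℕ) (ι : Type) [Fintype ι] [DecidableEq ι], Fintype.card ι = n →
      ∀ h : Matrix ι ι A, IsUnit h → Herm ε h → (IsEmpty ι ∨ NA h) →
        ∃ v : Matrix ι ι A, IsUnit v ∧ ∃ d : ι → A, vᴴ * h * v = diagonal d := by
  intro n
  induction n with
  | zero =>
    intro ι _ _ hcard h _ _ _
    have : IsEmpty ι := Fintype.card_eq_zero_iff.mp hcard
    exact ⟨1, isUnit_one, 0, by ext i; exact isEmptyElim i⟩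
  | succ n ih =>
    intro ι _ _ hcard h hu hh hna
    have hne : ¬ IsEmpty ι := by
      intro hemp
      rw [Fintype.card_eq_zero_iff.mpr hemp] at hcard
      exact Nat.succ_ne_zero n hcard.symm
    have hna' : NA h := hna.resolve_left hne
    obtain ⟨v₁, hv₁, i₀, hi₀⟩ := exists_unit_diag hε hE hh hna'
    set h₁ := v₁ᴴ * h * v₁ with hh₁
    have hh₁h : Herm ε h₁ := hh.conj v₁
    have hh₁u : IsUnit h₁ := ((isUnit_conjTranspose hv₁).mul hu).mul hv₁
    let e := splitEquiv i₀
    let M : Matrix (Unit ⊕ {j // j ≠ i₀}) (Unit ⊕ {j // j ≠ i₀}) A := h₁.submatrix e e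
    have hMh : Herm ε M := by
      unfold Herm
      ext i j
      exact congrFun (congrFun hh₁h (e i)) (e j)
    have hMu : IsUnit M := (isUnit_submatrix_equiv e e).mpr hh₁u
    let u : Aˣ := hi₀.unit
    have hM11 : M.toBlocks₁₁ = (u : A) • (1 : Matrix Unit Unit A) := by
      ext ⟨⟩ ⟨⟩
      simp [M, toBlocks₁₁, e, splitEquiv, u]
    have hMb : M = fromBlocks ((u : A) • (1 : Matrix Unit Unit A)) M.toBlocks₁₂ M.toBlocks₂₁
        M.toBlocks₂₂ := by
      rw [← hM11, fromBlocks_toBlocks]
    have hcard' : Fintype.card {j // j ≠ i₀} = n := by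
      have := Fintype.card_congr e
      rw [Fintype.card_sum, Fintype.card_unit, hcard] at this
      omega
    rw [hMb] at hMh hMu
    obtain ⟨w, hw, hkey, hSu, hSh⟩ := schur hε u _ _ _ hMh hMu
    -- possibly re-pivot
    obtain ⟨W, uu, SS, hW, hWkey, hSSu, hSSh, hSSna⟩ :
        ∃ (W : Matrix (Unit ⊕ {j // j ≠ i₀}) (Unit ⊕ {j // j ≠ i₀}) A) (uu : Aˣ)
          (SS : Matrix {j // j ≠ i₀} {j // j ≠ i₀} A), IsUnit W ∧
          Wᴴ * M * W = fromBlocks ((uu : A) • (1 : Matrix Unit Unit A)) 0 0 SS ∧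
          IsUnit SS ∧ Herm ε SS ∧ (IsEmpty {j // j ≠ i₀} ∨ NA SS) := by
      by_cases hcase : IsEmpty {j // j ≠ i₀} ∨ NA (M.toBlocks₂₂ - (↑u⁻¹ : A) • (M.toBlocks₂₁ * M.toBlocks₁₂))
      · refine ⟨w, u, _, hw, ?_, hSu, hSh, hcase⟩
        rw [← hkey, ← hMb]
      · push Not at hcase
        obtain ⟨hne', hnna⟩ := hcase
        obtain ⟨j₁⟩ := hne'
        have hg : Herm ε (fromBlocks ((u : A) • (1 : Matrix Unit Unit A)) 0 0
            (M.toBlocks₂₂ - (↑u⁻¹ : A) • (M.toBlocks₂₁ * M.toBlocks₁₂))) := by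
          rw [← hkey]; exact hMh.conj w
        have hgu : IsUnit (fromBlocks ((u : A) • (1 : Matrix Unit Unit A)) 0 0
            (M.toBlocks₂₂ - (↑u⁻¹ : A) • (M.toBlocks₂₁ * M.toBlocks₁₂))) := by
          rw [← hkey]; exact ((isUnit_conjTranspose hw).mul hMu).mul hw
        obtain ⟨w', u', S', hw', hkey', hS'u, hS'h, hS'na⟩ :=
          repivot hε hE u _ hg hgu hSu hnna j₁
        refine ⟨w * w', u', S', hw.mul hw', ?_, hS'u, hS'h, Or.inr hS'na⟩
        rw [conjTranspose_mul, ← hkey', ← hkey, ← hMb]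
        simp only [Matrix.mul_assoc]
    obtain ⟨v', hv', d', hd'⟩ := ih {j // j ≠ i₀} hcard' SS hSSu hSSh hSSna
    let V : Matrix (Unit ⊕ {j // j ≠ i₀}) (Unit ⊕ {j // j ≠ i₀}) A := W * fromBlocks 1 0 0 v'
    have hV : IsUnit V := by
      refine hW.mul ?_
      rw [Matrix.isUnit_iff_isUnit_det, det_fromBlocks_zero₂₁, det_one, one_mul]
      exact (Matrix.isUnit_iff_isUnit_det _).mp hv'
    have hVkey : Vᴴ * M * V = diagonal (Sum.elim (fun _ => (uu : A)) d') := by
      have : Vᴴ * M * V = (fromBlocks 1 0 0 v')ᴴ * (Wᴴ * M * W) * fromBlocks 1 0 0 v' := by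
        simp only [V, conjTranspose_mul, Matrix.mul_assoc]
      rw [this, hWkey, fromBlocks_conjTranspose, fromBlocks_multiply, fromBlocks_multiply]
      simp only [conjTranspose_one, conjTranspose_zero, Matrix.one_mul, Matrix.mul_one,
        Matrix.zero_mul, Matrix.mul_zero, add_zero, zero_add]
      rw [hd', ← fromBlocks_diagonal]
      congr 1
      ext ⟨⟩ ⟨⟩
      simp
    refine ⟨v₁ * V.submatrix e.symm e.symm, hv₁.mul ((isUnit_submatrix_equiv _ _).mpr hV),
      (Sum.elim (fun _ => (uu : A)) d') ∘ e.symm, ?_⟩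
    have hh₁M : h₁ = M.submatrix e.symm e.symm := by
      simp only [M, submatrix_submatrix]
      simp
    rw [conjTranspose_mul, ← submatrix_diagonal_equiv, ← hVkey]
    calc (V.submatrix e.symm e.symm)ᴴ * v₁ᴴ * h * (v₁ * V.submatrix e.symm e.symm)
        = (V.submatrix e.symm e.symm)ᴴ * h₁ * V.submatrix e.symm e.symm := by
          rw [hh₁]; simp only [Matrix.mul_assoc]
      _ = (Vᴴ * M * V).submatrix e.symm e.symm := by
          rw [hh₁M, conjTranspose_submatrix, submatrix_mul_equiv, submatrix_mul_equiv]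

end Main


/-- an alternating matrix of odd size over a commutative ring has determinant zero -/
theorem det_eq_zero_of_alternating_odd {R : Type*} [CommRing R] {n : ℕ} (hn : Odd n)
    (N : Matrix (Fin n) (Fin n) R) (hskew : ∀ i j, N i j = -N j i) (hdiag : ∀ i, N i i = 0) :
    N.det = 0 := by
  classical
  rw [Matrix.det_apply]
  refine Finset.sum_ninvolution (fun σ => σ⁻¹) ?_ ?_ (fun _ => Finset.mem_univ _) (fun σ => inv_inv σ)
  · intro σ
    rw [Equiv.Perm.sign_inv]
    have h1 : ∏ i, N (σ⁻¹ i) i = ∏ j, N j (σ j) := by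
      rw [← Equiv.prod_comp σ (fun i => N (σ⁻¹ i) i)]
      refine Finset.prod_congr rfl fun j _ => ?_
      simp
    have h2 : ∏ j, N j (σ j) = - ∏ j, N (σ j) j := by
      have : ∀ j, N j (σ j) = - N (σ j) j := fun j => hskew j (σ j)
      simp_rw [this]
      rw [Finset.prod_neg, Finset.card_univ, Fintype.card_fin, hn.neg_one_pow, neg_one_mul]
    rw [h1, h2, smul_neg, add_neg_cancel]
  · intro σ hσ hinv
    apply hσ
    have hσ2 : σ ^ 2 ^ 1 = 1 := by
      rw [pow_one, sq]
      calc σ * σ = σ⁻¹ * σ := by rw [hinv]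
        _ = 1 := inv_mul_cancel σ
    haveI : Fact (Nat.Prime 2) := ⟨Nat.prime_two⟩
    have hα : ¬ 2 ∣ Fintype.card (Fin n) := by
      rw [Fintype.card_fin]
      exact fun h => (Nat.not_even_iff_odd.mpr hn) (even_iff_two_dvd.mpr h)
    obtain ⟨a, ha⟩ := Equiv.Perm.exists_fixed_point_of_prime hα hσ2
    have : ∏ i, N (σ i) i = 0 := Finset.prod_eq_zero (Finset.mem_univ a) (by rw [ha, hdiag])
    rw [this, smul_zero]


section L4
variable {A : Type v} [CommRing A] [StarRing A] {ε : A}
variable {ι : Type*} [Fintype ι] [DecidableEq ι]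

/-- **L4**: under `(★)` every invertible hermitian matrix of positive size is non-alternating. -/
lemma na_of_star (hε : ε = 1 ∨ ε = -1) (hE : EOK ε) {h : Matrix ι ι A} (hh : Herm ε h)
    (hu : IsUnit h) (i₀ : ι) (a' : A) (ha' : IsUnit (a' + ε * star a')) : NA h := by
  by_contra hna
  have hnu : ∀ x, ¬ IsUnit (H h x x) := fun x hx => hna ⟨x, hx⟩
  have hdet : IsUnit h.det := (Matrix.isUnit_iff_isUnit_det h).mp hu
  let y : ι → A := h⁻¹ *ᵥ Pi.single i₀ 1
  have hy : h *ᵥ y = Pi.single i₀ 1 := by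
    simp only [y]
    rw [mulVec_mulVec, Matrix.mul_nonsing_inv _ hdet, one_mulVec]
  have hey : H h (Pi.single i₀ 1) y = 1 := by
    rw [H_single_left, hy, Pi.single_eq_same]
  apply hnu (Pi.single i₀ 1 + a' • y)
  rw [H_trans hε hh, H_smul_right h a' (Pi.single i₀ 1) y, hey, mul_one]
  have h1 := H_self_symm hε hh (Pi.single i₀ (1 : A))
  have h2 := H_self_symm hε hh (a' • y)
  have h12 : star (H h (Pi.single i₀ 1) (Pi.single i₀ 1) + H h (a' • y) (a' • y)) =
      ε * (H h (Pi.single i₀ 1) (Pi.single i₀ 1) + H h (a' • y) (a' • y)) := by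
    rw [star_add, h1, h2]; ring
  rw [add_comm]
  exact hE.isUnit_add (cross_symm hε a') h12 ha' (hE _ _ h1 h2 (hnu _) (hnu _))

end L4

section Top
variable {B : Type u} {A : Type v} [CommRing B] [CommRing A] [Algebra B A]
  (lam : A ≃+* A) (hlam : Function.Involutive lam)

/-- the star structure given by the involution -/
@[reducible] def starOfInv : StarRing A where
  star := lam
  star_involutive := hlam
  star_mul a b := by
    change lam (a * b) = lam b * lam a
    rw [map_mul, mul_comm]
  star_add := map_add lam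

variable (hB : RInv.IsFixedRing B A lam) [IsLocalRing B]
include hlam hB

/-- `(★)` -/
lemma exists_star (ε : A) (hε : ε = 1 ∨ ε = -1)
    (hcase : (∃ a : A, lam a - a ∉ Ring.jacobson A) ∨ ε + 1 ∉ Ring.jacobson A) :
    ∃ a' : A, IsUnit (a' + ε * lam a') := by
  have h2s : lam (2 : A) = 1 * 2 := by rw [one_mul]; exact map_ofNat lam 2
  have hJ : ∀ (u j : A), IsUnit u → j ∈ Ring.jacobson A → IsUnit (u + j) := by
    intro u j hu hj
    rw [← Ideal.jacobson_bot, Ideal.mem_jacobson_bot] at hj
    obtain ⟨u', rfl⟩ := hu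
    have := hj (↑u'⁻¹ : A)
    have h3 : (u' : A) + j = u' * (j * ↑u'⁻¹ + 1) := by
      rw [mul_add, mul_one, mul_comm j, ← mul_assoc, Units.mul_inv, one_mul, add_comm]
    rw [h3]
    exact u'.isUnit.mul this
  have hd : ∀ a : A, lam a - a ∉ Ring.jacobson A → IsUnit (lam a - a) := by
    intro a ha
    by_contra hcon
    refine ha (mem_jacobson lam hlam hB (-1) (Or.inr rfl) _ ?_ hcon)
    rw [map_sub, hlam a]; ring
  rcases hε with rfl | rfl
  · by_cases h2 : IsUnit (2 : A)
    · refine ⟨1, ?_⟩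
      rw [map_one, one_mul, one_add_one_eq_two]
      exact h2
    · have h2J : (2 : A) ∈ Ring.jacobson A := mem_jacobson lam hlam hB 1 (Or.inl rfl) 2 h2s h2
      rcases hcase with ⟨a, ha⟩ | hc
      · refine ⟨a, ?_⟩
        have : a + 1 * lam a = (lam a - a) + 2 * a := by ring
        rw [this]
        exact hJ _ _ (hd a ha) (Ideal.mul_mem_right _ _ h2J)
      · exact absurd (by rw [one_add_one_eq_two]; exact h2J) hc
  · rcases hcase with ⟨a, ha⟩ | hc
    · refine ⟨-a, ?_⟩
      have : -a + -1 * lam (-a) = lam a - a := by rw [map_neg]; ring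
      rw [this]
      exact hd a ha
    · exact absurd (by rw [neg_add_cancel]; exact zero_mem _) hc

end Top

/-- Let `A` be a commutative ring with an involution `lam` whose fixed ring `B` is local, let `ε = ±1`,
and let `h` be an invertible `n × n` matrix over `A` that is `(ε, lam)`-hermitian: `h` equals `ε`
times the transpose of `lam` applied entrywise to `h`. If `lam` is not the identity modulo the
Jacobson radical of `A`, or `ε ≠ -1` modulo that radical, or `n` is odd, then `h` is congruent to a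
diagonal matrix: there is an invertible `v` with `(lam v)ᵀ h v` diagonal. -/
theorem result (B : Type u) (A : Type v) [CommRing B] [CommRing A]
    [Algebra B A] (lam : A ≃+* A) (hlam : Function.Involutive lam) (hB : RInv.IsFixedRing B A lam)
    [IsLocalRing B] (n : ℕ) (ε : A) (hε : ε = 1 ∨ ε = -1) (h : Matrix (Fin n) (Fin n) A)
    (hh : IsUnit h) (herm : ε • (h.map lam).transpose = h)
    (hcase : (∃ a : A, lam a - a ∉ Ring.jacobson A) ∨ ε + 1 ∉ Ring.jacobson A ∨ Odd n) :
    ∃ v : Matrix (Fin n) (Fin n) A, IsUnit v ∧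
      ∃ d : Fin n → A, (v.map lam).transpose * h * v = Matrix.diagonal d := by
  classical
  rcases subsingleton_or_nontrivial A with hsub | hnt
  · exact ⟨1, isUnit_one, 0, Subsingleton.elim _ _⟩
  letI : StarRing A := starOfInv lam hlam
  have hstar : ∀ a : A, star a = lam a := fun _ => rfl
  have hHerm : Herm ε h := herm
  have hE : EOK ε := fun s t hs ht hsu htu =>
    not_isUnit_add lam hlam hB ε hε s t hs ht hsu htu
  suffices hna : IsEmpty (Fin n) ∨ NA h by
    obtain ⟨v, hv, d, hd⟩ := diag_main hε hE n (Fin n) (Fintype.card_fin n) h hh hHerm hna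
    exact ⟨v, hv, d, hd⟩
  rcases Nat.eq_zero_or_pos n with rfl | hn
  · exact Or.inl inferInstance
  right
  have hεε : ε * ε = 1 := by rcases hε with rfl | rfl <;> ring
  by_cases h12 : (∃ a : A, lam a - a ∉ Ring.jacobson A) ∨ ε + 1 ∉ Ring.jacobson A
  · obtain ⟨a', ha'⟩ := exists_star lam hlam hB ε hε h12
    exact na_of_star hε hE hHerm hh ⟨0, hn⟩ a' ha'
  · push Not at h12
    obtain ⟨hid, hε1⟩ := h12
    have hodd : Odd n := by
      rcases hcase with ⟨a, ha⟩ | h2 | h3
      · exact absurd (hid a) ha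
      · exact absurd hε1 h2
      · exact h3
    -- some diagonal entry is a unit
    have hdsym : ∀ i, lam (h i i) = ε * h i i := by
      intro i
      have := H_self_symm hε hHerm (Pi.single i 1)
      rwa [H_single] at this
    suffices hex : ∃ i, IsUnit (h i i) by
      obtain ⟨i, hi⟩ := hex
      exact ⟨Pi.single i 1, by rwa [H_single]⟩
    by_contra hcon
    push Not at hcon
    have hdJ : ∀ i, h i i ∈ Ring.jacobson A := fun i =>
      mem_jacobson lam hlam hB ε hε _ (hdsym i) (hcon i)
    let π := Ideal.Quotient.mk (Ring.jacobson A)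
    have hπlam : ∀ a : A, π (lam a) = π a := by
      intro a
      rw [← sub_eq_zero, ← map_sub]
      exact Ideal.Quotient.eq_zero_iff_mem.mpr (hid a)
    have hπε : π ε = -1 := by
      rw [eq_neg_iff_add_eq_zero, ← map_one π, ← map_add]
      exact Ideal.Quotient.eq_zero_iff_mem.mpr hε1
    have hdet0 : (h.map π).det = 0 := by
      refine det_eq_zero_of_alternating_odd hodd _ ?_ ?_
      · intro i j
        rw [Matrix.map_apply, Matrix.map_apply, hHerm.apply i j, map_mul, hπε, hstar, hπlam]
        ring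
      · intro i
        rw [Matrix.map_apply]
        exact Ideal.Quotient.eq_zero_iff_mem.mpr (hdJ i)
    have hdetJ : h.det ∈ Ring.jacobson A := by
      rw [← Ideal.Quotient.eq_zero_iff_mem]
      change π h.det = 0
      rw [RingHom.map_det]
      exact hdet0
    have hdetu : IsUnit h.det := (Matrix.isUnit_iff_isUnit_det h).mp hh
    have htop : Ring.jacobson A = ⊤ := Ideal.eq_top_of_isUnit_mem _ hdetJ hdetu
    rw [← Ideal.jacobson_bot, Ideal.jacobson_eq_top_iff] at htop
    exact bot_ne_top htop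

end Groth.Agent.S15583
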