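import Groth.Statements.S15585
import Mathlib
-- import your own Groth.Agent.* helpers here

set_option autoImplicit false
universe u v
open RInv

namespace Groth.Agent.S15585

/-- A two-dimensional reduced commutative algebra over a field which is not a field is `k × k`. -/
theorem split_of_not_isField (k : Type u) (A : Type v) [Field k] [CommRing A] [Algebra k A]
    [IsReduced A] (h2 : Module.finrank k A = 2) (hnf : ¬ IsField A) :
    Nonempty (A ≃ₐ[k] (k × k)) := by
  haveI : Module.Finite k A := Module.finite_of_finrank_pos (by omega)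
  haveI : Nontrivial A := Module.nontrivial_of_finrank_pos (R := k) (by omega)
  obtain ⟨I, hI0, hI1⟩ := Ring.not_isField_iff_exists_ideal_bot_lt_and_lt_top.mp hnf
  obtain ⟨x, hxI, hx0⟩ := Submodule.exists_mem_ne_zero_of_ne_bot hI0.ne'
  have hxu : ¬ IsUnit x := fun hu => hI1.ne (Ideal.eq_top_of_isUnit_mem _ hxI hu)
  have halg_unit : ∀ q : k, q ≠ 0 → IsUnit (algebraMap k A q) := fun q hq =>
    (isUnit_iff_ne_zero.mpr hq).map (algebraMap k A)
  -- dependency relation
  have hdep : ¬ LinearIndependent k ![(1 : A), x, x ^ 2] := by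
    intro hli
    have := hli.fintype_card_le_finrank
    simp at this
    omega
  rw [Fintype.not_linearIndependent_iff] at hdep
  obtain ⟨g, hg, hne⟩ := hdep
  rw [Fin.sum_univ_three] at hg
  simp only [Matrix.cons_val_zero, Matrix.cons_val_one, Matrix.cons_val_two, Matrix.tail_cons,
    Matrix.head_cons] at hg
  -- obtain t with x^2 = t • x, t ≠ 0
  have hkey : ∃ t : k, t ≠ 0 ∧ x ^ 2 = t • x := by
    by_cases hc : g 2 = 0
    · exfalso
      rw [hc, zero_smul, add_zero] at hg
      by_cases hb : g 1 = 0
      · rw [hb, zero_smul, add_zero] at hg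
        have ha : g 0 = 0 := by
          rcases smul_eq_zero.mp hg with h | h
          · exact h
          · exact absurd h one_ne_zero
        obtain ⟨i, hi⟩ := hne
        fin_cases i <;> simp_all
      · have hx : x = algebraMap k A (-(g 0) / g 1) := by
          have h1 : g 1 • x = -(g 0 • (1 : A)) := eq_neg_of_add_eq_zero_right hg
          have h2' : x = (g 1)⁻¹ • (g 1 • x) := by rw [smul_smul, inv_mul_cancel₀ hb, one_smul]
          rw [h2', h1, Algebra.algebraMap_eq_smul_one, smul_neg, smul_smul, ← neg_smul]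
          congr 1
          field_simp
        by_cases hq : -(g 0) / g 1 = 0
        · rw [hq, map_zero] at hx; exact hx0 hx
        · exact hxu (hx ▸ halg_unit _ hq)
    · -- x^2 = t x + c
      set t : k := -(g 1) / g 2 with ht
      set c : k := -(g 0) / g 2 with hcdef
      have hx2 : x ^ 2 = t • x + c • (1 : A) := by
        have h1 : g 2 • x ^ 2 = -(g 0 • (1 : A)) - g 1 • x := by
          have := hg
          linear_combination (exp := 1) this
        have h2' : x ^ 2 = (g 2)⁻¹ • (g 2 • x ^ 2) := by
          rw [smul_smul, inv_mul_cancel₀ hc, one_smul]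
        rw [h2', h1, smul_sub, smul_neg, smul_smul, smul_smul, ht, hcdef]
        rw [show (g 2)⁻¹ * g 0 = g 0 / g 2 by field_simp, show (g 2)⁻¹ * g 1 = g 1 / g 2 by field_simp]
        rw [neg_div, neg_div, neg_smul, neg_smul]
        abel
      have hc0 : c = 0 := by
        by_contra hcne
        apply hxu
        have : x * (c⁻¹ • (x - t • 1)) = 1 := by
          rw [mul_smul_comm, mul_sub, ← pow_two, hx2, mul_smul_comm, mul_one]
          rw [add_sub_cancel_left, smul_smul, inv_mul_cancel₀ hcne, one_smul]
        exact isUnit_iff_exists_inv.mpr ⟨_, this⟩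
      rw [hc0, zero_smul, add_zero] at hx2
      refine ⟨t, ?_, hx2⟩
      intro ht0
      rw [ht0, zero_smul] at hx2
      exact hx0 (IsReduced.eq_zero _ ⟨2, hx2⟩)
  obtain ⟨t, ht0, hx2⟩ := hkey
  obtain ⟨e, hedef⟩ : ∃ e : A, e = t⁻¹ • x := ⟨_, rfl⟩
  have he : e * e = e := by
    calc e * e = (t⁻¹ * t⁻¹) • (x * x) := by rw [hedef, smul_mul_smul_comm]
      _ = (t⁻¹ * t⁻¹) • (t • x) := by rw [← hx2, pow_two]
      _ = e := by rw [smul_smul, mul_assoc, inv_mul_cancel₀ ht0, mul_one, hedef]
  have he0 : e ≠ 0 := by
    intro h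
    rw [hedef] at h
    rcases smul_eq_zero.mp h with h | h
    · exact inv_ne_zero ht0 h
    · exact hx0 h
  have he1 : 1 - e ≠ 0 := by
    intro h
    have h1 : e = 1 := (sub_eq_zero.mp h).symm
    have : x = algebraMap k A t := by
      rw [Algebra.algebraMap_eq_smul_one, ← h1, hedef, smul_smul, mul_inv_cancel₀ ht0, one_smul]
    exact hxu (this ▸ halg_unit t ht0)
  have hee : e * (1 - e) = 0 := by rw [mul_sub, mul_one, he, sub_self]
  have hee' : (1 - e) * (1 - e) = 1 - e := by
    rw [sub_mul, one_mul, hee, sub_zero]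
  -- the algebra hom k × k → A
  let f : (k × k) →ₗ[k] A :=
    (LinearMap.fst k k k).smulRight e + (LinearMap.snd k k k).smulRight (1 - e)
  have hf : ∀ a b : k, f (a, b) = a • e + b • (1 - e) := fun a b => rfl
  let φ : (k × k) →ₐ[k] A := AlgHom.ofLinearMap f
    (by rw [show (1 : k × k) = (1, 1) from rfl, hf, one_smul, one_smul]; ring)
    (by
      rintro ⟨a, b⟩ ⟨a', b'⟩
      rw [show ((a, b) : k × k) * (a', b') = (a * a', b * b') from rfl, hf, hf, hf]
      rw [add_mul, mul_add, mul_add, smul_mul_smul_comm, smul_mul_smul_comm, smul_mul_smul_comm,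
        smul_mul_smul_comm, he, hee', hee, mul_comm (1 - e) e, hee]
      simp)
  have hφ : ∀ p : k × k, φ p = f p := fun _ => rfl
  have hinj : Function.Injective φ := by
    rw [injective_iff_map_eq_zero]
    rintro ⟨a, b⟩ h
    rw [hφ, hf] at h
    have h1 : a • e = 0 := by
      have := congrArg (fun z => e * z) h
      simp only [mul_add, mul_smul_comm, he, hee, smul_zero, add_zero, mul_zero] at this
      exact this
    have h2 : b • (1 - e) = 0 := by
      rw [h1, zero_add] at h; exact h
    have ha : a = 0 := (smul_eq_zero.mp h1).resolve_right he0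
    have hb : b = 0 := (smul_eq_zero.mp h2).resolve_right he1
    rw [ha, hb]; rfl
  have hfr : Module.finrank k (k × k) = Module.finrank k A := by
    rw [Module.finrank_prod, Module.finrank_self, h2]
  have hbij : Function.Bijective φ :=
    ⟨hinj, (LinearMap.injective_iff_surjective_of_finrank_eq_finrank
      (f := φ.toLinearMap) hfr).mp hinj⟩
  exact ⟨(AlgEquiv.ofBijective φ hbij).symm⟩

/-- For a local ring `S` (maximal ideal `m`, residue field `k`) and a quadratic etale `S`-algebra `R`,
the ring `R/mR` is a field that is a separable extension of `k` of degree 2, or else it is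
isomorphic as a `k`-algebra to `k × k`. -/
theorem result (S : Type u) (R : Type v) [CommRing S]
    [CommRing R] [Algebra S R] [IsLocalRing S] (hq : RInv.IsQuadEtale S R) :
    (IsField (R ⧸ (IsLocalRing.maximalIdeal S).map (algebraMap S R)) ∧
      Module.finrank (S ⧸ IsLocalRing.maximalIdeal S)
        (R ⧸ (IsLocalRing.maximalIdeal S).map (algebraMap S R)) = 2 ∧
      Algebra.IsSeparable (S ⧸ IsLocalRing.maximalIdeal S)
        (R ⧸ (IsLocalRing.maximalIdeal S).map (algebraMap S R))) ∨
    Nonempty ((R ⧸ (IsLocalRing.maximalIdeal S).map (algebraMap S R)) ≃ₐ[S ⧸ IsLocalRing.maximalIdeal S]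
      ((S ⧸ IsLocalRing.maximalIdeal S) × (S ⧸ IsLocalRing.maximalIdeal S))) := by
  obtain ⟨hfin, hproj, hunr, hrank⟩ := hq
  letI : Field (S ⧸ IsLocalRing.maximalIdeal S) := Ideal.Quotient.field _
  haveI : Module.Free S R := Module.free_of_flat_of_isLocalRing
  have hfr : Module.finrank S R = 2 := by
    have h1 := hrank (IsLocalRing.closedPoint S)
    rw [Module.rankAtStalk_eq_finrank_of_free] at h1
    exact h1
  have h2 : Module.finrank (S ⧸ IsLocalRing.maximalIdeal S)
      (R ⧸ (IsLocalRing.maximalIdeal S).map (algebraMap S R)) = 2 := by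
    rw [IsLocalRing.finrank_quotient_map, hfr]
  haveI : Module.Finite (S ⧸ IsLocalRing.maximalIdeal S)
      (R ⧸ (IsLocalRing.maximalIdeal S).map (algebraMap S R)) :=
    Module.Finite.of_restrictScalars_finite S _ _
  haveI : Algebra.FormallyUnramified R (R ⧸ (IsLocalRing.maximalIdeal S).map (algebraMap S R)) :=
    Algebra.FormallyUnramified.of_surjective (Algebra.ofId R _) Ideal.Quotient.mk_surjective
  haveI : Algebra.FormallyUnramified S (R ⧸ (IsLocalRing.maximalIdeal S).map (algebraMap S R)) :=
    Algebra.FormallyUnramified.comp S R _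
  haveI : Algebra.FormallyUnramified (S ⧸ IsLocalRing.maximalIdeal S)
      (R ⧸ (IsLocalRing.maximalIdeal S).map (algebraMap S R)) :=
    Algebra.FormallyUnramified.of_restrictScalars S _ _
  haveI : IsReduced (R ⧸ (IsLocalRing.maximalIdeal S).map (algebraMap S R)) :=
    Algebra.FormallyUnramified.isReduced_of_field (S ⧸ IsLocalRing.maximalIdeal S) _
  by_cases hf : IsField (R ⧸ (IsLocalRing.maximalIdeal S).map (algebraMap S R))
  · left
    refine ⟨hf, h2, ?_⟩
    letI := hf.toField
    exact Algebra.FormallyUnramified.isSeparable (S ⧸ IsLocalRing.maximalIdeal S) _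
  · right
    exact split_of_not_isField _ _ h2 hf

end Groth.Agent.S15585
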