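import Groth.Statements.S15587
import Mathlib
import Groth.Agent.S15575
import Groth.Agent.S15576
import Groth.Agent.S15577
import Groth.Agent.S15586
-- import your own Groth.Agent.* helpers here

set_option autoImplicit false
universe u v
open scoped TensorProduct
open RInv

namespace Groth.Agent.S15587

theorem local_crit (S : Type u) (R : Type v) [CommRing S] [CommRing R]
    [Algebra S R] (lam : R ≃+* R) (hlam : Function.Involutive lam) (hS : RInv.IsFixedRing S R lam)
    [IsLocalRing S] :
    ¬ RInv.IsQuadEtale S R ↔ ∀ r : R, lam r - r ∈ Ring.jacobson R := by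
  constructor
  · intro hn r
    by_contra hr
    exact hn (Groth.Agent.S15576.result S R lam hlam hS ⟨r, hr⟩)
  · intro h
    exact (Groth.Agent.S15577.result S R lam hlam hS h).2

theorem isIntegral_of_fixed (S : Type u) (R : Type v) [CommRing S] [CommRing R]
    [Algebra S R] (lam : R ≃+* R) (hlam : Function.Involutive lam)
    (hS : RInv.IsFixedRing S R lam) : Algebra.IsIntegral S R := by
  obtain ⟨hinj, hfix⟩ := hS
  have hlamlam : ∀ x, lam (lam x) = x := hlam
  refine ⟨fun x => ?_⟩
  obtain ⟨t, ht⟩ := (hfix (x + lam x)).mp (by rw [map_add, hlamlam, add_comm])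
  obtain ⟨n, hn⟩ := (hfix (x * lam x)).mp (by rw [map_mul, hlamlam, mul_comm])
  refine ⟨Polynomial.X ^ 2 + (- Polynomial.C t * Polynomial.X + Polynomial.C n), ?_, ?_⟩
  · refine Polynomial.monic_X_pow_add ?_
    refine lt_of_le_of_lt (Polynomial.degree_add_le _ _) ?_
    refine max_lt ?_ (lt_of_le_of_lt Polynomial.degree_C_le (by norm_num))
    rw [← Polynomial.C_neg]
    exact lt_of_le_of_lt (Polynomial.degree_C_mul_X_le _) (by norm_num)
  · simp only [Polynomial.eval₂_add, Polynomial.eval₂_neg, Polynomial.eval₂_pow,
      Polynomial.eval₂_X, Polynomial.eval₂_mul, Polynomial.eval₂_C, ht, hn]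
    ring

attribute [local instance] Algebra.TensorProduct.rightAlgebra in
theorem main (S : Type u) (R : Type v) [CommRing S] [CommRing R]
    [Algebra S R] (lam : R ≃+* R) (hlam : Function.Involutive lam) (hS : RInv.IsFixedRing S R lam)
    (p : PrimeSpectrum S) :
    ¬ RInv.IsQuadEtale (Localization.AtPrime p.asIdeal) (Localization.AtPrime p.asIdeal ⊗[S] R) ↔
      ∃ q : PrimeSpectrum R, q.asIdeal.comap (algebraMap S R) = p.asIdeal ∧
        (∀ q' : PrimeSpectrum R, q'.asIdeal.comap (algebraMap S R) = p.asIdeal → q' = q) ∧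
        ∀ r : R, lam r - r ∈ q.asIdeal := by
  have hS' := hS
  obtain ⟨hinj, hfix⟩ := hS
  have hlamlam : ∀ x, lam (lam x) = x := hlam
  have hlamS : ∀ s : S, lam (algebraMap S R s) = algebraMap S R s :=
    fun s => (hfix _).mpr ⟨s, rfl⟩
  let lamA : R ≃ₐ[S] R := { lam with commutes' := hlamS }
  have hlamA : ∀ x, lamA x = lam x := fun _ => rfl
  have hlA : Function.Involutive lamA := hlam
  have hSA : RInv.IsFixedRing S R lamA.toRingEquiv := ⟨hinj, hfix⟩
  have hFixp := Groth.Agent.S15586.result S R (Localization.AtPrime p.asIdeal) lamA hlA hSA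
    (Or.inl inferInstance)
  have hInvp := Groth.Agent.S15575.congr_involutive (S' := Localization.AtPrime p.asIdeal) lamA hlA
  set Lp := (Algebra.TensorProduct.congr
    (AlgEquiv.refl : Localization.AtPrime p.asIdeal ≃ₐ[S] Localization.AtPrime p.asIdeal)
      lamA).toRingEquiv with hLp
  have hcrit := local_crit _ _ Lp hInvp hFixp
  have hint : Algebra.IsIntegral (Localization.AtPrime p.asIdeal)
      (Localization.AtPrime p.asIdeal ⊗[S] R) := isIntegral_of_fixed _ _ Lp hInvp hFixp
  have hι : ∀ r : R, algebraMap R (Localization.AtPrime p.asIdeal ⊗[S] R) r =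
      (1 : Localization.AtPrime p.asIdeal) ⊗ₜ[S] r := fun r => rfl
  have hLι : ∀ r : R, Lp (algebraMap R (Localization.AtPrime p.asIdeal ⊗[S] R) r) =
      algebraMap R (Localization.AtPrime p.asIdeal ⊗[S] R) (lam r) := by
    intro r
    rw [hι, hι, hLp, Groth.Agent.S15575.congr_tmul, hlamA]
  have htower : ∀ s : S, algebraMap R (Localization.AtPrime p.asIdeal ⊗[S] R) (algebraMap S R s) =
      algebraMap (Localization.AtPrime p.asIdeal) (Localization.AtPrime p.asIdeal ⊗[S] R)
        (algebraMap S _ s) := fun s => (Groth.Agent.S15575.alg_tmul s).symm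
  haveI hloc : IsLocalization (Algebra.algebraMapSubmonoid R p.asIdeal.primeCompl)
      (Localization.AtPrime p.asIdeal ⊗[S] R) := inferInstance
  -- (F2)
  have F2 : ∀ N : Ideal (Localization.AtPrime p.asIdeal ⊗[S] R), N.IsMaximal →
      (N.comap (algebraMap R (Localization.AtPrime p.asIdeal ⊗[S] R))).comap (algebraMap S R) =
        p.asIdeal := by
    intro N hN
    haveI hNc : (N.comap (algebraMap (Localization.AtPrime p.asIdeal)
        (Localization.AtPrime p.asIdeal ⊗[S] R))).IsMaximal :=
      Ideal.isMaximal_comap_of_isIntegral_of_isMaximal N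
    have e1 := IsLocalRing.eq_maximalIdeal hNc
    ext s
    simp only [Ideal.mem_comap]
    rw [htower]
    change algebraMap S (Localization.AtPrime p.asIdeal) s ∈ N.comap
      (algebraMap (Localization.AtPrime p.asIdeal) (Localization.AtPrime p.asIdeal ⊗[S] R)) ↔ _
    rw [e1]
    exact IsLocalization.AtPrime.to_map_mem_maximal_iff (Localization.AtPrime p.asIdeal)
      p.asIdeal s
  -- (F3)
  have F3 : ∀ q' : Ideal R, q'.IsPrime → q'.comap (algebraMap S R) = p.asIdeal →
      (q'.map (algebraMap R (Localization.AtPrime p.asIdeal ⊗[S] R))).IsMaximal ∧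
      (q'.map (algebraMap R (Localization.AtPrime p.asIdeal ⊗[S] R))).comap
        (algebraMap R (Localization.AtPrime p.asIdeal ⊗[S] R)) = q' := by
    intro q' hq' hq'p
    have hdisj : Disjoint ((Algebra.algebraMapSubmonoid R p.asIdeal.primeCompl : Submonoid R) :
        Set R) (q' : Set R) := by
      rw [Set.disjoint_left]
      rintro _ ⟨s, hs, rfl⟩ hmem
      apply hs
      rw [← hq'p]
      exact hmem
    have hprime := IsLocalization.isPrime_of_isPrime_disjoint
      (Algebra.algebraMapSubmonoid R p.asIdeal.primeCompl)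
      (Localization.AtPrime p.asIdeal ⊗[S] R) q' hq' hdisj
    have hcomap : (q'.map (algebraMap R (Localization.AtPrime p.asIdeal ⊗[S] R))).comap
        (algebraMap R (Localization.AtPrime p.asIdeal ⊗[S] R)) = q' :=
      IsLocalization.under_map_of_isPrime_disjoint
        (Algebra.algebraMapSubmonoid R p.asIdeal.primeCompl)
        (Localization.AtPrime p.asIdeal ⊗[S] R) hq' hdisj
    refine ⟨?_, hcomap⟩
    have hSp : (q'.map (algebraMap R (Localization.AtPrime p.asIdeal ⊗[S] R))).comap
        (algebraMap (Localization.AtPrime p.asIdeal) (Localization.AtPrime p.asIdeal ⊗[S] R)) =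
        IsLocalRing.maximalIdeal (Localization.AtPrime p.asIdeal) := by
      have h1 : ((q'.map (algebraMap R (Localization.AtPrime p.asIdeal ⊗[S] R))).comap
        (algebraMap (Localization.AtPrime p.asIdeal) (Localization.AtPrime p.asIdeal ⊗[S] R))).comap
          (algebraMap S (Localization.AtPrime p.asIdeal)) = p.asIdeal := by
        ext s
        simp only [Ideal.mem_comap]
        rw [← htower]
        change algebraMap S R s ∈ (q'.map _).comap
          (algebraMap R (Localization.AtPrime p.asIdeal ⊗[S] R)) ↔ _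
        rw [hcomap, ← hq'p]
        rfl
      have h2 := IsLocalization.map_under p.asIdeal.primeCompl (Localization.AtPrime p.asIdeal)
        ((q'.map (algebraMap R (Localization.AtPrime p.asIdeal ⊗[S] R))).comap
        (algebraMap (Localization.AtPrime p.asIdeal) (Localization.AtPrime p.asIdeal ⊗[S] R)))
      rw [← h2]
      change Ideal.map _ (Ideal.comap _ _) = _
      rw [h1, IsLocalization.AtPrime.map_eq_maximalIdeal]
    haveI : ((q'.map (algebraMap R (Localization.AtPrime p.asIdeal ⊗[S] R))).comap
        (algebraMap (Localization.AtPrime p.asIdeal)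
          (Localization.AtPrime p.asIdeal ⊗[S] R))).IsMaximal := by
      rw [hSp]; exact IsLocalRing.maximalIdeal.isMaximal _
    exact Ideal.isMaximal_of_isIntegral_of_isMaximal_comap _ this
  rw [hcrit]
  constructor
  · intro hall
    obtain ⟨hlocal, -⟩ := Groth.Agent.S15577.result _ _ Lp hInvp hFixp hall
    let q : PrimeSpectrum R :=
      ⟨(IsLocalRing.maximalIdeal (Localization.AtPrime p.asIdeal ⊗[S] R)).comap
        (algebraMap R (Localization.AtPrime p.asIdeal ⊗[S] R)), Ideal.comap_isPrime _ _⟩
    refine ⟨q, F2 _ (IsLocalRing.maximalIdeal.isMaximal _), ?_, ?_⟩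
    · intro q' hq'
      obtain ⟨hmax, hcm⟩ := F3 q'.asIdeal q'.isPrime hq'
      have h1 := IsLocalRing.eq_maximalIdeal hmax
      apply PrimeSpectrum.ext
      change q'.asIdeal = (IsLocalRing.maximalIdeal _).comap _
      rw [← h1, hcm]
    · intro r
      change algebraMap R (Localization.AtPrime p.asIdeal ⊗[S] R) (lam r - r) ∈
        IsLocalRing.maximalIdeal _
      rw [map_sub, ← hLι]
      have h1 := hall (algebraMap R (Localization.AtPrime p.asIdeal ⊗[S] R) r)
      rw [Ring.jacobson_eq_sInf_isMaximal, Submodule.mem_sInf] at h1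
      exact h1 _ (IsLocalRing.maximalIdeal.isMaximal _)
  · rintro ⟨q, hqp, huniq, hq⟩ ρ
    rw [Ring.jacobson_eq_sInf_isMaximal, Submodule.mem_sInf]
    intro N' hN
    obtain ⟨N, rfl⟩ : ∃ N : Ideal (Localization.AtPrime p.asIdeal ⊗[S] R), N = N' := ⟨N', rfl⟩
    have hNmax : N.IsMaximal := hN
    have hNq : N.comap (algebraMap R (Localization.AtPrime p.asIdeal ⊗[S] R)) = q.asIdeal := by
      have := huniq ⟨N.comap (algebraMap R (Localization.AtPrime p.asIdeal ⊗[S] R)),
        Ideal.comap_isPrime _ _⟩ (F2 N hNmax)
      exact congrArg PrimeSpectrum.asIdeal this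
    obtain ⟨⟨r, u⟩, hru⟩ := IsLocalizedModule.surj p.asIdeal.primeCompl
      (TensorProduct.mk S (Localization.AtPrime p.asIdeal) R 1) ρ
    simp only [TensorProduct.mk_apply] at hru
    have hu_unit : IsUnit (algebraMap S (Localization.AtPrime p.asIdeal ⊗[S] R) (u : S)) := by
      rw [IsScalarTower.algebraMap_apply S (Localization.AtPrime p.asIdeal)]
      exact (IsLocalization.map_units (Localization.AtPrime p.asIdeal) u).map _
    have hLp_smul : ∀ (c : S) (x : Localization.AtPrime p.asIdeal ⊗[S] R),
        Lp (c • x) = c • Lp x := by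
      intro c x
      rw [hLp]
      exact map_smul (Algebra.TensorProduct.congr
        (AlgEquiv.refl : Localization.AtPrime p.asIdeal ≃ₐ[S] Localization.AtPrime p.asIdeal)
        lamA) c x
    have h1 : algebraMap S (Localization.AtPrime p.asIdeal ⊗[S] R) (u : S) * (Lp ρ - ρ) ∈ N := by
      rw [← Algebra.smul_def, smul_sub, ← hLp_smul]
      change Lp (u • ρ) - u • ρ ∈ N
      rw [hru, ← hι, hLι, ← map_sub]
      change lam r - r ∈ N.comap _
      rw [hNq]
      exact hq r
    rcases hNmax.isPrime.mem_or_mem h1 with h2 | h2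
    · exact absurd (Ideal.eq_top_of_isUnit_mem _ h2 hu_unit) hNmax.ne_top
    · exact h2

/-- (b) ⇔ (d): let `R` be a commutative ring with an involution `lam` and fixed ring `S`, so that `Spec
R → Spec S` is a good quotient by the involution, and let `p` be a prime of `S`. Then `p` is a
branch point, i.e. the localisation `S_p ⊗_S R` is not quadratic etale over `S_p`, if and only if
exactly one prime `q` of `R` lies over `p` and `lam` induces the identity on the residue field of
`q` (equivalently `lam r - r ∈ q` for all `r`). This is the affine-local form of the statement for a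
good quotient of schemes, to which the general case reduces since such quotients are affine
morphisms. -/
theorem result (S : Type u) (R : Type v) [CommRing S] [CommRing R]
    [Algebra S R] (lam : R ≃+* R) (hlam : Function.Involutive lam) (hS : RInv.IsFixedRing S R lam)
    (p : PrimeSpectrum S) :
    ¬ RInv.IsQuadEtale (Localization.AtPrime p.asIdeal) (Localization.AtPrime p.asIdeal ⊗[S] R) ↔
      ∃ q : PrimeSpectrum R, q.asIdeal.comap (algebraMap S R) = p.asIdeal ∧
        (∀ q' : PrimeSpectrum R, q'.asIdeal.comap (algebraMap S R) = p.asIdeal → q' = q) ∧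
        ∀ r : R, lam r - r ∈ q.asIdeal := by
  exact main S R lam hlam hS p

end Groth.Agent.S15587
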