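import Groth.Statements.S15588
import Mathlib
import Groth.Agent.S15575
import Groth.Agent.S15573
import Groth.Agent.S15586
-- import your own Groth.Agent.* helpers here

set_option autoImplicit false
universe u v
open scoped TensorProduct
open RInv

namespace Groth.Agent.S15588

open TensorProduct in
theorem conv (S : Type u) (R : Type v) [CommRing S] [CommRing R]
    [Algebra S R] (lam : R ≃+* R) (hlam : Function.Involutive lam) (hS : RInv.IsFixedRing S R lam)
    (p' : PrimeSpectrum S) (r : R) (n : S) (hn' : n ∉ p'.asIdeal)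
    (hn : algebraMap S R n = (r - lam r) * lam (r - lam r)) :
    RInv.IsQuadEtale (Localization.AtPrime p'.asIdeal)
      (Localization.AtPrime p'.asIdeal ⊗[S] R) := by
  obtain ⟨hinj, hfix⟩ := hS
  have hlamS : ∀ s : S, lam (algebraMap S R s) = algebraMap S R s :=
    fun s => (hfix _).mpr ⟨s, rfl⟩
  let lamA : R ≃ₐ[S] R := { lam with commutes' := hlamS }
  have hlamA : ∀ x, lamA x = lam x := fun _ => rfl
  have hlA : Function.Involutive lamA := hlam
  have hSA : RInv.IsFixedRing S R lamA.toRingEquiv := ⟨hinj, hfix⟩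
  have hFixs := Groth.Agent.S15586.result S R (Localization.AtPrime p'.asIdeal) lamA hlA hSA
    (Or.inl inferInstance)
  have hInvs := Groth.Agent.S15575.congr_involutive (S' := Localization.AtPrime p'.asIdeal) lamA hlA
  refine Groth.Agent.S15573.result _ _ _ hInvs hFixs
    ⟨(1 : Localization.AtPrime p'.asIdeal) ⊗ₜ[S] r, ?_⟩
  rw [Groth.Agent.S15575.congr_tmul, hlamA, ← TensorProduct.tmul_sub]
  have h6 : ((1 : Localization.AtPrime p'.asIdeal) ⊗ₜ[S] (r - lam r)) *
      (1 ⊗ₜ[S] lam (r - lam r)) =
      algebraMap (Localization.AtPrime p'.asIdeal) (Localization.AtPrime p'.asIdeal ⊗[S] R)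
        (algebraMap S _ n) := by
    rw [Algebra.TensorProduct.tmul_mul_tmul, one_mul, ← hn, Groth.Agent.S15575.alg_tmul]
  have h7 : IsUnit (algebraMap (Localization.AtPrime p'.asIdeal)
      (Localization.AtPrime p'.asIdeal ⊗[S] R) (algebraMap S _ n)) :=
    ((IsLocalization.AtPrime.isUnit_to_map_iff (Localization.AtPrime p'.asIdeal)
      p'.asIdeal n).mpr hn').map _
  rw [← h6] at h7
  exact isUnit_of_mul_isUnit_left h7

/-- Let `R` be a commutative ring with an involution `lam` and fixed ring `S`, let `W ⊆ Spec S` be the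
branch locus (the primes `p` with `S_p ⊗_S R` not quadratic etale over `S_p`) and `I` its vanishing
ideal. Then `lam` is the identity on `R/rad(IR)`, i.e. on the reduced closed subscheme `π⁻¹(W)` of
`Spec R`: `lam r - r ∈ rad(IR)` for all `r`. Affine-local form of the statement for a good quotient
of schemes by an involution. -/
theorem result (S : Type u) (R : Type v) [CommRing S] [CommRing R]
    [Algebra S R] (lam : R ≃+* R) (hlam : Function.Involutive lam) (hS : RInv.IsFixedRing S R lam)
    (W : Set (PrimeSpectrum S))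
    (hW : W = {p : PrimeSpectrum S | ¬ RInv.IsQuadEtale (Localization.AtPrime p.asIdeal) (Localization.AtPrime p.asIdeal ⊗[S] R)})
    (r : R) :
    lam r - r ∈ ((PrimeSpectrum.vanishingIdeal W).map (algebraMap S R)).radical := by
  have hS' := hS
  obtain ⟨hinj, hfix⟩ := hS
  have hlamlam : ∀ x, lam (lam x) = x := hlam
  rw [Ideal.radical_eq_sInf, Submodule.mem_sInf]
  rintro Q ⟨hQle, hQprime⟩
  by_contra hd
  have hld : lam (lam r - r) = -(lam r - r) := by rw [map_sub, hlamlam]; ring
  obtain ⟨n0, hn0⟩ := (hfix ((lam r - r) * lam (lam r - r))).mp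
    (by rw [map_mul, hlamlam, mul_comm])
  have hn0Q : algebraMap S R n0 ∉ Q := by
    rw [hn0]
    intro h
    rcases hQprime.mem_or_mem h with h | h
    · exact hd h
    · rw [hld] at h
      exact hd (by simpa using Q.neg_mem h)
  have hn0I : n0 ∉ PrimeSpectrum.vanishingIdeal W :=
    fun h => hn0Q (hQle (Ideal.mem_map_of_mem _ h))
  rw [PrimeSpectrum.mem_vanishingIdeal] at hn0I
  push Not at hn0I
  obtain ⟨w, hwW, hnw⟩ := hn0I
  rw [hW] at hwW
  apply hwW
  refine conv S R lam hlam hS' w r n0 hnw ?_
  rw [hn0, hld]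
  have : lam (r - lam r) = -(r - lam r) := by rw [map_sub, hlamlam]; ring
  rw [this]
  ring

end Groth.Agent.S15588
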