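import Groth.Statements.S15589
import Mathlib
import Groth.Agent.S15587
import Groth.Agent.S15588
-- import your own Groth.Agent.* helpers here

set_option autoImplicit false
universe u v
open scoped TensorProduct
open RInv

namespace Groth.Agent.S15589

/-- Let `R` be a commutative ring with an involution `lam` and fixed ring `S`, `W ⊆ Spec S` the branch
locus (primes `p` with `S_p ⊗_S R` not quadratic etale over `S_p`), `I` its vanishing ideal and `J =
rad(IR)`. Then `Spec(R/J) → Spec(S/I)` is a homeomorphism; if `2` is a unit of `S`, the ring map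
`S/I → R/J` is moreover bijective, so the reduced preimage of the branch locus maps isomorphically
onto it. Affine-local form of the statement for a good quotient of schemes by an involution (the
hypothesis `I ≤ J ∩ S` holds automatically and only serves to write down the map). -/
theorem result (S : Type u) (R : Type v) [CommRing S] [CommRing R]
    [Algebra S R] (lam : R ≃+* R) (hlam : Function.Involutive lam) (hS : RInv.IsFixedRing S R lam)
    (W : Set (PrimeSpectrum S))
    (hW : W = {p : PrimeSpectrum S | ¬ RInv.IsQuadEtale (Localization.AtPrime p.asIdeal) (Localization.AtPrime p.asIdeal ⊗[S] R)})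
    (J : Ideal R) (hJ : J = ((PrimeSpectrum.vanishingIdeal W).map (algebraMap S R)).radical)
    (hIJ : PrimeSpectrum.vanishingIdeal W ≤ J.comap (algebraMap S R)) :
    IsHomeomorph (PrimeSpectrum.comap (Ideal.quotientMap J (algebraMap S R) hIJ)) ∧
      (IsUnit (2 : S) → Function.Bijective (Ideal.quotientMap J (algebraMap S R) hIJ)) := by
  have hS' := hS
  obtain ⟨hinj, hfix⟩ := hS
  have hlamlam : ∀ x, lam (lam x) = x := hlam
  have hint : Algebra.IsIntegral S R := Groth.Agent.S15587.isIntegral_of_fixed S R lam hlam hS'
  have hJmem : ∀ r : R, lam r - r ∈ J := by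
    intro r
    rw [hJ]
    exact Groth.Agent.S15588.result S R lam hlam hS' W hW r
  set φ := Ideal.quotientMap J (algebraMap S R) hIJ with hφ
  have hφmk : ∀ s : S, φ (Ideal.Quotient.mk _ s) = Ideal.Quotient.mk J (algebraMap S R s) :=
    fun s => rfl
  -- two primes over the same prime, both containing J, agree
  have hle : ∀ Q1 Q2 : Ideal R, Q1.IsPrime → Q2.IsPrime → J ≤ Q1 →
      Q1.comap (algebraMap S R) = Q2.comap (algebraMap S R) → Q2 ≤ Q1 := by
    intro Q1 Q2 h1 h2 hJ1 hcm x hx
    obtain ⟨s, hs⟩ := (hfix (x * lam x)).mp (by rw [map_mul, hlamlam, mul_comm])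
    have hs2 : s ∈ Q2.comap (algebraMap S R) := by
      change algebraMap S R s ∈ Q2
      rw [hs]; exact Q2.mul_mem_right _ hx
    rw [← hcm] at hs2
    have hx1 : x * lam x ∈ Q1 := by rw [← hs]; exact hs2
    rcases h1.mem_or_mem hx1 with h | h
    · exact h
    · have h3 := hJ1 (hJmem x)
      have : x = lam x - (lam x - x) := by ring
      rw [this]; exact Q1.sub_mem h h3
  have hcomapφ : ∀ a : Ideal (R ⧸ J),
      ((a.comap φ).comap (Ideal.Quotient.mk (PrimeSpectrum.vanishingIdeal W))) =
        (a.comap (Ideal.Quotient.mk J)).comap (algebraMap S R) := by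
    intro a
    ext s
    simp only [Ideal.mem_comap]
    rw [hφmk]
  refine ⟨?_, ?_⟩
  · rw [isHomeomorph_iff_continuous_isClosedMap_bijective]
    refine ⟨PrimeSpectrum.continuous_comap φ, ?_, ?_, ?_⟩
    · apply PrimeSpectrum.isClosedMap_comap_of_isIntegral
      apply RingHom.IsIntegral.tower_top (Ideal.Quotient.mk (PrimeSpectrum.vanishingIdeal W)) φ
      have : φ.comp (Ideal.Quotient.mk (PrimeSpectrum.vanishingIdeal W)) =
          (Ideal.Quotient.mk J).comp (algebraMap S R) := by
        ext s; rfl
      rw [this]
      refine RingHom.IsIntegral.trans _ _ ?_ ?_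
      · exact algebraMap_isIntegral_iff.mpr hint
      · exact RingHom.isIntegral_of_surjective _ Ideal.Quotient.mk_surjective
    · intro a b hab
      have h1 : (a.asIdeal.comap (Ideal.Quotient.mk J)).comap (algebraMap S R) =
          (b.asIdeal.comap (Ideal.Quotient.mk J)).comap (algebraMap S R) := by
        rw [← hcomapφ, ← hcomapφ]
        have := congrArg PrimeSpectrum.asIdeal hab
        change a.asIdeal.comap φ = b.asIdeal.comap φ at this
        rw [this]
      have hJa : J ≤ a.asIdeal.comap (Ideal.Quotient.mk J) := by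
        intro x hx
        change Ideal.Quotient.mk J x ∈ a.asIdeal
        rw [Ideal.Quotient.eq_zero_iff_mem.mpr hx]; exact a.asIdeal.zero_mem
      have hJb : J ≤ b.asIdeal.comap (Ideal.Quotient.mk J) := by
        intro x hx
        change Ideal.Quotient.mk J x ∈ b.asIdeal
        rw [Ideal.Quotient.eq_zero_iff_mem.mpr hx]; exact b.asIdeal.zero_mem
      have h2 : a.asIdeal.comap (Ideal.Quotient.mk J) = b.asIdeal.comap (Ideal.Quotient.mk J) :=
        le_antisymm
          (hle _ _ (Ideal.comap_isPrime _ _) (Ideal.comap_isPrime _ _) hJb h1.symm)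
          (hle _ _ (Ideal.comap_isPrime _ _) (Ideal.comap_isPrime _ _) hJa h1)
      apply PrimeSpectrum.ext
      exact Ideal.comap_injective_of_surjective _ Ideal.Quotient.mk_surjective h2
    · intro c
      haveI : (c.asIdeal.comap (Ideal.Quotient.mk (PrimeSpectrum.vanishingIdeal W))).IsPrime :=
        Ideal.comap_isPrime _ _
      obtain ⟨Q, -, hQp, hQc⟩ := Ideal.exists_ideal_over_prime_of_isIntegral
        (c.asIdeal.comap (Ideal.Quotient.mk (PrimeSpectrum.vanishingIdeal W))) (⊥ : Ideal R)
        (by
          intro s hs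
          have : algebraMap S R s = 0 := hs
          rw [(map_eq_zero_iff _ hinj).mp this]
          exact Ideal.zero_mem _)
      have hIQ : (PrimeSpectrum.vanishingIdeal W).map (algebraMap S R) ≤ Q := by
        rw [Ideal.map_le_iff_le_comap, hQc]
        intro s hs
        change Ideal.Quotient.mk _ s ∈ c.asIdeal
        rw [Ideal.Quotient.eq_zero_iff_mem.mpr hs]; exact c.asIdeal.zero_mem
      have hJQ : J ≤ Q := by
        rw [hJ]; exact hQp.radical_le_iff.mpr hIQ
      have hker : RingHom.ker (Ideal.Quotient.mk J) ≤ Q := by rw [Ideal.mk_ker]; exact hJQ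
      have hQbar : (Q.map (Ideal.Quotient.mk J)).IsPrime :=
        Ideal.map_isPrime_of_surjective Ideal.Quotient.mk_surjective hker
      have hQcm : (Q.map (Ideal.Quotient.mk J)).comap (Ideal.Quotient.mk J) = Q := by
        rw [Ideal.comap_map_of_surjective _ Ideal.Quotient.mk_surjective]
        rw [← RingHom.ker_eq_comap_bot, Ideal.mk_ker]
        exact sup_eq_left.mpr hJQ
      refine ⟨⟨Q.map (Ideal.Quotient.mk J), hQbar⟩, ?_⟩
      apply PrimeSpectrum.ext
      change (Q.map (Ideal.Quotient.mk J)).comap φ = c.asIdeal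
      apply Ideal.comap_injective_of_surjective _
        (Ideal.Quotient.mk_surjective (I := PrimeSpectrum.vanishingIdeal W))
      rw [hcomapφ, hQcm, hQc]
  · intro h2
    constructor
    · -- injective
      rw [injective_iff_map_eq_zero]
      intro x hx
      obtain ⟨s, rfl⟩ := Ideal.Quotient.mk_surjective x
      rw [hφmk, Ideal.Quotient.eq_zero_iff_mem] at hx
      rw [Ideal.Quotient.eq_zero_iff_mem, PrimeSpectrum.mem_vanishingIdeal]
      intro w hw
      -- prime over w
      obtain ⟨Q, -, hQp, hQc⟩ := Ideal.exists_ideal_over_prime_of_isIntegral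
        w.asIdeal (⊥ : Ideal R)
        (by
          intro s hs
          have : algebraMap S R s = 0 := hs
          rw [(map_eq_zero_iff _ hinj).mp this]
          exact Ideal.zero_mem _)
      have hIQ : (PrimeSpectrum.vanishingIdeal W).map (algebraMap S R) ≤ Q := by
        rw [Ideal.map_le_iff_le_comap, hQc]
        intro t ht
        exact (PrimeSpectrum.mem_vanishingIdeal _ _).mp ht w hw
      have hJQ : J ≤ Q := by
        rw [hJ]; exact hQp.radical_le_iff.mpr hIQ
      have : s ∈ Q.comap (algebraMap S R) := hJQ hx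
      rwa [hQc] at this
    · intro y
      obtain ⟨r, rfl⟩ := Ideal.Quotient.mk_surjective y
      obtain ⟨t, ht⟩ := (hfix (r + lam r)).mp (by rw [map_add, hlamlam, add_comm])
      obtain ⟨u, hu⟩ := h2
      refine ⟨Ideal.Quotient.mk _ (t * ((u⁻¹ : Sˣ) : S)), ?_⟩
      rw [hφmk, Ideal.Quotient.eq]
      have hu2 : algebraMap S R (u : S) = 2 := by rw [hu]; exact map_ofNat _ 2
      have huR : IsUnit (algebraMap S R (u : S)) := u.isUnit.map _
      have h3 : algebraMap S R (u : S) * (algebraMap S R (t * ((u⁻¹ : Sˣ) : S)) - r) ∈ J := by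
        have : algebraMap S R (u : S) * (algebraMap S R (t * ((u⁻¹ : Sˣ) : S)) - r) =
            lam r - r := by
          rw [mul_sub, ← map_mul, mul_comm t, ← mul_assoc, Units.mul_inv, one_mul, ht, hu2]
          ring
        rw [this]; exact hJmem r
      obtain ⟨v, hv⟩ := huR.exists_left_inv
      have : algebraMap S R (t * ((u⁻¹ : Sˣ) : S)) - r =
          v * (algebraMap S R (u : S) * (algebraMap S R (t * ((u⁻¹ : Sˣ) : S)) - r)) := by
        rw [← mul_assoc, hv, one_mul]
      rw [this]; exact J.mul_mem_left _ h3

end Groth.Agent.S15589
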