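import Groth.Statements.S15590
import Mathlib

set_option autoImplicit false
universe u v
open CAlg

namespace Groth.Agent.S15590

section aux

-- universes declared in template

theorem main (A : Type u) (B : Type v)
    [CommRing A] [CommRing B] [Algebra A B] [IsDedekindDomain B]
    (hinj : Function.Injective (algebraMap A B)) [Module.Finite A B] [Module.Flat A B] :
    IsDedekindDomain A := by
  have hdom : IsDomain A := hinj.isDomain (algebraMap A B)
  have hfs : FaithfulSMul A B := (faithfulSMul_iff_algebraMap_injective A B).mpr hinj
  have hint : Algebra.IsIntegral A B := Algebra.IsIntegral.of_finite A B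
  have hff : Module.FaithfullyFlat A B := inferInstance
  rw [isDedekindDomain_iff A (FractionRing A)]
  refine ⟨hdom, ?_, ?_, ?_⟩
  · -- noetherian
    rw [isNoetherianRing_iff_ideal_fg]
    intro I
    exact Ideal.FG.of_FG_map_of_faithfullyFlat (S := B)
      ((isNoetherianRing_iff_ideal_fg B).mp inferInstance _)
  · -- dimension
    constructor
    intro p hp0 hp
    obtain ⟨P, hP, hPp⟩ := Ideal.exists_isPrime_liesOver_of_faithfullyFlat (B := B) p
    have hPp' : p = P.comap (algebraMap A B) := hPp.over
    have hP0 : P ≠ ⊥ := by
      rintro rfl
      apply hp0
      rw [hPp', Ideal.comap_bot_of_injective _ hinj]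
    have hPmax : P.IsMaximal := hP.isMaximal hP0
    rw [hPp']
    exact Ideal.isMaximal_comap_of_isIntegral_of_isMaximal P
  · -- integrally closed
    intro x hx
    let g : A →+* FractionRing B := (algebraMap B (FractionRing B)).comp (algebraMap A B)
    have hg : Function.Injective g := (IsFractionRing.injective B (FractionRing B)).comp hinj
    let φ : FractionRing A →+* FractionRing B := IsFractionRing.lift hg
    have hφ : ∀ a : A, φ (algebraMap A (FractionRing A) a) = g a :=
      fun a => IsFractionRing.lift_algebraMap hg a
    obtain ⟨a, b, hb, hxab⟩ := IsFractionRing.div_surjective (A := A) x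
    subst hxab
    have hb0 : b ≠ 0 := nonZeroDivisors.ne_zero hb
    have hcomp : (algebraMap B (FractionRing B)).comp (algebraMap A B) =
        φ.comp (algebraMap A (FractionRing A)) := by
      ext a'
      exact (hφ a').symm
    have hx' : IsIntegral B (φ (algebraMap A (FractionRing A) a / algebraMap A (FractionRing A) b)) :=
      IsIntegral.map_of_comp_eq (algebraMap A B) φ hcomp hx
    obtain ⟨c, hc⟩ := (isIntegrallyClosed_iff (FractionRing B)).mp
      (inferInstance : IsIntegrallyClosed B) hx'
    rw [map_div₀, hφ, hφ] at hc
    have hgb : g b ≠ 0 := fun h0 => hb0 (hg (by rw [h0, map_zero]))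
    have h1 : algebraMap B (FractionRing B) (c * algebraMap A B b) =
        algebraMap B (FractionRing B) (algebraMap A B a) := by
      rw [map_mul, hc]
      show g a / g b * g b = g a
      rw [div_mul_cancel₀ _ hgb]
    have h2 : c * algebraMap A B b = algebraMap A B a :=
      IsFractionRing.injective B (FractionRing B) h1
    have h3 : a ∈ (Ideal.span {b} : Ideal A) := by
      rw [← Ideal.comap_map_eq_self_of_faithfullyFlat (B := B) (Ideal.span {b}), Ideal.mem_comap,
        Ideal.map_span, Set.image_singleton, Ideal.mem_span_singleton']
      exact ⟨c, h2⟩
    rw [Ideal.mem_span_singleton'] at h3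
    obtain ⟨y, hy⟩ := h3
    refine ⟨y, ?_⟩
    have hbK : algebraMap A (FractionRing A) b ≠ 0 := fun h0 =>
      hb0 ((IsFractionRing.injective A (FractionRing A)) (by rw [h0, map_zero]))
    rw [← hy, map_mul, mul_div_cancel_right₀ _ hbK]

end aux

/-- Let A → B be an injective homomorphism of commutative rings which makes B a finite flat A-module,
and suppose B is a Dedekind domain (Noetherian, integrally closed, of Krull dimension at most one; a
field is allowed). Then A is a Dedekind domain. -/
theorem result (A : Type u) (B : Type v)
    [CommRing A] [CommRing B] [Algebra A B] [IsDedekindDomain B]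
    (hinj : Function.Injective (algebraMap A B)) [Module.Finite A B] [Module.Flat A B] :
    IsDedekindDomain A := by
  exact main A B hinj

end Groth.Agent.S15590
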