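import Groth.Statements.S15595
import Mathlib
import Groth.Agent.S0565
-- import your own Groth.Agent.* helpers here

set_option autoImplicit false
set_option linter.unusedSectionVars false
set_option linter.style.haveILetI false
universe u
open TensorProduct
attribute [local instance] RingHom.ker_isPrime
open CAlg

namespace Groth.Agent.S15595

open TensorProduct
attribute [local instance] RingHom.ker_isPrime

/-- flat local hom of Noetherian local rings with `m_R S = m_S`, `R` regular ⇒ `S` regular. -/
theorem regular_of_flat_of_map_eq (R S : Type u) [CommRing R] [CommRing S] [IsRegularLocalRing R]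
    [IsLocalRing S] [IsNoetherianRing S] [Algebra R S] [IsLocalHom (algebraMap R S)]
    [Module.Flat R S]
    (h : (IsLocalRing.maximalIdeal R).map (algebraMap R S) = IsLocalRing.maximalIdeal S) :
    IsRegularLocalRing S := by
  apply IsRegularLocalRing.of_spanFinrank_maximalIdeal_le
  have h1 : (IsLocalRing.maximalIdeal S).spanFinrank ≤
      (IsLocalRing.maximalIdeal R).spanFinrank := by
    rw [← h]
    exact Ideal.spanFinrank_map_le_of_fg _ (IsNoetherian.noetherian _)
  have h2 : ringKrullDim R ≤ ringKrullDim S := by
    rw [← IsLocalRing.maximalIdeal_height_eq_ringKrullDim,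
      ← IsLocalRing.maximalIdeal_height_eq_ringKrullDim]
    have : (IsLocalRing.maximalIdeal S).LiesOver (IsLocalRing.maximalIdeal R) := by
      constructor
      rw [Ideal.under_def, IsLocalRing.maximalIdeal_comap]
    have := Ideal.height_eq_height_add_of_liesOver_of_hasGoingDown
      (IsLocalRing.maximalIdeal R) (IsLocalRing.maximalIdeal S)
    rw [this]
    exact_mod_cast le_self_add
  calc ((IsLocalRing.maximalIdeal S).spanFinrank : WithBot ℕ∞)
      ≤ (IsLocalRing.maximalIdeal R).spanFinrank := by exact_mod_cast h1
    _ = ringKrullDim R := IsRegularLocalRing.spanFinrank_maximalIdeal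
    _ ≤ ringKrullDim S := h2


section main
variable (k K A : Type u) [Field k] [Field K] [Algebra k K] [CommRing A] [Algebra k A]
  [IsLocalRing A] [IsNoetherianRing A] (π : A →ₐ[k] k)

attribute [local instance] Algebra.TensorProduct.rightAlgebra

noncomputable abbrev phi : K ⊗[k] A →ₐ[K] K :=
  (Algebra.TensorProduct.rid k K K).toAlgHom.comp (Algebra.TensorProduct.map (AlgHom.id K K) π)

noncomputable abbrev PP : Ideal (K ⊗[k] A) := RingHom.ker (phi k K A π)

lemma phi_tmul (c : K) (a : A) : phi k K A π (c ⊗ₜ a) = π a • c := by
  simp [phi]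

lemma pi_surj : Function.Surjective π := fun c => ⟨algebraMap k A c, by simp⟩

lemma PP_eq : PP k K A π = (RingHom.ker π).map (algebraMap A (K ⊗[k] A)) := by
  have h := Algebra.TensorProduct.lTensor_ker (A := K) π (pi_surj k A π)
  rw [Algebra.TensorProduct.algebraMap_eq_includeRight]
  change _ = Ideal.map (Algebra.TensorProduct.includeRight : A →ₐ[k] K ⊗[k] A) _
  rw [← h]
  ext x
  simp only [RingHom.mem_ker, AlgHom.comp_apply]
  exact (Algebra.TensorProduct.rid k K K).map_eq_zero_iff

instance flatT : Module.Flat A (K ⊗[k] A) := by
  have : (algebraMap A (K ⊗[k] A)).Flat :=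
    RingHom.Flat.isStableUnderBaseChange k K A (K ⊗[k] A)
      (RingHom.flat_algebraMap_iff.mpr inferInstance)
  exact RingHom.flat_algebraMap_iff.mp this

instance flatA' : Module.Flat A (Localization.AtPrime (PP k K A π)) :=
  Module.Flat.trans A (K ⊗[k] A) _

lemma localHom (hπ : RingHom.ker π = IsLocalRing.maximalIdeal A) :
    IsLocalHom (algebraMap A (Localization.AtPrime (PP k K A π))) := by
  constructor
  intro a ha
  rw [IsScalarTower.algebraMap_apply A (K ⊗[k] A) (Localization.AtPrime (PP k K A π)),
    IsLocalization.AtPrime.isUnit_to_map_iff _ (PP k K A π)] at ha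
  by_contra hne
  apply ha
  have : a ∈ RingHom.ker π := by rw [hπ]; exact hne
  rw [RingHom.mem_ker] at this
  change phi k K A π (1 ⊗ₜ a) = 0
  rw [phi_tmul, this, zero_smul]

lemma map_max (hπ : RingHom.ker π = IsLocalRing.maximalIdeal A) :
    (IsLocalRing.maximalIdeal A).map (algebraMap A (Localization.AtPrime (PP k K A π))) =
      IsLocalRing.maximalIdeal (Localization.AtPrime (PP k K A π)) := by
  rw [← Localization.AtPrime.map_eq_maximalIdeal]
  have h1 : Ideal.map (algebraMap A (Localization.AtPrime (PP k K A π)))
      (IsLocalRing.maximalIdeal A) =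
      Ideal.map (algebraMap (K ⊗[k] A) (Localization.AtPrime (PP k K A π)))
        ((IsLocalRing.maximalIdeal A).map (algebraMap A (K ⊗[k] A))) := by
    rw [Ideal.map_map, ← IsScalarTower.algebraMap_eq]
  rw [h1]
  congr 1
  rw [← hπ, PP_eq]

end main

/-- Let k ⊆ K be a field extension and A a Noetherian local k-algebra with residue field k, recorded by
a k-algebra map π : A → k whose kernel is the maximal ideal. Let π_K : K ⊗_k A → K be the induced
K-algebra map, m' its kernel, and A' the localization of K ⊗_k A at m'. Assume A' is Noetherian.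
Then A is a regular local ring if and only if A' is a regular local ring. -/
theorem result (k K A : Type u) [Field k] [Field K]
    [Algebra k K] [CommRing A] [Algebra k A] [IsLocalRing A] [IsNoetherianRing A]
    (π : A →ₐ[k] k) (hπ : RingHom.ker π = IsLocalRing.maximalIdeal A)
    [IsNoetherianRing (Localization.AtPrime (RingHom.ker
      ((Algebra.TensorProduct.rid k K K).toAlgHom.comp (Algebra.TensorProduct.map (AlgHom.id K K) π))))] :
    IsRegularLocalRing A ↔ IsRegularLocalRing (Localization.AtPrime (RingHom.ker
      ((Algebra.TensorProduct.rid k K K).toAlgHom.comp (Algebra.TensorProduct.map (AlgHom.id K K) π)))) := by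
  letI := Algebra.TensorProduct.rightAlgebra (R := k) (A := K) (B := A)
  haveI := localHom k K A π hπ
  haveI := flatA' k K A π
  constructor
  · intro h
    exact regular_of_flat_of_map_eq A (Localization.AtPrime (PP k K A π)) (map_max k K A π hπ)
  · intro h
    exact Groth.Agent.S0565.result A (Localization.AtPrime (PP k K A π))

end Groth.Agent.S15595
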