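import Groth.Statements.S15605
import Mathlib

set_option autoImplicit false
universe u
open TensorProduct
open AGF

namespace Groth.Agent.S15605

section aux
open TensorProduct

-- universe u declared in template

/-- product functionals of separating families separate the tensor product -/
theorem sep {k : Type*} [Field k] {V W : Type*} [AddCommGroup V] [Module k V] [AddCommGroup W]
    [Module k W] {ι ι' : Type*} (F : ι → (V →ₗ[k] k)) (F' : ι' → (W →ₗ[k] k))
    (hF : ∀ v, (∀ i, F i v = 0) → v = 0) (hF' : ∀ w, (∀ i, F' i w = 0) → w = 0)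
    (y : V ⊗[k] W)
    (hy : ∀ i i', (TensorProduct.lid k k) (TensorProduct.map (F i) (F' i') y) = 0) : y = 0 := by
  classical
  let ℬ := Module.Basis.ofVectorSpace k W
  obtain ⟨b, rfl⟩ := TensorProduct.eq_repr_basis_right ℬ y (M := V)
  have hb : ∀ j, b j = 0 := by
    intro j
    apply hF
    intro i
    have h1 : ∀ i', F' i' (Finsupp.linearCombination k ℬ (b.mapRange (F i) (map_zero _))) = 0 := by
      intro i'
      have h2 := hy i i'
      rw [Finsupp.sum, map_sum, map_sum] at h2
      rw [Finsupp.linearCombination_apply, Finsupp.sum_mapRange_index (by simp), Finsupp.sum, map_sum]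
      rw [← h2]
      refine Finset.sum_congr rfl fun j _ => ?_
      simp
    have h3 := hF' _ h1
    have h4 := (linearIndependent_iff.mp ℬ.linearIndependent) _ h3
    have h5 := DFunLike.congr_fun h4 j
    rw [Finsupp.mapRange_apply] at h5
    exact h5
  rw [Finsupp.sum]
  refine Finset.sum_eq_zero fun j _ => ?_
  rw [hb j, TensorProduct.zero_tmul]

theorem main (k A A' : Type u) [Field k] [CommRing A] [Algebra k A]
    [CommRing A'] [Algebra k A']
    (S : Set (A →ₐ[k] k)) (S' : Set (A' →ₐ[k] k)) :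
    (⨅ σ ∈ S, ⨅ σ' ∈ S', RingHom.ker ((Algebra.TensorProduct.lmul' (S := k) k).comp
        (Algebra.TensorProduct.map σ σ'))) =
      Ideal.map (Algebra.TensorProduct.includeLeft : A →ₐ[k] A ⊗[k] A') (⨅ σ ∈ S, RingHom.ker σ) ⊔
        Ideal.map (Algebra.TensorProduct.includeRight : A' →ₐ[k] A ⊗[k] A') (⨅ σ' ∈ S', RingHom.ker σ') := by
  classical
  set I : Ideal A := ⨅ σ ∈ S, RingHom.ker σ with hI
  set I' : Ideal A' := ⨅ σ' ∈ S', RingHom.ker σ' with hI'
  have hIσ : ∀ σ ∈ S, ∀ a ∈ I, σ a = 0 := by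
    intro σ hσ a ha
    rw [hI] at ha
    simp only [Ideal.mem_iInf] at ha
    exact ha σ hσ
  have hIσ' : ∀ σ ∈ S', ∀ a ∈ I', σ a = 0 := by
    intro σ hσ a ha
    rw [hI'] at ha
    simp only [Ideal.mem_iInf] at ha
    exact ha σ hσ
  let Φ : A ⊗[k] A' →ₐ[k] (A ⧸ I) ⊗[k] (A' ⧸ I') :=
    Algebra.TensorProduct.map (Ideal.Quotient.mkₐ k I) (Ideal.Quotient.mkₐ k I')
  have hker : RingHom.ker Φ = Ideal.map (Algebra.TensorProduct.includeLeft : A →ₐ[k] A ⊗[k] A') I ⊔
        Ideal.map (Algebra.TensorProduct.includeRight : A' →ₐ[k] A ⊗[k] A') I' := by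
    have := Algebra.TensorProduct.map_ker (Ideal.Quotient.mkₐ k I) (Ideal.Quotient.mkₐ k I')
      (Ideal.Quotient.mkₐ_surjective k I) (Ideal.Quotient.mkₐ_surjective k I')
    have e1 : RingHom.ker (Ideal.Quotient.mkₐ k I) = I := by
      ext a; rw [RingHom.mem_ker, Ideal.Quotient.mkₐ_eq_mk, Ideal.Quotient.eq_zero_iff_mem]
    have e2 : RingHom.ker (Ideal.Quotient.mkₐ k I') = I' := by
      ext a; rw [RingHom.mem_ker, Ideal.Quotient.mkₐ_eq_mk, Ideal.Quotient.eq_zero_iff_mem]
    rw [e1, e2] at this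
    exact this
  rw [← hker]
  -- induced functionals
  let F : S → ((A ⧸ I) →ₗ[k] k) := fun σ => (Ideal.Quotient.liftₐ I σ.1 (hIσ σ.1 σ.2)).toLinearMap
  let F' : S' → ((A' ⧸ I') →ₗ[k] k) := fun σ => (Ideal.Quotient.liftₐ I' σ.1 (hIσ' σ.1 σ.2)).toLinearMap
  have hcompat : ∀ (σ : S) (σ' : S') (x : A ⊗[k] A'),
      ((Algebra.TensorProduct.lmul' (S := k) k).comp (Algebra.TensorProduct.map σ.1 σ'.1)) x =
        (TensorProduct.lid k k) (TensorProduct.map (F σ) (F' σ') (Φ x)) := by
    intro σ σ' x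
    induction x using TensorProduct.induction_on with
    | zero => simp
    | tmul a a' =>
      simp [Φ, F, F'] <;> rfl
    | add x y hx hy => rw [map_add, hx, hy, map_add, map_add, map_add]
  have hF : ∀ v : A ⧸ I, (∀ i, F i v = 0) → v = 0 := by
    intro v hv
    obtain ⟨a, rfl⟩ := Ideal.Quotient.mk_surjective v
    rw [Ideal.Quotient.eq_zero_iff_mem, hI]
    simp only [Ideal.mem_iInf]
    intro σ hσ
    have := hv ⟨σ, hσ⟩
    simp only [F, AlgHom.toLinearMap_apply, Ideal.Quotient.liftₐ_apply] at this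
    exact this
  have hF' : ∀ v : A' ⧸ I', (∀ i, F' i v = 0) → v = 0 := by
    intro v hv
    obtain ⟨a, rfl⟩ := Ideal.Quotient.mk_surjective v
    rw [Ideal.Quotient.eq_zero_iff_mem, hI']
    simp only [Ideal.mem_iInf]
    intro σ hσ
    have := hv ⟨σ, hσ⟩
    simp only [F', AlgHom.toLinearMap_apply, Ideal.Quotient.liftₐ_apply] at this
    exact this
  ext x
  simp only [Ideal.mem_iInf, RingHom.mem_ker]
  constructor
  · intro hx
    apply sep F F' hF hF' (Φ x)
    intro σ σ'
    rw [← hcompat]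
    exact hx σ.1 σ.2 σ'.1 σ'.2
  · intro hx σ hσ σ' hσ'
    have := hcompat ⟨σ, hσ⟩ ⟨σ', hσ'⟩ x
    rw [this]
    have hx' : Φ x = 0 := hx
    rw [hx', map_zero, map_zero]

end aux

/-- Affine form. Let k be a field, A and A' finitely generated commutative k-algebras and S, S' sets of
k-algebra homomorphisms A → k, A' → k. The closure of a set of rational points of Spec A is cut out
by the intersection of their kernels. Compatibility of these closures with products: in A ⊗_k A',
the intersection over (σ, σ') ∈ S × S' of the kernels of σ ⊗ σ' : A ⊗_k A' → k equals the ideal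
generated by the images of ⋂_{σ} ker σ and of ⋂_{σ'} ker σ'. -/
theorem result (k A A' : Type u) [Field k] [CommRing A] [Algebra k A]
    [Algebra.FiniteType k A] [CommRing A'] [Algebra k A'] [Algebra.FiniteType k A']
    (S : Set (A →ₐ[k] k)) (S' : Set (A' →ₐ[k] k)) :
    (⨅ σ ∈ S, ⨅ σ' ∈ S', RingHom.ker ((Algebra.TensorProduct.lmul' (S := k) k).comp
        (Algebra.TensorProduct.map σ σ'))) =
      Ideal.map (Algebra.TensorProduct.includeLeft : A →ₐ[k] A ⊗[k] A') (⨅ σ ∈ S, RingHom.ker σ) ⊔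
        Ideal.map (Algebra.TensorProduct.includeRight : A' →ₐ[k] A ⊗[k] A') (⨅ σ' ∈ S', RingHom.ker σ') := by
  exact main k A A' S S'

end Groth.Agent.S15605
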