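import Groth.Statements.S15622
import Groth.Agent.Lib.helper10.SchFinFEt

set_option autoImplicit false
universe u
open SchFin SchFin.FEt

namespace Groth.Agent.S15622

open SchFin CategoryTheory CategoryTheory.Limits in
/-- For a schematic finite space, the category of étale covers (quasi-coherent algebras whose value at
every point is finite and étale over the ring of that point) has a terminal object and has binary
products. (In the published statement: finite direct products, the terminal object being the zero
algebra.) -/
theorem result (X : RSpace.{u}) (hX : X.IsSchematic) :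
    HasTerminal (FEt X) ∧ HasBinaryProducts (FEt X) := by
  constructor
  · -- terminal object: the empty product
    let F0 : PEmpty.{u + 1} → Alg X := fun i => i.elim
    let T : FEt X := ⟨Groth.Agent.Lib.helper10.SchFinFEt.piAlg F0,
      Groth.Agent.Lib.helper10.SchFinFEt.piAlg_isEtCover F0 (fun i => i.elim)⟩
    have hT : ∀ C : FEt X, Nonempty (Unique (C ⟶ T)) := by
      intro C
      refine ⟨⟨⟨ObjectProperty.homMk
        (Groth.Agent.Lib.helper10.SchFinFEt.piLift F0 (fun i => i.elim))⟩, ?_⟩⟩
      intro m
      apply ObjectProperty.hom_ext
      apply Alg.hom_ext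
      intro p
      apply AlgHom.ext
      intro c
      funext i
      exact i.elim
    have : ∀ C : FEt X, Unique (C ⟶ T) := fun C => (hT C).some
    exact hasTerminal_of_unique T
  · -- binary products
    have : ∀ A B : FEt X, HasLimit (pair A B) := by
      intro A B
      let F : ULift.{u} Bool → Alg X := fun b => cond b.down A.obj B.obj
      have hF : ∀ b, (F b).IsEtCover := by
        rintro ⟨_ | _⟩
        · exact B.property
        · exact A.property
      let P : FEt X := ⟨Groth.Agent.Lib.helper10.SchFinFEt.piAlg F,
        Groth.Agent.Lib.helper10.SchFinFEt.piAlg_isEtCover F hF⟩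
      let π1 : P ⟶ A := ObjectProperty.homMk (Groth.Agent.Lib.helper10.SchFinFEt.piProj F ⟨true⟩)
      let π2 : P ⟶ B := ObjectProperty.homMk (Groth.Agent.Lib.helper10.SchFinFEt.piProj F ⟨false⟩)
      have hlim := Groth.Agent.Lib.helper10.SchFinFEt.isLimit_binaryFan_of_bijective π1 π2 (by
        intro p
        constructor
        · intro x y hxy
          have h1 : x ⟨true⟩ = y ⟨true⟩ := congrArg Prod.fst hxy
          have h2 : x ⟨false⟩ = y ⟨false⟩ := congrArg Prod.snd hxy
          funext b
          rcases b with ⟨_ | _⟩
          · exact h2
          · exact h1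
        · rintro ⟨a, b⟩
          refine ⟨fun i => match i with
            | ⟨true⟩ => a
            | ⟨false⟩ => b, rfl⟩)
      exact ⟨⟨⟨_, hlim.some⟩⟩⟩
    exact hasBinaryProducts_of_hasLimit_pair _

end Groth.Agent.S15622
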