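import Groth.Statements.S15625
import Groth.Agent.Lib.helper10.SchFinFEt

set_option autoImplicit false
universe u
open SchFin SchFin.FEt

namespace Groth.Agent.S15625

open SchFin CategoryTheory in
/-- Over a schematic finite space, every morphism of étale covers factors, inside the category of étale
covers, as a morphism that is surjective at every point followed by one that is injective at every
point (in particular as an epimorphism followed by a monomorphism; the middle object is the quotient
by the kernel). -/
theorem result (X : RSpace.{u}) (hX : X.IsSchematic) {A B : FEt X}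
    (f : A ⟶ B) :
    ∃ (Q : FEt X) (g : A ⟶ Q) (h : Q ⟶ B), g ≫ h = f ∧ (∀ p : X.pt, Function.Surjective (g.hom.app p)) ∧
      ∀ p : X.pt, Function.Injective (h.hom.app p) := by
  have hFS : X.IsFinSp := hX.1
  let ε := Groth.Agent.Lib.helper10.SchFinFEt.kerIdem f
  have hε : ∀ {p q : X.pt} (h : p ≤ q), A.obj.res h (ε p) = ε q :=
    fun h => Groth.Agent.Lib.helper10.SchFinFEt.kerIdem_res f hFS h
  have hidem : ∀ p, IsIdempotentElem (ε p) := Groth.Agent.Lib.helper10.SchFinFEt.kerIdem_idem f
  let Q : FEt X := ⟨Groth.Agent.Lib.helper10.SchFinFEt.quotAlg A.obj ε hε,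
    Groth.Agent.Lib.helper10.SchFinFEt.quotAlg_isEtCover A.obj ε hε A.property hidem⟩
  have h0 : ∀ p, f.hom.app p (ε p) = 0 := Groth.Agent.Lib.helper10.SchFinFEt.kerIdem_map f
  refine ⟨Q, ObjectProperty.homMk (Groth.Agent.Lib.helper10.SchFinFEt.quotπ A.obj ε hε),
    ObjectProperty.homMk (Groth.Agent.Lib.helper10.SchFinFEt.quotLift A.obj ε hε f.hom h0), ?_, ?_, ?_⟩
  · apply ObjectProperty.hom_ext
    exact Groth.Agent.Lib.helper10.SchFinFEt.quotπ_quotLift A.obj ε hε f.hom h0
  · intro p
    exact Groth.Agent.Lib.helper10.SchFinFEt.quotπ_surjective A.obj ε hε p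
  · intro p
    exact Groth.Agent.Lib.helper10.SchFinFEt.quotLift_injective A.obj ε hε f.hom h0 p
      (Groth.Agent.Lib.helper10.SchFinFEt.ker_eq_span_kerIdem f p)

end Groth.Agent.S15625
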