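import Groth.Statements.S15626
import Groth.Agent.Lib.helper10.SchFinFEt

set_option autoImplicit false
universe u
open SchFin SchFin.FEt

namespace Groth.Agent.S15626

open SchFin CategoryTheory in
/-- Over a schematic finite space, a monomorphism in the category of étale covers is injective at every
point (the converse implication being elementary). -/
theorem result (X : RSpace.{u}) (hX : X.IsSchematic) {A B : FEt X} (f : A ⟶ B)
    [Mono f] (p : X.pt) : Function.Injective (f.hom.app p) := by
  have hFS : X.IsFinSp := hX.1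
  let e := Groth.Agent.Lib.helper10.SchFinFEt.kerIdem f
  have he : ∀ {p q : X.pt} (h : p ≤ q), A.obj.res h (e p) = e q :=
    fun h => Groth.Agent.Lib.helper10.SchFinFEt.kerIdem_res f hFS h
  have heidem : ∀ p, IsIdempotentElem (e p) := Groth.Agent.Lib.helper10.SchFinFEt.kerIdem_idem f
  have hker : ∀ p, RingHom.ker (f.hom.app p) = Ideal.span {e p} :=
    Groth.Agent.Lib.helper10.SchFinFEt.ker_eq_span_kerIdem f
  have he0 : ∀ p, f.hom.app p (e p) = 0 := Groth.Agent.Lib.helper10.SchFinFEt.kerIdem_map f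
  -- the two test morphisms from 𝒪 × 𝒪
  let T : FEt X := ⟨Groth.Agent.Lib.helper10.SchFinFEt.twoAlg X,
    Groth.Agent.Lib.helper10.SchFinFEt.twoAlg_isEtCover X⟩
  let ε1 : ∀ p, A.obj.carrier p := fun _ => 1
  have hε1 : ∀ {p q : X.pt} (h : p ≤ q), A.obj.res h (ε1 p) = ε1 q := fun h => map_one _
  have hid1 : ∀ p, IsIdempotentElem (ε1 p) := fun p => IsIdempotentElem.one
  let ε2 : ∀ p, A.obj.carrier p := fun p => 1 - e p
  have hε2 : ∀ {p q : X.pt} (h : p ≤ q), A.obj.res h (ε2 p) = ε2 q := by
    intro p q h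
    show A.obj.res h (1 - e p) = 1 - e q
    rw [map_sub, map_one, he h]
  have hid2 : ∀ p, IsIdempotentElem (ε2 p) := fun p => (heidem p).one_sub
  let u : T ⟶ A := ObjectProperty.homMk
    (Groth.Agent.Lib.helper10.SchFinFEt.idemHom A.obj ε1 hε1 hid1)
  let v : T ⟶ A := ObjectProperty.homMk
    (Groth.Agent.Lib.helper10.SchFinFEt.idemHom A.obj ε2 hε2 hid2)
  have huv : u ≫ f = v ≫ f := by
    apply ObjectProperty.hom_ext
    apply Alg.hom_ext
    intro q
    apply AlgHom.ext
    intro (x : ULift.{u} Bool → X.ring q)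
    show f.hom.app q ((Groth.Agent.Lib.helper10.SchFinFEt.idemHom A.obj ε1 hε1 hid1).app q x) =
      f.hom.app q ((Groth.Agent.Lib.helper10.SchFinFEt.idemHom A.obj ε2 hε2 hid2).app q x)
    rw [Groth.Agent.Lib.helper10.SchFinFEt.idemHom_apply,
      Groth.Agent.Lib.helper10.SchFinFEt.idemHom_apply]
    show f.hom.app q (x ⟨true⟩ • (1 : A.obj.carrier q) + x ⟨false⟩ • (1 - 1)) =
      f.hom.app q (x ⟨true⟩ • (1 - e q) + x ⟨false⟩ • (1 - (1 - e q)))
    rw [sub_self, smul_zero, add_zero, sub_sub_cancel, map_add, map_smul, map_smul, map_smul,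
      map_sub, map_one, he0 q, sub_zero, smul_zero, add_zero]
  have huv' : u = v := (cancel_mono f).1 huv
  -- evaluate at (0, 1)
  have hev : e p = 0 := by
    have h1 := congrArg (fun k : T ⟶ A => k.hom.app p
      (fun b : ULift.{u} Bool => if b.down then (0 : X.ring p) else 1)) huv'
    have h2 : (Groth.Agent.Lib.helper10.SchFinFEt.idemHom A.obj ε1 hε1 hid1).app p
        (fun b : ULift.{u} Bool => if b.down then (0 : X.ring p) else 1) =
      (Groth.Agent.Lib.helper10.SchFinFEt.idemHom A.obj ε2 hε2 hid2).app p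
        (fun b : ULift.{u} Bool => if b.down then (0 : X.ring p) else 1) := h1
    rw [Groth.Agent.Lib.helper10.SchFinFEt.idemHom_apply,
      Groth.Agent.Lib.helper10.SchFinFEt.idemHom_apply] at h2
    have h3 : (0 : X.ring p) • (1 : A.obj.carrier p) + (1 : X.ring p) • (1 - 1) =
        (0 : X.ring p) • (1 - e p) + (1 : X.ring p) • (1 - (1 - e p)) := h2
    rw [zero_smul, zero_smul, one_smul, one_smul, sub_self, add_zero, zero_add, sub_sub_cancel] at h3
    exact h3.symm
  rw [injective_iff_map_eq_zero]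
  intro a ha
  have : a ∈ Ideal.span {e p} := by rw [← hker p]; exact ha
  rw [hev] at this
  simpa using this

end Groth.Agent.S15626
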