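import Groth.Statements.S15628
import Groth.Agent.Lib.helper10.SchFinFEt

set_option autoImplicit false
universe u
open SchFin SchFin.FEt

namespace Groth.Agent.S15628

open SchFin CategoryTheory CategoryTheory.Limits in
/-- Over a schematic finite space, a morphism f from an étale cover A to an étale cover B which is
surjective at every point identifies B with a direct factor of A: there are an étale cover D and a
morphism from A to D which together with f exhibit A as the product of B and D in the category of
étale covers. (The published statement assumes f an epimorphism of étale covers and first shows that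
epimorphisms are exactly the pointwise surjective morphisms, a step resting on an extension result
for quasi-coherent modules recalled there without proof; this row takes f surjective at every
point.) -/
theorem result (X : RSpace.{u}) (hX : X.IsSchematic)
    {A B : FEt X} (f : A ⟶ B) (hf : ∀ p : X.pt, Function.Surjective (f.hom.app p)) :
    ∃ (D : FEt X) (π : A ⟶ D), Nonempty (IsLimit (BinaryFan.mk f π)) := by
  have hFS : X.IsFinSp := hX.1
  let e := Groth.Agent.Lib.helper10.SchFinFEt.kerIdem f
  have he : ∀ {p q : X.pt} (h : p ≤ q), A.obj.res h (e p) = e q :=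
    fun h => Groth.Agent.Lib.helper10.SchFinFEt.kerIdem_res f hFS h
  have heidem : ∀ p, IsIdempotentElem (e p) := Groth.Agent.Lib.helper10.SchFinFEt.kerIdem_idem f
  have hker : ∀ p, RingHom.ker (f.hom.app p) = Ideal.span {e p} :=
    Groth.Agent.Lib.helper10.SchFinFEt.ker_eq_span_kerIdem f
  have he0 : ∀ p, f.hom.app p (e p) = 0 := Groth.Agent.Lib.helper10.SchFinFEt.kerIdem_map f
  let ε : ∀ p, A.obj.carrier p := fun p => 1 - e p
  have hε : ∀ {p q : X.pt} (h : p ≤ q), A.obj.res h (ε p) = ε q := by
    intro p q h
    show A.obj.res h (1 - e p) = 1 - e q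
    rw [map_sub, map_one, he h]
  have hidem : ∀ p, IsIdempotentElem (ε p) := fun p => (heidem p).one_sub
  let D : FEt X := ⟨Groth.Agent.Lib.helper10.SchFinFEt.quotAlg A.obj ε hε,
    Groth.Agent.Lib.helper10.SchFinFEt.quotAlg_isEtCover A.obj ε hε A.property hidem⟩
  let π : A ⟶ D := ObjectProperty.homMk (Groth.Agent.Lib.helper10.SchFinFEt.quotπ A.obj ε hε)
  refine ⟨D, π, Groth.Agent.Lib.helper10.SchFinFEt.isLimit_binaryFan_of_bijective f π ?_⟩
  intro p
  have hπ : ∀ a, π.hom.app p a = Ideal.Quotient.mk (Ideal.span {ε p}) a := fun a => rfl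
  have hee : e p * e p = e p := (heidem p).eq
  constructor
  · rw [injective_iff_map_eq_zero]
    intro a ha
    have h1 : f.hom.app p a = 0 := congrArg Prod.fst ha
    have h2 : π.hom.app p a = 0 := congrArg Prod.snd ha
    have m1 : a ∈ Ideal.span {e p} := by rw [← hker p]; exact h1
    have m2 : a ∈ Ideal.span {ε p} := by
      rw [hπ] at h2
      exact Ideal.Quotient.eq_zero_iff_mem.1 h2
    obtain ⟨c, rfl⟩ := Ideal.mem_span_singleton'.1 m1
    obtain ⟨d, hd⟩ := Ideal.mem_span_singleton'.1 m2
    have : c * e p = (c * e p) * e p := by rw [mul_assoc, hee]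
    rw [this, ← hd]
    show d * (1 - e p) * e p = 0
    rw [mul_assoc, sub_mul, one_mul, hee, sub_self, mul_zero]
  · rintro ⟨b, d⟩
    obtain ⟨a1, rfl⟩ := hf p b
    obtain ⟨a2, rfl⟩ := Ideal.Quotient.mk_surjective d
    refine ⟨(1 - e p) * a1 + e p * a2, ?_⟩
    apply Prod.ext
    · show f.hom.app p ((1 - e p) * a1 + e p * a2) = f.hom.app p a1
      rw [map_add, map_mul, map_mul, map_sub, map_one, he0 p, sub_zero, one_mul, zero_mul, add_zero]
    · have key : (Ideal.Quotient.mk (Ideal.span {ε p}) ((1 - e p) * a1 + e p * a2) :
          A.obj.carrier p ⧸ Ideal.span {ε p}) = Ideal.Quotient.mk (Ideal.span {ε p}) a2 := by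
        rw [Ideal.Quotient.eq, Ideal.mem_span_singleton']
        refine ⟨a1 - a2, ?_⟩
        show (a1 - a2) * (1 - e p) = _
        ring
      exact key

end Groth.Agent.S15628
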