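import Groth.Statements.S1563
import Groth.Agent.Lib.Helper5.StalkBCG

set_option autoImplicit false
universe u
open CategoryTheory CategoryTheory.Limits AlgebraicGeometry
open Variety

namespace Groth.Agent.S1563

/-- Geometric regularity descends along a morphism f of locally Noetherian k-schemes which is flat at
the point x (the map of local rings at x is flat): if X has it at x then Y has it at f(x). -/
theorem result (k : Type u) [Field k] (X Y : Scheme.{u}) [X.Over (Spec (CommRingCat.of k))] [Y.Over (Spec (CommRingCat.of k))]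
    [IsLocallyNoetherian X] [IsLocallyNoetherian Y] (f : X ⟶ Y) (hf : f ≫ (Y ↘ (Spec (CommRingCat.of k))) = X ↘ (Spec (CommRingCat.of k)))
    (x : X) (hflat : (f.stalkMap x).hom.Flat) (hx : Curv2.IsGeomRegularAt k X x) :
    Curv2.IsGeomRegularAt k Y (f.base x) := by
  intro k' _ _ hfg y' hy'
  let _ : Algebra k (Y.presheaf.stalk (f.base x)) := Curv2.stalkAlgebra k Y (f.base x)
  let _ : Algebra k (X.presheaf.stalk x) := Curv2.stalkAlgebra k X x
  obtain ⟨Q, hQ, hQm, ⟨e⟩⟩ :=
    Groth.Agent.Lib.Helper5.StalkBC.exists_equiv_of_point' k Y k' (f.base x) y' hy'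
  let φ : Y.presheaf.stalk (f.base x) →ₐ[k] X.presheaf.stalk x :=
    { (f.stalkMap x).hom with
      commutes' := fun c => by
        have h1 := Groth.Agent.Lib.Helper5.StalkBC.stalkMap_comp k X Y f hf x
        exact DFunLike.congr_fun h1 c }
  have hloc : IsLocalHom φ.toRingHom := by
    change IsLocalHom (f.stalkMap x).hom
    infer_instance
  have hreg : IsRegularLocalRing (Localization.AtPrime Q) := by
    refine Groth.Agent.Lib.Helper5.StalkBC.regular_localization_descent k
      (Y.presheaf.stalk (f.base x)) (X.presheaf.stalk x) k' φ hloc hflat Q hQm ?_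
    intro P hP hPm
    obtain ⟨x', hx', ⟨e'⟩⟩ :=
      Groth.Agent.Lib.Helper5.StalkBC.exists_point_of_prime k X k' x P hPm
    have := hx k' hfg x' hx'
    exact IsRegularLocalRing.of_ringEquiv e'
  exact IsRegularLocalRing.of_ringEquiv e.symm

end Groth.Agent.S1563
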