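import Groth.Statements.S15631
import Groth.Agent.Lib.helper10.SchFinConn
import Groth.Agent.S15625
import Mathlib.RingTheory.Flat.LocallyFree

set_option autoImplicit false
universe u
open SchFin SchFin.GeomPt

namespace Groth.Agent.S15631

open SchFin CategoryTheory in
/-- For a well-connected schematic finite space and a geometric point with values in an algebraically
closed field, the fibre functor at that point (an étale cover A goes to the prime spectrum of Ω ⊗
A_x, x the point hit), on the opposite of the category of étale covers, reflects isomorphisms. (This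
row carries as a hypothesis the local triviality of étale covers — for every étale cover A there are
a quasi-coherent algebra B, finite and faithfully flat at every point, and a natural number n with
B_p ⊗ A_p isomorphic to B_p^n as a B_p-algebra at every point p — which holds for well-connected
schematic spaces, the published proof of that fact going by way of an equivalence of quasi-coherent
modules along qc-isomorphisms recalled without proof; the published statement does not carry it.) -/
theorem result (X : RSpace.{u}) (hX : X.IsSchematic)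
    (hwc : X.IsWellConnected)
    (hlt : ∀ A : FEt X, ∃ (B : Alg X) (n : ℕ), B.IsCovering ∧
      ∀ p : X.pt, Nonempty (TensorProduct (X.ring p) (B.carrier p) (A.obj.carrier p) ≃ₐ[B.carrier p] (Fin n → B.carrier p)))
    {Ω : Type u} [Field Ω] [IsAlgClosed Ω] (ξ : GeomPt X Ω) : ξ.fibFunctor.ReflectsIsomorphisms := by
  constructor
  intro A' B' f hiso
  -- the underlying morphism of étale covers
  let C : FEt X := B'.unop
  let D : FEt X := A'.unop
  let g : C ⟶ D := f.unop
  have hbij : Function.Bijective (ξ.fibMap g.hom) :=
    ConcreteCategory.bijective_of_isIso (ξ.fibFunctor.map f)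
  -- factor g
  obtain ⟨Q, s, h, hsh, hs, hh⟩ := Groth.Agent.S15625.result X hX g
  have hcomp : ξ.fibMap g.hom = ξ.fibMap s.hom ∘ ξ.fibMap h.hom := by
    rw [← ξ.fibMap_comp, ← hsh]
    rfl
  -- the fibre map of `s` is injective
  have hsinj : Function.Injective (ξ.fibMap s.hom) := by
    let _ : Algebra (X.ring ξ.base) Ω := ξ.toField.toAlgebra
    apply PrimeSpectrum.comap_injective_of_surjective
    exact Algebra.TensorProduct.map_surjective (AlgHom.id Ω Ω) (s.hom.app ξ.base)
      Function.surjective_id (hs ξ.base)
  have hssurj : Function.Surjective (ξ.fibMap s.hom) := by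
    intro y
    obtain ⟨x, hx⟩ := hbij.2 y
    exact ⟨ξ.fibMap h.hom x, by rw [hcomp] at hx; exact hx⟩
  have hsbij : Function.Bijective (ξ.fibMap s.hom) := ⟨hsinj, hssurj⟩
  have hhbij : Function.Bijective (ξ.fibMap h.hom) := by
    rw [hcomp] at hbij
    exact (Function.Bijective.of_comp_iff' hsbij _).1 hbij
  -- cardinalities and ranks
  obtain ⟨P0, hP0⟩ := Groth.Agent.Lib.helper10.SchFinConn.card_fib ξ
  have hcQC : Nat.card (ξ.Fib Q.obj) = Nat.card (ξ.Fib C.obj) := Nat.card_congr (Equiv.ofBijective _ hsbij)
  have hcDQ : Nat.card (ξ.Fib D.obj) = Nat.card (ξ.Fib Q.obj) := Nat.card_congr (Equiv.ofBijective _ hhbij)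
  obtain ⟨nC, hnC⟩ := Groth.Agent.Lib.helper10.SchFinConn.rank_const C.obj C.property hwc
  obtain ⟨nQ, hnQ⟩ := Groth.Agent.Lib.helper10.SchFinConn.rank_const Q.obj Q.property hwc
  obtain ⟨nD, hnD⟩ := Groth.Agent.Lib.helper10.SchFinConn.rank_const D.obj D.property hwc
  have e1 : nQ = nC := by
    rw [← hnQ ξ.base P0, ← hnC ξ.base P0, ← hP0 Q.obj Q.property, ← hP0 C.obj C.property, hcQC]
  have e2 : nD = nQ := by
    rw [← hnD ξ.base P0, ← hnQ ξ.base P0, ← hP0 D.obj D.property, ← hP0 Q.obj Q.property, hcDQ]
  -- `s` is an isomorphism
  have hsiso : IsIso s := by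
    apply Groth.Agent.Lib.helper10.SchFinFEt.isIso_of_bijective
    intro p
    have : Module.Finite (X.ring p) (C.obj.carrier p) := (C.property.2 p).1
    have : Algebra.Etale (X.ring p) (C.obj.carrier p) := (C.property.2 p).2
    have : Module.Finite (X.ring p) (Q.obj.carrier p) := (Q.property.2 p).1
    have : Algebra.Etale (X.ring p) (Q.obj.carrier p) := (Q.property.2 p).2
    exact Module.bijective_of_surjective_of_rankAtStalk_eq (φ := (s.hom.app p).toLinearMap) (hs p)
      (fun m _ => by rw [hnC, hnQ, e1])
  -- `h` is an isomorphism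
  have hhiso : IsIso h := by
    apply Groth.Agent.Lib.helper10.SchFinFEt.isIso_of_bijective
    intro p
    have : Module.Finite (X.ring p) (Q.obj.carrier p) := (Q.property.2 p).1
    have : Algebra.Etale (X.ring p) (Q.obj.carrier p) := (Q.property.2 p).2
    have : Module.Finite (X.ring p) (D.obj.carrier p) := (D.property.2 p).1
    have : Algebra.Etale (X.ring p) (D.obj.carrier p) := (D.property.2 p).2
    exact ⟨hh p, Groth.Agent.Lib.helper10.ProjIdem.surjective_of_injective_of_rank (h.hom.app p)
      (hh p) (fun P => by rw [hnQ, hnD, e2])⟩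
  have hgiso : IsIso g := by rw [← hsh]; infer_instance
  exact (isIso_unop_iff f).1 hgiso

end Groth.Agent.S15631
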