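import Groth.Statements.S1566
import Groth.Agent.Lib.Helper8.CurveVan2
import Groth.Agent.Lib.Helper8.Birat
import Groth.Agent.Lib.Helper8.CurveRR
import Groth.Agent.Lib.Helper8.ClImmDense

set_option autoImplicit false
universe u
open CategoryTheory CategoryTheory.Limits AlgebraicGeometry
open Curves

namespace Groth.Agent.S1566
open Groth.Agent.Lib.Helper8 Groth.Agent.Lib.Helper8.EulerK Groth.Agent.Lib.Helper8.ClImmDense
open Groth.Agent.Lib.Helper6.DevCore Groth.Agent.Lib.Helper6.DevStep

/-- Let X be proper of dimension at most one over k and f : Y → X a finite morphism which is a closed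
immersion over a dense open of X. Then the k-dimension of H^1 of the structure sheaf of Y is at most
that of X. -/
theorem result (k : Type u) [Field k] (X Y : Scheme.{u}) [X.Over (Spec (CommRingCat.of k))] [Y.Over (Spec (CommRingCat.of k))]
    [IsProper (X ↘ (Spec (CommRingCat.of k)))] (hdim : topologicalKrullDim X ≤ 1) (f : Y ⟶ X) [IsFinite f] (hf : f ≫ (X ↘ (Spec (CommRingCat.of k))) = Y ↘ (Spec (CommRingCat.of k)))
    (U : X.Opens) (hU : Dense (U : Set X)) (hfU : IsClosedImmersion (f ∣_ U)) :
    Curv2.genus k Y ≤ Curv2.genus k X := by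
  haveI := hfU
  haveI : IsNoetherian X := CurveRR.isNoetherian k X
  haveI : IsNoetherian Y := by
    haveI : IsLocallyNoetherian Y := LocallyOfFiniteType.isLocallyNoetherian f
    haveI : CompactSpace Y := QuasiCompact.compactSpace_of_compactSpace f
    exact { }
  set η := ClSub.unitToPush f with hη
  have hQ : CohB1.support (cokernel η) ⊆ ((U : Set X))ᶜ :=
    support_cokernel_subset_of_affine η U fun V hV hVa =>
      app_surjective_of_isClosedImmersion_restrict f U V hV hVa
  have hcO : Coh.IsCoh (Coh.structureModule X) := Groth.Agent.Lib.Helper6.DevRed.isCoh_structureModule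
  have hcP : Coh.IsCoh ((Scheme.Modules.pushforward f).obj (Coh.structureModule Y)) :=
    Groth.Agent.Lib.Helper6.DevChev.isCoh_push_of_isFinite f _
      Groth.Agent.Lib.Helper6.DevRed.isCoh_structureModule
  have hcK := isCoh_kernel η hcO hcP
  have hcQ := isCoh_cokernel η hcO hcP
  have hcI := isCoh_image η hcO hcP
  -- vanishing
  haveI hQ1 : Subsingleton (Coh.HH X (cokernel η) 1) :=
    CurveVan.subsingleton_HH_of_subsets_closed _
      (fun A hA => DenseOpen.isClosed_of_subset_compl hdim (U : Set X) U.isOpen hU A (hA.trans hQ)) 0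
  haveI : (kernel η).IsQuasicoherent := hcK.1
  haveI hK2 : Subsingleton (Coh.HH X (kernel η) 2) :=
    CurveVan2.subsingleton_HH_of_dim_le_one (X ↘ (Spec (CommRingCat.of k))) hdim (kernel η) 0
  have h1 := hh₃_le k _ (CurveVan.shortExact_kernel_image η) hcK hcO hcI 1
  have h2 := hh₂_le k _ (sc2_shortExact η) hcI hcP hcQ 1
  dsimp only [sc2] at h1 h2
  have z1 : hh k (kernel η) (1 + 1) = 0 := Module.finrank_zero_of_subsingleton
  have z2 : hh k (cokernel η) 1 = 0 := Module.finrank_zero_of_subsingleton
  have h3 := AffPush.finrank_push k f hf (Coh.structureModule Y) inferInstance 1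
  unfold Curv2.genus
  unfold hh at h1 h2 z1 z2
  omega

end Groth.Agent.S1566
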