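import Groth.Statements.S1569
import Groth.Agent.Lib.Helper29.EffCart2
import Groth.Agent.Lib.Helper29.EffCartDVR

set_option autoImplicit false
universe u
open CategoryTheory CategoryTheory.Limits AlgebraicGeometry
open Divisors

namespace Groth.Agent.S1569



open Groth.Agent.Lib.Helper29.EffCart in
/-- stalk at `fromSpec p` is a DVR if `p = (f)` with `f` a nonzerodivisor, for a Noetherian ring of sections. -/
theorem dvr_stalk_of_prime_principal {X : Scheme.{u}} (U : X.affineOpens)
    [IsNoetherianRing Γ(X, U.1)] (p : PrimeSpectrum Γ(X, U.1)) (f : Γ(X, U.1))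
    (hf : f ∈ nonZeroDivisors Γ(X, U.1)) (hp : p.asIdeal = Ideal.span {f}) :
    ∃ _ : IsDomain (X.presheaf.stalk (U.2.fromSpec p)),
      IsDiscreteValuationRing (X.presheaf.stalk (U.2.fromSpec p)) := by
  letI alg : Algebra Γ(X, U.1) (X.presheaf.stalk (U.2.fromSpec p)) :=
    TopCat.Presheaf.algebra_section_stalk X.presheaf ⟨U.2.fromSpec p, fromSpec_mem U p⟩
  haveI hloc : IsLocalization.AtPrime (X.presheaf.stalk (U.2.fromSpec p)) p.asIdeal :=
    U.2.isLocalization_stalk' p (fromSpec_mem U p)
  haveI : IsNoetherianRing (X.presheaf.stalk (U.2.fromSpec p)) :=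
    IsLocalization.isNoetherianRing p.asIdeal.primeCompl _ inferInstance
  refine isDVR_of_maximalIdeal_eq_span_nzd _ (algebraMap Γ(X, U.1) _ f) ?_ ?_
  · exact IsLocalization.map_nonZeroDivisors_le p.asIdeal.primeCompl _
      (Submonoid.mem_map_of_mem _ hf)
  · rw [← IsLocalization.AtPrime.map_eq_maximalIdeal p.asIdeal, hp, Ideal.map_span,
      Set.image_singleton]

/-- On a Noetherian scheme, an effective Cartier divisor which is integral as a closed subscheme has a
discrete valuation ring as the local ring of the ambient scheme at its generic point. -/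
theorem result (X : Scheme.{u}) [IsNoetherian X]
    (D : X.IdealSheafData) (hD : BlowUp.IsEffCartierIdeal D) [IsIntegral D.subscheme]
    (ξ : X) (hξ : IsGenericPoint ξ (D.support : Set X)) :
    ∃ _ : IsDomain (X.presheaf.stalk ξ), IsDiscreteValuationRing (X.presheaf.stalk ξ) := by
  open Groth.Agent.Lib.Helper29.EffCart in
  obtain ⟨U, hξU, f, hfnzd, hf⟩ := hD ξ
  have hξs : ξ ∈ (D.support : Set X) := hξ.mem
  have hgen : ∀ y ∈ (D.support : Set X), y ⤳ ξ → y = ξ := by
    intro y hy hyξ
    have h2 : ξ ⤳ y := by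
      rw [specializes_iff_mem_closure, hξ.def]; exact hy
    exact (hyξ.antisymm h2).eq
  obtain ⟨p, rfl⟩ := exists_fromSpec_eq U hξU
  haveI : IsNoetherianRing Γ(X, U.1) := IsLocallyNoetherian.component_noetherian U
  have hmin := mem_minimalPrimes_of_generic D U p hξs hgen
  -- the ideal is prime
  have hprime : (D.ideal U).IsPrime := by
    obtain ⟨d, hd⟩ : ∃ d : D.subscheme, D.subschemeι d = U.2.fromSpec p := by
      have : U.2.fromSpec p ∈ Set.range D.subschemeι := by
        rw [D.range_subschemeι]; exact hξs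
      exact this
    have hne : Nonempty ↥(D.subschemeι ⁻¹ᵁ U.1) := ⟨⟨d, by
      change D.subschemeι d ∈ U.1
      rw [hd]; exact hξU⟩⟩
    have hdom : IsDomain Γ(D.subscheme, D.subschemeι ⁻¹ᵁ U.1) :=
      @IsIntegral.component_integral _ _ _ hne
    have e := (D.subschemeObjIso U).commRingCatIsoToRingEquiv
    have : IsDomain (Γ(X, U.1) ⧸ D.ideal U) := e.symm.toMulEquiv.isDomain _
    exact (Ideal.Quotient.isDomain_iff_prime _).1 this
  have hp : p.asIdeal = Ideal.span {f} := by
    rw [← hf]
    exact le_antisymm (hmin.2 ⟨hprime, le_rfl⟩ hmin.1.2) hmin.1.2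
  exact dvr_stalk_of_prime_principal U p f hfnzd hp

end Groth.Agent.S1569
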