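import Groth.Statements.S15706
import Mathlib
-- import your own Groth.Agent.* helpers here

set_option autoImplicit false
universe u
open CAlg

namespace Groth.Agent.S15706

/-- Let A be a Noetherian ring with Serre's property (S_1), stated here in the equivalent form that
every associated prime of A is a minimal prime of A. Let I be an ideal of A and b an element of A/I
which is regular (a non-zero-divisor) in A/I. Then b is the image of a regular element of A. -/
theorem result (A : Type u) [CommRing A]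
    [IsNoetherianRing A] (hS1 : ∀ p ∈ associatedPrimes A A, p ∈ minimalPrimes A) (I : Ideal A)
    (b : A ⧸ I) (hb : b ∈ nonZeroDivisors (A ⧸ I)) :
    ∃ a : A, a ∈ nonZeroDivisors A ∧ Ideal.Quotient.mk I a = b := by
  classical
  obtain ⟨a₀, rfl⟩ := Ideal.Quotient.mk_surjective b
  have hfin := minimalPrimes.finite_of_isNoetherianRing A
  let s : Finset (Ideal A) := hfin.toFinset
  have hs : ∀ p, p ∈ s ↔ p ∈ minimalPrimes A := fun p => hfin.mem_toFinset
  let s₁ := s.filter (fun p => a₀ ∈ p)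
  let s₂ := s.filter (fun p => a₀ ∉ p)
  have hI : ∀ p ∈ s₁, ¬ I ≤ p := by
    intro p hp hIp
    rw [Finset.mem_filter, hs] at hp
    obtain ⟨hpmin, ha₀⟩ := hp
    have hpI : p ∈ I.minimalPrimes :=
      ⟨⟨hpmin.1.1, hIp⟩, fun q hq hqp => hpmin.2 ⟨hq.1, bot_le⟩ hqp⟩
    obtain ⟨y, hy, hxy⟩ := Ideal.exists_mul_mem_of_mem_minimalPrimes hpI ha₀
    have h0 : Ideal.Quotient.mk I a₀ * Ideal.Quotient.mk I y = 0 := by
      rw [← map_mul]; exact Ideal.Quotient.eq_zero_iff_mem.mpr hxy
    exact hy (Ideal.Quotient.eq_zero_iff_mem.mp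
      ((mul_right_mem_nonZeroDivisors_eq_zero_iff hb).mp (by rwa [mul_comm] at h0)))
  let J : Ideal A := I * ∏ p ∈ s₂, p
  have hJ : ¬ ((J : Set A) ⊆ ⋃ p ∈ (↑s₁ : Set (Ideal A)), ((id p : Ideal A) : Set A)) := by
    intro hsub
    have hprime : ∀ p ∈ s₁, p.IsPrime := by
      intro p hp
      rw [Finset.mem_filter, hs] at hp
      exact hp.1.1.1
    rw [Ideal.subset_union_prime (f := id) ⊥ ⊥ (fun p hp _ _ => hprime p hp)] at hsub
    obtain ⟨p, hp, hJp⟩ := hsub
    have hpprime : p.IsPrime := hprime p hp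
    rcases (Ideal.IsPrime.mul_le hpprime).mp hJp with h1 | h2
    · exact hI p hp h1
    · obtain ⟨q, hq, hqp⟩ := (Ideal.IsPrime.prod_le hpprime).mp h2
      rw [Finset.mem_filter, hs] at hp hq
      have hpq : p ≤ q := hp.1.2 ⟨hq.1.1.1, bot_le⟩ hqp
      exact hq.2 (hpq hp.2)
  obtain ⟨x, hxJ, hxn⟩ := Set.not_subset.mp hJ
  refine ⟨a₀ + x, ?_, ?_⟩
  · by_contra hnz
    have hmem : a₀ + x ∈ ⋃ p ∈ associatedPrimes A A, (p : Set A) := by
      rw [biUnion_associatedPrimes_eq_compl_nonZeroDivisors]; exact hnz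
    obtain ⟨p, hp, hap⟩ := Set.mem_iUnion₂.mp hmem
    have hpmin := hS1 p hp
    by_cases ha₀ : a₀ ∈ p
    · have hx : x ∈ p := by
        have := p.sub_mem hap ha₀
        simpa using this
      refine hxn (Set.mem_iUnion₂.mpr ⟨p, ?_, hx⟩)
      simp only [s₁, Finset.coe_filter, Set.mem_setOf_eq]
      exact ⟨(hs p).mpr hpmin, ha₀⟩
    · have hxp : x ∈ p := by
        have hp2 : p ∈ s₂ := by
          simp only [s₂, Finset.mem_filter]
          exact ⟨(hs p).mpr hpmin, ha₀⟩
        have h1 : J ≤ p :=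
          (Ideal.mul_le_right).trans (Ideal.prod_le_inf.trans (Finset.inf_le hp2))
        exact h1 hxJ
      refine ha₀ ?_
      have := p.sub_mem hap hxp
      simpa using this
  · rw [map_add, Ideal.Quotient.eq_zero_iff_mem.mpr (Ideal.mul_le_left hxJ), add_zero]

end Groth.Agent.S15706
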