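import Groth.Statements.S15712
import Groth.Agent.Lib.Helper29.SchDenseS1

set_option autoImplicit false
universe u
open CategoryTheory AlgebraicGeometry TopologicalSpace
open RatSing

namespace Groth.Agent.S15712




/-- Let X be a locally Noetherian scheme with Serre's property (S_1), i.e. every local ring O_{X,x} has
depth at least min(1, dim O_{X,x}) (for instance X Cohen–Macaulay), and let U ⊆ X be open. Then
scheme-theoretic density of U in X is equivalent to U being dense as a subset. (The published
statement assumes every scheme excellent, in particular locally Noetherian.) -/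
theorem result (X : Scheme.{u}) [IsLocallyNoetherian X]
    (hS1 : ∀ x : X, min (1 : WithBot ℕ∞) (ringKrullDim (X.presheaf.stalk x)) ≤
      ((LocCoh.depth (X.presheaf.stalk x) (X.presheaf.stalk x) : ℕ∞) : WithBot ℕ∞))
    (U : X.Opens) : CInt.IsSchematicallyDense U ↔ Dense (U : Set X) := by
  constructor
  · intro h
    rw [dense_iff_inter_open]
    intro V hV hVne
    by_contra hemp
    rw [Set.not_nonempty_iff_eq_empty] at hemp
    let W : X.Opens := ⟨V, hV⟩
    have hbot : W ⊓ U = ⊥ := by
      ext x
      simp only [Opens.coe_inf, Opens.coe_bot]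
      exact Set.ext_iff.1 hemp x
    have hinj := h W
    have : Nonempty W := by
      obtain ⟨x, hx⟩ := hVne
      exact ⟨⟨x, hx⟩⟩
    have hnt : Nontrivial Γ(X, W) := inferInstance
    obtain ⟨a, b, hab⟩ := hnt
    apply hab
    apply hinj
    have : Subsingleton Γ(X, W ⊓ U) := by
      rw [hbot]; infer_instance
    exact Subsingleton.elim _ _
  · intro h
    refine Groth.Agent.Lib.Helper29.MeroReg.schDense_of_assPoints U fun z hz => ?_
    refine Groth.Agent.Lib.Helper29.SchDenseS1.mem_of_dense U h z ?_
    have hdep := Groth.Agent.Lib.Helper29.SchDenseS1.depth_eq_zero_of_ass hz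
    have h1 := hS1 z
    rw [hdep] at h1
    have hdim : ringKrullDim (X.presheaf.stalk z) ≤ 0 := by
      rcases le_total (1 : WithBot ℕ∞) (ringKrullDim (X.presheaf.stalk z)) with h2 | h2
      · rw [min_eq_left h2] at h1
        exfalso
        have : (1 : WithBot ℕ∞) ≤ 0 := by exact_mod_cast h1
        exact absurd this (by decide)
      · rw [min_eq_right h2] at h1
        exact_mod_cast h1
    rw [← Groth.Agent.S8869.gen]
    intro p hp
    have : Ring.KrullDimLE 0 (X.presheaf.stalk z) := by
      rw [Ring.KrullDimLE, Order.krullDimLE_iff]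
      exact hdim
    exact Ring.KrullDimLE.eq_maximalIdeal_of_isPrime p



end Groth.Agent.S15712
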