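import Groth.Statements.S15713
import Groth.Agent.Lib.Helper7.BlowRegCM

set_option autoImplicit false
universe u
open CategoryTheory AlgebraicGeometry TopologicalSpace
open RatSing

namespace Groth.Agent.S15713

/-- Let W be a Cohen–Macaulay scheme (excellent, as the published statement assumes throughout), I an
ideal sheaf locally generated by a regular sequence, and π : T → W the blowing up of W in I. Then T
is Cohen–Macaulay. (The published statement also asserts that the closed subscheme V of I and the
exceptional divisor F are Cohen–Macaulay; this row states the assertion for T. The blowing up is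
characterised by its universal property.) -/
theorem result (W T : Scheme.{u}) [IsLocallyNoetherian W]
    (hexc : ∀ U : W.affineOpens, EGA4.IsExcellent Γ(W, U.1))
    (hcm : ∀ w : W, LocCoh.IsCohenMacaulayLocalRing (W.presheaf.stalk w))
    (I : W.IdealSheafData) (hI : RegImm.IsRegularIdeal RegImm.Kind.regular I)
    (π : T ⟶ W) (hπ : BlowUp.IsBlowUp π I) (t : T) :
    LocCoh.IsCohenMacaulayLocalRing (T.presheaf.stalk t) := by
  classical
  refine Groth.Agent.Lib.Helper7.BlowRegCM.stalk_isCM_of_isBlowUp hcm I (fun x => ?_) π hπ t
  by_cases hx : x ∈ I.support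
  · obtain ⟨U, hxU, rs, hrs, hid⟩ := hI x hx
    exact ⟨U, hxU, rs, (show RingTheory.Sequence.IsRegular Γ(W, U.1) rs from hrs).toIsWeaklyRegular,
      hid⟩
  · exact Groth.Agent.Lib.Helper7.BlowRegCM.exists_one_of_notMem_support I x hx

end Groth.Agent.S15713
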