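import Groth.Statements.S15715
import Groth.Agent.Lib.Helper29.MeroDense
import Groth.Agent.Lib.Helper29.QCohStalk2
import Groth.Agent.Lib.Helper28.QCohGen

set_option autoImplicit false
universe u
open CategoryTheory AlgebraicGeometry TopologicalSpace
open RatSing

namespace Groth.Agent.S15715




/-- Let X be a locally Noetherian scheme, φ : F → G a homomorphism of O_X-modules with F quasi-coherent
and torsion-free (over every affine open V, no nonzero section of F is killed by a regular element
of O_X(V)), and U a scheme-theoretically dense open subset of X such that the restriction of φ to U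
is injective. Then φ is injective. (The published statement allows an arbitrary O_X-module F; for
the skyscraper sheaf on the affine line over a field, placed at a closed point with value the local
ring at that point, which is torsion-free in this sense, the zero map to the zero module is
injective over the dense open complement of the point but not injective. This row takes F
quasi-coherent.) -/
theorem result (X : Scheme.{u})
    [IsLocallyNoetherian X] (F G : X.Modules) (hF : Coh.IsQCoh F)
    (htf : ∀ V : X.affineOpens, Submodule.torsion Γ(X, V.1) (F.val.obj (Opposite.op V.1)) = ⊥)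
    (φ : F ⟶ G) (U : X.Opens) (hU : CInt.IsSchematicallyDense U)
    (hφU : ∀ V : X.Opens, V ≤ U → Function.Injective ⇑(ConcreteCategory.hom (φ.val.app (Opposite.op V)))) (V : X.Opens) :
    Function.Injective ⇑(ConcreteCategory.hom (φ.val.app (Opposite.op V))) := by
  have hq : F.IsQuasicoherent := hF
  -- affine case
  have haff : ∀ (W : X.Opens) (hW : IsAffineOpen W) (s : Γ(F, W)), φ.app W s = 0 → s = 0 := by
    intro W hW s hs
    obtain ⟨t, ht, htU⟩ :=
      Groth.Agent.Lib.Helper29.MeroDiv.exists_regular_basicOpen_le_of_noetherian hW U (hU W)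
    have h1 : Groth.Agent.Lib.Helper28.QCohLoc.res F (X.basicOpen_le t) s = 0 := by
      apply hφU (X.basicOpen t) htU
      change φ.app (X.basicOpen t) (Groth.Agent.Lib.Helper28.QCohLoc.res F (X.basicOpen_le t) s) = φ.app (X.basicOpen t) 0
      rw [Groth.Agent.Lib.Helper28.QCohLoc.app_res, hs, Groth.Agent.Lib.Helper28.QCohLoc.res_zero, map_zero]
    obtain ⟨n, hn⟩ := Groth.Agent.Lib.Helper28.QCohLoc.exists_pow_smul_eq_zero F hW t s h1
    have hmem : s ∈ Submodule.torsion Γ(X, W) (F.val.obj (Opposite.op W)) := by
      exact ⟨⟨t ^ n, pow_mem ht n⟩, hn⟩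
    rw [htf ⟨W, hW⟩] at hmem
    exact (Submodule.mem_bot _).1 hmem
  rw [injective_iff_map_eq_zero]
  intro s hs
  refine Groth.Agent.Lib.Helper29.QCohStalk.eq_zero_of_forall_gm_eq_zero V s fun x hx => ?_
  obtain ⟨_, ⟨W, hW, rfl⟩, hxW, hWV⟩ :=
    X.isBasis_affineOpens.exists_subset_of_mem_open hx V.2
  have hWV' : W ≤ V := hWV
  have h0 : Groth.Agent.Lib.Helper28.QCohLoc.res F hWV' s = 0 := by
    apply haff W hW
    rw [Groth.Agent.Lib.Helper28.QCohLoc.app_res]
    have : φ.app V s = 0 := hs
    rw [this, Groth.Agent.Lib.Helper28.QCohLoc.res_zero]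
  rw [← Groth.Agent.Lib.Helper29.QCohStalk.gm_res F hWV' x hxW s, h0, Groth.Agent.Lib.Helper29.QCohStalk.gm_zero]



end Groth.Agent.S15715
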