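import Groth.Statements.S15717
import Mathlib
import Groth.Agent.Lib.Helper21.DepthKit8
import Groth.Agent.S0322

set_option autoImplicit false
universe u
open CAlg

namespace Groth.Agent.S15717
open Groth.Agent.Lib.Helper21.DepthKit IsLocalRing Module RingTheory.Sequence

theorem supportDim_quot_smul_top_self {R : Type u} [CommRing R] (J : Ideal R) :
    Module.supportDim R (R ⧸ (J • ⊤ : Submodule R R)) = ringKrullDim (R ⧸ J) := by
  have h : (J • ⊤ : Submodule R R) = J := by simp
  rw [Module.supportDim_eq_of_equiv (Submodule.quotEquivOfEq _ _ h)]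
  exact Module.supportDim_quotient_eq_ringKrullDim J


/-- Let R be a Cohen–Macaulay local ring and I an ideal of R with R/I equidimensional (all minimal
primes p over I have the same dim R/p). Then there is a regular sequence r_1, ..., r_n in I such
that the closed subscheme V(r_1, ..., r_n) of Spec R, a local complete intersection, contains V(I),
has the same dimension as V(I), and has the irreducible components of V(I) among its irreducible
components: dim R/(r_1, ..., r_n) = dim R/I and every minimal prime over I is a minimal prime over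
(r_1, ..., r_n). The sequence is asked to be weakly regular (each r_i a non-zero-divisor modulo the
previous ones), which for I proper is the same as regular and which also covers I = R with the
sequence (1). -/
theorem result (R : Type u) [CommRing R]
    [LocCoh.IsCohenMacaulayLocalRing R] (I : Ideal R)
    (hI : ∀ p ∈ I.minimalPrimes, ringKrullDim (R ⧸ p) = ringKrullDim (R ⧸ I)) :
    ∃ rs : List R, RingTheory.Sequence.IsWeaklyRegular R rs ∧ Ideal.ofList rs ≤ I ∧
      ringKrullDim (R ⧸ Ideal.ofList rs) = ringKrullDim (R ⧸ I) ∧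
      I.minimalPrimes ⊆ (Ideal.ofList rs).minimalPrimes := by
  by_cases hItop : I = ⊤
  · subst hItop
    refine ⟨[1], ?_, le_top, ?_, ?_⟩
    · rw [isWeaklyRegular_cons_iff]
      exact ⟨IsSMulRegular.one _, IsWeaklyRegular.nil _ _⟩
    · have : Ideal.ofList [(1 : R)] = ⊤ := by
        rw [Ideal.ofList_singleton, Ideal.span_singleton_one]
      rw [this]
    · rw [Ideal.minimalPrimes_top]
      exact Set.empty_subset _
  · have hCM : LocCoh.IsCohenMacaulayModule R R :=
      LocCoh.IsCohenMacaulayLocalRing.supportDim_eq_depth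
    obtain ⟨rs, hreg, hm, -, -, -, hq, -⟩ := Groth.Agent.S0322.key R I hItop R hCM
    have hle : Ideal.ofList rs ≤ I := ofList_le_of_forall_mem I hm
    rw [supportDim_quot_smul_top_self, supportDim_quot_smul_top_self] at hq
    refine ⟨rs, hreg, hle, hq.symm, ?_⟩
    intro p hp
    have hpp : p.IsPrime := hp.1.1
    refine ⟨⟨hpp, hle.trans hp.1.2⟩, ?_⟩
    rintro p' ⟨hp'p, hp'le⟩ hp'p2
    by_contra hnle
    have hlt : p' < p := lt_of_le_of_ne hp'p2 (fun h => hnle (h ▸ le_rfl))
    obtain ⟨x, hxp, hxp'⟩ := SetLike.exists_of_lt hlt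
    have h1 : ringKrullDim (R ⧸ p) + 1 ≤ ringKrullDim (R ⧸ p') :=
      ringKrullDim_quotient_succ_le_of_lt x hxp'
        (sup_le hp'p2 ((Ideal.span_singleton_le_iff_mem _).2 hxp))
    have h2 : ringKrullDim (R ⧸ p') ≤ ringKrullDim (R ⧸ Ideal.ofList rs) :=
      ringKrullDim_le_of_surjective (Ideal.Quotient.factor hp'le)
        (Ideal.Quotient.factor_surjective hp'le)
    rw [← hq, ← hI p hp] at h2
    have h3 := h1.trans h2
    -- dim R/p is a natural number
    have hfin : ringKrullDim (R ⧸ p) ≠ ⊤ := by
      have : ringKrullDim (R ⧸ p) ≤ ringKrullDim R :=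
        ringKrullDim_le_of_surjective _ Ideal.Quotient.mk_surjective
      intro h
      rw [h, top_le_iff] at this
      exact ringKrullDim_ne_top this
    have hbot : ringKrullDim (R ⧸ p) ≠ ⊥ := by
      have h0 : (0 : WithBot ℕ∞) ≤ ringKrullDim (R ⧸ p) := ringKrullDim_nonneg_of_nontrivial
      intro h
      rw [h] at h0
      exact absurd h0 (by simp)
    obtain ⟨d, hd⟩ := WithBot.ne_bot_iff_exists.1 hbot
    rw [← hd] at h3 hfin
    have hd' : d ≠ ⊤ := fun h => hfin (by rw [h]; rfl)
    obtain ⟨n, rfl⟩ := ENat.ne_top_iff_exists.1 hd'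
    have : ((n + 1 : ℕ) : WithBot ℕ∞) ≤ (n : ℕ) := by
      push_cast
      exact h3
    have : n + 1 ≤ n := by exact_mod_cast this
    omega

end Groth.Agent.S15717
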