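import Groth.Statements.S15732
import Groth.Agent.Lib.Helper29.HJFrac4
import Groth.Agent.Lib.Helper29.WeightGen

set_option autoImplicit false
universe u
open W4c2invhilbsl2

namespace Groth.Agent.S15732

lemma weight_wt5 (p q m : ℕ) (d : Fin 5 →₀ ℕ) :
    Finsupp.weight (W4c2invhilbsl2.wt5 p q m) d =
      ((d 0 : ℤ) - p * ((d 1 : ℤ) + d 2) + q * ((d 3 : ℤ) + d 4),
        ((((d 3 : ℤ) + d 4) - ((d 1 : ℤ) + d 2) : ℤ) : ZMod m)) := by
  rw [Finsupp.weight_apply, Finsupp.sum_fintype d (fun i c => c • W4c2invhilbsl2.wt5 p q m i)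
    (fun i => zero_smul ℕ _), Fin.sum_univ_five]
  simp only [W4c2invhilbsl2.wt5, Matrix.cons_val_zero, Matrix.cons_val_one, Matrix.cons_val_two,
    Matrix.cons_val]
  ext
  · simp
    ring
  · simp
    ring

/-- Let 0 < p < q be coprime integers and m ≥ 1 such that q − p does not divide m; put g = gcd(m, q−p),
b = (q−p)/g, α = ⌊mp/(q−p)⌋, β = the remainder of mp modulo q−p and t = (q−p−β)/g, so that 1 ≤ t <
b, and let b/t = c₁ − 1/(c₂ − 1/(⋯ − 1/c_r)) be the negative-regular (Hirzebruch–Jung) continued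
fraction expansion with every cᵢ ≥ 2; set P₀ = 0, P₁ = 1, Q₀ = −1, Q₁ = 0, Pᵢ = cᵢ₋₁Pᵢ₋₁ − Pᵢ₋₂, Qᵢ
= cᵢ₋₁Qᵢ₋₁ − Qᵢ₋₂ for 2 ≤ i ≤ r+1, and eᵢ = (α+1+m)Pᵢ − Qᵢ, lᵢ = (α+1)Pᵢ − Qᵢ, nᵢ = q·lᵢ − p·eᵢ,
which are non-negative integers for 0 ≤ i ≤ r+1. Grade the polynomial ring k[X₀,…,X₄] over a field k
by ℤ × ℤ/m, giving X₀ weight (1,0), X₁ and X₂ weight (−p,−1), and X₃ and X₄ weight (q,1). Then for
every 1 ≤ i ≤ r, modulo the principal ideal generated by the weight-zero element X₀^(q−p) − X₁X₄ +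
X₂X₃, every polynomial homogeneous of weight (nᵢ, 0) is congruent to a combination a₀·X₀^(nᵢ) + Σ
a_{e,l}·X₁^(eᵢ−e)X₂^e X₃^(lᵢ−l)X₄^l (sum over 0 ≤ e ≤ eᵢ, 0 ≤ l ≤ lᵢ) whose coefficients a₀, a_{e,l}
are homogeneous of weight zero. Equivalently, in the coordinate ring of the hypersurface the
weight-(nᵢ,0) piece is generated over the weight-zero subring (the invariant ring) by X₀^(nᵢ)
together with the products of a degree-eᵢ monomial in X₁, X₂ and a degree-lᵢ monomial in X₃, X₄.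
(The published statement is over the complex numbers; this row takes any field.) -/
theorem result (k : Type u) [Field k] (p q m : ℕ) (hp : 0 < p) (hpq : p < q) (hcop : Nat.Coprime p q) (hm : 0 < m) (hnt : ¬ (q - p ∣ m)) (c : List ℤ) (hc : W4c2invhilbsl2.IsHJDigits p q m c) (i : ℕ) (hi : 1 ≤ i) (hir : i ≤ c.length)
    (f : MvPolynomial (Fin 5) k) (hf : f ∈ MvPolynomial.weightedHomogeneousSubmodule k (W4c2invhilbsl2.wt5 p q m) (W4c2invhilbsl2.nN p q m c i, (0 : ZMod m))) :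
    ∃ (a₀ : MvPolynomial (Fin 5) k) (a : ℕ → ℕ → MvPolynomial (Fin 5) k),
      a₀ ∈ MvPolynomial.weightedHomogeneousSubmodule k (W4c2invhilbsl2.wt5 p q m) 0 ∧ (∀ e l : ℕ, a e l ∈ MvPolynomial.weightedHomogeneousSubmodule k (W4c2invhilbsl2.wt5 p q m) 0) ∧
      f - (a₀ * MvPolynomial.X (0 : Fin 5) ^ (W4c2invhilbsl2.nN p q m c i).toNat +
          ∑ e ∈ Finset.range ((W4c2invhilbsl2.eE p q m c i).toNat + 1), ∑ l ∈ Finset.range ((W4c2invhilbsl2.lL p q m c i).toNat + 1),
            a e l * (MvPolynomial.X (1 : Fin 5) ^ ((W4c2invhilbsl2.eE p q m c i).toNat - e) * MvPolynomial.X (2 : Fin 5) ^ e *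
              MvPolynomial.X (3 : Fin 5) ^ ((W4c2invhilbsl2.lL p q m c i).toNat - l) * MvPolynomial.X (4 : Fin 5) ^ l)) ∈
        Ideal.span {MvPolynomial.X (0 : Fin 5) ^ (q - p) - MvPolynomial.X 1 * MvPolynomial.X 4 + MvPolynomial.X 2 * MvPolynomial.X 3} := by
  open Groth.Agent.Lib.Helper29.HJ in
  classical
  obtain ⟨hn0, hnD⟩ := nN_lt_D p q m hpq hcop hm c hc i hi hir
  have hDpos : (0 : ℤ) < (q : ℤ) - p := by
    have : (p : ℤ) < q := by exact_mod_cast hpq
    linarith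
  have hPnn : 0 ≤ W4c2invhilbsl2.hjP c i := hjP_nonneg c hc.1 i hir
  have hl0 : 0 ≤ W4c2invhilbsl2.lL p q m c i := by
    have h := D_lL p q m c i
    have h2 : (0 : ℤ) ≤ (p : ℤ) * m * W4c2invhilbsl2.hjP c i := by positivity
    by_contra hh
    push Not at hh
    nlinarith
  have he0 : 0 ≤ W4c2invhilbsl2.eE p q m c i := by
    rw [eE_eq]
    have : (0 : ℤ) ≤ (m : ℤ) * W4c2invhilbsl2.hjP c i := by positivity
    linarith
  set n := (W4c2invhilbsl2.nN p q m c i).toNat with hn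
  set E := (W4c2invhilbsl2.eE p q m c i).toNat with hE
  set L := (W4c2invhilbsl2.lL p q m c i).toNat with hL
  have hnz : (n : ℤ) = W4c2invhilbsl2.nN p q m c i := Int.toNat_of_nonneg hn0.le
  have hez : (E : ℤ) = W4c2invhilbsl2.eE p q m c i := Int.toNat_of_nonneg he0
  have hlz : (L : ℤ) = W4c2invhilbsl2.lL p q m c i := Int.toNat_of_nonneg hl0
  let g : Option (Fin (E + 1) × Fin (L + 1)) → (Fin 5 →₀ ℕ) := fun j =>
    match j with
    | none => Finsupp.single 0 n
    | some (e, l) => Finsupp.single 1 (E - e) + Finsupp.single 2 (e : ℕ) +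
        Finsupp.single 3 (L - l) + Finsupp.single 4 (l : ℕ)
  have hg : ∀ j, Finsupp.weight (W4c2invhilbsl2.wt5 p q m) (g j) =
      (W4c2invhilbsl2.nN p q m c i, (0 : ZMod m)) := by
    intro j
    rcases j with _ | ⟨e, l⟩
    · rw [weight_wt5]
      simp [g, hnz]
    · rw [weight_wt5]
      have h1 : (-(p : ℤ)) * E + q * L = W4c2invhilbsl2.nN p q m c i := by
        rw [hez, hlz]; unfold W4c2invhilbsl2.nN; ring
      have h2 : ((L : ℤ) - E : ℤ) = -(m : ℤ) * W4c2invhilbsl2.hjP c i := by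
        rw [hez, hlz, eE_eq]; ring
      have he : (e : ℕ) ≤ E := Nat.lt_succ_iff.mp e.2
      have hl : (l : ℕ) ≤ L := Nat.lt_succ_iff.mp l.2
      simp only [g, Finsupp.coe_add, Pi.add_apply, Finsupp.single_apply]
      ext
      · simp
        rw [Nat.cast_sub he, Nat.cast_sub hl]
        linarith
      · simp
        rw [Nat.cast_sub he, Nat.cast_sub hl]
        have : (((L : ZMod m) - (l : ZMod m) + (l : ZMod m)) - ((E : ZMod m) - (e : ZMod m) + (e : ZMod m))) =
            (((L : ℤ) - E : ℤ) : ZMod m) := by push_cast; ring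
        rw [this, h2]
        simp
  have hcover : ∀ d : Fin 5 →₀ ℕ, Finsupp.weight (W4c2invhilbsl2.wt5 p q m) d =
      (W4c2invhilbsl2.nN p q m c i, (0 : ZMod m)) → ∃ j, g j ≤ d := by
    intro d hd
    rw [weight_wt5] at hd
    have h1 : ((d 0 : ℕ) : ℤ) - p * ((d 1 + d 2 : ℕ) : ℤ) + q * ((d 3 + d 4 : ℕ) : ℤ) =
        W4c2invhilbsl2.nN p q m c i := by
      have := congrArg Prod.fst hd
      push_cast
      exact this
    have h2 : (((d 3 : ℤ) + d 4) - ((d 1 : ℤ) + d 2) : ℤ) = (0 : ZMod m) := congrArg Prod.snd hd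
    rw [ZMod.intCast_zmod_eq_zero_iff_dvd] at h2
    have h2' : (m : ℤ) ∣ ((d 3 + d 4 : ℕ) : ℤ) - ((d 1 + d 2 : ℕ) : ℤ) := by
      push_cast; exact h2
    rcases dichotomy p q m hp hpq hcop hm hnt c hc i hi hir (d 0) (d 1 + d 2) (d 3 + d 4) h1 h2'
      with h | ⟨h3, h4⟩
    · refine ⟨none, ?_⟩
      intro x
      simp only [g, Finsupp.single_apply]
      split_ifs with hx
      · subst hx
        have : (n : ℤ) ≤ d 0 := by rw [hnz]; exact h
        exact_mod_cast this
      · exact Nat.zero_le _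
    · have h3' : E ≤ d 1 + d 2 := by
        have : (E : ℤ) ≤ ((d 1 + d 2 : ℕ) : ℤ) := by rw [hez]; exact h3
        exact_mod_cast this
      have h4' : L ≤ d 3 + d 4 := by
        have : (L : ℤ) ≤ ((d 3 + d 4 : ℕ) : ℤ) := by rw [hlz]; exact h4
        exact_mod_cast this
      refine ⟨some (⟨min (d 2) E, by omega⟩, ⟨min (d 4) L, by omega⟩), ?_⟩
      intro x
      simp only [g, Finsupp.coe_add, Pi.add_apply, Finsupp.single_apply]
      fin_cases x <;> simp <;> omega
  obtain ⟨a', ha', hfa⟩ := Groth.Agent.Lib.Helper29.weight_gen_decomp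
    (W4c2invhilbsl2.wt5 p q m) _ g hg hcover f hf
  refine ⟨a' none, fun e l => if h : e < E + 1 ∧ l < L + 1 then a' (some (⟨e, h.1⟩, ⟨l, h.2⟩)) else 0,
    ha' none, ?_, ?_⟩
  · intro e l
    dsimp only
    split_ifs with h
    · exact ha' _
    · exact Submodule.zero_mem _
  · have : f - (a' none * MvPolynomial.X (0 : Fin 5) ^ n +
        ∑ e ∈ Finset.range (E + 1), ∑ l ∈ Finset.range (L + 1),
          (if h : e < E + 1 ∧ l < L + 1 then a' (some (⟨e, h.1⟩, ⟨l, h.2⟩)) else 0) *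
            (MvPolynomial.X (1 : Fin 5) ^ (E - e) * MvPolynomial.X (2 : Fin 5) ^ e *
              MvPolynomial.X (3 : Fin 5) ^ (L - l) * MvPolynomial.X (4 : Fin 5) ^ l)) = 0 := by
      rw [sub_eq_zero]
      conv_lhs => rw [hfa]
      rw [Fintype.sum_option, Fintype.sum_prod_type, Finset.sum_range]
      congr 1
      · simp only [g]
        rw [MvPolynomial.X_pow_eq_monomial]
      · apply Finset.sum_congr rfl
        intro e _
        rw [Finset.sum_range]
        apply Finset.sum_congr rfl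
        intro l _
        rw [dif_pos ⟨e.2, l.2⟩]
        simp only [g, Fin.eta]
        rw [MvPolynomial.X_pow_eq_monomial, MvPolynomial.X_pow_eq_monomial,
          MvPolynomial.X_pow_eq_monomial, MvPolynomial.X_pow_eq_monomial,
          MvPolynomial.monomial_mul, MvPolynomial.monomial_mul, MvPolynomial.monomial_mul]
        simp
    rw [this]
    exact Submodule.zero_mem _

end Groth.Agent.S15732
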