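import Groth.Statements.S15724
import Groth.Agent.S15732

set_option autoImplicit false
universe u
open W4c2invhilbsl2

namespace Groth.Agent.S15724

/-- Grade the polynomial ring k[X₀,…,X₄] over a field k by ℤ × ℤ/m, giving X₀ weight (1,0), X₁ and X₂
weight (−p,−1), and X₃ and X₄ weight (q,1), where 0 < p < q are coprime integers and m ≥ 1, and let
P be the principal ideal generated by the weight-zero element X₀^(q−p) − X₁X₄ + X₂X₃ (the equation
of an affine hypersurface). Then every polynomial homogeneous of the weight of X₁ is congruent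
modulo P to some a·X₁ + b·X₂ with a and b homogeneous of weight zero, and every polynomial
homogeneous of the weight of X₃ is congruent modulo P to some a·X₃ + b·X₄ with a and b homogeneous
of weight zero. Equivalently, in the coordinate ring of the hypersurface the weight pieces of the
weights of X₁ and of X₃ are generated over the weight-zero subring (the ring of invariants of the
diagonal action of a one-dimensional torus times the group of m-th roots of unity with these
weights) by X₁, X₂ and by X₃, X₄ respectively. (For the weight of X₁ the congruence is already an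
equality in the polynomial ring; for the weight of X₃ the hypersurface equation is needed, e.g.
X₀^(q+p)X₁ has that weight when m divides 2.) -/
theorem result (k : Type u) [Field k] (p q m : ℕ) (hp : 0 < p) (hpq : p < q) (hcop : Nat.Coprime p q) (hm : 0 < m) (f : MvPolynomial (Fin 5) k) :
    (f ∈ MvPolynomial.weightedHomogeneousSubmodule k (W4c2invhilbsl2.wt5 p q m) (W4c2invhilbsl2.wt5 p q m 1) →
      ∃ a b : MvPolynomial (Fin 5) k, a ∈ MvPolynomial.weightedHomogeneousSubmodule k (W4c2invhilbsl2.wt5 p q m) 0 ∧ b ∈ MvPolynomial.weightedHomogeneousSubmodule k (W4c2invhilbsl2.wt5 p q m) 0 ∧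
        f - (a * MvPolynomial.X (1 : Fin 5) + b * MvPolynomial.X (2 : Fin 5)) ∈ Ideal.span {MvPolynomial.X (0 : Fin 5) ^ (q - p) - MvPolynomial.X 1 * MvPolynomial.X 4 + MvPolynomial.X 2 * MvPolynomial.X 3}) ∧
    (f ∈ MvPolynomial.weightedHomogeneousSubmodule k (W4c2invhilbsl2.wt5 p q m) (W4c2invhilbsl2.wt5 p q m 3) →
      ∃ a b : MvPolynomial (Fin 5) k, a ∈ MvPolynomial.weightedHomogeneousSubmodule k (W4c2invhilbsl2.wt5 p q m) 0 ∧ b ∈ MvPolynomial.weightedHomogeneousSubmodule k (W4c2invhilbsl2.wt5 p q m) 0 ∧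
        f - (a * MvPolynomial.X (3 : Fin 5) + b * MvPolynomial.X (4 : Fin 5)) ∈ Ideal.span {MvPolynomial.X (0 : Fin 5) ^ (q - p) - MvPolynomial.X 1 * MvPolynomial.X 4 + MvPolynomial.X 2 * MvPolynomial.X 3}) := by
  classical
  have hpq' : (p : ℤ) < q := by exact_mod_cast hpq
  have hpz : (0 : ℤ) < p := by exact_mod_cast hp
  have hw1 : W4c2invhilbsl2.wt5 p q m 1 = (-(p : ℤ), (-1 : ZMod m)) := rfl
  have hw2 : W4c2invhilbsl2.wt5 p q m 2 = (-(p : ℤ), (-1 : ZMod m)) := rfl
  have hw3 : W4c2invhilbsl2.wt5 p q m 3 = ((q : ℤ), (1 : ZMod m)) := rfl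
  constructor
  · intro hf
    let g : Fin 2 → (Fin 5 →₀ ℕ) := ![Finsupp.single 1 1, Finsupp.single 2 1]
    have hg : ∀ j, Finsupp.weight (W4c2invhilbsl2.wt5 p q m) (g j) =
        W4c2invhilbsl2.wt5 p q m 1 := by
      intro j
      rw [Groth.Agent.S15732.weight_wt5, hw1]
      fin_cases j
      all_goals
        simp only [g, Finsupp.single_apply]
        ext
        · simp
        · simp
    have hcover : ∀ d : Fin 5 →₀ ℕ, Finsupp.weight (W4c2invhilbsl2.wt5 p q m) d =
        W4c2invhilbsl2.wt5 p q m 1 → ∃ j, g j ≤ d := by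
      intro d hd
      rw [Groth.Agent.S15732.weight_wt5, hw1] at hd
      have h1 : (d 0 : ℤ) - p * ((d 1 : ℤ) + d 2) + q * ((d 3 : ℤ) + d 4) = -(p : ℤ) :=
        congrArg Prod.fst hd
      have h3 : 1 ≤ d 1 + d 2 := by
        by_contra hh
        have e1 : d 1 = 0 := by omega
        have e2 : d 2 = 0 := by omega
        rw [e1, e2] at h1
        simp only [Nat.cast_zero, add_zero, mul_zero, sub_zero] at h1
        have : (0 : ℤ) ≤ (d 0 : ℤ) + q * ((d 3 : ℤ) + d 4) := by positivity
        linarith
      by_cases c1 : 1 ≤ d 1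
      · refine ⟨0, ?_⟩
        intro x
        simp only [g, Matrix.cons_val_zero, Finsupp.single_apply]
        split_ifs with hx
        · subst hx; exact c1
        · exact Nat.zero_le _
      · refine ⟨1, ?_⟩
        intro x
        simp only [g, Matrix.cons_val_one, Matrix.cons_val_zero, Finsupp.single_apply]
        split_ifs with hx
        · subst hx; omega
        · exact Nat.zero_le _
    obtain ⟨a, ha, hfa⟩ := Groth.Agent.Lib.Helper29.weight_gen_decomp
      (W4c2invhilbsl2.wt5 p q m) _ g hg hcover f hf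
    refine ⟨a 0, a 1, ha 0, ha 1, ?_⟩
    have : f - (a 0 * MvPolynomial.X (1 : Fin 5) + a 1 * MvPolynomial.X (2 : Fin 5)) = 0 := by
      rw [sub_eq_zero]
      conv_lhs => rw [hfa]
      rw [Fin.sum_univ_two]
      have hg0 : g 0 = Finsupp.single 1 1 := rfl
      have hg1 : g 1 = Finsupp.single 2 1 := rfl
      rw [hg0, hg1]
      rfl
    rw [this]
    exact Submodule.zero_mem _
  · intro hf
    let g : Fin 3 → (Fin 5 →₀ ℕ) := ![Finsupp.single 3 1, Finsupp.single 4 1, Finsupp.single 0 (q - p)]
    let μ : Fin 3 → ℤ × ZMod m := ![((q : ℤ), 1), ((q : ℤ), 1), ((q : ℤ) - p, 0)]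
    have hg : ∀ j, Finsupp.weight (W4c2invhilbsl2.wt5 p q m) (g j) = μ j := by
      intro j
      rw [Groth.Agent.S15732.weight_wt5]
      fin_cases j
      · simp only [g, μ, Finsupp.single_apply]
        ext
        · simp
        · simp
      · simp only [g, μ, Finsupp.single_apply]
        ext
        · simp
        · simp
      · simp only [g, μ, Finsupp.single_apply]
        ext
        · simp [Nat.cast_sub hpq.le]
        · simp
    have hcover : ∀ d : Fin 5 →₀ ℕ, Finsupp.weight (W4c2invhilbsl2.wt5 p q m) d =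
        W4c2invhilbsl2.wt5 p q m 3 → ∃ j, g j ≤ d := by
      intro d hd
      rw [Groth.Agent.S15732.weight_wt5, hw3] at hd
      have h1 : (d 0 : ℤ) - p * ((d 1 : ℤ) + d 2) + q * ((d 3 : ℤ) + d 4) = (q : ℤ) :=
        congrArg Prod.fst hd
      by_cases c3 : 1 ≤ d 3
      · refine ⟨0, ?_⟩
        intro x
        simp only [g, Matrix.cons_val_zero, Finsupp.single_apply]
        split_ifs with hx
        · subst hx; exact c3
        · exact Nat.zero_le _
      · by_cases c4 : 1 ≤ d 4
        · refine ⟨1, ?_⟩
          intro x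
          simp only [g, Matrix.cons_val_one, Matrix.cons_val_zero, Finsupp.single_apply]
          split_ifs with hx
          · subst hx; exact c4
          · exact Nat.zero_le _
        · refine ⟨2, ?_⟩
          have e1 : d 3 = 0 := by omega
          have e2 : d 4 = 0 := by omega
          rw [e1, e2] at h1
          simp only [Nat.cast_zero, add_zero, mul_zero] at h1
          have h5 : (q : ℤ) - p ≤ d 0 := by
            have : (0 : ℤ) ≤ (p : ℤ) * ((d 1 : ℤ) + d 2) := by positivity
            linarith
          have h6 : q - p ≤ d 0 := by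
            have : ((q - p : ℕ) : ℤ) ≤ d 0 := by rw [Nat.cast_sub hpq.le]; exact h5
            exact_mod_cast this
          intro x
          have hg2 : g 2 = Finsupp.single 0 (q - p) := rfl
          rw [hg2]
          simp only [Finsupp.single_apply]
          split_ifs with hx
          · subst hx; exact h6
          · exact Nat.zero_le _
    obtain ⟨a, ha, hfa⟩ := Groth.Agent.Lib.Helper29.weight_gen_decomp'
      (W4c2invhilbsl2.wt5 p q m) _ g μ hg hcover f hf
    have ha2 : a 2 ∈ MvPolynomial.weightedHomogeneousSubmodule k (W4c2invhilbsl2.wt5 p q m)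
        ((p : ℤ), (1 : ZMod m)) := by
      have := ha 2
      have e : W4c2invhilbsl2.wt5 p q m 3 - μ 2 = ((p : ℤ), (1 : ZMod m)) := by
        rw [hw3]
        show ((q : ℤ), (1 : ZMod m)) - ((q : ℤ) - p, (0 : ZMod m)) = _
        ext
        · simp
        · simp
      rwa [e] at this
    have ha0 : a 0 ∈ MvPolynomial.weightedHomogeneousSubmodule k (W4c2invhilbsl2.wt5 p q m) 0 := by
      have := ha 0
      have e : W4c2invhilbsl2.wt5 p q m 3 - μ 0 = 0 := by
        rw [hw3]
        show ((q : ℤ), (1 : ZMod m)) - ((q : ℤ), (1 : ZMod m)) = _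
        simp
      rwa [e] at this
    have ha1 : a 1 ∈ MvPolynomial.weightedHomogeneousSubmodule k (W4c2invhilbsl2.wt5 p q m) 0 := by
      have := ha 1
      have e : W4c2invhilbsl2.wt5 p q m 3 - μ 1 = 0 := by
        rw [hw3]
        show ((q : ℤ), (1 : ZMod m)) - ((q : ℤ), (1 : ZMod m)) = _
        simp
      rwa [e] at this
    have hX1 : a 2 * MvPolynomial.X (1 : Fin 5) ∈
        MvPolynomial.weightedHomogeneousSubmodule k (W4c2invhilbsl2.wt5 p q m) 0 := by
      have h := MvPolynomial.IsWeightedHomogeneous.mul ha2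
        (MvPolynomial.isWeightedHomogeneous_X k (W4c2invhilbsl2.wt5 p q m) (1 : Fin 5))
      have e : ((p : ℤ), (1 : ZMod m)) + W4c2invhilbsl2.wt5 p q m 1 = 0 := by
        rw [hw1]; ext <;> simp
      rw [e] at h
      exact h
    have hX2 : a 2 * MvPolynomial.X (2 : Fin 5) ∈
        MvPolynomial.weightedHomogeneousSubmodule k (W4c2invhilbsl2.wt5 p q m) 0 := by
      have h := MvPolynomial.IsWeightedHomogeneous.mul ha2
        (MvPolynomial.isWeightedHomogeneous_X k (W4c2invhilbsl2.wt5 p q m) (2 : Fin 5))
      have e : ((p : ℤ), (1 : ZMod m)) + W4c2invhilbsl2.wt5 p q m 2 = 0 := by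
        rw [hw2]; ext <;> simp
      rw [e] at h
      exact h
    refine ⟨a 0 - a 2 * MvPolynomial.X 2, a 1 + a 2 * MvPolynomial.X 1,
      Submodule.sub_mem _ ha0 hX2, Submodule.add_mem _ ha1 hX1, ?_⟩
    have e : f - ((a 0 - a 2 * MvPolynomial.X 2) * MvPolynomial.X (3 : Fin 5) +
        (a 1 + a 2 * MvPolynomial.X 1) * MvPolynomial.X (4 : Fin 5)) =
        a 2 * (MvPolynomial.X (0 : Fin 5) ^ (q - p) - MvPolynomial.X 1 * MvPolynomial.X 4 +
          MvPolynomial.X 2 * MvPolynomial.X 3) := by
      conv_lhs => rw [hfa]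
      rw [Fin.sum_univ_three]
      have hg0 : g 0 = Finsupp.single 3 1 := rfl
      have hg1 : g 1 = Finsupp.single 4 1 := rfl
      have hg2 : g 2 = Finsupp.single 0 (q - p) := rfl
      have hx : ∀ i : Fin 5, MvPolynomial.monomial (Finsupp.single i 1) (1 : k) = MvPolynomial.X i :=
        fun i => rfl
      rw [hg0, hg1, hg2, hx, hx, ← MvPolynomial.X_pow_eq_monomial]
      ring
    rw [e]
    exact Ideal.mul_mem_left _ _ (Ideal.subset_span rfl)

end Groth.Agent.S15724
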