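import Groth.Statements.S15729
import Groth.Agent.Lib.Helper29.HJFrac4
import Groth.Agent.Lib.Helper29.WeightGen

set_option autoImplicit false
universe u
open W4c2invhilbsl2

namespace Groth.Agent.S15729

lemma weight_wt3 (p q m : ℕ) (d : Fin 3 →₀ ℕ) :
    Finsupp.weight (W4c2invhilbsl2.wt3 p q m) d =
      ((d 0 : ℤ) - p * d 1 + q * d 2, (((d 2 : ℤ) - (d 1 : ℤ) : ℤ) : ZMod m)) := by
  rw [Finsupp.weight_apply, Finsupp.sum_fintype d (fun i c => c • W4c2invhilbsl2.wt3 p q m i)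
    (fun i => zero_smul ℕ _), Fin.sum_univ_three]
  simp only [W4c2invhilbsl2.wt3, Matrix.cons_val_zero, Matrix.cons_val_one, Matrix.cons_val_two,
    Matrix.cons_val]
  ext
  · simp
    ring
  · simp
    ring

/-- Let 0 < p < q be coprime integers and m ≥ 1 such that q − p does not divide m; put g = gcd(m, q−p),
b = (q−p)/g, α = ⌊mp/(q−p)⌋, β = the remainder of mp modulo q−p and t = (q−p−β)/g, so that 1 ≤ t <
b, and let b/t = c₁ − 1/(c₂ − 1/(⋯ − 1/c_r)) be the negative-regular (Hirzebruch–Jung) continued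
fraction expansion with every cᵢ ≥ 2; set P₀ = 0, P₁ = 1, Q₀ = −1, Q₁ = 0, Pᵢ = cᵢ₋₁Pᵢ₋₁ − Pᵢ₋₂, Qᵢ
= cᵢ₋₁Qᵢ₋₁ − Qᵢ₋₂ for 2 ≤ i ≤ r+1, and eᵢ = (α+1+m)Pᵢ − Qᵢ, lᵢ = (α+1)Pᵢ − Qᵢ, nᵢ = q·lᵢ − p·eᵢ,
which are non-negative integers for 0 ≤ i ≤ r+1. Grade the polynomial ring k[X₀,X₁,X₂] over a field
k by ℤ × ℤ/m with weights (1,0), (−p,−1), (q,1) (it stands for k[X₀,X₁,Xⱼ], j = 3 or 4, inside the
five-variable ring). Then for every 1 ≤ i ≤ r, every polynomial homogeneous of weight (nᵢ, 0) can be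
written a·X₀^(nᵢ) + b·X₁^(eᵢ)X₂^(lᵢ) with a and b homogeneous of weight zero; that is, the
weight-(nᵢ,0) piece is generated over the weight-zero subring by X₀^(nᵢ) and X₁^(eᵢ)X₂^(lᵢ). -/
theorem result (k : Type u) [Field k] (p q m : ℕ) (hp : 0 < p) (hpq : p < q) (hcop : Nat.Coprime p q) (hm : 0 < m) (hnt : ¬ (q - p ∣ m)) (c : List ℤ) (hc : W4c2invhilbsl2.IsHJDigits p q m c) (i : ℕ) (hi : 1 ≤ i) (hir : i ≤ c.length)
    (f : MvPolynomial (Fin 3) k) (hf : f ∈ MvPolynomial.weightedHomogeneousSubmodule k (W4c2invhilbsl2.wt3 p q m) (W4c2invhilbsl2.nN p q m c i, (0 : ZMod m))) :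
    ∃ a b : MvPolynomial (Fin 3) k, a ∈ MvPolynomial.weightedHomogeneousSubmodule k (W4c2invhilbsl2.wt3 p q m) 0 ∧ b ∈ MvPolynomial.weightedHomogeneousSubmodule k (W4c2invhilbsl2.wt3 p q m) 0 ∧
      f = a * MvPolynomial.X (0 : Fin 3) ^ (W4c2invhilbsl2.nN p q m c i).toNat +
        b * (MvPolynomial.X (1 : Fin 3) ^ (W4c2invhilbsl2.eE p q m c i).toNat * MvPolynomial.X (2 : Fin 3) ^ (W4c2invhilbsl2.lL p q m c i).toNat) := by
  open Groth.Agent.Lib.Helper29.HJ in
  obtain ⟨hn0, hnD⟩ := nN_lt_D p q m hpq hcop hm c hc i hi hir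
  have hDpos : (0 : ℤ) < (q : ℤ) - p := by
    have : (p : ℤ) < q := by exact_mod_cast hpq
    linarith
  have hPnn : 0 ≤ W4c2invhilbsl2.hjP c i := hjP_nonneg c hc.1 i hir
  have hl0 : 0 ≤ W4c2invhilbsl2.lL p q m c i := by
    have h := D_lL p q m c i
    have h2 : (0 : ℤ) ≤ (p : ℤ) * m * W4c2invhilbsl2.hjP c i := by positivity
    by_contra hh
    push Not at hh
    nlinarith
  have he0 : 0 ≤ W4c2invhilbsl2.eE p q m c i := by
    rw [eE_eq]
    have : (0 : ℤ) ≤ (m : ℤ) * W4c2invhilbsl2.hjP c i := by positivity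
    linarith
  set n := (W4c2invhilbsl2.nN p q m c i).toNat with hn
  set e := (W4c2invhilbsl2.eE p q m c i).toNat with he
  set l := (W4c2invhilbsl2.lL p q m c i).toNat with hl
  have hnz : (n : ℤ) = W4c2invhilbsl2.nN p q m c i := Int.toNat_of_nonneg hn0.le
  have hez : (e : ℤ) = W4c2invhilbsl2.eE p q m c i := Int.toNat_of_nonneg he0
  have hlz : (l : ℤ) = W4c2invhilbsl2.lL p q m c i := Int.toNat_of_nonneg hl0
  let g : Fin 2 → (Fin 3 →₀ ℕ) := ![Finsupp.single 0 n, Finsupp.single 1 e + Finsupp.single 2 l]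
  have hg : ∀ j, Finsupp.weight (W4c2invhilbsl2.wt3 p q m) (g j) =
      (W4c2invhilbsl2.nN p q m c i, (0 : ZMod m)) := by
    intro j
    fin_cases j
    · rw [weight_wt3]
      simp [g, hnz]
    · rw [weight_wt3]
      have h1 : (-(p : ℤ)) * e + q * l = W4c2invhilbsl2.nN p q m c i := by
        rw [hez, hlz]; unfold W4c2invhilbsl2.nN; ring
      have h2 : ((l : ℤ) - e : ℤ) = -(m : ℤ) * W4c2invhilbsl2.hjP c i := by
        rw [hez, hlz, eE_eq]; ring
      simp only [g, Matrix.cons_val_one, Matrix.cons_val_zero, Finsupp.coe_add, Pi.add_apply,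
        Finsupp.single_apply]
      ext
      · simp
        linarith
      · simp
        have : ((l : ZMod m) - (e : ZMod m)) = (((l : ℤ) - e : ℤ) : ZMod m) := by push_cast; ring
        rw [this, h2]
        simp
  have hcover : ∀ d : Fin 3 →₀ ℕ, Finsupp.weight (W4c2invhilbsl2.wt3 p q m) d =
      (W4c2invhilbsl2.nN p q m c i, (0 : ZMod m)) → ∃ j, g j ≤ d := by
    intro d hd
    rw [weight_wt3] at hd
    have h1 : (d 0 : ℤ) - p * d 1 + q * d 2 = W4c2invhilbsl2.nN p q m c i := congrArg Prod.fst hd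
    have h2 : (((d 2 : ℤ) - d 1 : ℤ) : ZMod m) = 0 := congrArg Prod.snd hd
    rw [ZMod.intCast_zmod_eq_zero_iff_dvd] at h2
    rcases dichotomy p q m hp hpq hcop hm hnt c hc i hi hir (d 0) (d 1) (d 2) h1 h2 with h | ⟨h3, h4⟩
    · refine ⟨0, ?_⟩
      intro x
      simp only [g, Matrix.cons_val_zero, Finsupp.single_apply]
      split_ifs with hx
      · subst hx
        have : (n : ℤ) ≤ d 0 := by rw [hnz]; exact h
        exact_mod_cast this
      · exact Nat.zero_le _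
    · refine ⟨1, ?_⟩
      intro x
      simp only [g, Matrix.cons_val_one, Matrix.cons_val_zero, Finsupp.coe_add, Pi.add_apply,
        Finsupp.single_apply]
      have h3' : e ≤ d 1 := by
        have : (e : ℤ) ≤ d 1 := by rw [hez]; exact h3
        exact_mod_cast this
      have h4' : l ≤ d 2 := by
        have : (l : ℤ) ≤ d 2 := by rw [hlz]; exact h4
        exact_mod_cast this
      fin_cases x <;> simp <;> assumption
  obtain ⟨a, ha, hfa⟩ := Groth.Agent.Lib.Helper29.weight_gen_decomp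
    (W4c2invhilbsl2.wt3 p q m) _ g hg hcover f hf
  refine ⟨a 0, a 1, ha 0, ha 1, ?_⟩
  rw [hfa, Fin.sum_univ_two]
  congr 2
  · simp only [g, Matrix.cons_val_zero]
    rw [MvPolynomial.X_pow_eq_monomial]
  · simp only [g, Matrix.cons_val_one, Matrix.cons_val_zero]
    rw [MvPolynomial.X_pow_eq_monomial, MvPolynomial.X_pow_eq_monomial, MvPolynomial.monomial_mul,
      mul_one]

end Groth.Agent.S15729
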