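import Groth.Statements.S15725
import Groth.Agent.S15729

set_option autoImplicit false
universe u
open W4c2invhilbsl2

namespace Groth.Agent.S15725

/-- Grade the polynomial ring k[X₀,X₁,X₂] over a field k by ℤ × ℤ/m, giving X₀ weight (1,0), X₁ weight
(−p,−1) and X₂ weight (q,1), where 0 < p < q are coprime integers and m ≥ 1 (this three-variable
ring stands for the subring k[X₀,X₁,Xⱼ], j = 3 or 4, of the five-variable ring with the same
weights). Then every polynomial homogeneous of weight (q−p, 0) can be written a·X₀^(q−p) + b·X₁X₂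
with a and b homogeneous of weight zero; in other words the weight-(q−p, 0) piece is generated by
X₀^(q−p) and X₁X₂ as a module over the weight-zero subring. -/
theorem result (k : Type u) [Field k] (p q m : ℕ) (hp : 0 < p) (hpq : p < q) (hcop : Nat.Coprime p q) (hm : 0 < m) (f : MvPolynomial (Fin 3) k)
    (hf : f ∈ MvPolynomial.weightedHomogeneousSubmodule k (W4c2invhilbsl2.wt3 p q m) ((q : ℤ) - (p : ℤ), (0 : ZMod m))) :
    ∃ a b : MvPolynomial (Fin 3) k, a ∈ MvPolynomial.weightedHomogeneousSubmodule k (W4c2invhilbsl2.wt3 p q m) 0 ∧ b ∈ MvPolynomial.weightedHomogeneousSubmodule k (W4c2invhilbsl2.wt3 p q m) 0 ∧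
      f = a * MvPolynomial.X (0 : Fin 3) ^ (q - p) + b * (MvPolynomial.X (1 : Fin 3) * MvPolynomial.X (2 : Fin 3)) := by
  have hpq' : (p : ℤ) < q := by exact_mod_cast hpq
  let g : Fin 2 → (Fin 3 →₀ ℕ) := ![Finsupp.single 0 (q - p), Finsupp.single 1 1 + Finsupp.single 2 1]
  have hg : ∀ j, Finsupp.weight (W4c2invhilbsl2.wt3 p q m) (g j) =
      ((q : ℤ) - (p : ℤ), (0 : ZMod m)) := by
    intro j
    fin_cases j
    · rw [Groth.Agent.S15729.weight_wt3]
      simp [g, Nat.cast_sub hpq.le]
    · rw [Groth.Agent.S15729.weight_wt3]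
      simp only [g, Matrix.cons_val_one, Matrix.cons_val_zero, Finsupp.coe_add, Pi.add_apply,
        Finsupp.single_apply]
      ext
      · simp
        ring
      · simp
  have hcover : ∀ d : Fin 3 →₀ ℕ, Finsupp.weight (W4c2invhilbsl2.wt3 p q m) d =
      ((q : ℤ) - (p : ℤ), (0 : ZMod m)) → ∃ j, g j ≤ d := by
    intro d hd
    rw [Groth.Agent.S15729.weight_wt3] at hd
    have h1 : (d 0 : ℤ) - p * d 1 + q * d 2 = (q : ℤ) - p := congrArg Prod.fst hd
    have hd0 : (0 : ℤ) ≤ d 0 := by positivity
    have hd1 : (0 : ℤ) ≤ d 1 := by positivity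
    have hd2 : (0 : ℤ) ≤ d 2 := by positivity
    have hpz : (0 : ℤ) < p := by exact_mod_cast hp
    by_cases hA : q - p ≤ d 0
    · refine ⟨0, ?_⟩
      intro x
      simp only [g, Matrix.cons_val_zero, Finsupp.single_apply]
      split_ifs with hx
      · subst hx; exact hA
      · exact Nat.zero_le _
    · refine ⟨1, ?_⟩
      have hA' : (d 0 : ℤ) < (q : ℤ) - p := by
        have : d 0 < q - p := by omega
        have h2 : ((d 0 : ℕ) : ℤ) < ((q - p : ℕ) : ℤ) := by exact_mod_cast this
        rwa [Nat.cast_sub hpq.le] at h2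
      have h3 : 1 ≤ d 1 := by
        by_contra hh
        have : d 1 = 0 := by omega
        rw [this] at h1
        simp only [Nat.cast_zero, mul_zero, sub_zero] at h1
        have : (d 2 : ℤ) = 0 := by
          by_contra h4
          have : (1 : ℤ) ≤ d 2 := by omega
          nlinarith
        rw [this] at h1
        linarith
      have h4 : 1 ≤ d 2 := by
        by_contra hh
        have : d 2 = 0 := by omega
        rw [this] at h1
        simp only [Nat.cast_zero, mul_zero, add_zero] at h1
        have : (1 : ℤ) ≤ d 1 := by exact_mod_cast h3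
        nlinarith
      intro x
      simp only [g, Matrix.cons_val_one, Matrix.cons_val_zero, Finsupp.coe_add, Pi.add_apply,
        Finsupp.single_apply]
      fin_cases x <;> simp <;> assumption
  obtain ⟨a, ha, hfa⟩ := Groth.Agent.Lib.Helper29.weight_gen_decomp
    (W4c2invhilbsl2.wt3 p q m) _ g hg hcover f hf
  refine ⟨a 0, a 1, ha 0, ha 1, ?_⟩
  rw [hfa, Fin.sum_univ_two]
  congr 2
  · simp only [g, Matrix.cons_val_zero]
    rw [MvPolynomial.X_pow_eq_monomial]
  · simp only [g, Matrix.cons_val_one, Matrix.cons_val_zero]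
    rw [← pow_one (MvPolynomial.X (1 : Fin 3)), ← pow_one (MvPolynomial.X (2 : Fin 3)),
      MvPolynomial.X_pow_eq_monomial, MvPolynomial.X_pow_eq_monomial, MvPolynomial.monomial_mul,
      mul_one]

end Groth.Agent.S15725
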