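import Groth.Statements.S15726
import Groth.Agent.S15732

set_option autoImplicit false
universe u
open W4c2invhilbsl2

namespace Groth.Agent.S15726

/-- Grade the polynomial ring k[X₀,…,X₄] over a field k by ℤ × ℤ/m, giving X₀ weight (1,0), X₁ and X₂
weight (−p,−1), and X₃ and X₄ weight (q,1), where 0 < p < q are coprime integers and m ≥ 1. Then
modulo the principal ideal generated by the weight-zero element X₀^(q−p) − X₁X₄ + X₂X₃ (the equation
of an affine hypersurface), every polynomial homogeneous of weight (q−p, 0) is congruent to a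
combination a₁₃X₁X₃ + a₁₄X₁X₄ + a₂₃X₂X₃ + a₂₄X₂X₄ whose four coefficients are homogeneous of weight
zero. Equivalently, in the coordinate ring of the hypersurface the weight-(q−p, 0) piece is
generated over the weight-zero subring (the invariant ring of the diagonal action with these
weights) by the span of the four products XₐX_b with a ∈ {1,2} and b ∈ {3,4}. (The published
statement is over the complex numbers; this row takes any field.) -/
theorem result (k : Type u) [Field k] (p q m : ℕ) (hp : 0 < p) (hpq : p < q) (hcop : Nat.Coprime p q) (hm : 0 < m) (f : MvPolynomial (Fin 5) k)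
    (hf : f ∈ MvPolynomial.weightedHomogeneousSubmodule k (W4c2invhilbsl2.wt5 p q m) ((q : ℤ) - (p : ℤ), (0 : ZMod m))) :
    ∃ a₁₃ a₁₄ a₂₃ a₂₄ : MvPolynomial (Fin 5) k,
      a₁₃ ∈ MvPolynomial.weightedHomogeneousSubmodule k (W4c2invhilbsl2.wt5 p q m) 0 ∧ a₁₄ ∈ MvPolynomial.weightedHomogeneousSubmodule k (W4c2invhilbsl2.wt5 p q m) 0 ∧ a₂₃ ∈ MvPolynomial.weightedHomogeneousSubmodule k (W4c2invhilbsl2.wt5 p q m) 0 ∧ a₂₄ ∈ MvPolynomial.weightedHomogeneousSubmodule k (W4c2invhilbsl2.wt5 p q m) 0 ∧
      f - (a₁₃ * (MvPolynomial.X (1 : Fin 5) * MvPolynomial.X 3) + a₁₄ * (MvPolynomial.X (1 : Fin 5) * MvPolynomial.X 4) +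
          a₂₃ * (MvPolynomial.X (2 : Fin 5) * MvPolynomial.X 3) + a₂₄ * (MvPolynomial.X (2 : Fin 5) * MvPolynomial.X 4)) ∈
        Ideal.span {MvPolynomial.X (0 : Fin 5) ^ (q - p) - MvPolynomial.X 1 * MvPolynomial.X 4 + MvPolynomial.X 2 * MvPolynomial.X 3} := by
  classical
  have hpq' : (p : ℤ) < q := by exact_mod_cast hpq
  let g : Fin 5 → (Fin 5 →₀ ℕ) := ![Finsupp.single 0 (q - p),
    Finsupp.single 1 1 + Finsupp.single 3 1, Finsupp.single 1 1 + Finsupp.single 4 1,
    Finsupp.single 2 1 + Finsupp.single 3 1, Finsupp.single 2 1 + Finsupp.single 4 1]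
  have hg : ∀ j, Finsupp.weight (W4c2invhilbsl2.wt5 p q m) (g j) =
      ((q : ℤ) - (p : ℤ), (0 : ZMod m)) := by
    intro j
    rw [Groth.Agent.S15732.weight_wt5]
    fin_cases j
    · simp [g, Nat.cast_sub hpq.le]
    all_goals
      simp only [g, Finsupp.coe_add, Pi.add_apply, Finsupp.single_apply]
      ext
      · simp
        ring
      · simp
  have hcover : ∀ d : Fin 5 →₀ ℕ, Finsupp.weight (W4c2invhilbsl2.wt5 p q m) d =
      ((q : ℤ) - (p : ℤ), (0 : ZMod m)) → ∃ j, g j ≤ d := by
    intro d hd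
    rw [Groth.Agent.S15732.weight_wt5] at hd
    have h1 : (d 0 : ℤ) - p * ((d 1 : ℤ) + d 2) + q * ((d 3 : ℤ) + d 4) = (q : ℤ) - p :=
      congrArg Prod.fst hd
    have hpz : (0 : ℤ) < p := by exact_mod_cast hp
    by_cases hA : q - p ≤ d 0
    · refine ⟨0, ?_⟩
      intro x
      simp only [g, Matrix.cons_val_zero, Finsupp.single_apply]
      split_ifs with hx
      · subst hx; exact hA
      · exact Nat.zero_le _
    · have hA' : (d 0 : ℤ) < (q : ℤ) - p := by
        have : d 0 < q - p := by omega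
        have h2 : ((d 0 : ℕ) : ℤ) < ((q - p : ℕ) : ℤ) := by exact_mod_cast this
        rwa [Nat.cast_sub hpq.le] at h2
      have hd0 : (0 : ℤ) ≤ d 0 := by positivity
      have h3 : 1 ≤ d 1 + d 2 := by
        by_contra hh
        have e1 : d 1 = 0 := by omega
        have e2 : d 2 = 0 := by omega
        rw [e1, e2] at h1
        simp only [Nat.cast_zero, add_zero, mul_zero, sub_zero] at h1
        have : ((d 3 : ℤ) + d 4) = 0 := by
          by_contra h4
          have : (1 : ℤ) ≤ (d 3 : ℤ) + d 4 := by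
            have : (0 : ℤ) ≤ (d 3 : ℤ) + d 4 := by positivity
            omega
          nlinarith
        rw [this] at h1
        linarith
      have h4 : 1 ≤ d 3 + d 4 := by
        by_contra hh
        have e1 : d 3 = 0 := by omega
        have e2 : d 4 = 0 := by omega
        rw [e1, e2] at h1
        simp only [Nat.cast_zero, add_zero, mul_zero] at h1
        have : (1 : ℤ) ≤ (d 1 : ℤ) + d 2 := by exact_mod_cast h3
        nlinarith
      by_cases c1 : 1 ≤ d 1
      · by_cases c3 : 1 ≤ d 3
        · refine ⟨1, ?_⟩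
          intro x
          simp only [g, Finsupp.coe_add, Pi.add_apply, Finsupp.single_apply]
          fin_cases x <;> simp <;> omega
        · refine ⟨2, ?_⟩
          intro x
          simp only [g, Finsupp.coe_add, Pi.add_apply, Finsupp.single_apply]
          fin_cases x <;> simp <;> omega
      · by_cases c3 : 1 ≤ d 3
        · refine ⟨3, ?_⟩
          intro x
          simp only [g, Finsupp.coe_add, Pi.add_apply, Finsupp.single_apply]
          fin_cases x <;> simp <;> omega
        · refine ⟨4, ?_⟩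
          intro x
          simp only [g, Finsupp.coe_add, Pi.add_apply, Finsupp.single_apply]
          fin_cases x <;> simp <;> omega
  obtain ⟨a, ha, hfa⟩ := Groth.Agent.Lib.Helper29.weight_gen_decomp
    (W4c2invhilbsl2.wt5 p q m) _ g hg hcover f hf
  refine ⟨a 1, a 2 + a 0, a 3 - a 0, a 4, ha 1, Submodule.add_mem _ (ha 2) (ha 0),
    Submodule.sub_mem _ (ha 3) (ha 0), ha 4, ?_⟩
  have hm1 : ∀ (i j : Fin 5), MvPolynomial.monomial (Finsupp.single i 1 + Finsupp.single j 1) (1 : k) =
      MvPolynomial.X i * MvPolynomial.X j := by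
    intro i j
    rw [← pow_one (MvPolynomial.X i), ← pow_one (MvPolynomial.X j),
      MvPolynomial.X_pow_eq_monomial, MvPolynomial.X_pow_eq_monomial, MvPolynomial.monomial_mul,
      mul_one]
  have e : f - (a 1 * (MvPolynomial.X (1 : Fin 5) * MvPolynomial.X 3) +
      (a 2 + a 0) * (MvPolynomial.X (1 : Fin 5) * MvPolynomial.X 4) +
      (a 3 - a 0) * (MvPolynomial.X (2 : Fin 5) * MvPolynomial.X 3) +
      a 4 * (MvPolynomial.X (2 : Fin 5) * MvPolynomial.X 4)) =
      a 0 * (MvPolynomial.X (0 : Fin 5) ^ (q - p) - MvPolynomial.X 1 * MvPolynomial.X 4 +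
        MvPolynomial.X 2 * MvPolynomial.X 3) := by
    conv_lhs => rw [hfa]
    rw [Fin.sum_univ_five]
    have hg0 : g 0 = Finsupp.single 0 (q - p) := rfl
    have hg1 : g 1 = Finsupp.single 1 1 + Finsupp.single 3 1 := rfl
    have hg2 : g 2 = Finsupp.single 1 1 + Finsupp.single 4 1 := rfl
    have hg3 : g 3 = Finsupp.single 2 1 + Finsupp.single 3 1 := rfl
    have hg4 : g 4 = Finsupp.single 2 1 + Finsupp.single 4 1 := rfl
    rw [hg0, hg1, hg2, hg3, hg4, hm1, hm1, hm1, hm1, ← MvPolynomial.X_pow_eq_monomial]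
    ring
  rw [e]
  exact Ideal.mul_mem_left _ _ (Ideal.subset_span rfl)

end Groth.Agent.S15726
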