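import Groth.Statements.S15727
import Groth.Agent.Lib.Helper25.HilbSL2
-- import your own Groth.Agent.* helpers here

set_option autoImplicit false
universe u
open W4c2invhilbsl2

namespace Groth.Agent.S15727

/-- Let k be an algebraically closed field, 0 < p < q coprime integers and m ≥ 1, and grade k[X₀,…,X₄]
by ℤ × ℤ/m, giving X₀ weight (1,0), X₁ and X₂ weight (−p,−1), and X₃ and X₄ weight (q,1). For s ∈ k
let I_s be the ideal (X₀^(q−p) − X₁X₄, X₂, X₃, s − X₀^(mp)X₁^m), whose generators are homogeneous
(the last one of weight zero). Then for every weight ν the image in k[X₀,…,X₄]/I_s of the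
homogeneous polynomials of weight ν is a k-vector space of dimension at most 1. (The published
statement asserts that this dimension equals 1 for every ν and every s, namely that the quotient has
the Hilbert function of the regular representation of the grading group; this row states the upper
bound, the half obtained from the monomial analysis of the weight pieces, while the lower bound
there is drawn from the moduli interpretation of these ideals. The published statement is over the
complex numbers; this row takes any algebraically closed field, which is what the reduction to s =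
0, 1 by rescaling the variables uses.) -/
theorem result (k : Type u) [Field k] [IsAlgClosed k] (p q m : ℕ) (hp : 0 < p) (hpq : p < q) (hcop : Nat.Coprime p q) (hm : 0 < m) (s : k) (ν : ℤ × ZMod m) :
    Module.rank k (W4c2invhilbsl2.piece k (W4c2invhilbsl2.wt5 p q m) (W4c2invhilbsl2.idealI k p q m s) ν) ≤ 1 := by
  open MvPolynomial Groth.Agent.Lib.Helper25.HilbSL2 in
  rw [rank_submodule_le_one_iff']
  set I := idealI k p q m s with hI
  set mk := Ideal.Quotient.mk I with hmk
  -- the relations
  have hmem : ∀ g ∈ ({X 0 ^ (q - p) - X 1 * X 4, X 2, X 3, C s - X 0 ^ (m * p) * X 1 ^ m} :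
      Set (MvPolynomial (Fin 5) k)), mk g = 0 := by
    intro g hg
    exact Ideal.Quotient.eq_zero_iff_mem.mpr (Ideal.subset_span hg)
  have R1 : mk (X 0) ^ (q - p) = mk (X 1) * mk (X 4) := by
    have := hmem _ (Set.mem_insert _ _)
    rwa [map_sub, sub_eq_zero, map_pow, map_mul] at this
  have hx2 : mk (X 2) = 0 := hmem _ (Set.mem_insert_of_mem _ (Set.mem_insert _ _))
  have hx3 : mk (X 3) = 0 :=
    hmem _ (Set.mem_insert_of_mem _ (Set.mem_insert_of_mem _ (Set.mem_insert _ _)))
  have R2 : mk (X 0) ^ (m * p) * mk (X 1) ^ m = mk (C s) := by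
    have := hmem _ (Set.mem_insert_of_mem _ (Set.mem_insert_of_mem _
      (Set.mem_insert_of_mem _ (Set.mem_singleton _))))
    rw [map_sub, sub_eq_zero, map_mul, map_pow, map_pow] at this
    exact this.symm
  have hCs : ∀ (t : ℕ) (y : MvPolynomial (Fin 5) k ⧸ I), mk (C s) ^ t * y = (s ^ t) • y := by
    intro t y
    obtain ⟨y', rfl⟩ := Ideal.Quotient.mk_surjective y
    rw [← map_pow, ← C_pow, ← map_mul, ← smul_eq_C_mul]
    rfl
  -- monomials with X2 or X3 vanish
  have hzero : ∀ d : Fin 5 →₀ ℕ, (d 2 ≠ 0 ∨ d 3 ≠ 0) → mk (monomial d 1) = 0 := by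
    intro d hd
    rw [mk_monomial_five]
    rcases hd with h | h
    · rw [hx2, zero_pow h]; ring
    · rw [hx3, zero_pow h]; ring
  -- the set of exponents
  let P : ℤ → Prop := fun e => ∃ d : Fin 5 →₀ ℕ, Finsupp.weight (wt5 p q m) d = ν ∧ d 2 = 0 ∧
    d 3 = 0 ∧ e = (d 4 : ℤ) - d 1
  by_cases hne : ∃ e, P e
  · have hbdd : ∃ b : ℤ, ∀ z, P z → z ≤ b := by
      refine ⟨|ν.1|, ?_⟩
      rintro z ⟨d, hd, h2, h3, rfl⟩
      rw [weight_wt5] at hd
      have h1 := congrArg Prod.fst hd
      simp only [h2, h3] at h1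
      by_cases hz : (0 : ℤ) ≤ (d 4 : ℤ) - d 1
      · have hq1 : (1 : ℤ) ≤ q := by omega
        have hqp : (p : ℤ) ≤ q := by omega
        have : (d 4 : ℤ) - d 1 ≤ ν.1 := by
          have e1 : ν.1 = (d 0 : ℤ) + ((q : ℤ) - p) * d 1 + q * ((d 4 : ℤ) - d 1) := by
            rw [← h1]; push_cast; ring
          have e2 : (0 : ℤ) ≤ ((q : ℤ) - p) * d 1 :=
            mul_nonneg (by omega) (by positivity)
          nlinarith
        exact le_trans this (le_abs_self _)
      · exact le_trans (by omega) (abs_nonneg _)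
    obtain ⟨e₀, ⟨d₀, hd₀, h02, h03, he₀⟩, hmax⟩ := Int.exists_greatest_of_bdd hbdd hne
    refine ⟨mk (monomial d₀ 1), ?_⟩
    apply piece_le_span
    intro d hd
    by_cases h23 : d 2 ≠ 0 ∨ d 3 ≠ 0
    · rw [hzero d h23]; exact zero_mem _
    · push Not at h23
      obtain ⟨h2, h3⟩ := h23
      have hle : (d 4 : ℤ) - d 1 ≤ e₀ := hmax _ ⟨d, hd, h2, h3, rfl⟩
      have hw := hd
      have hw₀ := hd₀
      rw [weight_wt5] at hw hw₀
      have hn : (d 0 : ℤ) - p * d 1 + q * d 4 = (d₀ 0 : ℤ) - p * d₀ 1 + q * d₀ 4 := by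
        have a1 := congrArg Prod.fst hw
        have a2 := congrArg Prod.fst hw₀
        simp only [h2, h3, h02, h03] at a1 a2
        push_cast at a1 a2
        linarith
      have hdvd : (m : ℤ) ∣ e₀ - ((d 4 : ℤ) - d 1) := by
        have a1 := congrArg Prod.snd hw
        have a2 := congrArg Prod.snd hw₀
        simp only [h2, h3, h02, h03] at a1 a2
        rw [← ZMod.intCast_eq_intCast_iff_dvd_sub, he₀]
        push_cast
        simp only [Nat.cast_zero, add_zero, zero_add] at a1 a2
        rw [a1, a2]
      obtain ⟨t', ht'⟩ := hdvd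
      have ht'0 : 0 ≤ t' := by
        have : (0 : ℤ) ≤ (m : ℤ) * t' := by rw [← ht']; omega
        have hm' : (0 : ℤ) < m := by exact_mod_cast hm
        exact nonneg_of_mul_nonneg_right this hm'
      obtain ⟨t, rfl⟩ := Int.eq_ofNat_of_zero_le ht'0
      have key := monomial_eq_smul (mk (X 0)) (mk (X 1)) (mk (X 4)) (mk (C s)) p q m hpq R1 R2
        (d 0) (d 1) (d 4) (d₀ 0) (d₀ 1) (d₀ 4) t hn (by rw [← he₀]; exact ht')
      rw [mk_monomial_five, mk_monomial_five, h2, h3, h02, h03, pow_zero, pow_zero, mul_one, mul_one,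
        mul_one, mul_one, key, hCs]
      exact Submodule.smul_mem _ _ (Submodule.mem_span_singleton_self _)
  · refine ⟨0, ?_⟩
    apply piece_le_span
    intro d hd
    by_cases h23 : d 2 ≠ 0 ∨ d 3 ≠ 0
    · rw [hzero d h23]; exact zero_mem _
    · push Not at h23
      exact absurd ⟨_, d, hd, h23.1, h23.2, rfl⟩ hne

end Groth.Agent.S15727
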