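import Groth.Statements.S15728
import Groth.Agent.Lib.Helper25.HilbSL2
-- import your own Groth.Agent.* helpers here

set_option autoImplicit false
universe u
open W4c2invhilbsl2

namespace Groth.Agent.S15728

/-- the number-theoretic core for `J_s` -/
theorem nt_core (p q m : ℕ) (hp : 0 < p) (hpq : p < q) (hcop : Nat.Coprime p q) (hm : 0 < m)
    (d0 d0' : ℕ) (hd0 : d0 < Nat.gcd m (q - p)) (hd0' : d0' < Nat.gcd m (q - p)) (u v : ℤ)
    (h1 : (d0 : ℤ) - d0' = p * u - q * v) (h2 : (m : ℤ) ∣ v - u) :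
    d0 = d0' ∧ ∃ w : ℤ, u = (m / Nat.gcd m (q - p) * q : ℕ) * w ∧
      v = (m / Nat.gcd m (q - p) * p : ℕ) * w := by
  set g := Nat.gcd m (q - p) with hg
  have hgpos : 0 < g := Nat.gcd_pos_of_pos_left _ hm
  have hgm : (g : ℤ) ∣ m := by exact_mod_cast Nat.gcd_dvd_left m (q - p)
  have hgqp : (g : ℤ) ∣ (q : ℤ) - p := by
    have : g ∣ q - p := Nat.gcd_dvd_right m (q - p)
    have h3 : ((q - p : ℕ) : ℤ) = (q : ℤ) - p := by omega
    rw [← h3]; exact_mod_cast this
  have hdvd : (g : ℤ) ∣ (d0 : ℤ) - d0' := by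
    have : (d0 : ℤ) - d0' = -(p * (v - u)) - ((q : ℤ) - p) * v := by rw [h1]; ring
    rw [this]
    exact dvd_sub ((dvd_neg.mpr (Dvd.dvd.mul_left (hgm.trans h2) _))) (Dvd.dvd.mul_right hgqp _)
  have h00 : (d0 : ℤ) - d0' = 0 := by
    apply Int.eq_zero_of_abs_lt_dvd hdvd
    rw [abs_lt]; constructor <;> omega
  have hd : d0 = d0' := by omega
  refine ⟨hd, ?_⟩
  have hpu : (p : ℤ) * u = q * v := by linarith
  have hcop' : IsCoprime (q : ℤ) (p : ℤ) := (Nat.isCoprime_iff_coprime.mpr hcop).symm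
  have hqu : (q : ℤ) ∣ u := hcop'.dvd_of_dvd_mul_left ⟨v, hpu⟩
  obtain ⟨w, rfl⟩ := hqu
  have hq0 : (q : ℤ) ≠ 0 := by
    have hq00 : 0 < q := by omega
    exact_mod_cast hq00.ne'
  have hv : v = p * w := by
    have : (q : ℤ) * v = q * (p * w) := by rw [← hpu]; ring
    exact mul_left_cancel₀ hq0 this
  subst hv
  -- m ∣ (p - q) w
  set a := m / g with ha
  have hma : m = g * a := (Nat.mul_div_cancel' (Nat.gcd_dvd_left m (q - p))).symm
  set b := (q - p) / g with hb
  have hqb : q - p = g * b := (Nat.mul_div_cancel' (Nat.gcd_dvd_right m (q - p))).symm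
  have hab : Nat.Coprime a b := Nat.coprime_div_gcd_div_gcd hgpos
  have hqb' : (q : ℤ) - p = g * b := by
    have h3 : ((q - p : ℕ) : ℤ) = (q : ℤ) - p := by omega
    rw [← h3, hqb]; push_cast; ring
  have h4 : ((g : ℤ) * a) ∣ (g : ℤ) * (b * w) := by
    have : (p : ℤ) * w - q * w = -((g : ℤ) * (b * w)) := by
      have : (p : ℤ) * w - q * w = -(((q : ℤ) - p) * w) := by ring
      rw [this, hqb']; ring
    rw [this] at h2
    have hma' : (m : ℤ) = g * a := by exact_mod_cast hma
    rw [hma'] at h2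
    exact (dvd_neg.mp h2)
  have hg0 : (g : ℤ) ≠ 0 := by exact_mod_cast hgpos.ne'
  have h5 : (a : ℤ) ∣ b * w := (mul_dvd_mul_iff_left hg0).mp h4
  have hab' : IsCoprime (a : ℤ) (b : ℤ) := Nat.isCoprime_iff_coprime.mpr hab
  obtain ⟨w', rfl⟩ := hab'.dvd_of_dvd_mul_left h5
  refine ⟨w', ?_, ?_⟩ <;> push_cast <;> ring

/-- Let k be an algebraically closed field, 0 < p < q coprime integers and m ≥ 1; put g = gcd(m, q−p)
and a = m/g, and grade k[X₀,…,X₄] by ℤ × ℤ/m, giving X₀ weight (1,0), X₁ and X₂ weight (−p,−1), and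
X₃ and X₄ weight (q,1). For s ∈ k let J_s be the ideal (X₀^g, X₂, X₄, s − X₁^(aq)X₃^(ap)), whose
generators are homogeneous (the last one of weight zero). Then for every weight ν the image in
k[X₀,…,X₄]/J_s of the homogeneous polynomials of weight ν is a k-vector space of dimension at most
1. (The published statement asserts that this dimension equals 1 for every ν and every s; this row
states the upper bound, the half obtained from the monomial analysis of the weight pieces, while the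
lower bound there is drawn from the moduli interpretation of these ideals. The published statement
is over the complex numbers; this row takes any algebraically closed field, which is what the
reduction to s = 0, 1 by rescaling the variables uses.) -/
theorem result (k : Type u) [Field k] [IsAlgClosed k] (p q m : ℕ) (hp : 0 < p) (hpq : p < q) (hcop : Nat.Coprime p q) (hm : 0 < m) (s : k) (ν : ℤ × ZMod m) :
    Module.rank k (W4c2invhilbsl2.piece k (W4c2invhilbsl2.wt5 p q m) (W4c2invhilbsl2.idealJ k p q m s) ν) ≤ 1 := by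
  open MvPolynomial Groth.Agent.Lib.Helper25.HilbSL2 in
  rw [rank_submodule_le_one_iff']
  set I := idealJ k p q m s with hI
  set mk := Ideal.Quotient.mk I with hmk
  set g := Nat.gcd m (q - p) with hg
  set a := m / g with ha
  have hgpos : 0 < g := Nat.gcd_pos_of_pos_left _ hm
  have hapos : 0 < a := Nat.div_pos (Nat.le_of_dvd hm (Nat.gcd_dvd_left m (q - p))) hgpos
  -- the relations
  have hmem : ∀ f ∈ ({X 0 ^ g, X 2, X 4, C s - X 1 ^ (a * q) * X 3 ^ (a * p)} :
      Set (MvPolynomial (Fin 5) k)), mk f = 0 := by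
    intro f hf
    exact Ideal.Quotient.eq_zero_iff_mem.mpr (Ideal.subset_span hf)
  have hx0 : mk (X 0) ^ g = 0 := by
    have := hmem _ (Set.mem_insert _ _)
    rwa [map_pow] at this
  have hx2 : mk (X 2) = 0 := hmem _ (Set.mem_insert_of_mem _ (Set.mem_insert _ _))
  have hx4 : mk (X 4) = 0 :=
    hmem _ (Set.mem_insert_of_mem _ (Set.mem_insert_of_mem _ (Set.mem_insert _ _)))
  have R2 : mk (X 1) ^ (a * q) * mk (X 3) ^ (a * p) = mk (C s) := by
    have := hmem _ (Set.mem_insert_of_mem _ (Set.mem_insert_of_mem _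
      (Set.mem_insert_of_mem _ (Set.mem_singleton _))))
    rw [map_sub, sub_eq_zero, map_mul, map_pow, map_pow] at this
    exact this.symm
  have hCs : ∀ (t : ℕ) (y : MvPolynomial (Fin 5) k ⧸ I), mk (C s) ^ t * y = (s ^ t) • y := by
    intro t y
    obtain ⟨y', rfl⟩ := Ideal.Quotient.mk_surjective y
    rw [← map_pow, ← C_pow, ← map_mul, ← smul_eq_C_mul]
    rfl
  -- monomials with X2 or X4 or high X0 vanish
  have hzero : ∀ d : Fin 5 →₀ ℕ, (d 2 ≠ 0 ∨ d 4 ≠ 0 ∨ g ≤ d 0) → mk (monomial d 1) = 0 := by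
    intro d hd
    rw [mk_monomial_five]
    rcases hd with h | h | h
    · rw [hx2, zero_pow h]; ring
    · rw [hx4, zero_pow h]; ring
    · rw [pow_eq_zero_of_le h hx0]; ring
  -- the set of exponents
  let P : ℕ → Prop := fun b => ∃ d : Fin 5 →₀ ℕ, Finsupp.weight (wt5 p q m) d = ν ∧ d 2 = 0 ∧
    d 4 = 0 ∧ d 0 < g ∧ d 1 = b
  by_cases hne : ∃ b, P b
  · classical
    obtain ⟨d₀, hd₀, h02, h04, h00, hb₀⟩ := Nat.find_spec hne
    have hmin : ∀ b, P b → Nat.find hne ≤ b := fun b hb => Nat.find_min' hne hb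
    refine ⟨mk (monomial d₀ 1), ?_⟩
    apply piece_le_span
    intro d hd
    by_cases h23 : d 2 ≠ 0 ∨ d 4 ≠ 0 ∨ g ≤ d 0
    · rw [hzero d h23]; exact zero_mem _
    · push Not at h23
      obtain ⟨h2, h4, h0⟩ := h23
      have hle : d₀ 1 ≤ d 1 := by
        rw [hb₀]; exact hmin _ ⟨d, hd, h2, h4, h0, rfl⟩
      have hw := hd
      have hw₀ := hd₀
      rw [weight_wt5] at hw hw₀
      have hn : (d 0 : ℤ) - d₀ 0 = p * ((d 1 : ℤ) - d₀ 1) - q * ((d 3 : ℤ) - d₀ 3) := by
        have a1 := congrArg Prod.fst hw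
        have a2 := congrArg Prod.fst hw₀
        simp only [h2, h4, h02, h04] at a1 a2
        push_cast at a1 a2
        linarith
      have hdvd : (m : ℤ) ∣ ((d 3 : ℤ) - d₀ 3) - ((d 1 : ℤ) - d₀ 1) := by
        have a1 := congrArg Prod.snd hw
        have a2 := congrArg Prod.snd hw₀
        simp only [h2, h4, h02, h04] at a1 a2
        have e : ((d 3 : ℤ) - d₀ 3) - ((d 1 : ℤ) - d₀ 1) = ((d 3 : ℤ) - d 1) - ((d₀ 3 : ℤ) - d₀ 1) := by
          ring
        rw [e, ← ZMod.intCast_eq_intCast_iff_dvd_sub]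
        push_cast
        simp only [Nat.cast_zero, add_zero, zero_add] at a1 a2
        rw [a1, a2]
      obtain ⟨e0, w, hu, hv⟩ := nt_core p q m hp hpq hcop hm (d 0) (d₀ 0) h0 h00 _ _ hn hdvd
      have hw0 : 0 ≤ w := by
        have h1 : (0 : ℤ) ≤ ((a * q : ℕ) : ℤ) * w := by rw [← hu]; omega
        have h2 : (0 : ℤ) < ((a * q : ℕ) : ℤ) := by
          have : 0 < a * q := Nat.mul_pos hapos (by omega)
          exact_mod_cast this
        exact nonneg_of_mul_nonneg_right h1 h2
      obtain ⟨t, rfl⟩ := Int.eq_ofNat_of_zero_le hw0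
      have e1 : d 1 = d₀ 1 + a * q * t := by
        have : (d 1 : ℤ) = d₀ 1 + ((a * q : ℕ) : ℤ) * t := by linarith
        exact_mod_cast this
      have e3 : d 3 = d₀ 3 + a * p * t := by
        have : (d 3 : ℤ) = d₀ 3 + ((a * p : ℕ) : ℤ) * t := by linarith
        exact_mod_cast this
      have key : mk (X 0) ^ d 0 * mk (X 1) ^ d 1 * mk (X 3) ^ d 3 =
          mk (C s) ^ t * (mk (X 0) ^ d₀ 0 * mk (X 1) ^ d₀ 1 * mk (X 3) ^ d₀ 3) := by
        rw [← R2, e0, e1, e3, pow_add, pow_add, pow_mul, pow_mul, mul_pow]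
        ring
      rw [mk_monomial_five, mk_monomial_five, h2, h4, h02, h04, pow_zero, pow_zero, mul_one, mul_one,
        mul_one, mul_one, key, hCs]
      exact Submodule.smul_mem _ _ (Submodule.mem_span_singleton_self _)
  · refine ⟨0, ?_⟩
    apply piece_le_span
    intro d hd
    by_cases h23 : d 2 ≠ 0 ∨ d 4 ≠ 0 ∨ g ≤ d 0
    · rw [hzero d h23]; exact zero_mem _
    · push Not at h23
      exact absurd ⟨_, d, hd, h23.1, h23.2.1, h23.2.2, rfl⟩ hne

end Groth.Agent.S15728
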