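import Groth.Statements.S15730
import Groth.Agent.Lib.Helper29.WtPiece
import Groth.Agent.Lib.Helper29.HJFrac5
import Groth.Agent.S15729

set_option autoImplicit false
universe u
open W4c2invhilbsl2

namespace Groth.Agent.S15730



open MvPolynomial in
lemma mk_monomial3 {k : Type u} [Field k] (I : Ideal (MvPolynomial (Fin 3) k)) (d : Fin 3 →₀ ℕ) :
    Ideal.Quotient.mk I (monomial d 1) =
      Ideal.Quotient.mk I (X 0) ^ d 0 * Ideal.Quotient.mk I (X 1) ^ d 1 *
        Ideal.Quotient.mk I (X 2) ^ d 2 := by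
  rw [monomial_eq, C_1, one_mul, Finsupp.prod_fintype d (fun n e => (X n : MvPolynomial (Fin 3) k) ^ e)
    (fun i => pow_zero _), Fin.prod_univ_three]
  simp only [map_mul, map_pow]

/-- Let 0 < p < q be coprime integers and m ≥ 1 such that q − p does not divide m; put g = gcd(m, q−p),
b = (q−p)/g, α = ⌊mp/(q−p)⌋, β = the remainder of mp modulo q−p and t = (q−p−β)/g, so that 1 ≤ t <
b, and let b/t = c₁ − 1/(c₂ − 1/(⋯ − 1/c_r)) be the negative-regular (Hirzebruch–Jung) continued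
fraction expansion with every cᵢ ≥ 2; set P₀ = 0, P₁ = 1, Q₀ = −1, Q₁ = 0, Pᵢ = cᵢ₋₁Pᵢ₋₁ − Pᵢ₋₂, Qᵢ
= cᵢ₋₁Qᵢ₋₁ − Qᵢ₋₂ for 2 ≤ i ≤ r+1, and eᵢ = (α+1+m)Pᵢ − Qᵢ, lᵢ = (α+1)Pᵢ − Qᵢ, nᵢ = q·lᵢ − p·eᵢ,
which are non-negative integers for 0 ≤ i ≤ r+1. Grade the polynomial ring k[X₀,X₁,X₂] over a field
k by ℤ × ℤ/m with weights (1,0), (−p,−1), (q,1) (it stands for k[X₀,X₁,Xⱼ], j = 3 or 4, inside the
five-variable ring), let K be the ideal generated by all weight-zero monomials other than 1, and for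
1 ≤ i ≤ r let L⁽ⁱ⁾₀ be the ideal (X₀^(nᵢ₋₁), X₁^(eᵢ)X₂^(lᵢ)) + K, which is generated by homogeneous
elements. Then for every weight ν the image in k[X₀,X₁,X₂]/L⁽ⁱ⁾₀ of the homogeneous polynomials of
weight ν is a k-vector space of dimension at most 1. (The published statement is over the complex
numbers and writes this ideal as (X₀^(nᵢ₋₁), s·X₀^(nᵢ) − X₁^(eᵢ)X₂^(lᵢ)) + K with s = 0; this row
takes any field.) -/
theorem result (k : Type u) [Field k] (p q m : ℕ) (hp : 0 < p) (hpq : p < q) (hcop : Nat.Coprime p q) (hm : 0 < m) (hnt : ¬ (q - p ∣ m)) (c : List ℤ) (hc : W4c2invhilbsl2.IsHJDigits p q m c) (i : ℕ) (hi : 1 ≤ i) (hir : i ≤ c.length)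
    (ν : ℤ × ZMod m) :
    Module.rank k (W4c2invhilbsl2.piece k (W4c2invhilbsl2.wt3 p q m) (W4c2invhilbsl2.idealL k p q m c i 0) ν) ≤ 1 := by
  classical
  open Groth.Agent.Lib.Helper29.HJ in
  apply Groth.Agent.Lib.Helper29.WtPiece.piece_rank_le_one
  intro d d' hd hd'
  rw [Groth.Agent.S15729.weight_wt3] at hd hd'
  obtain ⟨hn0', hnD'⟩ := nN_le_D p q m hpq hcop hm c hc (i - 1) (by omega)
  have hDpos : (0 : ℤ) < (q : ℤ) - p := by
    have : (p : ℤ) < q := by exact_mod_cast hpq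
    linarith
  have hPnn : 0 ≤ W4c2invhilbsl2.hjP c i := hjP_nonneg c hc.1 i hir
  obtain ⟨hn0, hnD⟩ := nN_lt_D p q m hpq hcop hm c hc i hi hir
  have hl0 : 0 ≤ W4c2invhilbsl2.lL p q m c i := by
    have h := D_lL p q m c i
    have h2 : (0 : ℤ) ≤ (p : ℤ) * m * W4c2invhilbsl2.hjP c i := by positivity
    by_contra hh
    push Not at hh
    nlinarith
  have he0 : 0 ≤ W4c2invhilbsl2.eE p q m c i := by
    rw [eE_eq]
    have : (0 : ℤ) ≤ (m : ℤ) * W4c2invhilbsl2.hjP c i := by positivity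
    linarith
  unfold W4c2invhilbsl2.idealL
  set N := (W4c2invhilbsl2.nN p q m c (i - 1)).toNat with hN
  set n := (W4c2invhilbsl2.nN p q m c i).toNat with hn
  set e := (W4c2invhilbsl2.eE p q m c i).toNat with he
  set l := (W4c2invhilbsl2.lL p q m c i).toNat with hl
  have hNz : (N : ℤ) = W4c2invhilbsl2.nN p q m c (i - 1) := Int.toNat_of_nonneg hn0'.le
  have hez : (e : ℤ) = W4c2invhilbsl2.eE p q m c i := Int.toNat_of_nonneg he0
  have hlz : (l : ℤ) = W4c2invhilbsl2.lL p q m c i := Int.toNat_of_nonneg hl0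
  set I : Ideal (MvPolynomial (Fin 3) k) :=
    Ideal.span {MvPolynomial.X 0 ^ N,
      MvPolynomial.C (0 : k) * MvPolynomial.X 0 ^ n - MvPolynomial.X 1 ^ e * MvPolynomial.X 2 ^ l} ⊔
      W4c2invhilbsl2.idealK k p q m with hI
  set π := Ideal.Quotient.mk I with hπ
  have hx0 : π (MvPolynomial.X 0) ^ N = 0 := by
    rw [hπ, ← map_pow, Ideal.Quotient.eq_zero_iff_mem]
    apply Ideal.mem_sup_left
    apply Ideal.subset_span; simp
  have hyz : π (MvPolynomial.X 1) ^ e * π (MvPolynomial.X 2) ^ l = 0 := by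
    have : (MvPolynomial.C (0 : k) * MvPolynomial.X 0 ^ n - MvPolynomial.X 1 ^ e * MvPolynomial.X 2 ^ l :
        MvPolynomial (Fin 3) k) ∈ I := by
      apply Ideal.mem_sup_left
      apply Ideal.subset_span; simp
    rw [← Ideal.Quotient.eq_zero_iff_mem, map_sub, map_mul, map_mul, map_pow, map_pow, map_pow,
      map_zero, map_zero, zero_mul, zero_sub, neg_eq_zero] at this
    exact this
  have hK : ∀ δ : Fin 3 →₀ ℕ, δ ≠ 0 → Finsupp.weight (W4c2invhilbsl2.wt3 p q m) δ = 0 →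
      π (MvPolynomial.monomial δ 1) = 0 := by
    intro δ hδ hw
    rw [hπ, Ideal.Quotient.eq_zero_iff_mem]
    apply Ideal.mem_sup_right
    apply Ideal.subset_span
    exact ⟨δ, hδ, hw, rfl⟩
  -- vanishing criteria
  have hZ0 : ∀ d : Fin 3 →₀ ℕ, N ≤ d 0 → π (MvPolynomial.monomial d 1) = 0 := by
    intro d h
    obtain ⟨j, hj⟩ := Nat.exists_eq_add_of_le h
    rw [mk_monomial3, hj, pow_add, hx0]; ring
  have hZyz : ∀ d : Fin 3 →₀ ℕ, e ≤ d 1 → l ≤ d 2 → π (MvPolynomial.monomial d 1) = 0 := by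
    intro d h1 h2
    obtain ⟨j1, hj1⟩ := Nat.exists_eq_add_of_le h1
    obtain ⟨j2, hj2⟩ := Nat.exists_eq_add_of_le h2
    rw [mk_monomial3, hj1, hj2, pow_add, pow_add]
    calc π (MvPolynomial.X 0) ^ d 0 * (π (MvPolynomial.X 1) ^ e * π (MvPolynomial.X 1) ^ j1) *
          (π (MvPolynomial.X 2) ^ l * π (MvPolynomial.X 2) ^ j2)
        = (π (MvPolynomial.X 1) ^ e * π (MvPolynomial.X 2) ^ l) *
          (π (MvPolynomial.X 0) ^ d 0 * π (MvPolynomial.X 1) ^ j1 * π (MvPolynomial.X 2) ^ j2) := by ring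
      _ = 0 := by rw [hyz, zero_mul]
  have hZK : ∀ d d' : Fin 3 →₀ ℕ, d' ≤ d → d ≠ d' →
      Finsupp.weight (W4c2invhilbsl2.wt3 p q m) d = Finsupp.weight (W4c2invhilbsl2.wt3 p q m) d' →
      π (MvPolynomial.monomial d 1) = 0 := by
    intro d d' hle hne hw
    have hdd : d = d' + (d - d') := (add_tsub_cancel_of_le hle).symm
    have hδ0 : d - d' ≠ 0 := by
      intro h
      apply hne
      rw [hdd, h, add_zero]
    have hδw : Finsupp.weight (W4c2invhilbsl2.wt3 p q m) (d - d') = 0 := by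
      have := hw
      rw [hdd, map_add] at this
      exact add_eq_left.mp this
    have : MvPolynomial.monomial d (1 : k) =
        MvPolynomial.monomial d' 1 * MvPolynomial.monomial (d - d') 1 := by
      rw [MvPolynomial.monomial_mul, mul_one, ← hdd]
    rw [this, map_mul, hK _ hδ0 hδw, mul_zero]
  -- weights in integer form
  have hwt : ∀ a b : Fin 3 →₀ ℕ,
      Finsupp.weight (W4c2invhilbsl2.wt3 p q m) a = Finsupp.weight (W4c2invhilbsl2.wt3 p q m) b ↔
      ((a 0 : ℤ) - p * a 1 + q * a 2 = b 0 - p * b 1 + q * b 2 ∧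
        (m : ℤ) ∣ ((b 2 : ℤ) - b 1) - ((a 2 : ℤ) - a 1)) := by
    intro a b
    rw [Groth.Agent.S15729.weight_wt3, Groth.Agent.S15729.weight_wt3, Prod.mk.injEq,
      ZMod.intCast_eq_intCast_iff_dvd_sub]
  -- main case: d' 1 ≤ d 1, d' 2 ≤ d 2
  have main : ∀ d d' : Fin 3 →₀ ℕ, d ≠ d' →
      Finsupp.weight (W4c2invhilbsl2.wt3 p q m) d = Finsupp.weight (W4c2invhilbsl2.wt3 p q m) d' →
      d' 1 ≤ d 1 → d' 2 ≤ d 2 →
      π (MvPolynomial.monomial d 1) = 0 ∨ π (MvPolynomial.monomial d' 1) = 0 := by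
    intro d d' hne hw h1 h2
    obtain ⟨hW, hE⟩ := (hwt d d').1 hw
    rcases le_or_gt (d' 0) (d 0) with h0 | h0
    · left
      apply hZK d d' _ hne hw
      intro j
      fin_cases j
      · exact h0
      · exact h1
      · exact h2
    · -- a = d' 0 - d 0 > 0
      by_cases hbig : N ≤ d' 0
      · right; exact hZ0 d' hbig
      · left
        push Not at hbig
        obtain ⟨j1, hj1⟩ := Nat.exists_eq_add_of_le h1
        obtain ⟨j2, hj2⟩ := Nat.exists_eq_add_of_le h2
        have hA := claimA p q m hp hpq hcop hm c hc i hi hir j1 j2 ((d' 0 : ℤ) - d 0)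
          (by
            have e1 : (d 1 : ℤ) = d' 1 + j1 := by exact_mod_cast hj1
            have e2 : (d 2 : ℤ) = d' 2 + j2 := by exact_mod_cast hj2
            rw [e1, e2] at hW
            linarith)
          (by
            have e1 : (d 1 : ℤ) = d' 1 + j1 := by exact_mod_cast hj1
            have e2 : (d 2 : ℤ) = d' 2 + j2 := by exact_mod_cast hj2
            obtain ⟨u, hu⟩ := hE
            refine ⟨-u, ?_⟩
            rw [e1, e2] at hu
            linarith)
          (by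
            have : (d 0 : ℤ) < d' 0 := by exact_mod_cast h0
            linarith)
          (by
            have : (d' 0 : ℤ) < N := by exact_mod_cast hbig
            rw [← hNz]
            have : (0 : ℤ) ≤ d 0 := by positivity
            linarith)
        apply hZyz d
        · have : (e : ℤ) ≤ d 1 := by
            rw [hez, hj1]; push_cast
            have : (0 : ℤ) ≤ d' 1 := by positivity
            linarith [hA.1]
          exact_mod_cast this
        · have : (l : ℤ) ≤ d 2 := by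
            rw [hlz, hj2]; push_cast
            have : (0 : ℤ) ≤ d' 2 := by positivity
            linarith [hA.2]
          exact_mod_cast this
  have main3 : ∀ d d' : Fin 3 →₀ ℕ,
      Finsupp.weight (W4c2invhilbsl2.wt3 p q m) d = Finsupp.weight (W4c2invhilbsl2.wt3 p q m) d' →
      d' 1 < d 1 → d 2 < d' 2 → π (MvPolynomial.monomial d 1) = 0 := by
    intro d d' hw h1 h2
    obtain ⟨hW, hE⟩ := (hwt d d').1 hw
    apply hZ0
    have h1' : (d' 1 : ℤ) + 1 ≤ d 1 := by exact_mod_cast h1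
    have h2' : (d 2 : ℤ) + 1 ≤ d' 2 := by exact_mod_cast h2
    have hpz : (0 : ℤ) < p := by exact_mod_cast hp
    have hqz : (0 : ℤ) < q := by exact_mod_cast (by omega : 0 < q)
    have : (N : ℤ) ≤ d 0 := by
      rw [hNz]
      have h3 : (d 0 : ℤ) = d' 0 + p * ((d 1 : ℤ) - d' 1) + q * ((d' 2 : ℤ) - d 2) := by linarith
      have h4 : (0 : ℤ) ≤ d' 0 := by positivity
      nlinarith
    exact_mod_cast this
  -- conclude
  have hw : Finsupp.weight (W4c2invhilbsl2.wt3 p q m) d = Finsupp.weight (W4c2invhilbsl2.wt3 p q m) d' := by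
    rw [Groth.Agent.S15729.weight_wt3, Groth.Agent.S15729.weight_wt3]
    exact hd.trans hd'.symm
  by_cases hdd : d = d'
  · refine ⟨1, -1, Or.inl one_ne_zero, ?_⟩
    rw [hdd]; simp
  have hcases : π (MvPolynomial.monomial d 1) = 0 ∨ π (MvPolynomial.monomial d' 1) = 0 := by
    rcases lt_trichotomy (d' 1) (d 1) with h1 | h1 | h1
    · rcases le_or_gt (d' 2) (d 2) with h2 | h2
      · exact main d d' hdd hw h1.le h2
      · exact Or.inl (main3 d d' hw h1 h2)
    · rcases le_total (d' 2) (d 2) with h2 | h2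
      · exact main d d' hdd hw h1.le h2
      · exact (main d' d (Ne.symm hdd) hw.symm h1.symm.le h2).symm
    · rcases le_or_gt (d 2) (d' 2) with h2 | h2
      · exact (main d' d (Ne.symm hdd) hw.symm h1.le h2).symm
      · exact Or.inr (main3 d' d hw.symm h1 h2)
  rcases hcases with h | h
  · refine ⟨1, 0, Or.inl one_ne_zero, ?_⟩
    rw [h]; simp
  · refine ⟨0, 1, Or.inr one_ne_zero, ?_⟩
    rw [h]; simp

end Groth.Agent.S15730
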