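import Groth.Statements.S15734
import Groth.Agent.Lib.Helper29.HJFrac3

set_option autoImplicit false
open W4c2invhilbsl2

namespace Groth.Agent.S15734

/-- Let 0 < p < q be coprime integers and m ≥ 1 such that q − p does not divide m; put g = gcd(m, q−p),
b = (q−p)/g, α = ⌊mp/(q−p)⌋, β = the remainder of mp modulo q−p and t = (q−p−β)/g, so that 1 ≤ t <
b, and let b/t = c₁ − 1/(c₂ − 1/(⋯ − 1/c_r)) be the negative-regular (Hirzebruch–Jung) continued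
fraction expansion with every cᵢ ≥ 2; set P₀ = 0, P₁ = 1, Q₀ = −1, Q₁ = 0, Pᵢ = cᵢ₋₁Pᵢ₋₁ − Pᵢ₋₂, Qᵢ
= cᵢ₋₁Qᵢ₋₁ − Qᵢ₋₂ for 2 ≤ i ≤ r+1, and eᵢ = (α+1+m)Pᵢ − Qᵢ, lᵢ = (α+1)Pᵢ − Qᵢ, nᵢ = q·lᵢ − p·eᵢ,
which are non-negative integers for 0 ≤ i ≤ r+1; moreover g divides every nᵢ, and write tᵢ = nᵢ/g
(so t₁ = t). Then (a) for every 1 ≤ i ≤ r the remainder of t·Pᵢ on division by b equals tᵢ, and (b)
for every 1 < i ≤ r and every integer x with 0 < x < Pᵢ the remainder ρ of t·x on division by b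
satisfies tᵢ₋₁ ≤ ρ ≤ b + tᵢ − tᵢ₋₁. -/
theorem result (p q m : ℕ) (hp : 0 < p) (hpq : p < q) (hcop : Nat.Coprime p q) (hm : 0 < m) (hnt : ¬ (q - p ∣ m)) (c : List ℤ) (hc : W4c2invhilbsl2.IsHJDigits p q m c) :
    (∀ i : ℕ, 1 ≤ i → i ≤ c.length →
      Int.emod ((W4c2invhilbsl2.tT p q m : ℤ) * W4c2invhilbsl2.hjP c i) (W4c2invhilbsl2.bB p q m : ℤ) = W4c2invhilbsl2.nN p q m c i / (W4c2invhilbsl2.gcdK p q m : ℤ)) ∧
    (∀ i : ℕ, 1 < i → i ≤ c.length → ∀ x : ℤ, 0 < x → x < W4c2invhilbsl2.hjP c i →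
      W4c2invhilbsl2.nN p q m c (i - 1) / (W4c2invhilbsl2.gcdK p q m : ℤ) ≤ Int.emod ((W4c2invhilbsl2.tT p q m : ℤ) * x) (W4c2invhilbsl2.bB p q m : ℤ) ∧
      Int.emod ((W4c2invhilbsl2.tT p q m : ℤ) * x) (W4c2invhilbsl2.bB p q m : ℤ) ≤
        (W4c2invhilbsl2.bB p q m : ℤ) + W4c2invhilbsl2.nN p q m c i / (W4c2invhilbsl2.gcdK p q m : ℤ) - W4c2invhilbsl2.nN p q m c (i - 1) / (W4c2invhilbsl2.gcdK p q m : ℤ)) := by
  open Groth.Agent.Lib.Helper29.HJ in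
  obtain ⟨hPl, hQl⟩ := PQ_of_isHJDigits p q m hpq hcop hm c hc
  have hgpos : (0 : ℤ) < (W4c2invhilbsl2.gcdK p q m : ℤ) := by exact_mod_cast g_pos p q m hm
  have hdivg : ∀ i, W4c2invhilbsl2.nN p q m c i / (W4c2invhilbsl2.gcdK p q m : ℤ) =
      (W4c2invhilbsl2.tT p q m : ℤ) * W4c2invhilbsl2.hjP c i -
        (W4c2invhilbsl2.bB p q m : ℤ) * W4c2invhilbsl2.hjQ c i := by
    intro i
    rw [nN_eq p q m hpq c i, Int.mul_ediv_cancel_left _ hgpos.ne']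
  constructor
  · intro i hi1 hir
    rw [hdivg i]
    have hs : (W4c2invhilbsl2.tT p q m : ℤ) * W4c2invhilbsl2.hjP c i -
        (W4c2invhilbsl2.bB p q m : ℤ) * W4c2invhilbsl2.hjQ c i = (suf c i).1 := by
      rw [← hPl, ← hQl]; exact s_eq_suf c i hir
    have hb0 : (W4c2invhilbsl2.bB p q m : ℤ) = (suf c 0).1 := by
      have := s_eq_suf c 0 (by omega)
      rw [hPl, hQl] at this
      simp only [W4c2invhilbsl2.hjP, W4c2invhilbsl2.hjQ] at this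
      linarith
    have h1 : 1 ≤ (suf c i).1 := suf_ge_one c hc.1 i hir
    have h2 : (suf c i).1 < (suf c 0).1 := by
      have h3 := suf_anti c hc.1 1 i hi1 hir
      have h4 := suf_strict c hc.1 0 (by omega)
      linarith
    have e : (W4c2invhilbsl2.tT p q m : ℤ) * W4c2invhilbsl2.hjP c i =
        (suf c i).1 + (W4c2invhilbsl2.bB p q m : ℤ) * W4c2invhilbsl2.hjQ c i := by
      linarith
    rw [hs]
    show ((W4c2invhilbsl2.tT p q m : ℤ) * W4c2invhilbsl2.hjP c i) % (W4c2invhilbsl2.bB p q m : ℤ) = _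
    rw [e, Int.add_mul_emod_self_left, Int.emod_eq_of_lt (by linarith) (by rw [hb0]; exact h2)]
  · intro i hi1 hir x hx0 hx
    obtain ⟨k, rfl⟩ : ∃ k, i = k + 1 := ⟨i - 1, by omega⟩
    have e1 : k + 1 - 1 = k := by omega
    rw [e1, hdivg k, hdivg (k + 1)]
    exact bounds c hc.1 _ _ hPl hQl k (by omega) hir x hx0 hx

end Groth.Agent.S15734
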