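import Groth.Statements.S1607
import Groth.Agent.Lib.Helper13.DimOneOpen

set_option autoImplicit false
universe u
open CategoryTheory CategoryTheory.Limits AlgebraicGeometry
open Variety

namespace Groth.Agent.S1607

/-- If X is affine and each of its local rings is Noetherian of dimension at most one, then every
quasi-compact open subscheme of X is affine. -/
theorem result (X : Scheme.{u}) [IsAffine X]
    (hX : ∀ x : X, IsNoetherianRing (X.presheaf.stalk x) ∧ ringKrullDim (X.presheaf.stalk x) ≤ 1)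
    (U : X.Opens) (hU : IsCompact (U : Set X)) : IsAffineOpen U := by
  classical
  obtain ⟨Us, hsub, hfin, hUeq⟩ := (isBasis_basicOpen X).exists_finite_of_isCompact hU
  obtain ⟨F, -, hFimg⟩ : ∃ F : Finset Γ(X, ⊤), (F : Set Γ(X, ⊤)) ⊆ Set.univ ∧
      F.image X.basicOpen = hfin.toFinset := by
    refine Finset.subset_set_image_iff.mp ?_
    rw [Set.image_univ]
    simpa using hsub
  have hmemU : ∀ y : X, y ∈ U ↔ ∃ f ∈ F, y ∈ X.basicOpen f := by
    intro y
    rw [hUeq, TopologicalSpace.Opens.mem_sSup]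
    constructor
    · rintro ⟨V, hV, hy⟩
      have : V ∈ F.image X.basicOpen := by rw [hFimg]; exact hfin.mem_toFinset.mpr hV
      obtain ⟨f, hf, rfl⟩ := Finset.mem_image.mp this
      exact ⟨f, hf, hy⟩
    · rintro ⟨f, hf, hy⟩
      refine ⟨X.basicOpen f, ?_, hy⟩
      have : X.basicOpen f ∈ F.image X.basicOpen := Finset.mem_image_of_mem _ hf
      rw [hFimg] at this
      exact hfin.mem_toFinset.mp this
  have hT := isAffineOpen_top X
  have hbo : ∀ (y : X) (f : Γ(X, ⊤)),
      y ∈ X.basicOpen f ↔ f ∉ (hT.primeIdealOf ⟨y, trivial⟩).asIdeal := by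
    intro y f
    letI := X.presheaf.algebra_section_stalk (⟨y, trivial⟩ : (⊤ : X.Opens))
    haveI := hT.isLocalization_stalk ⟨y, trivial⟩
    rw [Scheme.mem_basicOpen _ f y trivial, ← Ideal.mem_primeCompl_iff,
      ← IsLocalization.AtPrime.isUnit_to_map_iff (X.presheaf.stalk y)
        (hT.primeIdealOf ⟨y, trivial⟩).asIdeal f]
    rfl
  suffices IsAffineHom U.ι from isAffine_of_isAffineHom U.ι
  apply isAffineHom_of_forall_exists_isAffineOpen
  intro x
  have haff : ∀ W : X.Opens, IsAffineOpen (U ⊓ W) → IsAffineOpen (U.ι ⁻¹ᵁ W) := by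
    intro W hW
    rwa [← U.ι.isAffineOpen_iff_of_isOpenImmersion, U.ι.image_preimage_eq_opensRange_inf,
      Scheme.Opens.opensRange_ι]
  by_cases hx : x ∈ U
  · obtain ⟨_, ⟨_, ⟨h, rfl⟩, rfl⟩, hxh, hle⟩ :=
      (isBasis_basicOpen X).exists_subset_of_mem_open hx U.2
    replace hle : X.basicOpen h ≤ U := hle
    refine ⟨X.basicOpen h, hxh, hT.basicOpen h, haff _ ?_⟩
    rw [inf_eq_right.mpr hle]
    exact hT.basicOpen h
  · letI := X.presheaf.algebra_section_stalk (⟨x, trivial⟩ : (⊤ : X.Opens))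
    haveI := hT.isLocalization_stalk ⟨x, trivial⟩
    haveI := (hX x).1
    obtain ⟨a, haI, h, hhp, hq⟩ := Groth.Agent.Lib.Helper13.DimOneOpen.exists_spread Γ(X, ⊤)
      (X.presheaf.stalk x) (hT.primeIdealOf ⟨x, trivial⟩).asIdeal (hX x).2 F (by
        intro f hf
        by_contra hn
        exact hx ((hmemU x).mpr ⟨f, hf, (hbo x f).mpr hn⟩))
    refine ⟨X.basicOpen h, (hbo x h).mpr hhp, hT.basicOpen h, haff _ ?_⟩
    have : U ⊓ X.basicOpen h = X.basicOpen (a * h) := by
      rw [Scheme.basicOpen_mul]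
      ext y
      simp only [TopologicalSpace.Opens.coe_inf, Set.mem_inter_iff, SetLike.mem_coe]
      constructor
      · rintro ⟨hyU, hyh⟩
        refine ⟨?_, hyh⟩
        rw [hbo]
        intro hay
        obtain ⟨f, hf, hyf⟩ := (hmemU y).mp hyU
        exact (hbo y f).mp hyf
          (hq _ (hT.primeIdealOf ⟨y, trivial⟩).isPrime ((hbo y h).mp hyh) hay f hf)
      · rintro ⟨hya, hyh⟩
        refine ⟨?_, hyh⟩
        by_contra hyU
        apply (hbo y a).mp hya
        have : Ideal.span (F : Set Γ(X, ⊤)) ≤ (hT.primeIdealOf ⟨y, trivial⟩).asIdeal := by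
          rw [Ideal.span_le]
          intro f hf
          by_contra hn
          exact hyU ((hmemU y).mpr ⟨f, hf, (hbo y f).mpr hn⟩)
        exact this haI
    rw [this]
    exact hT.basicOpen _

end Groth.Agent.S1607
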