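import Groth.Statements.S1574
import Groth.Agent.Lib.Helper13.PuncturedAffine
import Groth.Agent.S1607

set_option autoImplicit false
universe u
open CategoryTheory CategoryTheory.Limits AlgebraicGeometry
open Divisors

namespace Groth.Agent.S1574

/-- For a Noetherian local ring A, the punctured spectrum (Spec A minus the closed point, as an open
subscheme) is affine if and only if dim A ≤ 1. -/
theorem result (A : Type u) [CommRing A] [IsLocalRing A] [IsNoetherianRing A] :
    IsAffine (FEt.puncturedSpec A : Scheme.{u}) ↔ ringKrullDim A ≤ 1 := by
  have hmemU : ∀ q : PrimeSpectrum A, q ∈ FEt.puncturedSpec A ↔ q ≠ IsLocalRing.closedPoint A := by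
    intro q
    exact Iff.rfl
  constructor
  · intro h
    exact Groth.Agent.Lib.Helper13.PuncturedAffine.ringKrullDim_le_one_of_isAffineOpen_punctured
      A _ hmemU h
  · intro hdim
    refine Groth.Agent.S1607.result (Spec (CommRingCat.of A)) ?_ (FEt.puncturedSpec A) ?_
    · intro x
      refine ⟨inferInstance, ?_⟩
      let k : Algebra A ((Spec (CommRingCat.of A)).presheaf.stalk x) :=
        StructureSheaf.stalkAlgebra A x
      have : IsLocalization.AtPrime ((Spec (CommRingCat.of A)).presheaf.stalk x) x.asIdeal :=
        StructureSheaf.IsLocalization.to_stalk A x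
      rw [IsLocalization.AtPrime.ringKrullDim_eq_height x.asIdeal
        ((Spec (CommRingCat.of A)).presheaf.stalk x)]
      exact (Ideal.height_le_ringKrullDim_of_ne_top x.2.ne_top).trans hdim
    · exact TopologicalSpace.NoetherianSpace.isCompact _

end Groth.Agent.S1574
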