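import Groth.Statements.S15740
import Mathlib.Tactic.Linarith
import Mathlib.Tactic.Ring
import Mathlib.Tactic.Zify
import Mathlib.Tactic.Positivity
-- import your own Groth.Agent.* helpers here

set_option autoImplicit false
open W4c2invhilbsl2

namespace Groth.Agent.S15740

/-- For a monomial X₀^d₀X₁^d₁X₂^d₂ of the polynomial ring in X₀, X₁, X₂ (X₂ standing for Xⱼ, j = 3 or 4,
of the five-variable ring) put n = d₀ − p·d₁ + q·d₂ (its weight for the torus diag(t, t^(−p), t^q)),
c = d₁ − d₂ and ω = p·d₁ − q·d₂, so that d₀ = n + ω; here 0 < p < q are coprime integers. Suppose n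
≥ 0, c > 0 and d₀ < q − p (the last condition says that ω is the least value of ω for the pair (n,
c)). Then ω ≥ 0 if and only if the remainder of p·c on division by q − p, plus n, is less than q −
p. -/
theorem result (p q : ℕ) (hp : 0 < p) (hpq : p < q) (hcop : Nat.Coprime p q) (d0 d1 d2 : ℕ)
    (hn : 0 ≤ (d0 : ℤ) - (p : ℤ) * d1 + (q : ℤ) * d2) (hc : (d2 : ℤ) < d1) (hd0 : d0 < q - p) :
    0 ≤ (p : ℤ) * d1 - (q : ℤ) * d2 ↔
      Int.emod ((p : ℤ) * ((d1 : ℤ) - d2)) ((q : ℤ) - p) + ((d0 : ℤ) - (p : ℤ) * d1 + (q : ℤ) * d2) < (q : ℤ) - p := by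
  have hqp : (p : ℤ) < q := by exact_mod_cast hpq
  have hD : (0 : ℤ) < (q : ℤ) - p := by linarith
  have hd0' : (d0 : ℤ) < (q : ℤ) - p := by
    have := Nat.lt_sub_iff_add_lt.mp hd0
    have : ((d0 + p : ℕ) : ℤ) < q := by exact_mod_cast this
    push_cast at this; linarith
  have hd00 : (0 : ℤ) ≤ d0 := by positivity
  set D : ℤ := (q : ℤ) - p with hDdef
  set r : ℤ := Int.emod ((p : ℤ) * ((d1 : ℤ) - d2)) D with hr
  have hr0 : 0 ≤ r := Int.emod_nonneg _ hD.ne'
  have hrD : r < D := Int.emod_lt_of_pos _ hD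
  have hk : (p : ℤ) * ((d1 : ℤ) - d2) = D * (((p : ℤ) * ((d1 : ℤ) - d2)) / D) + r :=
    (Int.mul_ediv_add_emod _ _).symm
  set k : ℤ := ((p : ℤ) * ((d1 : ℤ) - d2)) / D with hkdef
  have hω : (p : ℤ) * d1 - (q : ℤ) * d2 = D * (k - d2) + r := by
    have : (p : ℤ) * d1 - (q : ℤ) * d2 = (p : ℤ) * ((d1 : ℤ) - d2) - D * d2 := by rw [hDdef]; ring
    rw [this, hk]; ring
  set s : ℤ := k - d2 with hs
  constructor
  · intro h0
    have hle : (p : ℤ) * d1 - (q : ℤ) * d2 ≤ d0 := by linarith
    have hs0 : s = 0 := by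
      rcases lt_trichotomy s 0 with h | h | h
      · exfalso
        have : s ≤ -1 := by linarith
        nlinarith
      · exact h
      · exfalso
        have : 1 ≤ s := by linarith
        nlinarith
    rw [hs0, mul_zero, zero_add] at hω
    linarith
  · intro h1
    by_contra hneg
    rw [not_le] at hneg
    have : s ≤ -1 := by
      by_contra hcon
      rw [not_le] at hcon
      have : 0 ≤ s := by linarith
      nlinarith
    nlinarith

end Groth.Agent.S15740
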