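import Groth.Statements.S15741
import Groth.Agent.Lib.Helper29.OmegaCan

set_option autoImplicit false
universe u
open CategoryTheory AlgebraicGeometry
open Mor

namespace Groth.Agent.S15741




/-- For a quasi-separated morphism of schemes `f : X ⟶ Y` and affine opens `U ⊆ X`, `V ⊆ Y` with `U ≤
f⁻¹ V`, the canonical `Γ(X, U)`-linear map from the module of Kähler differentials of the ring `Γ(X,
U)` over `Γ(Y, V)` to the sections over `U` of the sheaf of relative differentials of `f` — the map
sending `d b` to `d_{X/Y} b` — is an isomorphism. (Quasi-separatedness of `f` is the standing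
hypothesis under which the sheaf of relative differentials is named in this library; the published
statement is for an arbitrary morphism of schemes.) -/
theorem result (X Y : Scheme.{u}) (f : X ⟶ Y) [QuasiSeparated f]
    (U : X.affineOpens) (V : Y.affineOpens) (h : U.1 ≤ f ⁻¹ᵁ V.1) :
    IsIso (OmAff.toSect f V.1 U.1 h) := by
  letI := Groth.Agent.Lib.Helper29.OmegaLoc.alg f h
  obtain ⟨Φ, hΦs, hΦd⟩ := Groth.Agent.Lib.Helper29.OmegaCan.exists_sections_equiv_can f U.2 V.2 h
  rw [ConcreteCategory.isIso_iff_bijective]
  let L : Ω[Γ(X, U.1)⁄Γ(Y, V.1)] →ₗ[Γ(X, U.1)] Γ(Omega.sheaf f, U.1) :=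
    (OmAff.toSect f V.1 U.1 h).hom
  change Function.Bijective L
  have key : ∀ x : Ω[Γ(X, U.1)⁄Γ(Y, V.1)], Φ (L x) = x := by
    intro x
    have hx : x ∈ Submodule.span Γ(X, U.1)
        (Set.range (KaehlerDifferential.D Γ(Y, V.1) Γ(X, U.1))) := by
      rw [KaehlerDifferential.span_range_derivation]; trivial
    induction hx using Submodule.span_induction with
    | mem y hy =>
      obtain ⟨b, rfl⟩ := hy
      have h1 := OmAff.toSect_d f V.1 U.1 h b
      have h2 : L (KaehlerDifferential.D Γ(Y, V.1) Γ(X, U.1) b) =
          OmegaSh.dSect f U.1 b := h1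
      rw [h2, hΦd]
    | zero => rw [map_zero, map_zero]
    | add y z _ _ hy hz => rw [map_add, map_add, hy, hz]
    | smul b y _ hy =>
      rw [map_smul]
      exact (hΦs b _).trans (congrArg (b • ·) hy)
  constructor
  · intro x y hxy
    have := congrArg Φ hxy
    exact (key x).symm.trans (this.trans (key y))
  · intro y
    refine ⟨Φ y, ?_⟩
    apply Φ.injective
    exact key (Φ y)



end Groth.Agent.S15741
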