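import Groth.Statements.S15742
import Groth.Agent.Lib.Helper29.OmegaCan
import Groth.Agent.Lib.Helper29.KaehlerIso

set_option autoImplicit false
universe u
open CategoryTheory AlgebraicGeometry
open Mor

namespace Groth.Agent.S15742




/-- For a commutative ring `A` and a commutative `A`-algebra `B`, the canonical map from the module of
Kähler differentials `Ω[B⁄A]` to the global sections of the sheaf of relative differentials of `Spec
B ⟶ Spec A`, semilinear along the identification of `B` with the ring of global functions on `Spec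
B` and sending `D b` to `d_{X/Y}` of the global function `b`, is bijective. -/
theorem result (A B : Type u) [CommRing A] [CommRing B] [Algebra A B] :
    Function.Bijective (OmAff.toSpec A B) := by
  let f : Spec (CommRingCat.of B) ⟶ Spec (CommRingCat.of A) :=
    Spec.map (CommRingCat.ofHom (algebraMap A B))
  have e : (⊤ : (Spec (CommRingCat.of B)).Opens) ≤ f ⁻¹ᵁ ⊤ := le_top
  letI := Groth.Agent.Lib.Helper29.OmegaLoc.alg f e
  obtain ⟨Φ, hΦs, hΦd⟩ := Groth.Agent.Lib.Helper29.OmegaCan.exists_sections_equiv_can f
    (isAffineOpen_top _) (isAffineOpen_top _) e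
  let α : A ≃+* Γ(Spec (CommRingCat.of A), ⊤) :=
    (Scheme.ΓSpecIso (CommRingCat.of A)).symm.commRingCatIsoToRingEquiv
  let θ : B ≃+* Γ(Spec (CommRingCat.of B), ⊤) :=
    (Scheme.ΓSpecIso (CommRingCat.of B)).symm.commRingCatIsoToRingEquiv
  have hθ : ∀ b, θ b = OmAff.toΓ B b := fun _ => rfl
  have hαθ : ∀ a, θ (algebraMap A B a) =
      algebraMap Γ(Spec (CommRingCat.of A), ⊤) Γ(Spec (CommRingCat.of B), ⊤) (α a) := by
    intro a
    have h1 := OmAff.appTop_toΓ A B a
    have h2 : f.appLE ⊤ ⊤ e = f.appTop := Scheme.Hom.appLE_eq_app _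
    change OmAff.toΓ B (algebraMap A B a) = (f.appLE ⊤ ⊤ e).hom (OmAff.toΓ A a)
    rw [h2]
    exact h1.symm
  obtain ⟨K, hKs, hKd⟩ := Groth.Agent.Lib.Helper29.KaehlerIso.exists_equiv α θ hαθ
  have key : ∀ x : Ω[B⁄A], Φ (OmAff.toSpec A B x) = K x := by
    intro x
    have hx : x ∈ Submodule.span B (Set.range (KaehlerDifferential.D A B)) := by
      rw [KaehlerDifferential.span_range_derivation]; trivial
    induction hx using Submodule.span_induction with
    | mem y hy =>
      obtain ⟨b, rfl⟩ := hy
      rw [OmAff.toSpec_D, hKd]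
      exact hΦd (OmAff.toΓ B b)
    | zero => rw [map_zero, map_zero, map_zero]
    | add y z _ _ hy hz => rw [map_add, map_add, map_add, hy, hz]
    | smul b y _ hy =>
      rw [LinearMap.map_smulₛₗ, hKs, ← hy]
      exact hΦs (OmAff.toΓ B b) _
  constructor
  · intro x y hxy
    have := congrArg Φ hxy
    rw [key, key] at this
    exact K.injective this
  · intro y
    refine ⟨K.symm (Φ y), ?_⟩
    apply Φ.injective
    rw [key, K.apply_symm_apply]



end Groth.Agent.S15742
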