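import Groth.Statements.S15748
import Groth.Agent.Lib.Helper6.WeilCorr

set_option autoImplicit false
universe u v
open CategoryTheory AlgebraicGeometry
open WeilCoh

namespace Groth.Agent.S15748

open Groth.Agent.Lib.Helper6

/-- Let `H` be a Weil cohomology theory with coefficients in a field `K` of characteristic zero on
nonsingular connected projective varieties over an algebraically closed field `k`; let `X`, `Y` be
such varieties, `P` a product `X × Y` with projections `p`, `q`, `P'` a product `Y × X` with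
projections `p'`, `q'`, and `σ : P ⟶ P'` the swap (`σ p' = q`, `σ q' = p`). For an integer `r`, a
class `φ ∈ H^{2 dim X + r}(P)` acts as the degree-`r` correspondence `x ↦ q_*(p^* x ∪ φ)` from
`H•(X)` to `H•(Y)`, and `ψ ∈ H^{2 dim Y − r}(P')` as the degree-`(−r)` correspondence `y ↦ q'_*(p'^*
y ∪ ψ)` back. Then `Tr_P(φ ∪ σ^* ψ) = Σ_{i=0}^{2 dim X} (−1)^i tr(ψ ∘ φ | H^i(X))`. The hypothesis
`hdim` is the arithmetic identity expressing `dim P = dim P' = dim X + dim Y` in the form needed to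
read the composite `ψ ∘ φ` as an endomorphism of each `H^i(X)` (the push-forward maps are indexed by
the dimensions of the underlying spaces). (The published lemma defines the action of a
correspondence through the Künneth and Poincaré duality identifications `Hom^r(H•X, H•Y) = H^{2 dim
X + r}(X × Y)` and the transpose through the same identifications; here the action is written as
pull-back, cup product and push-forward, and the transpose as pull-back along the swap, which the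
published text identifies with it.) (The published lemma is stated for smooth projective varieties
over an arbitrary base field, pure of their dimensions, with Tate twists; this row is its case of
connected varieties over an algebraically closed field, without twists.) -/
theorem result (k : Type u) [Field k] [IsAlgClosed k] (K : Type v) [Field K] [CharZero K]
    (T : WeilCoh.Theory k K) (X Y P P' : WeilCoh.Var k)
    (p : P ⟶ X) (q : P ⟶ Y) (hP : WeilCoh.IsProd p q)
    (p' : P' ⟶ Y) (q' : P' ⟶ X) (hP' : WeilCoh.IsProd p' q')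
    (σ : P ⟶ P') (hσ₁ : σ ≫ p' = q) (hσ₂ : σ ≫ q' = p) (r : ℤ)
    (hdim : ∀ i : ℤ, ((i + (2 * (WeilCoh.dim X.obj.left : ℤ) + r) + 2 * (WeilCoh.dim Y.obj.left : ℤ) - 2 * (WeilCoh.dim P.obj.left : ℤ)) + (2 * (WeilCoh.dim Y.obj.left : ℤ) - r) + 2 * (WeilCoh.dim X.obj.left : ℤ) - 2 * (WeilCoh.dim P'.obj.left : ℤ)) = i)
    (φ : ↥(T.gr P (2 * (WeilCoh.dim X.obj.left : ℤ) + r))) (ψ : ↥(T.gr P' (2 * (WeilCoh.dim Y.obj.left : ℤ) - r))) :
    T.tr P ((φ : T.H P) * T.pull σ (ψ : T.H P')) =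
      ∑ i ∈ Finset.range (2 * WeilCoh.dim X.obj.left + 1),
        (-1 : K) ^ i * LinearMap.trace K ↥(T.gr X (i : ℤ))
          ((LinearEquiv.ofEq (T.gr X (((i : ℤ) + (2 * (WeilCoh.dim X.obj.left : ℤ) + r) + 2 * (WeilCoh.dim Y.obj.left : ℤ) - 2 * (WeilCoh.dim P.obj.left : ℤ)) + (2 * (WeilCoh.dim Y.obj.left : ℤ) - r) + 2 * (WeilCoh.dim X.obj.left : ℤ) - 2 * (WeilCoh.dim P'.obj.left : ℤ))) (T.gr X (i : ℤ)) (congrArg (T.gr X) (hdim (i : ℤ)))).toLinearMap ∘ₗ
            ((T.push q' (((i : ℤ) + (2 * (WeilCoh.dim X.obj.left : ℤ) + r) + 2 * (WeilCoh.dim Y.obj.left : ℤ) - 2 * (WeilCoh.dim P.obj.left : ℤ)) + (2 * (WeilCoh.dim Y.obj.left : ℤ) - r))) ∘ₗ ((LinearMap.mulRight K (ψ : T.H P')).restrict (p := T.gr P' ((i : ℤ) + (2 * (WeilCoh.dim X.obj.left : ℤ) + r) + 2 * (WeilCoh.dim Y.obj.left : ℤ) - 2 * (WeilCoh.dim P.obj.left : ℤ))) (q := T.gr P' (((i : ℤ) + (2 * (WeilCoh.dim X.obj.left : ℤ) + r) + 2 * (WeilCoh.dim Y.obj.left : ℤ) - 2 * (WeilCoh.dim P.obj.left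 : ℤ)) + (2 * (WeilCoh.dim Y.obj.left : ℤ) - r))) (fun y hy => SetLike.mul_mem_graded hy ψ.2)) ∘ₗ (T.pullDeg p' ((i : ℤ) + (2 * (WeilCoh.dim X.obj.left : ℤ) + r) + 2 * (WeilCoh.dim Y.obj.left : ℤ) - 2 * (WeilCoh.dim P.obj.left : ℤ)))) ∘ₗ
            ((T.push q ((i : ℤ) + (2 * (WeilCoh.dim X.obj.left : ℤ) + r))) ∘ₗ ((LinearMap.mulRight K (φ : T.H P)).restrict (p := T.gr P (i : ℤ)) (q := T.gr P ((i : ℤ) + (2 * (WeilCoh.dim X.obj.left : ℤ) + r))) (fun x hx => SetLike.mul_mem_graded hx φ.2)) ∘ₗ (T.pullDeg p (i : ℤ)))) := by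
  have hdimP := Weil.dim_prod T p q hP
  have hdimP' := Weil.dim_prod T p' q' hP'
  have hdP : (WeilCoh.dim P.obj.left : ℤ) = WeilCoh.dim X.obj.left + WeilCoh.dim Y.obj.left := by
    exact_mod_cast hdimP
  have hdP' : (WeilCoh.dim P'.obj.left : ℤ) = WeilCoh.dim Y.obj.left + WeilCoh.dim X.obj.left := by
    exact_mod_cast hdimP'
  have hψ := Weil.gr_le_span_prodSet T p' q' hP' _ ψ.2
  suffices H : ∀ (b : T.H P') (hb : b ∈ Submodule.span K
      (Weil.prodSet T p' q' (2 * (WeilCoh.dim Y.obj.left : ℤ) - r))),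
      T.tr P ((φ : T.H P) * T.pull σ b) =
      ∑ i ∈ Finset.range (2 * WeilCoh.dim X.obj.left + 1),
        (-1 : K) ^ i * LinearMap.trace K ↥(T.gr X (i : ℤ))
          ((LinearEquiv.ofEq _ (T.gr X (i : ℤ)) (congrArg (T.gr X) (hdim (i : ℤ)))).toLinearMap ∘ₗ
            (Weil.corr T p' q' (2 * (WeilCoh.dim Y.obj.left : ℤ) - r)
              ⟨b, Weil.span_prodSet_le T p' q' _ hb⟩
              ((i : ℤ) + (2 * (WeilCoh.dim X.obj.left : ℤ) + r) +
                2 * (WeilCoh.dim Y.obj.left : ℤ) - 2 * (WeilCoh.dim P.obj.left : ℤ))) ∘ₗ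
            (Weil.corr T p q (2 * (WeilCoh.dim X.obj.left : ℤ) + r) φ (i : ℤ))) from H ψ hψ
  intro b hb
  induction hb using Submodule.span_induction with
  | mem b hb =>
    obtain ⟨s, s', c, dd, hc, hdd, hss, rfl⟩ := hb
    have hL : T.tr P ((φ : T.H P) * T.pull σ (T.pull p' c * T.pull q' dd)) =
        T.tr P ((φ : T.H P) * T.pull q c * T.pull p dd) := by
      rw [map_mul (T.pull σ), Weil.pull_pull T σ p' q hσ₁, Weil.pull_pull T σ q' p hσ₂, mul_assoc]
    rw [hL]
    -- the action of `ψ` vanishes off degree `s'`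
    have hA : ∀ i : ℕ, (i : ℤ) ≠ s' →
        Weil.corr T p' q' (2 * (WeilCoh.dim Y.obj.left : ℤ) - r)
          ⟨T.pull p' c * T.pull q' dd, Weil.span_prodSet_le T p' q' _
            (Submodule.subset_span ⟨s, s', c, dd, hc, hdd, hss, rfl⟩)⟩
          ((i : ℤ) + (2 * (WeilCoh.dim X.obj.left : ℤ) + r) +
            2 * (WeilCoh.dim Y.obj.left : ℤ) - 2 * (WeilCoh.dim P.obj.left : ℤ)) = 0 := by
      intro i hi
      apply LinearMap.ext
      intro y
      apply Subtype.ext
      rw [Weil.corr_prod T p' q' hP' hdimP' _ s s' hss c hc dd hdd _ _ y, if_neg (by omega)]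
      rfl
    by_cases hs' : s' < 0 ∨ 2 * (WeilCoh.dim X.obj.left : ℤ) < s'
    · have hdd0 : dd = 0 := Weil.eq_zero_of_mem_of_lt T hdd hs'
      subst hdd0
      rw [map_zero, mul_zero, map_zero]
      symm
      apply Finset.sum_eq_zero
      intro i hi
      have hi' := Finset.mem_range.mp hi
      rw [hA i (by omega)]
      simp
    push Not at hs'
    obtain ⟨hs0, hs1⟩ := hs'
    obtain ⟨b, rfl⟩ := Int.eq_ofNat_of_zero_le hs0
    rw [Finset.sum_eq_single b (fun i _ hib => by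
        rw [hA i (by exact_mod_cast hib)]; simp)
      (fun h => absurd (Finset.mem_range.mpr (by omega)) h)]
    -- the linear functional `x ↦ tr_Y (φ(x) · c)`
    let lam : ↥(T.gr X (b : ℤ)) →ₗ[K] K :=
      (T.tr Y) ∘ₗ (LinearMap.mulRight K c) ∘ₗ (T.gr Y _).subtype ∘ₗ
        (Weil.corr T p q (2 * (WeilCoh.dim X.obj.left : ℤ) + r) φ (b : ℤ))
    have hlam : ∀ x, lam x = T.tr Y ((Weil.corr T p q (2 * (WeilCoh.dim X.obj.left : ℤ) + r) φ
        (b : ℤ) x : T.H Y) * c) := fun x => rfl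
    have hM : (LinearEquiv.ofEq _ (T.gr X (b : ℤ)) (congrArg (T.gr X) (hdim (b : ℤ)))).toLinearMap ∘ₗ
        (Weil.corr T p' q' (2 * (WeilCoh.dim Y.obj.left : ℤ) - r)
          ⟨T.pull p' c * T.pull q' dd, Weil.span_prodSet_le T p' q' _
            (Submodule.subset_span ⟨s, b, c, dd, hc, hdd, hss, rfl⟩)⟩
          ((b : ℤ) + (2 * (WeilCoh.dim X.obj.left : ℤ) + r) +
            2 * (WeilCoh.dim Y.obj.left : ℤ) - 2 * (WeilCoh.dim P.obj.left : ℤ))) ∘ₗ
        (Weil.corr T p q (2 * (WeilCoh.dim X.obj.left : ℤ) + r) φ (b : ℤ)) =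
        lam.smulRight ⟨dd, hdd⟩ := by
      apply LinearMap.ext
      intro x
      apply Subtype.ext
      rw [LinearMap.comp_apply, LinearMap.comp_apply, LinearEquiv.coe_coe,
        LinearEquiv.coe_ofEq_apply,
        Weil.corr_prod T p' q' hP' hdimP' _ s b hss c hc dd hdd _ _ _, if_pos (by omega)]
      rfl
    rw [hM, LinearMap.trace_smulRight, hlam,
      Weil.tr_corr_mul T p q _ φ b ⟨dd, hdd⟩ s (by omega) c hc,
      T.gradedComm P ((2 * (WeilCoh.dim X.obj.left : ℤ) + r) + s) b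
        ((φ : T.H P) * T.pull q c) (T.pull p dd)
        (SetLike.mul_mem_graded φ.2 (T.pull_mem q s c hc)) (T.pull_mem p b dd hdd),
      map_smul, smul_eq_mul, ← mul_assoc]
    congr 1
    have h3 : ((2 * (WeilCoh.dim X.obj.left : ℤ) + r) + s).natAbs =
        2 * (WeilCoh.dim X.obj.left + WeilCoh.dim Y.obj.left) - b := by omega
    rw [h3, Int.natAbs_natCast, mul_comm]
    exact Weil.sign_eq2 b _ (by omega)
  | zero =>
    have h0 : (⟨0, Weil.span_prodSet_le T p' q' _ (Submodule.zero_mem _)⟩ :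
        ↥(T.gr P' (2 * (WeilCoh.dim Y.obj.left : ℤ) - r))) = 0 := rfl
    simp only [h0, Weil.corr_zero, LinearMap.zero_comp, LinearMap.comp_zero, map_zero, mul_zero,
      Finset.sum_const_zero]
  | add a b ha hb iha ihb =>
    have h0 : (⟨a + b, Weil.span_prodSet_le T p' q' _ (Submodule.add_mem _ ha hb)⟩ :
        ↥(T.gr P' (2 * (WeilCoh.dim Y.obj.left : ℤ) - r))) =
        ⟨a, Weil.span_prodSet_le T p' q' _ ha⟩ + ⟨b, Weil.span_prodSet_le T p' q' _ hb⟩ := rfl
    simp only [h0, Weil.corr_add, LinearMap.add_comp, LinearMap.comp_add, map_add, mul_add,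
      Finset.sum_add_distrib]
    rw [iha, ihb]
  | smul c a ha iha =>
    have h0 : (⟨c • a, Weil.span_prodSet_le T p' q' _ (Submodule.smul_mem _ c ha)⟩ :
        ↥(T.gr P' (2 * (WeilCoh.dim Y.obj.left : ℤ) - r))) =
        c • ⟨a, Weil.span_prodSet_le T p' q' _ ha⟩ := rfl
    simp only [h0, Weil.corr_smul, LinearMap.smul_comp, LinearMap.comp_smul, map_smul,
      mul_smul_comm, smul_eq_mul]
    rw [iha, Finset.mul_sum]
    apply Finset.sum_congr rfl
    intro i _
    ring

end Groth.Agent.S15748
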