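import Groth.Statements.S15749
-- import your own Groth.Agent.* helpers here
import Groth.Agent.Lib.Helper26.LaurentIdem

set_option autoImplicit false
universe u
open CAlg

namespace Groth.Agent.S15749

/-- For an arbitrary commutative ring R, every idempotent of the ring of formal Laurent series R((t)) is
the constant series attached to a unique idempotent of R. Equivalently, the structure map R → R((t))
induces a bijection on idempotents, so that the spectrum of R((t)) is connected if and only if the
spectrum of R is. No reducedness is assumed. -/
theorem result (R : Type u) [CommRing R]
    (e : LaurentSeries R) (he : IsIdempotentElem e) :
    ∃! r : R, IsIdempotentElem r ∧ HahnSeries.C r = e := by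
  exact Groth.Agent.Lib.Helper26.LaurentIdem.main R e he

end Groth.Agent.S15749
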