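import Groth.Statements.S15752
import Mathlib
import Groth.Agent.Lib.Helper12.WPrepF

set_option autoImplicit false
universe u
open Polynomial
open CAlg

namespace Groth.Agent.S15752

/-- Let R be a Henselian local ring with maximal ideal m and let B be a henselization of R[t] along (t).
Every f ∈ B outside mB factors as f = P · u for a unique pair (P, u) with P ∈ R[t] monic whose
non-leading coefficients lie in m and u a unit of B; moreover the natural map R[t]/(P) → B/(f) is
bijective, stated as: every element of B is congruent to (the image of) a polynomial modulo f, and a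
polynomial whose image lies in fB lies in P·R[t]. -/
theorem result (R : Type u) [CommRing R]
    [HenselianLocalRing R] (B : Type u) [CommRing B] [Algebra R B] [Algebra R[X] B]
    [IsScalarTower R R[X] B] (hB : Hens2.IsPairHenselization R[X] (Ideal.span {(X : R[X])}) B)
    (f : B) (hf : f ∉ (IsLocalRing.maximalIdeal R).map (algebraMap R B)) :
    (∃! Pu : R[X] × Bˣ, Pu.1.Monic ∧ (∀ i : ℕ, i < Pu.1.natDegree → Pu.1.coeff i ∈ IsLocalRing.maximalIdeal R) ∧
        f = algebraMap R[X] B Pu.1 * (Pu.2 : B)) ∧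
    (∀ (P : R[X]) (u : Bˣ), P.Monic → (∀ i : ℕ, i < P.natDegree → P.coeff i ∈ IsLocalRing.maximalIdeal R) →
        f = algebraMap R[X] B P * (u : B) →
      (∀ b : B, ∃ q : R[X], algebraMap R[X] B q - b ∈ Ideal.span {f}) ∧
      (∀ q : R[X], algebraMap R[X] B q ∈ Ideal.span {f} → q ∈ Ideal.span {P})) := by
  classical
  haveI hloc : IsLocalRing B := Groth.Agent.Lib.Helper12.WPrep.isLocalRing hB
  haveI hflat : Module.Flat R[X] B :=
    Groth.Agent.Lib.Helper12.PairUnique.flat_of_isPairHenselization hB
  have hf' : f ∉ Groth.Agent.Lib.Helper12.WPrep.mB R B := by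
    rw [Groth.Agent.Lib.Helper12.WPrep.mB_eq]
    exact hf
  -- second part
  have second : ∀ (P : R[X]) (u : Bˣ), P.Monic →
      (∀ i : ℕ, i < P.natDegree → P.coeff i ∈ IsLocalRing.maximalIdeal R) →
      f = algebraMap R[X] B P * (u : B) →
      (∀ b : B, ∃ q : R[X], algebraMap R[X] B q - b ∈ Ideal.span {f}) ∧
      (∀ q : R[X], algebraMap R[X] B q ∈ Ideal.span {f} → q ∈ Ideal.span {P}) := by
    intro P u hP hPc hfP
    have hspan : Ideal.span {f} = Ideal.span {algebraMap R[X] B P} := by
      rw [hfP]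
      exact Ideal.span_singleton_mul_right_unit u.isUnit _
    rw [hspan]
    exact Groth.Agent.Lib.Helper12.WPrep.bijective_of_monic hB P hP hPc
  refine ⟨?_, second⟩
  obtain ⟨P, v, hP, hPc, hfP⟩ := Groth.Agent.Lib.Helper12.WPrep.exists_monic hB f hf'
  refine ⟨(P, v), ⟨hP, hPc, hfP⟩, ?_⟩
  rintro ⟨P', v'⟩ ⟨hP', hPc', hfP'⟩
  dsimp only at hP' hPc' hfP'
  -- P ∣ P' and P' ∣ P
  have h1 : P ∣ P' := by
    have := (second P v hP hPc hfP).2 P' ?_
    · exact Ideal.mem_span_singleton.mp this
    · rw [Ideal.mem_span_singleton]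
      refine ⟨((v'⁻¹ : Bˣ) : B), ?_⟩
      rw [hfP', mul_assoc, Units.mul_inv, mul_one]
  have h2 : P' ∣ P := by
    have := (second P' v' hP' hPc' hfP').2 P ?_
    · exact Ideal.mem_span_singleton.mp this
    · rw [Ideal.mem_span_singleton]
      refine ⟨((v⁻¹ : Bˣ) : B), ?_⟩
      rw [hfP, mul_assoc, Units.mul_inv, mul_one]
  have hPP : P' = P := by
    obtain ⟨q, hq⟩ := h1
    obtain ⟨q', hq'⟩ := h2
    have hqm : q.Monic := hP.of_mul_monic_left (hq ▸ hP')
    have hqm' : q'.Monic := hP'.of_mul_monic_left (hq' ▸ hP)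
    have e1 : P'.natDegree = P.natDegree + q.natDegree := by
      rw [hq, hP.natDegree_mul hqm]
    have e2 : P.natDegree = P'.natDegree + q'.natDegree := by
      conv_lhs => rw [hq']
      rw [hP'.natDegree_mul hqm']
    have e3 : q.natDegree = 0 := by omega
    have e4 : q = 1 := (Polynomial.Monic.natDegree_eq_zero hqm).mp e3
    rw [hq, e4, mul_one]
  subst hPP
  have hreg : IsSMulRegular B (algebraMap R[X] B P') := by
    have h0 : IsSMulRegular R[X] P' := hP'.isRegular.left.isSMulRegular
    have := h0.of_flat (S := B)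
    exact this
  have hv : (v' : B) = (v : B) := by
    apply hreg
    show algebraMap R[X] B P' • (v' : B) = algebraMap R[X] B P' • (v : B)
    rw [smul_eq_mul, smul_eq_mul, ← hfP', ← hfP]
  have : v' = v := Units.ext hv
  rw [this]

end Groth.Agent.S15752
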