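import Groth.Statements.S15765
import Mathlib
-- import your own Groth.Agent.* helpers here

set_option autoImplicit false
universe u
open CategoryTheory AlgebraicGeometry
open CAlg

namespace Groth.Agent.S15765

section H
namespace W22
set_option backward.isDefEq.respectTransparency.types false

theorem main (B : Type u) [CommRing B] [TopologicalSpace B]
    [IsTopologicalRing B] (hB : IsOpen {b : B | IsUnit b})
    (B₀ : Type u) [CommRing B₀] (φ : B₀ →+* B) (hφ : DenseRange φ)
    (X : Scheme.{u}) [X.IsQuasiAffine] (p : X ⟶ Spec (CommRingCat.of B₀))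
    (f : Spec (CommRingCat.of B) ⟶ X) (hf : f ≫ p = Spec.map (CommRingCat.ofHom φ)) :
    ∃ U : X.Opens, IsAffineOpen U ∧ Set.range f.base ⊆ (U : Set X) := by
  classical
  let ψ : Γ(X, ⊤) →+* B := (f.appTop ≫ (Scheme.ΓSpecIso (CommRingCat.of B)).hom).hom
  let ρ : B₀ →+* Γ(X, ⊤) := ((Scheme.ΓSpecIso (CommRingCat.of B₀)).inv ≫ p.appTop).hom
  have hψρ : ∀ c, ψ (ρ c) = φ c := by
    intro c
    have h1 : p.appTop ≫ f.appTop = (Spec.map (CommRingCat.ofHom φ)).appTop := by
      rw [← Scheme.Hom.comp_appTop, hf]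
    have h2 : (Scheme.ΓSpecIso (CommRingCat.of B₀)).inv ≫ p.appTop ≫ f.appTop ≫
        (Scheme.ΓSpecIso (CommRingCat.of B)).hom = CommRingCat.ofHom φ := by
      rw [reassoc_of% h1, Scheme.ΓSpecIso_naturality, Iso.inv_hom_id_assoc]
    exact congrArg (fun k => k.hom c) h2
  let s : Set Γ(X, ⊤) := {r | IsAffineOpen (X.basicOpen r)}
  -- Step 1
  have hspan : Ideal.span (ψ '' s) = ⊤ := by
    by_contra hne
    obtain ⟨m, hm, hle⟩ := Ideal.exists_le_maximal _ hne
    let x : Spec (CommRingCat.of B) := ⟨m, hm.isPrime⟩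
    obtain ⟨_, ⟨_, ⟨r, hr, rfl⟩, rfl⟩, hxr, -⟩ := (Scheme.IsQuasiAffine.isBasis_basicOpen
      X).exists_subset_of_mem_open (Set.mem_univ (f x)) isOpen_univ
    have h1 : x ∈ f ⁻¹ᵁ (X.basicOpen r) := hxr
    rw [Scheme.preimage_basicOpen_top, basicOpen_eq_of_affine'] at h1
    exact h1 (hle (Ideal.subset_span ⟨r, hr, rfl⟩))
  -- Step 2
  have h1 : (1 : B) ∈ Submodule.span B (ψ '' s) := by
    have : (1 : B) ∈ Ideal.span (ψ '' s) := by rw [hspan]; trivial
    exact this
  obtain ⟨t, hts, c, hc⟩ := (Submodule.mem_span_image_iff_exists_fun B).mp h1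
  -- Step 3
  let Φ : (t → B) → B := fun c => ∑ i, c i * ψ i
  have hΦ : Continuous Φ := by
    apply continuous_finsetSum
    intro i _
    exact (continuous_apply i).mul continuous_const
  have hopen : IsOpen (Φ ⁻¹' {b : B | IsUnit b}) := hB.preimage hΦ
  have hne : (Φ ⁻¹' {b : B | IsUnit b}).Nonempty := ⟨c, by
    show IsUnit (Φ c)
    have : Φ c = 1 := hc
    rw [this]; exact isUnit_one⟩
  have hdense : DenseRange (Pi.map (fun (_ : t) => (φ : B₀ → B))) :=
    DenseRange.piMap (fun _ => hφ)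
  obtain ⟨d, hd⟩ := hdense.exists_mem_open hopen hne
  have hd' : IsUnit (∑ i : t, φ (d i) * ψ i) := hd
  -- Step 4
  let h : Γ(X, ⊤) := ∑ i : t, ρ (d i) * (i : Γ(X, ⊤))
  have hψh : ψ h = ∑ i : t, φ (d i) * ψ i := by
    simp only [h, map_sum, map_mul, hψρ]
  have hunit : IsUnit (f.appTop h) := by
    have : IsUnit (ψ h) := by rw [hψh]; exact hd'
    have h2 : f.appTop h = (Scheme.ΓSpecIso (CommRingCat.of B)).inv.hom (ψ h) := by
      simp [ψ]
    rw [h2]
    exact this.map _
  refine ⟨X.basicOpen h, ?_, ?_⟩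
  · -- Step 5: affine
    apply isAffineOpen_of_isAffineOpen_basicOpen (X.basicOpen h)
      (Set.range fun i : t => X.presheaf.map (homOfLE le_top).op (ρ (d i) * (i : Γ(X, ⊤))))
    · rw [Ideal.eq_top_iff_one]
      have hu : IsUnit (X.presheaf.map (homOfLE (le_top : X.basicOpen h ≤ ⊤)).op h) :=
        RingedSpace.isUnit_res_basicOpen _ h
      have hmem : X.presheaf.map (homOfLE (le_top : X.basicOpen h ≤ ⊤)).op h ∈ Ideal.span
          (Set.range fun i : t => X.presheaf.map (homOfLE (le_top : X.basicOpen h ≤ ⊤)).op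
            (ρ (d i) * (i : Γ(X, ⊤)))) := by
        simp only [h, map_sum]
        exact Ideal.sum_mem _ (fun i _ => Ideal.subset_span ⟨i, rfl⟩)
      exact (Ideal.eq_top_of_isUnit_mem _ hmem hu) ▸ Submodule.mem_top
    · rintro _ ⟨i, rfl⟩
      rw [Scheme.basicOpen_res, Scheme.basicOpen_mul]
      have hi : IsAffineOpen (X.basicOpen (i : Γ(X, ⊤))) := hts i.2
      have e : X.basicOpen h ⊓ (X.basicOpen (ρ (d i)) ⊓ X.basicOpen (i : Γ(X, ⊤))) =
          X.basicOpen (X.presheaf.map (homOfLE (le_top : X.basicOpen (i : Γ(X, ⊤)) ≤ ⊤)).op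
            (h * ρ (d i))) := by
        rw [Scheme.basicOpen_res, Scheme.basicOpen_mul]
        rw [← inf_assoc, inf_comm]
      rw [e]
      exact hi.basicOpen _
  · rintro _ ⟨y, rfl⟩
    have : y ∈ f ⁻¹ᵁ (X.basicOpen h) := by
      rw [Scheme.preimage_basicOpen_top, Scheme.basicOpen_of_isUnit _ hunit]
      trivial
    exact this

end W22
end H


/-- Let B be a topological ring in which the units form an open subset, B₀ → B a ring map with dense
image and X a quasi-affine scheme over B₀. Then the image of any B-point Spec B → X over B₀ is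
contained in an affine open of X. (The published statement allows X ind-quasi-affine, i.e. with all
quasi-compact opens quasi-affine; since a B-point lands in a quasi-compact open, this row's
quasi-affine case carries the content.) -/
theorem result (B : Type u) [CommRing B] [TopologicalSpace B]
    [IsTopologicalRing B] (hB : IsOpen {b : B | IsUnit b})
    (B₀ : Type u) [CommRing B₀] (φ : B₀ →+* B) (hφ : DenseRange φ)
    (X : Scheme.{u}) [X.IsQuasiAffine] (p : X ⟶ Spec (CommRingCat.of B₀))
    (f : Spec (CommRingCat.of B) ⟶ X) (hf : f ≫ p = Spec.map (CommRingCat.ofHom φ)) :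
    ∃ U : X.Opens, IsAffineOpen U ∧ Set.range f.base ⊆ (U : Set X) := by
  exact W22.main B hB B₀ φ hφ X p f hf

end Groth.Agent.S15765
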