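import Groth.Statements.S15774
import Mathlib
import Groth.Agent.Lib.Helper12.AwayIdemC

set_option autoImplicit false
universe u
open CAlg

namespace Groth.Agent.S15774

/-- The instance A[1/t] → Â[1/t]: if (A, tA) is a Henselian pair and the t-power torsion of A is
bounded, then every idempotent of Â[1/t] (Â the t-adic completion) comes from a unique idempotent of
A[1/t]. -/
theorem result (A : Type u) [CommRing A] (t : A) [HenselianRing A (Ideal.span {t})]
    (hbd : ∃ N : ℕ, ∀ a : A, (∃ m : ℕ, t ^ m * a = 0) → t ^ N * a = 0)
    (e : Localization.Away (algebraMap A (AdicCompletion (Ideal.span {t}) A) t)) (he : IsIdempotentElem e) :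
    ∃! e₀ : Localization.Away t, IsIdempotentElem e₀ ∧ Localization.awayMap (algebraMap A (AdicCompletion (Ideal.span {t}) A)) t e₀ = e := by
  have hφ : ∀ a : A, Localization.awayMap (algebraMap A (AdicCompletion (Ideal.span {t}) A)) t
      (algebraMap A (Localization.Away t) a) =
      algebraMap (AdicCompletion (Ideal.span {t}) A)
        (Localization.Away (algebraMap A (AdicCompletion (Ideal.span {t}) A) t))
        (algebraMap A (AdicCompletion (Ideal.span {t}) A) a) := by
    intro a
    simp [Localization.awayMap, IsLocalization.Away.map]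
  obtain ⟨e₀, he₀, he₀e⟩ := Groth.Agent.Lib.Helper12.AwayIdem.exists_idempotent t
    (Localization.Away t)
    (Localization.Away (algebraMap A (AdicCompletion (Ideal.span {t}) A) t))
    (Localization.awayMap (algebraMap A (AdicCompletion (Ideal.span {t}) A)) t) hφ e he
  refine ⟨e₀, ⟨he₀, he₀e⟩, ?_⟩
  rintro e₁ ⟨he₁, he₁e⟩
  exact Groth.Agent.Lib.Helper12.AwayIdem.idempotent_unique t
    (Localization.Away t)
    (Localization.Away (algebraMap A (AdicCompletion (Ideal.span {t}) A) t))
    (Localization.awayMap (algebraMap A (AdicCompletion (Ideal.span {t}) A)) t) hφ e₁ e₀ he₁ he₀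
    (he₁e.trans he₀e.symm)

end Groth.Agent.S15774
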