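import Groth.Statements.S15768
import Mathlib
import Groth.Agent.Lib.Helper12.HLaurIdemA
import Groth.Agent.Lib.Helper12.PairTrunc
import Groth.Agent.S15774
import Groth.Agent.S15749

set_option autoImplicit false
universe u
open Polynomial
open CAlg

namespace Groth.Agent.S15768

/-- For any ring R and a henselization B of R[t] along (t), every idempotent of B[1/t] comes from a
unique idempotent of R under R → R[t] → B → B[1/t]. -/
theorem result (R : Type u) [CommRing R]
    (B : Type u) [CommRing B] [Algebra R[X] B] (hB : Hens2.IsPairHenselization R[X] (Ideal.span {(X : R[X])}) B)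
    (e : Localization.Away (algebraMap R[X] B X)) (he : IsIdempotentElem e) :
    ∃! r : R, IsIdempotentElem r ∧
      algebraMap B (Localization.Away (algebraMap R[X] B X)) (algebraMap R[X] B (Polynomial.C r)) = e := by
  classical
  haveI hhens : HenselianRing B (Ideal.span {algebraMap R[X] B X}) := by
    have := hB.1
    rwa [Ideal.map_span, Set.image_singleton] at this
  haveI hflat : Module.Flat R[X] B :=
    Groth.Agent.Lib.Helper12.PairUnique.flat_of_isPairHenselization hB
  have hreg : IsSMulRegular B (algebraMap R[X] B X) := by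
    have h0 : IsSMulRegular R[X] (X : R[X]) := Polynomial.monic_X.isRegular.left.isSMulRegular
    exact h0.of_flat (S := B)
  have hbd : ∃ N : ℕ, ∀ a : B, (∃ m : ℕ, (algebraMap R[X] B X) ^ m * a = 0) →
      (algebraMap R[X] B X) ^ N * a = 0 := by
    refine ⟨0, fun a ⟨m, hm⟩ => ?_⟩
    rw [pow_zero, one_mul]
    apply hreg.pow m
    show (algebraMap R[X] B X) ^ m • a = (algebraMap R[X] B X) ^ m • 0
    rw [smul_eq_mul, hm, smul_zero]
  obtain ⟨Ψ, hΨ⟩ := Groth.Agent.Lib.Helper12.HLaurIdem.exists_ringEquiv hB
  have hΨt : Ψ (algebraMap B (AdicCompletion (Ideal.span {algebraMap R[X] B X}) B)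
      (algebraMap R[X] B X)) = PowerSeries.X := by
    rw [hΨ X]
    exact Polynomial.coe_X
  have hpow : (Submonoid.powers (algebraMap B (AdicCompletion (Ideal.span {algebraMap R[X] B X}) B)
      (algebraMap R[X] B X))).map Ψ.toMonoidHom =
      Submonoid.powers (PowerSeries.X : PowerSeries R) := by
    rw [Submonoid.map_powers]
    congr 1
  let Θ : Localization.Away (algebraMap B (AdicCompletion (Ideal.span {algebraMap R[X] B X}) B)
      (algebraMap R[X] B X)) ≃+* LaurentSeries R :=
    IsLocalization.ringEquivOfRingEquiv _ _ Ψ hpow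
  have hΘ : ∀ x, Θ (algebraMap _ _ x) = algebraMap (PowerSeries R) (LaurentSeries R) (Ψ x) :=
    fun x => IsLocalization.ringEquivOfRingEquiv_eq hpow x
  -- the map on localizations
  have hφ : ∀ b : B, Localization.awayMap
      (algebraMap B (AdicCompletion (Ideal.span {algebraMap R[X] B X}) B)) (algebraMap R[X] B X)
      (algebraMap B (Localization.Away (algebraMap R[X] B X)) b) =
      algebraMap (AdicCompletion (Ideal.span {algebraMap R[X] B X}) B) _
        (algebraMap B (AdicCompletion (Ideal.span {algebraMap R[X] B X}) B) b) := by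
    intro b
    simp [Localization.awayMap, IsLocalization.Away.map]
  -- image of a constant
  have hconst : ∀ r : R, Θ (Localization.awayMap
      (algebraMap B (AdicCompletion (Ideal.span {algebraMap R[X] B X}) B)) (algebraMap R[X] B X)
      (algebraMap B (Localization.Away (algebraMap R[X] B X)) (algebraMap R[X] B (C r)))) =
      HahnSeries.C r := by
    intro r
    rw [hφ, hΘ, hΨ, Polynomial.coe_C, LaurentSeries.coe_algebraMap, HahnSeries.ofPowerSeries_C]
  -- the idempotent of the completion
  set ê := Localization.awayMap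
      (algebraMap B (AdicCompletion (Ideal.span {algebraMap R[X] B X}) B)) (algebraMap R[X] B X) e
    with hê
  have heê : IsIdempotentElem ê := he.map _
  obtain ⟨r, ⟨hr, hrC⟩, hruniq⟩ := Groth.Agent.S15749.result R (Θ ê) (heê.map Θ)
  obtain ⟨e₀, -, he₀uniq⟩ := Groth.Agent.S15774.result B (algebraMap R[X] B X) hbd ê heê
  have hidem : ∀ r : R, IsIdempotentElem r → IsIdempotentElem
      (algebraMap B (Localization.Away (algebraMap R[X] B X)) (algebraMap R[X] B (C r))) := by
    intro r hr
    exact ((hr.map (C : R →+* R[X])).map (algebraMap R[X] B)).map _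
  refine ⟨r, ⟨hr, ?_⟩, ?_⟩
  · have h1 := he₀uniq _ ⟨hidem r hr, Θ.injective ((hconst r).trans hrC)⟩
    have h2 := he₀uniq e ⟨he, rfl⟩
    rw [h1, h2]
  · rintro r' ⟨hr', hr'e⟩
    apply hruniq
    refine ⟨hr', ?_⟩
    rw [← hconst r', hr'e]

end Groth.Agent.S15768
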