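import Groth.Statements.S15770
import Mathlib
-- import your own Groth.Agent.* helpers here

set_option autoImplicit false
universe u
open CAlg

namespace Groth.Agent.S15770

section H
namespace W23

theorem main (B : Type u) [CommRing B] [TopologicalSpace B]
    [IsTopologicalRing B] (hB : IsOpen {b : B | IsUnit b})
    (M M' : Type u) [AddCommGroup M] [Module B M] [Module.Finite B M] [Module.Projective B M]
    [AddCommGroup M'] [Module B M'] [Module.Finite B M'] [Module.Projective B M']
    [TopologicalSpace (M →ₗ[B] M')] [IsModuleTopology B (M →ₗ[B] M')] :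
    IsOpen {f : M →ₗ[B] M' | Function.Surjective f} := by
  classical
  obtain ⟨m, q, ι, -, -, hqι⟩ := Module.Finite.exists_comp_eq_id_of_projective B M'
  rw [isOpen_iff_forall_mem_open]
  intro f₀ hf₀
  obtain ⟨g₀, hg₀⟩ := Module.projective_lifting_property f₀ LinearMap.id hf₀
  -- linear part
  let L : (M →ₗ[B] M') →ₗ[B] Matrix (Fin m) (Fin m) B :=
    (LinearMap.toMatrix' (R := B) (m := Fin m) (n := Fin m)).toLinearMap ∘ₗ
      (LinearMap.llcomp B (Fin m → B) M' (Fin m → B) ι) ∘ₗ
      (LinearMap.lcomp B M' (g₀ ∘ₗ q))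
  have hL : ∀ f, L f = LinearMap.toMatrix' (ι ∘ₗ f ∘ₗ g₀ ∘ₗ q) := fun f => rfl
  let c : Matrix (Fin m) (Fin m) B := LinearMap.toMatrix' (LinearMap.id - ι ∘ₗ q)
  let D : (M →ₗ[B] M') → B := fun f => (L f + c).det
  have hD : Continuous D := by
    apply Continuous.matrix_det
    exact (IsModuleTopology.continuous_of_linearMap L).add continuous_const
  have hD0 : D f₀ = 1 := by
    show (L f₀ + c).det = 1
    rw [hL]
    have : ι ∘ₗ f₀ ∘ₗ g₀ ∘ₗ q = ι ∘ₗ q := by
      apply LinearMap.ext
      intro z
      have := congrArg (fun k => k (q z)) hg₀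
      simp only [LinearMap.comp_apply, LinearMap.id_apply] at this ⊢
      rw [this]
    rw [this, ← map_add, add_sub_cancel, LinearMap.toMatrix'_id, Matrix.det_one]
  refine ⟨D ⁻¹' {b | IsUnit b}, ?_, hB.preimage hD, ?_⟩
  · intro f hf
    have hu : IsUnit (L f + c) := (Matrix.isUnit_iff_isUnit_det _).mpr hf
    have hsurj := Matrix.mulVec_surjective_iff_isUnit.mpr hu
    have hT : ∀ z, (L f + c).mulVec z = ι (f (g₀ (q z))) + (z - ι (q z)) := by
      intro z
      rw [Matrix.add_mulVec, hL]
      simp only [c, LinearMap.toMatrix'_mulVec]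
      rfl
    intro y
    obtain ⟨z, hz⟩ := hsurj (ι y)
    rw [hT] at hz
    have h2 := congrArg q hz
    have hqι' : ∀ w, q (ι w) = w := fun w => congrArg (fun k => k w) hqι
    rw [map_add, map_sub, hqι', hqι', hqι', sub_self, add_zero] at h2
    exact ⟨_, h2⟩
  · show IsUnit (D f₀)
    rw [hD0]; exact isUnit_one

end W23
end H


/-- Let B be a topological ring with Bˣ ⊂ B open and M, M' finitely generated projective B-modules, and
endow Hom_B(M, M') with the module topology (the canonical topology of a finite module). Then the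
set of surjective B-linear maps M → M' is open. -/
theorem result (B : Type u) [CommRing B] [TopologicalSpace B]
    [IsTopologicalRing B] (hB : IsOpen {b : B | IsUnit b})
    (M M' : Type u) [AddCommGroup M] [Module B M] [Module.Finite B M] [Module.Projective B M]
    [AddCommGroup M'] [Module B M'] [Module.Finite B M'] [Module.Projective B M']
    [TopologicalSpace (M →ₗ[B] M')] [IsModuleTopology B (M →ₗ[B] M')] :
    IsOpen {f : M →ₗ[B] M' | Function.Surjective f} := by
  exact W23.main B hB M M'

end Groth.Agent.S15770
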