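import Groth.Statements.S1578
import Groth.Agent.S12215

set_option autoImplicit false
universe u
open CategoryTheory CategoryTheory.Limits AlgebraicGeometry
open Divisors

namespace Groth.Agent.S1578

open Groth.Agent.Lib.Helper28.QCohLoc Groth.Agent.Lib.Helper29.QCohStalk Groth.Agent.Lib.Helper29.TildeBridge

theorem colon_bot_singleton {R M : Type*} [CommRing R] [AddCommGroup M] [Module R M] (m : M) :
    (⊥ : Submodule R M).colon {m} = (Submodule.span R {m}).annihilator := by
  ext r
  rw [Submodule.mem_colon_singleton, Submodule.mem_bot, Submodule.mem_annihilator_span_singleton]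

/-- a finitely generated prime minimal over the annihilator of `m` is the radical of the annihilator of a
multiple of `m`. -/
theorem exists_radical_ann_eq_of_fg {R M : Type*} [CommRing R] [AddCommGroup M] [Module R M] (p : Ideal R)
    (hfg : p.FG) (m : M) (hm : p ∈ (Submodule.span R {m}).annihilator.minimalPrimes) :
    ∃ m' : M, p = ((Submodule.span R {m'}).annihilator).radical := by
  classical
  haveI hpp : p.IsPrime := hm.1.1
  obtain ⟨S, hS⟩ := hfg
  have hSp : ∀ a ∈ S, a ∈ p := fun a ha => hS ▸ Ideal.subset_span ha
  choose! s hs n hn using fun a (ha : a ∈ S) => exists_mul_pow_mem_of_mem_minimalPrimes hm (hSp a ha)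
  refine ⟨(∏ a ∈ S, s a) • m, le_antisymm ?_ ?_⟩
  · rw [← hS, Ideal.span_le]
    intro a ha
    refine ⟨n a, ?_⟩
    rw [Submodule.mem_annihilator_span_singleton, smul_smul]
    have h1 := hn a ha
    rw [Submodule.mem_annihilator_span_singleton] at h1
    rw [← Finset.mul_prod_erase S s ha]
    have : a ^ n a * (s a * ∏ x ∈ S.erase a, s x) = (∏ x ∈ S.erase a, s x) * (s a * a ^ n a) := by ring
    rw [this, mul_smul, h1, smul_zero]
  · rw [hpp.radical_le_iff]
    intro r hr
    rw [Submodule.mem_annihilator_span_singleton, smul_smul] at hr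
    have h2 : r * ∏ a ∈ S, s a ∈ p := hm.1.2 (by rw [Submodule.mem_annihilator_span_singleton]; exact hr)
    rcases hpp.mem_or_mem h2 with h | h
    · exact h
    · exfalso
      obtain ⟨a, ha, hsa⟩ := (Ideal.IsPrime.prod_mem_iff).1 h
      exact hs a ha hsa

/-- Let M be a module over a ring A, F the associated quasi-coherent module on Spec A, and p a prime of
A. If p is an associated prime of M then p is an associated point of F; the converse holds when p is
finitely generated. -/
theorem result (A : CommRingCat.{u}) (M : ModuleCat.{u} A)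
    (p : Spec A) :
    (p.asIdeal ∈ associatedPrimes A M → Curv2.IsAssPoint (tilde M) p) ∧
    (p.asIdeal.FG → Curv2.IsAssPoint (tilde M) p → p.asIdeal ∈ associatedPrimes A M) := by
  constructor
  · intro h
    rw [isAssPoint_iff_isWeakAssPoint, ← Groth.Agent.S12215.result]
    obtain ⟨hp, m, hm⟩ := (Submodule.isAssociatedPrime_def (N := (⊥ : Submodule A M))).1 h
    refine ⟨m, ?_⟩
    rw [colon_bot_singleton] at hm
    rw [← Ideal.radical_minimalPrimes, ← hm, Ideal.minimalPrimes_eq_subsingleton_self]
    rfl
  · intro hfg h
    rw [isAssPoint_iff_isWeakAssPoint, ← Groth.Agent.S12215.result] at h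
    obtain ⟨m, hm⟩ := h
    obtain ⟨m', hm'⟩ := exists_radical_ann_eq_of_fg p.asIdeal hfg m hm
    refine (Submodule.isAssociatedPrime_def (N := (⊥ : Submodule A M))).2 ⟨p.isPrime, m', ?_⟩
    rw [colon_bot_singleton]
    exact hm'



end Groth.Agent.S1578
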