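import Groth.Statements.S15784
-- import your own Groth.Agent.* helpers here

set_option autoImplicit false
universe u
open Neron

namespace Groth.Agent.S15784


private lemma key (O : Type u) [CommRing O] [IsDomain O] (L : Type u) [Field L] [Algebra O L]
    [IsFractionRing O L]
    (ϖ' : O) (hϖ' : Irreducible ϖ') (A B : O) (hA : IsUnit A) (hB : IsUnit B) (k : ℤ)
    (h : algebraMap O L A * (algebraMap O L ϖ') ^ k = algebraMap O L B) : k = 0 := by
  have hinj : Function.Injective (algebraMap O L) := IsFractionRing.injective O L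
  have hπ0 : algebraMap O L ϖ' ≠ 0 := fun h0 => hϖ'.ne_zero (hinj (by rw [h0, map_zero]))
  have aux : ∀ (k : ℕ) (v v' : O), IsUnit v' → v * ϖ' ^ k = v' → k = 0 := by
    intro k v v' hv' hvv
    by_contra hk
    obtain ⟨k', rfl⟩ := Nat.exists_eq_succ_of_ne_zero hk
    apply hϖ'.not_isUnit
    apply isUnit_of_dvd_unit _ hv'
    rw [← hvv, pow_succ]
    exact ⟨v * ϖ' ^ k', by ring⟩
  obtain ⟨k', rfl | rfl⟩ := Int.eq_nat_or_neg k
  · rw [zpow_natCast, ← map_pow, ← map_mul] at h
    have := aux k' A B hB (hinj h)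
    simp [this]
  · rw [zpow_neg, zpow_natCast, mul_inv_eq_iff_eq_mul₀ (pow_ne_zero _ hπ0), ← map_pow,
      ← map_mul] at h
    have := aux k' B A hA (hinj h).symm
    simp [this]

private lemma map_unit_zpow (O : Type u) [CommRing O] (L : Type u) [Field L] [Algebra O L]
    (v : Oˣ) (j : ℤ) : (algebraMap O L v) ^ j = algebraMap O L ((v ^ j : Oˣ) : O) := by
  have h := congrArg Units.val (map_zpow (Units.map (algebraMap O L : O →* L)) v j)
  rw [Units.val_zpow_eq_zpow_val] at h
  exact h.symm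

private lemma isUnit_one_add (O : Type u) [CommRing O] [IsLocalRing O] (x : O)
    (hx : x ∈ IsLocalRing.maximalIdeal O) : IsUnit (1 + x) := by
  by_contra h
  have h1 : (1 + x) ∈ IsLocalRing.maximalIdeal O := (IsLocalRing.mem_maximalIdeal _).2 h
  have h2 : (1 : O) ∈ IsLocalRing.maximalIdeal O := by
    have := Ideal.sub_mem _ h1 hx
    simp at this
  exact (IsLocalRing.maximalIdeal.isMaximal O).ne_top ((Ideal.eq_top_iff_one _).2 h2)

/-- Let O be a discrete valuation ring with fraction field L and uniformizer ϖ', let ϖ be an element of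
the maximal ideal of O, let q = u·ϖ'^n with u a unit of O and n ≥ 1, and let m ≥ 1 be a divisor of
n. Then the following are equivalent: (i) there is a nonzero element z = w·ϖ'^a of L, with w a unit
of O and a an integer congruent to n/m modulo n, and an integer j such that z^m·q^j lies in 1 + ϖO;
(ii) ϖ'^n/q is an m-th power in the group of units of O/ϖO, that is, u·(y^m + ϖ·r) = 1 for some y, r
∈ O. (The published statement phrases (i) geometrically, as the existence of a point of order m in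
the special fibre of the Néron model of the Weil restriction of the Tate curve with parameter q from
L down to a subfield over which L is totally ramified with ϖ a uniformizer of the subfield, whose
image in the component group also has order m; this row states the equivalence between (i) and (ii)
that the printed argument establishes.) -/
theorem result
    (O : Type u) [CommRing O] [IsDomain O] [IsDiscreteValuationRing O]
    (L : Type u) [Field L] [Algebra O L] [IsFractionRing O L]
    (ϖ' : O) (hϖ' : Irreducible ϖ') (ϖ : O) (hϖ : ϖ ∈ IsLocalRing.maximalIdeal O)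
    (n : ℕ) (hn : 1 ≤ n) (u : Oˣ) (q : O) (hq : q = u * ϖ' ^ n)
    (m : ℕ) (hm : 1 ≤ m) (hmn : m ∣ n) :
    (∃ (w : Oˣ) (a j t : ℤ) (r : O), a = (n / m : ℕ) + t * n ∧
        (algebraMap O L w * algebraMap O L ϖ' ^ a) ^ m * algebraMap O L q ^ j = algebraMap O L (1 + ϖ * r)) ↔
      ∃ y r : O, (u : O) * (y ^ m + ϖ * r) = 1 := by
  have hinj : Function.Injective (algebraMap O L) := IsFractionRing.injective O L
  have hπ0 : algebraMap O L ϖ' ≠ 0 := fun h0 => hϖ'.ne_zero (hinj (by rw [h0, map_zero]))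
  have hnm : (n / m) * m = n := Nat.div_mul_cancel hmn
  have hq' : algebraMap O L q = algebraMap O L u * (algebraMap O L ϖ') ^ (n : ℤ) := by
    rw [hq, map_mul, map_pow, zpow_natCast]
  constructor
  · rintro ⟨w, a, j, t, r, ha, h⟩
    have h1 : (algebraMap O L w * algebraMap O L ϖ' ^ a) ^ m * algebraMap O L q ^ j
        = algebraMap O L ((w ^ m * u ^ j : Oˣ) : O) * (algebraMap O L ϖ') ^ (a * m + n * j) := by
      rw [hq', mul_pow, mul_zpow, ← zpow_natCast (algebraMap O L ϖ' ^ a) m, ← zpow_mul,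
        ← zpow_mul, zpow_add₀ hπ0, map_unit_zpow O L u j, Units.val_mul, map_mul,
        Units.val_pow_eq_pow_val, map_pow]
      ring
    rw [h1] at h
    have hB : IsUnit (1 + ϖ * r) := isUnit_one_add O _ (Ideal.mul_mem_right _ _ hϖ)
    have hk := key O L ϖ' hϖ' _ _ (Units.isUnit _) hB _ h
    rw [hk, zpow_zero, mul_one] at h
    have h2 := hinj h
    have hj : j = -1 - t * m := by
      have hn0 : (n : ℤ) ≠ 0 := by exact_mod_cast (by omega : n ≠ 0)
      have hnm' : ((n / m : ℕ) : ℤ) * m = n := by exact_mod_cast hnm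
      have : (n : ℤ) * (1 + t * m + j) = 0 := by
        rw [ha] at hk
        calc (n : ℤ) * (1 + t * m + j)
            = (((n / m : ℕ) : ℤ) * m + t * n * m) + n * j := by rw [hnm']; ring
          _ = 0 := by rw [← hk]; ring
      have := (mul_eq_zero.1 this).resolve_left hn0
      omega
    have hgrp : w ^ m * u ^ j = u⁻¹ * (w * u ^ (-t)) ^ m := by
      rw [hj, mul_pow, ← zpow_natCast (u ^ (-t)) m, ← zpow_mul,
        show (-1 - t * (m : ℤ)) = (-1) + (-t * m) by ring, zpow_add, zpow_neg_one]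
      rw [mul_left_comm]
    rw [hgrp] at h2
    set y' : Oˣ := w * u ^ (-t) with hy'
    refine ⟨((y'⁻¹ : Oˣ) : O), r * ((y'⁻¹ : Oˣ) : O) ^ m, ?_⟩
    calc (u : O) * (((y'⁻¹ : Oˣ) : O) ^ m + ϖ * (r * ((y'⁻¹ : Oˣ) : O) ^ m))
        = (u : O) * ((y'⁻¹ : Oˣ) : O) ^ m * (1 + ϖ * r) := by ring
      _ = ((u * y'⁻¹ ^ m * (u⁻¹ * y' ^ m) : Oˣ) : O) := by
          rw [← h2]; push_cast; ring
      _ = 1 := by
          rw [show u * y'⁻¹ ^ m * (u⁻¹ * y' ^ m) = 1 by
            rw [mul_mul_mul_comm, mul_inv_cancel, inv_pow, inv_mul_cancel, one_mul]]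
          rfl
  · rintro ⟨y, r, h⟩
    have hV : (u : O) * y ^ m = 1 + (-(u * r)) * ϖ := by linear_combination h
    have hVu : IsUnit ((u : O) * y ^ m) := by
      rw [hV]; exact isUnit_one_add O _ (Ideal.mul_mem_left _ _ hϖ)
    have hy : IsUnit y :=
      (isUnit_pow_iff (by omega : m ≠ 0)).1 (isUnit_of_mul_isUnit_right hVu)
    obtain ⟨yu, rfl⟩ := hy
    set V : Oˣ := u * yu ^ m with hVdef
    have hVval : ((V : Oˣ) : O) + u * ϖ * r = 1 := by
      rw [hVdef]; push_cast; linear_combination h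
    refine ⟨yu⁻¹, ((n / m : ℕ) : ℤ), -1, 0, u * r * ((V⁻¹ : Oˣ) : O), by simp, ?_⟩
    have hVinv : ((V⁻¹ : Oˣ) : O) = 1 + ϖ * (u * r * ((V⁻¹ : Oˣ) : O)) := by
      calc ((V⁻¹ : Oˣ) : O) = ((V⁻¹ : Oˣ) : O) * (((V : Oˣ) : O) + u * ϖ * r) := by
            rw [hVval, mul_one]
        _ = ((V⁻¹ * V : Oˣ) : O) + ϖ * (u * r * ((V⁻¹ : Oˣ) : O)) := by push_cast; ring
        _ = 1 + ϖ * (u * r * ((V⁻¹ : Oˣ) : O)) := by rw [inv_mul_cancel]; rfl
    rw [← hVinv, hq', zpow_neg_one, mul_pow, zpow_natCast, ← pow_mul, hnm, zpow_natCast]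
    have hVinv' : V⁻¹ = yu⁻¹ ^ m * u⁻¹ := by
      rw [hVdef, mul_inv, inv_pow, mul_comm]
    rw [hVinv', Units.val_mul, map_mul, Units.val_pow_eq_pow_val, map_pow, mul_inv]
    have hu0 : algebraMap O L (u : O) ≠ 0 := by
      intro h0
      exact u.ne_zero (hinj (by rw [h0, map_zero]))
    have huinv : algebraMap O L ((u⁻¹ : Oˣ) : O) = (algebraMap O L (u : O))⁻¹ := by
      apply eq_inv_of_mul_eq_one_left
      rw [← map_mul]
      simp
    rw [huinv]
    field_simp

end Groth.Agent.S15784
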