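import Groth.Statements.S1708
import Groth.Agent.Lib.Helper29.QCohStalk
import Groth.Agent.Lib.Helper28.QCohPush

set_option autoImplicit false
universe u
open CategoryTheory CategoryTheory.Limits AlgebraicGeometry TopologicalSpace
open SDiv

namespace Groth.Agent.S1708

open Groth.Agent.Lib.Helper29.QCohStalk Groth.Agent.Lib.Helper28.QCohLoc

theorem germPrime_map {X S : Scheme.{u}} (f : X ⟶ S) (V : S.Opens) (x : X) (hfx : f x ∈ V)
    (hx : x ∈ f ⁻¹ᵁ V) :
    germPrime V (f x) hfx = (germPrime (f ⁻¹ᵁ V) x hx).comap (f.app V).hom := by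
  ext a
  rw [Ideal.mem_comap, mem_germPrime_iff_notMem_basicOpen, mem_germPrime_iff_notMem_basicOpen,
    ← Scheme.preimage_basicOpen]
  rfl

theorem eq_of_germPrime_eq {S : Scheme.{u}} {V : S.Opens} (hV : IsAffineOpen V) (s t : S) (hs : s ∈ V)
    (ht : t ∈ V) (h : germPrime V s hs = germPrime V t ht) : s = t := by
  obtain ⟨P, rfl⟩ := exists_fromSpec_eq hV hs
  obtain ⟨Q, rfl⟩ := exists_fromSpec_eq hV ht
  rw [germPrime_fromSpec, germPrime_fromSpec] at h
  rw [PrimeSpectrum.ext h]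

/-- annihilators over the base of sections of the pushforward -/
def ofPush {X S : Scheme.{u}} (f : X ⟶ S) (F : X.Modules) (V : S.Opens)
    (m : Γ((Scheme.Modules.pushforward f).obj F, V)) : Γ(F, f ⁻¹ᵁ V) := m

theorem ann_pushforward {X S : Scheme.{u}} (f : X ⟶ S) (F : X.Modules) (V : S.Opens)
    (m : Γ((Scheme.Modules.pushforward f).obj F, V)) :
    ann (R := Γ(S, V)) m = (ann (R := Γ(X, f ⁻¹ᵁ V)) (ofPush f F V m)).comap (f.app V).hom := by
  ext a
  rw [Ideal.mem_comap, mem_ann, mem_ann]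
  rfl

theorem exists_isWeakAssPoint_of_pushforward {X S : Scheme.{u}} (f : X ⟶ S) [QuasiCompact f]
    [QuasiSeparated f] (F : X.Modules) [F.IsQuasicoherent] (V : S.Opens) (hV : IsAffineOpen V)
    (hU : IsAffineOpen (f ⁻¹ᵁ V)) (s : S) (hsV : s ∈ V)
    (hs : Curv2.IsWeakAssPoint ((Scheme.Modules.pushforward f).obj F) s) :
    ∃ x : X, f x = s ∧ Curv2.IsWeakAssPoint F x := by
  have hlocG := isLocOn_pushforward f F hV
  have hlocF := isLocOn_of_isQuasicoherent F hU
  obtain ⟨m, hm⟩ := exists_mem_minimalPrimes_of_isWeakAssPoint hV hlocG s hsV hs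
  rw [ann_pushforward] at hm
  obtain ⟨q, hq, hqp⟩ := Ideal.exists_minimalPrimes_comap_eq _ _ hm
  let Q : PrimeSpectrum Γ(X, f ⁻¹ᵁ V) := ⟨q, hq.1.1⟩
  refine ⟨hU.fromSpec Q, ?_, isWeakAssPoint_fromSpec hU hlocF Q _ hq⟩
  have hxU : hU.fromSpec Q ∈ f ⁻¹ᵁ V := fromSpec_mem hU Q
  refine eq_of_germPrime_eq hV _ _ hxU hsV ?_
  rw [germPrime_map f V _ hxU hxU, germPrime_fromSpec]
  exact hqp

/-- Let f : X ⟶ S be an affine morphism and F a quasi-coherent module on X. Then every weakly associated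
point of f_* F is the image of a weakly associated point of F. -/
theorem result {X S : Scheme.{u}} (f : X ⟶ S) [IsAffineHom f] (F : X.Modules) (hF : Coh.IsQCoh F)
    (s : ↥S) (hs : Curv2.IsWeakAssPoint ((Scheme.Modules.pushforward f).obj F) s) :
    ∃ x : ↥X, f x = s ∧ Curv2.IsWeakAssPoint F x := by
  haveI : F.IsQuasicoherent := hF
  obtain ⟨_, ⟨V, (hV : IsAffineOpen V), rfl⟩, hsV, -⟩ := S.isBasis_affineOpens.exists_subset_of_mem_open
    (show s ∈ (⊤ : S.Opens) from trivial) (⊤ : S.Opens).2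
  exact exists_isWeakAssPoint_of_pushforward f F V hV (hV.preimage f) s hsV hs

end Groth.Agent.S1708
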