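import Groth.Statements.S1580
import Groth.Agent.S1708

set_option autoImplicit false
universe u
open CategoryTheory CategoryTheory.Limits AlgebraicGeometry
open Divisors

namespace Groth.Agent.S1580

open TopologicalSpace
open Groth.Agent.Lib.Helper29.QCohStalk Groth.Agent.Lib.Helper28.QCohLoc
open Groth.Agent.S1708

theorem germPrime_map_appLE {X S : Scheme.{u}} (f : X ⟶ S) (V : S.Opens) (U : X.Opens) (e : U ≤ f ⁻¹ᵁ V)
    (x : X) (hfx : f x ∈ V) (hx : x ∈ U) :
    germPrime V (f x) hfx = (germPrime U x hx).comap (f.appLE V U e).hom := by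
  ext a
  rw [Ideal.mem_comap, mem_germPrime_iff_notMem_basicOpen, mem_germPrime_iff_notMem_basicOpen,
    Scheme.basicOpen_appLE]
  constructor
  · intro h h'
    exact h h'.2
  · intro h h'
    exact h ⟨hx, h'⟩

theorem appLE_eq_resO {X S : Scheme.{u}} (f : X ⟶ S) (V : S.Opens) (U : X.Opens) (e : U ≤ f ⁻¹ᵁ V)
    (a : Γ(S, V)) : (f.appLE V U e).hom a = resO e ((f.app V).hom a) := rfl

/-- every weakly associated point of the direct image along a quasi-compact quasi-separated morphism is the image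
of a weakly associated point -/
theorem exists_isWeakAssPoint_of_pushforward_qcqs {X S : Scheme.{u}} (f : X ⟶ S) [QuasiCompact f]
    [QuasiSeparated f] (F : X.Modules) [F.IsQuasicoherent] (s : S)
    (hs : Curv2.IsWeakAssPoint ((Scheme.Modules.pushforward f).obj F) s) :
    ∃ x : X, f x = s ∧ Curv2.IsWeakAssPoint F x := by
  obtain ⟨_, ⟨V, (hV : IsAffineOpen V), rfl⟩, hsV, -⟩ := S.isBasis_affineOpens.exists_subset_of_mem_open
    (show s ∈ (⊤ : S.Opens) from trivial) (⊤ : S.Opens).2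
  have hlocG := isLocOn_pushforward f F hV
  obtain ⟨m, hm⟩ := exists_mem_minimalPrimes_of_isWeakAssPoint hV hlocG s hsV hs
  rw [ann_pushforward] at hm
  set m₀ : Γ(F, f ⁻¹ᵁ V) := ofPush f F V m with hm₀
  have hc : IsCompact ((f ⁻¹ᵁ V : X.Opens) : Set X) := f.isCompact_preimage hV.isCompact
  obtain ⟨t, ht, e⟩ := isCompact_and_isOpen_iff_finite_and_eq_biUnion_affineOpens.mp ⟨hc, (f ⁻¹ᵁ V).2⟩
  have h₁ : ∀ i : t, i.1.1 ≤ f ⁻¹ᵁ V := by
    intro i x hx
    have : x ∈ ((f ⁻¹ᵁ V : X.Opens) : Set X) := by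
      rw [e]
      exact Set.mem_biUnion i.2 hx
    exact this
  have hcov : f ⁻¹ᵁ V ≤ iSup fun i : t => (i.1.1 : X.Opens) := by
    intro x hx
    have : x ∈ ((f ⁻¹ᵁ V : X.Opens) : Set X) := hx
    rw [e] at this
    obtain ⟨i, hi, hxi⟩ := Set.mem_iUnion₂.1 this
    exact TopologicalSpace.Opens.mem_iSup.2 ⟨⟨i, hi⟩, hxi⟩
  set p := germPrime V s hsV with hp
  -- the ideals over the base attached to the members of the cover
  let I : t → Ideal Γ(S, V) := fun i =>
    (ann (R := Γ(X, i.1.1)) (res F (h₁ i) m₀)).comap (f.appLE V i.1.1 (h₁ i)).hom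
  have hI : ∀ i : t, ∀ a : Γ(S, V), a ∈ I i ↔ res F (h₁ i) ((f.app V).hom a • m₀) = 0 := by
    intro i a
    rw [Ideal.mem_comap, mem_ann, appLE_eq_resO, res_smul]
  have hle : ∀ i : t, (ann (R := Γ(X, f ⁻¹ᵁ V)) m₀).comap (f.app V).hom ≤ I i := by
    intro i a ha
    rw [hI]
    rw [Ideal.mem_comap, mem_ann] at ha
    rw [ha, res_zero]
  have hex : ∃ i : t, I i ≤ p := by
    by_contra hcon
    push Not at hcon
    have hch : ∀ i : t, ∃ a : Γ(S, V), a ∈ I i ∧ a ∉ p := fun i => Set.not_subset.1 (hcon i)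
    choose a ha using hch
    haveI := ht.fintype
    have hprod : ∏ i : t, a i ∈ (ann (R := Γ(X, f ⁻¹ᵁ V)) m₀).comap (f.app V).hom := by
      rw [Ideal.mem_comap, mem_ann]
      refine eq_of_locally_eq F (fun i : t => (i.1.1 : X.Opens)) _ h₁ hcov _ 0 fun i => ?_
      rw [res_zero, ← hI]
      obtain ⟨c, hc⟩ := Finset.dvd_prod_of_mem a (Finset.mem_univ i)
      rw [hc]
      exact Ideal.mul_mem_right _ _ (ha i).1
    have h2 : ∏ i : t, a i ∈ p := hm.1.2 hprod
    rw [Ideal.IsPrime.prod_mem_iff] at h2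
    obtain ⟨i, -, hi⟩ := h2
    exact (ha i).2 hi
  obtain ⟨i, hi⟩ := hex
  have hmin : p ∈ (I i).minimalPrimes := by
    refine ⟨⟨hm.1.1, hi⟩, ?_⟩
    rintro q ⟨hq, hIq⟩ hqp
    exact hm.2 ⟨hq, (hle i).trans hIq⟩ hqp
  obtain ⟨q, hq, hqp⟩ := Ideal.exists_minimalPrimes_comap_eq _ _ hmin
  let Q : PrimeSpectrum Γ(X, i.1.1) := ⟨q, hq.1.1⟩
  have hUi : IsAffineOpen i.1.1 := i.1.2
  have hlocF := isLocOn_of_isQuasicoherent F hUi
  refine ⟨hUi.fromSpec Q, ?_, isWeakAssPoint_fromSpec hUi hlocF Q _ hq⟩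
  have hxU : hUi.fromSpec Q ∈ i.1.1 := fromSpec_mem hUi Q
  have hfx : f (hUi.fromSpec Q) ∈ V := h₁ i hxU
  refine eq_of_germPrime_eq hV _ _ hfx hsV ?_
  rw [germPrime_map_appLE f V i.1.1 (h₁ i) _ hfx hxU, germPrime_fromSpec]
  exact hqp

/-- Let f : X → S be quasi-compact and quasi-separated and F quasi-coherent on X. A point of S not in
the image of f is not weakly associated to f_* F. -/
theorem result {X S : Scheme.{u}} (f : X ⟶ S) [QuasiCompact f] [QuasiSeparated f]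
    (F : X.Modules) (hF : Coh.IsQCoh F) (s : S) (hs : s ∉ Set.range f.base) :
    ¬ Curv2.IsWeakAssPoint ((Coh.push f).obj F) s := by
  haveI : F.IsQuasicoherent := hF
  intro h
  obtain ⟨x, hx, -⟩ := exists_isWeakAssPoint_of_pushforward_qcqs f F s h
  exact hs ⟨x, hx⟩

end Groth.Agent.S1580
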