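import Groth.Statements.S1579
import Groth.Agent.S1580
import Groth.Agent.Lib.Helper29.QCohFinite

set_option autoImplicit false
universe u
open CategoryTheory CategoryTheory.Limits AlgebraicGeometry
open Divisors

namespace Groth.Agent.S1579

open TopologicalSpace
open Groth.Agent.Lib.Helper29.QCohStalk Groth.Agent.Lib.Helper28.QCohLoc
open Groth.Agent.S1708

theorem isWeakAssPoint_pushforward_of_isFinite {X S : Scheme.{u}} (f : X ⟶ S) [IsFinite f]
    (F : X.Modules) [F.IsQuasicoherent] (x : X) (hx : Curv2.IsWeakAssPoint F x) :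
    Curv2.IsWeakAssPoint ((Scheme.Modules.pushforward f).obj F) (f x) := by
  obtain ⟨_, ⟨V, (hV : IsAffineOpen V), rfl⟩, hfx, -⟩ := S.isBasis_affineOpens.exists_subset_of_mem_open
    (show f x ∈ (⊤ : S.Opens) from trivial) (⊤ : S.Opens).2
  have hU : IsAffineOpen (f ⁻¹ᵁ V) := hV.preimage f
  have hxU : x ∈ f ⁻¹ᵁ V := hfx
  have hlocG := isLocOn_pushforward f F hV
  have hlocF := isLocOn_of_isQuasicoherent F hU
  obtain ⟨m, hm⟩ := exists_mem_minimalPrimes_of_isWeakAssPoint hU hlocF x hxU hx
  letI : Algebra Γ(S, V) Γ(X, f ⁻¹ᵁ V) := (f.app V).hom.toAlgebra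
  haveI : Module.Finite Γ(S, V) Γ(X, f ⁻¹ᵁ V) := IsFinite.finite_app f V hV
  obtain ⟨b, hb⟩ := exists_smul_comap_mem_minimalPrimes (A := Γ(S, V)) m _ hm
  refine isWeakAssPoint_of_mem_minimalPrimes hV hlocG (f x) hfx
    (show Γ((Scheme.Modules.pushforward f).obj F, V) from (b • m)) ?_
  rw [ann_pushforward, germPrime_map f V x hfx hxU]
  exact hb

/-- Let f : X → S be finite and F quasi-coherent on X. Then the weakly associated points of f_* F are
precisely the images under f of the weakly associated points of F. -/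
theorem result {X S : Scheme.{u}} (f : X ⟶ S) [IsFinite f] (F : X.Modules) (hF : Coh.IsQCoh F) :
    {s : S | Curv2.IsWeakAssPoint ((Coh.push f).obj F) s} = f.base '' {x : X | Curv2.IsWeakAssPoint F x} := by
  haveI : F.IsQuasicoherent := hF
  ext s
  constructor
  · intro hs
    obtain ⟨x, hx, hwa⟩ := Groth.Agent.S1580.exists_isWeakAssPoint_of_pushforward_qcqs f F s hs
    exact ⟨x, hwa, hx⟩
  · rintro ⟨x, hwa, rfl⟩
    exact isWeakAssPoint_pushforward_of_isFinite f F x hwa

end Groth.Agent.S1579
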