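import Groth.Statements.S15791
import Mathlib.Tactic

set_option autoImplicit false
universe u v
open WildQuot

namespace Groth.Agent.S15791

section aux

variable {A : Type u} [CommRing A]

theorem length_le_add_of_exact {M' M M'' : Type u} [AddCommGroup M'] [Module A M']
    [AddCommGroup M] [Module A M] [AddCommGroup M''] [Module A M'']
    (f : M' →ₗ[A] M) (g : M →ₗ[A] M'') (hg : Function.Surjective g) (H : Function.Exact f g) :
    Module.length A M ≤ Module.length A M' + Module.length A M'' := by
  rw [Module.length_eq_add_of_exact (LinearMap.ker g).subtype g (Submodule.subtype_injective _) hg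
    (LinearMap.exact_subtype_ker_map g)]
  gcongr
  have : LinearMap.ker g = LinearMap.range f := LinearMap.exact_iff.mp H
  rw [this]
  exact Module.length_le_of_surjective f.rangeRestrict f.surjective_rangeRestrict

theorem length_quot_mul_le (J : Ideal A) (a b : A) :
    Module.length A (A ⧸ (J ⊔ Ideal.span {a * b})) ≤
      Module.length A (A ⧸ (J ⊔ Ideal.span {a})) + Module.length A (A ⧸ (J ⊔ Ideal.span {b})) := by
  set Iab := J ⊔ Ideal.span {a * b} with hIab
  set Ia := J ⊔ Ideal.span {a} with hIa
  set Ib := J ⊔ Ideal.span {b} with hIb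
  have hab_b : Iab ≤ Ib := by
    refine sup_le le_sup_left ?_
    rw [Ideal.span_singleton_le_iff_mem]
    exact Ideal.mem_sup_right (Ideal.mem_span_singleton'.mpr ⟨a, rfl⟩)
  have hker : Ia ≤ LinearMap.ker (Iab.mkQ ∘ₗ LinearMap.mulLeft A b) := by
    intro t ht
    rw [LinearMap.mem_ker, LinearMap.comp_apply, LinearMap.mulLeft_apply, Submodule.mkQ_apply,
      Submodule.Quotient.mk_eq_zero]
    obtain ⟨j, hj, c, hc, rfl⟩ := Submodule.mem_sup.mp ht
    obtain ⟨d, rfl⟩ := Ideal.mem_span_singleton'.mp hc
    rw [mul_add]
    refine Ideal.add_mem _ (Ideal.mem_sup_left (Ideal.mul_mem_left _ _ hj))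
      (Ideal.mem_sup_right (Ideal.mem_span_singleton'.mpr ⟨d, by ring⟩))
  let φ : A ⧸ Ia →ₗ[A] A ⧸ Iab := Submodule.liftQ Ia (Iab.mkQ ∘ₗ LinearMap.mulLeft A b) hker
  let ψ : A ⧸ Iab →ₗ[A] A ⧸ Ib := Submodule.mapQ Iab Ib LinearMap.id hab_b
  have hφ : ∀ t : A, φ (Submodule.Quotient.mk t) = Submodule.Quotient.mk (b * t) := fun t => rfl
  have hψ : ∀ t : A, ψ (Submodule.Quotient.mk t) = Submodule.Quotient.mk t := fun t => rfl
  refine length_le_add_of_exact φ ψ ?_ ?_
  · intro y
    obtain ⟨t, rfl⟩ := Submodule.Quotient.mk_surjective _ y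
    exact ⟨Submodule.Quotient.mk t, hψ t⟩
  · intro y
    obtain ⟨t, rfl⟩ := Submodule.Quotient.mk_surjective _ y
    rw [hψ, Submodule.Quotient.mk_eq_zero]
    constructor
    · intro ht
      obtain ⟨j, hj, c, hc, rfl⟩ := Submodule.mem_sup.mp ht
      obtain ⟨d, rfl⟩ := Ideal.mem_span_singleton'.mp hc
      refine ⟨Submodule.Quotient.mk d, ?_⟩
      rw [hφ, Submodule.Quotient.eq]
      have : b * d - (j + d * b) = -j := by ring
      rw [this]
      exact Ideal.neg_mem_iff _ |>.mpr (Ideal.mem_sup_left hj)
    · rintro ⟨z, hz⟩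
      obtain ⟨d, rfl⟩ := Submodule.Quotient.mk_surjective _ z
      rw [hφ, Submodule.Quotient.eq] at hz
      have h1 : b * d ∈ Ib := Ideal.mem_sup_right (Ideal.mem_span_singleton'.mpr ⟨d, by ring⟩)
      have h2 : b * d - t ∈ Ib := hab_b hz
      have : t = b * d - (b * d - t) := by ring
      rw [this]
      exact Ideal.sub_mem _ h1 h2

theorem length_quot_prod_le {ι : Type v} (J : Ideal A) (S : Finset ι) (w : ι → A) :
    Module.length A (A ⧸ (J ⊔ Ideal.span {∏ σ ∈ S, w σ})) ≤
      ∑ σ ∈ S, Module.length A (A ⧸ (J ⊔ Ideal.span {w σ})) := by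
  classical
  induction S using Finset.induction_on with
  | empty =>
    have : Subsingleton (A ⧸ (J ⊔ Ideal.span {∏ σ ∈ (∅ : Finset ι), w σ})) := by
      rw [Finset.prod_empty, Ideal.span_singleton_one, sup_top_eq]
      exact Ideal.Quotient.subsingleton_iff.mpr rfl
    rw [Module.length_eq_zero]
    exact zero_le
  | insert s S hs ih =>
    rw [Finset.prod_insert hs, Finset.sum_insert hs]
    exact (length_quot_mul_le J _ _).trans (add_le_add le_rfl ih)

theorem span_range_update {n : ℕ} (e : Fin n → A) (j : Fin n) (a : A) :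
    Ideal.span (Set.range (Function.update e j a)) =
      Ideal.span (e '' {i | i ≠ j}) ⊔ Ideal.span {a} := by
  rw [← Ideal.span_union]
  congr 1
  ext t
  simp only [Set.mem_range, Set.mem_union, Set.mem_image, Set.mem_ofPred_eq, Set.mem_singleton_iff]
  constructor
  · rintro ⟨i, rfl⟩
    by_cases hi : i = j
    · right; rw [hi, Function.update_self]
    · left; exact ⟨i, hi, by rw [Function.update_of_ne hi]⟩
  · rintro (⟨i, hi, rfl⟩ | rfl)
    · exact ⟨i, by rw [Function.update_of_ne hi]⟩
    · exact ⟨j, by rw [Function.update_self]⟩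

theorem main {G : Type v} [Fintype G] {n : ℕ} (v : Fin n → G → A) (c : ℕ∞)
    (hc : ∀ τ : Fin n → G, Module.length A (A ⧸ Ideal.span (Set.range fun i => v i (τ i))) ≤ c)
    (T : Finset (Fin n)) :
    ∀ τ : Fin n → G,
      Module.length A (A ⧸ Ideal.span (Set.range fun i => if i ∈ T then ∏ σ, v i σ else v i (τ i))) ≤
        (Fintype.card G : ℕ∞) ^ T.card * c := by
  classical
  induction T using Finset.induction_on with
  | empty =>
    intro τ
    have h0 : (fun i => if i ∈ (∅ : Finset (Fin n)) then ∏ σ, v i σ else v i (τ i)) =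
        fun i => v i (τ i) := by
      ext i; simp
    rw [h0, Finset.card_empty, pow_zero, one_mul]
    exact hc τ
  | insert j T hj ih =>
    intro τ
    set e : Fin n → A := fun i => if i ∈ T then ∏ σ, v i σ else v i (τ i) with he
    have h1 : (fun i => if i ∈ insert j T then ∏ σ, v i σ else v i (τ i)) =
        Function.update e j (∏ σ, v j σ) := by
      ext i
      by_cases hi : i = j
      · subst hi; simp
      · rw [Function.update_of_ne hi, he]
        simp [Finset.mem_insert, hi]
    rw [h1, span_range_update]
    refine (length_quot_prod_le _ Finset.univ (v j)).trans ?_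
    have h2 : ∀ σ ∈ (Finset.univ : Finset G),
        Module.length A (A ⧸ (Ideal.span (e '' {i | i ≠ j}) ⊔ Ideal.span {v j σ})) ≤
          (Fintype.card G : ℕ∞) ^ T.card * c := by
      intro σ _
      rw [← span_range_update]
      have h3 : Function.update e j (v j σ) =
          fun i => if i ∈ T then ∏ σ, v i σ else v i (Function.update τ j σ i) := by
        ext i
        by_cases hi : i = j
        · subst hi; simp [hj]
        · rw [Function.update_of_ne hi, he, Function.update_of_ne hi]
      rw [h3]
      exact ih (Function.update τ j σ)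
    refine (Finset.sum_le_card_nsmul _ _ _ h2).trans ?_
    rw [Finset.card_insert_of_notMem hj, Finset.card_univ, nsmul_eq_mul, pow_succ]
    exact le_of_eq (by ring)

end aux

/-- Let `A` be a regular local ring of Krull dimension `n` with maximal ideal `m`, let a finite group
`G` of order `g` act on `A` by ring automorphisms, and let `u_1, …, u_n` be an admissible regular
system of parameters: for every choice `σ_1, …, σ_n ∈ G`, the elements `σ_1 u_1, …, σ_n u_n`
generate `m`. With `x_i = ∏_{σ ∈ G} σ u_i` the norms, the length of `A / (x_1, …, x_n)` is at most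
`g ^ n`. (The published statement is for a complete regular local ring containing a `G`-fixed field
of representatives and asserts that the length equals `g ^ n`; this row states the upper bound for
any regular local ring.) -/
theorem result
    (A : Type u) [CommRing A] [IsRegularLocalRing A]
    (G : Type v) [Group G] [Fintype G] [MulSemiringAction G A]
    (n : ℕ) (hn : ringKrullDim A = n) (u : Fin n → A)
    (hu : ∀ τ : Fin n → G,
      Ideal.span (Set.range fun i => τ i • u i) = IsLocalRing.maximalIdeal A) :
    Module.length A (A ⧸ Ideal.span (Set.range fun i => ∏ σ : G, σ • u i)) ≤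
      (Fintype.card G ^ n : ℕ) := by
  classical
  have hsimple : IsSimpleModule A (A ⧸ IsLocalRing.maximalIdeal A) :=
    isSimpleModule_iff_quot_maximal.mpr ⟨_, inferInstance, ⟨LinearEquiv.refl _ _⟩⟩
  have hc : ∀ τ : Fin n → G,
      Module.length A (A ⧸ Ideal.span (Set.range fun i => (fun i σ => σ • u i) i (τ i))) ≤ 1 := by
    intro τ
    have := hu τ
    simp only
    rw [this, Module.length_eq_one]
  have := main (fun i σ => σ • u i) 1 hc Finset.univ (fun _ => 1)
  beta_reduce at this
  have hfun : (fun i => if i ∈ (Finset.univ : Finset (Fin n)) then ∏ σ : G, σ • u i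
      else (1 : G) • u i) = fun i => ∏ σ : G, σ • u i := by
    ext i; simp
  rw [hfun, Finset.card_univ, Fintype.card_fin, mul_one] at this
  refine this.trans ?_
  push_cast
  exact le_rfl

end Groth.Agent.S15791
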