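import Groth.Statements.S15795
import Mathlib
-- import your own Groth.Agent.* helpers here

set_option autoImplicit false
universe u v
open WildQuot

namespace Groth.Agent.S15795

section helpers

open IsLocalRing

variable {A : Type u} [CommRing A] [IsRegularLocalRing A]

lemma le_of_le_sup_sq (N : Ideal A) (h : maximalIdeal A ≤ N ⊔ maximalIdeal A ^ 2) :
    maximalIdeal A ≤ N := by
  refine Submodule.le_of_le_smul_of_le_jacobson_bot (I := maximalIdeal A)
    (maximalIdeal A).fg_of_isNoetherianRing ?_ ?_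
  · exact (IsLocalRing.jacobson_eq_maximalIdeal ⊥ bot_ne_top).ge
  · rwa [smul_eq_mul, ← sq]

lemma not_mem_of_minimal {n : ℕ} (hn : ringKrullDim A = n) (u : Fin n → A)
    (hu : Ideal.span (Set.range u) = maximalIdeal A) (i : Fin n) :
    u i ∉ Ideal.span (u '' {j | j ≠ i}) ⊔ maximalIdeal A ^ 2 := by
  intro hmem
  have h1 : Ideal.span (Set.range u) ≤ Ideal.span (u '' {j | j ≠ i}) ⊔ maximalIdeal A ^ 2 := by
    rw [Ideal.span_le]
    rintro _ ⟨j, rfl⟩
    by_cases hj : j = i
    · subst hj; exact hmem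
    · exact Ideal.mem_sup_left (Ideal.subset_span ⟨j, hj, rfl⟩)
  rw [hu] at h1
  have h2 := le_of_le_sup_sq _ h1
  have h3 : Ideal.span (u '' {j | j ≠ i}) = maximalIdeal A :=
    le_antisymm (by rw [← hu]; exact Ideal.span_mono (Set.image_subset_range _ _)) h2
  have h4 : (Ideal.span (u '' {j | j ≠ i})).spanFinrank ≤ (u '' {j | j ≠ i}).ncard :=
    Submodule.spanFinrank_span_le_ncard_of_finite (Set.toFinite _)
  rw [h3] at h4
  have h5 : (u '' {j | j ≠ i}).ncard ≤ n - 1 := by
    calc _ ≤ ({j | j ≠ i} : Set (Fin n)).ncard := Set.ncard_image_le (Set.toFinite _)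
      _ = n - 1 := by
        have : ({j | j ≠ i} : Set (Fin n)) = ({i} : Set (Fin n))ᶜ := by ext; simp
        rw [this, Set.ncard_compl]; simp
  have h6 : ((maximalIdeal A).spanFinrank : WithBot ℕ∞) = n := by
    rw [IsRegularLocalRing.spanFinrank_maximalIdeal, hn]
  have h7 : (maximalIdeal A).spanFinrank = n := by exact_mod_cast h6
  have := i.pos
  omega

end helpers

/-- Let `A` be a regular local ring of Krull dimension `n` with maximal ideal `m`, let a finite group
`G` act on `A` by ring automorphisms inducing the identity on the residue field, and let `u_1, …,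
u_n` generate `m`. Suppose that for every `σ ∈ G` and every `i`, `σ u_i ∈ (u_1, …, u_i) + m ^ 2`,
i.e. the induced linear maps of `m / m ^ 2` are upper triangular in the basis given by the `u_i`.
Then the system `u` is admissible: for every choice `σ_1, …, σ_n ∈ G` the elements `σ_1 u_1, …, σ_n
u_n` generate `m`. (The published statement is for a complete regular local ring containing a
`G`-fixed field of representatives; this row drops completeness and asks only that `G` act trivially
on the residue field.) -/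
theorem result
    (A : Type u) [CommRing A] [IsRegularLocalRing A]
    (G : Type v) [Group G] [Finite G] [MulSemiringAction G A]
    (hres : ∀ (σ : G) (a : A), σ • a - a ∈ IsLocalRing.maximalIdeal A)
    (n : ℕ) (hn : ringKrullDim A = n) (u : Fin n → A)
    (hu : Ideal.span (Set.range u) = IsLocalRing.maximalIdeal A)
    (htri : ∀ (σ : G) (i : Fin n),
      σ • u i ∈ Ideal.span (u '' {j | j ≤ i}) ⊔ IsLocalRing.maximalIdeal A ^ 2) :
    ∀ τ : Fin n → G,
      Ideal.span (Set.range fun i => τ i • u i) = IsLocalRing.maximalIdeal A := by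
  intro τ
  have hσm : ∀ (σ : G) (a : A), a ∈ IsLocalRing.maximalIdeal A →
      σ • a ∈ IsLocalRing.maximalIdeal A := by
    intro σ a ha
    have h : σ • a = (σ • a - a) + a := by ring
    rw [h]; exact Ideal.add_mem _ (hres σ a) ha
  have hFmono : ∀ (w : Fin n → A) (k l : ℕ), k ≤ l →
      Ideal.span (w '' {j : Fin n | (j : ℕ) < k}) ⊔ IsLocalRing.maximalIdeal A ^ 2 ≤
      Ideal.span (w '' {j : Fin n | (j : ℕ) < l}) ⊔ IsLocalRing.maximalIdeal A ^ 2 := by
    intro w k l hkl
    refine sup_le_sup_right (Ideal.span_mono (Set.image_mono ?_)) _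
    intro j hj
    exact lt_of_lt_of_le hj hkl
  have hstab : ∀ (σ : G) (k : ℕ) (x : A),
      x ∈ Ideal.span (u '' {j : Fin n | (j : ℕ) < k}) ⊔ IsLocalRing.maximalIdeal A ^ 2 →
      σ • x ∈ Ideal.span (u '' {j : Fin n | (j : ℕ) < k}) ⊔ IsLocalRing.maximalIdeal A ^ 2 := by
    intro σ k
    have hm_le : IsLocalRing.maximalIdeal A ≤
        Ideal.comap (MulSemiringAction.toRingHom G A σ) (IsLocalRing.maximalIdeal A) :=
      fun a ha => hσm σ a ha
    have hle : Ideal.span (u '' {j : Fin n | (j : ℕ) < k}) ⊔ IsLocalRing.maximalIdeal A ^ 2 ≤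
        Ideal.comap (MulSemiringAction.toRingHom G A σ)
          (Ideal.span (u '' {j : Fin n | (j : ℕ) < k}) ⊔ IsLocalRing.maximalIdeal A ^ 2) := by
      refine sup_le ?_ ?_
      · rw [Ideal.span_le]
        rintro _ ⟨j, hj, rfl⟩
        have hsub : u '' {l | l ≤ j} ⊆ u '' {l : Fin n | (l : ℕ) < k} := by
          rintro _ ⟨l, hl, rfl⟩
          exact ⟨l, lt_of_le_of_lt (Fin.le_def.1 hl) hj, rfl⟩
        have hle2 : Ideal.span (u '' {l | l ≤ j}) ⊔ IsLocalRing.maximalIdeal A ^ 2 ≤
            Ideal.span (u '' {l : Fin n | (l : ℕ) < k}) ⊔ IsLocalRing.maximalIdeal A ^ 2 :=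
          sup_le_sup_right (Ideal.span_mono hsub) _
        exact hle2 (htri σ j)
      · calc IsLocalRing.maximalIdeal A ^ 2
            ≤ (Ideal.comap (MulSemiringAction.toRingHom G A σ) (IsLocalRing.maximalIdeal A)) ^ 2 :=
              Ideal.pow_right_mono hm_le 2
          _ ≤ Ideal.comap (MulSemiringAction.toRingHom G A σ) (IsLocalRing.maximalIdeal A ^ 2) :=
              Ideal.le_comap_pow _ 2
          _ ≤ _ := Ideal.comap_mono le_sup_right
    exact fun x hx => hle hx
  have key : ∀ k, k ≤ n →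
      Ideal.span (u '' {j : Fin n | (j : ℕ) < k}) ⊔ IsLocalRing.maximalIdeal A ^ 2 ≤
      Ideal.span ((fun l => τ l • u l) '' {j : Fin n | (j : ℕ) < k}) ⊔
        IsLocalRing.maximalIdeal A ^ 2 := by
    intro k
    induction k with
    | zero => intro _; simp
    | succ k ih =>
      intro hk
      have hk' : k < n := hk
      have ihk := ih hk'.le
      obtain ⟨i, hi⟩ : ∃ i : Fin n, (i : ℕ) = k := ⟨⟨k, hk'⟩, rfl⟩
      have h1 : τ i • u i ∈ Ideal.span (u '' {j | j ≤ i}) ⊔ IsLocalRing.maximalIdeal A ^ 2 :=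
        htri (τ i) i
      have hset : u '' {j | j ≤ i} = insert (u i) (u '' {j : Fin n | (j : ℕ) < k}) := by
        ext x; constructor
        · rintro ⟨j, hj, rfl⟩
          have hj' : (j : ℕ) ≤ k := hi ▸ Fin.le_def.1 hj
          rcases hj'.lt_or_eq with h | h
          · right; exact ⟨j, h, rfl⟩
          · left
            have : j = i := Fin.ext (h.trans hi.symm)
            rw [this]
        · rintro (rfl | ⟨j, hj, rfl⟩)
          · exact ⟨i, le_refl i, rfl⟩
          · exact ⟨j, Fin.le_def.2 (hi ▸ le_of_lt hj), rfl⟩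
      rw [hset, Ideal.span_insert, sup_assoc] at h1
      obtain ⟨y, hy, f, hf, hyf⟩ := Submodule.mem_sup.1 h1
      obtain ⟨a, rfl⟩ := Ideal.mem_span_singleton'.1 hy
      have hui_m : u i ∈ IsLocalRing.maximalIdeal A := by
        rw [← hu]; exact Ideal.subset_span ⟨i, rfl⟩
      have hunit : IsUnit a := by
        by_contra hna
        have ha : a ∈ IsLocalRing.maximalIdeal A := (IsLocalRing.mem_maximalIdeal a).2 hna
        have h2 : τ i • u i ∈ Ideal.span (u '' {j : Fin n | (j : ℕ) < k}) ⊔
            IsLocalRing.maximalIdeal A ^ 2 := by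
          rw [← hyf]
          refine Ideal.add_mem _ ?_ hf
          exact Ideal.mem_sup_right (by rw [sq]; exact Ideal.mul_mem_mul ha hui_m)
        have h3 : u i ∈ Ideal.span (u '' {j : Fin n | (j : ℕ) < k}) ⊔
            IsLocalRing.maximalIdeal A ^ 2 := by
          have := hstab (τ i)⁻¹ k _ h2
          rwa [inv_smul_smul] at this
        refine not_mem_of_minimal hn u hu i ?_
        have hsub : u '' {j : Fin n | (j : ℕ) < k} ⊆ u '' {j | j ≠ i} := by
          rintro _ ⟨j, hj, rfl⟩
          refine ⟨j, fun h => ?_, rfl⟩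
          have hj' : (j : ℕ) < k := hj
          rw [h, hi] at hj'
          exact lt_irrefl _ hj'
        have hle2 : Ideal.span (u '' {j : Fin n | (j : ℕ) < k}) ⊔ IsLocalRing.maximalIdeal A ^ 2 ≤
            Ideal.span (u '' {j | j ≠ i}) ⊔ IsLocalRing.maximalIdeal A ^ 2 :=
          sup_le_sup_right (Ideal.span_mono hsub) _
        exact hle2 h3
      have hui : u i ∈ Ideal.span ((fun l => τ l • u l) '' {j : Fin n | (j : ℕ) < k + 1}) ⊔
          IsLocalRing.maximalIdeal A ^ 2 := by
        obtain ⟨b, hb⟩ := hunit.exists_left_inv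
        have hEq : u i = b * (τ i • u i) - b * f := by
          rw [← hyf]; linear_combination (-(u i)) * hb
        rw [hEq]
        refine Ideal.sub_mem _ (Ideal.mul_mem_left _ _ ?_) (Ideal.mul_mem_left _ _ ?_)
        · exact Ideal.mem_sup_left (Ideal.subset_span ⟨i, by simp [hi], rfl⟩)
        · exact hFmono (fun l => τ l • u l) k (k + 1) (Nat.le_succ k) (ihk hf)
      refine sup_le ?_ le_sup_right
      rw [Ideal.span_le]
      rintro _ ⟨j, hj, rfl⟩
      have hj' : (j : ℕ) < k + 1 := hj
      rcases (Nat.lt_succ_iff.1 hj').lt_or_eq with h | h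
      · exact hFmono (fun l => τ l • u l) k (k + 1) (Nat.le_succ k)
          (ihk (Ideal.mem_sup_left (Ideal.subset_span ⟨j, h, rfl⟩)))
      · have : j = i := Fin.ext (h.trans hi.symm)
        rw [this]; exact hui
  have hfin : IsLocalRing.maximalIdeal A ≤
      Ideal.span (Set.range fun i => τ i • u i) ⊔ IsLocalRing.maximalIdeal A ^ 2 := by
    have h1 : IsLocalRing.maximalIdeal A ≤
        Ideal.span (u '' {j : Fin n | (j : ℕ) < n}) ⊔ IsLocalRing.maximalIdeal A ^ 2 := by
      have : {j : Fin n | (j : ℕ) < n} = Set.univ := by ext j; simp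
      rw [this, Set.image_univ, hu]; exact le_sup_left
    refine h1.trans ((key n le_rfl).trans ?_)
    exact sup_le_sup_right (Ideal.span_mono (Set.image_subset_range _ _)) _
  refine le_antisymm ?_ (le_of_le_sup_sq _ hfin)
  rw [Ideal.span_le]
  rintro _ ⟨i, rfl⟩
  refine hσm _ _ ?_
  rw [← hu]; exact Ideal.subset_span ⟨i, rfl⟩

end Groth.Agent.S15795
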