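import Groth.Statements.S15792
import Groth.Agent.S15795
import Mathlib
-- import your own Groth.Agent.* helpers here

set_option autoImplicit false
universe u v
open WildQuot

namespace Groth.Agent.S15792

section helpers

open IsLocalRing

variable {A : Type u} [CommRing A] {G : Type v} [Group G] [MulSemiringAction G A]

/-- the ring endomorphism of `A ⧸ I` induced by `σ`, for a `G`-stable ideal `I`. -/
noncomputable def qmap (I : Ideal A) (hI : ∀ (σ : G) (a : A), a ∈ I → σ • a ∈ I) (σ : G) :
    A ⧸ I →+* A ⧸ I :=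
  Ideal.quotientMap I (MulSemiringAction.toRingHom G A σ) (fun a ha => hI σ a ha)

lemma qmap_mk (I : Ideal A) (hI : ∀ (σ : G) (a : A), a ∈ I → σ • a ∈ I) (σ : G) (a : A) :
    qmap I hI σ (Ideal.Quotient.mk I a) = Ideal.Quotient.mk I (σ • a) := by
  simp [qmap]

/-- the induced action on the quotient. -/
noncomputable def qaction (I : Ideal A) (hI : ∀ (σ : G) (a : A), a ∈ I → σ • a ∈ I) :
    MulAction G (A ⧸ I) where
  smul σ q := qmap I hI σ q
  one_smul q := by
    obtain ⟨a, rfl⟩ := Ideal.Quotient.mk_surjective q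
    show qmap I hI 1 _ = _
    rw [qmap_mk, one_smul]
  mul_smul σ τ q := by
    obtain ⟨a, rfl⟩ := Ideal.Quotient.mk_surjective q
    show qmap I hI (σ * τ) _ = qmap I hI σ (qmap I hI τ _)
    rw [qmap_mk, qmap_mk, qmap_mk, mul_smul]

lemma exists_fixed_mod (p : ℕ) [Fact p.Prime] [CharP A p] [Finite G] (hG : IsPGroup p G)
    (I : Ideal A) (hI : ∀ (σ : G) (a : A), a ∈ I → σ • a ∈ I)
    (J : Ideal A) (hJ : ∀ (σ : G) (a : A), a ∈ J → σ • a ∈ J)
    (x : A) (hxJ : x ∈ J) (hxI : x ∉ I) :
    ∃ y, y ∈ J ∧ y ∉ I ∧ ∀ σ : G, σ • y - y ∈ I := by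
  classical
  letI : MulAction G (A ⧸ I) := qaction I hI
  have hsmul : ∀ (σ : G) (q : A ⧸ I), σ • q = qmap I hI σ q := fun _ _ => rfl
  set xb : A ⧸ I := Ideal.Quotient.mk I x with hxb
  have hxb0 : xb ≠ 0 := by rwa [hxb, Ne, Ideal.Quotient.eq_zero_iff_mem]
  let W : AddSubgroup (A ⧸ I) := AddSubgroup.closure (MulAction.orbit G xb)
  have hWstab : ∀ (σ : G) (w : A ⧸ I), w ∈ W → σ • w ∈ W := by
    intro σ w hw
    induction hw using AddSubgroup.closure_induction with
    | mem w hw =>
      obtain ⟨τ, rfl⟩ := hw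
      apply AddSubgroup.subset_closure
      exact ⟨σ * τ, mul_smul σ τ xb⟩
    | zero => rw [hsmul, map_zero]; exact W.zero_mem
    | add a b _ _ ha hb => rw [hsmul, map_add]; exact W.add_mem ha hb
    | neg a _ ha => rw [hsmul, map_neg]; exact W.neg_mem ha
  have hWJ : ∀ w ∈ W, ∃ y ∈ J, Ideal.Quotient.mk I y = w := by
    intro w hw
    induction hw using AddSubgroup.closure_induction with
    | mem w hw =>
      obtain ⟨τ, rfl⟩ := hw
      exact ⟨τ • x, hJ τ x hxJ, (qmap_mk I hI τ x).symm⟩
    | zero => exact ⟨0, J.zero_mem, map_zero _⟩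
    | add a b _ _ ha hb =>
      obtain ⟨y, hy, rfl⟩ := ha
      obtain ⟨z, hz, rfl⟩ := hb
      exact ⟨y + z, J.add_mem hy hz, map_add _ _ _⟩
    | neg a _ ha =>
      obtain ⟨y, hy, rfl⟩ := ha
      exact ⟨-y, J.neg_mem hy, map_neg _ _⟩
  have hfinorb : (MulAction.orbit G xb).Finite := Set.finite_range _
  haveI : Finite (MulAction.orbit G xb) := hfinorb
  haveI : AddGroup.FG W := AddGroup.closure_finite_fg _
  have hp0 : ∀ q : A ⧸ I, p • q = 0 := by
    intro q
    obtain ⟨a, rfl⟩ := Ideal.Quotient.mk_surjective q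
    rw [← map_nsmul, nsmul_eq_mul, CharP.cast_eq_zero, zero_mul, map_zero]
  haveI : Finite W := AddCommGroup.finite_of_fg_isAddTorsion W
    (fun w => isOfFinAddOrder_iff_nsmul_eq_zero.2 ⟨p, (Fact.out : p.Prime).pos, by
      ext; simp [hp0]⟩)
  letI : MulAction G W :=
    { smul := fun σ w => ⟨σ • w.1, hWstab σ w.1 w.2⟩
      one_smul := fun w => Subtype.ext (one_smul G w.1)
      mul_smul := fun σ τ w => Subtype.ext (mul_smul σ τ w.1) }
  have hsmulW : ∀ (σ : G) (w : W), ((σ • w : W) : A ⧸ I) = σ • (w : A ⧸ I) := fun _ _ => rfl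
  have hdvd : p ∣ Nat.card W := by
    let w0 : W := ⟨xb, AddSubgroup.subset_closure (MulAction.mem_orbit_self xb)⟩
    have h1 : addOrderOf w0 = p := by
      apply addOrderOf_eq_prime
      · ext; simp [w0, hp0]
      · intro h; exact hxb0 (congrArg Subtype.val h)
    rw [← h1]
    exact addOrderOf_dvd_natCard w0
  have h0 : (0 : W) ∈ MulAction.fixedPoints G W := by
    intro σ
    apply Subtype.ext
    rw [hsmulW]
    show σ • (0 : A ⧸ I) = 0
    rw [hsmul, map_zero]
  obtain ⟨b, hb, hb0⟩ := hG.exists_fixed_point_of_prime_dvd_card_of_fixed_point W hdvd h0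
  obtain ⟨y, hyJ, hyb⟩ := hWJ b.1 b.2
  refine ⟨y, hyJ, ?_, ?_⟩
  · intro hyI
    apply hb0
    apply Subtype.ext
    show (0 : A ⧸ I) = b.1
    rw [← hyb, Ideal.Quotient.eq_zero_iff_mem.2 hyI]
  · intro σ
    have h2 : σ • (b : A ⧸ I) = b := by
      rw [← hsmulW]; exact congrArg Subtype.val (hb σ)
    rw [← hyb, hsmul, qmap_mk, Ideal.Quotient.eq] at h2
    exact h2

lemma exchange [IsLocalRing A] [DecidableEq A] (I : Ideal A) (hI : maximalIdeal A ^ 2 ≤ I) :
    ∀ (T : Finset A), (∀ t ∈ T, t ∈ maximalIdeal A) → ∀ y : A,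
      y ∈ I ⊔ Ideal.span (T : Set A) → y ∉ I →
      ∃ t ∈ T, t ∈ I ⊔ Ideal.span {y} ⊔ Ideal.span ((T.erase t : Finset A) : Set A) := by
  intro T
  induction T using Finset.induction_on with
  | empty =>
    intro _ y hy hyI
    simp at hy
    exact absurd hy hyI
  | insert s T hs ih =>
    intro hT y hy hyI
    rw [Finset.coe_insert, Ideal.span_insert, ← sup_assoc] at hy
    obtain ⟨x1, hx1, z, hz, rfl⟩ := Submodule.mem_sup.1 hy
    obtain ⟨i, hi, x2, hx2, rfl⟩ := Submodule.mem_sup.1 hx1
    obtain ⟨a, rfl⟩ := Ideal.mem_span_singleton'.1 hx2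
    by_cases ha : IsUnit a
    · refine ⟨s, Finset.mem_insert_self s T, ?_⟩
      rw [Finset.erase_insert hs]
      obtain ⟨b, hb⟩ := ha.exists_left_inv
      have hEq : s = b * (i + a * s + z) - b * i - b * z := by linear_combination (-s) * hb
      have hmem : b * (i + a * s + z) - b * i - b * z ∈
          I ⊔ Ideal.span {i + a * s + z} ⊔ Ideal.span (T : Set A) := by
        refine Ideal.sub_mem _ (Ideal.sub_mem _ ?_ ?_) ?_
        · exact Ideal.mul_mem_left _ _
            (Ideal.mem_sup_left (Ideal.mem_sup_right (Ideal.subset_span rfl)))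
        · exact Ideal.mul_mem_left _ _ (Ideal.mem_sup_left (Ideal.mem_sup_left hi))
        · exact Ideal.mul_mem_left _ _ (Ideal.mem_sup_right hz)
      rwa [← hEq] at hmem
    · have ham : a ∈ maximalIdeal A := (mem_maximalIdeal a).2 ha
      have hs_m := hT s (Finset.mem_insert_self s T)
      have h1 : a * s ∈ I := hI (by rw [sq]; exact Ideal.mul_mem_mul ham hs_m)
      have hy' : i + a * s + z ∈ I ⊔ Ideal.span (T : Set A) :=
        Ideal.add_mem _ (Ideal.mem_sup_left (I.add_mem hi h1)) (Ideal.mem_sup_right hz)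
      obtain ⟨t, htT, ht⟩ := ih (fun t ht => hT t (Finset.mem_insert_of_mem ht)) _ hy' hyI
      refine ⟨t, Finset.mem_insert_of_mem htT, ?_⟩
      have hsub : ((T.erase t : Finset A) : Set A) ⊆ (((insert s T).erase t : Finset A) : Set A) :=
        Finset.coe_subset.2 (Finset.erase_subset_erase t (Finset.subset_insert s T))
      have hle : I ⊔ Ideal.span {i + a * s + z} ⊔ Ideal.span ((T.erase t : Finset A) : Set A) ≤
          I ⊔ Ideal.span {i + a * s + z} ⊔
            Ideal.span (((insert s T).erase t : Finset A) : Set A) :=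
        sup_le_sup_left (Ideal.span_mono hsub) _
      exact hle ht

end helpers

/-- Let `A` be a regular local ring of Krull dimension `n` and prime characteristic `p`, and let a
finite `p`-group `G` act on `A` by ring automorphisms inducing the identity on the residue field.
Then there is an admissible regular system of parameters: `u_1, …, u_n ∈ A` such that for every
choice `σ_1, …, σ_n ∈ G` the elements `σ_1 u_1, …, σ_n u_n` generate the maximal ideal. (The
published statement is for a complete regular local ring containing a field of representatives fixed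
by `G`; this row drops completeness and asks only that `G` act trivially on the residue field.) -/
theorem result
    (p : ℕ) [Fact p.Prime] (A : Type u) [CommRing A] [IsRegularLocalRing A] [CharP A p]
    (G : Type v) [Group G] [Finite G] [MulSemiringAction G A] (hG : IsPGroup p G)
    (hres : ∀ (σ : G) (a : A), σ • a - a ∈ IsLocalRing.maximalIdeal A)
    (n : ℕ) (hn : ringKrullDim A = n) :
    ∃ u : Fin n → A, ∀ τ : Fin n → G,
      Ideal.span (Set.range fun i => τ i • u i) = IsLocalRing.maximalIdeal A := by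
  classical
  have hσm : ∀ (σ : G) (a : A), a ∈ IsLocalRing.maximalIdeal A →
      σ • a ∈ IsLocalRing.maximalIdeal A := by
    intro σ a ha
    have h : σ • a = (σ • a - a) + a := by ring
    rw [h]; exact Ideal.add_mem _ (hres σ a) ha
  have hσm2 : ∀ (σ : G), IsLocalRing.maximalIdeal A ^ 2 ≤
      Ideal.comap (MulSemiringAction.toRingHom G A σ) (IsLocalRing.maximalIdeal A ^ 2) := by
    intro σ
    have hm_le : IsLocalRing.maximalIdeal A ≤
        Ideal.comap (MulSemiringAction.toRingHom G A σ) (IsLocalRing.maximalIdeal A) :=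
      fun a ha => hσm σ a ha
    exact (Ideal.pow_right_mono hm_le 2).trans (Ideal.le_comap_pow _ 2)
  have hfr : (IsLocalRing.maximalIdeal A).spanFinrank = n := by
    have h6 : ((IsLocalRing.maximalIdeal A).spanFinrank : WithBot ℕ∞) = n := by
      rw [IsRegularLocalRing.spanFinrank_maximalIdeal, hn]
    exact_mod_cast h6
  have key : ∀ k, k ≤ n → ∃ (w : ℕ → A) (T : Finset A), T.card + k ≤ n ∧
      (∀ l, w l ∈ IsLocalRing.maximalIdeal A) ∧ (∀ t ∈ T, t ∈ IsLocalRing.maximalIdeal A) ∧
      IsLocalRing.maximalIdeal A ≤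
        Ideal.span (w '' Set.Iio k) ⊔ IsLocalRing.maximalIdeal A ^ 2 ⊔ Ideal.span (T : Set A) ∧
      ∀ (σ : G) (i : ℕ), i < k →
        σ • w i - w i ∈ Ideal.span (w '' Set.Iio i) ⊔ IsLocalRing.maximalIdeal A ^ 2 := by
    intro k
    induction k with
    | zero =>
      intro _
      obtain ⟨s, hs1, hs2⟩ := Submodule.FG.exists_span_finset_card_eq_spanFinrank
        (IsLocalRing.maximalIdeal A).fg_of_isNoetherianRing
      refine ⟨fun _ => 0, s, by omega, fun _ => Ideal.zero_mem _, ?_, ?_, ?_⟩
      · intro t ht; rw [← hs2]; exact Submodule.subset_span ht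
      · exact le_sup_of_le_right (le_of_eq hs2.symm)
      · intro σ i hi; exact absurd hi (Nat.not_lt_zero i)
    | succ k ih =>
      intro hk
      obtain ⟨w, T, hcard, hwm, hTm, hgen, htri⟩ := ih (Nat.le_of_succ_le hk)
      set I : Ideal A := Ideal.span (w '' Set.Iio k) ⊔ IsLocalRing.maximalIdeal A ^ 2 with hIdef
      have hIstab : ∀ (σ : G) (a : A), a ∈ I → σ • a ∈ I := by
        intro σ
        have hle : I ≤ Ideal.comap (MulSemiringAction.toRingHom G A σ) I := by
          refine sup_le ?_ ((hσm2 σ).trans (Ideal.comap_mono le_sup_right))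
          rw [Ideal.span_le]
          rintro _ ⟨j, hj, rfl⟩
          have hj' : j < k := hj
          have h1 := htri σ j hj'
          have h2 : σ • w j = (σ • w j - w j) + w j := by ring
          show σ • w j ∈ I
          rw [h2]
          refine Ideal.add_mem _ ?_ (Ideal.mem_sup_left (Ideal.subset_span ⟨j, hj, rfl⟩))
          have hle2 : Ideal.span (w '' Set.Iio j) ⊔ IsLocalRing.maximalIdeal A ^ 2 ≤ I :=
            sup_le_sup_right (Ideal.span_mono (Set.image_mono (Set.Iio_subset_Iio hj'.le))) _
          exact hle2 h1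
        exact fun a ha => hle ha
      have hne : ∃ x, x ∈ IsLocalRing.maximalIdeal A ∧ x ∉ I := by
        by_contra hcon
        have hmI : IsLocalRing.maximalIdeal A ≤ I := by
          intro x hx
          by_contra hxI
          exact hcon ⟨x, hx, hxI⟩
        have h2 := Groth.Agent.S15795.le_of_le_sup_sq _ hmI
        have h3 : Ideal.span (w '' Set.Iio k) = IsLocalRing.maximalIdeal A :=
          le_antisymm (by rw [Ideal.span_le]; rintro _ ⟨l, _, rfl⟩; exact hwm l) h2
        have h4 : (Ideal.span (w '' Set.Iio k)).spanFinrank ≤ (w '' Set.Iio k).ncard :=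
          Submodule.spanFinrank_span_le_ncard_of_finite ((Set.finite_Iio k).image w)
        rw [h3, hfr] at h4
        have h5 : (w '' Set.Iio k).ncard ≤ k := by
          calc _ ≤ (Set.Iio k).ncard := Set.ncard_image_le (Set.finite_Iio k)
            _ = k := by rw [Set.ncard_eq_toFinset_card']; simp
        omega
      obtain ⟨x, hxm, hxI⟩ := hne
      obtain ⟨y, hym, hyI, hyfix⟩ :=
        exists_fixed_mod p hG I hIstab (IsLocalRing.maximalIdeal A) hσm x hxm hxI
      have hyIT : y ∈ I ⊔ Ideal.span (T : Set A) := hgen hym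
      obtain ⟨t, htT, ht⟩ := exchange I le_sup_right T hTm y hyIT hyI
      have himg : ∀ i, i ≤ k → Function.update w k y '' Set.Iio i = w '' Set.Iio i := by
        intro i hi
        apply Set.image_congr
        intro l hl
        have hl' : l < i := hl
        have hlk : l ≠ k := by omega
        exact Function.update_of_ne hlk _ _
      refine ⟨Function.update w k y, T.erase t, ?_, ?_, ?_, ?_, ?_⟩
      · have h1 := Finset.card_erase_of_mem htT
        have h2 : 0 < T.card := Finset.card_pos.2 ⟨t, htT⟩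
        omega
      · intro l
        by_cases hl : l = k
        · subst hl; rw [Function.update_self]; exact hym
        · rw [Function.update_of_ne hl]; exact hwm l
      · intro t' ht'; exact hTm t' (Finset.mem_of_mem_erase ht')
      · have hspan : Ideal.span (Function.update w k y '' Set.Iio (k + 1)) =
            Ideal.span (w '' Set.Iio k) ⊔ Ideal.span {y} := by
          have hIio : Set.Iio (k + 1) = insert k (Set.Iio k) := by
            ext l; simp only [Set.mem_Iio, Set.mem_insert_iff]; omega
          rw [hIio, Set.image_insert_eq, Function.update_self, himg k le_rfl, Ideal.span_insert,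
            sup_comm]
        have hT : Ideal.span (T : Set A) ≤
            I ⊔ Ideal.span {y} ⊔ Ideal.span ((T.erase t : Finset A) : Set A) := by
          rw [Ideal.span_le]
          intro t' ht'
          by_cases h : t' = t
          · rw [h]; exact ht
          · exact Ideal.mem_sup_right
              (Ideal.subset_span (Finset.mem_coe.2 (Finset.mem_erase.2 ⟨h, ht'⟩)))
        have hfinal : I ⊔ Ideal.span {y} ⊔ Ideal.span ((T.erase t : Finset A) : Set A) ≤
            Ideal.span (Function.update w k y '' Set.Iio (k + 1)) ⊔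
              IsLocalRing.maximalIdeal A ^ 2 ⊔ Ideal.span ((T.erase t : Finset A) : Set A) := by
          rw [hspan, hIdef]
          refine sup_le_sup_right (le_of_eq ?_) _
          rw [sup_right_comm]
        exact (hgen.trans (sup_le (le_sup_left.trans le_sup_left) hT)).trans hfinal
      · intro σ i hi
        rcases Nat.lt_succ_iff_lt_or_eq.1 hi with h | h
        · rw [Function.update_of_ne (ne_of_lt h), himg i h.le]; exact htri σ i h
        · subst h; rw [Function.update_self, himg i le_rfl]; exact hyfix σ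
  obtain ⟨w, T, hcard, hwm, hTm, hgen, htri⟩ := key n le_rfl
  have hT0 : T = ∅ := Finset.card_eq_zero.1 (by omega)
  subst hT0
  simp only [Finset.coe_empty, Ideal.span_empty, sup_bot_eq] at hgen
  have hgen' := Groth.Agent.S15795.le_of_le_sup_sq _ hgen
  have hrange : Set.range (fun i : Fin n => w i) = w '' Set.Iio n := by
    ext x; constructor
    · rintro ⟨i, rfl⟩; exact ⟨i, i.2, rfl⟩
    · rintro ⟨l, hl, rfl⟩; exact ⟨⟨l, hl⟩, rfl⟩
  have hu : Ideal.span (Set.range (fun i : Fin n => w i)) = IsLocalRing.maximalIdeal A := by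
    rw [hrange]
    exact le_antisymm (by rw [Ideal.span_le]; rintro _ ⟨l, _, rfl⟩; exact hwm l) hgen'
  refine ⟨fun i : Fin n => w i, Groth.Agent.S15795.result A G hres n hn _ hu ?_⟩
  intro σ i
  have h1 := htri σ i i.2
  have h2 : σ • w i = (σ • w i - w i) + w i := by ring
  show σ • w i ∈ _
  rw [h2]
  refine Ideal.add_mem _ ?_ (Ideal.mem_sup_left (Ideal.subset_span ⟨i, le_refl i, rfl⟩))
  have hsub : w '' Set.Iio (i : ℕ) ⊆ (fun i : Fin n => w i) '' {j | j ≤ i} := by
    rintro _ ⟨l, hl, rfl⟩
    have hl' : l < (i : ℕ) := hl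
    exact ⟨⟨l, hl'.trans i.2⟩, Fin.le_def.2 (le_of_lt hl'), rfl⟩
  have hle2 : Ideal.span (w '' Set.Iio (i : ℕ)) ⊔ IsLocalRing.maximalIdeal A ^ 2 ≤
      Ideal.span ((fun i : Fin n => w i) '' {j | j ≤ i}) ⊔ IsLocalRing.maximalIdeal A ^ 2 :=
    sup_le_sup_right (Ideal.span_mono hsub) _
  exact hle2 h1

end Groth.Agent.S15792
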