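import Groth.Statements.S15793
import Mathlib

set_option autoImplicit false
universe u v w
open WildQuot

namespace Groth.Agent.S15793

section helpers
open IsLocalRing

lemma exists_generators {A : Type*} [CommRing A] [IsLocalRing A] [IsNoetherianRing A] (v : A)
    (hv : v ∈ maximalIdeal A) (hv2 : v ∉ maximalIdeal A ^ 2) :
    ∃ (d : ℕ) (x : Fin d → A), d + 1 = Module.finrank (ResidueField A) (CotangentSpace A) ∧
      (∀ i, x i ∈ maximalIdeal A) ∧ Ideal.span (insert v (Set.range x)) = maximalIdeal A := by
  classical
  let vb : CotangentSpace A := (maximalIdeal A).toCotangent ⟨v, hv⟩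
  have hvb : vb ≠ 0 := by
    intro h; exact hv2 ((Ideal.toCotangent_eq_zero _ _).1 h)
  let W : Submodule (ResidueField A) (CotangentSpace A) := Submodule.span (ResidueField A) {vb}
  have hW : Module.finrank (ResidueField A) W = 1 := finrank_span_singleton hvb
  have hd := Submodule.finrank_quotient_add_finrank W
  let b := Module.finBasis (ResidueField A) (CotangentSpace A ⧸ W)
  choose y hy using fun i => W.mkQ_surjective (b i)
  choose x' hx' using fun i => (maximalIdeal A).toCotangent_surjective (y i)
  refine ⟨Module.finrank (ResidueField A) (CotangentSpace A ⧸ W), fun i => (x' i : A), by omega,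
    fun i => (x' i).2, ?_⟩
  have hspan : Submodule.span (ResidueField A)
      ((maximalIdeal A).toCotangent '' (insert ⟨v, hv⟩ (Set.range x'))) = ⊤ := by
    set S := Submodule.span (ResidueField A)
      ((maximalIdeal A).toCotangent '' (insert ⟨v, hv⟩ (Set.range x'))) with hS
    have hWS : W ≤ S := by
      rw [Submodule.span_le]
      rintro _ rfl
      exact Submodule.subset_span ⟨⟨v, hv⟩, Set.mem_insert _ _, rfl⟩
    have hmap : S.map W.mkQ = ⊤ := by
      rw [eq_top_iff, ← b.span_eq, Submodule.span_le]
      rintro _ ⟨i, rfl⟩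
      exact ⟨y i, Submodule.subset_span ⟨x' i, Set.mem_insert_of_mem _ ⟨i, rfl⟩, hx' i⟩, hy i⟩
    rw [Submodule.map_mkQ_eq_top] at hmap
    rwa [sup_eq_right.2 hWS] at hmap
  rw [CotangentSpace.span_image_eq_top_iff] at hspan
  have h2 := congrArg (Submodule.map (maximalIdeal A).subtype) hspan
  rw [Submodule.map_span, Submodule.map_top, Submodule.range_subtype] at h2
  refine Eq.trans ?_ h2
  rw [Ideal.span]
  congr 1
  rw [Set.image_insert_eq, ← Set.range_comp]
  rfl

end helpers


/-- Let `A` be a complete regular local ring of Krull dimension at least `2` and prime characteristic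
`p`, with maximal ideal `m`; let `k` be a field with a ring map `k → A` whose composite with `A →
A/m` is onto (a field of representatives); let `G` be a group of order `p` acting on `A` by ring
automorphisms that fix the image of `k`, ramified precisely at the origin: for every prime `P ≠ m`,
the inertia subgroup of `P` (the elements of `G` fixing every element of `A` modulo `P`) is trivial.
Then no element of `m` outside `m ^ 2` is fixed by every element of `G`; in particular the action is
not linear in any regular system of parameters. -/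
theorem result
    (p : ℕ) [Fact p.Prime] (A : Type u) [CommRing A] [IsRegularLocalRing A] [CharP A p]
    [IsAdicComplete (IsLocalRing.maximalIdeal A) A] (hdim : 2 ≤ ringKrullDim A)
    (k : Type v) [Field k] [Algebra k A]
    (hk : Function.Surjective (IsLocalRing.residue A ∘ algebraMap k A))
    (G : Type w) [Group G] [Finite G] [MulSemiringAction G A] (hcard : Nat.card G = p)
    (hGk : ∀ (σ : G) (c : k), σ • algebraMap k A c = algebraMap k A c)
    (hram : ∀ P : Ideal A, P.IsPrime → P ≠ IsLocalRing.maximalIdeal A → P.inertia G = ⊥)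
    (v : A) (hv : v ∈ IsLocalRing.maximalIdeal A) (hv2 : v ∉ IsLocalRing.maximalIdeal A ^ 2) :
    ∃ σ : G, σ • v ≠ v := by
  classical
  by_contra hfix
  push_neg at hfix
  haveI : Nontrivial G := by
    rw [← Finite.one_lt_card_iff_nontrivial, hcard]; exact (Fact.out : p.Prime).one_lt
  obtain ⟨σ, hσ⟩ := exists_ne (1 : G)
  -- reduction to the maximal ideal
  have hred : ∀ a : A, ∃ m ∈ IsLocalRing.maximalIdeal A, σ • a - a = σ • m - m := by
    intro a
    obtain ⟨c, hc⟩ := hk (IsLocalRing.residue A a)
    have h1 : a - algebraMap k A c ∈ IsLocalRing.maximalIdeal A := by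
      rw [← IsLocalRing.residue_eq_zero_iff, map_sub, ← hc, Function.comp_apply, sub_self]
    refine ⟨a - algebraMap k A c, h1, ?_⟩
    rw [smul_sub, hGk]; ring
  have hA : ∀ a : A, σ • a - a ∈ IsLocalRing.maximalIdeal A := by
    intro a
    obtain ⟨m, hm, h⟩ := hred a
    rw [h]
    refine Ideal.sub_mem _ ?_ hm
    rw [IsLocalRing.mem_maximalIdeal, mem_nonunits_iff]
    intro hu
    have hu' := hu.map (MulSemiringAction.toRingHom G A σ⁻¹)
    rw [MulSemiringAction.toRingHom_apply, inv_smul_smul] at hu'
    exact hm hu'
  set I : Ideal A := Ideal.span (Set.range fun a : A => σ • a - a) with hI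
  have hIm : I ≤ IsLocalRing.maximalIdeal A :=
    Ideal.span_le.2 (by rintro _ ⟨a, rfl⟩; exact hA a)
  have hB : ∀ P : Ideal A, P.IsPrime → I ≤ P → P = IsLocalRing.maximalIdeal A := by
    intro P hP hIP
    by_contra hne
    have h0 := hram P hP hne
    have hmem : σ ∈ P.inertia G := by
      intro a
      exact hIP (Ideal.subset_span ⟨a, rfl⟩)
    rw [h0, Subgroup.mem_bot] at hmem
    exact hσ hmem
  obtain ⟨d, x, hd, hxm, hxspan⟩ := exists_generators v hv hv2
  let s : Finset A := Finset.univ.image (fun i : Fin d => σ • x i - x i)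
  set J : Ideal A := Ideal.span (s : Set A) with hJ
  have hsmem : ∀ i, σ • x i - x i ∈ (s : Set A) := fun i =>
    Finset.mem_coe.2 (Finset.mem_image.2 ⟨i, Finset.mem_univ _, rfl⟩)
  have hJI : J ≤ I := by
    refine Ideal.span_le.2 ?_
    intro z hz
    obtain ⟨i, -, rfl⟩ := Finset.mem_image.1 (Finset.mem_coe.1 hz)
    exact Ideal.subset_span ⟨x i, rfl⟩
  have hkey : ∀ m ∈ IsLocalRing.maximalIdeal A,
      σ • m - m ∈ J ⊔ IsLocalRing.maximalIdeal A • I := by
    intro m hm
    rw [← hxspan] at hm
    induction hm using Submodule.span_induction with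
    | mem z hz =>
      rcases hz with rfl | ⟨i, rfl⟩
      · rw [hfix σ, sub_self]; exact zero_mem _
      · exact Submodule.mem_sup_left (Ideal.subset_span (hsmem i))
    | zero => simp
    | add y z _ _ hy hz =>
      have : σ • (y + z) - (y + z) = (σ • y - y) + (σ • z - z) := by rw [smul_add]; ring
      rw [this]; exact add_mem hy hz
    | smul a z hz ih =>
      have hzm : z ∈ IsLocalRing.maximalIdeal A := hxspan ▸ hz
      have : σ • (a • z) - a • z = (σ • a) * (σ • z - z) + (σ • a - a) * z := by
        rw [smul_eq_mul, smul_mul']; ring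
      rw [this]
      refine add_mem (Ideal.mul_mem_left _ _ ih) (Submodule.mem_sup_right ?_)
      rw [mul_comm]
      exact Submodule.smul_mem_smul hzm (Ideal.subset_span ⟨a, rfl⟩)
  have hIJ : I ≤ J := by
    apply Submodule.le_of_le_smul_of_le_jacobson_bot (IsNoetherian.noetherian I)
      (IsLocalRing.jacobson_eq_maximalIdeal _ bot_ne_top).ge
    rw [hI, Ideal.span_le]
    rintro _ ⟨a, rfl⟩
    obtain ⟨m, hm, h⟩ := hred a
    change σ • a - a ∈ _
    rw [h]
    exact hkey m hm
  have hmin : IsLocalRing.maximalIdeal A ∈ J.minimalPrimes := by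
    refine ⟨⟨inferInstance, hJI.trans hIm⟩, fun P hP hPm => ?_⟩
    have := hB P hP.1 (hIJ.trans hP.2)
    rw [this]
  have hht := Ideal.height_le_card_of_mem_minimalPrimes_span_finset hmin
  have hcard_s : s.card ≤ d := (Finset.card_image_le).trans (by simp)
  have h1 := IsLocalRing.maximalIdeal_height_eq_ringKrullDim (R := A)
  have h2 := IsRegularLocalRing.spanFinrank_maximalIdeal (R := A)
  have h3 := IsLocalRing.spanFinrank_maximalIdeal_eq_finrank_cotangentSpace A
  have h4 : (IsLocalRing.maximalIdeal A).height = ((d + 1 : ℕ) : ℕ∞) := by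
    have : ((IsLocalRing.maximalIdeal A).height : WithBot ℕ∞) = ((d + 1 : ℕ) : WithBot ℕ∞) := by
      rw [h1, ← h2, h3, ← hd]
    exact_mod_cast this
  rw [h4] at hht
  have h5 : (d + 1 : ℕ) ≤ d := by
    have : ((d + 1 : ℕ) : ℕ∞) ≤ (d : ℕ∞) := hht.trans (by exact_mod_cast hcard_s)
    exact_mod_cast this
  omega

end Groth.Agent.S15793
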