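import Groth.Statements.S15797
import Mathlib
import Groth.Agent.Lib.Helper21.DepthKit5
import Groth.Agent.S0559

set_option autoImplicit false
universe u v
open WildQuot

namespace Groth.Agent.S15797
open Groth.Agent.Lib.Helper21.DepthKit IsLocalRing Module RingTheory.Sequence

section aux

variable {A : Type u} [CommRing A]

theorem length_quot_mul_eq (J : Ideal A) (a b : A) (hb : ∀ t, b * t ∈ J → t ∈ J) :
    Module.length A (A ⧸ (J ⊔ Ideal.span {a * b})) =
      Module.length A (A ⧸ (J ⊔ Ideal.span {a})) + Module.length A (A ⧸ (J ⊔ Ideal.span {b})) := by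
  set Iab := J ⊔ Ideal.span {a * b} with hIab
  set Ia := J ⊔ Ideal.span {a} with hIa
  set Ib := J ⊔ Ideal.span {b} with hIb
  have hab_b : Iab ≤ Ib := by
    refine sup_le le_sup_left ?_
    rw [Ideal.span_singleton_le_iff_mem]
    exact Ideal.mem_sup_right (Ideal.mem_span_singleton'.mpr ⟨a, rfl⟩)
  have hker : Ia ≤ LinearMap.ker (Iab.mkQ ∘ₗ LinearMap.mulLeft A b) := by
    intro t ht
    rw [LinearMap.mem_ker, LinearMap.comp_apply, LinearMap.mulLeft_apply, Submodule.mkQ_apply,
      Submodule.Quotient.mk_eq_zero]
    obtain ⟨j, hj, c, hc, rfl⟩ := Submodule.mem_sup.mp ht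
    obtain ⟨d, rfl⟩ := Ideal.mem_span_singleton'.mp hc
    rw [mul_add]
    refine Ideal.add_mem _ (Ideal.mem_sup_left (Ideal.mul_mem_left _ _ hj))
      (Ideal.mem_sup_right (Ideal.mem_span_singleton'.mpr ⟨d, by ring⟩))
  let φ : A ⧸ Ia →ₗ[A] A ⧸ Iab := Submodule.liftQ Ia (Iab.mkQ ∘ₗ LinearMap.mulLeft A b) hker
  let ψ : A ⧸ Iab →ₗ[A] A ⧸ Ib := Submodule.mapQ Iab Ib LinearMap.id hab_b
  have hφ : ∀ t : A, φ (Submodule.Quotient.mk t) = Submodule.Quotient.mk (b * t) := fun t => rfl
  have hψ : ∀ t : A, ψ (Submodule.Quotient.mk t) = Submodule.Quotient.mk t := fun t => rfl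
  refine Module.length_eq_add_of_exact φ ψ ?_ ?_ ?_
  · rw [← LinearMap.ker_eq_bot, LinearMap.ker_eq_bot']
    intro y hy
    obtain ⟨t, rfl⟩ := Submodule.Quotient.mk_surjective _ y
    rw [hφ, Submodule.Quotient.mk_eq_zero] at hy
    rw [Submodule.Quotient.mk_eq_zero]
    obtain ⟨j, hj, c, hc, hjc⟩ := Submodule.mem_sup.mp hy
    obtain ⟨d, rfl⟩ := Ideal.mem_span_singleton'.mp hc
    have h1 : b * (t - d * a) ∈ J := by
      have : b * (t - d * a) = j := by
        have : b * t = j + d * (a * b) := hjc.symm
        linear_combination this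
      rw [this]; exact hj
    have h2 := hb _ h1
    have : t = (t - d * a) + d * a := by ring
    rw [this]
    exact Ideal.add_mem _ (Ideal.mem_sup_left h2)
      (Ideal.mem_sup_right (Ideal.mem_span_singleton'.mpr ⟨d, rfl⟩))
  · intro y
    obtain ⟨t, rfl⟩ := Submodule.Quotient.mk_surjective _ y
    exact ⟨Submodule.Quotient.mk t, hψ t⟩
  · intro y
    obtain ⟨t, rfl⟩ := Submodule.Quotient.mk_surjective _ y
    rw [hψ, Submodule.Quotient.mk_eq_zero]
    constructor
    · intro ht
      obtain ⟨j, hj, c, hc, rfl⟩ := Submodule.mem_sup.mp ht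
      obtain ⟨d, rfl⟩ := Ideal.mem_span_singleton'.mp hc
      refine ⟨Submodule.Quotient.mk d, ?_⟩
      rw [hφ, Submodule.Quotient.eq]
      have : b * d - (j + d * b) = -j := by ring
      rw [this]
      exact Ideal.neg_mem_iff _ |>.mpr (Ideal.mem_sup_left hj)
    · rintro ⟨z, hz⟩
      obtain ⟨d, rfl⟩ := Submodule.Quotient.mk_surjective _ z
      rw [hφ, Submodule.Quotient.eq] at hz
      have h1 : b * d ∈ Ib := Ideal.mem_sup_right (Ideal.mem_span_singleton'.mpr ⟨d, by ring⟩)
      have h2 : b * d - t ∈ Ib := hab_b hz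
      have : t = b * d - (b * d - t) := by ring
      rw [this]
      exact Ideal.sub_mem _ h1 h2

theorem length_quot_prod_eq {ι : Type v} (J : Ideal A) (S : Finset ι) (w : ι → A)
    (hw : ∀ σ ∈ S, ∀ t, w σ * t ∈ J → t ∈ J) :
    Module.length A (A ⧸ (J ⊔ Ideal.span {∏ σ ∈ S, w σ})) =
      ∑ σ ∈ S, Module.length A (A ⧸ (J ⊔ Ideal.span {w σ})) := by
  classical
  induction S using Finset.induction_on with
  | empty =>
    have : Subsingleton (A ⧸ (J ⊔ Ideal.span {∏ σ ∈ (∅ : Finset ι), w σ})) := by
      rw [Finset.prod_empty, Ideal.span_singleton_one, sup_top_eq]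
      exact Ideal.Quotient.subsingleton_iff.mpr rfl
    rw [Module.length_eq_zero, Finset.sum_empty]
  | insert s S hs ih =>
    rw [Finset.prod_insert hs, Finset.sum_insert hs, mul_comm,
      length_quot_mul_eq J _ (w s) (hw s (Finset.mem_insert_self _ _)),
      ih (fun σ hσ => hw σ (Finset.mem_insert_of_mem hσ)), add_comm]

theorem span_range_update {n : ℕ} (e : Fin n → A) (j : Fin n) (a : A) :
    Ideal.span (Set.range (Function.update e j a)) =
      Ideal.span (e '' {i | i ≠ j}) ⊔ Ideal.span {a} := by
  rw [← Ideal.span_union]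
  congr 1
  ext t
  simp only [Set.mem_range, Set.mem_union, Set.mem_image, Set.mem_ofPred_eq, Set.mem_singleton_iff]
  constructor
  · rintro ⟨i, rfl⟩
    by_cases hi : i = j
    · right; rw [hi, Function.update_self]
    · left; exact ⟨i, hi, by rw [Function.update_of_ne hi]⟩
  · rintro (⟨i, hi, rfl⟩ | rfl)
    · exact ⟨i, by rw [Function.update_of_ne hi]⟩
    · exact ⟨j, by rw [Function.update_self]⟩

end aux

section CM

variable {A : Type u} [CommRing A] [IsLocalRing A] [IsNoetherianRing A]

theorem supportDim_quot_eq_zero_of_radical (I : Ideal A) (hI : I ≤ maximalIdeal A)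
    (hrad : maximalIdeal A ≤ I.radical) :
    Module.supportDim A (A ⧸ (I • ⊤ : Submodule A A)) = 0 := by
  unfold Module.supportDim
  have hsub : ∀ p ∈ Module.support A (A ⧸ (I • ⊤ : Submodule A A)), p = closedPoint A := by
    intro p hp
    rw [Module.support_quotient] at hp
    have h1 : I ≤ p.asIdeal := (PrimeSpectrum.mem_zeroLocus _ _).1 hp.2
    have h2 : maximalIdeal A ≤ p.asIdeal := hrad.trans (p.2.radical_le_iff.2 h1)
    apply PrimeSpectrum.ext
    exact (le_antisymm h2 (le_maximalIdeal p.2.ne_top)).symm
  have hmem : closedPoint A ∈ Module.support A (A ⧸ (I • ⊤ : Submodule A A)) := by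
    rw [Module.support_quotient]
    refine ⟨?_, (PrimeSpectrum.mem_zeroLocus _ _).2 hI⟩
    exact IsLocalRing.closedPoint_mem_support A A
  have : Nonempty (Module.support A (A ⧸ (I • ⊤ : Submodule A A))) := ⟨⟨_, hmem⟩⟩
  have : Subsingleton (Module.support A (A ⧸ (I • ⊤ : Submodule A A))) :=
    ⟨fun x y => Subtype.ext ((hsub x.1 x.2).trans (hsub y.1 y.2).symm)⟩
  exact Order.krullDim_eq_zero

theorem regular_mod_of_sop (hCM : LocCoh.IsCohenMacaulayModule A A) {n : ℕ}
    (hn : ringKrullDim A = n) (a : Fin n → A)
    (ha : ∀ i, a i ∈ maximalIdeal A)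
    (hrad : maximalIdeal A ≤ (Ideal.span (Set.range a)).radical)
    (k : Fin n) (t : A) (ht : a k * t ∈ Ideal.span (a '' {i | i ≠ k})) :
    t ∈ Ideal.span (a '' {i | i ≠ k}) := by
  classical
  set front : List A := ((List.finRange n).erase k).map a with hfront_def
  have hfront : Ideal.ofList front = Ideal.span (a '' {i | i ≠ k}) := by
    unfold Ideal.ofList
    congr 1
    ext y
    simp only [hfront_def, List.mem_map, (List.nodup_finRange n).mem_erase_iff, List.mem_finRange,
      and_true, Set.mem_image, Set.mem_ofPred_eq]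
  set l : List A := front ++ [a k] with hl_def
  have hnpos : 0 < n := k.pos
  have hl_len : l.length = n := by
    rw [hl_def, List.length_append, hfront_def, List.length_map,
      List.length_erase_of_mem (List.mem_finRange k), List.length_finRange, List.length_singleton]
    omega
  have hl_span : Ideal.ofList l = Ideal.span (Set.range a) := by
    rw [hl_def, Ideal.ofList_append, hfront, Ideal.ofList_singleton]
    have := span_range_update a k (a k)
    rw [Function.update_eq_self] at this
    exact this.symm
  have hmem : ∀ r ∈ l, r ∈ maximalIdeal A := by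
    intro r hr
    rw [hl_def, List.mem_append] at hr
    rcases hr with hr | hr
    · rw [hfront_def, List.mem_map] at hr
      obtain ⟨i, -, rfl⟩ := hr
      exact ha i
    · rw [List.mem_singleton] at hr
      rw [hr]; exact ha k
  have hle : Ideal.ofList l ≤ maximalIdeal A := by
    rw [Ideal.ofList, Ideal.span_le]
    exact fun r hr => hmem r hr
  have heq : Module.supportDim A (A ⧸ (Ideal.ofList l • ⊤ : Submodule A A)) + l.length =
      Module.supportDim A A := by
    rw [supportDim_quot_eq_zero_of_radical _ hle (by rw [hl_span]; exact hrad), hl_len,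
      Module.supportDim_self_eq_ringKrullDim, hn, zero_add]
  have hreg := isWeaklyRegular_of_supportDim_drop l A hCM hmem heq
  rw [hl_def, isWeaklyRegular_append_iff, isWeaklyRegular_cons_iff] at hreg
  have hsm := hreg.2.1
  have htop : (Ideal.ofList front • ⊤ : Submodule A A) = Ideal.ofList front := by simp
  have h0 : a k • (Submodule.Quotient.mk t : A ⧸ (Ideal.ofList front • ⊤ : Submodule A A)) = 0 := by
    rw [← Submodule.Quotient.mk_smul, Submodule.Quotient.mk_eq_zero, htop, hfront, smul_eq_mul]
    exact ht
  have h1 := hsm (by rw [h0, smul_zero] :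
    a k • (Submodule.Quotient.mk t : A ⧸ (Ideal.ofList front • ⊤ : Submodule A A)) = a k • 0)
  rw [Submodule.Quotient.mk_eq_zero, htop, hfront] at h1
  exact h1

theorem main (hCM : LocCoh.IsCohenMacaulayModule A A) {n : ℕ} (hn : ringKrullDim A = n)
    {G : Type v} [Fintype G] [Nonempty G] (v : Fin n → G → A)
    (hv : ∀ i σ, v i σ ∈ maximalIdeal A)
    (hrad : ∀ τ : Fin n → G,
      maximalIdeal A ≤ (Ideal.span (Set.range fun i => v i (τ i))).radical)
    (T : Finset (Fin n)) :
    ∀ τ : Fin n → G,
      maximalIdeal A ≤ (Ideal.span (Set.range fun i =>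
        if i ∈ T then ∏ σ, v i σ else v i (τ i))).radical ∧
      (Fintype.card G : ℕ∞) ^ T.card ≤ Module.length A (A ⧸ Ideal.span (Set.range fun i =>
        if i ∈ T then ∏ σ, v i σ else v i (τ i))) := by
  classical
  have hprod : ∀ i, ∏ σ, v i σ ∈ maximalIdeal A := by
    intro i
    obtain ⟨σ₀⟩ := ‹Nonempty G›
    exact Ideal.prod_mem _ (Finset.mem_univ σ₀) (hv i σ₀)
  induction T using Finset.induction_on with
  | empty =>
    intro τ
    have h0 : (fun i => if i ∈ (∅ : Finset (Fin n)) then ∏ σ, v i σ else v i (τ i)) =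
        fun i => v i (τ i) := by
      ext i; simp
    rw [h0, Finset.card_empty, pow_zero]
    refine ⟨hrad τ, ?_⟩
    rw [ENat.one_le_iff_ne_zero, ne_eq, Module.length_eq_zero_iff]
    intro hs
    rw [Submodule.Quotient.subsingleton_iff] at hs
    have hle : Ideal.span (Set.range fun i => v i (τ i)) ≤ maximalIdeal A := by
      rw [Ideal.span_le]
      rintro _ ⟨i, rfl⟩
      exact hv i (τ i)
    have : (1 : A) ∈ maximalIdeal A := hle (hs ▸ Submodule.mem_top)
    exact (Ideal.ne_top_iff_one _).1 (IsLocalRing.maximalIdeal.isMaximal A).ne_top this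
  | insert j T hj ih =>
    intro τ
    set e : Fin n → A := fun i => if i ∈ T then ∏ σ, v i σ else v i (τ i) with he
    have h1 : (fun i => if i ∈ insert j T then ∏ σ, v i σ else v i (τ i)) =
        Function.update e j (∏ σ, v j σ) := by
      ext i
      by_cases hi : i = j
      · subst hi; simp
      · rw [Function.update_of_ne hi, he]
        simp [Finset.mem_insert, hi]
    have h3 : ∀ σ : G, Function.update e j (v j σ) =
        fun i => if i ∈ T then ∏ σ, v i σ else v i (Function.update τ j σ i) := by
      intro σ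
      ext i
      by_cases hi : i = j
      · subst hi; simp [hj]
      · rw [Function.update_of_ne hi, he, Function.update_of_ne hi]
    have hgood : ∀ σ : G, maximalIdeal A ≤
        (Ideal.span (Set.range (Function.update e j (v j σ)))).radical := by
      intro σ
      rw [h3 σ]
      exact (ih (Function.update τ j σ)).1
    have hlen : ∀ σ : G, (Fintype.card G : ℕ∞) ^ T.card ≤
        Module.length A (A ⧸ Ideal.span (Set.range (Function.update e j (v j σ)))) := by
      intro σ
      rw [h3 σ]
      exact (ih (Function.update τ j σ)).2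
    have hmem : ∀ σ : G, ∀ i, Function.update e j (v j σ) i ∈ maximalIdeal A := by
      intro σ i
      by_cases hi : i = j
      · subst hi; rw [Function.update_self]; exact hv _ σ
      · rw [Function.update_of_ne hi, he]
        show (if i ∈ T then ∏ σ, v i σ else v i (τ i)) ∈ maximalIdeal A
        split_ifs
        · exact hprod i
        · exact hv i (τ i)
    have himg : ∀ σ : G, (Function.update e j (v j σ)) '' {i | i ≠ j} = e '' {i | i ≠ j} := by
      intro σ
      ext y
      simp only [Set.mem_image, Set.mem_ofPred_eq]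
      constructor
      · rintro ⟨i, hi, rfl⟩
        exact ⟨i, hi, by rw [Function.update_of_ne hi]⟩
      · rintro ⟨i, hi, rfl⟩
        exact ⟨i, hi, by rw [Function.update_of_ne hi]⟩
    have hregJ : ∀ σ : G, ∀ t, v j σ * t ∈ Ideal.span (e '' {i | i ≠ j}) →
        t ∈ Ideal.span (e '' {i | i ≠ j}) := by
      intro σ t ht
      have := regular_mod_of_sop hCM hn (Function.update e j (v j σ)) (hmem σ) (hgood σ) j t
      rw [himg σ, Function.update_self] at this
      exact this ht
    rw [h1, span_range_update]
    constructor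
    · rw [Ideal.radical_eq_sInf]
      refine le_sInf ?_
      rintro p ⟨hp1, hp2⟩
      have hJ : Ideal.span (e '' {i | i ≠ j}) ≤ p := le_sup_left.trans hp1
      have hpr : ∏ σ, v j σ ∈ p :=
        hp1 (Ideal.mem_sup_right (Ideal.mem_span_singleton_self _))
      rw [Ideal.IsPrime.prod_mem_iff] at hpr
      obtain ⟨σ, -, hσ⟩ := hpr
      have h4 : Ideal.span (Set.range (Function.update e j (v j σ))) ≤ p := by
        rw [span_range_update]
        exact sup_le hJ ((Ideal.span_singleton_le_iff_mem _).2 hσ)
      exact (hgood σ).trans (hp2.radical_le_iff.2 h4)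
    · rw [length_quot_prod_eq _ Finset.univ (v j) (fun σ _ => hregJ σ)]
      have h2 : ∀ σ ∈ (Finset.univ : Finset G), (Fintype.card G : ℕ∞) ^ T.card ≤
          Module.length A (A ⧸ (Ideal.span (e '' {i | i ≠ j}) ⊔ Ideal.span {v j σ})) := by
        intro σ _
        rw [← span_range_update]
        exact hlen σ
      refine le_trans ?_ (Finset.card_nsmul_le_sum _ _ _ h2)
      rw [Finset.card_insert_of_notMem hj, Finset.card_univ, nsmul_eq_mul, pow_succ]
      exact le_of_eq (by ring)

end CM


/-- Let `A` be a regular local ring of Krull dimension `n` with maximal ideal `m` generated by `u_1, …,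
u_n`, let a finite group `G` of order `g` act on `A` by ring automorphisms, and suppose `u` is
weakly admissible: for every choice `σ_1, …, σ_n ∈ G` the radical of `(σ_1 u_1, …, σ_n u_n)`
contains `m`. With `x_i = ∏_{σ ∈ G} σ u_i` the norms, the length of `A / (x_1, …, x_n)` is at least
`g ^ n` (so the finite flat map from `k[[x_1, …, x_n]]` has degree at least `g ^ n`). (The published
statement is for a complete regular local ring containing a `G`-fixed field of representatives; this
row does not assume those.) -/
theorem result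
    (A : Type u) [CommRing A] [IsRegularLocalRing A]
    (G : Type v) [Group G] [Fintype G] [MulSemiringAction G A]
    (n : ℕ) (hn : ringKrullDim A = n) (u : Fin n → A)
    (hu : Ideal.span (Set.range u) = IsLocalRing.maximalIdeal A)
    (hwa : ∀ τ : Fin n → G,
      IsLocalRing.maximalIdeal A ≤ (Ideal.span (Set.range fun i => τ i • u i)).radical) :
    ((Fintype.card G ^ n : ℕ) : ℕ∞) ≤
      Module.length A (A ⧸ Ideal.span (Set.range fun i => ∏ σ : G, σ • u i)) := by
  classical
  have hum : ∀ i, u i ∈ maximalIdeal A := by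
    intro i
    rw [← hu]
    exact Ideal.subset_span ⟨i, rfl⟩
  have hreg := Groth.Agent.S0559.result A n hn u hu
  have hCM : LocCoh.IsCohenMacaulayModule A A := by
    unfold LocCoh.IsCohenMacaulayModule
    apply le_antisymm
    · rw [Module.supportDim_self_eq_ringKrullDim, hn]
      have h1 := length_le_idealDepth (maximalIdeal A) (List.ofFn u) hreg.toIsWeaklyRegular
        (by
          intro r hr
          rw [List.mem_ofFn] at hr
          obtain ⟨i, rfl⟩ := hr
          exact hum i)
      rw [List.length_ofFn] at h1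
      have h2 : (n : ℕ∞) ≤ LocCoh.depth A A := h1
      exact_mod_cast h2
    · exact depth_le_supportDim
  have hv : ∀ (i : Fin n) (σ : G), σ • u i ∈ maximalIdeal A := by
    intro i σ
    rw [mem_maximalIdeal, mem_nonunits_iff]
    intro hunit
    have h1 : IsUnit (σ⁻¹ • (σ • u i)) :=
      hunit.map (MulSemiringAction.toRingHom G A σ⁻¹)
    rw [inv_smul_smul] at h1
    exact (mem_nonunits_iff.1 ((mem_maximalIdeal _).1 (hum i))) h1
  have h := (main hCM hn (fun i σ => σ • u i) hv hwa Finset.univ (fun _ => 1)).2
  have hfun : (fun i => if i ∈ (Finset.univ : Finset (Fin n)) then ∏ σ : G, σ • u i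
      else (1 : G) • u i) = fun i => ∏ σ : G, σ • u i := by
    ext i; simp
  rw [hfun, Finset.card_univ, Fintype.card_fin] at h
  push_cast
  exact h

end Groth.Agent.S15797
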