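import Groth.Statements.S1581
import Groth.Agent.Lib.Helper9.ProperOver4

set_option autoImplicit false
universe u
open CategoryTheory CategoryTheory.Limits AlgebraicGeometry
open Variety

namespace Groth.Agent.S1581

open CategoryTheory CategoryTheory.Limits AlgebraicGeometry in
theorem fieldExt_fpqc (k : Type u) [Field k] (K : Type u) [Field K] [Algebra k K] :
    Flat (Spec.map (CommRingCat.ofHom (algebraMap k K))) ∧
    Surjective (Spec.map (CommRingCat.ofHom (algebraMap k K))) ∧
    QuasiCompact (Spec.map (CommRingCat.ofHom (algebraMap k K))) := by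
  refine ⟨?_, ?_, inferInstance⟩
  · rw [HasRingHomProperty.Spec_iff (P := @Flat)]
    show (algebraMap k K).Flat
    rw [RingHom.flat_algebraMap_iff]
    infer_instance
  · constructor
    intro x
    refine ⟨⟨⊥, Ideal.isPrime_bot⟩, ?_⟩
    exact Subsingleton.elim _ _

/-- Let X be a scheme over a field k and K a field extension of k. If X_K is proper over K then X is
proper over k. -/
theorem result (k : Type u) [Field k] (X : Scheme.{u}) [X.Over (Spec (CommRingCat.of k))] (K : Type u) [Field K] [Algebra k K]
    [IsProper (Curv2.bcSnd k X K)] : IsProper (X ↘ (Spec (CommRingCat.of k))) := by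
  obtain ⟨h1, h2, h3⟩ := fieldExt_fpqc k K
  exact Groth.Agent.Lib.Helper9.ProperOver.isProper_of_pullback_snd_fpqc
    (X ↘ Spec (CommRingCat.of k)) (Spec.map (CommRingCat.ofHom (algebraMap k K))) inferInstance

end Groth.Agent.S1581
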