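import Groth.Statements.S15811
import Mathlib.FieldTheory.Finite.Basic
import Mathlib.Algebra.Polynomial.Splits
import Mathlib.RingTheory.IntegralClosure.IntegrallyClosed
import Mathlib.Algebra.CharP.Algebra
import Mathlib.RingTheory.Localization.FractionRing

set_option autoImplicit false
universe u
open WildQuot

namespace Groth.Agent.S15811

open Polynomial

theorem splitsZ (p : ℕ) [Fact p.Prime] : (X ^ p - X : (ZMod p)[X]).Splits := by
  have hp : p.Prime := Fact.out
  rw [splits_iff_card_roots]
  have := FiniteField.roots_X_pow_card_sub_X (ZMod p)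
  rw [ZMod.card] at this
  rw [this, FiniteField.X_pow_card_sub_X_natDegree_eq _ hp.one_lt]
  simp [ZMod.card]

theorem splitsK (p : ℕ) [Fact p.Prime] (K : Type*) [Field K] [CharP K p] (b : K) (hb : b ≠ 0) :
    (X ^ p - C (b ^ (p - 1)) * X : K[X]).Splits := by
  have hp : p.Prime := Fact.out
  have h1 : (X ^ p - X : K[X]).Splits := by
    have := (splitsZ p).map (ZMod.castHom (dvd_refl p) K)
    simpa using this
  have h2 : (X ^ p - C (b ^ (p - 1)) * X : K[X]) = C (b ^ p) * (X ^ p - X : K[X]).comp (C b⁻¹ * X) := by
    have hpp : p = (p - 1) + 1 := by have := hp.pos; omega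
    simp only [sub_comp, pow_comp, X_comp, mul_pow, ← C_pow, mul_sub, ← mul_assoc, ← C_mul]
    congr 2
    · rw [← mul_pow, mul_inv_cancel₀ hb, one_pow, C_1, one_mul]
    · congr 1
      conv_rhs => rw [hpp, pow_succ, mul_assoc, mul_inv_cancel₀ hb, mul_one]
  rw [h2]
  refine (h1.comp_of_natDegree_le_one ?_).C_mul _
  exact (natDegree_C_mul_le _ _).trans natDegree_X_le

/-- Let `R` be an integrally closed domain of prime characteristic `p` with fraction field `K`, and `α ∈
R`. Then `α ≠ 0` and the polynomial `T ^ p - α T` splits into linear factors over `K` — which says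
that the finite flat group scheme `Spec R[T]/(T ^ p - α T)` of order `p` has constant generic fibre
(its `p` roots are then distinct) — if and only if `α = a ^ (p-1)` for some nonzero `a ∈ R`. (The
published statement is that the generic fibre of the finite flat group scheme of order `p` with
parameters `α, β` satisfying `α β = 0`, whose underlying scheme is `Spec R[T]/(T ^ p - α T)`, is
constant if and only if `β = 0` and `α` is the `(p-1)`-th power of a nonzero element of `R`; this
row states the polynomial condition, in which `α ≠ 0` already forces `β = 0` over a domain.) -/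
theorem result
    (p : ℕ) [Fact p.Prime] (R : Type u) [CommRing R] [IsDomain R] [IsIntegrallyClosed R]
    [CharP R p] (α : R) :
    (α ≠ 0 ∧ (Polynomial.map (algebraMap R (FractionRing R))
        (Polynomial.X ^ p - Polynomial.C α * Polynomial.X)).Splits) ↔
      ∃ a : R, a ≠ 0 ∧ α = a ^ (p - 1) := by
  have hp : p.Prime := Fact.out
  have hp1 : p - 1 ≠ 0 := by have := hp.two_le; omega
  have hpp : p = (p - 1) + 1 := by have := hp.pos; omega
  have hinj := IsFractionRing.injective R (FractionRing R)
  haveI : CharP (FractionRing R) p := charP_of_injective_algebraMap hinj p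
  constructor
  · rintro ⟨hα, hs⟩
    have hfac : (X ^ p - C α * X : R[X]) = X * (X ^ (p - 1) - C α) := by
      conv_lhs => rw [hpp, pow_succ]
      ring
    rw [hfac, Polynomial.map_mul, map_X, splits_X_mul] at hs
    have hmonic : (X ^ (p - 1) - C α : R[X]).Monic := monic_X_pow_sub_C α hp1
    have hdeg : (Polynomial.map (algebraMap R (FractionRing R)) (X ^ (p - 1) - C α)).degree ≠ 0 := by
      rw [degree_map_eq_of_injective hinj, degree_X_pow_sub_C (Nat.pos_of_ne_zero hp1)]
      exact_mod_cast hp1
    obtain ⟨b, hb⟩ := hs.exists_eval_eq_zero hdeg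
    rw [eval_map] at hb
    have hint : IsIntegral R b := ⟨_, hmonic, hb⟩
    obtain ⟨a, rfl⟩ := IsIntegrallyClosed.isIntegral_iff.mp hint
    rw [eval₂_sub, eval₂_pow, eval₂_X, eval₂_C, ← map_pow, sub_eq_zero] at hb
    have hα' : α = a ^ (p - 1) := (hinj hb).symm
    refine ⟨a, ?_, hα'⟩
    rintro rfl
    rw [zero_pow hp1] at hα'
    exact hα hα'
  · rintro ⟨a, ha, rfl⟩
    refine ⟨pow_ne_zero _ ha, ?_⟩
    have hb : algebraMap R (FractionRing R) a ≠ 0 := by
      rwa [Ne, map_eq_zero_iff _ hinj]
    have := splitsK p (FractionRing R) _ hb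
    simpa using this

end Groth.Agent.S15811
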