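import Groth.Statements.S15813
import Mathlib
-- import your own Groth.Agent.* helpers here

set_option autoImplicit false
set_option linter.unusedSectionVars false
universe u
open WildQuot

namespace Groth.Agent.S15813

open PowerSeries

section PS
variable {k : Type u} [Field k]

theorem isUnit_iff_cc (a : PowerSeries k) : IsUnit a ↔ constantCoeff a ≠ 0 := by
  rw [PowerSeries.isUnit_iff_constantCoeff, isUnit_iff_ne_zero]

theorem cc_aut_X (τ : PowerSeries k ≃ₐ[k] PowerSeries k) : constantCoeff (τ X) = 0 := by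
  by_contra h
  have h1 : IsUnit (τ (X : PowerSeries k)) := (isUnit_iff_cc _).2 h
  have h2 : IsUnit (X : PowerSeries k) := by
    have := h1.map τ.symm
    simpa using this
  rw [isUnit_iff_cc] at h2
  simp at h2

theorem aut_C (τ : PowerSeries k ≃ₐ[k] PowerSeries k) (c : k) : τ (C c) = C c := by
  have := τ.commutes c
  simpa using this

theorem cc_aut (τ : PowerSeries k ≃ₐ[k] PowerSeries k) (a : PowerSeries k) :
    constantCoeff (τ a) = constantCoeff a := by
  conv_lhs => rw [eq_X_mul_shift_add_const a]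
  rw [map_add, map_mul, map_add, map_mul, cc_aut_X, zero_mul, zero_add, aut_C]
  simp

theorem aut_X_eq (τ : PowerSeries k ≃ₐ[k] PowerSeries k) :
    ∃ g : PowerSeries k, IsUnit g ∧ τ X = X * g := by
  obtain ⟨g, hg⟩ := X_dvd_iff.2 (cc_aut_X τ)
  obtain ⟨g', hg'⟩ := X_dvd_iff.2 (cc_aut_X τ.symm)
  refine ⟨g, ?_, hg⟩
  have h1 : (X : PowerSeries k) * (g * τ g') = X * 1 := by
    have : τ (τ.symm X) = X := τ.apply_symm_apply X
    rw [hg', map_mul, hg] at this
    rw [mul_one, ← mul_assoc]; exact this
  have h2 : g * τ g' = 1 := mul_left_cancel₀ X_ne_zero h1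
  exact IsUnit.of_mul_eq_one _ h2

theorem X_pow_dvd_aut_sub (σ : PowerSeries k ≃ₐ[k] PowerSeries k) (m : ℕ)
    (hm : (X : PowerSeries k) ^ (m + 1) ∣ σ X - X) :
    ∀ a : PowerSeries k, (X : PowerSeries k) ^ (m + 1) ∣ σ a - a := by
  have key : ∀ N : ℕ, N ≤ m + 1 → ∀ a : PowerSeries k, (X : PowerSeries k) ^ N ∣ σ a - a := by
    intro N
    induction N with
    | zero => intro _ a; simp
    | succ N ih =>
      intro hN a
      have e : σ a - a = (σ X - X) * σ (mk fun p => coeff (p + 1) a)
          + X * (σ (mk fun p => coeff (p + 1) a) - (mk fun p => coeff (p + 1) a)) := by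
        conv_lhs => rw [eq_X_mul_shift_add_const a]
        rw [map_add, map_mul, aut_C]
        ring
      rw [e]
      apply dvd_add
      · exact Dvd.dvd.mul_right ((pow_dvd_pow X hN).trans hm) _
      · rw [pow_succ']
        exact mul_dvd_mul_left X (ih (by omega) _)
  exact key (m + 1) le_rfl


theorem order_unit (a : PowerSeries k) (h : constantCoeff a ≠ 0) : a.order = 0 :=
  order_zero_of_unit ((isUnit_iff_cc a).2 h)

theorem core (p : ℕ) [Fact p.Prime] [CharP k p]
    (σ : PowerSeries k ≃ₐ[k] PowerSeries k) (hσp : σ ^ p = 1)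
    (m : ℕ) (hm : (σ PowerSeries.X - PowerSeries.X).order = ((m + 1 : ℕ) : ℕ∞))
    (f : PowerSeries k) (hf0 : PowerSeries.constantCoeff f ≠ 0)
    (μ : ℕ) (hμ : 0 < μ) (hpμ : ¬ p ∣ μ) (a : PowerSeries k) (n j : ℕ)
    (E1 : (∏ i ∈ Finset.range p, (σ ^ i) PowerSeries.X) ^ μ * (a ^ p - a * X ^ (n * (p - 1)))
      = f * X ^ (n * p))
    (E3 : σ a * X ^ n - a * (σ X) ^ n = (j : PowerSeries k) * X ^ n * (σ X) ^ n) : μ = m := by
  have hp : p.Prime := Fact.out
  have hp1 : 1 ≤ p := hp.one_lt.le
  obtain ⟨g, hgu, hg⟩ := aut_X_eq σ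
  set g₀ := constantCoeff g with hg₀
  -- iterates
  have hG : ∀ i : ℕ, ∃ G : PowerSeries k, constantCoeff G = g₀ ^ i ∧ (σ ^ i) X = X * G := by
    intro i
    induction i with
    | zero => exact ⟨1, by simp, by simp⟩
    | succ i ih =>
      obtain ⟨G, hGc, hGe⟩ := ih
      refine ⟨g * σ G, ?_, ?_⟩
      · rw [map_mul, cc_aut, hGc, pow_succ, mul_comm]
      · rw [pow_succ', AlgEquiv.mul_apply, hGe, map_mul, hg, mul_assoc]
  choose Gi hGic hGie using hG
  have hg₀p : g₀ ^ p = 1 := by
    have h1 := hGie p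
    rw [hσp, AlgEquiv.one_apply] at h1
    have h2 : (X : PowerSeries k) * 1 = X * Gi p := by rw [mul_one]; exact h1
    have h3 := mul_left_cancel₀ X_ne_zero h2
    rw [← hGic p, ← h3]; simp
  have hg₀1 : g₀ = 1 := by
    have : (g₀ - 1) ^ p = 0 := by rw [sub_pow_char, hg₀p, one_pow, sub_self]
    exact sub_eq_zero.1 (pow_eq_zero_iff hp.ne_zero |>.1 this)
  -- the norm
  set x := ∏ i ∈ Finset.range p, (σ ^ i) (X : PowerSeries k) with hx
  set G := ∏ i ∈ Finset.range p, Gi i with hGdef
  have hxG : x = X ^ p * G := by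
    rw [hx, hGdef]
    simp only [hGie, Finset.prod_mul_distrib, Finset.prod_const, Finset.card_range]
  have hGc : constantCoeff G = 1 := by
    rw [hGdef, map_prod]
    simp only [hGic, hg₀1, one_pow, Finset.prod_const_one]
  -- g - 1 = X^m d
  have hgo : (g - 1).order = (m : ℕ∞) := by
    have e : σ X - X = X * (g - 1) := by rw [hg]; ring
    rw [e, order_mul, order_X] at hm
    generalize (g - 1).order = o at hm
    induction o using ENat.recTopCoe with
    | top =>
      exfalso
      rw [add_top] at hm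
      exact ENat.top_ne_coe (m + 1) hm
    | coe t =>
      have : (1 : ℕ) + t = m + 1 := by exact_mod_cast hm
      have : t = m := by omega
      rw [this]
  have hg1ne : g - 1 ≠ 0 := by
    intro h; rw [h, order_zero] at hgo; exact ENat.top_ne_coe _ hgo
  set d := divXPowOrder (g - 1) with hd
  have hdc : constantCoeff d ≠ 0 := fun h => hg1ne (constantCoeff_divXPowOrder_eq_zero_iff.1 h)
  have hgd : g - 1 = X ^ m * d := by
    have := X_pow_order_mul_divXPowOrder (f := g - 1)
    rw [hgo] at this
    simpa using this.symm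
  have hL2 : ∀ b : PowerSeries k, (X : PowerSeries k) ^ (m + 1) ∣ σ b - b := by
    apply X_pow_dvd_aut_sub
    refine ⟨d, ?_⟩
    rw [hg, pow_succ', mul_assoc, ← hgd]; ring
  -- a ≠ 0
  have hfne : f ≠ 0 := fun h => hf0 (by rw [h]; simp)
  have ha : a ≠ 0 := by
    intro h
    rw [h] at E1
    simp only [ne_eq, hp.ne_zero, not_false_eq_true, zero_pow, zero_mul, sub_self, mul_zero] at E1
    have := mul_eq_zero.1 E1.symm
    rcases this with h1 | h1
    · exact hfne h1
    · exact (pow_ne_zero _ X_ne_zero) h1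
  set α := a.order.toNat with hα
  have hao : a.order = (α : ℕ∞) := (coe_toNat_order ha).symm
  set ε := divXPowOrder a with hε
  have hεc : constantCoeff ε ≠ 0 := fun h => ha (constantCoeff_divXPowOrder_eq_zero_iff.1 h)
  have haε : a = X ^ α * ε := (X_pow_order_mul_divXPowOrder (f := a)).symm
  -- orders in E1
  have hαn : α + μ = n := by
    set D := a ^ p - a * X ^ (n * (p - 1)) with hD
    have ho1 : (a ^ p).order = ((p * α : ℕ) : ℕ∞) := by
      rw [order_pow, hao]; push_cast; simp
    have ho2 : (a * X ^ (n * (p - 1))).order = ((α + n * (p - 1) : ℕ) : ℕ∞) := by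
      rw [order_mul, order_X_pow, hao]; push_cast; rfl
    have hxo : (x ^ μ).order = ((p * μ : ℕ) : ℕ∞) := by
      rw [hxG, mul_pow, order_mul, ← pow_mul, order_X_pow, order_unit _ (by rw [map_pow, hGc, one_pow]; exact one_ne_zero)]
      simp
    have hRo : (f * X ^ (n * p)).order = ((n * p : ℕ) : ℕ∞) := by
      rw [order_mul, order_X_pow, order_unit f hf0, zero_add]
    have hDo : ((p * μ : ℕ) : ℕ∞) + D.order = ((n * p : ℕ) : ℕ∞) := by
      rw [← hxo, ← order_mul, E1, hRo]
    have hDne : D ≠ 0 := by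
      intro h
      rw [h, order_zero, add_top] at hDo
      exact ENat.top_ne_coe _ hDo
    set δ := D.order.toNat with hδ
    have hDδ : D.order = (δ : ℕ∞) := (coe_toNat_order hDne).symm
    rw [hDδ] at hDo
    have hnat : p * μ + δ = n * p := by exact_mod_cast hDo
    have hmin : min ((p * α : ℕ) : ℕ∞) ((α + n * (p - 1) : ℕ) : ℕ∞) ≤ (δ : ℕ∞) := by
      rw [← hDδ, hD, sub_eq_add_neg, ← ho1, ← ho2, ← order_neg (a * X ^ (n * (p - 1)))]
      exact min_order_le_order_add _ _
    have hpμ' : 0 < p * μ := Nat.mul_pos hp.pos hμ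
    have hnp : n * p = n + n * (p - 1) := by
      cases p with
      | zero => omega
      | succ q => simp [Nat.mul_succ, Nat.add_comm]
    have hlt : α < n := by
      by_contra hge
      rw [not_lt] at hge
      have h1 : n * p ≤ p * α := by rw [mul_comm]; exact Nat.mul_le_mul_left p hge
      have h2 : n * p ≤ α + n * (p - 1) := by rw [hnp]; omega
      have : ((n * p : ℕ) : ℕ∞) ≤ (δ : ℕ∞) := le_trans (le_min (by exact_mod_cast h1) (by exact_mod_cast h2)) hmin
      have : n * p ≤ δ := by exact_mod_cast this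
      omega
    have hne : (a ^ p).order ≠ (-(a * X ^ (n * (p - 1)))).order := by
      rw [order_neg, ho1, ho2]
      intro h
      have h' : p * α = α + n * (p - 1) := by exact_mod_cast h
      have : p * α = α + α * (p - 1) := by
        cases p with
        | zero => omega
        | succ q => simp [Nat.succ_mul, Nat.mul_comm, Nat.add_comm]
      have h3 : α * (p - 1) = n * (p - 1) := by omega
      have h4 : 0 < p - 1 := by have := hp.one_lt; omega
      have := Nat.eq_of_mul_eq_mul_right h4 h3
      omega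
    have hDeq : D.order = ((p * α : ℕ) : ℕ∞) := by
      rw [hD, sub_eq_add_neg, order_add_of_order_ne _ _ hne, order_neg, ho1, ho2]
      apply min_eq_left
      have : p * α ≤ α + n * (p - 1) := by
        have : p * α = α + α * (p - 1) := by
          cases p with
          | zero => omega
          | succ q => simp [Nat.succ_mul, Nat.mul_comm, Nat.add_comm]
        rw [this]
        have := Nat.mul_le_mul_right (p - 1) hlt.le
        omega
      exact_mod_cast this
    rw [hDδ] at hDeq
    have : δ = p * α := by exact_mod_cast hDeq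
    rw [this] at hnat
    have h5 : p * (μ + α) = p * n := by rw [mul_add, hnat, mul_comm]
    have := Nat.eq_of_mul_eq_mul_left hp.pos h5
    omega
  -- the final comparison
  obtain ⟨w, hw⟩ := hL2 ε
  have hσa : σ a = X ^ α * (g ^ α * σ ε) := by
    rw [haε, map_mul, map_pow, hg, mul_pow, mul_assoc]
  have hgc : constantCoeff g = 1 := hg₀1
  set S := ∑ i ∈ Finset.range μ, g ^ i with hS
  have hSc : constantCoeff S = (μ : k) := by
    rw [hS, map_sum]
    simp [hgc]
  have hμk : (μ : k) ≠ 0 := by
    intro h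
    exact hpμ ((CharP.cast_eq_zero_iff k p μ).1 h)
  have hgS : g ^ μ - 1 = X ^ m * d * S := by
    rw [← hgd, hS, mul_geom_sum]
  have E4 : (X : PowerSeries k) ^ m * (X * (g ^ α * w) - ε * g ^ α * d * S)
      = X ^ μ * ((j : PowerSeries k) * g ^ n) := by
    have h1 : (X : PowerSeries k) ^ (α + n) * (g ^ α * σ ε - ε * g ^ n)
        = X ^ (α + n) * (X ^ μ * ((j : PowerSeries k) * g ^ n)) := by
      have := E3
      rw [hσa, hg, haε] at this
      rw [← hαn] at this ⊢
      linear_combination this
    have h2 := mul_left_cancel₀ (pow_ne_zero _ X_ne_zero) h1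
    rw [← h2]
    have h3 : g ^ n = g ^ α * g ^ μ := by rw [← hαn, pow_add]
    have h4 : σ ε = ε + X ^ (m + 1) * w := by rw [← hw]; ring
    have h5 : g ^ μ = 1 + X ^ m * d * S := by rw [← hgS]; ring
    rw [h3, h4, h5]
    ring
  set U := X * (g ^ α * w) - ε * g ^ α * d * S with hU
  have hUc : constantCoeff U ≠ 0 := by
    rw [hU]
    simp only [map_sub, map_mul, map_pow, hgc, hSc, constantCoeff_X, zero_mul, one_pow, mul_one,
      zero_sub, ne_eq, neg_eq_zero]
    exact mul_ne_zero (mul_ne_zero hεc hdc) hμk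
  have hLo : ((X : PowerSeries k) ^ m * U).order = (m : ℕ∞) := by
    rw [order_mul, order_X_pow, order_unit U hUc, add_zero]
  by_cases hj : (j : k) = 0
  · exfalso
    have : ((j : ℕ) : PowerSeries k) = 0 := by
      rw [← map_natCast (C : k →+* PowerSeries k), hj, map_zero]
    rw [this, zero_mul, mul_zero] at E4
    rw [E4, order_zero] at hLo
    exact ENat.top_ne_coe _ hLo
  · have hjc : constantCoeff ((j : PowerSeries k) * g ^ n) ≠ 0 := by
      rw [map_mul, map_pow, hgc, one_pow, mul_one, ← map_natCast (C : k →+* PowerSeries k)]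
      simpa using hj
    have hRo : ((X : PowerSeries k) ^ μ * ((j : PowerSeries k) * g ^ n)).order = (μ : ℕ∞) := by
      rw [order_mul, order_X_pow, order_unit _ hjc, add_zero]
    rw [E4, hRo] at hLo
    exact_mod_cast hLo

end PS

theorem exists_nat_of_pow_eq {K : Type*} [Field K] (p : ℕ) [Fact p.Prime] [CharP K p] (c : K)
    (hc : c ^ p = c) : ∃ j : ℕ, c = j := by
  classical
  have hp : p.Prime := Fact.out
  by_contra hne
  push Not at hne
  set P : Polynomial K := Polynomial.X ^ p - Polynomial.X with hP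
  have hPne : P ≠ 0 := FiniteField.X_pow_card_sub_X_ne_zero K hp.one_lt
  have hPdeg : P.natDegree = p := FiniteField.X_pow_card_sub_X_natDegree_eq K hp.one_lt
  set S : Finset K := (Finset.range p).image (fun j : ℕ => (j : K)) with hS
  have hScard : S.card = p := by
    rw [hS, Finset.card_image_of_injOn, Finset.card_range]
    intro i hi j hj hij
    exact CharP.natCast_injOn_Iio K p (by simpa using hi) (by simpa using hj) hij
  have hcS : c ∉ S := by
    intro h
    rw [hS, Finset.mem_image] at h
    obtain ⟨j, _, hj⟩ := h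
    exact hne j hj.symm
  have hsub : (insert c S).val ⊆ P.roots := by
    intro y hy
    rw [Finset.mem_val, Finset.mem_insert] at hy
    rw [Polynomial.mem_roots hPne, Polynomial.IsRoot.def, hP]
    simp only [Polynomial.eval_sub, Polynomial.eval_pow, Polynomial.eval_X]
    rcases hy with rfl | hy
    · rw [hc, sub_self]
    · rw [hS, Finset.mem_image] at hy
      obtain ⟨j, _, rfl⟩ := hy
      rw [sub_eq_zero]
      have e : ((j : ℕ) : K) = ZMod.castHom (dvd_refl p) K (j : ZMod p) := (map_natCast _ j).symm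
      rw [e, ← map_pow, ZMod.pow_card]
  have := Polynomial.card_le_degree_of_subset_roots hsub
  rw [Finset.card_insert_of_notMem hcS, hScard, hPdeg] at this
  omega

/-- Let `k` be a field of characteristic `p > 0`, `A = k[[u]]`, and `σ` a `k`-algebra automorphism of
`A` of order exactly `p`, with ramification break `m`: `σ u - u` has order `m + 1`. Let `x = ∏_{i <
p} σ^i u` be the norm of `u`, let `f ∈ A` be `σ`-invariant with nonzero constant term (a unit of the
invariant ring `k[[x]]`), let `μ > 0` be prime to `p`, and let `z ∈ Frac(A)` satisfy the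
Artin–Schreier equation `z ^ p - z = f / x ^ μ`. Then `μ = m`. (The published statement also records
that `Frac(A) = Frac(A^σ)(z)`; that follows from the equation since `p` does not divide `μ`, so it
is not repeated as a hypothesis.) -/
theorem result
    (p : ℕ) [Fact p.Prime] (k : Type u) [Field k] [CharP k p]
    (σ : PowerSeries k ≃ₐ[k] PowerSeries k) (hσp : σ ^ p = 1) (hσ1 : σ ≠ 1)
    (m : ℕ) (hm : (σ PowerSeries.X - PowerSeries.X).order = ((m + 1 : ℕ) : ℕ∞))
    (f : PowerSeries k) (hfσ : σ f = f) (hf0 : PowerSeries.constantCoeff f ≠ 0)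
    (μ : ℕ) (hμ : 0 < μ) (hpμ : ¬ p ∣ μ)
    (z : FractionRing (PowerSeries k))
    (hz : z ^ p - z = algebraMap (PowerSeries k) (FractionRing (PowerSeries k)) f /
      algebraMap (PowerSeries k) (FractionRing (PowerSeries k))
        (∏ i ∈ Finset.range p, (σ ^ i) PowerSeries.X) ^ μ) :
    μ = m := by
  have hp : p.Prime := Fact.out
  have hι : Function.Injective (algebraMap (PowerSeries k) (FractionRing (PowerSeries k))) :=
    IsFractionRing.injective _ _
  have : CharP (PowerSeries k) p :=
    charP_of_injective_algebraMap (algebraMap k (PowerSeries k)).injective p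
  have : CharP (FractionRing (PowerSeries k)) p := charP_of_injective_algebraMap hι p
  set ι := algebraMap (PowerSeries k) (FractionRing (PowerSeries k)) with hιdef
  set x := ∏ i ∈ Finset.range p, (σ ^ i) (X : PowerSeries k) with hx
  have hXne : (X : PowerSeries k) ≠ 0 := X_ne_zero
  have hσXne : σ (X : PowerSeries k) ≠ 0 := fun h => hXne ((map_eq_zero_iff _ σ.injective).1 h)
  have hxne : x ≠ 0 := by
    rw [hx, Finset.prod_ne_zero_iff]
    intro i _ h
    exact hXne ((map_eq_zero_iff _ (σ ^ i).injective).1 h)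
  have hσx : σ x = x := by
    have h1 : σ x = ∏ i ∈ Finset.range p, (σ ^ (i + 1)) (X : PowerSeries k) := by
      rw [hx, map_prod]
      apply Finset.prod_congr rfl
      intro i _
      rw [pow_succ', AlgEquiv.mul_apply]
    have h2 : (∏ i ∈ Finset.range p, (σ ^ (i + 1)) (X : PowerSeries k)) * (σ ^ 0) X
        = x * (σ ^ p) X := by
      rw [← Finset.prod_range_succ' (fun i => (σ ^ i) (X : PowerSeries k)) p,
        Finset.prod_range_succ]
    rw [hσp, pow_zero] at h2
    rw [h1]
    exact mul_right_cancel₀ (by simpa using hXne) h2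
  -- write z as a fraction with denominator a power of X
  obtain ⟨a₀, b₀, hb₀, hz0⟩ := IsFractionRing.div_surjective (A := PowerSeries k) z
  have hb₀ne : b₀ ≠ 0 := nonZeroDivisors.ne_zero hb₀
  set β := b₀.order.toNat with hβ
  set η := divXPowOrder b₀ with hη
  have hηc : constantCoeff η ≠ 0 := fun h => hb₀ne (constantCoeff_divXPowOrder_eq_zero_iff.1 h)
  have hb₀eq : b₀ = X ^ β * η := (X_pow_order_mul_divXPowOrder (f := b₀)).symm
  have hηinv : η * η⁻¹ = 1 := PowerSeries.mul_inv_cancel η hηc
  set a := a₀ * η⁻¹ with ha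
  have hY : ι X ≠ 0 := fun h => hXne (hι (by rw [h, map_zero]))
  have hσY : ι (σ X) ≠ 0 := fun h => hσXne (hι (by rw [h, map_zero]))
  have hZ : ι x ≠ 0 := fun h => hxne (hι (by rw [h, map_zero]))
  have hz1 : z = ι a / ι X ^ β := by
    rw [← hz0]
    have hb : ι b₀ ≠ 0 := fun h => hb₀ne (hι (by rw [h, map_zero]))
    rw [div_eq_div_iff hb (pow_ne_zero _ hY), hb₀eq, ha]
    simp only [map_mul, map_pow]
    have : ι η * ι η⁻¹ = 1 := by rw [← map_mul, hηinv, map_one]
    linear_combination (-(ι a₀ * ι X ^ β)) * this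
  have hsplit : β * p = β + β * (p - 1) := by
    cases p with
    | zero => exact absurd hp Nat.not_prime_zero
    | succ q => simp [Nat.mul_succ, Nat.add_comm]
  -- E1
  have E1 : x ^ μ * (a ^ p - a * X ^ (β * (p - 1))) = f * X ^ (β * p) := by
    apply hι
    simp only [map_mul, map_pow, map_sub]
    have e : z ^ p - z = (ι a ^ p - ι a * ι X ^ (β * (p - 1))) / ι X ^ (β * p) := by
      rw [hz1, div_pow, ← pow_mul, hsplit, pow_add]
      field_simp
    rw [e, div_eq_div_iff (pow_ne_zero _ hY) (pow_ne_zero _ hZ)] at hz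
    linear_combination hz
  -- E2 and z'
  have E2 : x ^ μ * ((σ a) ^ p - σ a * (σ X) ^ (β * (p - 1))) = f * (σ X) ^ (β * p) := by
    have := congrArg σ E1
    simpa only [map_mul, map_pow, map_sub, hσx, hfσ] using this
  set z' := ι (σ a) / ι (σ X) ^ β with hz'
  have hz'eq : z' ^ p - z' = ι f / ι x ^ μ := by
    have e : z' ^ p - z' = (ι (σ a) ^ p - ι (σ a) * ι (σ X) ^ (β * (p - 1))) / ι (σ X) ^ (β * p) := by
      rw [hz', div_pow, ← pow_mul, hsplit, pow_add]
      field_simp
    rw [e, div_eq_div_iff (pow_ne_zero _ hσY) (pow_ne_zero _ hZ)]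
    have := congrArg ι E2
    simp only [map_mul, map_pow, map_sub] at this
    linear_combination this
  have hc : (z' - z) ^ p = z' - z := by
    rw [sub_pow_char]
    linear_combination hz'eq - hz
  obtain ⟨j, hj⟩ := exists_nat_of_pow_eq p (z' - z) hc
  have E3 : σ a * X ^ β - a * (σ X) ^ β = (j : PowerSeries k) * X ^ β * (σ X) ^ β := by
    apply hι
    simp only [map_mul, map_pow, map_sub, map_natCast]
    rw [hz', hz1] at hj
    have h1 := hj
    rw [div_sub_div _ _ (pow_ne_zero _ hσY) (pow_ne_zero _ hY), div_eq_iff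
      (mul_ne_zero (pow_ne_zero _ hσY) (pow_ne_zero _ hY))] at h1
    linear_combination h1
  exact core p σ hσp m hm f hf0 μ hμ hpμ a β j E1 E3

end Groth.Agent.S15813
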