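import Groth.Statements.S15817
import Mathlib.CategoryTheory.Limits.Types.Pullbacks
import Mathlib.Algebra.Category.ModuleCat.Limits

set_option autoImplicit false
universe u v
open CategoryTheory
open CAlg

namespace Groth.Agent.S15817

/-- Let A be a commutative ring, M an A-module and P, Q submodules of M. Then the commuting square of
quotient projections with corners M/(P ∩ Q), M/P, M/Q and M/(P + Q) is cartesian in the category of
A-modules: M/(P ∩ Q) is the fibre product of M/P and M/Q over M/(P + Q). -/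
theorem result (A : Type u) [CommRing A] (M : Type v) [AddCommGroup M] [Module A M]
    (P Q : Submodule A M) :
    IsPullback (ModuleCat.ofHom (Submodule.factor (inf_le_left : P ⊓ Q ≤ P)))
      (ModuleCat.ofHom (Submodule.factor (inf_le_right : P ⊓ Q ≤ Q)))
      (ModuleCat.ofHom (Submodule.factor (le_sup_left : P ≤ P ⊔ Q)))
      (ModuleCat.ofHom (Submodule.factor (le_sup_right : Q ≤ P ⊔ Q))) := by
  apply IsPullback.of_map_of_faithful (F := forget (ModuleCat.{v} A))
  rw [Limits.Types.isPullback_iff]
  refine ⟨?_, ?_, ?_⟩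
  · rw [← Functor.map_comp, ← Functor.map_comp]
    congr 1
    apply ModuleCat.hom_ext
    simp only [ModuleCat.hom_comp, ModuleCat.hom_ofHom, Submodule.factor_comp]
  · intro x y ⟨h1, h2⟩
    change Submodule.factor (inf_le_left : P ⊓ Q ≤ P) x =
      Submodule.factor (inf_le_left : P ⊓ Q ≤ P) y at h1
    change Submodule.factor (inf_le_right : P ⊓ Q ≤ Q) x =
      Submodule.factor (inf_le_right : P ⊓ Q ≤ Q) y at h2
    obtain ⟨x, rfl⟩ := Submodule.mkQ_surjective _ x
    obtain ⟨y, rfl⟩ := Submodule.mkQ_surjective _ y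
    rw [Submodule.factor_mk, Submodule.factor_mk, Submodule.mkQ_apply, Submodule.mkQ_apply,
      Submodule.Quotient.eq] at h1 h2
    rw [Submodule.mkQ_apply, Submodule.mkQ_apply, Submodule.Quotient.eq]
    exact ⟨h1, h2⟩
  · intro x₂ x₃ h
    change Submodule.factor (le_sup_left : P ≤ P ⊔ Q) x₂ =
      Submodule.factor (le_sup_right : Q ≤ P ⊔ Q) x₃ at h
    obtain ⟨m₂, rfl⟩ := Submodule.mkQ_surjective _ x₂
    obtain ⟨m₃, rfl⟩ := Submodule.mkQ_surjective _ x₃
    rw [Submodule.factor_mk, Submodule.factor_mk, Submodule.mkQ_apply, Submodule.mkQ_apply,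
      Submodule.Quotient.eq, Submodule.mem_sup] at h
    obtain ⟨p, hp, q, hq, hpq⟩ := h
    refine ⟨Submodule.mkQ _ (m₂ - p), ?_, ?_⟩
    · change Submodule.factor (inf_le_left : P ⊓ Q ≤ P) (Submodule.mkQ _ (m₂ - p)) = _
      rw [Submodule.factor_mk, Submodule.mkQ_apply, Submodule.mkQ_apply, Submodule.Quotient.eq]
      simpa using P.neg_mem hp
    · change Submodule.factor (inf_le_right : P ⊓ Q ≤ Q) (Submodule.mkQ _ (m₂ - p)) = _
      rw [Submodule.factor_mk, Submodule.mkQ_apply, Submodule.mkQ_apply, Submodule.Quotient.eq]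
      have : m₂ - p - m₃ = q := by
        have : m₂ - p - m₃ = (m₂ - m₃) - p := by abel
        rw [this, ← hpq]; abel
      rw [this]; exact hq

end Groth.Agent.S15817
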