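import Groth.Statements.S15818
import Groth.Agent.S15817

set_option autoImplicit false
universe u
open CategoryTheory
open Koszul

namespace Groth.Agent.S15818

theorem gen_pullback (A : Type u) [CommRing A] (M : Type u) [AddCommGroup M] [Module A M]
    (S₁ S₂ S₃ S₄ : Submodule A M) (h12 : S₁ ≤ S₂) (h13 : S₁ ≤ S₃) (h24 : S₂ ≤ S₄) (h34 : S₃ ≤ S₄)
    (e1 : S₁ = S₂ ⊓ S₃) (e4 : S₄ = S₂ ⊔ S₃) :
    IsPullback (ModuleCat.ofHom (Submodule.factor h12)) (ModuleCat.ofHom (Submodule.factor h13))
      (ModuleCat.ofHom (Submodule.factor h24)) (ModuleCat.ofHom (Submodule.factor h34)) := by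
  subst e1 e4
  exact Groth.Agent.S15817.result A M S₂ S₃

theorem gen (A : Type u) [CommRing A] (Mq : Type u) [AddCommGroup Mq] [Module A Mq]
    (Z B : Submodule A Mq) (hBZ : B ≤ Z) (x : A)
    (hxH : IsSMulRegular (↥Z ⧸ Submodule.comap Z.subtype B) x) :
    IsPullback
      (ModuleCat.ofHom (Submodule.factor (Submodule.comap_mono (Submodule.smul_mono le_rfl hBZ) :
        Submodule.comap Z.subtype (Ideal.span {x} • B) ≤ Submodule.comap Z.subtype (Ideal.span {x} • Z))))
      (ModuleCat.ofHom (Submodule.factor (Submodule.comap_mono (Submodule.smul_le_right) :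
        Submodule.comap Z.subtype (Ideal.span {x} • B) ≤ Submodule.comap Z.subtype B)))
      (ModuleCat.ofHom (Submodule.factor (Submodule.comap_mono le_sup_right :
        Submodule.comap Z.subtype (Ideal.span {x} • Z) ≤ Submodule.comap Z.subtype (B ⊔ Ideal.span {x} • Z))))
      (ModuleCat.ofHom (Submodule.factor (Submodule.comap_mono le_sup_left :
        Submodule.comap Z.subtype B ≤ Submodule.comap Z.subtype (B ⊔ Ideal.span {x} • Z)))) := by
  apply gen_pullback
  · -- xB = xZ ⊓ B
    apply le_antisymm
    · exact le_inf (Submodule.comap_mono (Submodule.smul_mono le_rfl hBZ)) (Submodule.comap_mono Submodule.smul_le_right)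
    · rintro ⟨y, hyZ⟩ ⟨hy1, hy2⟩
      rw [SetLike.mem_coe, Submodule.mem_comap, Submodule.subtype_apply] at hy1 hy2
      rw [Submodule.mem_comap, Submodule.subtype_apply]
      rw [Submodule.ideal_span_singleton_smul, Submodule.mem_smul_pointwise_iff_exists] at hy1 ⊢
      obtain ⟨z, hz, rfl⟩ := hy1
      refine ⟨z, ?_, rfl⟩
      -- z ∈ B by regularity
      have h0 : x • (Submodule.Quotient.mk (p := Submodule.comap Z.subtype B) (⟨z, hz⟩ : ↥Z)) = 0 := by
        rw [← Submodule.Quotient.mk_smul, Submodule.Quotient.mk_eq_zero, Submodule.mem_comap]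
        exact hy2
      have h1 : Submodule.Quotient.mk (p := Submodule.comap Z.subtype B) (⟨z, hz⟩ : ↥Z) = 0 := by
        apply hxH
        change x • _ = x • (0 : ↥Z ⧸ Submodule.comap Z.subtype B)
        rw [smul_zero]
        exact h0
      rw [Submodule.Quotient.mk_eq_zero, Submodule.mem_comap] at h1
      exact h1
  · -- comap (B ⊔ xZ) = comap xZ ⊔ comap B
    apply le_antisymm
    · rintro ⟨y, hyZ⟩ hy
      rw [Submodule.mem_comap, Submodule.subtype_apply, Submodule.mem_sup] at hy
      obtain ⟨b, hb, w, hw, hbw⟩ := hy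
      have hwZ : w ∈ Z := (Submodule.smul_le_right : Ideal.span {x} • Z ≤ Z) hw
      rw [Submodule.mem_sup]
      refine ⟨⟨w, hwZ⟩, hw, ⟨b, hBZ hb⟩, hb, ?_⟩
      apply Subtype.ext
      simp only [Submodule.coe_add]
      rw [add_comm]; exact hbw
    · exact sup_le (Submodule.comap_mono le_sup_right) (Submodule.comap_mono le_sup_left)


/-- Let A be a commutative ring, f = (f_1, …, f_n) a finite sequence in A with Koszul complex K = K(f)
(mapping-cone model) and differentials ∂, q an integer, Z = Ker(∂^q) and B = Im(∂^{q-1}), so B ⊆ Z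
inside K^q (this inclusion is carried as the hypothesis hBZ). Let x be a non-zero-divisor of A which
moreover acts injectively on the cohomology module Z/B (for Noetherian A this says that x lies in no
associated prime of Z/B, which is how the published statement phrases it; the published argument
uses exactly the injectivity). Then the commuting square of quotient projections with corners Z/xB
(top left; it is isomorphic to the q-th cohomology of the Koszul complex of (x f_1, …, x f_n)), Z/xZ
= Z ⊗ A/(x) (top right), Z/B (bottom left) and Z/(B + xZ) = (Z/B) ⊗ A/(x) (bottom right) is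
cartesian in the category of A-modules. All four corners are written as quotients of Z by the
preimages of the submodules xB, xZ, B, B + xZ of K^q. -/
theorem result (A : Type u) [CommRing A] (l : List A) (q : ℤ)
    (K : CochainComplex (ModuleCat.{u} A) ℤ) (hK : K = Koszul.koszul A l)
    (hBZ : LinearMap.range (K.d (q - 1) q).hom ≤ LinearMap.ker (K.d q (q + 1)).hom)
    (x : A) (hx : x ∈ nonZeroDivisors A)
    (hxH : IsSMulRegular (↥(LinearMap.ker (K.d q (q + 1)).hom) ⧸ Submodule.comap (LinearMap.ker (K.d q (q + 1)).hom).subtype (LinearMap.range (K.d (q - 1) q).hom)) x) :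
    IsPullback
      (ModuleCat.ofHom (Submodule.factor (Submodule.comap_mono (Submodule.smul_mono le_rfl hBZ) :
        Submodule.comap (LinearMap.ker (K.d q (q + 1)).hom).subtype (Ideal.span {x} • LinearMap.range (K.d (q - 1) q).hom) ≤
          Submodule.comap (LinearMap.ker (K.d q (q + 1)).hom).subtype (Ideal.span {x} • LinearMap.ker (K.d q (q + 1)).hom))))
      (ModuleCat.ofHom (Submodule.factor (Submodule.comap_mono (Submodule.smul_le_right) :
        Submodule.comap (LinearMap.ker (K.d q (q + 1)).hom).subtype (Ideal.span {x} • LinearMap.range (K.d (q - 1) q).hom) ≤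
          Submodule.comap (LinearMap.ker (K.d q (q + 1)).hom).subtype (LinearMap.range (K.d (q - 1) q).hom))))
      (ModuleCat.ofHom (Submodule.factor (Submodule.comap_mono le_sup_right :
        Submodule.comap (LinearMap.ker (K.d q (q + 1)).hom).subtype (Ideal.span {x} • LinearMap.ker (K.d q (q + 1)).hom) ≤
          Submodule.comap (LinearMap.ker (K.d q (q + 1)).hom).subtype (LinearMap.range (K.d (q - 1) q).hom ⊔ Ideal.span {x} • LinearMap.ker (K.d q (q + 1)).hom))))
      (ModuleCat.ofHom (Submodule.factor (Submodule.comap_mono le_sup_left :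
        Submodule.comap (LinearMap.ker (K.d q (q + 1)).hom).subtype (LinearMap.range (K.d (q - 1) q).hom) ≤
          Submodule.comap (LinearMap.ker (K.d q (q + 1)).hom).subtype (LinearMap.range (K.d (q - 1) q).hom ⊔ Ideal.span {x} • LinearMap.ker (K.d q (q + 1)).hom)))) := by
  exact gen A (K.X q) (LinearMap.ker (K.d q (q + 1)).hom) (LinearMap.range (K.d (q - 1) q).hom) hBZ x hxH

end Groth.Agent.S15818
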