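import Groth.Statements.S1582
import Mathlib
import Groth.Agent.Lib.Helper22.LocTriv
import Groth.Agent.S2535
-- import your own Groth.Agent.* helpers here

set_option autoImplicit false
universe u
open CategoryTheory CategoryTheory.Limits AlgebraicGeometry
open Variety

namespace Groth.Agent.S1582

/-- Let k be algebraically closed and X, Y varieties over k (integral, separated, of finite type). Then
the fibre product X ×_k Y is integral (and so again a variety over k). -/
theorem result (k : Type u) [Field k] [IsAlgClosed k] (X Y : Scheme.{u})
    (f : X ⟶ Spec (CommRingCat.of k)) (g : Y ⟶ Spec (CommRingCat.of k))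
    [IsIntegral X] [IsIntegral Y] [IsSeparated f] [IsSeparated g]
    [LocallyOfFiniteType f] [LocallyOfFiniteType g] [QuasiCompact f] [QuasiCompact g] :
    IsIntegral (pullback f g) := by
  haveI : GeometricallyIrreducible g :=
    Groth.Agent.Lib.Helper22.LocTriv.geometricallyIrreducible_of_isAlgClosed g
  haveI : Subsingleton ↥(Spec (CommRingCat.of k)) :=
    Groth.Agent.Lib.Helper22.SchGeomIrr.subsingleton_spec_field
  haveI : UniversallyOpen g := inferInstance
  haveI : IrreducibleSpace ↥(pullback f g) := inferInstance
  haveI : AlgebraicGeometry.IsReduced (FBase.bc g k) := by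
    have h1 : Spec.map (CommRingCat.ofHom (algebraMap k k)) = 𝟙 _ := by
      rw [Algebra.algebraMap_self]
      exact Spec.map_id _
    haveI : IsIso (Spec.map (CommRingCat.ofHom (algebraMap k k))) := by
      rw [h1]; infer_instance
    haveI : IsIso (pullback.fst g (Spec.map (CommRingCat.ofHom (algebraMap k k)))) :=
      inferInstance
    haveI : IsOpenImmersion (pullback.fst g (Spec.map (CommRingCat.ofHom (algebraMap k k)))) :=
      IsOpenImmersion.of_isIso _
    change AlgebraicGeometry.IsReduced
      (pullback g (Spec.map (CommRingCat.ofHom (algebraMap k k))))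
    exact isReduced_of_isOpenImmersion
      (pullback.fst g (Spec.map (CommRingCat.ofHom (algebraMap k k))))
  haveI : GeometricallyReduced g := Groth.Agent.S2535.result (Ω := k) g
  haveI : Flat g := inferInstance
  haveI : IsLocallyNoetherian X := LocallyOfFiniteType.isLocallyNoetherian f
  haveI : AlgebraicGeometry.IsReduced (pullback f g) := inferInstance
  exact isIntegral_of_irreducibleSpace_of_isReduced _

end Groth.Agent.S1582
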