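import Groth.Statements.S15832
-- import your own Groth.Agent.* helpers here
import Groth.Agent.Lib.Helper26.TranslateTop

set_option autoImplicit false
universe u
open TopGrp

namespace Groth.Agent.S15832

/-- For a group T with a topology, let B be the family of two-sided translates x Γ y, where Γ runs over
the subgroups of T open in the given topology and x, y over T; the topology generated by B makes T a
topological group in which every neighbourhood of the identity contains a subgroup open for that
topology. (The published statement is for the free topological product of two Noohi groups whose
open subgroups form a basis of neighbourhoods of the identity; the argument uses only the group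
structure and the chosen family of subgroups, so the row is stated for an arbitrary group with a
topology. The published conventions include Hausdorffness in the word topological group; this row
does not assert it, and the published argument does not prove it.) -/
theorem result (T : Type u) [Group T]
    [TopologicalSpace T] :
    @NonarchimedeanGroup T _ (TopologicalSpace.generateFrom
      {S : Set T | ∃ (Γ : OpenSubgroup T) (x y : T), S = (fun g : T => x * g * y) '' (Γ : Set T)}) := by
  have h := Groth.Agent.Lib.Helper26.TranslateTop.nonarch (T := T)
    (𝒮 := Set.range (OpenSubgroup.toSubgroup : OpenSubgroup T → Subgroup T))
  have e : {S : Set T | ∃ (Γ : OpenSubgroup T) (x y : T), S = (fun g : T => x * g * y) '' (Γ : Set T)}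
      = Groth.Agent.Lib.Helper26.TranslateTop.B T
          (Set.range (OpenSubgroup.toSubgroup : OpenSubgroup T → Subgroup T)) := by
    ext S
    constructor
    · rintro ⟨Γ, x, y, rfl⟩
      exact ⟨Γ.toSubgroup, ⟨Γ, rfl⟩, x, y, rfl⟩
    · rintro ⟨_, ⟨Γ, rfl⟩, x, y, rfl⟩
      exact ⟨Γ, x, y, rfl⟩
  rw [e]
  exact h

end Groth.Agent.S15832
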