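import Groth.Statements.S15833
import Mathlib
-- import your own Groth.Agent.* helpers here

set_option autoImplicit false
universe u
open EtBase

namespace Groth.Agent.S15833

section Helpers
open CategoryTheory CategoryTheory.Limits AlgebraicGeometry
theorem vc_iff {X Y : Scheme.{u}} (f : X ⟶ Y) : ValuativeCriterion f ↔
    ∀ S : ValuativeCommSq f, ∃! l : Spec (.of S.R) ⟶ X,
      Spec.map (CommRingCat.ofHom (algebraMap S.R S.K)) ≫ l = S.i₁ ∧ l ≫ f = S.i₂ := by
  constructor
  · intro h S
    obtain ⟨u⟩ := h S
    refine ⟨u.default.l, ⟨u.default.fac_left, u.default.fac_right⟩, ?_⟩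
    intro l' hl'
    have := u.uniq ⟨l', hl'.1, hl'.2⟩
    exact congrArg CommSq.LiftStruct.l this
  · intro h S
    obtain ⟨l, ⟨h1, h2⟩, huniq⟩ := h S
    exact ⟨{ default := ⟨l, h1, h2⟩
             uniq := fun a => CommSq.LiftStruct.ext (huniq a.l ⟨a.fac_left, a.fac_right⟩) }⟩

/-- maps from reduced schemes factor through surjective closed immersions -/
theorem factor_reduced {X X₀ T : Scheme.{u}} (i : X₀ ⟶ X) [IsClosedImmersion i] [Surjective i]
    [IsReduced T] (g : T ⟶ X) : ∃ g' : T ⟶ X₀, g' ≫ i = g := by
  have : IsIso (pullback.fst g i) := isIso_of_isClosedImmersion_of_surjective _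
  refine ⟨inv (pullback.fst g i) ≫ pullback.snd g i, ?_⟩
  rw [Category.assoc, ← pullback.condition, IsIso.inv_hom_id_assoc]

end Helpers

open CategoryTheory CategoryTheory.Limits AlgebraicGeometry in
/-- Let i : X₀ ⟶ X be a surjective closed immersion of schemes and f : Y ⟶ X a morphism. Then f
satisfies the valuative criterion (existence and uniqueness of a lift in every valuative square,
over arbitrary valuation rings) if and only if its base change Y ×_X X₀ ⟶ X₀ does. (The published
statement takes X locally Noetherian and connected, X₀ the reduced closed subscheme with the same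
underlying space and f étale, and combines this step with the equivalence between étale schemes over
X and over X₀ to identify the geometric coverings, i.e. the étale morphisms satisfying the valuative
criterion, of X and of X₀; the argument for this step uses only that X₀ ⟶ X is a surjective closed
immersion and that valuation rings are reduced.) -/
theorem result {X X₀ Y : Scheme.{u}} (i : X₀ ⟶ X)
    [IsClosedImmersion i] [Surjective i] (f : Y ⟶ X) :
    ValuativeCriterion f ↔ ValuativeCriterion (pullback.snd f i) := by
  rw [vc_iff, vc_iff]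
  have hmono : Mono i := inferInstance
  constructor
  · intro h S
    let ι := Spec.map (CommRingCat.ofHom (algebraMap S.R S.K))
    have hS : S.i₁ ≫ pullback.snd f i = ι ≫ S.i₂ := S.commSq.w
    let S' : ValuativeCommSq f :=
      { R := S.R, K := S.K, i₁ := S.i₁ ≫ pullback.fst f i, i₂ := S.i₂ ≫ i
        commSq := ⟨by
          rw [Category.assoc, pullback.condition, ← Category.assoc, hS, Category.assoc]⟩ }
    obtain ⟨l, ⟨h1, h2⟩, huniq⟩ := h S'
    change ι ≫ l = S.i₁ ≫ pullback.fst f i at h1
    change l ≫ f = S.i₂ ≫ i at h2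
    refine ⟨pullback.lift l S.i₂ h2, ⟨?_, pullback.lift_snd _ _ _⟩, ?_⟩
    · apply pullback.hom_ext
      · rw [Category.assoc, pullback.lift_fst, h1]
      · rw [Category.assoc, pullback.lift_snd, hS]
    · intro l' ⟨hl1, hl2⟩
      change ι ≫ l' = S.i₁ at hl1
      have := huniq (l' ≫ pullback.fst f i) ⟨by
        change ι ≫ l' ≫ pullback.fst f i = S.i₁ ≫ pullback.fst f i
        rw [← Category.assoc, hl1], by
        change (l' ≫ pullback.fst f i) ≫ f = S.i₂ ≫ i
        rw [Category.assoc, pullback.condition, ← Category.assoc, hl2]⟩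
      apply pullback.hom_ext
      · rw [pullback.lift_fst, this]
      · rw [pullback.lift_snd, hl2]
  · intro h S
    let ι := Spec.map (CommRingCat.ofHom (algebraMap S.R S.K))
    have hS : S.i₁ ≫ f = ι ≫ S.i₂ := S.commSq.w
    obtain ⟨i₂', hi₂'⟩ := factor_reduced i S.i₂
    let S' : ValuativeCommSq (pullback.snd f i) :=
      { R := S.R, K := S.K, i₁ := pullback.lift S.i₁ (ι ≫ i₂') (by rw [Category.assoc, hi₂', hS])
        i₂ := i₂'
        commSq := ⟨pullback.lift_snd _ _ _⟩ }
    obtain ⟨l, ⟨h1, h2⟩, huniq⟩ := h S'
    change ι ≫ l = pullback.lift S.i₁ (ι ≫ i₂') _ at h1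
    change l ≫ pullback.snd f i = i₂' at h2
    refine ⟨l ≫ pullback.fst f i, ⟨?_, ?_⟩, ?_⟩
    · change ι ≫ l ≫ pullback.fst f i = S.i₁
      rw [← Category.assoc, h1, pullback.lift_fst]
    · rw [Category.assoc, pullback.condition, ← Category.assoc, h2, hi₂']
    · intro l' ⟨hl1, hl2⟩
      change ι ≫ l' = S.i₁ at hl1
      have := huniq (pullback.lift l' i₂' (by rw [hl2, hi₂'])) ⟨by
        change ι ≫ pullback.lift l' i₂' _ = pullback.lift S.i₁ (ι ≫ i₂') _
        apply pullback.hom_ext
        · rw [Category.assoc, pullback.lift_fst, pullback.lift_fst, hl1]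
        · rw [Category.assoc, pullback.lift_snd, pullback.lift_snd], pullback.lift_snd _ _ _⟩
      rw [← this, pullback.lift_fst]

end Groth.Agent.S15833
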