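import Groth.Statements.S15835
import Mathlib.LinearAlgebra.Matrix.Charpoly.Basic
import Mathlib.Algebra.CharP.Invertible
import Mathlib.Algebra.CharP.Lemmas
import Mathlib.Algebra.Polynomial.Expand
import Mathlib.NumberTheory.Padics.PadicVal.Basic
import Mathlib.RingTheory.Polynomial.Basic

set_option autoImplicit false
universe u
open SprIso

namespace Groth.Agent.S15835

open Polynomial in
theorem charpoly_add_scalar {R : Type u} [CommRing R] {n : ℕ} (X : Matrix (Fin n) (Fin n) R) (a : R) :
    (X + Matrix.scalar (Fin n) a).charpoly = X.charpoly.comp (Polynomial.X - Polynomial.C a) := by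
  have h := Matrix.charpoly_sub_scalar X (-a)
  rw [map_neg, sub_neg_eq_add, map_neg, ← sub_eq_add_neg] at h
  exact h

open Polynomial in
theorem key (p : ℕ) [Fact p.Prime] (R : Type u) [CommRing R] [CharP R p] (n : ℕ) (hn : 0 < n) (a : R) :
    ((X : R[X]) - C a) ^ n = X ^ n ↔ a ^ (p ^ padicValNat p n) = 0 := by
  have hp : p.Prime := Fact.out
  set m := padicValNat p n with hm
  obtain ⟨q, hq⟩ : p ^ m ∣ n := pow_padicValNat_dvd
  have hq0 : q ≠ 0 := by
    rintro rfl
    simp at hq
    omega
  have hpq : ¬ p ∣ q := by
    rintro ⟨r, rfl⟩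
    apply pow_succ_padicValNat_not_dvd (p := p) hn.ne'
    rw [← hm]
    exact ⟨r, by rw [hq]; ring⟩
  have hunit : IsUnit (q : R) := (CharP.isUnit_natCast_iff hp).mpr hpq
  have e1 : ((X : R[X]) - C a) ^ n = expand R (p ^ m) ((X - C (a ^ p ^ m)) ^ q) := by
    rw [hq, pow_mul, sub_pow_char_pow, map_pow, map_sub, expand_X, expand_C, ← C_pow]
  have e2 : (X : R[X]) ^ n = expand R (p ^ m) (X ^ q) := by
    rw [hq, pow_mul, map_pow, expand_X]
  rw [e1, e2, (expand_injective (pow_pos hp.pos m)).eq_iff]
  constructor
  · intro h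
    have h1 : coeff ((X - C (a ^ p ^ m)) ^ q) (q - 1) = coeff ((X : R[X]) ^ q) (q - 1) := by rw [h]
    rw [sub_eq_add_neg, ← C_neg, coeff_X_add_C_pow, coeff_X_pow, if_neg (by omega)] at h1
    have h2 : q - (q - 1) = 1 := by omega
    have h3 : q.choose (q - 1) = q := by
      rw [← Nat.choose_symm (by omega : q - 1 ≤ q), h2, Nat.choose_one_right]
    rw [h2, pow_one, h3, neg_mul, neg_eq_zero] at h1
    exact (hunit.mul_left_eq_zero).mp h1
  · intro h
    rw [h, C_0, sub_zero]

/-- Over a commutative ring R of prime characteristic p, let n ≥ 1 and let p^m be the largest power of p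
dividing n. The locus of n × n matrices with characteristic polynomial t^n is stable under adding a
scalar matrix a·1 with n·a = 0 exactly when a^(p^m) = 0: for X with characteristic polynomial t^n
and such an a, the matrix X + a·1 has characteristic polynomial t^n if and only if a^(p^m) = 0.
(Stated on points with values in an arbitrary ring of characteristic p; the scheme-theoretic
assertion about the nilpotent scheme of SL_n is this statement for all such rings.) -/
theorem result (p : ℕ) [Fact p.Prime] (R : Type u) [CommRing R]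
    [CharP R p] (n : ℕ) (hn : 0 < n) (X : Matrix (Fin n) (Fin n) R) (hX : X.charpoly = Polynomial.X ^ n)
    (a : R) (ha : (n : R) * a = 0) :
    (X + Matrix.scalar (Fin n) a).charpoly = Polynomial.X ^ n ↔ a ^ (p ^ padicValNat p n) = 0 := by
  rw [charpoly_add_scalar, hX, Polynomial.pow_comp, Polynomial.X_comp]
  exact key p R n hn a

end Groth.Agent.S15835
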