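import Groth.Statements.S15837
import Mathlib
import Groth.Agent.Lib.Helper13.WeilProjOver
import Groth.Prelude.Def_AlgGrp

set_option autoImplicit false
universe u
open CategoryTheory MonoidalCategory CartesianMonoidalCategory MonObj GrpObj AlgebraicGeometry
open SprIso

namespace Groth.Agent.S15837

section helpers

open CategoryTheory MonoidalCategory CartesianMonoidalCategory MonObj GrpObj AlgebraicGeometry


theorem main (S : Scheme.{u}) (G X Y : Over S) [GrpObj G]
    [IsAffineHom X.hom] [LocallyOfFinitePresentation X.hom] (a : AlgGrp.Action G X)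
    (i : Y ⟶ X) [IsFinite Y.hom] [Flat Y.hom] [LocallyOfFinitePresentation Y.hom] :
    ∃ (Z : Over S) (j : Z ⟶ G), IsClosedImmersion j.left ∧ LocallyOfFinitePresentation j.left ∧
      ∀ (T : Over S) (g : T ⟶ G), (∃ z : T ⟶ Z, z ≫ j = g) ↔
        ∀ (T' : Over S) (t : T' ⟶ T) (y : T' ⟶ Y), lift (t ≫ g) (y ≫ i) ≫ a.act = y ≫ i := by
  haveI : IsSeparated X.hom := inferInstance
  obtain ⟨Z, j, hj, hfp, hZ⟩ := Groth.Agent.Lib.Helper13.WeilProjOver.exists_closed_eq G Y X
    ((G ◁ i) ≫ a.act) (snd G Y ≫ i)
  refine ⟨Z, j, hj, hfp inferInstance, ?_⟩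
  intro T g
  rw [hZ]
  constructor
  · intro h T' t y
    have h1 : lift t y ≫ g ▷ Y ≫ G ◁ i ≫ a.act = lift t y ≫ g ▷ Y ≫ snd G Y ≫ i :=
      congrArg (fun m => lift t y ≫ m) h
    have e1 : lift t y ≫ g ▷ Y ≫ G ◁ i ≫ a.act = lift (t ≫ g) (y ≫ i) ≫ a.act := by
      rw [← Category.assoc, ← Category.assoc]
      congr 1
      ext <;> simp
    have e2 : lift t y ≫ g ▷ Y ≫ snd G Y ≫ i = y ≫ i := by
      simp
    rw [e1, e2] at h1
    exact h1
  · intro h
    have h1 := h (T ⊗ Y) (fst T Y) (snd T Y)
    have e1 : g ▷ Y ≫ G ◁ i = lift (fst T Y ≫ g) (snd T Y ≫ i) := by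
      ext <;> simp
    rw [← Category.assoc, e1, h1]
    simp


end helpers

/-- Let S be a scheme, G an S-group scheme of finite presentation acting on an S-scheme X which is
affine and of finite presentation over S, and Y a closed subscheme of X which is finite, flat and of
finite presentation over S. Then the functorial stabilizer of Y in G — whose points with values in
an S-scheme T are the points g of G such that g acts as the identity on every point of Y with values
in a scheme over T — is represented by a closed subscheme of G whose inclusion is of finite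
presentation. -/
theorem result (S : Scheme.{u}) (G X Y : Over S) [GrpObj G]
    [LocallyOfFinitePresentation G.hom] [QuasiCompact G.hom] [QuasiSeparated G.hom]
    [IsAffineHom X.hom] [LocallyOfFinitePresentation X.hom] (a : AlgGrp.Action G X)
    (i : Y ⟶ X) [IsClosedImmersion i.left] [IsFinite Y.hom] [Flat Y.hom] [LocallyOfFinitePresentation Y.hom] :
    ∃ (Z : Over S) (j : Z ⟶ G), IsClosedImmersion j.left ∧ LocallyOfFinitePresentation j.left ∧
      ∀ (T : Over S) (g : T ⟶ G), (∃ z : T ⟶ Z, z ≫ j = g) ↔
        ∀ (T' : Over S) (t : T' ⟶ T) (y : T' ⟶ Y), lift (t ≫ g) (y ≫ i) ≫ a.act = y ≫ i := by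
  exact main S G X Y a i

end Groth.Agent.S15837
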