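import Groth.Statements.S15841
-- import your own Groth.Agent.* helpers here

set_option autoImplicit false
universe u
open scoped TensorProduct
open SprIso

namespace Groth.Agent.S15841

section helpers
open scoped TensorProduct

variable {ι M N : Type u} [AddCommGroup M] [AddCommGroup N] (P : RootPairing ι ℤ M N)
variable (k : Type u) [Field k]

lemma coref_bc (i : ι) (x : k ⊗[ℤ] N) :
    (((P.coreflection i : N ≃ₗ[ℤ] N) : N →ₗ[ℤ] N).baseChange k) x
      = x - (LinearMap.toSpanSingleton ℤ N (P.coroot i)).baseChange k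
          ((P.root' i).baseChange k x) := by
  have : ((P.coreflection i : N ≃ₗ[ℤ] N) : N →ₗ[ℤ] N) =
      LinearMap.id - (LinearMap.toSpanSingleton ℤ N (P.coroot i)).comp (P.root' i) := by
    ext y; simp [RootPairing.coreflection_apply]
  rw [this, LinearMap.baseChange_sub, LinearMap.baseChange_id, LinearMap.baseChange_comp]; rfl

lemma f_T (f : N →ₗ[ℤ] ℤ) (v : N) (y : k ⊗[ℤ] ℤ) :
    f.baseChange k ((LinearMap.toSpanSingleton ℤ N v).baseChange k y) =
      (LinearMap.toSpanSingleton ℤ ℤ (f v)).baseChange k y := by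
  rw [← LinearMap.comp_apply, ← LinearMap.baseChange_comp]
  congr 2; ext; simp

lemma f_T_zero (f : N →ₗ[ℤ] ℤ) (v : N) (hv : f v = 0) (y : k ⊗[ℤ] ℤ) :
    f.baseChange k ((LinearMap.toSpanSingleton ℤ N v).baseChange k y) = 0 := by
  rw [f_T, hv]
  have : LinearMap.toSpanSingleton ℤ ℤ (0 : ℤ) = 0 := by ext; simp
  rw [this, LinearMap.baseChange_zero]; rfl

lemma f_T_one (f : N →ₗ[ℤ] ℤ) (v : N) (hv : f v = 1) (y : k ⊗[ℤ] ℤ) :
    f.baseChange k ((LinearMap.toSpanSingleton ℤ N v).baseChange k y) = y := by
  rw [f_T, hv]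
  have : LinearMap.toSpanSingleton ℤ ℤ (1 : ℤ) = LinearMap.id := by ext; simp
  rw [this, LinearMap.baseChange_id]; rfl

/-- the product of base-changed coreflections along a list -/
noncomputable def W (l : List ι) : N →ₗ[ℤ] N :=
  (l.map (fun i => ((P.coreflection i : N ≃ₗ[ℤ] N) : N →ₗ[ℤ] N))).prod

lemma W_nil : W P ([] : List ι) = LinearMap.id := rfl

lemma W_cons (i : ι) (l : List ι) :
    W P (i :: l) = ((P.coreflection i : N ≃ₗ[ℤ] N) : N →ₗ[ℤ] N).comp (W P l) := by
  simp [W, Module.End.mul_eq_comp]

lemma f_W (f : N →ₗ[ℤ] ℤ) (l : List ι) (hl : ∀ j ∈ l, f (P.coroot j) = 0) (x : k ⊗[ℤ] N) :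
    f.baseChange k ((W P l).baseChange k x) = f.baseChange k x := by
  induction l generalizing x with
  | nil => rw [W_nil, LinearMap.baseChange_id]; rfl
  | cons j l ih =>
    rw [W_cons, LinearMap.baseChange_comp, LinearMap.comp_apply, coref_bc, map_sub,
      f_T_zero k f _ (hl j (List.mem_cons_self ..)), sub_zero]
    exact ih (fun j' hj' => hl j' (List.mem_cons_of_mem _ hj')) x

lemma main (b : P.Base)
    (hsc : ∀ i ∈ b.support, ∃ ω : M, P.coroot' i ω = 1 ∧ ∀ j ∈ b.support, j ≠ i → P.coroot' j ω = 0)
    (l : List ι) (hl : l.Nodup) (hlb : ∀ i ∈ l, i ∈ b.support) (H : k ⊗[ℤ] N)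
    (hH : (W P l).baseChange k H = H) :
    ∀ i ∈ l, (P.root' i).baseChange k H = 0 := by
  induction l generalizing H with
  | nil => intro i hi; simp at hi
  | cons i l ih =>
    rw [List.nodup_cons] at hl
    obtain ⟨hil, hl'⟩ := hl
    obtain ⟨ω, hω1, hω0⟩ := hsc i (hlb i (List.mem_cons_self ..))
    set f : N →ₗ[ℤ] ℤ := P.toLinearMap ω with hf
    have hfi : f (P.coroot i) = 1 := hω1
    have hfj : ∀ j ∈ l, f (P.coroot j) = 0 := fun j hj =>
      hω0 j (hlb j (List.mem_cons_of_mem _ hj)) (fun e => hil (e ▸ hj))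
    set H' := (W P l).baseChange k H with hH'
    rw [W_cons, LinearMap.baseChange_comp, LinearMap.comp_apply, ← hH', coref_bc] at hH
    have h1 := congrArg (f.baseChange k) hH
    rw [map_sub, f_T_one k f _ hfi, hH', f_W P k f l hfj H] at h1
    have hA : (P.root' i).baseChange k H' = 0 := by
      have := sub_eq_self.mp h1
      exact this
    rw [hA, map_zero, sub_zero] at hH
    intro j hj
    rcases List.mem_cons.mp hj with rfl | hj
    · rw [← hH]; exact hA
    · exact ih hl' (fun j' hj' => hlb j' (List.mem_cons_of_mem _ hj')) H hH j hj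

end helpers

/-- For a connected reductive group G with maximal torus T whose derived group is simply connected, and
a Coxeter element w (the product of the simple reflections, each once, in any order), an element of
Lie T = k ⊗ X_*(T) fixed by Ad(w) is killed by the differential of every simple root, i.e. lies in
the centre of Lie G. In root-datum form: let P be a root pairing over ℤ with character lattice M and
cocharacter lattice N, b a base, and suppose each simple coroot has a dual character ω_i in M with
⟨ω_i, α_i^∨⟩ = 1 and ⟨ω_i, α_j^∨⟩ = 0 for every other simple j (the simply connected derived group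
hypothesis). If l lists the simple roots without repetition, w^∨ is the composite of the
coreflections along l acting on N, k is a field and H in k ⊗ N satisfies w^∨_k H = H, then (α_i)_k H
= 0 for every simple root α_i, where (α_i)_k is the base change to k of the functional ⟨α_i, −⟩ on
N. (Stated for an arbitrary field k; the published setting is an algebraically closed field, and the
argument does not depend on k.) -/
theorem result {ι M N : Type u} [AddCommGroup M] [AddCommGroup N]
    (P : RootPairing ι ℤ M N) (b : P.Base)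
    (hsc : ∀ i ∈ b.support, ∃ ω : M, P.coroot' i ω = 1 ∧ ∀ j ∈ b.support, j ≠ i → P.coroot' j ω = 0)
    (l : List ι) (hl : l.Nodup) (hlb : ∀ i : ι, i ∈ l ↔ i ∈ b.support)
    (k : Type u) [Field k] (H : k ⊗[ℤ] N)
    (hH : ((l.map (fun i => ((P.coreflection i : N ≃ₗ[ℤ] N) : N →ₗ[ℤ] N))).prod).baseChange k H = H) :
    ∀ i ∈ b.support, (P.root' i).baseChange k H = 0 := by
  intro i hi
  exact main P k b hsc l hl (fun j hj => (hlb j).mp hj) H hH i ((hlb i).mpr hi)

end Groth.Agent.S15841
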