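import Groth.Statements.S15842
import Mathlib
import Groth.Agent.Lib.Helper12.CyclicVecD
import Groth.Agent.Lib.Helper12.CyclicVecE

set_option autoImplicit false
universe u
open SprIso

namespace Groth.Agent.S15842

/-- General linear group case: this is the case G = GL_n (its derived group SL_n is simply connected and
every prime is good for it, so the hypotheses on the fundamental group and on the characteristic
that the general statement needs hold over every base, and strong regularity is regularity). Let A
be a commutative ring and g an n × n matrix over A — a section of GL_n when invertible, or of its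
Lie algebra gl_n = M_n in general, the centralizer being in both cases the invertible matrices
commuting with g — which is fiberwise regular, i.e. at every field-valued point A → K the commutant
of g_K in M_n(K) has dimension n, the rank of GL_n. Then the centralizer of g in GL_n is
commutative: for every commutative A-algebra B and all invertible x, y ∈ M_n(B) commuting with g_B,
x y = y x. -/
theorem result (A : Type u) [CommRing A] (n : ℕ)
    (g : Matrix (Fin n) (Fin n) A)
    (hreg : ∀ (K : Type u) [Field K] (φ : A →+* K),
      Module.finrank K (Subalgebra.centralizer K ({g.map φ} : Set (Matrix (Fin n) (Fin n) K))) = n)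
    (B : Type u) [CommRing B] [Algebra A B] (x y : Matrix (Fin n) (Fin n) B) (hx : IsUnit x) (hy : IsUnit y)
    (hxg : x * g.map (algebraMap A B) = g.map (algebraMap A B) * x)
    (hyg : y * g.map (algebraMap A B) = g.map (algebraMap A B) * y) :
    x * y = y * x := by
  rw [← sub_eq_zero]
  ext i j
  apply eq_zero_of_localization
  intro 𝔪 h𝔪
  let ψ : B →+* Localization.AtPrime 𝔪 := algebraMap B (Localization.AtPrime 𝔪)
  let g' : Matrix (Fin n) (Fin n) (Localization.AtPrime 𝔪) := (g.map (algebraMap A B)).map ψ
  have hx' : x.map ψ * g' = g' * x.map ψ := by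
    show x.map ψ * (g.map (algebraMap A B)).map ψ = (g.map (algebraMap A B)).map ψ * x.map ψ
    rw [← Matrix.map_mul, ← Matrix.map_mul, hxg]
  have hy' : y.map ψ * g' = g' * y.map ψ := by
    show y.map ψ * (g.map (algebraMap A B)).map ψ = (g.map (algebraMap A B)).map ψ * y.map ψ
    rw [← Matrix.map_mul, ← Matrix.map_mul, hyg]
  let φ : A →+* IsLocalRing.ResidueField (Localization.AtPrime 𝔪) :=
    (IsLocalRing.residue (Localization.AtPrime 𝔪)).comp (ψ.comp (algebraMap A B))
  have hfr := hreg (IsLocalRing.ResidueField (Localization.AtPrime 𝔪)) φ
  have hgφ : g.map φ = g'.map (IsLocalRing.residue (Localization.AtPrime 𝔪)) := by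
    show g.map φ = ((g.map (algebraMap A B)).map ψ).map _
    rw [Matrix.map_map, Matrix.map_map]
    rfl
  obtain ⟨v, hv⟩ := Groth.Agent.Lib.Helper12.CyclicVecD.exists_cyclic_vector (g.map φ) hfr
  choose v' hv' using fun i => Ideal.Quotient.mk_surjective (v i)
  have hvv : IsLocalRing.residue (Localization.AtPrime 𝔪) ∘ v' = v := funext hv'
  have hcyc : ∀ w : Fin n → IsLocalRing.ResidueField (Localization.AtPrime 𝔪),
      ∃ q : Polynomial (IsLocalRing.ResidueField (Localization.AtPrime 𝔪)),
        (Polynomial.aeval (g'.map (IsLocalRing.residue (Localization.AtPrime 𝔪))) q).mulVec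
          (IsLocalRing.residue (Localization.AtPrime 𝔪) ∘ v') = w := by
    rw [← hgφ, hvv]
    exact hv
  have hcomm := Groth.Agent.Lib.Helper12.CyclicVecE.comm_of_cyclic g' v' hcyc hx' hy'
  have h1 : ψ ((x * y - y * x) i j) = (x.map ψ * y.map ψ - y.map ψ * x.map ψ) i j := by
    rw [Matrix.sub_apply, Matrix.sub_apply, map_sub, ← Matrix.map_mul, ← Matrix.map_mul]
    rfl
  show ψ ((x * y - y * x) i j) = 0
  rw [h1, hcomm, sub_self]
  rfl

end Groth.Agent.S15842
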