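import Groth.Statements.S15848
import Groth.Agent.S15070
import Groth.Agent.S0019
import Groth.Agent.Lib.helper11.RegularUFD
import Groth.Agent.Lib.Helper18.Cyc.PushStalk

set_option autoImplicit false
universe u
open CategoryTheory CategoryTheory.Limits AlgebraicGeometry
open Surf

namespace Groth.Agent.S15848

/-- In a regular local domain of dimension `≤ 2`, a nonzero prime ideal which is not maximal is
principal, generated by a nonzero element. -/
theorem exists_generator {R : Type u} [CommRing R] [IsRegularLocalRing R] [IsDomain R]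
    (hdim : ringKrullDim R ≤ 2) (I : Ideal R) [hI : I.IsPrime] (h0 : I ≠ ⊥)
    (hm : I ≠ IsLocalRing.maximalIdeal R) : ∃ π : R, π ≠ 0 ∧ I = Ideal.span {π} := by
  haveI := Groth.Agent.Lib.helper11.RegularUFD.ufd R
  obtain ⟨π, hπI, hπ⟩ := hI.exists_mem_prime_of_ne_bot h0
  refine ⟨π, hπ.ne_zero, ?_⟩
  have hJ : (Ideal.span {π}).IsPrime := (Ideal.span_singleton_prime hπ.ne_zero).2 hπ
  have hJI : Ideal.span {π} ≤ I := (Ideal.span_singleton_le_iff_mem I).2 hπI
  by_contra hne
  have hJI' : Ideal.span {π} < I := lt_of_le_of_ne hJI (Ne.symm hne)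
  have hIm : I < IsLocalRing.maximalIdeal R :=
    lt_of_le_of_ne (IsLocalRing.le_maximalIdeal hI.ne_top) hm
  have h0J : (⊥ : Ideal R) < Ideal.span {π} :=
    bot_lt_iff_ne_bot.2 (by simpa using hπ.ne_zero)
  let p0 : PrimeSpectrum R := ⟨⊥, Ideal.isPrime_bot⟩
  let p1 : PrimeSpectrum R := ⟨Ideal.span {π}, hJ⟩
  let p2 : PrimeSpectrum R := ⟨I, hI⟩
  let p3 : PrimeSpectrum R := ⟨IsLocalRing.maximalIdeal R, inferInstance⟩
  have h01 : p0 < p1 := h0J
  have h12 : p1 < p2 := hJI'
  have h23 : p2 < p3 := hIm
  let s0 : LTSeries (PrimeSpectrum R) := RelSeries.singleton _ p0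
  let s1 : LTSeries (PrimeSpectrum R) := s0.snoc p1 (by simpa [s0] using h01)
  let s2 : LTSeries (PrimeSpectrum R) := s1.snoc p2 (by simpa [s1] using h12)
  let s3 : LTSeries (PrimeSpectrum R) := s2.snoc p3 (by simpa [s2] using h23)
  have hlen : s3.length = 3 := by simp [s3, s2, s1, s0]
  have h3 := Order.LTSeries.length_le_krullDim s3
  rw [hlen] at h3
  have : ((3 : ℕ) : WithBot ℕ∞) ≤ 2 := h3.trans hdim
  exact absurd this (by decide)

/-- the quotient of a domain by a principal ideal generated by a nonzero element, and its finite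
powers, have projective dimension `≤ 1` (here in the form: the target of a surjective ring map
with principal kernel). -/
theorem pd_pi_quotient {R : Type u} [CommRing R] [IsDomain R] {R' : Type u} [CommRing R']
    [Algebra R R'] (hσ : Function.Surjective (algebraMap R R')) (π : R) (hπ0 : π ≠ 0)
    (hπ : RingHom.ker (algebraMap R R') = Ideal.span {π}) (r : ℕ) :
    HasProjectiveDimensionLT (ModuleCat.of R (Fin r → R')) 2 := by
  let f : (Fin r → R) →ₗ[R] (Fin r → R) := LinearMap.lsmul R (Fin r → R) π
  let g : (Fin r → R) →ₗ[R] (Fin r → R') := (Algebra.linearMap R R').compLeft (Fin r)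
  have hf : Function.Injective f := by
    intro v w hvw
    funext i
    have h := congrFun hvw i
    simp only [f, LinearMap.lsmul_apply, Pi.smul_apply, smul_eq_mul] at h
    exact mul_left_cancel₀ hπ0 h
  have hg : Function.Surjective g := by
    intro w
    choose v hv using fun i => hσ (w i)
    exact ⟨v, funext fun i => hv i⟩
  have hfg : Function.Exact f g := by
    intro v
    constructor
    · intro hv
      have hmem : ∀ i, v i ∈ Ideal.span {π} := fun i => by
        rw [← hπ, RingHom.mem_ker]
        exact congrFun hv i
      choose w hw using fun i => Ideal.mem_span_singleton'.1 (hmem i)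
      refine ⟨w, funext fun i => ?_⟩
      simp only [f, LinearMap.lsmul_apply, Pi.smul_apply, smul_eq_mul]
      rw [mul_comm]
      exact hw i
    · rintro ⟨w, rfl⟩
      funext i
      have : π ∈ RingHom.ker (algebraMap R R') := by
        rw [hπ]; exact Ideal.mem_span_singleton_self π
      simp only [g, f, LinearMap.compLeft_apply, LinearMap.lsmul_apply, Function.comp_apply,
        Pi.smul_apply, smul_eq_mul, Algebra.linearMap_apply, map_mul, Pi.zero_apply]
      rw [RingHom.mem_ker.1 this, zero_mul]
  let S : ShortComplex (ModuleCat.{u} R) :=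
    ShortComplex.mk (ModuleCat.ofHom f) (ModuleCat.ofHom g) (by
      rw [← ModuleCat.ofHom_comp]
      have : g ∘ₗ f = 0 := LinearMap.ext fun v => hfg.apply_apply_eq_zero v
      rw [this]
      rfl)
  have hS : S.ShortExact :=
    { exact := by
        rw [ShortComplex.ShortExact.moduleCat_exact_iff_function_exact]
        exact hfg
      mono_f := (ModuleCat.mono_iff_injective _).2 hf
      epi_g := (ModuleCat.epi_iff_surjective _).2 hg }
  haveI : Projective (ModuleCat.of R (Fin r → R)) :=
    (IsProjective.iff_projective (R := R) (P := (Fin r → R))).1 inferInstance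
  have h1 : HasProjectiveDimensionLT S.X₁ 1 := by
    change HasProjectiveDimensionLT (ModuleCat.of R (Fin r → R)) 1
    infer_instance
  have h2 : HasProjectiveDimensionLT S.X₂ 2 := by
    change HasProjectiveDimensionLT (ModuleCat.of R (Fin r → R)) 2
    exact hasProjectiveDimensionLT_of_ge _ 1 2 (by omega)
  exact hS.hasProjectiveDimensionLT_X₃ 1 h1 h2

/-- the algebraic core: a module `P` over a regular local ring `R` of dimension `≤ 2` which is
(semilinearly) a finitely generated torsion-free module over a quotient domain `R'` of `R`, `R'`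
not a field when `dim R = 2`, has projective dimension `≤ 1`. -/
theorem pd_lt_two_core {R : Type u} [CommRing R] [IsRegularLocalRing R] [IsDomain R]
    (hdim : ringKrullDim R ≤ 2)
    (hgl3 : ∀ M : ModuleCat.{u} R, HasProjectiveDimensionLT M 3)
    (hgl2 : ringKrullDim R ≤ 1 → ∀ M : ModuleCat.{u} R, HasProjectiveDimensionLT M 2)
    {R' : Type u} [CommRing R'] [IsDomain R'] (σ : R →+* R') (hσ : Function.Surjective σ)
    (hker : ¬ ringKrullDim R ≤ 1 → RingHom.ker σ ≠ IsLocalRing.maximalIdeal R)
    (P : Type u) [AddCommGroup P] [Module R P]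
    (P' : Type u) [AddCommGroup P'] [Module R' P'] [Module.Finite R' P']
    [Module.IsTorsionFree R' P']
    (θ : P ≃+ P') (hθ : ∀ (a : R) (n : P), θ (a • n) = σ a • θ n) :
    HasProjectiveDimensionLT (ModuleCat.of R P) 2 := by
  classical
  by_cases hd1 : ringKrullDim R ≤ 1
  · exact hgl2 hd1 _
  have hkm := hker hd1
  letI alg : Algebra R R' := σ.toAlgebra
  have halg : ∀ a : R, algebraMap R R' a = σ a := fun a => rfl
  by_cases hk0 : RingHom.ker σ = ⊥
  · -- `σ` is injective: `P` is finitely generated torsion-free over `R`
    have hinj : Function.Injective σ := (RingHom.injective_iff_ker_eq_bot σ).2 hk0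
    haveI : Module.IsTorsionFree R P := Module.isTorsionFree_iff_smul_eq_zero.2 (fun a n h => by
      have h1 : σ a • θ n = 0 := by rw [← hθ, h, map_zero]
      rcases (Module.isTorsionFree_iff_smul_eq_zero.1 inferInstance) _ _ h1 with h2 | h2
      · left
        exact hinj (by rw [h2, map_zero])
      · right
        exact θ.injective (by rw [h2, map_zero]))
    haveI : Module.Finite R P := by
      obtain ⟨s, hs⟩ := (Module.Finite.fg_top : (⊤ : Submodule R' P').FG)
      refine ⟨⟨s.image θ.symm, ?_⟩⟩
      rw [eq_top_iff]
      rintro n -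
      have hn : θ n ∈ Submodule.span R' (s : Set P') := by rw [hs]; trivial
      have key : ∀ m ∈ Submodule.span R' (s : Set P'),
          θ.symm m ∈ Submodule.span R ((s.image θ.symm : Finset P) : Set P) := by
        intro m hm
        induction hm using Submodule.span_induction with
        | mem x hx =>
          exact Submodule.subset_span (by
            rw [Finset.coe_image]; exact ⟨x, hx, rfl⟩)
        | zero => rw [map_zero]; exact Submodule.zero_mem _
        | add x y _ _ hx hy => rw [map_add]; exact Submodule.add_mem _ hx hy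
        | smul b x _ hx =>
          obtain ⟨a, rfl⟩ := hσ b
          have : θ.symm (σ a • x) = a • θ.symm x := by
            apply θ.injective
            rw [hθ, AddEquiv.apply_symm_apply, AddEquiv.apply_symm_apply]
          rw [this]
          exact Submodule.smul_mem _ _ hx
      have := key _ hn
      rwa [AddEquiv.symm_apply_apply] at this
    exact Groth.Agent.S15070.pd_lt_two_of_torsionFree hgl3 P
  · haveI : (RingHom.ker σ).IsPrime := RingHom.ker_isPrime σ
    obtain ⟨π, hπ0, hπ⟩ := exists_generator hdim (RingHom.ker σ) hk0 hkm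
    haveI : NoZeroSMulDivisors R' P' :=
      ⟨fun {c x} h => (Module.isTorsionFree_iff_smul_eq_zero.1 inferInstance) c x h⟩
    obtain ⟨r, e, he⟩ : ∃ (r : ℕ) (e : P' →ₗ[R'] (Fin r → R')), Function.Injective e := by
      obtain ⟨e, he⟩ := Groth.Agent.S11499.result R' P' _ rfl
      exact ⟨_, e, he⟩
    let ι : P →ₗ[R] (Fin r → R') :=
      { toFun := fun n => e (θ n)
        map_add' := fun n n' => by rw [map_add, map_add]
        map_smul' := fun a n => by
          rw [hθ, map_smul, RingHom.id_apply, ← halg, algebraMap_smul] }
    have hι : Function.Injective ι := he.comp θ.injective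
    have hX2 : HasProjectiveDimensionLT (ModuleCat.of R (Fin r → R')) 2 :=
      pd_pi_quotient hσ π hπ0 hπ r
    let S : ShortComplex (ModuleCat.{u} R) :=
      ShortComplex.mk (ModuleCat.ofHom ι) (ModuleCat.ofHom (LinearMap.range ι).mkQ) (by
        ext p
        simp)
    have hS : S.ShortExact :=
      { exact := by
          rw [ShortComplex.ShortExact.moduleCat_exact_iff_function_exact]
          exact LinearMap.exact_map_mkQ_range ι
        mono_f := (ModuleCat.mono_iff_injective _).2 hι
        epi_g := (ModuleCat.epi_iff_surjective _).2 (Submodule.mkQ_surjective _) }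
    exact hS.hasProjectiveDimensionLT_X₁ 2 hX2 (hgl3 S.X₃)

open Order in
/-- a point with a proper specialization in a scheme of dimension `≤ 2` has a local ring of
dimension `≤ 1`. -/
theorem ringKrullDim_stalk_le_one (S : Scheme.{u}) (hdim : topologicalKrullDim S ≤ 2) (x x' : S)
    (h1 : x ⤳ x') (h2 : ¬ x' ⤳ x) : ringKrullDim (S.presheaf.stalk x) ≤ 1 := by
  have hlt : x' < x := ⟨h1, h2⟩
  have h3 : coheight x + 1 ≤ coheight x' := coheight_add_one_le hlt
  have h4 : ((coheight x' : ℕ∞) : WithBot ℕ∞) ≤ 2 := by
    rw [← ringKrullDim_stalk_eq_coheight x']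
    exact (Groth.Agent.Lib.Helper3.ringKrullDim_stalk_le_topologicalKrullDim S x').trans hdim
  have h5 : coheight x' ≤ 2 := by
    have : ((coheight x' : ℕ∞) : WithBot ℕ∞) ≤ ((2 : ℕ∞) : WithBot ℕ∞) := h4
    exact WithBot.coe_le_coe.1 this
  have h6 : coheight x ≤ 1 := by
    have h7 : coheight x + 1 ≤ 1 + 1 := h3.trans (h5.trans (by norm_num))
    exact (ENat.add_le_add_iff_right (by norm_num)).1 h7
  rw [ringKrullDim_stalk_eq_coheight x]
  exact_mod_cast h6

open Order in
/-- on an integral scheme of dimension `1`, a point whose local ring is a field has a proper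
specialization. -/
theorem exists_proper_specialization (C : Scheme.{u}) [IsIntegral C]
    (hC : topologicalKrullDim C = 1) (c : C) (hc : IsField (C.presheaf.stalk c)) :
    ∃ c' : C, c ⤳ c' ∧ ¬ c' ⤳ c := by
  have h0 : coheight c = 0 := by
    have := ringKrullDim_eq_zero_of_isField hc
    rw [ringKrullDim_stalk_eq_coheight c] at this
    exact_mod_cast this
  have hmax : IsMax c := coheight_eq_zero.1 h0
  obtain ⟨c', hc'⟩ : ∃ c' : C, ¬ ringKrullDim (C.presheaf.stalk c') ≤ 0 := by
    by_contra hcon
    push Not at hcon
    have : topologicalKrullDim C ≤ 0 := by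
      rw [Groth.Agent.Lib.Helper3.topologicalKrullDim_eq_iSup_stalk]
      exact iSup_le hcon
    rw [hC] at this
    exact absurd this (by decide)
  have hη : c ≤ genericPoint C := genericPoint_specializes c
  have hη' : genericPoint C ≤ c := hmax hη
  refine ⟨c', Specializes.trans hη' (genericPoint_specializes c'), fun hcc' => hc' ?_⟩
  have h1 : coheight c' ≤ coheight c := coheight_anti (show c ≤ c' from hcc')
  rw [ringKrullDim_stalk_eq_coheight c']
  rw [h0] at h1
  exact_mod_cast h1

/-- Let k be an algebraically closed field of characteristic zero and S a smooth surface over k (an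
integral k-scheme, smooth over k, of dimension two). Let j : C → S be a closed immersion with C
integral of dimension one, M a coherent O_C-module whose stalks are torsion-free modules over the
local rings of C, F a finite locally free O_S-module and f : F → j_*M an epimorphism of O_S-modules.
Then the kernel of f, the elementary transformation of F along f, is a finite locally free
O_S-module. (The published setting takes S projective; the argument is local on S and projectivity
is not assumed here.) -/
theorem result
    (k : Type u) [Field k] [IsAlgClosed k] [CharZero k]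
    (S : Scheme.{u}) [S.Over (Spec (CommRingCat.of k))] [IsIntegral S]
    [Smooth (S ↘ Spec (CommRingCat.of k))] (hdim : topologicalKrullDim S = 2)
    (C : Scheme.{u}) (j : C ⟶ S) [IsClosedImmersion j] [IsIntegral C]
    (hC : topologicalKrullDim C = 1)
    (M : C.Modules) (hM : Coh.IsCoh M) (hMtf : TorSh.IsTorsionFree M)
    (F : S.Modules) (hF : FlatMod.IsFinLocFree F)
    (f : F ⟶ (Coh.push j).obj M) [Epi f] :
    FlatMod.IsFinLocFree (kernel f) := by
  haveI : IsLocallyNoetherian S :=
    LocallyOfFiniteType.isLocallyNoetherian (S ↘ Spec (CommRingCat.of k))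
  have hreg : ∀ x : S, IsRegularLocalRing (S.presheaf.stalk x) := fun x =>
    Groth.Agent.Lib.Helper5.RegSmooth.regular_stalk_of_smooth k S (S ↘ Spec (CommRingCat.of k)) x
  have hdim' : topologicalKrullDim ↥S ≤ ((2 : ℕ) : WithBot ℕ∞) := by
    rw [hdim]; rfl
  have hdim2 : topologicalKrullDim ↥S ≤ 2 := hdim.le
  have hNcoh : Coh.IsCoh ((Coh.push j).obj M) := Groth.Agent.S0019.result j M hM
  have hcoh : Coh.IsCoh (kernel f) :=
    Groth.Agent.S16240.isCoh_kernel' f (Groth.Agent.S16240.isCoh_of_isFinLocFree F hF) hNcoh
  refine Groth.Agent.S16240.flf_of_coh_of_projective_stalks _ hcoh fun x => ?_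
  have hN2 : HasProjectiveDimensionLT ((DerSch.stalkFunctor S x).obj ((Coh.push j).obj M)) 2 := by
    by_cases hx : x ∈ Set.range j
    · obtain ⟨c, rfl⟩ := hx
      haveI := hreg (j c)
      haveI := Groth.Agent.Lib.Helper7.StalkFree.finite_stalk_of_isCoh C M hM c
      haveI : Module.IsTorsionFree (C.presheaf.stalk c) (M.presheaf.stalk c) := hMtf c
      have hsurj : Function.Surjective (j.stalkMap c).hom := j.stalkMap_surjective c
      have hdimR : ringKrullDim (S.presheaf.stalk (j c)) ≤ 2 :=
        (Groth.Agent.Lib.Helper3.ringKrullDim_stalk_le_topologicalKrullDim S (j c)).trans hdim2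
      have hgl3 : ∀ Q : ModuleCat.{u} (S.presheaf.stalk (j c)), HasProjectiveDimensionLT Q 3 :=
        fun Q => Groth.Agent.S16240.pd_stalk_of_regular hreg 2 hdim' (j c) Q
      have hgl2 : ringKrullDim (S.presheaf.stalk (j c)) ≤ 1 →
          ∀ Q : ModuleCat.{u} (S.presheaf.stalk (j c)), HasProjectiveDimensionLT Q 2 := by
        intro h1 Q
        have hd : ringKrullDim (S.presheaf.stalk (j c)) =
            ((IsLocalRing.maximalIdeal (S.presheaf.stalk (j c))).spanFinrank : ℕ) :=
          (IsRegularLocalRing.spanFinrank_maximalIdeal).symm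
        have hle : (IsLocalRing.maximalIdeal (S.presheaf.stalk (j c))).spanFinrank ≤ 1 := by
          rw [hd] at h1
          exact_mod_cast h1
        haveI := Groth.Agent.Lib.helper11.GlDimRegular.hasProjectiveDimensionLT_of_isRegularLocalRing
          (IsLocalRing.maximalIdeal (S.presheaf.stalk (j c))).spanFinrank hd Q
        exact hasProjectiveDimensionLT_of_ge Q
          ((IsLocalRing.maximalIdeal (S.presheaf.stalk (j c))).spanFinrank + 1) 2 (by omega)
      have hker : ¬ ringKrullDim (S.presheaf.stalk (j c)) ≤ 1 →
          RingHom.ker (j.stalkMap c).hom ≠ IsLocalRing.maximalIdeal (S.presheaf.stalk (j c)) := by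
        intro hnd hkm
        apply hnd
        have hfield : IsField (C.presheaf.stalk c) := by
          refine ⟨⟨0, 1, zero_ne_one⟩, mul_comm, fun {b} hb => ?_⟩
          obtain ⟨a, rfl⟩ := hsurj b
          have ha : a ∉ IsLocalRing.maximalIdeal (S.presheaf.stalk (j c)) := by
            rw [← hkm, RingHom.mem_ker]; exact hb
          have hu : IsUnit a := by
            by_contra hnu
            exact ha ((IsLocalRing.mem_maximalIdeal a).2 hnu)
          obtain ⟨u, rfl⟩ := hu
          exact ⟨(j.stalkMap c).hom ↑u⁻¹, by rw [← map_mul]; simp⟩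
        obtain ⟨c', h1, h2⟩ := exists_proper_specialization C hC c hfield
        exact ringKrullDim_stalk_le_one S hdim2 (j c) (j c') (h1.map j.continuous)
          (fun h => h2 ((j.isClosedEmbedding.isInducing.specializes_iff).1 h))
      exact pd_lt_two_core hdimR hgl3 hgl2 (j.stalkMap c).hom hsurj hker
        (((Coh.push j).obj M).presheaf.stalk (j c)) (M.presheaf.stalk c)
        (AddEquiv.ofBijective (Groth.Agent.Lib.Helper18.CycPush.pushStalk j M c)
          (Groth.Agent.Lib.Helper18.CycPush.pushStalk_bijective j M j.isClosedEmbedding.isInducing c))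
        (fun a n => Groth.Agent.Lib.Helper18.CycPush.pushStalk_smul j M c a n)
    · haveI := Groth.Agent.Lib.Helper18.CycPush.stalk_subsingleton_of_notMem_range j M j.isClosedEmbedding.isClosed_range x hx
      have hz : IsZero ((DerSch.stalkFunctor S x).obj ((Coh.push j).obj M)) := by
        haveI : Subsingleton ↑((DerSch.stalkFunctor S x).obj ((Coh.push j).obj M)) :=
          inferInstanceAs (Subsingleton (((Scheme.Modules.pushforward j).obj M).presheaf.stalk x))
        exact ModuleCat.isZero_of_subsingleton _
      haveI := hz.hasProjectiveDimensionLT_zero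
      exact hasProjectiveDimensionLT_of_ge _ 0 2 (by omega)
  let T : ShortComplex S.Modules := ShortComplex.mk (kernel.ι f) f (kernel.condition f)
  have hT : T.ShortExact :=
    { exact := ShortComplex.exact_of_f_is_kernel _ (kernelIsKernel f)
      mono_f := inferInstanceAs (Mono (kernel.ι f))
      epi_g := inferInstanceAs (Epi f) }
  have h1 := Groth.Agent.S16240.pd_step T hT hF x 0 hN2
  exact projective_iff_hasProjectiveDimensionLT_one.2 h1

end Groth.Agent.S15848
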