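import Groth.Statements.S15874
import Groth.Agent.Lib.Helper14.EtTorsE
import Groth.Agent.Lib.Helper4.TrivTorsor

set_option autoImplicit false
universe u
open CategoryTheory MonoidalCategory CartesianMonoidalCategory MonObj GrpObj AlgebraicGeometry
open NonAbH1

namespace Groth.Agent.S15874

/-- having a global section is invariant under equivariant isomorphism -/
theorem hasSection_iff {S : Scheme.{u}} {G : Over S} [GrpObj G] {K : Precoverage Scheme.{u}}
    (P Q : NonAbH1.TorsorSch G K) (h : Nonempty (NonAbH1.EquivIso P.act Q.act)) :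
    NonAbH1.HasSectionOver P.X (𝟙 S) = NonAbH1.HasSectionOver Q.X (𝟙 S) := by
  obtain ⟨e⟩ := h
  apply propext
  constructor
  · rintro ⟨σ, hσ⟩
    exact ⟨σ ≫ e.iso.hom.left, by rw [Category.assoc, Over.w, hσ]⟩
  · rintro ⟨σ, hσ⟩
    exact ⟨σ ≫ e.iso.inv.left, by rw [Category.assoc, Over.w, hσ]⟩

/-- the predicate "has a section" on `H¹` -/
def hasSec {S : Scheme.{u}} {G : Over S} [GrpObj G] {K : Precoverage Scheme.{u}} :
    NonAbH1.H1Sch G K → Prop :=
  Quot.lift (fun P => NonAbH1.HasSectionOver P.X (𝟙 S)) hasSection_iff

theorem hasSec_one {S : Scheme.{u}} {G : Over S} [GrpObj G] {K : Precoverage Scheme.{u}}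
    [K.HasIsos] : hasSec (1 : NonAbH1.H1Sch G K) :=
  ⟨η[G].left, Over.w η[G]⟩


/-- Let G be an étale k-group scheme and S a normal integral k-scheme with generic point η. Then an fppf
torsor over S under G whose base change to Spec κ(η) is trivial is itself trivial: the kernel of
H¹(S, G) → H¹(κ(η), G) on classes of torsors that are schemes is the base point. (The published
statement takes S merely integral; the connected étale double cover of a nodal cubic over an
algebraically closed field is a non-trivial torsor under the constant group of order 2 that is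
trivial at the generic point, so S is taken normal here, which is what the published proof uses.) -/
theorem result (k : Type u) [Field k]
    (G : Over (Spec (CommRingCat.of k))) [GrpObj G] [Etale G.hom]
    (S : Scheme.{u}) [IsIntegral S] (hS : Pi1.IsNormalScheme S) (s : S ⟶ Spec (CommRingCat.of k))
    (c : NonAbH1.H1Sch (Red.bc s G) Scheme.fppfPrecoverage)
    (hc : NonAbH1.H1Sch.bcMap (S.fromSpecResidueField (genericPoint S)) (Red.bc s G) Scheme.fppfPrecoverage c = 1) :
    c = 1 := by
  induction c using Quot.inductionOn with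
  | h P =>
    have h1 : hasSec (NonAbH1.H1Sch.bcMap (S.fromSpecResidueField (genericPoint S)) (Red.bc s G)
        Scheme.fppfPrecoverage (Quot.mk _ P)) := by
      rw [hc]; exact hasSec_one
    obtain ⟨τ, hτ⟩ : NonAbH1.HasSectionOver
        (Red.bc (S.fromSpecResidueField (genericPoint S)) P.X) (𝟙 _) := h1
    have hτ' : τ ≫ Limits.pullback.snd P.X.hom (S.fromSpecResidueField (genericPoint S)) = 𝟙 _ := hτ
    obtain ⟨-, hex⟩ := Groth.Agent.Lib.Helper14.EtTorsE.main G S hS s P.X P.act P.isTorsor
    obtain ⟨σ, hσ, -⟩ := hex (τ ≫ Limits.pullback.fst P.X.hom _) (by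
      rw [Category.assoc, Limits.pullback.condition, ← Category.assoc, hτ', Category.id_comp])
    have h2 := (Groth.Agent.Lib.Helper4.TrivTorsor.main6011 (Red.bc s G) P.X P.act).mpr
      ⟨P.isTorsor.1, σ, hσ⟩
    exact (Quot.sound h2).symm

end Groth.Agent.S15874
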