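import Groth.Statements.S15883
-- import your own Groth.Agent.* helpers here

set_option autoImplicit false
universe u
open CategoryTheory AlgebraicGeometry Opposite
open BMCoh

namespace Groth.Agent.S15883

/-- Let T be a twisted Borel–Moore cohomology theory with coefficients in A (a full subcategory of
R-modules containing R) on a constructible class V of Noetherian schemes, and let i_X : X → W and
i_Y : Y → W be morphisms of V — open immersions with dim X = dim W = dim Y — whose images are
complementary in W, so that W is the disjoint union of X and Y. Then for every coefficient module M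
and all integers i, n the map H^i(W, M(n)) → H^i(X, M(n)) × H^i(Y, M(n)) whose components are the
restriction maps along i_X and i_Y is bijective. -/
theorem result (V : ObjectProperty Scheme.{u}) [BMCoh.IsConstructible V] (R : Type u) [CommRing R] (A : BMCoh.Coefs R) (T : BMCoh.TheoryOn V R A) {X Y W : BMCoh.Obj V} (iX : X ⟶ W) (iY : Y ⟶ W) (h : Set.range iX.hom = (Set.range iY.hom)ᶜ) (M : A.Cat) (i n : ℤ) : Function.Bijective (fun a : T.gp W M i n => ((T.pull iX M i n).hom a, (T.pull iY M i n).hom a)) := by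
  obtain ⟨i0, rfl⟩ : ∃ i0 : ℤ, i = i0 + 1 := ⟨i - 1, by ring⟩
  have hcl : IsClosed (Set.range iY.hom) := by
    have h1 : Set.range iY.hom = (Set.range iX.hom)ᶜ := by rw [h, compl_compl]
    rw [h1]
    exact iX.hom.isOpenEmbedding.isOpen_range.isClosed_compl
  have hci : IsClosedImmersion iY.hom := IsClosedImmersion.of_isPreimmersion _ hcl
  let D : BMCoh.Decomp W :=
    { Z := Y, U := X, i := iY.hom, closedImm := hci, j := iX, range_eq := h }
  have hc : BMCoh.relCodim Y.scheme W.scheme = 0 := by
    unfold BMCoh.relCodim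
    rw [iY.dim_eq]
    ring
  have hcD : D.codim = 0 := hc
  -- push-forward along `iY` in degree `j`
  have hsec : ∀ (j : ℤ) (hj : j = j + 2 * BMCoh.relCodim Y.scheme W.scheme)
      (hn : n = n + BMCoh.relCodim Y.scheme W.scheme),
      T.push iY.hom M j n j n hj hn ≫ T.pull iY M j n = 𝟙 _ := by
    intro j hj hn
    have hpb : IsPullback (𝟙 Y : Y ⟶ Y).hom (𝟙 Y.scheme) iY.hom iY.hom :=
      IsKernelPair.id_of_mono iY.hom
    have h2 := T.push_pull iY.hom (𝟙 Y.scheme) iY (𝟙 Y) hpb M j n j n hj hn
      (by unfold BMCoh.relCodim; ring) (by unfold BMCoh.relCodim; ring)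
    rw [T.push_id] at h2
    change _ = ((T.H j n).map (𝟙 Y).op).app M ≫ 𝟙 _ at h2
    rw [op_id, (T.H j n).map_id, NatTrans.id_app, Category.comp_id] at h2
    exact h2
  have E1 := T.exact_pull_res D M (i0 + 1) n (i0 + 1 + 1) n (by rw [hcD]; ring) (by rw [hcD]; ring)
  have E2 := T.exact_res_push D M (i0 + 1) n (i0 + 1 + 1) n (by rw [hcD]; ring) (by rw [hcD]; ring)
    (by rw [hc]; ring) (by rw [hc]; ring)
  have E3 := T.exact_push_pull D M i0 n (i0 + 1) n (by rw [hc]; ring) (by rw [hc]; ring)
  have hs1 := hsec (i0 + 1) (by rw [hc]; ring) (by rw [hc]; ring)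
  have hs2 := hsec (i0 + 1 + 1) (by rw [hc]; ring) (by rw [hc]; ring)
  have hs1' : ∀ b, (T.pull iY M (i0 + 1) n).hom
      ((T.push iY.hom M (i0 + 1) n (i0 + 1) n (by rw [hc]; ring) (by rw [hc]; ring)).hom b) = b :=
    fun b => congrArg (fun g => g.hom b) hs1
  have hs2' : ∀ b, (T.pull iY M (i0 + 1 + 1) n).hom
      ((T.push iY.hom M (i0 + 1 + 1) n (i0 + 1 + 1) n (by rw [hc]; ring) (by rw [hc]; ring)).hom b)
        = b :=
    fun b => congrArg (fun g => g.hom b) hs2
  -- the residue map vanishes
  have hres : ∀ x, (T.res D M (i0 + 1) n (i0 + 1 + 1) n (by rw [hcD]; ring)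
      (by rw [hcD]; ring)).hom x = 0 := by
    intro x
    have h1 := (E2 _).mpr ⟨x, rfl⟩
    have h2 := hs2' ((T.res D M (i0 + 1) n (i0 + 1 + 1) n (by rw [hcD]; ring)
      (by rw [hcD]; ring)).hom x)
    rw [← h2]
    exact (congrArg (T.pull iY M (i0 + 1 + 1) n).hom h1).trans (map_zero _)
  have hsurjX : Function.Surjective (T.pull iX M (i0 + 1) n).hom := by
    intro x
    exact (E1 x).mp (hres x)
  have hzero : ∀ b, (T.pull iX M (i0 + 1) n).hom
      ((T.push iY.hom M (i0 + 1) n (i0 + 1) n (by rw [hc]; ring) (by rw [hc]; ring)).hom b) = 0 :=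
    fun b => (E3 _).mpr ⟨b, rfl⟩
  constructor
  · intro a a' haa
    have h1 : (T.pull iX M (i0 + 1) n).hom (a - a') = 0 := by
      rw [map_sub, sub_eq_zero]; exact congrArg Prod.fst haa
    have h2 : (T.pull iY M (i0 + 1) n).hom (a - a') = 0 := by
      rw [map_sub, sub_eq_zero]; exact congrArg Prod.snd haa
    obtain ⟨b, hb⟩ := (E3 _).mp h1
    have hb0 : b = 0 := by
      rw [← hs1' b]
      exact (congrArg (T.pull iY M (i0 + 1) n).hom hb).trans h2
    rw [hb0, map_zero] at hb
    exact sub_eq_zero.mp hb.symm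
  · rintro ⟨x, y⟩
    obtain ⟨a0, ha0⟩ := hsurjX x
    refine ⟨a0 + (T.push iY.hom M (i0 + 1) n (i0 + 1) n (by rw [hc]; ring)
      (by rw [hc]; ring)).hom (y - (T.pull iY M (i0 + 1) n).hom a0), ?_⟩
    apply Prod.ext
    · change (T.pull iX M (i0 + 1) n).hom _ = x
      rw [map_add, hzero, add_zero, ha0]
    · change (T.pull iY M (i0 + 1) n).hom _ = y
      rw [map_add, hs1']
      abel

end Groth.Agent.S15883
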