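import Groth.Statements.S15895
import Groth.Prelude.Def_CartDual2
-- import your own Groth.Agent.* helpers here

set_option autoImplicit false
universe u
open scoped TensorProduct
open Versch

namespace Groth.Agent.S15895

open TensorProduct

section

variable (p : ℕ) [Fact p.Prime] (R : Type u) [CommRing R] [CharP R p]

local notation "G" => Multiplicative (ZMod p)

instance : CharP (MonoidAlgebra R G) p :=
  charP_of_injective_algebraMap (Bialgebra.algebraMap_injective (R := R) (MonoidAlgebra R G)) p

omit [CharP R p] in
theorem g_pow (g : G) : g ^ p = 1 := by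
  have : Fintype.card G = p := by simp
  have h := pow_card_eq_one (x := g)
  rwa [this] at h

theorem apply_pow (b : CartDual.D R (MonoidAlgebra R G)) (a : MonoidAlgebra R G) :
    b (a ^ p) = (Coalgebra.counit (R := R) a) ^ p * b 1 := by
  let φ : MonoidAlgebra R G →+ R :=
    (b.ofConv : MonoidAlgebra R G →+ R).comp (frobenius (MonoidAlgebra R G) p : _ →+ _)
  let ψ : MonoidAlgebra R G →+ R :=
    (AddMonoidHom.mulRight (b 1)).comp (((frobenius R p : R →+ R)).comp
      ((Coalgebra.counit (R := R) (A := MonoidAlgebra R G) : MonoidAlgebra R G →+ R)))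
  have : φ = ψ := by
    apply MonoidAlgebra.addMonoidHom_ext
    intro g c
    simp only [φ, ψ, AddMonoidHom.comp_apply]
    change b.ofConv ((MonoidAlgebra.single g c) ^ p) =
      (Coalgebra.counit (R := R) (MonoidAlgebra.single g c)) ^ p * b.ofConv 1
    rw [MonoidAlgebra.single_pow, g_pow, MonoidAlgebra.counit_single]
    have : (MonoidAlgebra.single (1 : G) (c ^ p) : MonoidAlgebra R G) = (c ^ p) • 1 := by
      rw [MonoidAlgebra.one_def, MonoidAlgebra.smul_single, smul_eq_mul, mul_one]
    rw [this, map_smul, smul_eq_mul]
    rfl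
  exact DFunLike.congr_fun this a

omit [CharP R p] in
theorem eval_surj (x : CartDual.D R (CartDual.D R (MonoidAlgebra R G))) :
    ∃ a : MonoidAlgebra R G, CartDual.eval R (MonoidAlgebra R G) a = x := by
  let y : Module.Dual R (Module.Dual R (MonoidAlgebra R G)) :=
    x.ofConv ∘ₗ (CartDual.toDual R (MonoidAlgebra R G)).symm.toLinearMap
  obtain ⟨a, ha⟩ := (Module.bijective_dual_eval R (MonoidAlgebra R G)).2 y
  refine ⟨a, ?_⟩
  apply WithConv.ext
  apply LinearMap.ext
  intro b
  have := LinearMap.congr_fun ha (CartDual.toDual R (MonoidAlgebra R G) b)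
  simp only [y, LinearMap.comp_apply, LinearEquiv.coe_coe, LinearEquiv.symm_apply_apply] at this
  rw [← this]
  rfl

end


/-- Let p be a prime, R a commutative ring of characteristic p and B = Hom_R(R[ℤ/p], R) the dual Hopf
algebra of the group algebra of the cyclic group of order p: the Hopf algebra of the constant group
scheme ℤ/p over Spec R (the Cartier dual of μ_p). Let v : B → B ⊗_R R^(Frob) be the comorphism of
the Verschiebung V : (ℤ/p)^(p) → ℤ/p (the ring map whose transpose under the canonical pairing is
the relative Frobenius of the dual Hopf algebra of B). Then V is the trivial homomorphism: v is the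
composite of the counit ε : B → R, the identity of underlying rings R → R^(Frob) and the inclusion
of the twisted factor R^(Frob) → B ⊗_R R^(Frob), i.e. v(b) = 1 ⊗ ε(b). -/
theorem result (p : ℕ) [Fact p.Prime] (R : Type u) [CommRing R]
    [CharP R p] (v : CartDual.D R (MonoidAlgebra R (Multiplicative (ZMod p))) →+* FrobAlg.BaseChange p R (CartDual.D R (MonoidAlgebra R (Multiplicative (ZMod p)))))
    (hv : Versch.IsVerschiebung p R (CartDual.D R (MonoidAlgebra R (Multiplicative (ZMod p)))) v) :
    v = ((Algebra.TensorProduct.includeRight (R := R) (A := CartDual.D R (MonoidAlgebra R (Multiplicative (ZMod p))))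
            (B := FrobAlg.Twist p R)).toRingHom.comp (FrobAlg.toTwist p R).toRingHom).comp
          (Bialgebra.counitAlgHom R (CartDual.D R (MonoidAlgebra R (Multiplicative (ZMod p))))).toRingHom := by
  apply Versch.IsVerschiebung.unique p R _ hv
  rw [Versch.isVerschiebung_iff]
  intro b x
  obtain ⟨a, rfl⟩ := eval_surj p R x
  have h1 : ((CartDual.eval R (MonoidAlgebra R (Multiplicative (ZMod p))) a) ^ p) b = b (a ^ p) := by
    rw [← map_pow]
    rfl
  rw [h1, apply_pow]
  simp only [RingHom.comp_apply, AlgHom.toRingHom_eq_coe, RingHom.coe_coe,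
    Algebra.TensorProduct.includeRight_apply, Versch.evTw_tmul']
  have h2 : ((CartDual.eval R (MonoidAlgebra R (Multiplicative (ZMod p)))) a).ofConv 1 = Coalgebra.counit (R := R) a := by
    change (1 : CartDual.D R (MonoidAlgebra R (Multiplicative (ZMod p)))).ofConv a = _
    simp
  have h3 : (Bialgebra.counitAlgHom R (CartDual.D R (MonoidAlgebra R (Multiplicative (ZMod p))))) b = b.ofConv 1 := rfl
  rw [h2, h3, map_mul]
  rfl

end Groth.Agent.S15895
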