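import Groth.Statements.S15897
-- import your own Groth.Agent.* helpers here
import Mathlib

set_option autoImplicit false
universe u v
open CartDual

namespace Groth.Agent.S15897

open TensorProduct in
lemma ev₂_comm (R : Type u) [CommRing R] (A : Type v) [CommRing A] [Algebra R A]
    [Module.Finite R A] [Module.Projective R A] (x z : CartDual.D R A) (t : A ⊗[R] A) :
    ev₂ R A (x ⊗ₜ z) (TensorProduct.comm R A A t) = ev₂ R A (z ⊗ₜ x) t := by
  induction t using TensorProduct.induction_on with
  | zero => simp
  | tmul a b => simp [mul_comm]
  | add t t' ht ht' => simp only [map_add, ht, ht']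

open TensorProduct in
lemma ev₂_comul_eq (R : Type u) [CommRing R] (A : Type v) [CommRing A] [Bialgebra R A]
    [Module.Finite R A] [Module.Projective R A] (x z : CartDual.D R A) (a : A) :
    ev₂ R A (x ⊗ₜ z) (Coalgebra.comul a) = (x * z) a := by
  rw [ev₂_tmul_eq, LinearMap.convMul_apply]
  generalize (Coalgebra.comul a : A ⊗[R] A) = t
  induction t using TensorProduct.induction_on with
  | zero => simp
  | tmul a b => simp
  | add t t' ht ht' => simp only [map_add, ht, ht']


/-- Let R be a commutative ring and A a commutative Hopf algebra over R which is finitely generated and
projective as an R-module (a finite locally free R-group scheme G = Spec A, not assumed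
commutative). If the convolution product on the dual Hopf algebra Hom_R(A, R) is commutative, then A
is cocommutative, i.e. G is a commutative group scheme. (The dual Hopf algebra is commutative
exactly when A is cocommutative; the other implication is immediate and not stated. The published
notes work over a Noetherian base ring; the row allows any commutative base ring.) -/
theorem result (R : Type u) [CommRing R] (A : Type v) [CommRing A] [HopfAlgebra R A]
    [Module.Finite R A] [Module.Projective R A] (h : ∀ x y : CartDual.D R A, x * y = y * x) :
    Coalgebra.IsCocomm R A := by
  constructor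
  apply LinearMap.ext
  intro a
  rw [LinearMap.comp_apply, ← sub_eq_zero]
  apply (Module.forall_dual_apply_eq_zero_iff R _).mp
  intro ξ
  obtain ⟨y, rfl⟩ := (ev₂ R A).surjective ξ
  rw [map_sub, sub_eq_zero]
  induction y using TensorProduct.induction_on with
  | zero => simp
  | tmul x z =>
    change ev₂ R A (x ⊗ₜ z) (TensorProduct.comm R A A (Coalgebra.comul a)) = _
    rw [ev₂_comm, ev₂_comul_eq, ev₂_comul_eq, h]
  | add y y' hy hy' =>
    simp only [map_add, LinearMap.add_apply] at hy hy' ⊢
    rw [hy, hy']

end Groth.Agent.S15897
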