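import Groth.Statements.S15906
import Groth.Agent.Lib.Helper29.DPSort

set_option autoImplicit false
open Surf

namespace Groth.Agent.S15906

open W4c3severiratdp Groth.Agent.Lib.Helper29.DPLat

def allTypes : List (List ℤ) :=
  (cands 11).flatMap (fun a => (srch 11 8 11 (3 * a - 2) (a ^ 2)).map (fun l => a :: l))

def types : List (DP 8) :=
  [![1, 1, 0, 0, 0, 0, 0, 0, 0],
        ![2, 1, 1, 1, 1, 0, 0, 0, 0],
        ![3, 2, 1, 1, 1, 1, 1, 0, 0],
        ![4, 2, 2, 2, 1, 1, 1, 1, 0],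
        ![4, 3, 1, 1, 1, 1, 1, 1, 1],
        ![5, 2, 2, 2, 2, 2, 2, 1, 0],
        ![5, 3, 2, 2, 2, 1, 1, 1, 1],
        ![6, 3, 3, 2, 2, 2, 2, 1, 1],
        ![7, 3, 3, 3, 3, 2, 2, 2, 1],
        ![7, 4, 3, 2, 2, 2, 2, 2, 2],
        ![8, 3, 3, 3, 3, 3, 3, 3, 1],
        ![8, 4, 3, 3, 3, 3, 2, 2, 2],
        ![9, 4, 4, 3, 3, 3, 3, 3, 2],
        ![10, 4, 4, 4, 4, 3, 3, 3, 3],
        ![11, 4, 4, 4, 4, 4, 4, 4, 3]]

lemma allTypes_eq : allTypes = types.map List.ofFn := by decide +kernel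

lemma types_conic : ∀ t ∈ types, form t t = 0 ∧ form (canon 8) t = -2 := by decide +kernel

lemma conic_sorted (v : DP 8) (h : IsConic v) :
    ∃ σ : Equiv.Perm (Fin 8), (v 0 :: List.ofFn (fun i => v (σ i).succ)) ∈ allTypes := by
  obtain ⟨ha1, ha2, hb⟩ := conic_bounds (le_refl 8) v h
  obtain ⟨h1, h2⟩ := (isConic_iff v).1 h
  let b : Fin 8 → ℤ := fun i => v i.succ
  let σ : Equiv.Perm (Fin 8) := Fin.revPerm.trans (Tuple.sort b)
  refine ⟨σ, ?_⟩
  unfold allTypes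
  rw [List.mem_flatMap]
  refine ⟨v 0, mem_cands (by push_cast; linarith) (by push_cast; linarith), ?_⟩
  rw [List.mem_map]
  refine ⟨_, ?_, rfl⟩
  have hmono := Tuple.monotone_sort b
  apply srch_complete 11 8 11 (3 * v 0 - 2) (v 0 ^ 2) (fun i => v (σ i).succ)
  · intro i j hij
    have : Fin.rev j ≤ Fin.rev i := Fin.rev_le_rev.2 hij
    exact hmono this
  · intro i; exact (hb _).2
  · intro i; exact_mod_cast hb _
  · rw [← h1]; exact Equiv.sum_comp σ (fun i => v i.succ)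
  · rw [← h2]; exact Equiv.sum_comp σ (fun i => v i.succ ^ 2)

lemma finish (v : DP 8) (σ : Equiv.Perm (Fin 8)) (t : DP 8)
    (hl : v 0 :: List.ofFn (fun i => v (σ i).succ) = List.ofFn t) :
    v 0 = t 0 ∧ ∀ i : Fin 8, v (σ i).succ = t i.succ := by
  rw [List.ofFn_succ (f := t), List.cons.injEq] at hl
  refine ⟨hl.1, fun i => ?_⟩
  exact congrFun (List.ofFn_injective hl.2) i

open W4c3severiratdp in
/-- Work in the lattice of vectors (a; b_1, …, b_δ), standing for divisor classes a ℓ − Σ b_i e_i on the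
blow-up of the projective plane at δ points written in a standard basis, with intersection form a a'
− Σ b_i b_i' and canonical class K = (−3; −1, …, −1); a conic class is a class Q with Q·Q = 0 and
K·Q = −2, an exceptional class (the class of a (−1)-curve) is a class E with E·E = −1 and K·E = −1,
and the Weyl group W_δ is the group of additive automorphisms of the lattice preserving the form and
fixing K. For δ = 8, a class (a; b_1, …, b_8) is a conic class if and only if, up to a permutation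
of b_1, …, b_8, it is one of the fifteen vectors (1; 1, 0, 0, 0, 0, 0, 0, 0), (2; 1, 1, 1, 1, 0, 0,
0, 0), (3; 2, 1, 1, 1, 1, 1, 0, 0), (4; 2, 2, 2, 1, 1, 1, 1, 0), (4; 3, 1, 1, 1, 1, 1, 1, 1), (5; 2,
2, 2, 2, 2, 2, 1, 0), (5; 3, 2, 2, 2, 1, 1, 1, 1), (6; 3, 3, 2, 2, 2, 2, 1, 1), (7; 3, 3, 3, 3, 2,
2, 2, 1), (7; 4, 3, 2, 2, 2, 2, 2, 2), (8; 4, 3, 3, 3, 3, 2, 2, 2), (8; 3, 3, 3, 3, 3, 3, 3, 1), (9;
4, 4, 3, 3, 3, 3, 3, 2), (10; 4, 4, 4, 4, 3, 3, 3, 3), (11; 4, 4, 4, 4, 4, 4, 4, 3). (One line of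
the published table is illegible in the available copy; the fifteen vectors here are the complete
solution set of the two defining equations a² = Σ b_i², 3a − Σ b_i = 2.) -/
theorem result (v : DP 8) :
    IsConic v ↔
      ∃ t ∈ ({![1, 1, 0, 0, 0, 0, 0, 0, 0],
        ![2, 1, 1, 1, 1, 0, 0, 0, 0],
        ![3, 2, 1, 1, 1, 1, 1, 0, 0],
        ![4, 2, 2, 2, 1, 1, 1, 1, 0],
        ![4, 3, 1, 1, 1, 1, 1, 1, 1],
        ![5, 2, 2, 2, 2, 2, 2, 1, 0],
        ![5, 3, 2, 2, 2, 1, 1, 1, 1],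
        ![6, 3, 3, 2, 2, 2, 2, 1, 1],
        ![7, 3, 3, 3, 3, 2, 2, 2, 1],
        ![7, 4, 3, 2, 2, 2, 2, 2, 2],
        ![8, 4, 3, 3, 3, 3, 2, 2, 2],
        ![8, 3, 3, 3, 3, 3, 3, 3, 1],
        ![9, 4, 4, 3, 3, 3, 3, 3, 2],
        ![10, 4, 4, 4, 4, 3, 3, 3, 3],
        ![11, 4, 4, 4, 4, 4, 4, 4, 3]} : Set (DP 8)),
        ∃ σ : Equiv.Perm (Fin 8), v 0 = t 0 ∧ ∀ i : Fin 8, v (σ i).succ = t i.succ := by
  have hset : ∀ t : DP 8, t ∈ ({![1, 1, 0, 0, 0, 0, 0, 0, 0],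
        ![2, 1, 1, 1, 1, 0, 0, 0, 0],
        ![3, 2, 1, 1, 1, 1, 1, 0, 0],
        ![4, 2, 2, 2, 1, 1, 1, 1, 0],
        ![4, 3, 1, 1, 1, 1, 1, 1, 1],
        ![5, 2, 2, 2, 2, 2, 2, 1, 0],
        ![5, 3, 2, 2, 2, 1, 1, 1, 1],
        ![6, 3, 3, 2, 2, 2, 2, 1, 1],
        ![7, 3, 3, 3, 3, 2, 2, 2, 1],
        ![7, 4, 3, 2, 2, 2, 2, 2, 2],
        ![8, 4, 3, 3, 3, 3, 2, 2, 2],
        ![8, 3, 3, 3, 3, 3, 3, 3, 1],
        ![9, 4, 4, 3, 3, 3, 3, 3, 2],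
        ![10, 4, 4, 4, 4, 3, 3, 3, 3],
        ![11, 4, 4, 4, 4, 4, 4, 4, 3]} : Set (DP 8)) ↔ t ∈ types := by
    intro t
    simp only [Set.mem_insert_iff, Set.mem_singleton_iff, types, List.mem_cons, List.not_mem_nil, or_false]
    tauto
  constructor
  · intro h
    obtain ⟨σ, hσ⟩ := conic_sorted v h
    rw [allTypes_eq, List.mem_map] at hσ
    obtain ⟨t, ht, hl⟩ := hσ
    exact ⟨t, (hset t).2 ht, σ, finish v σ t hl.symm⟩
  · rintro ⟨t, ht, σ, h0, hi⟩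
    obtain ⟨c1, c2⟩ := (isConic_iff t).1 (types_conic t ((hset t).1 ht))
    rw [isConic_iff]
    constructor
    · rw [← Equiv.sum_comp σ (fun i => v i.succ), h0, ← c1]
      exact Finset.sum_congr rfl (fun i _ => hi i)
    · rw [← Equiv.sum_comp σ (fun i => v i.succ ^ 2), h0, ← c2]
      exact Finset.sum_congr rfl (fun i _ => by rw [hi i])

end Groth.Agent.S15906
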