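import Groth.Statements.S15907
import Groth.Agent.Lib.Helper29.DPPairs
import Groth.Agent.Lib.Helper29.DPDataCon2
import Groth.Agent.Lib.Helper29.DPDataCon3
import Groth.Agent.Lib.Helper29.DPDataCon4
import Groth.Agent.Lib.Helper29.DPDataCon5
import Groth.Agent.Lib.Helper29.DPDataCon6
import Groth.Agent.Lib.Helper29.DPDataCon7
import Groth.Agent.Lib.Helper29.DPDataCon8

set_option autoImplicit false
open Surf

namespace Groth.Agent.S15907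

open W4c3severiratdp Groth.Agent.Lib.Helper29.DPLat

lemma h0_2 : ∀ e ∈ tab_con2_0, e.2.2 = (![1, 1, 0] : DP 2) := by decide +kernel
lemma hinj_2 : ∀ e1 ∈ tab_con2_1, ∀ e2 ∈ tab_con2_1,
    form e1.2.2 (![1, 1, 0] : DP 2) = form e2.2.2 (![1, 1, 0] : DP 2) → False ∨ e1.2.2 = e2.2.2 := by decide +kernel

lemma h0_3 : ∀ e ∈ tab_con3_0, e.2.2 = (![1, 1, 0, 0] : DP 3) := by decide +kernel
lemma hinj_3 : ∀ e1 ∈ tab_con3_1, ∀ e2 ∈ tab_con3_1,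
    form e1.2.2 (![1, 1, 0, 0] : DP 3) = form e2.2.2 (![1, 1, 0, 0] : DP 3) → False ∨ e1.2.2 = e2.2.2 := by decide +kernel

lemma h0_4 : ∀ e ∈ tab_con4_0, e.2.2 = (![1, 1, 0, 0, 0] : DP 4) := by decide +kernel
lemma hinj_4 : ∀ e1 ∈ tab_con4_1, ∀ e2 ∈ tab_con4_1,
    form e1.2.2 (![1, 1, 0, 0, 0] : DP 4) = form e2.2.2 (![1, 1, 0, 0, 0] : DP 4) → False ∨ e1.2.2 = e2.2.2 := by decide +kernel

lemma h0_5 : ∀ e ∈ tab_con5_0, e.2.2 = (![1, 1, 0, 0, 0, 0] : DP 5) := by decide +kernel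
lemma hinj_5 : ∀ e1 ∈ tab_con5_1, ∀ e2 ∈ tab_con5_1,
    form e1.2.2 (![1, 1, 0, 0, 0, 0] : DP 5) = form e2.2.2 (![1, 1, 0, 0, 0, 0] : DP 5) → False ∨ e1.2.2 = e2.2.2 := by decide +kernel

lemma h0_6 : ∀ e ∈ tab_con6_0, e.2.2 = (![1, 1, 0, 0, 0, 0, 0] : DP 6) := by decide +kernel
lemma hinj_6 : ∀ e1 ∈ tab_con6_1, ∀ e2 ∈ tab_con6_1,
    form e1.2.2 (![1, 1, 0, 0, 0, 0, 0] : DP 6) = form e2.2.2 (![1, 1, 0, 0, 0, 0, 0] : DP 6) → False ∨ e1.2.2 = e2.2.2 := by decide +kernel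

lemma h0_7 : ∀ e ∈ tab_con7_0, e.2.2 = (![1, 1, 0, 0, 0, 0, 0, 0] : DP 7) := by decide +kernel
lemma hinj_7 : ∀ e1 ∈ tab_con7_1, ∀ e2 ∈ tab_con7_1,
    form e1.2.2 (![1, 1, 0, 0, 0, 0, 0, 0] : DP 7) = form e2.2.2 (![1, 1, 0, 0, 0, 0, 0, 0] : DP 7) → False ∨ e1.2.2 = e2.2.2 := by decide +kernel

lemma h0_8 : ∀ e ∈ tab_con8_0, e.2.2 = (![1, 1, 0, 0, 0, 0, 0, 0, 0] : DP 8) := by decide +kernel
lemma hinj_8 : ∀ e1 ∈ tab_con8_1, ∀ e2 ∈ tab_con8_1,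
    form e1.2.2 (![1, 1, 0, 0, 0, 0, 0, 0, 0] : DP 8) = form e2.2.2 (![1, 1, 0, 0, 0, 0, 0, 0, 0] : DP 8) → form e1.2.2 (![1, 1, 0, 0, 0, 0, 0, 0, 0] : DP 8) = 4 ∨ e1.2.2 = e2.2.2 := by decide +kernel

lemma hP_conic {δ : ℕ} : ∀ (g : DP δ ≃ₗ[ℤ] DP δ), IsWeyl g → ∀ v, IsConic v → IsConic (g v) :=
  fun _ hg _ hv => isConic_weyl hg hv

open W4c3severiratdp in
/-- Work in the lattice of vectors (a; b_1, …, b_δ), standing for divisor classes a ℓ − Σ b_i e_i on the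
blow-up of the projective plane at δ points written in a standard basis, with intersection form a a'
− Σ b_i b_i' and canonical class K = (−3; −1, …, −1); a conic class is a class Q with Q·Q = 0 and
K·Q = −2, an exceptional class (the class of a (−1)-curve) is a class E with E·E = −1 and K·E = −1,
and the Weyl group W_δ is the group of additive automorphisms of the lattice preserving the form and
fixing K. For 2 ≤ δ ≤ 8 the intersection product Q_1·Q_2 determines the W_δ-orbit of an ordered pair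
(Q_1, Q_2) of conic classes, the only exception being δ = 8 with Q_1·Q_2 = 4: if (Q_1, Q_2) and
(Q_1', Q_2') are ordered pairs of conic classes with Q_1·Q_2 = Q_1'·Q_2', and not both δ = 8 and
Q_1·Q_2 = 4, then some element of W_δ carries Q_1 to Q_1' and Q_2 to Q_2'. -/
theorem result (δ : ℕ) (h2 : 2 ≤ δ) (h8 : δ ≤ 8)
    (v₁ v₂ w₁ w₂ : DP δ) (hv₁ : IsConic v₁) (hv₂ : IsConic v₂) (hw₁ : IsConic w₁) (hw₂ : IsConic w₂)
    (heq : form v₁ v₂ = form w₁ w₂) (hexc : ¬ (δ = 8 ∧ form v₁ v₂ = 4)) :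
    ∃ g : DP δ ≃ₗ[ℤ] DP δ, IsWeyl g ∧ g v₁ = w₁ ∧ g v₂ = w₂ := by
  interval_cases δ
  · exact pairs_of_data IsConic hP_conic (![1, 1, 0] : DP 2) tab_con2_0 tab_con2_1 rep_con2_0 h0_2
      rep_con2_1 (fun _ => False) hinj_2 v₁ v₂ w₁ w₂ hv₁ hv₂ hw₁ hw₂ heq (fun hb => hb)
  · exact pairs_of_data IsConic hP_conic (![1, 1, 0, 0] : DP 3) tab_con3_0 tab_con3_1 rep_con3_0 h0_3
      rep_con3_1 (fun _ => False) hinj_3 v₁ v₂ w₁ w₂ hv₁ hv₂ hw₁ hw₂ heq (fun hb => hb)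
  · exact pairs_of_data IsConic hP_conic (![1, 1, 0, 0, 0] : DP 4) tab_con4_0 tab_con4_1 rep_con4_0 h0_4
      rep_con4_1 (fun _ => False) hinj_4 v₁ v₂ w₁ w₂ hv₁ hv₂ hw₁ hw₂ heq (fun hb => hb)
  · exact pairs_of_data IsConic hP_conic (![1, 1, 0, 0, 0, 0] : DP 5) tab_con5_0 tab_con5_1 rep_con5_0 h0_5
      rep_con5_1 (fun _ => False) hinj_5 v₁ v₂ w₁ w₂ hv₁ hv₂ hw₁ hw₂ heq (fun hb => hb)
  · exact pairs_of_data IsConic hP_conic (![1, 1, 0, 0, 0, 0, 0] : DP 6) tab_con6_0 tab_con6_1 rep_con6_0 h0_6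
      rep_con6_1 (fun _ => False) hinj_6 v₁ v₂ w₁ w₂ hv₁ hv₂ hw₁ hw₂ heq (fun hb => hb)
  · exact pairs_of_data IsConic hP_conic (![1, 1, 0, 0, 0, 0, 0, 0] : DP 7) tab_con7_0 tab_con7_1 rep_con7_0 h0_7
      rep_con7_1 (fun _ => False) hinj_7 v₁ v₂ w₁ w₂ hv₁ hv₂ hw₁ hw₂ heq (fun hb => hb)
  · exact pairs_of_data IsConic hP_conic (![1, 1, 0, 0, 0, 0, 0, 0, 0] : DP 8) tab_con8_0 tab_con8_1 rep_con8_0 h0_8
      rep_con8_1 (fun k => k = 4) hinj_8 v₁ v₂ w₁ w₂ hv₁ hv₂ hw₁ hw₂ heq (fun hb => hexc ⟨rfl, hb⟩)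

end Groth.Agent.S15907
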