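import Groth.Statements.S15908
import Groth.Agent.Lib.Helper29.DPOrbit
import Groth.Agent.Lib.Helper29.DPDataCon8

set_option autoImplicit false
open Surf

namespace Groth.Agent.S15908

open W4c3severiratdp Groth.Agent.Lib.Helper29.DPLat

def Q0 : DP 8 := ![1, 1, 0, 0, 0, 0, 0, 0, 0]
def P2 : DP 8 := ![4, 0, 2, 2, 2, 1, 1, 1, 1]
def Q2 : DP 8 := ![5, 1, 2, 2, 2, 2, 2, 2, 0]
def Y : DP 8 := ![3, 1, 1, 1, 1, 1, 1, 1, 0]

lemma h0_8 : ∀ e ∈ tab_con8_0, e.2.2 = Q0 := by decide +kernel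

lemma hfour : ∀ e ∈ tab_con8_1, form e.2.2 Q0 = 4 → e.2.2 = P2 ∨ e.2.2 = Q2 := by decide +kernel

lemma conic_Q0 : IsConic Q0 := ⟨by decide +kernel, by decide +kernel⟩
lemma conic_P2 : IsConic P2 := ⟨by decide +kernel, by decide +kernel⟩
lemma conic_Q2 : IsConic Q2 := ⟨by decide +kernel, by decide +kernel⟩

lemma not_equiv : ¬ ∃ g : DP 8 ≃ₗ[ℤ] DP 8, IsWeyl g ∧ g Q0 = Q0 ∧ g P2 = Q2 := by
  rintro ⟨g, -, h1, h2⟩
  have h : g (Q0 + P2) = (2:ℤ) • Y := by
    rw [map_add, h1, h2]; decide +kernel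
  have h' : Q0 + P2 = (2:ℤ) • g.symm Y := by
    rw [← map_smul, ← h, LinearEquiv.symm_apply_apply]
  have h0 := congrFun h' 0
  have e : (Q0 + P2) 0 = 5 := by decide +kernel
  rw [e] at h0
  simp only [Pi.smul_apply, smul_eq_mul] at h0
  omega

open W4c3severiratdp in
/-- Work in the lattice of vectors (a; b_1, …, b_δ), standing for divisor classes a ℓ − Σ b_i e_i on the
blow-up of the projective plane at δ points written in a standard basis, with intersection form a a'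
− Σ b_i b_i' and canonical class K = (−3; −1, …, −1); a conic class is a class Q with Q·Q = 0 and
K·Q = −2, an exceptional class (the class of a (−1)-curve) is a class E with E·E = −1 and K·E = −1,
and the Weyl group W_δ is the group of additive automorphisms of the lattice preserving the form and
fixing K. For δ = 8 the ordered pairs (Q_1, Q_2) of conic classes with Q_1·Q_2 = 4 form exactly two
W_8-orbits: there are two such pairs that no element of W_8 carries one to the other, and every such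
pair is carried by an element of W_8 to one of these two. -/
theorem result :
    ∃ p₁ p₂ q₁ q₂ : DP 8, IsConic p₁ ∧ IsConic p₂ ∧ IsConic q₁ ∧ IsConic q₂ ∧ form p₁ p₂ = 4 ∧ form q₁ q₂ = 4 ∧
      (¬ ∃ g : DP 8 ≃ₗ[ℤ] DP 8, IsWeyl g ∧ g p₁ = q₁ ∧ g p₂ = q₂) ∧
      ∀ v₁ v₂ : DP 8, IsConic v₁ → IsConic v₂ → form v₁ v₂ = 4 →
        ∃ g : DP 8 ≃ₗ[ℤ] DP 8, IsWeyl g ∧ ((g v₁ = p₁ ∧ g v₂ = p₂) ∨ (g v₁ = q₁ ∧ g v₂ = q₂)) := by
  refine ⟨Q0, P2, Q0, Q2, conic_Q0, conic_P2, conic_Q0, conic_Q2, by decide +kernel, by decide +kernel,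
    not_equiv, ?_⟩
  intro v₁ v₂ hv₁ hv₂ h4
  obtain ⟨ev, hev, gv, hgv, -, hgv1⟩ := rep_con8_0 v₁ hv₁
  rw [h0_8 ev hev] at hgv1
  obtain ⟨e, he, hr⟩ := rep_con8_1 (gv v₂) (isConic_weyl hgv hv₂)
  have hQ : (Q0 : DP 8) = ![1, 1, 0, 0, 0, 0, 0, 0, 0] := rfl
  rw [← hQ] at hr
  have f1 := hr.form_eq (List.mem_singleton.2 rfl)
  have f1' : form e.2.2 Q0 = 4 := by
    rw [f1, ← hgv1, hgv.1, form_comm]; exact h4
  obtain ⟨k, hk, hkQ, hkx⟩ := hr
  refine ⟨gv.trans k, IsWeyl_trans hgv hk, ?_⟩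
  simp only [LinearEquiv.trans_apply]
  rw [hgv1, hkQ Q0 (List.mem_singleton.2 rfl), hkx]
  rcases hfour e he f1' with h | h
  · left; exact ⟨rfl, h⟩
  · right; exact ⟨rfl, h⟩

end Groth.Agent.S15908
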