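import Groth.Statements.S15909
import Groth.Agent.Lib.Helper29.DPOrbit
import Groth.Agent.Lib.Helper29.DPDataExc

set_option autoImplicit false
open Surf

namespace Groth.Agent.S15909

open W4c3severiratdp Groth.Agent.Lib.Helper29.DPLat

def E0 : DP 8 := ![0, -1, 0, 0, 0, 0, 0, 0, 0]

lemma tab0_rep : ∀ e ∈ tab_exc8_0, e.2.2 = E0 := by decide +kernel

lemma tab1_inj : ∀ e1 ∈ tab_exc8_1, ∀ e2 ∈ tab_exc8_1,
    form e1.2.2 E0 = form e2.2.2 E0 → e1.2.2 = e2.2.2 := by decide +kernel

lemma exc_to_E0 (L : DP 8) (hL : IsExc L) : Rel ([] : List (DP 8)) L E0 := by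
  obtain ⟨e, he, hr⟩ := rep_exc8_0 L hL
  rwa [tab0_rep e he] at hr

open W4c3severiratdp in
/-- Work in the lattice of vectors (a; b_1, …, b_δ), standing for divisor classes a ℓ − Σ b_i e_i on the
blow-up of the projective plane at δ points written in a standard basis, with intersection form a a'
− Σ b_i b_i' and canonical class K = (−3; −1, …, −1); a conic class is a class Q with Q·Q = 0 and
K·Q = −2, an exceptional class (the class of a (−1)-curve) is a class E with E·E = −1 and K·E = −1,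
and the Weyl group W_δ is the group of additive automorphisms of the lattice preserving the form and
fixing K. Let δ = 8 (a del Pezzo surface of degree one) and let L be an exceptional class. If L_1
and L_2 are exceptional classes with L_1·L = L_2·L, then L_1 and L_2 lie in the same orbit of the
stabilizer of L in W_8. -/
theorem result (L L₁ L₂ : DP 8) (hL : IsExc L) (hL₁ : IsExc L₁)
    (hL₂ : IsExc L₂) (h : form L₁ L = form L₂ L) :
    ∃ g : DP 8 ≃ₗ[ℤ] DP 8, IsWeyl g ∧ g L = L ∧ g L₁ = L₂ := by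
  obtain ⟨g0, hg0, -, hg0L⟩ := exc_to_E0 L hL
  have h1 := isExc_weyl hg0 hL₁
  have h2 := isExc_weyl hg0 hL₂
  obtain ⟨e1, he1, hr1⟩ := rep_exc8_1 (g0 L₁) h1
  obtain ⟨e2, he2, hr2⟩ := rep_exc8_1 (g0 L₂) h2
  have hE0 : (E0 : DP 8) = ![0, -1, 0, 0, 0, 0, 0, 0, 0] := rfl
  rw [← hE0] at hr1 hr2
  have f1 := hr1.form_eq (List.mem_singleton.2 rfl)
  have f2 := hr2.form_eq (List.mem_singleton.2 rfl)
  rw [← hg0L, hg0.1] at f1 f2
  have heq : e1.2.2 = e2.2.2 := by
    apply tab1_inj e1 he1 e2 he2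
    rw [← hg0L, f1, f2, h]
  rw [heq] at hr1
  exact conj_rel hg0 hg0L (Rel.trans' hr1 (Rel.symm' hr2))

end Groth.Agent.S15909
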