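import Groth.Statements.S15910
import Groth.Agent.Lib.Helper29.DPOrbit
import Groth.Agent.Lib.Helper29.DPDataExc

set_option autoImplicit false
open Surf

namespace Groth.Agent.S15910

open W4c3severiratdp Groth.Agent.Lib.Helper29.DPLat

def E0 : DP 8 := ![0, -1, 0, 0, 0, 0, 0, 0, 0]
def A1 : DP 8 := ![0, 0, -1, 0, 0, 0, 0, 0, 0]
def A2 : DP 8 := ![6, 2, 3, 2, 2, 2, 2, 2, 2]
def R1 : DP 8 := ![1, 1, 1, 0, 0, 0, 0, 0, 0]
def R2 : DP 8 := ![5, 1, 1, 2, 2, 2, 2, 2, 2]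
def M3 : DP 8 := ![6, 3, 2, 2, 2, 2, 2, 2, 2]
def La1 : DP 8 := ![2, 0, 0, 1, 1, 1, 1, 1, 0]
def La2 : DP 8 := ![3, 0, 1, 1, 1, 1, 1, 1, 2]
def Dv : DP 8 := ![5, 0, 1, 2, 2, 2, 2, 2, 2]
def Sv : DP 8 := ![6, 1, 2, 2, 2, 2, 2, 2, 2]

def r0 : Fin 4 → Fin 3 → DP 8 := ![![E0, E0, M3], ![E0, A1, A2], ![E0, R1, R2], ![La1, La2, R1]]

lemma tab0_rep : ∀ e ∈ tab_exc8_0, e.2.2 = E0 := by decide +kernel

lemma exc_to_E0 (L : DP 8) (hL : IsExc L) : Rel ([] : List (DP 8)) L E0 := by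
  obtain ⟨e, he, hr⟩ := rep_exc8_0 L hL
  rwa [tab0_rep e he] at hr

lemma mvals : ∀ e ∈ tab_exc8_1, (-1 ≤ form e.2.2 E0 ∧ form e.2.2 E0 ≤ 3) ∧
    (form e.2.2 E0 = -1 → e.2.2 = E0) ∧ (form e.2.2 E0 = 3 → e.2.2 = M3) ∧
    (form e.2.2 E0 = 0 → e.2.2 = A1) ∧ (form e.2.2 E0 = 1 → e.2.2 = R1) := by decide +kernel

lemma tab2_La1 : ∀ e ∈ tab_exc8_2, form e.2.2 E0 = 0 → form e.2.2 Dv = 0 → e.2.2 = La1 := by
  decide +kernel

lemma Sv_eq : Sv = E0 - 2 • canon 8 := by decide +kernel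
lemma M3_eq : M3 = Sv - E0 - E0 := by decide +kernel
lemma A2_eq : A2 = Sv - E0 - A1 := by decide +kernel
lemma R2_eq : R2 = Sv - E0 - R1 := by decide +kernel
lemma Dv_eq : Dv = Sv - R1 := by decide +kernel
lemma La2_eq : La2 = Dv - La1 := by decide +kernel
lemma form_Sv_E0 : form Sv E0 = 1 := by decide +kernel
lemma form_Dv_Dv : form Dv Dv = 0 := by decide +kernel

lemma r0_exc : ∀ j i, form (r0 j i) (r0 j i) = -1 ∧ form (canon 8) (r0 j i) = -1 := by decide +kernel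
lemma r0_sum : ∀ j, r0 j 0 + r0 j 1 + r0 j 2 = Sv := by decide +kernel
lemma r0inv_inj : ∀ j j' : Fin 4, ∑ i, (form (r0 j i) E0) ^ 2 = ∑ i, (form (r0 j' i) E0) ^ 2 → j = j' := by
  decide +kernel

lemma fix_Sv {k : DP 8 ≃ₗ[ℤ] DP 8} (hk : IsWeyl k) (hE : k E0 = E0) : k Sv = Sv := by
  rw [Sv_eq, map_sub, map_nsmul, hE, hk.2]

lemma exc_rel (x : DP 8) (hx : IsExc x) : ∃ y, Rel [E0] x y ∧ (-1 ≤ form x E0 ∧ form x E0 ≤ 3) ∧
    (form x E0 = -1 → y = E0) ∧ (form x E0 = 3 → y = M3) ∧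
    (form x E0 = 0 → y = A1) ∧ (form x E0 = 1 → y = R1) := by
  obtain ⟨e, he, hr⟩ := rep_exc8_1 x hx
  have hE0 : (E0 : DP 8) = ![0, -1, 0, 0, 0, 0, 0, 0, 0] := rfl
  rw [← hE0] at hr
  have f := hr.form_eq (List.mem_singleton.2 rfl)
  have := mvals e he
  rw [f] at this
  exact ⟨e.2.2, hr, this⟩

lemma eq_of_rel_fixed {x y : DP 8} (h : Rel [E0] x y) (hy : ∀ k : DP 8 ≃ₗ[ℤ] DP 8, IsWeyl k → k E0 = E0 → k y = y) :
    x = y := by
  obtain ⟨k, hk, hkF, hkx⟩ := h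
  have := hy k hk (hkF E0 (List.mem_singleton.2 rfl))
  exact k.injective (hkx.trans this.symm)

lemma eq_E0 (x : DP 8) (hx : IsExc x) (h : form x E0 = -1) : x = E0 := by
  obtain ⟨y, hr, -, h1, -⟩ := exc_rel x hx
  rw [h1 h] at hr
  exact eq_of_rel_fixed hr (fun k _ hE => hE)

lemma eq_M3 (x : DP 8) (hx : IsExc x) (h : form x E0 = 3) : x = M3 := by
  obtain ⟨y, hr, -, -, h1, -⟩ := exc_rel x hx
  rw [h1 h] at hr
  refine eq_of_rel_fixed hr (fun k hk hE => ?_)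
  rw [M3_eq, map_sub, map_sub, fix_Sv hk hE, hE]

lemma core (t : Fin 3 → DP 8) (ht : ∀ i, IsExc (t i)) (hs : t 0 + t 1 + t 2 = Sv) :
    ∃ j : Fin 4, ∃ k : DP 8 ≃ₗ[ℤ] DP 8, IsWeyl k ∧ k E0 = E0 ∧
      ∃ σ : Equiv.Perm (Fin 3), ∀ i, k (t (σ i)) = r0 j i := by
  let m : Fin 3 → ℤ := fun i => form (t i) E0
  let σ : Equiv.Perm (Fin 3) := Tuple.sort m
  have hmono : Monotone (m ∘ σ) := Tuple.monotone_sort m
  have hu : ∀ i, IsExc (t (σ i)) := fun i => ht (σ i)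
  have hsum : t (σ 0) + t (σ 1) + t (σ 2) = Sv := by
    have := Equiv.sum_comp σ t
    rw [Fin.sum_univ_three, Fin.sum_univ_three] at this
    rw [this, hs]
  have msum : form (t (σ 0)) E0 + form (t (σ 1)) E0 + form (t (σ 2)) E0 = 1 := by
    rw [← form_add_left, ← form_add_left, hsum, form_Sv_E0]
  have h01 : form (t (σ 0)) E0 ≤ form (t (σ 1)) E0 := hmono (by decide : (0 : Fin 3) ≤ 1)
  have h12 : form (t (σ 1)) E0 ≤ form (t (σ 2)) E0 := hmono (by decide : (1 : Fin 3) ≤ 2)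
  obtain ⟨y0, hr0, hb0, -, -, -, -⟩ := exc_rel _ (hu 0)
  obtain ⟨y1, hr1, hb1, -, -, hy1A, hy1R⟩ := exc_rel _ (hu 1)
  obtain ⟨y2, hr2, hb2, -, -, -, hy2R⟩ := exc_rel _ (hu 2)
  have hcases : (form (t (σ 0)) E0 = -1 ∧ form (t (σ 1)) E0 = -1 ∧ form (t (σ 2)) E0 = 3) ∨
      (form (t (σ 0)) E0 = -1 ∧ form (t (σ 1)) E0 = 0 ∧ form (t (σ 2)) E0 = 2) ∨
      (form (t (σ 0)) E0 = -1 ∧ form (t (σ 1)) E0 = 1 ∧ form (t (σ 2)) E0 = 1) ∨
      (form (t (σ 0)) E0 = 0 ∧ form (t (σ 1)) E0 = 0 ∧ form (t (σ 2)) E0 = 1) := by omega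
  rcases hcases with ⟨c0, c1, c2⟩ | ⟨c0, c1, c2⟩ | ⟨c0, c1, c2⟩ | ⟨c0, c1, c2⟩
  · -- (E0, E0, M3)
    refine ⟨0, LinearEquiv.refl ℤ _, isWeyl_refl, rfl, σ, ?_⟩
    have e0 := eq_E0 _ (hu 0) c0
    have e1 := eq_E0 _ (hu 1) c1
    have e2 := eq_M3 _ (hu 2) c2
    intro i
    fin_cases i
    · exact e0
    · exact e1
    · exact e2
  · -- (E0, A1, A2)
    have e0 := eq_E0 _ (hu 0) c0
    rw [hy1A c1] at hr1
    obtain ⟨k, hk, hkF, hkx⟩ := hr1
    have hkE := hkF E0 (List.mem_singleton.2 rfl)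
    refine ⟨1, k, hk, hkE, σ, ?_⟩
    have e2 : k (t (σ 2)) = A2 := by
      have : t (σ 2) = Sv - t (σ 0) - t (σ 1) := by rw [← hsum]; abel
      rw [this, map_sub, map_sub, fix_Sv hk hkE, e0, hkE, hkx, A2_eq]
    intro i
    fin_cases i
    · show k (t (σ 0)) = E0
      rw [e0, hkE]
    · exact hkx
    · exact e2
  · -- (E0, R1, R2)
    have e0 := eq_E0 _ (hu 0) c0
    rw [hy1R c1] at hr1
    obtain ⟨k, hk, hkF, hkx⟩ := hr1
    have hkE := hkF E0 (List.mem_singleton.2 rfl)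
    refine ⟨2, k, hk, hkE, σ, ?_⟩
    have e2 : k (t (σ 2)) = R2 := by
      have : t (σ 2) = Sv - t (σ 0) - t (σ 1) := by rw [← hsum]; abel
      rw [this, map_sub, map_sub, fix_Sv hk hkE, e0, hkE, hkx, R2_eq]
    intro i
    fin_cases i
    · show k (t (σ 0)) = E0
      rw [e0, hkE]
    · exact hkx
    · exact e2
  · -- (La1, La2, R1)
    rw [hy2R c2] at hr2
    obtain ⟨k1, hk1, hk1F, hk1x⟩ := hr2
    have hk1E := hk1F E0 (List.mem_singleton.2 rfl)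
    have hμ1 : IsExc (k1 (t (σ 0))) := isExc_weyl hk1 (hu 0)
    have hμ2 : IsExc (k1 (t (σ 1))) := isExc_weyl hk1 (hu 1)
    have hμsum : k1 (t (σ 0)) + k1 (t (σ 1)) = Dv := by
      have : t (σ 0) + t (σ 1) = Sv - t (σ 2) := by rw [← hsum]; abel
      rw [← map_add, this, map_sub, fix_Sv hk1 hk1E, hk1x, Dv_eq]
    have hμE : form (k1 (t (σ 0))) E0 = 0 := by
      have := hk1.1 (t (σ 0)) E0
      rw [hk1E] at this
      rw [this, c0]
    have hμμ : form (k1 (t (σ 0))) (k1 (t (σ 1))) = 1 := by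
      have h := form_Dv_Dv
      rw [← hμsum, form_add_left, form_add_right, form_add_right, hμ1.1, hμ2.1,
        form_comm (k1 (t (σ 1))) (k1 (t (σ 0)))] at h
      linarith
    have hμD : form (k1 (t (σ 0))) Dv = 0 := by
      rw [← hμsum, form_add_right, hμ1.1, hμμ]; norm_num
    obtain ⟨e, he, hr⟩ := rep_exc8_2 _ hμ1
    have hE0 : (E0 : DP 8) = ![0, -1, 0, 0, 0, 0, 0, 0, 0] := rfl
    have hR1 : (R1 : DP 8) = ![1, 1, 1, 0, 0, 0, 0, 0, 0] := rfl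
    rw [← hE0, ← hR1] at hr
    obtain ⟨k2, hk2, hk2F, hk2x⟩ := hr
    have hk2E : k2 E0 = E0 := hk2F E0 (by simp)
    have hk2R : k2 R1 = R1 := hk2F R1 (by simp)
    have hk2D : k2 Dv = Dv := by
      rw [Dv_eq, map_sub, fix_Sv hk2 hk2E, hk2R]
    have f1 : form e.2.2 E0 = 0 := by
      rw [← hk2x, ← hμE]
      have := hk2.1 (k1 (t (σ 0))) E0
      rwa [hk2E] at this
    have f2 : form e.2.2 Dv = 0 := by
      rw [← hk2x, ← hμD]
      have := hk2.1 (k1 (t (σ 0))) Dv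
      rwa [hk2D] at this
    have hL1 := tab2_La1 e he f1 f2
    rw [hL1] at hk2x
    have hL2 : k2 (k1 (t (σ 1))) = La2 := by
      have : k1 (t (σ 1)) = Dv - k1 (t (σ 0)) := by rw [← hμsum]; abel
      rw [this, map_sub, hk2D, hk2x, La2_eq]
    refine ⟨3, k1.trans k2, IsWeyl_trans hk1 hk2, ?_, σ, ?_⟩
    · simp only [LinearEquiv.trans_apply]; rw [hk1E, hk2E]
    · intro i
      fin_cases i
      · exact hk2x
      · exact hL2
      · show k2 (k1 (t (σ 2))) = R1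
        rw [hk1x, hk2R]

open W4c3severiratdp in
/-- Work in the lattice of vectors (a; b_1, …, b_δ), standing for divisor classes a ℓ − Σ b_i e_i on the
blow-up of the projective plane at δ points written in a standard basis, with intersection form a a'
− Σ b_i b_i' and canonical class K = (−3; −1, …, −1); a conic class is a class Q with Q·Q = 0 and
K·Q = −2, an exceptional class (the class of a (−1)-curve) is a class E with E·E = −1 and K·E = −1,
and the Weyl group W_δ is the group of additive automorphisms of the lattice preserving the form and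
fixing K. Let δ = 8 and let L be an exceptional class. Let B be the set of unordered triples {λ_1,
λ_2, λ_3} of exceptional classes (repetitions allowed) with λ_1 + λ_2 + λ_3 = −2K + L. Then the
stabilizer of L in W_8 has exactly four orbits on B. Triples are written as maps Fin 3 → lattice and
compared up to reordering: there are four members of B, no two of which are identified by an element
of the stabilizer followed by a reordering, and every member of B is so identified with one of the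
four. -/
theorem result (L : DP 8) (hL : IsExc L) :
    ∃ r : Fin 4 → (Fin 3 → DP 8),
      (∀ j, (∀ i, IsExc (r j i)) ∧ r j 0 + r j 1 + r j 2 = L - 2 • canon 8) ∧
      (∀ j j', (∃ g : DP 8 ≃ₗ[ℤ] DP 8, IsWeyl g ∧ g L = L ∧ ∃ σ : Equiv.Perm (Fin 3), ∀ i, g (r j (σ i)) = r j' i) → j = j') ∧
      ∀ t : Fin 3 → DP 8, (∀ i, IsExc (t i)) → t 0 + t 1 + t 2 = L - 2 • canon 8 →
        ∃ j, ∃ g : DP 8 ≃ₗ[ℤ] DP 8, IsWeyl g ∧ g L = L ∧ ∃ σ : Equiv.Perm (Fin 3), ∀ i, g (t (σ i)) = r j i := by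
  obtain ⟨g0, hg0, -, hg0L⟩ := exc_to_E0 L hL
  have hs0 := IsWeyl_symm hg0
  have hsymmE : g0.symm E0 = L := by rw [← hg0L, LinearEquiv.symm_apply_apply]
  have hLS : g0.symm Sv = L - 2 • canon 8 := by
    rw [Sv_eq, map_sub, map_nsmul, hsymmE, hs0.2]
  have hSL : g0 (L - 2 • canon 8) = Sv := by
    rw [← hLS, LinearEquiv.apply_symm_apply]
  refine ⟨fun j i => g0.symm (r0 j i), ?_, ?_, ?_⟩
  · intro j
    refine ⟨fun i => isExc_weyl hs0 (r0_exc j i), ?_⟩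
    show g0.symm (r0 j 0) + g0.symm (r0 j 1) + g0.symm (r0 j 2) = _
    rw [← map_add, ← map_add, r0_sum j, hLS]
  · rintro j j' ⟨g, hg, hgL, σ, hσ⟩
    apply r0inv_inj
    have key : ∀ i, form (r0 j' i) E0 = form (r0 j (σ i)) E0 := by
      intro i
      have h1 : form (g0.symm (r0 j' i)) L = form (r0 j' i) E0 := by
        rw [← hsymmE, hs0.1]
      have h2 : form (g0.symm (r0 j (σ i))) L = form (r0 j (σ i)) E0 := by
        rw [← hsymmE, hs0.1]
      rw [← h1, ← h2]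
      have h3 := hg.1 (g0.symm (r0 j (σ i))) L
      rw [hgL] at h3
      rw [← h3]
      have := hσ i
      simp only at this
      rw [this]
    calc ∑ i, (form (r0 j i) E0) ^ 2 = ∑ i, (form (r0 j (σ i)) E0) ^ 2 :=
          (Equiv.sum_comp σ (fun i => (form (r0 j i) E0) ^ 2)).symm
      _ = ∑ i, (form (r0 j' i) E0) ^ 2 := Finset.sum_congr rfl (fun i _ => by rw [key i])
  · intro t ht hsum
    have ht' : ∀ i, IsExc (g0 (t i)) := fun i => isExc_weyl hg0 (ht i)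
    have hsum' : g0 (t 0) + g0 (t 1) + g0 (t 2) = Sv := by
      rw [← map_add, ← map_add, hsum, hSL]
    obtain ⟨j, k, hk, hkE, σ, hσ⟩ := core (fun i => g0 (t i)) ht' hsum'
    refine ⟨j, (g0.trans k).trans g0.symm, IsWeyl_trans (IsWeyl_trans hg0 hk) hs0, ?_, σ, ?_⟩
    · simp only [LinearEquiv.trans_apply]
      rw [hg0L, hkE, hsymmE]
    · intro i
      simp only [LinearEquiv.trans_apply]
      rw [hσ i]

end Groth.Agent.S15910
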