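import Groth.Statements.S15981
import Groth.Agent.Lib.Helper6.K0Len

set_option autoImplicit false
universe u
open IntSh

namespace Groth.Agent.S15981

open CategoryTheory CategoryTheory.Limits AlgebraicGeometry
open Groth.Agent.Lib.Helper6.K0Filt Groth.Agent.Lib.Helper6.K0Len Groth.Agent.Lib.Helper6.DevCore

section
variable {X : Scheme.{u}}

/-- the points with zero-dimensional local ring -/
abbrev D (x : X) : Prop := ringKrullDim (X.presheaf.stalk x) = 0

theorem eq_of_mem_closure_of_D (x y : X) (hx : D x) (h : x ∈ closure ({y} : Set X)) : x = y := by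
  have hspec : y ⤳ x := specializes_iff_mem_closure.2 h
  have hy : y ∈ Set.range (X.fromSpecStalk x) := by
    rw [Scheme.range_fromSpecStalk]; exact hspec
  obtain ⟨p, rfl⟩ := hy
  haveI : Ring.KrullDimLE 0 (X.presheaf.stalk x) := ringKrullDimZero_iff_ringKrullDim_eq_zero.2 hx
  have htfae := (Ring.krullDimLE_zero_and_isLocalRing_tfae (X.presheaf.stalk x)).out 0 1
  obtain ⟨I, hI, huniq⟩ := htfae.1 ⟨this, inferInstance⟩
  have hp : p = IsLocalRing.closedPoint (X.presheaf.stalk x) := by
    apply PrimeSpectrum.ext
    rw [huniq p.asIdeal p.isPrime, huniq (IsLocalRing.closedPoint (X.presheaf.stalk x)).asIdeal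
      (IsLocalRing.closedPoint (X.presheaf.stalk x)).isPrime]
  rw [hp, Scheme.fromSpecStalk_closedPoint]

theorem finite_D [IsNoetherian X] : Finite {x : X // D x} := by
  have hfin : (irreducibleComponents X).Finite := TopologicalSpace.NoetherianSpace.finite_irreducibleComponents
  haveI : Finite (irreducibleComponents X) := hfin.to_subtype
  have hmem : ∀ x : {x : X // D x}, closure ({x.1} : Set X) ∈ irreducibleComponents X := by
    intro x
    refine ⟨isIrreducible_singleton.closure, fun s hs hle => ?_⟩
    have hcs : IsIrreducible (closure s) := hs.closure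
    obtain ⟨c, hc⟩ := QuasiSober.sober hcs isClosed_closure
    have hxc : x.1 ∈ closure ({c} : Set X) := by
      rw [hc]
      exact subset_closure (hle (subset_closure (Set.mem_singleton x.1)))
    have hxc' := eq_of_mem_closure_of_D x.1 c x.2 hxc
    rw [hxc', hc]
    exact subset_closure
  refine Finite.of_injective (fun x => (⟨closure ({x.1} : Set X), hmem x⟩ : irreducibleComponents X)) ?_
  intro x y hxy
  have h : closure ({x.1} : Set X) = closure {y.1} := congrArg Subtype.val hxy
  have : Inseparable x.1 y.1 := by
    rw [inseparable_iff_closure_eq]; exact h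
  exact Subtype.ext this.eq

end

open CategoryTheory CategoryTheory.Limits AlgebraicGeometry in
/-- Let X be a reduced Noetherian scheme and η_i the generic points of its irreducible components (the
points with zero-dimensional local ring). Sending the class of a coherent O_X-module F to the family
of lengths of its stalks F_{η_i} over O_{X,η_i} is a well defined homomorphism rk from the
Grothendieck group of coherent O_X-modules to the group of integer-valued functions on the η_i;
every such rk is surjective and its kernel is the subgroup generated by the classes of coherent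
modules whose support contains no η_i (the first step of the coniveau filtration), so that rk
identifies the zeroth graded piece of that filtration with the free abelian group on the irreducible
components. -/
theorem result
    {X : Scheme.{u}} [IsNoetherian X] [IsReduced X] :
    (∃ rk : SGA6.Kcoh X →+ ({x : X // ringKrullDim (X.presheaf.stalk x) = 0} → ℤ),
        ∀ F : X.Modules, Coh.IsCoh F →
          rk (KZero.clSub (fun M : X.Modules => Coh.IsCoh M) F) =
            fun x => ((Module.length (X.presheaf.stalk x.1) (F.presheaf.stalk x.1)).toNat : ℤ)) ∧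
    ∀ rk : SGA6.Kcoh X →+ ({x : X // ringKrullDim (X.presheaf.stalk x) = 0} → ℤ),
      (∀ F : X.Modules, Coh.IsCoh F →
          rk (KZero.clSub (fun M : X.Modules => Coh.IsCoh M) F) =
            fun x => ((Module.length (X.presheaf.stalk x.1) (F.presheaf.stalk x.1)).toNat : ℤ)) →
        Function.Surjective rk ∧
          rk.ker = AddSubgroup.closure {c : SGA6.Kcoh X | ∃ F : X.Modules, Coh.IsCoh F ∧
            (∀ x ∈ CohB1.support F, (1 : WithBot ℕ∞) ≤ ringKrullDim (X.presheaf.stalk x)) ∧
            c = KZero.clSub (fun M : X.Modules => Coh.IsCoh M) F} := by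
  classical
  haveI : Finite {x : X // D x} := finite_D
  letI : Fintype {x : X // D x} := Fintype.ofFinite _
  set H := AddSubgroup.closure {c : SGA6.Kcoh X | ∃ F : X.Modules, Coh.IsCoh F ∧
            (∀ x ∈ CohB1.support F, (1 : WithBot ℕ∞) ≤ ringKrullDim (X.presheaf.stalk x)) ∧
            c = KZero.clSub (fun M : X.Modules => Coh.IsCoh M) F} with hH
  -- the cycle formula
  have hcyc : ∀ M : X.Modules, Coh.IsCoh M → Fin D M ∧ cls M - finsum (term D M) ∈ H := by
    intro M hM
    refine cycle_formula D Set.univ isClosed_univ (fun x y hx _ h => eq_of_mem_closure_of_D x y hx h) H ?_ M hM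
      (Set.subset_univ _)
    intro y _ hy
    apply AddSubgroup.subset_closure
    refine ⟨OZ y, isCoh_OZ y, ?_, rfl⟩
    intro x hx
    rw [support_OZ] at hx
    have hne : ringKrullDim (X.presheaf.stalk x) ≠ 0 := by
      intro h0
      apply hy
      rw [← eq_of_mem_closure_of_D x y h0 hx]
      exact h0
    have hnn : (0 : WithBot ℕ∞) ≤ ringKrullDim (X.presheaf.stalk x) := ringKrullDim_nonneg_of_nontrivial
    generalize ringKrullDim (X.presheaf.stalk x) = a at hne hnn
    induction a using WithBot.recBotCoe with
    | bot => simp at hnn
    | coe m =>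
      have hm : m ≠ 0 := fun h => hne (by rw [h]; rfl)
      have : (1 : ℕ∞) ≤ m := ENat.one_le_iff_ne_zero.2 hm
      exact_mod_cast this
  have hlen : ∀ M : X.Modules, Coh.IsCoh M → ∀ x : X, D x → len M x ≠ ⊤ := fun M hM => (hcyc M hM).1.2
  -- the values of the rank on the structure sheaves of the closures
  have hOZ : ∀ (y : {x : X // D x}) (x : {x : X // D x}),
      (((len (OZ y.1) x.1).toNat : ℕ) : ℤ) = if x = y then 1 else 0 := by
    intro y x
    by_cases hxy : x = y
    · rw [if_pos hxy, hxy, len_OZ_self]; rfl
    · rw [if_neg hxy, len_eq_zero_of_notMem_support]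
      · rfl
      · rw [support_OZ]
        intro h
        exact hxy (Subtype.ext (eq_of_mem_closure_of_D x.1 y.1 x.2 h))
  refine ⟨?_, ?_⟩
  · -- construction of the rank
    let rkFun : X.Modules → ({x : X // D x} → ℤ) := fun M x => ((len M x.1).toNat : ℤ)
    let f : FreeAbelianGroup (Subtype (fun M : X.Modules => Coh.IsCoh M)) →+ ({x : X // D x} → ℤ) :=
      FreeAbelianGroup.lift (fun M => rkFun M.1)
    have hf : KZero.relSub (fun M : X.Modules => Coh.IsCoh M) ≤ f.ker := by
      rw [KZero.relSub, AddSubgroup.closure_le]
      rintro _ ⟨S, h1, h2, h3, hS, rfl⟩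
      change f _ = 0
      rw [map_sub, map_sub]
      simp only [f, FreeAbelianGroup.lift_apply_of]
      ext x
      simp only [Pi.sub_apply, Pi.zero_apply, rkFun]
      rw [len_add S hS x.1, ENat.toNat_add (hlen _ h1 x.1 x.2) (hlen _ h3 x.1 x.2)]
      push_cast
      ring
    refine ⟨QuotientAddGroup.lift _ f hf, ?_⟩
    intro F hF
    rw [Groth.Agent.Lib.Helper16.K0Db.clSub_of _ F hF]
    change f _ = _
    simp only [f, FreeAbelianGroup.lift_apply_of]
    rfl
  · intro rk hrk
    have hrk' : ∀ (F : X.Modules) (hF : Coh.IsCoh F) (x : {x : X // D x}),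
        rk (cls F) x = ((len F x.1).toNat : ℤ) := fun F hF x => congrFun (hrk F hF) x
    -- every class is congruent to the combination of the structure sheaves given by its rank
    have hΨ : ∀ c : SGA6.Kcoh X, c - ∑ x : {x : X // D x}, (rk c x) • cls (OZ x.1) ∈ H := by
      intro c
      induction c using QuotientAddGroup.induction_on with
      | H z =>
        induction z using FreeAbelianGroup.induction_on with
        | zero =>
          have h0 : ∀ x : {x : X // D x}, rk (0 : SGA6.Kcoh X) x = 0 := by
            intro x
            rw [map_zero]; rfl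
          have h1 : (0 : SGA6.Kcoh X) - ∑ x : {x : X // D x}, (rk (0 : SGA6.Kcoh X) x) • cls (OZ x.1) = 0 := by
            rw [Finset.sum_eq_zero (fun x _ => by rw [h0 x, zero_smul]), sub_zero]
          exact h1 ▸ H.zero_mem
        | of M =>
          have h1 := (hcyc M.1 M.2).2
          have h2 : cls M.1 = (QuotientAddGroup.mk (FreeAbelianGroup.of M) : SGA6.Kcoh X) :=
            Groth.Agent.Lib.Helper16.K0Db.clSub_of _ M.1 M.2
          rw [← h2]
          have h3 : finsum (term D M.1) = ∑ x : {x : X // D x}, (rk (cls M.1) x) • cls (OZ x.1) := by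
            rw [← finsum_eq_sum_of_fintype]
            have e : (fun x : {x : X // D x} => (rk (cls M.1) x) • cls (OZ x.1)) =
                fun x : {x : X // D x} => (fun z : X => (len M.1 z).toNat • cls (OZ z)) x.1 := by
              ext x
              rw [hrk' M.1 M.2 x, natCast_zsmul]
            rw [e]
            refine Eq.trans ?_ (finsum_subtype_eq_finsum_cond (f := fun z : X => (len M.1 z).toNat • cls (OZ z)) D).symm
            congr 1
            ext x
            rw [finsum_eq_if]
            unfold term
            split_ifs <;> rfl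
          rw [← h3]
          exact h1
        | neg M ih =>
          have : (-(QuotientAddGroup.mk (FreeAbelianGroup.of M) : SGA6.Kcoh X)) -
              ∑ x : {x : X // D x}, (rk (-(QuotientAddGroup.mk (FreeAbelianGroup.of M) : SGA6.Kcoh X)) x) • cls (OZ x.1) =
              -((QuotientAddGroup.mk (FreeAbelianGroup.of M) : SGA6.Kcoh X) -
                ∑ x : {x : X // D x}, (rk (QuotientAddGroup.mk (FreeAbelianGroup.of M) : SGA6.Kcoh X) x) • cls (OZ x.1)) := by
            simp only [map_neg, Pi.neg_apply, neg_smul, Finset.sum_neg_distrib]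
            abel
          rw [QuotientAddGroup.mk_neg, this]
          exact H.neg_mem ih
        | add a b iha ihb =>
          have : ((QuotientAddGroup.mk a : SGA6.Kcoh X) + QuotientAddGroup.mk b) -
              ∑ x : {x : X // D x}, (rk ((QuotientAddGroup.mk a : SGA6.Kcoh X) + QuotientAddGroup.mk b) x) • cls (OZ x.1) =
              ((QuotientAddGroup.mk a : SGA6.Kcoh X) - ∑ x : {x : X // D x}, (rk (QuotientAddGroup.mk a : SGA6.Kcoh X) x) • cls (OZ x.1)) +
              ((QuotientAddGroup.mk b : SGA6.Kcoh X) - ∑ x : {x : X // D x}, (rk (QuotientAddGroup.mk b : SGA6.Kcoh X) x) • cls (OZ x.1)) := by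
            simp only [map_add, Pi.add_apply, add_smul, Finset.sum_add_distrib]
            abel
          rw [QuotientAddGroup.mk_add, this]
          exact H.add_mem iha ihb
    refine ⟨?_, ?_⟩
    · -- surjectivity
      intro g
      refine ⟨∑ y : {x : X // D x}, g y • cls (OZ y.1), ?_⟩
      ext x
      have : rk (∑ y : {x : X // D x}, g y • cls (OZ y.1)) x = ∑ y : {x : X // D x}, g y * (if x = y then 1 else 0) := by
        rw [map_sum, Finset.sum_apply]
        refine Finset.sum_congr rfl fun y _ => ?_
        rw [map_zsmul, Pi.smul_apply, hrk' _ (isCoh_OZ _), hOZ, smul_eq_mul]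
      rw [this]
      simp
    · apply le_antisymm
      · intro c hc
        rw [AddMonoidHom.mem_ker] at hc
        have := hΨ c
        have h0 : ∀ x : {x : X // D x}, rk c x = 0 := fun x => by rw [hc]; rfl
        simp only [h0, zero_smul, Finset.sum_const_zero, sub_zero] at this
        exact this
      · rw [AddSubgroup.closure_le]
        rintro c ⟨F, hF, hFs, rfl⟩
        change rk _ = 0
        ext x
        rw [hrk' F hF x, len_eq_zero_of_notMem_support]
        · rfl
        · intro hx
          have h1 := hFs x.1 hx
          have h0 : ringKrullDim (X.presheaf.stalk x.1) = 0 := x.2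
          rw [h0] at h1
          exact absurd h1 (by decide)

end Groth.Agent.S15981
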