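import Groth.Statements.S15987
-- import your own Groth.Agent.* helpers here

set_option autoImplicit false
universe u v
open Deform

namespace Groth.Agent.S15987

open TrivSqZeroExt in
/-- the algebra endomorphism `a + bε ↦ a + (D a + b)ε` -/
noncomputable def homOf (k : Type u) [Field k] (A : Type u) [CommRing A] [Algebra k A]
    (D : Derivation k A A) : DualNumber A →ₐ[k] DualNumber A :=
  AlgHom.ofLinearMap
    { toFun := fun x => (inl x.fst + inr (D x.fst + x.snd) : DualNumber A)
      map_add' := by
        intro x y
        apply TrivSqZeroExt.ext
        · simp
        · simp; abel
      map_smul' := by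
        intro r x
        apply TrivSqZeroExt.ext
        · simp
        · simp }
    (by
      apply TrivSqZeroExt.ext
      · simp
      · simp)
    (by
      intro x y
      apply TrivSqZeroExt.ext
      · simp
      · simp [DualNumber.snd_mul]
        ring)

open TrivSqZeroExt in
theorem homOf_apply (k : Type u) [Field k] (A : Type u) [CommRing A] [Algebra k A]
    (D : Derivation k A A) (x : DualNumber A) :
    homOf k A D x = (inl x.fst + inr (D x.fst + x.snd) : DualNumber A) := rfl

open TrivSqZeroExt in
theorem homOf_comp_neg (k : Type u) [Field k] (A : Type u) [CommRing A] [Algebra k A]
    (D : Derivation k A A) : (homOf k A D).comp (homOf k A (-D)) = AlgHom.id k _ := by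
  apply AlgHom.ext
  intro x
  apply TrivSqZeroExt.ext
  · simp [homOf_apply]
  · simp [homOf_apply]

open TrivSqZeroExt in
/-- Let k be a field, A a commutative k-algebra and q_i : A → k (i ∈ ι) k-algebra maps (marked k-points
of Spec A). The k-algebra automorphisms φ of the ring of dual numbers A[ε] that fix ε (so are
k[ε]-linear), are the identity modulo ε, and satisfy q_i((φ x)_ε) = q_i(x_ε) for all i and x
(compatibility with the trivial lifts A[ε] → k[ε] of the marked points) are in bijection with the
k-derivations D : A → A such that q_i ∘ D = 0 for every i, the bijection sending φ to a ↦ (φ(a))_ε.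
(The source identifies the right-hand side with the global vector fields vanishing at the marked
points; the condition the computation yields is q_i ∘ D = 0, which is the same for Spec A smooth
over k but is weaker in general, e.g. for A = k[x]/(x^2) with 2 invertible in k.) -/
theorem result
    (k : Type u) [Field k] (A : Type u) [CommRing A] [Algebra k A] {ι : Type v} (q : ι → (A →ₐ[k] k)) :
    ∃ e : {φ : DualNumber A ≃ₐ[k] DualNumber A //
            φ DualNumber.eps = DualNumber.eps ∧ (∀ x, (φ x).fst = x.fst) ∧
              ∀ i x, q i (φ x).snd = q i x.snd} ≃
          {D : Derivation k A A // ∀ i a, q i (D a) = 0},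
      ∀ φ (a : A), (e φ).1 a = (φ.1 (inl a : DualNumber A)).snd := by
  classical
  refine ⟨
    { toFun := fun φ => ⟨Derivation.mk'
          { toFun := fun a => (φ.1 (inl a : DualNumber A)).snd
            map_add' := by
              intro a b
              rw [inl_add, map_add, snd_add]
            map_smul' := by
              intro r a
              rw [inl_smul, map_smul, snd_smul]
              rfl }
          (by
            intro a b
            show (φ.1 (inl (a * b) : DualNumber A)).snd = a • (φ.1 (inl b : DualNumber A)).snd
              + b • (φ.1 (inl a : DualNumber A)).snd
            rw [inl_mul, map_mul, DualNumber.snd_mul, φ.2.2.1, φ.2.2.1]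
            simp [mul_comm]),
        by
          intro i a
          show q i (φ.1 (inl a : DualNumber A)).snd = 0
          rw [φ.2.2.2]
          simp⟩
      invFun := fun D => ⟨AlgEquiv.ofAlgHom (homOf k A D.1) (homOf k A (-D.1))
          (homOf_comp_neg k A D.1)
          (by simpa using homOf_comp_neg k A (-D.1)),
        by
          refine ⟨?_, ?_, ?_⟩
          · show homOf k A D.1 DualNumber.eps = DualNumber.eps
            apply TrivSqZeroExt.ext
            · simp [homOf_apply]
            · simp [homOf_apply]
          · intro x
            show (homOf k A D.1 x).fst = x.fst
            simp [homOf_apply]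
          · intro i x
            show q i (homOf k A D.1 x).snd = q i x.snd
            simp [homOf_apply, D.2]⟩
      left_inv := by
        intro φ
        apply Subtype.ext
        apply AlgEquiv.ext
        intro x
        show homOf k A _ x = φ.1 x
        have hinr : ∀ b : A, (φ.1 (inr b : DualNumber A)).snd = b := by
          intro b
          have : (inr b : DualNumber A) = inl b * DualNumber.eps := by
            apply TrivSqZeroExt.ext
            · simp
            · simp [DualNumber.snd_mul]
          rw [this, map_mul, φ.2.1, DualNumber.snd_mul, φ.2.2.1]
          simp
        apply TrivSqZeroExt.ext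
        · rw [φ.2.2.1]
          simp [homOf_apply]
        · have hx : x = inl x.fst + inr x.snd := (TrivSqZeroExt.inl_fst_add_inr_snd_eq x).symm
          conv_rhs => rw [hx, map_add, snd_add, hinr]
          simp [homOf_apply]
      right_inv := by
        intro D
        apply Subtype.ext
        apply Derivation.ext
        intro a
        show (homOf k A D.1 (inl a : DualNumber A)).snd = D.1 a
        simp [homOf_apply] }, ?_⟩
  intro φ a
  rfl

end Groth.Agent.S15987
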