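import Groth.Statements.S15988
import Mathlib
import Groth.Agent.Lib.Helper12.TrivDefF

set_option autoImplicit false
universe u v
open Deform

namespace Groth.Agent.S15988

open TrivSqZeroExt in
/-- Let k be a field, A a smooth commutative k-algebra, q_i : A → k (i ∈ ι, ι finite) pairwise distinct
k-algebra maps, and q'_i : A[ε] → k[ε] k-algebra maps with q'_i(ε) = ε which reduce to q_i modulo ε
(marked points of a first-order deformation with underlying trivial deformation). Then some
k-algebra automorphism φ of A[ε] with φ(ε) = ε and φ = id modulo ε carries every q'_i to the trivial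
lift of q_i: q'_i(φ x) = (q_i(x_0), q_i(x_ε)) for all i and x. Together with the triviality of
first-order deformations of a smooth affine scheme this gives the source's statement that
first-order deformations of a smooth affine scheme with marked points are trivial. (The published
statement does not say that the finitely many marked points are distinct; for two coincident points
with different lifts no such automorphism exists, so the points are taken pairwise distinct here,
and the source's non-singular is read as smooth over k.) -/
theorem result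
    (k : Type u) [Field k] (A : Type u) [CommRing A] [Algebra k A] [Algebra.Smooth k A]
    {ι : Type v} [Finite ι] (q : ι → (A →ₐ[k] k)) (hq : Function.Injective q)
    (q' : ι → (DualNumber A →ₐ[k] DualNumber k))
    (hε : ∀ i, q' i DualNumber.eps = DualNumber.eps) (hq' : ∀ i x, (q' i x).fst = q i x.fst) :
    ∃ φ : DualNumber A ≃ₐ[k] DualNumber A,
      φ DualNumber.eps = DualNumber.eps ∧ (∀ x, (φ x).fst = x.fst) ∧
        ∀ i x, (q' i (φ x)).fst = q i x.fst ∧ (q' i (φ x)).snd = q i x.snd := by
  classical
  let gAalg : DualNumber k →ₐ[k] DualNumber A :=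
    DualNumber.lift ⟨(Algebra.ofId k (DualNumber A), DualNumber.eps),
      ⟨DualNumber.eps_mul_eps, fun a => DualNumber.commute_eps_left _⟩⟩
  have hgA : ∀ x : DualNumber k, gAalg x =
      algebraMap k (DualNumber A) x.fst + algebraMap k (DualNumber A) x.snd * DualNumber.eps :=
    fun x => rfl
  let π : DualNumber A →+* A := (TrivSqZeroExt.fstHom A A A).toRingHom
  have hπ : Function.Surjective π := fun a => ⟨TrivSqZeroExt.inl a, rfl⟩
  have hsm : (algebraMap k A).FormallySmooth :=
    RingHom.formallySmooth_algebraMap.mpr inferInstance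
  have hπg : ∀ a, π (gAalg.toRingHom a) = algebraMap k A (TrivSqZeroExt.fst a) := by
    intro a
    show TrivSqZeroExt.fst (gAalg a) = _
    rw [hgA]
    simp [TrivSqZeroExt.algebraMap_eq_inl']
  have hker : RingHom.ker π ≤
      (RingHom.ker (TrivSqZeroExt.fstHom k k k).toRingHom).map gAalg.toRingHom := by
    intro x hx
    have hx' : TrivSqZeroExt.fst x = 0 := hx
    have h1 : x = TrivSqZeroExt.inl (TrivSqZeroExt.snd x) * gAalg.toRingHom DualNumber.eps := by
      show x = TrivSqZeroExt.inl (TrivSqZeroExt.snd x) * gAalg DualNumber.eps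
      rw [hgA]
      ext
      · simp [hx', TrivSqZeroExt.algebraMap_eq_inl']
      · simp [TrivSqZeroExt.algebraMap_eq_inl']
    rw [h1]
    apply Ideal.mul_mem_left
    apply Ideal.mem_map_of_mem
    show TrivSqZeroExt.fst (DualNumber.eps : DualNumber k) = 0
    rfl
  have hq1 : ∀ j c, (q j).toRingHom (algebraMap k A c) = c := fun j c => by simp
  have hqinj : Function.Injective (fun j => (q j).toRingHom) := by
    intro i j hij
    apply hq
    ext a
    exact congrArg (fun f : A →+* k => f a) hij
  have hq'1 : ∀ j a, (q' j).toRingHom (gAalg.toRingHom a) = a := by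
    intro j a
    show q' j (gAalg a) = a
    rw [hgA, map_add, map_mul, hε, AlgHom.commutes, AlgHom.commutes]
    ext
    · simp [TrivSqZeroExt.algebraMap_eq_inl']
    · simp [TrivSqZeroExt.algebraMap_eq_inl']
  obtain ⟨σ, hσ1, hσ2, hσ3⟩ := Groth.Agent.Lib.Helper12.TrivDef.exists_marked_section
    gAalg.toRingHom (algebraMap k A) hsm π hπ hπg hker (fun j => (q j).toRingHom) hq1 hqinj
    (fun j => (q' j).toRingHom) hq'1 (fun j b => hq' j b)
  let σA : A →ₐ[k] DualNumber A :=
    { σ with
      commutes' := fun c => by
        have h1 := hσ2 c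
        have h2 : gAalg.toRingHom (algebraMap k (DualNumber k) c) =
            algebraMap k (DualNumber A) c := gAalg.commutes c
        rw [h2] at h1
        exact h1 }
  have hσA : ∀ a, σA a = σ a := fun a => rfl
  have hfstσ : ∀ a, TrivSqZeroExt.fst (σ a) = a := hσ1
  let φ : DualNumber A →ₐ[k] DualNumber A :=
    DualNumber.lift ⟨(σA, DualNumber.eps),
      ⟨DualNumber.eps_mul_eps, fun a => DualNumber.commute_eps_left _⟩⟩
  have hφ : ∀ x : DualNumber A, φ x = σ x.fst + σ x.snd * DualNumber.eps := fun x => rfl
  have hφfst : ∀ x, (φ x).fst = x.fst := by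
    intro x
    rw [hφ]
    simp [hfstσ]
  have hφsnd : ∀ x, (φ x).snd = (σ x.fst).snd + x.snd := by
    intro x
    rw [hφ]
    simp [hfstσ]
  have hbij : Function.Bijective φ := by
    constructor
    · intro x y hxy
      have h1 : x.fst = y.fst := by rw [← hφfst x, ← hφfst y, hxy]
      have h2 : x.snd = y.snd := by
        have := congrArg TrivSqZeroExt.snd hxy
        rw [hφsnd, hφsnd, h1] at this
        exact add_left_cancel this
      exact TrivSqZeroExt.ext h1 h2
    · intro y
      refine ⟨TrivSqZeroExt.inl y.fst + TrivSqZeroExt.inr (y.snd - (σ y.fst).snd), ?_⟩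
      apply TrivSqZeroExt.ext
      · rw [hφfst]; simp
      · rw [hφsnd]; simp
  refine ⟨AlgEquiv.ofBijective φ hbij, ?_, ?_, ?_⟩
  · show φ DualNumber.eps = DualNumber.eps
    exact DualNumber.lift_apply_eps _
  · intro x
    exact hφfst x
  · intro i x
    have h1 : q' i (φ x) = algebraMap k (DualNumber k) (q i x.fst) +
        algebraMap k (DualNumber k) (q i x.snd) * DualNumber.eps := by
      rw [hφ, map_add, map_mul, hε]
      have h3 := hσ3 i x.fst
      have h4 := hσ3 i x.snd
      show q' i (σ x.fst) + q' i (σ x.snd) * DualNumber.eps = _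
      have h3' : q' i (σ x.fst) = algebraMap k (DualNumber k) (q i x.fst) := h3
      have h4' : q' i (σ x.snd) = algebraMap k (DualNumber k) (q i x.snd) := h4
      rw [h3', h4']
    show (q' i (φ x)).fst = _ ∧ (q' i (φ x)).snd = _
    rw [h1]
    constructor
    · simp [TrivSqZeroExt.algebraMap_eq_inl]
    · simp [TrivSqZeroExt.algebraMap_eq_inl]

end Groth.Agent.S15988
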