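import Groth.Statements.S1599
import Mathlib
import Groth.Agent.Lib.Helper22.NormSubB
import Groth.Agent.Lib.Helper22.ComplFinite
import Groth.Agent.Lib.helper19.CompletionNoetherian
-- import your own Groth.Agent.* helpers here

set_option autoImplicit false
universe u
open CategoryTheory CategoryTheory.Limits AlgebraicGeometry
open Resolve

namespace Groth.Agent.S1599

/-- Let A be a Noetherian local ring with maximal ideal m and B ⊆ C finite A-algebras. If B is a normal
ring and the m-adic completion of C is a normal ring, then the m-adic completion of B is a normal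
ring. -/
theorem result (A : Type u) [CommRing A] [IsLocalRing A] [IsNoetherianRing A]
    (B C : Type u) [CommRing B] [CommRing C] [Algebra A B] [Algebra A C] [Algebra B C] [IsScalarTower A B C]
    [Module.Finite A B] [Module.Finite A C] (hinj : Function.Injective (algebraMap B C))
    (hB : EGA4.IsNormalRing B)
    (hC : EGA4.IsNormalRing (AdicCompletion ((IsLocalRing.maximalIdeal A).map (algebraMap A C)) C)) :
    EGA4.IsNormalRing (AdicCompletion ((IsLocalRing.maximalIdeal A).map (algebraMap A B)) B) := by
  classical
  let Ah := AdicCompletion (IsLocalRing.maximalIdeal A) A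
  obtain ⟨eC⟩ := Groth.Agent.Lib.Helper22.ComplFinite.exists_completion_equiv_tensor A C
  obtain ⟨eB⟩ := Groth.Agent.Lib.Helper22.ComplFinite.exists_completion_equiv_tensor A B
  have h1 : EGA4.IsNormalRing (TensorProduct A C Ah) :=
    Groth.Agent.Lib.Helper22.NormalGood.good_normal.iso _ _ eC hC
  haveI : IsNoetherianRing B := IsNoetherianRing.of_finite A B
  haveI : Module.Finite B C := Module.Finite.of_restrictScalars_finite A B C
  haveI : IsNoetherianRing (AdicCompletion ((IsLocalRing.maximalIdeal A).map (algebraMap A B)) B) :=
    Groth.Agent.Lib.helper19.isNoetherianRing_adicCompletion B _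
  haveI : IsNoetherianRing (TensorProduct A B Ah) := isNoetherianRing_of_ringEquiv _ eB
  haveI : Module.Flat A Ah := AdicCompletion.flat_of_isNoetherian _
  haveI : Module.Flat B (TensorProduct A B Ah) := inferInstance
  let e1 : TensorProduct B (TensorProduct A B Ah) C ≃ₐ[B] TensorProduct B C (TensorProduct A B Ah) := Algebra.TensorProduct.comm B _ _
  let e2 : TensorProduct B C (TensorProduct A B Ah) ≃ₐ[B] TensorProduct A C Ah := Algebra.TensorProduct.cancelBaseChange A B B C Ah
  have h2 : EGA4.IsNormalRing (TensorProduct B (TensorProduct A B Ah) C) :=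
    Groth.Agent.Lib.Helper22.NormalGood.good_normal.iso _ _
      (e1.toRingEquiv.trans e2.toRingEquiv).symm h1
  have h3 : EGA4.IsNormalRing (TensorProduct A B Ah) :=
    Groth.Agent.Lib.Helper22.NormSub.isNormalRing_of_finite_sub B C hinj hB (TensorProduct A B Ah) h2
  exact Groth.Agent.Lib.Helper22.NormalGood.good_normal.iso _ _ eB.symm h3

end Groth.Agent.S1599
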