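import Groth.Statements.S15991
import Mathlib
import Groth.Agent.Lib.Helper12.TrivDefF
import Groth.Agent.Lib.Helper12.TrivDefG

set_option autoImplicit false
universe u v
open Deform

namespace Groth.Agent.S15991

open AlgebraicGeometry CategoryTheory in
/-- Let k be a field and X an affine scheme smooth over k, with finitely many pairwise distinct
k-rational points p_j (j ∈ ι). Let X' → Spec k[ε] be flat, i : X → X' a morphism making X the fibre
over the closed point Spec k → Spec k[ε] (cartesian square), and p'_j : Spec k[ε] → X' sections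
restricting to the p_j. Then there is an isomorphism φ : X' ≅ X ×_{Spec k} Spec k[ε] over Spec k[ε]
such that i followed by φ is the inclusion of X at the closed point (its first component is the
identity of X) and each p'_j followed by φ is the constant section through p_j: every first-order
deformation of a smooth affine scheme with marked points is trivial. (The source says non-singular;
smooth over k is assumed here, and the marked points are taken pairwise distinct and finite in
number.) -/
theorem result
    (k : Type u) [Field k] (X : Scheme.{u}) (hX : X ⟶ Spec (CommRingCat.of k)) [IsAffine X] [Smooth hX]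
    {ι : Type v} [Finite ι] (p : ι → (Spec (CommRingCat.of k) ⟶ X)) (hp : ∀ j, p j ≫ hX = 𝟙 _)
    (hinj : Function.Injective p)
    (X' : Scheme.{u}) (g : X' ⟶ Spec (CommRingCat.of (DualNumber k))) [Flat g] (i : X ⟶ X')
    (hsq : IsPullback i hX g
      (Spec.map (CommRingCat.ofHom (TrivSqZeroExt.fstHom k k k).toRingHom)))
    (p' : ι → (Spec (CommRingCat.of (DualNumber k)) ⟶ X')) (hp' : ∀ j, p' j ≫ g = 𝟙 _)
    (hpp' : ∀ j, p j ≫ i = Spec.map (CommRingCat.ofHom (TrivSqZeroExt.fstHom k k k).toRingHom) ≫ p' j) :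
    ∃ φ : X' ≅ Limits.pullback hX (Spec.map (CommRingCat.ofHom (algebraMap k (DualNumber k)))),
      φ.hom ≫ Limits.pullback.snd hX (Spec.map (CommRingCat.ofHom (algebraMap k (DualNumber k)))) = g ∧
        i ≫ φ.hom ≫ Limits.pullback.fst hX (Spec.map (CommRingCat.ofHom (algebraMap k (DualNumber k)))) = 𝟙 X ∧
          ∀ j, p' j ≫ φ.hom ≫
              Limits.pullback.fst hX (Spec.map (CommRingCat.ofHom (algebraMap k (DualNumber k)))) =
            Spec.map (CommRingCat.ofHom (algebraMap k (DualNumber k))) ≫ p j := by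
  classical
  let e : DualNumber k →ₐ[k] k := TrivSqZeroExt.fstHom k k k
  have hnil : IsNilpotent (RingHom.ker e) := by
    have h2 : RingHom.ker e ^ 2 = ⊥ := by
      rw [eq_bot_iff, pow_two, Ideal.mul_le]
      intro x hx y hy
      have hx' : TrivSqZeroExt.fst x = 0 := hx
      have hy' : TrivSqZeroExt.fst y = 0 := hy
      rw [Ideal.mem_bot]
      ext
      · simp [hx']
      · simp [hx', hy']
    exact ⟨2, h2⟩
  have hsq' : IsPullback i hX g (Spec.map (CommRingCat.ofHom e.toRingHom)) := hsq
  have : IsAffine X' := Groth.Agent.Lib.Helper12.TrivDef.isAffine_of_isPullback e hnil hsq'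
  set gA := (Scheme.ΓSpecIso (CommRingCat.of (DualNumber k))).inv ≫ g.appTop with hgA
  set hk := (Scheme.ΓSpecIso (CommRingCat.of k)).inv ≫ hX.appTop with hhk
  have hpo' := Groth.Agent.Lib.Helper12.TrivDef.isPushout_ring e hsq'
  have hw : ∀ a, i.appTop.hom (gA.hom a) = hk.hom (TrivSqZeroExt.fst a) := by
    intro a
    have := congrArg (fun f => f.hom a) hpo'.w
    exact this
  have hsm : hk.hom.FormallySmooth := by
    have h1 : hX.appTop.hom.Smooth :=
      (HasRingHomProperty.iff_of_isAffine (P := @Smooth)).mp inferInstance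
    have h2 : (Scheme.ΓSpecIso (CommRingCat.of k)).inv.hom.FormallySmooth :=
      RingHom.FormallySmooth.of_bijective
        (ConcreteCategory.bijective_of_isIso (Scheme.ΓSpecIso (CommRingCat.of k)).inv)
    exact RingHom.FormallySmooth.comp h2 h1.formallySmooth
  -- the points, as ring maps
  let qc : ∀ j : ι, Γ(X, ⊤) ⟶ CommRingCat.of k := fun j =>
    (p j).appTop ≫ (Scheme.ΓSpecIso (CommRingCat.of k)).hom
  let q'c : ∀ j : ι, Γ(X', ⊤) ⟶ CommRingCat.of (DualNumber k) := fun j =>
    (p' j).appTop ≫ (Scheme.ΓSpecIso (CommRingCat.of (DualNumber k))).hom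
  have hqc : ∀ j, hk ≫ qc j = 𝟙 _ := by
    intro j
    simp only [hhk, qc, Category.assoc]
    rw [← Scheme.Hom.comp_appTop_assoc, hp j]
    simp
  have hq'c : ∀ j, gA ≫ q'c j = 𝟙 _ := by
    intro j
    simp only [hgA, q'c, Category.assoc]
    rw [← Scheme.Hom.comp_appTop_assoc, hp' j]
    simp
  have hqq'c : ∀ j, q'c j ≫ CommRingCat.ofHom e.toRingHom = i.appTop ≫ qc j := by
    intro j
    simp only [qc, q'c, Category.assoc]
    rw [← Scheme.ΓSpecIso_naturality, ← Scheme.Hom.comp_appTop_assoc, ← hpp' j,
      Scheme.Hom.comp_appTop_assoc]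
  have hqinj : Function.Injective (fun j => (qc j).hom) := by
    intro j₁ j₂ h
    apply hinj
    have h1 : qc j₁ = qc j₂ := CommRingCat.hom_ext h
    have h2 : (p j₁).appTop = (p j₂).appTop := by
      simp only [qc] at h1
      exact (cancel_mono _).mp h1
    rw [← cancel_mono X.isoSpec.hom, ← Scheme.isoSpec_hom_naturality,
      ← Scheme.isoSpec_hom_naturality, h2]
  obtain ⟨σ, hσ1, hσ2, hσ3⟩ := Groth.Agent.Lib.Helper12.TrivDef.exists_marked_section
    gA.hom hk.hom hsm i.appTop.hom
    (Groth.Agent.Lib.Helper12.TrivDef.surjective_ring e hsq') hw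
    (Groth.Agent.Lib.Helper12.TrivDef.ker_ring e hsq')
    (fun j => (qc j).hom)
    (fun j c => by
      have := congrArg (fun f => f.hom c) (hqc j)
      exact this)
    hqinj (fun j => (q'c j).hom)
    (fun j a => by
      have := congrArg (fun f => f.hom a) (hq'c j)
      exact this)
    (fun j b => by
      have := congrArg (fun f => f.hom b) (hqq'c j)
      exact this)
  let σ' : Γ(X, ⊤) ⟶ Γ(X', ⊤) := CommRingCat.ofHom σ
  have hσ' : σ' ≫ i.appTop = 𝟙 _ := by
    ext b
    exact hσ1 b
  obtain ⟨φ, h1, h2⟩ := Groth.Agent.Lib.Helper12.TrivDef.exists_iso_of_section e hnil hsq' σ' hσ'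
    (by
      ext c
      exact hσ2 c)
  refine ⟨φ, h1, ?_, ?_⟩
  · rw [h2, ← Scheme.isoSpec_hom_naturality_assoc, ← Spec.map_comp_assoc, hσ', Spec.map_id,
      Category.id_comp, Iso.hom_inv_id]
  · intro j
    have h3 : σ' ≫ (p' j).appTop =
        (Spec.map (CommRingCat.ofHom (algebraMap k (DualNumber k))) ≫ p j).appTop := by
      rw [Scheme.Hom.comp_appTop,
        ← cancel_mono (Scheme.ΓSpecIso (CommRingCat.of (DualNumber k))).hom]
      simp only [Category.assoc]
      rw [Scheme.ΓSpecIso_naturality]
      refine CommRingCat.hom_ext (RingHom.ext fun b => ?_)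
      exact hσ3 j b
    rw [h2, ← Scheme.isoSpec_hom_naturality_assoc, ← Spec.map_comp_assoc, h3,
      Scheme.isoSpec_hom_naturality_assoc, Iso.hom_inv_id, Category.comp_id]

end Groth.Agent.S15991
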