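import Groth.Statements.S16000
import Mathlib
import Groth.Agent.Lib.Helper16.PiLTensor
-- import your own Groth.Agent.* helpers here

set_option autoImplicit false
set_option linter.unusedSectionVars false
set_option linter.style.haveILetI false
universe u
open FrobAlg

namespace Groth.Agent.S16000

open TensorProduct

section generic

variable (R A B N : Type*) [CommRing R] [CommRing A] [CommRing B] [Algebra R A] [Algebra A B]
  [Algebra R B] [IsScalarTower R A B] [Module.FaithfullyFlat A B] [AddCommGroup N] [Module R N]

theorem rTensor_injective_of_faithfullyFlat :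
    Function.Injective (LinearMap.rTensor N (IsScalarTower.toAlgHom R A B).toLinearMap) := by
  have h1 : Function.Injective (TensorProduct.mk A B (A ⊗[R] N) 1) :=
    Module.FaithfullyFlat.tensorProduct_mk_injective (A := A) (B := B) (A ⊗[R] N)
  have h2 : ∀ z : A ⊗[R] N,
      LinearMap.rTensor N (IsScalarTower.toAlgHom R A B).toLinearMap z =
        TensorProduct.AlgebraTensorModule.cancelBaseChange R A B B N
          (TensorProduct.mk A B (A ⊗[R] N) 1 z) := by
    intro z
    induction z using TensorProduct.induction_on with
    | zero => simp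
    | tmul a n =>
      simp [Algebra.smul_def]
    | add x y hx hy => rw [map_add, hx, hy, map_add, map_add]
  intro z z' h
  rw [h2, h2] at h
  exact h1 ((TensorProduct.AlgebraTensorModule.cancelBaseChange R A B B N).injective h)

end generic

section tw

/-- `R` as an `R`-algebra through the `n`-th iterate of Frobenius. -/
def Tw (_p : ℕ) (R : Type u) (_n : ℕ) : Type u := R

variable (p : ℕ) [Fact p.Prime] (R : Type u) [CommRing R] [CharP R p]

instance (n : ℕ) : CommRing (Tw p R n) := inferInstanceAs (CommRing R)

/-- The identity `R ≃+* Tw p R n`. -/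
def toTw (n : ℕ) : R ≃+* Tw p R n := RingEquiv.refl R

noncomputable instance twAlg (n : ℕ) : Algebra R (Tw p R n) :=
  ((toTw p R n : R →+* Tw p R n).comp (iterateFrobenius R p n)).toAlgebra

theorem algebraMap_tw (n : ℕ) (r : R) :
    algebraMap R (Tw p R n) r = toTw p R n (iterateFrobenius R p n r) := rfl

theorem smul_tw (n : ℕ) (r : R) (x : Tw p R n) :
    r • x = toTw p R n (iterateFrobenius R p n r) * x := rfl

/-- The transition maps: iterates of Frobenius. -/
noncomputable def step (n m : ℕ) (h : n ≤ m) : Tw p R n →ₗ[R] Tw p R m where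
  toFun x := toTw p R m (iterateFrobenius R p (m - n) ((toTw p R n).symm x))
  map_add' x y := by simp only [map_add]
  map_smul' r x := by
    rw [smul_tw, smul_tw, RingHom.id_apply, map_mul, RingEquiv.symm_apply_apply, map_mul, map_mul,
      ← iterateFrobenius_add_apply, Nat.sub_add_cancel h]

theorem step_apply (n m : ℕ) (h : n ≤ m) (x : Tw p R n) :
    step p R n m h x = toTw p R m (iterateFrobenius R p (m - n) ((toTw p R n).symm x)) := rfl

instance : DirectedSystem (Tw p R) (fun n m h => step p R n m h) where
  map_self n x := by
    rw [step_apply, Nat.sub_self, iterateFrobenius_zero_apply, RingEquiv.apply_symm_apply]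
  map_map k j i hij hjk x := by
    rw [step_apply, step_apply, step_apply, RingEquiv.symm_apply_apply,
      ← iterateFrobenius_add_apply]
    congr 3
    omega

/-- The algebra structure of the perfect closure. -/
@[reducible] noncomputable def pcAlg : Algebra R (PerfectClosure R p) :=
  (PerfectClosure.of R p).toAlgebra

attribute [local instance] pcAlg

theorem smul_pc (r : R) (y : PerfectClosure R p) : r • y = PerfectClosure.of R p r * y := rfl

/-- The maps to the perfect closure. -/
noncomputable def iota (n : ℕ) : Tw p R n →ₗ[R] PerfectClosure R p where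
  toFun x := PerfectClosure.mk R p (n, (toTw p R n).symm x)
  map_add' x y := by
    rw [PerfectClosure.mk_add_mk, map_add]
    dsimp only
    rw [PerfectClosure.R.sound R p n n _ _ rfl, iterate_map_add]
  map_smul' r x := by
    rw [smul_tw, smul_pc, RingHom.id_apply, PerfectClosure.of_apply, PerfectClosure.mk_mul_mk,
      map_mul, RingEquiv.symm_apply_apply]
    dsimp only
    rw [zero_add, Function.iterate_zero, id, coe_iterateFrobenius]

theorem iota_apply (n : ℕ) (x : Tw p R n) :
    iota p R n x = PerfectClosure.mk R p (n, (toTw p R n).symm x) := rfl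

theorem iota_step (n m : ℕ) (h : n ≤ m) (x : Tw p R n) :
    iota p R m (step p R n m h x) = iota p R n x := by
  rw [iota_apply, iota_apply, step_apply, RingEquiv.symm_apply_apply, coe_iterateFrobenius]
  have := PerfectClosure.R.sound R p (m - n) n ((toTw p R n).symm x) _ rfl
  rw [this, Nat.sub_add_cancel h]

/-- The comparison map from the direct limit of the Frobenius twists to the perfect closure. -/
noncomputable def toPC : Module.DirectLimit (Tw p R) (step p R) →ₗ[R] PerfectClosure R p :=
  Module.DirectLimit.lift R ℕ (Tw p R) (step p R) (iota p R)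
    (fun n m h x => iota_step p R n m h x)

theorem toPC_of (n : ℕ) (x : Tw p R n) :
    toPC p R (Module.DirectLimit.of R ℕ (Tw p R) (step p R) n x) = iota p R n x :=
  Module.DirectLimit.lift_of _ _ _

theorem toPC_bijective : Function.Bijective (toPC p R) := by
  constructor
  · rw [injective_iff_map_eq_zero]
    intro z hz
    obtain ⟨n, x, rfl⟩ := Module.DirectLimit.exists_of z
    rw [toPC_of, iota_apply, PerfectClosure.zero_def, PerfectClosure.mk_eq_iff] at hz
    obtain ⟨k, hk⟩ := hz
    dsimp only at hk
    rw [iterate_map_zero, zero_add] at hk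
    rw [← Module.DirectLimit.of_f (hij := Nat.le_add_right n k), step_apply,
      Nat.add_sub_cancel_left, coe_iterateFrobenius, hk, map_zero, map_zero]
  · intro y
    induction y using PerfectClosure.induction_on with
    | h x =>
      obtain ⟨n, r⟩ := x
      refine ⟨Module.DirectLimit.of R ℕ (Tw p R) (step p R) n (toTw p R n r), ?_⟩
      rw [toPC_of, iota_apply, RingEquiv.symm_apply_apply]

instance dsTensor (N : Type*) [AddCommGroup N] [Module R N] :
    DirectedSystem (fun n => Tw p R n ⊗[R] N)
      (fun n m h => LinearMap.rTensor N (step p R n m h)) where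
  map_self n x := by
    have : step p R n n le_rfl = LinearMap.id :=
      LinearMap.ext fun y => DirectedSystem.map_self (f := fun n m h => step p R n m h) y
    rw [this, LinearMap.rTensor_id, LinearMap.id_apply]
  map_map k j i hij hjk x := by
    have : step p R j k hjk ∘ₗ step p R i j hij = step p R i k (hij.trans hjk) :=
      LinearMap.ext fun y =>
        DirectedSystem.map_map (f := fun n m h => step p R n m h) hij hjk y
    rw [← LinearMap.comp_apply, ← LinearMap.rTensor_comp, this]

theorem exists_step_eq_zero (N : Type*) [AddCommGroup N] [Module R N] (n : ℕ)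
    (z : Tw p R n ⊗[R] N) (hz : LinearMap.rTensor N (iota p R n) z = 0) :
    ∃ m, ∃ h : n ≤ m, LinearMap.rTensor N (step p R n m h) z = 0 := by
  have h1 : iota p R n = toPC p R ∘ₗ Module.DirectLimit.of R ℕ (Tw p R) (step p R) n :=
    LinearMap.ext fun x => (toPC_of p R n x).symm
  rw [h1, LinearMap.rTensor_comp, LinearMap.comp_apply] at hz
  let e := LinearEquiv.ofBijective (toPC p R) (toPC_bijective p R)
  have h2 : Function.Injective (LinearMap.rTensor N (toPC p R)) :=
    (e.rTensor N).injective
  have h3 : LinearMap.rTensor N (Module.DirectLimit.of R ℕ (Tw p R) (step p R) n) z = 0 :=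
    h2 (hz.trans (map_zero _).symm)
  have h4 := TensorProduct.directLimitLeft_rTensor_of (step p R) N z
  rw [h3, map_zero] at h4
  obtain ⟨m, h, hm⟩ := Module.DirectLimit.of.zero_exact h4.symm
  exact ⟨m, h, hm⟩

section pure

/-- The algebra structure of `Tw (n+1)` over `Tw n`: Frobenius. -/
noncomputable instance twAlgStep (n : ℕ) : Algebra (Tw p R n) (Tw p R (n + 1)) :=
  (((toTw p R (n + 1) : R →+* Tw p R (n + 1)).comp (frobenius R p)).comp
    ((toTw p R n).symm : Tw p R n →+* R)).toAlgebra

theorem algebraMap_twStep (n : ℕ) (x : Tw p R n) :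
    algebraMap (Tw p R n) (Tw p R (n + 1)) x =
      toTw p R (n + 1) (frobenius R p ((toTw p R n).symm x)) := rfl

instance (n : ℕ) : IsScalarTower R (Tw p R n) (Tw p R (n + 1)) :=
  IsScalarTower.of_algebraMap_eq (fun r => by
    rw [algebraMap_tw, algebraMap_twStep, algebraMap_tw, RingEquiv.symm_apply_apply,
      iterateFrobenius_def, iterateFrobenius_def, frobenius_def, pow_succ, pow_mul])

theorem faithfullyFlat_twist [Module.Projective R (FrobAlg.Twist p R)] :
    Module.FaithfullyFlat R (FrobAlg.Twist p R) := by
  rw [Module.FaithfullyFlat.iff_flat_and_proper_ideal]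
  refine ⟨inferInstance, ?_⟩
  intro I hI htop
  apply hI
  rw [Ideal.eq_top_iff_one]
  have h1 : (1 : FrobAlg.Twist p R) ∈ I • (⊤ : Submodule R (FrobAlg.Twist p R)) := by
    rw [htop]; trivial
  have key : ∀ t ∈ I • (⊤ : Submodule R (FrobAlg.Twist p R)),
      (FrobAlg.toTwist p R).symm t ∈ I := by
    intro t ht
    refine Submodule.smul_induction_on ht (fun r hr n _ => ?_) (fun x y hx hy => ?_)
    · rw [Algebra.smul_def, FrobAlg.algebraMap_twist, map_mul, RingEquiv.symm_apply_apply]
      exact I.mul_mem_right _ (I.pow_mem_of_mem hr p (Fact.out : p.Prime).pos)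
    · rw [map_add]; exact I.add_mem hx hy
  have := key 1 h1
  rwa [map_one] at this

theorem faithfullyFlat_twStep [Module.Projective R (FrobAlg.Twist p R)] (n : ℕ) :
    Module.FaithfullyFlat (Tw p R n) (Tw p R (n + 1)) :=
  faithfullyFlat_twist p R

end pure

section main

theorem step_succ_eq (n : ℕ) :
    step p R n (n + 1) (Nat.le_succ n) =
      (IsScalarTower.toAlgHom R (Tw p R n) (Tw p R (n + 1))).toLinearMap := by
  ext x
  rw [step_apply, Nat.add_sub_cancel_left, iterateFrobenius_one]
  rfl

theorem rTensor_step_injective [Module.Projective R (FrobAlg.Twist p R)]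
    (N : Type*) [AddCommGroup N] [Module R N] (n m : ℕ) (h : n ≤ m) :
    Function.Injective (LinearMap.rTensor N (step p R n m h)) := by
  obtain ⟨k, rfl⟩ := Nat.exists_eq_add_of_le h
  induction k with
  | zero =>
    have : step p R n (n + 0) h = LinearMap.id :=
      LinearMap.ext fun y => DirectedSystem.map_self (f := fun n m h => step p R n m h) y
    rw [this, LinearMap.rTensor_id]
    exact Function.injective_id
  | succ k ih =>
    have h1 : n ≤ n + k := Nat.le_add_right n k
    have h2 : n + k ≤ n + (k + 1) := by omega
    have hc : step p R n (n + (k + 1)) h = step p R (n + k) (n + (k + 1)) h2 ∘ₗ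
        step p R n (n + k) h1 :=
      LinearMap.ext fun y =>
        (DirectedSystem.map_map (f := fun n m h => step p R n m h) h1 h2 y).symm
    have hinj : Function.Injective
        (LinearMap.rTensor N (step p R (n + k) (n + (k + 1)) h2)) := by
      have h3 : step p R (n + k) (n + (k + 1)) h2 =
          step p R (n + k) (n + k + 1) (Nat.le_succ _) := rfl
      rw [h3, step_succ_eq]
      have := faithfullyFlat_twStep p R (n + k)
      exact rTensor_injective_of_faithfullyFlat R (Tw p R (n + k)) (Tw p R (n + k + 1)) N
    rw [hc, LinearMap.rTensor_comp, LinearMap.coe_comp]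
    exact hinj.comp (ih h1)

theorem projective_trans (R A M : Type*) [CommRing R] [CommRing A] [Algebra R A]
    [AddCommGroup M] [Module A M] [Module R M] [IsScalarTower R A M] [Module.Projective R A]
    [Module.Projective A M] : Module.Projective R M := by
  classical
  obtain ⟨s, hs⟩ := Module.Projective.out (R := A) (P := M)
  have : Module.Projective R (M →₀ A) :=
    Module.Projective.of_equiv' (finsuppLequivDFinsupp R).symm
  exact Module.Projective.of_split (s.restrictScalars R)
    ((Finsupp.linearCombination A id).restrictScalars R) (LinearMap.ext fun x => hs x)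

theorem projective_twStep [h : Module.Projective R (FrobAlg.Twist p R)] (n : ℕ) :
    Module.Projective (Tw p R n) (Tw p R (n + 1)) := h

theorem projective_tw [Module.Projective R (FrobAlg.Twist p R)] (n : ℕ) :
    Module.Projective R (Tw p R n) := by
  induction n with
  | zero =>
    let e : R ≃ₗ[R] Tw p R 0 :=
      { (toTw p R 0 : R ≃+ Tw p R 0) with
        map_smul' := fun r x => by
          change toTw p R 0 (r * x) = r • toTw p R 0 x
          rw [smul_tw, iterateFrobenius_zero_apply, map_mul] }
    exact Module.Projective.of_equiv' e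
  | succ n ih =>
    have := projective_twStep p R n
    exact projective_trans R (Tw p R n) (Tw p R (n + 1))

theorem exists_rTensor_iota (P : Type*) [AddCommGroup P] [Module R P]
    (z : PerfectClosure R p ⊗[R] P) :
    ∃ n, ∃ zn : Tw p R n ⊗[R] P, LinearMap.rTensor P (iota p R n) zn = z := by
  induction z using TensorProduct.induction_on with
  | zero => exact ⟨0, 0, map_zero _⟩
  | tmul y x =>
    induction y using PerfectClosure.induction_on with
    | h w =>
      obtain ⟨n, r⟩ := w
      refine ⟨n, toTw p R n r ⊗ₜ x, ?_⟩
      rw [LinearMap.rTensor_tmul, iota_apply, RingEquiv.symm_apply_apply]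
  | add a b ha hb =>
    obtain ⟨n, an, rfl⟩ := ha
    obtain ⟨m, bm, rfl⟩ := hb
    have hn : n ≤ max n m := le_max_left _ _
    have hm : m ≤ max n m := le_max_right _ _
    refine ⟨max n m, LinearMap.rTensor P (step p R n _ hn) an +
      LinearMap.rTensor P (step p R m _ hm) bm, ?_⟩
    have e1 : iota p R (max n m) ∘ₗ step p R n _ hn = iota p R n :=
      LinearMap.ext fun x => iota_step p R n _ hn x
    have e2 : iota p R (max n m) ∘ₗ step p R m _ hm = iota p R m :=
      LinearMap.ext fun x => iota_step p R m _ hm x
    rw [map_add, ← LinearMap.comp_apply, ← LinearMap.comp_apply, ← LinearMap.rTensor_comp,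
      ← LinearMap.rTensor_comp, e1, e2]

theorem main [Module.Projective R (FrobAlg.Twist p R)] {ι : Type*} {P : Type*}
    [AddCommGroup P] [Module R P] {N : ι → Type*} [∀ i, AddCommGroup (N i)]
    [∀ i, Module R (N i)] (g : ∀ i, P →ₗ[R] N i) (hg : ∀ x : P, (∀ i, g i x = 0) → x = 0) :
    Function.Injective
      (LinearMap.pi fun i => LinearMap.lTensor (PerfectClosure R p) (g i)) := by
  rw [injective_iff_map_eq_zero]
  intro z hz
  have hz' : ∀ i, LinearMap.lTensor (PerfectClosure R p) (g i) z = 0 := fun i => congrFun hz i
  obtain ⟨n, zn, rfl⟩ := exists_rTensor_iota p R P z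
  have h1 : ∀ i, LinearMap.lTensor (Tw p R n) (g i) zn = 0 := by
    intro i
    have := hz' i
    rw [← LinearMap.comp_apply, LinearMap.lTensor_comp_rTensor,
      ← LinearMap.rTensor_comp_lTensor, LinearMap.comp_apply] at this
    obtain ⟨m, h, hm⟩ := exists_step_eq_zero p R (N i) n _ this
    exact rTensor_step_injective p R (N i) n m h (hm.trans (map_zero _).symm)
  have := projective_tw p R n
  have h2 : zn = 0 :=
    Groth.Agent.Lib.Helper16.pi_lTensor_injective_of_projective (M := Tw p R n) g hg
      ((funext h1).trans (map_zero _).symm)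
  rw [h2, map_zero]

end main

end tw

open TensorProduct in
/-- Let p be a prime, R a commutative ring of characteristic p such that R is a projective R-module
through its absolute Frobenius, and A a commutative R-algebra of characteristic p, with Frobenius
twists A^{p^i/R} = R ⊗_{F^i,R} A, relative Frobenius maps A^{p^{i+1}/R} → A^{p^i/R} and
preperfection A^{p^∞/R} = lim_i A^{p^i/R} ⊆ Π_i A^{p^i/R}. Let R' be the direct-limit perfection
colim(R → R → ⋯) of R along Frobenius, an R-module through the canonical map R → R'. Then the
natural map R' ⊗_R A^{p^∞/R} → Π_i (R' ⊗_R A^{p^i/R}), r ⊗ x ↦ (r ⊗ x_i)_i, is injective; in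
particular the base-change map R' ⊗_R lim_i A^{p^i/R} → lim_i (R' ⊗_R A^{p^i/R}) is injective. (The
published statement identifies the target limit with the preperfection of A ⊗_R R' over R'; that
identification is not part of this row.) -/
theorem result
    (p : ℕ) [Fact p.Prime] (R : Type u) [CommRing R] [CharP R p]
    (A : Type u) [CommRing A] [Algebra R A] [CharP A p]
    [Module.Projective R (FrobAlg.Twist p R)] :
    letI : Algebra R (PerfectClosure R p) := (PerfectClosure.of R p).toAlgebra
    Function.Injective
      (LinearMap.pi fun i : ℕ =>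
        LinearMap.lTensor (PerfectClosure R p)
          (((Pi.evalAlgHom R (fun k => W4c1imperftorsors.Twist p R A k) i).comp
            (W4c1imperftorsors.prePerf p R A).val).toLinearMap) :
        PerfectClosure R p ⊗[R] ↥(W4c1imperftorsors.prePerf p R A) →ₗ[R]
          (Π i : ℕ, PerfectClosure R p ⊗[R] W4c1imperftorsors.Twist p R A i)) := by
  refine main p R (fun i => ((Pi.evalAlgHom R (fun k => W4c1imperftorsors.Twist p R A k) i).comp
            (W4c1imperftorsors.prePerf p R A).val).toLinearMap) ?_
  intro x hx
  apply Subtype.ext
  funext i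
  exact hx i

end Groth.Agent.S16000
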