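import Groth.Statements.S16015
import Mathlib
-- import your own Groth.Agent.* helpers here

set_option autoImplicit false
universe u v w
open W4c3ghconstell

namespace Groth.Agent.S16015

open TensorProduct in
theorem key {B : Type u} [CommRing B]
    {E : Type v} [AddCommGroup E] [Module B E]
    {F : Type w} [AddCommGroup F] [Module B F] (β : E →ₗ[B] F)
    (n : ℕ) (f : (Fin n → B) →ₗ[B] F) (g : F →ₗ[B] Fin n → B) (hfg : f ∘ₗ g = .id)
    (C : Type u) [CommRing C] [Algebra B C] :
    LinearMap.baseChange C β = 0 ↔
      Ideal.span (Set.range fun x : E × Fin n => g (β x.1) x.2) ≤ RingHom.ker (algebraMap B C) := by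
  rw [Ideal.span_le]
  have h1 : ∀ v : Fin n → B, ((1 : C) ⊗ₜ[B] v = 0) ↔ ∀ j, algebraMap B C (v j) = 0 := by
    intro v
    rw [← (TensorProduct.piScalarRight B C C (Fin n)).map_eq_zero_iff,
      TensorProduct.piScalarRight_apply, TensorProduct.piScalarRightHom_tmul]
    simp only [funext_iff, Pi.zero_apply, Algebra.smul_def, mul_one]
  have h2 : ∀ y : F, ((1 : C) ⊗ₜ[B] y = 0) ↔ ((1 : C) ⊗ₜ[B] (g y) = 0) := by
    intro y
    constructor
    · intro h
      have := congrArg (LinearMap.baseChange C g) h
      rwa [LinearMap.baseChange_tmul, map_zero] at this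
    · intro h
      have := congrArg (LinearMap.baseChange C f) h
      rw [LinearMap.baseChange_tmul, map_zero] at this
      have hy : f (g y) = y := LinearMap.congr_fun hfg y
      rwa [hy] at this
  constructor
  · intro h
    rintro _ ⟨⟨e, j⟩, rfl⟩
    have h3 : (1 : C) ⊗ₜ[B] β e = 0 := by
      have := LinearMap.congr_fun h ((1 : C) ⊗ₜ[B] e)
      rwa [LinearMap.baseChange_tmul, LinearMap.zero_apply] at this
    exact (h1 _).mp ((h2 _).mp h3) j
  · intro h
    apply TensorProduct.AlgebraTensorModule.ext
    intro c e
    rw [LinearMap.baseChange_tmul, LinearMap.zero_apply]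
    have h3 : (1 : C) ⊗ₜ[B] β e = 0 := (h2 _).mpr ((h1 _).mpr fun j => h ⟨⟨e, j⟩, rfl⟩)
    have : c ⊗ₜ[B] β e = c • ((1 : C) ⊗ₜ[B] β e) := by
      rw [TensorProduct.smul_tmul', smul_eq_mul, mul_one]
    rw [this, h3, smul_zero]

/-- Let B be a commutative ring, E a B-module, F a finitely generated projective B-module and β : E → F
a B-linear map. Then there is a unique ideal I of B such that for every commutative B-algebra C the
base change β_C : C ⊗ E → C ⊗ F is zero if and only if the structure map B → C kills I. (The
published statement is for a homomorphism of modules on a scheme T into a locally free module and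
produces a closed subscheme T₀ through which a morphism factors exactly when the pulled-back
homomorphism vanishes; this row is the case of an affine T with affine test schemes and F of finite
rank, to which it reduces.) -/
theorem result {B : Type u} [CommRing B]
    {E : Type v} [AddCommGroup E] [Module B E]
    {F : Type w} [AddCommGroup F] [Module B F] [Module.Finite B F] [Module.Projective B F]
    (β : E →ₗ[B] F) :
    ∃! I : Ideal B, ∀ (C : Type u) [CommRing C] [Algebra B C],
      LinearMap.baseChange C β = 0 ↔ I ≤ RingHom.ker (algebraMap B C) := by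
  obtain ⟨n, f, g, -, -, hfg⟩ := Module.Finite.exists_comp_eq_id_of_projective B F
  refine ⟨Ideal.span (Set.range fun x : E × Fin n => g (β x.1) x.2), ?_, ?_⟩
  · intro C _ _
    exact key β n f g hfg C
  · intro J hJ
    set I := Ideal.span (Set.range fun x : E × Fin n => g (β x.1) x.2) with hI
    have hI' : ∀ (C : Type u) [CommRing C] [Algebra B C],
        LinearMap.baseChange C β = 0 ↔ I ≤ RingHom.ker (algebraMap B C) :=
      fun C _ _ => key β n f g hfg C
    apply le_antisymm
    · have h1 := (hI' (B ⧸ I)).mpr (by rw [Ideal.Quotient.algebraMap_eq, Ideal.mk_ker])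
      have h2 := (hJ (B ⧸ I)).mp h1
      rwa [Ideal.Quotient.algebraMap_eq, Ideal.mk_ker] at h2
    · have h1 := (hJ (B ⧸ J)).mpr (by rw [Ideal.Quotient.algebraMap_eq, Ideal.mk_ker])
      have h2 := (hI' (B ⧸ J)).mp h1
      rwa [Ideal.Quotient.algebraMap_eq, Ideal.mk_ker] at h2

end Groth.Agent.S16015
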