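import Groth.Statements.S16016
import Mathlib
-- import your own Groth.Agent.* helpers here

set_option autoImplicit false
universe u
open W4c3ghconstell

namespace Groth.Agent.S16016

/-- Let k be a field with 2 ≠ 0, index k⁶ by two copies of {0,1,2} (basis vectors p₁, p₂, p₃ in the
first copy and p₄, p₅, p₆ in the second), let Q be the symmetric matrix with blocks ((0, 1), (1,
0)), so that the form it defines pairs pᵢ with pᵢ₊₃, and let W₀ be the span of p₁ and p₂. Then a 6 ×
6 matrix A satisfies AᵀQ + QA = 0 (A lies in the orthogonal Lie algebra of Q) and has the image of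
Aᵀ contained in W₀ if and only if A = a · (E₄₂ − E₅₁) for some scalar a, where Eᵢⱼ is the matrix
unit. (The lemma in the source concludes that the set of such A inside a certain nilpotent orbit
closure of this Lie algebra is one-dimensional; this row is the computation its proof performs,
which determines all such A in the Lie algebra. Characteristic 2 is excluded: there E₁₄ᵀ also
qualifies.) -/
theorem result (k : Type u) [Field k] (h2 : (2 : k) ≠ 0)
    (A : Matrix (Fin 3 ⊕ Fin 3) (Fin 3 ⊕ Fin 3) k) :
    (A.transpose * Matrix.fromBlocks (0 : Matrix (Fin 3) (Fin 3) k) 1 1 0 +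
        Matrix.fromBlocks (0 : Matrix (Fin 3) (Fin 3) k) 1 1 0 * A = 0 ∧
      LinearMap.range (Matrix.mulVecLin A.transpose) ≤
        Submodule.span k {Pi.single (Sum.inl 0 : Fin 3 ⊕ Fin 3) (1 : k), Pi.single (Sum.inl 1 : Fin 3 ⊕ Fin 3) (1 : k)}) ↔
    ∃ a : k, A = a • (Matrix.single (Sum.inr 0) (Sum.inl 1) (1 : k) - Matrix.single (Sum.inr 1) (Sum.inl 0) (1 : k)) := by
  classical
  constructor
  · rintro ⟨h1, hr⟩
    -- entries of the Lie algebra condition
    have hij : ∀ i j : Fin 3 ⊕ Fin 3, A (Sum.swap j) i + A (Sum.swap i) j = 0 := by
      intro i j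
      have := congrFun (congrFun h1 i) j
      rw [Matrix.add_apply, Matrix.mul_apply, Matrix.mul_apply, Matrix.zero_apply] at this
      rw [← this]
      rcases i with i | i <;> rcases j with j | j <;>
        simp [Fintype.sum_sum_type, Matrix.fromBlocks, Matrix.one_apply, Finset.sum_ite_eq,
          Finset.sum_ite_eq', Matrix.transpose_apply]
    -- columns outside inl 0, inl 1 vanish
    have hcol : ∀ l m : Fin 3 ⊕ Fin 3, m ≠ Sum.inl 0 → m ≠ Sum.inl 1 → A l m = 0 := by
      intro l m hk0 hk1
      have hmem : Matrix.mulVecLin A.transpose (Pi.single l 1) ∈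
          Submodule.span k {Pi.single (Sum.inl 0 : Fin 3 ⊕ Fin 3) (1 : k),
            Pi.single (Sum.inl 1 : Fin 3 ⊕ Fin 3) (1 : k)} := hr ⟨_, rfl⟩
      rw [Submodule.mem_span_pair] at hmem
      obtain ⟨c0, c1, hc⟩ := hmem
      have := congrFun hc m
      simp only [Matrix.mulVecLin_apply, Matrix.mulVec_single_one, Matrix.col_apply,
        Matrix.transpose_apply, Pi.add_apply, Pi.smul_apply, smul_eq_mul] at this
      rw [Pi.single_eq_of_ne hk0, Pi.single_eq_of_ne hk1, mul_zero, mul_zero, add_zero] at this
      exact this.symm
    refine ⟨A (Sum.inr 0) (Sum.inl 1), ?_⟩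
    have e00 : A (Sum.inr 0) (Sum.inl 0) = 0 := by
      have := hij (Sum.inl 0) (Sum.inl 0)
      simp only [Sum.swap_inl] at this
      have h' : (2 : k) * A (Sum.inr 0) (Sum.inl 0) = 0 := by linear_combination this
      exact (mul_eq_zero.mp h').resolve_left h2
    have e11 : A (Sum.inr 1) (Sum.inl 1) = 0 := by
      have := hij (Sum.inl 1) (Sum.inl 1)
      simp only [Sum.swap_inl] at this
      have h' : (2 : k) * A (Sum.inr 1) (Sum.inl 1) = 0 := by linear_combination this
      exact (mul_eq_zero.mp h').resolve_left h2
    have e10 : A (Sum.inr 1) (Sum.inl 0) = - A (Sum.inr 0) (Sum.inl 1) := by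
      have := hij (Sum.inl 1) (Sum.inl 0)
      simp only [Sum.swap_inl] at this
      linear_combination this
    -- rows: A (swap i) j = - A (swap j) i = 0 when i is a bad column
    have hrow : ∀ i j : Fin 3 ⊕ Fin 3, i ≠ Sum.inl 0 → i ≠ Sum.inl 1 → A (Sum.swap i) j = 0 := by
      intro i j hi0 hi1
      have := hij i j
      rw [hcol _ i hi0 hi1, zero_add] at this
      exact this
    ext i j
    simp only [Matrix.smul_apply, Matrix.sub_apply, Matrix.single_apply, smul_eq_mul]
    rcases j with j | j
    · fin_cases j
      · -- column inl 0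
        rcases i with i | i
        · have := hrow (Sum.inr i) (Sum.inl 0) (by simp) (by simp)
          simp only [Sum.swap_inr] at this
          simp [this]
        · fin_cases i
          · simp [e00]
          · simp [e10]
          · have := hrow (Sum.inl 2) (Sum.inl 0) (by decide) (by decide)
            simp only [Sum.swap_inl] at this
            simp [this]
      · -- column inl 1
        rcases i with i | i
        · have := hrow (Sum.inr i) (Sum.inl 1) (by simp) (by simp)
          simp only [Sum.swap_inr] at this
          simp [this]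
        · fin_cases i
          · simp
          · simp [e11]
          · have := hrow (Sum.inl 2) (Sum.inl 1) (by decide) (by decide)
            simp only [Sum.swap_inl] at this
            simp [this]
      · -- column inl 2
        have := hcol i (Sum.inl 2) (by decide) (by decide)
        simp [this]
    · have := hcol i (Sum.inr j) (by simp) (by simp)
      simp [this]
  · rintro ⟨a, rfl⟩
    constructor
    · ext i j
      rw [Matrix.add_apply, Matrix.mul_apply, Matrix.mul_apply, Matrix.zero_apply]
      rcases i with i | i <;> rcases j with j | j <;> fin_cases i <;> fin_cases j <;>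
        simp [Fintype.sum_sum_type, Matrix.fromBlocks, Matrix.one_apply, Finset.sum_ite_eq,
          Finset.sum_ite_eq', Matrix.transpose_apply, Matrix.single_apply, Fin.sum_univ_three]
    · rintro _ ⟨x, rfl⟩
      rw [Submodule.mem_span_pair]
      refine ⟨- a * x (Sum.inr 1), a * x (Sum.inr 0), ?_⟩
      ext m
      simp only [Matrix.mulVecLin_apply, Matrix.mulVec, dotProduct, Pi.add_apply, Pi.smul_apply,
        smul_eq_mul, Matrix.transpose_apply, Matrix.smul_apply, Matrix.sub_apply]
      rcases m with m | m <;> fin_cases m <;>
        simp [Fintype.sum_sum_type, Matrix.single_apply, Fin.sum_univ_three]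

end Groth.Agent.S16016
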