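import Groth.Statements.S16017
import Mathlib
-- import your own Groth.Agent.* helpers here

set_option autoImplicit false
universe u
open W4c3ghconstell

namespace Groth.Agent.S16017

/-- Let ι index the irreducible representations, θ : ι → ℚ a weight negative at only finitely many
indices (the finite set D₋), h h' : ι → ℕ with h' ≤ h pointwise (the isotypic dimensions of an
object and of a sub-object) and Σ_i θ_i h_i summable. For a finite set D of indices put S_D = Σ_{i ∉
D} θ_i h_i, d = #(D ∖ D₋), and θ̃_D = Σ_{i ∈ D} θ_i h'_i + (S_D / d) · Σ_{i ∈ D ∖ D₋} h'_i / h_i,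
the modified weight attached to the parameters chosen for D (for D ⊇ D₋ the first sum is the
negative part plus the part over D ∖ D₋). Then θ̃_D tends to Σ_i θ_i h'_i as D grows through the
finite subsets of ι. (Here D runs over all finite sets of indices and a quotient by zero is zero;
the source lets D run over the finite subsets of the locus θ ≠ 0 containing D₋, and the same tail
estimate gives both.) -/
theorem result {ι : Type u} [DecidableEq ι] (θ : ι → ℚ) (h h' : ι → ℕ)
    (hle : ∀ i, h' i ≤ h i) (hfin : {i | θ i < 0}.Finite)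
    (hsum : Summable (fun i => (θ i : ℝ) * (h i : ℝ))) :
    Filter.Tendsto
      (fun D : Finset ι =>
        (∑ i ∈ D, (θ i : ℝ) * (h' i : ℝ)) +
          ((∑' i, if i ∈ D then (0 : ℝ) else (θ i : ℝ) * (h i : ℝ)) / ((D \ hfin.toFinset).card : ℝ)) *
            ∑ i ∈ D \ hfin.toFinset, ((h' i : ℝ) / (h i : ℝ)))
      Filter.atTop (nhds (∑' i, (θ i : ℝ) * (h' i : ℝ))) := by
  set f : ι → ℝ := fun i => (θ i : ℝ) * (h i : ℝ) with hf
  set g : ι → ℝ := fun i => (θ i : ℝ) * (h' i : ℝ) with hg
  have hgs : Summable g := by
    refine Summable.of_norm_bounded (g := fun i => ‖f i‖) hsum.norm ?_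
    intro i
    simp only [hf, hg, norm_mul]
    apply mul_le_mul_of_nonneg_left _ (norm_nonneg _)
    rw [Real.norm_natCast, Real.norm_natCast]
    exact_mod_cast hle i
  have h1 : Filter.Tendsto (fun D : Finset ι => ∑ i ∈ D, g i) Filter.atTop (nhds (∑' i, g i)) :=
    hgs.hasSum
  have h2 : Filter.Tendsto (fun D : Finset ι => ∑' i, if i ∈ D then (0 : ℝ) else f i)
      Filter.atTop (nhds 0) := by
    have := tendsto_tsum_compl_atTop_zero f
    refine this.congr ?_
    intro D
    have e := tsum_subtype {x | x ∉ D} f
    refine (e.trans ?_)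
    apply tsum_congr
    intro i
    by_cases hi : i ∈ D
    · rw [if_pos hi, Set.indicator_of_notMem]
      exact fun h => h hi
    · rw [if_neg hi, Set.indicator_of_mem]
      exact hi
  have h3 : Filter.Tendsto (fun D : Finset ι =>
      ((∑' i, if i ∈ D then (0 : ℝ) else f i) / ((D \ hfin.toFinset).card : ℝ)) *
        ∑ i ∈ D \ hfin.toFinset, ((h' i : ℝ) / (h i : ℝ))) Filter.atTop (nhds 0) := by
    refine squeeze_zero_norm (a := fun D : Finset ι => ‖∑' i, if i ∈ D then (0 : ℝ) else f i‖) ?_ ?_
    · intro D
      set S := ∑' i, if i ∈ D then (0 : ℝ) else f i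
      set T := ∑ i ∈ D \ hfin.toFinset, ((h' i : ℝ) / (h i : ℝ))
      have hT0 : 0 ≤ T := Finset.sum_nonneg fun i _ => by positivity
      have hT1 : T ≤ ((D \ hfin.toFinset).card : ℝ) := by
        calc T ≤ ∑ i ∈ D \ hfin.toFinset, (1 : ℝ) := by
              apply Finset.sum_le_sum
              intro i _
              apply div_le_one_of_le₀ _ (Nat.cast_nonneg _)
              exact_mod_cast hle i
          _ = _ := by simp
      rw [norm_mul, norm_div, Real.norm_natCast, Real.norm_of_nonneg hT0]
      rcases Nat.eq_zero_or_pos (D \ hfin.toFinset).card with h0 | hpos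
      · rw [h0]; simp
      · have hd : (0 : ℝ) < ((D \ hfin.toFinset).card : ℝ) := by exact_mod_cast hpos
        calc ‖S‖ / ((D \ hfin.toFinset).card : ℝ) * T
            ≤ ‖S‖ / ((D \ hfin.toFinset).card : ℝ) * ((D \ hfin.toFinset).card : ℝ) := by
              apply mul_le_mul_of_nonneg_left hT1
              positivity
          _ = ‖S‖ := by field_simp
    · have := h2.norm
      simpa using this
  have := h1.add h3
  rw [add_zero] at this
  exact this

end Groth.Agent.S16017
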