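import Groth.Statements.S16030
-- import your own Groth.Agent.* helpers here

set_option autoImplicit false
universe u
open CAlg

namespace Groth.Agent.S16030

/-- For a finite set F of points of the spectrum of a commutative ring A and an open subset U containing
F, some basic open D(a) contains F and is contained in U. -/
theorem result
    (A : Type u) [CommRing A] (F : Set (PrimeSpectrum A)) (hF : F.Finite)
    (U : TopologicalSpace.Opens (PrimeSpectrum A)) (hFU : F ⊆ (U : Set (PrimeSpectrum A))) :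
    ∃ a : A, F ⊆ (PrimeSpectrum.basicOpen a : Set (PrimeSpectrum A)) ∧ PrimeSpectrum.basicOpen a ≤ U := by
  classical
  rcases F.eq_empty_or_nonempty with rfl | ⟨p₀, hp₀⟩
  · refine ⟨0, Set.empty_subset _, ?_⟩
    rw [PrimeSpectrum.basicOpen_zero]; exact bot_le
  obtain ⟨I, hI⟩ := (PrimeSpectrum.isClosed_iff_zeroLocus_ideal _).mp U.isOpen.isClosed_compl
  -- no prime of F contains I
  have hnot : ∀ p ∈ hF.toFinset, ¬ I ≤ p.asIdeal := by
    intro p hp hle
    rw [Set.Finite.mem_toFinset] at hp
    have : p ∈ (U : Set (PrimeSpectrum A))ᶜ := by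
      rw [hI, PrimeSpectrum.mem_zeroLocus]; exact hle
    exact this (hFU hp)
  have h2 : ¬ ((I : Set A) ⊆ ⋃ p ∈ (↑hF.toFinset : Set (PrimeSpectrum A)), (p.asIdeal : Set A)) := by
    intro h
    obtain ⟨p, hp, hle⟩ := (Ideal.subset_union_prime (f := fun p : PrimeSpectrum A => p.asIdeal)
      (s := hF.toFinset) p₀ p₀ (fun p _ _ _ => p.2)).mp h
    exact hnot p hp hle
  rw [Set.not_subset] at h2
  obtain ⟨a, haI, ha⟩ := h2
  refine ⟨a, fun p hp => ?_, fun p hp => ?_⟩
  · rw [SetLike.mem_coe, PrimeSpectrum.mem_basicOpen]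
    intro hap
    apply ha
    simp only [Set.mem_iUnion]
    exact ⟨p, by simpa using hp, hap⟩
  · by_contra hpU
    have : p ∈ (U : Set (PrimeSpectrum A))ᶜ := hpU
    rw [hI, PrimeSpectrum.mem_zeroLocus] at this
    exact (PrimeSpectrum.mem_basicOpen _ _).mp hp (this haI)

end Groth.Agent.S16030
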