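import Groth.Statements.S16045
import Groth.Agent.Lib.Helper9.Ferrand19

set_option autoImplicit false
universe u
open CategoryTheory CategoryTheory.Limits AlgebraicGeometry
open FlatMor

namespace Groth.Agent.S16045

/-- Let θ₁ : Y ⟶ X₁ and θ₂ : Y ⟶ X₂ be closed immersions of schemes over S and X their pushout in
schemes over S. For a flat morphism g : S' ⟶ S, the square obtained by base change along g is a
pushout in schemes over S': pinching along a closed subscheme commutes with flat base change. -/
theorem result
    {S S' : Scheme.{u}} (g : S' ⟶ S) [Flat g]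
    {Y X₁ X₂ X : Over S} (θ₁ : Y ⟶ X₁) (θ₂ : Y ⟶ X₂) [IsClosedImmersion θ₁.left] [IsClosedImmersion θ₂.left]
    (φ₁ : X₁ ⟶ X) (φ₂ : X₂ ⟶ X) (hX : IsPushout θ₁ θ₂ φ₁ φ₂) :
    IsPushout ((Over.pullback g).map θ₁) ((Over.pullback g).map θ₂)
      ((Over.pullback g).map φ₁) ((Over.pullback g).map φ₂) := by
  open Groth.Agent.Lib.Helper9.Ferrand Limits in
  -- the forgetful functor to schemes preserves and reflects pushouts
  haveI : PreservesColimitsOfSize.{0, 0} (Over.forget S) :=
    (Over.forgetAdjStar S).leftAdjoint_preservesColimits
  have hleft : IsPushout θ₁.left θ₂.left φ₁.left φ₂.left := hX.map (Over.forget S)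
  have hcov := hcov_of_haff θ₁.left θ₂.left (haff_of_isClosedImmersion θ₁.left θ₂.left)
  haveI : IsClosedImmersion φ₁.left := by
    rw [← mapA_iso θ₁.left θ₂.left hcov hleft]
    have := isClosedImmersion_mapA θ₁.left θ₂.left hcov
    infer_instance
  haveI : IsClosedImmersion φ₂.left := isClosedImmersion_of_isPushout θ₁.left θ₂.left hcov hleft
  -- base change squares
  have key : ∀ {A B : Over S} (φ : A ⟶ B), IsPullback (pullback.fst A.hom g)
      ((Over.pullback g).map φ).left φ.left (pullback.fst B.hom g) := by
    intro A B φ
    have s : IsPullback (((Over.pullback g).map φ).left ≫ pullback.snd B.hom g)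
        (pullback.fst A.hom g) g (φ.left ≫ B.hom) := by
      have h1 : ((Over.pullback g).map φ).left ≫ pullback.snd B.hom g = pullback.snd A.hom g := by
        simp only [Over.pullback_map_left]
        exact pullback.lift_snd _ _ _
      rw [h1, Over.w φ]
      exact (IsPullback.of_hasPullback A.hom g).flip
    have p : ((Over.pullback g).map φ).left ≫ pullback.fst B.hom g =
        pullback.fst A.hom g ≫ φ.left := by
      simp only [Over.pullback_map_left]
      exact pullback.lift_fst _ _ _
    exact (IsPullback.of_right s p (IsPullback.of_hasPullback B.hom g).flip).flip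
  have hsch : IsPushout ((Over.pullback g).map θ₁).left ((Over.pullback g).map θ₂).left
      ((Over.pullback g).map φ₁).left ((Over.pullback g).map φ₂).left := by
    refine isPushout_baseChange_of_flat θ₁.left θ₂.left φ₁.left φ₂.left (pullback.fst X.hom g)
      (pullback.fst X₁.hom g) _ (pullback.fst X₂.hom g) _ (pullback.fst Y.hom g)
      ((Over.pullback g).map (θ₁ ≫ φ₁)).left _ _ hleft (key φ₁) (key φ₂) (key (θ₁ ≫ φ₁))
      ?_ ?_ ?_ ?_
    · simp only [Over.pullback_map_left]
      exact pullback.lift_fst _ _ _
    · rw [Functor.map_comp]; rfl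
    · simp only [Over.pullback_map_left]
      exact pullback.lift_fst _ _ _
    · rw [hX.w, Functor.map_comp]; rfl
  exact IsPushout.of_map (Over.forget S') (by rw [← Functor.map_comp, ← Functor.map_comp, hX.w])
    hsch

end Groth.Agent.S16045
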