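import Groth.Statements.S16048
import Groth.Agent.Lib.Helper1.ArtFunPS
import Groth.Agent.Lib.Helper1.ArtFunCRing
import Groth.Agent.S12720

set_option autoImplicit false
universe u v
open CategoryTheory
open ArtFun

namespace Groth.Agent.S16048

open ArtFun.Art

/-- A miniversal family forces `F(k)` to be a point. -/
theorem h0_of_isMiniversal {Λ : Type u} {k : Type u} [CommRing Λ] [Field k] [Algebra Λ k]
    {F : ArtFun.Art Λ k ⥤ Type v} {R : Type u} [CommRing R] [Algebra Λ R] {resR : R →ₐ[Λ] k}
    (η : Family R resR F) (hη : IsMiniversal η) : H0 F := by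
  apply Groth.Agent.Lib.Helper5.ArtFunLift.h0_of_surjective η
  intro x
  let ι : base Λ k ⟶ dual Λ k := Art.homMk (TrivSqZeroExt.inlAlgHom Λ k k) (AlgHom.ext fun _ => rfl)
  have hι : ι ≫ toBase (dual Λ k) = 𝟙 (base Λ k) := Art.hom_ext (AlgHom.ext fun _ => rfl)
  obtain ⟨φ, hφ⟩ := hη.2.2 (F.map ι x)
  refine ⟨HomSet.map (toBase (dual Λ k)) φ, ?_⟩
  rw [η.natural, hφ, ← Groth.Agent.Lib.Helper1.ArtFunFib.map_comp_apply, hι,
    Groth.Agent.Lib.Helper1.ArtFunFib.map_id_apply]

/-- Let Λ be a complete local Noetherian ring with residue field k and F a functor on Artinian local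
Λ-algebras with residue field k which admits a hull. A family ξ of F over a complete local
Noetherian Λ-algebra R with residue field k such that R is isomorphic over Λ to a power series ring
Λ[[t_1, …, t_n]] and the induced map on tangent spaces h_R(k[ε]) → F(k[ε]) is bijective is
miniversal. (The source states this for the deformation functor of a rational double point over the
Witt vectors of an algebraically closed field, with the Kodaira–Spencer map as the tangent map and
the existence of a hull taken from Schlessinger's criteria; the argument uses only the existence of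
a hull, so the hull is carried as a hypothesis and Λ is any complete local Noetherian ring with
residue field k.) -/
theorem result {Λ : Type u} {k : Type u}
    [CommRing Λ] [Field k] [Algebra Λ k] [IsNoetherianRing Λ] [Module.Finite Λ k]
    [IsLocalRing Λ] [IsAdicComplete (IsLocalRing.maximalIdeal Λ) Λ]
    (hk : Function.Surjective (algebraMap Λ k))
    {F : ArtFun.Art Λ k ⥤ Type v} (hF : ArtFun.HasHull F)
    (R : ArtFun.CRing Λ k) (n : ℕ) (e : R.carrier ≃ₐ[Λ] MvPowerSeries (Fin n) Λ)
    (ξ : ArtFun.Family R.carrier R.res F)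
    (hξ : Function.Bijective (ArtFun.TangentSpace.ofFamily ξ)) :
    ArtFun.IsMiniversal ξ := by
  obtain ⟨H⟩ := hF
  have hv := H.miniversal.1
  have hb := H.miniversal.2
  have h0 : H0 F := h0_of_isMiniversal H.family H.miniversal
  obtain ⟨g, hg, hgξ⟩ := Groth.Agent.S12720.result h0 H.ring H.family hv R ξ.toFormalElt
  have happ : ∀ (A : Art Λ k) (φ : HomSet R.carrier R.res A),
      (H.family.along g hg).app A φ = ξ.app A φ :=
    Groth.Agent.Lib.Helper1.ArtFunCRing.family_app_eq_of_toFormalElt_eq R _ _ hgξ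
  let ζ : Family R.carrier R.res (hR H.ring.carrier H.ring.res) :=
    (Family.self H.ring.carrier H.ring.res).along g hg
  let φg : hR R.carrier R.res ⟶ hR H.ring.carrier H.ring.res := ζ.toNatTrans
  have hφg : ∀ (A : Art Λ k) (u : HomSet R.carrier R.res A),
      ξ.app A u = H.family.app A (φg.app A u) := fun A u => (happ A u).symm
  -- tangent map of φg is bijective
  have hTbij : Function.Bijective (TangentSpace.map φg) := by
    have hcomp : (TangentSpace.ofFamily ξ) =
        (fun x => H.family.app (dual Λ k) x) ∘ (TangentSpace.map φg) := by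
      funext u
      exact hφg (dual Λ k) u
    rw [hcomp] at hξ
    constructor
    · exact Function.Injective.of_comp hξ.1
    · intro y
      obtain ⟨u, hu⟩ := hξ.2 (H.family.app (dual Λ k) y)
      exact ⟨u, hb.1 hu⟩
  have hsmR : IsSmoothFunctor (hR R.carrier R.res) :=
    Groth.Agent.Lib.Helper1.ArtFunPS.smooth_of_algEquiv hk R n e
  have hsmooth : IsSmooth φg :=
    (Groth.Agent.S12742.result (Groth.Agent.Lib.Helper1.ArtFunPS.h0_hR R.res)
      (Groth.Agent.Lib.Helper1.ArtFunPS.rs_hR R.res)
      (Groth.Agent.Lib.Helper1.ArtFunPS.h0_hR H.ring.res)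
      (Groth.Agent.Lib.Helper1.ArtFunPS.rs_hR H.ring.res) φg).2
      ⟨hTbij.2, fun A' A μ hμ x _ => hsmR μ hμ.1 x⟩
  refine ⟨?_, hξ⟩
  intro B A μ hμ φ y hy
  rw [hφg] at hy
  obtain ⟨ψH, hψH1, hψH2⟩ := hv μ hμ (φg.app A φ) y hy
  obtain ⟨ψ, hψ⟩ := hsmooth μ hμ ⟨((φ : (hR R.carrier R.res).obj A), (ψH : (hR H.ring.carrier H.ring.res).obj B)), hψH1.symm⟩
  have h1 : (hR R.carrier R.res).map μ ψ = φ := congrArg (fun t => t.1.1) hψ
  have h2 : φg.app B ψ = ψH := congrArg (fun t => t.1.2) hψ
  refine ⟨ψ, h1, ?_⟩
  rw [hφg, h2, hψH2]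

end Groth.Agent.S16048
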