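import Groth.Statements.S16049
import Groth.Agent.S1386
import Groth.Agent.S2155
import Groth.Agent.Lib.Helper13.LimDescendSurj

set_option autoImplicit false
universe u
open CategoryTheory Limits AlgebraicGeometry
open FlatMor

namespace Groth.Agent.S16049

/-- Let g : Y → S and h : X → S be locally of finite presentation with h flat, let f : X → Y be an
S-morphism and s a point of S such that the fibre map X_s → Y_s is smooth. Then f is smooth on an
open subscheme of X containing the whole fibre of h over s. (The published statement, for schemes of
finite type over a complete discrete valuation ring and s the closed point, concludes that f is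
smooth everywhere; that fails because schemes of finite type over a discrete valuation ring have
closed points in the generic fibre — the dual numbers over the fraction field K, mapped to Spec K,
are flat and of finite type over the valuation ring with empty closed fibre and are not smooth over
Spec K. The printed argument establishes smoothness exactly at the points over s, which is what is
stated here, over an arbitrary base.) -/
theorem result {X Y S : Scheme.{u}} (g : Y ⟶ S) (h : X ⟶ S)
    [LocallyOfFinitePresentation g] [LocallyOfFinitePresentation h] [Flat h]
    (f : X ⟶ Y) (w : f ≫ g = h) (s : S) (hs : Smooth (pullback.snd f (g.fiberι s))) :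
    ∃ U : X.Opens, (∀ x : X, h.base x = s → x ∈ U) ∧ Smooth (U.ι ≫ f) := by
  subst w
  haveI : LocallyOfFinitePresentation f :=
    Lib.Helper13.LimDescend.locallyOfFinitePresentation_of_comp f g
  refine ⟨f.smoothLocus, ?_, ?_⟩
  · intro x hx
    subst hx
    -- the fibre map is a base change of `f`, hence smooth
    have sq : IsPullback ((f ≫ g).fiberι ((f ≫ g).base x))
        (MoreMor.fiberMap f g ((f ≫ g).base x)) f (g.fiberι ((f ≫ g).base x)) := by
      refine IsPullback.of_bot ?_ ?_ (IsPullback.of_hasPullback g
        (S.fromSpecResidueField ((f ≫ g).base x)))
      · have : MoreMor.fiberMap f g ((f ≫ g).base x) ≫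
            Limits.pullback.snd g (S.fromSpecResidueField ((f ≫ g).base x)) =
            (f ≫ g).fiberToSpecResidueField ((f ≫ g).base x) := Limits.pullback.lift_snd _ _ _
        rw [this]
        exact IsPullback.of_hasPullback (f ≫ g) (S.fromSpecResidueField ((f ≫ g).base x))
      · exact (Limits.pullback.lift_fst _ _ _).symm
    haveI : Smooth (MoreMor.fiberMap f g ((f ≫ g).base x)) := by
      rw [← sq.isoPullback_hom_snd]
      infer_instance
    have hflat : (f.stalkMap x).hom.Flat :=
      (((Groth.Agent.S1386.result f g).1 x).mp
        ⟨Flat.stalkMap (f ≫ g) x, Flat.stalkMap (MoreMor.fiberMap f g ((f ≫ g).base x)) _⟩).2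
    -- the fibre of `f` over `f x` is smooth
    let y : Y := f.base x
    let t : Spec (Y.residueField y) ⟶ g.fiber (g.base y) :=
      Limits.pullback.lift (Y.fromSpecResidueField y) (Spec.map (g.residueFieldMap y))
        (Scheme.Hom.SpecMap_residueFieldMap_fromSpecResidueField g y).symm
    have ht : t ≫ g.fiberι (g.base y) = Y.fromSpecResidueField y := Limits.pullback.lift_fst _ _ _
    have sq2 : IsPullback
        (Limits.pullback.lift (f.fiberι y) (f.fiberToSpecResidueField y ≫ t)
          (by rw [Category.assoc, ht]; exact f.fiber_fac y))
        (f.fiberToSpecResidueField y) (Limits.pullback.snd f (g.fiberι (g.base y))) t := by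
      refine IsPullback.of_right ?_ (Limits.pullback.lift_snd _ _ _)
        (IsPullback.of_hasPullback f (g.fiberι (g.base y)))
      rw [Limits.pullback.lift_fst, ht]
      exact IsPullback.of_hasPullback f (Y.fromSpecResidueField y)
    haveI : Smooth (Limits.pullback.snd f (g.fiberι (g.base y))) := hs
    have hsm : Smooth (f.fiberToSpecResidueField y) :=
      MorphismProperty.of_isPullback (P := @Smooth) sq2 inferInstance
    haveI : LocallyOfFinitePresentation (f.fiberToSpecResidueField y) :=
      MorphismProperty.pullback_snd _ _ inferInstance
    refine Groth.Agent.S2155.mem_smoothLocus_of_flat_of_fiber' f x y rfl (f.asFiber x)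
      (f.fiberι_asFiber x) hflat ?_
    have : f.asFiber x ∈ (f.fiberToSpecResidueField y).smoothLocus := by
      rw [Scheme.Hom.smoothLocus_eq_top]; trivial
    exact this
  · rw [← Scheme.Hom.smoothLocus_eq_top_iff, ← Scheme.Hom.preimage_smoothLocus_eq]
    ext y
    simp

end Groth.Agent.S16049
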