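import Groth.Statements.S16051
-- import your own Groth.Agent.* helpers here

set_option autoImplicit false
set_option linter.unusedSectionVars false
universe u
open LieAlg

namespace Groth.Agent.S16051

open Finset

section defs

variable {O : Type u} [CommRing O] {n : ℕ}

/-- ℕ-indexed entries of a matrix -/
def ent (y : Matrix (Fin (n + 1)) (Fin (n + 1)) O) (a b : ℕ) : O :=
  y (Fin.ofNat (n + 1) a) (Fin.ofNat (n + 1) b)

lemma ent_val (y : Matrix (Fin (n + 1)) (Fin (n + 1)) O) (i j : Fin (n + 1)) :
    ent y i.val j.val = y i j := by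
  unfold ent
  rw [Fin.ofNat_val_eq_self, Fin.ofNat_val_eq_self]

lemma ent_add (y y' : Matrix (Fin (n + 1)) (Fin (n + 1)) O) (a b : ℕ) :
    ent (y + y') a b = ent y a b + ent y' a b := rfl

lemma ent_sub (y y' : Matrix (Fin (n + 1)) (Fin (n + 1)) O) (a b : ℕ) :
    ent (y - y') a b = ent y a b - ent y' a b := rfl

lemma ent_smul (c : O) (y : Matrix (Fin (n + 1)) (Fin (n + 1)) O) (a b : ℕ) :
    ent (c • y) a b = c * ent y a b := rfl

/-- partial diagonal sums going up-left from `(a,b)` -/
def G (y : Matrix (Fin (n + 1)) (Fin (n + 1)) O) (a b : ℕ) : O :=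
  ∑ t ∈ range (min a b + 1), ent y (a - t) (b - t)

lemma G_zero_left (y : Matrix (Fin (n + 1)) (Fin (n + 1)) O) (b : ℕ) : G y 0 b = ent y 0 b := by
  unfold G
  simp

lemma G_zero_right (y : Matrix (Fin (n + 1)) (Fin (n + 1)) O) (a : ℕ) : G y a 0 = ent y a 0 := by
  unfold G
  simp

lemma G_succ (y : Matrix (Fin (n + 1)) (Fin (n + 1)) O) (a b : ℕ) :
    G y (a + 1) (b + 1) = ent y (a + 1) (b + 1) + G y a b := by
  unfold G
  rw [show min (a + 1) (b + 1) + 1 = (min a b + 1) + 1 by omega, sum_range_succ', add_comm]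
  congr 1
  refine sum_congr rfl fun t _ => ?_
  rw [Nat.add_sub_add_right, Nat.add_sub_add_right]

lemma G_add (y y' : Matrix (Fin (n + 1)) (Fin (n + 1)) O) (a b : ℕ) :
    G (y + y') a b = G y a b + G y' a b := by
  unfold G
  rw [← sum_add_distrib]
  rfl

lemma G_smul (c : O) (y : Matrix (Fin (n + 1)) (Fin (n + 1)) O) (a b : ℕ) :
    G (c • y) a b = c * G y a b := by
  unfold G
  rw [mul_sum]
  rfl

end defs

section xmat

variable {O : Type u} [CommRing O] {n : ℕ}
  (x : Matrix (Fin (n + 1)) (Fin (n + 1)) O)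
  (hx : ∀ i j : Fin (n + 1), x i j = if j.val = i.val + 1 ∧ j.val < n then 1 else 0)

include hx

lemma x_mul_apply (z : Matrix (Fin (n + 1)) (Fin (n + 1)) O) (i j : Fin (n + 1)) :
    (x * z) i j = if i.val + 1 < n then ent z (i.val + 1) j.val else 0 := by
  rw [Matrix.mul_apply]
  by_cases h : i.val + 1 < n
  · rw [if_pos h]
    have hlt : i.val + 1 < n + 1 := by omega
    rw [Finset.sum_eq_single (⟨i.val + 1, hlt⟩ : Fin (n + 1))]
    · rw [hx, if_pos ⟨rfl, h⟩, one_mul]
      have := ent_val z ⟨i.val + 1, hlt⟩ j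
      exact this.symm
    · intro k _ hk
      rw [hx, if_neg, zero_mul]
      rintro ⟨h1, _⟩
      exact hk (Fin.ext h1)
    · intro h'; exact absurd (Finset.mem_univ _) h'
  · rw [if_neg h]
    refine Finset.sum_eq_zero fun k _ => ?_
    rw [hx, if_neg, zero_mul]
    rintro ⟨h1, h2⟩
    omega

lemma mul_x_apply (z : Matrix (Fin (n + 1)) (Fin (n + 1)) O) (i j : Fin (n + 1)) :
    (z * x) i j = if 1 ≤ j.val ∧ j.val < n then ent z i.val (j.val - 1) else 0 := by
  rw [Matrix.mul_apply]
  by_cases h : 1 ≤ j.val ∧ j.val < n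
  · rw [if_pos h]
    have hlt : j.val - 1 < n + 1 := by omega
    rw [Finset.sum_eq_single (⟨j.val - 1, hlt⟩ : Fin (n + 1))]
    · rw [hx, if_pos ⟨by simp only; omega, h.2⟩, mul_one]
      have := ent_val z i ⟨j.val - 1, hlt⟩
      exact this.symm
    · intro k _ hk
      rw [hx, if_neg, mul_zero]
      rintro ⟨h1, _⟩
      apply hk
      apply Fin.ext
      simp only
      omega
    · intro h'; exact absurd (Finset.mem_univ _) h'
  · rw [if_neg h]
    refine Finset.sum_eq_zero fun k _ => ?_
    rw [hx, if_neg, mul_zero]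
    rintro ⟨h1, h2⟩
    apply h
    omega

/-- entries of the commutator -/
lemma ent_comm (z : Matrix (Fin (n + 1)) (Fin (n + 1)) O) (a b : ℕ) (ha : a ≤ n) (hb : b ≤ n) :
    ent (x * z - z * x) a b = (if a + 1 < n then ent z (a + 1) b else 0)
      - (if 1 ≤ b ∧ b < n then ent z a (b - 1) else 0) := by
  have h1 := ent_val (x * z - z * x) ⟨a, by omega⟩ ⟨b, by omega⟩
  simp only at h1
  rw [h1, Matrix.sub_apply, x_mul_apply x hx, mul_x_apply x hx]

/-- telescoping of the diagonal sums of a commutator -/
lemma G_comm (z : Matrix (Fin (n + 1)) (Fin (n + 1)) O) (a b : ℕ) (ha : a < n) (hb : b < n) :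
    G (x * z - z * x) a b = (if a + 1 < n then ent z (a + 1) b else 0)
      - (if a < b then ent z 0 (b - a - 1) else 0) := by
  induction a generalizing b with
  | zero =>
    rw [G_zero_left, ent_comm x hx z 0 b (by omega) (by omega)]
    by_cases hb0 : b = 0
    · subst hb0; simp
    · rw [if_pos (⟨by omega, hb⟩ : 1 ≤ b ∧ b < n), if_pos (by omega : 0 < b)]
      simp
  | succ a ih =>
    cases b with
    | zero =>
      rw [G_zero_right, ent_comm x hx z (a + 1) 0 (by omega) (by omega)]
      simp
    | succ b =>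
      rw [G_succ, ent_comm x hx z (a + 1) (b + 1) (by omega) (by omega), ih b (by omega) (by omega)]
      rw [if_pos (⟨by omega, hb⟩ : 1 ≤ b + 1 ∧ b + 1 < n), if_pos (by omega : a + 1 < n)]
      have e1 : b + 1 - 1 = b := by omega
      have e2 : b + 1 - (a + 1) - 1 = b - a - 1 := by omega
      rw [e1, e2]
      by_cases hab : a < b
      · rw [if_pos hab, if_pos (by omega : a + 1 < b + 1)]; ring
      · rw [if_neg hab, if_neg (by omega : ¬ a + 1 < b + 1)]; ring

end xmat

section maps

variable {O : Type u} [CommRing O] {n : ℕ}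

/-- the `n + 2` functionals -/
def Phi (O : Type u) [CommRing O] (n : ℕ) :
    Matrix (Fin (n + 1)) (Fin (n + 1)) O →ₗ[O] (Fin n → O) × O × O where
  toFun y := (fun e => G y (n - 1) (n - 1 - e.val), ent y (n - 1) n, ent y n 0)
  map_add' y y' := by
    ext <;> simp [G_add, ent_add]
  map_smul' c y := by
    ext <;> simp [G_smul, ent_smul]

lemma Phi_apply (y : Matrix (Fin (n + 1)) (Fin (n + 1)) O) :
    Phi O n y = (fun e => G y (n - 1) (n - 1 - e.val), ent y (n - 1) n, ent y n 0) := rfl

/-- total extension of `c` -/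
def ctil (c : Fin n → O) (e : ℕ) : O := if h : e < n then c ⟨e, h⟩ else 0

lemma ctil_val (c : Fin n → O) (e : Fin n) : ctil c e.val = c e := by
  unfold ctil
  rw [dif_pos e.isLt]

/-- the section -/
def Smat (v : (Fin n → O) × O × O) : Matrix (Fin (n + 1)) (Fin (n + 1)) O :=
  Matrix.of fun i j =>
    if i.val + 1 = n then (if j.val < n then ctil v.1 (n - 1 - j.val) else v.2.1)
    else if i.val = n then (if j.val = 0 then v.2.2 else if j.val = n then - ctil v.1 0 else 0)
    else 0

lemma ent_Smat (v : (Fin n → O) × O × O) (a b : ℕ) (ha : a ≤ n) (hb : b ≤ n) :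
    ent (Smat v) a b =
      if a + 1 = n then (if b < n then ctil v.1 (n - 1 - b) else v.2.1)
      else if a = n then (if b = 0 then v.2.2 else if b = n then - ctil v.1 0 else 0)
      else 0 := by
  have h1 := ent_val (Smat v) ⟨a, by omega⟩ ⟨b, by omega⟩
  simp only at h1
  rw [h1]
  rfl

/-- the homotopy (before trace correction) -/
def Zmat (y : Matrix (Fin (n + 1)) (Fin (n + 1)) O) : Matrix (Fin (n + 1)) (Fin (n + 1)) O :=
  Matrix.of fun i j =>
    if i.val < n ∧ j.val < n then (if i.val = 0 then 0 else G y (i.val - 1) j.val)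
    else if i.val < n then (if i.val = 0 then 0 else ent y (i.val - 1) n)
    else if j.val + 1 < n then - ent y n (j.val + 1)
    else 0

lemma ent_Zmat (y : Matrix (Fin (n + 1)) (Fin (n + 1)) O) (a b : ℕ) (ha : a ≤ n) (hb : b ≤ n) :
    ent (Zmat y) a b =
      if a < n ∧ b < n then (if a = 0 then 0 else G y (a - 1) b)
      else if a < n then (if a = 0 then 0 else ent y (a - 1) n)
      else if b + 1 < n then - ent y n (b + 1)
      else 0 := by
  have h1 := ent_val (Zmat y) ⟨a, by omega⟩ ⟨b, by omega⟩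
  simp only at h1
  rw [h1]
  rfl

lemma trace_eq (y : Matrix (Fin (n + 1)) (Fin (n + 1)) O) :
    Matrix.trace y = (∑ a ∈ range n, ent y a a) + ent y n n := by
  unfold Matrix.trace
  have : ∀ i : Fin (n + 1), Matrix.diag y i = ent y i.val i.val := fun i => (ent_val y i i).symm
  rw [Finset.sum_congr rfl fun i _ => this i, Fin.sum_univ_eq_sum_range (fun a => ent y a a),
    sum_range_succ]

lemma G_diag (y : Matrix (Fin (n + 1)) (Fin (n + 1)) O) (hn : 1 ≤ n) :
    G y (n - 1) (n - 1) = ∑ a ∈ range n, ent y a a := by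
  unfold G
  rw [min_self, Nat.sub_add_cancel hn]
  exact sum_range_reflect (fun a => ent y a a) n

end maps

section identity

variable {O : Type u} [CommRing O] {n : ℕ}
  (x : Matrix (Fin (n + 1)) (Fin (n + 1)) O)
  (hx : ∀ i j : Fin (n + 1), x i j = if j.val = i.val + 1 ∧ j.val < n then 1 else 0)

lemma G_rec (y : Matrix (Fin (n + 1)) (Fin (n + 1)) O) (a b : ℕ) :
    G y a b - (if 1 ≤ b then (if a = 0 then 0 else G y (a - 1) (b - 1)) else 0) = ent y a b := by
  cases a with
  | zero => rw [G_zero_left]; simp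
  | succ a =>
    cases b with
    | zero => rw [G_zero_right]; simp
    | succ b =>
      rw [G_succ, if_pos (by omega : 1 ≤ b + 1), if_neg (by omega : ¬ a + 1 = 0)]
      simp

include hx

lemma main_identity (hn : 1 ≤ n) (y : Matrix (Fin (n + 1)) (Fin (n + 1)) O)
    (hy : Matrix.trace y = 0) :
    x * Zmat y - Zmat y * x + Smat (Phi O n y) = y := by
  ext i j
  rw [Matrix.add_apply, ← ent_val (x * Zmat y - Zmat y * x) i j, ← ent_val (Smat (Phi O n y)) i j,
    ← ent_val y i j]
  have ha : i.val ≤ n := Nat.lt_succ_iff.1 i.isLt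
  have hb : j.val ≤ n := Nat.lt_succ_iff.1 j.isLt
  generalize i.val = a at ha
  generalize j.val = b at hb
  rw [ent_comm x hx (Zmat y) a b ha hb, ent_Smat _ a b ha hb]
  rcases Nat.lt_or_eq_of_le ha with ha' | ha'
  · rcases Nat.lt_or_eq_of_le hb with hb' | hb'
    · -- case A
      have hS : (if a + 1 = n then (if b < n then ctil (Phi O n y).1 (n - 1 - b) else (Phi O n y).2.1)
          else if a = n then (if b = 0 then (Phi O n y).2.2 else
            if b = n then - ctil (Phi O n y).1 0 else 0) else 0)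
          = if a + 1 = n then G y a b else 0 := by
        by_cases h1 : a + 1 = n
        · rw [if_pos h1, if_pos h1, if_pos hb']
          have hlt : n - 1 - b < n := by omega
          have := ctil_val (Phi O n y).1 ⟨n - 1 - b, hlt⟩
          simp only at this
          rw [this, Phi_apply]
          simp only
          congr 1 <;> omega
        · rw [if_neg h1, if_neg h1, if_neg (by omega : ¬ a = n)]
      rw [hS]
      have hZ1 : (if a + 1 < n then ent (Zmat y) (a + 1) b else 0)
          = if a + 1 < n then G y a b else 0 := by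
        by_cases h1 : a + 1 < n
        · rw [if_pos h1, if_pos h1, ent_Zmat y (a + 1) b (by omega) hb,
            if_pos ⟨h1, hb'⟩, if_neg (by omega : ¬ a + 1 = 0), Nat.add_sub_cancel]
        · rw [if_neg h1, if_neg h1]
      have hZ2 : (if 1 ≤ b ∧ b < n then ent (Zmat y) a (b - 1) else 0)
          = if 1 ≤ b then (if a = 0 then 0 else G y (a - 1) (b - 1)) else 0 := by
        by_cases h1 : 1 ≤ b
        · rw [if_pos ⟨h1, hb'⟩, if_pos h1, ent_Zmat y a (b - 1) ha (by omega),
            if_pos ⟨ha', by omega⟩]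
        · rw [if_neg (fun h => h1 h.1), if_neg h1]
      rw [hZ1, hZ2, ← G_rec y a b]
      by_cases h1 : a + 1 < n
      · rw [if_pos h1, if_neg (by omega : ¬ a + 1 = n), add_zero]
      · rw [if_neg h1, if_pos (by omega : a + 1 = n)]; ring
    · -- case B : b = n
      subst hb'
      rw [if_neg (by omega : ¬ (1 ≤ b ∧ b < b)), sub_zero]
      by_cases h1 : a + 1 < b
      · rw [if_pos h1, if_neg (by omega : ¬ a + 1 = b), if_neg (by omega : ¬ a = b), add_zero,
          ent_Zmat y (a + 1) b (by omega) le_rfl, if_neg (by omega : ¬ (a + 1 < b ∧ b < b)),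
          if_pos h1, if_neg (by omega : ¬ a + 1 = 0), Nat.add_sub_cancel]
      · have h2 : a + 1 = b := by omega
        rw [if_neg h1, if_pos h2, if_neg (lt_irrefl b), zero_add, Phi_apply]
        simp only
        congr 1
        omega
  · -- a = n
    subst ha'
    rw [if_neg (by omega : ¬ a + 1 < a), zero_sub, if_neg (by omega : ¬ a + 1 = a), if_pos rfl]
    rcases Nat.lt_or_eq_of_le hb with hb' | hb'
    · -- case C
      by_cases h0 : b = 0
      · subst h0
        rw [if_neg (by omega : ¬ (1 ≤ 0 ∧ 0 < a)), if_pos rfl, neg_zero, zero_add, Phi_apply]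
      · rw [if_pos (⟨by omega, hb'⟩ : 1 ≤ b ∧ b < a), if_neg h0, if_neg (by omega : ¬ b = a), add_zero,
          ent_Zmat y a (b - 1) le_rfl (by omega), if_neg (by omega : ¬ (a < a ∧ b - 1 < a)),
          if_neg (lt_irrefl a), if_pos (by omega : b - 1 + 1 < a), neg_neg,
          Nat.sub_add_cancel (by omega : 1 ≤ b)]
    · -- case D
      subst hb'
      rw [if_neg (by omega : ¬ (1 ≤ b ∧ b < b)), neg_zero, zero_add, if_neg (by omega : ¬ b = 0),
        if_pos rfl]
      have hlt : 0 < b := hn
      have := ctil_val (Phi O b y).1 ⟨0, hlt⟩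
      simp only at this
      rw [this, Phi_apply]
      simp only
      rw [Nat.sub_zero, G_diag y hn]
      rw [trace_eq] at hy
      exact (eq_neg_of_add_eq_zero_right hy).symm ▸ rfl

end identity

section final

variable {O : Type u} [CommRing O] {n : ℕ}

lemma Phi_Smat (hn : 1 ≤ n) (v : (Fin n → O) × O × O) : Phi O n (Smat v) = v := by
  rw [Phi_apply]
  refine Prod.ext ?_ (Prod.ext ?_ ?_)
  · funext e
    simp only
    unfold G
    have hlt := e.isLt
    rw [sum_eq_single_of_mem 0 (mem_range.2 (Nat.succ_pos _))]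
    · rw [Nat.sub_zero, Nat.sub_zero, ent_Smat v (n - 1) (n - 1 - e.val) (by omega) (by omega),
        if_pos (by omega : n - 1 + 1 = n), if_pos (by omega : n - 1 - e.val < n)]
      have : n - 1 - (n - 1 - e.val) = e.val := by omega
      rw [this, ctil_val]
    · intro t ht ht0
      have := mem_range.1 ht
      rw [ent_Smat v (n - 1 - t) _ (by omega) (by omega), if_neg (by omega : ¬ n - 1 - t + 1 = n),
        if_neg (by omega : ¬ n - 1 - t = n)]
  · simp only
    rw [ent_Smat v (n - 1) n (by omega) le_rfl, if_pos (by omega : n - 1 + 1 = n),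
      if_neg (lt_irrefl n)]
  · simp only
    rw [ent_Smat v n 0 le_rfl (by omega), if_neg (by omega : ¬ n + 1 = n), if_pos rfl, if_pos rfl]

lemma trace_Smat (hn : 1 ≤ n) (v : (Fin n → O) × O × O) : Matrix.trace (Smat v) = 0 := by
  rw [trace_eq, ent_Smat v n n le_rfl le_rfl, if_neg (by omega : ¬ n + 1 = n), if_pos rfl,
    if_neg (by omega : ¬ n = 0), if_pos rfl]
  rw [sum_eq_single_of_mem (n - 1) (mem_range.2 (by omega))]
  · rw [ent_Smat v (n - 1) (n - 1) (by omega) (by omega), if_pos (by omega : n - 1 + 1 = n),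
      if_pos (by omega : n - 1 < n), Nat.sub_self, add_neg_cancel]
  · intro a ha hne
    have := mem_range.1 ha
    rw [ent_Smat v a a (by omega) (by omega), if_neg (by omega : ¬ a + 1 = n),
      if_neg (by omega : ¬ a = n)]

variable (x : Matrix (Fin (n + 1)) (Fin (n + 1)) O)
  (hx : ∀ i j : Fin (n + 1), x i j = if j.val = i.val + 1 ∧ j.val < n then 1 else 0)

include hx

lemma Phi_comm (hn : 1 ≤ n) (z : Matrix (Fin (n + 1)) (Fin (n + 1)) O) :
    Phi O n (x * z - z * x) = 0 := by
  rw [Phi_apply]
  refine Prod.ext ?_ (Prod.ext ?_ ?_)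
  · funext e
    simp only
    have hlt := e.isLt
    rw [G_comm x hx z (n - 1) (n - 1 - e.val) (by omega) (by omega),
      if_neg (by omega : ¬ n - 1 + 1 < n), if_neg (by omega : ¬ n - 1 < n - 1 - e.val), sub_zero]
    rfl
  · simp only
    rw [ent_comm x hx z (n - 1) n (by omega) le_rfl, if_neg (by omega : ¬ n - 1 + 1 < n),
      if_neg (by omega : ¬ (1 ≤ n ∧ n < n)), sub_zero]
    rfl
  · simp only
    rw [ent_comm x hx z n 0 le_rfl (by omega), if_neg (by omega : ¬ n + 1 < n),
      if_neg (by omega : ¬ (1 ≤ 0 ∧ 0 < n)), sub_zero]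
    rfl

lemma x_mul_single :
    x * Matrix.single (Fin.last n) (Fin.last n) (1 : O) = 0 := by
  ext i j
  rw [x_mul_apply x hx, Matrix.zero_apply]
  by_cases h : i.val + 1 < n
  · rw [if_pos h]
    unfold ent
    rw [Matrix.single_apply, if_neg]
    rintro ⟨h1, _⟩
    have := congrArg Fin.val h1
    rw [Fin.val_last, Fin.val_ofNat, Nat.mod_eq_of_lt (by omega)] at this
    omega
  · rw [if_neg h]

lemma single_mul_x :
    Matrix.single (Fin.last n) (Fin.last n) (1 : O) * x = 0 := by
  ext i j
  rw [mul_x_apply x hx, Matrix.zero_apply]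
  by_cases h : 1 ≤ j.val ∧ j.val < n
  · rw [if_pos h]
    unfold ent
    rw [Matrix.single_apply, if_neg]
    rintro ⟨_, h1⟩
    have := congrArg Fin.val h1
    rw [Fin.val_last, Fin.val_ofNat, Nat.mod_eq_of_lt (by omega)] at this
    omega
  · rw [if_neg h]

end final

lemma Smat_zero {O : Type u} [CommRing O] {n : ℕ} :
    Smat (0 : (Fin n → O) × O × O) = 0 := by
  ext i j
  unfold Smat ctil
  simp

/-- Let O be a discrete valuation ring of characteristic zero with residue field of characteristic p,
let 1 ≤ n with n + 1 < p (type A_n with p above the Coxeter number), and let x ∈ sl_{n+1}(O) be the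
standard subregular nilpotent element, the matrix with entries x_{i,i+1} = 1 for i + 1 < n and 0
elsewhere (one Jordan block of size n and one of size 1; in the source this is the sum of the root
vectors of the first n − 1 simple roots, completed there to an sl₂-triple). Then the quotient of
sl_{n+1}(O) by the image of ad_x is a free O-module of rank n + 2. (The source works over a complete
such ring with algebraically closed residue field; completeness and algebraic closedness are not
used for this statement.) -/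
theorem result (O : Type u) [CommRing O] [IsDomain O] [IsDiscreteValuationRing O]
    [CharZero O] (p : ℕ) [Fact p.Prime] [CharP (IsLocalRing.ResidueField O) p]
    (n : ℕ) (hn : 1 ≤ n) (hp : n + 1 < p)
    (x : LieAlgebra.SpecialLinear.sl (Fin (n + 1)) O)
    (hx : ∀ i j : Fin (n + 1), (x : Matrix (Fin (n + 1)) (Fin (n + 1)) O) i j =
      if j.val = i.val + 1 ∧ j.val < n then 1 else 0) :
    Module.Free O (LieAlgebra.SpecialLinear.sl (Fin (n + 1)) O ⧸
        LinearMap.range (LieAlgebra.ad O (LieAlgebra.SpecialLinear.sl (Fin (n + 1)) O) x)) ∧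
      Module.finrank O (LieAlgebra.SpecialLinear.sl (Fin (n + 1)) O ⧸
        LinearMap.range (LieAlgebra.ad O (LieAlgebra.SpecialLinear.sl (Fin (n + 1)) O) x)) = n + 2 := by
  let φ : LieAlgebra.SpecialLinear.sl (Fin (n + 1)) O →ₗ[O] (Fin n → O) × O × O :=
    { toFun := fun y => Phi O n y.val
      map_add' := fun a b => (Phi O n).map_add a.val b.val
      map_smul' := fun c a => (Phi O n).map_smul c a.val }
  have hφ : ∀ y : LieAlgebra.SpecialLinear.sl (Fin (n + 1)) O, φ y = Phi O n y.val := fun y => rfl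
  have hle : LinearMap.range (LieAlgebra.ad O (LieAlgebra.SpecialLinear.sl (Fin (n + 1)) O) x)
      ≤ LinearMap.ker φ := by
    rintro _ ⟨z, rfl⟩
    rw [LinearMap.mem_ker, hφ, LieAlgebra.ad_apply, LieAlgebra.SpecialLinear.sl_bracket]
    exact Phi_comm x.val hx hn z.val
  have hsurj : Function.Surjective φ := by
    intro v
    have hmem : Smat v ∈ LieAlgebra.SpecialLinear.sl (Fin (n + 1)) O := trace_Smat hn v
    exact ⟨⟨Smat v, hmem⟩, Phi_Smat hn v⟩
  have hker : LinearMap.ker φ
      ≤ LinearMap.range (LieAlgebra.ad O (LieAlgebra.SpecialLinear.sl (Fin (n + 1)) O) x) := by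
    intro y hy
    rw [LinearMap.mem_ker, hφ] at hy
    have htr : Matrix.trace y.val = 0 := y.property
    have hZ' : Matrix.trace (Zmat y.val - Matrix.trace (Zmat y.val) •
        Matrix.single (Fin.last n) (Fin.last n) (1 : O)) = 0 := by
      rw [Matrix.trace_sub, Matrix.trace_smul, Matrix.trace_single_eq_same, smul_eq_mul, mul_one,
        sub_self]
    have hmem : (Zmat y.val - Matrix.trace (Zmat y.val) •
        Matrix.single (Fin.last n) (Fin.last n) (1 : O))
        ∈ LieAlgebra.SpecialLinear.sl (Fin (n + 1)) O := hZ'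
    refine ⟨⟨_, hmem⟩, ?_⟩
    apply Subtype.ext
    rw [LieAlgebra.ad_apply, LieAlgebra.SpecialLinear.sl_bracket]
    have h1 := main_identity x.val hx hn y.val htr
    rw [hy, Smat_zero, add_zero] at h1
    simp only
    rw [Matrix.mul_sub, Matrix.sub_mul, Matrix.mul_smul, Matrix.smul_mul, x_mul_single x.val hx,
      single_mul_x x.val hx, smul_zero, sub_zero, sub_zero]
    exact h1
  have e : (LieAlgebra.SpecialLinear.sl (Fin (n + 1)) O ⧸
        LinearMap.range (LieAlgebra.ad O (LieAlgebra.SpecialLinear.sl (Fin (n + 1)) O) x))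
      ≃ₗ[O] (Fin n → O) × O × O :=
    (Submodule.quotEquivOfEq _ _ (le_antisymm hle hker)).trans (φ.quotKerEquivOfSurjective hsurj)
  refine ⟨Module.Free.of_equiv e.symm, ?_⟩
  rw [LinearEquiv.finrank_eq e, Module.finrank_prod, Module.finrank_prod, Module.finrank_fin_fun,
    Module.finrank_self]

end Groth.Agent.S16051
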