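import Groth.Statements.S16052
import Mathlib
import Groth.Agent.Lib.Helper12.TameE

set_option autoImplicit false
universe u
open Polynomial
open CAlg

namespace Groth.Agent.S16052

/-- Let O be a henselian discrete valuation ring of characteristic zero with algebraically closed
residue field of characteristic p, ϖ a uniformizer and K the fraction field. Let r_1, …, r_m ≥ 1 and
b_1, …, b_m ≥ 1 be integers with gcd(r_i, b_i) = 1 for each i and r_1 + ⋯ + r_m < p, and let v_1, …,
v_m be units of O. Then the splitting field over K of the polynomial ∏_i (y^{r_i} − v_i ϖ^{b_i}) has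
degree lcm(r_1, …, r_m) over K. (In the source O is complete and this polynomial is the y-part of a
deformation y ↦ x² + z² + f(y) of an A_n-singularity with n + 1 = Σ r_i; the proposition goes on to
identify the monodromy element, which is not stated here.) -/
theorem result (O : Type u) [CommRing O] [IsDomain O]
    [IsDiscreteValuationRing O] [HenselianLocalRing O] [CharZero O] [IsAlgClosed (IsLocalRing.ResidueField O)]
    (p : ℕ) [Fact p.Prime] [CharP (IsLocalRing.ResidueField O) p]
    (ϖ : O) (hϖ : Irreducible ϖ) (m : ℕ) (r b : Fin m → ℕ) (v : Fin m → Oˣ)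
    (hr : ∀ i, 1 ≤ r i) (hb : ∀ i, 1 ≤ b i) (hrb : ∀ i, Nat.Coprime (r i) (b i)) (hp : ∑ i, r i < p) :
    Module.finrank (FractionRing O)
        (∏ i, (X ^ (r i) - C (algebraMap O (FractionRing O) ((v i : O) * ϖ ^ (b i))))).SplittingField =
      Finset.univ.lcm r := by
  classical
  have hpp : p.Prime := Fact.out
  have hrlt : ∀ i, r i < p := fun i =>
    lt_of_le_of_lt (Finset.single_le_sum (f := r) (fun j _ => Nat.zero_le _) (Finset.mem_univ i)) hp
  have hcop : ∀ s : Finset (Fin m), Nat.Coprime (s.lcm r) p := by
    intro s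
    induction s using Finset.induction_on with
    | empty => simp
    | insert a s _ ih =>
      rw [Finset.lcm_insert]
      have h1 : Nat.Coprime (r a) p :=
        (Nat.coprime_of_lt_prime (Nat.one_le_iff_ne_zero.mp (hr a)) (hrlt a) hpp).symm
      have h2 : Nat.Coprime (r a * s.lcm r) p := Nat.Coprime.mul_left h1 ih
      exact Nat.Coprime.coprime_dvd_left (Nat.lcm_dvd_mul (r a) (s.lcm r)) h2
  have hNκ : ((Finset.univ.lcm r : ℕ) : IsLocalRing.ResidueField O) ≠ 0 := by
    rw [Ne, CharP.cast_eq_zero_iff (IsLocalRing.ResidueField O) p]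
    intro hdvd
    have h1 := hcop Finset.univ
    have h2 : p ∣ Nat.gcd (Finset.univ.lcm r) p := Nat.dvd_gcd hdvd dvd_rfl
    rw [h1] at h2
    exact hpp.one_lt.ne' (Nat.dvd_one.mp h2)
  exact Groth.Agent.Lib.Helper12.Tame.finrank_splittingField_prod O ϖ hϖ m r b v hr hrb hNκ

end Groth.Agent.S16052
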