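import Groth.Statements.S16072
-- import your own Groth.Agent.* helpers here
import Mathlib.RingTheory.Nilpotent.Lemmas
import Mathlib.RingTheory.Bialgebra.MonoidAlgebra
import Mathlib.RingTheory.Bialgebra.Equiv
import Mathlib.Algebra.CharP.Lemmas
import Mathlib.Data.ZMod.Basic
import Mathlib.Tactic.Ring

set_option autoImplicit false
universe u
open Hopf

namespace Groth.Agent.S16072

/-- Two characters of `R[ℤ/p]` in characteristic `p` agree modulo the nilradical. -/
lemma char_sub_mem_nilradical (p : ℕ) [Fact p.Prime] (R : Type u) [CommRing R] [CharP R p]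
    (χ χ' : MonoidAlgebra R (Multiplicative (ZMod p)) →ₐ[R] R)
    (x : MonoidAlgebra R (Multiplicative (ZMod p))) : χ x - χ' x ∈ nilradical R := by
  have key : ∀ (ψ : MonoidAlgebra R (Multiplicative (ZMod p)) →ₐ[R] R)
      (g : Multiplicative (ZMod p)), ψ (MonoidAlgebra.of R _ g) - 1 ∈ nilradical R := by
    intro ψ g
    have hg : g ^ p = 1 := by
      have : (p : ℕ) • (Multiplicative.toAdd g) = 0 := by
        rw [nsmul_eq_mul]; simp
      rw [← ofAdd_toAdd g, ← ofAdd_nsmul, this, ofAdd_zero]
    have h1 : ψ (MonoidAlgebra.of R _ g) ^ p = 1 := by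
      rw [← map_pow, ← map_pow, hg, map_one, map_one]
    rw [mem_nilradical]
    refine ⟨p, ?_⟩
    rw [sub_pow_char, h1, one_pow, sub_self]
  induction x using MonoidAlgebra.induction_on with
  | of g =>
    have := (nilradical R).sub_mem (key χ g) (key χ' g)
    simpa using this
  | add f f' hf hf' =>
    have := (nilradical R).add_mem hf hf'
    rw [map_add, map_add]
    convert this using 1
    ring
  | smul r f hf =>
    have := (nilradical R).mul_mem_left r hf
    rw [map_smul, map_smul, smul_eq_mul, smul_eq_mul]
    convert this using 1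
    ring

/-- Let p be a prime and R a commutative ring of characteristic p (p = 0 in R, R nonzero). Then the
constant group scheme ℤ/p and the group scheme μ_p of p-th roots of unity over Spec R are not
isomorphic: there is no R-bialgebra isomorphism between the Hopf algebra Maps(ℤ/p, R) of functions
on the cyclic group of order p and the group algebra R[ℤ/p]. (Any nonzero commutative base ring of
characteristic p is allowed. The published statement allows any ring R with p·R = 0; over the zero
ring both Hopf algebras are the zero ring and hence isomorphic, so R is assumed nonzero here.) -/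
theorem result (p : ℕ) [Fact p.Prime] (R : Type u) [CommRing R]
    [CharP R p] :
    IsEmpty (ConstGrp.F R (Multiplicative (ZMod p)) ≃ₐc[R] MonoidAlgebra R (Multiplicative (ZMod p))) := by
  classical
  refine ⟨fun e => ?_⟩
  have hnt : Nontrivial R := CharP.nontrivial_of_char_ne_one (R := R) (Fact.out : p.Prime).ne_one
  let g₁ : Multiplicative (ZMod p) := Multiplicative.ofAdd 0
  let g₂ : Multiplicative (ZMod p) := Multiplicative.ofAdd 1
  have hg : g₂ ≠ g₁ := by
    intro h
    have : (1 : ZMod p) = 0 := Multiplicative.ofAdd.injective h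
    exact one_ne_zero this
  let χ : MonoidAlgebra R (Multiplicative (ZMod p)) →ₐ[R] R :=
    (ConstGrp.ev R g₁).comp (e.symm : _ ≃ₐ[R] _).toAlgHom
  let χ' : MonoidAlgebra R (Multiplicative (ZMod p)) →ₐ[R] R :=
    (ConstGrp.ev R g₂).comp (e.symm : _ ≃ₐ[R] _).toAlgHom
  have h := char_sub_mem_nilradical p R χ χ' (e (ConstGrp.e R g₁))
  have h1 : χ (e (ConstGrp.e R g₁)) = 1 := by
    show ConstGrp.ev R g₁ (e.symm (e (ConstGrp.e R g₁))) = 1
    rw [e.symm_apply_apply, ConstGrp.ev_apply, ConstGrp.e_apply_self]
  have h2 : χ' (e (ConstGrp.e R g₁)) = 0 := by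
    show ConstGrp.ev R g₂ (e.symm (e (ConstGrp.e R g₁))) = 0
    rw [e.symm_apply_apply, ConstGrp.ev_apply, ConstGrp.e_apply_of_ne hg]
  rw [h1, h2, sub_zero, mem_nilradical] at h
  exact not_isNilpotent_one h

end Groth.Agent.S16072
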