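import Groth.Statements.S16073
-- import your own Groth.Agent.* helpers here
import Mathlib.RingTheory.Nilpotent.Lemmas
import Mathlib.RingTheory.Bialgebra.Equiv
import Mathlib.Algebra.CharP.Lemmas
import Mathlib.Data.ZMod.Basic
import Mathlib.Algebra.Polynomial.AlgebraMap

set_option autoImplicit false
universe u
open Hopf

namespace Groth.Agent.S16073

/-- Two characters of `R[X]/(X^p)` agree modulo the nilradical. -/
lemma char_sub_mem_nilradical (p : ℕ) (R : Type u) [CommRing R]
    (χ χ' : AlphaP.A p R →ₐ[R] R) (a : AlphaP.A p R) : χ a - χ' a ∈ nilradical R := by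
  have key : ∀ ψ : AlphaP.A p R →ₐ[R] R, ψ (AlphaP.x p R) ∈ nilradical R := by
    intro ψ
    rw [mem_nilradical]
    exact ⟨p, by rw [← map_pow, AlphaP.x_pow, map_zero]⟩
  obtain ⟨f, rfl⟩ := AlphaP.mk_surjective p R a
  rw [← AlphaP.aeval_x, ← Polynomial.aeval_algHom_apply, ← Polynomial.aeval_algHom_apply]
  have hd := Polynomial.sub_dvd_eval_sub (χ (AlphaP.x p R)) (χ' (AlphaP.x p R)) f
  obtain ⟨c, hc⟩ := hd
  rw [Polynomial.coe_aeval_eq_eval, Polynomial.coe_aeval_eq_eval, hc]
  exact (nilradical R).mul_mem_right c ((nilradical R).sub_mem (key χ) (key χ'))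

/-- Let p be a prime and R a commutative ring of characteristic p (p = 0 in R, R nonzero). Then the
constant group scheme ℤ/p and α_p over Spec R are not isomorphic: there is no R-bialgebra
isomorphism between the Hopf algebra Maps(ℤ/p, R) of functions on the cyclic group of order p and
the Hopf algebra R[X]/(X^p) of α_p (X primitive). (Any nonzero commutative base ring of
characteristic p is allowed. The published statement allows any ring R with p·R = 0; over the zero
ring both Hopf algebras are the zero ring and hence isomorphic, so R is assumed nonzero here.) -/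
theorem result (p : ℕ) [Fact p.Prime] (R : Type u) [CommRing R] [CharP R p] :
    IsEmpty (ConstGrp.F R (Multiplicative (ZMod p)) ≃ₐc[R] AlphaP.A p R) := by
  classical
  refine ⟨fun e => ?_⟩
  have hnt : Nontrivial R := CharP.nontrivial_of_char_ne_one (R := R) (Fact.out : p.Prime).ne_one
  let g₁ : Multiplicative (ZMod p) := Multiplicative.ofAdd 0
  let g₂ : Multiplicative (ZMod p) := Multiplicative.ofAdd 1
  have hg : g₂ ≠ g₁ := by
    intro h
    have : (1 : ZMod p) = 0 := Multiplicative.ofAdd.injective h
    exact one_ne_zero this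
  let χ : AlphaP.A p R →ₐ[R] R :=
    (ConstGrp.ev R g₁).comp (e.symm : _ ≃ₐ[R] _).toAlgHom
  let χ' : AlphaP.A p R →ₐ[R] R :=
    (ConstGrp.ev R g₂).comp (e.symm : _ ≃ₐ[R] _).toAlgHom
  have h := char_sub_mem_nilradical p R χ χ' (e (ConstGrp.e R g₁))
  have h1 : χ (e (ConstGrp.e R g₁)) = 1 := by
    show ConstGrp.ev R g₁ (e.symm (e (ConstGrp.e R g₁))) = 1
    rw [e.symm_apply_apply, ConstGrp.ev_apply, ConstGrp.e_apply_self]
  have h2 : χ' (e (ConstGrp.e R g₁)) = 0 := by
    show ConstGrp.ev R g₂ (e.symm (e (ConstGrp.e R g₁))) = 0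
    rw [e.symm_apply_apply, ConstGrp.ev_apply, ConstGrp.e_apply_of_ne hg]
  rw [h1, h2, sub_zero, mem_nilradical] at h
  exact not_isNilpotent_one h

end Groth.Agent.S16073
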