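import Groth.Statements.S16074
-- import your own Groth.Agent.* helpers here
import Mathlib.RingTheory.Bialgebra.MonoidAlgebra
import Mathlib.RingTheory.Bialgebra.Equiv
import Mathlib.Algebra.CharP.Lemmas
import Mathlib.Data.ZMod.Basic

set_option autoImplicit false
universe u
open Hopf

namespace Groth.Agent.S16074

open TensorProduct in
/-- Coefficient functional on the tensor square of a group algebra. -/
noncomputable def L (R : Type u) [CommRing R] (G : Type) (g h : G) :
    MonoidAlgebra R G ⊗[R] MonoidAlgebra R G →ₗ[R] R :=
  LinearMap.mul' R R ∘ₗ TensorProduct.map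
    (Finsupp.lapply g ∘ₗ (MonoidAlgebra.coeffLinearEquiv R).toLinearMap)
    (Finsupp.lapply h ∘ₗ (MonoidAlgebra.coeffLinearEquiv R).toLinearMap)

open TensorProduct in
lemma L_tmul (R : Type u) [CommRing R] (G : Type) (g h : G) (a b : MonoidAlgebra R G) :
    L R G g h (a ⊗ₜ b) = a.coeff g * b.coeff h := by
  simp [L]

lemma L_comul (R : Type u) [CommRing R] (G : Type) [Monoid G] [DecidableEq G] (g h : G)
    (y : MonoidAlgebra R G) :
    L R G g h (Coalgebra.comul (R := R) y) = if g = h then y.coeff g else 0 := by
  induction y using MonoidAlgebra.induction_on with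
  | of m =>
    rw [MonoidAlgebra.of_apply, MonoidAlgebra.comul_single, CommSemiring.comul_apply,
      TensorProduct.map_tmul, L_tmul]
    simp only [MonoidAlgebra.lsingle_apply, MonoidAlgebra.coeff_single, Finsupp.single_apply]
    by_cases h1 : m = g <;> by_cases h2 : m = h <;> by_cases h3 : g = h <;> simp_all
  | add a b ha hb =>
    rw [map_add, map_add, ha, hb, MonoidAlgebra.coeff_add, Finsupp.add_apply]
    split_ifs <;> simp
  | smul r a ha =>
    rw [map_smul, map_smul, ha, MonoidAlgebra.coeff_smul, Finsupp.smul_apply]
    split_ifs <;> simp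

open TensorProduct in
/-- Primitive elements of a group algebra vanish. -/
lemma eq_zero_of_primitive (R : Type u) [CommRing R] (G : Type) [Group G]
    (y : MonoidAlgebra R G)
    (hy : Coalgebra.comul (R := R) y = y ⊗ₜ[R] 1 + 1 ⊗ₜ[R] y) : y = 0 := by
  classical
  apply MonoidAlgebra.coeff_injective
  ext g
  have h := L_comul R G g g y
  rw [hy, map_add, L_tmul, L_tmul, if_pos rfl] at h
  have h1 : (1 : MonoidAlgebra R G).coeff g = if g = 1 then 1 else 0 := by
    rw [MonoidAlgebra.one_def, MonoidAlgebra.coeff_single, Finsupp.single_apply]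
    simp [eq_comm]
  rw [h1] at h
  rw [MonoidAlgebra.coeff_zero, Finsupp.zero_apply]
  by_cases hg : g = 1
  · rw [if_pos hg, mul_one, one_mul] at h
    have : y.coeff g + y.coeff g - y.coeff g = y.coeff g - y.coeff g := by rw [h]
    simpa using this
  · rw [if_neg hg, mul_zero, zero_mul, add_zero] at h
    exact h.symm

/-- Let p be a prime and R a commutative ring of characteristic p (p = 0 in R, R nonzero). Then μ_p and
α_p over Spec R are not isomorphic: there is no R-bialgebra isomorphism between the group algebra
R[ℤ/p] of the cyclic group of order p (group elements group-like) and the Hopf algebra R[X]/(X^p) of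
α_p (X primitive), although the underlying R-algebras R[ℤ/p] = R[Y]/(Y^p) and R[X]/(X^p) are
isomorphic. (Any nonzero commutative base ring of characteristic p is allowed. The published
statement allows any ring R with p·R = 0; over the zero ring both Hopf algebras are the zero ring
and hence isomorphic, so R is assumed nonzero here.) -/
theorem result (p : ℕ) [Fact p.Prime] (R : Type u) [CommRing R] [CharP R p] :
    IsEmpty (MonoidAlgebra R (Multiplicative (ZMod p)) ≃ₐc[R] AlphaP.A p R) := by
  classical
  refine ⟨fun e => ?_⟩
  have hnt : Nontrivial R := CharP.nontrivial_of_char_ne_one (R := R) (Fact.out : p.Prime).ne_one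
  have hprim : Coalgebra.comul (R := R) (e.symm (AlphaP.x p R)) =
      (e.symm (AlphaP.x p R)) ⊗ₜ[R] 1 + 1 ⊗ₜ[R] (e.symm (AlphaP.x p R)) := by
    rw [← CoalgHomClass.map_comp_comul_apply e.symm, AlphaP.comul_x, map_add,
      TensorProduct.map_tmul, TensorProduct.map_tmul]
    simp
  have hy := eq_zero_of_primitive R (Multiplicative (ZMod p)) _ hprim
  have hx : AlphaP.x p R = 0 := by
    have := congrArg e hy
    rwa [e.apply_symm_apply, map_zero] at this
  have hne := (AlphaP.basis p R).ne_zero ⟨1, (Fact.out : p.Prime).one_lt⟩
  rw [AlphaP.basis_apply] at hne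
  apply hne
  simp [hx]

end Groth.Agent.S16074
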