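import Groth.Statements.S16075
-- import your own Groth.Agent.* helpers here
import Mathlib.RingTheory.Bialgebra.Hom
import Mathlib.Algebra.CharP.Invertible
import Mathlib.Algebra.DualNumber
import Mathlib.Algebra.Polynomial.Taylor
import Mathlib.Algebra.Polynomial.Div
import Mathlib.Tactic.Ring

set_option autoImplicit false
universe u
open Hopf

namespace Groth.Agent.S16075

open Polynomial TensorProduct in
/-- A primitive element of `T[X]/(X^p)` in characteristic `p` is a scalar multiple of `x`. -/
lemma exists_smul_of_primitive (p : ℕ) [Fact p.Prime] (T : Type u) [CommRing T] [CharP T p]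
    (y : AlphaP.A p T)
    (hprim : Coalgebra.comul (R := T) y = y ⊗ₜ[T] 1 + 1 ⊗ₜ[T] y) :
    ∃ c : T, y = c • AlphaP.x p T := by
  classical
  have hp := (Fact.out : p.Prime)
  have hnt : Nontrivial T := CharP.nontrivial_of_char_ne_one (R := T) hp.ne_one
  obtain ⟨Q, hQ⟩ := AlphaP.mk_surjective p T y
  have hmonic : ((X : T[X]) ^ p).Monic := monic_X_pow p
  have hmk0 : AlphaP.mk p T ((X : T[X]) ^ p) = 0 := AdjoinRoot.mk_self
  set P := Q %ₘ ((X : T[X]) ^ p) with hP
  have hPy : AlphaP.mk p T P = y := by
    rw [← hQ]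
    conv_rhs => rw [← Polynomial.modByMonic_add_div Q ((X : T[X]) ^ p)]
    rw [map_add, map_mul, hmk0, zero_mul, add_zero]
  have hdeg : P.natDegree < p := by
    have hne1 : ((X : T[X]) ^ p) ≠ 1 := by
      intro h
      have := congrArg Polynomial.natDegree h
      rw [natDegree_X_pow, natDegree_one] at this
      exact hp.ne_zero this
    have := Polynomial.natDegree_modByMonic_lt Q hmonic hne1
    rwa [natDegree_X_pow] at this
  have hyP : y = aeval (AlphaP.x p T) P := by rw [AlphaP.aeval_x, hPy]
  -- the map to dual numbers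
  let ι : AlphaP.A p T →ₐ[T] DualNumber (AlphaP.A p T) := TrivSqZeroExt.inlAlgHom T _ _
  have hε : (DualNumber.eps : DualNumber (AlphaP.A p T)) ^ p = 0 :=
    pow_eq_zero_of_le hp.two_le DualNumber.eps_pow_two
  let η : AlphaP.A p T →ₐ[T] DualNumber (AlphaP.A p T) := AlphaP.lift p T DualNumber.eps hε
  let Φ : AlphaP.A p T ⊗[T] AlphaP.A p T →ₐ[T] DualNumber (AlphaP.A p T) :=
    Algebra.TensorProduct.lift ι η (fun _ _ => Commute.all _ _)
  have h1 : Φ (Coalgebra.comul (R := T) y) =
      ι y + ι (aeval (AlphaP.x p T) (derivative P)) * DualNumber.eps := by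
    have e1 : Coalgebra.comul (R := T) y = Bialgebra.comulAlgHom T (AlphaP.A p T) y := rfl
    rw [e1]
    conv_lhs => rw [hyP]
    rw [← Polynomial.aeval_algHom_apply, ← Polynomial.aeval_algHom_apply]
    have e2 : Φ (Bialgebra.comulAlgHom T (AlphaP.A p T) (AlphaP.x p T)) =
        ι (AlphaP.x p T) + DualNumber.eps := by
      show Φ (Coalgebra.comul (R := T) (AlphaP.x p T)) = _
      rw [AlphaP.comul_x, map_add]
      simp only [Φ, Algebra.TensorProduct.lift_tmul, map_one, mul_one, one_mul, η, AlphaP.lift_x]
    rw [e2, Polynomial.aeval_add_of_sq_eq_zero _ _ _ DualNumber.eps_pow_two,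
      Polynomial.aeval_algHom_apply, Polynomial.aeval_algHom_apply, ← hyP]
  have h2 : Φ (y ⊗ₜ[T] 1 + 1 ⊗ₜ[T] y) =
      ι y + (algebraMap T _ (P.coeff 0) + algebraMap T _ ((derivative P).coeff 0) *
        DualNumber.eps) := by
    rw [map_add]
    simp only [Φ, Algebra.TensorProduct.lift_tmul, map_one, mul_one, one_mul]
    congr 1
    conv_lhs => rw [hyP]
    rw [← Polynomial.aeval_algHom_apply]
    simp only [η, AlphaP.lift_x]
    have := Polynomial.aeval_add_of_sq_eq_zero P (0 : DualNumber (AlphaP.A p T)) DualNumber.eps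
      DualNumber.eps_pow_two
    rw [zero_add] at this
    rw [this, ← Polynomial.coeff_zero_eq_aeval_zero', ← Polynomial.coeff_zero_eq_aeval_zero']
  rw [hprim, h2] at h1
  have h3 := add_left_cancel h1
  -- components
  have hfst := congrArg TrivSqZeroExt.fst h3
  have hsnd := congrArg TrivSqZeroExt.snd h3
  simp only [TrivSqZeroExt.fst_add, TrivSqZeroExt.fst_mul, DualNumber.fst_eps, mul_zero, add_zero,
    TrivSqZeroExt.algebraMap_eq_inl', ι, TrivSqZeroExt.inlAlgHom_apply,
    TrivSqZeroExt.fst_inl] at hfst
  simp only [TrivSqZeroExt.snd_add, DualNumber.snd_mul, DualNumber.snd_eps, DualNumber.fst_eps,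
    mul_zero, add_zero, mul_one, TrivSqZeroExt.algebraMap_eq_inl',
    zero_add, ι, TrivSqZeroExt.inlAlgHom_apply, TrivSqZeroExt.fst_inl, TrivSqZeroExt.snd_inl,
    zero_mul] at hsnd
  -- constant coefficient vanishes
  have hc0 : P.coeff 0 = 0 := by
    apply Bialgebra.algebraMap_injective (R := T) (AlphaP.A p T)
    rw [hfst, map_zero]
  -- derivative is constant
  have hder : derivative P = C ((derivative P).coeff 0) := by
    have hz : AlphaP.mk p T (derivative P - C ((derivative P).coeff 0)) = 0 := by
      rw [map_sub, ← AlphaP.aeval_x, ← hsnd, Polynomial.C_eq_algebraMap,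
        AlgHom.commutes, sub_self]
    have hdvd : (X : T[X]) ^ p ∣ derivative P - C ((derivative P).coeff 0) :=
      AdjoinRoot.mk_eq_zero.mp hz
    by_contra hne
    have hne' : derivative P - C ((derivative P).coeff 0) ≠ 0 := fun h => hne (sub_eq_zero.mp h)
    refine hmonic.not_dvd_of_natDegree_lt hne' ?_ hdvd
    rw [natDegree_X_pow]
    calc (derivative P - C ((derivative P).coeff 0)).natDegree
        ≤ max (derivative P).natDegree (C ((derivative P).coeff 0)).natDegree :=
          natDegree_sub_le _ _
      _ ≤ P.natDegree := by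
          rw [natDegree_C, max_eq_left (Nat.zero_le _)]
          exact (natDegree_derivative_le P).trans (Nat.sub_le _ _)
      _ < p := hdeg
  have hcoeff : ∀ n : ℕ, 2 ≤ n → P.coeff n = 0 := by
    intro n hn
    obtain ⟨m, rfl⟩ : ∃ m, n = m + 1 := ⟨n - 1, by omega⟩
    by_cases hlt : m + 1 < p
    · have h0 : (derivative P).coeff m = 0 := by
        rw [hder, coeff_C, if_neg (by omega)]
      rw [coeff_derivative] at h0
      have hu : IsUnit ((m + 1 : ℕ) : T) := by
        rw [CharP.isUnit_natCast_iff hp]
        intro hd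
        exact absurd (Nat.le_of_dvd (by omega) hd) (by omega)
      have h0' : P.coeff (m + 1) * ((m + 1 : ℕ) : T) = 0 := by
        rw [← h0]; push_cast; ring
      exact (hu.mul_left_eq_zero).mp h0'
    · exact coeff_eq_zero_of_natDegree_lt (by omega)
  have hPeq : P = C (P.coeff 1) * X := by
    ext n
    rcases n with _ | _ | n
    · simp [hc0]
    · simp
    · rw [hcoeff (n + 2) (by omega), coeff_C_mul, coeff_X]
      simp
  refine ⟨P.coeff 1, ?_⟩
  rw [← hPy]
  conv_lhs => rw [hPeq]
  rw [map_mul, AlphaP.mk_X, Polynomial.C_eq_algebraMap, AlgHom.commutes, Algebra.smul_def]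

/-- Let p be a prime, T a commutative ring of characteristic p (p = 0 in T, T nonzero) and A =
T[X]/(X^p) the Hopf algebra of α_p over Spec T, with X primitive. Then the endomorphisms of the
T-group α_{p,T} are exactly the scalings: every T-bialgebra endomorphism f of A has f(X) = λ·X for a
unique λ ∈ T, and for every λ ∈ T there is a T-bialgebra endomorphism f of A with f(X) = λ·X. So the
endomorphisms of α_{p,T} correspond bijectively to the elements of T. (Only this bijection is
stated; that it turns addition and composition of endomorphisms into addition and multiplication in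
T, and its naturality in T, are not stated here. The zero ring, allowed as T in the published
statement, is excluded by the characteristic hypothesis here.) -/
theorem result (p : ℕ) [Fact p.Prime] (T : Type u) [CommRing T] [CharP T p] :
    (∀ f : AlphaP.A p T →ₐc[T] AlphaP.A p T, ∃! c : T, f (AlphaP.x p T) = c • AlphaP.x p T) ∧
      (∀ c : T, ∃ f : AlphaP.A p T →ₐc[T] AlphaP.A p T, f (AlphaP.x p T) = c • AlphaP.x p T) := by
  classical
  have hp := (Fact.out : p.Prime)
  have hnt : Nontrivial T := CharP.nontrivial_of_char_ne_one (R := T) hp.ne_one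
  constructor
  · intro f
    have hprim : Coalgebra.comul (R := T) (f (AlphaP.x p T)) =
        (f (AlphaP.x p T)) ⊗ₜ[T] 1 + 1 ⊗ₜ[T] (f (AlphaP.x p T)) := by
      rw [← CoalgHomClass.map_comp_comul_apply f, AlphaP.comul_x, map_add,
        TensorProduct.map_tmul, TensorProduct.map_tmul]
      simp
    obtain ⟨c, hc⟩ := exists_smul_of_primitive p T _ hprim
    refine ⟨c, hc, ?_⟩
    intro c' hc'
    have hx : AlphaP.x p T = AlphaP.basis p T ⟨1, hp.one_lt⟩ := by
      rw [AlphaP.basis_apply, pow_one]
    have := congrArg (fun z => (AlphaP.basis p T).repr z ⟨1, hp.one_lt⟩) (hc.symm.trans hc')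
    simp only [hx, map_smul, Module.Basis.repr_self, Finsupp.smul_apply, Finsupp.single_eq_same,
      smul_eq_mul, mul_one] at this
    exact this.symm
  · intro c
    have hc : (c • AlphaP.x p T) ^ p = 0 := by rw [smul_pow, AlphaP.x_pow, smul_zero]
    refine ⟨BialgHom.ofAlgHom (AlphaP.lift p T (c • AlphaP.x p T) hc) ?_ ?_, ?_⟩
    · apply AlphaP.algHom_ext
      rw [AlphaP.counitAlgHom_eq, AlgHom.comp_apply, AlphaP.lift_x, map_smul,
        AlphaP.counitAlg_x, smul_zero]
    · apply AlphaP.algHom_ext
      rw [AlphaP.comulAlgHom_eq, AlgHom.comp_apply, AlgHom.comp_apply, AlphaP.comulAlg_x,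
        AlphaP.lift_x, map_add, Algebra.TensorProduct.map_tmul, Algebra.TensorProduct.map_tmul,
        map_one, AlphaP.lift_x, map_smul, AlphaP.comulAlg_x, smul_add, TensorProduct.smul_tmul',
        TensorProduct.tmul_smul]
    · exact AlphaP.lift_x _ hc

end Groth.Agent.S16075
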