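import Groth.Statements.S16078
import Mathlib
import Groth.Agent.Lib.Helper12.ConnEtF

set_option autoImplicit false
universe u
open scoped TensorProduct
open Hopf

namespace Groth.Agent.S16078

/-- Let R be a henselian Noetherian local ring, A and A'' commutative Hopf algebras over R which are
finite and flat as R-modules, and A'' → A an R-algebra homomorphism compatible with
comultiplications and counits making A faithfully flat over A'' (a faithfully flat homomorphism π :
G → G'' of finite flat R-groups); let J ⊆ A be the ideal generated by the image of the augmentation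
ideal of A'' (G' = Spec A/J = ker π, so that 1 → G' → G → G'' → 1 is exact). Let e ∈ A and e'' ∈ A''
be idempotents with ε(e) = 1, ε(e'') = 1 and A/(1 − e), A''/(1 − e'') local rings (the unit
components G⁰ and G''⁰), and let e' ∈ A be an element whose image in A/J is an idempotent, with
ε(e') = 1 and A/(J + (1 − e')) local (so G'⁰ = Spec (A/J)/(1 − e') is the unit component of G').
Suppose g : A''/(1 − e'') → A/(1 − e) is the ring homomorphism induced by A'' → A (the restriction
π⁰ : G⁰ → G''⁰ of π, which exists because G⁰ is connected). Then g is faithfully flat, and e ≡ e'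
modulo J, i.e. J + (1 − e) = J + (1 − e') and the kernel of π⁰, which is cut out in G⁰ by J, is
exactly G'⁰: the sequence 1 → G'⁰ → G⁰ → G''⁰ → 1 is exact. (The published statement also asserts
exactness of the maximal étale quotient G ↦ G^ét, not stated here.) -/
theorem result (R : Type u) [CommRing R] [HenselianLocalRing R]
    [IsNoetherianRing R] (A A'' : Type u) [CommRing A] [HopfAlgebra R A] [Module.Finite R A] [Module.Flat R A]
    [CommRing A''] [HopfAlgebra R A''] [Module.Finite R A''] [Module.Flat R A'']
    [Algebra A'' A] [IsScalarTower R A'' A] [Module.FaithfullyFlat A'' A]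
    (hΔ : (Bialgebra.comulAlgHom R A).comp (IsScalarTower.toAlgHom R A'' A) =
      (Algebra.TensorProduct.map (IsScalarTower.toAlgHom R A'' A) (IsScalarTower.toAlgHom R A'' A)).comp
        (Bialgebra.comulAlgHom R A''))
    (hε : (Bialgebra.counitAlgHom R A).comp (IsScalarTower.toAlgHom R A'' A) = Bialgebra.counitAlgHom R A'')
    (e : A) (he : IsIdempotentElem e) (heε : Bialgebra.counitAlgHom R A e = 1)
    [IsLocalRing (A ⧸ Ideal.span ({1 - e} : Set A))]
    (e'' : A'') (he'' : IsIdempotentElem e'') (he''ε : Bialgebra.counitAlgHom R A'' e'' = 1)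
    [IsLocalRing (A'' ⧸ Ideal.span ({1 - e''} : Set A''))]
    (e' : A) (he' : IsIdempotentElem (Ideal.Quotient.mk ((RingHom.ker (Bialgebra.counitAlgHom R A'')).map (algebraMap A'' A)) e'))
    (he'ε : Bialgebra.counitAlgHom R A e' = 1)
    [IsLocalRing (A ⧸ (((RingHom.ker (Bialgebra.counitAlgHom R A'')).map (algebraMap A'' A)) ⊔ Ideal.span ({1 - e'} : Set A)))]
    (g : (A'' ⧸ Ideal.span ({1 - e''} : Set A'')) →+* (A ⧸ Ideal.span ({1 - e} : Set A)))
    (hg : g.comp (Ideal.Quotient.mk (Ideal.span ({1 - e''} : Set A''))) =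
      (Ideal.Quotient.mk (Ideal.span ({1 - e} : Set A))).comp (algebraMap A'' A)) :
    g.FaithfullyFlat ∧
      Ideal.Quotient.mk ((RingHom.ker (Bialgebra.counitAlgHom R A'')).map (algebraMap A'' A)) e = Ideal.Quotient.mk ((RingHom.ker (Bialgebra.counitAlgHom R A'')).map (algebraMap A'' A)) e' := by
  haveI : Module.Finite A'' A := Module.Finite.of_restrictScalars_finite R A'' A
  haveI : Module.Finite A'' (A ⧸ Ideal.span ({1 - e} : Set A)) :=
    Module.Finite.of_restrictScalars_finite R A'' _
  have hcounit : ∀ x : A'', Bialgebra.counitAlgHom R A (algebraMap A'' A x) =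
      Bialgebra.counitAlgHom R A'' x := fun x =>
    congrArg (fun f : A'' →ₐ[R] R => f x) hε
  have hJ : ∀ a ∈ (RingHom.ker (Bialgebra.counitAlgHom R A'')).map (algebraMap A'' A),
      Bialgebra.counitAlgHom R A a = 0 := by
    intro a ha
    have hle : (RingHom.ker (Bialgebra.counitAlgHom R A'')).map (algebraMap A'' A) ≤
        RingHom.ker (Bialgebra.counitAlgHom R A) := by
      rw [Ideal.map_le_iff_le_comap]
      intro x hx
      rw [Ideal.mem_comap, RingHom.mem_ker, hcounit]
      exact hx
    exact hle ha
  refine ⟨?_, ?_⟩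
  · letI : Algebra (A'' ⧸ Ideal.span ({1 - e''} : Set A'')) (A ⧸ Ideal.span ({1 - e} : Set A)) :=
      g.toAlgebra
    have hgalg : g = algebraMap (A'' ⧸ Ideal.span ({1 - e''} : Set A''))
      (A ⧸ Ideal.span ({1 - e} : Set A)) := rfl
    rw [hgalg, RingHom.faithfullyFlat_algebraMap_iff]
    haveI : IsScalarTower A'' (A'' ⧸ Ideal.span ({1 - e''} : Set A''))
        (A ⧸ Ideal.span ({1 - e} : Set A)) :=
      IsScalarTower.of_algebraMap_eq' hg.symm
    haveI : Module.Flat A'' (A ⧸ Ideal.span ({1 - e} : Set A)) :=
      Groth.Agent.Lib.Helper12.ConnEtF.flat_quotient_idempotent A'' A he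
    haveI : IsLocalization (Submonoid.powers e'') (A'' ⧸ Ideal.span ({1 - e''} : Set A'')) :=
      IsLocalization.Away.quotient_of_isIdempotentElem he''
    haveI : Module.Flat (A'' ⧸ Ideal.span ({1 - e''} : Set A''))
        (A ⧸ Ideal.span ({1 - e} : Set A)) :=
      (Module.flat_iff_of_isLocalization (A'' ⧸ Ideal.span ({1 - e''} : Set A''))
        (Submonoid.powers e'') (A ⧸ Ideal.span ({1 - e} : Set A))).mpr inferInstance
    haveI : Module.Finite (A'' ⧸ Ideal.span ({1 - e''} : Set A''))
        (A ⧸ Ideal.span ({1 - e} : Set A)) :=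
      Module.Finite.of_restrictScalars_finite A'' _ _
    haveI : IsLocalHom (algebraMap (A'' ⧸ Ideal.span ({1 - e''} : Set A''))
        (A ⧸ Ideal.span ({1 - e} : Set A))) :=
      Groth.Agent.Lib.Helper12.HensInt.isLocalHom_of_isIntegral _ _
    exact Module.FaithfullyFlat.of_flat_of_isLocalHom
  · haveI := Groth.Agent.Lib.Helper12.ConnEtF.isLocalRing_quotient_sup
      (Bialgebra.counitAlgHom R A) _ hJ e heε
    exact Groth.Agent.Lib.Helper12.ConnEtE.mk_eq_mk_of_unitIdempotents _
      (Bialgebra.counitAlgHom R A : A →+* R) hJ e e' (he.map _) he' heε he'ε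

end Groth.Agent.S16078
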