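import Groth.Statements.S16083
import Groth.Agent.Lib.Helper1.RefHull15

set_option autoImplicit false
universe u
open CategoryTheory CategoryTheory.Limits AlgebraicGeometry TopologicalSpace
open SDiv

namespace Groth.Agent.S16083

open RefHull Groth.Agent.Lib.Helper1.RefHullLib
open Groth.Agent.Lib.Helper28.QCohLoc Groth.Agent.Lib.Helper29.QCohStalk
open Groth.Agent.Lib.Helper18.InvStalk

theorem forward (X : Scheme.{u}) [IsIntegral X] [IsLocallyNoetherian X]
    (hX : Pi1.IsNormalScheme X) (F G : X.Modules) (hF : Coh.IsCoh F)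
    (T : ↑(G.presheaf.stalk (genericPoint ↥X)) →ₗ[↑(X.presheaf.stalk (genericPoint ↥X))]
      ↑(F.presheaf.stalk (genericPoint ↥X)))
    (ψ : G ⟶ RefHull.ddual F) (hψ : RefHull.stalkMapₗ ψ (genericPoint ↥X) =
        (RefHull.stalkMapₗ (RefHull.bidualMap F) (genericPoint ↥X)).comp T)
    (x : X) (hx : ringKrullDim ↑(X.presheaf.stalk x) = 1) (h : genericPoint ↥X ⤳ x)
    (v₀ : G.presheaf.stalk x) :
    ∃ f : F.presheaf.stalk x, F.presheaf.stalkSpecializes h f = T (G.presheaf.stalkSpecializes h v₀) := by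
  haveI := (hX x).2
  haveI : IsPrincipalIdealRing (X.presheaf.stalk x) :=
    Groth.Agent.S7862.pid_of_dim_lt_two (X.presheaf.stalk x) (by rw [hx]; decide)
  obtain ⟨f, hf⟩ := surjective_stalkMapₗ_bidualMap_of_pid F hF x (stalkMapₗ ψ x v₀)
  refine ⟨f, (bijective_stalkMapₗ_bidualMap_generic F hF).1 ?_⟩
  rw [stalkMapₗ_stalkSpecializes (bidualMap F) h f, hf, ← stalkMapₗ_stalkSpecializes ψ h v₀, hψ]
  rfl

/-- the local extension at a point of codimension at most one. -/
theorem exists_local_section (X : Scheme.{u}) [IsIntegral X] [IsLocallyNoetherian X]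
    (hX : Pi1.IsNormalScheme X) (F G : X.Modules) (hF : Coh.IsCoh F) (hG : Coh.IsCoh G)
    (T : ↑(G.presheaf.stalk (genericPoint ↥X)) →ₗ[↑(X.presheaf.stalk (genericPoint ↥X))]
      ↑(F.presheaf.stalk (genericPoint ↥X)))
    (hT : ∀ x : ↥X, ringKrullDim ↑(X.presheaf.stalk x) = 1 →
        Set.MapsTo ⇑T
          (Set.range ⇑(G.presheaf.stalkSpecializes ((genericPoint_spec ↥X).specializes (Set.mem_univ x))).hom)
          (Set.range ⇑(F.presheaf.stalkSpecializes ((genericPoint_spec ↥X).specializes (Set.mem_univ x))).hom))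
    (x : X) (hx2 : ¬ (2 : WithBot ℕ∞) ≤ ringKrullDim (X.presheaf.stalk x)) :
    ∃ (U : X.Opens) (hηU : genericPoint ↥X ∈ U) (g : Γ(homSh G (ddual F), U)), x ∈ U ∧
      g.1 ⟨genericPoint ↥X, hηU⟩ = (stalkMapₗ (bidualMap F) (genericPoint ↥X)).comp T := by
  classical
  have hsp : genericPoint ↥X ⤳ x := (genericPoint_spec ↥X).specializes (Set.mem_univ x)
  have hdF : Coh.IsCoh (dual F) := isCoh_dual F hF
  have hdd : Coh.IsCoh (ddual F) := isCoh_dual _ hdF
  have hddr : IsReflexive (ddual F) := isReflexive_dual _ hdF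
  have hddtf : TorSh.IsTorsionFree (ddual F) := isTorsionFree_of_isReflexive _ hdd hddr
  haveI : (ddual F).IsQuasicoherent := hdd.1
  haveI : G.IsQuasicoherent := hG.1
  have hinj := injective_stalkSpecializes_of_isTorsionFree (ddual F) hddtf x hsp
  have hGFP : CohB1.IsFP G := Groth.Agent.S16240.isFinitePresentation_of_isCoh G hG
  -- values of the local stalk map
  have hval : ∀ v : G.presheaf.stalk x, ∃ w : (ddual F).presheaf.stalk x,
      (ddual F).presheaf.stalkSpecializes hsp w =
        stalkMapₗ (bidualMap F) (genericPoint ↥X) (T (G.presheaf.stalkSpecializes hsp v)) := by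
    intro v
    by_cases hd : ringKrullDim (X.presheaf.stalk x) = 1
    · obtain ⟨f, hf⟩ := hT x hd ⟨v, rfl⟩
      refine ⟨stalkMapₗ (bidualMap F) x f, ?_⟩
      rw [← stalkMapₗ_stalkSpecializes (bidualMap F) hsp f]
      congr 1
    · have hdim := ringKrullDim_stalk_eq_coheight x
      have hc0 : Order.coheight x = 0 := by
        rw [hdim] at hx2 hd
        have h1 : ¬ (2 : ℕ∞) ≤ Order.coheight x := fun h => hx2 (WithBot.coe_le_coe.2 h)
        have h2 : Order.coheight x < 2 := not_le.1 h1
        have h3 : Order.coheight x ≤ 1 := by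
          have : (2 : ℕ∞) = 1 + 1 := by norm_num
          rw [this] at h2
          exact Order.le_of_lt_add_one h2
        rcases lt_or_eq_of_le h3 with h4 | h4
        · exact Order.lt_one_iff.1 h4
        · exact absurd (by rw [h4]; rfl) hd
      have hmax : IsMax x := Order.coheight_eq_zero.1 hc0
      have h2 : x ⤳ genericPoint ↥X := hmax (show x ≤ genericPoint ↥X from hsp)
      obtain rfl : x = genericPoint ↥X := (h2.antisymm hsp).eq
      refine ⟨stalkMapₗ (bidualMap F) (genericPoint ↥X) (T v), ?_⟩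
      rw [TopCat.Presheaf.stalkSpecializes_refl, TopCat.Presheaf.stalkSpecializes_refl]
      rfl
  choose φ hφ using hval
  let φl : StalkHom G (ddual F) x :=
    { toFun := φ
      map_add' := fun v v' => by
        apply hinj
        rw [hφ, map_add, map_add, map_add, map_add, hφ, hφ]
      map_smul' := fun a v => by
        apply hinj
        rw [hφ, RingHom.id_apply, stalkSpecializes_smul, stalkSpecializes_smul, map_smul, map_smul, hφ] }
  obtain ⟨θ, hθ⟩ := (Groth.Agent.S16485.result X G (ddual F) hGFP x).2 φl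
  obtain ⟨U, hxU, g, rfl⟩ := TopCat.Presheaf.exists_germ_eq (homSh G (ddual F)).presheaf θ
  rw [evalStalk_germ] at hθ
  have hηU : genericPoint ↥X ∈ U := hsp.mem_open U.isOpen hxU
  refine ⟨U, hηU, g, hxU, LinearMap.ext fun μ => ?_⟩
  obtain ⟨c, v, rfl⟩ := exists_smul_stalkSpecializes G x hsp μ
  rw [map_smul, map_smul, family_stalkSpecializes g hsp hxU v, hθ]
  congr 1
  exact hφ v

/-- Suppose X is a normal scheme that is integral and locally Noetherian, write η for its generic point,
let F and G be coherent O_X-modules, and let T : G_η → F_η be an O_{X,η}-linear map of generic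
stalks. Then T extends to a morphism G ⟶ F^** — there is a morphism ψ whose stalk map at η is T
followed by the stalk map at η of the canonical map F ⟶ F^** — if and only if for every point x with
dim O_{X,x} = 1 the map T sends the image of G_x in G_η into the image of F_x in F_η. -/
theorem result (X : Scheme.{u}) [IsIntegral X] [IsLocallyNoetherian X]
    (hX : Pi1.IsNormalScheme X) (F G : X.Modules) (hF : Coh.IsCoh F) (hG : Coh.IsCoh G)
    (T : ↑(G.presheaf.stalk (genericPoint ↥X)) →ₗ[↑(X.presheaf.stalk (genericPoint ↥X))]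
      ↑(F.presheaf.stalk (genericPoint ↥X))) :
    (∃ ψ : G ⟶ RefHull.ddual F, RefHull.stalkMapₗ ψ (genericPoint ↥X) =
        (RefHull.stalkMapₗ (RefHull.bidualMap F) (genericPoint ↥X)).comp T) ↔
      ∀ x : ↥X, ringKrullDim ↑(X.presheaf.stalk x) = 1 →
        Set.MapsTo ⇑T
          (Set.range ⇑(G.presheaf.stalkSpecializes ((genericPoint_spec ↥X).specializes (Set.mem_univ x))).hom)
          (Set.range ⇑(F.presheaf.stalkSpecializes ((genericPoint_spec ↥X).specializes (Set.mem_univ x))).hom) := by
  constructor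
  · rintro ⟨ψ, hψ⟩ x hx _ ⟨v₀, rfl⟩
    obtain ⟨f, hf⟩ := forward X hX F G hF T ψ hψ x hx
      ((genericPoint_spec ↥X).specializes (Set.mem_univ x)) v₀
    exact ⟨f, hf⟩
  · intro hT
    have hdF : Coh.IsCoh (dual F) := isCoh_dual F hF
    have hdd : Coh.IsCoh (ddual F) := isCoh_dual _ hdF
    have hddr : IsReflexive (ddual F) := isReflexive_dual _ hdF
    have hH : Coh.IsCoh (homSh G (ddual F)) := isCoh_homSh G (ddual F) hG hdd
    have hHr : IsReflexive (homSh G (ddual F)) := Groth.Agent.S16081.result X G (ddual F) hG hdd hddr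
    have hHtf : TorSh.IsTorsionFree (homSh G (ddual F)) := isTorsionFree_of_isReflexive _ hH hHr
    haveI : (homSh G (ddual F)).IsQuasicoherent := hH.1
    have hGFP : CohB1.IsFP G := Groth.Agent.S16240.isFinitePresentation_of_isCoh G hG
    have hloc := exists_local_section X hX F G hF hG T hT
    choose U hηU g hxU hg using hloc
    -- the index type: points of codimension at most one
    let ι := {x : X // ¬ (2 : WithBot ℕ∞) ≤ ringKrullDim (X.presheaf.stalk x)}
    let V : X.Opens := ⨆ i : ι, U i.1 i.2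
    have hUV : ∀ i : ι, U i.1 i.2 ≤ V := fun i => le_iSup (fun i : ι => U i.1 i.2) i
    -- compatibility on overlaps
    have hcompat : ∀ i j : ι,
        res (homSh G (ddual F)) (inf_le_left : U i.1 i.2 ⊓ U j.1 j.2 ≤ U i.1 i.2) (g i.1 i.2) =
        res (homSh G (ddual F)) (inf_le_right : U i.1 i.2 ⊓ U j.1 j.2 ≤ U j.1 j.2) (g j.1 j.2) := by
      intro i j
      have hηW : genericPoint ↥X ∈ U i.1 i.2 ⊓ U j.1 j.2 := ⟨hηU i.1 i.2, hηU j.1 j.2⟩
      have hgerm : (homSh G (ddual F)).presheaf.germ _ (genericPoint ↥X) hηW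
          (res (homSh G (ddual F)) inf_le_left (g i.1 i.2)) =
          (homSh G (ddual F)).presheaf.germ _ (genericPoint ↥X) hηW
          (res (homSh G (ddual F)) inf_le_right (g j.1 j.2)) := by
        apply (Groth.Agent.S16485.result X G (ddual F) hGFP (genericPoint ↥X)).1
        rw [evalStalk_germ, evalStalk_germ]
        exact (hg i.1 i.2).trans (hg j.1 j.2).symm
      obtain ⟨W', hηW', j₁, j₂, hres⟩ := TopCat.Presheaf.germ_eq (homSh G (ddual F)).presheaf
        (genericPoint ↥X) hηW hηW _ _ hgerm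
      exact Groth.Agent.S16490.injective_res_of_isTorsionFree X _ hHtf _ W' j₁.le hηW' hres
    obtain ⟨gV, hgV⟩ := exists_gluing (homSh G (ddual F)) (fun i : ι => U i.1 i.2) V hUV le_rfl
      (fun i => g i.1 i.2) hcompat
    -- extension over codimension two
    have hcd : CodimTwo ⊤ V := by
      intro y _ hyV
      by_contra hy2
      exact hyV (hUV ⟨y, hy2⟩ (hxU y hy2))
    have hnorm := isNormalMod_of_isReflexive_of_normal hX _ hH hHr ⊤ V le_top hcd
    obtain ⟨g₀, hg₀⟩ := hnorm.2 gV
    have hη2 : ¬ (2 : WithBot ℕ∞) ≤ ringKrullDim (X.presheaf.stalk (genericPoint ↥X)) := by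
      rw [ringKrullDim_eq_zero_of_field X.functionField]
      decide
    refine ⟨globHom g₀, ?_⟩
    rw [stalkMapₗ_globHom, ← hg (genericPoint ↥X) hη2, ← hgV ⟨genericPoint ↥X, hη2⟩, ← hg₀]
    rfl

end Groth.Agent.S16083
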