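import Groth.Statements.S16084
import Groth.Agent.Lib.Helper1.RefHull8
import Groth.Agent.Lib.Helper28.TwistGen

set_option autoImplicit false
universe u
open CategoryTheory CategoryTheory.Limits AlgebraicGeometry TopologicalSpace
open SDiv

namespace Groth.Agent.S16084

open Opposite RefHull
open Groth.Agent.Lib.Helper1.RefHullLib Groth.Agent.Lib.Helper28.QCohLoc
  Groth.Agent.Lib.Helper29.QCohStalk Groth.Agent.Lib.Helper28.GenLocus
  Groth.Agent.Lib.Helper28 Groth.Agent.Lib.Helper18

/-- in a Noetherian quasi-sober space, a point of a closed set `Z` to which no other point of `Z`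
specialises has a neighbourhood in which `Z` is contained in its closure. -/
theorem exists_nhd_subset_closure {α : Type*} [TopologicalSpace α] [NoetherianSpace α] [QuasiSober α]
    (Z : Set α) (hZ : IsClosed Z) (z : α) (hmax : ∀ y ∈ Z, y ⤳ z → y = z) :
    ∃ V : Set α, IsOpen V ∧ z ∈ V ∧ ∀ y ∈ V, y ∈ Z → z ⤳ y := by
  obtain ⟨S, hSf, hSc, hSi, hSU⟩ := NoetherianSpace.exists_finite_set_isClosed_irreducible hZ
  refine ⟨(⋃₀ {t ∈ S | z ∉ t})ᶜ, ?_, ?_, ?_⟩
  · rw [isOpen_compl_iff, Set.sUnion_eq_biUnion]
    exact (hSf.subset (Set.sep_subset _ _)).isClosed_biUnion fun t ht => hSc t ht.1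
  · rintro ⟨t, ht, hzt⟩
    exact ht.2 hzt
  · intro y hyV hyZ
    rw [hSU] at hyZ
    obtain ⟨t, htS, hyt⟩ := hyZ
    have hzt : z ∈ t := by
      by_contra hzt
      exact hyV ⟨t, ⟨htS, hzt⟩, hyt⟩
    obtain ⟨η, hη⟩ := QuasiSober.sober (hSi t htS) (hSc t htS)
    have hηZ : η ∈ Z := by rw [hSU]; exact ⟨t, htS, hη.mem⟩
    have h2 : η = z := hmax η hηZ (hη.specializes hzt)
    rw [← h2]
    exact hη.specializes hyt

variable {X : Scheme.{u}}

/-- the same on a locally Noetherian scheme. -/
theorem exists_opens_subset_closure [IsLocallyNoetherian X] (Z : Set X) (hZ : IsClosed Z) (z : X)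
    (hmax : ∀ y ∈ Z, y ⤳ z → y = z) : ∃ V : X.Opens, z ∈ V ∧ ∀ y ∈ V, y ∈ Z → z ⤳ y := by
  obtain ⟨V, hV, hzV, -⟩ := (Opens.isBasis_iff_nbhd.1 X.isBasis_affineOpens)
    (show z ∈ (⊤ : X.Opens) from trivial)
  have hV : IsAffineOpen V := hV
  haveI : IsNoetherianRing Γ(X, V) := IsLocallyNoetherian.component_noetherian ⟨V, hV⟩
  have hN : NoetherianSpace V := noetherianSpace_of_isAffineOpen V hV
  obtain ⟨V', hV'o, hzV', hV'⟩ := @exists_nhd_subset_closure V _ hN inferInstance
    (Subtype.val ⁻¹' Z) (hZ.preimage continuous_subtype_val) ⟨z, hzV⟩ (by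
      intro y hyZ hyz
      exact Subtype.ext (hmax y.1 hyZ ((subtype_specializes_iff _ _).1 hyz)))
  refine ⟨⟨Subtype.val '' V', V.isOpen.isOpenMap_subtype_val _ hV'o⟩, ⟨⟨z, hzV⟩, hzV', rfl⟩, ?_⟩
  rintro y ⟨y', hy', rfl⟩ hyZ
  exact (subtype_specializes_iff _ _).1 (hV' y' hy' hyZ)

/-- the stalk map of the morphism `O → F` defined by a global section. -/
theorem stalkMapₗ_ofSection (F : X.Modules) (s : Γ(F, ⊤)) (y : X) (a : X.presheaf.stalk y) :
    stalkMapₗ (TwistGen.ofSection F s) y (CycUnitStalk.e X y a) =
      a • F.presheaf.germ ⊤ y trivial s := by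
  show stalkMapₗ (TwistGen.ofSection F s) y (a • CycUnitStalk.one X y) = _
  rw [map_smul]
  congr 1
  unfold CycUnitStalk.one CycUnitStalk.gF
  rw [stalkMapₗ_germ]
  congr 1
  have h := TwistGen.ofSection_app_one F s ⊤
  rw [res_self] at h
  exact h

theorem bijective_stalkMapₗ_ofSection_iff (F : X.Modules) (s : Γ(F, ⊤)) (y : X) :
    Function.Bijective (stalkMapₗ (TwistGen.ofSection F s) y) ↔
      Function.Bijective fun a : X.presheaf.stalk y => a • F.presheaf.germ ⊤ y trivial s := by
  have h : (fun a : X.presheaf.stalk y => a • F.presheaf.germ ⊤ y trivial s) =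
      stalkMapₗ (TwistGen.ofSection F s) y ∘ CycUnitStalk.e X y :=
    funext fun a => (stalkMapₗ_ofSection F s y a).symm
  rw [h]
  exact (Function.Bijective.of_comp_iff _ (CycUnitStalk.e X y).bijective).symm

/-- Let X be an integral locally Noetherian normal scheme, F a rank one coherent reflexive O_X-module
and s a nonzero global section of F. Let Z be the set of points x at which multiplication by the
germ of s, O_{X,x} → F_x, fails to be bijective (the complement of the open where s generates F).
Then every irreducible component of Z has codimension 1 in X: at each point z of Z to which no other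
point of Z specializes, the local ring O_{X,z} has dimension 1. -/
theorem result (X : Scheme.{u}) [IsIntegral X] [IsLocallyNoetherian X]
    (hX : Pi1.IsNormalScheme X) (F : X.Modules) (hF : RefHull.IsRef1 F) (s : Γ(F, ⊤)) (hs : s ≠ 0) (z : ↥X)
    (hz : ¬ Function.Bijective fun a : ↑(X.presheaf.stalk z) => a • F.presheaf.germ ⊤ z trivial s)
    (hmax : ∀ y : ↥X, ¬ Function.Bijective (fun a : ↑(X.presheaf.stalk y) => a • F.presheaf.germ ⊤ y trivial s) →
      y ⤳ z → y = z) :
    ringKrullDim ↑(X.presheaf.stalk z) = 1 := by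
  obtain ⟨hFc, hFr, hFg⟩ := hF
  haveI : F.IsQuasicoherent := hFc.1
  have hB := bijective_stalkMapₗ_ofSection_iff F s
  have htf : TorSh.IsTorsionFree F := isTorsionFree_of_isReflexive F hFc hFr
  -- the generic point
  obtain ⟨W, g, hηW, hg⟩ := exists_isGen_generic F hFg
  have hBη : Function.Bijective fun a : X.presheaf.stalk (genericPoint X) =>
      a • F.presheaf.germ ⊤ (genericPoint X) trivial s := by
    obtain ⟨c, hc⟩ := (hg W le_rfl).2 (res F le_top s)
    have hc' : (c • g : Γ(F, W)) = res F le_top s := by
      rw [res_self] at hc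
      exact hc
    have hc0 : c ≠ 0 := by
      rintro rfl
      rw [zero_smul] at hc'
      exact hs (Groth.Agent.S16490.injective_res_of_isTorsionFree X F htf ⊤ W le_top hηW
        (hc'.symm.trans (map_zero _).symm))
    have hcη : X.presheaf.germ W (genericPoint X) hηW c ≠ 0 := fun h =>
      hc0 (germ_injective_of_isIntegral X (genericPoint X) hηW (h.trans (map_zero _).symm))
    have hs' : F.presheaf.germ ⊤ (genericPoint X) trivial s =
        X.presheaf.germ W (genericPoint X) hηW c • gm F W (genericPoint X) hηW g := by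
      have h1 := congrArg (gm F W (genericPoint X) hηW) hc'
      rw [gm_smul, gm_res] at h1
      exact h1.symm
    have hfun : (fun a : X.presheaf.stalk (genericPoint X) =>
        a • F.presheaf.germ ⊤ (genericPoint X) trivial s) =
        (fun a : X.presheaf.stalk (genericPoint X) => a • gm F W (genericPoint X) hηW g) ∘
          (fun a => a * X.presheaf.germ W (genericPoint X) hηW c) := by
      funext a
      simp only [Function.comp_apply]
      rw [hs', mul_smul]
    rw [hfun]
    exact (bijective_smul_gm_of_isGen hg (genericPoint X) hηW).comp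
      (mulRight_bijective₀ (G₀ := X.functionField) _ hcη)
  have hzη : z ≠ genericPoint X := fun h => hz (h ▸ hBη)
  have hdim := ringKrullDim_stalk_eq_coheight z
  -- not of dimension zero
  have hc0 : Order.coheight z ≠ 0 := by
    intro h0
    have hmaxz : IsMax z := Order.coheight_eq_zero.1 h0
    have h1 : genericPoint X ⤳ z := genericPoint_specializes z
    have h2 : z ⤳ genericPoint X := hmaxz (show z ≤ genericPoint X from h1)
    exact hzη (h2.antisymm h1).eq
  -- not of dimension at least two
  have hc2 : ¬ (2 : ℕ∞) ≤ Order.coheight z := by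
    intro h2
    let Z : Set X := {y | ¬ Function.Bijective (stalkMapₗ (TwistGen.ofSection F s) y)}
    have hZ : IsClosed Z := by
      rw [← isOpen_compl_iff, isOpen_iff_forall_mem_open]
      intro y hy
      have hy' : Function.Bijective (stalkMapₗ (TwistGen.ofSection F s) y) := not_not.1 hy
      obtain ⟨W', hyW', hW'⟩ := exists_nhd_bijective_stalkMapₗ (isCoh_structureModule X).2
        (Groth.Agent.S16240.isFinitePresentation_of_isCoh F hFc) (TwistGen.ofSection F s) y hy'
      exact ⟨W', fun w hw => not_not.2 (hW' w hw), W'.isOpen, hyW'⟩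
    obtain ⟨V', hzV', hV'⟩ := exists_opens_subset_closure Z hZ z
      (fun y hy hyz => hmax y ((hB y).not.1 hy) hyz)
    let V'' : X.Opens := V' ⊓ ⟨Zᶜ, hZ.isOpen_compl⟩
    have hcd : CodimTwo V' V'' := by
      intro y hyV' hyV''
      have hyZ : y ∈ Z := by
        by_contra h
        exact hyV'' ⟨hyV', h⟩
      have hzy : z ⤳ y := hV' y hyV' hyZ
      rw [ringKrullDim_stalk_eq_coheight]
      have h3 : Order.coheight z ≤ Order.coheight y := Order.coheight_anti (show y ≤ z from hzy)
      exact WithBot.coe_le_coe.2 (h2.trans h3)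
    have hgen : IsGen F V' (res F le_top s) := by
      intro T hT
      have hcdT : CodimTwo T (T ⊓ V'') := hcd.mono hT
      have hO := isNormalMod_structureModule_of_normal hX T (T ⊓ V'') inf_le_left hcdT
      have hFn := isNormalMod_of_isReflexive_of_normal hX F hFc hFr T (T ⊓ V'') inf_le_left hcdT
      have hφ' : Function.Bijective ((TwistGen.ofSection F s).app (T ⊓ V'')) :=
        bijective_app_of_stalkMapₗ (TwistGen.ofSection F s) _ fun w hw => not_not.1 hw.2.2
      have hsq : (res F (inf_le_left : T ⊓ V'' ≤ T)) ∘ (TwistGen.ofSection F s).app T =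
          (TwistGen.ofSection F s).app (T ⊓ V'') ∘
            (res (Coh.structureModule X) (inf_le_left : T ⊓ V'' ≤ T)) :=
        funext fun c => (app_res (TwistGen.ofSection F s) inf_le_left c).symm
      have h3 : Function.Bijective ((res F (inf_le_left : T ⊓ V'' ≤ T)) ∘
          (TwistGen.ofSection F s).app T) := by
        rw [hsq]
        exact hφ'.comp hO
      have hφT : Function.Bijective ((TwistGen.ofSection F s).app T) :=
        (Function.Bijective.of_comp_iff' hFn _).1 h3
      have hfun : (fun c : Γ(X, T) => (c • res F hT (res F le_top s) : Γ(F, T))) =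
          fun c => (TwistGen.ofSection F s).app T c := by
        funext c
        rw [res_res]
        exact (TwistGen.ofSection_app F s T c).symm
      rw [hfun]
      exact hφT
    apply hz
    have h4 := bijective_smul_gm_of_isGen hgen z hzV'
    have h5 : gm F V' z hzV' (res F le_top s) = F.presheaf.germ ⊤ z trivial s := gm_res F le_top z hzV' s
    rw [h5] at h4
    exact h4
  -- hence of dimension one
  rw [hdim]
  have h1 : Order.coheight z = 1 := by
    apply le_antisymm
    · have h3 := not_le.1 hc2
      have h4 : (2 : ℕ∞) = 1 + 1 := by norm_num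
      rw [h4] at h3
      exact Order.le_of_lt_add_one h3
    · exact Order.one_le_iff_ne_zero.2 hc0
  rw [h1]
  rfl

end Groth.Agent.S16084
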