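import Groth.Statements.S16085
import Groth.Agent.Lib.Helper1.RefHull13

set_option autoImplicit false
universe u
open CategoryTheory CategoryTheory.Limits AlgebraicGeometry TopologicalSpace
open SDiv

namespace Groth.Agent.S16085

open RefHull Groth.Agent.Lib.Helper1.RefHullLib

theorem nonempty_iso_of_eqvGen {X : Scheme.{u}} (F G : X.Modules)
    (h : Relation.EqvGen (fun L L' : X.Modules => Nonempty (L ≅ L')) F G) : Nonempty (F ≅ G) := by
  induction h with
  | rel _ _ h => exact h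
  | refl _ => exact ⟨Iso.refl _⟩
  | symm _ _ _ ih => exact ⟨ih.some.symm⟩
  | trans _ _ _ _ _ ih1 ih2 => exact ⟨ih1.some ≪≫ ih2.some⟩

theorem cl_eq_iff {X : Scheme.{u}} (F G : X.Modules) : PicF.cl F = PicF.cl G ↔ Nonempty (F ≅ G) := by
  constructor
  · intro h
    exact nonempty_iso_of_eqvGen F G (Quot.eqvGen_exact h)
  · intro h
    exact Quot.sound h

/-- Let X be an integral locally Noetherian normal scheme. Sending (F, G) to the reflexive hull (F
⊗_{O_X} G)^** makes the isomorphism classes of rank one coherent reflexive O_X-modules into an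
abelian group: on that set there are a commutative and associative composition law, a neutral
element and inverses, such that the product of the classes of F and G is the class of the reflexive
hull of F ⊗_{O_X} G, the neutral element is the class of O_X, and the inverse of the class of F is
the class of its dual 𝓗om_{O_X}(F, O_X). -/
theorem result (X : Scheme.{u}) [IsIntegral X] [IsLocallyNoetherian X] (hX : Pi1.IsNormalScheme X) :
    ∃ (mul : {c : PicF.Cl X // ∃ F : X.Modules, PicF.cl F = c ∧ RefHull.IsRef1 F} →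
          {c : PicF.Cl X // ∃ F : X.Modules, PicF.cl F = c ∧ RefHull.IsRef1 F} →
            {c : PicF.Cl X // ∃ F : X.Modules, PicF.cl F = c ∧ RefHull.IsRef1 F})
      (one : {c : PicF.Cl X // ∃ F : X.Modules, PicF.cl F = c ∧ RefHull.IsRef1 F})
      (inv : {c : PicF.Cl X // ∃ F : X.Modules, PicF.cl F = c ∧ RefHull.IsRef1 F} →
          {c : PicF.Cl X // ∃ F : X.Modules, PicF.cl F = c ∧ RefHull.IsRef1 F}),
      (∀ a b, mul a b = mul b a) ∧ (∀ a b c, mul (mul a b) c = mul a (mul b c)) ∧ (∀ a, mul one a = a) ∧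
        (∀ a, mul (inv a) a = one) ∧
        (∀ (F G : X.Modules) (hF : RefHull.IsRef1 F) (hG : RefHull.IsRef1 G),
          (mul ⟨PicF.cl F, F, rfl, hF⟩ ⟨PicF.cl G, G, rfl, hG⟩).1 = PicF.cl (RefHull.ddual (CohB1.tensorMod F G))) ∧
        one.1 = PicF.cl (Coh.structureModule X) ∧
        (∀ (F : X.Modules) (hF : RefHull.IsRef1 F), (inv ⟨PicF.cl F, F, rfl, hF⟩).1 = PicF.cl (RefHull.dual F)) := by
  classical
  let T := {c : PicF.Cl X // ∃ F : X.Modules, PicF.cl F = c ∧ RefHull.IsRef1 F}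
  let rep : T → X.Modules := fun a => a.2.choose
  have hrep : ∀ a : T, PicF.cl (rep a) = a.1 ∧ IsRef1 (rep a) := fun a => a.2.choose_spec
  let mk : (F : X.Modules) → IsRef1 F → T := fun F hF => ⟨PicF.cl F, F, rfl, hF⟩
  have hmk : ∀ F hF, Nonempty (rep (mk F hF) ≅ F) := fun F hF =>
    (cl_eq_iff _ _).1 (hrep (mk F hF)).1
  have hmkeq : ∀ F F' hF hF', Nonempty (F ≅ F') → mk F hF = mk F' hF' := fun F F' hF hF' h =>
    Subtype.ext ((cl_eq_iff F F').2 h)
  have hT : ∀ a b : T, IsRef1 (ddual (CohB1.tensorMod (rep a) (rep b))) := fun a b =>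
    isRef1_ddual_tensorMod _ _ (hrep a).2 (hrep b).2
  refine ⟨fun a b => mk (ddual (CohB1.tensorMod (rep a) (rep b))) (hT a b),
    mk (Coh.structureModule X) isRef1_structureModule,
    fun a => mk (dual (rep a)) (isRef1_dual _ (hrep a).2), ?_, ?_, ?_, ?_, ?_, rfl, ?_⟩
  · intro a b
    exact hmkeq _ _ (hT a b) (hT b a) (nonempty_ddual_tensor_comm_iso hX _ _ (hrep a).2 (hrep b).2)
  · intro a b c
    refine hmkeq _ _ (hT _ _) (hT _ _) ?_
    obtain ⟨e1⟩ := hmk _ (hT a b)
    obtain ⟨e2⟩ := hmk _ (hT b c)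
    obtain ⟨i1⟩ := nonempty_ddual_tensor_congr_iso hX (hrep (mk _ (hT a b))).2 (hrep c).2 (hT a b)
      (hrep c).2 e1 (Iso.refl _)
    obtain ⟨i2⟩ := nonempty_ddual_tensor_assoc_iso hX _ _ _ (hrep a).2 (hrep b).2 (hrep c).2
    obtain ⟨i3⟩ := nonempty_ddual_tensor_congr_iso hX (hrep a).2 (hT b c) (hrep a).2
      (hrep (mk _ (hT b c))).2 (Iso.refl _) e2.symm
    exact ⟨i1 ≪≫ i2 ≪≫ i3⟩
  · intro a
    apply Subtype.ext
    show PicF.cl _ = a.1
    rw [← (hrep a).1]
    apply (cl_eq_iff _ _).2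
    obtain ⟨e1⟩ := hmk _ (isRef1_structureModule (X := X))
    obtain ⟨i1⟩ := nonempty_ddual_tensor_congr_iso hX
      (hrep (mk _ (isRef1_structureModule (X := X)))).2 (hrep a).2 isRef1_structureModule (hrep a).2
      e1 (Iso.refl _)
    obtain ⟨i2⟩ := nonempty_ddual_unit_tensor_iso hX _ (hrep a).2
    exact ⟨i1 ≪≫ i2⟩
  · intro a
    refine hmkeq _ _ (hT _ _) isRef1_structureModule ?_
    have hd := isRef1_dual _ (hrep a).2
    obtain ⟨e1⟩ := hmk _ hd
    obtain ⟨i1⟩ := nonempty_ddual_tensor_congr_iso hX (hrep (mk _ hd)).2 (hrep a).2 hd (hrep a).2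
      e1 (Iso.refl _)
    obtain ⟨i2⟩ := nonempty_ddual_dual_tensor_iso hX _ (hrep a).2
    exact ⟨i1 ≪≫ i2⟩
  · intro F G hF hG
    apply (cl_eq_iff _ _).2
    obtain ⟨e1⟩ := hmk F hF
    obtain ⟨e2⟩ := hmk G hG
    exact nonempty_ddual_tensor_congr_iso hX (hrep (mk F hF)).2 (hrep (mk G hG)).2 hF hG e1 e2
  · intro F hF
    apply (cl_eq_iff _ _).2
    obtain ⟨e1⟩ := hmk F hF
    exact nonempty_dual_congr_iso hX (hrep (mk F hF)).2 hF e1

end Groth.Agent.S16085
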