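import Groth.Statements.S8914
import Groth.Agent.Lib.Helper17.CohKer
import Groth.Agent.Lib.Helper28.GenLocus
import Groth.Agent.Lib.Helper28.InvGen
import Mathlib
set_option backward.isDefEq.respectTransparency.types false

set_option autoImplicit false
universe u
open CategoryTheory CategoryTheory.Limits AlgebraicGeometry TopologicalSpace
open SDiv

namespace Groth.Agent.S8914
open Opposite
open Groth.Agent.Lib.Helper28 Groth.Agent.Lib.Helper28.QCohLoc Groth.Agent.Lib.Helper28.GenLocus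
open Groth.Agent.Lib.Helper17.CohKer

variable {S : Scheme.{u}} (𝓘 : S.IdealSheafData)

theorem ι_app_injective (U : S.Opens) : Function.Injective ((ClSub.idealModι 𝓘).app U) :=
  kernel_ι_app_injective (ClSub.toSubscheme 𝓘) U

/-- sections of the ideal sheaf: the functions vanishing on the closed subscheme -/
theorem exists_ι_app_eq_iff (U : S.Opens) (y : Γ(S, U)) :
    (∃ k : Γ(ClSub.idealMod 𝓘, U), (ClSub.idealModι 𝓘).app U k = y) ↔ (𝓘.subschemeι.app U).hom y = 0 := by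
  constructor
  · rintro ⟨k, rfl⟩
    exact app_kernel_ι_app (ClSub.toSubscheme 𝓘) U k
  · intro hy
    exact exists_kernel_app_eq (ClSub.toSubscheme 𝓘) U y hy

theorem exists_ι_app_eq_iff_mem (U : S.affineOpens) (y : Γ(S, U.1)) :
    (∃ k : Γ(ClSub.idealMod 𝓘, U.1), (ClSub.idealModι 𝓘).app U.1 k = y) ↔ y ∈ 𝓘.ideal U := by
  rw [exists_ι_app_eq_iff, ← 𝓘.ker_subschemeι_app U, RingHom.mem_ker]

/-- the inclusion of the ideal sheaf on sections, as a plain function into the functions -/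
noncomputable def iot (U : S.Opens) (k : Γ(ClSub.idealMod 𝓘, U)) : Γ(S, U) := (ClSub.idealModι 𝓘).app U k

theorem iot_injective (U : S.Opens) : Function.Injective (iot 𝓘 U) := ι_app_injective 𝓘 U

theorem iot_smul (U : S.Opens) (r : Γ(S, U)) (k : Γ(ClSub.idealMod 𝓘, U)) :
    iot 𝓘 U (r • k) = r * iot 𝓘 U k :=
  Scheme.Modules.Hom.app_smul _ _ _

theorem iot_res {U V : S.Opens} (h : V ≤ U) (k : Γ(ClSub.idealMod 𝓘, U)) :
    iot 𝓘 V (res (ClSub.idealMod 𝓘) h k) = resO h (iot 𝓘 U k) :=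
  app_res (ClSub.idealModι 𝓘) h k

theorem exists_iot_eq_iff_mem (U : S.affineOpens) (y : Γ(S, U.1)) :
    (∃ k : Γ(ClSub.idealMod 𝓘, U.1), iot 𝓘 U.1 k = y) ↔ y ∈ 𝓘.ideal U :=
  exists_ι_app_eq_iff_mem 𝓘 U y

/-- a nonzerodivisor on an affine open restricts to a nonzerodivisor on smaller affine opens -/
theorem resO_mul_cancel {U W : S.Opens} (hU : IsAffineOpen U) (hW : IsAffineOpen W) (h : W ≤ U)
    (f : Γ(S, U)) (hf : f ∈ nonZeroDivisors Γ(S, U)) (r : Γ(S, W)) (hr : r * resO h f = 0) : r = 0 := by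
  have hflat : (S.presheaf.map (homOfLE h).op).hom.Flat := by
    have e0 : W ≤ (𝟙 S : S ⟶ S) ⁻¹ᵁ U := h
    have := HasRingHomProperty.appLE @Flat (𝟙 S) inferInstance ⟨U, hU⟩ ⟨W, hW⟩ e0
    have e : (𝟙 S : S ⟶ S).appLE U W e0 = S.presheaf.map (homOfLE h).op := by
      rw [Scheme.Hom.appLE]
      simp only [Scheme.Hom.id_app, Category.id_comp]
      rfl
    rw [e] at this
    exact this
  letI : Algebra Γ(S, U) Γ(S, W) := (S.presheaf.map (homOfLE h).op).hom.toAlgebra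
  haveI : Module.Flat Γ(S, U) Γ(S, W) := hflat
  have hreg : IsSMulRegular Γ(S, W) f := Module.Flat.isSMulRegular_of_nonZeroDivisors hf
  apply hreg
  show resO h f * r = resO h f * 0
  rw [mul_zero, mul_comm]
  exact hr

theorem isInvertible_of_isEffCartier (h : BlowUp.IsEffCartierIdeal 𝓘) : PicF.IsInvertible (ClSub.idealMod 𝓘) := by
  intro x
  obtain ⟨U, hxU, f, hf, hIf⟩ := h x
  obtain ⟨g, hg⟩ := (exists_iot_eq_iff_mem 𝓘 U f).2 (by rw [hIf]; exact Ideal.mem_span_singleton_self f)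
  refine ⟨U.1, hxU, InvGen.nonempty_restrict_iso_of_generator (ClSub.idealMod 𝓘) U.1 g IsAffineOpen ?_ ?_⟩
  · intro V y hyV _
    obtain ⟨W, hW, hyW, hWV⟩ := Opens.isBasis_iff_nbhd.mp S.isBasis_affineOpens hyV
    exact ⟨W, hW, hyW, hWV⟩
  · intro W hWU hW
    constructor
    · intro r r' hrr'
      have h1 := congrArg (iot 𝓘 W) hrr'
      simp only [iot_smul, iot_res, hg] at h1
      have h2 : (r - r') * resO hWU f = 0 := by rw [sub_mul, h1, sub_self]
      exact sub_eq_zero.1 (resO_mul_cancel U.2 hW hWU f hf _ h2)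
    · intro k
      have hk : iot 𝓘 W k ∈ 𝓘.ideal ⟨W, hW⟩ :=
        (exists_iot_eq_iff_mem 𝓘 ⟨W, hW⟩ _).1 ⟨k, rfl⟩
      have hmap := 𝓘.map_ideal (U := ⟨W, hW⟩) (V := U) hWU
      rw [← hmap, hIf, Ideal.map_span, Set.image_singleton] at hk
      obtain ⟨r, hr⟩ := Ideal.mem_span_singleton'.1 hk
      refine ⟨r, ?_⟩
      apply iot_injective 𝓘 W
      show iot 𝓘 W (r • res (ClSub.idealMod 𝓘) hWU g) = iot 𝓘 W k
      rw [iot_smul, iot_res, hg]
      exact hr

theorem isEffCartier_of_isInvertible (h : PicF.IsInvertible (ClSub.idealMod 𝓘)) : BlowUp.IsEffCartierIdeal 𝓘 := by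
  intro x
  obtain ⟨U₀, g₀, hxU₀, hg₀⟩ := exists_isGen (ClSub.idealMod 𝓘) h x
  obtain ⟨U, hU, hxU, hUU₀⟩ := Opens.isBasis_iff_nbhd.mp S.isBasis_affineOpens hxU₀
  have hg : IsGen (ClSub.idealMod 𝓘) U (res _ hUU₀ g₀) := hg₀.res hUU₀
  set g := res (ClSub.idealMod 𝓘) hUU₀ g₀ with hgdef
  have hzero : ∀ z : Γ(S, U), z * iot 𝓘 U g = 0 → z = 0 := by
    intro z hz
    have h1 : iot 𝓘 U (z • g) = iot 𝓘 U ((0 : Γ(S, U)) • g) := by
      rw [iot_smul, iot_smul, hz, zero_mul]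
    have h2 := iot_injective 𝓘 U h1
    exact (hg U le_rfl).1 (a₁ := z) (a₂ := 0) (by simpa only [res_self] using h2)
  refine ⟨⟨U, hU⟩, hxU, iot 𝓘 U g, ?_, ?_⟩
  · rw [mem_nonZeroDivisors_iff]
    refine ⟨fun z hz => hzero z (by rw [mul_comm]; exact hz), fun z hz => hzero z hz⟩
  · ext y
    rw [← exists_iot_eq_iff_mem 𝓘 ⟨U, hU⟩ y, Ideal.mem_span_singleton']
    constructor
    · rintro ⟨k, rfl⟩
      obtain ⟨r, hr⟩ := (hg U le_rfl).2 k
      refine ⟨r, ?_⟩
      have hr' : (r • g : Γ(ClSub.idealMod 𝓘, U)) = k := by simpa only [res_self] using hr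
      rw [← iot_smul, hr']
    · rintro ⟨r, rfl⟩
      exact ⟨r • g, iot_smul 𝓘 U r g⟩


/-- Let S be a scheme and D ⊆ S a closed subscheme with quasi-coherent ideal sheaf 𝓘. Then the ideal
sheaf of D is an invertible O_S-module (that is, D is an effective Cartier divisor) if and only if
every point has an affine open neighbourhood Spec A in S with D ∩ Spec A = Spec A/(f) for a
nonzerodivisor f ∈ A. -/
theorem result {S : Scheme.{u}} (𝓘 : S.IdealSheafData) :
    PicF.IsInvertible (ClSub.idealMod 𝓘) ↔ BlowUp.IsEffCartierIdeal 𝓘 := by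
  exact ⟨isEffCartier_of_isInvertible 𝓘, isInvertible_of_isEffCartier 𝓘⟩

end Groth.Agent.S8914
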