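import Groth.Statements.S16088
import Groth.Agent.Lib.Helper1.RefHull10
import Groth.Agent.Lib.Helper28.PullbackInv2
import Groth.Agent.S8914

set_option autoImplicit false
universe u
open CategoryTheory CategoryTheory.Limits AlgebraicGeometry TopologicalSpace
open SDiv

namespace Groth.Agent.S16088

open Opposite RefHull
open Groth.Agent.Lib.Helper1.RefHullLib Groth.Agent.Lib.Helper28.QCohLoc
  Groth.Agent.Lib.Helper29.QCohStalk Groth.Agent.Lib.Helper28.GenLocus
  Groth.Agent.Lib.Helper28 Groth.Agent.Lib.Helper28.PullbackInv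

variable {X Y : Scheme.{u}}

/-- the dual of the inverse image of an invertible module is the inverse image of its dual. -/
theorem nonempty_dual_pullback_iso (f : X ⟶ Y) (L : Y.Modules) (hL : PicF.IsInvertible L) :
    Nonempty (RefHull.dual ((Scheme.Modules.pullback f).obj L) ≅
      (Scheme.Modules.pullback f).obj (RefHull.dual L)) := by
  let ι := {p : Σ U : Y.Opens, Γ(L, U) // IsGen L p.1 p.2}
  obtain ⟨ψ, -⟩ := exists_iso_of_cocycle_gen (M := RefHull.dual ((Scheme.Modules.pullback f).obj L))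
    (N := (Scheme.Modules.pullback f).obj (RefHull.dual L)) (ι := ι)
    (fun p => f ⁻¹ᵁ p.1.1)
    (fun p => dualGen (isGen_pbs (f := f) p.2))
    (fun p => pbs f (RefHull.dual L) p.1.1 (dualGen p.2))
    (fun p => isGen_dualGen _) (fun p => isGen_pbs (f := f) (isGen_dualGen p.2))
    (fun x => by
      obtain ⟨U, g, hxU, hg⟩ := exists_isGen L hL (f.base x)
      exact ⟨⟨⟨U, g⟩, hg⟩, hxU⟩)
    (fun p q => by
      -- `res g_q = u • res g_p`
      let u : Γ(Y, p.1.1 ⊓ q.1.1) := p.2.coef inf_le_left (res L inf_le_right q.1.2)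
      have hu : res L inf_le_right q.1.2 = (u • res L inf_le_left p.1.2 : Γ(L, p.1.1 ⊓ q.1.1)) :=
        (p.2.coef_smul inf_le_left _).symm
      refine ⟨f.app (p.1.1 ⊓ q.1.1) u, ?_, ?_⟩
      · rw [res_dualGen, res_dualGen]
        apply dualGen_eq_smul
        have e1 := pbs_res f L (inf_le_right : p.1.1 ⊓ q.1.1 ≤ q.1.1) q.1.2
        have e2 := pbs_res f L (inf_le_left : p.1.1 ⊓ q.1.1 ≤ p.1.1) p.1.2
        rw [hu, pbs_smul, e2] at e1
        exact e1.symm
      · have e1 := pbs_res f (RefHull.dual L) (inf_le_left : p.1.1 ⊓ q.1.1 ≤ p.1.1) (dualGen p.2)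
        have e2 := pbs_res f (RefHull.dual L) (inf_le_right : p.1.1 ⊓ q.1.1 ≤ q.1.1) (dualGen q.2)
        rw [res_dualGen] at e1 e2
        rw [dualGen_eq_smul (p.2.res inf_le_left) (q.2.res inf_le_right) u hu, pbs_smul, e2] at e1
        exact e1.symm)
  exact ⟨ψ⟩

/-- Let S be a scheme, D ⊆ S an effective Cartier divisor with ideal sheaf 𝓓 and i : D ⟶ S its closed
immersion. The normal sheaf of D in S, the O_D-dual of the conormal sheaf i^*𝓓, is isomorphic to the
restriction i^*(O_S(D)) to D of O_S(D) = 𝓗om_{O_S}(𝓓, O_S), the dual of the invertible ideal 𝓓.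
Existence of an isomorphism of O_D-modules only; the canonical identification is not named here. -/
theorem result (S : Scheme.{u}) (𝓓 : S.IdealSheafData)
    (hD : BlowUp.IsEffCartierIdeal 𝓓) :
    Nonempty (RefHull.dual (Omega.conormal 𝓓.subschemeι) ≅
      (Scheme.Modules.pullback 𝓓.subschemeι).obj (RefHull.dual (ClSub.idealMod 𝓓))) := by
  have hker : 𝓓.subschemeι.ker = 𝓓 := 𝓓.ker_subschemeι
  have hcon : Omega.conormal 𝓓.subschemeι =
      (Scheme.Modules.pullback 𝓓.subschemeι).obj (ClSub.idealMod 𝓓) := by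
    unfold Omega.conormal
    rw [hker]
  rw [hcon]
  exact nonempty_dual_pullback_iso 𝓓.subschemeι (ClSub.idealMod 𝓓)
    (Groth.Agent.S8914.isInvertible_of_isEffCartier 𝓓 hD)

end Groth.Agent.S16088
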